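import Groth.Statements.S15589
import Mathlib
import Groth.Agent.S15588

set_option autoImplicit false
universe u v
open scoped TensorProduct
open RInv

namespace Groth.Agent.S15589

section aux

variable {S : Type u} {R : Type v} [CommRing S] [CommRing R] [Algebra S R]

theorem quotientMap_isIntegral (hint : Algebra.IsIntegral S R) (I : Ideal S) (J : Ideal R)
    (hIJ : I ≤ J.comap (algebraMap S R)) :
    (Ideal.quotientMap J (algebraMap S R) hIJ).IsIntegral := by
  intro x
  obtain ⟨r, rfl⟩ := Ideal.Quotient.mk_surjective x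
  obtain ⟨p, p_monic, hpx⟩ := hint.isIntegral r
  refine ⟨p.map (Ideal.Quotient.mk _), p_monic.map _, ?_⟩
  have h1 : (Ideal.quotientMap J (algebraMap S R) hIJ).comp (Ideal.Quotient.mk I) =
      (Ideal.Quotient.mk J).comp (algebraMap S R) := Ideal.quotientMap_comp_mk hIJ
  rw [Polynomial.eval₂_map, h1, ← Polynomial.hom_eval₂, hpx, map_zero]

theorem comap_mk_comap_quotientMap (I : Ideal S) (J : Ideal R)
    (hIJ : I ≤ J.comap (algebraMap S R)) (Q : Ideal (R ⧸ J)) :
    (Q.comap (Ideal.quotientMap J (algebraMap S R) hIJ)).comap (Ideal.Quotient.mk I) =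
      (Q.comap (Ideal.Quotient.mk J)).comap (algebraMap S R) := by
  rw [Ideal.comap_comap, Ideal.comap_comap, Ideal.quotientMap_comp_mk hIJ]

end aux

/-- Let `R` be a commutative ring with an involution `lam` and fixed ring `S`, `W ⊆ Spec S` the branch
locus (primes `p` with `S_p ⊗_S R` not quadratic etale over `S_p`), `I` its vanishing ideal and `J =
rad(IR)`. Then `Spec(R/J) → Spec(S/I)` is a homeomorphism; if `2` is a unit of `S`, the ring map
`S/I → R/J` is moreover bijective, so the reduced preimage of the branch locus maps isomorphically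
onto it. Affine-local form of the statement for a good quotient of schemes by an involution (the
hypothesis `I ≤ J ∩ S` holds automatically and only serves to write down the map). -/
theorem result (S : Type u) (R : Type v) [CommRing S] [CommRing R]
    [Algebra S R] (lam : R ≃+* R) (hlam : Function.Involutive lam) (hS : RInv.IsFixedRing S R lam)
    (W : Set (PrimeSpectrum S))
    (hW : W = {p : PrimeSpectrum S | ¬ RInv.IsQuadEtale (Localization.AtPrime p.asIdeal) (Localization.AtPrime p.asIdeal ⊗[S] R)})
    (J : Ideal R) (hJ : J = ((PrimeSpectrum.vanishingIdeal W).map (algebraMap S R)).radical)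
    (hIJ : PrimeSpectrum.vanishingIdeal W ≤ J.comap (algebraMap S R)) :
    IsHomeomorph (PrimeSpectrum.comap (Ideal.quotientMap J (algebraMap S R) hIJ)) ∧
      (IsUnit (2 : S) → Function.Bijective (Ideal.quotientMap J (algebraMap S R) hIJ)) := by
  have hint : Algebra.IsIntegral S R := Groth.Agent.S15587.isIntegral_of_fixed lam hlam hS
  have hJmem : ∀ r : R, lam r - r ∈ J := fun r => by
    rw [hJ]; exact Groth.Agent.S15588.result S R lam hlam hS W hW r
  set I := PrimeSpectrum.vanishingIdeal W with hI
  set φ := Ideal.quotientMap J (algebraMap S R) hIJ with hφ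
  have hnorm : ∀ x : R, ∃ s : S, algebraMap S R s = x * lam x := fun x =>
    (hS.2 _).mp (by rw [map_mul, hlam x, mul_comm])
  -- key inclusion between primes containing J over the same prime of S
  have key : ∀ q1 q2 : Ideal R, q1.IsPrime → q2.IsPrime → J ≤ q2 →
      q1.comap (algebraMap S R) = q2.comap (algebraMap S R) → q1 ≤ q2 := by
    intro q1 q2 h1 h2 hJ2 heq x hx
    obtain ⟨n, hn⟩ := hnorm x
    have hn1 : n ∈ q1.comap (algebraMap S R) := by
      rw [Ideal.mem_comap, hn]; exact q1.mul_mem_right _ hx
    rw [heq, Ideal.mem_comap, hn] at hn1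
    rcases h2.mem_or_mem hn1 with h | h
    · exact h
    · have : x = lam x - (lam x - x) := by ring
      rw [this]
      exact q2.sub_mem h (hJ2 (hJmem x))
  refine ⟨?_, ?_⟩
  · rw [isHomeomorph_iff_continuous_isClosedMap_bijective]
    refine ⟨PrimeSpectrum.continuous_comap _, ?_, ?_, ?_⟩
    · exact PrimeSpectrum.isClosedMap_comap_of_isIntegral _ (quotientMap_isIntegral hint I J hIJ)
    · -- injective
      intro Q1 Q2 h12
      have h12' : Q1.asIdeal.comap φ = Q2.asIdeal.comap φ := congrArg PrimeSpectrum.asIdeal h12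
      have e1 := comap_mk_comap_quotientMap I J hIJ Q1.asIdeal
      have e2 := comap_mk_comap_quotientMap I J hIJ Q2.asIdeal
      rw [← hφ] at e1 e2
      rw [h12'] at e1
      have heq : (Q1.asIdeal.comap (Ideal.Quotient.mk J)).comap (algebraMap S R) =
          (Q2.asIdeal.comap (Ideal.Quotient.mk J)).comap (algebraMap S R) := e1.symm.trans e2
      have hJ1 : J ≤ Q1.asIdeal.comap (Ideal.Quotient.mk J) := by
        intro x hx
        rw [Ideal.mem_comap, Ideal.Quotient.eq_zero_iff_mem.2 hx]; exact Ideal.zero_mem _
      have hJ2 : J ≤ Q2.asIdeal.comap (Ideal.Quotient.mk J) := by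
        intro x hx
        rw [Ideal.mem_comap, Ideal.Quotient.eq_zero_iff_mem.2 hx]; exact Ideal.zero_mem _
      have hle1 := key _ _ (Q1.2.comap _) (Q2.2.comap _) hJ2 heq
      have hle2 := key _ _ (Q2.2.comap _) (Q1.2.comap _) hJ1 heq.symm
      apply PrimeSpectrum.ext
      exact Ideal.comap_injective_of_surjective _ Ideal.Quotient.mk_surjective
        (le_antisymm hle1 hle2)
    · -- surjective
      intro P
      set p := P.asIdeal.comap (Ideal.Quotient.mk I) with hp
      have hpprime : p.IsPrime := P.2.comap _
      have hIp : I ≤ p := by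
        intro x hx
        rw [hp, Ideal.mem_comap, Ideal.Quotient.eq_zero_iff_mem.2 hx]; exact Ideal.zero_mem _
      obtain ⟨Q, -, hQprime, hQp⟩ := Ideal.exists_ideal_over_prime_of_isIntegral p (⊥ : Ideal R)
        (by
          intro x hx
          rw [Ideal.mem_comap, Ideal.mem_bot] at hx
          have : x = 0 := hS.1 (by rw [hx, map_zero])
          rw [this]; exact Ideal.zero_mem _)
      have hJQ : J ≤ Q := by
        rw [hJ, hQprime.radical_le_iff, Ideal.map_le_iff_le_comap, hQp]
        exact hIp
      have hker : RingHom.ker (Ideal.Quotient.mk J) ≤ Q := by rw [Ideal.mk_ker]; exact hJQ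
      have hQ'prime : (Q.map (Ideal.Quotient.mk J)).IsPrime :=
        Ideal.map_isPrime_of_surjective Ideal.Quotient.mk_surjective hker
      have hQ'comap : (Q.map (Ideal.Quotient.mk J)).comap (Ideal.Quotient.mk J) = Q := by
        rw [Ideal.comap_map_of_surjective _ Ideal.Quotient.mk_surjective, ← RingHom.ker_eq_comap_bot]
        exact sup_eq_left.2 hker
      refine ⟨⟨Q.map (Ideal.Quotient.mk J), hQ'prime⟩, ?_⟩
      apply PrimeSpectrum.ext
      apply Ideal.comap_injective_of_surjective _ (Ideal.Quotient.mk_surjective (I := I))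
      show ((Q.map (Ideal.Quotient.mk J)).comap φ).comap (Ideal.Quotient.mk I) = p
      rw [hφ, comap_mk_comap_quotientMap, hQ'comap, hQp]
  · intro h2
    constructor
    · -- injective
      rw [injective_iff_map_eq_zero]
      intro x hx
      obtain ⟨s, rfl⟩ := Ideal.Quotient.mk_surjective x
      rw [hφ, Ideal.quotientMap_mk, Ideal.Quotient.eq_zero_iff_mem] at hx
      rw [Ideal.Quotient.eq_zero_iff_mem, PrimeSpectrum.mem_vanishingIdeal]
      intro w hw
      -- lying over w
      obtain ⟨Q, -, hQprime, hQp⟩ := Ideal.exists_ideal_over_prime_of_isIntegral w.asIdeal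
        (⊥ : Ideal R)
        (by
          intro x hx
          rw [Ideal.mem_comap, Ideal.mem_bot] at hx
          have : x = 0 := hS.1 (by rw [hx, map_zero])
          rw [this]; exact Ideal.zero_mem _)
      have hIw : I ≤ w.asIdeal := by
        intro y hy
        rw [hI, PrimeSpectrum.mem_vanishingIdeal] at hy
        exact hy w hw
      have hJQ : J ≤ Q := by
        rw [hJ, hQprime.radical_le_iff, Ideal.map_le_iff_le_comap, hQp]
        exact hIw
      have := hJQ hx
      rw [← hQp]
      exact this
    · -- surjective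
      intro x
      obtain ⟨r, rfl⟩ := Ideal.Quotient.mk_surjective x
      obtain ⟨t, ht⟩ := (hS.2 (r + lam r)).1 (by rw [map_add, hlam r, add_comm])
      obtain ⟨u, hu⟩ := h2
      have hu2 : (u : S) = 2 := hu
      refine ⟨Ideal.Quotient.mk I (((u⁻¹ : Sˣ) : S) * t), ?_⟩
      rw [hφ, Ideal.quotientMap_mk, Ideal.Quotient.eq]
      have h1 : (algebraMap S R ((u⁻¹ : Sˣ) : S)) * 2 = 1 := by
        have h0 : algebraMap S R (((u⁻¹ : Sˣ) : S) * 2) = 1 := by
          rw [← hu2, Units.inv_mul, map_one]
        rw [map_mul, map_ofNat] at h0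
        exact h0
      have h3 : algebraMap S R (((u⁻¹ : Sˣ) : S) * t) - r =
          algebraMap S R ((u⁻¹ : Sˣ) : S) * (lam r - r) := by
        rw [map_mul, ht]
        linear_combination r * h1
      rw [h3]
      exact J.mul_mem_left _ (hJmem r)

end Groth.Agent.S15589
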