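import Groth.Statements.S15590
import Mathlib

set_option autoImplicit false
universe u v
open CAlg

namespace Groth.Agent.S15590

open Polynomial

/-- Let A → B be an injective homomorphism of commutative rings which makes B a finite flat A-module,
and suppose B is a Dedekind domain (Noetherian, integrally closed, of Krull dimension at most one; a
field is allowed). Then A is a Dedekind domain. -/
theorem result (A : Type u) (B : Type v)
    [CommRing A] [CommRing B] [Algebra A B] [IsDedekindDomain B]
    (hinj : Function.Injective (algebraMap A B)) [Module.Finite A B] [Module.Flat A B] :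
    IsDedekindDomain A := by
  have hdomA : IsDomain A := hinj.isDomain (algebraMap A B)
  have hint : Algebra.IsIntegral A B := Algebra.IsIntegral.of_finite A B
  have hker : RingHom.ker (algebraMap A B) = ⊥ := (RingHom.injective_iff_ker_eq_bot _).mp hinj
  have hover : ∀ p : Ideal A, p.IsPrime → ∃ Q : Ideal B, Q.IsPrime ∧ Q.comap (algebraMap A B) = p := by
    intro p hp
    obtain ⟨Q, -, hQ, hQp⟩ := Ideal.exists_ideal_over_prime_of_isIntegral p (⊥ : Ideal B) (by
      rw [← RingHom.ker_eq_comap_bot, hker]; exact bot_le)
    exact ⟨Q, hQ, hQp⟩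
  have hsurj : Function.Surjective (PrimeSpectrum.comap (algebraMap A B)) := by
    intro p
    obtain ⟨Q, hQ, hQp⟩ := hover p.asIdeal p.2
    exact ⟨⟨Q, hQ⟩, PrimeSpectrum.ext hQp⟩
  have hff : Module.FaithfullyFlat A B := Module.FaithfullyFlat.of_comap_surjective hsurj
  have hnoeth : IsNoetherianRing A := by
    rw [isNoetherianRing_iff, isNoetherian_iff']
    have : StrictMono (Ideal.map (algebraMap A B)) :=
      Monotone.strictMono_of_injective (fun _ _ h => Ideal.map_mono h)
        Ideal.map_injective_of_faithfullyFlat
    exact this.wellFoundedGT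
  have hdim : Ring.DimensionLEOne A := by
    refine ⟨fun {p} hp0 hp => ?_⟩
    obtain ⟨Q, hQ, hQp⟩ := hover p hp
    have hQ0 : Q ≠ ⊥ := by
      rintro rfl
      apply hp0
      rw [← hQp, ← RingHom.ker_eq_comap_bot, hker]
    have hQmax : Q.IsMaximal := Ring.DimensionLEOne.maximalOfPrime hQ0 hQ
    rw [← hQp]
    exact Ideal.isMaximal_comap_of_isIntegral_of_isMaximal Q
  rw [isDedekindDomain_iff A (FractionRing A)]
  refine ⟨hdomA, hnoeth, hdim, ?_⟩
  intro x hx
  -- the map of fraction fields
  let L := FractionRing B
  let g : A →+* L := (algebraMap B L).comp (algebraMap A B)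
  have hg : Function.Injective g := (IsFractionRing.injective B L).comp hinj
  let j : FractionRing A →+* L := IsFractionRing.lift hg
  have hj : ∀ a : A, j (algebraMap A (FractionRing A) a) = algebraMap B L (algebraMap A B a) :=
    fun a => IsFractionRing.lift_algebraMap hg a
  -- j x is integral over B
  have hjx : IsIntegral B (j x) := by
    obtain ⟨p, hmonic, hp⟩ := hx
    refine ⟨p.map (algebraMap A B), hmonic.map _, ?_⟩
    rw [Polynomial.eval₂_map]
    have : (algebraMap B L).comp (algebraMap A B) = j.comp (algebraMap A (FractionRing A)) := by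
      ext a; exact (hj a).symm
    rw [this, ← Polynomial.hom_eval₂, hp, map_zero]
  obtain ⟨b, hb⟩ := (isIntegrallyClosed_iff L).mp inferInstance hjx
  obtain ⟨a, s, hs0, rfl⟩ : ∃ (a s : A), s ≠ 0 ∧ x = algebraMap A _ a / algebraMap A _ s := by
    obtain ⟨a, s, hs, rfl⟩ := IsFractionRing.div_surjective (A := A) x
    exact ⟨a, s, nonZeroDivisors.ne_zero hs, rfl⟩
  have hs0' : algebraMap A (FractionRing A) s ≠ 0 := by
    rwa [Ne, map_eq_zero_iff _ (IsFractionRing.injective A (FractionRing A))]
  -- in B: b * s = a
  have hbs : b * algebraMap A B s = algebraMap A B a := by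
    apply IsFractionRing.injective B L
    rw [map_mul, hb, map_div₀, hj, hj]
    have : algebraMap B L (algebraMap A B s) ≠ 0 := by
      rw [← hj]; exact (map_ne_zero_iff j j.injective).mpr hs0'
    rw [div_mul_cancel₀ _ this]
  have hmem : a ∈ Ideal.span {s} := by
    rw [← Ideal.comap_map_eq_self_of_faithfullyFlat (B := B) (Ideal.span {s}), Ideal.mem_comap,
      Ideal.map_span, Set.image_singleton, Ideal.mem_span_singleton']
    exact ⟨b, hbs⟩
  obtain ⟨c, hc⟩ := Ideal.mem_span_singleton'.mp hmem
  refine ⟨c, ?_⟩
  rw [← hc, map_mul]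
  field_simp

end Groth.Agent.S15590
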