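import Groth.Statements.S15596
import Mathlib
-- import your own Groth.Agent.* helpers here

set_option autoImplicit false
universe u
open CategoryTheory MonoidalCategory CartesianMonoidalCategory MonObj GrpObj AlgebraicGeometry
open AlgGrp

namespace Groth.Agent.S15596

section
variable {k : Type u} [Field k]
variable (H : Over (Spec (CommRingCat.of k))) [GrpObj H]

/-- left translation by a rational point -/
noncomputable def ltr (g : 𝟙_ (Over (Spec (CommRingCat.of k))) ⟶ H) : H ⟶ H :=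
  (toUnit H ≫ g) * 𝟙 H

lemma comp_ltr (g u : 𝟙_ (Over (Spec (CommRingCat.of k))) ⟶ H) :
    u ≫ ltr H g = g * u := by
  unfold ltr
  rw [MonObj.comp_mul]
  have : u ≫ toUnit H = 𝟙 _ := toUnit_unique _ _
  rw [← Category.assoc, this, Category.id_comp, Category.comp_id]

lemma ltr_comp_ltr (g g' : 𝟙_ (Over (Spec (CommRingCat.of k))) ⟶ H) :
    ltr H g ≫ ltr H g' = ltr H (g' * g) := by
  unfold ltr
  rw [MonObj.comp_mul, Category.comp_id, ← Category.assoc]
  have : ((toUnit H ≫ g) * 𝟙 H) ≫ toUnit H = toUnit H := toUnit_unique _ _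
  rw [this, ← _root_.mul_assoc, MonObj.comp_mul]

lemma ltr_one : ltr H 1 = 𝟙 H := by
  unfold ltr
  rw [MonObj.comp_one, _root_.one_mul]

end

/-- Let k be an algebraically closed field, H a smooth k-group scheme of finite type, and U a dense open
subset of H. Then every k-rational point h of H is of the form u₂ · u₁⁻¹ for k-rational points u₁,
u₂ of H whose underlying points lie in U. -/
theorem result (k : Type u) [Field k] [IsAlgClosed k]
    (H : Over (Spec (CommRingCat.of k))) [GrpObj H] [Smooth H.hom] [QuasiCompact H.hom]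
    (U : H.left.Opens) (hU : Dense (U : Set ↥H.left)) (h : 𝟙_ (Over (Spec (CommRingCat.of k))) ⟶ H) :
    ∃ u₁ u₂ : 𝟙_ (Over (Spec (CommRingCat.of k))) ⟶ H,
      u₁.left.base (IsLocalRing.closedPoint k) ∈ U ∧ u₂.left.base (IsLocalRing.closedPoint k) ∈ U ∧
        h = u₂ * u₁⁻¹ := by
  classical
  set L : H ⟶ H := ltr H h⁻¹ with hL
  set L' : H ⟶ H := ltr H h with hL'
  have hLL : L' ≫ L = 𝟙 H := by
    rw [hL, hL', ltr_comp_ltr, inv_mul_cancel, ltr_one]
  have hsurj : Function.Surjective L.left.base := by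
    intro y
    refine ⟨L'.left.base y, ?_⟩
    have := congrArg (fun f => f.left.base y) hLL
    simpa using this
  haveI : LocallyOfFiniteType H.hom := inferInstance
  haveI : JacobsonSpace ↥H.left := LocallyOfFiniteType.jacobsonSpace H.hom
  -- H nonempty
  have hne : Nonempty ↥H.left := ⟨h.left.base (IsLocalRing.closedPoint k)⟩
  obtain ⟨y, hy⟩ : (U : Set ↥H.left).Nonempty := hU.nonempty
  obtain ⟨x0, hx0⟩ := hsurj y
  have hVne : ((U : Set ↥H.left) ∩ (L.left ⁻¹ᵁ U : Set ↥H.left)).Nonempty := by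
    rw [Set.inter_comm]
    refine hU.inter_open_nonempty _ (L.left ⁻¹ᵁ U).isOpen ⟨x0, ?_⟩
    show L.left.base x0 ∈ U
    rw [hx0]; exact hy
  have hVlc : IsLocallyClosed ((U : Set ↥H.left) ∩ (L.left ⁻¹ᵁ U : Set ↥H.left)) :=
    (U.isOpen.inter (L.left ⁻¹ᵁ U).isOpen).isLocallyClosed
  obtain ⟨x, ⟨hxU, hxL⟩, hxc⟩ := nonempty_inter_closedPoints hVne hVlc
  set p : Spec (CommRingCat.of k) ⟶ H.left := pointOfClosedPoint H.hom x hxc with hp
  let u₂ : 𝟙_ (Over (Spec (CommRingCat.of k))) ⟶ H :=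
    Over.homMk p (by
      rw [hp, pointOfClosedPoint_comp]; rfl)
  have hu₂ : u₂.left.base (IsLocalRing.closedPoint k) = x :=
    pointOfClosedPoint_apply H.hom x hxc _
  refine ⟨h⁻¹ * u₂, u₂, ?_, ?_, ?_⟩
  · rw [← comp_ltr]
    show L.left.base (u₂.left.base _) ∈ U
    rw [hu₂]; exact hxL
  · rw [hu₂]; exact hxU
  · rw [_root_.mul_inv_rev, _root_.inv_inv, ← _root_.mul_assoc, _root_.mul_inv_cancel, _root_.one_mul]

end Groth.Agent.S15596
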