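import Groth.Statements.S15598
import Groth.Agent.Lib.Helper5.ConnStab2

set_option autoImplicit false
universe u
open CategoryTheory MonoidalCategory CartesianMonoidalCategory MonObj GrpObj AlgebraicGeometry
open AlgGrp

namespace Groth.Agent.S15598

/-- Let k be an algebraically closed field, G a k-group scheme of finite type, and X a smooth connected
k-scheme with an action of G. Suppose that for some k-point x₀ of X the orbit map g ↦ g · x₀ from G
to X is surjective, and that the stabilizer of x₀, a subgroup scheme H ⟶ G whose points are exactly
the points g of G with g · x₀ = x₀, is connected. Then G is connected. (Stated over an algebraically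
closed field, to which the general case reduces since a k-group scheme of finite type is connected
exactly when it is geometrically connected.) -/
theorem result (k : Type u) [Field k] [IsAlgClosed k]
    (G X : Over (Spec (CommRingCat.of k))) [GrpObj G] [LocallyOfFiniteType G.hom] [QuasiCompact G.hom]
    [Smooth X.hom] [ConnectedSpace ↥X.left] (a : AlgGrp.Action G X) (x₀ : 𝟙_ (Over (Spec (CommRingCat.of k))) ⟶ X)
    (hsurj : Surjective (a.orbitMap x₀).left)
    (H : Over (Spec (CommRingCat.of k))) [GrpObj H] (i : H ⟶ G) [IsMonHom i] [Mono i]
    (hH : ∀ (T : Over (Spec (CommRingCat.of k))) (g : T ⟶ G), (∃ h : T ⟶ H, h ≫ i = g) ↔ g ≫ a.orbitMap x₀ = toUnit T ≫ x₀)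
    [ConnectedSpace ↥H.left] : ConnectedSpace ↥G.left := by
  have sqH : IsPullback i (CartesianMonoidalCategory.toUnit H) (a.orbitMap x₀) x₀ := by
    refine Groth.Agent.Lib.helper22.isPullback_of_points ?_ ?_ ?_
    · exact (hH H i).1 ⟨𝟙 H, Category.id_comp _⟩
    · intro T s t hst
      have ht : t = CartesianMonoidalCategory.toUnit T := CartesianMonoidalCategory.toUnit_unique _ _
      obtain ⟨l, hl⟩ := (hH T s).2 (by rw [hst, ht])
      exact ⟨l, hl, CartesianMonoidalCategory.toUnit_unique _ _⟩
    · intro T l l' h1 _
      exact (cancel_mono i).1 h1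
  exact Groth.Agent.Lib.helper5.ConnStab.connectedSpace_of_connected_stabilizer k G X a x₀ hsurj H i sqH

end Groth.Agent.S15598
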