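import Groth.Statements.S15603
import Mathlib
import Groth.Agent.Lib.Helper15.GaGm
import Groth.Agent.Lib.Helper15.NatGrp

set_option autoImplicit false
universe u
open CategoryTheory MonoidalCategory CartesianMonoidalCategory MonObj GrpObj AlgebraicGeometry
open AlgGrp

namespace Groth.Agent.S15603

/-- Multiplicative case. Let k be a field and consider the affine line minus the origin over k, taken
here as the underlying k-scheme of the multiplicative group. Any two structures of k-group scheme on
it with the same unit section have the same multiplication; in particular a group law on the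
punctured line whose identity is the point 1 is the usual multiplication. -/
theorem result (k : Type u) [Field k]
    (h₁ h₂ : GrpObj (Red.Gm (Spec (CommRingCat.of k)))) (e : h₁.one = h₂.one) : h₁.mul = h₂.mul := by
  have h0 : IsAffine (Red.Gm (Spec (CommRingCat.of k))).left := by
    show IsAffine (Limits.pullback _ _)
    infer_instance
  have : IsAffine (Red.Gm (Spec (CommRingCat.of k)) ⊗ Red.Gm (Spec (CommRingCat.of k))).left := by
    show IsAffine (Limits.pullback _ _)
    infer_instance
  exact Groth.Agent.Lib.helper15.NatGrp.gm_mul_unique (Red.Gm (Spec (CommRingCat.of k)))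
    (fun X x => Red.gmFn x)
    (fun g x => Groth.Agent.Lib.helper15.GaGm.gmFn_comp g x)
    (fun X x => Groth.Agent.Lib.helper15.GaGm.isUnit_gmFn x)
    (fun X => Groth.Agent.Lib.helper15.GaGm.gmFn_injective)
    (fun X u hu => Groth.Agent.Lib.helper15.GaGm.exists_gmFn_eq u hu) h₁ h₂ e

end Groth.Agent.S15603
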