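import Groth.Statements.S15605
import Mathlib

set_option autoImplicit false
universe u
open TensorProduct
open AGF

namespace Groth.Agent.S15605

theorem joint_inj {k B B' : Type u} [Field k] [CommRing B] [Algebra k B] [CommRing B'] [Algebra k B']
    {ι ι' : Type*} (s : ι → B →ₐ[k] k) (s' : ι' → B' →ₐ[k] k)
    (hinj : ∀ x : B, (∀ i, s i x = 0) → x = 0) (hinj' : ∀ x : B', (∀ i, s' i x = 0) → x = 0)
    (x : B ⊗[k] B')
    (hx : ∀ i i', (Algebra.TensorProduct.lmul' (S := k) k)
        (Algebra.TensorProduct.map (s i) (s' i') x) = 0) : x = 0 := by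
  classical
  let b := Module.Free.chooseBasis k B'
  let L : ι → (B ⊗[k] B' →ₗ[k] B') := fun i =>
    (TensorProduct.lid k B').toLinearMap ∘ₗ (TensorProduct.map (s i).toLinearMap LinearMap.id)
  have hL : ∀ i m n, L i (m ⊗ₜ[k] n) = s i m • n := by
    intro i m n
    simp [L]
  have h1 : ∀ i i' (y : B ⊗[k] B'),
      s' i' (L i y) = (Algebra.TensorProduct.lmul' (S := k) k)
        (Algebra.TensorProduct.map (s i) (s' i') y) := by
    intro i i' y
    induction y using TensorProduct.induction_on with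
    | zero => simp
    | tmul m n =>
      rw [hL, map_smul, Algebra.TensorProduct.map_tmul, Algebra.TensorProduct.lmul'_apply_tmul,
        smul_eq_mul]
    | add y z hy hz => simp only [map_add, hy, hz]
  have h2 : ∀ i j (y : B ⊗[k] B'),
      b.coord j (L i y) = s i (TensorProduct.equivFinsuppOfBasisRight b y j) := by
    intro i j y
    induction y using TensorProduct.induction_on with
    | zero => simp
    | tmul m n =>
      rw [hL, TensorProduct.equivFinsuppOfBasisRight_apply_tmul_apply, map_smul, map_smul,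
        smul_eq_mul, smul_eq_mul, mul_comm, Module.Basis.coord_apply]
    | add y z hy hz => simp only [map_add, hy, hz, Finsupp.add_apply]
  have h3 : ∀ i, L i x = 0 := fun i => hinj' _ fun i' => by rw [h1]; exact hx i i'
  apply (TensorProduct.equivFinsuppOfBasisRight b).injective
  rw [map_zero]
  ext j
  rw [Finsupp.zero_apply]
  apply hinj
  intro i
  rw [← h2, h3, map_zero]

/-- Affine form. Let k be a field, A and A' finitely generated commutative k-algebras and S, S' sets of
k-algebra homomorphisms A → k, A' → k. The closure of a set of rational points of Spec A is cut out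
by the intersection of their kernels. Compatibility of these closures with products: in A ⊗_k A',
the intersection over (σ, σ') ∈ S × S' of the kernels of σ ⊗ σ' : A ⊗_k A' → k equals the ideal
generated by the images of ⋂_{σ} ker σ and of ⋂_{σ'} ker σ'. -/
theorem result (k A A' : Type u) [Field k] [CommRing A] [Algebra k A]
    [Algebra.FiniteType k A] [CommRing A'] [Algebra k A'] [Algebra.FiniteType k A']
    (S : Set (A →ₐ[k] k)) (S' : Set (A' →ₐ[k] k)) :
    (⨅ σ ∈ S, ⨅ σ' ∈ S', RingHom.ker ((Algebra.TensorProduct.lmul' (S := k) k).comp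
        (Algebra.TensorProduct.map σ σ'))) =
      Ideal.map (Algebra.TensorProduct.includeLeft : A →ₐ[k] A ⊗[k] A') (⨅ σ ∈ S, RingHom.ker σ) ⊔
        Ideal.map (Algebra.TensorProduct.includeRight : A' →ₐ[k] A ⊗[k] A') (⨅ σ' ∈ S', RingHom.ker σ') := by
  classical
  set I : Ideal A := ⨅ σ ∈ S, RingHom.ker σ with hI
  set I' : Ideal A' := ⨅ σ' ∈ S', RingHom.ker σ' with hI'
  -- quotient maps
  have hq : Function.Surjective (Ideal.Quotient.mkₐ k I) := Ideal.Quotient.mkₐ_surjective k I
  have hq' : Function.Surjective (Ideal.Quotient.mkₐ k I') := Ideal.Quotient.mkₐ_surjective k I'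
  have hker := Algebra.TensorProduct.map_ker (R := k) (S := k) (Ideal.Quotient.mkₐ k I)
    (Ideal.Quotient.mkₐ k I') hq hq'
  have e1 : RingHom.ker (Ideal.Quotient.mkₐ k I) = I := by
    ext a; simp [RingHom.mem_ker, Ideal.Quotient.eq_zero_iff_mem]
  have e2 : RingHom.ker (Ideal.Quotient.mkₐ k I') = I' := by
    ext a; simp [RingHom.mem_ker, Ideal.Quotient.eq_zero_iff_mem]
  rw [e1, e2] at hker
  rw [← hker]
  -- descended characters
  have hS : ∀ σ ∈ S, ∀ a ∈ I, σ a = 0 := by
    intro σ hσ a ha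
    have := (Ideal.mem_iInf.1 ha) σ
    exact (Ideal.mem_iInf.1 this) hσ
  have hS' : ∀ σ' ∈ S', ∀ a ∈ I', σ' a = 0 := by
    intro σ hσ a ha
    have := (Ideal.mem_iInf.1 ha) σ
    exact (Ideal.mem_iInf.1 this) hσ
  let sb : ∀ σ : S, (A ⧸ I) →ₐ[k] k := fun σ => Ideal.Quotient.liftₐ I σ.1 (hS σ.1 σ.2)
  let sb' : ∀ σ : S', (A' ⧸ I') →ₐ[k] k := fun σ => Ideal.Quotient.liftₐ I' σ.1 (hS' σ.1 σ.2)
  have hsb : ∀ σ : S, (sb σ).comp (Ideal.Quotient.mkₐ k I) = σ.1 := fun σ =>
    Ideal.Quotient.liftₐ_comp I σ.1 (hS σ.1 σ.2)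
  have hsb' : ∀ σ : S', (sb' σ).comp (Ideal.Quotient.mkₐ k I') = σ.1 := fun σ =>
    Ideal.Quotient.liftₐ_comp I' σ.1 (hS' σ.1 σ.2)
  have hinj : ∀ x : A ⧸ I, (∀ σ : S, sb σ x = 0) → x = 0 := by
    intro x hx
    obtain ⟨a, rfl⟩ := hq x
    have : a ∈ I := by
      rw [hI]
      refine Ideal.mem_iInf.2 fun σ => Ideal.mem_iInf.2 fun hσ => ?_
      have := hx ⟨σ, hσ⟩
      have h2 := congrArg (fun f => f a) (hsb ⟨σ, hσ⟩)
      simp only [AlgHom.comp_apply] at h2
      rw [RingHom.mem_ker]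
      exact h2.symm.trans this
    exact (Ideal.Quotient.eq_zero_iff_mem).2 this
  have hinj' : ∀ x : A' ⧸ I', (∀ σ : S', sb' σ x = 0) → x = 0 := by
    intro x hx
    obtain ⟨a, rfl⟩ := hq' x
    have : a ∈ I' := by
      rw [hI']
      refine Ideal.mem_iInf.2 fun σ => Ideal.mem_iInf.2 fun hσ => ?_
      have := hx ⟨σ, hσ⟩
      have h2 := congrArg (fun f => f a) (hsb' ⟨σ, hσ⟩)
      simp only [AlgHom.comp_apply] at h2
      rw [RingHom.mem_ker]
      exact h2.symm.trans this
    exact (Ideal.Quotient.eq_zero_iff_mem).2 this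
  -- factorization of σ ⊗ σ'
  have hfac : ∀ (σ : S) (σ' : S') (t : A ⊗[k] A'),
      (Algebra.TensorProduct.lmul' (S := k) k) (Algebra.TensorProduct.map σ.1 σ'.1 t) =
      (Algebra.TensorProduct.lmul' (S := k) k) (Algebra.TensorProduct.map (sb σ) (sb' σ')
        (Algebra.TensorProduct.map (Ideal.Quotient.mkₐ k I) (Ideal.Quotient.mkₐ k I') t)) := by
    intro σ σ' t
    rw [← AlgHom.comp_apply (Algebra.TensorProduct.map (sb σ) (sb' σ')), ← Algebra.TensorProduct.map_comp,
      hsb, hsb']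
  have key : ∀ x : (A ⧸ I) ⊗[k] (A' ⧸ I'),
      (∀ (σ : S) (σ' : S'), (Algebra.TensorProduct.lmul' (S := k) k)
        (Algebra.TensorProduct.map (sb σ) (sb' σ') x) = 0) → x = 0 :=
    fun x hx => joint_inj sb sb' hinj hinj' x hx
  apply le_antisymm
  · intro t ht
    rw [RingHom.mem_ker]
    apply key
    intro σ σ'
    rw [← hfac]
    have h1 := (Ideal.mem_iInf.1 ht) σ.1
    have h2 := (Ideal.mem_iInf.1 h1) σ.2
    have h3 := (Ideal.mem_iInf.1 h2) σ'.1
    have h4 := (Ideal.mem_iInf.1 h3) σ'.2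
    exact h4
  · intro t ht
    rw [RingHom.mem_ker] at ht
    refine Ideal.mem_iInf.2 fun σ => Ideal.mem_iInf.2 fun hσ => Ideal.mem_iInf.2 fun σ' =>
      Ideal.mem_iInf.2 fun hσ' => ?_
    rw [RingHom.mem_ker]
    have := hfac ⟨σ, hσ⟩ ⟨σ', hσ'⟩ t
    simp only [AlgHom.comp_apply] at this ⊢
    rw [this, ht, map_zero, map_zero]

end Groth.Agent.S15605
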