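import Groth.Statements.S15606
import Mathlib
import Groth.Agent.Lib.Helper15.HopfSubPoly
import Groth.Agent.Lib.Helper15.GaBridge
import Groth.Agent.Lib.Helper24.SmoothReduced

set_option autoImplicit false
universe u
open CategoryTheory MonoidalCategory CartesianMonoidalCategory MonObj GrpObj AlgebraicGeometry
open AlgGrp

namespace Groth.Agent.S15606


open Groth.Agent.Lib.helper15 in
/-- a bialgebra map whose `Spec` is surjective, with reduced source, is injective. -/
lemma injective_of_surjective_spec {k : Type u} [Field k] {A B : Type u} [CommRing A] [CommRing B]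
    [Algebra k A] [Algebra k B] [_root_.IsReduced B] (ψ : B →ₐ[k] A)
    (hs : Function.Surjective (Spec.map (CommRingCat.ofHom ψ.toRingHom))) :
    Function.Injective ψ := by
  rw [injective_iff_map_eq_zero]
  intro x hx
  apply IsNilpotent.eq_zero
  rw [nilpotent_iff_mem_prime]
  intro J hJ
  obtain ⟨y, hy⟩ := hs (⟨J, hJ⟩ : PrimeSpectrum B)
  have h1 : J = Ideal.comap ψ.toRingHom y.asIdeal := by
    have := congrArg PrimeSpectrum.asIdeal hy
    exact this.symm
  rw [h1, Ideal.mem_comap]
  change ψ x ∈ y.asIdeal
  rw [hx]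
  exact zero_mem _

/-- Additive case. Let k be a field, H an affine smooth connected k-group scheme, and f a homomorphism
from the additive group over k to H which is finite and surjective (an isogeny onto H). Then H is
isomorphic, as a k-group scheme, to the additive group. In particular every quotient of the additive
group by a finite k-subgroup scheme is isomorphic to the additive group over k itself, for any field
k. -/
theorem result (k : Type u) [Field k]
    (H : Over (Spec (CommRingCat.of k))) [GrpObj H] [IsAffine H.left] [Smooth H.hom] [ConnectedSpace ↥H.left]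
    (f : Red.Ga (Spec (CommRingCat.of k)) ⟶ H) [IsMonHom f] [IsFinite f.left] [Surjective f.left] :
    Nonempty (Grp.mk H ≅ Grp.mk (Red.Ga (Spec (CommRingCat.of k)))) := by
  classical
  -- the Hopf algebra of `H`
  obtain ⟨B, _, _, eH, heH1, heH2⟩ := Groth.Agent.Lib.helper15.HopfDict.exists_hopf_of_affine' k H
  -- the Hopf algebra of `𝔾_a`
  have : IsAffine (Red.Ga (Spec (CommRingCat.of k))).left := by
    change IsAffine (Limits.pullback _ _)
    infer_instance
  obtain ⟨A, _, _, eA, heA1, heA2⟩ :=
    Groth.Agent.Lib.helper15.HopfDict.exists_hopf_of_affine' k (Red.Ga (Spec (CommRingCat.of k)))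
  have ht : Groth.Agent.Lib.helper15.LieInv.IsPrim (k := k)
      (Groth.Agent.Lib.helper15.GaBridge.tEl eA) :=
    Groth.Agent.Lib.helper15.GaBridge.comul_tEl eA
  have hbij := Groth.Agent.Lib.helper15.GaBridge.aeval_tEl_bijective eA
  -- the homomorphism `Spec A ⟶ Spec B`
  let g : Groth.Agent.Lib.helper15.HopfDict.GA k A ⟶ Groth.Agent.Lib.helper15.HopfDict.GA k B :=
    eA.inv ≫ f ≫ eH.hom
  have hg : IsMonHom g := inferInstance
  obtain ⟨ψ, hψ⟩ := Groth.Agent.Lib.helper15.HopfDict.exists_bialgHom_of_isMonHom g
  have hgl : g.left = Spec.map (CommRingCat.ofHom (ψ : B →ₐ[k] A).toRingHom) := by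
    rw [hψ]; rfl
  have hgl' : g.left = eA.inv.left ≫ f.left ≫ eH.hom.left := rfl
  have i1 : IsIso eA.inv.left := inferInstanceAs (IsIso ((Over.forget _).map eA.inv))
  have i2 : IsIso eH.hom.left := inferInstanceAs (IsIso ((Over.forget _).map eH.hom))
  have i3 : IsIso eH.inv.left := inferInstanceAs (IsIso ((Over.forget _).map eH.inv))
  have hsurj : Surjective g.left := by rw [hgl']; infer_instance
  have hfin : IsFinite g.left := by rw [hgl']; infer_instance
  -- `B` is reduced
  have hsm : Smooth (Groth.Agent.Lib.helper15.HopfDict.GA k B).hom := by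
    have h1 : (Groth.Agent.Lib.helper15.HopfDict.GA k B).hom = eH.inv.left ≫ H.hom :=
      (Over.w eH.inv).symm
    rw [h1]; infer_instance
  have hsmB : Algebra.Smooth k B := by
    rw [← RingHom.smooth_algebraMap]
    exact (HasRingHomProperty.Spec_iff (P := @Smooth)).1 hsm
  have hred : _root_.IsReduced B := Groth.Agent.Lib.Helper24.SmoothReduced.isReduced_of_smooth k B
  -- `ψ` is injective and finite
  have hinj : Function.Injective ψ := by
    apply injective_of_surjective_spec (ψ : B →ₐ[k] A)
    rw [← hgl]
    exact hsurj.surj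
  have hfinψ : ((ψ : B →ₐ[k] A) : B →+* A).Finite := by
    rw [hgl] at hfin
    exact (IsFinite.SpecMap_iff _).1 hfin
  obtain ⟨ε⟩ := Groth.Agent.Lib.helper15.HopfSubPoly.nonempty_bialgEquiv_of_injective_of_finite
    ht hbij ψ hinj hfinψ
  exact ⟨Grp.mkIso' eH ≪≫ (Groth.Agent.Lib.helper15.HopfDict.grpIso_of_bialgEquiv ε).symm ≪≫
    (Grp.mkIso' eA).symm⟩

end Groth.Agent.S15606
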