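import Groth.Statements.S19550
import Mathlib.RingTheory.Spectrum.Prime.Topology
import Mathlib.RingTheory.Nilpotent.Basic

set_option autoImplicit false
universe u
open SchFin SchFin.RSpace

namespace Groth.Agent.S19550

/-- In a ring with preconnected spectrum every idempotent is `0` or `1`. -/
theorem idem_zero_or_one {R : Type*} [CommRing R] [PreconnectedSpace (PrimeSpectrum R)] (e : R)
    (he : IsIdempotentElem e) : e = 0 ∨ e = 1 := by
  have key : ∀ a : R, IsIdempotentElem a →
      (PrimeSpectrum.basicOpen a : Set (PrimeSpectrum R)) = ∅ → a = 0 := by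
    intro a ha h
    have h' : PrimeSpectrum.basicOpen a = ⊥ := TopologicalSpace.Opens.ext h
    exact ha.eq_zero_of_isNilpotent ((PrimeSpectrum.basicOpen_eq_bot_iff a).mp h')
  have hclopen : IsClopen (PrimeSpectrum.basicOpen e : Set (PrimeSpectrum R)) :=
    PrimeSpectrum.isClopen_iff.mpr ⟨e, he, rfl⟩
  rcases isClopen_iff.mp hclopen with h | h
  · exact Or.inl (key e he h)
  · right
    have h2 : (PrimeSpectrum.basicOpen (1 - e) : Set (PrimeSpectrum R)) = ∅ := by
      rw [← PrimeSpectrum.zeroLocus_eq_basicOpen_of_isIdempotentElem e he]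
      rw [PrimeSpectrum.basicOpen_eq_zeroLocus_compl] at h
      have := compl_eq_comm.mp h
      simpa using this.symm
    have := key (1 - e) he.one_sub h2
    exact (sub_eq_zero.mp this).symm

open SchFin in
/-- Let X be a well-connected schematic finite space and f : A → B a morphism of quasi-coherent algebras
between trivial étale covers A ≅ O_X^F and B ≅ O_X^E, F and E finite sets. Then f is induced by a
map of finite sets φ : E → F. Here the trivial algebras are written out: f is a family of
O_p-algebra maps (F → O_p) → (E → O_p), one for each point p, compatible with the restriction maps,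
and the conclusion says f_p(g) = g ∘ φ for every p and g. (The published statement names a map F →
E; a map of algebras of functions O^F → O^E is composition with a map E → F, which is what this row
states.) -/
theorem result (X : RSpace.{u})
    (hX : X.IsSchematic) (hW : X.IsWellConnected) (F E : Type) [Finite F] [Finite E]
    (f : ∀ p : X.pt, (F → X.ring p) →ₐ[X.ring p] (E → X.ring p))
    (hf : ∀ (p q : X.pt) (h : p ≤ q) (g : F → X.ring p) (e : E),
      X.res h (f p g e) = f q (fun i => X.res h (g i)) e) :
    ∃ φ : E → F, ∀ (p : X.pt) (g : F → X.ring p) (e : E), f p g e = g (φ e) := by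
  classical
  cases nonempty_fintype F
  have hconn : ConnectedSpace (PrimeSpectrum (X.sectRing Set.univ)) := hW.1
  have hnontriv : Nontrivial (X.sectRing Set.univ) := by
    obtain ⟨x⟩ := hconn.toNonempty
    exact x.nontrivial
  -- the idempotent sections
  have hres_single : ∀ (p q : X.pt) (h : p ≤ q) (i : F),
      (fun j => X.res h ((Pi.single i 1 : F → X.ring p) j)) = (Pi.single i 1 : F → X.ring q) := by
    intro p q h i
    funext j
    by_cases hij : j = i
    · subst hij; simp
    · simp [Pi.single_eq_of_ne hij]
  let ε : E → F → X.sectRing Set.univ := fun e i =>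
    ⟨fun q => f q.1 (Pi.single i 1) e, fun q q' h => by
      rw [hf q.1 q'.1 h, hres_single]⟩
  have hε_val : ∀ e i (p : X.pt), (ε e i).1 ⟨p, trivial⟩ = f p (Pi.single i 1) e := fun _ _ _ => rfl
  have hidem : ∀ e i, IsIdempotentElem (ε e i) := by
    intro e i
    apply Subtype.ext
    funext q
    change f q.1 (Pi.single i 1) e * f q.1 (Pi.single i 1) e = f q.1 (Pi.single i 1) e
    have : f q.1 (Pi.single i 1 * Pi.single i 1) = f q.1 (Pi.single i 1) := by
      congr 1
      funext j
      by_cases hij : j = i
      · subst hij; simp
      · simp [Pi.single_eq_of_ne hij]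
    rw [map_mul] at this
    exact congrFun this e
  have h01 : ∀ e i, ε e i = 0 ∨ ε e i = 1 := fun e i => idem_zero_or_one _ (hidem e i)
  have hsum : ∀ e, ∑ i, ε e i = 1 := by
    intro e
    apply Subtype.ext
    funext q
    have h1 : (∑ i, ε e i).1 q = ∑ i, (ε e i).1 q := by
      have := map_sum (X.evalRing Set.univ q) (fun i => ε e i) Finset.univ
      exact this
    rw [h1]
    change ∑ i, f q.1 (Pi.single i 1) e = 1
    have h2 : (∑ i, (Pi.single i 1 : F → X.ring q.1)) = 1 := by
      funext j
      simp [Finset.sum_apply, Pi.single_apply]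
    have h3 : f q.1 (∑ i, (Pi.single i 1 : F → X.ring q.1)) = 1 := by
      rw [h2, map_one]
    rw [map_sum] at h3
    have := congrFun h3 e
    simpa [Finset.sum_apply] using this
  have hex : ∀ e, ∃ i, ε e i = 1 := by
    intro e
    by_contra hcon
    push Not at hcon
    have : ∑ i, ε e i = 0 := Finset.sum_eq_zero fun i _ => (h01 e i).resolve_right (hcon i)
    rw [hsum e] at this
    exact one_ne_zero this
  choose φ hφ using hex
  have horth : ∀ e i j, i ≠ j → ε e i * ε e j = 0 := by
    intro e i j hij
    apply Subtype.ext
    funext q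
    change f q.1 (Pi.single i 1) e * f q.1 (Pi.single j 1) e = 0
    have : f q.1 (Pi.single i 1 * Pi.single j 1) = 0 := by
      have : (Pi.single i 1 * Pi.single j 1 : F → X.ring q.1) = 0 := by
        funext k
        by_cases hki : k = i
        · subst hki; simp [Pi.single_eq_of_ne hij]
        · simp [Pi.single_eq_of_ne hki]
      rw [this, map_zero]
    rw [map_mul] at this
    exact congrFun this e
  have hzero : ∀ e j, j ≠ φ e → ε e j = 0 := by
    intro e j hj
    have := horth e j (φ e) hj
    rwa [hφ e, mul_one] at this
  refine ⟨φ, fun p g e => ?_⟩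
  have hg : g = ∑ i, g i • (Pi.single i 1 : F → X.ring p) := by
    funext j
    simp [Finset.sum_apply, Pi.single_apply]
  have hval1 : f p (Pi.single (φ e) 1) e = 1 := by
    rw [← hε_val, hφ e]; rfl
  have hval0 : ∀ j, j ≠ φ e → f p (Pi.single j 1) e = 0 := by
    intro j hj
    rw [← hε_val, hzero e j hj]; rfl
  conv_lhs => rw [hg]
  rw [map_sum, Finset.sum_apply]
  simp only [map_smul, Pi.smul_apply, smul_eq_mul]
  rw [Finset.sum_eq_single (φ e)]
  · rw [hval1, mul_one]
  · intro j _ hj
    rw [hval0 j hj, mul_zero]
  · intro h; exact absurd (Finset.mem_univ _) h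

end Groth.Agent.S19550
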