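import Groth.Statements.S15610
import Mathlib
import Groth.Agent.S19550

set_option autoImplicit false
universe u
open SchFin SchFin.RSpace

namespace Groth.Agent.S15610

/-- A nontrivial ring whose idempotents are trivial has connected spectrum. -/
lemma connectedSpace_of_idem {R : Type*} [CommRing R] [Nontrivial R]
    (h : ∀ e : R, IsIdempotentElem e → e = 0 ∨ e = 1) : ConnectedSpace (PrimeSpectrum R) := by
  have : PreconnectedSpace (PrimeSpectrum R) := by
    rw [preconnectedSpace_iff_clopen]
    intro s hs
    obtain ⟨e, he, rfl⟩ := PrimeSpectrum.isClopen_iff.mp hs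
    rcases h e he with rfl | rfl
    · left; simp
    · right; simp
  exact ConnectedSpace.mk inferInstance

lemma nontrivial_of_connected {R : Type*} [CommRing R] (h : ConnectedSpace (PrimeSpectrum R)) :
    Nontrivial R := by
  obtain ⟨x⟩ := h.toNonempty
  exact x.nontrivial

open SchFin in
/-- A schematic finite space is well-connected (the prime spectrum of its ring of global sections is
connected and the prime spectrum of the ring of each point is connected) if and only if its poset of
points is non-empty and connected and the prime spectrum of the ring of each point is connected. -/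
theorem result (X : RSpace.{u})
    (hX : X.IsSchematic) : X.IsWellConnected ↔ (X.IsTopConnected ∧ X.IsPwConnected) := by
  classical
  unfold RSpace.IsWellConnected
  refine ⟨fun ⟨hc, hpw⟩ => ⟨?_, hpw⟩, fun ⟨htc, hpw⟩ => ⟨?_, hpw⟩⟩
  · -- connected implies top-connected
    have hnt : ∀ p : X.pt, Nontrivial (X.ring p) := fun p => nontrivial_of_connected (hpw p)
    have hc' : ConnectedSpace (PrimeSpectrum (X.sectRing Set.univ)) := hc
    have hR : Nontrivial (X.sectRing Set.univ) := nontrivial_of_connected hc'
    have hne : Nonempty X.pt := by
      by_contra hemp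
      rw [not_nonempty_iff] at hemp
      obtain ⟨a, b, hab⟩ := hR
      apply hab
      apply Subtype.ext
      funext q
      exact (hemp.false q.1).elim
    refine ⟨hne, fun p q => ?_⟩
    -- the indicator section of the component of `p`
    have hS : ∀ (a b : X.pt), a ≤ b →
        (Relation.EqvGen (fun a b : X.pt => a ≤ b) p a ↔
          Relation.EqvGen (fun a b : X.pt => a ≤ b) p b) := by
      intro a b hab
      constructor
      · intro h
        exact Relation.EqvGen.trans _ _ _ h (Relation.EqvGen.rel _ _ hab)
      · intro h
        exact Relation.EqvGen.trans _ _ _ h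
          (Relation.EqvGen.symm _ _ (Relation.EqvGen.rel _ _ hab))
    let e : X.sectRing Set.univ :=
      ⟨fun q => if Relation.EqvGen (fun a b : X.pt => a ≤ b) p q.1 then 1 else 0, by
        intro a b hab
        by_cases h : Relation.EqvGen (fun a b : X.pt => a ≤ b) p a.1
        · have h' := (hS a.1 b.1 hab).mp h
          simp only [if_pos h, if_pos h', map_one]
        · have h' : ¬ Relation.EqvGen (fun a b : X.pt => a ≤ b) p b.1 :=
            fun hb => h ((hS a.1 b.1 hab).mpr hb)
          simp only [if_neg h, if_neg h', map_zero]⟩
    have he : IsIdempotentElem e := by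
      apply Subtype.ext
      funext a
      change (if _ then (1 : X.ring a.1) else 0) * (if _ then 1 else 0) = if _ then 1 else 0
      split_ifs <;> simp
    have hep : e.1 ⟨p, trivial⟩ = 1 := if_pos (Relation.EqvGen.refl p)
    rcases Groth.Agent.S19550.idem_zero_or_one e he with h0 | h1
    · exfalso
      have : e.1 ⟨p, trivial⟩ = 0 := by rw [h0]; rfl
      rw [hep] at this
      exact one_ne_zero this
    · have : e.1 ⟨q, trivial⟩ = 1 := by rw [h1]; rfl
      by_contra hcon
      have h2 : e.1 ⟨q, trivial⟩ = 0 := if_neg hcon
      rw [h2] at this
      exact zero_ne_one this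
  · -- top-connected implies connected
    obtain ⟨⟨p₀⟩, hconn⟩ := htc
    have hnt : ∀ p : X.pt, Nontrivial (X.ring p) := fun p => nontrivial_of_connected (hpw p)
    have hpre : ∀ p : X.pt, PreconnectedSpace (PrimeSpectrum (X.ring p)) :=
      fun p => (hpw p).toPreconnectedSpace
    have hR : Nontrivial (X.sectRing Set.univ) := by
      refine ⟨⟨0, 1, fun h => ?_⟩⟩
      have := congrArg (fun s : X.sectRing Set.univ => s.1 ⟨p₀, trivial⟩) h
      exact zero_ne_one this
    change ConnectedSpace (PrimeSpectrum (X.sectRing Set.univ))
    apply connectedSpace_of_idem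
    intro e he
    have hcomp : ∀ a : X.pt, e.1 ⟨a, trivial⟩ = 0 ∨ e.1 ⟨a, trivial⟩ = 1 := by
      intro a
      apply Groth.Agent.S19550.idem_zero_or_one
      have := congrArg (fun s : X.sectRing Set.univ => s.1 ⟨a, trivial⟩) he
      exact this
    have hstep : ∀ a b : X.pt, a ≤ b → (e.1 ⟨a, trivial⟩ = 1 ↔ e.1 ⟨b, trivial⟩ = 1) := by
      intro a b hab
      have hres := e.2 ⟨a, trivial⟩ ⟨b, trivial⟩ hab
      constructor
      · intro h
        rw [← hres, h, map_one]
      · intro h
        rcases hcomp a with h0 | h1
        · exfalso
          rw [h0, map_zero] at hres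
          rw [h] at hres
          exact zero_ne_one hres
        · exact h1
    have hall : ∀ a b : X.pt, Relation.EqvGen (fun a b : X.pt => a ≤ b) a b →
        (e.1 ⟨a, trivial⟩ = 1 ↔ e.1 ⟨b, trivial⟩ = 1) := by
      intro a b hab
      induction hab with
      | rel a b h => exact hstep a b h
      | refl a => exact Iff.rfl
      | symm a b _ ih => exact ih.symm
      | trans a b c _ _ ih1 ih2 => exact ih1.trans ih2
    rcases hcomp p₀ with h0 | h1
    · left
      apply Subtype.ext
      funext a
      rcases hcomp a.1 with ha | ha
      · exact ha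
      · exfalso
        have := (hall a.1 p₀ (hconn a.1 p₀)).mp ha
        rw [h0] at this
        exact zero_ne_one this
    · right
      apply Subtype.ext
      funext a
      exact (hall p₀ a.1 (hconn p₀ a.1)).mp h1

end Groth.Agent.S15610
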