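import Groth.Statements.S15634
import Mathlib

set_option autoImplicit false
universe u
open SchFin SchFin.RSpace

namespace Groth.Agent.S15634

open TensorProduct

section
variable {X : RSpace.{u}} {W : Set X.pt} {R : Type u} [CommRing R] (φ : Coef X W R)

/-- the constant cochain attached to an element of the ring of a point below `W` -/
def kapC (y : X.pt) (hW : W ⊆ X.up y) (a : X.ring y) : Cochain φ X.str 0 :=
  fun σ => X.res (hW (σ (Fin.last 0)).2) a

lemma kapC_mem (y : X.pt) (hW : W ⊆ X.up y) (a : X.ring y) :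
    kapC φ y hW a ∈ cocycles φ X.str 0 := by
  change diff φ X.str 0 (kapC φ y hW a) = 0
  funext σ
  change ∑ j : Fin 2, ((-1 : ℤ) ^ (j : ℕ)) • (kapC φ y hW a).faceVal σ j = 0
  have h0 : ∀ j : Fin 2, (kapC φ y hW a).faceVal σ j = X.res (hW (σ (Fin.last 1)).2) a := by
    intro j
    change X.res _ (X.res _ a) = _
    rw [X.res_comp]
  rw [Fin.sum_univ_two, h0, h0]
  simp

/-- the class of the constant cochain -/
def kap (y : X.pt) (hW : W ⊆ X.up y) (a : X.ring y) : H φ X.str 0 :=
  H.mk φ X.str 0 ⟨kapC φ y hW a, kapC_mem φ y hW a⟩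

/-- the chain consisting of a single point -/
def chain0 (q : W) : Chain W 0 :=
  OrderEmbedding.ofMapLEIff (fun _ => q) (by
    intro a b
    have hab : a = b := by
      apply Fin.ext
      have := a.isLt
      have := b.isLt
      omega
    rw [hab]
    exact ⟨fun _ => le_refl _, fun _ => le_refl _⟩)

/-- evaluation of a degree-zero cohomology class at a point -/
def evH (q : W) : H φ X.str 0 →ₛₗ[φ.map q] X.ring q.1 :=
  Submodule.liftQ _
    ({ toFun := fun c => c.1 (chain0 q)
       map_add' := fun _ _ => rfl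
       map_smul' := fun _ _ => rfl } : ↥(cocycles φ X.str 0) →ₛₗ[φ.map q] X.ring q.1)
    (by
      intro c hc
      change c.1 ∈ (⊥ : Submodule R _) at hc
      rw [Submodule.mem_bot] at hc
      change c.1 (chain0 q) = 0
      rw [hc]
      rfl)

lemma evH_kap (y : X.pt) (hW : W ⊆ X.up y) (a : X.ring y) (q : W) :
    evH φ q (kap φ y hW a) = X.res (hW q.2) a := rfl

lemma smul_kap (y : X.pt) (hW : W ⊆ X.up y) (φ' : Coef X W (X.ring y))
    (hφ' : ∀ (q : W) (b : X.ring y), φ'.map q b = X.res (hW q.2) b) (b a : X.ring y) :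
    b • kap φ' y hW a = kap φ' y hW (b * a) := by
  unfold kap
  rw [← map_smul]
  congr 1
  apply Subtype.ext
  funext σ
  change φ'.map (σ (Fin.last 0)) b * X.res (hW (σ (Fin.last 0)).2) a =
    X.res (hW (σ (Fin.last 0)).2) (b * a)
  rw [hφ', map_mul]

end

open SchFin in
/-- In a schematic finite space the restriction maps of rings along x ≤ y are epimorphisms of rings: two
ring maps out of the ring of y into a commutative ring which agree after composition with the
restriction map from the ring of x are equal. (The published statement also asserts flatness of the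
restriction maps, which here is part of the standing finite-space condition, and a second clause for
affine spaces recalled without proof; only the epimorphism clause, the degree-zero case of the
schematic condition, is stated.) -/
theorem result (X : RSpace.{u}) (hX : X.IsSchematic) {x y : X.pt} (h : x ≤ y)
    {T : Type u} [CommRing T] (g₁ g₂ : X.ring y →+* T) (hg : g₁.comp (X.res h) = g₂.comp (X.res h)) :
    g₁ = g₂ := by
  obtain ⟨_, _, hs⟩ := hX
  have hbc := (hs 0 x y h y y le_rfl).1
  have hW₁ : (Hom.id X).wedge x y ⊆ X.up y := fun q hq => hq.2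
  have hW₂ : (Hom.id X).wedge y y ⊆ X.up y := fun q hq => hq.1
  have hyW₁ : y ∈ (Hom.id X).wedge x y := ⟨h, le_refl y⟩
  unfold IsBCAlong at hbc
  let _ : Algebra (X.ring x) (X.ring y) := (X.res h).toAlgebra
  let _ : Module (X.ring x)
      (H (Coef.ofLE y ((Hom.id X).wedge y y) ((Hom.id X).wedge_subset_up y y)) X.str 0) :=
    Module.compHom _ (X.res h)
  have : IsScalarTower (X.ring x) (X.ring y)
      (H (Coef.ofLE y ((Hom.id X).wedge y y) ((Hom.id X).wedge_subset_up y y)) X.str 0) :=
    IsScalarTower.of_algebraMap_smul fun _ _ => rfl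
  have hρ : ∀ a, resH X.str ((Hom.id X).subSrc h y) 0
      (kap (Coef.ofLE x ((Hom.id X).wedge x y) ((Hom.id X).wedge_subset_up x y)) y hW₁ a) =
      kap (Coef.ofLE y ((Hom.id X).wedge y y) ((Hom.id X).wedge_subset_up y y)) y hW₂ a :=
    fun a => rfl
  have key : ∀ s : X.ring y,
      (s ⊗ₜ[X.ring x]
        kap (Coef.ofLE x ((Hom.id X).wedge x y) ((Hom.id X).wedge_subset_up x y)) y hW₁ 1 :
        X.ring y ⊗[X.ring x]
          H (Coef.ofLE x ((Hom.id X).wedge x y) ((Hom.id X).wedge_subset_up x y)) X.str 0) =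
      1 ⊗ₜ kap (Coef.ofLE x ((Hom.id X).wedge x y) ((Hom.id X).wedge_subset_up x y)) y hW₁ s := by
    intro s
    apply hbc.equiv.injective
    rw [hbc.equiv_tmul, hbc.equiv_tmul]
    change s • resH X.str ((Hom.id X).subSrc h y) 0 _ = (1 : X.ring y) • resH X.str ((Hom.id X).subSrc h y) 0 _
    rw [hρ, hρ, one_smul, smul_kap y hW₂ _ (fun q b => rfl), mul_one]
  -- the bilinear pairing
  let _ : Algebra (X.ring x) T := (g₁.comp (X.res h)).toAlgebra
  let B : X.ring y →ₗ[X.ring x]
      H (Coef.ofLE x ((Hom.id X).wedge x y) ((Hom.id X).wedge_subset_up x y)) X.str 0 →ₗ[X.ring x] T :=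
    LinearMap.mk₂ (X.ring x) (fun s m => g₁ s * g₂ (evH _ ⟨y, hyW₁⟩ m))
      (fun s s' m => by rw [map_add, add_mul])
      (fun r s m => by
        change g₁ (X.res h r * s) * _ = g₁ (X.res h r) * _
        rw [map_mul, mul_assoc])
      (fun s m m' => by rw [map_add, map_add, mul_add])
      (fun r s m => by
        rw [LinearMap.map_smulₛₗ]
        change g₁ s * g₂ (X.res _ r * _) = g₁ (X.res h r) * _
        have := congrArg (fun k => k r) hg
        simp only [RingHom.comp_apply] at this
        rw [map_mul, ← this]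
        ring)
  ext s
  have := congrArg (TensorProduct.lift B) (key s)
  rw [TensorProduct.lift.tmul, TensorProduct.lift.tmul] at this
  change g₁ s * g₂ (evH _ ⟨y, hyW₁⟩ (kap _ y hW₁ 1)) = g₁ 1 * g₂ (evH _ ⟨y, hyW₁⟩ (kap _ y hW₁ s)) at this
  rw [evH_kap, evH_kap, map_one, map_one, map_one, mul_one, one_mul] at this
  rw [this]
  congr 1
  exact X.res_self y s

end Groth.Agent.S15634
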