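import Groth.Statements.S15611
import Mathlib
import Groth.Agent.S15634

set_option autoImplicit false
universe u
open SchFin SchFin.RSpace

namespace Groth.Agent.S15611

open TensorProduct

/-- A faithfully flat epimorphism of commutative rings is bijective. -/
lemma bijective_of_faithfullyFlat_of_epi {R S : Type u} [CommRing R] [CommRing S] [Algebra R S]
    [Module.FaithfullyFlat R S]
    (hepi : ∀ {T : Type u} [CommRing T] (g₁ g₂ : S →+* T),
      g₁.comp (algebraMap R S) = g₂.comp (algebraMap R S) → g₁ = g₂) :
    Function.Bijective (algebraMap R S) := by
  have h1 : ∀ s : S, s ⊗ₜ[R] (1 : S) = 1 ⊗ₜ[R] s := by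
    intro s
    have := hepi (Algebra.TensorProduct.includeLeftRingHom : S →+* S ⊗[R] S)
      (Algebra.TensorProduct.includeRight : S →ₐ[R] S ⊗[R] S).toRingHom (by
        ext r
        simp only [RingHom.comp_apply, Algebra.TensorProduct.includeLeftRingHom_apply,
          AlgHom.toRingHom_eq_coe, RingHom.coe_coe, Algebra.TensorProduct.includeRight_apply]
        rw [Algebra.algebraMap_eq_smul_one, TensorProduct.smul_tmul])
    have := congrArg (fun k => k s) this
    simpa using this
  refine ⟨FaithfulSMul.algebraMap_injective R S, ?_⟩
  have hsurj : Function.Surjective ((Algebra.linearMap R S).lTensor S) := by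
    intro z
    induction z using TensorProduct.induction_on with
    | zero => exact ⟨0, by simp⟩
    | tmul s t =>
      refine ⟨(s * t) ⊗ₜ 1, ?_⟩
      simp only [LinearMap.lTensor_tmul, Algebra.linearMap_apply, map_one]
      calc (s * t) ⊗ₜ[R] (1 : S) = (s ⊗ₜ[R] (1 : S)) * (t ⊗ₜ[R] (1 : S)) := by simp
        _ = (s ⊗ₜ[R] (1 : S)) * (1 ⊗ₜ[R] t) := by rw [h1 t]
        _ = s ⊗ₜ[R] t := by simp
    | add a b ha hb =>
      obtain ⟨a', rfl⟩ := ha
      obtain ⟨b', rfl⟩ := hb
      exact ⟨a' + b', map_add _ _ _⟩
  exact (Module.FaithfullyFlat.lTensor_surjective_iff_surjective R S _).mp hsurj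

open SchFin in
/-- In a schematic finite space, for points x ≤ y and a prime P of the ring of y, with Q its contraction
to the ring of x, the restriction map induces a bijection from the localization of the ring of x at
Q onto the localization of the ring of y at P. (Stated for the rings of the space themselves; the
published statement is the corresponding identification of localizations for the values of any
quasi-coherent algebra, which follows from this case by base change.) -/
theorem result (X : RSpace.{u}) (hX : X.IsSchematic)
    {x y : X.pt} (h : x ≤ y) (P : Ideal (X.ring y)) [P.IsPrime] :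
    Function.Bijective (Localization.localRingHom (P.comap (X.res h)) P (X.res h) rfl) := by
  have hflat : (X.res h).Flat := hX.1.2 x y h
  have hfl := RingHom.Flat.localRingHom hflat P (P.comap (X.res h)) rfl
  let _ : Algebra (Localization.AtPrime (P.comap (X.res h))) (Localization.AtPrime P) :=
    (Localization.localRingHom (P.comap (X.res h)) P (X.res h) rfl).toAlgebra
  have : Module.Flat (Localization.AtPrime (P.comap (X.res h))) (Localization.AtPrime P) := hfl
  have : IsLocalHom (algebraMap (Localization.AtPrime (P.comap (X.res h)))
      (Localization.AtPrime P)) :=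
    Localization.isLocalHom_localRingHom (P.comap (X.res h)) P (X.res h) rfl
  have : Module.FaithfullyFlat (Localization.AtPrime (P.comap (X.res h)))
      (Localization.AtPrime P) := Module.FaithfullyFlat.of_flat_of_isLocalHom
  refine bijective_of_faithfullyFlat_of_epi (R := Localization.AtPrime (P.comap (X.res h)))
    (S := Localization.AtPrime P) ?_
  intro T _ g₁ g₂ hg
  apply IsLocalization.ringHom_ext P.primeCompl
  apply Groth.Agent.S15634.result X hX h
  ext a
  simp only [RingHom.comp_apply]
  rw [← Localization.localRingHom_to_map (P.comap (X.res h)) P (X.res h) rfl a]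
  exact congrArg (fun k => k (algebraMap _ _ a)) hg

end Groth.Agent.S15611
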