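import Groth.Statements.S15613
import Mathlib
import Groth.Agent.S15634

set_option autoImplicit false
universe u
open SchFin SchFin.GeomPt

namespace Groth.Agent.S15613

open TensorProduct Groth.Agent.S15634

open SchFin in
/-- For a geometric point of a schematic finite space with values in an algebraically closed field,
hitting the point x with ring map from the ring of x to the field, the kernel of that ring map does
not lift to any point strictly above x: no prime of the ring of such a point contracts to it along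
the restriction map. -/
theorem result (X : RSpace.{u}) (hX : X.IsSchematic) {Ω : Type u} [Field Ω]
    [IsAlgClosed Ω] (ξ : GeomPt X Ω) {x' : X.pt} (hx : ξ.base < x') (P : Ideal (X.ring x')) [P.IsPrime] :
    P.comap (X.res hx.le) ≠ RingHom.ker ξ.toField := by
  intro hcon
  obtain ⟨_, _, hs⟩ := ξ.isSchematic
  have hbc := (hs 0 PUnit.unit PUnit.unit (le_refl _) ξ.base x' hx.le).2
  have hW : ξ.hom.wedge PUnit.unit ξ.base ⊆ (RSpace.point Ω).up PUnit.unit := fun q hq => hq.1
  have hmem : PUnit.unit ∈ ξ.hom.wedge PUnit.unit ξ.base := ⟨le_refl _, le_refl _⟩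
  -- the target cohomology is trivial
  have hempty : IsEmpty (ξ.hom.wedge PUnit.unit x') := by
    refine ⟨fun q => ?_⟩
    have h2 : x' ≤ ξ.hom.fn q.1 := q.2.2
    have : ξ.hom.fn q.1 = ξ.base := rfl
    rw [this] at h2
    exact absurd h2 (not_le_of_gt hx)
  have hsub : Subsingleton (H (Coef.ofHom ξ.hom x' (ξ.hom.wedge PUnit.unit x')
      (ξ.hom.wedge_subset_pre PUnit.unit x')) (RSpace.point Ω).str 0) := by
    have h1 : IsEmpty (Chain (ξ.hom.wedge PUnit.unit x') 0) :=
      ⟨fun σ => hempty.false (σ 0)⟩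
    have h2 : Subsingleton (Cochain (Coef.ofHom ξ.hom x' (ξ.hom.wedge PUnit.unit x')
        (ξ.hom.wedge_subset_pre PUnit.unit x')) (RSpace.point Ω).str 0) :=
      ⟨fun c c' => funext fun σ => (h1.false σ).elim⟩
    refine ⟨fun a b => ?_⟩
    obtain ⟨a, rfl⟩ := Submodule.mkQ_surjective _ a
    obtain ⟨b, rfl⟩ := Submodule.mkQ_surjective _ b
    congr 1
    exact Subtype.ext (Subsingleton.elim _ _)
  unfold IsBCAlong at hbc
  let _ : Algebra (X.ring ξ.base) (X.ring x') := (X.res hx.le).toAlgebra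
  let _ : Module (X.ring ξ.base) (H (Coef.ofHom ξ.hom x' (ξ.hom.wedge PUnit.unit x')
      (ξ.hom.wedge_subset_pre PUnit.unit x')) (RSpace.point Ω).str 0) :=
    Module.compHom _ (X.res hx.le)
  have : IsScalarTower (X.ring ξ.base) (X.ring x') (H (Coef.ofHom ξ.hom x' (ξ.hom.wedge PUnit.unit x')
      (ξ.hom.wedge_subset_pre PUnit.unit x')) (RSpace.point Ω).str 0) :=
    IsScalarTower.of_algebraMap_smul fun _ _ => rfl
  have hsubT : Subsingleton (X.ring x' ⊗[X.ring ξ.base]
      H (Coef.ofHom ξ.hom ξ.base (ξ.hom.wedge PUnit.unit ξ.base)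
        (ξ.hom.wedge_subset_pre PUnit.unit ξ.base)) (RSpace.point Ω).str 0) :=
    hbc.equiv.toEquiv.subsingleton
  -- the test ring
  have hker : (RingHom.ker ξ.toField).IsPrime := RingHom.ker_isPrime _
  let _ : Algebra (X.ring ξ.base ⧸ RingHom.ker ξ.toField) Ω :=
    (RingHom.kerLift ξ.toField).toAlgebra
  let _ : Algebra (X.ring ξ.base ⧸ RingHom.ker ξ.toField) (X.ring x' ⧸ P) :=
    (Ideal.quotientMap P (X.res hx.le) (le_of_eq hcon.symm)).toAlgebra
  have hinj1 : Function.Injective (algebraMap (X.ring ξ.base ⧸ RingHom.ker ξ.toField) Ω) :=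
    RingHom.kerLift_injective _
  have hinj2 : Function.Injective
      (algebraMap (X.ring ξ.base ⧸ RingHom.ker ξ.toField) (X.ring x' ⧸ P)) :=
    Ideal.quotientMap_injective' (le_of_eq hcon)
  have hnt : Nontrivial ((X.ring x' ⧸ P) ⊗[X.ring ξ.base ⧸ RingHom.ker ξ.toField] Ω) :=
    Algebra.TensorProduct.nontrivial_of_algebraMap_injective_of_isDomain _ _ _ hinj2 hinj1
  obtain ⟨ev, ev_add, ev_smul, ev_kap⟩ : ∃ ev : H (Coef.ofHom ξ.hom ξ.base (ξ.hom.wedge PUnit.unit ξ.base)
        (ξ.hom.wedge_subset_pre PUnit.unit ξ.base)) (RSpace.point Ω).str 0 → Ω,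
      (∀ m m', ev (m + m') = ev m + ev m') ∧
      (∀ (a : X.ring ξ.base) m, ev (a • m) = ξ.toField a * ev m) ∧
      ev (kap _ PUnit.unit hW (1 : Ω)) = 1 := by
    refine ⟨fun m => evH _ ⟨PUnit.unit, hmem⟩ m, ?_, ?_, ?_⟩
    · intro m m'
      exact (evH _ ⟨PUnit.unit, hmem⟩).map_add m m'
    · intro a m
      have h1 := (evH (Coef.ofHom ξ.hom ξ.base (ξ.hom.wedge PUnit.unit ξ.base)
        (ξ.hom.wedge_subset_pre PUnit.unit ξ.base)) ⟨PUnit.unit, hmem⟩).map_smulₛₗ a m
      refine h1.trans ?_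
      change ξ.hom.app PUnit.unit (X.res _ a) * _ = ξ.hom.app PUnit.unit a * _
      congr 1
      exact congrArg (ξ.hom.app PUnit.unit) (X.res_self ξ.base a)
    · rfl
  have hsm3 : ∀ (a : X.ring ξ.base) (b : X.ring x'),
      (Ideal.Quotient.mk (RingHom.ker ξ.toField) a) • (Ideal.Quotient.mk P b) =
        a • (Ideal.Quotient.mk P b) := fun _ _ => rfl
  have hsm4 : ∀ (a : X.ring ξ.base) (w : Ω),
      ξ.toField a * w = (Ideal.Quotient.mk (RingHom.ker ξ.toField) a) • w := fun _ _ => rfl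
  let β : X.ring x' →ₗ[X.ring ξ.base]
      H (Coef.ofHom ξ.hom ξ.base (ξ.hom.wedge PUnit.unit ξ.base)
        (ξ.hom.wedge_subset_pre PUnit.unit ξ.base)) (RSpace.point Ω).str 0 →ₗ[X.ring ξ.base]
      ((X.ring x' ⧸ P) ⊗[X.ring ξ.base ⧸ RingHom.ker ξ.toField] Ω) :=
    LinearMap.mk₂ (X.ring ξ.base)
      (fun b m => (Ideal.Quotient.mk P b) ⊗ₜ[X.ring ξ.base ⧸ RingHom.ker ξ.toField] (ev m))
      (fun b b' m => by rw [map_add, TensorProduct.add_tmul])
      (fun a b m => by
        rw [TensorProduct.smul_tmul']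
        rfl)
      (fun b m m' => by rw [ev_add, TensorProduct.tmul_add])
      (fun a b m => by
        rw [ev_smul, hsm4, ← TensorProduct.smul_tmul, hsm3, TensorProduct.smul_tmul'])
  have h0 : ((1 : X.ring x') ⊗ₜ[X.ring ξ.base]
      kap (Coef.ofHom ξ.hom ξ.base (ξ.hom.wedge PUnit.unit ξ.base)
        (ξ.hom.wedge_subset_pre PUnit.unit ξ.base)) PUnit.unit hW (1 : Ω)) = 0 :=
    Subsingleton.elim _ _
  have h1 := congrArg (TensorProduct.lift β) h0
  rw [TensorProduct.lift.tmul, map_zero] at h1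
  change (Ideal.Quotient.mk P 1) ⊗ₜ[X.ring ξ.base ⧸ RingHom.ker ξ.toField]
    (ev (kap _ PUnit.unit hW (1 : Ω))) = 0 at h1
  rw [ev_kap, map_one] at h1
  exact one_ne_zero h1

end Groth.Agent.S15613
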