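import Groth.Statements.S15614
import Mathlib
import Groth.Agent.S15634

set_option autoImplicit false
universe u
open SchFin SchFin.RSpace

namespace Groth.Agent.S15614

open TensorProduct AlgebraicGeometry CategoryTheory CategoryTheory.Limits
open Groth.Agent.S15634 (chain0 evH)

/-- a prime of a tensor product over two primes with the same contraction -/
theorem exists_prime_tensor {R S T : Type u} [CommRing R] [CommRing S] [CommRing T] [Algebra R S]
    [Algebra R T] (P : PrimeSpectrum S) (Q : PrimeSpectrum T)
    (h : PrimeSpectrum.comap (algebraMap R S) P = PrimeSpectrum.comap (algebraMap R T) Q) :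
    ∃ r : PrimeSpectrum (S ⊗[R] T),
      PrimeSpectrum.comap (Algebra.TensorProduct.includeLeftRingHom) r = P ∧
      PrimeSpectrum.comap
        (Algebra.TensorProduct.includeRight (R := R) (A := S) (B := T)).toRingHom r = Q := by
  obtain ⟨z, hz1, hz2⟩ := AlgebraicGeometry.Scheme.Pullback.exists_preimage_pullback
    (f := Spec.map (CommRingCat.ofHom (algebraMap R S)))
    (g := Spec.map (CommRingCat.ofHom (algebraMap R T))) P Q h
  refine ⟨(pullbackSpecIso R S T).hom.base z, ?_, ?_⟩
  · rw [← hz1, ← pullbackSpecIso_hom_fst]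
    rfl
  · rw [← hz2, ← pullbackSpecIso_hom_snd]
    rfl

section
variable {X : RSpace.{u}} {U : Set X.pt} {R : Type u} [CommRing R] (φ : Coef X U R)

/-- the degree-zero cochain of a section of the rings -/
def secC (γ : X.sectRing U) : Cochain φ X.str 0 := fun σ => γ.1 (σ (Fin.last 0))

lemma secC_mem (γ : X.sectRing U) : secC φ γ ∈ cocycles φ X.str 0 := by
  change diff φ X.str 0 (secC φ γ) = 0
  funext σ
  change ∑ j : Fin 2, ((-1 : ℤ) ^ (j : ℕ)) • (secC φ γ).faceVal σ j = 0
  have h0 : ∀ j : Fin 2, (secC φ γ).faceVal σ j = γ.1 (σ (Fin.last 1)) := by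
    intro j
    exact γ.2 _ _ _
  rw [Fin.sum_univ_two, h0, h0]
  simp

/-- the class of a section in degree-zero cohomology -/
def secH (γ : X.sectRing U) : H φ X.str 0 := H.mk φ X.str 0 ⟨secC φ γ, secC_mem φ γ⟩

lemma evH_secH (γ : X.sectRing U) (q : U) : evH φ q (secH φ γ) = γ.1 q := rfl

lemma secH_add (γ γ' : X.sectRing U) : secH φ (γ + γ') = secH φ γ + secH φ γ' := by
  unfold secH
  rw [← map_add]
  rfl

lemma secH_injective : Function.Injective (secH φ) := by
  intro γ γ' h
  apply Subtype.ext
  funext q
  have := congrArg (evH φ q) h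
  rwa [evH_secH, evH_secH] at this

lemma fin1 (i j : Fin (0 + 1)) : i = j := by
  apply Fin.ext
  have := i.isLt
  have := j.isLt
  omega

/-- the strict chain of two points -/
def chain1 (q q' : U) (h : q < q') : Chain U 1 :=
  OrderEmbedding.ofStrictMono (fun i : Fin 2 => if i = 0 then q else q') (by
    intro a b hab
    fin_cases a <;> fin_cases b <;> simp_all)

lemma chain0_eq (σ : Chain U 0) : σ = chain0 (σ (Fin.last 0)) := by
  apply DFunLike.ext
  intro i
  have : i = Fin.last 0 := fin1 _ _
  rw [this]
  rfl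

lemma res_congr (c : Cochain φ X.str 0) (τ τ' : Chain U 0) (e : τ = τ') (t : X.pt)
    (h : (τ (Fin.last 0)).1 ≤ t) (h' : (τ' (Fin.last 0)).1 ≤ t) :
    X.res h (c τ) = X.res h' (c τ') := by
  subst e
  rfl

/-- a degree-zero cocycle is a compatible family -/
lemma cocycle_compat (c : cocycles φ X.str 0) (q q' : U) (h : q.1 ≤ q'.1) :
    c.1 (chain0 q') = X.res h (c.1 (chain0 q)) := by
  rcases eq_or_lt_of_le (show q ≤ q' from h) with e | hlt
  · subst e
    exact (X.res_self _ _).symm
  · have hc : diff φ X.str 0 c.1 (chain1 q q' hlt) = 0 := congrFun c.2 (chain1 q q' hlt)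
    change ∑ j : Fin 2, ((-1 : ℤ) ^ (j : ℕ)) • c.1.faceVal (chain1 q q' hlt) j = 0 at hc
    rw [Fin.sum_univ_two] at hc
    have e0 : (chain1 q q' hlt).face 0 = chain0 q' := by
      apply DFunLike.ext
      intro i
      have : i = 0 := fin1 _ _
      rw [this]
      rfl
    have e1 : (chain1 q q' hlt).face 1 = chain0 q := by
      apply DFunLike.ext
      intro i
      have : i = 0 := fin1 _ _
      rw [this]
      rfl
    have et : (chain1 q q' hlt) (Fin.last 1) = q' := rfl
    have h0 : c.1.faceVal (chain1 q q' hlt) 0 =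
        X.res (le_of_eq (congrArg Subtype.val et.symm)) (c.1 (chain0 q')) :=
      res_congr φ c.1 _ _ e0 _ _ _
    have h1 : c.1.faceVal (chain1 q q' hlt) 1 =
        X.res (h.trans (le_of_eq (congrArg Subtype.val et.symm))) (c.1 (chain0 q)) :=
      res_congr φ c.1 _ _ e1 _ _ _
    rw [h0, h1] at hc
    simp only [Fin.val_zero, pow_zero, one_smul, Fin.val_one, pow_one, neg_smul] at hc
    rw [← sub_eq_add_neg, sub_eq_zero] at hc
    exact ((X.res_self _ _).symm.trans hc)

lemma secH_surjective : Function.Surjective (secH φ) := by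
  intro h
  obtain ⟨c, rfl⟩ := Submodule.mkQ_surjective _ h
  refine ⟨⟨fun q => c.1 (chain0 q), fun q q' hqq' => (cocycle_compat φ c q q' hqq').symm⟩, ?_⟩
  unfold secH
  congr 1
  apply Subtype.ext
  funext σ
  obtain ⟨q, rfl⟩ : ∃ q, σ = chain0 q := ⟨_, chain0_eq σ⟩
  rfl

/-- sections as an additive equivalence with degree-zero cohomology -/
noncomputable def secEquiv : X.sectRing U ≃+ H φ X.str 0 :=
  AddEquiv.ofBijective
    ({ toFun := secH φ, map_zero' := by
          have := secH_add φ 0 0
          rw [add_zero] at this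
          exact left_eq_add.mp this |>.symm ▸ rfl
       map_add' := secH_add φ } : X.sectRing U →+ H φ X.str 0)
    ⟨secH_injective φ, secH_surjective φ⟩

end
open SchFin in
/-- In a schematic finite space, let x and y be points above a common point s, P a prime of the ring of
x and Q a prime of the ring of y whose contractions to the ring of s agree. Then the pairs (x, P)
and (y, Q) are related: some point above both x and y carries a prime contracting to P and to Q.
(The published statement does not carry the hypothesis that, for every two points that lie above a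
common point and whose minimal open sets meet, the product of the rings over the intersection of
these minimal open sets is faithfully flat over the ring of sections on it; the published proof
obtains this fact from properties of affine schematic spaces recalled there without proof, and this
row carries it explicitly.) -/
theorem result (X : RSpace.{u}) (hX : X.IsSchematic)
    (hff : ∀ s a b : X.pt, s ≤ a → s ≤ b → (X.up a ∩ X.up b).Nonempty →
      Module.FaithfullyFlat (X.sectRing (X.up a ∩ X.up b)) ((q : ↥(X.up a ∩ X.up b)) → X.ring q.1))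
    {s x y : X.pt} (hx : s ≤ x) (hy : s ≤ y) (P : PrimeSpectrum (X.ring x)) (Q : PrimeSpectrum (X.ring y))
    (hPQ : PrimeSpectrum.comap (X.res hx) P = PrimeSpectrum.comap (X.res hy) Q) :
    X.PairRel ⟨x, P⟩ ⟨y, Q⟩ := by
  classical
  obtain ⟨_, _, hs⟩ := hX
  have hbc := (hs 0 s x hx y y le_rfl).1
  have hW₁y : (Hom.id X).wedge s y ⊆ X.up y := fun q hq => hq.2
  have hW₂x : (Hom.id X).wedge x y ⊆ X.up x := fun q hq => hq.1
  have hW₂y : (Hom.id X).wedge x y ⊆ X.up y := fun q hq => hq.2
  have hyW₁ : y ∈ (Hom.id X).wedge s y := ⟨hy, le_refl y⟩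
  unfold IsBCAlong at hbc
  let _ : Algebra (X.ring s) (X.ring x) := (X.res hx).toAlgebra
  let _ : Algebra (X.ring s) (X.ring y) := (X.res hy).toAlgebra
  let _ : Module (X.ring s)
      (H (Coef.ofLE x ((Hom.id X).wedge x y) ((Hom.id X).wedge_subset_up x y)) X.str 0) :=
    Module.compHom _ (X.res hx)
  have : IsScalarTower (X.ring s) (X.ring x)
      (H (Coef.ofLE x ((Hom.id X).wedge x y) ((Hom.id X).wedge_subset_up x y)) X.str 0) :=
    IsScalarTower.of_algebraMap_smul fun _ _ => rfl
  -- the ring of sections and the two maps into it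
  let ιx : X.ring x →+* X.sectRing ((Hom.id X).wedge x y) := X.resSect x _ hW₂x
  let ιy : X.ring y →+* X.sectRing ((Hom.id X).wedge x y) := X.resSect y _ hW₂y
  let _ : Algebra (X.ring s) (X.sectRing ((Hom.id X).wedge x y)) :=
    (ιx.comp (X.res hx)).toAlgebra
  let ιxA : X.ring x →ₐ[X.ring s] X.sectRing ((Hom.id X).wedge x y) :=
    { ιx with commutes' := fun r => rfl }
  let ιyA : X.ring y →ₐ[X.ring s] X.sectRing ((Hom.id X).wedge x y) :=
    { ιy with
      commutes' := fun r => by
        apply Subtype.ext
        funext q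
        change X.res _ (X.res hy r) = X.res _ (X.res hx r)
        rw [X.res_comp, X.res_comp] }
  let μ : X.ring x ⊗[X.ring s] X.ring y →ₐ[X.ring s] X.sectRing ((Hom.id X).wedge x y) :=
    Algebra.TensorProduct.productMap ιxA ιyA
  -- the ring of `y` as degree-zero cohomology over `wedge s y`
  let kapL : X.ring y →ₗ[X.ring s]
      H (Coef.ofLE s ((Hom.id X).wedge s y) ((Hom.id X).wedge_subset_up s y)) X.str 0 :=
    { toFun := fun b => secH _ (X.resSect y _ hW₁y b)
      map_add' := fun b b' => by rw [map_add, secH_add]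
      map_smul' := fun r b => by
        rw [RingHom.id_apply]
        unfold secH
        rw [← map_smul]
        congr 1
        apply Subtype.ext
        funext σ
        change X.res _ (X.res hy r * b) = X.res _ r * X.res _ b
        rw [map_mul, X.res_comp] }
  have kapL_bij : Function.Bijective kapL := by
    constructor
    · intro b b' h
      have := congrArg (evH _ ⟨y, hyW₁⟩) h
      have h2 : X.res (le_refl y) b = X.res (le_refl y) b' := this
      rwa [X.res_self, X.res_self] at h2
    · intro h
      obtain ⟨γ, rfl⟩ := secH_surjective _ h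
      refine ⟨γ.1 ⟨y, hyW₁⟩, ?_⟩
      change secH _ _ = secH _ γ
      congr 1
      apply Subtype.ext
      funext q
      exact γ.2 ⟨y, hyW₁⟩ q (hW₁y q.2)
  let kapE := LinearEquiv.ofBijective kapL kapL_bij
  let E₁ := TensorProduct.congr (LinearEquiv.refl (X.ring s) (X.ring x)) kapE
  have hμ : ∀ t, secH (Coef.ofLE x ((Hom.id X).wedge x y) ((Hom.id X).wedge_subset_up x y)) (μ t) =
      hbc.equiv (E₁ t) := by
    intro t
    induction t using TensorProduct.induction_on with
    | zero =>
      rw [map_zero, map_zero, map_zero]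
      exact (secEquiv _).map_zero
    | tmul a b =>
      rw [TensorProduct.congr_tmul, hbc.equiv_tmul]
      rfl
    | add t t' ht ht' =>
      rw [map_add, map_add, map_add, secH_add, ht, ht']
  have hμbij : Function.Bijective μ := by
    have h1 : Function.Bijective (fun t => secH
        (Coef.ofLE x ((Hom.id X).wedge x y) ((Hom.id X).wedge_subset_up x y)) (μ t)) := by
      have : (fun t => secH
          (Coef.ofLE x ((Hom.id X).wedge x y) ((Hom.id X).wedge_subset_up x y)) (μ t)) =
          fun t => hbc.equiv (E₁ t) := funext hμ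
      rw [this]
      exact hbc.equiv.bijective.comp E₁.bijective
    constructor
    · intro t t' h
      exact h1.1 (congrArg _ h)
    · intro γ
      obtain ⟨t, ht⟩ := h1.2 (secH _ γ)
      exact ⟨t, secH_injective _ ht⟩
  let μE : X.ring x ⊗[X.ring s] X.ring y ≃+* X.sectRing ((Hom.id X).wedge x y) :=
    RingEquiv.ofBijective μ.toRingHom hμbij
  -- a prime of the tensor product over `P` and `Q`
  obtain ⟨r, hrP, hrQ⟩ := exists_prime_tensor (R := X.ring s) P Q hPQ
  let r' : PrimeSpectrum (X.sectRing ((Hom.id X).wedge x y)) :=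
    PrimeSpectrum.comap μE.symm.toRingHom r
  have hιx : ∀ a, μE.symm (ιx a) = a ⊗ₜ 1 := by
    intro a
    rw [RingEquiv.symm_apply_eq]
    change ιx a = μ (a ⊗ₜ 1)
    rw [Algebra.TensorProduct.productMap_apply_tmul, map_one, mul_one]
    rfl
  have hιy : ∀ b, μE.symm (ιy b) = 1 ⊗ₜ b := by
    intro b
    rw [RingEquiv.symm_apply_eq]
    change ιy b = μ (1 ⊗ₜ b)
    rw [Algebra.TensorProduct.productMap_apply_tmul, map_one, one_mul]
    rfl
  have hr'P : PrimeSpectrum.comap ιx r' = P := by
    rw [← hrP]
    apply PrimeSpectrum.ext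
    ext a
    change μE.symm (ιx a) ∈ r.asIdeal ↔ (a ⊗ₜ[X.ring s] (1 : X.ring y)) ∈ r.asIdeal
    rw [hιx]
  have hr'Q : PrimeSpectrum.comap ιy r' = Q := by
    rw [← hrQ]
    apply PrimeSpectrum.ext
    ext b
    change μE.symm (ιy b) ∈ r.asIdeal ↔ ((1 : X.ring x) ⊗ₜ[X.ring s] b) ∈ r.asIdeal
    rw [hιy]
  -- nonemptiness
  have hne : (X.up x ∩ X.up y).Nonempty := by
    by_contra hempty
    rw [Set.not_nonempty_iff_eq_empty] at hempty
    apply r'.2.ne_top
    rw [Ideal.eq_top_iff_one]
    have : (1 : X.sectRing ((Hom.id X).wedge x y)) = 0 := by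
      apply Subtype.ext
      funext q
      exact absurd q.2 (by
        change q.1 ∉ X.up x ∩ X.up y
        rw [hempty]
        exact Set.notMem_empty _)
    rw [this]
    exact Ideal.zero_mem _
  have hff' := hff s x y hx hy hne
  obtain ⟨𝔓, h𝔓⟩ := PrimeSpectrum.comap_surjective_of_faithfullyFlat
    (A := X.sectRing (X.up x ∩ X.up y)) (B := (q : ↥(X.up x ∩ X.up y)) → X.ring q.1) r'
  obtain ⟨z, rz, hrz⟩ := PrimeSpectrum.exists_comap_evalRingHom_eq 𝔓
  refine ⟨z.1, z.2.1, z.2.2, rz, ?_, ?_⟩
  · change PrimeSpectrum.comap (X.res z.2.1) rz = P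
    rw [← hr'P, ← h𝔓, ← hrz]
    rfl
  · change PrimeSpectrum.comap (X.res z.2.2) rz = Q
    rw [← hr'Q, ← h𝔓, ← hrz]
    rfl

end Groth.Agent.S15614
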