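import Groth.Statements.S15615
import Mathlib
import Groth.Agent.S15614

set_option autoImplicit false
universe u
open SchFin SchFin.RSpace

namespace Groth.Agent.S15615

open SchFin in
/-- In a schematic finite space, the relation on pairs (a point together with a prime of its ring) under
which two pairs are related when some pair at a point above both restricts to each of them is an
equivalence relation. (The published statement does not carry the hypothesis that, for every two
points that lie above a common point and whose minimal open sets meet, the product of the rings over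
the intersection of these minimal open sets is faithfully flat over the ring of sections on it; the
published proof obtains this fact from properties of affine schematic spaces recalled there without
proof, and this row carries it explicitly.) -/
theorem result (X : RSpace.{u}) (hX : X.IsSchematic)
    (hff : ∀ s a b : X.pt, s ≤ a → s ≤ b → (X.up a ∩ X.up b).Nonempty →
      Module.FaithfullyFlat (X.sectRing (X.up a ∩ X.up b)) ((q : ↥(X.up a ∩ X.up b)) → X.ring q.1)) :
    Equivalence X.PairRel := by
  have hcomp : ∀ {a b c : X.pt} (h : a ≤ b) (h' : b ≤ c) (r : PrimeSpectrum (X.ring c)),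
      PrimeSpectrum.comap (X.res h) (PrimeSpectrum.comap (X.res h') r) =
        PrimeSpectrum.comap (X.res (h.trans h')) r := by
    intro a b c h h' r
    apply PrimeSpectrum.ext
    ext t
    change X.res h' (X.res h t) ∈ r.asIdeal ↔ X.res (h.trans h') t ∈ r.asIdeal
    rw [X.res_comp]
  refine ⟨?_, ?_, ?_⟩
  · rintro ⟨x, P⟩
    refine ⟨x, le_refl x, le_refl x, P, ?_, ?_⟩ <;>
    · apply PrimeSpectrum.ext
      ext t
      change X.res (le_refl x) t ∈ P.asIdeal ↔ t ∈ P.asIdeal
      rw [X.res_self]
  · rintro ⟨x, P⟩ ⟨y, Q⟩ ⟨z, hx, hy, r, h1, h2⟩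
    exact ⟨z, hy, hx, r, h2, h1⟩
  · rintro ⟨x, P⟩ ⟨y, Q⟩ ⟨w, R⟩ ⟨z₁, hx, hy, r₁, h1, h2⟩ ⟨z₂, hy', hw, r₂, h3, h4⟩
    change PrimeSpectrum.comap (X.res hx) r₁ = P at h1
    change PrimeSpectrum.comap (X.res hy) r₁ = Q at h2
    change PrimeSpectrum.comap (X.res hy') r₂ = Q at h3
    change PrimeSpectrum.comap (X.res hw) r₂ = R at h4
    obtain ⟨z, hz₁, hz₂, r, h5, h6⟩ :=
      Groth.Agent.S15614.result X hX hff hy hy' r₁ r₂ (h2.trans h3.symm)
    change PrimeSpectrum.comap (X.res hz₁) r = r₁ at h5
    change PrimeSpectrum.comap (X.res hz₂) r = r₂ at h6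
    refine ⟨z, hx.trans hz₁, hw.trans hz₂, r, ?_, ?_⟩
    · change PrimeSpectrum.comap (X.res (hx.trans hz₁)) r = P
      rw [← hcomp hx hz₁, h5, h1]
    · change PrimeSpectrum.comap (X.res (hw.trans hz₂)) r = R
      rw [← hcomp hw hz₂, h6, h4]

end Groth.Agent.S15615
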