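import Groth.Statements.S15616
import Mathlib
import Groth.Agent.S15615

set_option autoImplicit false
universe u
open SchFin SchFin.RSpace

namespace Groth.Agent.S15616

open SchFin in
/-- In a schematic finite space every schematic point, that is, every class of pairs (a point with a
prime of its ring), has exactly one representative whose point lies above the points of all
representatives of the class. (The published statement does not carry the hypothesis that, for every
two points that lie above a common point and whose minimal open sets meet, the product of the rings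
over the intersection of these minimal open sets is faithfully flat over the ring of sections on it;
the published proof obtains this fact from properties of affine schematic spaces recalled there
without proof, and this row carries it explicitly.) -/
theorem result (X : RSpace.{u}) (hX : X.IsSchematic)
    (hff : ∀ s a b : X.pt, s ≤ a → s ≤ b → (X.up a ∩ X.up b).Nonempty →
      Module.FaithfullyFlat (X.sectRing (X.up a ∩ X.up b)) ((q : ↥(X.up a ∩ X.up b)) → X.ring q.1))
    (c : X.SchPt) :
    ∃! a : X.Pair, Quot.mk X.PairRel a = c ∧ ∀ b : X.Pair, Quot.mk X.PairRel b = c → b.1 ≤ a.1 := by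
  classical
  have heq := Groth.Agent.S15615.result X hX hff
  obtain ⟨a₀, rfl⟩ := Quot.exists_rep c
  have hq : ∀ b : X.Pair, Quot.mk X.PairRel b = Quot.mk X.PairRel a₀ ↔ X.PairRel b a₀ :=
    fun b => heq.quot_mk_eq_iff b a₀
  -- comap along the identity restriction
  have hid : ∀ (z : X.pt) (h : z ≤ z) (r : PrimeSpectrum (X.ring z)),
      PrimeSpectrum.comap (X.res h) r = r := by
    intro z h r
    apply PrimeSpectrum.ext
    ext t
    change X.res h t ∈ r.asIdeal ↔ t ∈ r.asIdeal
    rw [X.res_self]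
  -- a pair above a given pair is related to it
  have habove : ∀ (b : X.Pair) (z : X.pt) (h : b.1 ≤ z) (r : PrimeSpectrum (X.ring z)),
      PrimeSpectrum.comap (X.res h) r = b.2 → X.PairRel ⟨z, r⟩ b := by
    intro b z h r hr
    exact ⟨z, le_refl z, h, r, hid z _ r, hr⟩
  let S : Set X.pt := {p | ∃ b : X.Pair, X.PairRel b a₀ ∧ b.1 = p}
  have hSne : S.Nonempty := ⟨a₀.1, a₀, heq.refl a₀, rfl⟩
  have hSfin : S.Finite := Set.toFinite S
  have hdir : ∀ p₁ ∈ S, ∀ p₂ ∈ S, ∃ z ∈ S, p₁ ≤ z ∧ p₂ ≤ z := by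
    rintro p₁ ⟨b₁, hb₁, rfl⟩ p₂ ⟨b₂, hb₂, rfl⟩
    obtain ⟨z, h1, h2, r, hr1, hr2⟩ := heq.trans hb₁ (heq.symm hb₂)
    exact ⟨z, ⟨⟨z, r⟩, heq.trans (habove b₁ z h1 r hr1) hb₁, rfl⟩, h1, h2⟩
  obtain ⟨m, hm⟩ := hSfin.exists_maximal hSne
  have hmax : ∀ p ∈ S, p ≤ m := by
    intro p hp
    obtain ⟨z, hz, hmz, hpz⟩ := hdir m hm.1 p hp
    exact hpz.trans (hm.2 hz hmz)
  obtain ⟨a, ha, ham⟩ := hm.1
  refine ⟨a, ⟨(hq a).mpr ha, fun b hb => ?_⟩, ?_⟩
  · rw [ham]
    exact hmax b.1 ⟨b, (hq b).mp hb, rfl⟩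
  · rintro a' ⟨ha', ha'max⟩
    have h1 : a'.1 ≤ a.1 := by
      rw [ham]
      exact hmax a'.1 ⟨a', (hq a').mp ha', rfl⟩
    have h2 : a.1 ≤ a'.1 := ha'max a ((hq a).mpr ha)
    have h12 : a'.1 = a.1 := le_antisymm h1 h2
    obtain ⟨w, hx, hy, t, ht1, ht2⟩ := heq.trans ha (heq.symm ((hq a').mp ha'))
    have hw : w ≤ a.1 := by
      rw [ham]
      exact hmax w ⟨⟨w, t⟩, heq.trans (habove a w hx t ht1) ha, rfl⟩
    obtain ⟨m₁, r₁⟩ := a
    obtain ⟨m₂, r₂⟩ := a'
    change m₂ = m₁ at h12
    subst h12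
    have hwm : w = m₂ := le_antisymm hw hx
    subst hwm
    change PrimeSpectrum.comap (X.res hx) t = r₁ at ht1
    change PrimeSpectrum.comap (X.res hy) t = r₂ at ht2
    rw [hid] at ht1 ht2
    rw [← ht1, ← ht2]

end Groth.Agent.S15616
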