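import Groth.Statements.S15619
import Groth.Agent.Lib.Helper14.SchFinAff3

set_option autoImplicit false
universe u
open SchFin SchFin.Alg

namespace Groth.Agent.S15619

open SchFin in
/-- Let X be a schematic finite space, A a quasi-coherent algebra on X and U an affine up-closed set of
points. Then the value of A at every point of U is faithfully flat over the ring of that point if
and only if the ring of sections of A over U is faithfully flat over the ring of sections of the
rings over U, through the natural ring map. (The published statement ranges over affine open
subsets; this row states the criterion for one affine up-closed subset and carries explicitly the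
hypotheses that the product of the rings of the points of U is faithfully flat over the ring of
sections of the rings over U, and likewise for the algebra; these hold for every affine open subset
and every quasi-coherent algebra by results the published proof uses and recalls without proof.) -/
theorem result (X : RSpace.{u}) (hX : X.IsSchematic) (A : Alg X)
    (hA : A.IsQcoh)
    (U : Set X.pt) (hU' : IsUpperSet U) (hUa : (X.restrict U).IsAffine)
    (hφ : Module.FaithfullyFlat (X.sectRing U) ((q : ↥U) → X.ring q.1))
    (hψ : (A.total.sectRing U).subtype.FaithfullyFlat) :
    (∀ q : X.pt, q ∈ U → Module.FaithfullyFlat (X.ring q) (A.carrier q)) ↔ (A.sectMap U).FaithfullyFlat := by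
  classical
  letI : Algebra (X.sectRing U) (A.total.sectRing U) := (A.sectMap U).toAlgebra
  haveI : Module.FaithfullyFlat (X.sectRing U) ((q : ↥U) → X.ring q.1) := hφ
  constructor
  · intro h
    change Module.FaithfullyFlat (X.sectRing U) (A.total.sectRing U)
    have hflat : Module.Flat (X.sectRing U) (A.total.sectRing U) :=
      (Groth.Agent.Lib.Helper14.SchFinAff.descent_all_aux
      (O := fun q : U => X.ring q.1) (A := fun q : U => A.carrier q.1)
      (fun q => X.evalRing U q) (fun q => A.total.evalRing U q) (fun _ _ => rfl)
      ((q : ↥U) → X.ring q.1) (fun q => Pi.evalRingHom _ q) Function.bijective_id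
      (fun _ _ => rfl)
      (fun q => Groth.Agent.Lib.Helper14.SchFinAff.alg_isBCAlong A U hUa hA q)).1
      (fun q => (h q.1 q.2).toFlat)
    exact Groth.Agent.Lib.Helper14.SchFinAff.faithfullyFlat_descent
      (O := fun q : U => X.ring q.1) (A := fun q : U => A.carrier q.1)
      (fun q => X.evalRing U q) (fun q => A.total.evalRing U q) (fun _ _ => rfl)
      hφ hflat (fun q => h q.1 q.2)
  · intro h q hq
    haveI : Module.FaithfullyFlat (X.sectRing U) (A.total.sectRing U) := h
    exact Groth.Agent.Lib.Helper14.SchFinAff.faithfullyFlat_at
      (O := fun q : U => X.ring q.1) (A := fun q : U => A.carrier q.1)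
      (fun q => X.evalRing U q) (fun q => A.total.evalRing U q) (fun _ _ => rfl) ⟨q, hq⟩
      (Groth.Agent.Lib.Helper14.SchFinAff.alg_isBCAlong A U hUa hA ⟨q, hq⟩)

end Groth.Agent.S15619
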