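import Groth.Statements.S15621
import Mathlib
import Groth.Agent.Lib.Helper14.FEt9

set_option autoImplicit false
universe u
open SchFin SchFin.FEt
open TensorProduct

namespace Groth.Agent.S15621

open SchFin CategoryTheory CategoryTheory.Limits in
/-- For a schematic finite space, the category of étale covers (quasi-coherent algebras whose value at
every point is finite and étale over the ring of that point, with algebra maps compatible with
restriction as morphisms) has an initial object and has pushouts. (In the published statement these
are the initial object and the finite direct sums over a third object of that category, given by the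
rings themselves and by tensor products of algebras.) -/
theorem result (X : RSpace.{u}) (hX : X.IsSchematic) :
    HasInitial (FEt X) ∧ HasPushouts (FEt X) := by
  classical
  have hXf : X.IsFinSp := hX.1
  constructor
  · let I : FEt X := ⟨Alg.str X, Groth.Agent.Lib.Helper14.FEt.str_isEtCover X⟩
    have : ∀ A : FEt X, Unique (I ⟶ A) := fun A =>
      { default := ObjectProperty.homMk (Groth.Agent.Lib.Helper14.FEt.strDesc X A.obj)
        uniq := fun f => by
          apply ObjectProperty.hom_ext
          exact Groth.Agent.Lib.Helper14.FEt.strDesc_uniq X A.obj f.hom }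
    exact hasInitial_of_unique I
  · have : HasBinaryCoproducts (FEt X) := by
      have : ∀ {A B : FEt X}, HasColimit (pair A B) := by
        intro A B
        let P : FEt X := ⟨Groth.Agent.Lib.Helper14.FEt.tensAlg A.obj B.obj,
          Groth.Agent.Lib.Helper14.FEt.tensAlg_isEtCover A.obj B.obj A.property B.property⟩
        let inl : A ⟶ P := ObjectProperty.homMk (Groth.Agent.Lib.Helper14.FEt.tensInl A.obj B.obj)
        let inr : B ⟶ P := ObjectProperty.homMk (Groth.Agent.Lib.Helper14.FEt.tensInr A.obj B.obj)
        refine HasColimit.mk ⟨BinaryCofan.mk inl inr, BinaryCofan.isColimitMk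
          (fun s => ObjectProperty.homMk
            (Groth.Agent.Lib.Helper14.FEt.tensDesc (s.inl : A ⟶ s.pt).hom (s.inr : B ⟶ s.pt).hom))
          ?_ ?_ ?_⟩
        · intro s
          apply ObjectProperty.hom_ext
          apply SchFin.Alg.hom_ext
          intro p
          apply AlgHom.ext
          intro a
          refine (Groth.Agent.Lib.Helper14.FEt.tensDesc_tmul (s.inl : A ⟶ s.pt).hom
            (s.inr : B ⟶ s.pt).hom p a 1).trans ?_
          rw [map_one, mul_one]
          rfl
        · intro s
          apply ObjectProperty.hom_ext
          apply SchFin.Alg.hom_ext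
          intro p
          apply AlgHom.ext
          intro b
          refine (Groth.Agent.Lib.Helper14.FEt.tensDesc_tmul (s.inl : A ⟶ s.pt).hom
            (s.inr : B ⟶ s.pt).hom p 1 b).trans ?_
          rw [map_one, one_mul]
          rfl
        · intro s m h1 h2
          apply ObjectProperty.hom_ext
          apply SchFin.Alg.hom_ext
          intro p
          apply Algebra.TensorProduct.ext'
          intro a b
          refine Eq.trans ?_ (Groth.Agent.Lib.Helper14.FEt.tensDesc_tmul
            (s.inl : A ⟶ s.pt).hom (s.inr : B ⟶ s.pt).hom p a b).symm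
          have e1 : m.hom.app p (a ⊗ₜ 1) = (s.inl : A ⟶ s.pt).hom.app p a :=
            congrArg (fun k => k.hom.app p a) h1
          have e2 : m.hom.app p (1 ⊗ₜ b) = (s.inr : B ⟶ s.pt).hom.app p b :=
            congrArg (fun k => k.hom.app p b) h2
          have e3 : (a ⊗ₜ[X.ring p] b : A.obj.carrier p ⊗[X.ring p] B.obj.carrier p) =
              (a ⊗ₜ 1) * (1 ⊗ₜ b) := by
            rw [Algebra.TensorProduct.tmul_mul_tmul, mul_one, one_mul]
          calc m.hom.app p (a ⊗ₜ b) = m.hom.app p ((a ⊗ₜ 1) * (1 ⊗ₜ b)) := congrArg _ e3
            _ = m.hom.app p (a ⊗ₜ 1) * m.hom.app p (1 ⊗ₜ b) := map_mul _ _ _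
            _ = _ := by rw [e1, e2]
      exact hasBinaryCoproducts_of_hasColimit_pair _
    have : HasCoequalizers (FEt X) := by
      have : ∀ {C T : FEt X} {u v : C ⟶ T}, HasColimit (parallelPair u v) := by
        intro C T u v
        let Q : FEt X := ⟨Groth.Agent.Lib.Helper14.FEt.coeqAlg u.hom v.hom,
          Groth.Agent.Lib.Helper14.FEt.coeqAlg_isEtCover hXf C.property T.property u.hom v.hom⟩
        let π : T ⟶ Q := ObjectProperty.homMk (Groth.Agent.Lib.Helper14.FEt.coeqAlgProj u.hom v.hom)
        have hπ : u ≫ π = v ≫ π := by
          apply ObjectProperty.hom_ext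
          exact Groth.Agent.Lib.Helper14.FEt.coeqAlg_condition u.hom v.hom
        refine HasColimit.mk ⟨Cofork.ofπ π hπ, Cofork.IsColimit.mk _
          (fun s => ObjectProperty.homMk (Groth.Agent.Lib.Helper14.FEt.coeqAlgDesc u.hom v.hom
            s.π.hom (by
              have := s.condition
              exact congrArg (fun k => k.hom) this))) ?_ ?_⟩
        · intro s
          apply ObjectProperty.hom_ext
          exact Groth.Agent.Lib.Helper14.FEt.coeqAlgDesc_fac u.hom v.hom s.π.hom
            (congrArg (fun k => k.hom) s.condition)
        · intro s m hm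
          apply ObjectProperty.hom_ext
          apply SchFin.Alg.hom_ext
          intro p
          apply AlgHom.ext
          intro x
          obtain ⟨t, rfl⟩ := Groth.Agent.Lib.Helper14.FEt.coeqAlgProj_surjective u.hom v.hom p x
          exact congrArg (fun k => k.hom.app p t) hm
      exact hasCoequalizers_of_hasColimit_parallelPair _
    exact hasPushouts_of_hasBinaryCoproducts_of_hasCoequalizers _

end Groth.Agent.S15621
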