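import Groth.Statements.S15622
import Mathlib
import Groth.Agent.Lib.Helper14.FEt1

set_option autoImplicit false
universe u
open SchFin SchFin.FEt

namespace Groth.Agent.S15622

open SchFin CategoryTheory CategoryTheory.Limits in
/-- For a schematic finite space, the category of étale covers (quasi-coherent algebras whose value at
every point is finite and étale over the ring of that point) has a terminal object and has binary
products. (In the published statement: finite direct products, the terminal object being the zero
algebra.) -/
theorem result (X : RSpace.{u}) (hX : X.IsSchematic) :
    HasTerminal (FEt X) ∧ HasBinaryProducts (FEt X) := by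
  classical
  constructor
  · let T : FEt X := ⟨Groth.Agent.Lib.Helper14.FEt.zeroAlg X,
      Groth.Agent.Lib.Helper14.FEt.zeroAlg_isEtCover X⟩
    have : ∀ A : FEt X, Unique (A ⟶ T) := fun A =>
      { default := ObjectProperty.homMk
          ⟨fun p =>
            ({ toFun := fun _ => PUnit.unit
               map_one' := rfl
               map_mul' := fun _ _ => rfl
               map_zero' := rfl
               map_add' := fun _ _ => rfl
               commutes' := fun _ => rfl } : A.obj.carrier p →ₐ[X.ring p] PUnit.{u + 1}),
            fun _ _ => rfl⟩
        uniq := fun f => by
          apply ObjectProperty.hom_ext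
          apply SchFin.Alg.hom_ext
          intro p
          apply AlgHom.ext
          intro x
          exact Subsingleton.elim (α := PUnit.{u + 1}) _ _ }
    exact hasTerminal_of_unique T
  · haveI : ∀ {A B : FEt X}, HasLimit (pair A B) := by
      intro A B
      let F : WalkingPair → Alg X := fun j => WalkingPair.casesOn j A.obj B.obj
      have hF : ∀ j, (F j).IsEtCover := by
        intro j
        cases j
        · exact A.property
        · exact B.property
      let P : FEt X := ⟨Groth.Agent.Lib.Helper14.FEt.piAlg F,
        Groth.Agent.Lib.Helper14.FEt.piAlg_isEtCover F hF⟩
      let fst : P ⟶ A := ObjectProperty.homMk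
        (Groth.Agent.Lib.Helper14.FEt.piAlgProj F WalkingPair.left)
      let snd : P ⟶ B := ObjectProperty.homMk
        (Groth.Agent.Lib.Helper14.FEt.piAlgProj F WalkingPair.right)
      refine HasLimit.mk ⟨BinaryFan.mk fst snd, BinaryFan.isLimitMk
        (fun s => ObjectProperty.homMk (Groth.Agent.Lib.Helper14.FEt.piAlgLift F
          (fun j => WalkingPair.casesOn j s.fst.hom s.snd.hom))) ?_ ?_ ?_⟩
      · intro s
        apply ObjectProperty.hom_ext
        apply SchFin.Alg.hom_ext
        intro p
        apply AlgHom.ext
        intro x
        rfl
      · intro s
        apply ObjectProperty.hom_ext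
        apply SchFin.Alg.hom_ext
        intro p
        apply AlgHom.ext
        intro x
        rfl
      · intro s m h1 h2
        apply ObjectProperty.hom_ext
        apply SchFin.Alg.hom_ext
        intro p
        apply AlgHom.ext
        intro x
        funext j
        cases j
        · exact congrArg (fun k => (k.hom.app p) x) h1
        · exact congrArg (fun k => (k.hom.app p) x) h2
    exact hasBinaryProducts_of_hasLimit_pair _

end Groth.Agent.S15622
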