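import Groth.Statements.S15628
import Mathlib
import Groth.Agent.Lib.Helper14.FEt5

set_option autoImplicit false
universe u
open SchFin SchFin.FEt

namespace Groth.Agent.S15628

open SchFin CategoryTheory CategoryTheory.Limits in
/-- Over a schematic finite space, a morphism f from an étale cover A to an étale cover B which is
surjective at every point identifies B with a direct factor of A: there are an étale cover D and a
morphism from A to D which together with f exhibit A as the product of B and D in the category of
étale covers. (The published statement assumes f an epimorphism of étale covers and first shows that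
epimorphisms are exactly the pointwise surjective morphisms, a step resting on an extension result
for quasi-coherent modules recalled there without proof; this row takes f surjective at every
point.) -/
theorem result (X : RSpace.{u}) (hX : X.IsSchematic)
    {A B : FEt X} (f : A ⟶ B) (hf : ∀ p : X.pt, Function.Surjective (f.hom.app p)) :
    ∃ (D : FEt X) (π : A ⟶ D), Nonempty (IsLimit (BinaryFan.mk f π)) := by
  classical
  have hXf : X.IsFinSp := hX.1
  let D : FEt X := ⟨Groth.Agent.Lib.Helper14.FEt.compAlg hXf A.property.1 B.property.1 f.hom,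
    Groth.Agent.Lib.Helper14.FEt.compAlg_isEtCover hXf A.property B.property f.hom⟩
  let π : A ⟶ D := ObjectProperty.homMk
    (Groth.Agent.Lib.Helper14.FEt.compAlgProj hXf A.property.1 B.property.1 f.hom)
  have hbij : ∀ p, Function.Bijective ((f.hom.app p).prod (π.hom.app p)) := fun p =>
    Groth.Agent.Lib.Helper14.FEt.compAlg_bijective hXf A.property B.property f.hom p (hf p)
  let E : ∀ p, A.obj.carrier p ≃ₐ[X.ring p] (B.obj.carrier p × D.obj.carrier p) := fun p =>
    AlgEquiv.ofBijective ((f.hom.app p).prod (π.hom.app p)) (hbij p)
  have hE : ∀ p a, E p a = (f.hom.app p a, π.hom.app p a) := fun p a => rfl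
  refine ⟨D, π, ⟨BinaryFan.isLimitMk
    (fun s => ObjectProperty.homMk
      ⟨fun p => (E p).symm.toAlgHom.comp
        (((s.fst : s.pt ⟶ B).hom.app p).prod ((s.snd : s.pt ⟶ D).hom.app p)),
        ?_⟩) ?_ ?_ ?_⟩⟩
  · intro p q h t
    apply (hbij q).1
    change E q (A.obj.res h ((E p).symm (s.fst.hom.app p t, s.snd.hom.app p t))) =
      E q ((E q).symm (s.fst.hom.app q (s.pt.obj.res h t), s.snd.hom.app q (s.pt.obj.res h t)))
    rw [AlgEquiv.apply_symm_apply, hE, ← f.hom.compat h, ← π.hom.compat h]
    have h1 := hE p ((E p).symm (s.fst.hom.app p t, s.snd.hom.app p t))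
    rw [AlgEquiv.apply_symm_apply] at h1
    have h2 := congrArg Prod.fst h1
    have h3 := congrArg Prod.snd h1
    simp only at h2 h3
    rw [← h2, ← h3]
    exact Prod.ext ((s.fst : s.pt ⟶ B).hom.compat h t) ((s.snd : s.pt ⟶ D).hom.compat h t)
  · intro s
    apply ObjectProperty.hom_ext
    apply SchFin.Alg.hom_ext
    intro p
    apply AlgHom.ext
    intro t
    have h1 := hE p ((E p).symm (s.fst.hom.app p t, s.snd.hom.app p t))
    rw [AlgEquiv.apply_symm_apply] at h1
    exact (congrArg Prod.fst h1).symm
  · intro s
    apply ObjectProperty.hom_ext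
    apply SchFin.Alg.hom_ext
    intro p
    apply AlgHom.ext
    intro t
    have h1 := hE p ((E p).symm (s.fst.hom.app p t, s.snd.hom.app p t))
    rw [AlgEquiv.apply_symm_apply] at h1
    exact (congrArg Prod.snd h1).symm
  · intro s m h1 h2
    apply ObjectProperty.hom_ext
    apply SchFin.Alg.hom_ext
    intro p
    apply AlgHom.ext
    intro t
    apply (hbij p).1
    change E p (m.hom.app p t) = E p ((E p).symm (s.fst.hom.app p t, s.snd.hom.app p t))
    rw [AlgEquiv.apply_symm_apply, hE]
    refine Prod.ext ?_ ?_
    · exact congrArg (fun k => (k.hom.app p) t) h1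
    · exact congrArg (fun k => (k.hom.app p) t) h2

end Groth.Agent.S15628
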