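import Groth.Statements.S15626
import Mathlib
import Groth.Agent.Lib.Helper14.FEt1
import Groth.Agent.Lib.Helper14.FEt5
import Groth.Agent.S15625
import Groth.Agent.S15628

set_option autoImplicit false
universe u
open SchFin SchFin.FEt

namespace Groth.Agent.S15626

open SchFin CategoryTheory in
/-- Over a schematic finite space, a monomorphism in the category of étale covers is injective at every
point (the converse implication being elementary). -/
theorem result (X : RSpace.{u}) (hX : X.IsSchematic) {A B : FEt X} (f : A ⟶ B)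
    [Mono f] (p : X.pt) : Function.Injective (f.hom.app p) := by
  classical
  obtain ⟨Q, g, h, hgh, hg, hh⟩ := Groth.Agent.S15625.result X hX f
  obtain ⟨D, π, ⟨hlim⟩⟩ := Groth.Agent.S15628.result X hX g hg
  have : Mono g := by
    subst hgh
    exact mono_of_mono g h
  -- the concrete product of `A` and `D`
  let F : Limits.WalkingPair → Alg X := fun j => Limits.WalkingPair.casesOn j A.obj D.obj
  have hF : ∀ j, (F j).IsEtCover := by
    intro j
    cases j
    · exact A.property
    · exact D.property
  let T : FEt X := ⟨Groth.Agent.Lib.Helper14.FEt.piAlg F,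
    Groth.Agent.Lib.Helper14.FEt.piAlg_isEtCover F hF⟩
  let pA : T ⟶ A := ObjectProperty.homMk
    (Groth.Agent.Lib.Helper14.FEt.piAlgProj F Limits.WalkingPair.left)
  let pD : T ⟶ D := ObjectProperty.homMk
    (Groth.Agent.Lib.Helper14.FEt.piAlgProj F Limits.WalkingPair.right)
  let u : T ⟶ A := hlim.lift (Limits.BinaryFan.mk (pA ≫ g) (pA ≫ π))
  let v : T ⟶ A := hlim.lift (Limits.BinaryFan.mk (pA ≫ g) pD)
  have hu1 : u ≫ g = pA ≫ g := hlim.fac (Limits.BinaryFan.mk (pA ≫ g) (pA ≫ π)) ⟨Limits.WalkingPair.left⟩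
  have hu2 : u ≫ π = pA ≫ π := hlim.fac (Limits.BinaryFan.mk (pA ≫ g) (pA ≫ π)) ⟨Limits.WalkingPair.right⟩
  have hv1 : v ≫ g = pA ≫ g := hlim.fac (Limits.BinaryFan.mk (pA ≫ g) pD) ⟨Limits.WalkingPair.left⟩
  have hv2 : v ≫ π = pD := hlim.fac (Limits.BinaryFan.mk (pA ≫ g) pD) ⟨Limits.WalkingPair.right⟩
  have huv : u = v := (cancel_mono g).mp (hu1.trans hv1.symm)
  have hkey : pA ≫ π = pD := by rw [← hu2, huv, hv2]
  -- hence every `D_p` is trivial
  have hsub : ∀ q, Subsingleton (D.obj.carrier q) := by
    intro q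
    have h0 : ∀ d : D.obj.carrier q, d = 0 := by
      intro d
      let t : ∀ j, (F j).carrier q := fun j => Limits.WalkingPair.casesOn j (0 : A.obj.carrier q) d
      have h1 := congrArg (fun k => k.hom.app q t) hkey
      have h2 : π.hom.app q (0 : A.obj.carrier q) = d := h1
      rw [← h2, map_zero]
    exact ⟨fun a b => (h0 a).trans (h0 b).symm⟩
  -- so there is a morphism `Q ⟶ D`, and `g` is an isomorphism
  let z : Q ⟶ D := ObjectProperty.homMk
    ⟨fun q =>
      ({ toFun := fun _ => 0
         map_one' := (hsub q).elim _ _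
         map_mul' := fun _ _ => (hsub q).elim _ _
         map_zero' := rfl
         map_add' := fun _ _ => (hsub q).elim _ _
         commutes' := fun _ => (hsub q).elim _ _ } : Q.obj.carrier q →ₐ[X.ring q] D.obj.carrier q),
      fun {q q'} _ _ => (hsub q').elim _ _⟩
  let l : Q ⟶ A := hlim.lift (Limits.BinaryFan.mk (𝟙 Q) z)
  have hl1 : l ≫ g = 𝟙 Q := hlim.fac (Limits.BinaryFan.mk (𝟙 Q) z) ⟨Limits.WalkingPair.left⟩
  have hD : ∀ {W : FEt X} (a b : W ⟶ D), a = b := by
    intro W a b
    apply ObjectProperty.hom_ext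
    apply SchFin.Alg.hom_ext
    intro q
    apply AlgHom.ext
    intro x
    exact (hsub q).elim _ _
  have hgl : g ≫ l = 𝟙 A := by
    apply Limits.BinaryFan.IsLimit.hom_ext hlim
    · change (g ≫ l) ≫ g = 𝟙 A ≫ g
      rw [Category.assoc, hl1, Category.comp_id, Category.id_comp]
    · exact hD _ _
  have hginj : Function.Injective (g.hom.app p) := by
    intro a b hab
    have h1 := congrArg (fun k => k.hom.app p a) hgl
    have h2 := congrArg (fun k => k.hom.app p b) hgl
    have h1' : l.hom.app p (g.hom.app p a) = a := h1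
    have h2' : l.hom.app p (g.hom.app p b) = b := h2
    rw [← h1', ← h2', hab]
  subst hgh
  intro a b hab
  exact hginj (hh p hab)

end Groth.Agent.S15626
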