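import Groth.Statements.S15627
import Mathlib
import Groth.Agent.Lib.Helper14.Pt1
import Groth.Agent.S15614
import Groth.Agent.S15634

set_option autoImplicit false
universe u
open SchFin SchFin.GeomPt

namespace Groth.Agent.S15627

open SchFin in
/-- Let X be a schematic finite space and Ω an algebraically closed field. Given a pair (x, P) of a
point and a prime of its ring which is the maximal representative of its class (every related pair
sits at a point below x) and a ring map φ from the residue field of P to Ω, there is exactly one
geometric point of X with values in Ω that hits x and whose ring map from the ring of x to Ω is φ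
composed with the passage to the residue field. (The published statement is the resulting bijection
between geometric points with values in Ω and schematic points equipped with an embedding of their
residue field into Ω.) (The published statement does not carry the hypothesis that, for every two
points that lie above a common point and whose minimal open sets meet, the product of the rings over
the intersection of these minimal open sets is faithfully flat over the ring of sections on it; the
published proof obtains this fact from properties of affine schematic spaces recalled there without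
proof, and this row carries it explicitly.) -/
theorem result (X : RSpace.{u}) (hX : X.IsSchematic)
    (hff : ∀ s a b : X.pt, s ≤ a → s ≤ b → (X.up a ∩ X.up b).Nonempty →
      Module.FaithfullyFlat (X.sectRing (X.up a ∩ X.up b)) ((q : ↥(X.up a ∩ X.up b)) → X.ring q.1))
    (Ω : Type u) [Field Ω] [IsAlgClosed Ω] (a : X.Pair) (ha : ∀ b : X.Pair, X.PairRel a b → b.1 ≤ a.1)
    (φ : a.κ →+* Ω) :
    ∃! ξ : GeomPt X Ω, (⟨ξ.base, ξ.toField⟩ : Σ x : X.pt, (X.ring x →+* Ω)) =
      ⟨a.1, φ.comp (algebraMap (X.ring a.1) a.κ)⟩ := by
  classical
  have hXf : X.IsFinSp := hX.1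
  let ψ : X.ring a.1 →+* Ω := φ.comp (algebraMap (X.ring a.1) a.κ)
  have hkerψ : RingHom.ker ψ = a.2.asIdeal := by
    ext r
    rw [RingHom.mem_ker]
    change φ (algebraMap (X.ring a.1) a.κ r) = 0 ↔ _
    rw [map_eq_zero_iff φ φ.injective, Ideal.algebraMap_residueField_eq_zero]
  let f : Hom (RSpace.point Ω) X :=
    { fn := fun _ => a.1
      mono := fun _ _ _ => le_refl _
      app := fun _ => ψ
      compat := fun {q q'} h b => by
        change ψ b = ψ (X.res (le_refl a.1) b)
        rw [X.res_self] }
  have hf : f.IsSchematic := by
    refine ⟨⟨fun _ => inferInstanceAs (IsNoetherianRing Ω), fun p q h => RingHom.Flat.id Ω⟩, hXf,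
      fun n x x' hx y y' hy => ⟨?_, ?_⟩⟩
    · apply Groth.Agent.Lib.Helper14.Pt.isBCAlong_resH
      · intro _ T _ g₁ g₂ h
        exact h
      · intro q h0 hU' Q
        exfalso
        exact hU' x' ⟨le_refl _, h0.2⟩
    · apply Groth.Agent.Lib.Helper14.Pt.isBCAlong_resH
      · intro _ T _ g₁ g₂ h
        exact Groth.Agent.S15634.result X hX hy g₁ g₂ h
      · intro q h0 hU' Q hQ
        have hya : y ≤ a.1 := h0.2
        have hrel : X.PairRel a ⟨y', Q⟩ := by
          refine Groth.Agent.S15614.result X hX hff hya hy a.2 Q ?_
          apply PrimeSpectrum.ext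
          change Ideal.comap (X.res hya) a.2.asIdeal = Ideal.comap (X.res hy) Q.asIdeal
          rw [← hkerψ]
          exact hQ.symm
        have hle : y' ≤ a.1 := ha ⟨y', Q⟩ hrel
        exact hU' x ⟨le_refl _, hle⟩
  refine ⟨⟨f, hf⟩, rfl, ?_⟩
  intro ξ' hξ'
  obtain ⟨⟨fn', mono', app', compat'⟩, hs'⟩ := ξ'
  obtain ⟨h1, h2⟩ := Sigma.mk.inj_iff.mp hξ'
  have hfn : fn' = fun _ => a.1 := by
    funext q
    cases q
    exact h1
  subst hfn
  have happ : app' = fun _ => ψ := by
    funext q
    cases q
    exact eq_of_heq h2
  subst happ
  rfl

end Groth.Agent.S15627
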