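import Groth.Statements.S15629
import Mathlib
import Groth.Agent.Lib.Helper14.FEt13

set_option autoImplicit false
universe u
open SchFin SchFin.FEt

namespace Groth.Agent.S15629

open SchFin CategoryTheory CategoryTheory.Limits in
/-- Over a well-connected schematic finite space, the category of étale covers has, for every finite
group G, limits of diagrams indexed by the one-object category of G; that is, for every action of G
on an étale cover A there is an étale cover (the invariants of A, pointwise) through which exactly
the G-invariant morphisms into A factor. (The published statement speaks of contravariant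
categorical quotients by finite subgroups of the automorphism group; an action through a group
homomorphism has the same invariants as its image.) (This row carries as a hypothesis the local
triviality of étale covers — for every étale cover A there are a quasi-coherent algebra B, finite
and faithfully flat at every point, and a natural number n with B_p ⊗ A_p isomorphic to B_p^n as a
B_p-algebra at every point p — which holds for well-connected schematic spaces, the published proof
of that fact going by way of an equivalence of quasi-coherent modules along qc-isomorphisms recalled
without proof; the published statement does not carry it.) -/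
theorem result (X : RSpace.{u}) (hX : X.IsSchematic) (hwc : X.IsWellConnected)
    (hlt : ∀ A : FEt X, ∃ (B : Alg X) (n : ℕ), B.IsCovering ∧
      ∀ p : X.pt, Nonempty (TensorProduct (X.ring p) (B.carrier p) (A.obj.carrier p) ≃ₐ[B.carrier p] (Fin n → B.carrier p)))
    (G : Type u) [Group G] [Finite G] : HasLimitsOfShape (SingleObj G) (FEt X) := by
  refine ⟨fun F => ?_⟩
  let A : FEt X := F.obj (SingleObj.star G)
  let σ : G → (A.obj ⟶ A.obj) := fun g => (F.map (X := SingleObj.star G) (Y := SingleObj.star G) g).hom
  have hP : (Groth.Agent.Lib.Helper14.FEt.invAlg σ).IsEtCover :=
    Groth.Agent.Lib.Helper14.FEt.invAlg_isEtCover hX.1 A.property σ (hlt A)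
  let P : FEt X := ⟨Groth.Agent.Lib.Helper14.FEt.invAlg σ, hP⟩
  let incl : P ⟶ A := ObjectProperty.homMk (Groth.Agent.Lib.Helper14.FEt.invAlgIncl σ)
  have hincl : ∀ g : G, incl ≫ F.map (X := SingleObj.star G) (Y := SingleObj.star G) g = incl := by
    intro g
    apply ObjectProperty.hom_ext
    exact Groth.Agent.Lib.Helper14.FEt.invAlgIncl_comp σ g
  let c : Cone F :=
    { pt := P
      π :=
        { app := fun _ => incl
          naturality := fun j j' g => by
            change 𝟙 P ≫ incl = incl ≫ F.map g
            rw [Category.id_comp]
            exact (hincl g).symm } }
  have hs : ∀ (s : Cone F) (g : G), (s.π.app (SingleObj.star G)).hom ≫ σ g =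
      (s.π.app (SingleObj.star G)).hom := by
    intro s g
    have := s.π.naturality (X := SingleObj.star G) (Y := SingleObj.star G) g
    have h2 : s.π.app (SingleObj.star G) =
        s.π.app (SingleObj.star G) ≫ F.map (X := SingleObj.star G) (Y := SingleObj.star G) g := by
      rw [← this]
      exact (Category.id_comp _).symm
    exact (congrArg (fun k => k.hom) h2).symm
  refine HasLimit.mk ⟨c, ?_⟩
  refine
    { lift := fun s => ObjectProperty.homMk
        (Groth.Agent.Lib.Helper14.FEt.invAlgLift σ (s.π.app (SingleObj.star G)).hom (hs s))
      fac := fun s j => by
        apply ObjectProperty.hom_ext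
        exact Groth.Agent.Lib.Helper14.FEt.invAlgLift_fac σ _ (hs s)
      uniq := fun s m hm => by
        apply ObjectProperty.hom_ext
        apply SchFin.Alg.hom_ext
        intro p
        apply AlgHom.ext
        intro a
        apply Subtype.ext
        have := hm (SingleObj.star G)
        exact congrArg (fun k : s.pt ⟶ A => k.hom.app p a) this }

end Groth.Agent.S15629
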