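import Groth.Statements.S1563
import Mathlib
import Groth.Agent.S7606

set_option autoImplicit false
set_option linter.style.haveILetI false
universe u
open CategoryTheory CategoryTheory.Limits AlgebraicGeometry
open Variety

namespace Groth.Agent.S1563

open TensorProduct

attribute [local instance] Curv2.stalkAlgebra

/-- Base change of a faithfully flat map `A → B` of `k`-algebras along `k → T`. -/
theorem faithfullyFlat_map_right (k A B T : Type u) [CommRing k] [CommRing A] [CommRing B]
    [CommRing T] [Algebra k A] [Algebra k B] [Algebra A B] [IsScalarTower k A B]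
    [Module.FaithfullyFlat A B] [Algebra k T] :
    (Algebra.TensorProduct.map (IsScalarTower.toAlgHom k A B)
      (AlgHom.id k T)).toRingHom.FaithfullyFlat := by
  letI alg : Algebra (A ⊗[k] T) (B ⊗[k] T) :=
    (Algebra.TensorProduct.map (IsScalarTower.toAlgHom k A B) (AlgHom.id k T)).toRingHom.toAlgebra
  haveI tow : IsScalarTower A (A ⊗[k] T) (B ⊗[k] T) := IsScalarTower.of_algebraMap_eq fun b => by
    rw [RingHom.algebraMap_toAlgebra]
    simp [Algebra.TensorProduct.algebraMap_apply]
  have H : (algebraMap (A ⊗[k] T) (B ⊗[k] T)).comp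
      (Algebra.TensorProduct.includeRight : T →ₐ[k] A ⊗[k] T).toRingHom =
      (Algebra.TensorProduct.includeRight : T →ₐ[k] B ⊗[k] T).toRingHom := by
    ext t
    rw [RingHom.algebraMap_toAlgebra]
    simp
  haveI := @Algebra.IsPushout.tensorProduct_tensorProduct k T A B _ _ _ _ _ _ _ _ _ alg tow H
  have h := RingHom.FaithfullyFlat.isStableUnderBaseChange A B (A ⊗[k] T) (B ⊗[k] T)
    ((RingHom.faithfullyFlat_algebraMap_iff).2 inferInstance)
  rwa [RingHom.algebraMap_toAlgebra] at h

/-- geometric regularity descends along faithfully flat maps of `k`-algebras -/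
theorem geomRegular_descent (k A B : Type u) [Field k] [CommRing A] [CommRing B]
    [Algebra k A] [Algebra k B] [Algebra A B] [IsScalarTower k A B]
    [Module.FaithfullyFlat A B] (h : CAlg.IsGeometricallyRegular k B) :
    CAlg.IsGeometricallyRegular k A := by
  intro k' _ _ hfin
  have h1 : IsRegularRing (k' ⊗[k] B) := h k' hfin
  have h2 : IsRegularRing (B ⊗[k] k') :=
    IsRegularRing.of_ringEquiv (Algebra.TensorProduct.comm k k' B).toRingEquiv
  letI alg : Algebra (A ⊗[k] k') (B ⊗[k] k') :=
    (Algebra.TensorProduct.map (IsScalarTower.toAlgHom k A B) (AlgHom.id k k')).toRingHom.toAlgebra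
  haveI : Module.FaithfullyFlat (A ⊗[k] k') (B ⊗[k] k') :=
    (RingHom.faithfullyFlat_algebraMap_iff).1 (by
      rw [RingHom.algebraMap_toAlgebra]
      exact faithfullyFlat_map_right k A B k')
  have h3 : IsRegularRing (A ⊗[k] k') :=
    Groth.Agent.Lib.Helper24.GeomFG.geomStable_isRegularRing.desc (A ⊗[k] k') (B ⊗[k] k') h2
  exact IsRegularRing.of_ringEquiv (Algebra.TensorProduct.comm k A k').toRingEquiv

/-- Geometric regularity descends along a morphism f of locally Noetherian k-schemes which is flat at
the point x (the map of local rings at x is flat): if X has it at x then Y has it at f(x). -/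
theorem result (k : Type u) [Field k] (X Y : Scheme.{u}) [X.Over (Spec (CommRingCat.of k))] [Y.Over (Spec (CommRingCat.of k))]
    [IsLocallyNoetherian X] [IsLocallyNoetherian Y] (f : X ⟶ Y) (hf : f ≫ (Y ↘ (Spec (CommRingCat.of k))) = X ↘ (Spec (CommRingCat.of k)))
    (x : X) (hflat : (f.stalkMap x).hom.Flat) (hx : Curv2.IsGeomRegularAt k X x) :
    Curv2.IsGeomRegularAt k Y (f.base x) := by
  have h3 : CAlg.IsGeometricallyRegular k (X.presheaf.stalk x) :=
    (Groth.Agent.S7606.result k X x).2.1 ((Groth.Agent.S7606.result k X x).1.1 hx)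
  suffices hY : CAlg.IsGeometricallyRegular k (Y.presheaf.stalk (f.base x)) from
    (Groth.Agent.S7606.result k Y (f.base x)).1.2 ((Groth.Agent.S7606.result k Y (f.base x)).2.2 hY)
  letI algBA : Algebra (Y.presheaf.stalk (f.base x)) (X.presheaf.stalk x) :=
    (f.stalkMap x).hom.toAlgebra
  have hcomp : CommRingCat.ofHom (Curv2.stalkMap k X x) =
      CommRingCat.ofHom (Curv2.stalkMap k Y (f.base x)) ≫ f.stalkMap x := by
    apply Spec.map_injective
    rw [Spec.map_comp, ← Groth.Agent.Lib.helper3.StalkBC2.specMap_stalkMap k X x,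
      ← Groth.Agent.Lib.helper3.StalkBC2.specMap_stalkMap k Y (f.base x), ← hf,
      ← Category.assoc, ← Category.assoc, Scheme.SpecMap_stalkMap_fromSpecStalk]
  haveI : IsScalarTower k (Y.presheaf.stalk (f.base x)) (X.presheaf.stalk x) := by
    refine IsScalarTower.of_algebraMap_eq fun c => ?_
    have := congrArg (fun φ => φ.hom c) hcomp
    exact this
  haveI : Module.Flat (Y.presheaf.stalk (f.base x)) (X.presheaf.stalk x) := hflat
  haveI : IsLocalHom (algebraMap (Y.presheaf.stalk (f.base x)) (X.presheaf.stalk x)) := by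
    change IsLocalHom (f.stalkMap x).hom
    infer_instance
  haveI : Module.FaithfullyFlat (Y.presheaf.stalk (f.base x)) (X.presheaf.stalk x) :=
    Module.FaithfullyFlat.of_flat_of_isLocalHom
  exact geomRegular_descent k (Y.presheaf.stalk (f.base x)) (X.presheaf.stalk x) h3

end Groth.Agent.S1563
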