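import Groth.Statements.S15631
import Mathlib
import Groth.Agent.Lib.Helper14.FEt5
import Groth.Agent.Lib.Helper14.FEt6
import Groth.Agent.Lib.Helper14.FEt7

set_option autoImplicit false
universe u
open SchFin SchFin.GeomPt

namespace Groth.Agent.S15631

open SchFin CategoryTheory Groth.Agent.Lib.Helper14.FEt in
/-- a morphism of étale covers inducing a bijection on fibres is an isomorphism -/
theorem key (X : RSpace.{u}) (hX : X.IsSchematic)
    (hlt : ∀ A : FEt X, ∃ (B : Alg X) (n : ℕ), B.IsCovering ∧
      ∀ p : X.pt, Nonempty (TensorProduct (X.ring p) (B.carrier p) (A.obj.carrier p) ≃ₐ[B.carrier p] (Fin n → B.carrier p)))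
    {Ω : Type u} [Field Ω] [IsAlgClosed Ω] (ξ : GeomPt X Ω) {B' A' : FEt X} (φ : B' ⟶ A')
    (hbij : Function.Bijective (ξ.fibMap φ.hom)) : IsIso φ := by
  classical
  have hXf : X.IsFinSp := hX.1
  -- the image factorisation and the complementary factor
  let Q : FEt X := ⟨imgAlg φ.hom, imgAlg_isEtCover hXf B'.property A'.property φ.hom⟩
  let g : B' ⟶ Q := ObjectProperty.homMk (imgAlgProj φ.hom)
  let h : Q ⟶ A' := ObjectProperty.homMk (imgAlgIncl φ.hom)
  have hgh : g.hom ≫ h.hom = φ.hom := by
    apply SchFin.Alg.hom_ext
    intro p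
    apply AlgHom.ext
    intro x
    rfl
  have hgsurj : ∀ p, Function.Surjective (g.hom.app p) := fun p =>
    (φ.hom.app p).rangeRestrict_surjective
  have hhinj : ∀ p, Function.Injective (h.hom.app p) := fun p => Subtype.val_injective
  let D : FEt X := ⟨compAlg hXf B'.property.1 Q.property.1 g.hom,
    compAlg_isEtCover hXf B'.property Q.property g.hom⟩
  have hcrt : ∀ p, Function.Bijective
      ((g.hom.app p).prod ((compAlgProj hXf B'.property.1 Q.property.1 g.hom).app p)) := fun p =>
    compAlg_bijective hXf B'.property Q.property g.hom p (hgsurj p)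
  -- uniform ranks
  obtain ⟨CA, nA, hCA, hisoA⟩ := hlt A'
  obtain ⟨CQ, nQ, hCQ, hisoQ⟩ := hlt Q
  obtain ⟨CD, nD, hCD, hisoD⟩ := hlt D
  have hrA := rank_uniform A' CA nA hCA hisoA
  have hrQ := rank_uniform Q CQ nQ hCQ hisoQ
  have hrD := rank_uniform D CD nD hCD hisoD
  -- cardinalities of fibres
  have hcA : Nat.card (ξ.Fib A'.obj) = nA := by rw [card_fib, hrA]
  have hcQ : Nat.card (ξ.Fib Q.obj) = nQ := by rw [card_fib, hrQ]
  have hcB : Nat.card (ξ.Fib B'.obj) = nQ + nD := by
    rw [card_fib]
    have := hXf.1 ξ.base
    have := (Q.property.2 ξ.base).1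
    have := (Q.property.2 ξ.base).2
    have := (D.property.2 ξ.base).1
    have := (D.property.2 ξ.base).2
    let E : B'.obj.carrier ξ.base ≃ₐ[X.ring ξ.base] (Q.obj.carrier ξ.base × D.obj.carrier ξ.base) :=
      AlgEquiv.ofBijective _ (hcrt ξ.base)
    rw [Module.rankAtStalk_eq_of_equiv E.toLinearEquiv, Module.rankAtStalk_prod, Pi.add_apply,
      hrQ, hrD]
  -- the map of fibres factors
  have hfib : ξ.fibMap φ.hom = ξ.fibMap g.hom ∘ ξ.fibMap h.hom := by
    rw [← hgh, ξ.fibMap_comp]
  have hgs : Function.Surjective (ξ.fibMap g.hom) := by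
    have : Function.Surjective (ξ.fibMap g.hom ∘ ξ.fibMap h.hom) := hfib ▸ hbij.2
    exact this.of_comp
  have h1 : nQ + nD ≤ nQ := by
    rw [← hcB, ← hcQ]
    have hfin : Finite (ξ.Fib Q.obj) := SchFin.GeomPt.instFiniteFibObjAlgIsEtCover ξ Q
    exact Nat.card_le_card_of_surjective _ hgs
  have hnD : nD = 0 := by omega
  have h2 : nA = nQ + nD := by
    rw [← hcA, ← hcB]
    exact Nat.card_congr (Equiv.ofBijective _ hbij)
  have hnA : nA = nQ := by omega
  -- `D` vanishes, so `g` is injective at every point
  have hD : ∀ p, Subsingleton (D.obj.carrier p) := by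
    intro p
    have := (D.property.2 p).1
    have := (D.property.2 p).2
    apply (Module.rankAtStalk_eq_zero_iff_subsingleton (R := X.ring p)).mp
    funext P
    rw [hrD p P, hnD]
    rfl
  have hginj : ∀ p, Function.Injective (g.hom.app p) := by
    intro p a b hab
    apply (hcrt p).1
    exact Prod.ext hab ((hD p).elim _ _)
  apply isIso_of_bijective
  intro p
  have := hXf.1 p
  have := (Q.property.2 p).1
  have := (Q.property.2 p).2
  have := (A'.property.2 p).1
  have := (A'.property.2 p).2
  have hhbij : Function.Bijective (h.hom.app p) :=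
    bijective_of_injective_of_rank (R := X.ring p) (h.hom.app p) (hhinj p)
      (fun P => by rw [hrQ p P, hrA p P, hnA])
  have : (φ.hom.app p : B'.obj.carrier p → A'.obj.carrier p) = h.hom.app p ∘ g.hom.app p := by
    rw [← hgh]
    rfl
  rw [this]
  exact hhbij.comp ⟨hginj p, hgsurj p⟩

open SchFin CategoryTheory in
/-- For a well-connected schematic finite space and a geometric point with values in an algebraically
closed field, the fibre functor at that point (an étale cover A goes to the prime spectrum of Ω ⊗
A_x, x the point hit), on the opposite of the category of étale covers, reflects isomorphisms. (This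
row carries as a hypothesis the local triviality of étale covers — for every étale cover A there are
a quasi-coherent algebra B, finite and faithfully flat at every point, and a natural number n with
B_p ⊗ A_p isomorphic to B_p^n as a B_p-algebra at every point p — which holds for well-connected
schematic spaces, the published proof of that fact going by way of an equivalence of quasi-coherent
modules along qc-isomorphisms recalled without proof; the published statement does not carry it.) -/
theorem result (X : RSpace.{u}) (hX : X.IsSchematic)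
    (hwc : X.IsWellConnected)
    (hlt : ∀ A : FEt X, ∃ (B : Alg X) (n : ℕ), B.IsCovering ∧
      ∀ p : X.pt, Nonempty (TensorProduct (X.ring p) (B.carrier p) (A.obj.carrier p) ≃ₐ[B.carrier p] (Fin n → B.carrier p)))
    {Ω : Type u} [Field Ω] [IsAlgClosed Ω] (ξ : GeomPt X Ω) : ξ.fibFunctor.ReflectsIsomorphisms := by
  constructor
  intro A B f hf
  have hbij : Function.Bijective (ξ.fibMap f.unop.hom) := by
    let e := FintypeCat.equivEquivIso.symm (asIso (ξ.fibFunctor.map f))
    exact e.bijective
  have := key X hX hlt ξ f.unop hbij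
  exact (isIso_unop_iff f).mp this

end Groth.Agent.S15631
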