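import Groth.Statements.S15633
import Mathlib
import Groth.Agent.Lib.Helper14.FEt1
import Groth.Agent.Lib.Helper14.FEt6
import Groth.Agent.Lib.Helper14.FEt9
import Groth.Agent.Lib.Helper14.FEt10
import Groth.Agent.Lib.Helper14.FEt11
import Groth.Agent.S15621
import Groth.Agent.S15622
import Groth.Agent.S15626

set_option autoImplicit false
universe u
open SchFin SchFin.GeomPt

namespace Groth.Agent.S15633

open SchFin CategoryTheory CategoryTheory.Limits in
/-- For a schematic finite space and a geometric point with values in an algebraically closed field Ω,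
the fibre functor at that point, from the opposite of the category of étale covers to finite sets
(an étale cover A goes to the prime spectrum of Ω ⊗ A_x, x the point hit), preserves terminal
objects, pullbacks, finite coproducts and epimorphisms. (The published statement also includes
quotients by finite groups of automorphisms, whose existence rests on local triviality of étale
covers; that clause is part of the Galois-category row and is omitted here. The published statement
sits inside an argument for a well-connected space; these four clauses use no connectedness.) -/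
theorem result (X : RSpace.{u}) (hX : X.IsSchematic)
    {Ω : Type u} [Field Ω] [IsAlgClosed Ω] (ξ : GeomPt X Ω) :
    PreservesLimitsOfShape (Discrete PEmpty.{1}) ξ.fibFunctor ∧ PreservesLimitsOfShape WalkingCospan ξ.fibFunctor ∧
      PreservesFiniteCoproducts ξ.fibFunctor ∧ ξ.fibFunctor.PreservesEpimorphisms := by
  classical
  have hXf : X.IsFinSp := hX.1
  obtain ⟨hinit, hpush⟩ := Groth.Agent.S15621.result X hX
  obtain ⟨hterm, hbp⟩ := Groth.Agent.S15622.result X hX
  have hT : PreservesLimit (Functor.empty.{0} (FEt X)ᵒᵖ) ξ.fibFunctor :=
    Groth.Agent.Lib.Helper14.FEt.fib_preservesTerminal ξ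
  have hP : ∀ A B : (FEt X)ᵒᵖ, PreservesLimit (pair A B) ξ.fibFunctor :=
    Groth.Agent.Lib.Helper14.FEt.fib_preservesBinaryProduct ξ
  have hE : ∀ {A B : (FEt X)ᵒᵖ} (u v : A ⟶ B), PreservesLimit (parallelPair u v) ξ.fibFunctor :=
    fun u v => Groth.Agent.Lib.Helper14.FEt.fib_preservesEqualizer ξ hXf u v
  have hC : ∀ (n : ℕ) (f : Fin n → (FEt X)ᵒᵖ), PreservesColimit (Discrete.functor f) ξ.fibFunctor :=
    Groth.Agent.Lib.Helper14.FEt.fib_preservesCoproduct ξ
  have hEpi : ξ.fibFunctor.PreservesEpimorphisms := by
    constructor
    intro A B f hf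
    have hmono : Mono f.unop := unop_mono_of_epi f
    have hinj := Groth.Agent.S15626.result X hX f.unop ξ.base
    have hsurj := Groth.Agent.Lib.Helper14.FEt.fibMap_surjective_of_injective ξ hXf f.unop hinj
    exact ConcreteCategory.epi_of_surjective (ξ.fibFunctor.map f) hsurj
  have h1 : PreservesLimitsOfShape (Discrete PEmpty.{1}) ξ.fibFunctor :=
    preservesLimitsOfShape_pempty_of_preservesTerminal _
  have h2 : PreservesLimitsOfShape (Discrete WalkingPair) ξ.fibFunctor :=
    ⟨fun {K} => by
      have := hP (K.obj ⟨WalkingPair.left⟩) (K.obj ⟨WalkingPair.right⟩)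
      exact preservesLimit_of_iso_diagram ξ.fibFunctor (diagramIsoPair K).symm⟩
  have h3 : PreservesLimitsOfShape WalkingParallelPair ξ.fibFunctor :=
    ⟨fun {K} => by
      have := hE (K.map WalkingParallelPairHom.left) (K.map WalkingParallelPairHom.right)
      exact preservesLimit_of_iso_diagram ξ.fibFunctor (diagramIsoParallelPair K).symm⟩
  have hfc : HasFiniteColimits (FEt X) := hasFiniteColimits_of_hasInitial_and_pushouts
  have hfp : HasFiniteProducts (FEt X) := hasFiniteProducts_of_has_binary_and_terminal
  have h4 : PreservesFiniteProducts ξ.fibFunctor := .of_preserves_binary_and_terminal _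
  have h5 : PreservesFiniteLimits ξ.fibFunctor :=
    preservesFiniteLimits_of_preservesEqualizers_and_finiteProducts _
  refine ⟨h1, inferInstance, ⟨fun n => ⟨fun {K} => ?_⟩⟩, hEpi⟩
  let that : (Discrete.functor fun n => K.obj ⟨n⟩) ≅ K := Discrete.natIso fun ⟨i⟩ => Iso.refl _
  have := hC n fun n => K.obj ⟨n⟩
  exact preservesColimit_of_iso_diagram ξ.fibFunctor that

end Groth.Agent.S15633
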