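import Groth.Statements.S15632
import Mathlib
import Groth.Agent.Lib.Helper14.FEt15
import Groth.Agent.S15621
import Groth.Agent.S15622
import Groth.Agent.S15628
import Groth.Agent.S15631
import Groth.Agent.S15633

set_option autoImplicit false
universe u
open SchFin SchFin.GeomPt

namespace Groth.Agent.S15632

open SchFin CategoryTheory in
/-- For a well-connected schematic finite space and a geometric point with values in an algebraically
closed field, the opposite of the category of étale covers, with the fibre functor at that point (an
étale cover A goes to the prime spectrum of Ω ⊗ A_x, x the point hit), is a Galois category: a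
pre-Galois category for which that functor is a fibre functor. (The published statement assumes the
space only connected and reduces to the well-connected case through a pointwise construction and a
comparison of geometric points resting on a result recalled without proof; this row takes the space
well-connected. It carries two hypotheses the published statement does not: the local triviality of
étale covers — for every étale cover A, a quasi-coherent algebra B, finite and faithfully flat at
every point, and n with B_p ⊗ A_p isomorphic to B_p^n as B_p-algebras at every point — and the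
pointwise surjectivity of epimorphisms of étale covers; both hold for every such space, each being
proved in the published text by way of a result on quasi-coherent modules recalled without proof.) -/
theorem result (X : RSpace.{u}) (hX : X.IsSchematic)
    (hwc : X.IsWellConnected)
    (hlt : ∀ A : FEt X, ∃ (B : Alg X) (n : ℕ), B.IsCovering ∧
      ∀ p : X.pt, Nonempty (TensorProduct (X.ring p) (B.carrier p) (A.obj.carrier p) ≃ₐ[B.carrier p] (Fin n → B.carrier p)))
    (hepi : ∀ (A B : FEt X) (f : A ⟶ B), Epi f → ∀ p : X.pt, Function.Surjective (f.hom.app p))
    {Ω : Type u} [Field Ω] [IsAlgClosed Ω] (ξ : GeomPt X Ω) :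
    ∃ h : PreGaloisCategory (FEt X)ᵒᵖ, @PreGaloisCategory.FiberFunctor (FEt X)ᵒᵖ _ h ξ.fibFunctor := by
  have h1 := Groth.Agent.S15621.result X hX
  have h2 := Groth.Agent.S15622.result X hX
  have := h1.1
  have := h1.2
  have := h2.1
  have := h2.2
  have : Limits.HasFiniteProducts (FEt X) := CategoryTheory.hasFiniteProducts_of_has_binary_and_terminal
  have hquot : ∀ (G : Type u) [Group G] [Finite G] (F : SingleObj G ⥤ (FEt X)ᵒᵖ),
      ∃ c : Limits.Cocone F, Nonempty (Limits.IsColimit c) ∧
        Nonempty (Limits.IsColimit (ξ.fibFunctor.mapCocone c)) := fun G _ _ F =>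
    Groth.Agent.Lib.Helper14.FEt.exists_quotient_cocone ξ hX.1 hlt G F
  have hG : PreGaloisCategory (FEt X)ᵒᵖ :=
    { hasTerminal := inferInstance
      hasPullbacks := inferInstance
      hasFiniteCoproducts := inferInstance
      hasQuotientsByFiniteGroups := fun G _ _ => ⟨fun F => by
        obtain ⟨c, ⟨hc⟩, -⟩ := hquot G F
        exact Limits.HasColimit.mk ⟨c, hc⟩⟩
      monoInducesIsoOnDirectSummand := fun {Z Y} i _ => by
        have : Epi i.unop := unop_epi_of_mono i
        obtain ⟨D, π, ⟨hlim⟩⟩ := Groth.Agent.S15628.result X hX i.unop
          (hepi _ _ i.unop inferInstance)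
        refine ⟨Opposite.op D, π.op, ⟨?_⟩⟩
        refine Limits.BinaryCofan.IsColimit.mk _
          (fun {T} f g => (hlim.lift (Limits.BinaryFan.mk f.unop g.unop)).op) ?_ ?_ ?_
        · intro T f g
          apply Quiver.Hom.unop_inj
          exact hlim.fac (Limits.BinaryFan.mk f.unop g.unop) ⟨Limits.WalkingPair.left⟩
        · intro T f g
          apply Quiver.Hom.unop_inj
          exact hlim.fac (Limits.BinaryFan.mk f.unop g.unop) ⟨Limits.WalkingPair.right⟩
        · intro T f g m hm1 hm2
          apply Quiver.Hom.unop_inj
          refine Limits.BinaryFan.IsLimit.hom_ext hlim ?_ ?_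
          · refine Eq.trans ?_ (hlim.fac (Limits.BinaryFan.mk f.unop g.unop)
              ⟨Limits.WalkingPair.left⟩).symm
            exact congrArg Quiver.Hom.unop hm1
          · refine Eq.trans ?_ (hlim.fac (Limits.BinaryFan.mk f.unop g.unop)
              ⟨Limits.WalkingPair.right⟩).symm
            exact congrArg Quiver.Hom.unop hm2 }
  refine ⟨hG, ?_⟩
  obtain ⟨p1, p2, p3, p4⟩ := Groth.Agent.S15633.result X hX ξ
  exact
    { preservesTerminalObjects := p1
      preservesPullbacks := p2
      preservesFiniteCoproducts := p3
      preservesEpis := p4
      preservesQuotientsByFiniteGroups := fun G _ _ => ⟨fun {F} => by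
        obtain ⟨c, ⟨hc⟩, ⟨hc'⟩⟩ := hquot G F
        exact Limits.preservesColimit_of_preserves_colimit_cocone hc hc'⟩
      reflectsIsos := Groth.Agent.S15631.result X hX hwc hlt ξ }

end Groth.Agent.S15632
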