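import Groth.Statements.S1566
import Mathlib
import Groth.Agent.Lib.Lead.CurveInv
import Groth.Agent.Lib.Lead.ProperDim
import Groth.Agent.Lib.Helper16.QCohEpi
import Groth.Agent.Lib.Helper18.HHPush
import Groth.Agent.Lib.Helper18.HHConseq
import Groth.Agent.Lib.Helper11.AmpleInv

set_option autoImplicit false
universe u
open CategoryTheory CategoryTheory.Limits AlgebraicGeometry
open Curves

namespace Groth.Agent.S1566

open TopologicalSpace Opposite

/-- a dense open of a Noetherian space contains the generic points of the irreducible components -/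
lemma mem_of_dense_of_closure_mem {T : Type*} [TopologicalSpace T] [NoetherianSpace T]
    (U : Set T) (hUo : IsOpen U) (hUd : Dense U) (x : T)
    (hx : closure ({x} : Set T) ∈ irreducibleComponents T) : x ∈ U := by
  classical
  set Z := closure ({x} : Set T) with hZ
  have hfin : (irreducibleComponents T).Finite := NoetherianSpace.finite_irreducibleComponents
  have hfin' : (irreducibleComponents T \ {Z}).Finite := hfin.subset Set.sdiff_subset
  let R : Set T := ⋃₀ (irreducibleComponents T \ {Z})
  have hRc : IsClosed R := by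
    rw [show R = ⋃ s ∈ (irreducibleComponents T \ {Z}), s from Set.sUnion_eq_biUnion]
    exact Set.Finite.isClosed_biUnion hfin' (fun s hs => isClosed_of_mem_irreducibleComponents s hs.1)
  have hZR : ¬ Z ⊆ R := by
    intro h
    have hirr : IsIrreducible Z := hx.1
    obtain ⟨Z', hZ', hZZ'⟩ := (isIrreducible_iff_sUnion_isClosed.mp hirr) hfin'.toFinset
      (fun s hs => isClosed_of_mem_irreducibleComponents s (hfin'.mem_toFinset.mp hs).1)
      (by simpa using h)
    have hZ'mem := hfin'.mem_toFinset.mp hZ'
    have : Z' ⊆ Z := hx.2 hZ'mem.1.1 hZZ'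
    exact hZ'mem.2 (Set.Subset.antisymm this hZZ')
  obtain ⟨z, hzZ, hzR⟩ := Set.not_subset.mp hZR
  obtain ⟨y, hyR, hyU⟩ := hUd.inter_open_nonempty Rᶜ hRc.isOpen_compl (show (Rᶜ).Nonempty from ⟨z, hzR⟩)
  have hyZ : y ∈ Z := by
    have hy : y ∈ ⋃₀ irreducibleComponents T := by rw [sUnion_irreducibleComponents]; trivial
    obtain ⟨s, hs, hys⟩ := hy
    by_cases hsZ : s = Z
    · rw [← hsZ]; exact hys
    · have : y ∈ R := Set.mem_sUnion.mpr ⟨s, ⟨hs, hsZ⟩, hys⟩
      exact absurd this hyR
  obtain ⟨w, hwU, hw⟩ := mem_closure_iff.mp hyZ U hUo hyU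
  rw [Set.mem_singleton_iff] at hw
  rw [← hw]
  exact hwU

/-- if `η` restricts to an epimorphism on `U`, the cokernel of `η` has no sections on opens inside `U` -/
theorem sections_cokernel_subsingleton_of_epi_restrict {X : Scheme.{u}} {M N : X.Modules} (η : M ⟶ N)
    (U : X.Opens) (h : Epi ((Scheme.Modules.restrictFunctor U.ι).map η)) (O : X.Opens) (hO : O ≤ U) :
    Subsingleton Γ(cokernel η, O) := by
  let L := Scheme.Modules.restrictFunctor U.ι
  have hLC : IsZero (L.obj (cokernel η)) := by
    haveI : PreservesColimitsOfSize.{0, 0} L :=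
      (Scheme.Modules.restrictAdjunction U.ι).leftAdjoint_preservesColimits
    have e : L.obj (cokernel η) ≅ cokernel (L.map η) := PreservesCokernel.iso L η
    exact IsZero.of_iso (isZero_cokernel_of_epi (L.map η)) e
  have h1 : Subsingleton Γ(L.obj (cokernel η), U.ι ⁻¹ᵁ O) :=
    Groth.Agent.Lib.Lead.DimOneVanish.subsingleton_sections_of_isZero hLC _
  have hle : U.ι ''ᵁ (U.ι ⁻¹ᵁ O) ≤ O := U.ι.image_preimage_le O
  have hge : O ≤ U.ι ''ᵁ (U.ι ⁻¹ᵁ O) := fun x hx => ⟨⟨x, hO hx⟩, hx, rfl⟩
  haveI : Subsingleton ↑((cokernel η).presheaf.obj (op (U.ι ''ᵁ U.ι ⁻¹ᵁ O))) := h1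
  exact (Groth.Agent.Lib.Lead.DimOneVanish.res_injective_of_le_of_ge (cokernel η) hle hge).subsingleton

lemma epi_restrict_unitToPush {X Y : Scheme.{u}} (f : Y ⟶ X) (U : X.Opens)
    (hfU : IsClosedImmersion (f ∣_ U)) :
    Epi ((Scheme.Modules.restrictFunctor U.ι).map (ClSub.unitToPush f)) := by
  refine Groth.Agent.Lib.helper16.QCohEpi.epi_of_surjective_on_basis _ (U.toScheme.affineOpens)
    (U.toScheme.isBasis_affineOpens) ?_
  intro D hD
  have h1 : Function.Surjective ((f ∣_ U).app D) := Scheme.Hom.app_surjective (f ∣_ U) D hD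
  rw [morphismRestrict_app] at h1
  have h2 : Function.Surjective (f.app (U.ι ''ᵁ D)).hom := by
    intro y
    obtain ⟨x, hx⟩ := h1 ((Y.presheaf.map (eqToHom (image_morphismRestrict_preimage f U D)).op).hom y)
    refine ⟨x, ?_⟩
    have hinj : Function.Injective
        (Y.presheaf.map (eqToHom (image_morphismRestrict_preimage f U D)).op).hom := by
      have : IsIso (Y.presheaf.map (eqToHom (image_morphismRestrict_preimage f U D)).op) :=
        inferInstance
      exact ((ConcreteCategory.isIso_iff_bijective _).mp this).1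
    apply hinj
    exact hx
  exact h2

/-- Let X be proper of dimension at most one over k and f : Y → X a finite morphism which is a closed
immersion over a dense open of X. Then the k-dimension of H^1 of the structure sheaf of Y is at most
that of X. -/
theorem result (k : Type u) [Field k] (X Y : Scheme.{u}) [X.Over (Spec (CommRingCat.of k))] [Y.Over (Spec (CommRingCat.of k))]
    [IsProper (X ↘ (Spec (CommRingCat.of k)))] (hdim : topologicalKrullDim X ≤ 1) (f : Y ⟶ X) [IsFinite f] (hf : f ≫ (X ↘ (Spec (CommRingCat.of k))) = Y ↘ (Spec (CommRingCat.of k)))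
    (U : X.Opens) (hU : Dense (U : Set X)) (hfU : IsClosedImmersion (f ∣_ U)) :
    Curv2.genus k Y ≤ Curv2.genus k X := by
  haveI := Groth.Agent.Lib.Lead.CurveEuler.isNoetherian k X
  let u := ClSub.unitToPush f
  have hQ : Subsingleton (Coh.HH X (cokernel u) 1) := by
    refine Groth.Agent.Lib.Lead.DimOneVanish.subsingleton_HH_of_sections_vanish (cokernel u) U ?_ ?_ 0
    · intro x hx
      apply Groth.Agent.Lib.Lead.DimOneAffine.isClosed_singleton_of_dim_le_one X hdim x
      intro hgen
      exact hx (mem_of_dense_of_closure_mem (U : Set X) U.isOpen hU x hgen)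
    · intro O hO
      exact sections_cokernel_subsingleton_of_epi_restrict u U (epi_restrict_unitToPush f U hfU) O hO
  let S2 : ShortComplex X.Modules :=
    ShortComplex.mk (Abelian.image.ι u) (cokernel.π u) (kernel.condition _)
  have hS2 : S2.ShortExact :=
    { exact := ShortComplex.exact_of_f_is_kernel _ (kernelIsKernel (cokernel.π u))
      mono_f := inferInstanceAs (Mono (kernel.ι (cokernel.π u)))
      epi_g := inferInstanceAs (Epi (cokernel.π u)) }
  have hsurj2 : Function.Surjective (Groth.Agent.Lib.Helper18.HH.map (Abelian.image.ι u) 1) :=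
    Groth.Agent.Lib.Helper18.HH.surjective_map_f hS2 1 hQ
  let p := Abelian.factorThruImage u
  let S1 : ShortComplex X.Modules := ShortComplex.mk (kernel.ι p) p (kernel.condition p)
  have hS1 : S1.ShortExact :=
    { exact := ShortComplex.exact_of_f_is_kernel _ (kernelIsKernel p)
      mono_f := inferInstanceAs (Mono (kernel.ι p))
      epi_g := inferInstanceAs (Epi (Abelian.factorThruImage u)) }
  have hK : Subsingleton (Coh.HH X (kernel p) 2) :=
    Groth.Agent.Lib.Lead.ProperDim.subsingleton_HH k X 1 hdim _ 2 (by norm_num)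
  have hsurj1 : Function.Surjective (Groth.Agent.Lib.Helper18.HH.map p 1) :=
    Groth.Agent.Lib.Helper18.HH.surjective_map_g hS1 1 hK
  have hsurj : Function.Surjective (Groth.Agent.Lib.Helper18.HH.mapOver k u 1) := by
    have hu : u = p ≫ Abelian.image.ι u := (Abelian.image.fac u).symm
    intro y
    obtain ⟨z, hz⟩ := hsurj2 y
    obtain ⟨w, hw⟩ := hsurj1 z
    refine ⟨w, ?_⟩
    change Groth.Agent.Lib.Helper18.HH.map u 1 w = y
    rw [hu, Groth.Agent.Lib.Helper18.HH.map_comp_apply, hw, hz]
  haveI : f.IsOver (Spec (CommRingCat.of k)) := ⟨hf⟩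
  haveI : (Coh.structureModule Y).IsQuasicoherent :=
    (Groth.Agent.Lib.helper11.AmpleInv.isCoh_structureModule Y).1
  haveI : Module.Finite k (Coh.HH X (Coh.structureModule X) 1) :=
    Groth.Agent.Lib.Lead.ProperEuler.finite_HH k X _
      (Groth.Agent.Lib.helper11.AmpleInv.isCoh_structureModule X) 1
  unfold Curv2.genus
  rw [← Groth.Agent.Lib.Helper18.HH.finrank_push f (Coh.structureModule Y) k 1]
  exact LinearMap.finrank_le_finrank_of_surjective hsurj

end Groth.Agent.S1566
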