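import Groth.Statements.S15678
import Mathlib
import Groth.Agent.Lib.Helper19.GrReg5

set_option autoImplicit false
universe u
open GrSyz

namespace Groth.Agent.S15678

-- MARK


/-- Let k be an algebraically closed field of characteristic zero (the published statement is over the
complex numbers; this row allows any algebraically closed field of characteristic zero), S = k[x_0,
…, x_n] graded by degree with irrelevant ideal 𝔪 = (x_0, …, x_n), and 0 → M₁ → M₂ → M₃ → 0 a short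
exact sequence of finitely generated ℤ-graded S-modules: f : M₁ → M₂ and g : M₂ → M₃ are S-linear
and degree-preserving, f is injective, g is surjective and the image of f is the kernel of g. Write
reg M ≤ r when M admits a graded free resolution by finite-rank free modules, minimal with respect
to 𝔪, whose i-th term is generated in degrees at most r + i for every i (Castelnuovo–Mumford
regularity via the minimal graded free resolution). Then for every integer r: (1) if reg M₂ ≤ r and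
reg M₃ ≤ r - 1 then reg M₁ ≤ r; (2) if reg M₁ ≤ r and reg M₃ ≤ r then reg M₂ ≤ r; (3) if reg M₁ ≤ r
+ 1 and reg M₂ ≤ r then reg M₃ ≤ r. In words: reg M₁ ≤ max(reg M₂, reg M₃ + 1), reg M₂ ≤ max(reg M₁,
reg M₃) and reg M₃ ≤ max(reg M₁ - 1, reg M₂). -/
theorem result (k : Type u) [Field k] [IsAlgClosed k] [CharZero k] (n : ℕ)
    (M₁ : Type u) [AddCommGroup M₁] [Module k M₁] [Module (MvPolynomial (Fin (n + 1)) k) M₁]
    [IsScalarTower k (MvPolynomial (Fin (n + 1)) k) M₁] [Module.Finite (MvPolynomial (Fin (n + 1)) k) M₁]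
    (ℳ₁ : ℤ → Submodule k M₁) [DirectSum.Decomposition ℳ₁] [SetLike.GradedSMul (GrSyz.stdGr k (Fin (n + 1))) ℳ₁]
    (M₂ : Type u) [AddCommGroup M₂] [Module k M₂] [Module (MvPolynomial (Fin (n + 1)) k) M₂]
    [IsScalarTower k (MvPolynomial (Fin (n + 1)) k) M₂] [Module.Finite (MvPolynomial (Fin (n + 1)) k) M₂]
    (ℳ₂ : ℤ → Submodule k M₂) [DirectSum.Decomposition ℳ₂] [SetLike.GradedSMul (GrSyz.stdGr k (Fin (n + 1))) ℳ₂]
    (M₃ : Type u) [AddCommGroup M₃] [Module k M₃] [Module (MvPolynomial (Fin (n + 1)) k) M₃]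
    [IsScalarTower k (MvPolynomial (Fin (n + 1)) k) M₃] [Module.Finite (MvPolynomial (Fin (n + 1)) k) M₃]
    (ℳ₃ : ℤ → Submodule k M₃) [DirectSum.Decomposition ℳ₃] [SetLike.GradedSMul (GrSyz.stdGr k (Fin (n + 1))) ℳ₃]
    (f : M₁ →ₗ[MvPolynomial (Fin (n + 1)) k] M₂) (g : M₂ →ₗ[MvPolynomial (Fin (n + 1)) k] M₃)
    (hf : Function.Injective f) (hg : Function.Surjective g) (hfg : LinearMap.range f = LinearMap.ker g)
    (hfgr : GrLC.IsGrHom ℳ₁ ℳ₂ f) (hggr : GrLC.IsGrHom ℳ₂ ℳ₃ g) (r : ℤ) :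
    (GrSyz.IsRegLE (GrSyz.stdGr k (Fin (n + 1))) ℳ₂ (GrSyz.irrel (GrSyz.stdGr k (Fin (n + 1)))).toIdeal r → GrSyz.IsRegLE (GrSyz.stdGr k (Fin (n + 1))) ℳ₃ (GrSyz.irrel (GrSyz.stdGr k (Fin (n + 1)))).toIdeal (r - 1) →
        GrSyz.IsRegLE (GrSyz.stdGr k (Fin (n + 1))) ℳ₁ (GrSyz.irrel (GrSyz.stdGr k (Fin (n + 1)))).toIdeal r) ∧
    (GrSyz.IsRegLE (GrSyz.stdGr k (Fin (n + 1))) ℳ₁ (GrSyz.irrel (GrSyz.stdGr k (Fin (n + 1)))).toIdeal r → GrSyz.IsRegLE (GrSyz.stdGr k (Fin (n + 1))) ℳ₃ (GrSyz.irrel (GrSyz.stdGr k (Fin (n + 1)))).toIdeal r →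
        GrSyz.IsRegLE (GrSyz.stdGr k (Fin (n + 1))) ℳ₂ (GrSyz.irrel (GrSyz.stdGr k (Fin (n + 1)))).toIdeal r) ∧
    (GrSyz.IsRegLE (GrSyz.stdGr k (Fin (n + 1))) ℳ₁ (GrSyz.irrel (GrSyz.stdGr k (Fin (n + 1)))).toIdeal (r + 1) → GrSyz.IsRegLE (GrSyz.stdGr k (Fin (n + 1))) ℳ₂ (GrSyz.irrel (GrSyz.stdGr k (Fin (n + 1)))).toIdeal r →
        GrSyz.IsRegLE (GrSyz.stdGr k (Fin (n + 1))) ℳ₃ (GrSyz.irrel (GrSyz.stdGr k (Fin (n + 1)))).toIdeal r) := by
  classical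
  have hex : LinearMap.ker g = LinearMap.range f := hfg.symm
  have hfgr' : GrLC.IsGrHom (Groth.Agent.Lib.helper19.GrConv.addGr ℳ₁)
    (Groth.Agent.Lib.helper19.GrConv.addGr ℳ₂) f := hfgr
  have hggr' : GrLC.IsGrHom (Groth.Agent.Lib.helper19.GrConv.addGr ℳ₂)
    (Groth.Agent.Lib.helper19.GrConv.addGr ℳ₃) g := hggr
  rw [Groth.Agent.Lib.helper19.GrReg.isRegLE_iff_lcreg k n M₁ ℳ₁ r,
    Groth.Agent.Lib.helper19.GrReg.isRegLE_iff_lcreg k n M₂ ℳ₂ r,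
    Groth.Agent.Lib.helper19.GrReg.isRegLE_iff_lcreg k n M₃ ℳ₃ r,
    Groth.Agent.Lib.helper19.GrReg.isRegLE_iff_lcreg k n M₃ ℳ₃ (r - 1),
    Groth.Agent.Lib.helper19.GrReg.isRegLE_iff_lcreg k n M₁ ℳ₁ (r + 1)]
  refine ⟨?_, ?_, ?_⟩
  · intro h2 h3 E₁ j c hc
    obtain ⟨E₂⟩ := Groth.Agent.S13215.result (MvPolynomial (Fin (n + 1)) k)
      (Groth.Agent.Lib.helper19.GrPoly.gr k (n + 1)) M₂ (Groth.Agent.Lib.helper19.GrConv.addGr ℳ₂)
    obtain ⟨E₃⟩ := Groth.Agent.S13215.result (MvPolynomial (Fin (n + 1)) k)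
      (Groth.Agent.Lib.helper19.GrPoly.gr k (n + 1)) M₃ (Groth.Agent.Lib.helper19.GrConv.addGr ℳ₃)
    cases j with
    | zero =>
      exact Groth.Agent.Lib.helper19.GrReg.ses_left_zero f g hfgr' hggr' hf hg hex E₁ E₂ _ c (h2 E₂ 0 c hc)
    | succ j =>
      exact Groth.Agent.Lib.helper19.GrReg.ses_left f g hfgr' hggr' hf hg hex E₁ E₂ E₃ _ j c
        (h3 E₃ j c (by push_cast at hc ⊢; omega)) (h2 E₂ (j + 1) c hc)
  · intro h1 h3 E₂ j c hc
    obtain ⟨E₁⟩ := Groth.Agent.S13215.result (MvPolynomial (Fin (n + 1)) k)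
      (Groth.Agent.Lib.helper19.GrPoly.gr k (n + 1)) M₁ (Groth.Agent.Lib.helper19.GrConv.addGr ℳ₁)
    obtain ⟨E₃⟩ := Groth.Agent.S13215.result (MvPolynomial (Fin (n + 1)) k)
      (Groth.Agent.Lib.helper19.GrPoly.gr k (n + 1)) M₃ (Groth.Agent.Lib.helper19.GrConv.addGr ℳ₃)
    exact Groth.Agent.Lib.helper19.GrReg.ses_mid f g hfgr' hggr' hf hg hex E₁ E₂ E₃ _ j c
      (h1 E₁ j c hc) (h3 E₃ j c hc)
  · intro h1 h2 E₃ j c hc
    obtain ⟨E₁⟩ := Groth.Agent.S13215.result (MvPolynomial (Fin (n + 1)) k)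
      (Groth.Agent.Lib.helper19.GrPoly.gr k (n + 1)) M₁ (Groth.Agent.Lib.helper19.GrConv.addGr ℳ₁)
    obtain ⟨E₂⟩ := Groth.Agent.S13215.result (MvPolynomial (Fin (n + 1)) k)
      (Groth.Agent.Lib.helper19.GrPoly.gr k (n + 1)) M₂ (Groth.Agent.Lib.helper19.GrConv.addGr ℳ₂)
    exact Groth.Agent.Lib.helper19.GrReg.ses_right f g hfgr' hggr' hf hg hex E₁ E₂ E₃ _ j c
      (h2 E₂ j c hc) (h1 E₁ (j + 1) c (by push_cast at hc ⊢; omega))

end Groth.Agent.S15678
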