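import Groth.Statements.S15701
import Mathlib

set_option autoImplicit false
universe u
open CategoryTheory AlgebraicGeometry
open RatVar

namespace Groth.Agent.S15701

/-- A faithful action of a finite group on a geometrically integral variety is almost free. Here k is a
field of characteristic zero, X is an integral separated scheme of finite type over k, and the
finite group G acts on X by k-automorphisms through an injective homomorphism to Aut X; the
conclusion is a non-empty G-stable open subscheme U of X such that for every field K and every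
morphism Spec K → X whose image lies in U, an element of G fixing that K-point is the identity. (X
is taken separated: for the affine line with a doubled origin and the involution exchanging the two
origins the action is faithful while every point off the origins is fixed, so no such U exists;
integrality replaces geometric integrality, which is all the codimension argument uses.) -/
theorem result (k : Type u) [Field k] [CharZero k]
    (X : Scheme.{u}) (f : X ⟶ Spec (CommRingCat.of k)) [IsIntegral X] [LocallyOfFiniteType f]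
    [QuasiCompact f] [IsSeparated f]
    (G : Type u) [Group G] [Finite G] (ρ : G →* Aut X)
    (hρ : ∀ g : G, (ρ g).hom ≫ f = f) (hfaith : Function.Injective ρ) :
    ∃ U : X.Opens, (U : Set X).Nonempty ∧ (∀ g : G, (ρ g).hom ⁻¹ᵁ U = U) ∧
      ∀ (K : Type u) [Field K] (x : Spec (CommRingCat.of K) ⟶ X),
        Set.range x.base ⊆ (U : Set X) → ∀ g : G, x ≫ (ρ g).hom = x → g = 1 := by
  classical
  let F : G → Set X := fun g => Set.range (Limits.equalizer.ι (ρ g).hom (𝟙 X))
  have hmul : ∀ a b : G, (ρ (a * b)).hom = (ρ b).hom ≫ (ρ a).hom := by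
    intro a b; rw [map_mul]; rfl
  have hone : (ρ 1).hom = 𝟙 X := by rw [map_one]; rfl
  have hpt : ∀ (g : G) {T : Scheme.{u}} (p : T ⟶ X), p ≫ (ρ g).hom = p →
      Set.range p ⊆ F g := by
    intro g T p hp
    rintro _ ⟨t, rfl⟩
    refine ⟨(Limits.equalizer.lift p (by rw [hp, Category.comp_id])) t, ?_⟩
    rw [← Scheme.Hom.comp_apply, Limits.equalizer.lift_ι]
  have hnd : ∀ g : G, g ≠ 1 → ¬ Dense (F g) := by
    intro g hg hd
    apply hg
    apply hfaith
    rw [map_one]
    have hdom : IsDominant (Limits.equalizer.ι (ρ g).hom (𝟙 X)) := ⟨hd⟩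
    have h1 : (ρ g).hom = 𝟙 X :=
      ext_of_isDominant_of_isSeparated f (by rw [hρ g, Category.id_comp])
        (Limits.equalizer.ι (ρ g).hom (𝟙 X)) (Limits.equalizer.condition _ _)
    exact Iso.ext h1
  have htr : ∀ (h g : G) (x : X), x ∈ closure (F g) →
      (ρ h).hom x ∈ closure (F (h * g * h⁻¹)) := by
    intro h g x hx
    have hsub : (ρ h).hom '' (F g) ⊆ F (h * g * h⁻¹) := by
      rintro _ ⟨_, ⟨e, rfl⟩, rfl⟩
      have h2 := hpt (h * g * h⁻¹) (Limits.equalizer.ι (ρ g).hom (𝟙 X) ≫ (ρ h).hom) (by
        rw [Category.assoc, ← hmul, show h * g * h⁻¹ * h = h * g by group, hmul,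
          ← Category.assoc, Limits.equalizer.condition, Category.comp_id])
      exact h2 ⟨e, by rw [Scheme.Hom.comp_apply]⟩
    exact closure_mono hsub
      (image_closure_subset_closure_image (ρ h).hom.continuous ⟨x, hx, rfl⟩)
  let Z : Set X := ⋃ g ∈ {g : G | g ≠ 1}, closure (F g)
  have hZc : IsClosed Z := (Set.toFinite _).isClosed_biUnion (fun g _ => isClosed_closure)
  have hZmem : ∀ x : X, x ∈ Z ↔ ∃ g : G, g ≠ 1 ∧ x ∈ closure (F g) := by
    intro x
    simp only [Z, Set.mem_iUnion, Set.mem_ofPred_eq, exists_prop]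
  refine ⟨⟨Zᶜ, hZc.isOpen_compl⟩, ?_, ?_, ?_⟩
  · -- nonempty
    by_contra hemp
    have hZuniv : Z = Set.univ := by
      rw [Set.not_nonempty_iff_eq_empty] at hemp
      have : Zᶜ = ∅ := hemp
      rwa [Set.compl_empty_iff] at this
    haveI : Fintype G := Fintype.ofFinite G
    have hirr : IsIrreducible (Set.univ : Set X) := IrreducibleSpace.isIrreducible_univ X
    rw [isIrreducible_iff_sUnion_isClosed] at hirr
    obtain ⟨z, hz, hzu⟩ := hirr ((Finset.univ.filter (fun g : G => g ≠ 1)).image
      (fun g => closure (F g))) (by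
        intro z hz
        obtain ⟨g, -, rfl⟩ := Finset.mem_image.mp hz
        exact isClosed_closure) (by
        intro x _
        have hx : x ∈ Z := hZuniv ▸ Set.mem_univ x
        obtain ⟨g, hg, hxg⟩ := (hZmem x).mp hx
        exact Set.mem_sUnion.mpr ⟨closure (F g), Finset.mem_coe.mpr (Finset.mem_image.mpr
          ⟨g, Finset.mem_filter.mpr ⟨Finset.mem_univ g, hg⟩, rfl⟩), hxg⟩)
    obtain ⟨g, hg, rfl⟩ := Finset.mem_image.mp hz
    have hg1 : g ≠ 1 := (Finset.mem_filter.mp hg).2
    exact hnd g hg1 (dense_iff_closure_eq.mpr (Set.univ_subset_iff.mp hzu))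
  · -- stability
    intro h
    ext x
    show (ρ h).hom x ∈ Zᶜ ↔ x ∈ Zᶜ
    rw [Set.mem_compl_iff, Set.mem_compl_iff, not_iff_not, hZmem, hZmem]
    constructor
    · rintro ⟨g, hg, hx⟩
      refine ⟨h⁻¹ * g * h⁻¹⁻¹, ?_, ?_⟩
      · intro h1
        apply hg
        have : g = h * (h⁻¹ * g * h⁻¹⁻¹) * h⁻¹ := by group
        rw [this, h1]; group
      · have h3 := htr h⁻¹ g _ hx
        have h4 : (ρ h⁻¹).hom ((ρ h).hom x) = x := by
          rw [← Scheme.Hom.comp_apply, ← hmul, inv_mul_cancel, hone]
          rfl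
        rwa [h4] at h3
    · rintro ⟨g, hg, hx⟩
      refine ⟨h * g * h⁻¹, ?_, htr h g x hx⟩
      intro h1
      apply hg
      have : g = h⁻¹ * (h * g * h⁻¹) * h := by group
      rw [this, h1]; group
  · intro K _ x hx g hxg
    by_contra hg
    have h1 := hpt g x hxg
    obtain ⟨pt⟩ : Nonempty (Spec (CommRingCat.of K)) := inferInstance
    have h2 : x pt ∈ Z := (hZmem _).mpr ⟨g, hg, subset_closure (h1 ⟨pt, rfl⟩)⟩
    exact hx ⟨pt, rfl⟩ h2

end Groth.Agent.S15701
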