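import Groth.Statements.S15706
import Mathlib

set_option autoImplicit false
universe u
open CAlg

namespace Groth.Agent.S15706

theorem exists_add_notMem_minimalPrimes (A : Type u) [CommRing A] [IsNoetherianRing A]
    (I : Ideal A) (a₀ : A) (h : ∀ p ∈ minimalPrimes A, a₀ ∈ p → ¬ I ≤ p) :
    ∃ x ∈ I, ∀ p ∈ minimalPrimes A, a₀ + x ∉ p := by
  classical
  have hfin := minimalPrimes.finite_of_isNoetherianRing A
  set P := hfin.toFinset with hP
  have hPmem : ∀ p, p ∈ P ↔ p ∈ minimalPrimes A := fun p => Set.Finite.mem_toFinset hfin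
  set T := P.filter (fun p => a₀ ∈ p) with hT
  set T' := P.filter (fun p => a₀ ∉ p) with hT'
  let K : Ideal A := I ⊓ T'.inf id
  have hK : ¬ ((K : Set A) ⊆ ⋃ p ∈ (T : Set (Ideal A)), ((id p : Ideal A) : Set A)) := by
    rw [Ideal.subset_union_prime ⊥ ⊥ (fun p hp _ _ => by
      have := (hPmem p).mp (Finset.mem_filter.mp hp).1
      exact this.1.1)]
    rintro ⟨p, hpT, hKp⟩
    have hp : p ∈ minimalPrimes A := (hPmem p).mp (Finset.mem_filter.mp hpT).1
    have hpp : p.IsPrime := hp.1.1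
    rcases hpp.inf_le.mp hKp with h1 | h1
    · exact h p hp (Finset.mem_filter.mp hpT).2 h1
    · obtain ⟨q, hqT', hqp⟩ := hpp.inf_le'.mp h1
      have hq : q ∈ minimalPrimes A := (hPmem q).mp (Finset.mem_filter.mp hqT').1
      have hpq : p ≤ q := hp.2 ⟨hq.1.1, bot_le⟩ hqp
      exact (Finset.mem_filter.mp hqT').2 (hpq (Finset.mem_filter.mp hpT).2)
  obtain ⟨x, hxK, hxnot⟩ := Set.not_subset.mp hK
  refine ⟨x, hxK.1, ?_⟩
  intro p hp hmem
  by_cases ha : a₀ ∈ p
  · apply hxnot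
    simp only [Set.mem_iUnion]
    exact ⟨p, Finset.mem_coe.mpr (Finset.mem_filter.mpr ⟨(hPmem p).mpr hp, ha⟩),
      (p.add_mem_iff_right ha).mp hmem⟩
  · have hxp : x ∈ p :=
      (Finset.inf_le (f := id) (Finset.mem_filter.mpr ⟨(hPmem p).mpr hp, ha⟩)) hxK.2
    exact ha ((p.add_mem_iff_left hxp).mp hmem)

/-- Let A be a Noetherian ring with Serre's property (S_1), stated here in the equivalent form that
every associated prime of A is a minimal prime of A. Let I be an ideal of A and b an element of A/I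
which is regular (a non-zero-divisor) in A/I. Then b is the image of a regular element of A. -/
theorem result (A : Type u) [CommRing A]
    [IsNoetherianRing A] (hS1 : ∀ p ∈ associatedPrimes A A, p ∈ minimalPrimes A) (I : Ideal A)
    (b : A ⧸ I) (hb : b ∈ nonZeroDivisors (A ⧸ I)) :
    ∃ a : A, a ∈ nonZeroDivisors A ∧ Ideal.Quotient.mk I a = b := by
  obtain ⟨a₀, rfl⟩ := Ideal.Quotient.mk_surjective b
  have h : ∀ p ∈ minimalPrimes A, a₀ ∈ p → ¬ I ≤ p := by
    intro p hp ha hIp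
    have hpI : p ∈ I.minimalPrimes := ⟨⟨hp.1.1, hIp⟩, fun q hq hqp => hp.2 ⟨hq.1, bot_le⟩ hqp⟩
    obtain ⟨y, hyI, hay⟩ := Ideal.exists_mul_mem_of_mem_minimalPrimes hpI ha
    have h0 : Ideal.Quotient.mk I a₀ * Ideal.Quotient.mk I y = 0 := by
      rw [← map_mul]
      exact Ideal.Quotient.eq_zero_iff_mem.mpr hay
    have h1 : Ideal.Quotient.mk I y = 0 := (mul_left_mem_nonZeroDivisors_eq_zero_iff hb).mp h0
    exact hyI (Ideal.Quotient.eq_zero_iff_mem.mp h1)
  obtain ⟨x, hxI, hx⟩ := exists_add_notMem_minimalPrimes A I a₀ h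
  refine ⟨a₀ + x, ?_, ?_⟩
  · by_contra hnz
    have hmem : a₀ + x ∈ ⋃ p ∈ associatedPrimes A A, (p : Set A) := by
      rw [biUnion_associatedPrimes_eq_compl_nonZeroDivisors]
      exact hnz
    simp only [Set.mem_iUnion] at hmem
    obtain ⟨p, hp, hmem⟩ := hmem
    exact hx p (hS1 p hp) hmem
  · rw [map_add, Ideal.Quotient.eq_zero_iff_mem.mpr hxI, add_zero]

end Groth.Agent.S15706
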