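import Groth.Statements.S15708
import Mathlib

set_option autoImplicit false
universe u v
open CAlg

namespace Groth.Agent.S15708


section
variable {R : Type u} {A : Type v} [CommRing R] [CommRing A] [Algebra R A]
  (𝒜 : ℕ → Submodule R A) [GradedRing 𝒜]

lemma L1 (I : Ideal A) (hI : I.IsHomogeneous 𝒜) (q : Ideal A) (hq : ¬ I ≤ q) :
    ∃ n : ℕ, ∃ a : A, a ∈ 𝒜 n ∧ a ∈ I ∧ a ∉ q := by
  classical
  obtain ⟨x, hxI, hxq⟩ := SetLike.not_le_iff_exists.mp hq
  by_contra hcon
  push Not at hcon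
  apply hxq
  rw [← DirectSum.sum_support_decompose 𝒜 x]
  exact q.sum_mem (fun i _ => hcon i _ (SetLike.coe_mem _) (hI i hxI))

lemma L2 {a : A} (ha : a ∈ 𝒜 0) (hirr : a ∈ (HomogeneousIdeal.irrelevant 𝒜).toIdeal) : a = 0 := by
  have h1 : GradedRing.proj 𝒜 0 a = 0 := (HomogeneousIdeal.mem_irrelevant_iff 𝒜 a).mp hirr
  rw [GradedRing.proj_apply, DirectSum.decompose_of_mem_same 𝒜 ha] at h1
  exact h1

lemma HPA : ∀ (P : Finset (Ideal A)), (∀ p ∈ P, p.IsPrime ∧ p.IsHomogeneous 𝒜) →
    ∀ I : Ideal A, I.IsHomogeneous 𝒜 → I ≤ (HomogeneousIdeal.irrelevant 𝒜).toIdeal →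
    (∀ p ∈ P, ¬ I ≤ p) →
    ∃ (z : A) (n : ℕ), 0 < n ∧ z ∈ 𝒜 n ∧ z ∈ I ∧ ∀ p ∈ P, z ∉ p := by
  classical
  intro P
  induction P using Finset.induction_on with
  | empty =>
    intro _ I _ _ _
    exact ⟨0, 1, one_pos, Submodule.zero_mem _, Submodule.zero_mem _, by simp⟩
  | insert q P' hqP' ih =>
    intro hP I hI hIirr hnot
    have hq' := hP q (Finset.mem_insert_self q P')
    have hP' : ∀ p ∈ P', p.IsPrime ∧ p.IsHomogeneous 𝒜 :=
      fun p hp => hP p (Finset.mem_insert_of_mem hp)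
    have hnot' : ∀ p ∈ P', ¬ I ≤ p := fun p hp => hnot p (Finset.mem_insert_of_mem hp)
    by_cases hc : ∃ p ∈ P', q ≤ p
    · obtain ⟨p₀, hp₀, hqp₀⟩ := hc
      obtain ⟨z, n, hn, hz, hzI, hav⟩ := ih hP' I hI hIirr hnot'
      refine ⟨z, n, hn, hz, hzI, ?_⟩
      intro p hp
      rcases Finset.mem_insert.mp hp with rfl | hp
      · exact fun h => hav p₀ hp₀ (hqp₀ h)
      · exact hav p hp
    · push Not at hc
      have hIq : ∀ p ∈ P', ¬ I * q ≤ p := by
        intro p hp h
        rcases (hP' p hp).1.mul_le.mp h with h | h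
        · exact hnot' p hp h
        · exact hc p hp h
      obtain ⟨y, m, hm, hy, hyIq, hyav⟩ := ih hP' (I * q) (hI.mul hq'.2)
        (Ideal.mul_le_left.trans hIirr) hIq
      have hyI : y ∈ I := Ideal.mul_le_left hyIq
      have hyq : y ∈ q := Ideal.mul_le_right hyIq
      set P'' := P'.filter (fun p => ¬ p ≤ q) with hP''
      have hex : ∀ p ∈ P'', ∃ n : ℕ, ∃ a : A, a ∈ 𝒜 n ∧ a ∈ p ∧ a ∉ q := by
        intro p hp
        rw [hP'', Finset.mem_filter] at hp
        exact L1 𝒜 p (hP' p hp.1).2 q hp.2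
      choose! d a ha using hex
      obtain ⟨n₀, b, hb, hbI, hbq⟩ := L1 𝒜 I hI q (hnot q (Finset.mem_insert_self q P'))
      have hn₀ : 0 < n₀ := by
        rcases Nat.eq_zero_or_pos n₀ with h0 | h0
        · exfalso
          apply hbq
          rw [h0] at hb
          rw [L2 𝒜 hb (hIirr hbI)]
          exact q.zero_mem
        · exact h0
      set x : A := b * ∏ p ∈ P'', a p with hx
      set N : ℕ := n₀ + ∑ p ∈ P'', d p with hN
      have hNpos : 0 < N := by omega
      have hxN : x ∈ 𝒜 N :=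
        SetLike.GradedMul.mul_mem hb (SetLike.prod_mem_graded _ _ _ (fun p hp => (ha p hp).1))
      have hxI : x ∈ I := I.mul_mem_right _ hbI
      have := hq'.1
      have hxq : x ∉ q := by
        intro h
        rcases hq'.1.mem_or_mem h with h | h
        · exact hbq h
        · obtain ⟨p, hp, hap⟩ := Ideal.IsPrime.prod_mem_iff.mp h
          exact (ha p hp).2.2 hap
      have hxp : ∀ p ∈ P'', x ∈ p := by
        intro p hp
        obtain ⟨c, hc⟩ := Finset.dvd_prod_of_mem a hp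
        rw [hx, hc]
        exact p.mul_mem_left _ (p.mul_mem_right _ (ha p hp).2.1)
      refine ⟨x ^ m + y ^ N, N * m, Nat.mul_pos hNpos hm, ?_, ?_, ?_⟩
      · refine Submodule.add_mem _ ?_ ?_
        · have h1 := SetLike.pow_mem_graded m hxN
          rwa [smul_eq_mul, mul_comm] at h1
        · have h1 := SetLike.pow_mem_graded N hy
          rwa [smul_eq_mul] at h1
      · exact I.add_mem (I.pow_mem_of_mem hxI m hm) (I.pow_mem_of_mem hyI N hNpos)
      · have hzq : x ^ m + y ^ N ∉ q := by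
          intro h
          have h1 : x ^ m ∈ q := by
            have h2 := q.sub_mem h (q.pow_mem_of_mem hyq N hNpos)
            simpa using h2
          exact hxq (hq'.1.mem_of_pow_mem m h1)
        intro p hp
        rcases Finset.mem_insert.mp hp with rfl | hp
        · exact hzq
        · by_cases hpq : p ≤ q
          · exact fun h => hzq (hpq h)
          · have hp'' : p ∈ P'' := by
              rw [hP'', Finset.mem_filter]
              exact ⟨hp, hpq⟩
            intro h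
            have h1 : y ^ N ∈ p := by
              have h2 := p.sub_mem h (p.pow_mem_of_mem (hxp p hp'') m hm)
              simpa using h2
            exact hyav p hp ((hP' p hp).1.mem_of_pow_mem N h1)

end


/-- Let A be a Noetherian commutative ring graded by the natural numbers, J a homogeneous ideal, and
p_1, ..., p_r finitely many prime ideals such that no p_i contains the irrelevant ideal A_+ and no
p_i contains J. Then there is a homogeneous element z of positive degree with z in J and z in no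
p_i. -/
theorem result {R : Type u} {A : Type v} [CommRing R] [CommRing A]
    [Algebra R A] [IsNoetherianRing A] (𝒜 : ℕ → Submodule R A) [GradedRing 𝒜]
    (J : Ideal A) (hJ : J.IsHomogeneous 𝒜) (P : Finset (Ideal A))
    (hP : ∀ p ∈ P, p.IsPrime ∧ ¬ (HomogeneousIdeal.irrelevant 𝒜).toIdeal ≤ p ∧ ¬ J ≤ p) :
    ∃ (z : A) (n : ℕ), 0 < n ∧ z ∈ 𝒜 n ∧ z ∈ J ∧ ∀ p ∈ P, z ∉ p := by
  classical
  set P₁ : Finset (Ideal A) := P.image (fun p => (p.homogeneousCore 𝒜).toIdeal) with hP₁
  have h1 : ∀ p ∈ P₁, p.IsPrime ∧ p.IsHomogeneous 𝒜 := by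
    intro p hp
    rw [hP₁, Finset.mem_image] at hp
    obtain ⟨p', hp', rfl⟩ := hp
    exact ⟨(hP p' hp').1.homogeneousCore, (p'.homogeneousCore 𝒜).isHomogeneous⟩
  set I : Ideal A := J * (HomogeneousIdeal.irrelevant 𝒜).toIdeal with hI
  have hIh : I.IsHomogeneous 𝒜 := hJ.mul (HomogeneousIdeal.irrelevant 𝒜).isHomogeneous
  have hIirr : I ≤ (HomogeneousIdeal.irrelevant 𝒜).toIdeal := Ideal.mul_le_right
  have h2 : ∀ p ∈ P₁, ¬ I ≤ p := by
    intro p hp hle
    rw [hP₁, Finset.mem_image] at hp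
    obtain ⟨p', hp', rfl⟩ := hp
    have h3 : I ≤ p' := hle.trans (Ideal.toIdeal_homogeneousCore_le 𝒜 p')
    rcases (hP p' hp').1.mul_le.mp h3 with h | h
    · exact (hP p' hp').2.2 h
    · exact (hP p' hp').2.1 h
  obtain ⟨z, n, hn, hz, hzI, hav⟩ := HPA 𝒜 P₁ h1 I hIh hIirr h2
  refine ⟨z, n, hn, hz, Ideal.mul_le_left hzI, ?_⟩
  intro p hp hzp
  have h4 : z ∈ p.homogeneousCore 𝒜 :=
    Ideal.mem_homogeneousCore_of_homogeneous_of_mem ⟨n, hz⟩ hzp
  exact hav _ (Finset.mem_image_of_mem _ hp) h4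


end Groth.Agent.S15708
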