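import Groth.Statements.S15715
import Groth.Agent.Lib.Helper16.QCohAss

set_option autoImplicit false
universe u
open CategoryTheory AlgebraicGeometry TopologicalSpace
open RatSing

namespace Groth.Agent.S15715

open Groth.Agent.Lib.helper16 Groth.Agent.Lib.helper28 Groth.Agent.Lib.helper7 Opposite

theorem exists_nzd_basicOpen_le {X : Scheme.{u}} [IsLocallyNoetherian X] {W : X.Opens}
    (hW : IsAffineOpen W) (U : X.Opens) (hU : CInt.IsSchematicallyDense U) :
    ∃ t : Γ(X, W), t ∈ nonZeroDivisors Γ(X, W) ∧ X.basicOpen t ≤ U := by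
  let I : Ideal Γ(X, W) :=
    { carrier := {a | X.basicOpen a ≤ U}
      add_mem' := fun {a b} ha hb => (X.basicOpen_add_le (f := a) (g := b)).trans (sup_le ha hb)
      zero_mem' := by
        show X.basicOpen (0 : Γ(X, W)) ≤ U
        rw [Scheme.basicOpen_zero]; exact bot_le
      smul_mem' := fun c a ha => by
        show X.basicOpen (c • a) ≤ U
        rw [smul_eq_mul, Scheme.basicOpen_mul]; exact inf_le_right.trans ha }
  have hann : ∀ a : Γ(X, W), (∀ g ∈ I, g * a = 0) → a = 0 := by
    intro a ha
    apply hU W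
    apply TopCat.Presheaf.section_ext X.sheaf (W ⊓ U)
    intro z hz
    obtain ⟨g, hgU, hzg⟩ := hW.exists_basicOpen_le (V := U) ⟨z, hz.2⟩ hz.1
    have hg : g ∈ I := hgU
    have hu : IsUnit ((X.presheaf.germ W z hz.1).hom g) := (X.mem_basicOpen g z hz.1).1 hzg
    have h0 : (X.presheaf.germ W z hz.1).hom g * (X.presheaf.germ W z hz.1).hom a = 0 := by
      rw [← map_mul, ha g hg, map_zero]
    have h1 : (X.presheaf.germ W z hz.1).hom a = 0 := (hu.mul_right_eq_zero).1 h0
    have e1 := TopCat.Presheaf.germ_res_apply X.presheaf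
      (homOfLE (inf_le_left : W ⊓ U ≤ W)) z hz a
    have e2 := TopCat.Presheaf.germ_res_apply X.presheaf
      (homOfLE (inf_le_left : W ⊓ U ≤ W)) z hz (0 : Γ(X, W))
    exact (e1.trans h1).trans ((e2.trans (map_zero _)).symm)
  haveI : IsNoetherianRing Γ(X, W) := IsLocallyNoetherian.component_noetherian ⟨W, hW⟩
  by_contra hcon
  push Not at hcon
  have hsub : (I : Set Γ(X, W)) ⊆ ⋃ p ∈ associatedPrimes Γ(X, W) Γ(X, W), (p : Set _) := by
    rw [biUnion_associatedPrimes_eq_compl_nonZeroDivisors]
    intro a ha hnz
    exact hcon a hnz ha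
  have hfin := associatedPrimes.finite Γ(X, W) Γ(X, W)
  rw [← hfin.coe_toFinset] at hsub
  obtain ⟨p, hp, hle⟩ := (Ideal.subset_union_prime (f := fun p : Ideal Γ(X, W) => p) ⊥ ⊥
    (fun p hp _ _ => (hfin.mem_toFinset.1 hp).isPrime)).1 hsub
  have hp' : IsAssociatedPrime p Γ(X, W) := hfin.mem_toFinset.1 hp
  rw [isAssociatedPrime_iff] at hp'
  obtain ⟨hpp, x, hx⟩ := hp'
  have hx0 : x = 0 := hann x (fun g hg => by
    have := hle hg
    rw [hx, Submodule.mem_colon_singleton] at this
    simpa using this)
  apply hpp.ne_top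
  rw [hx, hx0, eq_top_iff]
  intro r _
  rw [Submodule.mem_colon_singleton]
  simp

theorem result' (X : Scheme.{u})
    [IsLocallyNoetherian X] (F G : X.Modules) (hF : Coh.IsQCoh F)
    (htf : ∀ V : X.affineOpens, Submodule.torsion Γ(X, V.1) (F.val.obj (Opposite.op V.1)) = ⊥)
    (φ : F ⟶ G) (U : X.Opens) (hU : CInt.IsSchematicallyDense U)
    (hφU : ∀ V : X.Opens, V ≤ U → Function.Injective ⇑(ConcreteCategory.hom (φ.val.app (Opposite.op V)))) (V : X.Opens) :
    Function.Injective ⇑(ConcreteCategory.hom (φ.val.app (Opposite.op V))) := by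
  haveI : F.IsQuasicoherent := hF
  rw [injective_iff_map_eq_zero]
  intro s hs
  apply QCohAss.section_eq_zero_of_germ_eq_zero F V s
  intro z hz
  obtain ⟨_, ⟨W, hW, rfl⟩, hzW, hWV⟩ :=
    X.isBasis_affineOpens.exists_subset_of_mem_open (show z ∈ (V : Set X) from hz) V.2
  have hWV' : W ≤ V := hWV
  set s' : F.val.obj (op W) := F.val.map (homOfLE hWV').op s with hs'def
  have hs' : (ConcreteCategory.hom (φ.val.app (op W))) s' = 0 := by
    have := PresheafOfModules.naturality_apply φ.val (homOfLE hWV').op s
    rw [hs'def, this, hs]; exact map_zero _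
  obtain ⟨t, ht, htU⟩ := exists_nzd_basicOpen_le hW U hU
  have hs'' : F.presheaf.map (homOfLE (X.basicOpen_le t)).op s' = 0 := by
    apply hφU (X.basicOpen t) htU
    refine Eq.trans ?_ (map_zero _).symm
    have := PresheafOfModules.naturality_apply φ.val (homOfLE (X.basicOpen_le t)).op s'
    exact this.trans (by rw [hs']; exact map_zero _)
  obtain ⟨n, hn⟩ := exists_pow_smul_eq_zero_of_isAffineOpen hW F t s' hs''
  have hs'0 : s' = 0 := by
    have hmem : s' ∈ Submodule.torsion Γ(X, W) (F.val.obj (op W)) :=
      (Submodule.mem_torsion_iff _).2 ⟨⟨t ^ n, pow_mem ht n⟩, hn⟩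
    rw [htf ⟨W, hW⟩] at hmem
    exact (Submodule.mem_bot _).1 hmem
  have e1 := TopCat.Presheaf.germ_res_apply F.presheaf (homOfLE hWV') z hzW s
  rw [← e1]
  show (F.presheaf.germ W z hzW).hom s' = 0
  rw [hs'0]; exact map_zero _



/-- Let X be a locally Noetherian scheme, φ : F → G a homomorphism of O_X-modules with F quasi-coherent
and torsion-free (over every affine open V, no nonzero section of F is killed by a regular element
of O_X(V)), and U a scheme-theoretically dense open subset of X such that the restriction of φ to U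
is injective. Then φ is injective. (The published statement allows an arbitrary O_X-module F; for
the skyscraper sheaf on the affine line over a field, placed at a closed point with value the local
ring at that point, which is torsion-free in this sense, the zero map to the zero module is
injective over the dense open complement of the point but not injective. This row takes F
quasi-coherent.) -/
theorem result (X : Scheme.{u})
    [IsLocallyNoetherian X] (F G : X.Modules) (hF : Coh.IsQCoh F)
    (htf : ∀ V : X.affineOpens, Submodule.torsion Γ(X, V.1) (F.val.obj (Opposite.op V.1)) = ⊥)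
    (φ : F ⟶ G) (U : X.Opens) (hU : CInt.IsSchematicallyDense U)
    (hφU : ∀ V : X.Opens, V ≤ U → Function.Injective ⇑(ConcreteCategory.hom (φ.val.app (Opposite.op V)))) (V : X.Opens) :
    Function.Injective ⇑(ConcreteCategory.hom (φ.val.app (Opposite.op V))) := by
  exact Groth.Agent.S15715.result' X F G hF htf φ U hU hφU V

end Groth.Agent.S15715
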