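import Groth.Statements.S15724
import Groth.Agent.Lib.Helper11.WtPiece

set_option autoImplicit false
universe u
open W4c2invhilbsl2

namespace Groth.Agent.S15724

open Groth.Agent.Lib.helper11 MvPolynomial W4c2invhilbsl2


/-- Grade the polynomial ring k[X₀,…,X₄] over a field k by ℤ × ℤ/m, giving X₀ weight (1,0), X₁ and X₂
weight (−p,−1), and X₃ and X₄ weight (q,1), where 0 < p < q are coprime integers and m ≥ 1, and let
P be the principal ideal generated by the weight-zero element X₀^(q−p) − X₁X₄ + X₂X₃ (the equation
of an affine hypersurface). Then every polynomial homogeneous of the weight of X₁ is congruent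
modulo P to some a·X₁ + b·X₂ with a and b homogeneous of weight zero, and every polynomial
homogeneous of the weight of X₃ is congruent modulo P to some a·X₃ + b·X₄ with a and b homogeneous
of weight zero. Equivalently, in the coordinate ring of the hypersurface the weight pieces of the
weights of X₁ and of X₃ are generated over the weight-zero subring (the ring of invariants of the
diagonal action of a one-dimensional torus times the group of m-th roots of unity with these
weights) by X₁, X₂ and by X₃, X₄ respectively. (For the weight of X₁ the congruence is already an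
equality in the polynomial ring; for the weight of X₃ the hypersurface equation is needed, e.g.
X₀^(q+p)X₁ has that weight when m divides 2.) -/
theorem result (k : Type u) [Field k] (p q m : ℕ) (hp : 0 < p) (hpq : p < q) (hcop : Nat.Coprime p q) (hm : 0 < m) (f : MvPolynomial (Fin 5) k) :
    (f ∈ MvPolynomial.weightedHomogeneousSubmodule k (W4c2invhilbsl2.wt5 p q m) (W4c2invhilbsl2.wt5 p q m 1) →
      ∃ a b : MvPolynomial (Fin 5) k, a ∈ MvPolynomial.weightedHomogeneousSubmodule k (W4c2invhilbsl2.wt5 p q m) 0 ∧ b ∈ MvPolynomial.weightedHomogeneousSubmodule k (W4c2invhilbsl2.wt5 p q m) 0 ∧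
        f - (a * MvPolynomial.X (1 : Fin 5) + b * MvPolynomial.X (2 : Fin 5)) ∈ Ideal.span {MvPolynomial.X (0 : Fin 5) ^ (q - p) - MvPolynomial.X 1 * MvPolynomial.X 4 + MvPolynomial.X 2 * MvPolynomial.X 3}) ∧
    (f ∈ MvPolynomial.weightedHomogeneousSubmodule k (W4c2invhilbsl2.wt5 p q m) (W4c2invhilbsl2.wt5 p q m 3) →
      ∃ a b : MvPolynomial (Fin 5) k, a ∈ MvPolynomial.weightedHomogeneousSubmodule k (W4c2invhilbsl2.wt5 p q m) 0 ∧ b ∈ MvPolynomial.weightedHomogeneousSubmodule k (W4c2invhilbsl2.wt5 p q m) 0 ∧
        f - (a * MvPolynomial.X (3 : Fin 5) + b * MvPolynomial.X (4 : Fin 5)) ∈ Ideal.span {MvPolynomial.X (0 : Fin 5) ^ (q - p) - MvPolynomial.X 1 * MvPolynomial.X 4 + MvPolynomial.X 2 * MvPolynomial.X 3}) := by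
  classical
  have hp' : (0 : ℤ) < p := by exact_mod_cast hp
  have hq' : (p : ℤ) < q := by exact_mod_cast hpq
  have hD : ((q - p : ℕ) : ℤ) = (q : ℤ) - p := Nat.cast_sub hpq.le
  constructor
  · intro hf
    have hν : wt5 p q m 1 = (-(p : ℤ), (-1 : ZMod m)) := by simp [wt5]
    rw [hν] at hf
    let u : Fin 2 → (Fin 5 →₀ ℕ) := ![Finsupp.single 1 1, Finsupp.single 2 1]
    have hu : ∀ j ∈ (Finset.univ : Finset (Fin 2)), Finsupp.weight (wt5 p q m) (u j) = (-(p : ℤ), (-1 : ZMod m)) := by
      intro j _
      rw [WtPiece.weight5]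
      fin_cases j <;> simp [u]
    have h : ∀ d : Fin 5 →₀ ℕ, Finsupp.weight (wt5 p q m) d = (-(p : ℤ), (-1 : ZMod m)) →
        ∃ j ∈ (Finset.univ : Finset (Fin 2)), u j ≤ d := by
      intro d hd
      rw [WtPiece.weight5, Prod.mk.injEq] at hd
      obtain ⟨h1, -⟩ := hd
      have h12 : 1 ≤ d 1 ∨ 1 ≤ d 2 := by
        by_contra hc
        push Not at hc
        have e1 : d 1 = 0 := by omega
        have e2 : d 2 = 0 := by omega
        rw [e1, e2] at h1
        simp only [Nat.cast_zero, add_zero, mul_zero, sub_zero] at h1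
        have : (0 : ℤ) ≤ (q : ℤ) * ((d 3 : ℤ) + d 4) := by positivity
        have hd0 : (0 : ℤ) ≤ d 0 := by positivity
        linarith
      rcases h12 with h12 | h12
      · refine ⟨0, Finset.mem_univ _, ?_⟩
        simp only [u, Matrix.cons_val_zero]
        rw [Finsupp.single_le_iff]; exact h12
      · refine ⟨1, Finset.mem_univ _, ?_⟩
        simp only [u, Matrix.cons_val_one, Matrix.cons_val_zero]
        rw [Finsupp.single_le_iff]; exact h12
    obtain ⟨a, ha, hfa⟩ := WtPiece.gen_of_le (wt5 p q m) Finset.univ u _ hu h f hf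
    refine ⟨a 0, a 1, ha 0, ha 1, ?_⟩
    have : f - (a 0 * X 1 + a 1 * X 2) = 0 := by
      rw [sub_eq_zero, hfa, Fin.sum_univ_two]
      rfl
    rw [this]; exact zero_mem _
  · intro hf
    have hν : wt5 p q m 3 = ((q : ℤ), (1 : ZMod m)) := by simp [wt5]
    rw [hν] at hf
    set P : Ideal (MvPolynomial (Fin 5) k) :=
      Ideal.span {X (0 : Fin 5) ^ (q - p) - X 1 * X 4 + X 2 * X 3} with hP
    have hmono : ∀ d : Fin 5 →₀ ℕ, Finsupp.weight (wt5 p q m) d = ((q : ℤ), (1 : ZMod m)) →
        ∃ a : Fin 2 → MvPolynomial (Fin 5) k,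
          (∀ j, a j ∈ weightedHomogeneousSubmodule k (wt5 p q m) 0) ∧
          monomial d 1 - ∑ j ∈ (Finset.univ : Finset (Fin 2)), a j * (![X 3, X 4] : Fin 2 → MvPolynomial (Fin 5) k) j ∈ P := by
      intro d hd
      have hd' := hd
      rw [WtPiece.weight5, Prod.mk.injEq] at hd'
      obtain ⟨h1, h2⟩ := hd'
      have hw3 : Finsupp.weight (wt5 p q m) (Finsupp.single 3 1) = ((q : ℤ), (1 : ZMod m)) := by
        rw [WtPiece.weight5]; simp
      have hw4 : Finsupp.weight (wt5 p q m) (Finsupp.single 4 1) = ((q : ℤ), (1 : ZMod m)) := by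
        rw [WtPiece.weight5]; simp
      by_cases h3 : 1 ≤ d 3
      · have hle : Finsupp.single 3 1 ≤ d := by rw [Finsupp.single_le_iff]; exact h3
        refine ⟨![monomial (d - Finsupp.single 3 1) 1, 0], fun j => ?_, ?_⟩
        · fin_cases j
          · exact WtPiece.monomial_sub_mem _ _ d _ hd hw3 hle
          · exact zero_mem _
        · rw [Fin.sum_univ_two]
          simp only [Matrix.cons_val_zero, Matrix.cons_val_one, zero_mul, add_zero]
          have : (monomial (d - Finsupp.single 3 1) (1 : k)) * X 3 = monomial d 1 := by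
            rw [X, monomial_mul, mul_one, tsub_add_cancel_of_le hle]
          rw [this, sub_self]; exact zero_mem _
      by_cases h4 : 1 ≤ d 4
      · have hle : Finsupp.single 4 1 ≤ d := by rw [Finsupp.single_le_iff]; exact h4
        refine ⟨![0, monomial (d - Finsupp.single 4 1) 1], fun j => ?_, ?_⟩
        · fin_cases j
          · exact zero_mem _
          · exact WtPiece.monomial_sub_mem _ _ d _ hd hw4 hle
        · rw [Fin.sum_univ_two]
          simp only [Matrix.cons_val_zero, Matrix.cons_val_one, zero_mul, zero_add]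
          have : (monomial (d - Finsupp.single 4 1) (1 : k)) * X 4 = monomial d 1 := by
            rw [X, monomial_mul, mul_one, tsub_add_cancel_of_le hle]
          rw [this, sub_self]; exact zero_mem _
      -- d3 = d4 = 0
      have e3 : d 3 = 0 := by omega
      have e4 : d 4 = 0 := by omega
      rw [e3, e4] at h1 h2
      simp only [Nat.cast_zero, add_zero, mul_zero, zero_sub] at h1 h2
      have h0 : q - p ≤ d 0 := by
        have : (0 : ℤ) ≤ (p : ℤ) * ((d 1 : ℤ) + d 2) := by positivity
        have h0' : ((q - p : ℕ) : ℤ) ≤ d 0 := by rw [hD]; linarith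
        exact_mod_cast h0'
      have hle : Finsupp.single 0 (q - p) ≤ d := by rw [Finsupp.single_le_iff]; exact h0
      set e := d - Finsupp.single 0 (q - p) with he
      have hde : monomial d (1 : k) = monomial e 1 * X 0 ^ (q - p) := by
        rw [X_pow_eq_monomial, monomial_mul, mul_one, he, tsub_add_cancel_of_le hle]
      have he0 : ((e 0 : ℕ) : ℤ) = (d 0 : ℤ) - ((q : ℤ) - p) := by
        rw [he, Finsupp.tsub_apply, Finsupp.single_eq_same, Nat.cast_sub h0, hD]
      have hei : ∀ j : Fin 5, j ≠ 0 → e j = d j := by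
        intro j hj
        rw [he, Finsupp.tsub_apply, Finsupp.single_eq_of_ne hj, Nat.sub_zero]
      have hwX2 : monomial e (1 : k) * X 2 ∈ weightedHomogeneousSubmodule k (wt5 p q m) 0 := by
        rw [X, monomial_mul, mul_one, mem_weightedHomogeneousSubmodule]
        apply isWeightedHomogeneous_monomial
        rw [WtPiece.weight5]
        simp only [Finsupp.coe_add, Pi.add_apply, Finsupp.single_apply, Fin.isValue]
        simp only [(by decide : (2 : Fin 5) ≠ 0), (by decide : (2 : Fin 5) ≠ 1),
          (by decide : (2 : Fin 5) ≠ 3), (by decide : (2 : Fin 5) ≠ 4), if_false, if_true, add_zero,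
          Nat.cast_add, Nat.cast_one, Nat.cast_zero]
        rw [he0, hei 1 (by decide), hei 2 (by decide), hei 3 (by decide), hei 4 (by decide), e3, e4]
        rw [Prod.mk_eq_zero]
        constructor
        · push_cast; linarith
        · push_cast
          have : -((d 1 : ZMod m) + d 2) = 1 := h2
          linear_combination this
      have hwX1 : monomial e (1 : k) * X 1 ∈ weightedHomogeneousSubmodule k (wt5 p q m) 0 := by
        rw [X, monomial_mul, mul_one, mem_weightedHomogeneousSubmodule]
        apply isWeightedHomogeneous_monomial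
        rw [WtPiece.weight5]
        simp only [Finsupp.coe_add, Pi.add_apply, Finsupp.single_apply, Fin.isValue]
        simp only [(by decide : (1 : Fin 5) ≠ 0), (by decide : (1 : Fin 5) ≠ 2),
          (by decide : (1 : Fin 5) ≠ 3), (by decide : (1 : Fin 5) ≠ 4), if_false, if_true, add_zero,
          Nat.cast_add, Nat.cast_one, Nat.cast_zero]
        rw [he0, hei 1 (by decide), hei 2 (by decide), hei 3 (by decide), hei 4 (by decide), e3, e4]
        rw [Prod.mk_eq_zero]
        constructor
        · push_cast; linarith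
        · push_cast
          have : -((d 1 : ZMod m) + d 2) = 1 := h2
          linear_combination this
      refine ⟨![-(monomial e 1 * X 2), monomial e 1 * X 1], fun j => ?_, ?_⟩
      · fin_cases j
        · exact neg_mem hwX2
        · exact hwX1
      · rw [Fin.sum_univ_two]
        simp only [Matrix.cons_val_zero, Matrix.cons_val_one]
        have : monomial d (1 : k) - (-(monomial e 1 * X 2) * X 3 + monomial e 1 * X 1 * X 4) =
            monomial e 1 * (X 0 ^ (q - p) - X 1 * X 4 + X 2 * X 3) := by
          rw [hde]; ring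
        rw [this]
        exact Ideal.mul_mem_left _ _ (Ideal.subset_span rfl)
    obtain ⟨a, ha, hfa⟩ := WtPiece.gen_mod (wt5 p q m) Finset.univ _ P _ hmono f hf
    refine ⟨a 0, a 1, ha 0, ha 1, ?_⟩
    rw [Fin.sum_univ_two] at hfa
    exact hfa

end Groth.Agent.S15724
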