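import Groth.Statements.S15725
import Groth.Agent.Lib.Helper11.WtPiece

set_option autoImplicit false
universe u
open W4c2invhilbsl2

namespace Groth.Agent.S15725

open Groth.Agent.Lib.helper11 MvPolynomial W4c2invhilbsl2


/-- Grade the polynomial ring k[X₀,X₁,X₂] over a field k by ℤ × ℤ/m, giving X₀ weight (1,0), X₁ weight
(−p,−1) and X₂ weight (q,1), where 0 < p < q are coprime integers and m ≥ 1 (this three-variable
ring stands for the subring k[X₀,X₁,Xⱼ], j = 3 or 4, of the five-variable ring with the same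
weights). Then every polynomial homogeneous of weight (q−p, 0) can be written a·X₀^(q−p) + b·X₁X₂
with a and b homogeneous of weight zero; in other words the weight-(q−p, 0) piece is generated by
X₀^(q−p) and X₁X₂ as a module over the weight-zero subring. -/
theorem result (k : Type u) [Field k] (p q m : ℕ) (hp : 0 < p) (hpq : p < q) (hcop : Nat.Coprime p q) (hm : 0 < m) (f : MvPolynomial (Fin 3) k)
    (hf : f ∈ MvPolynomial.weightedHomogeneousSubmodule k (W4c2invhilbsl2.wt3 p q m) ((q : ℤ) - (p : ℤ), (0 : ZMod m))) :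
    ∃ a b : MvPolynomial (Fin 3) k, a ∈ MvPolynomial.weightedHomogeneousSubmodule k (W4c2invhilbsl2.wt3 p q m) 0 ∧ b ∈ MvPolynomial.weightedHomogeneousSubmodule k (W4c2invhilbsl2.wt3 p q m) 0 ∧
      f = a * MvPolynomial.X (0 : Fin 3) ^ (q - p) + b * (MvPolynomial.X (1 : Fin 3) * MvPolynomial.X (2 : Fin 3)) := by
  classical
  let u : Fin 2 → (Fin 3 →₀ ℕ) := ![Finsupp.single 0 (q - p), Finsupp.single 1 1 + Finsupp.single 2 1]
  have hD : ((q - p : ℕ) : ℤ) = (q : ℤ) - p := Nat.cast_sub hpq.le
  have hu : ∀ j ∈ (Finset.univ : Finset (Fin 2)), Finsupp.weight (wt3 p q m) (u j) = ((q : ℤ) - (p : ℤ), (0 : ZMod m)) := by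
    intro j _
    rw [WtPiece.weight3]
    fin_cases j
    · simp [u, hD]
    · simp [u]; ring
  have h : ∀ d : Fin 3 →₀ ℕ, Finsupp.weight (wt3 p q m) d = ((q : ℤ) - (p : ℤ), (0 : ZMod m)) →
      ∃ j ∈ (Finset.univ : Finset (Fin 2)), u j ≤ d := by
    intro d hd
    rw [WtPiece.weight3, Prod.mk.injEq] at hd
    obtain ⟨h1, -⟩ := hd
    by_cases h0 : q - p ≤ d 0
    · refine ⟨0, Finset.mem_univ _, ?_⟩
      simp only [u, Matrix.cons_val_zero]
      rw [Finsupp.single_le_iff]
      exact h0
    · push Not at h0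
      have h0' : (d 0 : ℤ) < (q : ℤ) - p := by rw [← hD]; exact_mod_cast h0
      have hp' : (0 : ℤ) < p := by exact_mod_cast hp
      have hq' : (p : ℤ) < q := by exact_mod_cast hpq
      have hd1 : 1 ≤ d 1 := by
        by_contra hc
        have : d 1 = 0 := by omega
        rw [this] at h1
        simp only [Nat.cast_zero, mul_zero, sub_zero] at h1
        rcases Nat.eq_zero_or_pos (d 2) with h2 | h2
        · rw [h2] at h1; simp at h1; omega
        · have : (q : ℤ) * 1 ≤ (q : ℤ) * d 2 :=
            mul_le_mul_of_nonneg_left (by exact_mod_cast h2) (by omega)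
          have hd0 : (0 : ℤ) ≤ d 0 := by positivity
          linarith
      have hd2 : 1 ≤ d 2 := by
        by_contra hc
        have : d 2 = 0 := by omega
        rw [this] at h1
        simp only [Nat.cast_zero, mul_zero, add_zero] at h1
        have : (0 : ℤ) ≤ (p : ℤ) * d 1 := by positivity
        linarith
      refine ⟨1, Finset.mem_univ _, ?_⟩
      simp only [u, Matrix.cons_val_one, Matrix.head_cons]
      rw [Finsupp.le_def]
      intro i
      fin_cases i <;> simp [Finsupp.single_apply] <;> omega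
  obtain ⟨a, ha, hfa⟩ := WtPiece.gen_of_le (wt3 p q m) Finset.univ u _ hu h f hf
  refine ⟨a 0, a 1, ha 0, ha 1, ?_⟩
  rw [hfa, Fin.sum_univ_two]
  simp only [u, Matrix.cons_val_zero, Matrix.cons_val_one, Matrix.head_cons]
  rw [X_pow_eq_monomial, ← mul_one (1 : k), ← monomial_mul, mul_one]
  rfl

end Groth.Agent.S15725
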