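import Groth.Statements.S15726
import Groth.Agent.Lib.Helper11.WtPiece

set_option autoImplicit false
universe u
open W4c2invhilbsl2

namespace Groth.Agent.S15726

open Groth.Agent.Lib.helper11 MvPolynomial W4c2invhilbsl2


/-- Grade the polynomial ring k[X₀,…,X₄] over a field k by ℤ × ℤ/m, giving X₀ weight (1,0), X₁ and X₂
weight (−p,−1), and X₃ and X₄ weight (q,1), where 0 < p < q are coprime integers and m ≥ 1. Then
modulo the principal ideal generated by the weight-zero element X₀^(q−p) − X₁X₄ + X₂X₃ (the equation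
of an affine hypersurface), every polynomial homogeneous of weight (q−p, 0) is congruent to a
combination a₁₃X₁X₃ + a₁₄X₁X₄ + a₂₃X₂X₃ + a₂₄X₂X₄ whose four coefficients are homogeneous of weight
zero. Equivalently, in the coordinate ring of the hypersurface the weight-(q−p, 0) piece is
generated over the weight-zero subring (the invariant ring of the diagonal action with these
weights) by the span of the four products XₐX_b with a ∈ {1,2} and b ∈ {3,4}. (The published
statement is over the complex numbers; this row takes any field.) -/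
theorem result (k : Type u) [Field k] (p q m : ℕ) (hp : 0 < p) (hpq : p < q) (hcop : Nat.Coprime p q) (hm : 0 < m) (f : MvPolynomial (Fin 5) k)
    (hf : f ∈ MvPolynomial.weightedHomogeneousSubmodule k (W4c2invhilbsl2.wt5 p q m) ((q : ℤ) - (p : ℤ), (0 : ZMod m))) :
    ∃ a₁₃ a₁₄ a₂₃ a₂₄ : MvPolynomial (Fin 5) k,
      a₁₃ ∈ MvPolynomial.weightedHomogeneousSubmodule k (W4c2invhilbsl2.wt5 p q m) 0 ∧ a₁₄ ∈ MvPolynomial.weightedHomogeneousSubmodule k (W4c2invhilbsl2.wt5 p q m) 0 ∧ a₂₃ ∈ MvPolynomial.weightedHomogeneousSubmodule k (W4c2invhilbsl2.wt5 p q m) 0 ∧ a₂₄ ∈ MvPolynomial.weightedHomogeneousSubmodule k (W4c2invhilbsl2.wt5 p q m) 0 ∧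
      f - (a₁₃ * (MvPolynomial.X (1 : Fin 5) * MvPolynomial.X 3) + a₁₄ * (MvPolynomial.X (1 : Fin 5) * MvPolynomial.X 4) +
          a₂₃ * (MvPolynomial.X (2 : Fin 5) * MvPolynomial.X 3) + a₂₄ * (MvPolynomial.X (2 : Fin 5) * MvPolynomial.X 4)) ∈
        Ideal.span {MvPolynomial.X (0 : Fin 5) ^ (q - p) - MvPolynomial.X 1 * MvPolynomial.X 4 + MvPolynomial.X 2 * MvPolynomial.X 3} := by
  classical
  have hp' : (0 : ℤ) < p := by exact_mod_cast hp
  have hq' : (p : ℤ) < q := by exact_mod_cast hpq
  have hD : ((q - p : ℕ) : ℤ) = (q : ℤ) - p := Nat.cast_sub hpq.le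
  set P : Ideal (MvPolynomial (Fin 5) k) :=
    Ideal.span {X (0 : Fin 5) ^ (q - p) - X 1 * X 4 + X 2 * X 3} with hP
  set U : Fin 4 → MvPolynomial (Fin 5) k := ![X 1 * X 3, X 1 * X 4, X 2 * X 3, X 2 * X 4] with hU
  have hmono : ∀ d : Fin 5 →₀ ℕ, Finsupp.weight (wt5 p q m) d = ((q : ℤ) - (p : ℤ), (0 : ZMod m)) →
      ∃ a : Fin 4 → MvPolynomial (Fin 5) k,
        (∀ j, a j ∈ weightedHomogeneousSubmodule k (wt5 p q m) 0) ∧
        monomial d 1 - ∑ j ∈ (Finset.univ : Finset (Fin 4)), a j * U j ∈ P := by
    intro d hd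
    have hd' := hd
    rw [WtPiece.weight5, Prod.mk.injEq] at hd'
    obtain ⟨h1, h2⟩ := hd'
    -- generic divisibility case
    have hcase : ∀ (j0 : Fin 4) (u : Fin 5 →₀ ℕ),
        Finsupp.weight (wt5 p q m) u = ((q : ℤ) - (p : ℤ), (0 : ZMod m)) → u ≤ d →
        monomial u (1 : k) = U j0 → ∃ a : Fin 4 → MvPolynomial (Fin 5) k,
        (∀ j, a j ∈ weightedHomogeneousSubmodule k (wt5 p q m) 0) ∧
        monomial d 1 - ∑ j ∈ (Finset.univ : Finset (Fin 4)), a j * U j ∈ P := by
      intro j0 u hwu hle hmu
      refine ⟨fun j => if j = j0 then monomial (d - u) 1 else 0, fun j => ?_, ?_⟩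
      · beta_reduce
        split_ifs
        · exact WtPiece.monomial_sub_mem _ _ d u hd hwu hle
        · exact zero_mem _
      · simp only [ite_mul, zero_mul]
        rw [Finset.sum_ite_eq' Finset.univ j0, if_pos (Finset.mem_univ _), ← hmu, monomial_mul,
          mul_one, tsub_add_cancel_of_le hle, sub_self]
        exact zero_mem _
    by_cases h0 : q - p ≤ d 0
    · have hle : Finsupp.single 0 (q - p) ≤ d := by rw [Finsupp.single_le_iff]; exact h0
      have hwu : Finsupp.weight (wt5 p q m) (Finsupp.single 0 (q - p)) =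
          ((q : ℤ) - (p : ℤ), (0 : ZMod m)) := by
        rw [WtPiece.weight5]; simp [hD]
      set e := d - Finsupp.single 0 (q - p) with he
      have hde : monomial d (1 : k) = monomial e 1 * X 0 ^ (q - p) := by
        rw [X_pow_eq_monomial, monomial_mul, mul_one, he, tsub_add_cancel_of_le hle]
      have hwe : monomial e (1 : k) ∈ weightedHomogeneousSubmodule k (wt5 p q m) 0 :=
        WtPiece.monomial_sub_mem _ _ d _ hd hwu hle
      refine ⟨![0, monomial e 1, -(monomial e 1), 0], fun j => ?_, ?_⟩
      · fin_cases j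
        · exact zero_mem _
        · exact hwe
        · exact neg_mem hwe
        · exact zero_mem _
      · rw [Fin.sum_univ_four]
        simp only [hU, Matrix.cons_val_zero, Matrix.cons_val_one, Matrix.cons_val_two,
          Matrix.cons_val_three, Matrix.head_cons, Matrix.tail_cons, zero_mul, zero_add, add_zero]
        have : monomial d (1 : k) - (monomial e 1 * (X 1 * X 4) + -(monomial e 1) * (X 2 * X 3)) =
            monomial e 1 * (X 0 ^ (q - p) - X 1 * X 4 + X 2 * X 3) := by
          rw [hde]; ring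
        rw [this]
        exact Ideal.mul_mem_left _ _ (Ideal.subset_span rfl)
    · push Not at h0
      have h0' : (d 0 : ℤ) < (q : ℤ) - p := by rw [← hD]; exact_mod_cast h0
      have hd0 : (0 : ℤ) ≤ d 0 := by positivity
      have h12 : 1 ≤ d 1 + d 2 := by
        by_contra hc
        have e1 : d 1 = 0 := by omega
        have e2 : d 2 = 0 := by omega
        rw [e1, e2] at h1
        simp only [Nat.cast_zero, add_zero, mul_zero, sub_zero] at h1
        rcases Nat.eq_zero_or_pos (d 3 + d 4) with h34 | h34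
        · have e3 : d 3 = 0 := by omega
          have e4 : d 4 = 0 := by omega
          rw [e3, e4] at h1; simp at h1; omega
        · have : (q : ℤ) * 1 ≤ (q : ℤ) * ((d 3 : ℤ) + d 4) :=
            mul_le_mul_of_nonneg_left (by exact_mod_cast h34) (by omega)
          linarith
      have h34 : 1 ≤ d 3 + d 4 := by
        by_contra hc
        have e3 : d 3 = 0 := by omega
        have e4 : d 4 = 0 := by omega
        rw [e3, e4] at h1
        simp only [Nat.cast_zero, add_zero, mul_zero] at h1
        have : (0 : ℤ) ≤ (p : ℤ) * ((d 1 : ℤ) + d 2) := by positivity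
        linarith
      have hwab : ∀ a b : Fin 5, (a = 1 ∨ a = 2) → (b = 3 ∨ b = 4) →
          Finsupp.weight (wt5 p q m) (Finsupp.single a 1 + Finsupp.single b 1) =
            ((q : ℤ) - (p : ℤ), (0 : ZMod m)) := by
        intro a b ha hb
        rw [WtPiece.weight5]
        rcases ha with rfl | rfl <;> rcases hb with rfl | rfl <;>
          simp [Finsupp.single_apply] <;> ring
      have hleab : ∀ a b : Fin 5, a ≠ b → 1 ≤ d a → 1 ≤ d b →
          Finsupp.single a 1 + Finsupp.single b 1 ≤ d := by
        intro a b hab ha hb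
        rw [Finsupp.le_def]
        intro i
        simp only [Finsupp.coe_add, Pi.add_apply, Finsupp.single_apply]
        by_cases hia : a = i
        · subst hia; rw [if_pos rfl, if_neg (Ne.symm hab)]; omega
        · by_cases hib : b = i
          · subst hib; rw [if_neg hia, if_pos rfl]; omega
          · rw [if_neg hia, if_neg hib]; omega
      have hmab : ∀ a b : Fin 5, monomial (Finsupp.single a 1 + Finsupp.single b 1) (1 : k) =
          X a * X b := by
        intro a b
        rw [X, X, monomial_mul, mul_one]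
      rcases Nat.eq_zero_or_pos (d 1) with hd1 | hd1
      · rcases Nat.eq_zero_or_pos (d 3) with hd3 | hd3
        · exact hcase 3 _ (hwab 2 4 (Or.inr rfl) (Or.inr rfl)) (hleab 2 4 (by decide) (by omega) (by omega))
            (hmab 2 4)
        · exact hcase 2 _ (hwab 2 3 (Or.inr rfl) (Or.inl rfl)) (hleab 2 3 (by decide) (by omega) (by omega))
            (hmab 2 3)
      · rcases Nat.eq_zero_or_pos (d 3) with hd3 | hd3
        · exact hcase 1 _ (hwab 1 4 (Or.inl rfl) (Or.inr rfl)) (hleab 1 4 (by decide) (by omega) (by omega))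
            (hmab 1 4)
        · exact hcase 0 _ (hwab 1 3 (Or.inl rfl) (Or.inl rfl)) (hleab 1 3 (by decide) (by omega) (by omega))
            (hmab 1 3)
  obtain ⟨a, ha, hfa⟩ := WtPiece.gen_mod (wt5 p q m) Finset.univ U P _ hmono f hf
  refine ⟨a 0, a 1, a 2, a 3, ha 0, ha 1, ha 2, ha 3, ?_⟩
  rw [Fin.sum_univ_four] at hfa
  exact hfa

end Groth.Agent.S15726
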