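import Groth.Statements.S15727
import Groth.Agent.Lib.Helper11.MonoLemmas
import Groth.Agent.Lib.Helper11.WtPiece

set_option autoImplicit false
universe u
open W4c2invhilbsl2

namespace Groth.Agent.S15727

open Groth.Agent.Lib.helper11 MvPolynomial W4c2invhilbsl2

lemma mk_smul' {σ : Type*} {k : Type u} [Field k] (I : Ideal (MvPolynomial σ k)) (a : k)
    (f : MvPolynomial σ k) :
    Ideal.Quotient.mk I (C a * f) = a • Ideal.Quotient.mk I f := by
  rw [← smul_eq_C_mul]
  exact map_smul (Ideal.Quotient.mkₐ k I) a f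

lemma mem_span_of_sub_mem {σ : Type*} {k : Type u} [Field k] (I : Ideal (MvPolynomial σ k)) (a : k)
    (f g : MvPolynomial σ k) (h : f - C a * g ∈ I) :
    Ideal.Quotient.mk I f ∈ Submodule.span k {Ideal.Quotient.mk I g} := by
  rw [Submodule.mem_span_singleton]
  refine ⟨a, ?_⟩
  rw [← mk_smul', eq_comm]
  exact Ideal.Quotient.eq.2 h


/-- Let k be an algebraically closed field, 0 < p < q coprime integers and m ≥ 1, and grade k[X₀,…,X₄]
by ℤ × ℤ/m, giving X₀ weight (1,0), X₁ and X₂ weight (−p,−1), and X₃ and X₄ weight (q,1). For s ∈ k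
let I_s be the ideal (X₀^(q−p) − X₁X₄, X₂, X₃, s − X₀^(mp)X₁^m), whose generators are homogeneous
(the last one of weight zero). Then for every weight ν the image in k[X₀,…,X₄]/I_s of the
homogeneous polynomials of weight ν is a k-vector space of dimension at most 1. (The published
statement asserts that this dimension equals 1 for every ν and every s, namely that the quotient has
the Hilbert function of the regular representation of the grading group; this row states the upper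
bound, the half obtained from the monomial analysis of the weight pieces, while the lower bound
there is drawn from the moduli interpretation of these ideals. The published statement is over the
complex numbers; this row takes any algebraically closed field, which is what the reduction to s =
0, 1 by rescaling the variables uses.) -/
theorem result (k : Type u) [Field k] [IsAlgClosed k] (p q m : ℕ) (hp : 0 < p) (hpq : p < q) (hcop : Nat.Coprime p q) (hm : 0 < m) (s : k) (ν : ℤ × ZMod m) :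
    Module.rank k (W4c2invhilbsl2.piece k (W4c2invhilbsl2.wt5 p q m) (W4c2invhilbsl2.idealI k p q m s) ν) ≤ 1 := by
  classical
  obtain ⟨n, cbar⟩ := ν
  set I := idealI k p q m s with hI
  have hgen1 : (X 0 ^ (q - p) - X 1 * X 4 : MvPolynomial (Fin 5) k) ∈ I :=
    Ideal.subset_span (by simp)
  have hgen2 : (X 2 : MvPolynomial (Fin 5) k) ∈ I := Ideal.subset_span (by simp)
  have hgen3 : (X 3 : MvPolynomial (Fin 5) k) ∈ I := Ideal.subset_span (by simp)
  have hgen4 : (C s - X 0 ^ (m * p) * X 1 ^ m : MvPolynomial (Fin 5) k) ∈ I :=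
    Ideal.subset_span (by simp)
  -- monomials involving X2 or X3 vanish
  have hvan : ∀ d : Fin 5 →₀ ℕ, (d 2 ≠ 0 ∨ d 3 ≠ 0) → (monomial d (1 : k)) ∈ I := by
    intro d hd
    rw [WtPiece.mono5]
    rcases hd with hd | hd
    · obtain ⟨e, he⟩ := Nat.exists_eq_succ_of_ne_zero hd
      rw [he, pow_succ]
      have : (X 0 ^ d 0 * X 1 ^ d 1 * (X 2 ^ e * X 2) * X 3 ^ d 3 * X 4 ^ d 4 : MvPolynomial (Fin 5) k) =
          (X 0 ^ d 0 * X 1 ^ d 1 * X 2 ^ e * X 3 ^ d 3 * X 4 ^ d 4) * X 2 := by ring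
      rw [this]
      exact Ideal.mul_mem_left _ _ hgen2
    · obtain ⟨e, he⟩ := Nat.exists_eq_succ_of_ne_zero hd
      rw [he, pow_succ]
      have : (X 0 ^ d 0 * X 1 ^ d 1 * X 2 ^ d 2 * (X 3 ^ e * X 3) * X 4 ^ d 4 : MvPolynomial (Fin 5) k) =
          (X 0 ^ d 0 * X 1 ^ d 1 * X 2 ^ d 2 * X 3 ^ e * X 4 ^ d 4) * X 3 := by ring
      rw [this]
      exact Ideal.mul_mem_left _ _ hgen3
  by_cases hS : ∃ d : Fin 5 →₀ ℕ, Finsupp.weight (wt5 p q m) d = (n, cbar) ∧ d 2 = 0 ∧ d 3 = 0
  · -- choose d* with minimal c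
    have hbdd : ∃ b : ℤ, ∀ z : ℤ, (∃ d : Fin 5 →₀ ℕ, (Finsupp.weight (wt5 p q m) d = (n, cbar) ∧
        d 2 = 0 ∧ d 3 = 0) ∧ (d 1 : ℤ) - d 4 = z) → b ≤ z := by
      refine ⟨-|n|, ?_⟩
      rintro z ⟨d, ⟨hw, h2, h3⟩, rfl⟩
      rw [WtPiece.weight5, Prod.mk.injEq] at hw
      have h1 := hw.1
      rw [h2, h3] at h1
      push_cast at h1
      by_contra hcon
      push Not at hcon
      have hp1 : (1 : ℤ) ≤ p := by exact_mod_cast hp
      have habs := neg_abs_le n
      have hc0 : (d 1 : ℤ) - d 4 < 0 := by have := abs_nonneg n; linarith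
      have : (p : ℤ) * ((d 1 : ℤ) - d 4) ≤ 1 * ((d 1 : ℤ) - d 4) :=
        mul_le_mul_of_nonpos_right hp1 hc0.le
      have hqp : (0 : ℤ) ≤ ((q : ℤ) - p) * d 4 :=
        mul_nonneg (by have : (p : ℤ) < q := by exact_mod_cast hpq
                       linarith) (by positivity)
      have hd0 : (0 : ℤ) ≤ d 0 := by positivity
      have e : n = (d 0 : ℤ) - (p : ℤ) * ((d 1 : ℤ) - d 4) + ((q : ℤ) - p) * d 4 := by
        rw [← h1]; ring
      have := le_abs_self n
      linarith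
    have hinh : ∃ z : ℤ, ∃ d : Fin 5 →₀ ℕ, (Finsupp.weight (wt5 p q m) d = (n, cbar) ∧
        d 2 = 0 ∧ d 3 = 0) ∧ (d 1 : ℤ) - d 4 = z := by
      obtain ⟨d, hd⟩ := hS
      exact ⟨_, d, hd, rfl⟩
    obtain ⟨c0, ⟨dstar, ⟨hw0, h20, h30⟩, hc0⟩, hmin⟩ := Int.exists_least_of_bdd hbdd hinh
    apply WtPiece.rank_piece_le_one (wt5 p q m) I (n, cbar) (Ideal.Quotient.mk I (monomial dstar 1))
    intro d hw
    by_cases hd : d 2 ≠ 0 ∨ d 3 ≠ 0
    · rw [Ideal.Quotient.eq_zero_iff_mem.2 (hvan d hd)]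
      exact zero_mem _
    · push Not at hd
      obtain ⟨h2, h3⟩ := hd
      have hle := hmin _ ⟨d, ⟨hw, h2, h3⟩, rfl⟩
      rw [WtPiece.weight5, Prod.mk.injEq] at hw hw0
      obtain ⟨hw1, hw2⟩ := hw
      obtain ⟨hw01, hw02⟩ := hw0
      rw [h2, h3] at hw1 hw2
      rw [h20, h30] at hw01 hw02
      simp only [Nat.cast_zero, add_zero, zero_add] at hw1 hw2 hw01 hw02
      -- divisibility of c - c0 by m
      have hdvd : (m : ℤ) ∣ ((d 1 : ℤ) - d 4) - ((dstar 1 : ℤ) - dstar 4) := by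
        have : (((d 4 : ℤ) - d 1 : ℤ) : ZMod m) = (((dstar 4 : ℤ) - dstar 1 : ℤ) : ZMod m) := by
          push_cast
          rw [hw2, hw02]
        rw [ZMod.intCast_eq_intCast_iff_dvd_sub] at this
        have h' : ((d 1 : ℤ) - d 4) - ((dstar 1 : ℤ) - dstar 4) =
            ((dstar 4 : ℤ) - dstar 1) - ((d 4 : ℤ) - d 1) := by ring
        rw [h']; exact this
      obtain ⟨j, hj⟩ : ∃ j : ℕ, ((d 1 : ℤ) - d 4) - ((dstar 1 : ℤ) - dstar 4) = (m : ℤ) * j := by
        obtain ⟨z, hz⟩ := hdvd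
        have hz0 : 0 ≤ z := by
          by_contra h
          push Not at h
          have : (m : ℤ) * z < 0 := mul_neg_of_pos_of_neg (by exact_mod_cast hm) h
          linarith
        obtain ⟨j, rfl⟩ := Int.eq_ofNat_of_zero_le hz0
        exact ⟨j, hz⟩
      have hB := Mono.lemB (X 0 : MvPolynomial (Fin 5) k) (X 1) (X 4) hpq.le m j
        (d0 := d 0) (d1 := d 1) (d2 := d 4) (e0 := dstar 0) (e1 := dstar 1) (e2 := dstar 4)
        (by linarith) (by linarith)
      apply mem_span_of_sub_mem I (s ^ j)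
      rw [WtPiece.mono5, WtPiece.mono5, h2, h3, h20, h30]
      simp only [pow_zero, mul_one]
      have h5 : (X 0 ^ d 0 * X 1 ^ d 1 * X 4 ^ d 4 -
          C (s ^ j) * (X 0 ^ dstar 0 * X 1 ^ dstar 1 * X 4 ^ dstar 4) : MvPolynomial (Fin 5) k) =
          (X 0 ^ d 0 * X 1 ^ d 1 * X 4 ^ d 4 -
            X 0 ^ dstar 0 * X 1 ^ dstar 1 * X 4 ^ dstar 4 * (X 0 ^ (m * p) * X 1 ^ m) ^ j) +
          (X 0 ^ dstar 0 * X 1 ^ dstar 1 * X 4 ^ dstar 4) *
            ((X 0 ^ (m * p) * X 1 ^ m) ^ j - (C s) ^ j) := by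
        rw [C_pow]; ring
      rw [h5]
      refine add_mem ?_ (Ideal.mul_mem_left _ _ ?_)
      · exact (Ideal.span_le.2 (Set.singleton_subset_iff.2 hgen1)) hB
      · obtain ⟨t, ht⟩ := sub_dvd_pow_sub_pow (X 0 ^ (m * p) * X 1 ^ m : MvPolynomial (Fin 5) k) (C s) j
        rw [ht]
        have : (X 0 ^ (m * p) * X 1 ^ m - C s : MvPolynomial (Fin 5) k) ∈ I := by
          rw [← Ideal.neg_mem_iff, neg_sub]; exact hgen4
        exact Ideal.mul_mem_right _ _ this
  · push Not at hS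
    apply WtPiece.rank_piece_le_one (wt5 p q m) I (n, cbar) 0
    intro d hw
    have hd : d 2 ≠ 0 ∨ d 3 ≠ 0 := by
      by_contra h
      push Not at h
      exact hS d hw h.1 h.2
    rw [Ideal.Quotient.eq_zero_iff_mem.2 (hvan d hd)]
    exact zero_mem _

end Groth.Agent.S15727
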