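import Groth.Statements.S15728
import Groth.Agent.Lib.Helper11.MonoLemmas
import Groth.Agent.Lib.Helper11.WtPiece

set_option autoImplicit false
universe u
open W4c2invhilbsl2

namespace Groth.Agent.S15728

open Groth.Agent.Lib.helper11 MvPolynomial W4c2invhilbsl2

lemma mk_smul' {σ : Type*} {k : Type u} [Field k] (I : Ideal (MvPolynomial σ k)) (a : k)
    (f : MvPolynomial σ k) :
    Ideal.Quotient.mk I (C a * f) = a • Ideal.Quotient.mk I f := by
  rw [← smul_eq_C_mul]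
  exact map_smul (Ideal.Quotient.mkₐ k I) a f

lemma mem_span_of_sub_mem {σ : Type*} {k : Type u} [Field k] (I : Ideal (MvPolynomial σ k)) (a : k)
    (f g : MvPolynomial σ k) (h : f - C a * g ∈ I) :
    Ideal.Quotient.mk I f ∈ Submodule.span k {Ideal.Quotient.mk I g} := by
  rw [Submodule.mem_span_singleton]
  refine ⟨a, ?_⟩
  rw [← mk_smul', eq_comm]
  exact Ideal.Quotient.eq.2 h

lemma arithJ' (p q m : ℕ) (hpq : p < q) (hcop : Nat.Coprime p q) (hm : 0 < m)
    (d0 d1 d2 e0 e1 e2 : ℕ)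
    (hn : (e0 : ℤ) - (p : ℤ) * e1 + (q : ℤ) * e2 = (d0 : ℤ) - (p : ℤ) * d1 + (q : ℤ) * d2)
    (hc : (m : ℤ) ∣ ((d1 : ℤ) - d2) - ((e1 : ℤ) - e2))
    (hd0 : d0 < Nat.gcd m (q - p)) (he0 : e0 < Nat.gcd m (q - p)) :
    d0 = e0 ∧ ∃ z : ℤ, (e1 : ℤ) = d1 + ((m / Nat.gcd m (q - p) * q : ℕ) : ℤ) * z ∧
      (e2 : ℤ) = d2 + ((m / Nat.gcd m (q - p) * p : ℕ) : ℤ) * z := by
  set g := Nat.gcd m (q - p) with hg
  have hgpos : 0 < g := Nat.gcd_pos_of_pos_left _ hm
  have hga : g * (m / g) = m := Nat.mul_div_cancel' (Nat.gcd_dvd_left _ _)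
  have hgb : g * ((q - p) / g) = q - p := Nat.mul_div_cancel' (Nat.gcd_dvd_right _ _)
  have hab : Nat.Coprime (m / g) ((q - p) / g) := Nat.coprime_div_gcd_div_gcd hgpos
  set a := m / g with ha
  set b := (q - p) / g with hb
  have hD : ((q - p : ℕ) : ℤ) = (q : ℤ) - p := Nat.cast_sub hpq.le
  have hgaZ : (g : ℤ) * a = m := by exact_mod_cast hga
  have hgbZ : (g : ℤ) * b = (q : ℤ) - p := by rw [← hD]; exact_mod_cast hgb
  have hbpos : 0 < b := by
    rcases Nat.eq_zero_or_pos b with h | h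
    · rw [h, mul_zero] at hgb; omega
    · exact h
  obtain ⟨y, hy⟩ := hc
  have h1 : (d0 : ℤ) - e0 = (g : ℤ) * ((p : ℤ) * a * y - (b : ℤ) * ((d2 : ℤ) - e2)) := by
    have : (d0 : ℤ) - e0 = (p : ℤ) * (((d1 : ℤ) - d2) - ((e1 : ℤ) - e2)) -
        ((q : ℤ) - p) * ((d2 : ℤ) - e2) := by linarith
    rw [this, hy, ← hgaZ, ← hgbZ]; ring
  have h2 : (d0 : ℤ) - e0 = 0 := by
    apply Int.eq_zero_of_abs_lt_dvd (m := (g : ℤ)) ⟨_, h1⟩
    rw [abs_lt]
    constructor <;> omega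
  have h3 : d0 = e0 := by omega
  refine ⟨h3, ?_⟩
  have h4 : (p : ℤ) * a * y = (b : ℤ) * ((d2 : ℤ) - e2) := by
    rw [h2] at h1
    have hg0 : (g : ℤ) ≠ 0 := by exact_mod_cast hgpos.ne'
    have := (mul_eq_zero.1 h1.symm).resolve_left hg0
    linarith
  have hcopD : Nat.Coprime p (q - p) := by
    rw [Nat.coprime_sub_self_right hpq.le]; exact hcop
  have hcopb : Nat.Coprime b p := by
    apply Nat.Coprime.coprime_dvd_left (Dvd.intro_left g hgb) hcopD.symm
  have hcop1 : IsCoprime (b : ℤ) ((p : ℤ) * a) :=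
    IsCoprime.mul_right (Nat.isCoprime_iff_coprime.2 hcopb) (Nat.isCoprime_iff_coprime.2 hab.symm)
  have h5 : (b : ℤ) ∣ y := hcop1.dvd_of_dvd_mul_left ⟨(d2 : ℤ) - e2, h4⟩
  obtain ⟨w, hw⟩ := h5
  have hb0 : (b : ℤ) ≠ 0 := by exact_mod_cast hbpos.ne'
  have h6 : (d2 : ℤ) - e2 = (p : ℤ) * a * w := by
    rw [hw] at h4
    have : (b : ℤ) * ((p : ℤ) * a * w) = (b : ℤ) * ((d2 : ℤ) - e2) := by linarith
    exact (mul_left_cancel₀ hb0 this).symm
  refine ⟨-w, ?_, ?_⟩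
  · have : (e1 : ℤ) - d1 = - (((d1 : ℤ) - d2) - ((e1 : ℤ) - e2)) - ((d2 : ℤ) - e2) := by ring
    have h7 : (e1 : ℤ) - d1 = - ((a : ℤ) * q * w) := by
      rw [this, hy, h6, hw, ← hgaZ]
      have hq : (q : ℤ) = (g : ℤ) * b + p := by linarith
      rw [hq]; ring
    push_cast
    linarith
  · push_cast
    linarith


/-- Let k be an algebraically closed field, 0 < p < q coprime integers and m ≥ 1; put g = gcd(m, q−p)
and a = m/g, and grade k[X₀,…,X₄] by ℤ × ℤ/m, giving X₀ weight (1,0), X₁ and X₂ weight (−p,−1), and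
X₃ and X₄ weight (q,1). For s ∈ k let J_s be the ideal (X₀^g, X₂, X₄, s − X₁^(aq)X₃^(ap)), whose
generators are homogeneous (the last one of weight zero). Then for every weight ν the image in
k[X₀,…,X₄]/J_s of the homogeneous polynomials of weight ν is a k-vector space of dimension at most
1. (The published statement asserts that this dimension equals 1 for every ν and every s; this row
states the upper bound, the half obtained from the monomial analysis of the weight pieces, while the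
lower bound there is drawn from the moduli interpretation of these ideals. The published statement
is over the complex numbers; this row takes any algebraically closed field, which is what the
reduction to s = 0, 1 by rescaling the variables uses.) -/
theorem result (k : Type u) [Field k] [IsAlgClosed k] (p q m : ℕ) (hp : 0 < p) (hpq : p < q) (hcop : Nat.Coprime p q) (hm : 0 < m) (s : k) (ν : ℤ × ZMod m) :
    Module.rank k (W4c2invhilbsl2.piece k (W4c2invhilbsl2.wt5 p q m) (W4c2invhilbsl2.idealJ k p q m s) ν) ≤ 1 := by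
  classical
  obtain ⟨n, cbar⟩ := ν
  set I := idealJ k p q m s with hI
  set g := Nat.gcd m (q - p) with hg
  set A := m / g * q with hA
  set B := m / g * p with hB
  have hgen1 : (X 0 ^ g : MvPolynomial (Fin 5) k) ∈ I := Ideal.subset_span (Or.inl rfl)
  have hgen2 : (X 2 : MvPolynomial (Fin 5) k) ∈ I := Ideal.subset_span (by simp)
  have hgen3 : (X 4 : MvPolynomial (Fin 5) k) ∈ I := Ideal.subset_span (by simp)
  have hgen4 : (C s - X 1 ^ A * X 3 ^ B : MvPolynomial (Fin 5) k) ∈ I :=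
    Ideal.subset_span (Or.inr (Or.inr (Or.inr rfl)))
  -- monomials involving X2 or X4 or X0^g vanish
  have hvan : ∀ d : Fin 5 →₀ ℕ, (d 2 ≠ 0 ∨ d 4 ≠ 0 ∨ g ≤ d 0) → (monomial d (1 : k)) ∈ I := by
    intro d hd
    rw [WtPiece.mono5]
    rcases hd with hd | hd | hd
    · obtain ⟨e, he⟩ := Nat.exists_eq_succ_of_ne_zero hd
      rw [he, pow_succ]
      have : (X 0 ^ d 0 * X 1 ^ d 1 * (X 2 ^ e * X 2) * X 3 ^ d 3 * X 4 ^ d 4 : MvPolynomial (Fin 5) k) =
          (X 0 ^ d 0 * X 1 ^ d 1 * X 2 ^ e * X 3 ^ d 3 * X 4 ^ d 4) * X 2 := by ring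
      rw [this]
      exact Ideal.mul_mem_left _ _ hgen2
    · obtain ⟨e, he⟩ := Nat.exists_eq_succ_of_ne_zero hd
      rw [he, pow_succ]
      have : (X 0 ^ d 0 * X 1 ^ d 1 * X 2 ^ d 2 * X 3 ^ d 3 * (X 4 ^ e * X 4) : MvPolynomial (Fin 5) k) =
          (X 0 ^ d 0 * X 1 ^ d 1 * X 2 ^ d 2 * X 3 ^ d 3 * X 4 ^ e) * X 4 := by ring
      rw [this]
      exact Ideal.mul_mem_left _ _ hgen3
    · obtain ⟨e, he⟩ := Nat.exists_eq_add_of_le hd
      rw [he, pow_add]
      have : (X 0 ^ g * X 0 ^ e * X 1 ^ d 1 * X 2 ^ d 2 * X 3 ^ d 3 * X 4 ^ d 4 : MvPolynomial (Fin 5) k) =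
          (X 0 ^ e * X 1 ^ d 1 * X 2 ^ d 2 * X 3 ^ d 3 * X 4 ^ d 4) * X 0 ^ g := by ring
      rw [this]
      exact Ideal.mul_mem_left _ _ hgen1
  by_cases hS : ∃ N : ℕ, ∃ d : Fin 5 →₀ ℕ, (Finsupp.weight (wt5 p q m) d = (n, cbar) ∧ d 2 = 0 ∧
      d 4 = 0 ∧ d 0 < g) ∧ d 1 = N
  · obtain ⟨⟨dstar, ⟨hw0, h20, h40, hg0⟩, hN⟩, hmin⟩ := Nat.find_spec hS, @Nat.find_min _ _ hS
    apply WtPiece.rank_piece_le_one (wt5 p q m) I (n, cbar) (Ideal.Quotient.mk I (monomial dstar 1))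
    intro d hw
    by_cases hd : d 2 ≠ 0 ∨ d 4 ≠ 0 ∨ g ≤ d 0
    · rw [Ideal.Quotient.eq_zero_iff_mem.2 (hvan d hd)]
      exact zero_mem _
    · push Not at hd
      obtain ⟨h2, h4, hgd⟩ := hd
      have hle : dstar 1 ≤ d 1 := by
        by_contra hcon
        push Not at hcon
        rw [← hN] at hmin
        exact hmin hcon ⟨d, ⟨hw, h2, h4, hgd⟩, rfl⟩
      rw [WtPiece.weight5, Prod.mk.injEq] at hw hw0
      obtain ⟨hw1, hw2⟩ := hw
      obtain ⟨hw01, hw02⟩ := hw0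
      rw [h2, h4] at hw1 hw2
      rw [h20, h40] at hw01 hw02
      simp only [Nat.cast_zero, add_zero] at hw1 hw2 hw01 hw02
      have hdvd : (m : ℤ) ∣ ((dstar 1 : ℤ) - dstar 3) - ((d 1 : ℤ) - d 3) := by
        have : (((d 3 : ℤ) - d 1 : ℤ) : ZMod m) = (((dstar 3 : ℤ) - dstar 1 : ℤ) : ZMod m) := by
          push_cast
          rw [hw2, hw02]
        rw [ZMod.intCast_eq_intCast_iff_dvd_sub] at this
        have h' : ((dstar 1 : ℤ) - dstar 3) - ((d 1 : ℤ) - d 3) =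
            ((d 3 : ℤ) - d 1) - ((dstar 3 : ℤ) - dstar 1) := by ring
        rw [h', ← neg_sub, dvd_neg]; exact this
      obtain ⟨h0eq, z, hz1, hz2⟩ := arithJ' p q m hpq hcop hm (dstar 0) (dstar 1) (dstar 3)
        (d 0) (d 1) (d 3) (by linarith) hdvd hg0 hgd
      have hmpos : 0 < m / g := Nat.div_pos (Nat.le_of_dvd hm (Nat.gcd_dvd_left _ _))
        (Nat.gcd_pos_of_pos_left _ hm)
      have hApos : (0 : ℤ) < ((m / g * q : ℕ) : ℤ) := by
        have : 0 < m / g * q := Nat.mul_pos hmpos (by omega)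
        exact_mod_cast this
      have hz0 : 0 ≤ z := by
        by_contra h
        push Not at h
        have : ((m / g * q : ℕ) : ℤ) * z < 0 := mul_neg_of_pos_of_neg hApos h
        have h1 : (dstar 1 : ℤ) ≤ d 1 := by exact_mod_cast hle
        linarith
      obtain ⟨j, rfl⟩ := Int.eq_ofNat_of_zero_le hz0
      have e1 : d 1 = dstar 1 + A * j := by exact_mod_cast hz1
      have e3 : d 3 = dstar 3 + B * j := by exact_mod_cast hz2
      apply mem_span_of_sub_mem I (s ^ j)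
      rw [WtPiece.mono5, WtPiece.mono5, h2, h4, h20, h40, ← h0eq, e1, e3]
      simp only [pow_zero, mul_one]
      have h5 : (X 0 ^ dstar 0 * X 1 ^ (dstar 1 + A * j) * X 3 ^ (dstar 3 + B * j) -
          C (s ^ j) * (X 0 ^ dstar 0 * X 1 ^ dstar 1 * X 3 ^ dstar 3) : MvPolynomial (Fin 5) k) =
          (X 0 ^ dstar 0 * X 1 ^ dstar 1 * X 3 ^ dstar 3) *
            ((X 1 ^ A * X 3 ^ B) ^ j - (C s) ^ j) := by
        rw [C_pow, pow_add, pow_add, mul_pow, ← pow_mul, ← pow_mul]; ring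
      rw [h5]
      refine Ideal.mul_mem_left _ _ ?_
      obtain ⟨t, ht⟩ := sub_dvd_pow_sub_pow (X 1 ^ A * X 3 ^ B : MvPolynomial (Fin 5) k) (C s) j
      rw [ht]
      have : (X 1 ^ A * X 3 ^ B - C s : MvPolynomial (Fin 5) k) ∈ I := by
        rw [← Ideal.neg_mem_iff, neg_sub]; exact hgen4
      exact Ideal.mul_mem_right _ _ this
  · push Not at hS
    apply WtPiece.rank_piece_le_one (wt5 p q m) I (n, cbar) 0
    intro d hw
    have hd : d 2 ≠ 0 ∨ d 4 ≠ 0 ∨ g ≤ d 0 := by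
      by_contra h
      push Not at h
      exact hS (d 1) d ⟨hw, h.1, h.2.1, h.2.2⟩ rfl
    rw [Ideal.Quotient.eq_zero_iff_mem.2 (hvan d hd)]
    exact zero_mem _

end Groth.Agent.S15728
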