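import Groth.Statements.S15733
import Groth.Agent.Lib.Helper11.HJ

set_option autoImplicit false
open W4c2invhilbsl2

namespace Groth.Agent.S15733

open Groth.Agent.Lib.helper11


/-- Let 0 < p < q be coprime integers and m ≥ 1 such that q − p does not divide m; put g = gcd(m, q−p),
b = (q−p)/g, α = ⌊mp/(q−p)⌋, β = the remainder of mp modulo q−p and t = (q−p−β)/g, so that 1 ≤ t <
b, and let b/t = c₁ − 1/(c₂ − 1/(⋯ − 1/c_r)) be the negative-regular (Hirzebruch–Jung) continued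
fraction expansion with every cᵢ ≥ 2; set P₀ = 0, P₁ = 1, Q₀ = −1, Q₁ = 0, Pᵢ = cᵢ₋₁Pᵢ₋₁ − Pᵢ₋₂, Qᵢ
= cᵢ₋₁Qᵢ₋₁ − Qᵢ₋₂ for 2 ≤ i ≤ r+1, and eᵢ = (α+1+m)Pᵢ − Qᵢ, lᵢ = (α+1)Pᵢ − Qᵢ, nᵢ = q·lᵢ − p·eᵢ,
which are non-negative integers for 0 ≤ i ≤ r+1. Then for every 1 < i ≤ r and every integer x with 0
< x < Pᵢ, the remainder of pmx + nᵢ on division by q − p equals nᵢ plus the remainder of pmx on
division by q − p (in particular nᵢ + (pmx mod (q−p)) < q − p). -/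
theorem result (p q m : ℕ) (hp : 0 < p) (hpq : p < q) (hcop : Nat.Coprime p q) (hm : 0 < m) (hnt : ¬ (q - p ∣ m)) (c : List ℤ) (hc : W4c2invhilbsl2.IsHJDigits p q m c) (i : ℕ) (hi : 1 < i) (hir : i ≤ c.length)
    (x : ℤ) (hx0 : 0 < x) (hx : x < W4c2invhilbsl2.hjP c i) :
    Int.emod ((p : ℤ) * m * x + W4c2invhilbsl2.nN p q m c i) ((q : ℤ) - p) = W4c2invhilbsl2.nN p q m c i + Int.emod ((p : ℤ) * m * x) ((q : ℤ) - p) := by
  have hgpos : (0 : ℤ) < (W4c2invhilbsl2.gcdK p q m : ℤ) := by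
    exact_mod_cast HJ.g_pos (p := p) (q := q) hm
  have hbpos : (0 : ℤ) < W4c2invhilbsl2.bB p q m := by
    have := (HJ.t_pos (m := m) hpq).trans (HJ.t_lt_b hpq hcop hnt)
    exact_mod_cast this
  have hd : ((q - p : ℕ) : ℤ) = (q : ℤ) - p := Nat.cast_sub hpq.le
  have h1 : ((W4c2invhilbsl2.gcdK p q m : ℕ) : ℤ) * (W4c2invhilbsl2.tT p q m : ℤ) =
      (q : ℤ) - p - ((m * p % (q - p) : ℕ) : ℤ) := by
    have := HJ.g_mul_t (p := p) (q := q) (m := m)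
    have h' : ((W4c2invhilbsl2.gcdK p q m * W4c2invhilbsl2.tT p q m : ℕ) : ℤ) =
        ((q - p - m * p % (q - p) : ℕ) : ℤ) := by rw [this]
    rw [Nat.cast_sub (HJ.mod_lt hpq).le, hd] at h'
    rw [← h']
    push_cast
    ring
  have h2 : ((W4c2invhilbsl2.gcdK p q m : ℕ) : ℤ) * (W4c2invhilbsl2.bB p q m : ℤ) = (q : ℤ) - p := by
    have := HJ.g_mul_b (p := p) (q := q) (m := m)
    rw [← hd, ← this]
    push_cast
    ring
  have h3 : ((q : ℤ) - p) * ((m * p / (q - p) : ℕ) : ℤ) + ((m * p % (q - p) : ℕ) : ℤ) = (m : ℤ) * p := by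
    have := Nat.div_add_mod (m * p) (q - p)
    rw [← hd]
    exact_mod_cast this
  obtain ⟨hρ1, hρ2⟩ := HJ.rho_bounds hpq hcop hnt hc i hi hir x hx0 hx
  set ρ := ((W4c2invhilbsl2.tT p q m : ℤ) * x) % (W4c2invhilbsl2.bB p q m : ℤ) with hρ
  set y := ((W4c2invhilbsl2.tT p q m : ℤ) * x) / (W4c2invhilbsl2.bB p q m : ℤ) with hy
  have hρe : (W4c2invhilbsl2.tT p q m : ℤ) * x = (W4c2invhilbsl2.bB p q m : ℤ) * y + ρ := by
    have := Int.emod_add_mul_ediv ((W4c2invhilbsl2.tT p q m : ℤ) * x) (W4c2invhilbsl2.bB p q m : ℤ)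
    rw [hρ, hy]; linarith
  have hρb : ρ < W4c2invhilbsl2.bB p q m := Int.emod_lt_of_pos _ hbpos
  have hTi : 0 < HJ.T p q m c i := HJ.T_pos hpq hcop hnt hc i hir
  have hTlt : HJ.T p q m c i < HJ.T p q m c (i - 1) := by
    obtain ⟨j, rfl⟩ : ∃ j, i = j + 1 := ⟨i - 1, by omega⟩
    exact HJ.T_lt hpq hcop hnt hc j hir
  have hn : W4c2invhilbsl2.nN p q m c i = (W4c2invhilbsl2.gcdK p q m : ℤ) * HJ.T p q m c i :=
    HJ.nN_eq hpq c i
  set g : ℤ := (W4c2invhilbsl2.gcdK p q m : ℤ) with hg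
  set α : ℤ := ((m * p / (q - p) : ℕ) : ℤ) with hα
  have e1 : (p : ℤ) * m * x = ((q : ℤ) - p) * (α * x + x - y - 1) + ((q : ℤ) - p - g * ρ) := by
    linear_combination (-x) * h3 + x * h1 + (-g) * hρe + (-y) * h2
  have hgρ : g * ρ < (q : ℤ) - p := by
    rw [← h2]; exact mul_lt_mul_of_pos_left hρb hgpos
  have hgρ0 : 0 < g * ρ := mul_pos hgpos (by linarith)
  have hgT : g * HJ.T p q m c i < g * ρ := mul_lt_mul_of_pos_left (by linarith) hgpos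
  have hgT0 : 0 < g * HJ.T p q m c i := mul_pos hgpos hTi
  have r1 : Int.emod ((p : ℤ) * m * x) ((q : ℤ) - p) = (q : ℤ) - p - g * ρ := by
    change ((p : ℤ) * m * x) % ((q : ℤ) - p) = _
    rw [e1, Int.add_comm, Int.add_mul_emod_self_left]
    exact Int.emod_eq_of_lt (by linarith) (by linarith)
  have r2 : Int.emod ((p : ℤ) * m * x + W4c2invhilbsl2.nN p q m c i) ((q : ℤ) - p) =
      (q : ℤ) - p - g * ρ + g * HJ.T p q m c i := by
    change ((p : ℤ) * m * x + W4c2invhilbsl2.nN p q m c i) % ((q : ℤ) - p) = _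
    have e2 : (p : ℤ) * m * x + W4c2invhilbsl2.nN p q m c i =
        ((q : ℤ) - p - g * ρ + g * HJ.T p q m c i) + ((q : ℤ) - p) * (α * x + x - y - 1) := by
      rw [e1, hn]; ring
    rw [e2, Int.add_mul_emod_self_left]
    exact Int.emod_eq_of_lt (by linarith) (by linarith)
  rw [r1, r2, hn]
  ring

end Groth.Agent.S15733
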