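import Groth.Statements.S15729
import Groth.Agent.Lib.Helper11.WtPiece
import Groth.Agent.Lib.Helper11.HJ
import Groth.Agent.S15733

set_option autoImplicit false
universe u
open W4c2invhilbsl2

namespace Groth.Agent.S15729

open Groth.Agent.Lib.helper11 MvPolynomial W4c2invhilbsl2

/-- the arithmetic core: a monomial of weight `(nᵢ, 0)` with `d₀ < nᵢ` has `d₁ ≥ eᵢ`, `d₂ ≥ lᵢ`. -/
lemma div_arith (p q m : ℕ) (hp : 0 < p) (hpq : p < q) (hcop : Nat.Coprime p q) (hm : 0 < m)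
    (hnt : ¬ (q - p ∣ m)) (c : List ℤ) (hc : IsHJDigits p q m c) (i : ℕ) (hi : 1 ≤ i)
    (hir : i ≤ c.length) (d0 d1 d2 : ℕ)
    (h1 : (d0 : ℤ) - (p : ℤ) * d1 + (q : ℤ) * d2 = nN p q m c i)
    (h2 : (m : ℤ) ∣ (d1 : ℤ) - d2) (h0 : (d0 : ℤ) < nN p q m c i) :
    eE p q m c i ≤ d1 ∧ lL p q m c i ≤ d2 := by
  obtain ⟨z, hz⟩ := h2
  have hmpos : (0 : ℤ) < m := by exact_mod_cast hm
  have hppos : (0 : ℤ) < p := by exact_mod_cast hp
  have hDpos : (0 : ℤ) < (q : ℤ) - p := by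
    have : (p : ℤ) < q := by exact_mod_cast hpq
    linarith
  have hnlt := HJ.nN_lt hpq hcop hm hnt hc i hi (by omega)
  have hd0 : (0 : ℤ) ≤ d0 := by positivity
  have hd2 : (0 : ℤ) ≤ d2 := by positivity
  have hd1 : (0 : ℤ) ≤ d1 := by positivity
  -- d0 = n + p m z - D d2
  have e0 : (d0 : ℤ) = nN p q m c i + (p : ℤ) * m * z - ((q : ℤ) - p) * d2 := by
    have : (d1 : ℤ) = d2 + (m : ℤ) * z := by linarith
    rw [this] at h1
    linarith
  have hlt : (p : ℤ) * m * z < ((q : ℤ) - p) * d2 := by linarith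
  have hle : ((q : ℤ) - p) * d2 ≤ nN p q m c i + (p : ℤ) * m * z := by linarith
  -- z ≥ 1
  have hz1 : 1 ≤ z := by
    by_contra hcon
    push Not at hcon
    have hz0 : z ≤ 0 := by omega
    have h3 : (p : ℤ) * m * z ≤ 0 := mul_nonpos_of_nonneg_of_nonpos (by positivity) hz0
    have h4 : ((q : ℤ) - p) * d2 < ((q : ℤ) - p) * 1 := by linarith
    have h5 : (d2 : ℤ) < 1 := lt_of_mul_lt_mul_left h4 hDpos.le
    have h6 : (d2 : ℤ) = 0 := by omega
    rw [h6, mul_zero] at hlt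
    have h7 : z < 0 := by
      by_contra h
      push Not at h
      have : z = 0 := by omega
      rw [this, mul_zero] at hlt
      exact lt_irrefl _ hlt
    have h8 : (m : ℤ) * z < 0 := mul_neg_of_pos_of_neg hmpos h7
    linarith
  -- z ≥ P_i
  have hzP : hjP c i ≤ z := by
    by_contra hcon
    push Not at hcon
    have hi2 : 1 < i := by
      rcases Nat.eq_or_lt_of_le hi with h | h
      · subst h
        simp only [hjP] at hcon
        omega
      · exact h
    have hS := Groth.Agent.S15733.result p q m hp hpq hcop hm hnt c hc i hi2 hir z (by omega) hcon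
    have hlt' : Int.emod ((p : ℤ) * m * z + nN p q m c i) ((q : ℤ) - p) < (q : ℤ) - p :=
      Int.emod_lt_of_pos _ hDpos
    rw [hS] at hlt'
    have hr0 : 0 ≤ Int.emod ((p : ℤ) * m * z) ((q : ℤ) - p) := Int.emod_nonneg _ hDpos.ne'
    have hdm := Int.emod_add_mul_ediv ((p : ℤ) * m * z) ((q : ℤ) - p)
    set r := Int.emod ((p : ℤ) * m * z) ((q : ℤ) - p) with hr
    set kk := ((p : ℤ) * m * z) / ((q : ℤ) - p) with hkk
    have hdm' : r + ((q : ℤ) - p) * kk = (p : ℤ) * m * z := hdm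
    have h3 : ((q : ℤ) - p) * kk < ((q : ℤ) - p) * d2 := by linarith
    have h4 : kk < d2 := lt_of_mul_lt_mul_left h3 hDpos.le
    have h5 : ((q : ℤ) - p) * (kk + 1) ≤ ((q : ℤ) - p) * d2 :=
      mul_le_mul_of_nonneg_left (by omega) hDpos.le
    linarith
  -- conclusion
  have hDl := HJ.D_mul_lL (p := p) (q := q) (m := m) c i
  have hel := HJ.eE_sub_lL (p := p) (q := q) (m := m) c i
  have h9 : (p : ℤ) * m * hjP c i ≤ (p : ℤ) * m * z :=
    mul_le_mul_of_nonneg_left hzP (by positivity)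
  have h10 : ((q : ℤ) - p) * (lL p q m c i - 1) < ((q : ℤ) - p) * d2 := by linarith
  have h11 : lL p q m c i - 1 < d2 := lt_of_mul_lt_mul_left h10 hDpos.le
  have h12 : lL p q m c i ≤ d2 := by omega
  refine ⟨?_, h12⟩
  have h13 : (m : ℤ) * hjP c i ≤ (m : ℤ) * z := mul_le_mul_of_nonneg_left hzP hmpos.le
  linarith


/-- Let 0 < p < q be coprime integers and m ≥ 1 such that q − p does not divide m; put g = gcd(m, q−p),
b = (q−p)/g, α = ⌊mp/(q−p)⌋, β = the remainder of mp modulo q−p and t = (q−p−β)/g, so that 1 ≤ t <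
b, and let b/t = c₁ − 1/(c₂ − 1/(⋯ − 1/c_r)) be the negative-regular (Hirzebruch–Jung) continued
fraction expansion with every cᵢ ≥ 2; set P₀ = 0, P₁ = 1, Q₀ = −1, Q₁ = 0, Pᵢ = cᵢ₋₁Pᵢ₋₁ − Pᵢ₋₂, Qᵢ
= cᵢ₋₁Qᵢ₋₁ − Qᵢ₋₂ for 2 ≤ i ≤ r+1, and eᵢ = (α+1+m)Pᵢ − Qᵢ, lᵢ = (α+1)Pᵢ − Qᵢ, nᵢ = q·lᵢ − p·eᵢ,
which are non-negative integers for 0 ≤ i ≤ r+1. Grade the polynomial ring k[X₀,X₁,X₂] over a field
k by ℤ × ℤ/m with weights (1,0), (−p,−1), (q,1) (it stands for k[X₀,X₁,Xⱼ], j = 3 or 4, inside the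
five-variable ring). Then for every 1 ≤ i ≤ r, every polynomial homogeneous of weight (nᵢ, 0) can be
written a·X₀^(nᵢ) + b·X₁^(eᵢ)X₂^(lᵢ) with a and b homogeneous of weight zero; that is, the
weight-(nᵢ,0) piece is generated over the weight-zero subring by X₀^(nᵢ) and X₁^(eᵢ)X₂^(lᵢ). -/
theorem result (k : Type u) [Field k] (p q m : ℕ) (hp : 0 < p) (hpq : p < q) (hcop : Nat.Coprime p q) (hm : 0 < m) (hnt : ¬ (q - p ∣ m)) (c : List ℤ) (hc : W4c2invhilbsl2.IsHJDigits p q m c) (i : ℕ) (hi : 1 ≤ i) (hir : i ≤ c.length)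
    (f : MvPolynomial (Fin 3) k) (hf : f ∈ MvPolynomial.weightedHomogeneousSubmodule k (W4c2invhilbsl2.wt3 p q m) (W4c2invhilbsl2.nN p q m c i, (0 : ZMod m))) :
    ∃ a b : MvPolynomial (Fin 3) k, a ∈ MvPolynomial.weightedHomogeneousSubmodule k (W4c2invhilbsl2.wt3 p q m) 0 ∧ b ∈ MvPolynomial.weightedHomogeneousSubmodule k (W4c2invhilbsl2.wt3 p q m) 0 ∧
      f = a * MvPolynomial.X (0 : Fin 3) ^ (W4c2invhilbsl2.nN p q m c i).toNat +
        b * (MvPolynomial.X (1 : Fin 3) ^ (W4c2invhilbsl2.eE p q m c i).toNat * MvPolynomial.X (2 : Fin 3) ^ (W4c2invhilbsl2.lL p q m c i).toNat) := by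
  classical
  have hN0 : 0 ≤ nN p q m c i := HJ.nN_nonneg hpq hcop hm hnt hc i (by omega)
  have hE0 : 0 < eE p q m c i := HJ.eE_pos hpq hcop hnt hc i hi hir
  have hL0 : 0 < lL p q m c i := HJ.lL_pos hpq hcop hnt hc i hi hir
  set N := (nN p q m c i).toNat with hN
  set E := (eE p q m c i).toNat with hE
  set L := (lL p q m c i).toNat with hL
  have hNc : (N : ℤ) = nN p q m c i := Int.toNat_of_nonneg hN0
  have hEc : (E : ℤ) = eE p q m c i := Int.toNat_of_nonneg hE0.le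
  have hLc : (L : ℤ) = lL p q m c i := Int.toNat_of_nonneg hL0.le
  let u : Fin 2 → (Fin 3 →₀ ℕ) := ![Finsupp.single 0 N, Finsupp.single 1 E + Finsupp.single 2 L]
  have hu : ∀ j ∈ (Finset.univ : Finset (Fin 2)), Finsupp.weight (wt3 p q m) (u j) = (nN p q m c i, (0 : ZMod m)) := by
    intro j _
    rw [WtPiece.weight3]
    fin_cases j
    · simp [u, hNc]
    · simp only [u, Fin.mk_one, Matrix.cons_val_one, Matrix.cons_val_zero, Finsupp.coe_add, Pi.add_apply,
        Finsupp.single_apply]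
      simp only [Fin.isValue, one_ne_zero, if_false, add_zero, Nat.cast_zero, if_true, zero_add,
        (by decide : (2 : Fin 3) ≠ 0), (by decide : (2 : Fin 3) ≠ 1), (by decide : (1 : Fin 3) ≠ 2), zero_sub]
      rw [Prod.mk.injEq]
      constructor
      · rw [hEc, hLc]; simp only [nN]; ring
      · have h1 : ((L : ZMod m) - (E : ZMod m)) = (((L : ℤ) - (E : ℤ) : ℤ) : ZMod m) := by push_cast; ring
        rw [h1, hEc, hLc]
        have h2 := HJ.eE_sub_lL (p := p) (q := q) (m := m) c i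
        have h3 : lL p q m c i - eE p q m c i = (m : ℤ) * (- hjP c i) := by linarith
        rw [h3]
        push_cast
        simp
  have h : ∀ d : Fin 3 →₀ ℕ, Finsupp.weight (wt3 p q m) d = (nN p q m c i, (0 : ZMod m)) →
      ∃ j ∈ (Finset.univ : Finset (Fin 2)), u j ≤ d := by
    intro d hd
    rw [WtPiece.weight3, Prod.mk.injEq] at hd
    obtain ⟨h1, h2⟩ := hd
    by_cases h0 : N ≤ d 0
    · refine ⟨0, Finset.mem_univ _, ?_⟩
      simp only [u, Matrix.cons_val_zero]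
      rw [Finsupp.single_le_iff]
      exact h0
    · push Not at h0
      have h0' : (d 0 : ℤ) < nN p q m c i := by rw [← hNc]; exact_mod_cast h0
      have hdvd : (m : ℤ) ∣ (d 1 : ℤ) - d 2 := by
        have h3 : (((d 1 : ℤ) - (d 2 : ℤ) : ℤ) : ZMod m) = 0 := by
          push_cast
          rw [← neg_sub, h2, neg_zero]
        exact (ZMod.intCast_zmod_eq_zero_iff_dvd _ _).1 h3
      obtain ⟨hE1, hL1⟩ := div_arith p q m hp hpq hcop hm hnt c hc i hi hir (d 0) (d 1) (d 2) h1 hdvd h0'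
      have hE2 : E ≤ d 1 := by
        have : (E : ℤ) ≤ d 1 := by rw [hEc]; exact hE1
        exact_mod_cast this
      have hL2 : L ≤ d 2 := by
        have : (L : ℤ) ≤ d 2 := by rw [hLc]; exact hL1
        exact_mod_cast this
      refine ⟨1, Finset.mem_univ _, ?_⟩
      simp only [u, Matrix.cons_val_one, Matrix.cons_val_zero]
      rw [Finsupp.le_def]
      intro j
      fin_cases j <;> simp <;> omega
  obtain ⟨a, ha, hfa⟩ := WtPiece.gen_of_le (wt3 p q m) Finset.univ u _ hu h f hf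
  refine ⟨a 0, a 1, ha 0, ha 1, ?_⟩
  rw [hfa, Fin.sum_univ_two]
  simp only [u, Matrix.cons_val_zero, Matrix.cons_val_one]
  rw [X_pow_eq_monomial, X_pow_eq_monomial, X_pow_eq_monomial, monomial_mul, mul_one]

end Groth.Agent.S15729
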