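import Groth.Statements.S15732
import Groth.Agent.Lib.Helper11.WtPiece
import Groth.Agent.Lib.Helper11.HJ
import Groth.Agent.S15729

set_option autoImplicit false
universe u
open W4c2invhilbsl2

namespace Groth.Agent.S15732

open Groth.Agent.Lib.helper11 MvPolynomial W4c2invhilbsl2


/-- Let 0 < p < q be coprime integers and m ≥ 1 such that q − p does not divide m; put g = gcd(m, q−p),
b = (q−p)/g, α = ⌊mp/(q−p)⌋, β = the remainder of mp modulo q−p and t = (q−p−β)/g, so that 1 ≤ t <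
b, and let b/t = c₁ − 1/(c₂ − 1/(⋯ − 1/c_r)) be the negative-regular (Hirzebruch–Jung) continued
fraction expansion with every cᵢ ≥ 2; set P₀ = 0, P₁ = 1, Q₀ = −1, Q₁ = 0, Pᵢ = cᵢ₋₁Pᵢ₋₁ − Pᵢ₋₂, Qᵢ
= cᵢ₋₁Qᵢ₋₁ − Qᵢ₋₂ for 2 ≤ i ≤ r+1, and eᵢ = (α+1+m)Pᵢ − Qᵢ, lᵢ = (α+1)Pᵢ − Qᵢ, nᵢ = q·lᵢ − p·eᵢ,
which are non-negative integers for 0 ≤ i ≤ r+1. Grade the polynomial ring k[X₀,…,X₄] over a field k
by ℤ × ℤ/m, giving X₀ weight (1,0), X₁ and X₂ weight (−p,−1), and X₃ and X₄ weight (q,1). Then for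
every 1 ≤ i ≤ r, modulo the principal ideal generated by the weight-zero element X₀^(q−p) − X₁X₄ +
X₂X₃, every polynomial homogeneous of weight (nᵢ, 0) is congruent to a combination a₀·X₀^(nᵢ) + Σ
a_{e,l}·X₁^(eᵢ−e)X₂^e X₃^(lᵢ−l)X₄^l (sum over 0 ≤ e ≤ eᵢ, 0 ≤ l ≤ lᵢ) whose coefficients a₀, a_{e,l}
are homogeneous of weight zero. Equivalently, in the coordinate ring of the hypersurface the
weight-(nᵢ,0) piece is generated over the weight-zero subring (the invariant ring) by X₀^(nᵢ)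
together with the products of a degree-eᵢ monomial in X₁, X₂ and a degree-lᵢ monomial in X₃, X₄.
(The published statement is over the complex numbers; this row takes any field.) -/
theorem result (k : Type u) [Field k] (p q m : ℕ) (hp : 0 < p) (hpq : p < q) (hcop : Nat.Coprime p q) (hm : 0 < m) (hnt : ¬ (q - p ∣ m)) (c : List ℤ) (hc : W4c2invhilbsl2.IsHJDigits p q m c) (i : ℕ) (hi : 1 ≤ i) (hir : i ≤ c.length)
    (f : MvPolynomial (Fin 5) k) (hf : f ∈ MvPolynomial.weightedHomogeneousSubmodule k (W4c2invhilbsl2.wt5 p q m) (W4c2invhilbsl2.nN p q m c i, (0 : ZMod m))) :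
    ∃ (a₀ : MvPolynomial (Fin 5) k) (a : ℕ → ℕ → MvPolynomial (Fin 5) k),
      a₀ ∈ MvPolynomial.weightedHomogeneousSubmodule k (W4c2invhilbsl2.wt5 p q m) 0 ∧ (∀ e l : ℕ, a e l ∈ MvPolynomial.weightedHomogeneousSubmodule k (W4c2invhilbsl2.wt5 p q m) 0) ∧
      f - (a₀ * MvPolynomial.X (0 : Fin 5) ^ (W4c2invhilbsl2.nN p q m c i).toNat +
          ∑ e ∈ Finset.range ((W4c2invhilbsl2.eE p q m c i).toNat + 1), ∑ l ∈ Finset.range ((W4c2invhilbsl2.lL p q m c i).toNat + 1),
            a e l * (MvPolynomial.X (1 : Fin 5) ^ ((W4c2invhilbsl2.eE p q m c i).toNat - e) * MvPolynomial.X (2 : Fin 5) ^ e *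
              MvPolynomial.X (3 : Fin 5) ^ ((W4c2invhilbsl2.lL p q m c i).toNat - l) * MvPolynomial.X (4 : Fin 5) ^ l)) ∈
        Ideal.span {MvPolynomial.X (0 : Fin 5) ^ (q - p) - MvPolynomial.X 1 * MvPolynomial.X 4 + MvPolynomial.X 2 * MvPolynomial.X 3} := by
  classical
  have hN0 : 0 ≤ nN p q m c i := HJ.nN_nonneg hpq hcop hm hnt hc i (by omega)
  have hE0 : 0 < eE p q m c i := HJ.eE_pos hpq hcop hnt hc i hi hir
  have hL0 : 0 < lL p q m c i := HJ.lL_pos hpq hcop hnt hc i hi hir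
  set N := (nN p q m c i).toNat with hN
  set E := (eE p q m c i).toNat with hE
  set L := (lL p q m c i).toNat with hL
  have hNc : (N : ℤ) = nN p q m c i := Int.toNat_of_nonneg hN0
  have hEc : (E : ℤ) = eE p q m c i := Int.toNat_of_nonneg hE0.le
  have hLc : (L : ℤ) = lL p q m c i := Int.toNat_of_nonneg hL0.le
  let u : Option (ℕ × ℕ) → (Fin 5 →₀ ℕ) := fun o => match o with
    | none => Finsupp.single 0 N
    | some (e, l) => Finsupp.single 1 (E - e) + Finsupp.single 2 e + Finsupp.single 3 (L - l) +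
        Finsupp.single 4 l
  let T : Finset (ℕ × ℕ) := Finset.range (E + 1) ×ˢ Finset.range (L + 1)
  let s : Finset (Option (ℕ × ℕ)) := insert none (T.map Function.Embedding.some)
  have hu : ∀ j ∈ s, Finsupp.weight (wt5 p q m) (u j) = (nN p q m c i, (0 : ZMod m)) := by
    intro j hj
    rw [WtPiece.weight5]
    simp only [s, Finset.mem_insert, Finset.mem_map, Function.Embedding.some_apply] at hj
    rcases hj with rfl | ⟨⟨e, l⟩, hel, rfl⟩
    · simp [u, hNc]
    · simp only [T, Finset.mem_product, Finset.mem_range] at hel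
      obtain ⟨he, hl⟩ := hel
      simp only [u, Finsupp.coe_add, Pi.add_apply, Finsupp.single_apply]
      simp only [Fin.isValue, (by decide : (1 : Fin 5) ≠ 0), (by decide : (2 : Fin 5) ≠ 0),
        (by decide : (3 : Fin 5) ≠ 0), (by decide : (4 : Fin 5) ≠ 0),
        (by decide : (2 : Fin 5) ≠ 1), (by decide : (3 : Fin 5) ≠ 1), (by decide : (4 : Fin 5) ≠ 1),
        (by decide : (1 : Fin 5) ≠ 2), (by decide : (3 : Fin 5) ≠ 2), (by decide : (4 : Fin 5) ≠ 2),
        (by decide : (1 : Fin 5) ≠ 3), (by decide : (2 : Fin 5) ≠ 3), (by decide : (4 : Fin 5) ≠ 3),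
        (by decide : (1 : Fin 5) ≠ 4), (by decide : (2 : Fin 5) ≠ 4), (by decide : (3 : Fin 5) ≠ 4),
        if_false, if_true, add_zero, zero_add, Nat.cast_zero, zero_sub]
      have hEe : ((E - e : ℕ) : ℤ) + (e : ℤ) = eE p q m c i := by
        rw [← hEc]; have : E - e + e = E := by omega
        exact_mod_cast this
      have hLl : ((L - l : ℕ) : ℤ) + (l : ℤ) = lL p q m c i := by
        rw [← hLc]; have : L - l + l = L := by omega
        exact_mod_cast this
      rw [Prod.mk.injEq]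
      constructor
      · rw [hEe, hLl]; simp only [nN]; ring
      · have h1 : (((L - l : ℕ) : ZMod m) + (l : ZMod m)) - (((E - e : ℕ) : ZMod m) + (e : ZMod m)) =
            (((((L - l : ℕ) : ℤ) + (l : ℤ)) - (((E - e : ℕ) : ℤ) + (e : ℤ)) : ℤ) : ZMod m) := by
          push_cast; ring
        rw [h1, hEe, hLl]
        have h2 := HJ.eE_sub_lL (p := p) (q := q) (m := m) c i
        have h3 : lL p q m c i - eE p q m c i = (m : ℤ) * (- hjP c i) := by linarith
        rw [h3]
        push_cast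
        simp
  have h : ∀ d : Fin 5 →₀ ℕ, Finsupp.weight (wt5 p q m) d = (nN p q m c i, (0 : ZMod m)) →
      ∃ j ∈ s, u j ≤ d := by
    intro d hd
    rw [WtPiece.weight5, Prod.mk.injEq] at hd
    obtain ⟨h1, h2⟩ := hd
    by_cases h0 : N ≤ d 0
    · refine ⟨none, by simp [s], ?_⟩
      simp only [u]
      rw [Finsupp.single_le_iff]
      exact h0
    · push Not at h0
      have h0' : (d 0 : ℤ) < nN p q m c i := by rw [← hNc]; exact_mod_cast h0
      have hdvd : (m : ℤ) ∣ ((d 1 + d 2 : ℕ) : ℤ) - ((d 3 + d 4 : ℕ) : ℤ) := by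
        have h3 : ((((d 1 + d 2 : ℕ) : ℤ) - ((d 3 + d 4 : ℕ) : ℤ) : ℤ) : ZMod m) = 0 := by
          push_cast
          rw [← neg_sub, h2, neg_zero]
        exact (ZMod.intCast_zmod_eq_zero_iff_dvd _ _).1 h3
      obtain ⟨hE1, hL1⟩ := Groth.Agent.S15729.div_arith p q m hp hpq hcop hm hnt c hc i hi hir (d 0)
        (d 1 + d 2) (d 3 + d 4) (by push_cast; linarith) hdvd h0'
      have hE2 : E ≤ d 1 + d 2 := by
        have : (E : ℤ) ≤ ((d 1 + d 2 : ℕ) : ℤ) := by rw [hEc]; exact hE1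
        exact_mod_cast this
      have hL2 : L ≤ d 3 + d 4 := by
        have : (L : ℤ) ≤ ((d 3 + d 4 : ℕ) : ℤ) := by rw [hLc]; exact hL1
        exact_mod_cast this
      refine ⟨some (min (d 2) E, min (d 4) L), ?_, ?_⟩
      · simp only [s, T, Finset.mem_insert, Finset.mem_map, Function.Embedding.some_apply]
        refine Or.inr ⟨(min (d 2) E, min (d 4) L), ?_, rfl⟩
        simp only [Finset.mem_product, Finset.mem_range]
        constructor <;> omega
      · simp only [u]
        rw [Finsupp.le_def]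
        intro j
        fin_cases j <;> simp <;> omega
  obtain ⟨a, ha, hfa⟩ := WtPiece.gen_of_le (wt5 p q m) s u _ hu h f hf
  refine ⟨a none, fun e l => a (some (e, l)), ha none, fun e l => ha _, ?_⟩
  have hzero : f - (a none * X (0 : Fin 5) ^ N + ∑ e ∈ Finset.range (E + 1), ∑ l ∈ Finset.range (L + 1),
      a (some (e, l)) * (X (1 : Fin 5) ^ (E - e) * X (2 : Fin 5) ^ e * X (3 : Fin 5) ^ (L - l) *
        X (4 : Fin 5) ^ l)) = 0 := by
    rw [sub_eq_zero, hfa]
    simp only [s]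
    rw [Finset.sum_insert (by simp), Finset.sum_map, Finset.sum_product]
    simp only [u, Function.Embedding.some_apply]
    congr 1
    · rw [X_pow_eq_monomial]
    · refine Finset.sum_congr rfl fun e _ => Finset.sum_congr rfl fun l _ => ?_
      simp only [X_pow_eq_monomial, monomial_mul, mul_one]
  rw [hzero]
  exact zero_mem _

end Groth.Agent.S15732
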