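import Groth.Statements.S15734
import Groth.Agent.Lib.Helper11.HJ

set_option autoImplicit false
open W4c2invhilbsl2

namespace Groth.Agent.S15734

open Groth.Agent.Lib.helper11


/-- Let 0 < p < q be coprime integers and m ≥ 1 such that q − p does not divide m; put g = gcd(m, q−p),
b = (q−p)/g, α = ⌊mp/(q−p)⌋, β = the remainder of mp modulo q−p and t = (q−p−β)/g, so that 1 ≤ t <
b, and let b/t = c₁ − 1/(c₂ − 1/(⋯ − 1/c_r)) be the negative-regular (Hirzebruch–Jung) continued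
fraction expansion with every cᵢ ≥ 2; set P₀ = 0, P₁ = 1, Q₀ = −1, Q₁ = 0, Pᵢ = cᵢ₋₁Pᵢ₋₁ − Pᵢ₋₂, Qᵢ
= cᵢ₋₁Qᵢ₋₁ − Qᵢ₋₂ for 2 ≤ i ≤ r+1, and eᵢ = (α+1+m)Pᵢ − Qᵢ, lᵢ = (α+1)Pᵢ − Qᵢ, nᵢ = q·lᵢ − p·eᵢ,
which are non-negative integers for 0 ≤ i ≤ r+1; moreover g divides every nᵢ, and write tᵢ = nᵢ/g
(so t₁ = t). Then (a) for every 1 ≤ i ≤ r the remainder of t·Pᵢ on division by b equals tᵢ, and (b)
for every 1 < i ≤ r and every integer x with 0 < x < Pᵢ the remainder ρ of t·x on division by b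
satisfies tᵢ₋₁ ≤ ρ ≤ b + tᵢ − tᵢ₋₁. -/
theorem result (p q m : ℕ) (hp : 0 < p) (hpq : p < q) (hcop : Nat.Coprime p q) (hm : 0 < m) (hnt : ¬ (q - p ∣ m)) (c : List ℤ) (hc : W4c2invhilbsl2.IsHJDigits p q m c) :
    (∀ i : ℕ, 1 ≤ i → i ≤ c.length →
      Int.emod ((W4c2invhilbsl2.tT p q m : ℤ) * W4c2invhilbsl2.hjP c i) (W4c2invhilbsl2.bB p q m : ℤ) = W4c2invhilbsl2.nN p q m c i / (W4c2invhilbsl2.gcdK p q m : ℤ)) ∧
    (∀ i : ℕ, 1 < i → i ≤ c.length → ∀ x : ℤ, 0 < x → x < W4c2invhilbsl2.hjP c i →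
      W4c2invhilbsl2.nN p q m c (i - 1) / (W4c2invhilbsl2.gcdK p q m : ℤ) ≤ Int.emod ((W4c2invhilbsl2.tT p q m : ℤ) * x) (W4c2invhilbsl2.bB p q m : ℤ) ∧
      Int.emod ((W4c2invhilbsl2.tT p q m : ℤ) * x) (W4c2invhilbsl2.bB p q m : ℤ) ≤
        (W4c2invhilbsl2.bB p q m : ℤ) + W4c2invhilbsl2.nN p q m c i / (W4c2invhilbsl2.gcdK p q m : ℤ) - W4c2invhilbsl2.nN p q m c (i - 1) / (W4c2invhilbsl2.gcdK p q m : ℤ)) := by
  have hgpos : (0 : ℤ) < (W4c2invhilbsl2.gcdK p q m : ℤ) := by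
    exact_mod_cast HJ.g_pos (p := p) (q := q) hm
  have hdiv : ∀ i, W4c2invhilbsl2.nN p q m c i / (W4c2invhilbsl2.gcdK p q m : ℤ) = HJ.T p q m c i := by
    intro i
    rw [HJ.nN_eq hpq, Int.mul_ediv_cancel_left _ hgpos.ne']
  refine ⟨fun i hi1 hir => ?_, fun i hi1 hir x hx0 hx => ?_⟩
  · rw [hdiv]
    have h1 : (W4c2invhilbsl2.tT p q m : ℤ) * W4c2invhilbsl2.hjP c i =
        HJ.T p q m c i + (W4c2invhilbsl2.bB p q m : ℤ) * W4c2invhilbsl2.hjQ c i := by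
      unfold HJ.T; ring
    rw [h1]
    change (HJ.T p q m c i + (W4c2invhilbsl2.bB p q m : ℤ) * W4c2invhilbsl2.hjQ c i) %
      (W4c2invhilbsl2.bB p q m : ℤ) = _
    rw [Int.add_mul_emod_self_left]
    apply Int.emod_eq_of_lt (HJ.T_pos hpq hcop hnt hc i hir).le
    have h2 := HJ.T_anti hpq hcop hnt hc 1 i hi1 (by omega)
    rw [HJ.T_one] at h2
    have h3 : (W4c2invhilbsl2.tT p q m : ℤ) < W4c2invhilbsl2.bB p q m := by
      exact_mod_cast HJ.t_lt_b hpq hcop hnt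
    linarith
  · rw [hdiv, hdiv]
    exact HJ.rho_bounds hpq hcop hnt hc i hi1 hir x hx0 hx

end Groth.Agent.S15734
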