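import Groth.Statements.S15737
import Mathlib.Tactic.Linarith
import Mathlib.Tactic.Ring
import Mathlib.Tactic.Positivity

set_option autoImplicit false
open W4c2invhilbsl2

namespace Groth.Agent.S15737

/-- For a monomial X₀^d₀X₁^d₁X₂^d₂ of the polynomial ring in X₀, X₁, X₂ (X₂ standing for Xⱼ, j = 3 or 4,
of the five-variable ring) put n = d₀ − p·d₁ + q·d₂ (its weight for the torus diag(t, t^(−p), t^q)),
c = d₁ − d₂ and ω = p·d₁ − q·d₂, so that d₀ = n + ω; here 0 < p < q are coprime integers. Then n + ω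
< q − p, that is d₀ < q − p, holds if and only if ω is the least value of ω among all monomials with
the same pair (n, c). -/
theorem result (p q : ℕ) (hp : 0 < p) (hpq : p < q) (hcop : Nat.Coprime p q) (d0 d1 d2 : ℕ) :
    d0 < q - p ↔
      ∀ e0 e1 e2 : ℕ, (e0 : ℤ) - (p : ℤ) * e1 + (q : ℤ) * e2 = (d0 : ℤ) - (p : ℤ) * d1 + (q : ℤ) * d2 → (e1 : ℤ) - e2 = (d1 : ℤ) - d2 →
        (p : ℤ) * d1 - (q : ℤ) * d2 ≤ (p : ℤ) * e1 - (q : ℤ) * e2 := by
  have hqp : (p : ℤ) < q := by exact_mod_cast hpq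
  constructor
  · intro hd e0 e1 e2 h1 h2
    -- t = e2 - d2 = e1 - d1
    by_contra hlt
    push Not at hlt
    have hsub : ((q - p : ℕ) : ℤ) = (q : ℤ) - p := by
      rw [Nat.cast_sub hpq.le]
    have hd' : (d0 : ℤ) < (q : ℤ) - p := by
      rw [← hsub]; exact_mod_cast hd
    -- ω(e) - ω(d) = -(q-p) t < 0 so t ≥ 1
    have ht : (e1 : ℤ) - d1 = (e2 : ℤ) - d2 := by linarith
    set t : ℤ := (e2 : ℤ) - d2 with htdef
    have he1 : (e1 : ℤ) = d1 + t := by linarith
    have he2 : (e2 : ℤ) = d2 + t := by linarith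
    rw [he1, he2] at hlt h1
    have h3 : ((q : ℤ) - p) * t > 0 := by nlinarith
    have ht1 : 1 ≤ t := by
      by_contra hcon
      push Not at hcon
      have : t ≤ 0 := by omega
      nlinarith
    have he0 : (e0 : ℤ) = d0 - ((q : ℤ) - p) * t := by linarith
    have he0n : (0 : ℤ) ≤ e0 := Int.natCast_nonneg e0
    nlinarith
  · intro h
    by_contra hcon
    push Not at hcon
    have h' := h (d0 - (q - p)) (d1 + 1) (d2 + 1) (by
      rw [Nat.cast_sub hcon, Nat.cast_sub hpq.le]
      push_cast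
      ring) (by push_cast; ring)
    push_cast at h'
    linarith

end Groth.Agent.S15737
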