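import Groth.Statements.S15739
import Groth.Agent.Lib.Helper11.MonoLemmas

set_option autoImplicit false
universe u
open W4c2invhilbsl2

namespace Groth.Agent.S15739

open Groth.Agent.Lib.helper11

lemma arithJ (p q m : ℕ) (hpq : p < q) (hcop : Nat.Coprime p q) (hm : 0 < m)
    (d0 d1 d2 e0 e1 e2 : ℕ)
    (hn : (e0 : ℤ) - (p : ℤ) * e1 + (q : ℤ) * e2 = (d0 : ℤ) - (p : ℤ) * d1 + (q : ℤ) * d2)
    (hcd : (m : ℤ) ∣ (d1 : ℤ) - d2) (hce : (m : ℤ) ∣ (e1 : ℤ) - e2)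
    (hd0 : d0 < Nat.gcd m (q - p)) (he0 : e0 < Nat.gcd m (q - p)) :
    d0 = e0 ∧ ∃ z : ℤ, (e1 : ℤ) = d1 + ((m / Nat.gcd m (q - p) * q : ℕ) : ℤ) * z ∧
      (e2 : ℤ) = d2 + ((m / Nat.gcd m (q - p) * p : ℕ) : ℤ) * z ∧
      ((e1 : ℤ) - e2) - ((d1 : ℤ) - d2) = (m : ℤ) * ((q - p) / Nat.gcd m (q - p) : ℕ) * z := by
  set g := Nat.gcd m (q - p) with hg
  have hgpos : 0 < g := Nat.gcd_pos_of_pos_left _ hm
  have hga : g * (m / g) = m := Nat.mul_div_cancel' (Nat.gcd_dvd_left _ _)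
  have hgb : g * ((q - p) / g) = q - p := Nat.mul_div_cancel' (Nat.gcd_dvd_right _ _)
  have hab : Nat.Coprime (m / g) ((q - p) / g) := Nat.coprime_div_gcd_div_gcd hgpos
  set a := m / g with ha
  set b := (q - p) / g with hb
  have hD : ((q - p : ℕ) : ℤ) = (q : ℤ) - p := Nat.cast_sub hpq.le
  have hgaZ : (g : ℤ) * a = m := by exact_mod_cast hga
  have hgbZ : (g : ℤ) * b = (q : ℤ) - p := by rw [← hD]; exact_mod_cast hgb
  have hbpos : 0 < b := by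
    rcases Nat.eq_zero_or_pos b with h | h
    · rw [h, mul_zero] at hgb; omega
    · exact h
  obtain ⟨u, hu⟩ := hcd
  obtain ⟨v, hv⟩ := hce
  -- d0 - e0 = p (c - c') - D (d2 - e2)
  have h1 : (d0 : ℤ) - e0 = (g : ℤ) * ((p : ℤ) * a * (u - v) - (b : ℤ) * ((d2 : ℤ) - e2)) := by
    have : (d0 : ℤ) - e0 = (p : ℤ) * (((d1 : ℤ) - d2) - ((e1 : ℤ) - e2)) -
        ((q : ℤ) - p) * ((d2 : ℤ) - e2) := by linarith
    rw [this, hu, hv, ← hgaZ, ← hgbZ]; ring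
  have h2 : (d0 : ℤ) - e0 = 0 := by
    apply Int.eq_zero_of_abs_lt_dvd (m := (g : ℤ)) ⟨_, h1⟩
    rw [abs_lt]
    constructor <;> omega
  have h3 : d0 = e0 := by omega
  refine ⟨h3, ?_⟩
  -- p a (u - v) = b (d2 - e2)
  have h4 : (p : ℤ) * a * (u - v) = (b : ℤ) * ((d2 : ℤ) - e2) := by
    rw [h2] at h1
    have hg0 : (g : ℤ) ≠ 0 := by exact_mod_cast hgpos.ne'
    have := (mul_eq_zero.1 h1.symm).resolve_left hg0
    linarith
  -- b coprime to p and a hence b ∣ u - v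
  have hcopD : Nat.Coprime p (q - p) := by
    rw [Nat.coprime_sub_self_right hpq.le]; exact hcop
  have hcopb : Nat.Coprime b p := by
    apply Nat.Coprime.coprime_dvd_left (Dvd.intro_left g hgb) hcopD.symm
  have hcop1 : IsCoprime (b : ℤ) ((p : ℤ) * a) :=
    IsCoprime.mul_right (Nat.isCoprime_iff_coprime.2 hcopb) (Nat.isCoprime_iff_coprime.2 hab.symm)
  have h5 : (b : ℤ) ∣ u - v := hcop1.dvd_of_dvd_mul_left ⟨(d2 : ℤ) - e2, h4⟩
  obtain ⟨w, hw⟩ := h5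
  have hb0 : (b : ℤ) ≠ 0 := by exact_mod_cast hbpos.ne'
  have h6 : (d2 : ℤ) - e2 = (p : ℤ) * a * w := by
    rw [hw] at h4
    have : (b : ℤ) * ((p : ℤ) * a * w) = (b : ℤ) * ((d2 : ℤ) - e2) := by linarith
    exact (mul_left_cancel₀ hb0 this).symm
  refine ⟨-w, ?_, ?_, ?_⟩
  · -- e1 = d1 + a q (-w)
    have : (e1 : ℤ) - d1 = ((e1 : ℤ) - e2) - ((d1 : ℤ) - d2) - ((d2 : ℤ) - e2) := by ring
    have h7 : (e1 : ℤ) - d1 = - ((a : ℤ) * q * w) := by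
      rw [this, hu, hv, h6]
      have : (m : ℤ) * v - (m : ℤ) * u = - ((m : ℤ) * (u - v)) := by ring
      rw [this, hw, ← hgaZ]
      have hq : (q : ℤ) = (g : ℤ) * b + p := by linarith
      rw [hq]; ring
    push_cast
    linarith
  · push_cast
    linarith
  · rw [hu, hv]
    have : (m : ℤ) * v - (m : ℤ) * u = - ((m : ℤ) * (u - v)) := by ring
    rw [this, hw]
    ring


/-- Let k be a field and m ≥ 1, put g = gcd(m, q−p), a = m/g and b = (q−p)/g; for a monomial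
X₀^d₀X₁^d₁X₂^d₂ of the polynomial ring in X₀, X₁, X₂ (X₂ standing for Xⱼ, j = 3 or 4, of the
five-variable ring) put n = d₀ − p·d₁ + q·d₂ (its weight for the torus diag(t, t^(−p), t^q)), c = d₁
− d₂ and ω = p·d₁ − q·d₂, so that d₀ = n + ω; here 0 < p < q are coprime integers. Take two
monomials X₀^d₀X₁^d₁X₂^d₂ and X₀^e₀X₁^e₁X₂^e₂ with the same n, where 0 ≤ n < q − p, whose values c
and c' of c are both divisible by m, and with d₀ < g and e₀ < g (so each has the least ω for its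
pair (n, c), as g ≤ q − p). Then: (i) d₀ = e₀, i.e. the two values of ω agree, and m·b divides c −
c'; (ii) if c < c', then X₀^e₀X₁^e₁X₂^e₂ is a multiple of X₀^d₀X₁^d₁X₂^d₂ · X₁^(aq)X₂^(ap); (iii)
the difference of the two monomials lies in the principal ideal (1 − X₁^(aq)X₂^(ap)). -/
theorem result (k : Type u) [Field k] (p q m : ℕ) (hp : 0 < p) (hpq : p < q) (hcop : Nat.Coprime p q) (hm : 0 < m)
    (d0 d1 d2 e0 e1 e2 : ℕ) (hn : (e0 : ℤ) - (p : ℤ) * e1 + (q : ℤ) * e2 = (d0 : ℤ) - (p : ℤ) * d1 + (q : ℤ) * d2)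
    (hn0 : 0 ≤ (d0 : ℤ) - (p : ℤ) * d1 + (q : ℤ) * d2) (hnq : (d0 : ℤ) - (p : ℤ) * d1 + (q : ℤ) * d2 < (q : ℤ) - p)
    (hcd : (m : ℤ) ∣ (d1 : ℤ) - d2) (hce : (m : ℤ) ∣ (e1 : ℤ) - e2)
    (hd0 : d0 < Nat.gcd m (q - p)) (he0 : e0 < Nat.gcd m (q - p)) :
    (d0 = e0 ∧ ((m : ℤ) * ((q - p) / Nat.gcd m (q - p) : ℕ)) ∣ ((d1 : ℤ) - d2) - ((e1 : ℤ) - e2)) ∧
    ((d1 : ℤ) - d2 < (e1 : ℤ) - e2 →
      (MvPolynomial.X (0 : Fin 3) ^ d0 * MvPolynomial.X (1 : Fin 3) ^ d1 * MvPolynomial.X (2 : Fin 3) ^ d2 * (MvPolynomial.X (1 : Fin 3) ^ (m / Nat.gcd m (q - p) * q) * MvPolynomial.X (2 : Fin 3) ^ (m / Nat.gcd m (q - p) * p)) : MvPolynomial (Fin 3) k) ∣ MvPolynomial.X (0 : Fin 3) ^ e0 * MvPolynomial.X (1 : Fin 3) ^ e1 * MvPolynomial.X (2 : Fin 3) ^ e2) ∧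
    ((MvPolynomial.X (0 : Fin 3) ^ e0 * MvPolynomial.X (1 : Fin 3) ^ e1 * MvPolynomial.X (2 : Fin 3) ^ e2 - MvPolynomial.X (0 : Fin 3) ^ d0 * MvPolynomial.X (1 : Fin 3) ^ d1 * MvPolynomial.X (2 : Fin 3) ^ d2 : MvPolynomial (Fin 3) k) ∈
      Ideal.span {(1 : MvPolynomial (Fin 3) k) - MvPolynomial.X (1 : Fin 3) ^ (m / Nat.gcd m (q - p) * q) * MvPolynomial.X (2 : Fin 3) ^ (m / Nat.gcd m (q - p) * p)}) := by
  obtain ⟨h0, z, hz1, hz2, hz3⟩ := arithJ p q m hpq hcop hm d0 d1 d2 e0 e1 e2 hn hcd hce hd0 he0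
  subst h0
  have hgpos : 0 < Nat.gcd m (q - p) := Nat.gcd_pos_of_pos_left _ hm
  have hbpos : 0 < (q - p) / Nat.gcd m (q - p) :=
    Nat.div_pos (Nat.le_of_dvd (Nat.sub_pos_of_lt hpq) (Nat.gcd_dvd_right _ _)) hgpos
  have hmb : (0 : ℤ) < (m : ℤ) * ((q - p) / Nat.gcd m (q - p) : ℕ) := by
    have : 0 < m * ((q - p) / Nat.gcd m (q - p)) := Nat.mul_pos hm hbpos
    exact_mod_cast this
  -- the key multiplicative identity
  have key : ∀ (f0 f1 f2 g1 g2 A B j : ℕ), g1 = f1 + A * j → g2 = f2 + B * j →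
      (MvPolynomial.X (0 : Fin 3) ^ f0 * MvPolynomial.X (1 : Fin 3) ^ g1 * MvPolynomial.X (2 : Fin 3) ^ g2 : MvPolynomial (Fin 3) k) =
      MvPolynomial.X (0 : Fin 3) ^ f0 * MvPolynomial.X (1 : Fin 3) ^ f1 * MvPolynomial.X (2 : Fin 3) ^ f2 *
        (MvPolynomial.X (1 : Fin 3) ^ A * MvPolynomial.X (2 : Fin 3) ^ B) ^ j := by
    intro f0 f1 f2 g1 g2 A B j h1 h2
    subst h1 h2
    rw [pow_add, pow_add, mul_pow, ← pow_mul, ← pow_mul]
    ring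
  have mem : ∀ (M Z : MvPolynomial (Fin 3) k) (j : ℕ), M * Z ^ j - M ∈ Ideal.span {1 - Z} := by
    intro M Z j
    rw [Ideal.mem_span_singleton]
    have h1 : M * Z ^ j - M = M * (Z ^ j - 1) := by ring
    rw [h1]
    apply Dvd.dvd.mul_left
    have := sub_dvd_pow_sub_pow Z 1 j
    rw [one_pow] at this
    rw [← neg_sub, neg_dvd]
    exact this
  refine ⟨⟨rfl, ⟨-z, by rw [← neg_sub, hz3]; ring⟩⟩, fun hlt => ?_, ?_⟩
  · have hz0 : 0 < z := by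
      by_contra h
      push Not at h
      have := mul_nonpos_of_nonneg_of_nonpos hmb.le h
      linarith
    obtain ⟨j, rfl⟩ := Int.eq_ofNat_of_zero_le hz0.le
    have hj : 1 ≤ j := by exact_mod_cast hz0
    have h1 : e1 = d1 + (m / Nat.gcd m (q - p) * q) * j := by exact_mod_cast hz1
    have h2 : e2 = d2 + (m / Nat.gcd m (q - p) * p) * j := by exact_mod_cast hz2
    rw [key d0 d1 d2 e1 e2 _ _ j h1 h2]
    exact mul_dvd_mul_left _ (dvd_pow_self _ (by omega))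
  · rcases le_total 0 z with hz0 | hz0
    · obtain ⟨j, rfl⟩ := Int.eq_ofNat_of_zero_le hz0
      have h1 : e1 = d1 + (m / Nat.gcd m (q - p) * q) * j := by exact_mod_cast hz1
      have h2 : e2 = d2 + (m / Nat.gcd m (q - p) * p) * j := by exact_mod_cast hz2
      rw [key d0 d1 d2 e1 e2 _ _ j h1 h2]
      exact mem _ _ j
    · obtain ⟨j, hj⟩ := Int.eq_ofNat_of_zero_le (neg_nonneg.2 hz0)
      have hzj : z = -(j : ℤ) := by linarith
      subst hzj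
      have h1 : d1 = e1 + (m / Nat.gcd m (q - p) * q) * j := by
        have : (d1 : ℤ) = e1 + ((m / Nat.gcd m (q - p) * q : ℕ) : ℤ) * j := by linarith
        exact_mod_cast this
      have h2 : d2 = e2 + (m / Nat.gcd m (q - p) * p) * j := by
        have : (d2 : ℤ) = e2 + ((m / Nat.gcd m (q - p) * p : ℕ) : ℤ) * j := by linarith
        exact_mod_cast this
      rw [key d0 e1 e2 d1 d2 _ _ j h1 h2]
      have := mem (MvPolynomial.X (0 : Fin 3) ^ d0 * MvPolynomial.X (1 : Fin 3) ^ e1 * MvPolynomial.X (2 : Fin 3) ^ e2)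
        (MvPolynomial.X (1 : Fin 3) ^ (m / Nat.gcd m (q - p) * q) * MvPolynomial.X (2 : Fin 3) ^ (m / Nat.gcd m (q - p) * p)) j
      rw [← Ideal.neg_mem_iff] at this
      rwa [neg_sub] at this

end Groth.Agent.S15739
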