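import Groth.Statements.S15740
import Mathlib.Tactic.Ring
import Mathlib.Tactic.Linarith
import Mathlib.Tactic.NormNum
import Mathlib.Data.Int.Basic
import Mathlib.Tactic.Positivity

set_option autoImplicit false
open W4c2invhilbsl2

namespace Groth.Agent.S15740

/-- For a monomial X₀^d₀X₁^d₁X₂^d₂ of the polynomial ring in X₀, X₁, X₂ (X₂ standing for Xⱼ, j = 3 or 4,
of the five-variable ring) put n = d₀ − p·d₁ + q·d₂ (its weight for the torus diag(t, t^(−p), t^q)),
c = d₁ − d₂ and ω = p·d₁ − q·d₂, so that d₀ = n + ω; here 0 < p < q are coprime integers. Suppose n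
≥ 0, c > 0 and d₀ < q − p (the last condition says that ω is the least value of ω for the pair (n,
c)). Then ω ≥ 0 if and only if the remainder of p·c on division by q − p, plus n, is less than q −
p. -/
theorem result (p q : ℕ) (hp : 0 < p) (hpq : p < q) (hcop : Nat.Coprime p q) (d0 d1 d2 : ℕ)
    (hn : 0 ≤ (d0 : ℤ) - (p : ℤ) * d1 + (q : ℤ) * d2) (hc : (d2 : ℤ) < d1) (hd0 : d0 < q - p) :
    0 ≤ (p : ℤ) * d1 - (q : ℤ) * d2 ↔
      Int.emod ((p : ℤ) * ((d1 : ℤ) - d2)) ((q : ℤ) - p) + ((d0 : ℤ) - (p : ℤ) * d1 + (q : ℤ) * d2) < (q : ℤ) - p := by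
  have hm : (0 : ℤ) < (q : ℤ) - p := by
    have : (p : ℤ) < q := by exact_mod_cast hpq
    linarith
  set m : ℤ := (q : ℤ) - p with hmdef
  have hd0' : (d0 : ℤ) < m := by
    have h1 : d0 + p < q := by omega
    have : ((d0 + p : ℕ) : ℤ) < q := by exact_mod_cast h1
    push_cast at this
    linarith
  set A : ℤ := (p : ℤ) * d1 with hA
  set Bp : ℤ := (p : ℤ) * d2 with hBp
  set Bq : ℤ := (q : ℤ) * d2 with hBq
  have hpc : (p : ℤ) * ((d1 : ℤ) - d2) = A - Bp := by rw [hA, hBp]; ring
  have hmd : m * d2 = Bq - Bp := by rw [hmdef, hBq, hBp]; ring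
  rw [hpc]
  have hdiv := Int.emod_add_mul_ediv (A - Bp) m
  have hρ0 := Int.emod_nonneg (A - Bp) hm.ne'
  have hρ1 := Int.emod_lt_of_pos (A - Bp) hm
  set ρ := Int.emod (A - Bp) m with hρ
  have hρ' : (A - Bp) % m = ρ := rfl
  rw [hρ'] at hdiv hρ0 hρ1
  set k := (A - Bp) / m with hk
  set t := k - d2 with ht
  have hω : A - Bq = m * t + ρ := by
    have : m * t = m * k - m * d2 := by rw [ht]; ring
    rw [this, hmd]; linarith
  have hd0nn : (0 : ℤ) ≤ d0 := Int.natCast_nonneg d0
  constructor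
  · intro h
    rw [hω] at h
    have ht0 : t = 0 := by
      by_contra hne
      rcases lt_or_gt_of_ne hne with hlt | hgt
      · have : t ≤ -1 := by omega
        nlinarith
      · have : 1 ≤ t := by omega
        nlinarith
    rw [ht0] at hω
    linarith
  · intro h
    rw [hω]
    have ht0 : 0 ≤ t := by
      by_contra hne
      have : t ≤ -1 := by omega
      nlinarith
    nlinarith

end Groth.Agent.S15740
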