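import Groth.Statements.S15749
import Mathlib

set_option autoImplicit false
universe u
open CAlg

namespace Groth.Agent.S15749

section helpers
variable {R : Type u} [CommRing R]

lemma coeff_mul_mem (I J : Ideal R) (x y : LaurentSeries R) (hx : ∀ n, x.coeff n ∈ I)
    (hy : ∀ n, y.coeff n ∈ J) (n : ℤ) : (x * y).coeff n ∈ I * J := by
  rw [HahnSeries.coeff_mul]
  exact Ideal.sum_mem _ fun ij _ => Ideal.mul_mem_mul (hx _) (hy _)

lemma coeff_mul_sub_mem (N : Ideal R) (x y : LaurentSeries R) (a b : ℤ)
    (h : ∀ i j : ℤ, i + j = a + b → (i, j) ≠ (a, b) → x.coeff i * y.coeff j ∈ N) :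
    (x * y).coeff (a + b) - x.coeff a * y.coeff b ∈ N := by
  classical
  rw [HahnSeries.coeff_mul]
  by_cases hmem : (a, b) ∈ Finset.antidiagonal x.isPWO_support y.isPWO_support (a + b)
  · rw [← Finset.add_sum_erase _ _ hmem, add_sub_cancel_left]
    apply Ideal.sum_mem
    intro ij hij
    rw [Finset.mem_erase, Finset.mem_antidiagonal] at hij
    exact h ij.1 ij.2 hij.2.2.2 hij.1
  · have h0 : x.coeff a * y.coeff b = 0 := by
      rw [Finset.mem_antidiagonal] at hmem
      simp only [HahnSeries.mem_support, ne_eq, and_true] at hmem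
      by_cases hx : x.coeff a = 0
      · rw [hx, zero_mul]
      · have : y.coeff b = 0 := by
          by_contra hy
          exact hmem ⟨hx, hy⟩
        rw [this, mul_zero]
    rw [h0, sub_zero]
    apply Ideal.sum_mem
    intro ij hij
    have hne : ij ≠ (a, b) := fun h' => hmem (h' ▸ hij)
    rw [Finset.mem_antidiagonal] at hij
    exact h ij.1 ij.2 hij.2.2 hne

lemma coeff_mem_of_nonpos (J : Ideal R) (g : LaurentSeries R) (hg : g * g = g)
    (h0 : ∀ n ≤ 0, g.coeff n ∈ J) : ∀ n, g.coeff n ∈ J := by
  have key : ∀ k : ℕ, g.coeff (k : ℤ) ∈ J := by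
    intro k
    induction k using Nat.strong_induction_on with
    | _ k ih =>
      by_cases hk : k = 0
      · subst hk; exact h0 _ (by simp)
      rw [← hg, HahnSeries.coeff_mul]
      apply Ideal.sum_mem
      intro ij hij
      rw [Finset.mem_antidiagonal] at hij
      obtain ⟨-, -, hsum⟩ := hij
      by_cases h1 : ij.1 ≤ 0
      · exact Ideal.mul_mem_right _ _ (h0 _ h1)
      by_cases h2 : ij.2 ≤ 0
      · exact Ideal.mul_mem_left _ _ (h0 _ h2)
      push Not at h1 h2
      have h3 : ij.1 = ((ij.1).toNat : ℤ) := by omega
      rw [h3]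
      exact Ideal.mul_mem_right _ _ (ih (ij.1).toNat (by omega))
  intro n
  by_cases hn : n ≤ 0
  · exact h0 n hn
  · have : n = (n.toNat : ℤ) := by omega
    rw [this]; exact key _

lemma coeff_neg_mem (N : Ideal R) (hN : N.IsRadical) (e : LaurentSeries R) (he : e * e = e) :
    ∀ n < 0, e.coeff n ∈ N := by
  have key : ∀ k : ℕ, ∀ n : ℤ, n < e.order + k → n < 0 → e.coeff n ∈ N := by
    intro k
    induction k with
    | zero =>
      intro n hn _
      rw [HahnSeries.coeff_eq_zero_of_lt_order (by simpa using hn)]
      exact zero_mem _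
    | succ k ih =>
      intro n hn hn0
      by_cases hlt : n < e.order + k
      · exact ih n hlt hn0
      have h1 := coeff_mul_sub_mem N e e n n (by
        intro i j hij hne
        by_cases hi : i < n
        · exact Ideal.mul_mem_right _ _ (ih i (by push_cast at hn ⊢; omega) (by omega))
        · have hj : j < n := by
            by_contra hj
            apply hne
            have : i = n := by omega
            have : j = n := by omega
            simp [*]
          exact Ideal.mul_mem_left _ _ (ih j (by push_cast at hn ⊢; omega) (by omega)))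
      rw [he] at h1
      have h2 : e.coeff (n + n) ∈ N := ih _ (by push_cast at hn ⊢; omega) (by omega)
      have h3 : e.coeff n * e.coeff n ∈ N := by
        have := N.sub_mem h2 h1
        simpa using this
      exact hN ⟨2, by rw [pow_two]; exact h3⟩
  intro n hn
  have : n < e.order + ((n - e.order).toNat + 1 : ℕ) := by push_cast; omega
  exact key _ n this hn

end helpers

/-- For an arbitrary commutative ring R, every idempotent of the ring of formal Laurent series R((t)) is
the constant series attached to a unique idempotent of R. Equivalently, the structure map R → R((t))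
induces a bijection on idempotents, so that the spectrum of R((t)) is connected if and only if the
spectrum of R is. No reducedness is assumed. -/
theorem result (R : Type u) [CommRing R]
    (e : LaurentSeries R) (he : IsIdempotentElem e) :
    ∃! r : R, IsIdempotentElem r ∧ HahnSeries.C r = e := by
  classical
  have he' : e * e = e := he
  set N := nilradical R with hNdef
  have hNrad : N.IsRadical := Ideal.radical_isRadical _
  have hneg := coeff_neg_mem N hNrad e he'
  -- e_0 - e_0^2 ∈ N
  have h00 : e.coeff 0 - e.coeff 0 * e.coeff 0 ∈ N := by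
    have h1 := coeff_mul_sub_mem N e e 0 0 (by
      intro i j hij hne
      by_cases hi : i < 0
      · exact Ideal.mul_mem_right _ _ (hneg i hi)
      · have hj : j < 0 := by
          by_contra hj
          apply hne
          have : i = 0 := by omega
          have : j = 0 := by omega
          simp [*]
        exact Ideal.mul_mem_left _ _ (hneg j hj))
    rw [he'] at h1
    simpa using h1
  -- lift idempotent
  obtain ⟨a, ha, hae⟩ := exists_isIdempotentElem_eq_of_ker_isNilpotent (Ideal.Quotient.mk N)
    (by
      intro x hx
      rw [Ideal.mk_ker] at hx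
      exact mem_nilradical.mp hx)
    (Ideal.Quotient.mk N (e.coeff 0)) ⟨_, rfl⟩ (by
      rw [IsIdempotentElem, ← map_mul, eq_comm, Ideal.Quotient.eq]
      exact h00)
  have hae' : e.coeff 0 - a ∈ N := by
    rw [← Ideal.Quotient.eq]; exact hae.symm
  suffices hmain : HahnSeries.C a = e by
    refine ⟨a, ⟨ha, hmain⟩, ?_⟩
    rintro b ⟨_, hb⟩
    apply HahnSeries.C_injective (Γ := ℤ)
    rw [hb, hmain]
  set c : LaurentSeries R := HahnSeries.C a with hc
  have hcc : c * c = c := by rw [hc, ← map_mul, ha.eq]
  set f := e - c with hf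
  have hfff : f * f * f = f := by
    rw [hf]
    linear_combination (e - 3 * c + 1) * he' + (3 * e - c - 1) * hcc
  have hccoeff : ∀ n : ℤ, c.coeff n = if n = 0 then a else 0 := by
    intro n
    rw [hc, HahnSeries.C_apply, HahnSeries.coeff_single]
    split_ifs <;> rfl
  have hfnonpos : ∀ n ≤ 0, f.coeff n ∈ N := by
    intro n hn
    rw [hf, HahnSeries.coeff_sub, hccoeff]
    split_ifs with h
    · subst h; exact hae'
    · rw [sub_zero]; exact hneg n (by omega)
  set g := f * f with hg
  have hgg : g * g = g := by
    rw [hg]
    calc f * f * (f * f) = (f * f * f) * f := by ring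
      _ = f * f := by rw [hfff]
  have hgnonpos : ∀ n ≤ 0, g.coeff n ∈ N := by
    intro n hn
    rw [hg, HahnSeries.coeff_mul]
    apply Ideal.sum_mem
    intro ij hij
    rw [Finset.mem_antidiagonal] at hij
    by_cases h1 : ij.1 ≤ 0
    · exact Ideal.mul_mem_right _ _ (hfnonpos _ h1)
    · exact Ideal.mul_mem_left _ _ (hfnonpos _ (by omega))
  have hgN := coeff_mem_of_nonpos N g hgg hgnonpos
  -- finitely generated nilpotent ideal
  set J : Ideal R := Ideal.span (((Finset.Icc g.order 0).image g.coeff : Finset R) : Set R) with hJ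
  have hJfg : J.FG := ⟨_, rfl⟩
  have hJN : J ≤ N := by
    rw [hJ, Ideal.span_le]
    intro x hx
    simp only [Finset.coe_image, Set.mem_image] at hx
    obtain ⟨n, -, rfl⟩ := hx
    exact hgN n
  obtain ⟨K, hK⟩ := (Ideal.FG.isNilpotent_iff_le_nilradical hJfg).mpr hJN
  have hgJ0 : ∀ n ≤ 0, g.coeff n ∈ J := by
    intro n hn
    by_cases hlt : n < g.order
    · rw [HahnSeries.coeff_eq_zero_of_lt_order hlt]; exact zero_mem _
    · apply Ideal.subset_span
      simp only [Finset.coe_image, Set.mem_image]
      exact ⟨n, by simp; omega, rfl⟩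
  have hgJ := coeff_mem_of_nonpos J g hgg hgJ0
  have hpow : ∀ k : ℕ, ∀ n, (g ^ (k + 1)).coeff n ∈ J ^ (k + 1) := by
    intro k
    induction k with
    | zero => intro n; simpa using hgJ n
    | succ k ih =>
      intro n
      rw [pow_succ g, pow_succ J]
      exact coeff_mul_mem _ _ _ _ ih hgJ n
  have hg0 : g = 0 := by
    ext n
    have h1 := hpow K n
    rw [IsIdempotentElem.pow_succ_eq K hgg, pow_succ, hK] at h1
    simpa using h1
  have hf0 : f = 0 := by
    rw [← hfff, hg0, zero_mul]
  rw [hf, sub_eq_zero] at hf0
  exact hf0.symm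


end Groth.Agent.S15749
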