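import Groth.Statements.S15750
import Mathlib

set_option autoImplicit false
universe u
open CAlg

namespace Groth.Agent.S15750

section helpers
variable {R : Type u} [CommRing R]

lemma coeff_mul_sub_mem (N : Ideal R) (x y : LaurentSeries R) (a b : ℤ)
    (h : ∀ i j : ℤ, i + j = a + b → (i, j) ≠ (a, b) → x.coeff i * y.coeff j ∈ N) :
    (x * y).coeff (a + b) - x.coeff a * y.coeff b ∈ N := by
  classical
  rw [HahnSeries.coeff_mul]
  by_cases hmem : (a, b) ∈ Finset.antidiagonal x.isPWO_support y.isPWO_support (a + b)
  · rw [← Finset.add_sum_erase _ _ hmem, add_sub_cancel_left]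
    apply Ideal.sum_mem
    intro ij hij
    rw [Finset.mem_erase, Finset.mem_antidiagonal] at hij
    exact h ij.1 ij.2 hij.2.2.2 hij.1
  · have h0 : x.coeff a * y.coeff b = 0 := by
      rw [Finset.mem_antidiagonal] at hmem
      simp only [HahnSeries.mem_support, ne_eq, and_true] at hmem
      by_cases hx : x.coeff a = 0
      · rw [hx, zero_mul]
      · have : y.coeff b = 0 := by
          by_contra hy
          exact hmem ⟨hx, hy⟩
        rw [this, mul_zero]
    rw [h0, sub_zero]
    apply Ideal.sum_mem
    intro ij hij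
    have hne : ij ≠ (a, b) := fun h' => hmem (h' ▸ hij)
    rw [Finset.mem_antidiagonal] at hij
    exact h ij.1 ij.2 hij.2.2 hne

/-- minimal index outside a prime -/
lemma exists_min_index (F G : LaurentSeries R) (hFG : F * G = 1) (p : Ideal R) [hp : p.IsPrime] :
    ∃ i : ℤ, F.coeff i ∉ p ∧ ∀ i' < i, F.coeff i' ∈ p := by
  have hex : ∃ i, F.coeff i ∉ p := by
    by_contra hcon
    push Not at hcon
    have h1 : (F * G).coeff 0 ∈ p := by
      rw [HahnSeries.coeff_mul]
      exact Ideal.sum_mem _ fun ij _ => Ideal.mul_mem_right _ _ (hcon _)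
    rw [hFG, HahnSeries.coeff_one, if_pos rfl] at h1
    exact hp.ne_top ((Ideal.eq_top_iff_one _).mpr h1)
  have hbdd : ∃ b : ℤ, ∀ z : ℤ, F.coeff z ∉ p → b ≤ z := by
    refine ⟨F.order, fun z hz => ?_⟩
    by_contra hlt
    push Not at hlt
    exact hz (by rw [HahnSeries.coeff_eq_zero_of_lt_order hlt]; exact zero_mem _)
  obtain ⟨i, hi, hmin⟩ := Int.exists_least_of_bdd (P := fun z => F.coeff z ∉ p) hbdd hex
  refine ⟨i, hi, fun i' hi' => ?_⟩
  by_contra hcon
  have := hmin i' hcon
  omega

lemma index_add_eq_zero (F G : LaurentSeries R) (hFG : F * G = 1) (p : Ideal R) [hp : p.IsPrime]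
    (i j : ℤ) (hi : F.coeff i ∉ p) (hi' : ∀ i' < i, F.coeff i' ∈ p)
    (hj : G.coeff j ∉ p) (hj' : ∀ j' < j, G.coeff j' ∈ p) : i + j = 0 := by
  have h1 := coeff_mul_sub_mem p F G i j (by
    intro i' j' hsum hne
    by_cases h1 : i' < i
    · exact Ideal.mul_mem_right _ _ (hi' i' h1)
    · have h2 : j' < j := by
        by_contra h2
        apply hne
        have : i' = i := by omega
        have : j' = j := by omega
        simp [*]
      exact Ideal.mul_mem_left _ _ (hj' j' h2))
  by_contra hne
  rw [hFG, HahnSeries.coeff_one, if_neg hne, zero_sub, neg_mem_iff] at h1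
  rcases hp.mem_or_mem h1 with h | h
  · exact hi h
  · exact hj h


lemma exists_decomp [IsReduced R] [Nontrivial R]
    (hconn : ∀ e : R, IsIdempotentElem e → e = 0 ∨ e = 1)
    (F G : LaurentSeries R) (hFG : F * G = 1) :
    ∃ n : ℤ, (∀ i < n, F.coeff i = 0) ∧ IsUnit (F.coeff n) := by
  classical
  set e : ℤ → R := fun k => F.coeff k * G.coeff (-k) with he
  have hC : ∀ (p : Ideal R) [p.IsPrime], ∃ i : ℤ, e i ∉ p ∧ (∀ k, k ≠ i → e k ∈ p) ∧
      (∀ i' < i, F.coeff i' ∈ p) := by
    intro p hp
    have hGF : G * F = 1 := by rw [mul_comm]; exact hFG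
    obtain ⟨i, hi, hi'⟩ := exists_min_index F G hFG p
    obtain ⟨j, hj, hj'⟩ := exists_min_index G F hGF p
    have hij := index_add_eq_zero F G hFG p i j hi hi' hj hj'
    have hj_eq : j = -i := by omega
    subst hj_eq
    refine ⟨i, ?_, ?_, hi'⟩
    · intro h
      rcases hp.mem_or_mem h with h | h
      exacts [hi h, hj h]
    · intro k hk
      rcases lt_or_gt_of_ne hk with h | h
      · exact Ideal.mul_mem_right _ _ (hi' k h)
      · exact Ideal.mul_mem_left _ _ (hj' (-k) (by omega))
  have hD : ∀ k l, k ≠ l → e k * e l = 0 := by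
    intro k l hkl
    apply IsReduced.eq_zero
    rw [← mem_nilradical, nilradical_eq_sInf, Ideal.mem_sInf]
    intro p hp
    have hp' : p.IsPrime := hp
    obtain ⟨i, _, hi2, _⟩ := hC p
    by_cases hki : k = i
    · exact Ideal.mul_mem_left _ _ (hi2 l (by omega))
    · exact Ideal.mul_mem_right _ _ (hi2 k hki)
  obtain ⟨S, hS⟩ : ∃ S, S = Finset.antidiagonal F.isPWO_support G.isPWO_support (0 : ℤ) := ⟨_, rfl⟩
  have hE : ∑ ij ∈ S, e ij.1 = 1 := by
    have h1 : (F * G).coeff 0 = 1 := by rw [hFG, HahnSeries.coeff_one, if_pos rfl]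
    rw [HahnSeries.coeff_mul, ← hS] at h1
    rw [← h1]
    apply Finset.sum_congr rfl
    intro ij hij
    rw [hS, Finset.mem_antidiagonal] at hij
    have : ij.2 = -ij.1 := by omega
    simp only [he]
    rw [this]
  have hF : ∀ k, IsIdempotentElem (e k) := by
    intro k
    have h1 : e k = ∑ ij ∈ S, e k * e ij.1 := by rw [← Finset.mul_sum, hE, mul_one]
    rw [Finset.sum_eq_single (k, -k)] at h1
    · exact h1.symm
    · intro ij hij hne
      apply hD
      intro hk
      apply hne
      rw [hS, Finset.mem_antidiagonal] at hij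
      have h2 : ij.2 = -k := by omega
      exact Prod.ext hk.symm h2
    · intro hnot
      have h0 : e k = 0 := by
        rw [hS, Finset.mem_antidiagonal] at hnot
        simp only [HahnSeries.mem_support, ne_eq, add_neg_cancel, and_true] at hnot
        by_cases hx : F.coeff k = 0
        · simp [he, hx]
        · have : G.coeff (-k) = 0 := by
            by_contra hy
            exact hnot ⟨hx, hy⟩
          simp [he, this]
      simp [h0]
  have hG : ∃ n, e n = 1 := by
    by_contra hcon
    push Not at hcon
    have h0 : ∀ k, e k = 0 := fun k => (hconn _ (hF k)).resolve_right (hcon k)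
    have : (1 : R) = 0 := by
      rw [← hE]
      exact Finset.sum_eq_zero fun ij _ => h0 _
    exact one_ne_zero this
  obtain ⟨n, hn⟩ := hG
  refine ⟨n, ?_, ?_⟩
  · intro i hi
    apply IsReduced.eq_zero
    rw [← mem_nilradical, nilradical_eq_sInf, Ideal.mem_sInf]
    intro p hp
    have hp' : p.IsPrime := hp
    obtain ⟨i0, hi0, hi2, hi3⟩ := hC p
    have hi0n : i0 = n := by
      by_contra hne
      have := hi2 n (Ne.symm hne)
      rw [hn] at this
      exact hp'.ne_top ((Ideal.eq_top_iff_one _).mpr this)
    subst hi0n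
    exact hi3 i hi
  · exact IsUnit.of_mul_eq_one _ hn


end helpers

/-- Let R be a nonzero reduced commutative ring with no idempotents other than 0 and 1. Then every unit
of the Laurent series ring R((t)) is t^n · u for a unique integer n and a unique unit u of the power
series ring R[[t]]. (The published statement is for an arbitrary torus T over a reduced ring R, with
n replaced by a locally constant integer-valued function on Spec R, i.e. a point of the cocharacter
lattice; this row is the case where T is the multiplicative group and Spec R is connected, to which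
the published proof reduces.) -/
theorem result (R : Type u) [CommRing R]
    [IsReduced R] [Nontrivial R] (hconn : ∀ e : R, IsIdempotentElem e → e = 0 ∨ e = 1)
    (f : (LaurentSeries R)ˣ) :
    ∃! p : ℤ × (PowerSeries R)ˣ,
      (f : LaurentSeries R) = HahnSeries.single p.1 (1 : R) * HahnSeries.ofPowerSeries ℤ R (p.2 : PowerSeries R) := by
  classical
  obtain ⟨F, hFdef⟩ : ∃ F : LaurentSeries R, F = (f : LaurentSeries R) := ⟨_, rfl⟩
  obtain ⟨G, hGdef⟩ : ∃ G : LaurentSeries R, G = ((f⁻¹ : (LaurentSeries R)ˣ) : LaurentSeries R) := ⟨_, rfl⟩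
  have hFG : F * G = 1 := by rw [hFdef, hGdef, Units.mul_inv]
  rw [← hFdef]
  obtain ⟨n, hlow, hunit⟩ := exists_decomp hconn F G hFG
  let u : PowerSeries R := PowerSeries.mk fun i => F.coeff (n + i)
  have hu : IsUnit u := by
    rw [PowerSeries.isUnit_iff_constantCoeff]
    simpa [u] using hunit
  have hFeq : F = HahnSeries.single n (1 : R) * HahnSeries.ofPowerSeries ℤ R u := by
    ext m
    rw [HahnSeries.coeff_single_mul, one_mul, PowerSeries.coeff_coe]
    split_ifs with h
    · exact hlow m (by omega)
    · simp only [u, PowerSeries.coeff_mk]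
      congr 1
      omega
  refine ⟨(n, hu.unit), hFeq, ?_⟩
  rintro ⟨n', u'⟩ h'
  simp only at h'
  have hcoef : ∀ m, F.coeff m = if m - n' < 0 then 0
      else PowerSeries.coeff (m - n').natAbs (u' : PowerSeries R) := by
    intro m
    rw [h', HahnSeries.coeff_single_mul, one_mul, PowerSeries.coeff_coe]
  have hu'0 : IsUnit (PowerSeries.constantCoeff (u' : PowerSeries R)) :=
    PowerSeries.isUnit_iff_constantCoeff.mp u'.isUnit
  have hFn' : F.coeff n' = PowerSeries.constantCoeff (u' : PowerSeries R) := by
    rw [hcoef]; simp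
  have hnn' : n' = n := by
    rcases lt_trichotomy n' n with h | h | h
    · exfalso
      have := hlow n' h
      rw [hFn'] at this
      rw [this] at hu'0
      exact not_isUnit_zero hu'0
    · exact h
    · exfalso
      have : F.coeff n = 0 := by rw [hcoef, if_pos (by omega)]
      rw [this] at hunit
      exact not_isUnit_zero hunit
  subst hnn'
  have huu : (u' : PowerSeries R) = u := by
    ext i
    have := hcoef (n' + i)
    rw [if_neg (by omega)] at this
    simp only [u, PowerSeries.coeff_mk]
    rw [this]
    have h3 : (n' + (i : ℤ) - n').natAbs = i := by omega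
    rw [h3]
  exact Prod.ext rfl (Units.ext huu)


end Groth.Agent.S15750
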