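import Groth.Statements.S15751
import Groth.Agent.Lib.Helper12.PicL5
import Groth.Agent.Lib.Helper12.SwanL6

set_option autoImplicit false
universe u
open CAlg

namespace Groth.Agent.S15751

/-- For a seminormal Henselian local ring R the Picard group of the Laurent series ring R((t)) is
trivial: every invertible R((t))-module is free. -/
theorem result (R : Type u) [CommRing R]
    [HenselianLocalRing R] (hR : HTop.IsSeminormalRing R)
    (M : Type u) [AddCommGroup M] [Module (LaurentSeries R) M] [Module.Invertible (LaurentSeries R) M] :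
    Module.Free (LaurentSeries R) M := by
  have hred : IsReduced R := by
    rw [isReduced_iff_pow_one_lt 2 (by norm_num)]
    intro x hx
    obtain ⟨a, -, ha⟩ := hR 0 0 (by ring)
    have h0 : (0 : R) = a := ha 0 ⟨by ring, by ring⟩
    have hxa : x = a := ha x ⟨by rw [hx], by rw [pow_succ, hx, zero_mul]⟩
    rw [hxa, ← h0]
  have hR' : ∀ x y : R, x ^ 3 = y ^ 2 → ∃ a : R, x = a ^ 2 ∧ y = a ^ 3 :=
    fun x y h => (hR x y h).exists
  let alg : Algebra (Polynomial R) (LaurentSeries R) :=
    (Polynomial.eval₂RingHom (HahnSeries.C) (HahnSeries.single (-1 : ℤ) (1 : R))).toAlgebra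
  have halg : algebraMap (Polynomial R) (LaurentSeries R) =
      Polynomial.eval₂RingHom (HahnSeries.C) (HahnSeries.single (-1 : ℤ) (1 : R)) := rfl
  obtain ⟨P, _, _, hPinv, ⟨e⟩⟩ :=
    (Groth.Agent.Lib.helper12.PicLaurent.pic_laurent_bijective R halg).2 M
  have hPfree : Module.Free (Polynomial R) P :=
    Groth.Agent.Lib.helper12.Swan.free_of_invertible_polynomial_of_seminormal_local hR' P
  exact Module.Free.of_equiv e.symm

end Groth.Agent.S15751
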