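import Groth.Statements.S15754
import Groth.Agent.Lib.Helper12.HorAff
import Groth.Agent.Lib.Helper12.HorIso
import Groth.Agent.Lib.Helper12.HorLS

set_option linter.style.haveILetI false
set_option linter.unusedSectionVars false

set_option autoImplicit false
universe u
open TensorProduct
open CAlg

namespace Groth.Agent.S15754

/-- For an arbitrary commutative ring R, non-isomorphic finitely generated projective R-modules cannot
become isomorphic over the Laurent series ring R((t)): for an R-algebra L that is R-isomorphic to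
R((t)), if L ⊗_R M ≅ L ⊗_R N as L-modules then M ≅ N. (L is R((t)) up to an R-algebra isomorphism;
it is kept abstract only so that the L-module structure on L ⊗_R M elaborates.) -/
theorem result (R : Type u) [CommRing R]
    (L : Type u) [CommRing L] [Algebra R L] (eL : L ≃ₐ[R] LaurentSeries R)
    (M N : Type u) [AddCommGroup M] [Module R M] [Module.Finite R M] [Module.Projective R M]
    [AddCommGroup N] [Module R N] [Module.Finite R N] [Module.Projective R N]
    (e : L ⊗[R] M ≃ₗ[L] L ⊗[R] N) :
    Nonempty (M ≃ₗ[R] N) := by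
  classical
  -- `L` as a localization of the power series ring
  let φ : PowerSeries R →+* L :=
    (eL.symm : LaurentSeries R →+* L).comp (HahnSeries.ofPowerSeries ℤ R)
  letI algPS : Algebra (PowerSeries R) L := φ.toAlgebra
  haveI : IsScalarTower R (PowerSeries R) L := IsScalarTower.of_algebraMap_eq fun r => by
    show algebraMap R L r = eL.symm (HahnSeries.ofPowerSeries ℤ R (algebraMap R _ r))
    exact (eL.symm.commutes r).symm
  let eL' : LaurentSeries R ≃ₐ[PowerSeries R] L :=
    { eL.symm.toRingEquiv with commutes' := fun b => rfl }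
  haveI : IsLocalization (Submonoid.powers (PowerSeries.X : PowerSeries R)) L :=
    IsLocalization.isLocalization_of_algEquiv _ eL'
  have hS : Submonoid.powers (PowerSeries.X : PowerSeries R) ≤ nonZeroDivisors (PowerSeries R) := by
    rintro _ ⟨k, rfl⟩
    apply pow_mem
    rw [mem_nonZeroDivisors_iff_right]
    intro x hx
    exact PowerSeries.mul_X_injective (by simpa using hx)
  obtain ⟨s, eh, fh, ⟨k, rfl⟩, hfe, hef⟩ :=
    Groth.Agent.Lib.helper12.HorLS.exists_pseudoIso_of_localization (A := R) (PowerSeries R)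
      (Submonoid.powers (PowerSeries.X : PowerSeries R)) hS L M N e
  obtain ⟨ut, vt, W, W', hvu, huv, hc1, hc2⟩ :=
    Groth.Agent.Lib.helper12.HorLS.exists_poly_pseudoIso M N k eh fh hfe hef
  obtain ⟨Q, r, uu, vv, ww, zz, h₁, h₂, hr, hvvuu, huuvv, hzzww, hwwzz⟩ :=
    Groth.Agent.Lib.helper12.HorLS.exists_lattice' ut vt k W W' hvu huv hc1 hc2
  haveI : Module.Finite (Polynomial R) Q :=
    Module.Finite.of_surjective r (fun x => ⟨(x : _ × _), hr x⟩)
  haveI : Module.Projective (Polynomial R) Q :=
    Module.Projective.of_split Q.subtype r (LinearMap.ext hr)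
  obtain ⟨Q₀, _, _, ⟨ψ⟩⟩ := Groth.Agent.Lib.helper12.HorAff.extended_of_pseudoIso Q M
    ((Polynomial.X : Polynomial R) ^ k) (Polynomial.monic_X_pow k) uu vv hvvuu huuvv
  obtain ⟨e1⟩ := Groth.Agent.Lib.helper12.HorIso.fibre_iso (Q := Q) (1 : R) M uu vv
    ((Polynomial.X : Polynomial R) ^ k) (by simp) hvvuu huuvv Q₀ ψ
  obtain ⟨e2⟩ := Groth.Agent.Lib.helper12.HorLS.fibre_iso0 (Q := Q) N ww zz h₁ h₂ hzzww hwwzz Q₀ ψ
  exact ⟨e1 ≪≫ₗ e2.symm⟩

end Groth.Agent.S15754
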