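import Groth.Statements.S15759
import Groth.Agent.Lib.Helper12.GabberMatRat

set_option autoImplicit false
universe u
open Polynomial TensorProduct
open CAlg

namespace Groth.Agent.S15759

/-- Let R be a ring, L = R(t) the localisation of R[t] at the monoid generated by t and the polynomials
with constant term 1 (that is, (R[t]_{1+tR[t]})[1/t]), and L' an L-algebra identified with R((t))
compatibly with R[t] → R((t)). Then (b) finitely generated projective L-modules that become
isomorphic over L' are isomorphic, and (c) every stably free L'-module is the base change of a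
stably free L-module. -/
theorem result (R : Type u) [CommRing R]
    (L : Type u) [CommRing L] [Algebra R[X] L]
    [IsLocalization (Submonoid.closure ({f : R[X] | f.coeff 0 = 1} ∪ {X})) L]
    (L' : Type u) [CommRing L'] [Algebra L L'] (e : L' ≃+* LaurentSeries R)
    (he : ∀ p : R[X], e (algebraMap L L' (algebraMap R[X] L p)) =
      HahnSeries.ofPowerSeries ℤ R (Polynomial.coeToPowerSeries.ringHom p)) :
    (∀ (M N : Type u) [AddCommGroup M] [Module L M] [Module.Finite L M] [Module.Projective L M]
        [AddCommGroup N] [Module L N] [Module.Finite L N] [Module.Projective L N],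
        Nonempty (L' ⊗[L] M ≃ₗ[L'] L' ⊗[L] N) → Nonempty (M ≃ₗ[L] N)) ∧
    (∀ (M' : Type u) [AddCommGroup M'] [Module L' M'] [Module.Finite L' M'],
        (∃ n m : ℕ, Nonempty ((M' × (Fin n → L')) ≃ₗ[L'] (Fin m → L'))) →
        ∃ (M : Type u) (_ : AddCommGroup M) (_ : Module L M), Module.Finite L M ∧
          (∃ n m : ℕ, Nonempty ((M × (Fin n → L)) ≃ₗ[L] (Fin m → L))) ∧
          Nonempty (L' ⊗[L] M ≃ₗ[L'] M')) := by
  let _ : Algebra (Groth.Agent.Lib.helper12.GabberMat.A1 R) L :=
    Groth.Agent.Lib.helper12.GabberMat.algebraA1 R L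
  have hAway : IsLocalization.Away
      (algebraMap R[X] (Groth.Agent.Lib.helper12.GabberMat.A1 R) X) L :=
    Groth.Agent.Lib.helper12.GabberMat.isLocalization_away_A1 R L
  let _ : Algebra (PowerSeries R) L' :=
    ((e.symm : LaurentSeries R →+* L').comp (HahnSeries.ofPowerSeries ℤ R)).toAlgebra
  have halgL' : ∀ f : PowerSeries R, e (algebraMap (PowerSeries R) L' f) =
      HahnSeries.ofPowerSeries ℤ R f := fun f => e.apply_symm_apply _
  have : IsLocalization.Away (Groth.Agent.Lib.helper12.GabberMat.φ1 R
      (algebraMap R[X] (Groth.Agent.Lib.helper12.GabberMat.A1 R) X)) L' := by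
    rw [Groth.Agent.Lib.helper12.GabberMat.φ1_t1]
    exact Groth.Agent.Lib.helper12.GabberMat.isLocalization_away_of_equiv e halgL'
  have hu : (((IsLocalization.Away.algebraMap_isUnit (S := L)
      (algebraMap R[X] (Groth.Agent.Lib.helper12.GabberMat.A1 R) X)).unit : Lˣ) : L) =
      algebraMap (Groth.Agent.Lib.helper12.GabberMat.A1 R) L
        (algebraMap R[X] (Groth.Agent.Lib.helper12.GabberMat.A1 R) X) :=
    IsUnit.unit_spec _
  have huh : (((IsLocalization.Away.algebraMap_isUnit (S := L')
      (Groth.Agent.Lib.helper12.GabberMat.φ1 R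
        (algebraMap R[X] (Groth.Agent.Lib.helper12.GabberMat.A1 R) X))).unit : L'ˣ) : L') =
      algebraMap (PowerSeries R) L' (Groth.Agent.Lib.helper12.GabberMat.φ1 R
        (algebraMap R[X] (Groth.Agent.Lib.helper12.GabberMat.A1 R) X)) :=
    IsUnit.unit_spec _
  have hψ' : ∀ a : Groth.Agent.Lib.helper12.GabberMat.A1 R, algebraMap L L'
      (algebraMap (Groth.Agent.Lib.helper12.GabberMat.A1 R) L a) =
      algebraMap (PowerSeries R) L' (Groth.Agent.Lib.helper12.GabberMat.φ1 R a) := by
    have h1 : (algebraMap L L').comp (algebraMap (Groth.Agent.Lib.helper12.GabberMat.A1 R) L) =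
        (algebraMap (PowerSeries R) L').comp (Groth.Agent.Lib.helper12.GabberMat.φ1 R) := by
      apply IsLocalization.ringHom_ext (Groth.Agent.Lib.helper12.GabberMat.S1 R)
      refine RingHom.ext fun p => ?_
      simp only [RingHom.comp_apply]
      rw [Groth.Agent.Lib.helper12.GabberMat.algebraA1_algebraMap,
        Groth.Agent.Lib.helper12.GabberMat.φ1_algebraMap]
      apply e.injective
      rw [he, halgL']
      rfl
    intro a
    exact congrArg (fun f => f a) h1
  have hc := Groth.Agent.Lib.helper12.GabberMat.rat_hc R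
  have hd := Groth.Agent.Lib.helper12.GabberMat.rat_hd R
  have ht := Groth.Agent.Lib.helper12.GabberMat.t1_mem_jacobson R
  have hth : Groth.Agent.Lib.helper12.GabberMat.φ1 R
      (algebraMap R[X] (Groth.Agent.Lib.helper12.GabberMat.A1 R) X) ∈
      Ideal.jacobson (⊥ : Ideal (PowerSeries R)) := by
    rw [Groth.Agent.Lib.helper12.GabberMat.φ1_t1]
    exact Groth.Agent.Lib.helper12.GabberMat.X_mem_jacobson
  refine ⟨?_, ?_⟩
  · intro M N _ _ _ _ _ _ _ _ e'
    exact Groth.Agent.Lib.helper12.GabberMat.nonempty_linearEquiv_of_baseChange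
      (Groth.Agent.Lib.helper12.GabberMat.φ1 R) hu huh hψ' hc hd ht M N e'
  · intro M' _ _ _ hM'
    obtain ⟨n, m, ⟨e'⟩⟩ := hM'
    obtain ⟨G, H, hGH, hiso⟩ := Groth.Agent.Lib.helper12.GabberMat.exists_stablyFree_extension
      (Groth.Agent.Lib.helper12.GabberMat.φ1 R) hu huh hψ' hc hd ht hth M' e'
    have hGP : G * (1 - H * G) = 0 := by
      rw [Matrix.mul_sub, Matrix.mul_one, ← Matrix.mul_assoc, hGH, Matrix.one_mul, sub_self]
    have hidem : (1 - H * G) * (1 - H * G) = 1 - H * G := by
      rw [Matrix.sub_mul, Matrix.one_mul, Matrix.mul_assoc, hGP, Matrix.mul_zero, sub_zero]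
    have hIm := Groth.Agent.Lib.helper12.ProjIdem.isImage_range hidem
    refine ⟨LinearMap.range (Matrix.mulVecLin (1 - H * G)), inferInstance, inferInstance,
      hIm.finite, ⟨n, m, ?_⟩, hiso⟩
    exact Groth.Agent.Lib.helper12.ProjIdem.nonempty_stablyFree_of_matrix G H hGH hIm

end Groth.Agent.S15759
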