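import Groth.Statements.S15765
import Mathlib

set_option autoImplicit false
universe u
open CategoryTheory AlgebraicGeometry
open CAlg

namespace Groth.Agent.S15765

/-- Let B be a topological ring in which the units form an open subset, B₀ → B a ring map with dense
image and X a quasi-affine scheme over B₀. Then the image of any B-point Spec B → X over B₀ is
contained in an affine open of X. (The published statement allows X ind-quasi-affine, i.e. with all
quasi-compact opens quasi-affine; since a B-point lands in a quasi-compact open, this row's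
quasi-affine case carries the content.) -/
theorem result (B : Type u) [CommRing B] [TopologicalSpace B]
    [IsTopologicalRing B] (hB : IsOpen {b : B | IsUnit b})
    (B₀ : Type u) [CommRing B₀] (φ : B₀ →+* B) (hφ : DenseRange φ)
    (X : Scheme.{u}) [X.IsQuasiAffine] (p : X ⟶ Spec (CommRingCat.of B₀))
    (f : Spec (CommRingCat.of B) ⟶ X) (hf : f ≫ p = Spec.map (CommRingCat.ofHom φ)) :
    ∃ U : X.Opens, IsAffineOpen U ∧ Set.range f.base ⊆ (U : Set X) := by
  classical
  let eB := Scheme.ΓSpecIso (CommRingCat.of B)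
  let eB₀ := Scheme.ΓSpecIso (CommRingCat.of B₀)
  let ψ : Γ(X, ⊤) →+* B := eB.hom.hom.comp f.appTop.hom
  let α : B₀ →+* Γ(X, ⊤) := p.appTop.hom.comp eB₀.inv.hom
  have hψα : ∀ c, ψ (α c) = φ c := by
    intro c
    have h1 : p.appTop ≫ f.appTop = (Spec.map (CommRingCat.ofHom φ)).appTop := by
      rw [← Scheme.Hom.comp_appTop, hf]
    have h2 := Scheme.ΓSpecIso_naturality (CommRingCat.ofHom φ)
    have h3 : eB₀.inv ≫ (p.appTop ≫ f.appTop) ≫ eB.hom = CommRingCat.ofHom φ := by
      rw [h1, h2, Iso.inv_hom_id_assoc]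
    exact congrArg (fun k => k.hom c) h3
  -- the images of the `r` with affine basic open span the unit ideal of `B`
  let 𝒜 : Set Γ(X, ⊤) := {r | IsAffineOpen (X.basicOpen r)}
  have hspan : Ideal.span (ψ '' 𝒜) = ⊤ := by
    by_contra hne
    obtain ⟨m, hm, hle⟩ := Ideal.exists_le_maximal _ hne
    let y : Spec (CommRingCat.of B) := ⟨m, hm.isPrime⟩
    obtain ⟨_, ⟨_, ⟨r, hr, rfl⟩, rfl⟩, hxr, -⟩ :=
      (Scheme.IsQuasiAffine.isBasis_basicOpen X).exists_subset_of_mem_open
        (Set.mem_univ (f y)) isOpen_univ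
    have h1 : y ∈ f ⁻¹ᵁ X.basicOpen r := hxr
    rw [Scheme.preimage_basicOpen_top, basicOpen_eq_of_affine'] at h1
    exact h1 (hle (Ideal.subset_span ⟨r, hr, rfl⟩))
  have hone : (1 : B) ∈ Submodule.span B (ψ '' 𝒜) := by
    have : (1 : B) ∈ Ideal.span (ψ '' 𝒜) := hspan ▸ Submodule.mem_top
    exact this
  obtain ⟨l, hl, hl1⟩ := (Finsupp.mem_span_image_iff_linearCombination B).mp hone
  rw [Finsupp.linearCombination_apply, Finsupp.sum] at hl1
  -- approximate the coefficients
  let Θ : (l.support → B) → B := fun c => ∑ r : l.support, c r * ψ r.1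
  have hΘc : Continuous Θ := by
    apply continuous_finsetSum
    intro r _
    exact (continuous_apply r).mul continuous_const
  have hΘl : Θ (fun r => l r.1) = 1 := by
    show ∑ r : l.support, l r.1 * ψ r.1 = 1
    rw [← hl1, ← Finset.sum_coe_sort l.support (fun r => l r • ψ r)]
    rfl
  have hopen : IsOpen (Θ ⁻¹' {b : B | IsUnit b}) := hB.preimage hΘc
  have hne : (Θ ⁻¹' {b : B | IsUnit b}).Nonempty :=
    ⟨fun r => l r.1, by show IsUnit (Θ _); rw [hΘl]; exact isUnit_one⟩
  have hdense : DenseRange (Pi.map (fun _ : l.support => (φ : B₀ → B))) :=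
    DenseRange.piMap (fun _ => hφ)
  obtain ⟨c, hc⟩ := hdense.exists_mem_open hopen hne
  -- the element `g`
  let g : Γ(X, ⊤) := ∑ r : l.support, α (c r) * r.1
  have hψg : ψ g = Θ (Pi.map (fun _ : l.support => (φ : B₀ → B)) c) := by
    show ψ (∑ r : l.support, α (c r) * r.1) = ∑ r : l.support, φ (c r) * ψ r.1
    rw [map_sum]
    refine Finset.sum_congr rfl (fun r _ => ?_)
    rw [map_mul, hψα]
  have hunit : IsUnit (ψ g) := by rw [hψg]; exact hc
  refine ⟨X.basicOpen g, ?_, ?_⟩
  · -- affine
    let ρ : Γ(X, ⊤) →+* Γ(X, X.basicOpen g) := (X.presheaf.map (homOfLE le_top).op).hom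
    refine isAffineOpen_of_isAffineOpen_basicOpen (X.basicOpen g)
      (Set.range fun r : l.support => ρ r.1) ?_ ?_
    · apply Ideal.eq_top_of_isUnit_mem _ _ (RingedSpace.isUnit_res_basicOpen X.toRingedSpace g)
      show ρ g ∈ _
      show ρ (∑ r : l.support, α (c r) * r.1) ∈ _
      rw [map_sum]
      refine Ideal.sum_mem _ (fun r _ => ?_)
      rw [map_mul]
      exact Ideal.mul_mem_left _ _ (Ideal.subset_span ⟨r, rfl⟩)
    · rintro _ ⟨r, rfl⟩
      have hr : IsAffineOpen (X.basicOpen r.1) := (Finsupp.mem_supported _ _).mp hl r.2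
      have h1 : X.basicOpen (ρ r.1) = X.basicOpen g ⊓ X.basicOpen r.1 :=
        Scheme.basicOpen_res _ _ _
      have h2 : X.basicOpen ((X.presheaf.map (homOfLE le_top).op).hom g :
          Γ(X, X.basicOpen r.1)) = X.basicOpen r.1 ⊓ X.basicOpen g :=
        Scheme.basicOpen_res _ _ _
      rw [h1, inf_comm, ← h2]
      exact hr.basicOpen _
  · rintro _ ⟨y, rfl⟩
    have : y ∈ f ⁻¹ᵁ X.basicOpen g := by
      rw [Scheme.preimage_basicOpen_top, basicOpen_eq_of_affine']
      exact fun h => y.2.ne_top (Ideal.eq_top_of_isUnit_mem _ h hunit)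
    exact this

end Groth.Agent.S15765
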