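import Groth.Statements.S1707
import Mathlib
import Groth.Agent.Lib.Helper16.QCohAss

set_option autoImplicit false
universe u
open CategoryTheory CategoryTheory.Limits AlgebraicGeometry TopologicalSpace
open SDiv

namespace Groth.Agent.S1707

section helpers
open CategoryTheory CategoryTheory.Limits AlgebraicGeometry TopologicalSpace

open Opposite
open Groth.Agent.Lib.helper16.QCohAss

theorem main (X : Scheme.{u}) (F : X.Modules) (hF : Coh.IsQCoh F) (x : ↥X)
    (hx : x ∈ CohB1.support F) (hmax : ∀ y : ↥X, y ∈ CohB1.support F → y ⤳ x → y = x) :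
    Curv2.IsWeakAssPoint F x := by
  haveI : F.IsQuasicoherent := hF
  have hx' : ¬ Subsingleton (F.presheaf.stalk x) := hx
  rw [not_subsingleton_iff_nontrivial] at hx'
  obtain ⟨n, hn⟩ := exists_ne (0 : ToType (F.presheaf.stalk x))
  obtain ⟨U, hU, hxU, m, hm⟩ := exists_affine_section_of_germ_ne_zero F x n
  have hm0 : (F.presheaf.germ U x hxU).hom m ≠ 0 := by rw [hm]; exact hn
  obtain ⟨y, hyU, hyx, hy, hym⟩ := exists_weakAssPoint_specializes F hU x hxU m hm0
  have hys : y ∈ CohB1.support F := by
    intro hsub
    exact hym (Subsingleton.elim _ _)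
  rw [← hmax y hys hyx]
  exact hy


end helpers


/-- Let X be a scheme, F a quasi-coherent module and x a point of the support of F such that no other
point of the support specializes to x. Then x is weakly associated to F. -/
theorem result (X : Scheme.{u}) (F : X.Modules) (hF : Coh.IsQCoh F) (x : ↥X)
    (hx : x ∈ CohB1.support F) (hmax : ∀ y : ↥X, y ∈ CohB1.support F → y ⤳ x → y = x) : Curv2.IsWeakAssPoint F x := by
  exact main X F hF x hx hmax

end Groth.Agent.S1707
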