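import Groth.Statements.S15770
import Mathlib

set_option autoImplicit false
universe u
open CAlg

namespace Groth.Agent.S15770



/-- Let B be a topological ring with Bˣ ⊂ B open and M, M' finitely generated projective B-modules, and
endow Hom_B(M, M') with the module topology (the canonical topology of a finite module). Then the
set of surjective B-linear maps M → M' is open. -/
theorem result (B : Type u) [CommRing B] [TopologicalSpace B]
    [IsTopologicalRing B] (hB : IsOpen {b : B | IsUnit b})
    (M M' : Type u) [AddCommGroup M] [Module B M] [Module.Finite B M] [Module.Projective B M]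
    [AddCommGroup M'] [Module B M'] [Module.Finite B M'] [Module.Projective B M']
    [TopologicalSpace (M →ₗ[B] M')] [IsModuleTopology B (M →ₗ[B] M')] :
    IsOpen {f : M →ₗ[B] M' | Function.Surjective f} := by
  classical
  rw [isOpen_iff_forall_mem_open]
  intro f₀ hf₀
  obtain ⟨n, p, hp⟩ := Module.Finite.exists_fin' B M'
  obtain ⟨i, hi⟩ := Module.projective_lifting_property p (LinearMap.id : M' →ₗ[B] M') hp
  obtain ⟨g₀, hg₀⟩ := Module.projective_lifting_property f₀ (LinearMap.id : M' →ₗ[B] M') hf₀
  have hpi : ∀ y : M', p (i y) = y := fun y => by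
    have := LinearMap.congr_fun hi y
    rw [LinearMap.comp_apply, LinearMap.id_apply] at this
    exact this
  have hfg : ∀ y : M', f₀ (g₀ y) = y := fun y => by
    have := LinearMap.congr_fun hg₀ y
    rw [LinearMap.comp_apply, LinearMap.id_apply] at this
    exact this
  -- the auxiliary endomorphism of B^n
  let W : (M →ₗ[B] M') → ((Fin n → B) →ₗ[B] (Fin n → B)) := fun f =>
    i ∘ₗ f ∘ₗ g₀ ∘ₗ p + (LinearMap.id - i ∘ₗ p)
  have hW : ∀ f z, W f z = i (f (g₀ (p z))) + (z - i (p z)) := fun f z => rfl
  let E : (M →ₗ[B] M') → B := fun f => (LinearMap.toMatrix' (W f)).det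
  have hEc : Continuous E := by
    apply Continuous.matrix_det
    apply continuous_matrix
    intro a b
    have : (fun f : M →ₗ[B] M' => LinearMap.toMatrix' (W f) a b) =
        fun f => ((LinearMap.proj a) ∘ₗ i ∘ₗ (LinearMap.applyₗ (g₀ (p (Pi.single b 1))))) f +
          ((Pi.single b 1 : Fin n → B) - i (p (Pi.single b 1))) a := by
      funext f
      rw [LinearMap.toMatrix'_apply]
      rw [hW]
      rfl
    rw [this]
    exact (IsModuleTopology.continuous_of_linearMap _).add continuous_const
  refine ⟨E ⁻¹' {b | IsUnit b}, ?_, hB.preimage hEc, ?_⟩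
  · intro f hf
    have hf' : IsUnit (LinearMap.toMatrix' (W f)).det := hf
    rw [← Matrix.isUnit_iff_isUnit_det, ← Matrix.mulVec_surjective_iff_isUnit] at hf'
    intro y
    obtain ⟨z, hz⟩ := hf' (i y)
    rw [LinearMap.toMatrix'_mulVec, hW] at hz
    refine ⟨g₀ (p z), ?_⟩
    have h1 := congrArg p hz
    rw [map_add, map_sub, hpi, hpi, hpi, sub_self, add_zero] at h1
    exact h1
  · show IsUnit (LinearMap.toMatrix' (W f₀)).det
    have : W f₀ = LinearMap.id := by
      apply LinearMap.ext
      intro z
      rw [hW, hfg, LinearMap.id_apply]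
      abel
    rw [this, LinearMap.toMatrix'_id, Matrix.det_one]
    exact isUnit_one


end Groth.Agent.S15770
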