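import Groth.Statements.S15771
import Mathlib
-- import your own Groth.Agent.* helpers here

set_option autoImplicit false
universe u
open TensorProduct
open CAlg

namespace Groth.Agent.S15771

/-- For a ring map B₀ → B with dense image into a topological ring B, a finitely generated B₀-module M₀
and any topological B-module structure on M = B ⊗_{B₀} M₀, the natural map M₀ → M has dense image. -/
theorem result (B₀ B : Type u) [CommRing B₀] [CommRing B] [Algebra B₀ B]
    [TopologicalSpace B] [IsTopologicalRing B] (hφ : DenseRange (algebraMap B₀ B))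
    (M₀ : Type u) [AddCommGroup M₀] [Module B₀ M₀] [Module.Finite B₀ M₀]
    [TopologicalSpace (B ⊗[B₀] M₀)] [IsTopologicalAddGroup (B ⊗[B₀] M₀)] [ContinuousSMul B (B ⊗[B₀] M₀)] :
    DenseRange (fun m : M₀ => (1 : B) ⊗ₜ[B₀] m) := by
  obtain ⟨n, s, hs⟩ := Module.Finite.exists_fin (R := B₀) (M := M₀)
  let v : Fin n → B ⊗[B₀] M₀ := fun i => (1 : B) ⊗ₜ[B₀] s i
  let F : (Fin n → B) →ₗ[B] B ⊗[B₀] M₀ := Fintype.linearCombination B v
  have hFsurj : Function.Surjective F := by
    rw [← LinearMap.range_eq_top, Fintype.range_linearCombination]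
    have h1 := Submodule.baseChange_span (R := B₀) (A := B) (Set.range s)
    rw [hs, Submodule.baseChange_top] at h1
    rw [h1]
    congr 1
    ext x
    simp [v]
  have hFcont : Continuous F := by
    have : (F : (Fin n → B) → B ⊗[B₀] M₀) = fun b => ∑ i, b i • v i := by
      funext b
      simp [F, Fintype.linearCombination_apply]
    rw [this]
    refine continuous_finsetSum _ fun i _ => ?_
    exact Continuous.smul (f := fun b : Fin n → B => b i) (g := fun _ => v i)
      (continuous_apply i) continuous_const
  have hdense : DenseRange (Pi.map (fun _ : Fin n => algebraMap B₀ B)) :=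
    DenseRange.piMap fun _ => hφ
  have hcomp : DenseRange (F ∘ Pi.map (fun _ : Fin n => algebraMap B₀ B)) :=
    (hFsurj.denseRange).comp hdense hFcont
  refine Dense.mono ?_ hcomp
  rintro _ ⟨c, rfl⟩
  refine ⟨∑ i, c i • s i, ?_⟩
  simp only [Function.comp_apply, F, Fintype.linearCombination_apply, Pi.map_apply, v]
  rw [TensorProduct.tmul_sum]
  refine Finset.sum_congr rfl fun i _ => ?_
  rw [TensorProduct.tmul_smul, TensorProduct.smul_tmul', Algebra.smul_def, mul_one,
    TensorProduct.smul_tmul', smul_eq_mul, mul_one]

end Groth.Agent.S15771
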