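import Groth.Statements.S15778
import Groth.Agent.Lib.Helper12.GabberMatAdic

set_option autoImplicit false
universe u
open TensorProduct
open CAlg

namespace Groth.Agent.S15778

/-- The instance A[1/t] → Â[1/t] for modules: let t lie in the Jacobson radical of A (a Zariski pair (A,
tA)) with bounded t-power torsion, Â the t-adic completion, and give Â[1/t] the A[1/t]-algebra
structure of the canonical map. Then finitely generated projective A[1/t]-modules isomorphic over
Â[1/t] are isomorphic, and every stably free Â[1/t]-module is extended from a stably free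
A[1/t]-module. (The published statement also asserts injectivity on H¹ for inner forms of GL_n; this
row omits that clause.) -/
theorem result (A : Type u) [CommRing A]
    (t : A) (ht : t ∈ (⊥ : Ideal A).jacobson)
    (hbd : ∃ N : ℕ, ∀ a : A, (∃ m : ℕ, t ^ m * a = 0) → t ^ N * a = 0)
    [Algebra (Localization.Away t) (Localization.Away (algebraMap A (AdicCompletion (Ideal.span {t}) A) t))]
    (halg : algebraMap (Localization.Away t) (Localization.Away (algebraMap A (AdicCompletion (Ideal.span {t}) A) t)) = Localization.awayMap (algebraMap A (AdicCompletion (Ideal.span {t}) A)) t) :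
    (∀ (M N : Type u) [AddCommGroup M] [Module (Localization.Away t) M] [Module.Finite (Localization.Away t) M] [Module.Projective (Localization.Away t) M]
        [AddCommGroup N] [Module (Localization.Away t) N] [Module.Finite (Localization.Away t) N] [Module.Projective (Localization.Away t) N],
        Nonempty ((Localization.Away (algebraMap A (AdicCompletion (Ideal.span {t}) A) t)) ⊗[Localization.Away t] M ≃ₗ[Localization.Away (algebraMap A (AdicCompletion (Ideal.span {t}) A) t)] (Localization.Away (algebraMap A (AdicCompletion (Ideal.span {t}) A) t)) ⊗[Localization.Away t] N) → Nonempty (M ≃ₗ[Localization.Away t] N)) ∧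
    (∀ (M' : Type u) [AddCommGroup M'] [Module (Localization.Away (algebraMap A (AdicCompletion (Ideal.span {t}) A) t)) M'] [Module.Finite (Localization.Away (algebraMap A (AdicCompletion (Ideal.span {t}) A) t)) M'],
        (∃ n m : ℕ, Nonempty ((M' × (Fin n → Localization.Away (algebraMap A (AdicCompletion (Ideal.span {t}) A) t))) ≃ₗ[Localization.Away (algebraMap A (AdicCompletion (Ideal.span {t}) A) t)] (Fin m → Localization.Away (algebraMap A (AdicCompletion (Ideal.span {t}) A) t)))) →
        ∃ (M : Type u) (_ : AddCommGroup M) (_ : Module (Localization.Away t) M), Module.Finite (Localization.Away t) M ∧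
          (∃ n m : ℕ, Nonempty ((M × (Fin n → Localization.Away t)) ≃ₗ[Localization.Away t] (Fin m → Localization.Away t))) ∧
          Nonempty ((Localization.Away (algebraMap A (AdicCompletion (Ideal.span {t}) A) t)) ⊗[Localization.Away t] M ≃ₗ[Localization.Away (algebraMap A (AdicCompletion (Ideal.span {t}) A) t)] M')) := by
  have hu : (((IsLocalization.Away.algebraMap_isUnit (S := Localization.Away t) t).unit :
      (Localization.Away t)ˣ) : Localization.Away t) = algebraMap A (Localization.Away t) t :=
    IsUnit.unit_spec _
  have huh : (((IsLocalization.Away.algebraMap_isUnit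
      (S := Localization.Away (algebraMap A (AdicCompletion (Ideal.span {t}) A) t))
      (algebraMap A (AdicCompletion (Ideal.span {t}) A) t)).unit :
      (Localization.Away (algebraMap A (AdicCompletion (Ideal.span {t}) A) t))ˣ) :
      Localization.Away (algebraMap A (AdicCompletion (Ideal.span {t}) A) t)) =
      algebraMap (AdicCompletion (Ideal.span {t}) A) _
        (algebraMap A (AdicCompletion (Ideal.span {t}) A) t) :=
    IsUnit.unit_spec _
  have hψ := Groth.Agent.Lib.helper12.GabberMat.adic_hψ t halg
  have hc := Groth.Agent.Lib.helper12.GabberMat.adic_hc t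
  have hd := Groth.Agent.Lib.helper12.GabberMat.adic_hd t
  have hb := Groth.Agent.Lib.helper12.GabberMat.adic_hb t
  refine ⟨?_, ?_⟩
  · intro M N _ _ _ _ _ _ _ _ e
    exact Groth.Agent.Lib.helper12.GabberMat.nonempty_linearEquiv_of_baseChange
      (algebraMap A (AdicCompletion (Ideal.span {t}) A)) hu huh hψ hc hd ht M N e
  · intro M' _ _ _ hM'
    obtain ⟨n, m, ⟨e⟩⟩ := hM'
    obtain ⟨G, H, hGH, hiso⟩ := Groth.Agent.Lib.helper12.GabberMat.exists_stablyFree_extension
      (algebraMap A (AdicCompletion (Ideal.span {t}) A)) hu huh hψ hc hd ht hb M' e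
    have hGP : G * (1 - H * G) = 0 := by
      rw [Matrix.mul_sub, Matrix.mul_one, ← Matrix.mul_assoc, hGH, Matrix.one_mul, sub_self]
    have hidem : (1 - H * G) * (1 - H * G) = 1 - H * G := by
      rw [Matrix.sub_mul, Matrix.one_mul, Matrix.mul_assoc, hGP, Matrix.mul_zero, sub_zero]
    have hIm := Groth.Agent.Lib.helper12.ProjIdem.isImage_range hidem
    refine ⟨LinearMap.range (Matrix.mulVecLin (1 - H * G)), inferInstance, inferInstance,
      hIm.finite, ⟨n, m, ?_⟩, hiso⟩
    exact Groth.Agent.Lib.helper12.ProjIdem.nonempty_stablyFree_of_matrix G H hGH hIm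

end Groth.Agent.S15778
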