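import Groth.Statements.S1578
import Mathlib
import Groth.Agent.Lib.Helper16.TildeAss

set_option autoImplicit false
universe u
open CategoryTheory CategoryTheory.Limits AlgebraicGeometry
open Divisors

namespace Groth.Agent.S1578


open Groth.Agent.Lib.helper16.QCohAss in
theorem colon_bot_eq_ann {A : Type*} [CommRing A] {M : Type*} [AddCommGroup M] [Module A M] (x : M) :
    Submodule.colon (⊥ : Submodule A M) {x} = ann A x := by
  ext a
  rw [Submodule.mem_colon_singleton, mem_ann, Submodule.mem_bot]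

open Groth.Agent.Lib.helper16.QCohAss in
/-- a finitely generated prime minimal over `ann m` is the radical of `ann (c • m)` for some `c` -/
theorem exists_radical_ann_eq {A : Type*} [CommRing A] {M : Type*} [AddCommGroup M] [Module A M]
    (p : Ideal A) (hfg : p.FG) (m : M) (hp : p ∈ (ann A m).minimalPrimes) :
    ∃ m' : M, p = (ann A m').radical := by
  classical
  haveI : p.IsPrime := hp.1.1
  obtain ⟨s, hs⟩ := hfg
  have hsp : ∀ a ∈ s, a ∈ p := fun a ha => hs ▸ Submodule.subset_span ha
  have key : ∀ a : A, ∃ c : A, c ∉ p ∧ ∃ k : ℕ, a ∈ s → c * a ^ k ∈ ann A m := by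
    intro a
    by_cases ha : a ∈ s
    · obtain ⟨c, hc, k, hk⟩ := exists_mul_pow_mem hp (hsp a ha)
      exact ⟨c, hc, k, fun _ => hk⟩
    · exact ⟨1, fun h => (Ideal.ne_top_iff_one p).1 ‹p.IsPrime›.ne_top h, 0, fun h => absurd h ha⟩
  choose c hc k hk using key
  let C := ∏ a ∈ s, c a
  have hC : C ∉ p := by
    intro h
    obtain ⟨a, _, ha⟩ := (Ideal.IsPrime.prod_mem_iff).1 h
    exact hc a ha
  refine ⟨C • m, le_antisymm ?_ ?_⟩
  · rw [← hs, Ideal.span_le]
    intro a ha
    refine ⟨k a, ?_⟩
    rw [mem_ann]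
    have h1 : C = (∏ b ∈ s.erase a, c b) * c a :=
      (Finset.prod_erase_mul s c ha).symm
    rw [h1, smul_smul]
    have h2 : a ^ k a * ((∏ b ∈ s.erase a, c b) * c a) = (∏ b ∈ s.erase a, c b) * (c a * a ^ k a) := by
      ring
    rw [h2, mul_smul, mem_ann.1 (hk a ha), smul_zero]
  · rw [Ideal.IsPrime.radical_le_iff ‹p.IsPrime›]
    intro x hx
    rw [mem_ann, smul_smul] at hx
    have : x * C ∈ p := hp.1.2 (mem_ann.2 hx)
    exact (‹p.IsPrime›.mem_or_mem this).resolve_right hC



/-- Let M be a module over a ring A, F the associated quasi-coherent module on Spec A, and p a prime of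
A. If p is an associated prime of M then p is an associated point of F; the converse holds when p is
finitely generated. -/
theorem result (A : CommRingCat.{u}) (M : ModuleCat.{u} A)
    (p : Spec A) :
    (p.asIdeal ∈ associatedPrimes A M → Curv2.IsAssPoint (tilde M) p) ∧
    (p.asIdeal.FG → Curv2.IsAssPoint (tilde M) p → p.asIdeal ∈ associatedPrimes A M) := by
  haveI : p.asIdeal.IsPrime := p.2
  refine ⟨fun h => ?_, fun hfg h => ?_⟩
  · rw [Groth.Agent.Lib.helper16.QCohAss.isAssPoint_iff_isWeakAssPoint,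
      Groth.Agent.Lib.helper16.TildeAss.weakAss_tilde_iff]
    obtain ⟨-, x, hx⟩ := (Submodule.isAssociatedPrime_def).1 h
    refine ⟨x, ?_⟩
    rw [Groth.Agent.S1578.colon_bot_eq_ann] at hx
    rw [← Ideal.radical_minimalPrimes, ← hx, Ideal.minimalPrimes_eq_subsingleton_self]
    exact Set.mem_singleton _
  · rw [Groth.Agent.Lib.helper16.QCohAss.isAssPoint_iff_isWeakAssPoint,
      Groth.Agent.Lib.helper16.TildeAss.weakAss_tilde_iff] at h
    obtain ⟨m, hm⟩ := h
    obtain ⟨m', hm'⟩ := Groth.Agent.S1578.exists_radical_ann_eq p.asIdeal hfg m hm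
    refine (Submodule.isAssociatedPrime_def).2 ⟨inferInstance, m', ?_⟩
    rw [Groth.Agent.S1578.colon_bot_eq_ann]
    exact hm'

end Groth.Agent.S1578
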