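import Groth.Statements.S15784
import Mathlib

set_option autoImplicit false
universe u
open Neron

namespace Groth.Agent.S15784

/-- Let O be a discrete valuation ring with fraction field L and uniformizer ϖ', let ϖ be an element of
the maximal ideal of O, let q = u·ϖ'^n with u a unit of O and n ≥ 1, and let m ≥ 1 be a divisor of
n. Then the following are equivalent: (i) there is a nonzero element z = w·ϖ'^a of L, with w a unit
of O and a an integer congruent to n/m modulo n, and an integer j such that z^m·q^j lies in 1 + ϖO;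
(ii) ϖ'^n/q is an m-th power in the group of units of O/ϖO, that is, u·(y^m + ϖ·r) = 1 for some y, r
∈ O. (The published statement phrases (i) geometrically, as the existence of a point of order m in
the special fibre of the Néron model of the Weil restriction of the Tate curve with parameter q from
L down to a subfield over which L is totally ramified with ϖ a uniformizer of the subfield, whose
image in the component group also has order m; this row states the equivalence between (i) and (ii)
that the printed argument establishes.) -/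
theorem result
    (O : Type u) [CommRing O] [IsDomain O] [IsDiscreteValuationRing O]
    (L : Type u) [Field L] [Algebra O L] [IsFractionRing O L]
    (ϖ' : O) (hϖ' : Irreducible ϖ') (ϖ : O) (hϖ : ϖ ∈ IsLocalRing.maximalIdeal O)
    (n : ℕ) (hn : 1 ≤ n) (u : Oˣ) (q : O) (hq : q = u * ϖ' ^ n)
    (m : ℕ) (hm : 1 ≤ m) (hmn : m ∣ n) :
    (∃ (w : Oˣ) (a j t : ℤ) (r : O), a = (n / m : ℕ) + t * n ∧
        (algebraMap O L w * algebraMap O L ϖ' ^ a) ^ m * algebraMap O L q ^ j = algebraMap O L (1 + ϖ * r)) ↔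
      ∃ y r : O, (u : O) * (y ^ m + ϖ * r) = 1 := by
  classical
  have hinj : Function.Injective (algebraMap O L) := IsFractionRing.injective O L
  have hX : algebraMap O L ϖ' ≠ 0 := by
    intro h
    exact hϖ'.ne_zero (hinj (by rw [h, map_zero]))
  have hnm : (n / m) * m = n := Nat.div_mul_cancel hmn
  -- alg of zpow of unit
  have alg_zpow : ∀ (e : Oˣ) (k : ℤ), algebraMap O L ((e ^ k : Oˣ) : O) = (algebraMap O L (e : O)) ^ k := by
    intro e k
    obtain ⟨p, rfl | rfl⟩ := k.eq_nat_or_neg
    · rw [zpow_natCast, zpow_natCast, Units.val_pow_eq_pow_val, map_pow]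
    · rw [zpow_neg, zpow_neg, zpow_natCast, zpow_natCast, map_units_inv, Units.val_pow_eq_pow_val,
        map_pow]
  -- X^k = unit implies k = 0
  have key0 : ∀ (p : ℕ) (e : Oˣ), (algebraMap O L ϖ') ^ p = algebraMap O L (e : O) → p = 0 := by
    intro p e h
    by_contra hp
    rw [← map_pow] at h
    have h2 : ϖ' ^ p = (e : O) := hinj h
    have h3 : IsUnit (ϖ' ^ p) := by rw [h2]; exact e.isUnit
    exact hϖ'.not_isUnit ((isUnit_pow_iff hp).mp h3)
  have key : ∀ (k : ℤ) (e : Oˣ), (algebraMap O L ϖ') ^ k = algebraMap O L (e : O) → k = 0 := by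
    intro k e h
    obtain ⟨p, rfl | rfl⟩ := k.eq_nat_or_neg
    · rw [zpow_natCast] at h
      rw [key0 p e h]; rfl
    · rw [zpow_neg, zpow_natCast] at h
      have h2 : (algebraMap O L ϖ') ^ p = algebraMap O L ((e⁻¹ : Oˣ) : O) := by
        rw [map_units_inv, ← h, inv_inv]
      rw [key0 p _ h2]; rfl
  constructor
  · rintro ⟨w, a, j, t, r, ha, hEq⟩
    -- 1 + ϖ r is a unit
    have hv : IsUnit (1 + ϖ * r) := by
      by_contra hnu
      have h1 : 1 + ϖ * r ∈ IsLocalRing.maximalIdeal O := (IsLocalRing.mem_maximalIdeal _).mpr hnu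
      have h2 : ϖ * r ∈ IsLocalRing.maximalIdeal O := Ideal.mul_mem_right _ _ hϖ
      have h3 : (1 : O) ∈ IsLocalRing.maximalIdeal O := by
        have := Ideal.sub_mem _ h1 h2
        simpa using this
      exact (Ideal.ne_top_iff_one _).mp (IsLocalRing.maximalIdeal.isMaximal O).ne_top h3
    obtain ⟨v, hv⟩ := hv
    set k : ℤ := a * m + n * j with hk
    have hU : algebraMap O L (u : O) ≠ 0 := by
      intro h
      exact u.ne_zero (hinj (by rw [h, map_zero]))
    have hW : algebraMap O L (w : O) ≠ 0 := by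
      intro h
      exact w.ne_zero (hinj (by rw [h, map_zero]))
    have e1 : (algebraMap O L w * algebraMap O L ϖ' ^ a) ^ m * algebraMap O L q ^ j =
        algebraMap O L w ^ m * algebraMap O L (u : O) ^ j * algebraMap O L ϖ' ^ k := by
      rw [hq, map_mul, map_pow, mul_pow, mul_zpow, hk, zpow_add₀ hX, zpow_mul, zpow_mul,
        zpow_natCast, zpow_natCast]
      ring
    rw [e1, ← hv] at hEq
    -- the unit
    have e2 : algebraMap O L ϖ' ^ k =
        algebraMap O L (((v * (w ^ m)⁻¹ * (u ^ j)⁻¹ : Oˣ)) : O) := by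
      rw [Units.val_mul, Units.val_mul, map_mul, map_mul, map_units_inv, map_units_inv, alg_zpow,
        Units.val_pow_eq_pow_val, map_pow, ← hEq]
      have h1 : algebraMap O L (w : O) ^ m ≠ 0 := pow_ne_zero _ hW
      have h2 : algebraMap O L (u : O) ^ j ≠ 0 := zpow_ne_zero _ hU
      field_simp
    have hk0 : k = 0 := key k _ e2
    have hj : j = -1 - t * m := by
      have h1 : ((n / m : ℕ) : ℤ) * (m : ℤ) = (n : ℤ) := by exact_mod_cast hnm
      have h2 : (n : ℤ) * (1 + t * m + j) = 0 := by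
        rw [hk, ha] at hk0
        calc (n : ℤ) * (1 + t * m + j) = (((n / m : ℕ) : ℤ) * (m : ℤ)) + t * n * m + n * j := by
              rw [h1]; ring
          _ = ((((n / m : ℕ) : ℤ) + t * n) * m + n * j) := by ring
          _ = 0 := hk0
      have hn0 : (n : ℤ) ≠ 0 := by exact_mod_cast (by omega : n ≠ 0)
      have := (mul_eq_zero.mp h2).resolve_left hn0
      omega
    -- unit equation
    have e3 : w ^ m * u ^ j = v := by
      apply Units.ext
      apply hinj
      rw [Units.val_mul, map_mul, alg_zpow, Units.val_pow_eq_pow_val, map_pow]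
      rw [hk0, zpow_zero, mul_one] at hEq
      exact hEq
    refine ⟨((w * u ^ (-t))⁻¹ : Oˣ), r * ((w * u ^ (-t))⁻¹ : Oˣ) ^ m, ?_⟩
    have e4 : u * ((w * u ^ (-t))⁻¹) ^ m * v = 1 := by
      rw [← e3, hj]
      have : u ^ (-1 - t * (m : ℤ)) = u⁻¹ * ((u ^ t) ^ m)⁻¹ := by
        rw [zpow_sub, zpow_neg, zpow_one, zpow_mul, zpow_natCast]
      rw [this, zpow_neg, mul_inv, inv_inv, mul_pow, inv_pow]
      have hc : ∀ x y z : Oˣ, x * (y⁻¹ * z) * (y * (x⁻¹ * z⁻¹)) = 1 := by
        intro x y z
        calc x * (y⁻¹ * z) * (y * (x⁻¹ * z⁻¹)) = (x * x⁻¹) * (y⁻¹ * y) * (z * z⁻¹) := by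
              simp only [mul_comm, mul_left_comm, mul_assoc]
          _ = 1 := by simp
      exact hc _ _ _
    have e5 : ((u * ((w * u ^ (-t))⁻¹) ^ m * v : Oˣ) : O) = 1 := by rw [e4]; rfl
    rw [Units.val_mul, Units.val_mul, Units.val_pow_eq_pow_val, hv] at e5
    rw [← e5]; ring
  · rintro ⟨y, r, h⟩
    have hyu : IsUnit y := by
      by_contra hnu
      have h1 : y ∈ IsLocalRing.maximalIdeal O := (IsLocalRing.mem_maximalIdeal _).mpr hnu
      have h2 : y ^ m ∈ IsLocalRing.maximalIdeal O := Ideal.pow_mem_of_mem _ h1 m (by omega)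
      have h3 : ϖ * r ∈ IsLocalRing.maximalIdeal O := Ideal.mul_mem_right _ _ hϖ
      have h4 : (u : O) * (y ^ m + ϖ * r) ∈ IsLocalRing.maximalIdeal O :=
        Ideal.mul_mem_left _ _ (Ideal.add_mem _ h2 h3)
      rw [h] at h4
      exact (Ideal.ne_top_iff_one _).mp (IsLocalRing.maximalIdeal.isMaximal O).ne_top h4
    obtain ⟨yu, rfl⟩ := hyu
    refine ⟨yu⁻¹, ((n / m : ℕ) : ℤ), -1, 0, r * ((yu⁻¹ : Oˣ) : O) ^ m, by simp, ?_⟩
    have hU : algebraMap O L (u : O) ≠ 0 := by
      intro h
      exact u.ne_zero (hinj (by rw [h, map_zero]))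
    have hY : algebraMap O L (yu : O) ≠ 0 := by
      intro h
      exact yu.ne_zero (hinj (by rw [h, map_zero]))
    have hL : algebraMap O L (u : O) * (algebraMap O L (yu : O) ^ m +
        algebraMap O L ϖ * algebraMap O L r) = 1 := by
      rw [← map_pow, ← map_mul, ← map_add, ← map_mul, h, map_one]
    rw [zpow_natCast, mul_pow, ← pow_mul, hnm, hq, map_mul, map_pow, map_units_inv, zpow_neg,
      zpow_one, map_add, map_one, map_mul, map_mul, map_pow, map_units_inv]
    have hXn : algebraMap O L ϖ' ^ n ≠ 0 := pow_ne_zero _ hX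
    have hYm : ((algebraMap O L) ↑yu)⁻¹ ^ m * (algebraMap O L) ↑yu ^ m = 1 := by
      rw [← mul_pow, inv_mul_cancel₀ hY, one_pow]
    have hUinv : algebraMap O L (yu : O) ^ m + algebraMap O L ϖ * algebraMap O L r =
        (algebraMap O L (u : O))⁻¹ := eq_inv_of_mul_eq_one_right hL
    calc ((algebraMap O L) ↑yu)⁻¹ ^ m * (algebraMap O L) ϖ' ^ n *
          ((algebraMap O L) ↑u * (algebraMap O L) ϖ' ^ n)⁻¹
        = ((algebraMap O L) ↑yu)⁻¹ ^ m * ((algebraMap O L) ↑u)⁻¹ *
          ((algebraMap O L) ϖ' ^ n * ((algebraMap O L) ϖ' ^ n)⁻¹) := by rw [mul_inv]; ring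
      _ = ((algebraMap O L) ↑yu)⁻¹ ^ m * ((algebraMap O L) ↑u)⁻¹ := by
          rw [mul_inv_cancel₀ hXn, mul_one]
      _ = ((algebraMap O L) ↑yu)⁻¹ ^ m * (algebraMap O L (yu : O) ^ m +
          algebraMap O L ϖ * algebraMap O L r) := by rw [hUinv]
      _ = ((algebraMap O L) ↑yu)⁻¹ ^ m * (algebraMap O L) ↑yu ^ m +
          (algebraMap O L) ϖ * ((algebraMap O L) r * ((algebraMap O L) ↑yu)⁻¹ ^ m) := by ring
      _ = _ := by rw [hYm]

end Groth.Agent.S15784
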