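import Groth.Statements.S1579
import Mathlib
import Groth.Agent.Lib.Helper16.QCohPush
import Groth.Agent.S1708

set_option autoImplicit false
universe u
open CategoryTheory CategoryTheory.Limits AlgebraicGeometry
open Divisors

namespace Groth.Agent.S1579

section helpers
open CategoryTheory CategoryTheory.Limits AlgebraicGeometry TopologicalSpace

open Opposite
open Groth.Agent.Lib.helper16.QCohAss Groth.Agent.Lib.helper16.QCohPush


/-- Stacks 05CA, hard direction: weakly associated primes push forward along finite ring maps. -/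
theorem exists_comap_mem_minimalPrimes {A B : Type*} [CommRing A] [CommRing B] (φ : A →+* B)
    (hφ : φ.Finite) {M : Type*} [AddCommGroup M] [Module B M] (q : Ideal B) (m : M)
    (hq : q ∈ (ann B m).minimalPrimes) :
    ∃ m' : M, q.comap φ ∈ ((ann B m').comap φ).minimalPrimes := by
  classical
  haveI hqp : q.IsPrime := hq.1.1
  algebraize [φ]
  haveI : Module.Finite A B := hφ
  haveI : Algebra.IsIntegral A B := inferInstance
  set p := q.comap (algebraMap A B) with hp
  haveI : p.IsPrime := Ideal.comap_isPrime _ q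
  have hfin : (p.primesOver B).Finite := Algebra.QuasiFinite.finite_primesOver p
  -- incomparability
  have hincomp : ∀ Q : Ideal B, Q.IsPrime → Q.comap (algebraMap A B) = p → q ≤ Q → Q = q := by
    intro Q hQ hQp hle
    by_contra hne
    have hlt : q < Q := lt_of_le_of_ne hle (Ne.symm hne)
    obtain ⟨x, hxQ, hxq⟩ := SetLike.exists_of_lt hlt
    have := Ideal.comap_lt_comap_of_integral_mem_sdiff (R := A) hle ⟨hxQ, hxq⟩
      (Algebra.IsIntegral.isIntegral x)
    rw [hQp] at this
    exact lt_irrefl _ this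
  -- prime avoidance
  have h1 : ∃ x ∈ q, ∀ Q : Ideal B, Q.IsPrime → Q.comap (algebraMap A B) = p → x ∈ Q → Q = q := by
    by_contra hcon
    push Not at hcon
    set s : Finset (Ideal B) := hfin.toFinset.erase q with hs
    have hsub : (q : Set B) ⊆ ⋃ Q ∈ (↑s : Set (Ideal B)), (id Q : Ideal B) := by
      intro x hx
      obtain ⟨Q, hQ, hQp, hxQ, hQq⟩ := hcon x hx
      simp only [Set.mem_iUnion]
      refine ⟨Q, ?_, hxQ⟩
      rw [hs, Finset.coe_erase, Set.mem_diff, Set.Finite.coe_toFinset]
      exact ⟨⟨hQ, ⟨hQp.symm⟩⟩, hQq⟩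
    rw [Ideal.subset_union_prime (f := fun Q => (id Q : Ideal B)) q q] at hsub
    · obtain ⟨Q, hQs, hqQ⟩ := hsub
      rw [hs, Finset.mem_erase, Set.Finite.mem_toFinset] at hQs
      obtain ⟨hne, hQprime, hQover⟩ := hQs
      exact hne (hincomp Q hQprime hQover.over.symm hqQ)
    · intro Q hQs _ _
      rw [hs, Finset.mem_erase, Set.Finite.mem_toFinset] at hQs
      exact hQs.2.1
  obtain ⟨x, hxq, hx⟩ := h1
  obtain ⟨y, hyq, t, hyt⟩ := exists_mul_pow_mem hq hxq
  rw [mem_ann] at hyt
  refine ⟨y • m, ⟨⟨inferInstance, ?_⟩, ?_⟩⟩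
  · -- containment
    intro a ha
    rw [Ideal.mem_comap, mem_ann, ← mul_smul] at ha
    have : algebraMap A B a * y ∈ q := hq.1.2 (mem_ann.2 ha)
    rcases hqp.mem_or_mem this with h | h
    · exact h
    · exact absurd h hyq
  · -- minimality
    rintro p' ⟨hp', hle'⟩ hp'p a ha
    have haq : algebraMap A B a ∈ q := ha
    obtain ⟨c₁, hc₁, n, hc₁n⟩ := exists_mul_pow_mem hq haq
    rw [mem_ann] at hc₁n
    set z : M := (algebraMap A B a) ^ n • y • m with hz
    have hc₁z : c₁ ∈ ann B z := by
      rw [mem_ann, hz, ← mul_smul, ← mul_smul]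
      have : c₁ * algebraMap A B a ^ n * y = y * (c₁ * algebraMap A B a ^ n) := by ring
      rw [this, mul_smul, hc₁n, smul_zero]
    have hxz : x ^ t ∈ ann B z := by
      rw [mem_ann, hz, ← mul_smul, ← mul_smul]
      have : x ^ t * algebraMap A B a ^ n * y = algebraMap A B a ^ n * (y * x ^ t) := by ring
      rw [this, mul_smul, hyt, smul_zero]
    have hnot : ¬ (ann B z).comap (algebraMap A B) ≤ p := by
      intro hcomap
      obtain ⟨Q, hQI, hQprime, hQp⟩ := Ideal.exists_ideal_over_prime_of_isIntegral p (ann B z) hcomap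
      have hxQ : x ∈ Q := hQprime.mem_of_pow_mem t (hQI hxz)
      have := hx Q hQprime hQp hxQ
      rw [this] at hQI
      exact hc₁ (hQI hc₁z)
    rw [SetLike.not_le_iff_exists] at hnot
    obtain ⟨c, hcI, hcp⟩ := hnot
    rw [Ideal.mem_comap, mem_ann, hz, ← mul_smul] at hcI
    have hmem : c * a ^ n ∈ (ann B (y • m)).comap (algebraMap A B) := by
      rw [Ideal.mem_comap, mem_ann, map_mul, map_pow]
      exact hcI
    have h2 : c * a ^ n ∈ p' := hle' hmem
    rcases hp'.mem_or_mem h2 with h | h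
    · exact absurd (hp'p h) hcp
    · exact hp'.mem_of_pow_mem n h


theorem main {X S : Scheme.{u}} (f : X ⟶ S) [IsFinite f] (F : X.Modules) (hF : Coh.IsQCoh F) :
    {s : S | Curv2.IsWeakAssPoint ((Coh.push f).obj F) s} =
      f.base '' {x : X | Curv2.IsWeakAssPoint F x} := by
  haveI : F.IsQuasicoherent := hF
  ext s
  constructor
  · intro hs
    obtain ⟨x, hx, hxF⟩ := Groth.Agent.S1708.result f F hF s hs
    exact ⟨x, hxF, hx⟩
  · rintro ⟨x, hxF, rfl⟩
    obtain ⟨_, ⟨V, hV, rfl⟩, hsV, -⟩ :=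
      S.isBasis_affineOpens.exists_subset_of_mem_open (Set.mem_univ (f x)) isOpen_univ
    have hU : IsAffineOpen (f ⁻¹ᵁ V) := hV.preimage f
    have hxU : x ∈ f ⁻¹ᵁ V := hsV
    obtain ⟨m, hm⟩ := (isWeakAssPoint_iff F hU x hxU).1 hxF
    obtain ⟨m', hm'⟩ := exists_comap_mem_minimalPrimes (f.app V).hom (IsFinite.finite_app f V hV)
      _ m hm
    change Curv2.IsWeakAssPoint (push f F) (f x)
    rw [isWeakAssPoint_push_iff f F hV hU (f x) hsV]
    refine ⟨m', ?_⟩
    have hann : ann Γ(S, V) (show Γ(push f F, V) from m') =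
        (ann Γ(X, f ⁻¹ᵁ V) m').comap (f.app V).hom := by
      ext a
      rw [Ideal.mem_comap, mem_ann, mem_ann, push_smul]
      exact Iff.rfl
    rw [hann]
    have hprime : (hV.primeIdealOf ⟨f x, hsV⟩).asIdeal =
        (hU.primeIdealOf ⟨x, hxU⟩).asIdeal.comap (f.app V).hom := by
      have h1 := Groth.Agent.S1708.map_fromSpec f hV hU (hU.primeIdealOf ⟨x, hxU⟩)
      rw [hU.fromSpec_primeIdealOf ⟨x, hxU⟩] at h1
      have h2 : hV.primeIdealOf ⟨f x, hsV⟩ = Spec.map (f.app V) (hU.primeIdealOf ⟨x, hxU⟩) := by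
        apply hV.fromSpec.isOpenEmbedding.injective
        rw [hV.fromSpec_primeIdealOf ⟨f x, hsV⟩]
        exact h1
      rw [h2]
      rfl
    rw [hprime]
    exact hm'


end helpers


/-- Let f : X → S be finite and F quasi-coherent on X. Then the weakly associated points of f_* F are
precisely the images under f of the weakly associated points of F. -/
theorem result {X S : Scheme.{u}} (f : X ⟶ S) [IsFinite f] (F : X.Modules) (hF : Coh.IsQCoh F) :
    {s : S | Curv2.IsWeakAssPoint ((Coh.push f).obj F) s} = f.base '' {x : X | Curv2.IsWeakAssPoint F x} := by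
  exact main f F hF

end Groth.Agent.S1579
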