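import Groth.Statements.S15790
import Mathlib
-- import your own Groth.Agent.* helpers here

set_option autoImplicit false
universe u v
open WildQuot

namespace Groth.Agent.S15790

/-- Let `A` be a local ring with maximal ideal `m`, let a finite group `G` act on `A` by ring
automorphisms, and let `u_1, …, u_n` generate `m`. Let `x_i = ∏_{σ ∈ G} σ u_i` be the norm of `u_i`.
Then `(x_1, …, x_n)` is `m`-primary (its radical contains `m`) if and only if, for every choice of
`σ_1, …, σ_n ∈ G`, the ideal `(σ_1 u_1, …, σ_n u_n)` is `m`-primary, i.e. the system `u` is weakly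
admissible. (The published statement is for a complete regular local ring of dimension `n`
containing a field of representatives fixed by `G`; this row assumes only that `A` is local.) -/
theorem result
    (A : Type u) [CommRing A] [IsLocalRing A]
    (G : Type v) [Group G] [Fintype G] [MulSemiringAction G A]
    (n : ℕ) (u : Fin n → A) (hu : Ideal.span (Set.range u) = IsLocalRing.maximalIdeal A) :
    IsLocalRing.maximalIdeal A ≤ (Ideal.span (Set.range fun i => ∏ σ : G, σ • u i)).radical ↔
      ∀ τ : Fin n → G,
        IsLocalRing.maximalIdeal A ≤ (Ideal.span (Set.range fun i => τ i • u i)).radical := by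
  classical
  -- m ≤ rad I iff every prime containing I contains m
  have key : ∀ I : Ideal A, IsLocalRing.maximalIdeal A ≤ I.radical ↔
      ∀ P : Ideal A, P.IsPrime → I ≤ P → IsLocalRing.maximalIdeal A ≤ P := by
    intro I
    rw [Ideal.radical_eq_sInf]
    constructor
    · intro h P hP hIP
      exact le_trans h (sInf_le ⟨hIP, hP⟩)
    · intro h
      exact le_sInf (fun P hP => h P hP.2 hP.1)
  rw [key]
  constructor
  · intro h τ
    rw [key]
    intro P hP hle
    apply h P hP
    rw [Ideal.span_le]
    rintro _ ⟨i, rfl⟩
    have hmem : τ i • u i ∈ P := hle (Ideal.subset_span ⟨i, rfl⟩)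
    simp only [SetLike.mem_coe]
    rw [← Finset.mul_prod_erase Finset.univ (fun σ : G => σ • u i) (Finset.mem_univ (τ i))]
    exact P.mul_mem_right _ hmem
  · intro h P hP hle
    -- for each i some σ_i u_i ∈ P
    have hex : ∀ i, ∃ σ : G, σ • u i ∈ P := by
      intro i
      have hmem : ∏ σ : G, σ • u i ∈ P := hle (Ideal.subset_span ⟨i, rfl⟩)
      obtain ⟨σ, -, hσ⟩ := (Ideal.IsPrime.prod_mem_iff (hp := hP)).mp hmem
      exact ⟨σ, hσ⟩
    choose τ hτ using hex
    have := (key _).mp (h τ) P hP (by
      rw [Ideal.span_le]
      rintro _ ⟨i, rfl⟩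
      exact hτ i)
    exact this

end Groth.Agent.S15790
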