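import Groth.Statements.S15791
import Mathlib

set_option autoImplicit false
universe u v
open WildQuot

namespace Groth.Agent.S15791


theorem length_mul_le {A : Type*} [CommRing A] {n : ℕ} (y : Fin n → A) (k : Fin n) (a b : A) :
    Module.length A (A ⧸ Ideal.span (Set.range (Function.update y k (a * b)))) ≤
      Module.length A (A ⧸ Ideal.span (Set.range (Function.update y k a))) +
      Module.length A (A ⧸ Ideal.span (Set.range (Function.update y k b))) := by
  classical
  have hgen : ∀ (c : A) (i : Fin n), Function.update y k c i ∈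
      Ideal.span (Set.range (Function.update y k c)) :=
    fun c i => Ideal.subset_span ⟨i, rfl⟩
  obtain ⟨I, hI⟩ : ∃ I, I = Ideal.span (Set.range (Function.update y k (a * b))) := ⟨_, rfl⟩
  obtain ⟨Ia, hIa⟩ : ∃ I, I = Ideal.span (Set.range (Function.update y k a)) := ⟨_, rfl⟩
  obtain ⟨Ib, hIb⟩ : ∃ I, I = Ideal.span (Set.range (Function.update y k b)) := ⟨_, rfl⟩
  rw [← hI, ← hIa, ← hIb]
  have hyI : ∀ i : Fin n, i ≠ k → y i ∈ I := by
    intro i hik
    have := hgen (a * b) i
    rw [Function.update_of_ne hik, ← hI] at this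
    exact this
  have habI : a * b ∈ I := by
    have := hgen (a * b) k
    rw [Function.update_self, ← hI] at this
    exact this
  obtain ⟨φ, hφ⟩ : ∃ φ : A →ₗ[A] A ⧸ I, ∀ r, φ r = Submodule.Quotient.mk (a * r) :=
    ⟨a • (Submodule.mkQ I), fun r => rfl⟩
  have hker_b : Ib ≤ LinearMap.ker φ := by
    rw [hIb, Ideal.span_le]
    rintro _ ⟨i, rfl⟩
    show φ _ = 0
    rw [hφ, Submodule.Quotient.mk_eq_zero]
    by_cases hik : i = k
    · rw [hik, Function.update_self]; exact habI
    · rw [Function.update_of_ne hik]; exact I.mul_mem_left _ (hyI i hik)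
  obtain ⟨N, hN⟩ : ∃ N : Submodule A (A ⧸ I), N = LinearMap.range (Submodule.liftQ Ib φ hker_b) :=
    ⟨_, rfl⟩
  have haN : (Submodule.Quotient.mk a : A ⧸ I) ∈ N := by
    rw [hN]
    refine ⟨Submodule.Quotient.mk 1, ?_⟩
    rw [Submodule.liftQ_apply, hφ, mul_one]
  have h1 : Module.length A (A ⧸ I) = Module.length A N + Module.length A ((A ⧸ I) ⧸ N) :=
    Module.length_eq_add_of_exact N.subtype N.mkQ (Submodule.subtype_injective N)
      (Submodule.mkQ_surjective N) (LinearMap.exact_subtype_mkQ N)
  have h2 : Module.length A N ≤ Module.length A (A ⧸ Ib) := by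
    rw [hN]
    exact Module.length_le_of_surjective (Submodule.liftQ Ib φ hker_b).rangeRestrict
      (LinearMap.surjective_rangeRestrict _)
  obtain ⟨ψ, hψ⟩ : ∃ ψ : A →ₗ[A] (A ⧸ I) ⧸ N, ψ = N.mkQ.comp (Submodule.mkQ I) := ⟨_, rfl⟩
  have hker_a : Ia ≤ LinearMap.ker ψ := by
    rw [hIa, Ideal.span_le]
    rintro _ ⟨i, rfl⟩
    show ψ _ = 0
    rw [hψ, LinearMap.comp_apply, Submodule.mkQ_apply, Submodule.mkQ_apply,
      Submodule.Quotient.mk_eq_zero]
    by_cases hik : i = k
    · rw [hik, Function.update_self]; exact haN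
    · rw [Function.update_of_ne hik, (Submodule.Quotient.mk_eq_zero I).mpr (hyI i hik)]
      exact N.zero_mem
  have h3 : Module.length A ((A ⧸ I) ⧸ N) ≤ Module.length A (A ⧸ Ia) := by
    apply Module.length_le_of_surjective (Submodule.liftQ Ia ψ hker_a)
    intro z
    obtain ⟨m, rfl⟩ := Submodule.mkQ_surjective N z
    obtain ⟨r, rfl⟩ := Submodule.mkQ_surjective I m
    refine ⟨Submodule.Quotient.mk r, ?_⟩
    rw [Submodule.liftQ_apply, hψ]; rfl
  rw [h1, add_comm]
  exact add_le_add h3 h2

theorem length_prod_le {A : Type*} [CommRing A] {n : ℕ} (y : Fin n → A) (k : Fin n)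
    {ι : Type*} (s : Finset ι) (a : ι → A) :
    Module.length A (A ⧸ Ideal.span (Set.range (Function.update y k (∏ j ∈ s, a j)))) ≤
      ∑ j ∈ s, Module.length A (A ⧸ Ideal.span (Set.range (Function.update y k (a j)))) := by
  classical
  induction s using Finset.induction_on with
  | empty =>
    rw [Finset.prod_empty, Finset.sum_empty]
    have htop : Ideal.span (Set.range (Function.update y k (1 : A))) = ⊤ := by
      rw [Ideal.eq_top_iff_one]
      exact Ideal.subset_span ⟨k, Function.update_self ..⟩
    rw [htop]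
    haveI : Subsingleton (A ⧸ (⊤ : Ideal A)) := Ideal.Quotient.subsingleton_iff.mpr rfl
    rw [Module.length_eq_zero]
  | @insert j s hj ih =>
    rw [Finset.prod_insert hj, Finset.sum_insert hj]
    exact (length_mul_le y k _ _).trans (add_le_add le_rfl ih)


/-- Let `A` be a regular local ring of Krull dimension `n` with maximal ideal `m`, let a finite group
`G` of order `g` act on `A` by ring automorphisms, and let `u_1, …, u_n` be an admissible regular
system of parameters: for every choice `σ_1, …, σ_n ∈ G`, the elements `σ_1 u_1, …, σ_n u_n`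
generate `m`. With `x_i = ∏_{σ ∈ G} σ u_i` the norms, the length of `A / (x_1, …, x_n)` is at most
`g ^ n`. (The published statement is for a complete regular local ring containing a `G`-fixed field
of representatives and asserts that the length equals `g ^ n`; this row states the upper bound for
any regular local ring.) -/
theorem result
    (A : Type u) [CommRing A] [IsRegularLocalRing A]
    (G : Type v) [Group G] [Fintype G] [MulSemiringAction G A]
    (n : ℕ) (hn : ringKrullDim A = n) (u : Fin n → A)
    (hu : ∀ τ : Fin n → G,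
      Ideal.span (Set.range fun i => τ i • u i) = IsLocalRing.maximalIdeal A) :
    Module.length A (A ⧸ Ideal.span (Set.range fun i => ∏ σ : G, σ • u i)) ≤
      (Fintype.card G ^ n : ℕ) := by
  classical
  have key : ∀ j : ℕ, ∀ k : ℕ, k + j = n → ∀ τ : Fin n → G,
      Module.length A (A ⧸ Ideal.span (Set.range (fun i : Fin n =>
        if (i : ℕ) < k then τ i • u i else ∏ σ : G, σ • u i))) ≤
        ((Fintype.card G ^ j : ℕ) : ℕ∞) := by
    intro j
    induction j with
    | zero =>
      intro k hk τ
      have hkn : k = n := by omega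
      have hfun : (fun i : Fin n => if (i : ℕ) < k then τ i • u i else ∏ σ : G, σ • u i)
          = fun i => τ i • u i := by
        funext i
        rw [if_pos (by rw [hkn]; exact i.2)]
      rw [hfun, hu τ]
      haveI : IsSimpleModule A (A ⧸ IsLocalRing.maximalIdeal A) :=
        isSimpleModule_iff_isCoatom.mpr (Ideal.isMaximal_def.mp inferInstance)
      rw [Module.length_eq_one, pow_zero, Nat.cast_one]
    | succ j ih =>
      intro k hk τ
      have hkn : k < n := by omega
      obtain ⟨y', hy'⟩ : ∃ y' : Fin n → A, y' = fun i : Fin n =>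
          if (i : ℕ) < k + 1 then τ i • u i else ∏ σ : G, σ • u i := ⟨_, rfl⟩
      have hy'i : ∀ i : Fin n, y' i =
          if (i : ℕ) < k + 1 then τ i • u i else ∏ σ : G, σ • u i := fun i => by rw [hy']
      have h1 : (fun i : Fin n => if (i : ℕ) < k then τ i • u i else ∏ σ : G, σ • u i)
          = Function.update y' ⟨k, hkn⟩ (∏ σ : G, σ • u ⟨k, hkn⟩) := by
        funext i
        by_cases hik : i = ⟨k, hkn⟩
        · rw [hik, Function.update_self, if_neg (by simp)]
        · rw [Function.update_of_ne hik, hy'i]
          have hne : (i : ℕ) ≠ k := fun h => hik (Fin.ext h)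
          by_cases hlt : (i : ℕ) < k
          · rw [if_pos hlt, if_pos (by omega)]
          · rw [if_neg hlt, if_neg (by omega)]
      have h2 : ∀ σ : G, Function.update y' ⟨k, hkn⟩ (σ • u ⟨k, hkn⟩)
          = fun i : Fin n => if (i : ℕ) < k + 1 then
            (Function.update τ ⟨k, hkn⟩ σ) i • u i else ∏ σ : G, σ • u i := by
        intro σ
        funext i
        by_cases hik : i = ⟨k, hkn⟩
        · rw [hik, Function.update_self, if_pos (by simp), Function.update_self]
        · rw [Function.update_of_ne hik, hy'i, Function.update_of_ne hik]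
      rw [h1]
      calc Module.length A (A ⧸ Ideal.span (Set.range
            (Function.update y' ⟨k, hkn⟩ (∏ σ : G, σ • u ⟨k, hkn⟩))))
          ≤ ∑ σ : G, Module.length A (A ⧸ Ideal.span (Set.range
            (Function.update y' ⟨k, hkn⟩ (σ • u ⟨k, hkn⟩)))) :=
            length_prod_le y' ⟨k, hkn⟩ Finset.univ (fun σ => σ • u ⟨k, hkn⟩)
        _ ≤ ∑ _σ : G, ((Fintype.card G ^ j : ℕ) : ℕ∞) := by
            apply Finset.sum_le_sum
            intro σ _
            rw [h2 σ]
            exact ih (k + 1) (by omega) (Function.update τ ⟨k, hkn⟩ σ)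
        _ = ((Fintype.card G ^ (j + 1) : ℕ) : ℕ∞) := by
            rw [Finset.sum_const, Finset.card_univ, nsmul_eq_mul, pow_succ', Nat.cast_mul]
  have h0 := key n 0 (by omega) (fun _ => 1)
  have hfun : (fun i : Fin n => if (i : ℕ) < 0 then (fun _ => (1 : G)) i • u i
      else ∏ σ : G, σ • u i) = fun i => ∏ σ : G, σ • u i := by
    funext i
    rw [if_neg (Nat.not_lt_zero _)]
  rw [hfun] at h0
  exact h0


end Groth.Agent.S15791
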