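import Groth.Statements.S15795
import Mathlib

set_option autoImplicit false
universe u v
open WildQuot

namespace Groth.Agent.S15795

set_option linter.style.haveILetI false


open IsLocalRing

theorem main
    (A : Type u) [CommRing A] [IsRegularLocalRing A]
    (G : Type v) [Group G] [MulSemiringAction G A]
    (n : ℕ) (hn : ringKrullDim A = n) (u : Fin n → A)
    (hu : Ideal.span (Set.range u) = maximalIdeal A)
    (htri : ∀ (σ : G) (i : Fin n),
      σ • u i ∈ Ideal.span (u '' {j | j ≤ i}) ⊔ maximalIdeal A ^ 2) (τ : Fin n → G) :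
    Ideal.span (Set.range fun i => τ i • u i) = maximalIdeal A := by
  classical
  set m := maximalIdeal A with hm
  have hspan : m.spanFinrank = n := by
    have h1 := IsRegularLocalRing.spanFinrank_maximalIdeal (R := A)
    rw [hn] at h1
    exact_mod_cast h1
  have hum : ∀ i, u i ∈ m := fun i => by
    rw [← hu]; exact Ideal.subset_span ⟨i, rfl⟩
  -- the action preserves m and m^2
  have hsm : ∀ (σ : G) (a : A), a ∈ m → σ • a ∈ m := by
    intro σ a ha
    rw [hm, mem_maximalIdeal, mem_nonunits_iff] at ha ⊢
    intro h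
    apply ha
    have := h.map (MulSemiringAction.toRingHom G A σ⁻¹)
    simpa using this
  have hsm2 : ∀ (σ : G) (a : A), a ∈ m ^ 2 → σ • a ∈ m ^ 2 := by
    intro σ a ha
    rw [pow_two] at ha ⊢
    refine Submodule.mul_induction_on ha ?_ ?_
    · intro x hx y hy
      rw [smul_mul']
      exact Ideal.mul_mem_mul (hsm σ x hx) (hsm σ y hy)
    · intro x y hx hy
      rw [smul_add]; exact add_mem hx hy
  -- nakayama
  have hnak : ∀ N : Ideal A, m ≤ N ⊔ m ^ 2 → m ≤ N := by
    intro N hN
    refine Submodule.le_of_le_smul_of_le_jacobson_bot (I := m) (IsNoetherian.noetherian m)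
      (maximalIdeal_le_jacobson ⊥) ?_
    rwa [smul_eq_mul, ← pow_two]
  let J : ℕ → Ideal A := fun k => Ideal.span (u '' {j | (j : ℕ) < k}) ⊔ m ^ 2
  have hm2J : ∀ k, m ^ 2 ≤ J k := fun k => le_sup_right
  have hJm : ∀ k, J k ≤ m := by
    intro k
    refine sup_le ?_ (Ideal.pow_le_self two_ne_zero)
    rw [Ideal.span_le]
    rintro _ ⟨j, -, rfl⟩
    rw [← hu]
    exact Ideal.subset_span ⟨j, rfl⟩
  have hJmono : ∀ k l, k ≤ l → J k ≤ J l := by
    intro k l hkl
    refine sup_le_sup_right (Ideal.span_mono (Set.image_mono ?_)) _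
    intro j hj
    exact lt_of_lt_of_le hj hkl
  have hJsucc : ∀ (i : Fin n), J (i + 1) = J i ⊔ Ideal.span {u i} := by
    intro i
    have : {j : Fin n | (j : ℕ) < i + 1} = {j : Fin n | (j : ℕ) < i} ∪ {i} := by
      ext j
      simp only [Set.mem_ofPred_eq, Set.mem_union, Set.mem_singleton_iff, Nat.lt_succ_iff_lt_or_eq,
        Fin.ext_iff]
    show Ideal.span (u '' {j : Fin n | (j : ℕ) < i + 1}) ⊔ m ^ 2 = _
    rw [this, Set.image_union, Ideal.span_union, Set.image_singleton]
    show _ = (Ideal.span (u '' {j : Fin n | (j : ℕ) < i}) ⊔ m ^ 2) ⊔ _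
    ac_rfl
  have htri' : ∀ (σ : G) (i : Fin n), σ • u i ∈ J (i + 1) := by
    intro σ i
    have : {j : Fin n | j ≤ i} = {j : Fin n | (j : ℕ) < i + 1} := by
      ext j
      show j ≤ i ↔ (j : ℕ) < i + 1
      rw [Fin.le_def, Nat.lt_succ_iff]
    have h := htri σ i
    rw [this] at h
    exact h
  have hJstab : ∀ (σ : G) (k : ℕ) (a : A), a ∈ J k → σ • a ∈ J k := by
    intro σ k a ha
    obtain ⟨x, hx, y, hy, rfl⟩ := Submodule.mem_sup.1 ha
    clear ha
    rw [smul_add]
    refine add_mem ?_ (hm2J k (hsm2 σ y hy))
    clear hy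
    induction hx using Submodule.span_induction with
    | mem x hx =>
      obtain ⟨j, hj, rfl⟩ := hx
      exact hJmono _ _ hj (htri' σ j)
    | zero => rw [smul_zero]; exact zero_mem _
    | add x y _ _ hx hy => rw [smul_add]; exact add_mem hx hy
    | smul c x _ hx =>
      rw [smul_eq_mul, smul_mul']
      exact Ideal.mul_mem_left _ _ hx
  -- u i ∉ J i
  have hnot : ∀ i : Fin n, u i ∉ J i := by
    intro i hi
    let S : Finset A := Finset.image u (Finset.univ.erase i)
    have h1 : m ≤ Ideal.span (S : Set A) ⊔ m ^ 2 := by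
      refine le_of_eq_of_le hu.symm ?_
      rw [Ideal.span_le]
      rintro _ ⟨j, rfl⟩
      by_cases hji : j = i
      · subst hji
        have hle : J j ≤ Ideal.span (S : Set A) ⊔ m ^ 2 := by
          refine sup_le_sup_right (Ideal.span_mono ?_) _
          rintro _ ⟨l, hl, rfl⟩
          refine Finset.mem_coe.2 (Finset.mem_image.2 ⟨l, Finset.mem_erase.2 ⟨?_, Finset.mem_univ _⟩, rfl⟩)
          intro h
          have hl' : (l : ℕ) < j := hl
          rw [h] at hl'
          exact lt_irrefl _ hl'
        exact hle hi
      · refine Submodule.mem_sup_left (Ideal.subset_span ?_)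
        exact Finset.mem_coe.2 (Finset.mem_image.2 ⟨j, Finset.mem_erase.2 ⟨hji, Finset.mem_univ _⟩, rfl⟩)
    have h2 : m = Ideal.span (S : Set A) := by
      apply le_antisymm (hnak _ h1)
      rw [Ideal.span_le, ← hu]
      intro x hx
      obtain ⟨j, -, rfl⟩ := Finset.mem_image.1 (Finset.mem_coe.1 hx)
      exact Ideal.subset_span ⟨j, rfl⟩
    have h3 : m.spanFinrank ≤ n - 1 := by
      rw [h2]
      refine (Submodule.spanFinrank_span_le_ncard_of_finite S.finite_toSet).trans ?_
      rw [Set.ncard_coe_finset]
      refine Finset.card_image_le.trans ?_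
      rw [Finset.card_erase_of_mem (Finset.mem_univ i), Finset.card_univ, Fintype.card_fin]
    have hnpos : 0 < n := Fin.pos i
    omega
  -- induction
  have hind : ∀ k, k ≤ n →
      Ideal.span ((fun j => τ j • u j) '' {j : Fin n | (j : ℕ) < k}) ⊔ m ^ 2 = J k := by
    intro k
    induction k with
    | zero =>
      intro _
      simp [J]
    | succ k ih =>
      intro hk
      have hk' : k < n := hk
      let i : Fin n := ⟨k, hk'⟩
      have hset : {j : Fin n | (j : ℕ) < k + 1} = {j : Fin n | (j : ℕ) < k} ∪ {i} := by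
        ext j
        simp only [Set.mem_ofPred_eq, Set.mem_union, Set.mem_singleton_iff, Nat.lt_succ_iff_lt_or_eq,
          Fin.ext_iff, i]
      have e1 : Ideal.span ((fun j => τ j • u j) '' {j : Fin n | (j : ℕ) < k + 1}) ⊔ m ^ 2 =
          J k ⊔ Ideal.span {τ i • u i} := by
        rw [hset, Set.image_union, Ideal.span_union, Set.image_singleton, ← ih hk'.le]
        ac_rfl
      rw [e1, show k + 1 = (i : ℕ) + 1 from rfl, hJsucc i]
      show J k ⊔ _ = J k ⊔ _
      apply le_antisymm
      · refine sup_le le_sup_left ?_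
        rw [Ideal.span_le, Set.singleton_subset_iff, ← hJsucc i]
        exact htri' (τ i) i
      · refine sup_le le_sup_left ?_
        rw [Ideal.span_le, Set.singleton_subset_iff]
        have h1 := htri' (τ i) i
        rw [hJsucc i] at h1
        obtain ⟨a, ha, b, hb, hab⟩ := Submodule.mem_sup.1 h1
        obtain ⟨c, rfl⟩ := Ideal.mem_span_singleton'.1 hb
        have hc : IsUnit c := by
          by_contra hc
          have hcm : c ∈ m := hc
          have h2 : c * u i ∈ J k := by
            apply hm2J
            rw [pow_two]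
            exact Ideal.mul_mem_mul hcm (hum i)
          have h3 : τ i • u i ∈ J k := by
            rw [← hab]; exact add_mem ha h2
          have h4 := hJstab (τ i)⁻¹ k _ h3
          rw [inv_smul_smul] at h4
          exact hnot i h4
        obtain ⟨d, hd⟩ := hc.exists_left_inv
        have h5 : u i = d * (τ i • u i) - d * a := by
          rw [← hab, mul_add, ← mul_assoc, hd, one_mul]; ring
        have h6 : d * (τ i • u i) - d * a ∈ J k ⊔ Ideal.span {τ i • u i} :=
          sub_mem (Submodule.mem_sup_right (Ideal.mul_mem_left _ _ (Ideal.subset_span rfl)))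
            (Submodule.mem_sup_left (Ideal.mul_mem_left _ _ ha))
        rw [← h5] at h6
        exact h6
  -- conclusion
  have hfin := hind n le_rfl
  have hall : {j : Fin n | (j : ℕ) < n} = Set.univ := by
    ext j; simp
  rw [hall, Set.image_univ] at hfin
  have hJn : J n = m := by
    show Ideal.span (u '' {j : Fin n | (j : ℕ) < n}) ⊔ m ^ 2 = m
    rw [hall, Set.image_univ, hu]
    exact sup_eq_left.2 (Ideal.pow_le_self two_ne_zero)
  apply le_antisymm
  · rw [Ideal.span_le]
    rintro _ ⟨i, rfl⟩
    exact hsm _ _ (hum i)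
  · apply hnak
    rw [hfin, hJn]



/-- Let `A` be a regular local ring of Krull dimension `n` with maximal ideal `m`, let a finite group
`G` act on `A` by ring automorphisms inducing the identity on the residue field, and let `u_1, …,
u_n` generate `m`. Suppose that for every `σ ∈ G` and every `i`, `σ u_i ∈ (u_1, …, u_i) + m ^ 2`,
i.e. the induced linear maps of `m / m ^ 2` are upper triangular in the basis given by the `u_i`.
Then the system `u` is admissible: for every choice `σ_1, …, σ_n ∈ G` the elements `σ_1 u_1, …, σ_n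
u_n` generate `m`. (The published statement is for a complete regular local ring containing a
`G`-fixed field of representatives; this row drops completeness and asks only that `G` act trivially
on the residue field.) -/
theorem result
    (A : Type u) [CommRing A] [IsRegularLocalRing A]
    (G : Type v) [Group G] [Finite G] [MulSemiringAction G A]
    (hres : ∀ (σ : G) (a : A), σ • a - a ∈ IsLocalRing.maximalIdeal A)
    (n : ℕ) (hn : ringKrullDim A = n) (u : Fin n → A)
    (hu : Ideal.span (Set.range u) = IsLocalRing.maximalIdeal A)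
    (htri : ∀ (σ : G) (i : Fin n),
      σ • u i ∈ Ideal.span (u '' {j | j ≤ i}) ⊔ IsLocalRing.maximalIdeal A ^ 2) :
    ∀ τ : Fin n → G,
      Ideal.span (Set.range fun i => τ i • u i) = IsLocalRing.maximalIdeal A := by
  exact main A G n hn u hu htri

end Groth.Agent.S15795
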