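import Groth.Statements.S15792
import Mathlib
import Groth.Agent.S15795

set_option autoImplicit false
universe u v
open WildQuot

namespace Groth.Agent.S15792

set_option linter.style.haveILetI false


open IsLocalRing

/-- a finite `p`-group acting linearly on a nonzero space killed by `p` has a nonzero fixed vector -/
theorem exists_fixed_ne_zero (p : ℕ) [Fact p.Prime] {G : Type*} [Group G] [Finite G]
    (hG : IsPGroup p G)
    {k V : Type*} [Field k] [AddCommGroup V] [Module k V] (ρ : Representation k G V)
    [Module (ZMod p) V] (v : V) (hv : v ≠ 0) : ∃ w : V, w ≠ 0 ∧ ∀ g, ρ g w = w := by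
  classical
  have hp : ∀ v : V, p • v = 0 := fun v => by
    rw [← Nat.cast_smul_eq_nsmul (ZMod p), ZMod.natCast_self, zero_smul]
  let W : Submodule (ZMod p) V := Submodule.span (ZMod p) (Set.range fun g => ρ g v)
  have hstab : ∀ (g : G) (w : V), w ∈ W → ρ g w ∈ W := by
    intro g w hw
    have : W.map ((ρ g).toAddMonoidHom.toZModLinearMap p) ≤ W := by
      rw [Submodule.map_span, Submodule.span_le]
      rintro _ ⟨_, ⟨h, rfl⟩, rfl⟩
      refine Submodule.subset_span ⟨g * h, ?_⟩
      show ρ (g * h) v = ρ g (ρ h v)
      rw [map_mul]; rfl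
    exact this ⟨w, hw, rfl⟩
  letI : MulAction G W :=
    { smul := fun g w => ⟨ρ g w.1, hstab g w.1 w.2⟩
      one_smul := fun w => Subtype.ext (by show ρ 1 w.1 = w.1; rw [map_one]; rfl)
      mul_smul := fun a b w => Subtype.ext (by
        show ρ (a * b) w.1 = ρ a (ρ b w.1); rw [map_mul]; rfl) }
  haveI : Module.Finite (ZMod p) W := Module.Finite.span_of_finite _ (Set.finite_range _)
  haveI : Finite W := Module.finite_of_finite (ZMod p)
  have hvW : v ∈ W := Submodule.subset_span ⟨1, by simp⟩
  have hdvd : p ∣ Nat.card W := by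
    have h1 : addOrderOf (⟨v, hvW⟩ : W) = p := by
      apply addOrderOf_eq_prime
      · exact Subtype.ext (hp v)
      · intro h
        exact hv (congrArg Subtype.val h)
    have h2 := addOrderOf_dvd_natCard (⟨v, hvW⟩ : W)
    rw [h1] at h2
    exact h2
  have h0 : (0 : W) ∈ MulAction.fixedPoints G W := by
    intro g
    exact Subtype.ext (map_zero (ρ g))
  obtain ⟨b, hb, hb0⟩ := hG.exists_fixed_point_of_prime_dvd_card_of_fixed_point W hdvd h0
  refine ⟨b.1, fun h => hb0 (Subtype.ext h.symm), fun g => ?_⟩
  exact congrArg Subtype.val (hb g)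

/-- a full flag stable under a finite `p`-group in characteristic `p` -/
theorem exists_flag (p : ℕ) [Fact p.Prime] {G : Type*} [Group G] [Finite G]
    (hG : IsPGroup p G) {k : Type*} [Field k] (n : ℕ) :
    ∀ (V : Type v) [AddCommGroup V] [Module k V] [FiniteDimensional k V]
      (ρ : Representation k G V), (∀ x : V, p • x = 0) → Module.finrank k V = n →
      ∃ b : Fin n → V, Submodule.span k (Set.range b) = ⊤ ∧
        ∀ (g : G) (i : Fin n), ρ g (b i) ∈ Submodule.span k (b '' {j | j ≤ i}) := by
  induction n with
  | zero =>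
    intro V _ _ _ ρ hp hn
    haveI : Subsingleton V := Module.finrank_zero_iff.1 hn
    exact ⟨Fin.elim0, Subsingleton.elim _ _, fun g i => i.elim0⟩
  | succ n ih =>
    intro V _ _ _ ρ hp hn
    obtain ⟨v, hv⟩ := Module.finrank_pos_iff_exists_ne_zero.1 (by rw [hn]; exact Nat.succ_pos n)
    letI : Module (ZMod p) V := AddCommGroup.zmodModule hp
    obtain ⟨w, hw, hfix⟩ := exists_fixed_ne_zero p hG ρ v hv
    let U : Submodule k V := Submodule.span k {w}
    have hU : ∀ g, U ≤ U.comap (ρ g) := by
      intro g x hx
      obtain ⟨c, rfl⟩ := Submodule.mem_span_singleton.1 hx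
      rw [Submodule.mem_comap, map_smul, hfix]
      exact Submodule.smul_mem _ _ (Submodule.mem_span_singleton_self w)
    have hrank : Module.finrank k (V ⧸ U) = n := by
      have h1 := Submodule.finrank_quotient_add_finrank U
      rw [finrank_span_singleton hw, hn] at h1
      omega
    have hp' : ∀ x : V ⧸ U, p • x = 0 := by
      intro x
      obtain ⟨y, rfl⟩ := U.mkQ_surjective x
      rw [← map_nsmul, hp, map_zero]
    obtain ⟨b', hb'1, hb'2⟩ := ih (V ⧸ U) (ρ.quotient U hU) hp' hrank
    choose c hc using fun i => U.mkQ_surjective (b' i)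
    have hcb' : ∀ (T : Set (Fin n)), (Submodule.span k (c '' T)).map U.mkQ =
        Submodule.span k (b' '' T) := by
      intro T
      rw [Submodule.map_span, ← Set.image_comp]
      congr 1
      apply Set.image_congr
      intro i _
      exact hc i
    refine ⟨Fin.cons w c, ?_, ?_⟩
    · have hUle : U ≤ Submodule.span k (Set.range (Fin.cons w c : Fin (n + 1) → V)) := by
        rw [Submodule.span_le, Set.singleton_subset_iff]
        exact Submodule.subset_span ⟨0, rfl⟩
      have hmap : (Submodule.span k (Set.range (Fin.cons w c : Fin (n + 1) → V))).map U.mkQ = ⊤ := by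
        rw [eq_top_iff, ← hb'1, ← Set.image_univ, ← hcb', Set.image_univ]
        apply Submodule.map_mono
        apply Submodule.span_mono
        rintro _ ⟨i, rfl⟩
        exact ⟨i.succ, by simp⟩
      rw [Submodule.map_mkQ_eq_top, sup_eq_right.2 hUle] at hmap
      exact hmap
    · intro g i
      refine Fin.cases ?_ (fun i' => ?_) i
      · rw [Fin.cons_zero, hfix]
        exact Submodule.subset_span ⟨0, (le_refl (0 : Fin (n + 1)) : (0 : Fin (n + 1)) ≤ 0), by simp⟩
      · rw [Fin.cons_succ]
        have h1 : U.mkQ (ρ g (c i')) ∈ Submodule.span k (b' '' {j | j ≤ i'}) := by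
          have := hb'2 g i'
          rw [← hc i'] at this
          exact this
        rw [← hcb'] at h1
        obtain ⟨y, hy, hy2⟩ := h1
        have h2 : ρ g (c i') - y ∈ U := by
          rw [← Submodule.Quotient.mk_eq_zero, Submodule.Quotient.mk_sub]
          exact sub_eq_zero.2 hy2.symm
        have h3 : ρ g (c i') = y + (ρ g (c i') - y) := by abel
        rw [h3]
        refine add_mem ?_ ?_
        · refine Submodule.span_mono ?_ hy
          rintro _ ⟨j, hj, rfl⟩
          exact ⟨j.succ, (Fin.succ_le_succ_iff.2 hj : j.succ ≤ i'.succ), by simp⟩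
        · obtain ⟨a, ha⟩ := Submodule.mem_span_singleton.1 h2
          rw [← ha]
          refine Submodule.smul_mem _ _ (Submodule.subset_span ⟨0, (Fin.zero_le _ : (0 : Fin (n + 1)) ≤ i'.succ), by simp⟩)

theorem main
    (p : ℕ) [Fact p.Prime] (A : Type u) [CommRing A] [IsRegularLocalRing A] [CharP A p]
    (G : Type v) [Group G] [Finite G] [MulSemiringAction G A] (hG : IsPGroup p G)
    (hres : ∀ (σ : G) (a : A), σ • a - a ∈ maximalIdeal A)
    (n : ℕ) (hn : ringKrullDim A = n) :
    ∃ u : Fin n → A, ∀ τ : Fin n → G,
      Ideal.span (Set.range fun i => τ i • u i) = maximalIdeal A := by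
  classical
  set m := maximalIdeal A with hm
  have hspan : m.spanFinrank = n := by
    have h1 := IsRegularLocalRing.spanFinrank_maximalIdeal (R := A)
    rw [hn] at h1
    exact_mod_cast h1
  have hsm : ∀ (σ : G) (a : A), a ∈ m → σ • a ∈ m := by
    intro σ a ha
    rw [hm, mem_maximalIdeal, mem_nonunits_iff] at ha ⊢
    intro h
    apply ha
    have := h.map (MulSemiringAction.toRingHom G A σ⁻¹)
    simpa using this
  have hsm2 : ∀ (σ : G) (a : A), a ∈ m ^ 2 → σ • a ∈ m ^ 2 := by
    intro σ a ha
    rw [pow_two] at ha ⊢
    refine Submodule.mul_induction_on ha ?_ ?_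
    · intro x hx y hy
      rw [smul_mul']
      exact Ideal.mul_mem_mul (hsm σ x hx) (hsm σ y hy)
    · intro x y hx hy
      rw [smul_add]; exact add_mem hx hy
  -- m kills the cotangent space
  have hkill : ∀ (r : A) (z : m.Cotangent), r ∈ m → r • z = 0 := by
    intro r z hr
    obtain ⟨y, rfl⟩ := m.toCotangent_surjective z
    rw [← map_smul, Ideal.toCotangent_eq_zero, pow_two]
    exact Ideal.mul_mem_mul hr y.2
  -- the linear maps
  let f : G → (m →ₗ[A] m.Cotangent) := fun σ =>
    { toFun := fun x => m.toCotangent ⟨σ • (x : A), hsm σ x x.2⟩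
      map_add' := fun x y => by
        rw [← map_add]
        congr 1
        exact Subtype.ext (smul_add σ (x : A) (y : A))
      map_smul' := fun a x => by
        have h1 : (⟨σ • ((a • x : m) : A), hsm σ _ (a • x).2⟩ : m) =
            (σ • a) • (⟨σ • (x : A), hsm σ x x.2⟩ : m) :=
          Subtype.ext (smul_mul' σ a (x : A))
        rw [h1, map_smul, RingHom.id_apply]
        have h2 : σ • a = a + (σ • a - a) := by ring
        rw [h2, add_smul, hkill _ _ (hres σ a), add_zero] }
  have hf : ∀ σ x, f σ x = m.toCotangent ⟨σ • (x : A), hsm σ x x.2⟩ := fun σ x => rfl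
  have hfker : ∀ σ, (m • ⊤ : Submodule A m) ≤ LinearMap.ker (f σ) := by
    intro σ x hx
    rw [LinearMap.mem_ker, hf, Ideal.toCotangent_eq_zero]
    apply hsm2
    rw [← Ideal.toCotangent_eq_zero]
    exact (Submodule.Quotient.mk_eq_zero _).2 hx
  let gl : G → (m.Cotangent →ₗ[A] m.Cotangent) := fun σ => Submodule.liftQ _ (f σ) (hfker σ)
  have hgl : ∀ σ (x : m), gl σ (m.toCotangent x) = m.toCotangent ⟨σ • (x : A), hsm σ x x.2⟩ :=
    fun σ x => rfl
  have hressurj : Function.Surjective (algebraMap A (ResidueField A)) := residue_surjective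
  let ρ : Representation (ResidueField A) G (CotangentSpace A) :=
    { toFun := fun σ => (gl σ).extendScalarsOfSurjective hressurj
      map_one' := by
        apply LinearMap.ext
        intro z
        obtain ⟨x, rfl⟩ := m.toCotangent_surjective z
        show gl 1 (m.toCotangent x) = m.toCotangent x
        rw [hgl]
        congr 1
        exact Subtype.ext (one_smul G (x : A))
      map_mul' := fun σ τ => by
        apply LinearMap.ext
        intro z
        obtain ⟨x, rfl⟩ := m.toCotangent_surjective z
        show gl (σ * τ) (m.toCotangent x) = gl σ (gl τ (m.toCotangent x))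
        rw [hgl, hgl, hgl]
        congr 1
        exact Subtype.ext (mul_smul σ τ (x : A)) }
  have hρ : ∀ σ (x : m), ρ σ (m.toCotangent x) = m.toCotangent ⟨σ • (x : A), hsm σ x x.2⟩ :=
    fun σ x => rfl
  have hpc : ∀ z : CotangentSpace A, p • z = 0 := by
    intro z
    have : (p : A) • z = 0 := by rw [CharP.cast_eq_zero A p, zero_smul]
    rw [← this, Nat.cast_smul_eq_nsmul]
  have hfr : Module.finrank (ResidueField A) (CotangentSpace A) = n := by
    rw [← spanFinrank_maximalIdeal_eq_finrank_cotangentSpace]
    exact hspan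
  obtain ⟨b, hb1, hb2⟩ := exists_flag p hG n (CotangentSpace A) ρ hpc hfr
  choose u' hu' using fun i => m.toCotangent_surjective (b i)
  -- k-span of images comes from A-span
  have hlift : ∀ (T : Set m) (z : CotangentSpace A),
      z ∈ Submodule.span (ResidueField A) (m.toCotangent '' T) →
      ∃ y ∈ Submodule.span A T, m.toCotangent y = z := by
    intro T z hz
    induction hz using Submodule.span_induction with
    | mem z hz =>
      obtain ⟨t, ht, rfl⟩ := hz
      exact ⟨t, Submodule.subset_span ht, rfl⟩
    | zero => exact ⟨0, Submodule.zero_mem _, map_zero _⟩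
    | add z w _ _ hz hw =>
      obtain ⟨y, hy, rfl⟩ := hz
      obtain ⟨y', hy', rfl⟩ := hw
      exact ⟨y + y', Submodule.add_mem _ hy hy', map_add _ _ _⟩
    | smul c z _ hz =>
      obtain ⟨y, hy, rfl⟩ := hz
      obtain ⟨a, rfl⟩ := hressurj c
      exact ⟨a • y, Submodule.smul_mem _ _ hy, by rw [map_smul, algebraMap_smul]⟩
  refine ⟨fun i => (u' i : A), Groth.Agent.S15795.result A G hres n hn _ ?_ ?_⟩
  · -- generation
    have h1 : Submodule.span (ResidueField A) (m.toCotangent '' (Set.range u')) = ⊤ := by
      rw [← hb1, ← Set.range_comp]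
      congr 2
      funext i
      exact hu' i
    rw [CotangentSpace.span_image_eq_top_iff] at h1
    have h2 := congrArg (Submodule.map m.subtype) h1
    rw [Submodule.map_span, Submodule.map_top, Submodule.range_subtype, ← Set.range_comp] at h2
    exact h2
  · -- triangularity
    intro σ i
    have h1 := hb2 σ i
    rw [← hu' i, hρ] at h1
    have h2 : b '' {j | j ≤ i} = m.toCotangent '' (u' '' {j | j ≤ i}) := by
      rw [← Set.image_comp]
      apply Set.image_congr
      intro j _
      exact (hu' j).symm
    rw [h2] at h1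
    obtain ⟨y, hy, hy2⟩ := hlift _ _ h1
    rw [Ideal.toCotangent_eq] at hy2
    have h3 : σ • (u' i : A) = (y : A) + -((y : A) - σ • (u' i : A)) := by ring
    rw [h3]
    refine Submodule.add_mem _ (Submodule.mem_sup_left ?_)
      (Submodule.mem_sup_right (neg_mem hy2))
    have h4 : (y : A) ∈ (Submodule.span A (u' '' {j | j ≤ i})).map m.subtype := ⟨y, hy, rfl⟩
    rw [Submodule.map_span, ← Set.image_comp] at h4
    exact h4



/-- Let `A` be a regular local ring of Krull dimension `n` and prime characteristic `p`, and let a
finite `p`-group `G` act on `A` by ring automorphisms inducing the identity on the residue field.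
Then there is an admissible regular system of parameters: `u_1, …, u_n ∈ A` such that for every
choice `σ_1, …, σ_n ∈ G` the elements `σ_1 u_1, …, σ_n u_n` generate the maximal ideal. (The
published statement is for a complete regular local ring containing a field of representatives fixed
by `G`; this row drops completeness and asks only that `G` act trivially on the residue field.) -/
theorem result
    (p : ℕ) [Fact p.Prime] (A : Type u) [CommRing A] [IsRegularLocalRing A] [CharP A p]
    (G : Type v) [Group G] [Finite G] [MulSemiringAction G A] (hG : IsPGroup p G)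
    (hres : ∀ (σ : G) (a : A), σ • a - a ∈ IsLocalRing.maximalIdeal A)
    (n : ℕ) (hn : ringKrullDim A = n) :
    ∃ u : Fin n → A, ∀ τ : Fin n → G,
      Ideal.span (Set.range fun i => τ i • u i) = IsLocalRing.maximalIdeal A := by
  exact main p A G hG hres n hn

end Groth.Agent.S15792
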