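import Groth.Statements.S15793
import Mathlib

set_option autoImplicit false
universe u v w
open WildQuot

namespace Groth.Agent.S15793

set_option linter.style.haveILetI false


open IsLocalRing

/-- elements of a local ring with coefficient field `k` are polynomials in generators of `m`
modulo any power of `m` -/
lemma approx {A : Type u} [CommRing A] [IsLocalRing A] (k : Type v) [Field k] [Algebra k A]
    (hk : Function.Surjective (residue A ∘ algebraMap k A)) (T : Set A)
    (hT : Ideal.span T = maximalIdeal A) :
    ∀ (N : ℕ) (a : A), ∃ b ∈ Algebra.adjoin k T, a - b ∈ maximalIdeal A ^ N := by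
  set m := maximalIdeal A with hm
  have hTm : ∀ t ∈ T, t ∈ m := fun t ht => by rw [← hT]; exact Ideal.subset_span ht
  have key : ∀ (N : ℕ) (a : A), a ∈ m ^ N →
      ∃ b ∈ Algebra.adjoin k T, b ∈ m ^ N ∧ a - b ∈ m ^ (N + 1) := by
    intro N
    induction N with
    | zero =>
      intro a _
      obtain ⟨κ, hκ⟩ := hk (residue A a)
      refine ⟨algebraMap k A κ, Subalgebra.algebraMap_mem _ κ, by simp, ?_⟩
      rw [zero_add, pow_one, hm, ← residue_eq_zero_iff, map_sub, sub_eq_zero]
      exact hκ.symm
    | succ N ih =>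
      intro a ha
      rw [pow_succ] at ha
      refine Submodule.mul_induction_on ha ?_ ?_
      · intro x hx y hy
        rw [← hT] at hy
        revert x
        induction hy using Submodule.span_induction with
        | mem t ht =>
          intro x hx
          obtain ⟨b, hb1, hb2, hb3⟩ := ih x hx
          refine ⟨b * t, Subalgebra.mul_mem _ hb1 (Algebra.subset_adjoin ht), ?_, ?_⟩
          · rw [pow_succ]; exact Ideal.mul_mem_mul hb2 (hTm t ht)
          · rw [← sub_mul, pow_succ (n := N + 1)]
            exact Ideal.mul_mem_mul hb3 (hTm t ht)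
        | zero =>
          intro x _
          exact ⟨0, Subalgebra.zero_mem _, Ideal.zero_mem _, by simp⟩
        | add y z _ _ hy hz =>
          intro x hx
          obtain ⟨b, hb1, hb2, hb3⟩ := hy x hx
          obtain ⟨c, hc1, hc2, hc3⟩ := hz x hx
          refine ⟨b + c, Subalgebra.add_mem _ hb1 hc1, Ideal.add_mem _ hb2 hc2, ?_⟩
          have : x * (y + z) - (b + c) = (x * y - b) + (x * z - c) := by ring
          rw [this]
          exact Ideal.add_mem _ hb3 hc3
        | smul r y _ hy =>
          intro x hx
          obtain ⟨b, hb1, hb2, hb3⟩ := hy (x * r) (Ideal.mul_mem_right _ _ hx)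
          refine ⟨b, hb1, hb2, ?_⟩
          have : x * r • y = x * r * y := by rw [smul_eq_mul]; ring
          rw [this]
          exact hb3
      · intro x y hx hy
        obtain ⟨b, hb1, hb2, hb3⟩ := hx
        obtain ⟨c, hc1, hc2, hc3⟩ := hy
        refine ⟨b + c, Subalgebra.add_mem _ hb1 hc1, Ideal.add_mem _ hb2 hc2, ?_⟩
        have : x + y - (b + c) = (x - b) + (y - c) := by ring
        rw [this]
        exact Ideal.add_mem _ hb3 hc3
  intro N
  induction N with
  | zero =>
    intro a
    exact ⟨0, Subalgebra.zero_mem _, by simp⟩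
  | succ N ih =>
    intro a
    obtain ⟨b, hb1, hb2⟩ := ih a
    obtain ⟨c, hc1, -, hc3⟩ := key N (a - b) hb2
    refine ⟨b + c, Subalgebra.add_mem _ hb1 hc1, ?_⟩
    have : a - (b + c) = a - b - c := by ring
    rw [this]
    exact hc3

/-- ideals in a Noetherian local ring are closed -/
lemma mem_of_forall_mem_sup_pow {A : Type u} [CommRing A] [IsLocalRing A] [IsNoetherianRing A]
    (J : Ideal A) (hJ : J ≤ maximalIdeal A) (x : A)
    (hx : ∀ N : ℕ, x ∈ J ⊔ maximalIdeal A ^ N) : x ∈ J := by
  have hJtop : J ≠ ⊤ := fun h => (maximalIdeal.isMaximal A).ne_top (top_le_iff.1 (h ▸ hJ))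
  haveI : Nontrivial (A ⧸ J) := Ideal.Quotient.nontrivial_iff.2 hJtop
  haveI : IsLocalRing (A ⧸ J) :=
    IsLocalRing.of_surjective' (Ideal.Quotient.mk J) Ideal.Quotient.mk_surjective
  let I' : Ideal (A ⧸ J) := (maximalIdeal A).map (Ideal.Quotient.mk J)
  have hI' : I' ≠ ⊤ := by
    intro h
    have h1 : (1 : A ⧸ J) ∈ I' := h ▸ Submodule.mem_top
    rw [show (1 : A ⧸ J) = Ideal.Quotient.mk J 1 from rfl,
      Ideal.mem_map_iff_of_surjective _ Ideal.Quotient.mk_surjective] at h1
    obtain ⟨y, hy, hy1⟩ := h1
    have h2 : y - 1 ∈ J := Ideal.Quotient.eq.1 hy1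
    have h3 : (1 : A) ∈ maximalIdeal A := by
      have : (1 : A) = y - (y - 1) := by ring
      rw [this]
      exact Ideal.sub_mem _ hy (hJ h2)
    exact (maximalIdeal.isMaximal A).ne_top ((Ideal.eq_top_iff_one _).2 h3)
  have h0 := Ideal.iInf_pow_eq_bot_of_isLocalRing I' hI'
  have h1 : Ideal.Quotient.mk J x ∈ ⨅ i : ℕ, I' ^ i := by
    rw [Ideal.mem_iInf]
    intro N
    obtain ⟨j, hj, c, hc, rfl⟩ := Submodule.mem_sup.1 (hx N)
    rw [map_add, Ideal.Quotient.eq_zero_iff_mem.2 hj, zero_add, ← Ideal.map_pow]
    exact Ideal.mem_map_of_mem _ hc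
  rw [h0, Ideal.mem_bot] at h1
  exact Ideal.Quotient.eq_zero_iff_mem.1 h1

theorem main
    (p : ℕ) [Fact p.Prime] (A : Type u) [CommRing A] [IsRegularLocalRing A]
    (hdim : 2 ≤ ringKrullDim A)
    (k : Type v) [Field k] [Algebra k A]
    (hk : Function.Surjective (residue A ∘ algebraMap k A))
    (G : Type w) [Group G] [Finite G] [MulSemiringAction G A] (hcard : Nat.card G = p)
    (hGk : ∀ (σ : G) (c : k), σ • algebraMap k A c = algebraMap k A c)
    (hram : ∀ P : Ideal A, P.IsPrime → P ≠ maximalIdeal A → P.inertia G = ⊥)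
    (v : A) (hv : v ∈ maximalIdeal A) (hv2 : v ∉ maximalIdeal A ^ 2) :
    ∃ σ : G, σ • v ≠ v := by
  classical
  by_contra hcon
  push Not at hcon
  set m := maximalIdeal A with hm
  -- a nontrivial element
  haveI : Nontrivial G := by
    rw [← Finite.one_lt_card_iff_nontrivial, hcard]
    exact (Fact.out : p.Prime).one_lt
  obtain ⟨σ, hσ⟩ := exists_ne (1 : G)
  -- dimension
  set n := m.spanFinrank with hn
  have hdimn : ringKrullDim A = n := (IsRegularLocalRing.spanFinrank_maximalIdeal (R := A)).symm
  have hn2 : 2 ≤ n := by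
    rw [hdimn] at hdim
    exact_mod_cast hdim
  have hfr : Module.finrank (ResidueField A) (CotangentSpace A) = n :=
    (spanFinrank_maximalIdeal_eq_finrank_cotangentSpace (R := A)).symm
  -- the action preserves powers of m
  have hsm : ∀ (a : A), a ∈ m → σ • a ∈ m := by
    intro a ha
    rw [hm, mem_maximalIdeal, mem_nonunits_iff] at ha ⊢
    intro h
    apply ha
    have := h.map (MulSemiringAction.toRingHom G A σ⁻¹)
    simpa using this
  have hsmN : ∀ (N : ℕ) (a : A), a ∈ m ^ N → σ • a ∈ m ^ N := by
    intro N a ha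
    have h1 : Ideal.map (MulSemiringAction.toRingHom G A σ) m ≤ m := by
      rw [Ideal.map_le_iff_le_comap]
      intro x hx
      exact hsm x hx
    have h2 := Ideal.mem_map_of_mem (MulSemiringAction.toRingHom G A σ) ha
    rw [Ideal.map_pow] at h2
    exact Ideal.pow_right_mono h1 N h2
  -- basis of the cotangent space containing the class of v
  let vb : CotangentSpace A := m.toCotangent ⟨v, hv⟩
  have hvb : vb ≠ 0 := by
    intro h
    exact hv2 ((Ideal.toCotangent_eq_zero m ⟨v, hv⟩).1 h)
  have hli : LinearIndepOn (ResidueField A) id ({vb} : Set (CotangentSpace A)) :=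
    LinearIndepOn.singleton hvb
  let B : Set (CotangentSpace A) := hli.extend (Set.subset_univ _)
  let bas : Module.Basis B (ResidueField A) (CotangentSpace A) := Module.Basis.extend hli
  have hbas : ∀ z : B, bas z = (z : CotangentSpace A) := fun z => Module.Basis.extend_apply_self hli z
  have hvbB : vb ∈ B := Module.Basis.subset_extend hli (Set.mem_singleton vb)
  haveI : Finite B := (Module.Finite.finite_basis bas)
  have hcardB : Nat.card B = n := by
    rw [← hfr]; exact (Module.finrank_eq_nat_card_basis bas).symm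
  -- lifts
  have hex : ∀ z : B, ∃ y : m, m.toCotangent y = (z : CotangentSpace A) ∧
      ((z : CotangentSpace A) = vb → (y : A) = v) := by
    intro z
    by_cases hz : (z : CotangentSpace A) = vb
    · exact ⟨⟨v, hv⟩, hz.symm, fun _ => rfl⟩
    · obtain ⟨y, hy⟩ := m.toCotangent_surjective (z : CotangentSpace A)
      exact ⟨y, hy, fun h => absurd h hz⟩
  choose ℓ hℓ1 hℓ2 using hex
  let T : Set A := Set.range (fun z : B => (ℓ z : A))
  have hvT : v ∈ T := ⟨⟨vb, hvbB⟩, hℓ2 ⟨vb, hvbB⟩ rfl⟩
  have hTspan : Ideal.span T = m := by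
    have h1 : Submodule.span (ResidueField A) (m.toCotangent '' (Set.range ℓ)) = ⊤ := by
      rw [← Set.range_comp]
      have : (m.toCotangent ∘ ℓ) = bas := by
        funext z
        rw [Function.comp_apply, hℓ1, hbas]
      rw [this]
      exact bas.span_eq
    rw [CotangentSpace.span_image_eq_top_iff] at h1
    have h2 := congrArg (Submodule.map m.subtype) h1
    rw [Submodule.map_span, Submodule.map_top, Submodule.range_subtype, ← Set.range_comp] at h2
    exact h2
  have hTm : ∀ t ∈ T, t ∈ m := fun t ht => by rw [← hTspan]; exact Ideal.subset_span ht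
  -- the ideal J
  let D : Set A := (fun s => σ • s - s) '' T
  let J : Ideal A := Ideal.span D
  have hDm : ∀ d ∈ D, d ∈ m := by
    rintro _ ⟨t, ht, rfl⟩
    exact Ideal.sub_mem _ (hsm t (hTm t ht)) (hTm t ht)
  have hJm : J ≤ m := Ideal.span_le.2 hDm
  have h0D : (0 : A) ∈ D := ⟨v, hvT, by show σ • v - v = 0; rw [hcon σ, sub_self]⟩
  have hTfin : T.Finite := Set.finite_range _
  have hDfin : D.Finite := hTfin.image _
  have hDcard : (D \ {0}).ncard ≤ n - 1 := by
    have h1 : D.ncard ≤ n := by
      calc D.ncard ≤ T.ncard := Set.ncard_image_le hTfin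
        _ ≤ Nat.card B := by
          have := Set.ncard_image_le (f := fun z : B => (ℓ z : A)) (Set.finite_univ (α := B))
          rw [Set.image_univ, Set.ncard_univ] at this
          exact this
        _ = n := hcardB
    have h2 : (D \ {0}).ncard = D.ncard - 1 := Set.ncard_sdiff_singleton_of_mem h0D
    omega
  have hJspan : J = Ideal.span (D \ {0}) := (Ideal.span_sdiff_singleton_zero).symm
  -- σ a - a ∈ J for all a
  let Bsub : Subalgebra k A :=
    { carrier := {a | σ • a - a ∈ J}
      mul_mem' := fun {a b} ha hb => by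
        show σ • (a * b) - a * b ∈ J
        have : σ • (a * b) - a * b = σ • a * (σ • b - b) + (σ • a - a) * b := by
          rw [smul_mul']; ring
        rw [this]
        exact Ideal.add_mem _ (Ideal.mul_mem_left _ _ hb) (Ideal.mul_mem_right _ _ ha)
      add_mem' := fun {a b} ha hb => by
        show σ • (a + b) - (a + b) ∈ J
        have : σ • (a + b) - (a + b) = (σ • a - a) + (σ • b - b) := by
          rw [smul_add]; ring
        rw [this]
        exact Ideal.add_mem _ ha hb
      algebraMap_mem' := fun c => by
        show σ • algebraMap k A c - algebraMap k A c ∈ J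
        rw [hGk, sub_self]
        exact Ideal.zero_mem _ }
  have hadj : Algebra.adjoin k T ≤ Bsub := by
    apply Algebra.adjoin_le
    intro t ht
    exact Ideal.subset_span ⟨t, ht, rfl⟩
  have hall : ∀ a : A, σ • a - a ∈ J := by
    intro a
    apply mem_of_forall_mem_sup_pow J hJm
    intro N
    obtain ⟨b, hb, hc⟩ := approx k hk T hTspan N a
    have hb' : σ • b - b ∈ J := hadj hb
    have hc' : σ • (a - b) - (a - b) ∈ m ^ N := Ideal.sub_mem _ (hsmN N _ hc) hc
    have : σ • a - a = (σ • b - b) + (σ • (a - b) - (a - b)) := by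
      rw [smul_sub]; ring
    rw [this]
    exact Submodule.add_mem_sup hb' hc'
  -- a minimal prime over J
  obtain ⟨P, hP, hPm⟩ := Ideal.exists_minimalPrimes_le hJm
  have hPprime : P.IsPrime := hP.1.1
  have hht : P.height ≤ ((n - 1 : ℕ) : ℕ∞) := by
    rw [hJspan] at hP
    refine (Ideal.height_le_card_of_mem_minimalPrimes_span (hDfin.subset Set.sdiff_subset) hP).trans ?_
    exact_mod_cast hDcard
  have hPne : P ≠ m := by
    intro h
    have h1 : (m.height : WithBot ℕ∞) = ringKrullDim A := maximalIdeal_height_eq_ringKrullDim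
    rw [hdimn] at h1
    have h2 : m.height = (n : ℕ∞) := by exact_mod_cast h1
    rw [h, h2] at hht
    have : n ≤ n - 1 := by exact_mod_cast hht
    omega
  have hin : σ ∈ P.inertia G := fun x => hP.1.2 (hall x)
  rw [hram P hPprime hPne, Subgroup.mem_bot] at hin
  exact hσ hin



/-- Let `A` be a complete regular local ring of Krull dimension at least `2` and prime characteristic
`p`, with maximal ideal `m`; let `k` be a field with a ring map `k → A` whose composite with `A →
A/m` is onto (a field of representatives); let `G` be a group of order `p` acting on `A` by ring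
automorphisms that fix the image of `k`, ramified precisely at the origin: for every prime `P ≠ m`,
the inertia subgroup of `P` (the elements of `G` fixing every element of `A` modulo `P`) is trivial.
Then no element of `m` outside `m ^ 2` is fixed by every element of `G`; in particular the action is
not linear in any regular system of parameters. -/
theorem result
    (p : ℕ) [Fact p.Prime] (A : Type u) [CommRing A] [IsRegularLocalRing A] [CharP A p]
    [IsAdicComplete (IsLocalRing.maximalIdeal A) A] (hdim : 2 ≤ ringKrullDim A)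
    (k : Type v) [Field k] [Algebra k A]
    (hk : Function.Surjective (IsLocalRing.residue A ∘ algebraMap k A))
    (G : Type w) [Group G] [Finite G] [MulSemiringAction G A] (hcard : Nat.card G = p)
    (hGk : ∀ (σ : G) (c : k), σ • algebraMap k A c = algebraMap k A c)
    (hram : ∀ P : Ideal A, P.IsPrime → P ≠ IsLocalRing.maximalIdeal A → P.inertia G = ⊥)
    (v : A) (hv : v ∈ IsLocalRing.maximalIdeal A) (hv2 : v ∉ IsLocalRing.maximalIdeal A ^ 2) :
    ∃ σ : G, σ • v ≠ v := by
  exact main p A hdim k hk G hcard hGk hram v hv hv2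

end Groth.Agent.S15793
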