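import Groth.Statements.S15797
import Mathlib
import Groth.Agent.Lib.Helper17.CIField6

set_option autoImplicit false
universe u v
open WildQuot

namespace Groth.Agent.S15797

open IsLocalRing RingTheory.Sequence

theorem span_update {A : Type*} [CommRing A] {n : ℕ} (y : Fin n → A) (k : Fin n) (c : A) :
    Ideal.span (Set.range (Function.update y k c)) =
      Ideal.span (y '' {i | i ≠ k}) ⊔ Ideal.span {c} := by
  apply le_antisymm
  · rw [Ideal.span_le]
    rintro _ ⟨i, rfl⟩
    by_cases hik : i = k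
    · rw [hik, Function.update_self]
      exact Ideal.mem_sup_right (Ideal.subset_span rfl)
    · rw [Function.update_of_ne hik]
      exact Ideal.mem_sup_left (Ideal.subset_span ⟨i, hik, rfl⟩)
  · refine sup_le (Ideal.span_le.mpr ?_) (Ideal.span_le.mpr ?_)
    · rintro _ ⟨i, hik, rfl⟩
      exact Ideal.subset_span ⟨i, Function.update_of_ne hik c y⟩
    · intro x hx
      rw [Set.mem_singleton_iff] at hx
      rw [hx]
      exact Ideal.subset_span ⟨k, Function.update_self k c y⟩

theorem length_mul_ge_aux {A : Type*} [CommRing A] (J : Ideal A) (a b : A)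
    (hnzd : ∀ r, a * r ∈ J → r ∈ J) :
    Module.length A (A ⧸ (J ⊔ Ideal.span {a})) + Module.length A (A ⧸ (J ⊔ Ideal.span {b})) ≤
      Module.length A (A ⧸ (J ⊔ Ideal.span {a * b})) := by
  obtain ⟨I, hI⟩ : ∃ I, I = J ⊔ Ideal.span {a * b} := ⟨_, rfl⟩
  obtain ⟨Ia, hIa⟩ : ∃ I, I = J ⊔ Ideal.span {a} := ⟨_, rfl⟩
  obtain ⟨Ib, hIb⟩ : ∃ I, I = J ⊔ Ideal.span {b} := ⟨_, rfl⟩
  rw [← hI, ← hIa, ← hIb]
  have hJI : J ≤ I := by rw [hI]; exact le_sup_left
  have habI : a * b ∈ I := by rw [hI]; exact Ideal.mem_sup_right (Ideal.subset_span rfl)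
  have hJIa : J ≤ Ia := by rw [hIa]; exact le_sup_left
  have haIa : a ∈ Ia := by rw [hIa]; exact Ideal.mem_sup_right (Ideal.subset_span rfl)
  have hIIa : I ≤ Ia := by
    rw [hI]
    refine sup_le hJIa ?_
    rw [Ideal.span_le]
    intro x hx
    rw [Set.mem_singleton_iff] at hx
    rw [hx]
    exact Ia.mul_mem_right b haIa
  obtain ⟨φ, hφ⟩ : ∃ φ : A →ₗ[A] A ⧸ I, ∀ r, φ r = Submodule.Quotient.mk (a * r) :=
    ⟨a • (Submodule.mkQ I), fun r => rfl⟩
  have hker_b : Ib ≤ LinearMap.ker φ := by
    rw [hIb]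
    refine sup_le ?_ ?_
    · intro x hx
      show φ x = 0
      rw [hφ, Submodule.Quotient.mk_eq_zero]
      exact I.mul_mem_left a (hJI hx)
    · rw [Ideal.span_le]
      intro x hx
      rw [Set.mem_singleton_iff] at hx
      rw [hx]
      show φ b = 0
      rw [hφ, Submodule.Quotient.mk_eq_zero]
      exact habI
  have hker_le : LinearMap.ker φ ≤ Ib := by
    intro r hr
    have hr' : a * r ∈ I := by
      have h0 : φ r = 0 := hr
      rw [hφ, Submodule.Quotient.mk_eq_zero] at h0
      exact h0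
    rw [hI] at hr'
    obtain ⟨j, hj, z, hz, hsum⟩ := Submodule.mem_sup.mp hr'
    obtain ⟨s, hs⟩ := Ideal.mem_span_singleton'.mp hz
    have h1 : a * (r - s * b) = j := by
      rw [← hs] at hsum
      linear_combination (-1 : A) * hsum
    have h2 : r - s * b ∈ J := hnzd _ (by rw [h1]; exact hj)
    rw [hIb]
    have h3 : r = (r - s * b) + s * b := by ring
    rw [h3]
    exact (J ⊔ Ideal.span {b}).add_mem (Ideal.mem_sup_left h2)
      (Ideal.mem_sup_right (Ideal.mul_mem_left _ s (Ideal.subset_span rfl)))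
  obtain ⟨f, hf⟩ : ∃ f : (A ⧸ Ib) →ₗ[A] (A ⧸ I), f = Submodule.liftQ Ib φ hker_b := ⟨_, rfl⟩
  have hf_inj : Function.Injective f := by
    rw [← LinearMap.ker_eq_bot, hf]
    exact Submodule.ker_liftQ_eq_bot Ib φ hker_b hker_le
  obtain ⟨N, hN⟩ : ∃ N : Submodule A (A ⧸ I), N = LinearMap.range f := ⟨_, rfl⟩
  have h1 : Module.length A (A ⧸ I) = Module.length A (A ⧸ Ib) + Module.length A ((A ⧸ I) ⧸ N) := by
    rw [hN]
    exact Module.length_eq_add_of_exact f (LinearMap.range f).mkQ hf_inj
      (Submodule.mkQ_surjective _) (LinearMap.exact_map_mkQ_range f)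
  have hkerψ0 : I ≤ LinearMap.ker (Submodule.mkQ Ia) := by
    rw [Submodule.ker_mkQ]; exact hIIa
  obtain ⟨ψ0, hψ0⟩ : ∃ ψ0 : (A ⧸ I) →ₗ[A] (A ⧸ Ia),
      ψ0 = Submodule.liftQ I (Submodule.mkQ Ia) hkerψ0 := ⟨_, rfl⟩
  have hNker : N ≤ LinearMap.ker ψ0 := by
    rw [hN]
    rintro _ ⟨z, rfl⟩
    obtain ⟨r, rfl⟩ := Submodule.mkQ_surjective Ib z
    show ψ0 (f (Submodule.mkQ Ib r)) = 0
    rw [hf, Submodule.mkQ_apply, Submodule.liftQ_apply, hφ, hψ0, Submodule.liftQ_apply,
      Submodule.mkQ_apply, Submodule.Quotient.mk_eq_zero]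
    exact Ia.mul_mem_right r haIa
  have h3 : Module.length A (A ⧸ Ia) ≤ Module.length A ((A ⧸ I) ⧸ N) := by
    apply Module.length_le_of_surjective (Submodule.liftQ N ψ0 hNker)
    intro z
    obtain ⟨r, rfl⟩ := Submodule.mkQ_surjective Ia z
    refine ⟨N.mkQ (Submodule.mkQ I r), ?_⟩
    rw [Submodule.mkQ_apply, Submodule.liftQ_apply, hψ0, Submodule.mkQ_apply,
      Submodule.liftQ_apply]
  rw [h1, add_comm]
  exact add_le_add le_rfl h3

theorem length_mul_ge {A : Type*} [CommRing A] {n : ℕ} (y : Fin n → A) (k : Fin n) (a b : A)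
    (hnzd : ∀ r, a * r ∈ Ideal.span (y '' {i | i ≠ k}) → r ∈ Ideal.span (y '' {i | i ≠ k})) :
    Module.length A (A ⧸ Ideal.span (Set.range (Function.update y k a))) +
      Module.length A (A ⧸ Ideal.span (Set.range (Function.update y k b))) ≤
    Module.length A (A ⧸ Ideal.span (Set.range (Function.update y k (a * b)))) := by
  rw [span_update y k a, span_update y k b, span_update y k (a * b)]
  exact length_mul_ge_aux _ a b hnzd

theorem length_prod_ge {A : Type*} [CommRing A] {n : ℕ} (y : Fin n → A) (k : Fin n)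
    {ι : Type*} (s : Finset ι) (a : ι → A)
    (hnzd : ∀ j ∈ s, ∀ r, a j * r ∈ Ideal.span (y '' {i | i ≠ k}) →
      r ∈ Ideal.span (y '' {i | i ≠ k})) :
    ∑ j ∈ s, Module.length A (A ⧸ Ideal.span (Set.range (Function.update y k (a j)))) ≤
      Module.length A (A ⧸ Ideal.span (Set.range (Function.update y k (∏ j ∈ s, a j)))) := by
  classical
  induction s using Finset.induction_on with
  | empty =>
    rw [Finset.sum_empty]
    exact zero_le
  | @insert j s hj ih =>
    rw [Finset.prod_insert hj, Finset.sum_insert hj]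
    refine le_trans (add_le_add le_rfl
      (ih fun j' hj' => hnzd j' (Finset.mem_insert_of_mem hj'))) ?_
    exact length_mul_ge y k _ _ (hnzd j (Finset.mem_insert_self j s))

theorem ringKrullDim_quot_eq_zero {A : Type u} [CommRing A] [IsLocalRing A] (I : Ideal A)
    (hI : I ≤ maximalIdeal A) (hrad : maximalIdeal A ≤ I.radical) :
    ringKrullDim (A ⧸ I) = 0 := by
  have hItop : I ≠ ⊤ := fun h =>
    (maximalIdeal.isMaximal A).ne_top (top_le_iff.mp (h ▸ hI))
  haveI : Nontrivial (A ⧸ I) := Ideal.Quotient.nontrivial_iff.mpr hItop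
  apply le_antisymm _ ringKrullDim_nonneg_of_nontrivial
  have hK : Ring.KrullDimLE 0 (A ⧸ I) := by
    rw [Ring.krullDimLE_zero_iff]
    intro P hP
    have hQ : (P.comap (Ideal.Quotient.mk I)).IsPrime := Ideal.IsPrime.comap _
    have hIQ : I ≤ P.comap (Ideal.Quotient.mk I) := by
      intro x hx
      rw [Ideal.mem_comap, Ideal.Quotient.eq_zero_iff_mem.mpr hx]
      exact P.zero_mem
    have hmQ : maximalIdeal A ≤ P.comap (Ideal.Quotient.mk I) :=
      hrad.trans (hQ.radical_le_iff.mpr hIQ)
    have hQm : maximalIdeal A = P.comap (Ideal.Quotient.mk I) :=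
      (maximalIdeal.isMaximal A).eq_of_le hQ.ne_top hmQ
    have hPmap : Ideal.map (Ideal.Quotient.mk I) (P.comap (Ideal.Quotient.mk I)) = P :=
      Ideal.map_comap_of_surjective _ Ideal.Quotient.mk_surjective P
    rcases Ideal.map_eq_top_or_isMaximal_of_surjective (Ideal.Quotient.mk I)
      Ideal.Quotient.mk_surjective (hQm ▸ maximalIdeal.isMaximal A) with h | h
    · rw [hPmap] at h
      exact absurd h hP.ne_top
    · rw [hPmap] at h
      exact h
  have := Ring.krullDimLE_iff.mp hK
  exact this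

theorem nzd_of_sop {A : Type u} [CommRing A] [IsRegularLocalRing A] {n : ℕ}
    (hn : ringKrullDim A = n) (y : Fin n → A) (k : Fin n)
    (hmem : ∀ i, y i ∈ maximalIdeal A)
    (hrad : maximalIdeal A ≤ (Ideal.span (Set.range y)).radical) :
    ∀ r, y k * r ∈ Ideal.span (y '' {i | i ≠ k}) → r ∈ Ideal.span (y '' {i | i ≠ k}) := by
  classical
  obtain ⟨m, rfl⟩ : ∃ m, n = m + 1 := ⟨n - 1, by have := k.2; omega⟩
  obtain ⟨l, hl⟩ : ∃ l : List A, l = List.ofFn (fun j : Fin m => y (k.succAbove j)) := ⟨_, rfl⟩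
  have hlmem : ∀ x, x ∈ l ↔ ∃ j : Fin m, y (k.succAbove j) = x := by
    intro x
    rw [hl, List.mem_ofFn]
  have hlJ : Ideal.ofList l = Ideal.span (y '' {i | i ≠ k}) := by
    apply le_antisymm
    · show Ideal.span {x | x ∈ l} ≤ _
      rw [Ideal.span_le]
      intro x hx
      obtain ⟨j, rfl⟩ := (hlmem x).mp hx
      exact Ideal.subset_span ⟨k.succAbove j, Fin.succAbove_ne k j, rfl⟩
    · rw [Ideal.span_le]
      rintro _ ⟨i, hik, rfl⟩
      obtain ⟨j, rfl⟩ := Fin.exists_succAbove_eq hik
      exact Ideal.subset_span ((hlmem _).mpr ⟨j, rfl⟩)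
  have hxs_mem : ∀ x ∈ l ++ [y k], x ∈ maximalIdeal A := by
    intro x hx
    rcases List.mem_append.mp hx with h | h
    · obtain ⟨j, rfl⟩ := (hlmem x).mp h
      exact hmem _
    · rw [List.mem_singleton] at h
      rw [h]
      exact hmem k
  have hxs_span : Ideal.ofList (l ++ [y k]) = Ideal.span (Set.range y) := by
    rw [Ideal.ofList_append, Ideal.ofList_singleton, hlJ]
    have := span_update y k (y k)
    rw [Function.update_eq_self] at this
    exact this.symm
  have hdim0 : ringKrullDim (A ⧸ Ideal.ofList (l ++ [y k])) = 0 := by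
    rw [hxs_span]
    refine ringKrullDim_quot_eq_zero _ (Ideal.span_le.mpr ?_) hrad
    rintro _ ⟨i, rfl⟩
    exact hmem i
  have hlen : (l ++ [y k]).length = m + 1 := by
    rw [List.length_append, hl, List.length_ofFn, List.length_singleton]
  have hdim : ringKrullDim (A ⧸ Ideal.ofList (l ++ [y k])) +
      (((l ++ [y k]).length : ℕ) : WithBot ℕ∞) = ringKrullDim A := by
    rw [hdim0, zero_add, hlen, hn]
  have hreg := Groth.Agent.Lib.helper17.CIField.isRegular_of_dim_quot A (l ++ [y k]) hxs_mem hdim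
  have hw := ((isWeaklyRegular_append_iff A l [y k]).mp hreg.toIsWeaklyRegular).2
  have hsm : IsSMulRegular (A ⧸ (Ideal.ofList l • ⊤ : Submodule A A)) (y k) :=
    ((isWeaklyRegular_cons_iff _ (y k) []).mp hw).1
  have hsub : (Ideal.ofList l • ⊤ : Submodule A A) = Ideal.ofList l := by
    rw [smul_eq_mul, Ideal.mul_top]
  intro r hr
  rw [← hlJ] at hr ⊢
  have h0 : (y k) • (Submodule.Quotient.mk r : A ⧸ (Ideal.ofList l • ⊤ : Submodule A A)) =
      (y k) • (0 : A ⧸ (Ideal.ofList l • ⊤ : Submodule A A)) := by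
    rw [smul_zero, ← Submodule.Quotient.mk_smul, Submodule.Quotient.mk_eq_zero, hsub, smul_eq_mul]
    exact hr
  have h1 := hsm h0
  rw [Submodule.Quotient.mk_eq_zero, hsub] at h1
  exact h1

theorem smul_mem_max {A : Type u} [CommRing A] [IsLocalRing A] {G : Type v} [Group G]
    [MulSemiringAction G A] (σ : G) (x : A) (hx : x ∈ maximalIdeal A) :
    σ • x ∈ maximalIdeal A := by
  rw [IsLocalRing.mem_maximalIdeal, mem_nonunits_iff] at hx ⊢
  intro h
  apply hx
  have h2 := h.map (MulSemiringAction.toRingHom G A σ⁻¹)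
  rw [MulSemiringAction.toRingHom_apply, inv_smul_smul] at h2
  exact h2

theorem mixed_props {A : Type u} [CommRing A] [IsLocalRing A] {G : Type v} [Group G] [Fintype G]
    [MulSemiringAction G A] {n : ℕ} (u : Fin n → A)
    (hu : Ideal.span (Set.range u) = maximalIdeal A)
    (hwa : ∀ τ : Fin n → G,
      maximalIdeal A ≤ (Ideal.span (Set.range fun i => τ i • u i)).radical)
    (k : ℕ) (τ : Fin n → G) :
    (∀ i : Fin n, (if (i : ℕ) < k then τ i • u i else ∏ σ : G, σ • u i) ∈ maximalIdeal A) ∧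
    maximalIdeal A ≤ (Ideal.span (Set.range fun i : Fin n =>
      if (i : ℕ) < k then τ i • u i else ∏ σ : G, σ • u i)).radical := by
  have hum : ∀ i, u i ∈ maximalIdeal A := by
    intro i
    rw [← hu]
    exact Ideal.subset_span ⟨i, rfl⟩
  constructor
  · intro i
    by_cases h : (i : ℕ) < k
    · rw [if_pos h]
      exact smul_mem_max _ _ (hum i)
    · rw [if_neg h]
      obtain ⟨c, hc⟩ := Finset.dvd_prod_of_mem (fun σ : G => σ • u i) (Finset.mem_univ (1 : G))
      rw [hc]
      exact Ideal.mul_mem_right _ _ (smul_mem_max 1 _ (hum i))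
  · rw [Ideal.radical_eq_sInf]
    apply le_sInf
    rintro P ⟨hIP, hP⟩
    haveI := hP
    have hex : ∀ i : Fin n, ∃ σ : G, σ • u i ∈ P := by
      intro i
      have hyi : (if (i : ℕ) < k then τ i • u i else ∏ σ : G, σ • u i) ∈ P :=
        hIP (Ideal.subset_span ⟨i, rfl⟩)
      by_cases h : (i : ℕ) < k
      · rw [if_pos h] at hyi
        exact ⟨τ i, hyi⟩
      · rw [if_neg h] at hyi
        obtain ⟨σ, _, hσ⟩ := Ideal.IsPrime.prod_mem_iff.mp hyi
        exact ⟨σ, hσ⟩
    choose τ' hτ' using hex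
    have h1 : Ideal.span (Set.range fun i => τ' i • u i) ≤ P := by
      rw [Ideal.span_le]
      rintro _ ⟨i, rfl⟩
      exact hτ' i
    exact (hwa τ').trans (hP.radical_le_iff.mpr h1)


/-- Let `A` be a regular local ring of Krull dimension `n` with maximal ideal `m` generated by `u_1, …,
u_n`, let a finite group `G` of order `g` act on `A` by ring automorphisms, and suppose `u` is
weakly admissible: for every choice `σ_1, …, σ_n ∈ G` the radical of `(σ_1 u_1, …, σ_n u_n)`
contains `m`. With `x_i = ∏_{σ ∈ G} σ u_i` the norms, the length of `A / (x_1, …, x_n)` is at least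
`g ^ n` (so the finite flat map from `k[[x_1, …, x_n]]` has degree at least `g ^ n`). (The published
statement is for a complete regular local ring containing a `G`-fixed field of representatives; this
row does not assume those.) -/
theorem result
    (A : Type u) [CommRing A] [IsRegularLocalRing A]
    (G : Type v) [Group G] [Fintype G] [MulSemiringAction G A]
    (n : ℕ) (hn : ringKrullDim A = n) (u : Fin n → A)
    (hu : Ideal.span (Set.range u) = IsLocalRing.maximalIdeal A)
    (hwa : ∀ τ : Fin n → G,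
      IsLocalRing.maximalIdeal A ≤ (Ideal.span (Set.range fun i => τ i • u i)).radical) :
    ((Fintype.card G ^ n : ℕ) : ℕ∞) ≤
      Module.length A (A ⧸ Ideal.span (Set.range fun i => ∏ σ : G, σ • u i)) := by
  classical
  have key : ∀ j : ℕ, ∀ k : ℕ, k + j = n → ∀ τ : Fin n → G,
      ((Fintype.card G ^ j : ℕ) : ℕ∞) ≤
      Module.length A (A ⧸ Ideal.span (Set.range (fun i : Fin n =>
        if (i : ℕ) < k then τ i • u i else ∏ σ : G, σ • u i))) := by
    intro j
    induction j with
    | zero =>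
      intro k hk τ
      have hle := (mixed_props u hu hwa k τ).1
      have hle' : Ideal.span (Set.range (fun i : Fin n =>
          if (i : ℕ) < k then τ i • u i else ∏ σ : G, σ • u i)) ≤ IsLocalRing.maximalIdeal A := by
        rw [Ideal.span_le]
        rintro _ ⟨i, rfl⟩
        exact hle i
      haveI : Nontrivial (A ⧸ Ideal.span (Set.range (fun i : Fin n =>
          if (i : ℕ) < k then τ i • u i else ∏ σ : G, σ • u i))) :=
        Ideal.Quotient.nontrivial_iff.mpr (fun h =>
          (IsLocalRing.maximalIdeal.isMaximal A).ne_top (top_le_iff.mp (h ▸ hle')))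
      rw [pow_zero, Nat.cast_one]
      exact Order.one_le_iff_pos.mpr Module.length_pos
    | succ j ih =>
      intro k hk τ
      have hkn : k < n := by omega
      obtain ⟨y', hy'⟩ : ∃ y' : Fin n → A, y' = fun i : Fin n =>
          if (i : ℕ) < k + 1 then τ i • u i else ∏ σ : G, σ • u i := ⟨_, rfl⟩
      have hy'i : ∀ i : Fin n, y' i =
          if (i : ℕ) < k + 1 then τ i • u i else ∏ σ : G, σ • u i := fun i => by rw [hy']
      have h1 : (fun i : Fin n => if (i : ℕ) < k then τ i • u i else ∏ σ : G, σ • u i)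
          = Function.update y' ⟨k, hkn⟩ (∏ σ : G, σ • u ⟨k, hkn⟩) := by
        funext i
        by_cases hik : i = ⟨k, hkn⟩
        · rw [hik, Function.update_self, if_neg (by simp)]
        · rw [Function.update_of_ne hik, hy'i]
          have hne : (i : ℕ) ≠ k := fun h => hik (Fin.ext h)
          by_cases hlt : (i : ℕ) < k
          · rw [if_pos hlt, if_pos (by omega)]
          · rw [if_neg hlt, if_neg (by omega)]
      have h2 : ∀ σ : G, Function.update y' ⟨k, hkn⟩ (σ • u ⟨k, hkn⟩)
          = fun i : Fin n => if (i : ℕ) < k + 1 then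
            (Function.update τ ⟨k, hkn⟩ σ) i • u i else ∏ σ : G, σ • u i := by
        intro σ
        funext i
        by_cases hik : i = ⟨k, hkn⟩
        · rw [hik, Function.update_self, if_pos (by simp), Function.update_self]
        · rw [Function.update_of_ne hik, hy'i, Function.update_of_ne hik]
      have himg : ∀ c : A, (Function.update y' ⟨k, hkn⟩ c) '' {i | i ≠ ⟨k, hkn⟩} =
          y' '' {i | i ≠ ⟨k, hkn⟩} := fun c =>
        Set.image_congr (fun i hi => Function.update_of_ne hi c y')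
      have hnzd : ∀ σ ∈ (Finset.univ : Finset G), ∀ r,
          (σ • u ⟨k, hkn⟩) * r ∈ Ideal.span (y' '' {i | i ≠ ⟨k, hkn⟩}) →
          r ∈ Ideal.span (y' '' {i | i ≠ ⟨k, hkn⟩}) := by
        intro σ _
        have hp := mixed_props u hu hwa (k + 1) (Function.update τ ⟨k, hkn⟩ σ)
        rw [← h2 σ] at hp
        have h3 := nzd_of_sop hn (Function.update y' ⟨k, hkn⟩ (σ • u ⟨k, hkn⟩)) ⟨k, hkn⟩
          (fun i => by
            have := hp.1 i
            rw [h2 σ]
            exact this) hp.2
        rw [Function.update_self, himg] at h3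
        exact h3
      rw [h1]
      calc ((Fintype.card G ^ (j + 1) : ℕ) : ℕ∞)
          = ∑ _σ : G, ((Fintype.card G ^ j : ℕ) : ℕ∞) := by
            rw [Finset.sum_const, Finset.card_univ, nsmul_eq_mul, pow_succ', Nat.cast_mul]
        _ ≤ ∑ σ : G, Module.length A (A ⧸ Ideal.span (Set.range
            (Function.update y' ⟨k, hkn⟩ (σ • u ⟨k, hkn⟩)))) := by
            apply Finset.sum_le_sum
            intro σ _
            rw [h2 σ]
            exact ih (k + 1) (by omega) (Function.update τ ⟨k, hkn⟩ σ)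
        _ ≤ Module.length A (A ⧸ Ideal.span (Set.range
            (Function.update y' ⟨k, hkn⟩ (∏ σ : G, σ • u ⟨k, hkn⟩)))) :=
            length_prod_ge y' ⟨k, hkn⟩ Finset.univ (fun σ => σ • u ⟨k, hkn⟩) hnzd
  have h0 := key n 0 (by omega) (fun _ => 1)
  have hfun : (fun i : Fin n => if (i : ℕ) < 0 then (fun _ => (1 : G)) i • u i
      else ∏ σ : G, σ • u i) = fun i => ∏ σ : G, σ • u i := by
    funext i
    rw [if_neg (Nat.not_lt_zero _)]
  rw [hfun] at h0
  exact h0


end Groth.Agent.S15797
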