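import Groth.Statements.S15799
import Groth.Agent.Lib.Helper22.NormSub
import Groth.Agent.Lib.Helper22.SepSub

set_option autoImplicit false
universe u v w
open WildQuot

namespace Groth.Agent.S15799

/-- Let `A` be a complete regular local ring of Krull dimension `n ≥ 2` and prime characteristic `p`,
`k` a field with `k → A` mapping onto the residue field, and `G` a group of order `p` acting on `A`
by `k`-algebra automorphisms, ramified precisely at the origin (for every non-maximal prime `P`, the
inertia subgroup of `P` (the elements of `G` fixing every element modulo `P`) is trivial). Let `u_1,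
…, u_n` be an admissible regular system of parameters (for every choice `σ_1, …, σ_n ∈ G`, the
elements `σ_i u_i` generate the maximal ideal) and let `φ : k[[X_1, …, X_n]] → A` be the `k`-algebra
map with `φ X_i = x_i = ∏_{σ} σ u_i`, whose image is the norm subring `R`. Then `Frac(A^G)` is not
purely inseparable over `Frac(R)`; equivalently (as `A` is integral over the integrally closed `R`),
some `G`-invariant `y ∈ A` has no iterated `p`-th power `y ^ (p ^ e)` in `R`. -/
theorem result
    (p : ℕ) [Fact p.Prime] (A : Type u) [CommRing A] [IsRegularLocalRing A] [CharP A p]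
    [IsAdicComplete (IsLocalRing.maximalIdeal A) A] (n : ℕ) (hn : ringKrullDim A = n) (h2 : 2 ≤ n)
    (k : Type v) [Field k] [Algebra k A]
    (hk : Function.Surjective (IsLocalRing.residue A ∘ algebraMap k A))
    (G : Type w) [Group G] [Fintype G] [MulSemiringAction G A] (hcard : Fintype.card G = p)
    [SMulCommClass G k A]
    (hram : ∀ P : Ideal A, P.IsPrime → P ≠ IsLocalRing.maximalIdeal A → P.inertia G = ⊥)
    (u : Fin n → A)
    (hu : ∀ τ : Fin n → G,
      Ideal.span (Set.range fun i => τ i • u i) = IsLocalRing.maximalIdeal A)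
    (φ : MvPowerSeries (Fin n) k →ₐ[k] A) (hφ : ∀ i, φ (MvPowerSeries.X i) = ∏ σ : G, σ • u i) :
    ∃ y : A, (∀ σ : G, σ • y = y) ∧ ∀ e : ℕ, y ^ p ^ e ∉ Set.range φ := by
  classical
  open Groth.Agent.Lib.helper22 in
  haveI : IsDomain A := Groth.Agent.Lib.helper15.isDomain_of_isRegularLocalRing _
  haveI : IsIntegrallyClosed A := Groth.Agent.Lib.helper26.RegNormal.isIntegrallyClosed A
  haveI hreg := Groth.Agent.LibObs29.isRegularLocalRing_mvPowerSeries k n
  have hum : ∀ i, u i ∈ IsLocalRing.maximalIdeal A :=
    NormSub.mem_maximalIdeal_of_admissible u hu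
  have hxm : ∀ i, (∏ σ : G, σ • u i) ∈ IsLocalRing.maximalIdeal A :=
    fun i => NormSub.norm_mem_maximalIdeal (hum i)
  obtain ⟨N, hN⟩ := NormSub.exists_pow_le_span_norm u hu
  have hfin := PSNorm.ps_finite_of_primary A k hk n _ hxm N hN φ hφ
  have hinj := PSNorm.ps_injective_of_primary A k hk n _ hxm N hN φ hφ hn
  have hfix : ∀ (g : MvPowerSeries (Fin n) k) (σ : G), σ • φ g = φ g :=
    NormSub.smul_ps_eq' φ (fun i => by rw [hφ]; exact hxm i)
      (fun i σ => by rw [hφ]; exact NormSub.smul_norm _ σ)
  letI : Algebra (MvPowerSeries (Fin n) k) A := φ.toRingHom.toAlgebra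
  haveI : Module.Finite (MvPowerSeries (Fin n) k) A := hfin
  haveI : SMulCommClass G (MvPowerSeries (Fin n) k) A := by
    refine ⟨fun σ r a => ?_⟩
    show σ • (φ r * a) = φ r * σ • a
    rw [smul_mul', hfix]
  have hres : Function.Surjective (IsLocalRing.residue A ∘
      algebraMap (MvPowerSeries (Fin n) k) A) := by
    intro z
    obtain ⟨c, hc⟩ := hk z
    refine ⟨MvPowerSeries.C c, ?_⟩
    rw [← hc]
    show IsLocalRing.residue A (φ (MvPowerSeries.C c)) = _
    congr 1
    exact φ.commutes c
  haveI : Nontrivial G := by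
    rw [← Fintype.one_lt_card_iff_nontrivial, hcard]
    exact (Fact.out : p.Prime).one_lt
  have hram' : ∀ P : Ideal A, P.IsPrime → P.height ≤ 1 → P.inertia G = ⊥ := by
    intro P hP hht
    apply hram P hP
    rintro rfl
    have h1 : ((IsLocalRing.maximalIdeal A).height : WithBot ℕ∞) = ringKrullDim A :=
      IsLocalRing.maximalIdeal_height_eq_ringKrullDim
    rw [hn] at h1
    have h3 : (IsLocalRing.maximalIdeal A).height = (n : ℕ∞) := by exact_mod_cast h1
    rw [h3] at hht
    have h4 : n ≤ 1 := by exact_mod_cast hht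
    omega
  exact SepSub.exists_fixed_pow_notMem p (MvPowerSeries (Fin n) k) A G hinj hres hram'

end Groth.Agent.S15799
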