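import Groth.Statements.S15803
import Groth.Agent.Lib.Helper22.InertiaGen
import Groth.Agent.Lib.Helper22.GroupGen

set_option autoImplicit false
universe u v w
open WildQuot

namespace Groth.Agent.S15803

/-- Let `R` be a regular local ring and `A` a normal local domain, finite over `R` (with `R → A`
injective) and with the same residue field; let a finite group `H` act faithfully on `A` by
`R`-algebra automorphisms with ring of invariants exactly `R` (so `Frac(A)/Frac(R)` is Galois with
group `H`); let `p` be a prime and suppose that every nontrivial inertia subgroup of a height-one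
prime of `A` has order `p` and is normal in `H`. Then `H` is commutative and every element satisfies
`h ^ p = 1`: `H` is an elementary abelian `p`-group (of order the degree of `Frac(A)` over
`Frac(R)`). (The published statement is for `A` a complete regular local ring with an action
ramified precisely at the origin, `R = k[[x_1, …, x_n]]` a norm subring and `H` the Galois group of
`Frac(A)/Frac(R)`, when that extension is Galois; this row assumes only the hypotheses listed
above.) -/
theorem result
    (p : ℕ) [Fact p.Prime] (R : Type u) [CommRing R] [IsRegularLocalRing R]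
    (A : Type v) [CommRing A] [IsDomain A] [IsIntegrallyClosed A] [IsLocalRing A]
    [Algebra R A] [Module.Finite R A] (hinj : Function.Injective (algebraMap R A))
    (hres : Function.Surjective (IsLocalRing.residue A ∘ algebraMap R A))
    (H : Type w) [Group H] [Finite H] [MulSemiringAction H A] [SMulCommClass H R A] [FaithfulSMul H A]
    (hfix : ∀ a : A, (∀ h : H, h • a = a) → a ∈ Set.range (algebraMap R A))
    (hMR2 : ∀ P : Ideal A, P.IsPrime → P.height = 1 → P.inertia H ≠ ⊥ →
      Nat.card (P.inertia H) = p ∧ (P.inertia H).Normal) :
    (∀ g h : H, g * h = h * g) ∧ ∀ h : H, h ^ p = 1 := by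
  have hgen := Groth.Agent.Lib.helper22.InertiaGen.iSup_inertia_heightOne_eq_top R A hinj hres H hfix
  have hcomm : ∀ g h : H, g * h = h * g :=
    Groth.Agent.Lib.helper22.GroupGen.comm_of_iSup_eq_top p
      (fun P : {P : Ideal A // P.IsPrime ∧ P.height = 1} => P.1.inertia H) hgen
      (fun P hP => hMR2 P.1 P.2.1 P.2.2 hP)
  refine ⟨hcomm, ?_⟩
  exact Groth.Agent.Lib.helper22.GroupGen.pow_eq_one_of_iSup_eq_top p
    (fun P : {P : Ideal A // P.IsPrime ∧ P.height = 1} => P.1.inertia H) hgen hcomm
    (fun P hP => (hMR2 P.1 P.2.1 P.2.2 hP).1)

end Groth.Agent.S15803
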