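import Groth.Statements.S15805
import Groth.Agent.Lib.Helper22.FrobForm
import Groth.Agent.Lib.Helper22.SkewSym
import Groth.Agent.Lib.Helper22.ASFam

set_option autoImplicit false
universe u v
open WildQuot

namespace Groth.Agent.S15805

open Groth.Agent.Lib.helper22 in
/-- the statement for a quotient by an ideal equal to a separated-relations ideal -/
theorem aux {R : Type u} [CommRing R] {n : ℕ} (f : Fin n → Polynomial R) (hmonic : ∀ i, (f i).Monic)
    (p : ℕ) (hdeg : ∀ i, (f i).natDegree = p) (hp2 : 2 ≤ p) (α x a : Fin n → R)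
    (hrel : ∀ i, (FrobForm.uu f i) ^ p =
      algebraMap R (MvPolynomial (Fin n) R ⧸ SepMonic.relIdeal f) (α i) * FrobForm.uu f i +
      algebraMap R (MvPolynomial (Fin n) R ⧸ SepMonic.relIdeal f) (x i))
    (J : Ideal (MvPolynomial (Fin n) R)) (hJ : J = SepMonic.relIdeal f) :
    ∀ (G : Type v) [Group G] [Finite G]
      [MulSemiringAction G (MvPolynomial (Fin n) R ⧸ J)]
      [SMulCommClass G R (MvPolynomial (Fin n) R ⧸ J)]
      (g : G), (∀ h : G, h ∈ Subgroup.zpowers g) →
      (∀ i, g • (Ideal.Quotient.mk J (MvPolynomial.X i)) = Ideal.Quotient.mk J (MvPolynomial.X i) +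
        algebraMap R (MvPolynomial (Fin n) R ⧸ J) (a i)) →
      ∃ φ : SkewMonoidAlgebra (MvPolynomial (Fin n) R ⧸ J) G →ₗ[R] R,
        (∀ x y : SkewMonoidAlgebra (MvPolynomial (Fin n) R ⧸ J) G,
          φ (x * y) = φ (y * x)) ∧
        Function.Injective (fun y : SkewMonoidAlgebra (MvPolynomial (Fin n) R ⧸ J) G =>
          fun x : SkewMonoidAlgebra (MvPolynomial (Fin n) R ⧸ J) G => φ (x * y)) ∧
        ∀ ψ : SkewMonoidAlgebra (MvPolynomial (Fin n) R ⧸ J) G →ₗ[R] R,
          ∃ y : SkewMonoidAlgebra (MvPolynomial (Fin n) R ⧸ J) G,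
            ∀ x, ψ x = φ (x * y) := by
  subst hJ
  intro G _ _ _ _ g hgen hg
  -- every element of `G` acts by a translation
  have htrans : ∀ h : G, ∃ a' : Fin n → R, ∀ i,
      h • FrobForm.uu f i = FrobForm.uu f i +
        algebraMap R (MvPolynomial (Fin n) R ⧸ SepMonic.relIdeal f) (a' i) := by
    intro h
    have hh := hgen h
    rw [Subgroup.zpowers_eq_closure] at hh
    induction hh using Subgroup.closure_induction with
    | mem x hx =>
      rw [Set.mem_singleton_iff] at hx
      subst hx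
      exact ⟨a, hg⟩
    | one => exact ⟨0, fun i => by rw [one_smul, Pi.zero_apply, map_zero, add_zero]⟩
    | mul x y _ _ hx hy =>
      obtain ⟨a1, h1⟩ := hx
      obtain ⟨a2, h2⟩ := hy
      refine ⟨a1 + a2, fun i => ?_⟩
      have e1 : (x * y) • FrobForm.uu f i = x • (y • FrobForm.uu f i) := mul_smul x y _
      have e2 : x • (FrobForm.uu f i +
          algebraMap R (MvPolynomial (Fin n) R ⧸ SepMonic.relIdeal f) (a2 i)) =
          x • FrobForm.uu f i +
            x • algebraMap R (MvPolynomial (Fin n) R ⧸ SepMonic.relIdeal f) (a2 i) :=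
        smul_add x _ _
      have e3 : x • algebraMap R (MvPolynomial (Fin n) R ⧸ SepMonic.relIdeal f) (a2 i) =
          algebraMap R (MvPolynomial (Fin n) R ⧸ SepMonic.relIdeal f) (a2 i) :=
        smul_algebraMap x (a2 i)
      rw [e1, h2, e2, h1, e3, Pi.add_apply, map_add]
      ring
    | inv x _ hx =>
      obtain ⟨a1, h1⟩ := hx
      refine ⟨-a1, fun i => ?_⟩
      have e1 : x⁻¹ • (x • FrobForm.uu f i) = FrobForm.uu f i := inv_smul_smul x _
      have e2 : x⁻¹ • (FrobForm.uu f i +
          algebraMap R (MvPolynomial (Fin n) R ⧸ SepMonic.relIdeal f) (a1 i)) =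
          x⁻¹ • FrobForm.uu f i +
            x⁻¹ • algebraMap R (MvPolynomial (Fin n) R ⧸ SepMonic.relIdeal f) (a1 i) :=
        smul_add x⁻¹ _ _
      have e3 : x⁻¹ • algebraMap R (MvPolynomial (Fin n) R ⧸ SepMonic.relIdeal f) (a1 i) =
          algebraMap R (MvPolynomial (Fin n) R ⧸ SepMonic.relIdeal f) (a1 i) :=
        smul_algebraMap x⁻¹ (a1 i)
      rw [h1, e2, e3] at e1
      rw [Pi.neg_apply, map_neg]
      linear_combination e1
  apply SkewSym.symmetric (FrobForm.lam f hmonic p hdeg hp2)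
  · intro h y
    obtain ⟨a', ha'⟩ := htrans h
    exact FrobForm.lam_invariant f hmonic p hdeg hp2
      (MulSemiringAction.toAlgHom R _ h) a' ha' y
  · exact FrobForm.lam_inj f hmonic p hdeg hp2 α x hrel
  · exact FrobForm.lam_surj f hmonic p hdeg hp2 α x hrel

open Groth.Agent.Lib.helper22 in
/-- the relations in the quotient by the separated-relations ideal -/
theorem rel_aux (p : ℕ) [Fact p.Prime] (k : Type u) [Field k] (n : ℕ)
    (a : Fin n → MvPowerSeries (Fin n) k) (i : Fin n) :
    (FrobForm.uu (ASFam.poly p k n a) i) ^ p =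
      algebraMap (MvPowerSeries (Fin n) k) (MvPolynomial (Fin n) (MvPowerSeries (Fin n) k) ⧸
        SepMonic.relIdeal (ASFam.poly p k n a)) (a i ^ (p - 1)) * FrobForm.uu (ASFam.poly p k n a) i +
      algebraMap (MvPowerSeries (Fin n) k) (MvPolynomial (Fin n) (MvPowerSeries (Fin n) k) ⧸
        SepMonic.relIdeal (ASFam.poly p k n a)) (MvPowerSeries.X i) := by
  have h1 : Ideal.Quotient.mk (SepMonic.relIdeal (ASFam.poly p k n a))
      (Polynomial.aeval (MvPolynomial.X i : MvPolynomial (Fin n) (MvPowerSeries (Fin n) k))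
        (ASFam.poly p k n a i)) = 0 :=
    Ideal.Quotient.eq_zero_iff_mem.mpr (Ideal.subset_span ⟨i, rfl⟩)
  simp only [ASFam.poly, map_sub, map_mul, map_pow, Polynomial.aeval_X, Polynomial.aeval_C,
    MvPolynomial.algebraMap_eq] at h1
  rw [sub_sub, sub_eq_zero] at h1
  rw [map_pow]
  exact h1

open MvPolynomial in
/-- Let `k` be a field of characteristic `p > 0`, `R = k[[x_1, …, x_n]]`, `a_1, …, a_n ∈ R` with zero
constant term and not all zero, and `A = R[u_1, …, u_n] / (u_i ^ p - a_i ^ (p-1) u_i - x_i : i =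
1..n)`. Let `G` be a group of order `p` acting on `A` by `R`-algebra automorphisms, generated by an
element `g` acting by `u_i ↦ u_i + a_i`. Then the skew group ring `A∗G` (free `A`-module on `G` with
`(a g)(b h) = a g(b) gh`) is a symmetric `R`-algebra: there is an `R`-linear form `φ : A∗G → R` with
`φ(xy) = φ(yx)` for all `x, y`, such that `y ↦ (x ↦ φ(x y))` is injective and reaches every
`R`-linear form on `A∗G` (so `Hom_R(A∗G, R) ≅ A∗G` as bimodules). -/
theorem result
    (p : ℕ) [Fact p.Prime] (k : Type u) [Field k] [CharP k p] (n : ℕ)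
    (a : Fin n → MvPowerSeries (Fin n) k)
    (ham : ∀ i, MvPowerSeries.constantCoeff (a i) = 0) (hne : ∃ i, a i ≠ 0) :
    let R := MvPowerSeries (Fin n) k
    let I : Ideal (MvPolynomial (Fin n) R) :=
      Ideal.span (Set.range fun i : Fin n =>
        X i ^ p - C (a i ^ (p - 1)) * X i - C (MvPowerSeries.X i))
    let A := MvPolynomial (Fin n) R ⧸ I
    ∀ (G : Type v) [Group G] [Finite G] [MulSemiringAction G A] [SMulCommClass G R A]
      (g : G), Nat.card G = p → (∀ h : G, h ∈ Subgroup.zpowers g) →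
      (∀ i, g • (Ideal.Quotient.mk I (X i)) = Ideal.Quotient.mk I (X i) + algebraMap R A (a i)) →
      ∃ φ : SkewMonoidAlgebra A G →ₗ[R] R,
        (∀ x y : SkewMonoidAlgebra A G, φ (x * y) = φ (y * x)) ∧
        Function.Injective (fun y : SkewMonoidAlgebra A G => fun x : SkewMonoidAlgebra A G => φ (x * y)) ∧
        ∀ ψ : SkewMonoidAlgebra A G →ₗ[R] R, ∃ y : SkewMonoidAlgebra A G, ∀ x, ψ x = φ (x * y) := by
  intro R I A G _ _ _ _ g hcard hgen hg
  exact aux (Groth.Agent.Lib.helper22.ASFam.poly p k n a)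
    (Groth.Agent.Lib.helper22.ASFam.poly_monic p k n a) p
    (Groth.Agent.Lib.helper22.ASFam.poly_natDegree p k n a) (Fact.out : p.Prime).two_le
    (fun i => a i ^ (p - 1)) (fun i => MvPowerSeries.X i) a (rel_aux p k n a) I
    (Groth.Agent.Lib.helper22.ASFam.asIdeal_eq p k n a) G g hgen hg

end Groth.Agent.S15805
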