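import Groth.Statements.S15806
import Mathlib
import Groth.Agent.S14271
-- import your own Groth.Agent.* helpers here

set_option autoImplicit false
universe u
open CategoryTheory AlgebraicGeometry
open WildQuot

namespace Groth.Agent.S15806

/-- Let `S` be a Noetherian scheme, `G_1 → S` and `G_2 → S` finite flat morphisms, and `U ⊆ S` an open
subset containing every associated point of `S`, i.e. every point whose local ring has the maximal
ideal as an associated prime (for `S` Noetherian this says exactly that `U` is dense and contains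
all points at which `S` does not satisfy Serre's condition `S_1`, which is the printed hypothesis).
If two `S`-morphisms `φ, ψ : G_1 → G_2` agree on the preimage of `U`, then `φ = ψ`. -/
theorem result
    (S G₁ G₂ : Scheme.{u}) [AlgebraicGeometry.IsNoetherian S] (f₁ : G₁ ⟶ S) (f₂ : G₂ ⟶ S)
    [AlgebraicGeometry.IsFinite f₁] [AlgebraicGeometry.Flat f₁]
    [AlgebraicGeometry.IsFinite f₂] [AlgebraicGeometry.Flat f₂]
    (U : S.Opens)
    (hU : ∀ s : S, IsLocalRing.maximalIdeal (S.presheaf.stalk s) ∈
        associatedPrimes (S.presheaf.stalk s) (S.presheaf.stalk s) → s ∈ U)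
    (φ ψ : G₁ ⟶ G₂) (hφ : φ ≫ f₂ = f₁) (hψ : ψ ≫ f₂ = f₁)
    (h : (f₁ ⁻¹ᵁ U).ι ≫ φ = (f₁ ⁻¹ᵁ U).ι ≫ ψ) : φ = ψ := by
  classical
  haveI : IsLocallyNoetherian G₁ := LocallyOfFiniteType.isLocallyNoetherian f₁
  have hZ : ∀ z : G₁, z ∉ (f₁ ⁻¹ᵁ U) →
      ∃ a ∈ IsLocalRing.maximalIdeal (G₁.presheaf.stalk z),
        IsSMulRegular (G₁.presheaf.stalk z) a := by
    intro z hz
    have hs : f₁ z ∉ U := hz
    have hnot : IsLocalRing.maximalIdeal (S.presheaf.stalk (f₁ z)) ∉
        associatedPrimes (S.presheaf.stalk (f₁ z)) (S.presheaf.stalk (f₁ z)) :=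
      fun h => hs (hU _ h)
    obtain ⟨a, ha, hreg⟩ : ∃ a ∈ IsLocalRing.maximalIdeal (S.presheaf.stalk (f₁ z)),
        IsSMulRegular (S.presheaf.stalk (f₁ z)) a := by
      by_contra hcon
      push_neg at hcon
      apply hnot
      rw [← Ideal.subset_iUnion_iff_mem_of_isMaximal_of_finite
        (associatedPrimes.finite (S.presheaf.stalk (f₁ z)) (S.presheaf.stalk (f₁ z))) ⊥ ⊥
        (fun I hI _ _ => IsAssociatedPrime.isPrime hI) bot_ne_top bot_ne_top]
      intro r hr
      rw [biUnion_associatedPrimes_eq_compl_nonZeroDivisors]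
      intro hnz
      exact hcon r hr (isRegular_iff_mem_nonZeroDivisors.2 hnz).left.isSMulRegular
    letI : Algebra (S.presheaf.stalk (f₁ z)) (G₁.presheaf.stalk z) :=
      (f₁.stalkMap z).hom.toAlgebra
    haveI : Module.Flat (S.presheaf.stalk (f₁ z)) (G₁.presheaf.stalk z) :=
      AlgebraicGeometry.Flat.stalkMap f₁ z
    refine ⟨(f₁.stalkMap z).hom a, ?_, ?_⟩
    · rw [IsLocalRing.mem_maximalIdeal, mem_nonunits_iff] at ha ⊢
      intro hu
      exact ha (isUnit_of_map_unit (f₁.stalkMap z).hom a hu)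
    · have h1 : RingTheory.Sequence.IsWeaklyRegular (S.presheaf.stalk (f₁ z)) [a] := by
        rw [RingTheory.Sequence.isWeaklyRegular_cons_iff]
        exact ⟨hreg, RingTheory.Sequence.IsWeaklyRegular.nil _ _⟩
      have h2 := RingTheory.Sequence.IsWeaklyRegular.of_flat (S := G₁.presheaf.stalk z) h1
      rw [List.map_cons, RingTheory.Sequence.isWeaklyRegular_cons_iff] at h2
      exact h2.1
  have key := Groth.Agent.S14271.result G₁ (f₁ ⁻¹ᵁ U) hZ (Limits.pullback f₁ f₂)
    (Limits.pullback.fst f₁ f₂)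
    (Limits.pullback.lift (𝟙 G₁) φ (by rw [Category.id_comp, hφ]))
    (Limits.pullback.lift (𝟙 G₁) ψ (by rw [Category.id_comp, hψ]))
    (Limits.pullback.lift_fst _ _ _) (Limits.pullback.lift_fst _ _ _) (by
      apply Limits.pullback.hom_ext
      · simp only [Category.assoc, Limits.pullback.lift_fst]
      · simp only [Category.assoc, Limits.pullback.lift_snd]
        exact h)
  have := congrArg (fun s => s ≫ Limits.pullback.snd f₁ f₂) key
  simpa only [Limits.pullback.lift_snd] using this

end Groth.Agent.S15806
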