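import Groth.Statements.S15807
import Groth.Agent.Lib.Helper22.MinorCI
import Groth.Agent.Lib.Helper22.ASFam

set_option autoImplicit false
universe u
open WildQuot

namespace Groth.Agent.S15807

open Groth.Agent.Lib.helper22 in
/-- `a i ≠ 0` from the coprimality hypotheses -/
theorem a_ne_zero {k : Type u} [Field k] (n : ℕ) (hn : 2 ≤ n)
    (a : Fin n → MvPowerSeries (Fin n) k)
    (ham : ∀ i, MvPowerSeries.constantCoeff (a i) = 0) (hcop : ∀ i j, i ≠ j → IsRelPrime (a i) (a j))
    (i : Fin n) : a i ≠ 0 := by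
  intro h0
  obtain ⟨j, hj⟩ : ∃ j : Fin n, j ≠ i := by
    by_contra hcon
    rw [not_exists] at hcon
    have : ∀ j : Fin n, j = i := fun j => not_not.mp (hcon j)
    have h01 : (⟨0, by omega⟩ : Fin n) = ⟨1, by omega⟩ := (this _).trans (this _).symm
    simp at h01
  have h1 := hcop j i hj
  rw [h0] at h1
  have hu : IsUnit (a j) := h1 (dvd_refl _) (dvd_zero _)
  rw [MvPowerSeries.isUnit_iff_constantCoeff, ham j] at hu
  exact not_isUnit_zero hu

open Groth.Agent.Lib.helper22 in
/-- the statement for the Artin–Schreier family ring `ASFam.A` -/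
theorem aux (p : ℕ) [Fact p.Prime] (k : Type u) [Field k] [CharP k p] (n : ℕ)
    (a : Fin n → MvPowerSeries (Fin n) k) (μ : MvPowerSeries (Fin n) k)
    (ham : ∀ i, MvPowerSeries.constantCoeff (a i) = 0)
    (i₀ : Fin n) (ha0 : a i₀ ≠ 0) :
    RingHom.ker (MvPolynomial.aeval (MinorCI.z a i₀ (ASFam.uu p k n (fun i => μ * a i))) :
      MvPolynomial {j : Fin n // j ≠ i₀} (MvPowerSeries (Fin n) k) →ₐ[MvPowerSeries (Fin n) k]
        ASFam.A p k n (fun i => μ * a i)) =
      MinorCI.ciIdeal p a μ (fun i => MvPowerSeries.X i) i₀ := by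
  have ham' : ∀ i, MvPowerSeries.constantCoeff (μ * a i) = 0 := by
    intro i; rw [map_mul, ham, mul_zero]
  have hinj := ASFam.algebraMap_injective p k n (fun i => μ * a i)
  haveI : CharP (ASFam.A p k n (fun i => μ * a i)) p :=
    charP_of_injective_ringHom (f := (algebraMap (MvPowerSeries (Fin n) k)
      (ASFam.A p k n (fun i => μ * a i))).comp
      (MvPowerSeries.C (σ := Fin n) (R := k)))
      (hinj.comp (MvPowerSeries.C_injective (σ := Fin n) (R := k))) p
  haveI := ASFam.finite p k n (fun i => μ * a i)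
  haveI : IsDomain (MvPowerSeries (Fin n) k) := NoZeroDivisors.to_isDomain _
  exact MinorCI.ker_aeval_eq p a μ (fun i => MvPowerSeries.X i) i₀
    (ASFam.uu p k n (fun i => μ * a i)) (ASFam.mk_X_pow p k n (fun i => μ * a i))
    (fun t => by
      obtain ⟨P, rfl⟩ := Ideal.Quotient.mk_surjective t
      exact ⟨P, ASFam.aeval_uu p k n _ P⟩)
    (ASFam.finrank_eq p k n _) ha0

open MvPolynomial in
/-- Let `k` be a field of characteristic `p > 0`, `n ≥ 3`, `R = k[[x_1, …, x_n]]`, `a_1, …, a_n ∈ R`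
with zero constant term and pairwise coprime, `μ ∈ R` nonzero and coprime to each `a_i`, and `A =
R[u_1, …, u_n] / (u_i ^ p - (μ a_i) ^ (p-1) u_i - x_i : i = 1..n)`. Fix an index `i₀`. Then the
`R`-algebra map `R[Z_j : j ≠ i₀] → A` sending `Z_j` to the minor element `z_j = a_{i₀} u_j - a_j
u_{i₀}` has kernel generated by the polynomials `Z_j ^ p - (μ a_{i₀} a_j) ^ (p-1) Z_j - (a_{i₀} ^ p
x_j - a_j ^ p x_{i₀})`; i.e. the complete intersection `R[Z_j] /` (these relations) maps
isomorphically onto the subring of `A` generated over `R` by the minor elements through `u_{i₀}`.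
(The published statement uses the first index for `i₀` and allows `n ≥ 2`; this row allows any index
`i₀` and takes `n ≥ 3`.) -/
theorem result
    (p : ℕ) [Fact p.Prime] (k : Type u) [Field k] [CharP k p] (n : ℕ) (hn : 3 ≤ n)
    (a : Fin n → MvPowerSeries (Fin n) k) (μ : MvPowerSeries (Fin n) k)
    (ham : ∀ i, MvPowerSeries.constantCoeff (a i) = 0) (hcop : ∀ i j, i ≠ j → IsRelPrime (a i) (a j))
    (hμ : μ ≠ 0) (hμa : ∀ i, IsRelPrime μ (a i)) (i₀ : Fin n) :
    let R := MvPowerSeries (Fin n) k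
    let I : Ideal (MvPolynomial (Fin n) R) :=
      Ideal.span (Set.range fun i : Fin n =>
        X i ^ p - C ((μ * a i) ^ (p - 1)) * X i - C (MvPowerSeries.X i))
    let A := MvPolynomial (Fin n) R ⧸ I
    let u : Fin n → A := fun i => Ideal.Quotient.mk I (X i)
    let z : {j : Fin n // j ≠ i₀} → A := fun j =>
      algebraMap R A (a i₀) * u j.1 - algebraMap R A (a j.1) * u i₀
    let r : {j : Fin n // j ≠ i₀} → MvPolynomial {j : Fin n // j ≠ i₀} R := fun j =>
      X j ^ p - C ((μ * a i₀ * a j.1) ^ (p - 1)) * X j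
        - C (a i₀ ^ p * MvPowerSeries.X j.1 - a j.1 ^ p * MvPowerSeries.X i₀)
    RingHom.ker (MvPolynomial.aeval z : MvPolynomial {j : Fin n // j ≠ i₀} R →ₐ[R] A) =
      Ideal.span (Set.range r) := by
  intro R I A u z r
  exact aux p k n a μ ham i₀ (a_ne_zero n (by omega) a ham hcop i₀)

end Groth.Agent.S15807
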