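import Groth.Statements.S19997
import Groth.Agent.Lib.Helper22.ASFam
import Groth.Agent.Lib.Helper22.MinorInv

set_option autoImplicit false
universe u
open WildQuot

namespace Groth.Agent.S19997

open Groth.Agent.Lib.helper22 in
/-- the statement for the Artin–Schreier family ring `ASFam.A` -/
theorem aux (p : ℕ) [Fact p.Prime] (k : Type u) [Field k] [CharP k p] (n : ℕ)
    (a b : Fin n → MvPowerSeries (Fin n) k) (μ : MvPowerSeries (Fin n) k)
    (hb : ∀ i, b i = μ * a i)
    (ham : ∀ i, MvPowerSeries.constantCoeff (a i) = 0)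
    (hμ : μ ≠ 0) (ha0 : ∀ i, a i ≠ 0) (i₀ : Fin n)
    (σ : ASFam.A p k n b ≃ₐ[MvPowerSeries (Fin n) k] ASFam.A p k n b)
    (hσ : ∀ i, σ (ASFam.uu p k n b i) = ASFam.uu p k n b i +
      algebraMap (MvPowerSeries (Fin n) k) (ASFam.A p k n b) (μ * a i))
    (t : ASFam.A p k n b) (ht : σ t = t) :
    ∃ N : ℕ, algebraMap (MvPowerSeries (Fin n) k) (ASFam.A p k n b) (μ * a i₀) ^ N * t ∈
      Algebra.adjoin (MvPowerSeries (Fin n) k) (Set.range fun j : {j : Fin n // j ≠ i₀} =>
        algebraMap (MvPowerSeries (Fin n) k) (ASFam.A p k n b) (a i₀) *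
            ASFam.uu p k n b j.1 -
          algebraMap (MvPowerSeries (Fin n) k) (ASFam.A p k n b) (a j.1) *
            ASFam.uu p k n b i₀) := by
  have ham' : ∀ i, MvPowerSeries.constantCoeff (b i) = 0 := by
    intro i; rw [hb, map_mul, ham, mul_zero]
  haveI hdom : IsDomain (ASFam.A p k n b) := (ASFam.main_free p k n b ham').2.2.2
  have hinj := ASFam.algebraMap_injective p k n b
  haveI : CharP (ASFam.A p k n b) p :=
    charP_of_injective_ringHom (f := (algebraMap (MvPowerSeries (Fin n) k) (ASFam.A p k n b)).comp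
      (MvPowerSeries.C (σ := Fin n) (R := k)))
      (hinj.comp (MvPowerSeries.C_injective (σ := Fin n) (R := k))) p
  have hp2 : 2 ≤ p := (Fact.out : p.Prime).two_le
  have hd : algebraMap (MvPowerSeries (Fin n) k) (ASFam.A p k n b) (μ * a i₀) ≠ 0 := by
    intro h0
    rw [← map_zero (algebraMap (MvPowerSeries (Fin n) k) (ASFam.A p k n b))] at h0
    exact mul_ne_zero hμ (ha0 i₀) (hinj h0)
  have hw : ASFam.uu p k n b i₀ ^ p =
      algebraMap (MvPowerSeries (Fin n) k) (ASFam.A p k n b) ((μ * a i₀) ^ (p - 1)) *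
        ASFam.uu p k n b i₀ +
      algebraMap (MvPowerSeries (Fin n) k) (ASFam.A p k n b) (MvPowerSeries.X i₀) := by
    rw [← hb]; exact ASFam.mk_X_pow p k n b i₀
  obtain ⟨N, hN⟩ := MinorInv.exists_pow_mul_mem_adjoin p hp2 (ASFam.uu p k n b)
    (fun t => by
      obtain ⟨P, rfl⟩ := Ideal.Quotient.mk_surjective t
      exact ⟨P, ASFam.aeval_uu p k n b P⟩)
    a i₀ (μ * a i₀) (MvPowerSeries.X i₀) hw hd σ (hσ i₀)
    (fun j : {j : Fin n // j ≠ i₀} =>
        algebraMap (MvPowerSeries (Fin n) k) (ASFam.A p k n b) (a i₀) * ASFam.uu p k n b j.1 -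
          algebraMap (MvPowerSeries (Fin n) k) (ASFam.A p k n b) (a j.1) * ASFam.uu p k n b i₀)
    (fun j => rfl)
    (fun j => by
      rw [map_sub, map_mul, map_mul, AlgEquiv.commutes, AlgEquiv.commutes, hσ, hσ, map_mul, map_mul]
      ring) t ht
  refine ⟨N, ?_⟩
  have : algebraMap (MvPowerSeries (Fin n) k) (ASFam.A p k n b) (μ * a i₀) ^ N * t =
      algebraMap (MvPowerSeries (Fin n) k) (ASFam.A p k n b) (μ ^ N) *
        (algebraMap (MvPowerSeries (Fin n) k) (ASFam.A p k n b) (a i₀) ^ N * t) := by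
    rw [map_mul, map_pow]; ring
  rw [this]
  exact Subalgebra.mul_mem _ (Subalgebra.algebraMap_mem _ _) hN

open MvPolynomial in
/-- Let `k` be a field of characteristic `p > 0`, `n ≥ 2`, `R = k[[x_1, …, x_n]]`, `a_1, …, a_n ∈ R`
with zero constant term and pairwise coprime, `μ ∈ R` nonzero and coprime to each `a_i`, `A = R[u_1,
…, u_n] / (u_i ^ p - (μ a_i) ^ (p-1) u_i - x_i : i = 1..n)`, and `σ` the `R`-algebra automorphism of
`A` with `σ u_i = u_i + μ a_i` for every `i` (it generates a group `G` of order `p`). Fix an index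
`i₀` and let `A_ci ⊆ A` be the `R`-subalgebra generated by the minor elements `z_j = a_{i₀} u_j -
a_j u_{i₀}`, `j ≠ i₀` (these are `σ`-invariant). Then `A_ci[1/(μ a_{i₀})] = A^G[1/(μ a_{i₀})]`: for
every `σ`-invariant `t ∈ A` some power `(μ a_{i₀}) ^ N t` lies in `A_ci`. (The published statement
uses the first index for `i₀`.) -/
theorem result
    (p : ℕ) [Fact p.Prime] (k : Type u) [Field k] [CharP k p] (n : ℕ) (hn : 2 ≤ n)
    (a : Fin n → MvPowerSeries (Fin n) k) (μ : MvPowerSeries (Fin n) k)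
    (ham : ∀ i, MvPowerSeries.constantCoeff (a i) = 0) (hcop : ∀ i j, i ≠ j → IsRelPrime (a i) (a j))
    (hμ : μ ≠ 0) (hμa : ∀ i, IsRelPrime μ (a i)) (i₀ : Fin n) :
    let R := MvPowerSeries (Fin n) k
    let I : Ideal (MvPolynomial (Fin n) R) :=
      Ideal.span (Set.range fun i : Fin n =>
        X i ^ p - C ((μ * a i) ^ (p - 1)) * X i - C (MvPowerSeries.X i))
    let A := MvPolynomial (Fin n) R ⧸ I
    let u : Fin n → A := fun i => Ideal.Quotient.mk I (X i)
    let z : {j : Fin n // j ≠ i₀} → A := fun j =>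
      algebraMap R A (a i₀) * u j.1 - algebraMap R A (a j.1) * u i₀
    ∀ σ : A ≃ₐ[R] A, (∀ i, σ (u i) = u i + algebraMap R A (μ * a i)) →
      ∀ t : A, σ t = t →
        ∃ N : ℕ, algebraMap R A (μ * a i₀) ^ N * t ∈ Algebra.adjoin R (Set.range z) := by
  intro R I A u z σ hσ t ht
  have ha0 : ∀ i, a i ≠ 0 := by
    intro i h0
    have := hμa i
    rw [h0] at this
    -- IsRelPrime μ 0 means μ is a unit; then use coprimality with another index
    obtain ⟨j, hj⟩ : ∃ j : Fin n, j ≠ i := by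
      by_contra hcon
      rw [not_exists] at hcon
      have : ∀ j : Fin n, j = i := fun j => not_not.mp (hcon j)
      have h01 : (⟨0, by omega⟩ : Fin n) = ⟨1, by omega⟩ := (this _).trans (this _).symm
      simp at h01
    have h1 := hcop j i hj
    rw [h0] at h1
    have hu : IsUnit (a j) := h1 (dvd_refl _) (dvd_zero _)
    rw [MvPowerSeries.isUnit_iff_constantCoeff, ham j] at hu
    exact not_isUnit_zero hu
  exact aux p k n a (fun i => μ * a i) μ (fun _ => rfl) ham hμ ha0 i₀ σ hσ t ht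

end Groth.Agent.S19997
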