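import Groth.Statements.S15808
import Groth.Agent.Lib.Helper22.MinorCI
import Groth.Agent.Lib.Helper22.ASFam
import Groth.Agent.Lib.Helper22.AwayFix
import Groth.Agent.Lib.Helper26.RegularNormal
import Groth.Agent.S19997

set_option autoImplicit false
universe u
open WildQuot

namespace Groth.Agent.S15808

/-- `a i ≠ 0` from the coprimality hypotheses -/
theorem a_ne_zero {k : Type u} [Field k] (n : ℕ) (hn : 2 ≤ n)
    (a : Fin n → MvPowerSeries (Fin n) k)
    (ham : ∀ i, MvPowerSeries.constantCoeff (a i) = 0) (hcop : ∀ i j, i ≠ j → IsRelPrime (a i) (a j))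
    (i : Fin n) : a i ≠ 0 := by
  intro h0
  obtain ⟨j, hj⟩ : ∃ j : Fin n, j ≠ i := by
    by_contra hcon
    rw [not_exists] at hcon
    have : ∀ j : Fin n, j = i := fun j => not_not.mp (hcon j)
    have h01 : (⟨0, by omega⟩ : Fin n) = ⟨1, by omega⟩ := (this _).trans (this _).symm
    simp at h01
  have h1 := hcop j i hj
  rw [h0] at h1
  have hu : IsUnit (a j) := h1 (dvd_refl _) (dvd_zero _)
  rw [MvPowerSeries.isUnit_iff_constantCoeff, ham j] at hu
  exact not_isUnit_zero hu

open Groth.Agent.Lib.helper22 in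
/-- the statement for the Artin–Schreier family ring `ASFam.A` and `MinorCI.B` -/
theorem aux (p : ℕ) [Fact p.Prime] (k : Type u) [Field k] [CharP k p] (n : ℕ)
    (a : Fin n → MvPowerSeries (Fin n) k) (μ : MvPowerSeries (Fin n) k)
    (ham : ∀ i, MvPowerSeries.constantCoeff (a i) = 0) (hμ : μ ≠ 0)
    (i₀ : Fin n) (ha0 : ∀ i, a i ≠ 0) :
    Module.Free (MvPowerSeries (Fin n) k) (MinorCI.B p a μ (fun i => MvPowerSeries.X i) i₀) ∧
    Module.finrank (MvPowerSeries (Fin n) k) (MinorCI.B p a μ (fun i => MvPowerSeries.X i) i₀) =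
      p ^ (n - 1) ∧
    IsDomain (MinorCI.B p a μ (fun i => MvPowerSeries.X i) i₀) ∧
    IsIntegrallyClosed (Localization.Away (algebraMap (MvPowerSeries (Fin n) k)
      (MinorCI.B p a μ (fun i => MvPowerSeries.X i) i₀) (μ * a i₀))) := by
  have hp2 : 2 ≤ p := (Fact.out : p.Prime).two_le
  have ham' : ∀ i, MvPowerSeries.constantCoeff (μ * a i) = 0 := by
    intro i; rw [map_mul, ham, mul_zero]
  have hinj := ASFam.algebraMap_injective p k n (fun i => μ * a i)
  haveI : CharP (ASFam.A p k n (fun i => μ * a i)) p :=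
    charP_of_injective_ringHom (f := (algebraMap (MvPowerSeries (Fin n) k)
      (ASFam.A p k n (fun i => μ * a i))).comp
      (MvPowerSeries.C (σ := Fin n) (R := k)))
      (hinj.comp (MvPowerSeries.C_injective (σ := Fin n) (R := k))) p
  haveI := ASFam.finite p k n (fun i => μ * a i)
  haveI : IsDomain (MvPowerSeries (Fin n) k) := NoZeroDivisors.to_isDomain _
  haveI hdom : IsDomain (ASFam.A p k n (fun i => μ * a i)) :=
    (ASFam.main_free p k n (fun i => μ * a i) ham').2.2.2
  haveI hreg : IsRegularLocalRing (ASFam.A p k n (fun i => μ * a i)) :=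
    (ASFam.main_regular p k n (fun i => μ * a i) ham').1
  haveI : IsIntegrallyClosed (ASFam.A p k n (fun i => μ * a i)) :=
    Groth.Agent.Lib.helper26.RegNormal.isIntegrallyClosed _
  have hgenA : ∀ t : ASFam.A p k n (fun i => μ * a i),
      ∃ P : MvPolynomial (Fin n) (MvPowerSeries (Fin n) k),
        MvPolynomial.aeval (ASFam.uu p k n (fun i => μ * a i)) P = t := fun t => by
    obtain ⟨P, rfl⟩ := Ideal.Quotient.mk_surjective t
    exact ⟨P, ASFam.aeval_uu p k n _ P⟩
  have hrel := ASFam.mk_X_pow p k n (fun i => μ * a i)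
  have hφinj := MinorCI.phi_injective p a μ (fun i => MvPowerSeries.X i) i₀
    (ASFam.uu p k n (fun i => μ * a i)) hrel hgenA (ASFam.finrank_eq p k n _) (ha0 i₀)
  set φ := MinorCI.phi p a μ (fun i => MvPowerSeries.X i) i₀
    (ASFam.uu p k n (fun i => μ * a i)) hrel with hφ
  refine ⟨MinorCI.B_free p a μ _ i₀ hp2, MinorCI.B_finrank p a μ _ i₀ hp2, ?_, ?_⟩
  · exact Function.Injective.isDomain φ hφinj
  · -- the automorphism
    set h := ASFam.isASFam p k n (fun i => μ * a i) with hh
    set σ := ASAbs.sigEquiv h (fun _ => 1) with hσdef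
    have hσ : ∀ i, σ (ASFam.uu p k n (fun i => μ * a i) i) =
        ASFam.uu p k n (fun i => μ * a i) i +
          algebraMap (MvPowerSeries (Fin n) k) (ASFam.A p k n (fun i => μ * a i)) (μ * a i) := by
      intro i
      have := ASAbs.sig_u h (fun _ => 1) i
      simp only [ASAbs.shift, map_one, one_mul] at this
      exact this
    have hσz : ∀ j, σ (MinorCI.z a i₀ (ASFam.uu p k n (fun i => μ * a i)) j) =
        MinorCI.z a i₀ (ASFam.uu p k n (fun i => μ * a i)) j := by
      intro j
      unfold MinorCI.z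
      rw [map_sub, map_mul, map_mul, AlgEquiv.commutes, AlgEquiv.commutes, hσ, hσ, map_mul, map_mul]
      ring
    have hσφ : ∀ b, σ (φ b) = φ b := by
      have hcomp : (σ : ASFam.A p k n (fun i => μ * a i) →ₐ[MvPowerSeries (Fin n) k] _).comp φ = φ := by
        apply Ideal.Quotient.algHom_ext
        apply MvPolynomial.algHom_ext
        intro j
        simp only [AlgHom.comp_apply, Ideal.Quotient.mkₐ_eq_mk, AlgEquiv.coe_toAlgHom]
        rw [hφ, MinorCI.phi_mk, MvPolynomial.aeval_X]
        exact hσz j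
      intro b
      exact congrArg (fun g => g b) hcomp
    have hs : algebraMap (MvPowerSeries (Fin n) k) (ASFam.A p k n (fun i => μ * a i)) (μ * a i₀) ≠ 0 := by
      intro h0
      rw [← map_zero (algebraMap (MvPowerSeries (Fin n) k) (ASFam.A p k n (fun i => μ * a i)))] at h0
      exact mul_ne_zero hμ (ha0 i₀) (hinj h0)
    refine AwayFix.isIntegrallyClosed_away_of_fixed (R := MvPowerSeries (Fin n) k)
      (A := ASFam.A p k n (fun i => μ * a i)) σ φ hφinj hσφ (μ * a i₀) hs ?_
    intro t ht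
    obtain ⟨N, hN⟩ := Groth.Agent.S19997.aux p k n a (fun i => μ * a i) μ (fun _ => rfl) ham hμ ha0 i₀
      σ hσ t ht
    refine ⟨N, ?_⟩
    have hN' : algebraMap (MvPowerSeries (Fin n) k) (ASFam.A p k n (fun i => μ * a i)) (μ * a i₀) ^ N * t ∈
        (MvPolynomial.aeval (MinorCI.z a i₀ (ASFam.uu p k n (fun i => μ * a i))) :
          MvPolynomial {j : Fin n // j ≠ i₀} (MvPowerSeries (Fin n) k) →ₐ[MvPowerSeries (Fin n) k]
            ASFam.A p k n (fun i => μ * a i)).range := by
      have e := Algebra.adjoin_range_eq_range_aeval (MvPowerSeries (Fin n) k)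
        (MinorCI.z a i₀ (ASFam.uu p k n (fun i => μ * a i)))
      exact (SetLike.ext_iff.mp e _).mp hN
    obtain ⟨P, hP⟩ := hN'
    refine ⟨Ideal.Quotient.mk _ P, ?_⟩
    rw [hφ, MinorCI.phi_mk]
    exact hP

open MvPolynomial in
/-- Let `k` be a field of characteristic `p > 0`, `n ≥ 2`, `R = k[[x_1, …, x_n]]`, `a_1, …, a_n ∈ R`
with zero constant term and pairwise coprime, `μ ∈ R` nonzero and coprime to each `a_i`; fix an
index `i₀` and let `B = R[Z_j : j ≠ i₀] / (Z_j ^ p - (μ a_{i₀} a_j) ^ (p-1) Z_j - (a_{i₀} ^ p x_j -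
a_j ^ p x_{i₀}) : j ≠ i₀)`, the complete-intersection ring of the minor elements through `u_{i₀}`.
Then `B` is a free `R`-module of rank `p ^ (n-1)`, `B` is an integral domain, and the localisation
`B[1/(μ a_{i₀})]` is integrally closed. (The published statement uses the first index for `i₀`; this
row allows any index.) -/
theorem result
    (p : ℕ) [Fact p.Prime] (k : Type u) [Field k] [CharP k p] (n : ℕ) (hn : 2 ≤ n)
    (a : Fin n → MvPowerSeries (Fin n) k) (μ : MvPowerSeries (Fin n) k)
    (ham : ∀ i, MvPowerSeries.constantCoeff (a i) = 0) (hcop : ∀ i j, i ≠ j → IsRelPrime (a i) (a j))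
    (hμ : μ ≠ 0) (hμa : ∀ i, IsRelPrime μ (a i)) (i₀ : Fin n) :
    let R := MvPowerSeries (Fin n) k
    let r : {j : Fin n // j ≠ i₀} → MvPolynomial {j : Fin n // j ≠ i₀} R := fun j =>
      X j ^ p - C ((μ * a i₀ * a j.1) ^ (p - 1)) * X j
        - C (a i₀ ^ p * MvPowerSeries.X j.1 - a j.1 ^ p * MvPowerSeries.X i₀)
    let B := MvPolynomial {j : Fin n // j ≠ i₀} R ⧸ Ideal.span (Set.range r)
    Module.Free R B ∧ Module.finrank R B = p ^ (n - 1) ∧ IsDomain B ∧
      IsIntegrallyClosed (Localization.Away (algebraMap R B (μ * a i₀))) := by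
  intro R r B
  exact aux p k n a μ ham hμ i₀ (a_ne_zero n hn a ham hcop)

end Groth.Agent.S15808
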