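import Groth.Statements.S15809
import Mathlib
-- import your own Groth.Agent.* helpers here

set_option autoImplicit false
universe u
open CategoryTheory MonoidalCategory CartesianMonoidalCategory AlgebraicGeometry Limits
open WildQuot

namespace Groth.Agent.S15809

set_option linter.style.haveILetI false
open TensorProduct

theorem bijective_baseChange_of_equiv {R : Type u} [CommRing R] (K : Type u) [CommRing K] [Algebra R K]
    {M N : Type u} [AddCommGroup M] [Module R M] [AddCommGroup N] [Module R N] (e : M ≃ₗ[R] N) :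
    Function.Bijective (e.toLinearMap.baseChange K) := by
  have h1 : (e.toLinearMap.baseChange K) ∘ₗ (e.symm.toLinearMap.baseChange K) = LinearMap.id := by
    rw [← LinearMap.baseChange_comp]; simp
  have h2 : (e.symm.toLinearMap.baseChange K) ∘ₗ (e.toLinearMap.baseChange K) = LinearMap.id := by
    rw [← LinearMap.baseChange_comp]; simp
  rw [Function.bijective_iff_has_inverse]
  exact ⟨e.symm.toLinearMap.baseChange K, fun x => LinearMap.congr_fun h2 x,
    fun x => LinearMap.congr_fun h1 x⟩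

set_option maxHeartbeats 800000 in
theorem core {A : Type u} [CommRing A] [IsNoetherianRing A] {C B : Type u}
    [AddCommGroup C] [Module A C] [AddCommGroup B] [Module A B]
    [Module.Finite A C] [Module.Flat A C] [Module.Finite A B] [Module.Flat A B] (φ : C →ₗ[A] B)
    (h : ∀ 𝔭 : Ideal A, 𝔭.IsPrime → 𝔭.height ≤ 1 →
      ∃ (K : Type u) (_ : CommRing K) (_ : Nontrivial K) (_ : Algebra A K),
        (∀ a ∈ 𝔭, algebraMap A K a = 0) ∧ (∀ a, a ∉ 𝔭 → IsUnit (algebraMap A K a)) ∧
          Function.Bijective (φ.baseChange K)) :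
    Function.Bijective φ := by
  classical
  have key : ∀ (q : Ideal A) [q.IsMaximal],
      Function.Bijective (φ.baseChange (Localization.AtPrime q)) := by
    intro q hq
    haveI : IsNoetherianRing (Localization.AtPrime q) :=
      IsLocalization.isNoetherianRing q.primeCompl _ inferInstance
    haveI : Module.Free (Localization.AtPrime q) (Localization.AtPrime q ⊗[A] C) :=
      Module.free_of_flat_of_isLocalRing
    haveI : Module.Free (Localization.AtPrime q) (Localization.AtPrime q ⊗[A] B) :=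
      Module.free_of_flat_of_isLocalRing
    have transfer : ∀ (P' : Ideal (Localization.AtPrime q)) [P'.IsPrime], P'.height ≤ 1 →
        ∃ (K : Type u) (_ : CommRing K) (_ : Nontrivial K) (_ : Algebra (Localization.AtPrime q) K),
          (∀ a ∈ P', algebraMap (Localization.AtPrime q) K a = 0) ∧
            Function.Bijective ((φ.baseChange (Localization.AtPrime q)).baseChange K) := by
      intro P' hP' hht
      have hPprime : (P'.under A).IsPrime := inferInstance
      have hPht : (P'.under A).height ≤ 1 := by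
        rw [IsLocalization.height_under q.primeCompl]; exact hht
      obtain ⟨K, iK, iN, iAlg, h0, hu, hbij⟩ := h _ hPprime hPht
      have hle : P'.under A ≤ q := by
        have h1 : P' ≤ IsLocalRing.maximalIdeal (Localization.AtPrime q) :=
          IsLocalRing.le_maximalIdeal hP'.ne_top
        have h2 := Ideal.comap_mono (f := algebraMap A (Localization.AtPrime q)) h1
        have h2' : (IsLocalRing.maximalIdeal (Localization.AtPrime q)).under A = q :=
          Localization.AtPrime.under_maximalIdeal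
        exact h2.trans h2'.le
      have hunits : ∀ y : q.primeCompl, IsUnit (algebraMap A K y) :=
        fun y => hu _ (fun hy => y.2 (hle hy))
      letI : Algebra (Localization.AtPrime q) K := (IsLocalization.lift hunits).toAlgebra
      haveI : IsScalarTower A (Localization.AtPrime q) K :=
        IsScalarTower.of_algebraMap_eq (fun x => (IsLocalization.lift_eq hunits x).symm)
      refine ⟨K, iK, iN, inferInstance, ?_, ?_⟩
      · intro a ha
        have hmap : P' = (P'.under A).map (algebraMap A (Localization.AtPrime q)) :=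
          (IsLocalization.map_under q.primeCompl _ P').symm
        rw [hmap] at ha
        have hker : (P'.under A).map (algebraMap A (Localization.AtPrime q)) ≤
            RingHom.ker (algebraMap (Localization.AtPrime q) K) := by
          rw [Ideal.map_le_iff_le_comap]
          intro x hx
          rw [Ideal.mem_comap, RingHom.mem_ker, ← IsScalarTower.algebraMap_apply]
          exact h0 x hx
        exact hker ha
      · rw [LinearMap.baseChange_baseChange]
        simp only [LinearMap.coe_comp, LinearEquiv.coe_coe]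
        exact (LinearEquiv.bijective _).comp (hbij.comp (LinearEquiv.bijective _))
    have hrank : Module.finrank (Localization.AtPrime q) (Localization.AtPrime q ⊗[A] C) =
        Module.finrank (Localization.AtPrime q) (Localization.AtPrime q ⊗[A] B) := by
      obtain ⟨P', hP'min, -⟩ := Ideal.exists_minimalPrimes_le
        (I := (⊥ : Ideal (Localization.AtPrime q)))
        (J := IsLocalRing.maximalIdeal (Localization.AtPrime q)) bot_le
      haveI : P'.IsPrime := hP'min.1.1
      have hht : P'.height ≤ 1 := by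
        have : P'.height = 0 := Ideal.height_eq_zero_iff.mpr hP'min
        rw [this]; exact bot_le
      obtain ⟨K, iK, iN, iAlg, -, hbij⟩ := transfer P' hht
      have e := LinearEquiv.ofBijective ((φ.baseChange (Localization.AtPrime q)).baseChange K) hbij
      have h3 := e.finrank_eq
      have h1 : Module.finrank K (K ⊗[Localization.AtPrime q] (Localization.AtPrime q ⊗[A] C)) =
          Module.finrank (Localization.AtPrime q) (Localization.AtPrime q ⊗[A] C) :=
        Module.finrank_baseChange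
      have h2 : Module.finrank K (K ⊗[Localization.AtPrime q] (Localization.AtPrime q ⊗[A] B)) =
          Module.finrank (Localization.AtPrime q) (Localization.AtPrime q ⊗[A] B) :=
        Module.finrank_baseChange
      rw [← h1, ← h2]; exact h3
    let e : (Localization.AtPrime q ⊗[A] B) ≃ₗ[Localization.AtPrime q]
        (Localization.AtPrime q ⊗[A] C) := LinearEquiv.ofFinrankEq _ _ hrank.symm
    let θ : (Localization.AtPrime q ⊗[A] C) →ₗ[Localization.AtPrime q]
        (Localization.AtPrime q ⊗[A] C) := e.toLinearMap ∘ₗ (φ.baseChange (Localization.AtPrime q))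
    have hdet : IsUnit (LinearMap.det θ) := by
      by_contra hnu
      have hle : Ideal.span {LinearMap.det θ} ≤
          IsLocalRing.maximalIdeal (Localization.AtPrime q) := by
        rw [Ideal.span_singleton_le_iff_mem, IsLocalRing.mem_maximalIdeal, mem_nonunits_iff]
        exact hnu
      obtain ⟨P', hP'min, -⟩ := Ideal.exists_minimalPrimes_le hle
      haveI : P'.IsPrime := hP'min.1.1
      have hht : P'.height ≤ 1 :=
        Ideal.height_le_one_of_isPrincipal_of_mem_minimalPrimes _ _ hP'min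
      obtain ⟨K, iK, iN, iAlg, h0, hbij⟩ := transfer P' hht
      have hd0 : algebraMap (Localization.AtPrime q) K (LinearMap.det θ) = 0 :=
        h0 _ (hP'min.1.2 (Ideal.mem_span_singleton_self _))
      have hθ : Function.Bijective (θ.baseChange K) := by
        have : θ.baseChange K = (e.toLinearMap.baseChange K) ∘ₗ
            ((φ.baseChange (Localization.AtPrime q)).baseChange K) := LinearMap.baseChange_comp _ _
        rw [this, LinearMap.coe_comp]
        exact (bijective_baseChange_of_equiv K e).comp hbij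
      have hu : IsUnit (θ.baseChange K) := (Module.End.isUnit_iff _).mpr hθ
      rw [LinearMap.isUnit_iff_isUnit_det, LinearMap.det_baseChange, hd0] at hu
      exact not_isUnit_zero hu
    have hθ : Function.Bijective θ :=
      (Module.End.isUnit_iff _).mp ((LinearMap.isUnit_iff_isUnit_det θ).mpr hdet)
    have : (φ.baseChange (Localization.AtPrime q) : _ → _) = e.symm ∘ θ := by
      funext x; simp [θ]
    rw [this]; exact e.symm.bijective.comp hθ
  refine bijective_of_isLocalized_maximal (fun P _ => Localization.AtPrime P ⊗[A] C)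
    (fun P _ => TensorProduct.mk A (Localization.AtPrime P) C 1)
    (fun P _ => Localization.AtPrime P ⊗[A] B)
    (fun P _ => TensorProduct.mk A (Localization.AtPrime P) B 1) φ ?_
  intro q hq
  have : IsLocalizedModule.map q.primeCompl (TensorProduct.mk A (Localization.AtPrime q) C 1)
      (TensorProduct.mk A (Localization.AtPrime q) B 1) φ =
      (φ.baseChange (Localization.AtPrime q)).restrictScalars A := by
    apply IsLocalizedModule.linearMap_ext q.primeCompl
      (TensorProduct.mk A (Localization.AtPrime q) C 1)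
      (TensorProduct.mk A (Localization.AtPrime q) B 1)
    ext c
    have h4 := IsLocalizedModule.map_apply q.primeCompl
      (TensorProduct.mk A (Localization.AtPrime q) C 1)
      (TensorProduct.mk A (Localization.AtPrime q) B 1) φ c
    simpa using h4
  rw [this]
  exact key q


/-- the restricted fibre square -/
theorem range_fst_subset {X S T : Scheme.{u}} (g : X ⟶ S) (U : S.Opens) (r : T ⟶ S)
    (t : T ⟶ (U : Scheme)) (ht : t ≫ U.ι = r) :
    Set.range (pullback.fst g r) ⊆ Set.range (g ⁻¹ᵁ U).ι := by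
  subst ht
  rintro _ ⟨z, rfl⟩
  rw [Scheme.Opens.range_ι]
  show g (pullback.fst g (t ≫ U.ι) z) ∈ U
  rw [← Scheme.Hom.comp_apply, pullback.condition, Scheme.Hom.comp_apply,
    Scheme.Hom.comp_apply]
  exact (t (pullback.snd g (t ≫ U.ι) z)).2

noncomputable def fstU {X S T : Scheme.{u}} (g : X ⟶ S) (U : S.Opens) (r : T ⟶ S)
    (t : T ⟶ (U : Scheme)) (ht : t ≫ U.ι = r) : pullback g r ⟶ ((g ⁻¹ᵁ U : X.Opens) : Scheme) :=
  IsOpenImmersion.lift (g ⁻¹ᵁ U).ι (pullback.fst g r) (range_fst_subset g U r t ht)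

@[reassoc]
theorem fstU_ι {X S T : Scheme.{u}} (g : X ⟶ S) (U : S.Opens) (r : T ⟶ S)
    (t : T ⟶ (U : Scheme)) (ht : t ≫ U.ι = r) :
    fstU g U r t ht ≫ (g ⁻¹ᵁ U).ι = pullback.fst g r :=
  IsOpenImmersion.lift_fac _ _ _

theorem isPullback_fstU {X S T : Scheme.{u}} (g : X ⟶ S) (U : S.Opens) (r : T ⟶ S)
    (t : T ⟶ (U : Scheme)) (ht : t ≫ U.ι = r) :
    IsPullback (fstU g U r t ht) (pullback.snd g r) (g ∣_ U) t := by
  refine IsPullback.of_right (h₁₂ := (g ⁻¹ᵁ U).ι) (h₂₂ := U.ι) (v₁₃ := g) ?_ ?_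
    (isPullback_morphismRestrict g U).flip
  · rw [fstU_ι, ht]
    exact IsPullback.of_hasPullback g r
  · rw [← cancel_mono U.ι, Category.assoc, Category.assoc, morphismRestrict_ι, fstU_ι_assoc, ht]
    exact pullback.condition


set_option maxHeartbeats 1600000 in
theorem bijective_of_isIso_fibre {S P Q T : Scheme.{u}} (p : P ⟶ S) (q : Q ⟶ S) (ψ : P ⟶ Q)
    (hp : ψ ≫ q = p) [IsAffineHom p] [IsAffineHom q]
    (U : S.Opens) (hU : IsAffineOpen U) [IsAffine T] (r : T ⟶ S) (t : T ⟶ U.toScheme)
    (ht : t ≫ U.ι = r)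
    (ψV : (p ⁻¹ᵁ U).toScheme ⟶ (q ⁻¹ᵁ U).toScheme)
    (hψV : ψV ≫ (q ⁻¹ᵁ U).ι = (p ⁻¹ᵁ U).ι ≫ ψ)
    (hiso : IsIso (pullback.map p r q r ψ (𝟙 _) (𝟙 S) (by simp [hp]) (by simp)))
    [Algebra Γ(U.toScheme, ⊤) Γ(T, ⊤)] [Algebra Γ(U.toScheme, ⊤) Γ((q ⁻¹ᵁ U).toScheme, ⊤)]
    [Algebra Γ(U.toScheme, ⊤) Γ((p ⁻¹ᵁ U).toScheme, ⊤)]
    (h1 : algebraMap Γ(U.toScheme, ⊤) Γ(T, ⊤) = t.appTop.hom)
    (h2 : algebraMap Γ(U.toScheme, ⊤) Γ((q ⁻¹ᵁ U).toScheme, ⊤) = (q ∣_ U).appTop.hom)
    (h3 : algebraMap Γ(U.toScheme, ⊤) Γ((p ⁻¹ᵁ U).toScheme, ⊤) = (p ∣_ U).appTop.hom)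
    (φ : Γ((q ⁻¹ᵁ U).toScheme, ⊤) →ₗ[Γ(U.toScheme, ⊤)] Γ((p ⁻¹ᵁ U).toScheme, ⊤))
    (hφ : ∀ c, φ c = ψV.appTop.hom c) :
    Function.Bijective (φ.baseChange Γ(T, ⊤)) := by
  haveI : IsAffine U.toScheme := hU
  haveI : IsAffine (q ⁻¹ᵁ U).toScheme := hU.preimage q
  haveI : IsAffine (p ⁻¹ᵁ U).toScheme := hU.preimage p
  set F := pullback.map p r q r ψ (𝟙 _) (𝟙 S) (by simp [hp]) (by simp) with hF
  have hFsnd : F ≫ pullback.snd q r = pullback.snd p r := by
    rw [hF]; exact (pullback.lift_snd _ _ _).trans (Category.comp_id _)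
  have hFfst0 : F ≫ pullback.fst q r = pullback.fst p r ≫ ψ := by
    rw [hF]; exact pullback.lift_fst _ _ _
  have hFfst : F ≫ fstU q U r t ht = fstU p U r t ht ≫ ψV := by
    rw [← cancel_mono (q ⁻¹ᵁ U).ι]
    simp only [Category.assoc]
    rw [fstU_ι, hψV, fstU_ι_assoc, hFfst0]
  have sP := (isPushout_appTop_of_isPullback (isPullback_fstU p U r t ht)).flip
  have sQ := (isPushout_appTop_of_isPullback (isPullback_fstU q U r t ht)).flip
  have tP := CommRingCat.isPushout_tensorProduct Γ(U.toScheme, ⊤) Γ(T, ⊤)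
    Γ((p ⁻¹ᵁ U).toScheme, ⊤)
  have tQ := CommRingCat.isPushout_tensorProduct Γ(U.toScheme, ⊤) Γ(T, ⊤)
    Γ((q ⁻¹ᵁ U).toScheme, ⊤)
  rw [h1, h3] at tP
  rw [h1, h2] at tQ
  simp only [CommRingCat.ofHom_hom] at tP tQ
  let eP := tP.isoIsPushout _ _ sP
  let eQ := tQ.isoIsPushout _ _ sQ
  let Φ := eQ.hom ≫ F.appTop ≫ eP.inv
  have hL : CommRingCat.ofHom (Algebra.TensorProduct.includeLeftRingHom
      (R := Γ(U.toScheme, ⊤)) (A := Γ(T, ⊤)) (B := Γ((q ⁻¹ᵁ U).toScheme, ⊤))) ≫ Φ =
      CommRingCat.ofHom (Algebra.TensorProduct.includeLeftRingHom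
      (R := Γ(U.toScheme, ⊤)) (A := Γ(T, ⊤)) (B := Γ((p ⁻¹ᵁ U).toScheme, ⊤))) := by
    have e1 := IsPushout.inl_isoIsPushout_hom _ _ tQ sQ
    have e2 := IsPushout.inl_isoIsPushout_inv _ _ tP sP
    have e3 : (pullback.snd q r).appTop ≫ F.appTop = (pullback.snd p r).appTop := by
      rw [← Scheme.Hom.comp_appTop, hFsnd]
    calc _ = (CommRingCat.ofHom (Algebra.TensorProduct.includeLeftRingHom
          (R := Γ(U.toScheme, ⊤)) (A := Γ(T, ⊤)) (B := Γ((q ⁻¹ᵁ U).toScheme, ⊤))) ≫ eQ.hom) ≫
            F.appTop ≫ eP.inv := by simp only [Φ, Category.assoc]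
      _ = ((pullback.snd q r).appTop ≫ F.appTop) ≫ eP.inv := by rw [e1, Category.assoc]
      _ = _ := by rw [e3]; exact e2
  have hR : CommRingCat.ofHom (Algebra.TensorProduct.includeRight
      (R := Γ(U.toScheme, ⊤)) (A := Γ(T, ⊤)) (B := Γ((q ⁻¹ᵁ U).toScheme, ⊤))).toRingHom ≫ Φ =
      ψV.appTop ≫ CommRingCat.ofHom (Algebra.TensorProduct.includeRight
      (R := Γ(U.toScheme, ⊤)) (A := Γ(T, ⊤)) (B := Γ((p ⁻¹ᵁ U).toScheme, ⊤))).toRingHom := by
    have e1 := IsPushout.inr_isoIsPushout_hom _ _ tQ sQ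
    have e2 := IsPushout.inr_isoIsPushout_inv _ _ tP sP
    have e3 : (fstU q U r t ht).appTop ≫ F.appTop =
        ψV.appTop ≫ (fstU p U r t ht).appTop := by
      rw [← Scheme.Hom.comp_appTop, hFfst, Scheme.Hom.comp_appTop]
    calc _ = (CommRingCat.ofHom (Algebra.TensorProduct.includeRight
          (R := Γ(U.toScheme, ⊤)) (A := Γ(T, ⊤)) (B := Γ((q ⁻¹ᵁ U).toScheme, ⊤))).toRingHom ≫
            eQ.hom) ≫ F.appTop ≫ eP.inv := by simp only [Φ, Category.assoc]
      _ = ((fstU q U r t ht).appTop ≫ F.appTop) ≫ eP.inv := by rw [e1, Category.assoc]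
      _ = ψV.appTop ≫ ((fstU p U r t ht).appTop ≫ eP.inv) := by
          rw [e3, Category.assoc]
      _ = _ := by rw [e2]; rfl
  have hL' : ∀ k : Γ(T, ⊤), Φ.hom (k ⊗ₜ 1) = k ⊗ₜ 1 := by
    intro k
    have := congrArg (fun m => m.hom k) hL
    simpa using this
  have hR' : ∀ c : Γ((q ⁻¹ᵁ U).toScheme, ⊤), Φ.hom (1 ⊗ₜ c) = 1 ⊗ₜ φ c := by
    intro c
    have h4 := congrArg (fun m => m.hom c) hR
    rw [hφ]
    exact h4
  have key : ∀ x, φ.baseChange Γ(T, ⊤) x = Φ.hom x := by
    intro x
    induction x using TensorProduct.induction_on with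
    | zero => simp
    | tmul k c =>
      rw [LinearMap.baseChange_tmul]
      have : (k ⊗ₜ[Γ(U.toScheme, ⊤)] c) = (k ⊗ₜ 1) * (1 ⊗ₜ c) := by
        rw [Algebra.TensorProduct.tmul_mul_tmul, mul_one, one_mul]
      rw [this, map_mul, hL', hR', Algebra.TensorProduct.tmul_mul_tmul, mul_one, one_mul]
    | add x y hx hy => rw [map_add, map_add, hx, hy]
  haveI : IsIso F := hiso
  haveI : IsIso F.appTop := (inferInstance : IsIso (F.app ⊤))
  have hΦ : IsIso Φ := by dsimp only [Φ]; infer_instance
  have hb : Function.Bijective Φ.hom := ConcreteCategory.bijective_of_isIso Φ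
  have : (φ.baseChange Γ(T, ⊤) : _ → _) = fun x => Φ.hom x := funext key
  rw [this]
  exact hb


/-- Every point of a quasi-sober space has a generization which is maximal for specialization. -/
theorem exists_generization_isMax {X : Scheme.{u}} (s : X) :
    ∃ s0 : X, s0 ⤳ s ∧ IsMax s0 := by
  have hirr : IsIrreducible (irreducibleComponent s) := isIrreducible_irreducibleComponent
  have hcl : IsClosed (irreducibleComponent s) := isClosed_irreducibleComponent
  refine ⟨hirr.genericPoint, ?_, ?_⟩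
  · have hg := hirr.isGenericPoint_genericPoint hcl
    rw [specializes_iff_mem_closure, hg.def]
    exact mem_irreducibleComponent
  · intro y hy
    have hg := hirr.isGenericPoint_genericPoint hcl
    -- hy : genericPoint ≤ y, i.e. y ⤳ genericPoint
    have hy' : y ⤳ hirr.genericPoint := hy
    have h1 : irreducibleComponent s ⊆ closure {y} := by
      rw [← hg.def]
      exact hy'.closure_subset  -- hmm
    have hmax : closure {y} ⊆ irreducibleComponent s := by
      have := irreducibleComponent_mem_irreducibleComponents s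
      exact this.2 (isIrreducible_singleton.closure) h1
    show hirr.genericPoint ⤳ y
    rw [specializes_iff_mem_closure, hg.def]
    exact hmax (subset_closure rfl)



theorem surjective_of_codimZero {X S : Scheme.{u}} [IsNoetherian S] (f : X ⟶ S) [Flat f] [IsFinite f]
    (h : ∀ s : S, ringKrullDim (S.presheaf.stalk s) ≤ 1 → s ∈ Set.range f.base) :
    Function.Surjective f.base := by
  haveI : LocallyOfFinitePresentation f := inferInstance
  have hs : Surjective f := by
    rw [← Scheme.Hom.one_le_finrank_iff_surjective]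
    intro s
    obtain ⟨s0, hspec, hmax⟩ := exists_generization_isMax s
    have hdim : ringKrullDim (S.presheaf.stalk s0) ≤ 1 := by
      rw [ringKrullDim_stalk_eq_coheight, Order.coheight_eq_zero.mpr hmax]
      simp
    obtain ⟨x, hx⟩ := h s0 hdim
    have h1 : 1 ≤ Scheme.Hom.finrank f s0 := by
      have := Scheme.Hom.one_le_finrank_map f x
      rwa [show f x = s0 from hx] at this
    have hlc := Scheme.Hom.isLocallyConstant_finrank f
    have hopen : IsOpen {y | Scheme.Hom.finrank f y = Scheme.Hom.finrank f s} :=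
      hlc.isOpen_fiber _
    have : Scheme.Hom.finrank f s0 = Scheme.Hom.finrank f s :=
      hspec.mem_open hopen rfl
    show 1 ≤ Scheme.Hom.finrank f s
    omega
  exact hs.surj


/-- global sections of the spectrum of a field: zero or unit -/
theorem eq_zero_or_isUnit_of_field (K : Type u) [Field K] (g : Γ(Spec (CommRingCat.of K), ⊤)) :
    g = 0 ∨ IsUnit g := by
  let e : Γ(Spec (CommRingCat.of K), ⊤) ≃+* K :=
    (Scheme.ΓSpecIso (CommRingCat.of K)).commRingCatIsoToRingEquiv
  by_cases h : e g = 0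
  · left
    exact (map_eq_zero_iff e e.injective).mp h
  · right
    have : IsUnit (e g) := isUnit_iff_ne_zero.mpr h
    exact (isUnit_map_iff e g).mp this

theorem nontrivial_of_field (K : Type u) [Field K] : Nontrivial Γ(Spec (CommRingCat.of K), ⊤) :=
  ((Scheme.ΓSpecIso (CommRingCat.of K)).commRingCatIsoToRingEquiv).nontrivial

theorem exists_residue_data {S : Scheme.{u}} (U : S.Opens) (hU : IsAffineOpen U)
    (𝔭 : Ideal Γ(U.toScheme, ⊤)) [h𝔭 : 𝔭.IsPrime] :
    ∃ (s : S) (t : Spec (S.residueField s) ⟶ U.toScheme),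
      t ≫ U.ι = S.fromSpecResidueField s ∧
      ringKrullDim (S.presheaf.stalk s) = 𝔭.height ∧
      (∀ a ∈ 𝔭, t.appTop.hom a = 0) ∧ (∀ a, a ∉ 𝔭 → IsUnit (t.appTop.hom a)) := by
  haveI : IsAffine U.toScheme := hU
  let x : Spec Γ(U.toScheme, ⊤) := ⟨𝔭, h𝔭⟩
  let u : U.toScheme := U.toScheme.isoSpec.inv x
  let s : S := U.ι u
  have hrange : Set.range (S.fromSpecResidueField s) ⊆ Set.range U.ι := by
    rw [Scheme.range_fromSpecResidueField]
    rintro _ rfl
    exact ⟨u, rfl⟩
  let t : Spec (S.residueField s) ⟶ U.toScheme :=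
    IsOpenImmersion.lift U.ι (S.fromSpecResidueField s) hrange
  have ht : t ≫ U.ι = S.fromSpecResidueField s := IsOpenImmersion.lift_fac _ _ _
  refine ⟨s, t, ht, ?_, ?_⟩
  · rw [ringKrullDim_stalk_eq_coheight]
    congr 1
    rw [coheight_eq_of_isOpenImmersion U.ι, coheight_eq_of_isOpenImmersion U.toScheme.isoSpec.inv,
      ← idealHeight_eq_coheight]
  · -- the point of Spec κ goes to u
    have htpt : ∀ z : Spec (S.residueField s), t z = u := by
      intro z
      apply U.ι.isOpenEmbedding.injective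
      rw [← Scheme.Hom.comp_apply, ht, Scheme.fromSpecResidueField_apply]
    have hmem : ∀ a : Γ(U.toScheme, ⊤), u ∈ U.toScheme.basicOpen a ↔ a ∉ 𝔭 := by
      intro a
      rw [← Scheme.toSpecΓ_preimage_basicOpen]
      show U.toScheme.toSpecΓ u ∈ PrimeSpectrum.basicOpen a ↔ _
      have : U.toScheme.toSpecΓ u = x := by
        show U.toScheme.isoSpec.hom (U.toScheme.isoSpec.inv x) = x
        rw [← Scheme.Hom.comp_apply, Iso.inv_hom_id]
        rfl
      rw [this]
      rfl
    have hz : Nonempty (Spec (S.residueField s)) := inferInstance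
    obtain ⟨z⟩ := hz
    have hbo : ∀ a : Γ(U.toScheme, ⊤),
        z ∈ (Spec (S.residueField s)).basicOpen (t.appTop.hom a) ↔ a ∉ 𝔭 := by
      intro a
      rw [← hmem a, ← htpt z]
      have := Scheme.preimage_basicOpen_top t a
      rw [← this]
      rfl
    constructor
    · intro a ha
      rcases eq_zero_or_isUnit_of_field (S.residueField s) (t.appTop.hom a) with h | h
      · exact h
      · exfalso
        have h1 : z ∈ (Spec (S.residueField s)).basicOpen (t.appTop.hom a) := by
          rw [Scheme.basicOpen_of_isUnit _ h]; trivial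
        exact ((hbo a).mp h1) ha
    · intro a ha
      rcases eq_zero_or_isUnit_of_field (S.residueField s) (t.appTop.hom a) with h | h
      · exfalso
        have h1 := (hbo a).mpr ha
        rw [h, Scheme.basicOpen_zero] at h1
        exact h1
      · exact h






set_option maxHeartbeats 800000 in
/-- affine-local statement -/
theorem isIso_resLE_of_fibres {S P Q : Scheme.{u}} [IsNoetherian S] (p : P ⟶ S) (q : Q ⟶ S)
    (ψ : P ⟶ Q) (hp : ψ ≫ q = p) [IsFinite p] [Flat p] [IsFinite q] [Flat q]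
    (hfib : ∀ s : S, ringKrullDim (S.presheaf.stalk s) ≤ 1 →
      IsIso (pullback.map p (S.fromSpecResidueField s) q (S.fromSpecResidueField s) ψ (𝟙 _) (𝟙 S)
        (by simp [hp]) (by simp)))
    (U : S.Opens) (hU : IsAffineOpen U)
    (ψV : (p ⁻¹ᵁ U).toScheme ⟶ (q ⁻¹ᵁ U).toScheme)
    (hψV : ψV ≫ (q ⁻¹ᵁ U).ι = (p ⁻¹ᵁ U).ι ≫ ψ) : IsIso ψV := by
  haveI : IsAffine U.toScheme := hU
  haveI : IsAffine (q ⁻¹ᵁ U).toScheme := hU.preimage q
  haveI : IsAffine (p ⁻¹ᵁ U).toScheme := hU.preimage p
  have hcomp : ψV ≫ (q ∣_ U) = p ∣_ U := by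
    rw [← cancel_mono U.ι, Category.assoc, morphismRestrict_ι, morphismRestrict_ι,
      reassoc_of% hψV, hp]
  haveI : IsNoetherianRing Γ(U.toScheme, ⊤) :=
    haveI : IsNoetherianRing Γ(S, U) := IsLocallyNoetherian.component_noetherian ⟨U, hU⟩
    isNoetherianRing_of_ringEquiv Γ(S, U) (U.topIso.symm.commRingCatIsoToRingEquiv)
  letI algC : Algebra Γ(U.toScheme, ⊤) Γ((q ⁻¹ᵁ U).toScheme, ⊤) := (q ∣_ U).appTop.hom.toAlgebra
  letI algB : Algebra Γ(U.toScheme, ⊤) Γ((p ⁻¹ᵁ U).toScheme, ⊤) := (p ∣_ U).appTop.hom.toAlgebra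
  haveI : Module.Finite Γ(U.toScheme, ⊤) Γ((q ⁻¹ᵁ U).toScheme, ⊤) := (q ∣_ U).finite_appTop
  haveI : Module.Finite Γ(U.toScheme, ⊤) Γ((p ⁻¹ᵁ U).toScheme, ⊤) := (p ∣_ U).finite_appTop
  haveI : Module.Flat Γ(U.toScheme, ⊤) Γ((q ⁻¹ᵁ U).toScheme, ⊤) := (q ∣_ U).flat_appTop
  haveI : Module.Flat Γ(U.toScheme, ⊤) Γ((p ⁻¹ᵁ U).toScheme, ⊤) := (p ∣_ U).flat_appTop
  let φ : Γ((q ⁻¹ᵁ U).toScheme, ⊤) →ₗ[Γ(U.toScheme, ⊤)] Γ((p ⁻¹ᵁ U).toScheme, ⊤) :=
    { toFun := fun c => ψV.appTop.hom c
      map_add' := fun c d => map_add _ c d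
      map_smul' := by
        intro a c
        simp only [Algebra.smul_def, RingHom.id_apply, map_mul]
        congr 1
        show ψV.appTop.hom ((q ∣_ U).appTop.hom a) = (p ∣_ U).appTop.hom a
        rw [← hcomp, Scheme.Hom.comp_appTop]
        rfl }
  have hφ : ∀ c, φ c = ψV.appTop.hom c := fun c => rfl
  have hbij : Function.Bijective φ := by
    refine core φ ?_
    intro 𝔭 h𝔭 hht
    obtain ⟨s, t, ht, hdim, hzero, hunit⟩ := exists_residue_data U hU 𝔭
    have hdim1 : ringKrullDim (S.presheaf.stalk s) ≤ 1 := by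
      rw [hdim]; exact_mod_cast hht
    letI algK : Algebra Γ(U.toScheme, ⊤) Γ(Spec (S.residueField s), ⊤) := t.appTop.hom.toAlgebra
    refine ⟨Γ(Spec (S.residueField s), ⊤), inferInstance, nontrivial_of_field (S.residueField s),
      algK, hzero, hunit, ?_⟩
    exact bijective_of_isIso_fibre p q ψ hp U hU (S.fromSpecResidueField s) t ht ψV hψV
      (hfib s hdim1) rfl rfl rfl φ hφ
  have : IsIso ψV.appTop := by
    rw [ConcreteCategory.isIso_iff_bijective]
    exact hbij
  exact (MorphismProperty.arrow_mk_iso_iff (MorphismProperty.isomorphisms _)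
    (arrowIsoSpecΓOfIsAffine ψV)).mpr (inferInstanceAs (IsIso (Spec.map ψV.appTop)))

theorem isIso_of_fibres {S P Q : Scheme.{u}} [IsNoetherian S] (p : P ⟶ S) (q : Q ⟶ S)
    (ψ : P ⟶ Q) (hp : ψ ≫ q = p) [IsFinite p] [Flat p] [IsFinite q] [Flat q]
    (hfib : ∀ s : S, ringKrullDim (S.presheaf.stalk s) ≤ 1 →
      IsIso (pullback.map p (S.fromSpecResidueField s) q (S.fromSpecResidueField s) ψ (𝟙 _) (𝟙 S)
        (by simp [hp]) (by simp))) : IsIso ψ := by
  have hsup : (⨆ U : S.affineOpens, q ⁻¹ᵁ U.1) = ⊤ := by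
    rw [← Scheme.Hom.preimage_iSup, iSup_affineOpens_eq_top]
    rfl
  rw [← MorphismProperty.isomorphisms.iff]
  refine (IsZariskiLocalAtTarget.iff_of_iSup_eq_top (P := MorphismProperty.isomorphisms Scheme)
    (fun U : S.affineOpens => q ⁻¹ᵁ U.1) hsup).mpr ?_
  rintro ⟨U, hU⟩
  have e₂ : ψ ⁻¹ᵁ (q ⁻¹ᵁ U) = p ⁻¹ᵁ U := by rw [← hp]; rfl
  show MorphismProperty.isomorphisms Scheme (ψ ∣_ (q ⁻¹ᵁ U))
  rw [← Scheme.Hom.resLE_eq_morphismRestrict,
    Scheme.Hom.resLE_congr ψ le_rfl rfl e₂ (MorphismProperty.isomorphisms Scheme)]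
  exact isIso_resLE_of_fibres p q ψ hp hfib U hU _ (Scheme.Hom.resLE_comp_ι _ _)


/-- Let `S` be a Noetherian scheme, `G` a finite flat `S`-group scheme and `Y` a finite flat `S`-scheme
with an action of `G`; let `Ψ : G ×_S Y → Y ×_S Y` be `(g, y) ↦ (g y, y)`. Suppose that for every
point `s ∈ S` of codimension at most `1` (local ring of dimension `≤ 1`) the fibre `Y_s` is a torsor
under `G_s`: it is nonempty and the base change of `Ψ` to `Spec κ(s)` is an isomorphism. Then `Y` is
a `G`-torsor: `Ψ` is an isomorphism and `Y → S` is surjective (so the finite flat cover `Y → S`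
itself trivialises `Y`). -/
theorem result
    (S : Scheme.{u}) [AlgebraicGeometry.IsNoetherian S]
    (G Y : Over S) [GrpObj G]
    [AlgebraicGeometry.IsFinite G.hom] [AlgebraicGeometry.Flat G.hom]
    [AlgebraicGeometry.IsFinite Y.hom] [AlgebraicGeometry.Flat Y.hom]
    (a : AlgGrp.Action G Y)
    (hfib : ∀ s : S, ringKrullDim (S.presheaf.stalk s) ≤ 1 →
      s ∈ Set.range Y.hom.base ∧
      IsIso (pullback.map (G ⊗ Y).hom (S.fromSpecResidueField s) (Y ⊗ Y).hom (S.fromSpecResidueField s)
        (CartesianMonoidalCategory.lift a.act (CartesianMonoidalCategory.snd G Y)).left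
        (𝟙 _) (𝟙 S)
        ((Category.comp_id _).trans
          (Over.w (CartesianMonoidalCategory.lift a.act (CartesianMonoidalCategory.snd G Y))).symm)
        ((Category.comp_id _).trans (Category.id_comp _).symm))) :
    IsIso (CartesianMonoidalCategory.lift a.act (CartesianMonoidalCategory.snd G Y)).left ∧
      Function.Surjective Y.hom.base := by
  haveI : IsFinite (G ⊗ Y).hom := by rw [Over.tensorObj_hom]; infer_instance
  haveI : Flat (G ⊗ Y).hom := by rw [Over.tensorObj_hom]; infer_instance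
  haveI : IsFinite (Y ⊗ Y).hom := by rw [Over.tensorObj_hom]; infer_instance
  haveI : Flat (Y ⊗ Y).hom := by rw [Over.tensorObj_hom]; infer_instance
  exact ⟨isIso_of_fibres (G ⊗ Y).hom (Y ⊗ Y).hom
      (CartesianMonoidalCategory.lift a.act (CartesianMonoidalCategory.snd G Y)).left
      (Over.w _) (fun s hs => (hfib s hs).2),
    surjective_of_codimZero Y.hom (fun s hs => (hfib s hs).1)⟩

end Groth.Agent.S15809
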