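import Groth.Statements.S1581
import Mathlib

set_option autoImplicit false
universe u
open CategoryTheory CategoryTheory.Limits AlgebraicGeometry
open Variety

namespace Groth.Agent.S1581


abbrev fpqc : MorphismProperty Scheme.{u} := @Surjective ⊓ @Flat ⊓ @QuasiCompact

/-- quasi-compactness descends along surjective quasi-compact morphisms -/
theorem quasiCompact_of_isPullback {A X Y Z : Scheme.{u}} {fst : A ⟶ X} {snd : A ⟶ Y} {f : X ⟶ Z}
    {g : Y ⟶ Z} (h : IsPullback fst snd f g) [Surjective f] [QuasiCompact f] [QuasiCompact fst] :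
    QuasiCompact g := by
  haveI : Surjective snd := MorphismProperty.of_isPullback (P := @Surjective) h ‹_›
  refine ⟨fun U hU hU' => ?_⟩
  have h1 : IsCompact (f ⁻¹' U) := QuasiCompact.isCompact_preimage (f := f) U hU hU'
  have h1o : IsOpen (f ⁻¹' U) := hU.preimage f.continuous
  have h2 : IsCompact (fst ⁻¹' (f ⁻¹' U)) := QuasiCompact.isCompact_preimage (f := fst) _ h1o h1
  have h3 : fst ⁻¹' (f ⁻¹' U) = snd ⁻¹' (g ⁻¹' U) := by
    ext a
    simp only [Set.mem_preimage]
    rw [← Scheme.Hom.comp_apply, ← Scheme.Hom.comp_apply, h.w]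
  rw [h3] at h2
  have h4 : g ⁻¹' U = snd '' (snd ⁻¹' (g ⁻¹' U)) :=
    (Set.image_preimage_eq _ snd.surjective).symm
  rw [h4]
  exact h2.image snd.continuous

theorem isSeparated_iff_diagonal_univClosed {X Y : Scheme.{u}} (f : X ⟶ Y) :
    IsSeparated f ↔ MorphismProperty.diagonal @UniversallyClosed f := by
  constructor
  · intro h
    show UniversallyClosed (pullback.diagonal f)
    infer_instance
  · intro h
    have h' : UniversallyClosed (pullback.diagonal f) := h
    refine ⟨?_⟩
    apply IsClosedImmersion.of_isPreimmersion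
    exact (pullback.diagonal f).isClosedMap.isClosed_range


theorem isSeparated_of_isPullback {A X Y Z : Scheme.{u}} {fst : A ⟶ X} {snd : A ⟶ Y} {f : X ⟶ Z}
    {g : Y ⟶ Z} (h : IsPullback fst snd f g) (hf : fpqc f) [IsSeparated fst] :
    IsSeparated g := by
  rw [isSeparated_iff_diagonal_univClosed]
  have h1 : MorphismProperty.diagonal @UniversallyClosed fst :=
    (isSeparated_iff_diagonal_univClosed fst).1 ‹_›
  exact MorphismProperty.of_isPullback_of_descendsAlong (P := MorphismProperty.diagonal @UniversallyClosed)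
    (Q := fpqc) h hf h1

theorem isProper_of_isPullback {A X Y Z : Scheme.{u}} {fst : A ⟶ X} {snd : A ⟶ Y} {f : X ⟶ Z}
    {g : Y ⟶ Z} (h : IsPullback fst snd f g) [Surjective f] [Flat f] [QuasiCompact f] [IsProper fst] :
    IsProper g := by
  have hf : fpqc f := ⟨⟨‹_›, ‹_›⟩, ‹_›⟩
  haveI : IsSeparated g := isSeparated_of_isPullback h hf
  haveI : UniversallyClosed g :=
    MorphismProperty.of_isPullback_of_descendsAlong (P := @UniversallyClosed) (Q := fpqc) h hf
      inferInstance
  haveI : LocallyOfFiniteType g :=
    MorphismProperty.of_isPullback_of_descendsAlong (P := @LocallyOfFiniteType) (Q := fpqc) h hf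
      inferInstance
  haveI : QuasiCompact g := quasiCompact_of_isPullback h
  exact {}


/-- Let X be a scheme over a field k and K a field extension of k. If X_K is proper over K then X is
proper over k. -/
theorem result (k : Type u) [Field k] (X : Scheme.{u}) [X.Over (Spec (CommRingCat.of k))] (K : Type u) [Field K] [Algebra k K]
    [IsProper (Curv2.bcSnd k X K)] : IsProper (X ↘ (Spec (CommRingCat.of k))) := by
  have hsq : IsPullback (Curv2.bcSnd k X K) (Curv2.bcFst k X K)
      (Spec.map (CommRingCat.ofHom (algebraMap k K))) (X ↘ Spec (CommRingCat.of k)) :=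
    (IsPullback.of_hasPullback _ _).flip
  haveI : Surjective (Spec.map (CommRingCat.ofHom (algebraMap k K))) := by
    refine ⟨fun y => ?_⟩
    haveI : Subsingleton (Spec (CommRingCat.of k)) :=
      inferInstanceAs (Subsingleton (PrimeSpectrum k))
    haveI : Nonempty (Spec (CommRingCat.of K)) :=
      inferInstanceAs (Nonempty (PrimeSpectrum K))
    exact ⟨Classical.arbitrary _, Subsingleton.elim _ _⟩
  haveI : Flat (Spec.map (CommRingCat.ofHom (algebraMap k K))) := by
    rw [HasRingHomProperty.Spec_iff (P := @Flat)]
    simp only [CommRingCat.hom_ofHom]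
    rw [RingHom.flat_algebraMap_iff]
    infer_instance
  exact isProper_of_isPullback hsq

end Groth.Agent.S1581
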