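import Groth.Statements.S15810
import Groth.Agent.Lib.Helper22.HsInv

set_option autoImplicit false
universe u
open WildQuot

namespace Groth.Agent.S15810

/-- `a i ≠ 0` from the coprimality hypotheses -/
theorem a_ne_zero {k : Type u} [Field k] (n : ℕ) (hn : 2 ≤ n)
    (a : Fin n → MvPowerSeries (Fin n) k)
    (ham : ∀ i, MvPowerSeries.constantCoeff (a i) = 0) (hcop : ∀ i j, i ≠ j → IsRelPrime (a i) (a j))
    (i : Fin n) : a i ≠ 0 := by
  intro h0
  obtain ⟨j, hj⟩ : ∃ j : Fin n, j ≠ i := by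
    by_contra hcon
    rw [not_exists] at hcon
    have : ∀ j : Fin n, j = i := fun j => not_not.mp (hcon j)
    have h01 : (⟨0, by omega⟩ : Fin n) = ⟨1, by omega⟩ := (this _).trans (this _).symm
    simp at h01
  have h1 := hcop j i hj
  rw [h0] at h1
  have hu : IsUnit (a j) := h1 (dvd_refl _) (dvd_zero _)
  rw [MvPowerSeries.isUnit_iff_constantCoeff, ham j] at hu
  exact not_isUnit_zero hu

open Groth.Agent.Lib.helper22 in
/-- the statement for the Artin–Schreier family ring `ASFam.A` -/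
theorem aux (p : ℕ) [Fact p.Prime] (k : Type u) [Field k] [CharP k p] (n : ℕ) (hn : 2 ≤ n)
    (a : Fin n → MvPowerSeries (Fin n) k) (μ : MvPowerSeries (Fin n) k)
    (ham : ∀ i, MvPowerSeries.constantCoeff (a i) = 0) (hcop : ∀ i j, i ≠ j → IsRelPrime (a i) (a j))
    (hμ : μ ≠ 0) (s : Fin n → ZMod p) (hs : s ≠ 0)
    (σ : Fin n → (ASFam.A p k n (fun i => μ * a i) ≃ₐ[MvPowerSeries (Fin n) k]
      ASFam.A p k n (fun i => μ * a i)))
    (hσ : ∀ i j, σ i (ASFam.uu p k n (fun i => μ * a i) j) = ASFam.uu p k n (fun i => μ * a i) j +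
      (if i = j then algebraMap (MvPowerSeries (Fin n) k) (ASFam.A p k n (fun i => μ * a i)) (μ * a i)
        else 0)) :
    (∀ t : ASFam.A p k n (fun i => μ * a i),
      (∀ ν : Fin n → ZMod p, ∑ i, ν i * s i = 0 →
          (List.ofFn (fun i : Fin n => σ i ^ (ν i).val)).prod t = t) ↔
        t ∈ (Polynomial.aeval (HsInv.zs p k n (fun i => μ * a i)
          (Finset.univ.filter (fun i => s i ≠ 0))
          (fun i => algebraMap k (MvPowerSeries (Fin n) k) (ZMod.castHom (dvd_refl p) k (s i)) *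
            ∏ j ∈ (Finset.univ.filter (fun j => s j ≠ 0)).erase i, a j)) :
          Polynomial (MvPowerSeries (Fin n) k) →ₐ[MvPowerSeries (Fin n) k]
            ASFam.A p k n (fun i => μ * a i)).range) ∧
      RingHom.ker (Polynomial.aeval (HsInv.zs p k n (fun i => μ * a i)
          (Finset.univ.filter (fun i => s i ≠ 0))
          (fun i => algebraMap k (MvPowerSeries (Fin n) k) (ZMod.castHom (dvd_refl p) k (s i)) *
            ∏ j ∈ (Finset.univ.filter (fun j => s j ≠ 0)).erase i, a j)) :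
          Polynomial (MvPowerSeries (Fin n) k) →ₐ[MvPowerSeries (Fin n) k]
            ASFam.A p k n (fun i => μ * a i)) =
        Ideal.span {(Polynomial.X ^ p - Polynomial.C ((μ * ∏ i ∈ Finset.univ.filter (fun i => s i ≠ 0),
          a i) ^ (p - 1)) * Polynomial.X
          - Polynomial.C (∑ i ∈ Finset.univ.filter (fun i => s i ≠ 0),
            algebraMap k (MvPowerSeries (Fin n) k) (ZMod.castHom (dvd_refl p) k (s i)) *
              (∏ j ∈ (Finset.univ.filter (fun j => s j ≠ 0)).erase i, a j) ^ p *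
              MvPowerSeries.X i) : Polynomial (MvPowerSeries (Fin n) k))} := by
  have ha0 := a_ne_zero n hn a ham hcop
  have ham' : ∀ i, MvPowerSeries.constantCoeff (μ * a i) = 0 := by
    intro i; rw [map_mul, ham, mul_zero]
  have hb0 : ∀ i, μ * a i ≠ 0 := fun i => mul_ne_zero hμ (ha0 i)
  set S := Finset.univ.filter (fun i => s i ≠ 0) with hSdef
  have hS : ∀ i, i ∈ S ↔ s i ≠ 0 := by
    intro i; rw [hSdef, Finset.mem_filter]; simp
  set w : Fin n → MvPowerSeries (Fin n) k := fun i =>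
    algebraMap k (MvPowerSeries (Fin n) k) (ZMod.castHom (dvd_refl p) k (s i)) *
      ∏ j ∈ S.erase i, a j with hw
  set δ0 : MvPowerSeries (Fin n) k := μ * ∏ i ∈ S, a i with hδ0def
  have hcC : ∀ i, algebraMap k (MvPowerSeries (Fin n) k) (ZMod.castHom (dvd_refl p) k (s i)) =
      MvPowerSeries.C (ZMod.castHom (dvd_refl p) k (s i)) := fun i => rfl
  have hwb : ∀ i ∈ S, w i * (μ * a i) =
      MvPowerSeries.C (ZMod.castHom (dvd_refl p) k (s i)) * δ0 := by
    intro i hi
    have hwi : w i = MvPowerSeries.C (ZMod.castHom (dvd_refl p) k (s i)) * ∏ j ∈ S.erase i, a j := rfl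
    rw [hwi, hδ0def, ← Finset.mul_prod_erase S a hi]
    ring
  have hδ0 : δ0 ≠ 0 := by
    rw [hδ0def]
    refine mul_ne_zero hμ ?_
    rw [Finset.prod_ne_zero_iff]
    exact fun i _ => ha0 i
  haveI hreg := Groth.Agent.LibObs29.isRegularLocalRing_mvPowerSeries k n
  haveI : IsDomain (MvPowerSeries (Fin n) k) := NoZeroDivisors.to_isDomain _
  haveI : UniqueFactorizationMonoid (MvPowerSeries (Fin n) k) :=
    (Groth.Agent.S2821.result (MvPowerSeries (Fin n) k)).2
  have hSne : S.Nonempty := by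
    obtain ⟨i1, hi1⟩ := Function.ne_iff.mp hs
    exact ⟨i1, (hS i1).mpr hi1⟩
  have hdvd : ∀ m : MvPowerSeries (Fin n) k, (∀ i ∈ S, (μ * a i) ^ (p - 1) ∣ m) →
      δ0 ^ (p - 1) ∣ m := fun m hm => HsInv.prod_pow_dvd S hSne a μ hμ hcop (p - 1) m hm
  have hprod := HsInv.prod_sigma_eq p k n (fun i => μ * a i) σ hσ
  refine ⟨fun t => ⟨fun h => ?_, fun h ν hν => ?_⟩, ?_⟩
  · apply HsInv.mem_range_of_fixed_Hs p k n (fun i => μ * a i) s S hS w δ0 hwb hs hδ0 ham' hb0 hdvd t
    intro ν hν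
    rw [← hprod ν]
    exact h ν hν
  · rw [hprod ν]
    exact HsInv.fixed_of_mem_range p k n (fun i => μ * a i) s S hS w δ0 hwb t h ν hν
  · have he : (∑ i ∈ S, w i ^ p * MvPowerSeries.X i) =
        ∑ i ∈ S, algebraMap k (MvPowerSeries (Fin n) k) (ZMod.castHom (dvd_refl p) k (s i)) *
          (∏ j ∈ S.erase i, a j) ^ p * MvPowerSeries.X i := by
      refine Finset.sum_congr rfl fun i hi => ?_
      have hwi : w i = algebraMap k (MvPowerSeries (Fin n) k) (ZMod.castHom (dvd_refl p) k (s i)) *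
        ∏ j ∈ S.erase i, a j := rfl
      rw [hwi, mul_pow]
      congr 2
      rw [← map_pow, ← map_pow, ZMod.pow_card]
    rw [HsInv.ker_aeval_zs p k n (fun i => μ * a i) s S hS w δ0 hwb hs hδ0 ham', he]
    rfl

open MvPolynomial in
/-- Let `k` be a field of characteristic `p > 0`, `n ≥ 2`, `R = k[[x_1, …, x_n]]`, `a_1, …, a_n ∈ R`
with zero constant term and pairwise coprime, `μ ∈ R` nonzero and coprime to each `a_i`, `A = R[u_1,
…, u_n] / (u_i ^ p - (μ a_i) ^ (p-1) u_i - x_i : i = 1..n)`, and `σ_1, …, σ_n` the `R`-algebra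
automorphisms of `A` with `σ_i u_j = u_j + δ_{ij} μ a_i` (they generate an elementary abelian group
`H` of order `p ^ n`). For a nonzero vector `s ∈ (ℤ/p)^n` let `H_s = {ν : Σ ν_i s_i = 0}`, `α =
∏_{s_i ≠ 0} a_i`, `α_i = ∏_{j ≠ i, s_j ≠ 0} a_j`, `z_s = Σ_{s_i ≠ 0} s_i α_i u_i` and `f_s(T) = T ^
p - (μ α) ^ (p-1) T - Σ_{s_i ≠ 0} s_i α_i ^ p x_i`. Then an element of `A` is fixed by `∏_i σ_i ^
{ν_i}` for every `ν ∈ H_s` if and only if it is a polynomial over `R` in `z_s`, and the kernel of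
`R[T] → A`, `T ↦ z_s`, is generated by `f_s`: the ring of invariants of `H_s` is `R[T]/(f_s)`, in
particular free of rank `p` over `R`. -/
theorem result
    (p : ℕ) [Fact p.Prime] (k : Type u) [Field k] [CharP k p] (n : ℕ) (hn : 2 ≤ n)
    (a : Fin n → MvPowerSeries (Fin n) k) (μ : MvPowerSeries (Fin n) k)
    (ham : ∀ i, MvPowerSeries.constantCoeff (a i) = 0) (hcop : ∀ i j, i ≠ j → IsRelPrime (a i) (a j))
    (hμ : μ ≠ 0) (hμa : ∀ i, IsRelPrime μ (a i))
    (s : Fin n → ZMod p) (hs : s ≠ 0) :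
    let R := MvPowerSeries (Fin n) k
    let I : Ideal (MvPolynomial (Fin n) R) :=
      Ideal.span (Set.range fun i : Fin n =>
        X i ^ p - C ((μ * a i) ^ (p - 1)) * X i - C (MvPowerSeries.X i))
    let A := MvPolynomial (Fin n) R ⧸ I
    let u : Fin n → A := fun i => Ideal.Quotient.mk I (X i)
    let c : Fin n → R := fun i => algebraMap k R (ZMod.castHom (dvd_refl p) k (s i))
    let α : R := ∏ i ∈ Finset.univ.filter (fun i => s i ≠ 0), a i
    let αi : Fin n → R := fun i => ∏ j ∈ (Finset.univ.filter (fun j => s j ≠ 0)).erase i, a j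
    let z : A := ∑ i ∈ Finset.univ.filter (fun i => s i ≠ 0), algebraMap R A (c i * αi i) * u i
    let f : Polynomial R := Polynomial.X ^ p - Polynomial.C ((μ * α) ^ (p - 1)) * Polynomial.X
      - Polynomial.C (∑ i ∈ Finset.univ.filter (fun i => s i ≠ 0), c i * αi i ^ p * MvPowerSeries.X i)
    ∀ σ : Fin n → (A ≃ₐ[R] A),
      (∀ i j, σ i (u j) = u j + (if i = j then algebraMap R A (μ * a i) else 0)) →
      (∀ t : A, (∀ ν : Fin n → ZMod p, ∑ i, ν i * s i = 0 →
          (List.ofFn (fun i : Fin n => σ i ^ (ν i).val)).prod t = t) ↔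
        t ∈ (Polynomial.aeval z : Polynomial R →ₐ[R] A).range) ∧
      RingHom.ker (Polynomial.aeval z : Polynomial R →ₐ[R] A) = Ideal.span {f} := by
  intro R I A u c α αi z f σ hσ
  exact aux p k n hn a μ ham hcop hμ s hs σ hσ

end Groth.Agent.S15810
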