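import Groth.Statements.S15811
import Mathlib
-- import your own Groth.Agent.* helpers here

set_option autoImplicit false
universe u
open WildQuot

namespace Groth.Agent.S15811

/-- Let `R` be an integrally closed domain of prime characteristic `p` with fraction field `K`, and `α ∈
R`. Then `α ≠ 0` and the polynomial `T ^ p - α T` splits into linear factors over `K` — which says
that the finite flat group scheme `Spec R[T]/(T ^ p - α T)` of order `p` has constant generic fibre
(its `p` roots are then distinct) — if and only if `α = a ^ (p-1)` for some nonzero `a ∈ R`. (The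
published statement is that the generic fibre of the finite flat group scheme of order `p` with
parameters `α, β` satisfying `α β = 0`, whose underlying scheme is `Spec R[T]/(T ^ p - α T)`, is
constant if and only if `β = 0` and `α` is the `(p-1)`-th power of a nonzero element of `R`; this
row states the polynomial condition, in which `α ≠ 0` already forces `β = 0` over a domain.) -/
theorem result
    (p : ℕ) [Fact p.Prime] (R : Type u) [CommRing R] [IsDomain R] [IsIntegrallyClosed R]
    [CharP R p] (α : R) :
    (α ≠ 0 ∧ (Polynomial.map (algebraMap R (FractionRing R))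
        (Polynomial.X ^ p - Polynomial.C α * Polynomial.X)).Splits) ↔
      ∃ a : R, a ≠ 0 ∧ α = a ^ (p - 1) := by
  classical
  have hp := (Fact.out : p.Prime)
  have hp2 : 2 ≤ p := hp.two_le
  have hinj : Function.Injective (algebraMap R (FractionRing R)) :=
    IsFractionRing.injective R (FractionRing R)
  have hmap : Polynomial.map (algebraMap R (FractionRing R))
      (Polynomial.X ^ p - Polynomial.C α * Polynomial.X) =
      Polynomial.X ^ p - Polynomial.C (algebraMap R (FractionRing R) α) * Polynomial.X := by
    simp [Polynomial.map_sub, Polynomial.map_pow, Polynomial.map_mul]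
  rw [hmap]
  haveI : ExpChar (FractionRing R) p := ExpChar.prime hp
  constructor
  · rintro ⟨hα, hs⟩
    have hfac : (Polynomial.X ^ p - Polynomial.C (algebraMap R (FractionRing R) α) * Polynomial.X :
        Polynomial (FractionRing R)) =
        Polynomial.X * (Polynomial.X ^ (p - 1) - Polynomial.C (algebraMap R (FractionRing R) α)) := by
      have : p = (p - 1) + 1 := by omega
      conv_lhs => rw [this, pow_succ]
      ring
    rw [hfac, Polynomial.splits_X_mul] at hs
    have hdeg : (Polynomial.X ^ (p - 1) - Polynomial.C (algebraMap R (FractionRing R) α) :
        Polynomial (FractionRing R)).degree ≠ 0 := by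
      rw [Polynomial.degree_X_pow_sub_C (by omega : 0 < p - 1)]
      exact_mod_cast (by omega : p - 1 ≠ 0)
    obtain ⟨b, hb⟩ := hs.exists_eval_eq_zero hdeg
    simp only [Polynomial.eval_sub, Polynomial.eval_pow, Polynomial.eval_X, Polynomial.eval_C] at hb
    have hb' : b ^ (p - 1) = algebraMap R (FractionRing R) α := sub_eq_zero.1 hb
    obtain ⟨a, ha⟩ := IsIntegrallyClosed.exists_algebraMap_eq_of_isIntegral_pow (R := R) (x := b)
      (by omega : 0 < p - 1) (by rw [hb']; exact isIntegral_algebraMap)
    refine ⟨a, ?_, ?_⟩
    · rintro rfl
      rw [map_zero] at ha
      rw [← ha, zero_pow (by omega)] at hb'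
      exact hα (hinj (by rw [← hb', map_zero]))
    · apply hinj
      rw [map_pow, ha, hb']
  · rintro ⟨a, ha, rfl⟩
    refine ⟨pow_ne_zero _ ha, ?_⟩
    have ha'0 : algebraMap R (FractionRing R) a ≠ 0 := by
      intro h
      exact ha (hinj (by rw [h, map_zero]))
    rw [map_pow]
    generalize algebraMap R (FractionRing R) a = a' at ha'0
    set f : Polynomial (FractionRing R) :=
      Polynomial.X ^ p - Polynomial.C (a' ^ (p - 1)) * Polynomial.X with hf
    have hnd : f.natDegree = p := by
      rw [hf]
      have h1 : (Polynomial.C (a' ^ (p - 1)) * Polynomial.X : Polynomial (FractionRing R)).natDegree <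
          (Polynomial.X ^ p : Polynomial (FractionRing R)).natDegree := by
        rw [Polynomial.natDegree_X_pow]
        have h2 := Polynomial.natDegree_C_mul_le (a' ^ (p - 1)) (Polynomial.X : Polynomial (FractionRing R))
        rw [Polynomial.natDegree_X] at h2
        omega
      rw [Polynomial.natDegree_sub_eq_left_of_natDegree_lt h1, Polynomial.natDegree_X_pow]
    have hf0 : f ≠ 0 := by
      intro h; rw [h] at hnd; simp at hnd; omega
    rw [Polynomial.splits_iff_card_roots, hnd]
    apply le_antisymm
    · rw [← hnd]; exact Polynomial.card_roots' f
    · have hS : ((Finset.range p).image (fun n : ℕ => (n : FractionRing R) * a')).card = p := by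
        rw [Finset.card_image_of_injOn, Finset.card_range]
        intro n hn m hm hnm
        have : (n : FractionRing R) = m := mul_right_cancel₀ ha'0 hnm
        exact CharP.natCast_injOn_Iio (FractionRing R) p (Finset.mem_range.1 hn)
          (Finset.mem_range.1 hm) this
      have hsub : (Finset.range p).image (fun n : ℕ => (n : FractionRing R) * a') ⊆ f.roots.toFinset := by
        intro x hx
        obtain ⟨n, -, rfl⟩ := Finset.mem_image.1 hx
        rw [Multiset.mem_toFinset, Polynomial.mem_roots hf0, Polynomial.IsRoot.def]
        simp only [hf, Polynomial.eval_sub, Polynomial.eval_pow, Polynomial.eval_X,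
          Polynomial.eval_mul, Polynomial.eval_C]
        have hn : (n : FractionRing R) ^ p = n := by
          have := map_natCast (frobenius (FractionRing R) p) n
          rwa [frobenius_def] at this
        rw [mul_pow, hn]
        have : a' ^ p = a' ^ (p - 1) * a' := by
          rw [← pow_succ]; congr 1; omega
        rw [this]; ring
      calc p = ((Finset.range p).image (fun n : ℕ => (n : FractionRing R) * a')).card := hS.symm
        _ ≤ f.roots.toFinset.card := Finset.card_le_card hsub
        _ ≤ Multiset.card f.roots := Multiset.toFinset_card_le _

end Groth.Agent.S15811
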