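import Groth.Statements.S19996
import Mathlib
import Groth.Agent.S13864

set_option autoImplicit false
universe u
open WildQuot

namespace Groth.Agent.S19996

open PowerSeries
open Groth.Agent.S13864 (U U_one U_mul U_cc)

section Aux
variable {k : Type*} [Field k]

theorem U_pow {n : ℕ} (hn : 0 < n) {y : PowerSeries k} {α : k} (h : U n y α) (j : ℕ) :
    U n (y ^ j) ((j : k) * α) := by
  induction j with
  | zero => rw [pow_zero, Nat.cast_zero, zero_mul]; exact U_one n
  | succ j ih =>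
    rw [pow_succ]
    have h2 := U_mul hn ih h
    have e : ((j : ℕ) : k) * α + α = ((j + 1 : ℕ) : k) * α := by push_cast; ring
    rw [e] at h2
    exact h2

theorem exists_of_order {f : PowerSeries k} {n : ℕ} (hf : f.order = (n : ℕ∞)) :
    ∃ g : PowerSeries k, constantCoeff g ≠ 0 ∧ f = X ^ n * g := by
  obtain ⟨h1, h2⟩ := order_eq_nat.mp hf
  obtain ⟨g, hg⟩ := X_pow_dvd_iff.mpr h2
  refine ⟨g, ?_, hg⟩
  intro h0
  apply h1
  rw [hg, coeff_X_pow_mul', if_pos (le_refl n), Nat.sub_self, coeff_zero_eq_constantCoeff_apply, h0]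

theorem order_X_pow_mul {g : PowerSeries k} (hg : constantCoeff g ≠ 0) (n : ℕ) :
    (X ^ n * g).order = (n : ℕ∞) := by
  rw [order_mul, order_X_pow]
  have h0 : g.order = ((0 : ℕ) : ℕ∞) :=
    order_eq_nat.mpr ⟨by rwa [coeff_zero_eq_constantCoeff_apply],
      fun i hi => absurd hi (Nat.not_lt_zero i)⟩
  rw [h0, Nat.cast_zero, add_zero]

variable (σ : PowerSeries k ≃ₐ[k] PowerSeries k)

theorem D_dvd {n : ℕ} {e : PowerSeries k} (he : σ X = X + e) (hdiv : X ^ n ∣ e) :
    ∀ f : PowerSeries k, X ^ n ∣ σ f - f := by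
  have key : ∀ N, N ≤ n → ∀ f : PowerSeries k, X ^ N ∣ σ f - f := by
    intro N
    induction N with
    | zero => intro _ f; rw [pow_zero]; exact one_dvd _
    | succ N ih =>
      intro hN f
      obtain ⟨f', c, hf⟩ : ∃ (f' : PowerSeries k) (c : k), f = X * f' + C c :=
        ⟨_, _, eq_X_mul_shift_add_const f⟩
      obtain ⟨w, hw⟩ := ih (by omega) f'
      obtain ⟨w', hw'⟩ := dvd_trans (pow_dvd_pow (X : PowerSeries k) hN) hdiv
      have c1 : σ (C c) = C c := σ.commutes c
      refine ⟨w + w' * σ f', ?_⟩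
      rw [hf, map_add, map_mul, c1, he]
      linear_combination X * hw + (σ f') * hw'
  exact key n (le_refl n)

theorem cc_sigma (h0 : constantCoeff (σ X) = 0) (f : PowerSeries k) :
    constantCoeff (σ f) = constantCoeff f := by
  obtain ⟨f', c, hf⟩ : ∃ (f' : PowerSeries k) (c : k), f = X * f' + C c :=
    ⟨_, _, eq_X_mul_shift_add_const f⟩
  have c1 : σ (C c) = C c := σ.commutes c
  have e1 : σ f = σ X * σ f' + C c := by rw [hf, map_add, map_mul, c1]
  rw [e1, map_add, map_mul, h0, zero_mul, zero_add, constantCoeff_C, hf, map_add, map_mul,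
    constantCoeff_X, zero_mul, zero_add, constantCoeff_C]

theorem coeff_one_sigma {w : PowerSeries k} (hw : σ X = X * w) (f : PowerSeries k)
    (hf0 : constantCoeff f = 0) :
    coeff 1 (σ f) = constantCoeff w * coeff 1 f := by
  have h0 : constantCoeff (σ X) = 0 := by rw [hw, map_mul, constantCoeff_X, zero_mul]
  obtain ⟨f', hf⟩ : ∃ f' : PowerSeries k, f = X * f' := X_dvd_iff.mpr hf0
  rw [hf, map_mul, hw, mul_assoc, show (1 : ℕ) = 0 + 1 from rfl, coeff_succ_X_mul,
    coeff_succ_X_mul]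
  simp only [coeff_zero_eq_constantCoeff_apply]
  rw [map_mul, cc_sigma σ h0 f']

theorem m_pos (p : ℕ) [Fact p.Prime] [CharP k p] (hσp : σ ^ p = 1) {m : ℕ} {ε : PowerSeries k}
    (hε : constantCoeff ε ≠ 0) (hw : σ X = X * (1 + X ^ m * ε)) : 0 < m := by
  rcases Nat.eq_zero_or_pos m with hm0 | hpos
  swap
  · exact hpos
  exfalso
  subst hm0
  have h0 : constantCoeff (σ X) = 0 := by rw [hw, map_mul, constantCoeff_X, zero_mul]
  obtain ⟨lam, hlam⟩ : ∃ lam : k, lam = constantCoeff (1 + X ^ 0 * ε) := ⟨_, rfl⟩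
  have hit : ∀ i : ℕ, constantCoeff (σ^[i] X) = 0 ∧ coeff 1 (σ^[i] X) = lam ^ i := by
    intro i
    induction i with
    | zero =>
      refine ⟨constantCoeff_X, ?_⟩
      rw [Function.iterate_zero, id_eq, coeff_one_X, pow_zero]
    | succ i ih =>
      rw [Function.iterate_succ_apply']
      refine ⟨?_, ?_⟩
      · rw [cc_sigma σ h0, ih.1]
      · rw [coeff_one_sigma σ hw _ ih.1, ih.2, ← hlam, pow_succ, mul_comm]
  have hp : σ^[p] X = X := by
    have h := DFunLike.congr_fun hσp X
    rw [AlgEquiv.coe_pow, AlgEquiv.one_apply] at h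
    exact h
  have h1 : lam ^ p = 1 := by
    have h := (hit p).2
    rw [hp, coeff_one_X] at h
    exact h.symm
  have h2 : lam = 1 := by
    have h3 : (lam - 1) ^ p = 0 := by rw [sub_pow_char, h1, one_pow, sub_self]
    exact sub_eq_zero.mp ((pow_eq_zero_iff (Fact.out : p.Prime).ne_zero).mp h3)
  apply hε
  rw [hlam, pow_zero, one_mul, map_add, map_one] at h2
  linear_combination h2

theorem key {w : PowerSeries k} {m : ℕ} {c : k} (hw : σ X = X * w) (hm : 0 < m)
    (hU : U m w c) (hc : c ≠ 0) {j : ℕ} (hj : (j : k) ≠ 0)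
    {g : PowerSeries k} (hg : constantCoeff g ≠ 0) :
    ∃ h : PowerSeries k, constantCoeff h ≠ 0 ∧
      σ (X ^ j * g) - X ^ j * g = X ^ (j + m) * h := by
  obtain ⟨η, hη, hηc⟩ := U_pow hm hU j
  obtain ⟨ε, hwε, hεc⟩ := hU
  have hsx : σ X = X + X ^ (m + 1) * ε := by rw [hw, hwε]; ring
  obtain ⟨d, hd⟩ := D_dvd σ hsx (Dvd.intro _ rfl) g
  refine ⟨η * g + X * d + X ^ (m + 1) * (η * d), ?_, ?_⟩
  · rw [map_add, map_add, map_mul, map_mul, map_mul, map_pow, constantCoeff_X, zero_mul,
      zero_pow (Nat.succ_ne_zero m), zero_mul, add_zero, add_zero, hηc]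
    exact mul_ne_zero (mul_ne_zero hj hc) hg
  · have hσg : σ g = g + X ^ (m + 1) * d := by rw [← hd]; ring
    rw [map_mul, map_pow, hw, mul_pow, hη, hσg]
    ring

theorem key_order {w : PowerSeries k} {m : ℕ} {c : k} (hw : σ X = X * w) (hm : 0 < m)
    (hU : U m w c) (hc : c ≠ 0) {f : PowerSeries k} {j : ℕ} (hf : f.order = (j : ℕ∞))
    (hj : (j : k) ≠ 0) :
    (σ f - f).order = ((j + m : ℕ) : ℕ∞) := by
  obtain ⟨g, hg, rfl⟩ := exists_of_order hf
  obtain ⟨h, hh, he⟩ := key σ hw hm hU hc hj hg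
  rw [he]
  exact order_X_pow_mul hh _

theorem order_sigma {w : PowerSeries k} (hw : σ X = X * w) (hw1 : constantCoeff w ≠ 0)
    (f : PowerSeries k) : (σ f).order = f.order := by
  have h0 : constantCoeff (σ X) = 0 := by rw [hw, map_mul, constantCoeff_X, zero_mul]
  by_cases hf : f = 0
  · rw [hf, map_zero]
  · obtain ⟨n, hn⟩ : ∃ n : ℕ, f.order = (n : ℕ∞) :=
      ⟨f.order.toNat, (ENat.natCast_toNat (by rw [Ne, order_eq_top]; exact hf)).symm⟩
    obtain ⟨g, hg, hfg⟩ := exists_of_order hn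
    rw [hn, hfg, map_mul, map_pow, hw, mul_pow, mul_assoc]
    apply order_X_pow_mul
    rw [map_mul, map_pow, cc_sigma σ h0 g]
    exact mul_ne_zero (pow_ne_zero _ hw1) hg

/-- the norm of `X`. -/
noncomputable def Nm (p : ℕ) : PowerSeries k := ∏ i ∈ Finset.range p, σ^[i] X

theorem Nm_order {w : PowerSeries k} (hw : σ X = X * w) (hw1 : constantCoeff w ≠ 0) (p : ℕ) :
    (Nm σ p).order = (p : ℕ∞) := by
  have h1 : ∀ i : ℕ, (σ^[i] X).order = 1 := by
    intro i
    induction i with
    | zero => exact order_X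
    | succ i ihi => rw [Function.iterate_succ_apply', order_sigma σ hw hw1, ihi]
  unfold Nm
  induction p with
  | zero => rw [Finset.prod_range_zero, order_one, Nat.cast_zero]
  | succ n ih => rw [Finset.prod_range_succ, order_mul, ih, h1 n, Nat.cast_add, Nat.cast_one]

theorem Nm_inv (p : ℕ) (hp : σ^[p] X = X) : σ (Nm σ p) = Nm σ p := by
  unfold Nm
  rw [map_prod]
  have h1 : ∀ i ∈ Finset.range p, σ (σ^[i] X) = σ^[i + 1] X :=
    fun i _ => (Function.iterate_succ_apply' σ i X).symm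
  rw [Finset.prod_congr rfl h1]
  have h2 := Finset.prod_range_succ' (fun i => σ^[i] X) p
  have h3 := Finset.prod_range_succ (fun i => σ^[i] X) p
  rw [h3, hp] at h2
  simp only [Function.iterate_zero, id_eq] at h2
  exact (mul_right_cancel₀ X_ne_zero h2).symm

theorem delta_pow (p : ℕ) [Fact p.Prime] [CharP k p] (hσp : ∀ f, σ^[p] f = f) :
    ((σ.toLinearMap - 1 : Module.End k (PowerSeries k)) ^ p) = 0 := by
  have hS : (σ.toLinearMap : Module.End k (PowerSeries k)) ^ p = 1 := by
    apply LinearMap.ext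
    intro f
    rw [Module.End.pow_apply, Module.End.one_apply]
    have h : ∀ n : ℕ, ∀ g, (⇑(σ.toLinearMap : Module.End k (PowerSeries k)))^[n] g = σ^[n] g := by
      intro n
      induction n with
      | zero => intro g; rfl
      | succ n ih =>
        intro g
        rw [Function.iterate_succ_apply', Function.iterate_succ_apply', ih]
        rfl
    rw [h, hσp]
  have h1 : ((Polynomial.X : Polynomial k) - 1) ^ p = Polynomial.X ^ p - 1 := by
    rw [sub_pow_char, one_pow]
  have h2 := congrArg (Polynomial.aeval (σ.toLinearMap : Module.End k (PowerSeries k))) h1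
  rw [map_pow, map_sub, map_sub, map_pow, Polynomial.aeval_X, map_one, hS, sub_self] at h2
  exact h2

theorem exists_s (p : ℕ) [Fact p.Prime] [CharP k p] (hσp : σ ^ p = 1) {m : ℕ}
    {ε : PowerSeries k} (hε : constantCoeff ε ≠ 0) (hw : σ X = X * (1 + X ^ m * ε))
    (hdvd : p ∣ m + 1) :
    ∃ s a : PowerSeries k, s.order = 1 ∧ σ a = a ∧ σ s = s + a := by
  have hm := m_pos σ p hσp hε hw
  have hU : U m (1 + X ^ m * ε) (constantCoeff ε) := ⟨ε, rfl, rfl⟩
  have hw1 : constantCoeff (1 + X ^ m * ε) ≠ 0 := by rw [U_cc hm hU]; exact one_ne_zero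
  have hit : ∀ f, σ^[p] f = f := fun f => by
    have h := DFunLike.congr_fun hσp f
    rwa [AlgEquiv.coe_pow, AlgEquiv.one_apply] at h
  obtain ⟨δ, hδ⟩ : ∃ δ : Module.End k (PowerSeries k), δ = σ.toLinearMap - 1 := ⟨_, rfl⟩
  have hδa : ∀ f, δ f = σ f - f := by
    intro f
    rw [hδ, LinearMap.sub_apply, Module.End.one_apply]
    rfl
  have hδp : δ ^ p = 0 := by rw [hδ]; exact delta_pow σ p hit
  have hp2 : 2 ≤ p := (Fact.out : p.Prime).two_le
  have hm1k : (m : k) + 1 = 0 := by
    have h := (CharP.cast_eq_zero_iff k p (m + 1)).mpr hdvd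
    push_cast at h
    exact h
  have hord : ∀ i, i ≤ p - 2 →
      ((δ ^ i) (X ^ (p - 1))).order = ((p - 1 + i * m : ℕ) : ℕ∞) := by
    intro i
    induction i with
    | zero =>
      intro _
      rw [pow_zero, Module.End.one_apply, order_X_pow, Nat.zero_mul, Nat.add_zero]
    | succ i ih =>
      intro hi
      have h1 := ih (by omega)
      have hcast : (((p - 1 + i * m : ℕ)) : k) ≠ 0 := by
        have e1 : (((p - 1 + i * m : ℕ)) : k) = -(((i + 1 : ℕ)) : k) := by
          rw [Nat.cast_add, Nat.cast_sub (by omega : 1 ≤ p), Nat.cast_mul,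
            CharP.cast_eq_zero k p, Nat.cast_one, Nat.cast_add, Nat.cast_one]
          linear_combination (i : k) * hm1k
        rw [e1, neg_ne_zero]
        intro h0
        have h3 := (CharP.cast_eq_zero_iff k p (i + 1)).mp h0
        exact Nat.not_dvd_of_pos_of_lt (Nat.succ_pos i) (by omega) h3
      have h2 := key_order σ hw hm hU hε h1 hcast
      rw [pow_succ', Module.End.mul_apply, hδa, h2]
      congr 1
      ring
  obtain ⟨c₀, hc₀⟩ := hdvd
  obtain ⟨t, ht⟩ : ∃ t, p = t + 2 := ⟨p - 2, by omega⟩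
  obtain ⟨q, hq⟩ : ∃ q, q = t * c₀ := ⟨_, rfl⟩
  obtain ⟨s', hs'⟩ : ∃ s', s' = (δ ^ (p - 2)) (X ^ (p - 1)) := ⟨_, rfl⟩
  have hs'ord : s'.order = ((1 + p * q : ℕ) : ℕ∞) := by
    rw [hs', hord (p - 2) (le_refl _)]
    congr 1
    have e1 : p - 1 = t + 1 := by omega
    have e2 : p - 2 = t := by omega
    have e3 : p * (t * c₀) = t * m + t := by
      rw [← mul_assoc, mul_comm p t, mul_assoc, ← hc₀]; ring
    rw [e1, e2, hq, e3]
    ring
  -- the norm
  have hNord := Nm_order σ hw hw1 p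
  have hNinv := Nm_inv σ p (hit X)
  obtain ⟨N, hNdef⟩ : ∃ N, N = Nm σ p := ⟨_, rfl⟩
  rw [← hNdef] at hNord hNinv
  obtain ⟨g₁, hg₁, hNg⟩ := exists_of_order hNord
  obtain ⟨g', hg', hs'g⟩ := exists_of_order hs'ord
  have hg₁q : constantCoeff (g₁ ^ q) ≠ 0 := by rw [map_pow]; exact pow_ne_zero _ hg₁
  obtain ⟨u, hu⟩ : ∃ u, g₁ ^ q * u = 1 :=
    (isUnit_iff_constantCoeff.mpr (IsUnit.mk0 _ hg₁q)).exists_right_inv
  have hucc : constantCoeff u ≠ 0 := by
    intro h0
    have h := congrArg constantCoeff hu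
    rw [map_mul, h0, mul_zero, map_one] at h
    exact zero_ne_one h
  obtain ⟨s, hsdef⟩ : ∃ s, s = X * (g' * u) := ⟨_, rfl⟩
  have hs's : s' = N ^ q * s := by
    rw [hs'g, hNg, hsdef, mul_pow, ← pow_mul]
    linear_combination (-(X ^ (1 + p * q) * g')) * hu
  have hsord : s.order = 1 := by
    have h := order_X_pow_mul (g := g' * u) (by rw [map_mul]; exact mul_ne_zero hg' hucc) 1
    rw [pow_one, Nat.cast_one] at h
    rw [hsdef]; exact h
  have hN0 : N ≠ 0 := by
    intro h
    rw [h, order_zero] at hNord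
    exact ENat.top_ne_natCast _ hNord
  have hdd : ∀ f, σ (N ^ q * f) - N ^ q * f = N ^ q * (σ f - f) := by
    intro f; rw [map_mul, map_pow, hNinv]; ring
  have h2 : σ (σ s' - s') - (σ s' - s') = 0 := by
    have h3 : (δ ^ p) (X ^ (p - 1)) = 0 := by rw [hδp]; rfl
    have h5 : δ ^ p = δ ^ 2 * δ ^ (p - 2) := by
      rw [← pow_add]; congr 1; omega
    rw [h5, Module.End.mul_apply, ← hs', pow_two, Module.End.mul_apply, hδa, hδa] at h3
    exact h3
  have h6 : N ^ q * (σ (σ s - s) - (σ s - s)) = 0 := by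
    have e1 : σ s' - s' = N ^ q * (σ s - s) := by rw [hs's]; exact hdd s
    rw [e1, hdd] at h2
    exact h2
  have h7 : σ (σ s - s) - (σ s - s) = 0 :=
    (mul_eq_zero.mp h6).resolve_left (pow_ne_zero _ hN0)
  exact ⟨s, σ s - s, hsord, sub_eq_zero.mp h7, by ring⟩

end Aux



/-- Let `k` be a field of characteristic `p > 0`, `A = k[[u]]`, and `σ` a `k`-algebra automorphism of
`A` of order exactly `p` with ramification break `m`, i.e. `σ u - u` has order `m + 1`. Then `p`
divides `m + 1` if and only if there are a uniformizer `s` of `A` (a power series of order `1`) and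
a `σ`-invariant power series `a` with `σ s = s + a`. (The published statement has a third equivalent
condition, that `Spec A` is a torsor under the effective model of the action; this row omits it.) -/
theorem result
    (p : ℕ) [Fact p.Prime] (k : Type u) [Field k] [CharP k p]
    (σ : PowerSeries k ≃ₐ[k] PowerSeries k) (hσp : σ ^ p = 1) (hσ1 : σ ≠ 1)
    (m : ℕ) (hm : (σ PowerSeries.X - PowerSeries.X).order = ((m + 1 : ℕ) : ℕ∞)) :
    p ∣ m + 1 ↔
      ∃ s a : PowerSeries k, s.order = 1 ∧ σ a = a ∧ σ s = s + a := by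
  obtain ⟨ε, hε, he⟩ := exists_of_order hm
  have hw : σ PowerSeries.X = PowerSeries.X * (1 + PowerSeries.X ^ m * ε) := by
    linear_combination he
  have hmpos := m_pos σ p hσp hε hw
  have hU : U m (1 + PowerSeries.X ^ m * ε) (PowerSeries.constantCoeff ε) := ⟨ε, rfl, rfl⟩
  constructor
  · intro hdvd
    exact exists_s σ p hσp hε hw hdvd
  · rintro ⟨s, a, hs, ha, hsa⟩
    by_contra hnd
    have h1 : (σ s - s).order = ((1 + m : ℕ) : ℕ∞) :=
      key_order σ hw hmpos hU hε (j := 1) (by rw [hs, Nat.cast_one])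
        (by rw [Nat.cast_one]; exact one_ne_zero)
    have ha' : a = σ s - s := by rw [hsa]; ring
    rw [← ha'] at h1
    have hcast : (((1 + m : ℕ)) : k) ≠ 0 := by
      intro h0
      apply hnd
      have h3 := (CharP.cast_eq_zero_iff k p (1 + m)).mp h0
      rwa [add_comm] at h3
    have h2 := key_order σ hw hmpos hU hε h1 hcast
    rw [ha, sub_self, PowerSeries.order_zero] at h2
    exact ENat.top_ne_natCast _ h2


end Groth.Agent.S19996
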