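import Groth.Statements.S15813
import Mathlib
import Groth.Agent.S13864
import Groth.Agent.S19996

set_option autoImplicit false
universe u
open WildQuot

namespace Groth.Agent.S15813

open PowerSeries
open Groth.Agent.S13864 (U U_one U_mul U_cc)
open Groth.Agent.S19996 (exists_of_order order_X_pow_mul key_order order_sigma Nm Nm_order Nm_inv m_pos)

section Aux
variable {k : Type*} [Field k]

theorem ord_mul {f g : PowerSeries k} {a b : ℕ} (hf : f.order = (a : ℕ∞))
    (hg : g.order = (b : ℕ∞)) : (f * g).order = ((a + b : ℕ) : ℕ∞) := by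
  rw [order_mul, hf, hg, Nat.cast_add]

theorem ord_pow {f : PowerSeries k} {a : ℕ} (hf : f.order = (a : ℕ∞)) (j : ℕ) :
    (f ^ j).order = ((j * a : ℕ) : ℕ∞) := by
  induction j with
  | zero => rw [pow_zero, order_one, Nat.zero_mul, Nat.cast_zero]
  | succ j ih =>
    rw [pow_succ]
    have h := ord_mul ih hf
    have e : j * a + a = (j + 1) * a := by ring
    rw [e] at h
    exact h

theorem ord_of_cc {f : PowerSeries k} (hf : constantCoeff f ≠ 0) :
    f.order = ((0 : ℕ) : ℕ∞) :=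
  order_eq_nat.mpr ⟨by rwa [coeff_zero_eq_constantCoeff_apply],
    fun i hi => absurd hi (Nat.not_lt_zero i)⟩

theorem tri1 {T1 T2 T3 : PowerSeries k} {P1 P2 P3 : ℕ} (h : T1 - T2 = T3)
    (h1 : T1.order = (P1 : ℕ∞)) (h2 : T2.order = (P2 : ℕ∞)) (h3 : T3.order = (P3 : ℕ∞))
    (h12 : P1 < P2) : P1 = P3 := by
  obtain ⟨a1, b1⟩ := order_eq_nat.mp h1
  obtain ⟨_, b2⟩ := order_eq_nat.mp h2
  obtain ⟨a3, b3⟩ := order_eq_nat.mp h3
  rcases lt_trichotomy P1 P3 with hlt | heq | hgt
  · exfalso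
    have e := congrArg (coeff P1) h
    rw [map_sub, b2 P1 h12, sub_zero, b3 P1 hlt] at e
    exact a1 e
  · exact heq
  · exfalso
    have e := congrArg (coeff P3) h
    rw [map_sub, b1 P3 hgt, b2 P3 (lt_trans hgt h12), sub_zero] at e
    exact a3 e.symm

theorem tri2 {T1 T2 T3 : PowerSeries k} {P1 P2 P3 : ℕ} (h : T1 - T2 = T3)
    (h1 : T1.order = (P1 : ℕ∞)) (h2 : T2.order = (P2 : ℕ∞)) (h3 : T3.order = (P3 : ℕ∞))
    (h31 : P3 < P1) (h32 : P3 < P2) : False := by
  obtain ⟨_, b1⟩ := order_eq_nat.mp h1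
  obtain ⟨_, b2⟩ := order_eq_nat.mp h2
  obtain ⟨a3, _⟩ := order_eq_nat.mp h3
  have e := congrArg (coeff P3) h
  rw [map_sub, b1 P3 h31, b2 P3 h32, sub_zero] at e
  exact a3 e.symm

variable (σ : PowerSeries k ≃ₐ[k] PowerSeries k)

theorem order_iter {w : PowerSeries k} (hw : σ X = X * w) (hw1 : constantCoeff w ≠ 0)
    (b : PowerSeries k) (i : ℕ) : (σ^[i] b).order = b.order := by
  induction i with
  | zero => rfl
  | succ i ih => rw [Function.iterate_succ_apply', order_sigma σ hw hw1, ih]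

theorem prod_iter_order {w : PowerSeries k} (hw : σ X = X * w) (hw1 : constantCoeff w ≠ 0)
    {b : PowerSeries k} {β : ℕ} (hb : b.order = (β : ℕ∞)) (f : ℕ → ℕ) (n : ℕ) :
    (∏ i ∈ Finset.range n, σ^[f i] b).order = ((n * β : ℕ) : ℕ∞) := by
  induction n with
  | zero => rw [Finset.prod_range_zero, order_one, Nat.zero_mul, Nat.cast_zero]
  | succ n ih =>
    rw [Finset.prod_range_succ]
    have h := ord_mul ih ((order_iter σ hw hw1 b (f n)).trans hb)
    have e : n * β + β = (n + 1) * β := by ring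
    rw [e] at h
    exact h

theorem prod_iter_inv (p : ℕ) {b : PowerSeries k} (hb0 : b ≠ 0) (hp : σ^[p] b = b) :
    σ (∏ i ∈ Finset.range p, σ^[i] b) = ∏ i ∈ Finset.range p, σ^[i] b := by
  rw [map_prod]
  have h1 : ∀ i ∈ Finset.range p, σ (σ^[i] b) = σ^[i + 1] b :=
    fun i _ => (Function.iterate_succ_apply' σ i b).symm
  rw [Finset.prod_congr rfl h1]
  have h2 := Finset.prod_range_succ' (fun i => σ^[i] b) p
  have h3 := Finset.prod_range_succ (fun i => σ^[i] b) p
  rw [h3, hp] at h2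
  simp only [Function.iterate_zero, id_eq] at h2
  exact (mul_right_cancel₀ hb0 h2).symm

end Aux



/-- Let `k` be a field of characteristic `p > 0`, `A = k[[u]]`, and `σ` a `k`-algebra automorphism of
`A` of order exactly `p`, with ramification break `m`: `σ u - u` has order `m + 1`. Let `x = ∏_{i <
p} σ^i u` be the norm of `u`, let `f ∈ A` be `σ`-invariant with nonzero constant term (a unit of the
invariant ring `k[[x]]`), let `μ > 0` be prime to `p`, and let `z ∈ Frac(A)` satisfy the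
Artin–Schreier equation `z ^ p - z = f / x ^ μ`. Then `μ = m`. (The published statement also records
that `Frac(A) = Frac(A^σ)(z)`; that follows from the equation since `p` does not divide `μ`, so it
is not repeated as a hypothesis.) -/
theorem result
    (p : ℕ) [Fact p.Prime] (k : Type u) [Field k] [CharP k p]
    (σ : PowerSeries k ≃ₐ[k] PowerSeries k) (hσp : σ ^ p = 1) (hσ1 : σ ≠ 1)
    (m : ℕ) (hm : (σ PowerSeries.X - PowerSeries.X).order = ((m + 1 : ℕ) : ℕ∞))
    (f : PowerSeries k) (hfσ : σ f = f) (hf0 : PowerSeries.constantCoeff f ≠ 0)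
    (μ : ℕ) (hμ : 0 < μ) (hpμ : ¬ p ∣ μ)
    (z : FractionRing (PowerSeries k))
    (hz : z ^ p - z = algebraMap (PowerSeries k) (FractionRing (PowerSeries k)) f /
      algebraMap (PowerSeries k) (FractionRing (PowerSeries k))
        (∏ i ∈ Finset.range p, (σ ^ i) PowerSeries.X) ^ μ) :
    μ = m := by
  classical
  obtain ⟨ε, hε, he⟩ := exists_of_order hm
  have hw : σ PowerSeries.X = PowerSeries.X * (1 + PowerSeries.X ^ m * ε) := by
    linear_combination he
  have hmpos := m_pos σ p hσp hε hw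
  have hU : U m (1 + PowerSeries.X ^ m * ε) (PowerSeries.constantCoeff ε) := ⟨ε, rfl, rfl⟩
  have hw1 : PowerSeries.constantCoeff (1 + PowerSeries.X ^ m * ε) ≠ 0 := by
    rw [U_cc hmpos hU]; exact one_ne_zero
  have hit : ∀ g, σ^[p] g = g := fun g => by
    have h := DFunLike.congr_fun hσp g
    rwa [AlgEquiv.coe_pow, AlgEquiv.one_apply] at h
  have hp2 : 2 ≤ p := (Fact.out : p.Prime).two_le
  have hp0 : p ≠ 0 := by omega
  obtain ⟨t, ht⟩ : ∃ t, p = t + 1 := ⟨p - 1, by omega⟩
  have htpos : 0 < t := by omega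
  -- the norm
  obtain ⟨N, hNdef⟩ : ∃ N, N = Nm σ p := ⟨_, rfl⟩
  have hNord : N.order = (p : ℕ∞) := by rw [hNdef]; exact Nm_order σ hw hw1 p
  have hNinv : σ N = N := by rw [hNdef]; exact Nm_inv σ p (hit PowerSeries.X)
  have hNeq : (∏ i ∈ Finset.range p, (σ ^ i) PowerSeries.X) = N := by
    rw [hNdef]
    unfold Nm
    refine Finset.prod_congr rfl fun i _ => ?_
    rw [AlgEquiv.coe_pow]
  rw [hNeq] at hz
  have hN0 : N ≠ 0 := by
    intro h
    rw [h, PowerSeries.order_zero] at hNord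
    exact ENat.top_ne_natCast _ hNord
  -- fractions
  obtain ⟨a, b, hb, hzab⟩ := IsFractionRing.div_surjective (A := PowerSeries k) z
  have hb0 : b ≠ 0 := nonZeroDivisors.ne_zero hb
  obtain ⟨ι, hι⟩ : ∃ ι : PowerSeries k →+* FractionRing (PowerSeries k),
      ι = algebraMap (PowerSeries k) (FractionRing (PowerSeries k)) := ⟨_, rfl⟩
  rw [← hι] at hz hzab
  have hιinj : Function.Injective ι := by
    rw [hι]; exact IsFractionRing.injective _ _
  have hy : ι b ≠ 0 := by
    intro h; exact hb0 ((map_eq_zero_iff ι hιinj).mp h)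
  have hn : ι N ^ μ ≠ 0 := by
    apply pow_ne_zero
    intro h; exact hN0 ((map_eq_zero_iff ι hιinj).mp h)
  have e1 : z * ι b = ι a := by rw [← hzab, div_mul_cancel₀ _ hy]
  have e2 : ι b ^ p = ι b ^ t * ι b := by rw [ht, pow_succ]
  have e3 : (z ^ p - z) * ι N ^ μ = ι f := by rw [hz, div_mul_cancel₀ _ hn]
  have hstarK : ι a ^ p * ι N ^ μ - ι a * ι b ^ t * ι N ^ μ = ι f * ι b ^ p := by
    calc ι a ^ p * ι N ^ μ - ι a * ι b ^ t * ι N ^ μ = (z ^ p - z) * ι N ^ μ * ι b ^ p := by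
          rw [← e1, mul_pow, e2]; ring
      _ = ι f * ι b ^ p := by rw [e3]
  have hstar : a ^ p * N ^ μ - a * b ^ t * N ^ μ = f * b ^ p := by
    apply hιinj
    simp only [map_sub, map_mul, map_pow]
    exact hstarK
  have hf0' : f ≠ 0 := by
    intro h; apply hf0; rw [h, map_zero]
  have ha0 : a ≠ 0 := by
    intro h
    rw [h] at hstar
    simp only [zero_pow hp0, zero_mul, sub_zero] at hstar
    exact mul_ne_zero hf0' (pow_ne_zero _ hb0) hstar.symm
  -- orders
  obtain ⟨α, hα⟩ : ∃ α : ℕ, a.order = (α : ℕ∞) :=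
    ⟨a.order.toNat, (ENat.natCast_toNat (by rw [Ne, PowerSeries.order_eq_top]; exact ha0)).symm⟩
  obtain ⟨β, hβ⟩ : ∃ β : ℕ, b.order = (β : ℕ∞) :=
    ⟨b.order.toNat, (ENat.natCast_toNat (by rw [Ne, PowerSeries.order_eq_top]; exact hb0)).symm⟩
  have hford : f.order = ((0 : ℕ) : ℕ∞) := ord_of_cc hf0
  have hT1 : (a ^ p * N ^ μ).order = ((p * α + μ * p : ℕ) : ℕ∞) :=
    ord_mul (ord_pow hα p) (ord_pow hNord μ)
  have hT2 : (a * b ^ t * N ^ μ).order = ((α + t * β + μ * p : ℕ) : ℕ∞) :=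
    ord_mul (ord_mul hα (ord_pow hβ t)) (ord_pow hNord μ)
  have hT3 : (f * b ^ p).order = ((0 + p * β : ℕ) : ℕ∞) := ord_mul hford (ord_pow hβ p)
  have hpα : p * α = t * α + α := by rw [ht]; ring
  have hpβ : p * β = t * β + β := by rw [ht]; ring
  have hμp : 0 < μ * p := Nat.mul_pos hμ (by omega)
  have hαβ : α + μ = β := by
    by_cases hlt : α < β
    · have h1 : t * α < t * β := (Nat.mul_lt_mul_left htpos).mpr hlt
      have h12 : p * α + μ * p < α + t * β + μ * p := by linarith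
      have h13 := tri1 hstar hT1 hT2 hT3 h12
      have h4 : p * (α + μ) = p * β := by rw [mul_add]; linarith
      exact Nat.eq_of_mul_eq_mul_left (by omega : 0 < p) h4
    · exfalso
      have hge : β ≤ α := not_lt.mp hlt
      have h3 : t * β ≤ t * α := Nat.mul_le_mul_left t hge
      refine tri2 hstar hT1 hT2 hT3 ?_ ?_
      · linarith
      · linarith
  -- norm of b
  obtain ⟨B', hB'⟩ : ∃ B', B' = ∏ i ∈ Finset.range t, σ^[i + 1] b := ⟨_, rfl⟩
  obtain ⟨Nb, hNbdef⟩ : ∃ Nb, Nb = ∏ i ∈ Finset.range p, σ^[i] b := ⟨_, rfl⟩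
  have hNb : Nb = b * B' := by
    rw [hNbdef, hB', ht, Finset.prod_range_succ', Function.iterate_zero, id_eq, mul_comm]
  have hNbord : Nb.order = ((p * β : ℕ) : ℕ∞) := by
    rw [hNbdef]; exact prod_iter_order σ hw hw1 hβ (fun i => i) p
  have hB'ord : B'.order = ((t * β : ℕ) : ℕ∞) := by
    rw [hB']; exact prod_iter_order σ hw hw1 hβ (fun i => i + 1) t
  have hNbinv : σ Nb = Nb := by rw [hNbdef]; exact prod_iter_inv σ p hb0 (hit b)
  obtain ⟨a', ha'def⟩ : ∃ a', a' = a * B' := ⟨_, rfl⟩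
  have ha'ord : a'.order = ((α + t * β : ℕ) : ℕ∞) := by rw [ha'def]; exact ord_mul hα hB'ord
  have hss : a' ^ p * N ^ μ - a' * Nb ^ t * N ^ μ = f * Nb ^ p := by
    have e5 : B' ^ p = B' * B' ^ t := by rw [ht, pow_succ']
    rw [ha'def, hNb]
    linear_combination (B' ^ p) * hstar + (a * b ^ t * N ^ μ) * e5
  have hss' : (σ a') ^ p * N ^ μ - σ a' * Nb ^ t * N ^ μ = f * Nb ^ p := by
    have h := congrArg σ hss
    simp only [map_sub, map_mul, map_pow, hNinv, hNbinv, hfσ] at h
    exact h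
  obtain ⟨d', hd'⟩ : ∃ d', d' = σ a' - a' := ⟨_, rfl⟩
  haveI : CharP (PowerSeries k) p :=
    charP_of_injective_algebraMap (algebraMap k (PowerSeries k)).injective p
  have hdp : d' ^ p = (σ a') ^ p - a' ^ p := by rw [hd', sub_pow_char]
  have h8 : (d' ^ p - d' * Nb ^ t) * N ^ μ = 0 := by
    rw [hdp, hd']; linear_combination hss' - hss
  have h9 : d' ^ p = d' * Nb ^ t :=
    sub_eq_zero.mp ((mul_eq_zero.mp h8).resolve_right (pow_ne_zero _ hN0))
  have hcast : (((α + t * β : ℕ)) : k) ≠ 0 := by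
    have hpk : ((t : k) + 1) = 0 := by
      have h := CharP.cast_eq_zero k p
      rw [ht] at h
      push_cast at h
      exact h
    have e6 : (((α + t * β : ℕ)) : k) = -((μ : ℕ) : k) := by
      rw [← hαβ]
      push_cast
      linear_combination ((α : k) + (μ : k)) * hpk
    rw [e6, neg_ne_zero]
    intro h0
    exact hpμ ((CharP.cast_eq_zero_iff k p μ).mp h0)
  have hd'ord : d'.order = ((α + t * β + m : ℕ) : ℕ∞) := by
    rw [hd']; exact key_order σ hw hmpos hU hε ha'ord hcast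
  have hL : (d' ^ p).order = ((p * (α + t * β + m) : ℕ) : ℕ∞) := ord_pow hd'ord p
  have hR : (d' * Nb ^ t).order = ((α + t * β + m + t * (p * β) : ℕ) : ℕ∞) :=
    ord_mul hd'ord (ord_pow hNbord t)
  rw [h9, hR] at hL
  have hnat : α + t * β + m + t * (p * β) = p * (α + t * β + m) := by exact_mod_cast hL
  have h10 : t * (p * β) = t * (α + t * β + m) := by
    have e7 : p * (α + t * β + m) = t * (α + t * β + m) + (α + t * β + m) := by rw [ht]; ring
    linarith
  have h11 : p * β = α + t * β + m := Nat.eq_of_mul_eq_mul_left htpos h10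
  linarith


end Groth.Agent.S15813
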