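import Groth.Statements.S15815
import Mathlib
import Groth.Agent.Lib.Helper7.KoszulLow

set_option autoImplicit false
universe u
open CategoryTheory
open Koszul

namespace Groth.Agent.S15815

set_option linter.style.haveILetI false

open CategoryTheory CategoryTheory.Limits CochainComplex
open Groth.Agent.Lib.helper7.KoszulLow

variable {A : Type u} [CommRing A]

/-- `K` is `L` with differential scaled by `x`. -/
structure Scaled (x : A) (K L : CochainComplex (ModuleCat.{u} A) ℤ) where
  e : ∀ n, K.X n ≃ₗ[A] L.X n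
  comm : ∀ n m (k : K.X n), e m ((K.d n m).hom k) = x • (L.d n m).hom (e n k)

noncomputable def scaledNil (x : A) : Scaled x (Koszul.koszul A []) (Koszul.koszul A []) where
  e n := LinearEquiv.refl _ _
  comm n m k := by
    have h : (Koszul.koszul A ([] : List A)).d n m = 0 :=
      HomologicalComplex.single_obj_d _ _ _ _ _
    rw [h]
    simp

section Cone
variable {x : A} {K L : CochainComplex (ModuleCat.{u} A) ℤ} (S : Scaled x K L) (f : A)

noncomputable def coneE (n : ℤ) :
    (mappingCone ((x * f) • 𝟙 K)).X n ≃ₗ[A] (mappingCone (f • 𝟙 L)).X n :=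
  (coneEquiv ((x * f) • 𝟙 K) n (n + 1) rfl).trans
    (((S.e (n + 1)).prodCongr (S.e n)).trans (coneEquiv (f • 𝟙 L) n (n + 1) rfl).symm)

theorem fst_coneE (n : ℤ) (z : (mappingCone ((x * f) • 𝟙 K)).X n) :
    fstₗ (f • 𝟙 L) n (n + 1) rfl (coneE S f n z) =
      S.e (n + 1) (fstₗ ((x * f) • 𝟙 K) n (n + 1) rfl z) := by
  have h := (coneEquiv (f • 𝟙 L) n (n + 1) rfl).apply_symm_apply
    ((S.e (n + 1)) (fstₗ ((x * f) • 𝟙 K) n (n + 1) rfl z), (S.e n) (sndₗ ((x * f) • 𝟙 K) n z))
  exact congrArg Prod.fst h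

theorem snd_coneE (n : ℤ) (z : (mappingCone ((x * f) • 𝟙 K)).X n) :
    sndₗ (f • 𝟙 L) n (coneE S f n z) = S.e n (sndₗ ((x * f) • 𝟙 K) n z) := by
  have h := (coneEquiv (f • 𝟙 L) n (n + 1) rfl).apply_symm_apply
    ((S.e (n + 1)) (fstₗ ((x * f) • 𝟙 K) n (n + 1) rfl z), (S.e n) (sndₗ ((x * f) • 𝟙 K) n z))
  exact congrArg Prod.snd h

theorem fst_cast {M : CochainComplex (ModuleCat.{u} A) ℤ} (φ : M ⟶ M) (n m : ℤ) (h : n + 1 = m)
    (z : (mappingCone φ).X n) : HEq (fstₗ φ n m h z) (fstₗ φ n (n + 1) rfl z) := by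
  subst h; rfl

noncomputable def scaledCone : Scaled x (mappingCone ((x * f) • 𝟙 K)) (mappingCone (f • 𝟙 L)) where
  e := coneE S f
  comm n m z := by
    by_cases hnm : n + 1 = m
    · subst hnm
      apply cone_ext (f • 𝟙 L) (n + 1) (n + 1 + 1) rfl
      · rw [fst_coneE, fst_d _ n (n + 1) (n + 1 + 1) rfl rfl, map_neg, S.comm, map_smul,
          fst_d _ n (n + 1) (n + 1 + 1) rfl rfl, fst_coneE, smul_neg]
      · rw [snd_coneE, snd_d _ n (n + 1) rfl, map_add, S.comm, map_smul,
          snd_d _ n (n + 1) rfl, fst_coneE, snd_coneE, smul_add]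
        congr 1
        change S.e (n + 1) ((x * f) • _) = x • (f • _)
        rw [map_smul, mul_smul]
        rfl
    · have h1 : (mappingCone ((x * f) • 𝟙 K)).d n m = 0 :=
        (mappingCone ((x * f) • 𝟙 K)).shape n m hnm
      have h2 : (mappingCone (f • 𝟙 L)).d n m = 0 :=
        (mappingCone (f • 𝟙 L)).shape n m hnm
      rw [h1, h2]
      simp

end Cone

noncomputable def scaledKoszul (x : A) :
    (l : List A) → Scaled x (Koszul.koszul A (l.map (fun f => x * f))) (Koszul.koszul A l)
  | [] => scaledNil x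
  | f :: l => scaledCone (scaledKoszul x l) f

theorem reg_cone {x : A} {K : CochainComplex (ModuleCat.{u} A) ℤ} (f : A)
    (h : ∀ n, IsSMulRegular (K.X n) x) (n : ℤ) :
    IsSMulRegular ((mappingCone (f • 𝟙 K)).X n) x := by
  intro a b hab
  have hab' : x • a = x • b := hab
  apply cone_ext (f • 𝟙 K) n (n + 1) rfl
  · apply h (n + 1)
    change x • _ = x • _
    rw [← map_smul, ← map_smul, hab']
  · apply h n
    change x • _ = x • _
    rw [← map_smul, ← map_smul, hab']

theorem reg_koszul (x : A) (hx : x ∈ nonZeroDivisors A) :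
    ∀ (l : List A) (n : ℤ), IsSMulRegular ((Koszul.koszul A l).X n) x
  | [], n => by
    by_cases hn : n = 0
    · subst hn
      let e0 : (Koszul.koszul A ([] : List A)).X 0 ≃ₗ[A] A :=
        (HomologicalComplex.singleObjXSelf (ComplexShape.up ℤ) 0 (ModuleCat.of A A)).toLinearEquiv
      intro a b hab
      have hab' : x • a = x • b := hab
      apply e0.injective
      have h1 : x • e0 a = x • e0 b := by rw [← map_smul, ← map_smul, hab']
      rw [smul_eq_mul, smul_eq_mul] at h1
      exact (mul_cancel_left_mem_nonZeroDivisors hx).1 h1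
    · have : IsZero ((Koszul.koszul A ([] : List A)).X n) :=
        HomologicalComplex.isZero_single_obj_X (ComplexShape.up ℤ) 0 (ModuleCat.of A A) n hn
      haveI := ModuleCat.subsingleton_of_isZero this
      intro a b _
      exact Subsingleton.elim _ _
  | f :: l, n => reg_cone f (reg_koszul x hx l) n

theorem main (A : Type u) [CommRing A] (l : List A) (x : A)
    (hx : x ∈ nonZeroDivisors A) (q : ℤ) :
    Nonempty ((Koszul.koszul A (l.map (fun f => x * f))).homology q ≅
      ModuleCat.of A (↥(LinearMap.ker ((Koszul.koszul A l).d q (q + 1)).hom) ⧸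
        Submodule.comap (LinearMap.ker ((Koszul.koszul A l).d q (q + 1)).hom).subtype
          (Ideal.span {x} • LinearMap.range ((Koszul.koszul A l).d (q - 1) q).hom))) := by
  set K := Koszul.koszul A (l.map (fun f => x * f)) with hK
  set L := Koszul.koszul A l with hL
  have S : Scaled x K L := scaledKoszul x l
  have hreg : ∀ n, IsSMulRegular (L.X n) x := reg_koszul x hx l
  let e₁ : K.homology q ≅ (K.sc' (q - 1) q (q + 1)).moduleCatLeftHomologyData.H :=
    (ShortComplex.homologyMapIso (K.isoSc' (q - 1) q (q + 1) (by simp) (by simp))) ≪≫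
      (K.sc' (q - 1) q (q + 1)).moduleCatHomologyIso
  refine ⟨e₁ ≪≫ LinearEquiv.toModuleIso ?_⟩
  change (↥(LinearMap.ker (K.d q (q + 1)).hom) ⧸
    LinearMap.range (K.sc' (q - 1) q (q + 1)).moduleCatToCycles) ≃ₗ[A] _
  have hmap : (LinearMap.ker (K.d q (q + 1)).hom).map (S.e q : K.X q →ₗ[A] L.X q) =
      LinearMap.ker (L.d q (q + 1)).hom := by
    ext z
    constructor
    · rintro ⟨k, hk, rfl⟩
      rw [SetLike.mem_coe, LinearMap.mem_ker] at hk
      rw [LinearMap.mem_ker]
      have h1 := S.comm q (q + 1) k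
      rw [hk, map_zero] at h1
      have h2 : x • (L.d q (q + 1)).hom (S.e q k) = x • 0 := by rw [← h1, smul_zero]
      exact hreg (q + 1) h2
    · intro hz
      rw [LinearMap.mem_ker] at hz
      refine ⟨(S.e q).symm z, ?_, by simp⟩
      rw [SetLike.mem_coe, LinearMap.mem_ker]
      apply (S.e (q + 1)).injective
      rw [S.comm, LinearEquiv.apply_symm_apply, hz, smul_zero, map_zero]
  let f : ↥(LinearMap.ker (K.d q (q + 1)).hom) ≃ₗ[A] ↥(LinearMap.ker (L.d q (q + 1)).hom) :=
    LinearEquiv.ofSubmodules (S.e q) _ _ hmap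
  have hf : ∀ k, (f k).1 = S.e q k.1 := fun k => rfl
  refine Submodule.Quotient.equiv _ _ f ?_
  ext z
  rw [Submodule.mem_comap, Submodule.ideal_span_singleton_smul,
    Submodule.mem_smul_pointwise_iff_exists]
  constructor
  · rintro ⟨k, ⟨w, rfl⟩, rfl⟩
    refine ⟨(L.d (q - 1) q).hom (S.e (q - 1) w), ⟨_, rfl⟩, ?_⟩
    change _ = (f _).1
    rw [hf]
    exact (S.comm (q - 1) q w).symm
  · rintro ⟨b, ⟨w, rfl⟩, hb⟩
    refine ⟨(K.sc' (q - 1) q (q + 1)).moduleCatToCycles ((S.e (q - 1)).symm w), ⟨_, rfl⟩, ?_⟩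
    apply Subtype.ext
    change S.e q ((K.d (q - 1) q).hom ((S.e (q - 1)).symm w)) = z.1
    rw [S.comm, LinearEquiv.apply_symm_apply]
    exact hb



/-- Let A be a commutative ring, f = (f_1, …, f_n) a finite sequence in A with Koszul complex K(f)
(cohomological, in degrees -n, …, 0) and differentials ∂^q : K(f)^q → K(f)^{q+1}, and let x be a
non-zero-divisor of A. Then for every integer q the q-th cohomology module of the Koszul complex of
the sequence (x f_1, …, x f_n) is isomorphic as an A-module to Ker(∂^q) / (x · Im(∂^{q-1})), the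
q-cocycles of K(f) modulo x times the q-coboundaries (existence of an A-linear isomorphism; the
Koszul complex is the iterated mapping-cone model). -/
theorem result (A : Type u) [CommRing A] (l : List A) (x : A)
    (hx : x ∈ nonZeroDivisors A) (q : ℤ) :
    Nonempty ((Koszul.koszul A (l.map (fun f => x * f))).homology q ≅
      ModuleCat.of A (↥(LinearMap.ker ((Koszul.koszul A l).d q (q + 1)).hom) ⧸
        Submodule.comap (LinearMap.ker ((Koszul.koszul A l).d q (q + 1)).hom).subtype
          (Ideal.span {x} • LinearMap.range ((Koszul.koszul A l).d (q - 1) q).hom))) := by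
  exact main A l x hx q

end Groth.Agent.S15815
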