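import Groth.Statements.S15816
import Mathlib
import Groth.Agent.S15815
import Groth.Agent.S2423

set_option autoImplicit false
universe u
open CategoryTheory
open scoped TensorProduct
open Koszul

namespace Groth.Agent.S15816

set_option linter.style.haveILetI false

open CategoryTheory CategoryTheory.Limits CochainComplex
open scoped TensorProduct

variable {A : Type u} [CommRing A]

theorem koszul_eq : ∀ l : List A,
    Koszul.koszul A l = CohIII.koszulCx (ModuleCat.of A A) l
  | [] => rfl
  | f :: l => by
    change mappingCone (f • 𝟙 (Koszul.koszul A l)) =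
      mappingCone (f • 𝟙 (CohIII.koszulCx (ModuleCat.of A A) l))
    rw [koszul_eq l]

theorem main (A : Type u) [CommRing A] (l : List A)
    (hl : RingTheory.Sequence.IsWeaklyRegular A l) (x : A) (hx : x ∈ nonZeroDivisors A) (q : ℤ) (hq : q < 0) :
    Nonempty ((Koszul.koszul A (l.map (fun f => x * f))).homology q ≅
      ModuleCat.of A (↥(LinearMap.ker ((Koszul.koszul A l).d q (q + 1)).hom) ⊗[A] (A ⧸ Ideal.span {x}))) := by
  obtain ⟨e₁⟩ := Groth.Agent.S15815.result A l x hx q
  refine ⟨e₁ ≪≫ LinearEquiv.toModuleIso ?_⟩
  set L := Koszul.koszul A l with hL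
  -- exactness of L at q
  have hz : IsZero (L.homology q) := by
    rw [hL, koszul_eq]
    exact Groth.Agent.S2423.homology_isZero l A hl q hq.ne
  have hex : (L.sc' (q - 1) q (q + 1)).Exact := by
    rw [← L.exactAt_iff' (q - 1) q (q + 1) (by simp) (by simp)]
    exact (L.exactAt_iff_isZero_homology q).mpr hz
  rw [ShortComplex.moduleCat_exact_iff] at hex
  have hBZ : LinearMap.range (L.d (q - 1) q).hom = LinearMap.ker (L.d q (q + 1)).hom := by
    apply le_antisymm
    · rintro _ ⟨w, rfl⟩
      rw [LinearMap.mem_ker]
      have := L.d_comp_d (q - 1) q (q + 1)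
      exact ConcreteCategory.congr_hom this w
    · intro z hz
      obtain ⟨w, hw⟩ := hex z hz
      exact ⟨w, hw⟩
  rw [hBZ]
  set Z := LinearMap.ker (L.d q (q + 1)).hom with hZ
  have heq : Submodule.comap Z.subtype (Ideal.span {x} • Z) =
      Ideal.span {x} • (⊤ : Submodule A ↥Z) := by
    apply Submodule.map_injective_of_injective Z.injective_subtype
    rw [Submodule.map_comap_eq, Submodule.map_smul'', Submodule.map_top, Submodule.range_subtype,
      inf_eq_right]
    exact Submodule.smul_le_right
  exact (Submodule.quotEquivOfEq _ _ heq).trans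
    (TensorProduct.tensorQuotEquivQuotSMul (↥Z) (Ideal.span {x})).symm



/-- Let A be a commutative ring, f = (f_1, …, f_n) a sequence in A that is regular in the weak sense
(f_1 is a non-zero-divisor of A and each f_i is a non-zero-divisor modulo (f_1, …, f_{i-1})), with
Koszul complex K(f) and differentials ∂^q, and let x be a non-zero-divisor of A. Then for every
integer q < 0 the q-th cohomology module of the Koszul complex of (x f_1, …, x f_n) is isomorphic as
an A-module to Ker(∂^q) ⊗_A A/(x) (existence of an A-linear isomorphism; mapping-cone model of the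
Koszul complex). -/
theorem result (A : Type u) [CommRing A] (l : List A)
    (hl : RingTheory.Sequence.IsWeaklyRegular A l) (x : A) (hx : x ∈ nonZeroDivisors A) (q : ℤ) (hq : q < 0) :
    Nonempty ((Koszul.koszul A (l.map (fun f => x * f))).homology q ≅
      ModuleCat.of A (↥(LinearMap.ker ((Koszul.koszul A l).d q (q + 1)).hom) ⊗[A] (A ⧸ Ideal.span {x}))) := by
  exact main A l hl x hx q hq

end Groth.Agent.S15816
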