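import Groth.Statements.S15817
import Mathlib

set_option autoImplicit false
universe u v
open CategoryTheory
open CAlg

namespace Groth.Agent.S15817

/-- Let A be a commutative ring, M an A-module and P, Q submodules of M. Then the commuting square of
quotient projections with corners M/(P ∩ Q), M/P, M/Q and M/(P + Q) is cartesian in the category of
A-modules: M/(P ∩ Q) is the fibre product of M/P and M/Q over M/(P + Q). -/
theorem result (A : Type u) [CommRing A] (M : Type v) [AddCommGroup M] [Module A M]
    (P Q : Submodule A M) :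
    IsPullback (ModuleCat.ofHom (Submodule.factor (inf_le_left : P ⊓ Q ≤ P)))
      (ModuleCat.ofHom (Submodule.factor (inf_le_right : P ⊓ Q ≤ Q)))
      (ModuleCat.ofHom (Submodule.factor (le_sup_left : P ≤ P ⊔ Q)))
      (ModuleCat.ofHom (Submodule.factor (le_sup_right : Q ≤ P ⊔ Q))) := by
  apply IsPullback.of_map_of_faithful (F := forget (ModuleCat.{v} A))
  rw [CategoryTheory.Limits.Types.isPullback_iff]
  refine ⟨?_, ?_, ?_⟩
  · rw [← Functor.map_comp, ← Functor.map_comp]
    congr 1
    ext x
    rfl
  · rintro x y ⟨h1, h2⟩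
    obtain ⟨x, rfl⟩ := Submodule.Quotient.mk_surjective _ x
    obtain ⟨y, rfl⟩ := Submodule.Quotient.mk_surjective _ y
    have h1' : (Submodule.Quotient.mk x : M ⧸ P) = Submodule.Quotient.mk y := h1
    have h2' : (Submodule.Quotient.mk x : M ⧸ Q) = Submodule.Quotient.mk y := h2
    rw [Submodule.Quotient.eq] at h1' h2'
    exact (Submodule.Quotient.eq _).mpr ⟨h1', h2'⟩
  · intro x y hxy
    obtain ⟨x, rfl⟩ := Submodule.Quotient.mk_surjective _ x
    obtain ⟨y, rfl⟩ := Submodule.Quotient.mk_surjective _ y
    have h' : (Submodule.Quotient.mk x : M ⧸ (P ⊔ Q)) = Submodule.Quotient.mk y := hxy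
    rw [Submodule.Quotient.eq, Submodule.mem_sup] at h'
    obtain ⟨p, hp, q, hq, hpq⟩ := h'
    refine ⟨(Submodule.Quotient.mk (x - p) : M ⧸ (P ⊓ Q)), ?_, ?_⟩
    · show (Submodule.Quotient.mk (x - p) : M ⧸ P) = Submodule.Quotient.mk x
      rw [Submodule.Quotient.eq]
      simpa using P.neg_mem hp
    · show (Submodule.Quotient.mk (x - p) : M ⧸ Q) = Submodule.Quotient.mk y
      rw [Submodule.Quotient.eq]
      have : x - p - y = q := by
        have h3 : x - p - y = (x - y) - p := by abel
        rw [h3, ← hpq]; abel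
      rw [this]; exact hq

end Groth.Agent.S15817
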