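import Groth.Statements.S15818
import Mathlib


set_option autoImplicit false
universe u
open CategoryTheory
open Koszul

namespace Groth.Agent.S15818

set_option linter.style.haveILetI false

open CategoryTheory CategoryTheory.Limits

theorem pullback_gen {A : Type u} [CommRing A] {Z : Type u} [AddCommGroup Z] [Module A Z]
    (N P Q S : Submodule A Z) (hNP : N ≤ P) (hNQ : N ≤ Q) (hPS : P ≤ S) (hQS : Q ≤ S)
    (hN : P ⊓ Q ≤ N) (hS : S ≤ P ⊔ Q) :
    IsPullback (ModuleCat.ofHom (Submodule.factor hNP)) (ModuleCat.ofHom (Submodule.factor hNQ))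
      (ModuleCat.ofHom (Submodule.factor hPS)) (ModuleCat.ofHom (Submodule.factor hQS)) := by
  have comm : ModuleCat.ofHom (Submodule.factor hNP) ≫ ModuleCat.ofHom (Submodule.factor hPS) =
      ModuleCat.ofHom (Submodule.factor hNQ) ≫ ModuleCat.ofHom (Submodule.factor hQS) := by
    ext z
    rfl
  refine IsPullback.of_map (forget (ModuleCat.{u} A)) comm ?_
  rw [Types.isPullback_iff]
  refine ⟨?_, ?_, ?_⟩
  · rw [← Functor.map_comp, ← Functor.map_comp, comm]
  · rintro x₁ y₁ ⟨h1, h2⟩
    obtain ⟨a, rfl⟩ := Submodule.Quotient.mk_surjective _ x₁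
    obtain ⟨b, rfl⟩ := Submodule.Quotient.mk_surjective _ y₁
    have h1' : (Submodule.Quotient.mk a : Z ⧸ P) = Submodule.Quotient.mk b := h1
    have h2' : (Submodule.Quotient.mk a : Z ⧸ Q) = Submodule.Quotient.mk b := h2
    rw [Submodule.Quotient.eq] at h1' h2'
    exact (Submodule.Quotient.eq _).2 (hN ⟨h1', h2'⟩)
  · intro x₂ x₃ h
    obtain ⟨a, rfl⟩ := Submodule.Quotient.mk_surjective _ x₂
    obtain ⟨b, rfl⟩ := Submodule.Quotient.mk_surjective _ x₃
    have h' : (Submodule.Quotient.mk a : Z ⧸ S) = Submodule.Quotient.mk b := h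
    rw [Submodule.Quotient.eq] at h'
    obtain ⟨p, hp, q, hq, hpq⟩ := Submodule.mem_sup.1 (hS h')
    refine ⟨(Submodule.Quotient.mk (a - p) : Z ⧸ N), ?_, ?_⟩
    · change (Submodule.Quotient.mk (a - p) : Z ⧸ P) = Submodule.Quotient.mk a
      rw [Submodule.Quotient.eq]
      simpa using P.neg_mem hp
    · change (Submodule.Quotient.mk (a - p) : Z ⧸ Q) = Submodule.Quotient.mk b
      rw [Submodule.Quotient.eq]
      have : a - p - b = q := by
        have : a - p - b = (a - b) - p := by abel
        rw [this, ← hpq]; abel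
      rw [this]; exact hq

theorem main (A : Type u) [CommRing A] (l : List A) (q : ℤ)
    (K : CochainComplex (ModuleCat.{u} A) ℤ) (hK : K = Koszul.koszul A l)
    (hBZ : LinearMap.range (K.d (q - 1) q).hom ≤ LinearMap.ker (K.d q (q + 1)).hom)
    (x : A) (hx : x ∈ nonZeroDivisors A)
    (hxH : IsSMulRegular (↥(LinearMap.ker (K.d q (q + 1)).hom) ⧸ Submodule.comap (LinearMap.ker (K.d q (q + 1)).hom).subtype (LinearMap.range (K.d (q - 1) q).hom)) x) :
    IsPullback
      (ModuleCat.ofHom (Submodule.factor (Submodule.comap_mono (Submodule.smul_mono le_rfl hBZ) :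
        Submodule.comap (LinearMap.ker (K.d q (q + 1)).hom).subtype (Ideal.span {x} • LinearMap.range (K.d (q - 1) q).hom) ≤
          Submodule.comap (LinearMap.ker (K.d q (q + 1)).hom).subtype (Ideal.span {x} • LinearMap.ker (K.d q (q + 1)).hom))))
      (ModuleCat.ofHom (Submodule.factor (Submodule.comap_mono (Submodule.smul_le_right) :
        Submodule.comap (LinearMap.ker (K.d q (q + 1)).hom).subtype (Ideal.span {x} • LinearMap.range (K.d (q - 1) q).hom) ≤
          Submodule.comap (LinearMap.ker (K.d q (q + 1)).hom).subtype (LinearMap.range (K.d (q - 1) q).hom))))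
      (ModuleCat.ofHom (Submodule.factor (Submodule.comap_mono le_sup_right :
        Submodule.comap (LinearMap.ker (K.d q (q + 1)).hom).subtype (Ideal.span {x} • LinearMap.ker (K.d q (q + 1)).hom) ≤
          Submodule.comap (LinearMap.ker (K.d q (q + 1)).hom).subtype (LinearMap.range (K.d (q - 1) q).hom ⊔ Ideal.span {x} • LinearMap.ker (K.d q (q + 1)).hom))))
      (ModuleCat.ofHom (Submodule.factor (Submodule.comap_mono le_sup_left :
        Submodule.comap (LinearMap.ker (K.d q (q + 1)).hom).subtype (LinearMap.range (K.d (q - 1) q).hom) ≤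
          Submodule.comap (LinearMap.ker (K.d q (q + 1)).hom).subtype (LinearMap.range (K.d (q - 1) q).hom ⊔ Ideal.span {x} • LinearMap.ker (K.d q (q + 1)).hom)))) := by
  apply pullback_gen
  · -- P ⊓ Q ≤ N
    rintro z ⟨hzP, hzQ⟩
    rw [SetLike.mem_coe, Submodule.mem_comap] at hzP hzQ
    rw [Submodule.mem_comap]
    rw [Submodule.ideal_span_singleton_smul] at hzP ⊢
    obtain ⟨z', hz', hzz'⟩ := (Submodule.mem_smul_pointwise_iff_exists _ _ _).1 hzP
    have h1 : x • (Submodule.Quotient.mk (⟨z', hz'⟩ : ↥(LinearMap.ker (K.d q (q + 1)).hom)) :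
        ↥(LinearMap.ker (K.d q (q + 1)).hom) ⧸ Submodule.comap (LinearMap.ker (K.d q (q + 1)).hom).subtype (LinearMap.range (K.d (q - 1) q).hom)) = x • 0 := by
      rw [smul_zero, ← Submodule.Quotient.mk_smul, Submodule.Quotient.mk_eq_zero, Submodule.mem_comap]
      have : (LinearMap.ker (K.d q (q + 1)).hom).subtype (x • ⟨z', hz'⟩) = x • z' := rfl
      rw [this, hzz']
      exact hzQ
    have h2 := hxH h1
    rw [Submodule.Quotient.mk_eq_zero, Submodule.mem_comap] at h2
    exact (Submodule.mem_smul_pointwise_iff_exists _ _ _).2 ⟨z', h2, hzz'⟩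
  · -- S ≤ P ⊔ Q
    intro z hz
    rw [Submodule.mem_comap] at hz
    obtain ⟨b, hb, c, hc, hbc⟩ := Submodule.mem_sup.1 hz
    have hbZ : b ∈ LinearMap.ker (K.d q (q + 1)).hom := hBZ hb
    have hcZ : c ∈ LinearMap.ker (K.d q (q + 1)).hom := Submodule.smul_le_right hc
    have : z = ⟨c, hcZ⟩ + ⟨b, hbZ⟩ := by
      apply Subtype.ext
      change z.1 = c + b
      exact hbc.symm.trans (add_comm _ _)
    rw [this]
    exact Submodule.add_mem_sup (by rw [Submodule.mem_comap]; exact hc)
      (by rw [Submodule.mem_comap]; exact hb)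



/-- Let A be a commutative ring, f = (f_1, …, f_n) a finite sequence in A with Koszul complex K = K(f)
(mapping-cone model) and differentials ∂, q an integer, Z = Ker(∂^q) and B = Im(∂^{q-1}), so B ⊆ Z
inside K^q (this inclusion is carried as the hypothesis hBZ). Let x be a non-zero-divisor of A which
moreover acts injectively on the cohomology module Z/B (for Noetherian A this says that x lies in no
associated prime of Z/B, which is how the published statement phrases it; the published argument
uses exactly the injectivity). Then the commuting square of quotient projections with corners Z/xB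
(top left; it is isomorphic to the q-th cohomology of the Koszul complex of (x f_1, …, x f_n)), Z/xZ
= Z ⊗ A/(x) (top right), Z/B (bottom left) and Z/(B + xZ) = (Z/B) ⊗ A/(x) (bottom right) is
cartesian in the category of A-modules. All four corners are written as quotients of Z by the
preimages of the submodules xB, xZ, B, B + xZ of K^q. -/
theorem result (A : Type u) [CommRing A] (l : List A) (q : ℤ)
    (K : CochainComplex (ModuleCat.{u} A) ℤ) (hK : K = Koszul.koszul A l)
    (hBZ : LinearMap.range (K.d (q - 1) q).hom ≤ LinearMap.ker (K.d q (q + 1)).hom)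
    (x : A) (hx : x ∈ nonZeroDivisors A)
    (hxH : IsSMulRegular (↥(LinearMap.ker (K.d q (q + 1)).hom) ⧸ Submodule.comap (LinearMap.ker (K.d q (q + 1)).hom).subtype (LinearMap.range (K.d (q - 1) q).hom)) x) :
    IsPullback
      (ModuleCat.ofHom (Submodule.factor (Submodule.comap_mono (Submodule.smul_mono le_rfl hBZ) :
        Submodule.comap (LinearMap.ker (K.d q (q + 1)).hom).subtype (Ideal.span {x} • LinearMap.range (K.d (q - 1) q).hom) ≤
          Submodule.comap (LinearMap.ker (K.d q (q + 1)).hom).subtype (Ideal.span {x} • LinearMap.ker (K.d q (q + 1)).hom))))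
      (ModuleCat.ofHom (Submodule.factor (Submodule.comap_mono (Submodule.smul_le_right) :
        Submodule.comap (LinearMap.ker (K.d q (q + 1)).hom).subtype (Ideal.span {x} • LinearMap.range (K.d (q - 1) q).hom) ≤
          Submodule.comap (LinearMap.ker (K.d q (q + 1)).hom).subtype (LinearMap.range (K.d (q - 1) q).hom))))
      (ModuleCat.ofHom (Submodule.factor (Submodule.comap_mono le_sup_right :
        Submodule.comap (LinearMap.ker (K.d q (q + 1)).hom).subtype (Ideal.span {x} • LinearMap.ker (K.d q (q + 1)).hom) ≤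
          Submodule.comap (LinearMap.ker (K.d q (q + 1)).hom).subtype (LinearMap.range (K.d (q - 1) q).hom ⊔ Ideal.span {x} • LinearMap.ker (K.d q (q + 1)).hom))))
      (ModuleCat.ofHom (Submodule.factor (Submodule.comap_mono le_sup_left :
        Submodule.comap (LinearMap.ker (K.d q (q + 1)).hom).subtype (LinearMap.range (K.d (q - 1) q).hom) ≤
          Submodule.comap (LinearMap.ker (K.d q (q + 1)).hom).subtype (LinearMap.range (K.d (q - 1) q).hom ⊔ Ideal.span {x} • LinearMap.ker (K.d q (q + 1)).hom)))) := by
  exact main A l q K hK hBZ x hx hxH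

end Groth.Agent.S15818
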