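import Groth.Statements.S15822
import Mathlib
import Groth.Agent.Lib.Helper26.Kos9

set_option autoImplicit false
universe u
open CategoryTheory
open Koszul

namespace Groth.Agent.S15822

set_option linter.style.haveILetI false

open CategoryTheory CategoryTheory.Limits CochainComplex
open Groth.Agent.Lib.helper7.KoszulLow
open Groth.Agent.Lib.helper26.Kos

variable {A : Type u} [CommRing A]

/-- concrete homology -/
abbrev Hq (C : CochainComplex (ModuleCat.{u} A) ℤ) (i j k : ℤ) : Type u :=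
  ↥(LinearMap.ker (C.d j k).hom) ⧸
    (LinearMap.range (C.d i j).hom).comap (LinearMap.ker (C.d j k).hom).subtype

theorem nonempty_homEquiv (C : CochainComplex (ModuleCat.{u} A) ℤ) (i j k : ℤ) (hij : i + 1 = j)
    (hjk : j + 1 = k) : Nonempty (C.homology j ≃ₗ[A] Hq C i j k) := by
  have e1 := (C.homologyIsoSc' i j k (by simp [← hij]) (by simp [← hjk])).toLinearEquiv
  have e2 := ((C.sc' i j k).moduleCatHomologyIso).toLinearEquiv
  have : LinearMap.range (C.sc' i j k).moduleCatToCycles =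
      (LinearMap.range (C.d i j).hom).comap (LinearMap.ker (C.d j k).hom).subtype := by
    ext z
    constructor
    · rintro ⟨x, rfl⟩
      exact ⟨x, rfl⟩
    · rintro ⟨x, hx⟩
      exact ⟨x, Subtype.ext hx⟩
  exact ⟨e1.trans (e2.trans (Submodule.quotEquivOfEq _ _ this))⟩

section
variable (C : CochainComplex (ModuleCat.{u} A) ℤ) (y : A)
  (s : ∀ i j : ℤ, C.X j →ₗ[A] C.X i)
  (hs : ∀ i j k : ℤ, i + 1 = j → j + 1 = k → ∀ c : C.X j,
      (C.d i j).hom (s i j c) + s j k ((C.d j k).hom c) = y • c)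
  (a b c d' : ℤ) (hab : a + 1 = b) (hbc : b + 1 = c) (hcd : c + 1 = d')

include hs hab hbc hcd in
theorem cone_split_concrete :
    Nonempty (Hq (mappingCone (y • 𝟙 C)) a b c ≃ₗ[A] (Hq C b c d' × Hq C a b c)) := by
  set D := mappingCone (y • 𝟙 C) with hD
  set φ : C ⟶ C := y • 𝟙 C with hφ
  have hφf : ∀ (n : ℤ) (t : C.X n), (φ.f n).hom t = y • t := fun n t => rfl
  -- the two component maps on cycles
  have h1 : ∀ z : D.X b, (D.d b c).hom z = 0 → (C.d c d').hom (fstₗ φ b c hbc z) = 0 := by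
    intro z hz
    have := fst_d φ b c d' hbc hcd z
    rw [hz, map_zero] at this
    exact neg_eq_zero.1 this.symm
  have h2 : ∀ z : D.X b, (D.d b c).hom z = 0 →
      (C.d b c).hom (sndₗ φ b z + s b c (fstₗ φ b c hbc z)) = 0 := by
    intro z hz
    have e1 := snd_d φ b c hbc z
    rw [hz, map_zero, hφf] at e1
    have e2 := hs b c d' hbc hcd (fstₗ φ b c hbc z)
    rw [h1 z hz, map_zero, add_zero] at e2
    rw [map_add, e2]
    rw [add_comm] at e1
    exact e1.symm
  let Φ₁ : ↥(LinearMap.ker (D.d b c).hom) →ₗ[A] ↥(LinearMap.ker (C.d c d').hom) :=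
    LinearMap.codRestrict _ ((fstₗ φ b c hbc) ∘ₗ (LinearMap.ker (D.d b c).hom).subtype)
      (fun z => h1 z.1 z.2)
  let Φ₂ : ↥(LinearMap.ker (D.d b c).hom) →ₗ[A] ↥(LinearMap.ker (C.d b c).hom) :=
    LinearMap.codRestrict _ ((sndₗ φ b + (s b c) ∘ₗ (fstₗ φ b c hbc)) ∘ₗ
      (LinearMap.ker (D.d b c).hom).subtype) (fun z => h2 z.1 z.2)
  let Φ : ↥(LinearMap.ker (D.d b c).hom) →ₗ[A] (Hq C b c d' × Hq C a b c) :=
    LinearMap.prod ((Submodule.mkQ _) ∘ₗ Φ₁) ((Submodule.mkQ _) ∘ₗ Φ₂)
  have hΦ₁ : ∀ z, (Φ₁ z).1 = fstₗ φ b c hbc z.1 := fun z => rfl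
  have hΦ₂ : ∀ z, (Φ₂ z).1 = sndₗ φ b z.1 + s b c (fstₗ φ b c hbc z.1) := fun z => rfl
  have hsurj : Function.Surjective Φ := by
    rintro ⟨p, q⟩
    obtain ⟨⟨a', ha'⟩, rfl⟩ := Submodule.Quotient.mk_surjective _ p
    obtain ⟨⟨b', hb'⟩, rfl⟩ := Submodule.Quotient.mk_surjective _ q
    rw [LinearMap.mem_ker] at ha' hb'
    let z : D.X b := inlₗ φ c b hbc a' + inrₗ φ b (b' - s b c a')
    have hz1 : fstₗ φ b c hbc z = a' := by
      simp only [z, map_add, fst_inl, fst_inr, add_zero]
    have hz2 : sndₗ φ b z = b' - s b c a' := by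
      simp only [z, map_add, snd_inl, snd_inr, zero_add]
    have hz : (D.d b c).hom z = 0 := by
      apply cone_ext φ c d' hcd
      · rw [fst_d φ b c d' hbc hcd, hz1, ha', map_zero, neg_zero]
      · rw [snd_d φ b c hbc, hz1, hz2, map_zero, hφf, map_sub, hb', zero_sub]
        have e2 := hs b c d' hbc hcd a'
        rw [ha', map_zero, add_zero] at e2
        rw [e2, add_neg_cancel]
    refine ⟨⟨z, hz⟩, ?_⟩
    refine Prod.ext ?_ ?_
    · change Submodule.Quotient.mk (Φ₁ ⟨z, hz⟩) = Submodule.Quotient.mk _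
      congr 1
      exact Subtype.ext hz1
    · change Submodule.Quotient.mk (Φ₂ ⟨z, hz⟩) = Submodule.Quotient.mk _
      congr 1
      apply Subtype.ext
      rw [hΦ₂]
      change sndₗ φ b z + s b c (fstₗ φ b c hbc z) = b'
      rw [hz1, hz2, sub_add_cancel]
  have hker : LinearMap.ker Φ =
      (LinearMap.range (D.d a b).hom).comap (LinearMap.ker (D.d b c).hom).subtype := by
    ext z
    rw [LinearMap.mem_ker, Submodule.mem_comap]
    have hΦz : Φ z = (Submodule.Quotient.mk (Φ₁ z), Submodule.Quotient.mk (Φ₂ z)) := rfl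
    rw [hΦz, Prod.mk_eq_zero, Submodule.Quotient.mk_eq_zero, Submodule.Quotient.mk_eq_zero,
      Submodule.mem_comap, Submodule.mem_comap]
    change (Φ₁ z).1 ∈ _ ∧ (Φ₂ z).1 ∈ _ ↔ z.1 ∈ _
    rw [hΦ₁, hΦ₂]
    constructor
    · rintro ⟨⟨a'', ha''⟩, ⟨b'', hb''⟩⟩
      let w : D.X a := inlₗ φ b a hab (-a'') + inrₗ φ a (b'' + s a b a'')
      have hw1 : fstₗ φ a b hab w = -a'' := by
        simp only [w, map_add, fst_inl, fst_inr, add_zero]
      have hw2 : sndₗ φ a w = b'' + s a b a'' := by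
        simp only [w, map_add, snd_inl, snd_inr, zero_add]
      refine ⟨w, ?_⟩
      apply cone_ext φ b c hbc
      · rw [fst_d φ a b c hab hbc, hw1, map_neg, neg_neg]
        exact ha''
      · rw [snd_d φ a b hab, hw1, hw2, hφf, map_add, hb'']
        have e2 := hs a b c hab hbc a''
        rw [ha''] at e2
        rw [smul_neg, ← e2]
        abel
    · rintro ⟨w, hw⟩
      constructor
      · refine ⟨-(fstₗ φ a b hab w), ?_⟩
        rw [← hw, fst_d φ a b c hab hbc, map_neg]
      · refine ⟨s a b (fstₗ φ a b hab w) + sndₗ φ a w, ?_⟩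
        rw [← hw, snd_d φ a b hab, fst_d φ a b c hab hbc, hφf, map_neg, map_add]
        have e2 := hs a b c hab hbc (fstₗ φ a b hab w)
        rw [← e2]
        abel
  exact ⟨(Submodule.quotEquivOfEq _ _ hker.symm).trans (LinearMap.quotKerEquivOfSurjective Φ hsurj)⟩

include hs in
theorem cone_split (m : ℤ) :
    Nonempty ((mappingCone (y • 𝟙 C)).homology m ≃ₗ[A] (C.homology (m + 1) × C.homology m)) := by
  obtain ⟨e1⟩ := nonempty_homEquiv (mappingCone (y • 𝟙 C)) (m - 1) m (m + 1) (by ring) rfl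
  obtain ⟨e2⟩ := cone_split_concrete C y s hs (m - 1) m (m + 1) (m + 1 + 1) (by ring) rfl rfl
  obtain ⟨e3⟩ := nonempty_homEquiv C m (m + 1) (m + 1 + 1) rfl rfl
  obtain ⟨e4⟩ := nonempty_homEquiv C (m - 1) m (m + 1) (by ring) rfl
  exact ⟨e1.trans (e2.trans (LinearEquiv.prodCongr e3.symm e4.symm))⟩

end


/-! ### closure of null-homotopies -/

theorem NH.zero' (C : CochainComplex (ModuleCat.{u} A) ℤ) : NH (0 : A) C :=
  ⟨fun _ _ => 0, fun i j k _ _ c => by simp⟩

theorem NH.add' {C : CochainComplex (ModuleCat.{u} A) ℤ} {x y : A} (hx : NH x C) (hy : NH y C) :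
    NH (x + y) C := by
  obtain ⟨s, hs⟩ := hx
  obtain ⟨t, ht⟩ := hy
  refine ⟨fun i j => s i j + t i j, fun i j k hij hjk c => ?_⟩
  rw [LinearMap.add_apply, LinearMap.add_apply, map_add, add_smul, ← hs i j k hij hjk c,
    ← ht i j k hij hjk c]
  abel

theorem NH.smul' {C : CochainComplex (ModuleCat.{u} A) ℤ} {x : A} (r : A) (hx : NH x C) :
    NH (r • x) C := by
  obtain ⟨s, hs⟩ := hx
  refine ⟨fun i j => r • s i j, fun i j k hij hjk c => ?_⟩
  rw [LinearMap.smul_apply, LinearMap.smul_apply, map_smul, ← smul_add, hs i j k hij hjk c,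
    smul_eq_mul, mul_smul]

theorem NH.of_mem_span {C : CochainComplex (ModuleCat.{u} A) ℤ} {S : Set A}
    (h : ∀ x ∈ S, NH x C) {y : A} (hy : y ∈ Ideal.span S) : NH y C := by
  refine Submodule.span_induction (p := fun y _ => NH y C) ?_ ?_ ?_ ?_ hy
  · intro x hx; exact h x hx
  · exact NH.zero' C
  · intro x y _ _ hx hy; exact NH.add' hx hy
  · intro r x _ hx; exact NH.smul' r hx

theorem smul_id_f_apply'' {C : CochainComplex (ModuleCat.{u} A) ℤ} (x : A) (j : ℤ) (c : C.X j) :
    ((x • 𝟙 C : C ⟶ C).f j).hom c = x • c := rfl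

/-- The homotopy on the cone induced by a homotopy on `C` (no Noetherian hypothesis). -/
theorem NHcone {C : CochainComplex (ModuleCat.{u} A) ℤ} (x : A) {y : A} (h : NH y C) :
    NH y (mappingCone (x • 𝟙 C)) := by
  obtain ⟨s, hs⟩ := h
  refine ⟨fun i j => (inlₗ (x • 𝟙 C) (i + 1) i rfl) ∘ₗ (-(s (i + 1) (j + 1))) ∘ₗ
      (fstₗ (x • 𝟙 C) j (j + 1) rfl) + (inrₗ (x • 𝟙 C) i) ∘ₗ (s i j) ∘ₗ (sndₗ (x • 𝟙 C) j), ?_⟩
  intro i j k hij hjk z
  subst hij hjk
  apply cone_ext (x • 𝟙 C) (i + 1) (i + 1 + 1) rfl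
  · simp only [LinearMap.add_apply, LinearMap.comp_apply, LinearMap.neg_apply, map_add, map_neg,
      fst_d (x • 𝟙 C) i (i + 1) (i + 1 + 1) rfl rfl, fst_inl, fst_inr, map_smul,
      fst_d (x • 𝟙 C) (i + 1) (i + 1 + 1) (i + 1 + 1 + 1) rfl rfl, add_zero, neg_neg, map_zero,
      neg_zero]
    exact hs (i + 1) (i + 1 + 1) (i + 1 + 1 + 1) rfl rfl _
  · simp only [LinearMap.add_apply, LinearMap.comp_apply, LinearMap.neg_apply, map_add, map_neg,
      snd_d (x • 𝟙 C) i (i + 1) rfl, snd_d (x • 𝟙 C) (i + 1) (i + 1 + 1) rfl, fst_inl, fst_inr,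
      snd_inl, snd_inr, map_smul, smul_id_f_apply'', add_zero, zero_add, map_zero,
      neg_zero]
    have := hs i (i + 1) (i + 1 + 1) rfl rfl (sndₗ (x • 𝟙 C) (i + 1) z)
    rw [← this]
    abel

/-- Multiplication by `x` is null-homotopic on the cone of `x • 𝟙`. -/
theorem NHcone_self (C : CochainComplex (ModuleCat.{u} A) ℤ) (x : A) :
    NH x (mappingCone (x • 𝟙 C)) := by
  classical
  refine ⟨fun i j => if h : i + 1 = j then (inlₗ (x • 𝟙 C) j i h) ∘ₗ (sndₗ (x • 𝟙 C) j) else 0, ?_⟩
  intro i j k hij hjk z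
  subst hij hjk
  beta_reduce
  rw [dif_pos rfl, dif_pos rfl]
  apply cone_ext (x • 𝟙 C) (i + 1) (i + 1 + 1) rfl
  · simp only [LinearMap.comp_apply, map_add, map_smul,
      fst_d (x • 𝟙 C) i (i + 1) (i + 1 + 1) rfl rfl, fst_inl,
      snd_d (x • 𝟙 C) (i + 1) (i + 1 + 1) rfl, smul_id_f_apply'']
    abel
  · simp only [LinearMap.comp_apply, map_add, map_smul,
      snd_d (x • 𝟙 C) i (i + 1) rfl, fst_inl, snd_inl, smul_id_f_apply'', map_zero, add_zero]

theorem NH_koszulCx (M : ModuleCat.{u} A) : ∀ (l : List A) (x : A), x ∈ l →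
    NH x (CohIII.koszulCx M l)
  | [], x, hx => by simp at hx
  | f :: l, x, hx => by
    change NH x (mappingCone (f • 𝟙 (CohIII.koszulCx M l)))
    rcases List.mem_cons.1 hx with rfl | hx'
    · exact NHcone_self _ _
    · exact NHcone _ (NH_koszulCx M l x hx')

/-! ### combinatorics of multiplicities -/

/-- `X` is a product of copies of the `G j` with multiplicities `a j`. -/
def IsSum (X : Type u) [AddCommGroup X] [Module A X] (a : ℕ → ℕ) (G : ℕ → ModuleCat.{u} A) : Prop :=
  Nonempty (X ≃ₗ[A] ((j : ℕ) → Fin (a j) → G j))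

theorem IsSum.of_equiv {X Y : Type u} [AddCommGroup X] [Module A X] [AddCommGroup Y] [Module A Y]
    {a : ℕ → ℕ} {G : ℕ → ModuleCat.{u} A} (e : X ≃ₗ[A] Y) (h : IsSum Y a G) : IsSum X a G := by
  obtain ⟨f⟩ := h
  exact ⟨e.trans f⟩

/-- product of pi's is pi of products -/
def prodPiEquiv (P Q : ℕ → Type u) [∀ j, AddCommGroup (P j)] [∀ j, Module A (P j)]
    [∀ j, AddCommGroup (Q j)] [∀ j, Module A (Q j)] :
    (((j : ℕ) → P j) × ((j : ℕ) → Q j)) ≃ₗ[A] ((j : ℕ) → (P j × Q j)) where
  toFun p := fun j => (p.1 j, p.2 j)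
  map_add' _ _ := rfl
  map_smul' _ _ := rfl
  invFun g := (fun j => (g j).1, fun j => (g j).2)
  left_inv _ := rfl
  right_inv _ := rfl

theorem IsSum.prod {X Y : Type u} [AddCommGroup X] [Module A X] [AddCommGroup Y] [Module A Y]
    {a b : ℕ → ℕ} {G : ℕ → ModuleCat.{u} A} (hX : IsSum X a G) (hY : IsSum Y b G) :
    IsSum (X × Y) (fun j => a j + b j) G := by
  obtain ⟨f⟩ := hX
  obtain ⟨g⟩ := hY
  refine ⟨(LinearEquiv.prodCongr f g).trans ((prodPiEquiv _ _).trans
    (LinearEquiv.piCongrRight (fun j => ?_)))⟩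
  exact (LinearEquiv.sumArrowLequivProdArrow (Fin (a j)) (Fin (b j)) A (G j)).symm.trans
    (LinearEquiv.funCongrLeft A (G j) (finSumFinEquiv (m := a j) (n := b j)).symm)

/-- shift of a multiplicity function -/
def shiftFn (a : ℕ → ℕ) : ℕ → ℕ
  | 0 => 0
  | j + 1 => a j

def shiftEquiv' (a : ℕ → ℕ) (G : ℕ → ModuleCat.{u} A) :
    ((j : ℕ) → Fin (a j) → G (j + 1)) ≃ₗ[A] ((j : ℕ) → Fin (shiftFn a j) → G j) where
  toFun g := fun j => match j with
    | 0 => fun k => Fin.elim0 k
    | j + 1 => g j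
  map_add' g g' := by
    funext j
    cases j with
    | zero => funext k; exact Fin.elim0 k
    | succ j => rfl
  map_smul' r g := by
    funext j
    cases j with
    | zero => funext k; exact Fin.elim0 k
    | succ j => rfl
  invFun g := fun j => g (j + 1)
  left_inv g := rfl
  right_inv g := by
    funext j
    cases j with
    | zero => funext k; exact Fin.elim0 k
    | succ j => rfl

theorem IsSum.shift {X : Type u} [AddCommGroup X] [Module A X]
    {a : ℕ → ℕ} {G : ℕ → ModuleCat.{u} A} (hX : IsSum X a (fun j => G (j + 1))) :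
    IsSum X (shiftFn a) G := by
  obtain ⟨f⟩ := hX
  exact ⟨f.trans (shiftEquiv' a G)⟩

theorem choose_succ_fn (r : ℕ) :
    (fun j => (r + 1).choose j) = fun j => shiftFn (fun i => r.choose i) j + r.choose j := by
  funext j
  cases j with
  | zero => simp [shiftFn]
  | succ j => simp [shiftFn, Nat.choose_succ_succ]

theorem IsSum.restrict {X : Type u} [AddCommGroup X] [Module A X]
    {a : ℕ → ℕ} {G : ℕ → ModuleCat.{u} A} (r : ℕ) (ha : ∀ j, r < j → a j = 0) (hX : IsSum X a G) :
    Nonempty (X ≃ₗ[A] ((j : Fin (r + 1)) → Fin (a j) → G j)) := by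
  obtain ⟨f⟩ := hX
  have g : ((j : ℕ) → Fin (a j) → G j) ≃ₗ[A] ((j : Fin (r + 1)) → Fin (a j) → G j) :=
    { toFun := fun g j => g j
      map_add' := fun _ _ => rfl
      map_smul' := fun _ _ => rfl
      invFun := fun g j => if h : j < r + 1 then g ⟨j, h⟩ else
        fun k => (Fin.elim0 (Fin.cast (ha j (by omega)) k))
      left_inv := fun g => by
        funext j
        by_cases h : j < r + 1
        · simp [h]
        · funext k
          exact Fin.elim0 (Fin.cast (ha j (by omega)) k)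
      right_inv := fun g => by
        funext j
        simp [j.2] }
  exact ⟨f.trans g⟩

theorem IsSum.base {X : Type u} [AddCommGroup X] [Module A X] {G : ℕ → ModuleCat.{u} A}
    (e : X ≃ₗ[A] G 0) : IsSum X (fun j => Nat.choose 0 j) G := by
  have g : (G 0) ≃ₗ[A] ((j : ℕ) → Fin (Nat.choose 0 j) → G j) :=
    { toFun := fun x j => match j with
        | 0 => fun _ => x
        | j + 1 => fun k => Fin.elim0 k
      map_add' := fun x x' => by
        funext j
        cases j with
        | zero => rfl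
        | succ j => funext k; exact Fin.elim0 k
      map_smul' := fun r x => by
        funext j
        cases j with
        | zero => rfl
        | succ j => funext k; exact Fin.elim0 k
      invFun := fun g => g 0 ⟨0, by simp⟩
      left_inv := fun x => rfl
      right_inv := fun g => by
        funext j
        cases j with
        | zero =>
          funext k
          have hk : k = ⟨0, by simp⟩ := by
            apply Fin.ext
            have h2 : (k : ℕ) < Nat.choose 0 0 := k.2
            have h3 : (k : ℕ) < 1 := lt_of_lt_of_eq h2 (Nat.choose_self 0)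
            change (k : ℕ) = 0
            omega
          rw [hk]
        | succ j => funext k; exact Fin.elim0 k }
  exact ⟨e.trans g⟩

/-! ### the main induction -/

theorem key (M : ModuleCat.{u} A) (xs : List A) :
    ∀ (ys : List A), (∀ y ∈ ys, y ∈ Ideal.span {a | a ∈ xs}) → ∀ m : ℤ,
      IsSum ((CohIII.koszulCx M (ys ++ xs)).homology m) (fun j => ys.length.choose j)
        (fun j => (CohIII.koszulCx M xs).homology (m + j))
  | [], _, m => by
    apply IsSum.base
    change (CohIII.koszulCx M xs).homology m ≃ₗ[A] (CohIII.koszulCx M xs).homology (m + ((0 : ℕ) : ℤ))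
    have h : m + ((0 : ℕ) : ℤ) = m := by simp
    rw [h]
  | y :: ys, hy, m => by
    have hy' : ∀ y ∈ ys, y ∈ Ideal.span {a | a ∈ xs} := fun z hz => hy z (List.mem_cons_of_mem _ hz)
    set C := CohIII.koszulCx M (ys ++ xs) with hC
    have hNH : NH y C := by
      apply NH.of_mem_span (S := {a | a ∈ xs}) _ (hy y List.mem_cons_self)
      intro x hx
      exact NH_koszulCx M (ys ++ xs) x (List.mem_append_right _ hx)
    obtain ⟨s, hs⟩ := hNH
    obtain ⟨e⟩ := cone_split C y s hs m
    change IsSum ((mappingCone (y • 𝟙 C)).homology m) _ _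
    refine IsSum.of_equiv e ?_
    have h1 := key M xs ys hy' (m + 1)
    have h0 := key M xs ys hy' m
    have hG : (fun j : ℕ => (CohIII.koszulCx M xs).homology (m + 1 + j)) =
        fun j : ℕ => (fun i : ℕ => (CohIII.koszulCx M xs).homology (m + i)) (j + 1) := by
      funext j
      have : m + 1 + (j : ℤ) = m + ((j + 1 : ℕ) : ℤ) := by push_cast; ring
      rw [this]
    rw [hG] at h1
    have h2 := (IsSum.shift h1).prod h0
    have hlen : (y :: ys).length = ys.length + 1 := rfl
    rw [hlen, choose_succ_fn]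
    exact h2

theorem main (A : Type u) [CommRing A] (M : ModuleCat.{u} A)
    (xs ys : List A) (hy : ∀ y ∈ ys, y ∈ Ideal.span {a | a ∈ xs}) (m : ℤ) :
    Nonempty ((DRing.tensorCx (Koszul.koszul A (xs ++ ys)) M).homology m ≅
      ModuleCat.of A ((j : Fin (ys.length + 1)) → Fin (ys.length.choose j) →
        (DRing.tensorCx (Koszul.koszul A xs) M).homology (m + j))) := by
  have b1 : DRing.tensorCx (Koszul.koszul A (xs ++ ys)) M ≅ CohIII.koszulCx M (xs ++ ys) :=
    bridge (↑M) (xs ++ ys)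
  have b2 : DRing.tensorCx (Koszul.koszul A xs) M ≅ CohIII.koszulCx M xs := bridge (↑M) xs
  obtain ⟨p⟩ := nonempty_iso_of_perm M (List.perm_append_comm : (xs ++ ys).Perm (ys ++ xs))
  have e1 : (DRing.tensorCx (Koszul.koszul A (xs ++ ys)) M).homology m ≃ₗ[A]
      (CohIII.koszulCx M (ys ++ xs)).homology m :=
    ((HomologicalComplex.homologyFunctor _ _ m).mapIso (b1 ≪≫ p)).toLinearEquiv
  obtain ⟨e2⟩ := IsSum.restrict ys.length
    (fun j hj => Nat.choose_eq_zero_of_lt hj) (key M xs ys hy m)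
  have e3 : ((j : Fin (ys.length + 1)) → Fin (ys.length.choose j) →
      (CohIII.koszulCx M xs).homology (m + j)) ≃ₗ[A]
      ((j : Fin (ys.length + 1)) → Fin (ys.length.choose j) →
        (DRing.tensorCx (Koszul.koszul A xs) M).homology (m + j)) :=
    LinearEquiv.piCongrRight (fun j => LinearEquiv.piCongrRight (fun _ =>
      ((HomologicalComplex.homologyFunctor _ _ (m + j)).mapIso b2.symm).toLinearEquiv))
  exact ⟨LinearEquiv.toModuleIso (e1.trans (e2.trans e3))⟩



/-- Let A be a commutative ring, M an A-module, x = (x_1, …, x_s) a sequence in A and y_1, …, y_r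
elements of the ideal (x_1, …, x_s). Then for every integer m, the m-th cohomology module of the
complex K(x_1, …, x_s, y_1, …, y_r) ⊗_A M (Koszul complex of the concatenated sequence in the
iterated mapping-cone model, tensored termwise with M) is isomorphic as an A-module to the direct
sum over j = 0, …, r of (r choose j) copies of the (m + j)-th cohomology module of K(x_1, …, x_s)
⊗_A M (existence of an A-linear isomorphism). In the published indexing: H^{-q}(K(x, y) ⊗ M) ≅
⊕_{i+j=q} H^{-i}(K(x) ⊗ M) ⊗ ∧^j A^r. -/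
theorem result (A : Type u) [CommRing A] (M : ModuleCat.{u} A)
    (xs ys : List A) (hy : ∀ y ∈ ys, y ∈ Ideal.span {a | a ∈ xs}) (m : ℤ) :
    Nonempty ((DRing.tensorCx (Koszul.koszul A (xs ++ ys)) M).homology m ≅
      ModuleCat.of A ((j : Fin (ys.length + 1)) → Fin (ys.length.choose j) →
        (DRing.tensorCx (Koszul.koszul A xs) M).homology (m + j))) := by
  exact main A M xs ys hy m

end Groth.Agent.S15822
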