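import Groth.Statements.S15824
import Mathlib
import Groth.Agent.Lib.Helper17.RegNear
import Groth.Agent.Lib.Helper17.LciCM
import Groth.Agent.S9808

set_option autoImplicit false
universe u
open CategoryTheory AlgebraicGeometry
open RegImm

namespace Groth.Agent.S15824

/-- Let X be a locally Noetherian scheme all of whose local rings are Cohen–Macaulay, and i : Z → X a
closed immersion which is regular (around every point, on some affine open of X the ideal of Z is
generated by a regular sequence). Then Z has no embedded points (each associated point of Z is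
generic in an irreducible component): for every point z of Z, if the maximal ideal of O_{Z,z} is an
associated prime of O_{Z,z} (as a module over itself), then O_{Z,z} has Krull dimension 0. (The
published statement takes X Noetherian and Z a local complete intersection subscheme; the assertion
is local on X and uses only that the ideal of Z is locally generated by a regular sequence.) -/
theorem result {X Z : Scheme.{u}}
    [IsLocallyNoetherian X] (hCM : ∀ x : X, LocCoh.IsCohenMacaulayLocalRing (X.presheaf.stalk x))
    (i : Z ⟶ X) [IsClosedImmersion i] (hi : RegImm.IsRegularImmersion RegImm.Kind.regular i) (z : Z)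
    (hz : IsAssociatedPrime (IsLocalRing.maximalIdeal (Z.presheaf.stalk z)) (Z.presheaf.stalk z)) :
    ringKrullDim (Z.presheaf.stalk z) = 0 := by
  obtain ⟨-, hreg⟩ := hi
  obtain ⟨U, hzU, -, rs, hrs, hker⟩ := hreg z
  have hRegAt : Groth.Agent.Lib.helper17.RegNear.RegAt i z :=
    ⟨U.1, U.2, hzU, rs, hrs, by rw [Scheme.Hom.ker_apply]; exact hker⟩
  obtain ⟨rs', hrs', hker'⟩ := Groth.Agent.Lib.helper17.RegNear.stalk_of_regAt i z hRegAt
  haveI := hCM (i z)
  have hmem : ∀ r ∈ rs', r ∈ IsLocalRing.maximalIdeal (X.presheaf.stalk (i z)) := by
    intro r hr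
    have h1 : r ∈ RingHom.ker (i.stalkMap z).hom := by
      rw [hker']; exact Ideal.subset_span hr
    by_contra hnot
    have hu : IsUnit r := by
      by_contra hnu
      exact hnot ((IsLocalRing.mem_maximalIdeal r).2 hnu)
    have h2 : IsUnit ((i.stalkMap z).hom r) := hu.map _
    rw [(RingHom.mem_ker).mp h1] at h2
    exact not_isUnit_zero h2
  haveI hcmq := Groth.Agent.Lib.helper17.LciCM.cm_quot_ofList (X.presheaf.stalk (i z)) rs' hmem hrs'.1
  have hsurj : Function.Surjective (i.stalkMap z).hom := i.stalkMap_surjective z
  let e : (X.presheaf.stalk (i z) ⧸ Ideal.ofList rs') ≃+* Z.presheaf.stalk z :=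
    (Ideal.quotEquivOfEq hker'.symm).trans (RingHom.quotientKerEquivOfSurjective hsurj)
  haveI hcmz : LocCoh.IsCohenMacaulayLocalRing (Z.presheaf.stalk z) :=
    Groth.Agent.S9808.cm_of_ringEquiv e
  -- depth zero
  have hdepth : LocCoh.depth (Z.presheaf.stalk z) (Z.presheaf.stalk z) = 0 := by
    haveI : IsNoetherianRing (Z.presheaf.stalk z) := inferInstance
    rw [isAssociatedPrime_iff] at hz
    obtain ⟨-, a, hann⟩ := hz
    have ha0 : a ≠ 0 := by
      rintro rfl
      have h1 : (1 : Z.presheaf.stalk z) ∈ IsLocalRing.maximalIdeal (Z.presheaf.stalk z) := by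
        rw [hann, Submodule.mem_colon_singleton]; simp
      exact (IsLocalRing.maximalIdeal.isMaximal _).ne_top ((Ideal.eq_top_iff_one _).mpr h1)
    unfold LocCoh.depth LocCoh.idealDepth
    rw [if_neg]
    · apply le_antisymm _ zero_le
      apply iSup_le
      intro l
      apply iSup_le
      rintro ⟨hl, hlm⟩
      cases l with
      | nil => simp
      | cons r l' =>
        exfalso
        rw [RingTheory.Sequence.isWeaklyRegular_cons_iff] at hl
        have hr : r ∈ IsLocalRing.maximalIdeal (Z.presheaf.stalk z) := hlm r (by simp)
        rw [hann] at hr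
        have h1 : r • a = 0 := by
          rw [Submodule.mem_colon_singleton] at hr
          simpa using hr
        have h2 : r • a = r • (0 : Z.presheaf.stalk z) := by rw [h1, smul_zero]
        exact ha0 (hl.1 h2)
    · intro htop
      have h1 : (1 : Z.presheaf.stalk z) ∈ IsLocalRing.maximalIdeal (Z.presheaf.stalk z) •
          (⊤ : Submodule (Z.presheaf.stalk z) (Z.presheaf.stalk z)) := by rw [htop]; trivial
      rw [smul_eq_mul, Ideal.mul_top] at h1
      exact (IsLocalRing.maximalIdeal.isMaximal _).ne_top ((Ideal.eq_top_iff_one _).mpr h1)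
  have h := hcmz.supportDim_eq_depth
  rw [Module.supportDim_self_eq_ringKrullDim, hdepth] at h
  exact h

end Groth.Agent.S15824
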