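import Groth.Statements.S15828
import Mathlib
import Groth.Agent.Lib.Helper13.KosT2
-- import your own Groth.Agent.* helpers here

set_option autoImplicit false
universe u
open CategoryTheory CategoryTheory.Limits MonoidalCategory
open Koszul

namespace Groth.Agent.S15828

open HomologicalComplex CochainComplex MonoidalCategory in
lemma smul_whisker (A : Type u) [CommRing A] (K N : DRing.Cx A) (a : A) :
    mapBifunctorMap (a • 𝟙 K) (𝟙 N) (curriedTensor (ModuleCat.{u} A)) (ComplexShape.up ℤ) =
      a • 𝟙 (mapBifunctor K N (curriedTensor (ModuleCat.{u} A)) (ComplexShape.up ℤ)) := by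
  apply HomologicalComplex.hom_ext
  intro n
  apply mapBifunctor.hom_ext
  intro p q h
  rw [ι_mapBifunctorMap]
  simp [MonoidalLinear.smul_whiskerRight]

open CochainComplex in
/-- an isomorphism of complexes induces an isomorphism of the cones of `x • 𝟙` -/
noncomputable def coneIso {A : Type u} [CommRing A] {K K' : DRing.Cx A} (e : K ≅ K') (x : A) :
    mappingCone (x • 𝟙 K) ≅ mappingCone (x • 𝟙 K') where
  hom := mappingCone.map _ _ e.hom e.hom (by simp [Linear.smul_comp, Linear.comp_smul])
  inv := mappingCone.map _ _ e.inv e.inv (by simp [Linear.smul_comp, Linear.comp_smul])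
  hom_inv_id := by
    rw [← mappingCone.map_comp]
    simp only [Iso.hom_inv_id]
    exact mappingCone.map_id _
  inv_hom_id := by
    rw [← mappingCone.map_comp]
    simp only [Iso.inv_hom_id]
    exact mappingCone.map_id _


/-- Let A be a commutative ring and f = (f_1, …, f_r), g = (g_1, …, g_s) finite sequences of elements of
A (Koszul complexes of free modules of finite rank with chosen bases). Then the tensor product of
cochain complexes K(f) ⊗ K(g) is isomorphic to the Koszul complex K(f_1, …, f_r, g_1, …, g_s) of the
concatenated sequence (existence of an isomorphism of cochain complexes of A-modules; the Koszul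
complexes are the iterated mapping-cone model and ⊗ is the tensor product of complexes). The second
assertion of the published statement, K(f, g) ≅ Cone(g : K(f) → K(f)) for a single element g, is the
defining recursion of the mapping-cone model and is not restated. -/
theorem result (A : Type u) [CommRing A] (f g : List A) :
    Nonempty ((MonoidalCategoryStruct.tensorObj (C := DRing.Cx A) (Koszul.koszul A f) (Koszul.koszul A g)) ≅
      Koszul.koszul A (f ++ g)) := by
  induction f with
  | nil => exact ⟨MonoidalCategoryStruct.leftUnitor (C := DRing.Cx A) (Koszul.koszul A g)⟩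
  | cons a l ih =>
    obtain ⟨e⟩ := ih
    have e1 := Groth.Agent.Lib.helper13.KosT.coneMapBifunctorIso
      (MonoidalCategory.curriedTensor (ModuleCat.{u} A)) (a • 𝟙 (Koszul.koszul A l))
      (Koszul.koszul A g)
    rw [smul_whisker] at e1
    exact ⟨e1 ≪≫ coneIso e a⟩

end Groth.Agent.S15828
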