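import Groth.Statements.S15832
import Mathlib
-- import your own Groth.Agent.* helpers here

set_option autoImplicit false
universe u
open TopGrp

namespace Groth.Agent.S15832

/-- For a group T with a topology, let B be the family of two-sided translates x Γ y, where Γ runs over
the subgroups of T open in the given topology and x, y over T; the topology generated by B makes T a
topological group in which every neighbourhood of the identity contains a subgroup open for that
topology. (The published statement is for the free topological product of two Noohi groups whose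
open subgroups form a basis of neighbourhoods of the identity; the argument uses only the group
structure and the chosen family of subgroups, so the row is stated for an arbitrary group with a
topology. The published conventions include Hausdorffness in the word topological group; this row
does not assert it, and the published argument does not prove it.) -/
theorem result (T : Type u) [Group T]
    [TopologicalSpace T] :
    @NonarchimedeanGroup T _ (TopologicalSpace.generateFrom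
      {S : Set T | ∃ (Γ : OpenSubgroup T) (x y : T), S = (fun g : T => x * g * y) '' (Γ : Set T)}) := by
  set B : Set (Set T) :=
    {S : Set T | ∃ (Γ : OpenSubgroup T) (x y : T), S = (fun g : T => x * g * y) '' (Γ : Set T)} with hB
  -- members of B containing 1 are closed under mul and inv
  have hmul : ∀ S ∈ B, (1 : T) ∈ S → ∀ a ∈ S, ∀ b ∈ S, a * b ∈ S := by
    rintro S ⟨Γ, x, y, rfl⟩ ⟨γ₀, hγ₀, h1⟩ a ⟨γ₁, hγ₁, rfl⟩ b ⟨γ₂, hγ₂, rfl⟩
    refine ⟨γ₁ * γ₀⁻¹ * γ₂, Γ.mul_mem (Γ.mul_mem hγ₁ (Γ.inv_mem hγ₀)) hγ₂, ?_⟩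
    simp only at h1 ⊢
    have hy : y = γ₀⁻¹ * x⁻¹ := by
      have : x * γ₀ * y = 1 := h1
      calc y = (x * γ₀)⁻¹ * (x * γ₀ * y) := by group
        _ = γ₀⁻¹ * x⁻¹ := by rw [this]; group
    rw [hy]; group
  have hinv : ∀ S ∈ B, (1 : T) ∈ S → ∀ a ∈ S, a⁻¹ ∈ S := by
    rintro S ⟨Γ, x, y, rfl⟩ ⟨γ₀, hγ₀, h1⟩ a ⟨γ₁, hγ₁, rfl⟩
    refine ⟨γ₀ * γ₁⁻¹ * γ₀, Γ.mul_mem (Γ.mul_mem hγ₀ (Γ.inv_mem hγ₁)) hγ₀, ?_⟩
    simp only at h1 ⊢
    have hy : y = γ₀⁻¹ * x⁻¹ := by
      have : x * γ₀ * y = 1 := h1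
      calc y = (x * γ₀)⁻¹ * (x * γ₀ * y) := by group
        _ = γ₀⁻¹ * x⁻¹ := by rw [this]; group
    rw [hy]; group
  have hBmem : ∀ (Γ : OpenSubgroup T) (x y : T), ((fun g : T => x * g * y) '' (Γ : Set T)) ∈ B :=
    fun Γ x y => ⟨Γ, x, y, rfl⟩
  have hopen : ∀ S ∈ B, @IsOpen T (TopologicalSpace.generateFrom B) S :=
    fun S hS => TopologicalSpace.isOpen_generateFrom_of_mem hS
  refine @NonarchimedeanGroup.mk T _ (TopologicalSpace.generateFrom B)
    (@IsTopologicalGroup.mk T (TopologicalSpace.generateFrom B) _ ?_ ?_) ?_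
  · -- continuous mul
    refine @ContinuousMul.mk T (TopologicalSpace.generateFrom B) _ ?_
    let τ' : TopologicalSpace T := TopologicalSpace.generateFrom B
    refine continuous_generateFrom_iff.mpr ?_
    rintro S ⟨Γ, x, y, rfl⟩
    rw [isOpen_prod_iff]
    rintro g h ⟨γ₀, hγ₀, hgh⟩
    simp only at hgh
    refine ⟨(fun t : T => x * t * (x⁻¹ * g)) '' (Γ : Set T),
      (fun t : T => (g⁻¹ * x) * t * (x⁻¹ * g * h)) '' (Γ : Set T),
      hopen _ (hBmem _ _ _), hopen _ (hBmem _ _ _), ⟨1, Γ.one_mem, by group⟩,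
      ⟨1, Γ.one_mem, by group⟩, ?_⟩
    rintro ⟨u, v⟩ ⟨⟨γ₁, hγ₁, rfl⟩, ⟨γ₂, hγ₂, rfl⟩⟩
    refine ⟨γ₁ * γ₂ * γ₀, Γ.mul_mem (Γ.mul_mem hγ₁ hγ₂) hγ₀, ?_⟩
    simp only
    have : x⁻¹ * g * h = γ₀ * y := by
      rw [mul_assoc, ← hgh]; group
    calc x * (γ₁ * γ₂ * γ₀) * y = x * γ₁ * γ₂ * (γ₀ * y) := by group
      _ = x * γ₁ * γ₂ * (x⁻¹ * g * h) := by rw [this]
      _ = x * γ₁ * (x⁻¹ * g) * (g⁻¹ * x * γ₂ * (x⁻¹ * g * h)) := by group
  · -- continuous inv
    refine @ContinuousInv.mk T (TopologicalSpace.generateFrom B) _ ?_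
    let τ' : TopologicalSpace T := TopologicalSpace.generateFrom B
    refine continuous_generateFrom_iff.mpr ?_
    rintro S ⟨Γ, x, y, rfl⟩
    have : (fun a : T => a⁻¹) ⁻¹' ((fun g : T => x * g * y) '' (Γ : Set T))
        = (fun g : T => y⁻¹ * g * x⁻¹) '' (Γ : Set T) := by
      ext a
      constructor
      · rintro ⟨γ, hγ, h⟩
        refine ⟨γ⁻¹, Γ.inv_mem hγ, ?_⟩
        simp only at h ⊢
        calc y⁻¹ * γ⁻¹ * x⁻¹ = (x * γ * y)⁻¹ := by group
          _ = a := by rw [h, inv_inv]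
      · rintro ⟨γ, hγ, rfl⟩
        refine ⟨γ⁻¹, Γ.inv_mem hγ, ?_⟩
        simp only
        group
    rw [this]
    exact hopen _ (hBmem _ _ _)
  · -- nonarchimedean
    let τ' : TopologicalSpace T := TopologicalSpace.generateFrom B
    intro U hU
    have hbasis := TopologicalSpace.isTopologicalBasis_of_subbasis (t := τ') (s := B) rfl
    obtain ⟨_, ⟨f, ⟨hf, hfB⟩, rfl⟩, h1f, hfU⟩ := hbasis.mem_nhds_iff.mp hU
    simp only at h1f hfU
    refine ⟨⟨⟨⟨⟨⋂₀ f, ?_⟩, h1f⟩, ?_⟩, ?_⟩, hfU⟩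
    · intro a b ha hb S hS
      exact hmul S (hfB hS) (h1f S hS) a (ha S hS) b (hb S hS)
    · intro a ha S hS
      exact hinv S (hfB hS) (h1f S hS) a (ha S hS)
    · exact hf.isOpen_sInter fun S hS => hopen S (hfB hS)

end Groth.Agent.S15832
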