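import Groth.Statements.S15833
import Mathlib
-- import your own Groth.Agent.* helpers here

set_option autoImplicit false
universe u
open EtBase

namespace Groth.Agent.S15833

open CategoryTheory CategoryTheory.Limits AlgebraicGeometry in
/-- Let i : X₀ ⟶ X be a surjective closed immersion of schemes and f : Y ⟶ X a morphism. Then f
satisfies the valuative criterion (existence and uniqueness of a lift in every valuative square,
over arbitrary valuation rings) if and only if its base change Y ×_X X₀ ⟶ X₀ does. (The published
statement takes X locally Noetherian and connected, X₀ the reduced closed subscheme with the same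
underlying space and f étale, and combines this step with the equivalence between étale schemes over
X and over X₀ to identify the geometric coverings, i.e. the étale morphisms satisfying the valuative
criterion, of X and of X₀; the argument for this step uses only that X₀ ⟶ X is a surjective closed
immersion and that valuation rings are reduced.) -/
theorem result {X X₀ Y : Scheme.{u}} (i : X₀ ⟶ X)
    [IsClosedImmersion i] [Surjective i] (f : Y ⟶ X) :
    ValuativeCriterion f ↔ ValuativeCriterion (pullback.snd f i) := by
  constructor
  · -- stability under base change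
    intro H S
    -- the induced square over f
    have w : (S.i₁ ≫ pullback.fst f i) ≫ f =
        Spec.map (CommRingCat.ofHom (algebraMap S.R S.K)) ≫ (S.i₂ ≫ i) := by
      rw [Category.assoc, pullback.condition, ← Category.assoc, S.commSq.w, Category.assoc]
    let S' : ValuativeCommSq f :=
      { R := S.R, K := S.K, i₁ := S.i₁ ≫ pullback.fst f i, i₂ := S.i₂ ≫ i, commSq := ⟨w⟩ }
    obtain ⟨hU⟩ := H S'
    let l₀ : S'.commSq.LiftStruct := hU.default
    have h1 : Spec.map (CommRingCat.ofHom (algebraMap S.R S.K)) ≫ l₀.l = S.i₁ ≫ pullback.fst f i :=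
      l₀.fac_left
    have h2 : l₀.l ≫ f = S.i₂ ≫ i := l₀.fac_right
    refine ⟨⟨⟨⟨pullback.lift l₀.l S.i₂ h2, ?_, ?_⟩⟩, ?_⟩⟩
    · apply pullback.hom_ext
      · rw [Category.assoc, pullback.lift_fst, h1]
      · rw [Category.assoc, pullback.lift_snd, S.commSq.w]
    · rw [pullback.lift_snd]
    · intro l
      have hl1 : Spec.map (CommRingCat.ofHom (algebraMap S.R S.K)) ≫ l.l = S.i₁ := l.fac_left
      have hl2 : l.l ≫ pullback.snd f i = S.i₂ := l.fac_right
      let l' : S'.commSq.LiftStruct :=
        ⟨l.l ≫ pullback.fst f i, by rw [← Category.assoc, hl1],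
          by rw [Category.assoc, pullback.condition, ← Category.assoc, hl2]⟩
      have : l' = l₀ := hU.uniq l'
      have h3 : l.l ≫ pullback.fst f i = l₀.l := congrArg CommSq.LiftStruct.l this
      apply CommSq.LiftStruct.ext
      change l.l = pullback.lift l₀.l S.i₂ h2
      apply pullback.hom_ext
      · rw [h3]; exact (pullback.lift_fst _ _ _).symm
      · rw [hl2]; exact (pullback.lift_snd _ _ _).symm
  · intro H S
    -- factor S.i₂ through i, using that Spec R is reduced
    have : IsIso (pullback.snd i S.i₂) := isIso_of_isClosedImmersion_of_surjective _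
    let j : Spec (.of S.R) ⟶ X₀ := inv (pullback.snd i S.i₂) ≫ pullback.fst i S.i₂
    have hj : j ≫ i = S.i₂ := by
      rw [Category.assoc, pullback.condition, ← Category.assoc, IsIso.inv_hom_id, Category.id_comp]
    have w : S.i₁ ≫ f = (Spec.map (CommRingCat.ofHom (algebraMap S.R S.K)) ≫ j) ≫ i := by
      rw [Category.assoc, hj, S.commSq.w]
    let S' : ValuativeCommSq (pullback.snd f i) :=
      { R := S.R, K := S.K, i₁ := pullback.lift S.i₁ _ w, i₂ := j,
        commSq := ⟨by rw [pullback.lift_snd]⟩ }
    obtain ⟨hU⟩ := H S'
    let l₀ : S'.commSq.LiftStruct := hU.default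
    have h1 : Spec.map (CommRingCat.ofHom (algebraMap S.R S.K)) ≫ l₀.l = pullback.lift S.i₁ _ w :=
      l₀.fac_left
    have h2 : l₀.l ≫ pullback.snd f i = j := l₀.fac_right
    refine ⟨⟨⟨⟨l₀.l ≫ pullback.fst f i, ?_, ?_⟩⟩, ?_⟩⟩
    · rw [← Category.assoc, h1, pullback.lift_fst]
    · rw [Category.assoc, pullback.condition, ← Category.assoc, h2, hj]
    · intro l
      have hl1 : Spec.map (CommRingCat.ofHom (algebraMap S.R S.K)) ≫ l.l = S.i₁ := l.fac_left
      have hl2 : l.l ≫ f = S.i₂ := l.fac_right
      let l' : S'.commSq.LiftStruct :=
        ⟨pullback.lift l.l j (by rw [hl2, hj]), by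
          apply pullback.hom_ext
          · rw [Category.assoc, pullback.lift_fst, hl1]; exact (pullback.lift_fst _ _ _).symm
          · rw [Category.assoc, pullback.lift_snd]; exact (pullback.lift_snd _ _ _).symm,
          by rw [pullback.lift_snd]⟩
      have : l' = l₀ := hU.uniq l'
      have h3 : pullback.lift l.l j (by rw [hl2, hj]) = l₀.l := congrArg CommSq.LiftStruct.l this
      apply CommSq.LiftStruct.ext
      change l.l = l₀.l ≫ pullback.fst f i
      rw [← h3, pullback.lift_fst]

end Groth.Agent.S15833
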