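import Groth.Statements.S15835
import Mathlib
-- import your own Groth.Agent.* helpers here

set_option autoImplicit false
universe u
open SprIso

namespace Groth.Agent.S15835

/-- Over a commutative ring R of prime characteristic p, let n ≥ 1 and let p^m be the largest power of p
dividing n. The locus of n × n matrices with characteristic polynomial t^n is stable under adding a
scalar matrix a·1 with n·a = 0 exactly when a^(p^m) = 0: for X with characteristic polynomial t^n
and such an a, the matrix X + a·1 has characteristic polynomial t^n if and only if a^(p^m) = 0.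
(Stated on points with values in an arbitrary ring of characteristic p; the scheme-theoretic
assertion about the nilpotent scheme of SL_n is this statement for all such rings.) -/
theorem result (p : ℕ) [Fact p.Prime] (R : Type u) [CommRing R]
    [CharP R p] (n : ℕ) (hn : 0 < n) (X : Matrix (Fin n) (Fin n) R) (hX : X.charpoly = Polynomial.X ^ n)
    (a : R) (ha : (n : R) * a = 0) :
    (X + Matrix.scalar (Fin n) a).charpoly = Polynomial.X ^ n ↔ a ^ (p ^ padicValNat p n) = 0 := by
  have hp : p.Prime := Fact.out
  have h1 : (X + Matrix.scalar (Fin n) a).charpoly = (Polynomial.X - Polynomial.C a) ^ n := by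
    have := Matrix.charpoly_sub_scalar X (-a)
    rw [map_neg, sub_neg_eq_add] at this
    rw [this, hX]
    simp [sub_eq_add_neg]
  rw [h1]
  obtain ⟨n', hn'⟩ : p ^ padicValNat p n ∣ n := pow_padicValNat_dvd
  have hn'p : ¬ p ∣ n' := by
    intro hdvd
    have : p ^ (padicValNat p n + 1) ∣ n := by
      rw [pow_succ]; conv_rhs => rw [hn']
      exact Nat.mul_dvd_mul_left _ hdvd
    exact pow_succ_padicValNat_not_dvd hn.ne' this
  have hunit : IsUnit (n' : R) := (CharP.isUnit_natCast_iff hp).mpr hn'p
  set q := p ^ padicValNat p n with hq
  have hn'pos : 0 < n' := by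
    rcases Nat.eq_zero_or_pos n' with h | h
    · rw [h, mul_zero] at hn'; omega
    · exact h
  have h2 : (Polynomial.X - Polynomial.C a : Polynomial R) ^ n
      = (Polynomial.X ^ q - Polynomial.C (a ^ q)) ^ n' := by
    conv_lhs => rw [hn', pow_mul]
    rw [hq, sub_pow_char_pow, ← Polynomial.C_pow]
  rw [h2]
  constructor
  · intro h
    have h3 : (Polynomial.X ^ q - Polynomial.C (a ^ q) : Polynomial R) ^ n'
        = Polynomial.expand R q ((Polynomial.X + Polynomial.C (-(a ^ q))) ^ n') := by
      simp [sub_eq_add_neg]
    have h4 : (Polynomial.X : Polynomial R) ^ n = Polynomial.expand R q (Polynomial.X ^ n') := by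
      simp only [map_pow, Polynomial.expand_X]
      rw [← pow_mul, ← hn']
    rw [h3, h4] at h
    have hqpos : 0 < q := pow_pos hp.pos _
    have h5 := Polynomial.expand_injective hqpos h
    have h6 := congrArg (fun f => Polynomial.coeff f (n' - 1)) h5
    simp only [Polynomial.coeff_X_add_C_pow, Polynomial.coeff_X_pow] at h6
    have h7 : n' - (n' - 1) = 1 := by omega
    have h8 : n' - 1 ≠ n' := by omega
    have h9 : n'.choose (n' - 1) = n' := by
      rw [Nat.choose_symm (by omega), Nat.choose_one_right]
    rw [h9, h7, if_neg h8, pow_one, hunit.mul_left_eq_zero] at h6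
    simpa using h6
  · intro h
    rw [h, map_zero, sub_zero, ← pow_mul, ← hn']

end Groth.Agent.S15835
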