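import Groth.Statements.S15838
import Mathlib
-- import your own Groth.Agent.* helpers here

set_option autoImplicit false
universe u
open scoped TensorProduct
open SprIso

namespace Groth.Agent.S15838

/-- General linear group case: this is the case G = GL(V), to which the general case reduces along a
closed embedding. Let k be a perfect field and V a finite-dimensional k-vector space. If an
invertible endomorphism g of V has multiplicative Jordan decomposition g = t u (t semisimple, u
unipotent, t and u commuting), then the scheme-theoretic centralizer of g in GL(V) is the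
centralizer of u inside the centralizer of t: for every commutative k-algebra R, an R-linear
endomorphism h of R ⊗ V commutes with g_R if and only if it commutes with both t_R and u_R.
Likewise, if an endomorphism X of V has additive Jordan decomposition X = Y + N (Y semisimple, N
nilpotent, commuting), then h commutes with X_R if and only if it commutes with both Y_R and N_R. -/
theorem result (k : Type u) [Field k] [PerfectField k]
    (V : Type u) [AddCommGroup V] [Module k V] [FiniteDimensional k V]
    (R : Type u) [CommRing R] [Algebra k R] (h : Module.End R (R ⊗[k] V)) :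
    (∀ (g t u : Module.End k V), IsUnit g → t.IsSemisimple → IsNilpotent (u - 1) → Commute t u → g = t * u →
      (Commute h (g.baseChange R) ↔ Commute h (t.baseChange R) ∧ Commute h (u.baseChange R))) ∧
    (∀ (X Y N : Module.End k V), Y.IsSemisimple → IsNilpotent N → Commute Y N → X = Y + N →
      (Commute h (X.baseChange R) ↔ Commute h (Y.baseChange R) ∧ Commute h (N.baseChange R))) := by
  let φ : Module.End k V →ₐ[k] Module.End R (R ⊗[k] V) := Module.End.baseChangeHom k R V
  have hφ : ∀ f : Module.End k V, φ f = f.baseChange R := fun f => rfl
  -- polynomial expressions in `a` commute with everything commuting with `a`, after base change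
  have key : ∀ a f : Module.End k V, f ∈ Algebra.adjoin k {a} →
      Commute h (a.baseChange R) → Commute h (f.baseChange R) := by
    intro a f hf hc
    have h1 : φ f ∈ (Algebra.adjoin k {a}).map φ := ⟨f, hf, rfl⟩
    rw [AlgHom.map_adjoin_singleton] at h1
    exact Algebra.commute_of_mem_adjoin_singleton_of_commute h1 hc
  -- both parts of an additive Jordan decomposition are polynomials in the endomorphism
  have add_part : ∀ (X Y N : Module.End k V), Y.IsSemisimple → IsNilpotent N → Commute Y N →
      X = Y + N → Y ∈ Algebra.adjoin k {X} ∧ N ∈ Algebra.adjoin k {X} := by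
    intro X Y N hY hN hYN hX
    obtain ⟨n₀, hn₀, s₀, hs₀, hn₀_nil, hs₀_ss, h₀⟩ := X.exists_isNilpotent_isSemisimple
    have hc₀ : Commute n₀ s₀ :=
      Algebra.commute_of_mem_adjoin_singleton_of_commute hs₀
        (Algebra.commute_of_mem_adjoin_self hn₀).symm
    obtain ⟨h1, h2⟩ := Module.End.isNilpotent_isSemisimple_unique hN hY hn₀_nil hs₀_ss hYN.symm hc₀
      (by rw [add_comm, ← hX, h₀])
    subst h1 h2
    exact ⟨hs₀, hn₀⟩
  refine ⟨?_, ?_⟩
  · intro g t u hg ht hu htu hgtu
    have hdec : g = t + t * (u - 1) := by rw [hgtu]; noncomm_ring
    have hcomm : Commute t (t * (u - 1)) :=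
      (Commute.refl t).mul_right (htu.sub_right (Commute.one_right t))
    have hnil : IsNilpotent (t * (u - 1)) :=
      (htu.sub_right (Commute.one_right t)).isNilpotent_mul_left hu
    obtain ⟨ht_mem, -⟩ := add_part g t (t * (u - 1)) ht hnil hcomm hdec
    have hgR : g.baseChange R = t.baseChange R * u.baseChange R := by
      rw [hgtu, LinearMap.baseChange_mul]
    -- t is a unit, hence so is its base change
    have htunit : IsUnit t := by
      obtain ⟨g', hg'⟩ := hg
      refine ⟨⟨t, u * (g'⁻¹ : (Module.End k V)ˣ), ?_, ?_⟩, rfl⟩
      · rw [← mul_assoc, ← hgtu, ← hg', Units.mul_inv]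
      · have h2 : (g'⁻¹ : (Module.End k V)ˣ) * t * u = (1 : Module.End k V) := by
          rw [mul_assoc, ← hgtu, ← hg', Units.inv_mul]
        have hcu : Commute u ((g'⁻¹ : (Module.End k V)ˣ) : Module.End k V) := by
          have : Commute u g := by rw [hgtu]; exact (htu.symm).mul_right (Commute.refl u)
          rw [← hg'] at this
          exact this.units_inv_right
        rw [hcu.eq, mul_assoc, htu.symm.eq, ← mul_assoc]
        exact h2
    have htRunit : IsUnit (t.baseChange R) := by
      have := htunit.map φ
      rwa [hφ] at this
    constructor
    · intro hc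
      have hct : Commute h (t.baseChange R) := key g t ht_mem hc
      refine ⟨hct, ?_⟩
      rw [hgR] at hc
      -- h * (tR * uR) = (tR * uR) * h, and h * tR = tR * h
      have h3 : t.baseChange R * (h * u.baseChange R) = t.baseChange R * (u.baseChange R * h) := by
        rw [← mul_assoc, ← hct.eq, mul_assoc]
        rw [← mul_assoc (t.baseChange R)]
        exact hc.eq
      exact htRunit.mul_left_cancel h3
    · rintro ⟨hct, hcu⟩
      rw [hgR]
      exact hct.mul_right hcu
  · intro X Y N hY hN hYN hX
    obtain ⟨hYm, hNm⟩ := add_part X Y N hY hN hYN hX
    constructor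
    · intro hc
      exact ⟨key X Y hYm hc, key X N hNm hc⟩
    · rintro ⟨hcY, hcN⟩
      rw [hX, LinearMap.baseChange_add]
      exact hcY.add_right hcN

end Groth.Agent.S15838
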