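import Groth.Statements.S15839
import Groth.Agent.Lib.Helper7.LfpOfComp

set_option autoImplicit false
universe u
open CategoryTheory MonoidalCategory CartesianMonoidalCategory MonObj GrpObj AlgebraicGeometry
open SprIso

namespace Groth.Agent.S15839

/-- Let S be a scheme, G an S-group scheme which is affine and of finite presentation over S, and g a
section of G over S. Then the centralizer of g — the subfunctor of G whose points with values in an
S-scheme T are the points x of G with x g_T = g_T x — is represented by a closed subscheme of G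
whose inclusion is of finite presentation. -/
theorem result (S : Scheme.{u}) (G : Over S) [GrpObj G]
    [IsAffineHom G.hom] [LocallyOfFinitePresentation G.hom] (g : 𝟙_ (Over S) ⟶ G) :
    ∃ (Z : Over S) (j : Z ⟶ G), IsClosedImmersion j.left ∧ LocallyOfFinitePresentation j.left ∧
      ∀ (T : Over S) (x : T ⟶ G), (∃ z : T ⟶ Z, z ≫ j = x) ↔
        x * (toUnit T ≫ g) = (toUnit T ≫ g) * x := by
  let a : G ⟶ G := 𝟙 G * (toUnit G ≫ g)
  let b : G ⟶ G := (toUnit G ≫ g) * 𝟙 G
  have : IsSeparated G.hom := inferInstance
  have : LocallyOfFiniteType G.hom := inferInstance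
  refine ⟨Limits.equalizer a b, Limits.equalizer.ι a b, inferInstance,
    Groth.Agent.Lib.helper7.locallyOfFinitePresentation_equalizer_ι_left a b, ?_⟩
  intro T x
  have ha : x ≫ a = x * (toUnit T ≫ g) := by
    simp only [a, MonObj.comp_mul, Category.comp_id]
    rw [← Category.assoc, toUnit_unique (x ≫ toUnit G) (toUnit T)]
  have hb : x ≫ b = (toUnit T ≫ g) * x := by
    simp only [b, MonObj.comp_mul, Category.comp_id]
    rw [← Category.assoc, toUnit_unique (x ≫ toUnit G) (toUnit T)]
  rw [← ha, ← hb]
  constructor
  · rintro ⟨z, rfl⟩
    rw [Category.assoc, Category.assoc, Limits.equalizer.condition]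
  · intro h
    exact ⟨Limits.equalizer.lift x h, Limits.equalizer.lift_ι _ _⟩

end Groth.Agent.S15839
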