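import Groth.Statements.S15840
import Mathlib
-- import your own Groth.Agent.* helpers here

set_option autoImplicit false
universe u
open SprIso

namespace Groth.Agent.S15840

/-- For G = SL_n (n = r + 1) over a field of characteristic p > 0, write n = m p^e with m prime to p, so
that the identity component of the centre of G is μ_{p^e} embedded diagonally. The character of the
i-th exterior power of the standard representation takes the value C(n, i) α^i at a point α of
μ_{p^e}, and this is constant: for every commutative ring R of characteristic p and every α in R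
with α^(p^e) = 1 one has C(n, i) α^i = C(n, i) in R, for all i. -/
theorem result (p : ℕ) [Fact p.Prime] (R : Type u) [CommRing R]
    [CharP R p] (n : ℕ) (hn : 0 < n) (α : R) (hα : α ^ (p ^ padicValNat p n) = 1) (i : ℕ) :
    (n.choose i : R) * α ^ i = (n.choose i : R) := by
  have hp : p.Prime := Fact.out
  by_cases hqi : p ^ padicValNat p n ∣ i
  · obtain ⟨j, rfl⟩ := hqi
    rw [pow_mul, hα, one_pow, mul_one]
  · -- show p ∣ n.choose i
    suffices h : p ∣ n.choose i by
      have : (n.choose i : R) = 0 := (CharP.cast_eq_zero_iff R p _).mpr h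
      rw [this, zero_mul]
    rcases Nat.lt_or_ge n i with hlt | hle
    · rw [Nat.choose_eq_zero_of_lt hlt]; exact dvd_zero _
    have hi0 : i ≠ 0 := by
      rintro rfl
      exact hqi (dvd_zero _)
    have hC0 : n.choose i ≠ 0 := (Nat.choose_pos hle).ne'
    obtain ⟨m, rfl⟩ : ∃ m, n = m + 1 := ⟨n - 1, by omega⟩
    obtain ⟨j, rfl⟩ : ∃ j, i = j + 1 := ⟨i - 1, by omega⟩
    have key := Nat.add_one_mul_choose_eq m j
    -- (m+1) * m.choose j = (m+1).choose (j+1) * (j+1)
    have hdvd : p ^ padicValNat p (m+1) ∣ (m + 1).choose (j + 1) * (j + 1) := by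
      rw [← key]
      exact Dvd.dvd.mul_right pow_padicValNat_dvd _
    have hlt : padicValNat p (j + 1) < padicValNat p (m + 1) := by
      by_contra hcon
      push Not at hcon
      exact hqi ((pow_dvd_pow p hcon).trans pow_padicValNat_dvd)
    have h1 : padicValNat p (m+1) ≤ padicValNat p ((m + 1).choose (j + 1) * (j + 1)) := by
      rwa [padicValNat_dvd_iff_le (mul_ne_zero hC0 hi0)] at hdvd
    rw [padicValNat.mul hC0 hi0] at h1
    have h2 : 1 ≤ padicValNat p ((m + 1).choose (j + 1)) := by omega
    exact dvd_of_one_le_padicValNat h2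

end Groth.Agent.S15840
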