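import Groth.Statements.S15841
-- import your own Groth.Agent.* helpers here

set_option autoImplicit false
universe u
open scoped TensorProduct
open SprIso

namespace Groth.Agent.S15841

/-- For a connected reductive group G with maximal torus T whose derived group is simply connected, and
a Coxeter element w (the product of the simple reflections, each once, in any order), an element of
Lie T = k ⊗ X_*(T) fixed by Ad(w) is killed by the differential of every simple root, i.e. lies in
the centre of Lie G. In root-datum form: let P be a root pairing over ℤ with character lattice M and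
cocharacter lattice N, b a base, and suppose each simple coroot has a dual character ω_i in M with
⟨ω_i, α_i^∨⟩ = 1 and ⟨ω_i, α_j^∨⟩ = 0 for every other simple j (the simply connected derived group
hypothesis). If l lists the simple roots without repetition, w^∨ is the composite of the
coreflections along l acting on N, k is a field and H in k ⊗ N satisfies w^∨_k H = H, then (α_i)_k H
= 0 for every simple root α_i, where (α_i)_k is the base change to k of the functional ⟨α_i, −⟩ on
N. (Stated for an arbitrary field k; the published setting is an algebraically closed field, and the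
argument does not depend on k.) -/
theorem result {ι M N : Type u} [AddCommGroup M] [AddCommGroup N]
    (P : RootPairing ι ℤ M N) (b : P.Base)
    (hsc : ∀ i ∈ b.support, ∃ ω : M, P.coroot' i ω = 1 ∧ ∀ j ∈ b.support, j ≠ i → P.coroot' j ω = 0)
    (l : List ι) (hl : l.Nodup) (hlb : ∀ i : ι, i ∈ l ↔ i ∈ b.support)
    (k : Type u) [Field k] (H : k ⊗[ℤ] N)
    (hH : ((l.map (fun i => ((P.coreflection i : N ≃ₗ[ℤ] N) : N →ₗ[ℤ] N))).prod).baseChange k H = H) :
    ∀ i ∈ b.support, (P.root' i).baseChange k H = 0 := by
  classical
  let r : k ⊗[ℤ] ℤ ≃ₗ[k] k := TensorProduct.AlgebraTensorModule.rid ℤ k k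
  let a : (N →ₗ[ℤ] ℤ) → (k ⊗[ℤ] N →ₗ[k] k) := fun φ => r.toLinearMap ∘ₗ φ.baseChange k
  let c : ι → k ⊗[ℤ] N := fun i => (1 : k) ⊗ₜ[ℤ] P.coroot i
  let s : ι → (N →ₗ[ℤ] N) := fun i => ((P.coreflection i : N ≃ₗ[ℤ] N) : N →ₗ[ℤ] N)
  have ha_tmul : ∀ (φ : N →ₗ[ℤ] ℤ) (x : k) (n : N), a φ (x ⊗ₜ n) = (φ n) • x := by
    intro φ x n
    simp [a, r]
  have hs : ∀ (i : ι) (x : k ⊗[ℤ] N), (s i).baseChange k x = x - a (P.root' i) x • c i := by
    intro i x
    induction x using TensorProduct.induction_on with
    | zero => simp
    | tmul y n =>
      rw [LinearMap.baseChange_tmul, ha_tmul]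
      simp only [s, c, LinearEquiv.coe_coe, P.coreflection_apply]
      rw [TensorProduct.tmul_sub, TensorProduct.tmul_smul, TensorProduct.smul_tmul',
        TensorProduct.smul_tmul', smul_eq_mul, mul_one]
    | add x y hx hy =>
      simp only [map_add, hx, hy, add_smul]
      abel
  have main : ∀ (l : List ι), l.Nodup → (∀ i ∈ l, i ∈ b.support) → ∀ H : k ⊗[ℤ] N,
      ((l.map s).prod).baseChange k H = H → ∀ i ∈ l, a (P.root' i) H = 0 := by
    intro l
    induction l with
    | nil =>
      intro _ _ _ _ i hi
      simp at hi
    | cons i l' ih =>
      intro hnd hsup H hH j hj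
      rw [List.map_cons, List.prod_cons, LinearMap.baseChange_mul, Module.End.mul_apply] at hH
      obtain ⟨ω, hω1, hω0⟩ := hsc i (hsup i List.mem_cons_self)
      have hinv : ∀ (l'' : List ι), (∀ j ∈ l'', j ∈ b.support ∧ j ≠ i) → ∀ x,
          a (P.toLinearMap ω) (((l''.map s).prod).baseChange k x) = a (P.toLinearMap ω) x := by
        intro l''
        induction l'' with
        | nil =>
          intro _ x
          simp [LinearMap.baseChange_one]
        | cons j l3 ih3 =>
          intro hj x
          rw [List.map_cons, List.prod_cons, LinearMap.baseChange_mul, Module.End.mul_apply, hs,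
            map_sub, map_smul, ih3 (fun j' hj' => hj j' (List.mem_cons_of_mem _ hj'))]
          have hjj := hj j List.mem_cons_self
          have : a (P.toLinearMap ω) (c j) = 0 := by
            rw [ha_tmul]
            have := hω0 j hjj.1 hjj.2
            simp only [LinearMap.flip_apply] at this
            rw [this, zero_smul]
          rw [this, smul_zero, sub_zero]
      have hl'i : ∀ j' ∈ l', j' ∈ b.support ∧ j' ≠ i := by
        intro j' hj'
        refine ⟨hsup j' (List.mem_cons_of_mem _ hj'), ?_⟩
        intro hji
        rw [hji] at hj'
        exact (List.nodup_cons.mp hnd).1 hj'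
      set H' := ((l'.map s).prod).baseChange k H with hH'
      have h1 := hinv l' hl'i H
      rw [← hH'] at h1
      rw [hs] at hH
      -- apply the functional ω to hH
      have h2 := congrArg (a (P.toLinearMap ω)) hH
      rw [map_sub, map_smul, h1] at h2
      have h3 : a (P.toLinearMap ω) (c i) = 1 := by
        rw [ha_tmul]
        simp only [LinearMap.flip_apply] at hω1
        rw [hω1, one_smul]
      rw [h3, smul_eq_mul, mul_one] at h2
      have h4 : a (P.root' i) H' = 0 := by
        have := sub_eq_self.mp h2
        exact this
      rw [h4, zero_smul, sub_zero] at hH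
      -- now H' = H
      rcases List.mem_cons.mp hj with rfl | hj'
      · rw [← hH]; exact h4
      · exact ih (List.nodup_cons.mp hnd).2 (fun j hj => hsup j (List.mem_cons_of_mem _ hj)) H
          (by rw [← hH']; exact hH) j hj'
  intro i hi
  have := main l hl (fun i hi => (hlb i).mp hi) H hH i ((hlb i).mpr hi)
  exact r.injective (by simpa [a] using this)

end Groth.Agent.S15841
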