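import Groth.Statements.S15842
import Mathlib

set_option autoImplicit false
universe u
open SprIso

namespace Groth.Agent.S15842

open Polynomial

section FieldCase

variable {K : Type u} [Field K]

theorem cyclic_of_pairwise_coprime {ι : Type u} [Fintype ι] (a : ι → K[X])
    (hco : ∀ i j, i ≠ j → IsCoprime (a i) (a j)) (z : ∀ l, K[X] ⧸ Ideal.span {a l}) :
    ∃ r : K[X], r • (1 : ∀ l, K[X] ⧸ Ideal.span {a l}) = z := by
  have hI : Pairwise (Function.onFun IsCoprime fun l => Ideal.span ({a l} : Set K[X])) := by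
    intro i j hij
    exact (Ideal.isCoprime_span_singleton_iff _ _).mpr (hco i j hij)
  obtain ⟨q, hq⟩ := Ideal.quotientInfToPiQuotient_surj hI z
  obtain ⟨r, rfl⟩ := Ideal.Quotient.mk_surjective q
  refine ⟨r, ?_⟩
  funext l
  have h1 := congrFun hq l
  rw [Ideal.quotientInfToPiQuotient_mk'] at h1
  rw [← h1, Pi.smul_apply, Pi.one_apply]
  exact (Algebra.algebraMap_eq_smul_one r).symm

theorem exists_extra_endo {ι : Type u} [Fintype ι] (a : ι → K[X]) (i j : ι)
    (hij : i ≠ j) (hj : a j ≠ 0) (hnc : ¬ IsCoprime (a i) (a j)) :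
    ∃ L : ((∀ l, K[X] ⧸ Ideal.span {a l}) × K) →ₗ[K]
        ((∀ l, K[X] ⧸ Ideal.span {a l}) →ₗ[K] (∀ l, K[X] ⧸ Ideal.span {a l})),
      Function.Injective L ∧ ∀ w z, L w ((X : K[X]) • z) = (X : K[X]) • L w z := by
  classical
  obtain ⟨d, hd⟩ : ∃ d, d = EuclideanDomain.gcd (a i) (a j) := ⟨_, rfl⟩
  obtain ⟨α, hα⟩ : d ∣ a i := hd ▸ EuclideanDomain.gcd_dvd_left _ _
  obtain ⟨β, hβ⟩ : d ∣ a j := hd ▸ EuclideanDomain.gcd_dvd_right _ _
  have hdu : ¬ IsUnit d := by
    rw [hd, EuclideanDomain.gcd_isUnit_iff]; exact hnc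
  have hβ0 : β ≠ 0 := by
    rintro rfl; exact hj (by rw [hβ, mul_zero])
  have hle : (Ideal.span {a i} : Ideal K[X]) ≤
      Submodule.comap (LinearMap.mulRight K[X] β) (Ideal.span {a j} : Ideal K[X]) := by
    intro r hr
    rw [Ideal.mem_span_singleton] at hr
    obtain ⟨s, rfl⟩ := hr
    rw [Submodule.mem_comap, LinearMap.mulRight_apply, Ideal.mem_span_singleton]
    exact ⟨α * s, by rw [hα, hβ]; ring⟩
  obtain ⟨φ, hφ⟩ : ∃ φ : (K[X] ⧸ Ideal.span {a i}) →ₗ[K[X]] (K[X] ⧸ Ideal.span {a j}),
      ∀ r : K[X], φ (Ideal.Quotient.mk _ r) = Ideal.Quotient.mk _ (r * β) :=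
    ⟨Submodule.mapQ _ _ (LinearMap.mulRight K[X] β) hle, fun r => rfl⟩
  have hφ1 : φ 1 ≠ 0 := by
    intro h0
    have h1 : φ (Ideal.Quotient.mk _ 1) = 0 := h0
    rw [hφ, one_mul, Ideal.Quotient.eq_zero_iff_mem, Ideal.mem_span_singleton] at h1
    obtain ⟨t, ht⟩ := h1
    apply hdu
    have h2 : β * (d * t) = β * 1 := by
      rw [mul_one]
      calc β * (d * t) = d * β * t := by ring
        _ = β := by rw [← hβ, ← ht]
    exact isUnit_iff_exists_inv.mpr ⟨t, mul_left_cancel₀ hβ0 h2⟩
  obtain ⟨h, hh⟩ : ∃ h : (∀ l, K[X] ⧸ Ideal.span {a l}) →ₗ[K[X]]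
      (∀ l, K[X] ⧸ Ideal.span {a l}), ∀ z, h z = Pi.single j (φ (z i)) :=
    ⟨(LinearMap.single K[X] (fun l => K[X] ⧸ Ideal.span {a l}) j).comp
      (φ.comp (LinearMap.proj i)), fun z => rfl⟩
  obtain ⟨L, hL⟩ : ∃ L : ((∀ l, K[X] ⧸ Ideal.span {a l}) × K) →ₗ[K]
        ((∀ l, K[X] ⧸ Ideal.span {a l}) →ₗ[K] (∀ l, K[X] ⧸ Ideal.span {a l})),
      ∀ (u : ∀ l, K[X] ⧸ Ideal.span {a l}) (c : K) (z : ∀ l, K[X] ⧸ Ideal.span {a l}),
        L (u, c) z = u * z + c • h z :=
    ⟨(LinearMap.mul K (∀ l, K[X] ⧸ Ideal.span {a l})).coprod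
      (LinearMap.toSpanSingleton K _ (h.restrictScalars K)), fun u c z => rfl⟩
  refine ⟨L, ?_, ?_⟩
  · rw [injective_iff_map_eq_zero]
    rintro ⟨u, c⟩ huc
    have e1 := LinearMap.congr_fun huc (Pi.single i 1)
    rw [hL, LinearMap.zero_apply] at e1
    have e1j := congrFun e1 j
    rw [Pi.add_apply, Pi.mul_apply, Pi.single_eq_of_ne hij.symm, mul_zero, zero_add,
      Pi.smul_apply, hh, Pi.single_eq_same, Pi.single_eq_same, Pi.zero_apply] at e1j
    have hc : c = 0 := by
      by_contra hc
      apply hφ1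
      rw [← inv_smul_smul₀ hc (φ 1), e1j, smul_zero]
    have e2 := LinearMap.congr_fun huc 1
    rw [hL, LinearMap.zero_apply, hc, zero_smul K (h 1), add_zero, mul_one] at e2
    rw [hc, e2]
    rfl
  · rintro ⟨u, c⟩ z
    rw [hL, hL, mul_smul_comm, map_smul, smul_comm c (X : K[X]) (h z), smul_add]

theorem exists_cyclic_vector (n : ℕ) (g : Matrix (Fin n) (Fin n) K)
    (hfin : Module.finrank K
      (Subalgebra.centralizer K ({g} : Set (Matrix (Fin n) (Fin n) K))) = n) :
    ∃ v : Fin n → K, ∀ u : Fin n → K, ∃ r : K[X], u = (Polynomial.aeval g r).mulVec v := by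
  classical
  obtain ⟨f, hf⟩ : ∃ f : Module.End K (Fin n → K), f = Matrix.toLinAlgEquiv' g := ⟨_, rfl⟩
  have haev : ∀ (r : K[X]) (w : Fin n → K),
      (Polynomial.aeval f r) w = (Polynomial.aeval g r).mulVec w := by
    intro r w
    rw [hf, Polynomial.aeval_algHom_apply, Matrix.toLinAlgEquiv'_apply]
  have htors : Module.IsTorsion K[X] (Module.AEval' f) :=
    Module.AEval.isTorsion_of_finiteDimensional K (Fin n → K) f
  obtain ⟨ι, _, p, hp, e, ⟨E⟩⟩ := Module.equiv_directSum_of_isTorsion htors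
  obtain ⟨E', -⟩ : ∃ E' : Module.AEval' f ≃ₗ[K[X]] (∀ l, K[X] ⧸ Ideal.span {p l ^ e l}), True :=
    ⟨E.trans (DirectSum.linearEquivFunOnFintype K[X] ι _), trivial⟩
  obtain ⟨T, hTr⟩ : ∃ T : (Fin n → K) ≃ₗ[K] (∀ l, K[X] ⧸ Ideal.span {p l ^ e l}),
      ∀ (r : K[X]) (w : Fin n → K), T (Polynomial.aeval f r w) = r • T w := by
    refine ⟨(Module.AEval'.of f).trans (E'.restrictScalars K), fun r w => ?_⟩
    show E' (Module.AEval'.of f (Polynomial.aeval f r w)) = r • E' (Module.AEval'.of f w)
    rw [← map_smul]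
    rfl
  have hT : ∀ w, T (f w) = (X : K[X]) • T w := by
    intro w
    have := hTr X w
    rwa [Polynomial.aeval_X] at this
  by_cases hco : ∀ i j, i ≠ j → IsCoprime (p i ^ e i) (p j ^ e j)
  · refine ⟨T.symm 1, fun u => ?_⟩
    obtain ⟨r, hr⟩ := cyclic_of_pairwise_coprime (fun l => p l ^ e l) hco (T u)
    refine ⟨r, ?_⟩
    rw [← haev]
    apply T.injective
    rw [hTr, LinearEquiv.apply_symm_apply, hr]
  · exfalso
    push_neg at hco
    obtain ⟨i, j, hij, hnc⟩ := hco
    obtain ⟨L, hLinj, hLX⟩ := exists_extra_endo (fun l => p l ^ e l) i j hij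
      (pow_ne_zero _ (hp j).ne_zero) hnc
    -- the K-linear map into matrices
    obtain ⟨Φ₀, hΦ₀⟩ : ∃ Φ₀ : ((∀ l, K[X] ⧸ Ideal.span {p l ^ e l}) × K) →ₗ[K]
        Matrix (Fin n) (Fin n) K,
        ∀ w, Φ₀ w = LinearMap.toMatrixAlgEquiv' (T.symm.conj (L w)) :=
      ⟨(LinearMap.toMatrixAlgEquiv' : _ ≃ₐ[K] Matrix (Fin n) (Fin n) K).toLinearMap.comp
        ((T.symm.conj : _ ≃ₗ[K] Module.End K (Fin n → K)).toLinearMap.comp L), fun w => rfl⟩
    have hΦinj : Function.Injective Φ₀ := by
      intro w w' hww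
      rw [hΦ₀, hΦ₀] at hww
      exact hLinj (T.symm.conj.injective (LinearMap.toMatrixAlgEquiv'.injective hww))
    have hcomm : ∀ w, (T.symm.conj (L w)) * f = f * (T.symm.conj (L w)) := by
      intro w
      apply LinearMap.ext
      intro y
      rw [Module.End.mul_apply, Module.End.mul_apply, LinearEquiv.conj_apply_apply,
        LinearEquiv.conj_apply_apply, LinearEquiv.symm_symm, hT, hLX]
      apply T.injective
      rw [hT, LinearEquiv.apply_symm_apply, LinearEquiv.apply_symm_apply]
    have hgf : g = LinearMap.toMatrixAlgEquiv' f := by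
      rw [hf, LinearMap.toMatrixAlgEquiv'_toLinAlgEquiv']
    have hmem : ∀ w, Φ₀ w ∈ Subalgebra.toSubmodule
        (Subalgebra.centralizer K ({g} : Set (Matrix (Fin n) (Fin n) K))) := by
      intro w
      rw [Subalgebra.mem_toSubmodule, Subalgebra.mem_centralizer_iff]
      intro g' hg'
      rw [Set.mem_singleton_iff.mp hg', hΦ₀, hgf, ← map_mul, ← map_mul, hcomm]
    have hle := LinearMap.finrank_le_finrank_of_injective
      (f := LinearMap.codRestrict _ Φ₀ hmem)
      (fun w w' hww => hΦinj (congrArg Subtype.val hww))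
    haveI : Module.Finite K (∀ l, K[X] ⧸ Ideal.span {p l ^ e l}) := Module.Finite.equiv T
    rw [Subalgebra.finrank_toSubmodule, hfin, Module.finrank_prod, Module.finrank_self,
      ← LinearEquiv.finrank_eq T, Module.finrank_fin_fun] at hle
    omega

end FieldCase

theorem comm_of_local (B' : Type u) [CommRing B'] [IsLocalRing B'] (n : ℕ)
    (G : Matrix (Fin n) (Fin n) B')
    (hG : Module.finrank (IsLocalRing.ResidueField B')
      (Subalgebra.centralizer (IsLocalRing.ResidueField B')
        ({G.map (IsLocalRing.residue B')} :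
          Set (Matrix (Fin n) (Fin n) (IsLocalRing.ResidueField B')))) = n)
    (x y : Matrix (Fin n) (Fin n) B') (hx : x * G = G * x) (hy : y * G = G * y) :
    x * y = y * x := by
  classical
  obtain ⟨vb, hcyc⟩ := exists_cyclic_vector n (G.map (IsLocalRing.residue B')) hG
  have hsurj : Function.Surjective (IsLocalRing.residue B') := IsLocalRing.residue_surjective
  choose v hv using fun r => hsurj (vb r)
  obtain ⟨ρ, hρ⟩ : ∃ ρ : B'[X] →ₗ[B'] (Fin n → B'),
      ∀ q, ρ q = (Polynomial.aeval G q).mulVec v :=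
    ⟨(LinearMap.applyₗ v).comp
      ((Matrix.toLin' : Matrix (Fin n) (Fin n) B' ≃ₗ[B'] _).toLinearMap.comp
        (Polynomial.aeval G).toLinearMap), fun q => rfl⟩
  have hmapG : ∀ r : B'[X], (Polynomial.aeval G r).map (IsLocalRing.residue B') =
      Polynomial.aeval (G.map (IsLocalRing.residue B')) (r.map (IsLocalRing.residue B')) := by
    intro r
    have hcomp : (algebraMap (IsLocalRing.ResidueField B')
        (Matrix (Fin n) (Fin n) (IsLocalRing.ResidueField B'))).comp (IsLocalRing.residue B') =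
        (IsLocalRing.residue B').mapMatrix.comp
          (algebraMap B' (Matrix (Fin n) (Fin n) B')) := by
      ext c i j
      simp only [RingHom.comp_apply, Matrix.algebraMap_matrix_apply, RingHom.mapMatrix_apply,
        Matrix.map_apply]
      split_ifs <;> simp
    have := Polynomial.map_aeval_eq_aeval_map hcomp r G
    rwa [RingHom.mapMatrix_apply, RingHom.mapMatrix_apply] at this
  have hNak : (⊤ : Submodule B' (Fin n → B')) ≤
      LinearMap.range ρ ⊔ (IsLocalRing.maximalIdeal B') • (⊤ : Submodule B' (Fin n → B')) := by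
    intro u _
    obtain ⟨rb, hrb⟩ := hcyc (fun s => IsLocalRing.residue B' (u s))
    obtain ⟨r, rfl⟩ := Polynomial.map_surjective (IsLocalRing.residue B') hsurj rb
    have hdiff : ∀ s, (u - ρ r) s ∈ IsLocalRing.maximalIdeal B' := by
      intro s
      rw [← IsLocalRing.residue_eq_zero_iff, Pi.sub_apply, map_sub, hρ, sub_eq_zero]
      have h1 := congrFun hrb s
      have h3 : (IsLocalRing.residue B') ∘ v = vb := funext hv
      rw [h1, RingHom.map_mulVec, hmapG, h3]
    have hsum : (∑ s, (u - ρ r) s • fun j => if s = j then (1 : B') else 0) ∈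
        (IsLocalRing.maximalIdeal B') • (⊤ : Submodule B' (Fin n → B')) :=
      Submodule.sum_mem _ fun s _ => Submodule.smul_mem_smul (hdiff s) Submodule.mem_top
    rw [← pi_eq_sum_univ] at hsum
    have hu : u = ρ r + (u - ρ r) := by abel
    rw [hu]
    exact Submodule.add_mem_sup (LinearMap.mem_range_self ρ r) hsum
  have hN : (⊤ : Submodule B' (Fin n → B')) ≤ LinearMap.range ρ :=
    Submodule.le_of_le_smul_of_le_jacobson_bot Module.Finite.fg_top
      (IsLocalRing.maximalIdeal_le_jacobson _) hNak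
  have hcycB : ∀ u : Fin n → B', ∃ q : B'[X], u = (Polynomial.aeval G q).mulVec v := by
    intro u
    obtain ⟨q, hq⟩ := hN (Submodule.mem_top : u ∈ ⊤)
    exact ⟨q, by rw [← hρ, hq]⟩
  have hpoly : ∀ z : Matrix (Fin n) (Fin n) B', z * G = G * z →
      ∃ q : B'[X], z = Polynomial.aeval G q := by
    intro z hz
    obtain ⟨q, hq⟩ := hcycB (z.mulVec v)
    refine ⟨q, ?_⟩
    apply Matrix.mulVec_injective
    funext u
    obtain ⟨s, rfl⟩ := hcycB u
    have hzc : z ∈ Subalgebra.centralizer B' ({G} : Set (Matrix (Fin n) (Fin n) B')) := by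
      rw [Subalgebra.mem_centralizer_iff]
      intro g' hg'
      rw [Set.mem_singleton_iff.mp hg']
      exact hz.symm
    have h1 : Polynomial.aeval G s ∈ Subalgebra.centralizer B'
        (Subalgebra.centralizer B' ({G} : Set (Matrix (Fin n) (Fin n) B')) :
          Set (Matrix (Fin n) (Fin n) B')) :=
      Algebra.adjoin_le_centralizer_centralizer B' _ (Polynomial.aeval_mem_adjoin_singleton B' G)
    have hcomm : z * Polynomial.aeval G s = Polynomial.aeval G s * z :=
      (Subalgebra.mem_centralizer_iff B').mp h1 z hzc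
    rw [Matrix.mulVec_mulVec, Matrix.mulVec_mulVec, hcomm, ← Matrix.mulVec_mulVec, hq,
      Matrix.mulVec_mulVec, ← map_mul, mul_comm s q, map_mul]
  obtain ⟨q₁, rfl⟩ := hpoly x hx
  obtain ⟨q₂, rfl⟩ := hpoly y hy
  rw [← map_mul, ← map_mul, mul_comm]



/-- General linear group case: this is the case G = GL_n (its derived group SL_n is simply connected and
every prime is good for it, so the hypotheses on the fundamental group and on the characteristic
that the general statement needs hold over every base, and strong regularity is regularity). Let A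
be a commutative ring and g an n × n matrix over A — a section of GL_n when invertible, or of its
Lie algebra gl_n = M_n in general, the centralizer being in both cases the invertible matrices
commuting with g — which is fiberwise regular, i.e. at every field-valued point A → K the commutant
of g_K in M_n(K) has dimension n, the rank of GL_n. Then the centralizer of g in GL_n is
commutative: for every commutative A-algebra B and all invertible x, y ∈ M_n(B) commuting with g_B,
x y = y x. -/
theorem result (A : Type u) [CommRing A] (n : ℕ)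
    (g : Matrix (Fin n) (Fin n) A)
    (hreg : ∀ (K : Type u) [Field K] (φ : A →+* K),
      Module.finrank K (Subalgebra.centralizer K ({g.map φ} : Set (Matrix (Fin n) (Fin n) K))) = n)
    (B : Type u) [CommRing B] [Algebra A B] (x y : Matrix (Fin n) (Fin n) B) (hx : IsUnit x) (hy : IsUnit y)
    (hxg : x * g.map (algebraMap A B) = g.map (algebraMap A B) * x)
    (hyg : y * g.map (algebraMap A B) = g.map (algebraMap A B) * y) :
    x * y = y * x := by
  ext r s
  apply eq_of_sub_eq_zero
  apply eq_zero_of_localization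
  intro J hJ
  haveI := hJ
  obtain ⟨ψ, hψ⟩ : ∃ ψ : B →+* Localization.AtPrime J,
      ψ = algebraMap B (Localization.AtPrime J) := ⟨_, rfl⟩
  rw [← hψ, map_sub, sub_eq_zero]
  have hfin : Module.finrank (IsLocalRing.ResidueField (Localization.AtPrime J))
      (Subalgebra.centralizer (IsLocalRing.ResidueField (Localization.AtPrime J))
        ({((g.map (algebraMap A B)).map ψ).map (IsLocalRing.residue (Localization.AtPrime J))} :
          Set (Matrix (Fin n) (Fin n)
            (IsLocalRing.ResidueField (Localization.AtPrime J))))) = n := by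
    have := hreg (IsLocalRing.ResidueField (Localization.AtPrime J))
      ((IsLocalRing.residue (Localization.AtPrime J)).comp (ψ.comp (algebraMap A B)))
    rw [Matrix.map_map, Matrix.map_map]
    exact this
  have hxy := comm_of_local (Localization.AtPrime J) n ((g.map (algebraMap A B)).map ψ) hfin
    (x.map ψ) (y.map ψ)
    (by rw [← Matrix.map_mul, ← Matrix.map_mul, hxg])
    (by rw [← Matrix.map_mul, ← Matrix.map_mul, hyg])
  have h1 : ψ ((x * y) r s) = ((x.map ψ) * (y.map ψ)) r s := by
    rw [← Matrix.map_mul]; rfl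
  have h2 : ψ ((y * x) r s) = ((y.map ψ) * (x.map ψ)) r s := by
    rw [← Matrix.map_mul]; rfl
  rw [h1, h2, hxy]


end Groth.Agent.S15842
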