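import Groth.Statements.S15843
import Mathlib
import Groth.Agent.S15842

set_option autoImplicit false
universe u
open SprIso

namespace Groth.Agent.S15843

open Matrix in
theorem colsum {B : Type u} [CommRing B] {n : ℕ} (G V : Matrix (Fin n) (Fin n) B) (v : Fin n → B)
    (hV : ∀ i k, V i k = ((G ^ (k : ℕ)) *ᵥ v) i) (c : Fin n → B) :
    V *ᵥ c = (∑ k : Fin n, c k • G ^ (k : ℕ)) *ᵥ v := by
  funext i
  have hL : ∀ k : Fin n, V i k * c k = ∑ j, c k * (G ^ (k : ℕ)) i j * v j := fun k => by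
    rw [hV]
    show (∑ j, (G ^ (k : ℕ)) i j * v j) * c k = _
    rw [Finset.sum_mul]
    refine Finset.sum_congr rfl fun j _ => ?_
    ring
  have hR : ∀ j : Fin n, (∑ k : Fin n, c k • G ^ (k : ℕ)) i j * v j =
      ∑ k : Fin n, c k * (G ^ (k : ℕ)) i j * v j := fun j => by
    rw [Matrix.sum_apply, Finset.sum_mul]
    refine Finset.sum_congr rfl fun k _ => ?_
    rw [Matrix.smul_apply, smul_eq_mul]
  show ∑ k, V i k * c k = ∑ j, (∑ k : Fin n, c k • G ^ (k : ℕ)) i j * v j
  rw [Finset.sum_congr rfl (fun k _ => hL k), Finset.sum_congr rfl (fun j _ => hR j),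
    Finset.sum_comm]

open Matrix in
theorem cyc {B : Type u} [CommRing B] {n : ℕ} (G X V W : Matrix (Fin n) (Fin n) B)
    (v : Fin n → B) (hV : ∀ i k, V i k = ((G ^ (k : ℕ)) *ᵥ v) i) (hVW : V * W = 1)
    (hX : X * G = G * X) :
    X = ∑ k : Fin n, (W *ᵥ (X *ᵥ v)) k • G ^ (k : ℕ) := by
  classical
  obtain ⟨Z, hZ⟩ : ∃ Z : (Fin n → B) → Matrix (Fin n) (Fin n) B,
      ∀ c, Z c = ∑ k : Fin n, c k • G ^ (k : ℕ) := ⟨_, fun _ => rfl⟩
  have h1 : ∀ c : Fin n → B, V *ᵥ c = (Z c) *ᵥ v := fun c => by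
    rw [hZ]; exact colsum G V v hV c
  have h2 : ∀ (Y : Matrix (Fin n) (Fin n) B), Y * G = G * Y → ∀ c, Y * Z c = Z c * Y := by
    intro Y hY c
    rw [hZ, Finset.mul_sum, Finset.sum_mul]
    refine Finset.sum_congr rfl fun k _ => ?_
    rw [Matrix.mul_smul, Matrix.smul_mul]
    congr 1
    exact (Commute.pow_right hY (k : ℕ)).eq
  obtain ⟨c0, hc0⟩ : ∃ c0, c0 = W *ᵥ (X *ᵥ v) := ⟨_, rfl⟩
  rw [← hc0, ← hZ]
  have h3 : (Z c0) *ᵥ v = X *ᵥ v := by
    rw [← h1, hc0, Matrix.mulVec_mulVec, hVW, Matrix.one_mulVec]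
  have hZG : Z c0 * G = G * Z c0 := (h2 G rfl c0).symm
  have h4 : ∀ w, X *ᵥ w = (Z c0) *ᵥ w := by
    intro w
    obtain ⟨d, hd⟩ : ∃ d, d = W *ᵥ w := ⟨_, rfl⟩
    have hw : w = (Z d) *ᵥ v := by
      rw [← h1, hd, Matrix.mulVec_mulVec, hVW, Matrix.one_mulVec]
    calc X *ᵥ w = X *ᵥ ((Z d) *ᵥ v) := by rw [← hw]
      _ = (X * Z d) *ᵥ v := by rw [Matrix.mulVec_mulVec]
      _ = (Z d * X) *ᵥ v := by rw [h2 X hX]
      _ = (Z d) *ᵥ (X *ᵥ v) := by rw [Matrix.mulVec_mulVec]
      _ = (Z d) *ᵥ ((Z c0) *ᵥ v) := by rw [h3]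
      _ = (Z d * Z c0) *ᵥ v := by rw [Matrix.mulVec_mulVec]
      _ = (Z c0 * Z d) *ᵥ v := by rw [h2 (Z c0) hZG]
      _ = (Z c0) *ᵥ ((Z d) *ᵥ v) := by rw [Matrix.mulVec_mulVec]
      _ = (Z c0) *ᵥ w := by rw [← hw]
  exact Matrix.mulVec_injective (funext h4)

open Matrix in
theorem map_krylov {A B : Type u} [CommRing A] [CommRing B] (f : A →+* B) {n : ℕ}
    (g : Matrix (Fin n) (Fin n) A) (v : Fin n → A) :
    (Matrix.of fun i k : Fin n => ((g ^ (k : ℕ)) *ᵥ v) i).map f =
      Matrix.of fun i k : Fin n => (((g.map f) ^ (k : ℕ)) *ᵥ (fun j => f (v j))) i := by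
  ext i k
  rw [Matrix.map_apply, Matrix.of_apply, Matrix.of_apply, RingHom.map_mulVec]
  show ((f.mapMatrix (g ^ (k : ℕ))) *ᵥ (fun j => f (v j))) i = _
  rw [map_pow]
  rfl

open Polynomial Matrix in
theorem exists_vec {K : Type u} [Field K] (n : ℕ) (g : Matrix (Fin n) (Fin n) K)
    (hfin : Module.finrank K
      (Subalgebra.centralizer K ({g} : Set (Matrix (Fin n) (Fin n) K))) = n) :
    ∃ v : Fin n → K, (Matrix.of fun i k : Fin n => ((g ^ (k : ℕ)) *ᵥ v) i).det ≠ 0 := by
  classical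
  obtain ⟨v, hv⟩ := Groth.Agent.S15842.exists_cyclic_vector n g hfin
  refine ⟨v, ?_⟩
  obtain ⟨V, hV⟩ : ∃ V : Matrix (Fin n) (Fin n) K,
      V = Matrix.of fun i k : Fin n => ((g ^ (k : ℕ)) *ᵥ v) i := ⟨_, rfl⟩
  rw [← hV]
  have hVik : ∀ i k, V i k = ((g ^ (k : ℕ)) *ᵥ v) i := fun i k => by rw [hV]; rfl
  have hsurj : Function.Surjective V.mulVec := by
    intro u
    rcases Nat.eq_zero_or_pos n with hn | hn
    · subst hn
      exact ⟨0, Subsingleton.elim _ _⟩
    obtain ⟨r, hr⟩ := hv u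
    have hmon : g.charpoly.Monic := Matrix.charpoly_monic g
    have hdeg : g.charpoly.natDegree = n := by
      rw [Matrix.charpoly_natDegree_eq_dim, Fintype.card_fin]
    have hne1 : g.charpoly ≠ 1 := by
      intro h
      rw [h, Polynomial.natDegree_one] at hdeg
      omega
    obtain ⟨r', hr'⟩ : ∃ r' : K[X], r' = r %ₘ g.charpoly := ⟨_, rfl⟩
    have hr'deg : r'.natDegree < n := by
      rw [hr']
      have := Polynomial.natDegree_modByMonic_lt r hmon hne1
      rw [hdeg] at this
      exact this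
    have haev : Polynomial.aeval g r = Polynomial.aeval g r' := by
      have h1 : Polynomial.aeval g r =
          Polynomial.aeval g (r %ₘ g.charpoly + g.charpoly * (r /ₘ g.charpoly)) := by
        rw [Polynomial.modByMonic_add_div]
      rw [h1, map_add, map_mul, Matrix.aeval_self_charpoly, zero_mul, add_zero, hr']
    have hsum : Polynomial.aeval g r' = ∑ k : Fin n, r'.coeff (k : ℕ) • g ^ (k : ℕ) := by
      conv_lhs => rw [Polynomial.as_sum_range' r' n hr'deg]
      rw [map_sum, Finset.sum_range]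
      refine Finset.sum_congr rfl fun k _ => ?_
      rw [Polynomial.aeval_monomial, ← Algebra.smul_def]
    refine ⟨fun k : Fin n => r'.coeff (k : ℕ), ?_⟩
    rw [hr, haev, hsum]
    exact colsum g V v hVik _
  have hunit : IsUnit V := (Matrix.mulVec_surjective_iff_isUnit).mp hsurj
  exact ((Matrix.isUnit_iff_isUnit_det V).mp hunit).ne_zero

noncomputable abbrev commIdeal (A : Type u) [CommRing A] (n : ℕ)
    (g : Matrix (Fin n) (Fin n) A) : Ideal (MvPolynomial (Fin n × Fin n) A) :=
  Ideal.span (Set.range fun ij : Fin n × Fin n =>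
    (Matrix.mvPolynomialX (Fin n) (Fin n) A * g.map MvPolynomial.C -
      g.map MvPolynomial.C * Matrix.mvPolynomialX (Fin n) (Fin n) A :
        Matrix (Fin n) (Fin n) (MvPolynomial (Fin n × Fin n) A)) ij.1 ij.2)

abbrev QQ (A : Type u) [CommRing A] (n : ℕ) (g : Matrix (Fin n) (Fin n) A) : Type u :=
  MvPolynomial (Fin n × Fin n) A ⧸ commIdeal A n g

abbrev QL (A : Type u) [CommRing A] (n : ℕ) (g : Matrix (Fin n) (Fin n) A)
    (P : Ideal A) [P.IsPrime] : Type u :=
  Localization (Algebra.algebraMapSubmonoid (QQ A n g) P.primeCompl)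

abbrev TT (A : Type u) [CommRing A] (n : ℕ) (P : Ideal A) [P.IsPrime] : Type u :=
  MvPolynomial (Fin n) (Localization.AtPrime P)

open Matrix in
theorem flat_loc (A : Type u) [CommRing A] (n : ℕ) (g : Matrix (Fin n) (Fin n) A)
    (P : Ideal A) [P.IsMaximal] (v : Fin n → A)
    (hdet : (Matrix.of fun i k : Fin n => ((g ^ (k : ℕ)) *ᵥ v) i).det ∉ P) :
    Module.Flat A (QL A n g P) := by
  classical
  obtain ⟨V, hV⟩ : ∃ V : Matrix (Fin n) (Fin n) A,
      V = Matrix.of fun i k : Fin n => ((g ^ (k : ℕ)) *ᵥ v) i := ⟨_, rfl⟩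
  rw [← hV] at hdet
  have hVunit : IsUnit (V.map (algebraMap A (Localization.AtPrime P))).det := by
    have h1 : (V.map (algebraMap A (Localization.AtPrime P))).det =
        algebraMap A (Localization.AtPrime P) V.det :=
      (RingHom.map_det (algebraMap A (Localization.AtPrime P)) V).symm
    rw [h1]
    exact IsLocalization.map_units (Localization.AtPrime P) (⟨V.det, hdet⟩ : P.primeCompl)
  obtain ⟨W, hW⟩ : ∃ W : Matrix (Fin n) (Fin n) (Localization.AtPrime P),
      V.map (algebraMap A (Localization.AtPrime P)) * W = 1 :=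
    ⟨_, Matrix.mul_nonsing_inv _ hVunit⟩
  have hψunits : ∀ y : P.primeCompl, IsUnit (algebraMap A (QL A n g P) y) := by
    intro y
    rw [IsScalarTower.algebraMap_apply A (QQ A n g) (QL A n g P)]
    exact IsLocalization.map_units (QL A n g P)
      (⟨algebraMap A (QQ A n g) y, Algebra.mem_algebraMapSubmonoid_of_mem y⟩ :
        Algebra.algebraMapSubmonoid (QQ A n g) P.primeCompl)
  let ψ := IsLocalization.lift (M := P.primeCompl) (S := Localization.AtPrime P)
    (P := QL A n g P) hψunits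
  have hψ : ∀ a : A, ψ (algebraMap A (Localization.AtPrime P) a) =
      algebraMap A (QL A n g P) a := fun a => IsLocalization.lift_eq hψunits a
  clear_value ψ
  obtain ⟨κ, hκ⟩ : ∃ κ : MvPolynomial (Fin n × Fin n) A →+* QL A n g P,
      κ = (algebraMap (QQ A n g) (QL A n g P)).comp
        (Ideal.Quotient.mk (commIdeal A n g)) := ⟨_, rfl⟩
  have hκapp : ∀ s, algebraMap (QQ A n g) (QL A n g P)
      (Ideal.Quotient.mk (commIdeal A n g) s) = κ s := fun s => by rw [hκ]; rfl
  have hκC : ∀ a : A, κ (MvPolynomial.C a) = algebraMap A (QL A n g P) a := by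
    intro a
    rw [hκ, RingHom.comp_apply, ← MvPolynomial.algebraMap_eq, Ideal.Quotient.mk_algebraMap,
      ← IsScalarTower.algebraMap_apply]
  have hκI : ∀ s ∈ commIdeal A n g, κ s = 0 := by
    intro s hs
    rw [hκ, RingHom.comp_apply, Ideal.Quotient.eq_zero_iff_mem.mpr hs, map_zero]
  obtain ⟨Xb, hXb⟩ : ∃ Xb : Matrix (Fin n) (Fin n) (QL A n g P),
      Xb = (Matrix.mvPolynomialX (Fin n) (Fin n) A).map κ := ⟨_, rfl⟩
  obtain ⟨Gb, hGb⟩ : ∃ Gb : Matrix (Fin n) (Fin n) (QL A n g P),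
      Gb = g.map (algebraMap A (QL A n g P)) := ⟨_, rfl⟩
  have hgκ : (g.map MvPolynomial.C).map κ = Gb := by
    rw [hGb]
    ext i j
    rw [Matrix.map_apply, Matrix.map_apply, Matrix.map_apply, hκC]
  have hcomm : Xb * Gb = Gb * Xb := by
    have h0 : ((Matrix.mvPolynomialX (Fin n) (Fin n) A * g.map MvPolynomial.C -
        g.map MvPolynomial.C * Matrix.mvPolynomialX (Fin n) (Fin n) A :
          Matrix (Fin n) (Fin n) (MvPolynomial (Fin n × Fin n) A))).map κ = 0 := by
      ext i j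
      rw [Matrix.map_apply]
      exact hκI _ (Ideal.subset_span ⟨(i, j), rfl⟩)
    rw [Matrix.map_sub (⇑κ) (map_sub κ), Matrix.map_mul, Matrix.map_mul, hgκ, ← hXb] at h0
    exact sub_eq_zero.mp h0
  obtain ⟨vb, hvb⟩ : ∃ vb : Fin n → QL A n g P,
      vb = fun j => algebraMap A (QL A n g P) (v j) := ⟨_, rfl⟩
  obtain ⟨Vb, hVb⟩ : ∃ Vb : Matrix (Fin n) (Fin n) (QL A n g P),
      Vb = V.map (algebraMap A (QL A n g P)) := ⟨_, rfl⟩
  have hVbik : ∀ i k, Vb i k = ((Gb ^ (k : ℕ)) *ᵥ vb) i := by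
    intro i k
    rw [hVb, hV, hGb, hvb]
    exact congrFun (congrFun (map_krylov (B := QL A n g P) (algebraMap A (QL A n g P)) g v) i) k
  have hVbW : Vb * W.map ψ = 1 := by
    have h1 : Vb = (V.map (algebraMap A (Localization.AtPrime P))).map ψ := by
      rw [hVb]
      ext i k
      rw [Matrix.map_apply, Matrix.map_apply, Matrix.map_apply, hψ]
    rw [h1, ← Matrix.map_mul, hW, Matrix.map_one ψ (map_zero ψ) (map_one ψ)]
  obtain ⟨Tv, hTv⟩ : ∃ Tv : Fin n → QL A n g P, Tv = (W.map ψ) *ᵥ (Xb *ᵥ vb) := ⟨_, rfl⟩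
  have hXeq : Xb = ∑ k : Fin n, Tv k • Gb ^ (k : ℕ) := by
    rw [hTv]
    exact cyc Gb Xb Vb (W.map ψ) vb hVbik hVbW hcomm
  obtain ⟨α, hαX, hαC⟩ : ∃ α : TT A n P →+* QL A n g P,
      (∀ k, α (MvPolynomial.X k) = Tv k) ∧ ∀ a', α (MvPolynomial.C a') = ψ a' :=
    ⟨MvPolynomial.eval₂Hom ψ Tv, fun k => MvPolynomial.eval₂Hom_X' ψ Tv k,
      fun a' => MvPolynomial.eval₂Hom_C ψ Tv a'⟩
  have hαalg : ∀ a : A, α (algebraMap A (TT A n P) a) = algebraMap A (QL A n g P) a := by
    intro a
    rw [MvPolynomial.algebraMap_apply, hαC, hψ]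
  obtain ⟨gT, hgT⟩ : ∃ gT : Matrix (Fin n) (Fin n) (TT A n P),
      gT = g.map (algebraMap A (TT A n P)) := ⟨_, rfl⟩
  obtain ⟨Y, hY⟩ : ∃ Y : Matrix (Fin n) (Fin n) (TT A n P),
      Y = ∑ k : Fin n, (MvPolynomial.X k : TT A n P) • gT ^ (k : ℕ) := ⟨_, rfl⟩
  have hYcomm : Y * gT = gT * Y := by
    rw [hY, Finset.sum_mul, Finset.mul_sum]
    refine Finset.sum_congr rfl fun k _ => ?_
    rw [Matrix.smul_mul, Matrix.mul_smul]
    congr 1
    exact ((Commute.refl gT).pow_left (k : ℕ)).eq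
  obtain ⟨β₀, hβ₀⟩ : ∃ β₀ : MvPolynomial (Fin n × Fin n) A →ₐ[A] TT A n P,
      ∀ ij : Fin n × Fin n, β₀ (MvPolynomial.X ij) = Y ij.1 ij.2 :=
    ⟨MvPolynomial.aeval (fun ij : Fin n × Fin n => Y ij.1 ij.2),
      fun ij => MvPolynomial.aeval_X _ ij⟩
  have hβ₀C : ∀ a : A, β₀ (MvPolynomial.C a) = algebraMap A (TT A n P) a := by
    intro a
    rw [← MvPolynomial.algebraMap_eq]
    exact β₀.commutes a
  have hβ₀X : (Matrix.mvPolynomialX (Fin n) (Fin n) A).map β₀ = Y := by
    ext i j
    rw [Matrix.map_apply, Matrix.mvPolynomialX_apply, hβ₀]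
  have hβ₀g : (g.map MvPolynomial.C).map β₀ = gT := by
    rw [hgT]
    ext i j
    rw [Matrix.map_apply, Matrix.map_apply, Matrix.map_apply, hβ₀C]
  have hβ₀I : ∀ s ∈ commIdeal A n g, β₀ s = 0 := by
    intro s hs
    have hle : commIdeal A n g ≤
        RingHom.ker (β₀ : MvPolynomial (Fin n × Fin n) A →+* TT A n P) := by
      refine Ideal.span_le.mpr ?_
      rintro _ ⟨ij, rfl⟩
      rw [SetLike.mem_coe, RingHom.mem_ker]
      have h0 : ((Matrix.mvPolynomialX (Fin n) (Fin n) A * g.map MvPolynomial.C -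
          g.map MvPolynomial.C * Matrix.mvPolynomialX (Fin n) (Fin n) A :
            Matrix (Fin n) (Fin n) (MvPolynomial (Fin n × Fin n) A))).map β₀ = 0 := by
        rw [Matrix.map_sub (⇑β₀) (map_sub β₀), Matrix.map_mul, Matrix.map_mul, hβ₀X, hβ₀g,
          hYcomm, sub_self]
      exact congrFun (congrFun h0 ij.1) ij.2
    exact (RingHom.mem_ker).mp (hle hs)
  obtain ⟨β₁, hβ₁⟩ : ∃ β₁ : QQ A n g →ₐ[A] TT A n P,
      ∀ s, β₁ (Ideal.Quotient.mk (commIdeal A n g) s) = β₀ s :=
    ⟨Ideal.Quotient.liftₐ (commIdeal A n g) β₀ hβ₀I, fun s => by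
      rw [Ideal.Quotient.liftₐ_apply, Ideal.Quotient.lift_mk]; rfl⟩
  have hβunits : ∀ y : Algebra.algebraMapSubmonoid (QQ A n g) P.primeCompl,
      IsUnit ((β₁ : QQ A n g →+* TT A n P) y) := by
    rintro ⟨y, a, ha, rfl⟩
    show IsUnit (β₁ (algebraMap A (QQ A n g) a))
    rw [AlgHom.commutes, IsScalarTower.algebraMap_apply A (Localization.AtPrime P) (TT A n P)]
    exact (IsLocalization.map_units (Localization.AtPrime P) (⟨a, ha⟩ : P.primeCompl)).map _
  let β := IsLocalization.lift (M := Algebra.algebraMapSubmonoid (QQ A n g) P.primeCompl)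
    (S := QL A n g P) (P := TT A n P) hβunits
  have hβ : ∀ q : QQ A n g, β (algebraMap (QQ A n g) (QL A n g P) q) = β₁ q :=
    fun q => IsLocalization.lift_eq hβunits q
  clear_value β
  have hgTα : gT.map α = Gb := by
    rw [hgT, hGb]
    ext i j
    rw [Matrix.map_apply, Matrix.map_apply, Matrix.map_apply, hαalg]
  have hpowα : ∀ k : ℕ, (gT ^ k).map α = Gb ^ k := fun k => by
    rw [← hgTα]
    exact map_pow α.mapMatrix gT k
  have hYα : ∀ i j, α (Y i j) = Xb i j := by
    intro i j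
    rw [hXeq, hY, Matrix.sum_apply, Matrix.sum_apply, map_sum]
    refine Finset.sum_congr rfl fun k _ => ?_
    rw [Matrix.smul_apply, Matrix.smul_apply, smul_eq_mul, smul_eq_mul, map_mul, hαX,
      ← hpowα, Matrix.map_apply]
  have hcomp : α.comp β = RingHom.id (QL A n g P) := by
    refine IsLocalization.ringHom_ext (S := QL A n g P) (P := QL A n g P)
      (Algebra.algebraMapSubmonoid (QQ A n g) P.primeCompl) ?_
    refine Ideal.Quotient.ringHom_ext (I := commIdeal A n g) (S := QL A n g P) ?_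
    refine MvPolynomial.ringHom_ext (A := QL A n g P) ?_ ?_
    · intro a
      show α (β (algebraMap (QQ A n g) (QL A n g P)
        (Ideal.Quotient.mk (commIdeal A n g) (MvPolynomial.C a)))) =
        algebraMap (QQ A n g) (QL A n g P)
          (Ideal.Quotient.mk (commIdeal A n g) (MvPolynomial.C a))
      rw [hβ, hβ₁, hβ₀C, hαalg, hκapp, hκC]
    · intro ij
      show α (β (algebraMap (QQ A n g) (QL A n g P)
        (Ideal.Quotient.mk (commIdeal A n g) (MvPolynomial.X ij)))) =
        algebraMap (QQ A n g) (QL A n g P)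
          (Ideal.Quotient.mk (commIdeal A n g) (MvPolynomial.X ij))
      rw [hβ, hβ₁, hβ₀, hκapp, hYα, hXb, Matrix.map_apply, Matrix.mvPolynomialX_apply]
  have hβalg : ∀ a : A, β (algebraMap A (QL A n g P) a) = algebraMap A (TT A n P) a := by
    intro a
    rw [IsScalarTower.algebraMap_apply A (QQ A n g) (QL A n g P), hβ, AlgHom.commutes]
  obtain ⟨βl, hβl⟩ : ∃ βl : QL A n g P →ₗ[A] TT A n P, ∀ q, βl q = β q :=
    ⟨{ toFun := β, map_add' := map_add β, map_smul' := fun a q => by
        show β (a • q) = a • β q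
        rw [Algebra.smul_def a q, map_mul, hβalg, Algebra.smul_def a (β q)] }, fun _ => rfl⟩
  obtain ⟨αl, hαl⟩ : ∃ αl : TT A n P →ₗ[A] QL A n g P, ∀ q, αl q = α q :=
    ⟨{ toFun := α, map_add' := map_add α, map_smul' := fun a q => by
        show α (a • q) = a • α q
        rw [Algebra.smul_def a q, map_mul, hαalg, Algebra.smul_def a (α q)] }, fun _ => rfl⟩
  haveI : Module.Flat A (TT A n P) := Module.Flat.trans A (Localization.AtPrime P) (TT A n P)
  refine Module.Flat.of_retract βl αl (LinearMap.ext fun q => ?_)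
  rw [LinearMap.comp_apply, hαl, hβl, LinearMap.id_apply]
  exact RingHom.congr_fun hcomp q



/-- The flatness assertion, for a section of the group and equally for a section of its Lie algebra, in
the case G = GL_n (its derived group SL_n is simply connected and every prime is good for it, so the
hypotheses on the fundamental group and on the characteristic that the general statement needs hold
over every base, and strong regularity is regularity). Let A be a commutative ring and g an n × n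
matrix over A — a section of GL_n when invertible, of its Lie algebra gl_n in general; in both cases
the centralizer in GL_n is the scheme of invertible matrices commuting with g — which is fiberwise
regular (at every field-valued point A → K the commutant of g_K in M_n(K) has dimension n). Then the
centralizer Z_{GL_n}(g) is flat over A; concretely, with X the generic n × n matrix over A[x_ij],
the ring obtained from A[x_ij] by dividing by the entries of X g − g X and inverting det X is a flat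
A-module. -/
theorem result (A : Type u) [CommRing A] (n : ℕ)
    (g : Matrix (Fin n) (Fin n) A)
    (hreg : ∀ (K : Type u) [Field K] (φ : A →+* K),
      Module.finrank K (Subalgebra.centralizer K ({g.map φ} : Set (Matrix (Fin n) (Fin n) K))) = n) :
    Module.Flat A (Localization.Away
      (Ideal.Quotient.mk (Ideal.span (Set.range fun ij : Fin n × Fin n =>
        (Matrix.mvPolynomialX (Fin n) (Fin n) A * g.map MvPolynomial.C -
          g.map MvPolynomial.C * Matrix.mvPolynomialX (Fin n) (Fin n) A :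
            Matrix (Fin n) (Fin n) (MvPolynomial (Fin n × Fin n) A)) ij.1 ij.2))
        (Matrix.mvPolynomialX (Fin n) (Fin n) A).det)) := by
  classical
  haveI hQ : Module.Flat A (QQ A n g) := by
    refine Module.flat_of_localized_maximal (QQ A n g) ?_
    intro P hP
    haveI := hP
    haveI hloc : IsLocalizedModule P.primeCompl
        (IsScalarTower.toAlgHom A (QQ A n g) (QL A n g P)).toLinearMap := by
      refine (isLocalizedModule_iff_isLocalization (R := A) (S := P.primeCompl)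
        (A := QQ A n g) (Aₛ := QL A n g P)).mpr ?_
      infer_instance
    letI : Field (A ⧸ P) := Ideal.Quotient.field P
    obtain ⟨vb, hvb⟩ := exists_vec n (g.map (Ideal.Quotient.mk P))
      (hreg (A ⧸ P) (Ideal.Quotient.mk P))
    obtain ⟨v, hv⟩ : ∃ v : Fin n → A, ∀ j, Ideal.Quotient.mk P (v j) = vb j :=
      ⟨fun j => (Ideal.Quotient.mk_surjective (vb j)).choose,
        fun j => (Ideal.Quotient.mk_surjective (vb j)).choose_spec⟩
    have hdet : (Matrix.of fun i k : Fin n => Matrix.mulVec (g ^ (k : ℕ)) v i).det ∉ P := by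
      intro h
      apply hvb
      have h1 := Ideal.Quotient.eq_zero_iff_mem.mpr h
      have h2 := map_krylov (B := A ⧸ P) (Ideal.Quotient.mk P) g v
      rw [show (fun j => Ideal.Quotient.mk P (v j)) = vb from funext hv] at h2
      have h3 : Ideal.Quotient.mk P
          (Matrix.of fun i k : Fin n => Matrix.mulVec (g ^ (k : ℕ)) v i).det =
          ((Matrix.of fun i k : Fin n => Matrix.mulVec (g ^ (k : ℕ)) v i).map
            (Ideal.Quotient.mk P)).det := RingHom.map_det _ _
      rw [h2, h1] at h3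
      exact h3.symm
    haveI := flat_loc A n g P v hdet
    exact Module.Flat.of_linearEquiv (IsLocalizedModule.iso P.primeCompl
      (IsScalarTower.toAlgHom A (QQ A n g) (QL A n g P)).toLinearMap)
  exact Localization.flat (R := A) (S := QQ A n g) _


end Groth.Agent.S15843
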