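import Groth.Statements.S15844
import Mathlib
import Groth.Agent.S15842

set_option autoImplicit false
universe u
open SprIso

namespace Groth.Agent.S15844

theorem comm_global (A : Type u) [CommRing A] (n : ℕ)
    (g : Matrix (Fin n) (Fin n) A)
    (hreg : ∀ (K : Type u) [Field K] (φ : A →+* K),
      Module.finrank K (Subalgebra.centralizer K ({g.map φ} : Set (Matrix (Fin n) (Fin n) K))) = n)
    (B : Type u) [CommRing B] [Algebra A B] (x y : Matrix (Fin n) (Fin n) B)
    (hxg : x * g.map (algebraMap A B) = g.map (algebraMap A B) * x)
    (hyg : y * g.map (algebraMap A B) = g.map (algebraMap A B) * y) :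
    x * y = y * x := by
  ext r s
  apply eq_of_sub_eq_zero
  apply eq_zero_of_localization
  intro J hJ
  haveI := hJ
  obtain ⟨ψ, hψ⟩ : ∃ ψ : B →+* Localization.AtPrime J,
      ψ = algebraMap B (Localization.AtPrime J) := ⟨_, rfl⟩
  rw [← hψ, map_sub, sub_eq_zero]
  have hfin : Module.finrank (IsLocalRing.ResidueField (Localization.AtPrime J))
      (Subalgebra.centralizer (IsLocalRing.ResidueField (Localization.AtPrime J))
        ({((g.map (algebraMap A B)).map ψ).map (IsLocalRing.residue (Localization.AtPrime J))} :
          Set (Matrix (Fin n) (Fin n)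
            (IsLocalRing.ResidueField (Localization.AtPrime J))))) = n := by
    have := hreg (IsLocalRing.ResidueField (Localization.AtPrime J))
      ((IsLocalRing.residue (Localization.AtPrime J)).comp (ψ.comp (algebraMap A B)))
    rw [Matrix.map_map, Matrix.map_map]
    exact this
  have hxy := Groth.Agent.S15842.comm_of_local (Localization.AtPrime J) n
    ((g.map (algebraMap A B)).map ψ) hfin (x.map ψ) (y.map ψ)
    (by rw [← Matrix.map_mul, ← Matrix.map_mul, hxg])
    (by rw [← Matrix.map_mul, ← Matrix.map_mul, hyg])
  have h1 : ψ ((x * y) r s) = ((x.map ψ) * (y.map ψ)) r s := by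
    rw [← Matrix.map_mul]; rfl
  have h2 : ψ ((y * x) r s) = ((y.map ψ) * (x.map ψ)) r s := by
    rw [← Matrix.map_mul]; rfl
  rw [h1, h2, hxy]



/-- General linear group case: this is the case G = GL_n (derived group SL_n simply connected, all
primes good). Let A be a commutative ring, u an n × n matrix over A with characteristic polynomial
(t − 1)^n (a section of the unipotent scheme) and X one with characteristic polynomial t^n (a
section of the nilpotent scheme), both fiberwise regular — at every field-valued point A → K the
commutant in M_n(K) has dimension n — and suppose X commutes with u (X lies in the Lie algebra of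
the centralizer of u). Then Z(u) = Z(X) inside GL_n: for every commutative A-algebra B and every
invertible x ∈ M_n(B), x commutes with u_B if and only if x commutes with X_B. -/
theorem result (A : Type u) [CommRing A] (n : ℕ)
    (u X : Matrix (Fin n) (Fin n) A)
    (hu : u.charpoly = (Polynomial.X - 1) ^ n) (hX : X.charpoly = Polynomial.X ^ n)
    (hureg : ∀ (K : Type u) [Field K] (φ : A →+* K),
      Module.finrank K (Subalgebra.centralizer K ({u.map φ} : Set (Matrix (Fin n) (Fin n) K))) = n)
    (hXreg : ∀ (K : Type u) [Field K] (φ : A →+* K),
      Module.finrank K (Subalgebra.centralizer K ({X.map φ} : Set (Matrix (Fin n) (Fin n) K))) = n)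
    (hXu : X * u = u * X)
    (B : Type u) [CommRing B] [Algebra A B] (x : Matrix (Fin n) (Fin n) B) (hx : IsUnit x) :
    x * u.map (algebraMap A B) = u.map (algebraMap A B) * x ↔
      x * X.map (algebraMap A B) = X.map (algebraMap A B) * x := by
  have hXu' : X.map (algebraMap A B) * u.map (algebraMap A B) =
      u.map (algebraMap A B) * X.map (algebraMap A B) := by
    rw [← Matrix.map_mul, ← Matrix.map_mul, hXu]
  constructor
  · intro hxu
    exact comm_global A n u hureg B x (X.map (algebraMap A B)) hxu hXu'
  · intro hxX
    exact comm_global A n X hXreg B x (u.map (algebraMap A B)) hxX hXu'.symm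


end Groth.Agent.S15844
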