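import Groth.Statements.S15845
import Mathlib
-- import your own Groth.Agent.* helpers here

set_option autoImplicit false
universe u
open SprIso

namespace Groth.Agent.S15845

/-- General linear group case: this is the case G = GL_n with its upper-triangular Borel subgroup B
(derived group SL_n simply connected, all primes good, so the hypotheses on the characteristic
hold), together with the companion statement for a regular nilpotent element of Lie B. Let k be a
field and u an n × n upper-triangular matrix over k whose diagonal entries are all equal and whose
superdiagonal entries u_{i,i+1} are all non-zero — for diagonal 1 this is a regular unipotent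
element of B(k), for diagonal 0 a regular nilpotent element of Lie B. Then the centralizer of u in
GL_n is contained in B and is the product of the centre with the centralizer in the unipotent
radical: for every commutative k-algebra R and every invertible x ∈ M_n(R) commuting with u_R, x is
upper triangular and its diagonal entries are all equal. (The smoothness of the centralizer in the
unipotent radical, also part of the published statement, is not stated here.) -/
theorem result (k : Type u) [Field k] (n : ℕ)
    (u : Matrix (Fin n) (Fin n) k) (htri : ∀ i j : Fin n, j < i → u i j = 0) (hdiag : ∀ i j : Fin n, u i i = u j j)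
    (hreg : ∀ (i j : Fin n), j.val = i.val + 1 → u i j ≠ 0)
    (R : Type u) [CommRing R] [Algebra k R] (x : Matrix (Fin n) (Fin n) R) (hx : IsUnit x)
    (hxu : x * u.map (algebraMap k R) = u.map (algebraMap k R) * x) :
    (∀ i j : Fin n, j < i → x i j = 0) ∧ (∀ i j : Fin n, x i i = x j j) := by
  set U : Matrix (Fin n) (Fin n) R := u.map (algebraMap k R) with hUdef
  have hU0 : ∀ i j : Fin n, j < i → U i j = 0 := by
    intro i j hji
    simp [hUdef, htri i j hji]
  have hUd : ∀ i j : Fin n, U i i = U j j := by
    intro i j
    simp [hUdef, hdiag i j]
  have hUu : ∀ i j : Fin n, j.val = i.val + 1 → IsUnit (U i j) := by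
    intro i j hij
    have : IsUnit (u i j) := (hreg i j hij).isUnit
    simpa [hUdef] using this.map (algebraMap k R)
  have key : ∀ (m : ℕ) (i j : Fin n), j < i → 2 * j.val + 3 * (n - i.val) = m → x i j = 0 := by
    intro m
    induction m using Nat.strong_induction_on with
    | _ m ih =>
      intro i j hji hm
      have hji' : j.val < i.val := hji
      have hi : i.val < n := i.2
      have hj' : j.val + 1 < n := by omega
      let j' : Fin n := ⟨j.val + 1, hj'⟩
      have hjj' : j ≠ j' := by
        intro h
        have := congrArg Fin.val h
        simp [j'] at this
      have e := congrFun (congrFun hxu i) j'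
      rw [Matrix.mul_apply, Matrix.mul_apply] at e
      have hL : ∑ l, x i l * U l j' = x i j * U j j' + x i j' * U j' j' := by
        apply Finset.sum_eq_add j j' hjj'
        · intro l _ hl
          rcases lt_trichotomy l.val j.val with h | h | h
          · rw [ih (2 * l.val + 3 * (n - i.val)) (by omega) i l (by
              change l.val < i.val; omega) rfl, zero_mul]
          · exact absurd (Fin.ext h) hl.1
          · have h2 : l.val ≠ j.val + 1 := fun h3 => hl.2 (Fin.ext h3)
            rw [hU0 l j' (by change j.val + 1 < l.val; omega), mul_zero]
        · simp
        · simp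
      have hR : ∑ l, U i l * x l j' = U i i * x i j' := by
        apply Finset.sum_eq_single i
        · intro l _ hli
          have hli' : l.val ≠ i.val := fun h => hli (Fin.ext h)
          rcases lt_or_gt_of_ne hli' with h | h
          · rw [hU0 i l h, zero_mul]
          · have hl : l.val < n := l.2
            rw [ih (2 * (j.val + 1) + 3 * (n - l.val)) (by omega) l j' (by
              change j.val + 1 < l.val; omega) rfl, mul_zero]
        · simp
      rw [hL, hR, hUd j' i, mul_comm (x i j') _] at e
      have h0 : x i j * U j j' = 0 := by linear_combination e
      exact (hUu j j' rfl).mul_left_eq_zero.mp h0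
  have hlow : ∀ i j : Fin n, j < i → x i j = 0 := fun i j hji => key _ i j hji rfl
  refine ⟨hlow, ?_⟩
  -- consecutive diagonal entries agree
  have hstep : ∀ (i j : Fin n), j.val = i.val + 1 → x i i = x j j := by
    intro i j hij
    have hij' : i ≠ j := by
      intro h
      have := congrArg Fin.val h
      omega
    have e := congrFun (congrFun hxu i) j
    rw [Matrix.mul_apply, Matrix.mul_apply] at e
    have hL : ∑ l, x i l * U l j = x i i * U i j + x i j * U j j := by
      apply Finset.sum_eq_add i j hij'
      · intro l _ hl
        have h1 : l.val ≠ i.val := fun h => hl.1 (Fin.ext h)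
        have h2 : l.val ≠ j.val := fun h => hl.2 (Fin.ext h)
        rcases lt_or_gt_of_ne h1 with h | h
        · rw [hlow i l h, zero_mul]
        · rw [hU0 l j (by change j.val < l.val; omega), mul_zero]
      · simp
      · simp
    have hR : ∑ l, U i l * x l j = U i i * x i j + U i j * x j j := by
      apply Finset.sum_eq_add i j hij'
      · intro l _ hl
        have h1 : l.val ≠ i.val := fun h => hl.1 (Fin.ext h)
        have h2 : l.val ≠ j.val := fun h => hl.2 (Fin.ext h)
        rcases lt_or_gt_of_ne h1 with h | h
        · rw [hU0 i l h, zero_mul]
        · rw [hlow l j (by change j.val < l.val; omega), mul_zero]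
      · simp
      · simp
    rw [hL, hR, hUd j i] at e
    have h0 : (x i i - x j j) * U i j = 0 := by linear_combination e
    have := (hUu i j hij).mul_left_eq_zero.mp h0
    exact sub_eq_zero.mp this
  have hall : ∀ (m : ℕ) (hm : m < n), x ⟨m, hm⟩ ⟨m, hm⟩ = x ⟨0, by omega⟩ ⟨0, by omega⟩ := by
    intro m
    induction m with
    | zero => intro _; rfl
    | succ m ih =>
      intro hm
      rw [← ih (by omega)]
      exact (hstep ⟨m, by omega⟩ ⟨m + 1, hm⟩ rfl).symm
  intro i j
  rw [show i = ⟨i.val, i.2⟩ from rfl, show j = ⟨j.val, j.2⟩ from rfl, hall i.val i.2, hall j.val j.2]

end Groth.Agent.S15845
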