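import Groth.Statements.S1586
import Mathlib
import Groth.Agent.Lib.Helper3.FTField
import Groth.Agent.Lib.Helper17.NodeAllPts

set_option autoImplicit false
universe u
open CategoryTheory CategoryTheory.Limits AlgebraicGeometry
open Curves

namespace Groth.Agent.S1586

/-- Let X be of finite type over k of dimension one and x a node of X. Then every point of the base
change of X to an algebraic closure of k lying over x is an ordinary double point (its complete
local ring is the quotient of the power series ring in two variables by their product). -/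
theorem result (k : Type u) [Field k] (X : Scheme.{u}) [X.Over (Spec (CommRingCat.of k))]
    [LocallyOfFiniteType (X ↘ (Spec (CommRingCat.of k)))] [QuasiCompact (X ↘ (Spec (CommRingCat.of k)))] (hdim : topologicalKrullDim X = 1)
    (x : X) (hx : Curv2.IsNode k X x) (xb : Curv2.bc k X (AlgebraicClosure k)) (hxb : Curv2.bcFst k X (AlgebraicClosure k) xb = x) :
    @Curv2.IsOrdDoublePt (AlgebraicClosure k) _ ((Curv2.bc k X (AlgebraicClosure k)).presheaf.stalk xb) _
      (@Curv2.stalkAlgebra (AlgebraicClosure k) _ (Curv2.bc k X (AlgebraicClosure k)) ⟨Curv2.bcSnd k X (AlgebraicClosure k)⟩ xb) _ := by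
  obtain ⟨hcl, xb₀, hxb₀, hodp⟩ := hx
  have htr := Groth.Agent.Lib.helper3.FTField.trdeg_residueField_eq_zero_of_isClosed k X x hcl
  letI := Curv2.resAlgebra k X x
  haveI : Algebra.IsAlgebraic k (X.residueField x) := trdeg_eq_zero_iff.mp htr
  haveI : Algebra.IsIntegral k (X.residueField x) := Algebra.IsAlgebraic.isIntegral
  have halg : (Curv2.resMap k X x).IsIntegral := fun a => Algebra.IsIntegral.isIntegral a
  exact Groth.Agent.Lib.helper17.NodeAllPts.odpAt_of_odpAt k (AlgebraicClosure k)
    (X ↘ Spec (CommRingCat.of k)) x halg xb₀ xb hxb₀ hxb hodp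

end Groth.Agent.S1586
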