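import Groth.Statements.S15874
import Mathlib
import Groth.Agent.Lib.Helper21.EtTorsorSec6
import Groth.Agent.Lib.Helper4.TrivTorsor
-- import your own Groth.Agent.* helpers here

set_option autoImplicit false
universe u
open CategoryTheory MonoidalCategory CartesianMonoidalCategory MonObj GrpObj AlgebraicGeometry
open NonAbH1

namespace Groth.Agent.S15874

section Helpers

open CategoryTheory.Limits

theorem hasSection_iff_of_eqvGen {S : Scheme.{u}} {G : Over S} [GrpObj G]
    {K : Precoverage Scheme.{u}} {Q Q' : NonAbH1.TorsorSch G K}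
    (h : Relation.EqvGen (fun P Q : NonAbH1.TorsorSch G K =>
      Nonempty (NonAbH1.EquivIso P.act Q.act)) Q Q') :
    NonAbH1.HasSectionOver Q.X (𝟙 S) ↔ NonAbH1.HasSectionOver Q'.X (𝟙 S) := by
  induction h with
  | rel a b hab =>
    obtain ⟨e⟩ := hab
    constructor
    · rintro ⟨s, hs⟩
      exact ⟨s ≫ e.iso.hom.left, by rw [Category.assoc, Over.w, hs]⟩
    · rintro ⟨s, hs⟩
      exact ⟨s ≫ e.iso.inv.left, by rw [Category.assoc, Over.w, hs]⟩
  | refl => exact Iff.rfl
  | symm _ _ _ ih => exact ih.symm
  | trans _ _ _ _ _ ih1 ih2 => exact ih1.trans ih2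

end Helpers

/-- Let G be an étale k-group scheme and S a normal integral k-scheme with generic point η. Then an fppf
torsor over S under G whose base change to Spec κ(η) is trivial is itself trivial: the kernel of
H¹(S, G) → H¹(κ(η), G) on classes of torsors that are schemes is the base point. (The published
statement takes S merely integral; the connected étale double cover of a nodal cubic over an
algebraically closed field is a non-trivial torsor under the constant group of order 2 that is
trivial at the generic point, so S is taken normal here, which is what the published proof uses.) -/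
theorem result (k : Type u) [Field k]
    (G : Over (Spec (CommRingCat.of k))) [GrpObj G] [Etale G.hom]
    (S : Scheme.{u}) [IsIntegral S] (hS : Pi1.IsNormalScheme S) (s : S ⟶ Spec (CommRingCat.of k))
    (c : NonAbH1.H1Sch (Red.bc s G) Scheme.fppfPrecoverage)
    (hc : NonAbH1.H1Sch.bcMap (S.fromSpecResidueField (genericPoint S)) (Red.bc s G) Scheme.fppfPrecoverage c = 1) :
    c = 1 := by
  induction c using Quot.ind with
  | mk P =>
    have hc' : Quot.mk _ (P.bc (S.fromSpecResidueField (genericPoint S))) =
        Quot.mk _ (⟨_, NonAbH1.trivialAction _, NonAbH1.isTorsorFor_trivialAction _ _⟩ :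
          NonAbH1.TorsorSch (Red.bc (S.fromSpecResidueField (genericPoint S)) (Red.bc s G))
            Scheme.fppfPrecoverage) := hc
    have hgen := hasSection_iff_of_eqvGen (Quot.eqvGen_exact hc')
    obtain ⟨sec, hsec'⟩ : ∃ sec : Spec (S.residueField (genericPoint S)) ⟶
        Limits.pullback P.X.hom (S.fromSpecResidueField (genericPoint S)),
        sec ≫ Limits.pullback.snd P.X.hom (S.fromSpecResidueField (genericPoint S)) = 𝟙 _ :=
      hgen.mpr ⟨η[Red.bc (S.fromSpecResidueField (genericPoint S)) (Red.bc s G)].left, Over.w _⟩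
    obtain ⟨-, hex⟩ :=
      Groth.Agent.Lib.helper21.EtTorsorSec.torsor_etale_field k G s hS P.act P.isTorsor
    obtain ⟨σ, hσ, -⟩ := hex
      (sec ≫ Limits.pullback.fst P.X.hom (S.fromSpecResidueField (genericPoint S)))
      (by rw [Category.assoc, Limits.pullback.condition, reassoc_of% hsec'])
    obtain ⟨e⟩ := Groth.Agent.Lib.Helper4.TrivTorsor.backward (Red.bc s G) P.X P.act
      P.isTorsor.1 ⟨σ, hσ⟩
    exact (Quot.sound ⟨e⟩ : (1 : NonAbH1.H1Sch (Red.bc s G) Scheme.fppfPrecoverage) = _).symm

end Groth.Agent.S15874
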