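import Groth.Statements.S15893
import Mathlib

set_option autoImplicit false
universe u v w
open CartDual

namespace Groth.Agent.S15893

theorem eval_bijective (R : Type u) [CommRing R] (A : Type v) [Ring A] [Bialgebra R A]
    [Module.Finite R A] [Module.Projective R A] : Function.Bijective (CartDual.eval R A) := by
  have h1 : Function.Bijective (Module.Dual.eval R A) := Module.bijective_dual_eval R A
  have h2 : Function.Bijective ((CartDual.toDual R A).toLinearMap.dualMap) :=
    (CartDual.toDual R A).dualMap.bijective
  have h3 : Function.Bijective ((CartDual.toDual R (CartDual.D R A)).symm) :=
    (CartDual.toDual R (CartDual.D R A)).symm.bijective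
  exact h3.comp (h2.comp h1)


/-- Let R be a commutative ring and A, B commutative and cocommutative Hopf algebras over R, each
finitely generated and projective as an R-module (finite locally free commutative group schemes G =
Spec A, H = Spec B over Spec R). Then Cartier duality is a fully faithful contravariant functor: the
map sending a bialgebra homomorphism f : A → B (a homomorphism of group schemes H → G) to its
transpose between the dual Hopf algebras, Hom_R(B, R) → Hom_R(A, R) (the dual homomorphism G^D →
H^D), is a bijection between bialgebra homomorphisms A → B and bialgebra homomorphisms Hom_R(B, R) →
Hom_R(A, R). (The published statement also asserts that the canonical map to the double dual is an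
isomorphism, which makes duality an involutory anti-equivalence; that part is not restated here. The
published notes work over a Noetherian base ring; the row allows any commutative base ring.) -/
theorem result (R : Type u) [CommRing R] (A : Type v) (B : Type w)
    [CommRing A] [HopfAlgebra R A] [Coalgebra.IsCocomm R A] [Module.Finite R A] [Module.Projective R A]
    [CommRing B] [HopfAlgebra R B] [Coalgebra.IsCocomm R B] [Module.Finite R B] [Module.Projective R B] :
    Function.Bijective (fun f : A →ₐc[R] B => CartDual.transpose R f) := by
  have hbijB : Function.Bijective (CartDual.eval R B) := eval_bijective R B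
  constructor
  · intro f g hfg
    apply BialgHom.ext
    intro a
    have hx : ∀ x : CartDual.D R B, x (f a) = x (g a) := by
      intro x
      have := congrArg (fun φ : CartDual.D R B →ₐc[R] CartDual.D R A => φ x a) hfg
      simpa using this
    rw [← sub_eq_zero, ← Module.forall_dual_apply_eq_zero_iff R]
    intro φ
    have := hx ((CartDual.toDual R B).symm φ)
    rw [map_sub, sub_eq_zero]
    exact this
  · intro φ
    let eB : B ≃ₐc[R] CartDual.D R (CartDual.D R B) := BialgEquiv.ofBijective (R := R) (A := B) (B := CartDual.D R (CartDual.D R B)) (CartDual.eval R B) hbijB
    refine ⟨(eB.symm : CartDual.D R (CartDual.D R B) →ₐc[R] B).comp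
      ((CartDual.transpose R φ).comp (CartDual.eval R A)), ?_⟩
    apply BialgHom.ext
    intro x
    apply WithConv.ext
    apply LinearMap.ext
    intro a
    change x (eB.symm (CartDual.transpose R φ (CartDual.eval R A a))) = φ x a
    have hb : CartDual.eval R B (eB.symm (CartDual.transpose R φ (CartDual.eval R A a))) =
        CartDual.transpose R φ (CartDual.eval R A a) :=
      eB.apply_symm_apply _
    have := congrArg (fun z : CartDual.D R (CartDual.D R B) => z x) hb
    simpa using this

end Groth.Agent.S15893
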