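import Groth.Statements.S15895
import Mathlib
import Groth.Prelude.Def_CartDual2

set_option autoImplicit false
universe u
open scoped TensorProduct
open Versch

namespace Groth.Agent.S15895

theorem eval_bijective (R : Type*) [CommRing R] (A : Type*) [Ring A] [Bialgebra R A]
    [Module.Finite R A] [Module.Projective R A] : Function.Bijective (CartDual.eval R A) := by
  have h1 : Function.Bijective (Module.Dual.eval R A) := Module.bijective_dual_eval R A
  have h2 : Function.Bijective ((CartDual.toDual R A).toLinearMap.dualMap) :=
    (CartDual.toDual R A).dualMap.bijective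
  have h3 : Function.Bijective ((CartDual.toDual R (CartDual.D R A)).symm) :=
    (CartDual.toDual R (CartDual.D R A)).symm.bijective
  exact h3.comp (h2.comp h1)

theorem pow_p_eq (p : ℕ) [Fact p.Prime] (R : Type*) [CommRing R] [CharP R p]
    (a : MonoidAlgebra R (Multiplicative (ZMod p))) :
    a ^ p = MonoidAlgebra.single 1 ((Coalgebra.counit (R := R) a) ^ p) := by
  have : CharP (MonoidAlgebra R (Multiplicative (ZMod p))) p :=
    charP_of_injective_algebraMap (R := R) (A := MonoidAlgebra R (Multiplicative (ZMod p)))
      (by
        intro r s h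
        rw [MonoidAlgebra.coe_algebraMap] at h
        exact MonoidAlgebra.single_right_injective h) p
  induction a using MonoidAlgebra.induction_linear with
  | zero => simp [zero_pow (Fact.out : p.Prime).ne_zero]
  | add f g hf hg =>
    rw [add_pow_char, hf, hg, map_add, add_pow_char, MonoidAlgebra.single_add]
  | single g c =>
    rw [MonoidAlgebra.single_pow, MonoidAlgebra.counit_single]
    congr 1
    apply Multiplicative.toAdd.injective
    simp


/-- Let p be a prime, R a commutative ring of characteristic p and B = Hom_R(R[ℤ/p], R) the dual Hopf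
algebra of the group algebra of the cyclic group of order p: the Hopf algebra of the constant group
scheme ℤ/p over Spec R (the Cartier dual of μ_p). Let v : B → B ⊗_R R^(Frob) be the comorphism of
the Verschiebung V : (ℤ/p)^(p) → ℤ/p (the ring map whose transpose under the canonical pairing is
the relative Frobenius of the dual Hopf algebra of B). Then V is the trivial homomorphism: v is the
composite of the counit ε : B → R, the identity of underlying rings R → R^(Frob) and the inclusion
of the twisted factor R^(Frob) → B ⊗_R R^(Frob), i.e. v(b) = 1 ⊗ ε(b). -/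
theorem result (p : ℕ) [Fact p.Prime] (R : Type u) [CommRing R]
    [CharP R p] (v : CartDual.D R (MonoidAlgebra R (Multiplicative (ZMod p))) →+* FrobAlg.BaseChange p R (CartDual.D R (MonoidAlgebra R (Multiplicative (ZMod p)))))
    (hv : Versch.IsVerschiebung p R (CartDual.D R (MonoidAlgebra R (Multiplicative (ZMod p)))) v) :
    v = ((Algebra.TensorProduct.includeRight (R := R) (A := CartDual.D R (MonoidAlgebra R (Multiplicative (ZMod p))))
            (B := FrobAlg.Twist p R)).toRingHom.comp (FrobAlg.toTwist p R).toRingHom).comp
          (Bialgebra.counitAlgHom R (CartDual.D R (MonoidAlgebra R (Multiplicative (ZMod p))))).toRingHom := by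
  apply Versch.IsVerschiebung.unique p R _ hv
  rw [Versch.isVerschiebung_iff]
  intro b x
  obtain ⟨a, rfl⟩ := (eval_bijective R (MonoidAlgebra R (Multiplicative (ZMod p)))).2 x
  change Versch.evTw p R _ _ ((1 : CartDual.D R (MonoidAlgebra R (Multiplicative (ZMod p)))) ⊗ₜ[R]
    FrobAlg.toTwist p R (Coalgebra.counit (R := R) b)) = _
  rw [Versch.evTw_tmul', ← map_mul]
  congr 1
  have e1 : CartDual.eval R (MonoidAlgebra R (Multiplicative (ZMod p))) a
      (1 : CartDual.D R (MonoidAlgebra R (Multiplicative (ZMod p)))) = Coalgebra.counit (R := R) a := by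
    change (1 : CartDual.D R (MonoidAlgebra R (Multiplicative (ZMod p)))) a = _
    rw [CartDual.coe_apply, LinearMap.convOne_apply]
    simp
  have e2 : CartDual.eval R (MonoidAlgebra R (Multiplicative (ZMod p))) (a ^ p) b = b (a ^ p) := rfl
  rw [← map_pow (CartDual.eval R (MonoidAlgebra R (Multiplicative (ZMod p)))) a p]
  rw [e1, e2, pow_p_eq, CartDual.coalgebra_counit_apply]
  have h : MonoidAlgebra.single (1 : Multiplicative (ZMod p)) ((Coalgebra.counit (R := R) a) ^ p)
      = ((Coalgebra.counit (R := R) a) ^ p) • (1 : MonoidAlgebra R (Multiplicative (ZMod p))) := by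
    rw [MonoidAlgebra.one_def, MonoidAlgebra.smul_single, smul_eq_mul, mul_one]
  rw [h, CartDual.coe_apply, map_smul, smul_eq_mul, ← CartDual.coe_apply]

end Groth.Agent.S15895
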