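import Groth.Statements.S15896
import Mathlib
import Groth.Agent.S15062
import Groth.Agent.Lib.Helper22.BialgQuot
import Groth.Agent.Lib.Helper22.DualDetect

set_option autoImplicit false
universe u
open scoped TensorProduct
open Hopf

namespace Groth.Agent.S15896

/-- Let R be a henselian Noetherian local ring and A a commutative and cocommutative Hopf algebra over R
which is finitely generated and projective as an R-module (a finite flat commutative R-group G =
Spec A). Let e ∈ A be an idempotent with ε(e) = 1 such that the ideal (1 − e) is a Hopf ideal and A⁰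
= A/(1 − e) is a local ring, projective over R, with cocommutative quotient structure (G⁰ = Spec A⁰
is the connected component of the unit section). Let B = Hom_R(A⁰, R) be the dual Hopf algebra (the
Cartier dual (G⁰)^D) and e' ∈ B an idempotent with ε(e') = 1 and B/(1 − e') local (the unit
component of (G⁰)^D). Say that x ∈ B is invariant when (id ⊗ (multiplication by e'))(Δ x) = x ⊗ e',
i.e. x is invariant under translation by the unit component of (G⁰)^D, so that the invariant
elements form the Hopf algebra of the maximal étale quotient of (G⁰)^D; the ideal in A⁰ of the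
closed subgroup G_μ ⊆ G⁰ ⊆ G consists of the elements annihilated by every invariant x (G_μ is the
Cartier dual of the étale quotient of (G⁰)^D, a connected multiplicative subgroup of G). Then G_μ is
the largest connected multiplicative closed subgroup of G: for every Hopf ideal J of A such that A/J
is a local ring, projective over R, cocommutative, and has étale dual Hopf algebra Hom_R(A/J, R) (H
= Spec A/J a connected closed subgroup with étale Cartier dual), every a ∈ A whose image in A⁰ is
annihilated by all invariant x lies in J, i.e. H ⊆ G_μ. -/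
theorem result (R : Type u) [CommRing R]
    [HenselianLocalRing R] [IsNoetherianRing R] (A : Type u) [CommRing A] [HopfAlgebra R A] [Coalgebra.IsCocomm R A]
    [Module.Finite R A] [Module.Projective R A] (e : A) (he : IsIdempotentElem e)
    (hε : Bialgebra.counitAlgHom R A e = 1) [(Ideal.span ({1 - e} : Set A)).IsHopfIdeal R] [IsLocalRing (A ⧸ Ideal.span ({1 - e} : Set A))]
    [Module.Projective R (A ⧸ Ideal.span ({1 - e} : Set A))] [Coalgebra.IsCocomm R (A ⧸ Ideal.span ({1 - e} : Set A))]
    (e' : CartDual.D R (A ⧸ Ideal.span ({1 - e} : Set A))) (he' : IsIdempotentElem e')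
    (hε' : Bialgebra.counitAlgHom R (CartDual.D R (A ⧸ Ideal.span ({1 - e} : Set A))) e' = 1)
    [IsLocalRing (CartDual.D R (A ⧸ Ideal.span ({1 - e} : Set A)) ⧸ Ideal.span ({1 - e'} : Set (CartDual.D R (A ⧸ Ideal.span ({1 - e} : Set A)))))]
    (J : Ideal A) [J.IsHopfIdeal R] [IsLocalRing (A ⧸ J)] [Module.Projective R (A ⧸ J)]
    [Coalgebra.IsCocomm R (A ⧸ J)] [Algebra.Etale R (CartDual.D R (A ⧸ J))]
    (a : A) (ha : ∀ x : CartDual.D R (A ⧸ Ideal.span ({1 - e} : Set A)), LinearMap.lTensor (CartDual.D R (A ⧸ Ideal.span ({1 - e} : Set A))) (LinearMap.mulLeft R e') (Coalgebra.comul (R := R) x) = x ⊗ₜ[R] e' → x (Ideal.Quotient.mk (Ideal.span ({1 - e} : Set A)) a) = 0) :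
    a ∈ J := by
  -- idempotents of local rings
  have hidem : ∀ (S : Type u) [CommRing S] [IsLocalRing S] (a : S), IsIdempotentElem a →
      a = 0 ∨ a = 1 := by
    intro S _ _ a ha
    rcases IsLocalRing.isUnit_or_isUnit_one_sub_self a with h | h
    · right
      have h1 : a * (a - 1) = 0 := by rw [mul_sub, mul_one, ha.eq, sub_self]
      exact sub_eq_zero.1 (h.mul_right_eq_zero.1 h1)
    · left
      have h1 : (1 - a) * a = 0 := by rw [sub_mul, one_mul, ha.eq, sub_self]
      exact h.mul_right_eq_zero.1 h1
  have hRnt : Nontrivial R := inferInstance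
  let πJ : A →ₐc[R] (A ⧸ J) := Bialgebra.Quotient.mkBialgHom J
  -- `1 - e ∈ J`
  have hπe : πJ e = 1 := by
    rcases hidem _ (πJ e) (he.map πJ) with h | h
    · exfalso
      have h1 : Bialgebra.counitAlgHom R _ (πJ e) = Bialgebra.counitAlgHom R A e := by
        change Coalgebra.counit (πJ e) = Coalgebra.counit e
        rw [CoalgHomClass.counit_comp_apply]
      rw [h, map_zero, hε] at h1
      exact zero_ne_one h1
    · exact h
  let q : (A ⧸ Ideal.span ({1 - e} : Set A)) →ₐc[R] (A ⧸ J) :=
    Groth.Agent.Lib.helper22.BialgQuot.lift _ πJ (by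
      intro b hb
      obtain ⟨c, rfl⟩ := Ideal.mem_span_singleton'.1 hb
      rw [map_mul, map_sub, map_one, hπe, sub_self, mul_zero])
  have hq : ∀ b : A, q (Ideal.Quotient.mk _ b) = Ideal.Quotient.mk J b := fun b => rfl
  let T := CartDual.transpose R q
  -- the image of `T` consists of invariant elements
  have hinv : ∀ z : CartDual.D R (A ⧸ J),
      LinearMap.lTensor (CartDual.D R (A ⧸ Ideal.span ({1 - e} : Set A))) (LinearMap.mulLeft R e')
        (Coalgebra.comul (R := R) (T z)) = (T z) ⊗ₜ[R] e' := by
    intro z
    have h1 := (Groth.Agent.S15062.result R (CartDual.D R (A ⧸ Ideal.span ({1 - e} : Set A))) e'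
      he' hε').1 (CartDual.D R (A ⧸ J)) T z
    rw [AlgHom.mem_equalizer] at h1
    -- multiplication by `e'` factors through the quotient
    let μ₀ : (CartDual.D R (A ⧸ Ideal.span ({1 - e} : Set A)) ⧸
        Ideal.span ({1 - e'} : Set (CartDual.D R (A ⧸ Ideal.span ({1 - e} : Set A))))) →ₗ[
        CartDual.D R (A ⧸ Ideal.span ({1 - e} : Set A))]
        CartDual.D R (A ⧸ Ideal.span ({1 - e} : Set A)) :=
      Submodule.liftQ _ (LinearMap.mulLeft _ e') (by
        intro d hd
        obtain ⟨c, rfl⟩ := Ideal.mem_span_singleton'.1 hd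
        rw [LinearMap.mem_ker, LinearMap.mulLeft_apply, mul_comm c, ← mul_assoc, mul_sub, mul_one,
          he'.eq, sub_self, zero_mul])
    let μ := μ₀.restrictScalars R
    have hμ : ∀ d, μ (Ideal.Quotient.mk _ d) = e' * d := fun d => rfl
    have h2 := congrArg (LinearMap.lTensor (CartDual.D R (A ⧸ Ideal.span ({1 - e} : Set A))) μ) h1
    rw [Algebra.TensorProduct.includeLeft_apply, LinearMap.lTensor_tmul] at h2
    have h3 : μ 1 = e' := by
      have := hμ 1
      rw [mul_one, map_one] at this
      exact this
    rw [h3] at h2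
    rw [← h2, AlgHom.comp_apply]
    have h4 : LinearMap.lTensor (CartDual.D R (A ⧸ Ideal.span ({1 - e} : Set A))) μ ∘ₗ
        (Algebra.TensorProduct.map (AlgHom.id R _) (Ideal.Quotient.mkₐ R
          (Ideal.span ({1 - e'} : Set (CartDual.D R (A ⧸ Ideal.span ({1 - e} : Set A))))))).toLinearMap =
        LinearMap.lTensor (CartDual.D R (A ⧸ Ideal.span ({1 - e} : Set A)))
          (LinearMap.mulLeft R e') := by
      apply TensorProduct.ext'
      intro u v
      rfl
    exact (LinearMap.congr_fun h4 _).symm
  -- conclude
  have hzero : Ideal.Quotient.mk J a = 0 := by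
    apply Groth.Agent.Lib.helper22.DualDetect.eq_of_forall_dual (B := R)
    intro φ
    have := ha (T (WithConv.toConv φ)) (hinv _)
    rw [map_zero]
    exact this
  exact Ideal.Quotient.eq_zero_iff_mem.1 hzero

end Groth.Agent.S15896
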