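import Groth.Statements.S15897
import Mathlib

set_option autoImplicit false
universe u v
open CartDual

namespace Groth.Agent.S15897

/-- Let R be a commutative ring and A a commutative Hopf algebra over R which is finitely generated and
projective as an R-module (a finite locally free R-group scheme G = Spec A, not assumed
commutative). If the convolution product on the dual Hopf algebra Hom_R(A, R) is commutative, then A
is cocommutative, i.e. G is a commutative group scheme. (The dual Hopf algebra is commutative
exactly when A is cocommutative; the other implication is immediate and not stated. The published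
notes work over a Noetherian base ring; the row allows any commutative base ring.) -/
theorem result (R : Type u) [CommRing R] (A : Type v) [CommRing A] [HopfAlgebra R A]
    [Module.Finite R A] [Module.Projective R A] (h : ∀ x y : CartDual.D R A, x * y = y * x) :
    Coalgebra.IsCocomm R A := by
  have hlid : ∀ u : TensorProduct R R R, TensorProduct.lid R R u = LinearMap.mul' R R u := by
    intro u
    induction u using TensorProduct.induction_on with
    | zero => simp
    | tmul r s => simp
    | add u u' hu hu' => simp only [map_add, hu, hu']
  have h1 : ∀ (x y : CartDual.D R A) (t : TensorProduct R A A),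
      CartDual.ev₂ R A (x ⊗ₜ y) t = LinearMap.mul' R R (TensorProduct.map x.ofConv y.ofConv t) := by
    intro x y t
    rw [CartDual.ev₂_tmul_eq, LinearMap.comp_apply, LinearEquiv.coe_coe, hlid]
  have h2 : ∀ (x y : CartDual.D R A) (t : TensorProduct R A A),
      CartDual.ev₂ R A (x ⊗ₜ y) (TensorProduct.comm R A A t) = CartDual.ev₂ R A (y ⊗ₜ x) t := by
    intro x y t
    induction t using TensorProduct.induction_on with
    | zero => simp
    | tmul a b => simp [mul_comm]
    | add t t' ht ht' => simp only [map_add, ht, ht']
  refine ⟨?_⟩
  ext a
  simp only [LinearMap.comp_apply, LinearEquiv.coe_coe]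
  rw [← sub_eq_zero, ← Module.forall_dual_apply_eq_zero_iff R]
  intro φ
  obtain ⟨z, rfl⟩ := (CartDual.ev₂ R A).surjective φ
  rw [map_sub, sub_eq_zero]
  induction z using TensorProduct.induction_on with
  | zero => simp
  | tmul x y =>
    rw [h2, h1, h1]
    have := congrArg (fun f : CartDual.D R A => f a) (h y x)
    simpa using this
  | add z z' hz hz' => simp only [map_add, LinearMap.add_apply, hz, hz']

end Groth.Agent.S15897
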