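import Groth.Statements.S15905
import Mathlib

set_option autoImplicit false
open Surf

namespace Groth.Agent.S15905

section Aux
open W4c3severiratdp

def cs : List ℤ := [-11,-10,-9,-8,-7,-6,-5,-4,-3,-2,-1,0,1,2,3,4,5,6,7,8,9,10,11]
def as : List ℤ := [1,2,3,4,5,6,7,8,9,10,11]

/-- number of integer vectors of length `j` with sum `s` and sum of squares `q`
(entries in `[-11, 11]`), computed recursively with a Cauchy–Schwarz cut. -/
def cnt : ℕ → ℤ → ℤ → ℕ
  | 0, s, q => if s = 0 ∧ q = 0 then 1 else 0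
  | (j+1), s, q => if ((j : ℤ) + 1) * q < s * s then 0
      else (cs.map fun c => if c * c ≤ q then cnt j (s - c) (q - c * c) else 0).sum

theorem cs_nodup : cs.Nodup := by decide
theorem as_nodup : as.Nodup := by decide
theorem hIcc : Finset.Icc (-11 : ℤ) 11 = cs.toFinset := by decide
theorem hIcc1 : Finset.Icc (1 : ℤ) 11 = as.toFinset := by decide

noncomputable def box (j : ℕ) : Finset (Fin j → ℤ) := Fintype.piFinset fun _ => Finset.Icc (-11 : ℤ) 11

noncomputable def F (j : ℕ) (s q : ℤ) : Finset (Fin j → ℤ) :=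
  (box j).filter fun b => ∑ i, b i = s ∧ ∑ i, b i * b i = q

theorem mem_F {j : ℕ} {s q : ℤ} {b : Fin j → ℤ} :
    b ∈ F j s q ↔ (∀ i, -11 ≤ b i ∧ b i ≤ 11) ∧ ∑ i, b i = s ∧ ∑ i, b i * b i = q := by
  unfold F box
  rw [Finset.mem_filter, Fintype.mem_piFinset]
  simp only [Finset.mem_Icc]

theorem card_F_zero (s q : ℤ) : (F 0 s q).card = if s = 0 ∧ q = 0 then 1 else 0 := by
  by_cases h : s = 0 ∧ q = 0
  · rw [if_pos h, Finset.card_eq_one]
    refine ⟨fun i => i.elim0, ?_⟩
    ext b
    rw [Finset.mem_singleton, mem_F]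
    constructor
    · intro _; funext i; exact i.elim0
    · intro _
      refine ⟨fun i => i.elim0, ?_, ?_⟩
      · rw [Finset.univ_eq_empty, Finset.sum_empty, h.1]
      · rw [Finset.univ_eq_empty, Finset.sum_empty, h.2]
  · rw [if_neg h, Finset.card_eq_zero, Finset.eq_empty_iff_forall_notMem]
    intro b hb
    rw [mem_F] at hb
    apply h
    obtain ⟨_, h1, h2⟩ := hb
    rw [Finset.univ_eq_empty, Finset.sum_empty] at h1 h2
    exact ⟨h1.symm, h2.symm⟩

theorem cs_ineq {j : ℕ} (b : Fin j → ℤ) :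
    (∑ i, b i) * (∑ i, b i) ≤ (j : ℤ) * ∑ i, b i * b i := by
  have hcs := sq_sum_le_card_mul_sum_sq (s := (Finset.univ : Finset (Fin j))) (f := b)
  rw [Finset.card_univ, Fintype.card_fin, sq] at hcs
  have h3 : ∑ i, b i ^ 2 = ∑ i, b i * b i := Finset.sum_congr rfl (fun i _ => sq (b i))
  rw [h3] at hcs
  exact hcs

theorem F_empty_of_cs {j : ℕ} {s q : ℤ} (h : (j : ℤ) * q < s * s) : F j s q = ∅ := by
  rw [Finset.eq_empty_iff_forall_notMem]
  intro b hb
  rw [mem_F] at hb
  obtain ⟨_, h1, h2⟩ := hb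
  have hcs := cs_ineq b
  rw [h1, h2] at hcs
  exact absurd hcs (not_le.mpr h)

theorem card_F_succ (j : ℕ) (s q : ℤ) :
    (F (j + 1) s q).card = ∑ c ∈ Finset.Icc (-11 : ℤ) 11,
      if c * c ≤ q then (F j (s - c) (q - c * c)).card else 0 := by
  have hmap : ∀ b ∈ F (j + 1) s q, b 0 ∈ Finset.Icc (-11 : ℤ) 11 := by
    intro b hb
    rw [mem_F] at hb
    rw [Finset.mem_Icc]; exact hb.1 0
  rw [Finset.card_eq_sum_card_fiberwise hmap]
  refine Finset.sum_congr rfl fun c hc => ?_
  rw [Finset.mem_Icc] at hc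
  by_cases hcq : c * c ≤ q
  · rw [if_pos hcq]
    refine Finset.card_nbij' (fun b => Fin.tail b) (fun b' => Fin.cons c b') ?_ ?_ ?_ ?_
    · intro b hb
      rw [Finset.mem_coe, Finset.mem_filter, mem_F] at hb
      obtain ⟨⟨hbox, h1, h2⟩, h0⟩ := hb
      rw [Finset.mem_coe, mem_F]
      rw [Fin.sum_univ_succ, h0] at h1 h2
      refine ⟨fun i => hbox i.succ, ?_, ?_⟩
      · show ∑ i : Fin j, b i.succ = s - c
        linarith
      · show ∑ i : Fin j, b i.succ * b i.succ = q - c * c
        linarith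
    · intro b' hb'
      rw [Finset.mem_coe, mem_F] at hb'
      obtain ⟨hbox, h1, h2⟩ := hb'
      beta_reduce
      rw [Finset.mem_coe, Finset.mem_filter, mem_F]
      refine ⟨⟨?_, ?_, ?_⟩, Fin.cons_zero _ _⟩
      · intro i
        refine Fin.cases ?_ (fun i' => ?_) i
        · rw [Fin.cons_zero]; exact hc
        · rw [Fin.cons_succ]; exact hbox i'
      · rw [Fin.sum_univ_succ, Fin.cons_zero]
        simp only [Fin.cons_succ]
        linarith
      · rw [Fin.sum_univ_succ, Fin.cons_zero]
        simp only [Fin.cons_succ]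
        linarith
    · intro b hb
      rw [Finset.mem_coe, Finset.mem_filter] at hb
      show Fin.cons c (Fin.tail b) = b
      rw [← hb.2]
      exact Fin.cons_self_tail b
    · intro b' _
      show Fin.tail (Fin.cons c b' : Fin (j + 1) → ℤ) = b'
      funext i
      simp only [Fin.tail, Fin.cons_succ]
  · rw [if_neg hcq, Finset.card_eq_zero, Finset.eq_empty_iff_forall_notMem]
    intro b hb
    rw [Finset.mem_filter, mem_F] at hb
    obtain ⟨⟨_, _, h2⟩, h0⟩ := hb
    apply hcq
    rw [Fin.sum_univ_succ] at h2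
    have h3 : 0 ≤ ∑ i : Fin j, b i.succ * b i.succ :=
      Finset.sum_nonneg fun i _ => mul_self_nonneg _
    rw [← h0]; linarith

theorem card_F_eq_cnt : ∀ (j : ℕ) (s q : ℤ), (F j s q).card = cnt j s q := by
  intro j
  induction j with
  | zero => intro s q; rw [card_F_zero]; rfl
  | succ j ih =>
    intro s q
    rw [cnt]
    by_cases h : ((j : ℤ) + 1) * q < s * s
    · rw [if_pos h, F_empty_of_cs (by push_cast; exact h), Finset.card_empty]
    · rw [if_neg h, card_F_succ, hIcc, List.sum_toFinset _ cs_nodup]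
      simp only [ih]

def consEmb (δ : ℕ) (a : ℤ) : (Fin δ → ℤ) ↪ (Fin (δ + 1) → ℤ) :=
  ⟨fun b => Fin.cons a b, fun b b' h => by
    funext i
    have h1 := congrFun h i.succ
    simp only [Fin.cons_succ] at h1
    exact h1⟩

theorem conic_ncard (δ : ℕ) (hδ : δ ≤ 8) :
    {v : DP δ | IsConic v}.ncard = (as.map fun a => cnt δ (3 * a - 2) (a * a)).sum := by
  have key : {v : DP δ | IsConic v} =
      ↑((Finset.Icc (1 : ℤ) 11).biUnion fun a => (F δ (3 * a - 2) (a * a)).map
        (consEmb δ a)) := by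
    ext v
    rw [Set.mem_setOf_eq, Finset.mem_coe, Finset.mem_biUnion]
    constructor
    · rintro ⟨h1, h2⟩
      unfold form at h1 h2
      simp only [canon, Fin.cases_zero, Fin.cases_succ, neg_one_mul, Finset.sum_neg_distrib]
        at h2
      have hsum : ∑ i : Fin δ, v i.succ = 3 * v 0 - 2 := by linarith
      have hsq : ∑ i : Fin δ, v i.succ * v i.succ = v 0 * v 0 := by linarith
      have hcs := cs_ineq (fun i : Fin δ => v i.succ)
      rw [hsum, hsq] at hcs
      have hδ' : (δ : ℤ) ≤ 8 := by exact_mod_cast hδ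
      have h8 : (3 * v 0 - 2) * (3 * v 0 - 2) ≤ 8 * (v 0 * v 0) := by
        have : (δ : ℤ) * (v 0 * v 0) ≤ 8 * (v 0 * v 0) :=
          mul_le_mul_of_nonneg_right hδ' (mul_self_nonneg _)
        linarith
      have ha1 : 1 ≤ v 0 := by nlinarith
      have ha11 : v 0 ≤ 11 := by nlinarith
      have hbox : ∀ i : Fin δ, -11 ≤ v i.succ ∧ v i.succ ≤ 11 := by
        intro i
        have h5 : v i.succ * v i.succ ≤ ∑ j : Fin δ, v j.succ * v j.succ :=
          Finset.single_le_sum (f := fun j : Fin δ => v j.succ * v j.succ)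
            (fun j _ => mul_self_nonneg _) (Finset.mem_univ i)
        rw [hsq] at h5
        have h6 : v 0 * v 0 ≤ 121 := by nlinarith
        constructor <;> nlinarith
      refine ⟨v 0, Finset.mem_Icc.mpr ⟨ha1, ha11⟩, ?_⟩
      rw [Finset.mem_map]
      exact ⟨Fin.tail v, mem_F.mpr ⟨hbox, hsum, hsq⟩, Fin.cons_self_tail v⟩
    · rintro ⟨a, _, hv⟩
      rw [Finset.mem_map] at hv
      obtain ⟨b, hb, rfl⟩ := hv
      rw [mem_F] at hb
      obtain ⟨_, hs, hq⟩ := hb
      constructor
      · show form (Fin.cons a b : Fin (δ + 1) → ℤ) (Fin.cons a b) = 0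
        simp only [form, Fin.cons_zero, Fin.cons_succ]
        rw [hq]; ring
      · show form (canon δ) (Fin.cons a b : Fin (δ + 1) → ℤ) = -2
        simp only [form, canon, Fin.cases_zero, Fin.cases_succ, Fin.cons_zero, Fin.cons_succ,
          neg_one_mul, Finset.sum_neg_distrib]
        rw [hs]; ring
  rw [key, Set.ncard_coe_finset, Finset.card_biUnion]
  · simp only [Finset.card_map, card_F_eq_cnt]
    rw [hIcc1, List.sum_toFinset _ as_nodup]
  · intro a _ a' _ hne
    rw [Function.onFun, Finset.disjoint_left]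
    intro v hv hv'
    rw [Finset.mem_map] at hv hv'
    obtain ⟨b, _, rfl⟩ := hv
    obtain ⟨b', _, hb'⟩ := hv'
    apply hne
    have h0 := congrFun hb' 0
    simp only [consEmb, Function.Embedding.coeFn_mk, Fin.cons_zero] at h0
    exact h0.symm

set_option maxRecDepth 100000 in
theorem num8 : (as.map fun a => cnt 8 (3 * a - 2) (a * a)).sum = 2160 := by decide +kernel
set_option maxRecDepth 100000 in
theorem num7 : (as.map fun a => cnt 7 (3 * a - 2) (a * a)).sum = 126 := by decide +kernel
set_option maxRecDepth 100000 in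
theorem num6 : (as.map fun a => cnt 6 (3 * a - 2) (a * a)).sum = 27 := by decide +kernel
set_option maxRecDepth 100000 in
theorem num5 : (as.map fun a => cnt 5 (3 * a - 2) (a * a)).sum = 10 := by decide +kernel
set_option maxRecDepth 100000 in
theorem num4 : (as.map fun a => cnt 4 (3 * a - 2) (a * a)).sum = 5 := by decide +kernel
set_option maxRecDepth 100000 in
theorem num3 : (as.map fun a => cnt 3 (3 * a - 2) (a * a)).sum = 3 := by decide +kernel
set_option maxRecDepth 100000 in
theorem num2 : (as.map fun a => cnt 2 (3 * a - 2) (a * a)).sum = 2 := by decide +kernel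

end Aux



open W4c3severiratdp in
/-- Work in the lattice of vectors (a; b_1, …, b_δ), standing for divisor classes a ℓ − Σ b_i e_i on the
blow-up of the projective plane at δ points written in a standard basis, with intersection form a a'
− Σ b_i b_i' and canonical class K = (−3; −1, …, −1); a conic class is a class Q with Q·Q = 0 and
K·Q = −2. Then the number of conic classes is 2160 for δ = 8, 126 for δ = 7, 27 for δ = 6, 10 for δ
= 5, 5 for δ = 4, 3 for δ = 3 and 2 for δ = 2. -/
theorem result :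
    {v : DP 8 | IsConic v}.ncard = 2160 ∧ {v : DP 7 | IsConic v}.ncard = 126 ∧
      {v : DP 6 | IsConic v}.ncard = 27 ∧ {v : DP 5 | IsConic v}.ncard = 10 ∧
      {v : DP 4 | IsConic v}.ncard = 5 ∧ {v : DP 3 | IsConic v}.ncard = 3 ∧
      {v : DP 2 | IsConic v}.ncard = 2 := by
  refine ⟨?_, ?_, ?_, ?_, ?_, ?_, ?_⟩
  · rw [conic_ncard 8 (by norm_num)]; exact num8
  · rw [conic_ncard 7 (by norm_num)]; exact num7
  · rw [conic_ncard 6 (by norm_num)]; exact num6
  · rw [conic_ncard 5 (by norm_num)]; exact num5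
  · rw [conic_ncard 4 (by norm_num)]; exact num4
  · rw [conic_ncard 3 (by norm_num)]; exact num3
  · rw [conic_ncard 2 (by norm_num)]; exact num2


end Groth.Agent.S15905
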