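import Groth.Statements.S15906
import Mathlib.Data.Fin.Tuple.Sort
import Mathlib.Tactic.IntervalCases
import Mathlib.Tactic.Linarith
import Mathlib.Tactic.FinCases
-- import your own Groth.Agent.* helpers here

set_option autoImplicit false
open Surf

namespace Groth.Agent.S15906
section Helpers
open W4c3severiratdp
set_option linter.unnecessarySeqFocus false

theorem sqcases (x m : ℤ) (h : m - 2 ≤ x ∧ x ≤ m + 2) :
    (x = m - 2 ∧ x * x = (m - 2) * (m - 2)) ∨ (x = m - 1 ∧ x * x = (m - 1) * (m - 1)) ∨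
    (x = m ∧ x * x = m * m) ∨ (x = m + 1 ∧ x * x = (m + 1) * (m + 1)) ∨
    (x = m + 2 ∧ x * x = (m + 2) * (m + 2)) := by
  have : x = m - 2 ∨ x = m - 1 ∨ x = m ∨ x = m + 1 ∨ x = m + 2 := by omega
  rcases this with h | h | h | h | h <;> subst h <;> simp

theorem bound (m x N : ℤ) (h : (x - m) * (x - m) ≤ N) (hN : N ≤ 8) : m - 2 ≤ x ∧ x ≤ m + 2 := by
  constructor <;> nlinarith

theorem sq8 (m N : ℤ) (hN8 : N ≤ 8) (c0 c1 c2 c3 c4 c5 c6 c7 : ℤ)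
    (hN : (c0-m)*(c0-m) + (c1-m)*(c1-m) + (c2-m)*(c2-m) + (c3-m)*(c3-m) + (c4-m)*(c4-m)
      + (c5-m)*(c5-m) + (c6-m)*(c6-m) + (c7-m)*(c7-m) = N) :
    (m - 2 ≤ c0 ∧ c0 ≤ m + 2) ∧ (m - 2 ≤ c1 ∧ c1 ≤ m + 2) ∧ (m - 2 ≤ c2 ∧ c2 ≤ m + 2) ∧
    (m - 2 ≤ c3 ∧ c3 ≤ m + 2) ∧ (m - 2 ≤ c4 ∧ c4 ≤ m + 2) ∧ (m - 2 ≤ c5 ∧ c5 ≤ m + 2) ∧
    (m - 2 ≤ c6 ∧ c6 ≤ m + 2) ∧ (m - 2 ≤ c7 ∧ c7 ≤ m + 2) := by
  have p0 := mul_self_nonneg (c0 - m)
  have p1 := mul_self_nonneg (c1 - m)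
  have p2 := mul_self_nonneg (c2 - m)
  have p3 := mul_self_nonneg (c3 - m)
  have p4 := mul_self_nonneg (c4 - m)
  have p5 := mul_self_nonneg (c5 - m)
  have p6 := mul_self_nonneg (c6 - m)
  have p7 := mul_self_nonneg (c7 - m)
  exact ⟨bound m c0 N (by linarith) hN8, bound m c1 N (by linarith) hN8,
    bound m c2 N (by linarith) hN8, bound m c3 N (by linarith) hN8,
    bound m c4 N (by linarith) hN8, bound m c5 N (by linarith) hN8,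
    bound m c6 N (by linarith) hN8, bound m c7 N (by linarith) hN8⟩

theorem classify (a c0 c1 c2 c3 c4 c5 c6 c7 : ℤ) (h10 : c1 ≤ c0) (h21 : c2 ≤ c1) (h32 : c3 ≤ c2)
    (h43 : c4 ≤ c3) (h54 : c5 ≤ c4) (h65 : c6 ≤ c5) (h76 : c7 ≤ c6)
    (hs : c0 + c1 + c2 + c3 + c4 + c5 + c6 + c7 = 3 * a - 2)
    (hq : c0*c0 + c1*c1 + c2*c2 + c3*c3 + c4*c4 + c5*c5 + c6*c6 + c7*c7 = a * a) :
    (a = 1 ∧ c0 = 1 ∧ c1 = 0 ∧ c2 = 0 ∧ c3 = 0 ∧ c4 = 0 ∧ c5 = 0 ∧ c6 = 0 ∧ c7 = 0) ∨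
    (a = 2 ∧ c0 = 1 ∧ c1 = 1 ∧ c2 = 1 ∧ c3 = 1 ∧ c4 = 0 ∧ c5 = 0 ∧ c6 = 0 ∧ c7 = 0) ∨
    (a = 3 ∧ c0 = 2 ∧ c1 = 1 ∧ c2 = 1 ∧ c3 = 1 ∧ c4 = 1 ∧ c5 = 1 ∧ c6 = 0 ∧ c7 = 0) ∨
    (a = 4 ∧ c0 = 2 ∧ c1 = 2 ∧ c2 = 2 ∧ c3 = 1 ∧ c4 = 1 ∧ c5 = 1 ∧ c6 = 1 ∧ c7 = 0) ∨
    (a = 4 ∧ c0 = 3 ∧ c1 = 1 ∧ c2 = 1 ∧ c3 = 1 ∧ c4 = 1 ∧ c5 = 1 ∧ c6 = 1 ∧ c7 = 1) ∨
    (a = 5 ∧ c0 = 2 ∧ c1 = 2 ∧ c2 = 2 ∧ c3 = 2 ∧ c4 = 2 ∧ c5 = 2 ∧ c6 = 1 ∧ c7 = 0) ∨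
    (a = 5 ∧ c0 = 3 ∧ c1 = 2 ∧ c2 = 2 ∧ c3 = 2 ∧ c4 = 1 ∧ c5 = 1 ∧ c6 = 1 ∧ c7 = 1) ∨
    (a = 6 ∧ c0 = 3 ∧ c1 = 3 ∧ c2 = 2 ∧ c3 = 2 ∧ c4 = 2 ∧ c5 = 2 ∧ c6 = 1 ∧ c7 = 1) ∨
    (a = 7 ∧ c0 = 3 ∧ c1 = 3 ∧ c2 = 3 ∧ c3 = 3 ∧ c4 = 2 ∧ c5 = 2 ∧ c6 = 2 ∧ c7 = 1) ∨
    (a = 7 ∧ c0 = 4 ∧ c1 = 3 ∧ c2 = 2 ∧ c3 = 2 ∧ c4 = 2 ∧ c5 = 2 ∧ c6 = 2 ∧ c7 = 2) ∨
    (a = 8 ∧ c0 = 4 ∧ c1 = 3 ∧ c2 = 3 ∧ c3 = 3 ∧ c4 = 3 ∧ c5 = 2 ∧ c6 = 2 ∧ c7 = 2) ∨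
    (a = 8 ∧ c0 = 3 ∧ c1 = 3 ∧ c2 = 3 ∧ c3 = 3 ∧ c4 = 3 ∧ c5 = 3 ∧ c6 = 3 ∧ c7 = 1) ∨
    (a = 9 ∧ c0 = 4 ∧ c1 = 4 ∧ c2 = 3 ∧ c3 = 3 ∧ c4 = 3 ∧ c5 = 3 ∧ c6 = 3 ∧ c7 = 2) ∨
    (a = 10 ∧ c0 = 4 ∧ c1 = 4 ∧ c2 = 4 ∧ c3 = 4 ∧ c4 = 3 ∧ c5 = 3 ∧ c6 = 3 ∧ c7 = 3) ∨
    (a = 11 ∧ c0 = 4 ∧ c1 = 4 ∧ c2 = 4 ∧ c3 = 4 ∧ c4 = 4 ∧ c5 = 4 ∧ c6 = 4 ∧ c7 = 3) := by
  have h16 : (3*a-2) * (c0 + c1 + c2 + c3 + c4 + c5 + c6 + c7) = (3*a-2)*(3*a-2) := by rw [hs]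
  have hcs : 0 ≤ 64*(a*a) - 8*((3*a-2)*(3*a-2)) := by
    nlinarith [mul_self_nonneg (8*c0 - (3*a-2)), mul_self_nonneg (8*c1 - (3*a-2)),
      mul_self_nonneg (8*c2 - (3*a-2)), mul_self_nonneg (8*c3 - (3*a-2)),
      mul_self_nonneg (8*c4 - (3*a-2)), mul_self_nonneg (8*c5 - (3*a-2)),
      mul_self_nonneg (8*c6 - (3*a-2)), mul_self_nonneg (8*c7 - (3*a-2))]
  have ha1 : 1 ≤ a := by nlinarith [mul_self_nonneg a]
  have ha2 : a ≤ 11 := by nlinarith [mul_self_nonneg a]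
  clear h16 hcs
  interval_cases a
  · have hN : (c0-0)*(c0-0) + (c1-0)*(c1-0) + (c2-0)*(c2-0) + (c3-0)*(c3-0) + (c4-0)*(c4-0) + (c5-0)*(c5-0) + (c6-0)*(c6-0) + (c7-0)*(c7-0) = 1 := by linarith
    obtain ⟨⟨l0, u0⟩, ⟨l1, u1⟩, ⟨l2, u2⟩, ⟨l3, u3⟩, ⟨l4, u4⟩, ⟨l5, u5⟩, ⟨l6, u6⟩, ⟨l7, u7⟩⟩ :=
      sq8 0 1 (by norm_num) c0 c1 c2 c3 c4 c5 c6 c7 hN
    have p0 := mul_self_nonneg (c0 - 0)
    have p1 := mul_self_nonneg (c1 - 0)
    have p2 := mul_self_nonneg (c2 - 0)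
    have p3 := mul_self_nonneg (c3 - 0)
    have p4 := mul_self_nonneg (c4 - 0)
    have p5 := mul_self_nonneg (c5 - 0)
    have p6 := mul_self_nonneg (c6 - 0)
    have p7 := mul_self_nonneg (c7 - 0)
    clear hq
    interval_cases c0 <;> (try (exfalso; omega)) <;> interval_cases c1 <;> (try (exfalso; omega)) <;>
    interval_cases c2 <;> (try (exfalso; omega)) <;> interval_cases c3 <;> (try (exfalso; omega)) <;>
    interval_cases c4 <;> (try (exfalso; omega)) <;> interval_cases c5 <;> (try (exfalso; omega)) <;>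
    interval_cases c6 <;> (try (exfalso; omega)) <;> interval_cases c7 <;> first | (exfalso; omega) | simp
  · have hN : (c0-1)*(c0-1) + (c1-1)*(c1-1) + (c2-1)*(c2-1) + (c3-1)*(c3-1) + (c4-1)*(c4-1) + (c5-1)*(c5-1) + (c6-1)*(c6-1) + (c7-1)*(c7-1) = 4 := by linarith
    obtain ⟨⟨l0, u0⟩, ⟨l1, u1⟩, ⟨l2, u2⟩, ⟨l3, u3⟩, ⟨l4, u4⟩, ⟨l5, u5⟩, ⟨l6, u6⟩, ⟨l7, u7⟩⟩ :=
      sq8 1 4 (by norm_num) c0 c1 c2 c3 c4 c5 c6 c7 hN
    have p0 := mul_self_nonneg (c0 - 1)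
    have p1 := mul_self_nonneg (c1 - 1)
    have p2 := mul_self_nonneg (c2 - 1)
    have p3 := mul_self_nonneg (c3 - 1)
    have p4 := mul_self_nonneg (c4 - 1)
    have p5 := mul_self_nonneg (c5 - 1)
    have p6 := mul_self_nonneg (c6 - 1)
    have p7 := mul_self_nonneg (c7 - 1)
    clear hq
    interval_cases c0 <;> (try (exfalso; omega)) <;> interval_cases c1 <;> (try (exfalso; omega)) <;>
    interval_cases c2 <;> (try (exfalso; omega)) <;> interval_cases c3 <;> (try (exfalso; omega)) <;>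
    interval_cases c4 <;> (try (exfalso; omega)) <;> interval_cases c5 <;> (try (exfalso; omega)) <;>
    interval_cases c6 <;> (try (exfalso; omega)) <;> interval_cases c7 <;> first | (exfalso; omega) | simp
  · have hN : (c0-1)*(c0-1) + (c1-1)*(c1-1) + (c2-1)*(c2-1) + (c3-1)*(c3-1) + (c4-1)*(c4-1) + (c5-1)*(c5-1) + (c6-1)*(c6-1) + (c7-1)*(c7-1) = 3 := by linarith
    obtain ⟨⟨l0, u0⟩, ⟨l1, u1⟩, ⟨l2, u2⟩, ⟨l3, u3⟩, ⟨l4, u4⟩, ⟨l5, u5⟩, ⟨l6, u6⟩, ⟨l7, u7⟩⟩ :=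
      sq8 1 3 (by norm_num) c0 c1 c2 c3 c4 c5 c6 c7 hN
    have p0 := mul_self_nonneg (c0 - 1)
    have p1 := mul_self_nonneg (c1 - 1)
    have p2 := mul_self_nonneg (c2 - 1)
    have p3 := mul_self_nonneg (c3 - 1)
    have p4 := mul_self_nonneg (c4 - 1)
    have p5 := mul_self_nonneg (c5 - 1)
    have p6 := mul_self_nonneg (c6 - 1)
    have p7 := mul_self_nonneg (c7 - 1)
    clear hq
    interval_cases c0 <;> (try (exfalso; omega)) <;> interval_cases c1 <;> (try (exfalso; omega)) <;>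
    interval_cases c2 <;> (try (exfalso; omega)) <;> interval_cases c3 <;> (try (exfalso; omega)) <;>
    interval_cases c4 <;> (try (exfalso; omega)) <;> interval_cases c5 <;> (try (exfalso; omega)) <;>
    interval_cases c6 <;> (try (exfalso; omega)) <;> interval_cases c7 <;> first | (exfalso; omega) | simp
  · have hN : (c0-1)*(c0-1) + (c1-1)*(c1-1) + (c2-1)*(c2-1) + (c3-1)*(c3-1) + (c4-1)*(c4-1) + (c5-1)*(c5-1) + (c6-1)*(c6-1) + (c7-1)*(c7-1) = 4 := by linarith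
    obtain ⟨⟨l0, u0⟩, ⟨l1, u1⟩, ⟨l2, u2⟩, ⟨l3, u3⟩, ⟨l4, u4⟩, ⟨l5, u5⟩, ⟨l6, u6⟩, ⟨l7, u7⟩⟩ :=
      sq8 1 4 (by norm_num) c0 c1 c2 c3 c4 c5 c6 c7 hN
    have p0 := mul_self_nonneg (c0 - 1)
    have p1 := mul_self_nonneg (c1 - 1)
    have p2 := mul_self_nonneg (c2 - 1)
    have p3 := mul_self_nonneg (c3 - 1)
    have p4 := mul_self_nonneg (c4 - 1)
    have p5 := mul_self_nonneg (c5 - 1)
    have p6 := mul_self_nonneg (c6 - 1)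
    have p7 := mul_self_nonneg (c7 - 1)
    clear hq
    interval_cases c0 <;> (try (exfalso; omega)) <;> interval_cases c1 <;> (try (exfalso; omega)) <;>
    interval_cases c2 <;> (try (exfalso; omega)) <;> interval_cases c3 <;> (try (exfalso; omega)) <;>
    interval_cases c4 <;> (try (exfalso; omega)) <;> interval_cases c5 <;> (try (exfalso; omega)) <;>
    interval_cases c6 <;> (try (exfalso; omega)) <;> interval_cases c7 <;> first | (exfalso; omega) | simp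
  · have hN : (c0-2)*(c0-2) + (c1-2)*(c1-2) + (c2-2)*(c2-2) + (c3-2)*(c3-2) + (c4-2)*(c4-2) + (c5-2)*(c5-2) + (c6-2)*(c6-2) + (c7-2)*(c7-2) = 5 := by linarith
    obtain ⟨⟨l0, u0⟩, ⟨l1, u1⟩, ⟨l2, u2⟩, ⟨l3, u3⟩, ⟨l4, u4⟩, ⟨l5, u5⟩, ⟨l6, u6⟩, ⟨l7, u7⟩⟩ :=
      sq8 2 5 (by norm_num) c0 c1 c2 c3 c4 c5 c6 c7 hN
    have p0 := mul_self_nonneg (c0 - 2)
    have p1 := mul_self_nonneg (c1 - 2)
    have p2 := mul_self_nonneg (c2 - 2)
    have p3 := mul_self_nonneg (c3 - 2)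
    have p4 := mul_self_nonneg (c4 - 2)
    have p5 := mul_self_nonneg (c5 - 2)
    have p6 := mul_self_nonneg (c6 - 2)
    have p7 := mul_self_nonneg (c7 - 2)
    clear hq
    interval_cases c0 <;> (try (exfalso; omega)) <;> interval_cases c1 <;> (try (exfalso; omega)) <;>
    interval_cases c2 <;> (try (exfalso; omega)) <;> interval_cases c3 <;> (try (exfalso; omega)) <;>
    interval_cases c4 <;> (try (exfalso; omega)) <;> interval_cases c5 <;> (try (exfalso; omega)) <;>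
    interval_cases c6 <;> (try (exfalso; omega)) <;> interval_cases c7 <;> first | (exfalso; omega) | simp
  · have hN : (c0-2)*(c0-2) + (c1-2)*(c1-2) + (c2-2)*(c2-2) + (c3-2)*(c3-2) + (c4-2)*(c4-2) + (c5-2)*(c5-2) + (c6-2)*(c6-2) + (c7-2)*(c7-2) = 4 := by linarith
    obtain ⟨⟨l0, u0⟩, ⟨l1, u1⟩, ⟨l2, u2⟩, ⟨l3, u3⟩, ⟨l4, u4⟩, ⟨l5, u5⟩, ⟨l6, u6⟩, ⟨l7, u7⟩⟩ :=
      sq8 2 4 (by norm_num) c0 c1 c2 c3 c4 c5 c6 c7 hN
    have p0 := mul_self_nonneg (c0 - 2)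
    have p1 := mul_self_nonneg (c1 - 2)
    have p2 := mul_self_nonneg (c2 - 2)
    have p3 := mul_self_nonneg (c3 - 2)
    have p4 := mul_self_nonneg (c4 - 2)
    have p5 := mul_self_nonneg (c5 - 2)
    have p6 := mul_self_nonneg (c6 - 2)
    have p7 := mul_self_nonneg (c7 - 2)
    clear hq
    interval_cases c0 <;> (try (exfalso; omega)) <;> interval_cases c1 <;> (try (exfalso; omega)) <;>
    interval_cases c2 <;> (try (exfalso; omega)) <;> interval_cases c3 <;> (try (exfalso; omega)) <;>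
    interval_cases c4 <;> (try (exfalso; omega)) <;> interval_cases c5 <;> (try (exfalso; omega)) <;>
    interval_cases c6 <;> (try (exfalso; omega)) <;> interval_cases c7 <;> first | (exfalso; omega) | simp
  · have hN : (c0-2)*(c0-2) + (c1-2)*(c1-2) + (c2-2)*(c2-2) + (c3-2)*(c3-2) + (c4-2)*(c4-2) + (c5-2)*(c5-2) + (c6-2)*(c6-2) + (c7-2)*(c7-2) = 5 := by linarith
    obtain ⟨⟨l0, u0⟩, ⟨l1, u1⟩, ⟨l2, u2⟩, ⟨l3, u3⟩, ⟨l4, u4⟩, ⟨l5, u5⟩, ⟨l6, u6⟩, ⟨l7, u7⟩⟩ :=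
      sq8 2 5 (by norm_num) c0 c1 c2 c3 c4 c5 c6 c7 hN
    have p0 := mul_self_nonneg (c0 - 2)
    have p1 := mul_self_nonneg (c1 - 2)
    have p2 := mul_self_nonneg (c2 - 2)
    have p3 := mul_self_nonneg (c3 - 2)
    have p4 := mul_self_nonneg (c4 - 2)
    have p5 := mul_self_nonneg (c5 - 2)
    have p6 := mul_self_nonneg (c6 - 2)
    have p7 := mul_self_nonneg (c7 - 2)
    clear hq
    interval_cases c0 <;> (try (exfalso; omega)) <;> interval_cases c1 <;> (try (exfalso; omega)) <;>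
    interval_cases c2 <;> (try (exfalso; omega)) <;> interval_cases c3 <;> (try (exfalso; omega)) <;>
    interval_cases c4 <;> (try (exfalso; omega)) <;> interval_cases c5 <;> (try (exfalso; omega)) <;>
    interval_cases c6 <;> (try (exfalso; omega)) <;> interval_cases c7 <;> first | (exfalso; omega) | simp
  · have hN : (c0-3)*(c0-3) + (c1-3)*(c1-3) + (c2-3)*(c2-3) + (c3-3)*(c3-3) + (c4-3)*(c4-3) + (c5-3)*(c5-3) + (c6-3)*(c6-3) + (c7-3)*(c7-3) = 4 := by linarith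
    obtain ⟨⟨l0, u0⟩, ⟨l1, u1⟩, ⟨l2, u2⟩, ⟨l3, u3⟩, ⟨l4, u4⟩, ⟨l5, u5⟩, ⟨l6, u6⟩, ⟨l7, u7⟩⟩ :=
      sq8 3 4 (by norm_num) c0 c1 c2 c3 c4 c5 c6 c7 hN
    have p0 := mul_self_nonneg (c0 - 3)
    have p1 := mul_self_nonneg (c1 - 3)
    have p2 := mul_self_nonneg (c2 - 3)
    have p3 := mul_self_nonneg (c3 - 3)
    have p4 := mul_self_nonneg (c4 - 3)
    have p5 := mul_self_nonneg (c5 - 3)
    have p6 := mul_self_nonneg (c6 - 3)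
    have p7 := mul_self_nonneg (c7 - 3)
    clear hq
    interval_cases c0 <;> (try (exfalso; omega)) <;> interval_cases c1 <;> (try (exfalso; omega)) <;>
    interval_cases c2 <;> (try (exfalso; omega)) <;> interval_cases c3 <;> (try (exfalso; omega)) <;>
    interval_cases c4 <;> (try (exfalso; omega)) <;> interval_cases c5 <;> (try (exfalso; omega)) <;>
    interval_cases c6 <;> (try (exfalso; omega)) <;> interval_cases c7 <;> first | (exfalso; omega) | simp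
  · have hN : (c0-3)*(c0-3) + (c1-3)*(c1-3) + (c2-3)*(c2-3) + (c3-3)*(c3-3) + (c4-3)*(c4-3) + (c5-3)*(c5-3) + (c6-3)*(c6-3) + (c7-3)*(c7-3) = 3 := by linarith
    obtain ⟨⟨l0, u0⟩, ⟨l1, u1⟩, ⟨l2, u2⟩, ⟨l3, u3⟩, ⟨l4, u4⟩, ⟨l5, u5⟩, ⟨l6, u6⟩, ⟨l7, u7⟩⟩ :=
      sq8 3 3 (by norm_num) c0 c1 c2 c3 c4 c5 c6 c7 hN
    have p0 := mul_self_nonneg (c0 - 3)
    have p1 := mul_self_nonneg (c1 - 3)
    have p2 := mul_self_nonneg (c2 - 3)
    have p3 := mul_self_nonneg (c3 - 3)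
    have p4 := mul_self_nonneg (c4 - 3)
    have p5 := mul_self_nonneg (c5 - 3)
    have p6 := mul_self_nonneg (c6 - 3)
    have p7 := mul_self_nonneg (c7 - 3)
    clear hq
    interval_cases c0 <;> (try (exfalso; omega)) <;> interval_cases c1 <;> (try (exfalso; omega)) <;>
    interval_cases c2 <;> (try (exfalso; omega)) <;> interval_cases c3 <;> (try (exfalso; omega)) <;>
    interval_cases c4 <;> (try (exfalso; omega)) <;> interval_cases c5 <;> (try (exfalso; omega)) <;>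
    interval_cases c6 <;> (try (exfalso; omega)) <;> interval_cases c7 <;> first | (exfalso; omega) | simp
  · have hN : (c0-3)*(c0-3) + (c1-3)*(c1-3) + (c2-3)*(c2-3) + (c3-3)*(c3-3) + (c4-3)*(c4-3) + (c5-3)*(c5-3) + (c6-3)*(c6-3) + (c7-3)*(c7-3) = 4 := by linarith
    obtain ⟨⟨l0, u0⟩, ⟨l1, u1⟩, ⟨l2, u2⟩, ⟨l3, u3⟩, ⟨l4, u4⟩, ⟨l5, u5⟩, ⟨l6, u6⟩, ⟨l7, u7⟩⟩ :=
      sq8 3 4 (by norm_num) c0 c1 c2 c3 c4 c5 c6 c7 hN
    have p0 := mul_self_nonneg (c0 - 3)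
    have p1 := mul_self_nonneg (c1 - 3)
    have p2 := mul_self_nonneg (c2 - 3)
    have p3 := mul_self_nonneg (c3 - 3)
    have p4 := mul_self_nonneg (c4 - 3)
    have p5 := mul_self_nonneg (c5 - 3)
    have p6 := mul_self_nonneg (c6 - 3)
    have p7 := mul_self_nonneg (c7 - 3)
    clear hq
    interval_cases c0 <;> (try (exfalso; omega)) <;> interval_cases c1 <;> (try (exfalso; omega)) <;>
    interval_cases c2 <;> (try (exfalso; omega)) <;> interval_cases c3 <;> (try (exfalso; omega)) <;>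
    interval_cases c4 <;> (try (exfalso; omega)) <;> interval_cases c5 <;> (try (exfalso; omega)) <;>
    interval_cases c6 <;> (try (exfalso; omega)) <;> interval_cases c7 <;> first | (exfalso; omega) | simp
  · have hN : (c0-4)*(c0-4) + (c1-4)*(c1-4) + (c2-4)*(c2-4) + (c3-4)*(c3-4) + (c4-4)*(c4-4) + (c5-4)*(c5-4) + (c6-4)*(c6-4) + (c7-4)*(c7-4) = 1 := by linarith
    obtain ⟨⟨l0, u0⟩, ⟨l1, u1⟩, ⟨l2, u2⟩, ⟨l3, u3⟩, ⟨l4, u4⟩, ⟨l5, u5⟩, ⟨l6, u6⟩, ⟨l7, u7⟩⟩ :=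
      sq8 4 1 (by norm_num) c0 c1 c2 c3 c4 c5 c6 c7 hN
    have p0 := mul_self_nonneg (c0 - 4)
    have p1 := mul_self_nonneg (c1 - 4)
    have p2 := mul_self_nonneg (c2 - 4)
    have p3 := mul_self_nonneg (c3 - 4)
    have p4 := mul_self_nonneg (c4 - 4)
    have p5 := mul_self_nonneg (c5 - 4)
    have p6 := mul_self_nonneg (c6 - 4)
    have p7 := mul_self_nonneg (c7 - 4)
    clear hq
    interval_cases c0 <;> (try (exfalso; omega)) <;> interval_cases c1 <;> (try (exfalso; omega)) <;>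
    interval_cases c2 <;> (try (exfalso; omega)) <;> interval_cases c3 <;> (try (exfalso; omega)) <;>
    interval_cases c4 <;> (try (exfalso; omega)) <;> interval_cases c5 <;> (try (exfalso; omega)) <;>
    interval_cases c6 <;> (try (exfalso; omega)) <;> interval_cases c7 <;> first | (exfalso; omega) | simp

end Helpers


open W4c3severiratdp in
/-- Work in the lattice of vectors (a; b_1, …, b_δ), standing for divisor classes a ℓ − Σ b_i e_i on the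
blow-up of the projective plane at δ points written in a standard basis, with intersection form a a'
− Σ b_i b_i' and canonical class K = (−3; −1, …, −1); a conic class is a class Q with Q·Q = 0 and
K·Q = −2, an exceptional class (the class of a (−1)-curve) is a class E with E·E = −1 and K·E = −1,
and the Weyl group W_δ is the group of additive automorphisms of the lattice preserving the form and
fixing K. For δ = 8, a class (a; b_1, …, b_8) is a conic class if and only if, up to a permutation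
of b_1, …, b_8, it is one of the fifteen vectors (1; 1, 0, 0, 0, 0, 0, 0, 0), (2; 1, 1, 1, 1, 0, 0,
0, 0), (3; 2, 1, 1, 1, 1, 1, 0, 0), (4; 2, 2, 2, 1, 1, 1, 1, 0), (4; 3, 1, 1, 1, 1, 1, 1, 1), (5; 2,
2, 2, 2, 2, 2, 1, 0), (5; 3, 2, 2, 2, 1, 1, 1, 1), (6; 3, 3, 2, 2, 2, 2, 1, 1), (7; 3, 3, 3, 3, 2,
2, 2, 1), (7; 4, 3, 2, 2, 2, 2, 2, 2), (8; 4, 3, 3, 3, 3, 2, 2, 2), (8; 3, 3, 3, 3, 3, 3, 3, 1), (9;
4, 4, 3, 3, 3, 3, 3, 2), (10; 4, 4, 4, 4, 3, 3, 3, 3), (11; 4, 4, 4, 4, 4, 4, 4, 3). (One line of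
the published table is illegible in the available copy; the fifteen vectors here are the complete
solution set of the two defining equations a² = Σ b_i², 3a − Σ b_i = 2.) -/
theorem result (v : DP 8) :
    IsConic v ↔
      ∃ t ∈ ({![1, 1, 0, 0, 0, 0, 0, 0, 0],
        ![2, 1, 1, 1, 1, 0, 0, 0, 0],
        ![3, 2, 1, 1, 1, 1, 1, 0, 0],
        ![4, 2, 2, 2, 1, 1, 1, 1, 0],
        ![4, 3, 1, 1, 1, 1, 1, 1, 1],
        ![5, 2, 2, 2, 2, 2, 2, 1, 0],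
        ![5, 3, 2, 2, 2, 1, 1, 1, 1],
        ![6, 3, 3, 2, 2, 2, 2, 1, 1],
        ![7, 3, 3, 3, 3, 2, 2, 2, 1],
        ![7, 4, 3, 2, 2, 2, 2, 2, 2],
        ![8, 4, 3, 3, 3, 3, 2, 2, 2],
        ![8, 3, 3, 3, 3, 3, 3, 3, 1],
        ![9, 4, 4, 3, 3, 3, 3, 3, 2],
        ![10, 4, 4, 4, 4, 3, 3, 3, 3],
        ![11, 4, 4, 4, 4, 4, 4, 4, 3]} : Set (DP 8)),
        ∃ σ : Equiv.Perm (Fin 8), v 0 = t 0 ∧ ∀ i : Fin 8, v (σ i).succ = t i.succ := by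
  constructor
  · rintro ⟨h1, h2⟩
    have hmono := Tuple.monotone_sort (fun i : Fin 8 => - v i.succ)
    obtain ⟨σ, hσ⟩ : ∃ σ : Equiv.Perm (Fin 8), σ = Tuple.sort (fun i : Fin 8 => - v i.succ) := ⟨_, rfl⟩
    rw [← hσ] at hmono
    have hs : ∑ i : Fin 8, v (σ i).succ = ∑ i : Fin 8, v i.succ := Equiv.sum_comp σ (fun i => v i.succ)
    have hq : ∑ i : Fin 8, v (σ i).succ * v (σ i).succ = ∑ i : Fin 8, v i.succ * v i.succ :=
      Equiv.sum_comp σ (fun i => v i.succ * v i.succ)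
    simp only [form, canon, Fin.cases_zero, Fin.cases_succ] at h1 h2
    rw [← Finset.mul_sum, ← hs] at h2
    rw [← hq] at h1
    rw [Fin.sum_univ_eight] at h1 h2
    have m (i j : Fin 8) (hij : i ≤ j) : v (σ j).succ ≤ v (σ i).succ := by
      have := hmono hij
      simpa using this
    have key := classify (v 0) (v (σ 0).succ) (v (σ 1).succ) (v (σ 2).succ) (v (σ 3).succ)
      (v (σ 4).succ) (v (σ 5).succ) (v (σ 6).succ) (v (σ 7).succ)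
      (m 0 1 (by decide)) (m 1 2 (by decide)) (m 2 3 (by decide)) (m 3 4 (by decide))
      (m 4 5 (by decide)) (m 5 6 (by decide)) (m 6 7 (by decide)) (by linarith) (by linarith)
    rcases key with ⟨k0, k1, k2, k3, k4, k5, k6, k7, k8⟩ |
      ⟨k0, k1, k2, k3, k4, k5, k6, k7, k8⟩ |
      ⟨k0, k1, k2, k3, k4, k5, k6, k7, k8⟩ |
      ⟨k0, k1, k2, k3, k4, k5, k6, k7, k8⟩ |
      ⟨k0, k1, k2, k3, k4, k5, k6, k7, k8⟩ |
      ⟨k0, k1, k2, k3, k4, k5, k6, k7, k8⟩ |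
      ⟨k0, k1, k2, k3, k4, k5, k6, k7, k8⟩ |
      ⟨k0, k1, k2, k3, k4, k5, k6, k7, k8⟩ |
      ⟨k0, k1, k2, k3, k4, k5, k6, k7, k8⟩ |
      ⟨k0, k1, k2, k3, k4, k5, k6, k7, k8⟩ |
      ⟨k0, k1, k2, k3, k4, k5, k6, k7, k8⟩ |
      ⟨k0, k1, k2, k3, k4, k5, k6, k7, k8⟩ |
      ⟨k0, k1, k2, k3, k4, k5, k6, k7, k8⟩ |
      ⟨k0, k1, k2, k3, k4, k5, k6, k7, k8⟩ |
      ⟨k0, k1, k2, k3, k4, k5, k6, k7, k8⟩
    · exact ⟨![1, 1, 0, 0, 0, 0, 0, 0, 0], Or.inl rfl, σ, k0, fun i => by fin_cases i <;> assumption⟩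
    · exact ⟨![2, 1, 1, 1, 1, 0, 0, 0, 0], Or.inr (Or.inl rfl), σ, k0, fun i => by fin_cases i <;> assumption⟩
    · exact ⟨![3, 2, 1, 1, 1, 1, 1, 0, 0], Or.inr (Or.inr (Or.inl rfl)), σ, k0, fun i => by fin_cases i <;> assumption⟩
    · exact ⟨![4, 2, 2, 2, 1, 1, 1, 1, 0], Or.inr (Or.inr (Or.inr (Or.inl rfl))), σ, k0, fun i => by fin_cases i <;> assumption⟩
    · exact ⟨![4, 3, 1, 1, 1, 1, 1, 1, 1], Or.inr (Or.inr (Or.inr (Or.inr (Or.inl rfl)))), σ, k0, fun i => by fin_cases i <;> assumption⟩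
    · exact ⟨![5, 2, 2, 2, 2, 2, 2, 1, 0], Or.inr (Or.inr (Or.inr (Or.inr (Or.inr (Or.inl rfl))))), σ, k0, fun i => by fin_cases i <;> assumption⟩
    · exact ⟨![5, 3, 2, 2, 2, 1, 1, 1, 1], Or.inr (Or.inr (Or.inr (Or.inr (Or.inr (Or.inr (Or.inl rfl)))))), σ, k0, fun i => by fin_cases i <;> assumption⟩
    · exact ⟨![6, 3, 3, 2, 2, 2, 2, 1, 1], Or.inr (Or.inr (Or.inr (Or.inr (Or.inr (Or.inr (Or.inr (Or.inl rfl))))))), σ, k0, fun i => by fin_cases i <;> assumption⟩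
    · exact ⟨![7, 3, 3, 3, 3, 2, 2, 2, 1], Or.inr (Or.inr (Or.inr (Or.inr (Or.inr (Or.inr (Or.inr (Or.inr (Or.inl rfl)))))))), σ, k0, fun i => by fin_cases i <;> assumption⟩
    · exact ⟨![7, 4, 3, 2, 2, 2, 2, 2, 2], Or.inr (Or.inr (Or.inr (Or.inr (Or.inr (Or.inr (Or.inr (Or.inr (Or.inr (Or.inl rfl))))))))), σ, k0, fun i => by fin_cases i <;> assumption⟩
    · exact ⟨![8, 4, 3, 3, 3, 3, 2, 2, 2], Or.inr (Or.inr (Or.inr (Or.inr (Or.inr (Or.inr (Or.inr (Or.inr (Or.inr (Or.inr (Or.inl rfl)))))))))), σ, k0, fun i => by fin_cases i <;> assumption⟩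
    · exact ⟨![8, 3, 3, 3, 3, 3, 3, 3, 1], Or.inr (Or.inr (Or.inr (Or.inr (Or.inr (Or.inr (Or.inr (Or.inr (Or.inr (Or.inr (Or.inr (Or.inl rfl))))))))))), σ, k0, fun i => by fin_cases i <;> assumption⟩
    · exact ⟨![9, 4, 4, 3, 3, 3, 3, 3, 2], Or.inr (Or.inr (Or.inr (Or.inr (Or.inr (Or.inr (Or.inr (Or.inr (Or.inr (Or.inr (Or.inr (Or.inr (Or.inl rfl)))))))))))), σ, k0, fun i => by fin_cases i <;> assumption⟩
    · exact ⟨![10, 4, 4, 4, 4, 3, 3, 3, 3], Or.inr (Or.inr (Or.inr (Or.inr (Or.inr (Or.inr (Or.inr (Or.inr (Or.inr (Or.inr (Or.inr (Or.inr (Or.inr (Or.inl rfl))))))))))))), σ, k0, fun i => by fin_cases i <;> assumption⟩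
    · exact ⟨![11, 4, 4, 4, 4, 4, 4, 4, 3], Or.inr (Or.inr (Or.inr (Or.inr (Or.inr (Or.inr (Or.inr (Or.inr (Or.inr (Or.inr (Or.inr (Or.inr (Or.inr (Or.inr (rfl)))))))))))))), σ, k0, fun i => by fin_cases i <;> assumption⟩
  · rintro ⟨t, ht, σ, h0, hσ⟩
    have e1 : ∑ i : Fin 8, v i.succ * v i.succ = ∑ i : Fin 8, t i.succ * t i.succ := by
      rw [← Equiv.sum_comp σ (fun i => v i.succ * v i.succ)]
      exact Finset.sum_congr rfl (fun i _ => by rw [hσ i])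
    have e2 : ∑ i : Fin 8, v i.succ = ∑ i : Fin 8, t i.succ := by
      rw [← Equiv.sum_comp σ (fun i => v i.succ)]
      exact Finset.sum_congr rfl (fun i _ => by rw [hσ i])
    have key : t 0 * t 0 - ∑ i : Fin 8, t i.succ * t i.succ = 0 ∧
        -3 * t 0 - ∑ i : Fin 8, -1 * t i.succ = -2 := by
      simp only [Set.mem_insert_iff, Set.mem_singleton_iff] at ht
      rcases ht with rfl | rfl | rfl | rfl | rfl | rfl | rfl | rfl | rfl | rfl | rfl | rfl | rfl | rfl | rfl <;> decide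
    constructor
    · simp only [form]
      rw [e1, h0]; exact key.1
    · simp only [form, canon, Fin.cases_zero, Fin.cases_succ]
      rw [h0]
      have : ∑ i : Fin 8, -1 * v i.succ = ∑ i : Fin 8, -1 * t i.succ := by
        rw [← Finset.mul_sum, ← Finset.mul_sum, e2]
      rw [this]; exact key.2

end Groth.Agent.S15906
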