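import Groth.Statements.S15909
import Mathlib
import Groth.Agent.Lib.Helper6.DPWeyl

set_option autoImplicit false
open Surf

namespace Groth.Agent.S15909

section
open W4c3severiratdp Groth.Agent.Lib.helper6.DPWeyl

/-- the last index -/
def l8 : Fin 8 := Fin.last 7

lemma card_S8 : 3 ≤ (Finset.univ.erase l8).card := by
  rw [Finset.card_erase_of_mem (Finset.mem_univ _), Finset.card_univ, Fintype.card_fin]
  norm_num

lemma card_U8 : 3 ≤ (Finset.univ : Finset (Fin 8)).card := by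
  rw [Finset.card_univ, Fintype.card_fin]
  norm_num

/-- the Bertini involution `E ↦ -2K - E` -/
def inv8 (M : DP 8) : DP 8 := (-2 : ℤ) • canon 8 - M

lemma form_canon_canon8 : form (canon 8) (canon 8) = 1 := by
  rw [form_canon_canon]
  norm_num

lemma isExc_inv8 {M : DP 8} (hM : IsExc M) : IsExc (inv8 M) := by
  unfold inv8
  refine ⟨?_, ?_⟩
  · simp only [form_sub_left, form_sub_right, form_smul_left, form_smul_right,
      form_canon_canon8, hM.1, hM.2, form_comm M (canon 8)]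
    norm_num
  · simp only [form_sub_right, form_smul_right, form_canon_canon8, hM.2]
    norm_num

lemma inv8_coord (M : DP 8) (m : Fin 8) : (inv8 M) m.succ = 2 - M m.succ := by
  unfold inv8
  rw [Pi.sub_apply, smul_apply', canon_succ]
  norm_num

lemma weyl_inv8 {g : DP 8 ≃ₗ[ℤ] DP 8} (hg : IsWeyl g) (M : DP 8) :
    g (inv8 M) = inv8 (g M) := by
  unfold inv8
  rw [map_sub, map_smul, hg.2]

lemma inv8_inv8 (M : DP 8) : inv8 (inv8 M) = M := by
  unfold inv8
  abel

lemma claim_low (M1 M2 : DP 8) (h1 : IsExc M1) (h2 : IsExc M2)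
    (hm : M1 l8.succ = M2 l8.succ) (hlow : M1 l8.succ ≤ 1) :
    Rel (fzS (Finset.univ.erase l8)) M1 M2 := by
  have hge := exc_form_ge (by norm_num : 8 ≤ 8) h1 (isExc_eV l8)
  rw [form_eV_right] at hge
  obtain ⟨hge1, hge2⟩ := hge
  have hge' := exc_form_ge (by norm_num : 8 ≤ 8) h2 (isExc_eV l8)
  rw [form_eV_right] at hge'
  have hcases : M1 l8.succ = -1 ∨ M1 l8.succ = 0 ∨ M1 l8.succ = 1 := by omega
  have hnot : ∀ m : Fin 8, m ∉ Finset.univ.erase l8 → m = l8 := by
    intro m hm'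
    by_contra hne
    exact hm' (Finset.mem_erase.mpr ⟨hne, Finset.mem_univ m⟩)
  rcases hcases with hc | hc | hc
  · have e1 : M1 = eV l8 := hge2 hc
    have e2 : M2 = eV l8 := hge'.2 (by rw [← hm, hc])
    rw [e1, e2]
    exact Rel.rfl' _ _
  · have hz1 : ∀ m, m ∉ Finset.univ.erase l8 → M1 m.succ = 0 := by
      intro m hm'
      rw [hnot m hm', hc]
    have hz2 : ∀ m, m ∉ Finset.univ.erase l8 → M2 m.succ = 0 := by
      intro m hm'
      rw [hnot m hm', ← hm, hc]
    obtain ⟨j1, hj1, r1⟩ := descent_exc (by norm_num : 8 ≤ 8) _ card_S8 M1 h1 hz1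
    obtain ⟨j2, hj2, r2⟩ := descent_exc (by norm_num : 8 ≤ 8) _ card_S8 M2 h2 hz2
    exact r1.trans' ((rel_eV_swap _ hj1 hj2).trans' r2.symm')
  · obtain ⟨j1, hj1, r1⟩ := descent_con (by norm_num : 8 ≤ 8) l8 card_S8 M1 h1 hc
    obtain ⟨j2, hj2, r2⟩ := descent_con (by norm_num : 8 ≤ 8) l8 card_S8 M2 h2
      (by rw [← hm, hc])
    have hj1' : j1 ∈ Finset.univ.erase l8 := Finset.mem_erase.mpr ⟨hj1, Finset.mem_univ _⟩
    have hj2' : j2 ∈ Finset.univ.erase l8 := Finset.mem_erase.mpr ⟨hj2, Finset.mem_univ _⟩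
    exact r1.trans' ((rel_cV_swap _ hj1' hj2' (Finset.notMem_erase _ _)).trans' r2.symm')

lemma claim (M1 M2 : DP 8) (h1 : IsExc M1) (h2 : IsExc M2) (hm : M1 l8.succ = M2 l8.succ) :
    Rel (fzS (Finset.univ.erase l8)) M1 M2 := by
  by_cases hlow : M1 l8.succ ≤ 1
  · exact claim_low M1 M2 h1 h2 hm hlow
  · have h1' := isExc_inv8 h1
    have h2' := isExc_inv8 h2
    have hm' : (inv8 M1) l8.succ = (inv8 M2) l8.succ := by
      rw [inv8_coord, inv8_coord, hm]
    have hlow' : (inv8 M1) l8.succ ≤ 1 := by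
      rw [inv8_coord]
      omega
    obtain ⟨g, hg, hf, hgv⟩ := claim_low _ _ h1' h2' hm' hlow'
    refine ⟨g, hg, hf, ?_⟩
    have e1 := weyl_inv8 hg M1
    rw [hgv] at e1
    have e2 := congrArg inv8 e1
    rw [inv8_inv8, inv8_inv8] at e2
    exact e2.symm

theorem main (L L₁ L₂ : DP 8) (hL : IsExc L) (hL₁ : IsExc L₁) (hL₂ : IsExc L₂)
    (h : form L₁ L = form L₂ L) :
    ∃ g : DP 8 ≃ₗ[ℤ] DP 8, IsWeyl g ∧ g L = L ∧ g L₁ = L₂ := by
  obtain ⟨j, _, r0⟩ := descent_exc (by norm_num : 8 ≤ 8) Finset.univ card_U8 L hL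
    (fun m hm => absurd (Finset.mem_univ m) hm)
  have r0' : Rel (fzS Finset.univ) L (eV l8) :=
    r0.trans' (rel_eV_swap _ (Finset.mem_univ j) (Finset.mem_univ l8))
  obtain ⟨g0, hg0, -, hg0L⟩ := r0'
  have hM1 : IsExc (g0 L₁) := weyl_isExc hg0 hL₁
  have hM2 : IsExc (g0 L₂) := weyl_isExc hg0 hL₂
  have hm : (g0 L₁) l8.succ = (g0 L₂) l8.succ := by
    rw [← form_eV_right (g0 L₁) l8, ← form_eV_right (g0 L₂) l8, ← hg0L, hg0.1, hg0.1, h]
  obtain ⟨g', hg', hf', hg'v⟩ := claim _ _ hM1 hM2 hm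
  have hfix : g' (eV l8) = eV l8 := hf' _ ⟨l8, Finset.notMem_erase _ _, rfl⟩
  refine ⟨(g0.trans g').trans g0.symm,
    isWeyl_trans (isWeyl_trans hg0 hg') (isWeyl_symm hg0), ?_, ?_⟩
  · rw [LinearEquiv.trans_apply, LinearEquiv.trans_apply, hg0L, hfix, ← hg0L,
      LinearEquiv.symm_apply_apply]
  · rw [LinearEquiv.trans_apply, LinearEquiv.trans_apply, hg'v, LinearEquiv.symm_apply_apply]

end



open W4c3severiratdp in
/-- Work in the lattice of vectors (a; b_1, …, b_δ), standing for divisor classes a ℓ − Σ b_i e_i on the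
blow-up of the projective plane at δ points written in a standard basis, with intersection form a a'
− Σ b_i b_i' and canonical class K = (−3; −1, …, −1); a conic class is a class Q with Q·Q = 0 and
K·Q = −2, an exceptional class (the class of a (−1)-curve) is a class E with E·E = −1 and K·E = −1,
and the Weyl group W_δ is the group of additive automorphisms of the lattice preserving the form and
fixing K. Let δ = 8 (a del Pezzo surface of degree one) and let L be an exceptional class. If L_1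
and L_2 are exceptional classes with L_1·L = L_2·L, then L_1 and L_2 lie in the same orbit of the
stabilizer of L in W_8. -/
theorem result (L L₁ L₂ : DP 8) (hL : IsExc L) (hL₁ : IsExc L₁)
    (hL₂ : IsExc L₂) (h : form L₁ L = form L₂ L) :
    ∃ g : DP 8 ≃ₗ[ℤ] DP 8, IsWeyl g ∧ g L = L ∧ g L₁ = L₂ := by
  exact main L L₁ L₂ hL hL₁ hL₂ h


end Groth.Agent.S15909
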