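import Groth.Statements.S15910
import Mathlib
import Groth.Agent.Lib.Helper6.DPWeyl
import Groth.Agent.S15909

set_option autoImplicit false
open Surf

namespace Groth.Agent.S15910

noncomputable section
open W4c3severiratdp Groth.Agent.Lib.helper6.DPWeyl Groth.Agent.S15909

/-- index 7 (zero-based 6) -/
def l7 : Fin 8 := 6
/-- index 6 (zero-based 5) -/
def l6 : Fin 8 := 5

lemma l7_ne_l8 : l7 ≠ l8 := by decide
lemma l6_ne_l8 : l6 ≠ l8 := by decide
lemma l6_ne_l7 : l6 ≠ l7 := by decide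

lemma fin3 : ∀ i : Fin 3, i = 0 ∨ i = 1 ∨ i = 2 := by decide
lemma fin4 : ∀ j : Fin 4, j = 0 ∨ j = 1 ∨ j = 2 ∨ j = 3 := by decide

/-- `e₈ - 2K` -/
def t0 : DP 8 := eV l8 - 2 • canon 8

lemma t0_eq : t0 = eV l8 - (canon 8 + canon 8) := by
  unfold t0
  rw [two_nsmul]

lemma t0_coord8 : t0 l8.succ = 1 := by
  rw [t0_eq]
  simp only [Pi.sub_apply, Pi.add_apply, eV_self, canon_succ]
  norm_num

lemma form_t0_exc {u : DP 8} (hu : IsExc u) : form t0 u = u l8.succ + 2 := by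
  rw [t0_eq, form_sub_left, form_add_left, hu.2, form_comm, form_eV_right]
  ring

lemma form_exc_t0 {u : DP 8} (hu : IsExc u) : form u t0 = u l8.succ + 2 := by
  rw [form_comm, form_t0_exc hu]

lemma form_t0_canon : form t0 (canon 8) = -3 := by
  rw [t0_eq, form_sub_left, form_add_left, form_canon_canon8, form_comm (eV l8) (canon 8),
    form_eV_right, canon_succ]
  norm_num

lemma form_t0_t0 : form t0 t0 = 7 := by
  have h1 : form t0 (eV l8) = 1 := by
    rw [form_t0_exc (isExc_eV l8), eV_self]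
    norm_num
  calc form t0 t0 = form t0 (eV l8 - (canon 8 + canon 8)) := by rw [← t0_eq]
    _ = 7 := by
      rw [form_sub_right, form_add_right, h1, form_t0_canon]
      norm_num

lemma isExc_third {u0 u1 : DP 8} (h0 : IsExc u0) (h1 : IsExc u1)
    (hp : form u0 u1 = 1 + u0 l8.succ + u1 l8.succ) : IsExc (t0 - u0 - u1) := by
  refine ⟨?_, ?_⟩
  · simp only [form_sub_left, form_sub_right, form_t0_t0, form_t0_exc h0, form_t0_exc h1,
      form_exc_t0 h0, form_exc_t0 h1, h0.1, h1.1, form_comm u1 u0, hp]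
    ring
  · rw [form_sub_right, form_sub_right, h0.2, h1.2, form_comm, form_t0_canon]
    norm_num

lemma prod_of_sum {u0 u1 u2 : DP 8} (h0 : IsExc u0) (h1 : IsExc u1) (h2 : IsExc u2)
    (hs : u0 + u1 + u2 = t0) : form u0 u1 = 1 + u0 l8.succ + u1 l8.succ := by
  have e : u2 = t0 - u0 - u1 := by
    rw [← hs]
    abel
  have h := h2.1
  rw [e] at h
  simp only [form_sub_left, form_sub_right, form_t0_t0, form_t0_exc h0, form_t0_exc h1,
    form_exc_t0 h0, form_exc_t0 h1, h0.1, h1.1, form_comm u1 u0] at h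
  linarith

lemma mval_bounds {M : DP 8} (hM : IsExc M) :
    -1 ≤ M l8.succ ∧ M l8.succ ≤ 3 ∧ (M l8.succ = -1 → M = eV l8) := by
  have h1 := exc_form_ge (by norm_num : 8 ≤ 8) hM (isExc_eV l8)
  rw [form_eV_right] at h1
  have h2 := exc_form_ge (by norm_num : 8 ≤ 8) (isExc_inv8 hM) (isExc_eV l8)
  rw [form_eV_right, inv8_coord] at h2
  exact ⟨h1.1, by linarith [h2.1], h1.2⟩

lemma weyl_t0 {g : DP 8 ≃ₗ[ℤ] DP 8} (hg : IsWeyl g) (h8 : g (eV l8) = eV l8) : g t0 = t0 := by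
  unfold t0
  rw [map_sub, map_nsmul, hg.2, h8]

lemma mem_S7 (m : Fin 8) : m ∈ Finset.univ.erase l8 ↔ m ≠ l8 := by
  rw [Finset.mem_erase]
  exact ⟨fun h => h.1, fun h => ⟨h, Finset.mem_univ m⟩⟩

lemma to_e7 {M : DP 8} (hM : IsExc M) (hm : M l8.succ = 0) :
    Rel (fzS (Finset.univ.erase l8)) M (eV l7) := by
  have hz : ∀ m, m ∉ Finset.univ.erase l8 → M m.succ = 0 := by
    intro m hm'
    have : m = l8 := by
      by_contra hne
      exact hm' ((mem_S7 m).mpr hne)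
    rw [this, hm]
  obtain ⟨j, hj, r⟩ := descent_exc (by norm_num : 8 ≤ 8) _ card_S8 M hM hz
  exact r.trans' (rel_eV_swap _ hj ((mem_S7 l7).mpr l7_ne_l8))

lemma to_lam78 {M : DP 8} (hM : IsExc M) (hm : M l8.succ = 1) :
    Rel (fzS (Finset.univ.erase l8)) M (ell - eV l7 - eV l8) := by
  obtain ⟨j, hj, r⟩ := descent_con (by norm_num : 8 ≤ 8) l8 card_S8 M hM hm
  exact r.trans' (rel_cV_swap _ ((mem_S7 j).mpr hj) ((mem_S7 l7).mpr l7_ne_l8)
    (Finset.notMem_erase _ _))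

/-- all indices except the last two -/
def S6 : Finset (Fin 8) := (Finset.univ.erase l8).erase l7

lemma mem_S6 (m : Fin 8) : m ∈ S6 ↔ m ≠ l7 ∧ m ≠ l8 := by
  unfold S6
  rw [Finset.mem_erase, Finset.mem_erase]
  exact ⟨fun h => ⟨h.1, h.2.1⟩, fun h => ⟨h.1, h.2, Finset.mem_univ m⟩⟩

lemma card_S6 : 3 ≤ S6.card := by decide

lemma to_lam67 {v : DP 8} (hv : IsExc v) (h8 : v l8.succ = 0) (h7 : v l7.succ = 1) :
    Rel (fzS S6) v (ell - eV l6 - eV l7) := by
  have hc1 : ∑ m ∈ S6ᶜ, (fun m : Fin 8 => if m = l7 then (1 : ℤ) else 0) m = 1 := by decide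
  have hc2 : ∑ m ∈ S6ᶜ, (fun m : Fin 8 => if m = l7 then (1 : ℤ) else 0) m *
      (fun m : Fin 8 => if m = l7 then (1 : ℤ) else 0) m = 1 := by decide
  have hvc : ∀ m, m ∉ S6 → v m.succ = (fun m : Fin 8 => if m = l7 then (1 : ℤ) else 0) m := by
    intro m hm
    rw [mem_S6] at hm
    show v m.succ = if m = l7 then (1 : ℤ) else 0
    by_cases h : m = l7
    · rw [if_pos h, h, h7]
    · rw [if_neg h]
      have : m = l8 := by
        by_contra h'
        exact hm ⟨h, h'⟩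
      rw [this, h8]
  obtain ⟨w, r, i, hi, hw0, hwi, hwo⟩ :=
    descent_con' (by norm_num : 8 ≤ 8) S6 card_S6 _ hc1 hc2 v hv hvc
  have hil7 : i ≠ l7 := ((mem_S6 i).mp hi).1
  have hil8 : i ≠ l8 := ((mem_S6 i).mp hi).2
  have hn7 : l7 ∉ S6 := by
    rw [mem_S6]
    exact fun h => h.1 rfl
  have hn8 : l8 ∉ S6 := by
    rw [mem_S6]
    exact fun h => h.2 rfl
  have hw7 : w l7.succ = 1 := by rw [r.coord hn7, h7]
  have hw8 : w l8.succ = 0 := by rw [r.coord hn8, h8]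
  have hw : w = ell - eV i - eV l7 := by
    funext t
    refine Fin.cases ?_ (fun m => ?_) t
    · simp only [Pi.sub_apply, ell_zero, eV_zero]
      rw [hw0]
      norm_num
    · simp only [Pi.sub_apply, ell_succ]
      by_cases h7' : m = l7
      · rw [h7', hw7, eV_self, eV_ne (Ne.symm hil7)]
        norm_num
      · by_cases hi' : m = i
        · rw [hi', hwi, eV_self, eV_ne hil7]
          norm_num
        · rw [eV_ne hi', eV_ne h7']
          by_cases h8' : m = l8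
          · rw [h8', hw8]
            norm_num
          · rw [hwo m ((mem_S6 m).mpr ⟨h7', h8'⟩) hi']
            norm_num
  rw [hw] at r
  exact r.trans' (rel_cV_swap S6 hi ((mem_S6 l6).mpr ⟨l6_ne_l7, l6_ne_l8⟩) hn7)

/-- first members of the four standard triples -/
def u0s (j : Fin 4) : DP 8 := if j = 3 then eV l7 else eV l8

/-- second members of the four standard triples -/
def u1s (j : Fin 4) : DP 8 :=
  if j = 0 then eV l8 else if j = 1 then eV l7 else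
    if j = 2 then ell - eV l7 - eV l8 else ell - eV l6 - eV l7

/-- the four standard triples (for `L = e₈`) -/
def s (j : Fin 4) (i : Fin 3) : DP 8 :=
  if i = 0 then u0s j else if i = 1 then u1s j else t0 - u0s j - u1s j

lemma s_0 (j : Fin 4) : s j 0 = u0s j := by
  unfold s
  rw [if_pos rfl]

lemma s_1 (j : Fin 4) : s j 1 = u1s j := by
  unfold s
  have h : ¬ ((1 : Fin 3) = 0) := by decide
  rw [if_neg h, if_pos rfl]

lemma s_2 (j : Fin 4) : s j 2 = t0 - u0s j - u1s j := by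
  unfold s
  have h : ¬ ((2 : Fin 3) = 0) := by decide
  have h' : ¬ ((2 : Fin 3) = 1) := by decide
  rw [if_neg h, if_neg h']

lemma u0s_0 : u0s 0 = eV l8 := by
  unfold u0s
  have h : ¬ ((0 : Fin 4) = 3) := by decide
  rw [if_neg h]

lemma u0s_1 : u0s 1 = eV l8 := by
  unfold u0s
  have h : ¬ ((1 : Fin 4) = 3) := by decide
  rw [if_neg h]

lemma u0s_2 : u0s 2 = eV l8 := by
  unfold u0s
  have h : ¬ ((2 : Fin 4) = 3) := by decide
  rw [if_neg h]

lemma u0s_3 : u0s 3 = eV l7 := by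
  unfold u0s
  rw [if_pos rfl]

lemma u1s_0 : u1s 0 = eV l8 := by
  unfold u1s
  rw [if_pos rfl]

lemma u1s_1 : u1s 1 = eV l7 := by
  unfold u1s
  have h : ¬ ((1 : Fin 4) = 0) := by decide
  rw [if_neg h, if_pos rfl]

lemma u1s_2 : u1s 2 = ell - eV l7 - eV l8 := by
  unfold u1s
  have h : ¬ ((2 : Fin 4) = 0) := by decide
  have h' : ¬ ((2 : Fin 4) = 1) := by decide
  rw [if_neg h, if_neg h', if_pos rfl]

lemma u1s_3 : u1s 3 = ell - eV l6 - eV l7 := by
  unfold u1s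
  have h : ¬ ((3 : Fin 4) = 0) := by decide
  have h' : ¬ ((3 : Fin 4) = 1) := by decide
  have h'' : ¬ ((3 : Fin 4) = 2) := by decide
  rw [if_neg h, if_neg h', if_neg h'']

lemma isExc_u0s (j : Fin 4) : IsExc (u0s j) := by
  unfold u0s
  split_ifs
  · exact isExc_eV _
  · exact isExc_eV _

lemma isExc_u1s (j : Fin 4) : IsExc (u1s j) := by
  unfold u1s
  split_ifs
  · exact isExc_eV _
  · exact isExc_eV _
  · exact isExc_lam l7_ne_l8
  · exact isExc_lam l6_ne_l7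

lemma lam78_8 : (ell - eV l7 - eV l8 : DP 8) l8.succ = 1 := by
  simp only [Pi.sub_apply, ell_succ, eV_self, eV_ne (Ne.symm l7_ne_l8)]
  norm_num

lemma lam67_8 : (ell - eV l6 - eV l7 : DP 8) l8.succ = 0 := by
  simp only [Pi.sub_apply, ell_succ, eV_ne (Ne.symm l7_ne_l8), eV_ne (Ne.symm l6_ne_l8)]
  norm_num

lemma lam67_7 : (ell - eV l6 - eV l7 : DP 8) l7.succ = 1 := by
  simp only [Pi.sub_apply, ell_succ, eV_self, eV_ne (Ne.symm l6_ne_l7)]
  norm_num

lemma e7_8 : (eV l7 : DP 8) l8.succ = 0 := eV_ne (Ne.symm l7_ne_l8)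

lemma e8_7 : (eV l8 : DP 8) l7.succ = 0 := eV_ne l7_ne_l8

lemma prod_s (j : Fin 4) :
    form (u0s j) (u1s j) = 1 + (u0s j) l8.succ + (u1s j) l8.succ := by
  rcases fin4 j with rfl | rfl | rfl | rfl
  · rw [u0s_0, u1s_0, form_eV_right, eV_self]
    norm_num
  · rw [u0s_1, u1s_1, form_eV_right, e8_7, eV_self, e7_8]
    norm_num
  · rw [u0s_2, u1s_2, form_comm, form_eV_right, lam78_8, eV_self]
    norm_num
  · rw [u0s_3, u1s_3, form_comm, form_eV_right, lam67_7, e7_8, lam67_8]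
    norm_num

lemma isExc_s (j : Fin 4) (i : Fin 3) : IsExc (s j i) := by
  unfold s
  split_ifs
  · exact isExc_u0s j
  · exact isExc_u1s j
  · exact isExc_third (isExc_u0s j) (isExc_u1s j) (prod_s j)

lemma s_sum (j : Fin 4) : s j 0 + s j 1 + s j 2 = t0 := by
  rw [s_0, s_1, s_2]
  abel

/-- the invariant separating the four standard triples -/
def psi (j : Fin 4) : ℤ := ∑ i : Fin 3, ((s j i) l8.succ) ^ 2

lemma psi_eq (j : Fin 4) : psi j = ((u0s j) l8.succ) ^ 2 + ((u1s j) l8.succ) ^ 2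
    + (1 - (u0s j) l8.succ - (u1s j) l8.succ) ^ 2 := by
  unfold psi
  rw [Fin.sum_univ_three, s_0, s_1, s_2]
  simp only [Pi.sub_apply, t0_coord8]

lemma psi0 : psi 0 = 11 := by
  rw [psi_eq, u0s_0, u1s_0, eV_self]
  norm_num

lemma psi1 : psi 1 = 5 := by
  rw [psi_eq, u0s_1, u1s_1, eV_self, e7_8]
  norm_num

lemma psi2 : psi 2 = 3 := by
  rw [psi_eq, u0s_2, u1s_2, eV_self, lam78_8]
  norm_num

lemma psi3 : psi 3 = 1 := by
  rw [psi_eq, u0s_3, u1s_3, e7_8, lam67_8]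
  norm_num

lemma psi_inj (j j' : Fin 4) (h : psi j = psi j') : j = j' := by
  rcases fin4 j with rfl | rfl | rfl | rfl <;> rcases fin4 j' with rfl | rfl | rfl | rfl <;>
    first
    | rfl
    | (exfalso; simp only [psi0, psi1, psi2, psi3] at h <;> omega)

lemma classify_sorted (v0 v1 v2 : DP 8) (h0 : IsExc v0) (h1 : IsExc v1) (h2 : IsExc v2)
    (hs : v0 + v1 + v2 = t0) (h01 : v0 l8.succ ≤ v1 l8.succ) (h12 : v1 l8.succ ≤ v2 l8.succ) :
    ∃ j : Fin 4, ∃ g : DP 8 ≃ₗ[ℤ] DP 8, IsWeyl g ∧ g (eV l8) = eV l8 ∧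
      g v0 = u0s j ∧ g v1 = u1s j ∧ g v2 = t0 - u0s j - u1s j := by
  have hm := congrFun hs l8.succ
  simp only [Pi.add_apply] at hm
  rw [t0_coord8] at hm
  obtain ⟨a0, b0, c0⟩ := mval_bounds h0
  obtain ⟨a1, b1, c1⟩ := mval_bounds h1
  obtain ⟨a2, b2, c2⟩ := mval_bounds h2
  have e2 : v2 = t0 - v0 - v1 := by
    rw [← hs]
    abel
  have hn8 : l8 ∉ Finset.univ.erase l8 := Finset.notMem_erase _ _
  have hcases : (v0 l8.succ = -1 ∧ v1 l8.succ = -1) ∨ (v0 l8.succ = -1 ∧ v1 l8.succ = 0) ∨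
      (v0 l8.succ = -1 ∧ v1 l8.succ = 1) ∨ (v0 l8.succ = 0 ∧ v1 l8.succ = 0) := by omega
  rcases hcases with ⟨p0, p1⟩ | ⟨p0, p1⟩ | ⟨p0, p1⟩ | ⟨p0, p1⟩
  · have hv0 : v0 = eV l8 := c0 p0
    have hv1 : v1 = eV l8 := c1 p1
    have hv2 : v2 = t0 - eV l8 - eV l8 := by rw [e2, hv0, hv1]
    refine ⟨0, LinearEquiv.refl ℤ _, isWeyl_one, rfl, ?_, ?_, ?_⟩
    · rw [u0s_0]
      exact hv0
    · rw [u1s_0]
      exact hv1
    · rw [u0s_0, u1s_0]
      exact hv2
  · obtain ⟨g, hg, hf, hgv⟩ := to_e7 h1 p1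
    have hg8 : g (eV l8) = eV l8 := hf _ ⟨l8, hn8, rfl⟩
    have hv0 : v0 = eV l8 := c0 p0
    refine ⟨1, g, hg, hg8, ?_, ?_, ?_⟩
    · rw [u0s_1, hv0, hg8]
    · rw [u1s_1, hgv]
    · rw [u0s_1, u1s_1, e2, map_sub, map_sub, weyl_t0 hg hg8, hgv, hv0, hg8]
  · obtain ⟨g, hg, hf, hgv⟩ := to_lam78 h1 p1
    have hg8 : g (eV l8) = eV l8 := hf _ ⟨l8, hn8, rfl⟩
    have hv0 : v0 = eV l8 := c0 p0
    refine ⟨2, g, hg, hg8, ?_, ?_, ?_⟩
    · rw [u0s_2, hv0, hg8]
    · rw [u1s_2, hgv]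
    · rw [u0s_2, u1s_2, e2, map_sub, map_sub, weyl_t0 hg hg8, hgv, hv0, hg8]
  · have hp : form v0 v1 = 1 := by
      rw [prod_of_sum h0 h1 h2 hs, p0, p1]
      norm_num
    obtain ⟨g1, hg1, hf1, hg1v⟩ := to_e7 h0 p0
    have hg18 : g1 (eV l8) = eV l8 := hf1 _ ⟨l8, hn8, rfl⟩
    have hv : IsExc (g1 v1) := weyl_isExc hg1 h1
    have hv8 : (g1 v1) l8.succ = 0 := by
      rw [← form_eV_right (g1 v1) l8]
      calc form (g1 v1) (eV l8) = form (g1 v1) (g1 (eV l8)) := by rw [hg18]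
        _ = form v1 (eV l8) := hg1.1 _ _
        _ = 0 := by rw [form_eV_right, p1]
    have hv7 : (g1 v1) l7.succ = 1 := by
      rw [← form_eV_right (g1 v1) l7]
      calc form (g1 v1) (eV l7) = form (g1 v1) (g1 v0) := by rw [hg1v]
        _ = form v1 v0 := hg1.1 _ _
        _ = 1 := by rw [form_comm, hp]
    obtain ⟨g2, hg2, hf2, hg2v⟩ := to_lam67 hv hv8 hv7
    have hg28 : g2 (eV l8) = eV l8 :=
      hf2 _ ⟨l8, by rw [mem_S6]; exact fun h => h.2 rfl, rfl⟩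
    have hg27 : g2 (eV l7) = eV l7 :=
      hf2 _ ⟨l7, by rw [mem_S6]; exact fun h => h.1 rfl, rfl⟩
    have hG8 : (g1.trans g2) (eV l8) = eV l8 := by
      rw [LinearEquiv.trans_apply, hg18, hg28]
    refine ⟨3, g1.trans g2, isWeyl_trans hg1 hg2, hG8, ?_, ?_, ?_⟩
    · rw [u0s_3, LinearEquiv.trans_apply, hg1v, hg27]
    · rw [u1s_3, LinearEquiv.trans_apply, hg2v]
    · rw [u0s_3, u1s_3, e2, map_sub, map_sub, weyl_t0 (isWeyl_trans hg1 hg2) hG8,
        LinearEquiv.trans_apply, LinearEquiv.trans_apply, hg1v, hg27, hg2v]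

lemma classify_e8 (u : Fin 3 → DP 8) (hu : ∀ i, IsExc (u i)) (hs : u 0 + u 1 + u 2 = t0) :
    ∃ j : Fin 4, ∃ g : DP 8 ≃ₗ[ℤ] DP 8, IsWeyl g ∧ g (eV l8) = eV l8 ∧
      ∃ σ : Equiv.Perm (Fin 3), ∀ i, g (u (σ i)) = s j i := by
  obtain ⟨σ, hσ⟩ : ∃ σ : Equiv.Perm (Fin 3), Monotone ((fun i => (u i) l8.succ) ∘ σ) :=
    ⟨Tuple.sort _, Tuple.monotone_sort _⟩
  have h01 : (u (σ 0)) l8.succ ≤ (u (σ 1)) l8.succ := hσ (by decide : (0 : Fin 3) ≤ 1)
  have h12 : (u (σ 1)) l8.succ ≤ (u (σ 2)) l8.succ := hσ (by decide : (1 : Fin 3) ≤ 2)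
  have hsum : u (σ 0) + u (σ 1) + u (σ 2) = t0 := by
    have h := Equiv.sum_comp σ u
    rw [Fin.sum_univ_three, Fin.sum_univ_three] at h
    rw [h, hs]
  obtain ⟨j, g, hg, hg8, e0, e1, e2⟩ :=
    classify_sorted (u (σ 0)) (u (σ 1)) (u (σ 2)) (hu _) (hu _) (hu _) hsum h01 h12
  refine ⟨j, g, hg, hg8, σ, fun i => ?_⟩
  rcases fin3 i with rfl | rfl | rfl
  · rw [e0, s_0]
  · rw [e1, s_1]
  · rw [e2, s_2]

theorem main10 (L : DP 8) (hL : IsExc L) :
    ∃ r : Fin 4 → (Fin 3 → DP 8),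
      (∀ j, (∀ i, IsExc (r j i)) ∧ r j 0 + r j 1 + r j 2 = L - 2 • canon 8) ∧
      (∀ j j', (∃ g : DP 8 ≃ₗ[ℤ] DP 8, IsWeyl g ∧ g L = L ∧
        ∃ σ : Equiv.Perm (Fin 3), ∀ i, g (r j (σ i)) = r j' i) → j = j') ∧
      ∀ t : Fin 3 → DP 8, (∀ i, IsExc (t i)) → t 0 + t 1 + t 2 = L - 2 • canon 8 →
        ∃ j, ∃ g : DP 8 ≃ₗ[ℤ] DP 8, IsWeyl g ∧ g L = L ∧
          ∃ σ : Equiv.Perm (Fin 3), ∀ i, g (t (σ i)) = r j i := by
  obtain ⟨j0, _, r0⟩ := descent_exc (by norm_num : 8 ≤ 8) Finset.univ card_U8 L hL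
    (fun m hm => absurd (Finset.mem_univ m) hm)
  have r0' : Rel (fzS Finset.univ) L (eV l8) :=
    r0.trans' (rel_eV_swap _ (Finset.mem_univ j0) (Finset.mem_univ l8))
  obtain ⟨g0, hg0, -, hg0L⟩ := r0'
  have hg0t : g0 (L - 2 • canon 8) = t0 := by
    rw [map_sub, map_nsmul, hg0.2, hg0L]
    rfl
  have hrm : ∀ x : DP 8, form (g0.symm x) L = x l8.succ := by
    intro x
    rw [← hg0.1, LinearEquiv.apply_symm_apply, hg0L, form_eV_right]
  refine ⟨fun j i => g0.symm (s j i), ?_, ?_, ?_⟩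
  · intro j
    refine ⟨fun i => weyl_isExc (isWeyl_symm hg0) (isExc_s j i), ?_⟩
    show g0.symm (s j 0) + g0.symm (s j 1) + g0.symm (s j 2) = L - 2 • canon 8
    rw [← map_add, ← map_add, s_sum, LinearEquiv.symm_apply_eq, hg0t]
  · rintro j j' ⟨G, hG, hGL, σ, hσ⟩
    apply psi_inj
    have h2 : ∀ i, (s j' i) l8.succ = (s j (σ i)) l8.succ := by
      intro i
      rw [← hrm (s j' i), ← hrm (s j (σ i))]
      have hσi : G (g0.symm (s j (σ i))) = g0.symm (s j' i) := hσ i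
      calc form (g0.symm (s j' i)) L = form (G (g0.symm (s j (σ i)))) (G L) := by
            rw [hσi, hGL]
        _ = form (g0.symm (s j (σ i))) L := hG.1 _ _
    unfold psi
    rw [← Equiv.sum_comp σ (fun i => ((s j i) l8.succ) ^ 2)]
    exact Finset.sum_congr rfl fun i _ => by rw [h2 i]
  · intro t ht hts
    have hu : ∀ i, IsExc (g0 (t i)) := fun i => weyl_isExc hg0 (ht i)
    have hus : g0 (t 0) + g0 (t 1) + g0 (t 2) = t0 := by
      rw [← map_add, ← map_add, hts, hg0t]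
    obtain ⟨j, g, hg, hg8, σ, hσ⟩ := classify_e8 (fun i => g0 (t i)) hu hus
    refine ⟨j, (g0.trans g).trans g0.symm,
      isWeyl_trans (isWeyl_trans hg0 hg) (isWeyl_symm hg0), ?_, σ, fun i => ?_⟩
    · rw [LinearEquiv.trans_apply, LinearEquiv.trans_apply, hg0L, hg8, ← hg0L,
        LinearEquiv.symm_apply_apply]
    · rw [LinearEquiv.trans_apply, LinearEquiv.trans_apply]
      exact congrArg g0.symm (hσ i)

end



open W4c3severiratdp in
/-- Work in the lattice of vectors (a; b_1, …, b_δ), standing for divisor classes a ℓ − Σ b_i e_i on the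
blow-up of the projective plane at δ points written in a standard basis, with intersection form a a'
− Σ b_i b_i' and canonical class K = (−3; −1, …, −1); a conic class is a class Q with Q·Q = 0 and
K·Q = −2, an exceptional class (the class of a (−1)-curve) is a class E with E·E = −1 and K·E = −1,
and the Weyl group W_δ is the group of additive automorphisms of the lattice preserving the form and
fixing K. Let δ = 8 and let L be an exceptional class. Let B be the set of unordered triples {λ_1,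
λ_2, λ_3} of exceptional classes (repetitions allowed) with λ_1 + λ_2 + λ_3 = −2K + L. Then the
stabilizer of L in W_8 has exactly four orbits on B. Triples are written as maps Fin 3 → lattice and
compared up to reordering: there are four members of B, no two of which are identified by an element
of the stabilizer followed by a reordering, and every member of B is so identified with one of the
four. -/
theorem result (L : DP 8) (hL : IsExc L) :
    ∃ r : Fin 4 → (Fin 3 → DP 8),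
      (∀ j, (∀ i, IsExc (r j i)) ∧ r j 0 + r j 1 + r j 2 = L - 2 • canon 8) ∧
      (∀ j j', (∃ g : DP 8 ≃ₗ[ℤ] DP 8, IsWeyl g ∧ g L = L ∧ ∃ σ : Equiv.Perm (Fin 3), ∀ i, g (r j (σ i)) = r j' i) → j = j') ∧
      ∀ t : Fin 3 → DP 8, (∀ i, IsExc (t i)) → t 0 + t 1 + t 2 = L - 2 • canon 8 →
        ∃ j, ∃ g : DP 8 ≃ₗ[ℤ] DP 8, IsWeyl g ∧ g L = L ∧ ∃ σ : Equiv.Perm (Fin 3), ∀ i, g (t (σ i)) = r j i := by
  exact main10 L hL


end Groth.Agent.S15910
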