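import Groth.Statements.S15922
import Mathlib
import Groth.Agent.Lib.Helper18.AdjE
import Groth.Agent.Lib.Helper7.RegInt

set_option autoImplicit false
universe u
open CategoryTheory CategoryTheory.Limits AlgebraicGeometry
open Curves

namespace Groth.Agent.S15922

open TopologicalSpace Module Groth.Agent.Lib.helper17.FlatOver7 Groth.Agent.Lib.Helper18.SubB
  Groth.Agent.Lib.helper7.IdealMod Groth.Agent.Lib.Helper18.AdjE Groth.Agent.Lib.Helper18

/-- Let k be an algebraically closed field, X a curve over k (proper over k, reduced, connected, every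
irreducible component of dimension one) and P a closed point of X, with m_P the ideal sheaf of the
reduced point P viewed as an O_X-module. Then m_P is a torsion-free sheaf of rank one and degree -1:
regular elements of each local ring O_{X,x} act injectively on the stalk of m_P at x, the stalk at
every generic point of an irreducible component has dimension one over the local ring there, and
χ(X, m_P) - χ(X, O_X) = -1. -/
theorem result (k : Type u) [Field k] [IsAlgClosed k] (X : Scheme.{u}) [X.Over (Spec (CommRingCat.of k))] [IsProper (X ↘ (Spec (CommRingCat.of k)))] [IsReduced X] [ConnectedSpace X]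
    (hequi : ∀ Z ∈ irreducibleComponents (X : Type u), topologicalKrullDim Z = 1)
    (P : X) (hP : IsClosed ({P} : Set X)) :
    TorSh.IsTorsionFree (ClSub.idealMod (Scheme.IdealSheafData.vanishingIdeal ⟨{P}, hP⟩)) ∧
    (∀ η : X, closure ({η} : Set X) ∈ irreducibleComponents (X : Type u) →
      Module.finrank (X.presheaf.stalk η) ((ClSub.idealMod (Scheme.IdealSheafData.vanishingIdeal ⟨{P}, hP⟩)).presheaf.stalk η) = 1) ∧
    Curv2.deg k X (ClSub.idealMod (Scheme.IdealSheafData.vanishingIdeal ⟨{P}, hP⟩)) 1 = -1 := by
  classical
  haveI := Groth.Agent.Lib.Lead.CurveEuler.isNoetherian k X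
  set Z := Scheme.IdealSheafData.vanishingIdeal ⟨{P}, hP⟩ with hZdef
  have hZsupp : ((Z.support : Closeds X) : Set X) = {P} :=
    Scheme.IdealSheafData.coe_support_vanishingIdeal _
  refine ⟨fun x => ?_, fun η hη => ?_, ?_⟩
  · -- torsion-free
    obtain ⟨e⟩ := stalk_structureModule_equiv (X := X) x
    haveI : Mono (ClSub.idealModι Z) := mono_idealModι Z
    refine Function.Injective.moduleIsTorsionFree
      (fun m => e (stalkAdd (ClSub.idealModι Z) x m))
      (e.injective.comp (Groth.Agent.Lib.helper8.StalkLen.stalkAdd_injective_of_mono _ x))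
      (fun r m => ?_)
    change e (stalkAdd (ClSub.idealModι Z) x (r • m)) = r • e (stalkAdd (ClSub.idealModι Z) x m)
    rw [stalkAdd_smul, map_smul]
  · -- rank one
    have hηZ : η ∉ Z.support := by
      intro h
      have h1 : η ∈ ((Z.support : Closeds X) : Set X) := h
      rw [hZsupp] at h1
      have h2 : η = P := h1
      subst h2
      have h3 := hequi _ hη
      rw [hP.closure_eq] at h3
      have h4 : topologicalKrullDim ({η} : Set X) ≤ 0 := by
        haveI : Subsingleton ({η} : Set X) := (Set.subsingleton_coe _).mpr Set.subsingleton_singleton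
        exact topologicalKrullDim_zero_of_discreteTopology _
      rw [h3] at h4
      exact absurd h4 (by decide)
    obtain ⟨e⟩ := stalk_structureModule_equiv (X := X) η
    have hbij := stalkAdd_idealModι_bijective Z η hηZ
    let f : (ClSub.idealMod Z).presheaf.stalk η →ₗ[X.presheaf.stalk η]
        (Coh.structureModule X).presheaf.stalk η :=
      { toFun := stalkAdd (ClSub.idealModι Z) η
        map_add' := map_add _
        map_smul' := fun r m => stalkAdd_smul _ η r m }
    let e' := (LinearEquiv.ofBijective f hbij).trans e
    rw [e'.finrank_eq, Module.finrank_self]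
  · -- degree
    have hIc : Coh.IsCoh (ClSub.idealMod Z) := SubG.isCoh_idealMod k Z
    have hQc : Coh.IsCoh (ClSub.quotMod Z) := Groth.Agent.Lib.helper7.SnapperQuot.isCoh_quotMod Z
    have hadd := Groth.Agent.Lib.Lead.ProperEuler.euler_additive k (idealSeq_shortExact Z) hIc hQc
    have hadd' : Curv2.euler k X (Coh.structureModule X) =
        Curv2.euler k X (ClSub.idealMod Z) + Curv2.euler k X (ClSub.quotMod Z) := hadd
    have hfin : (CohB1.support (ClSub.quotMod Z)).Finite := by
      refine (Set.finite_singleton P).subset ?_
      intro x hx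
      have h1 := Groth.Agent.Lib.helper7.SnapperQuot.support_quotMod_subset Z hx
      have h2 : x ∈ ((Z.support : Closeds X) : Set X) := h1
      rwa [hZsupp] at h2
    have hχQ := Groth.Agent.Lib.helper7.RegInt.euler_eq_finrank_H0_of_finite_support k X _ hQc hfin
    rw [finrank_H0_quotMod_point k X hP] at hχQ
    unfold Curv2.deg
    rw [hχQ] at hadd'
    push_cast at hadd' ⊢
    linarith

end Groth.Agent.S15922
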