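import Groth.Statements.S15939
import Mathlib

set_option autoImplicit false
universe u
open CAlg

namespace Groth.Agent.S15939

section aux
open Polynomial

variable {κ A : Type u} [Field κ] [CommRing A] [Algebra κ A]

/-- codimension-one property of nonzero proper ideals -/
theorem codim_one (hor : ∀ S : Subalgebra κ A, S = ⊥ ∨ S = ⊤) (J : Ideal A) (hJ0 : J ≠ ⊥)
    (hJ1 : J ≠ ⊤) (a : A) : ∃ c : κ, a - algebraMap κ A c ∈ J := by
  let SJ : Subalgebra κ A :=
    { carrier := {a | ∃ c : κ, a - algebraMap κ A c ∈ J}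
      mul_mem' := by
        rintro a b ⟨c, hc⟩ ⟨d, hd⟩
        refine ⟨c * d, ?_⟩
        have h1 : a * b - algebraMap κ A (c * d) =
            (a - algebraMap κ A c) * b + algebraMap κ A c * (b - algebraMap κ A d) := by
          rw [map_mul]; ring
        rw [h1]
        exact J.add_mem (J.mul_mem_right _ hc) (J.mul_mem_left _ hd)
      one_mem' := ⟨1, by rw [map_one, sub_self]; exact J.zero_mem⟩
      add_mem' := by
        rintro a b ⟨c, hc⟩ ⟨d, hd⟩
        refine ⟨c + d, ?_⟩
        have h1 : a + b - algebraMap κ A (c + d) =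
            (a - algebraMap κ A c) + (b - algebraMap κ A d) := by
          rw [map_add]; ring
        rw [h1]
        exact J.add_mem hc hd
      zero_mem' := ⟨0, by rw [map_zero, sub_self]; exact J.zero_mem⟩
      algebraMap_mem' := fun r => ⟨r, by rw [sub_self]; exact J.zero_mem⟩ }
  have hSJ : SJ = ⊤ := by
    refine (hor SJ).resolve_left (fun hbot => ?_)
    obtain ⟨j, hjJ, hj0⟩ := Submodule.exists_mem_ne_zero_of_ne_bot hJ0
    have hjS : j ∈ SJ := ⟨0, by rw [map_zero, sub_zero]; exact hjJ⟩
    rw [hbot, Algebra.mem_bot] at hjS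
    obtain ⟨c, rfl⟩ := hjS
    have hc0 : c ≠ 0 := by rintro rfl; exact hj0 (map_zero _)
    exact hJ1 (Ideal.eq_top_of_isUnit_mem J hjJ
      ((isUnit_iff_ne_zero.mpr hc0).map (algebraMap κ A)))
  have h2 : a ∈ SJ := by rw [hSJ]; exact Algebra.mem_top
  exact h2

theorem fd (hbt : (⊥ : Subalgebra κ A) ≠ ⊤) (hor : ∀ S : Subalgebra κ A, S = ⊥ ∨ S = ⊤) :
    FiniteDimensional κ A := by
  have hx : ∃ x : A, x ∉ (⊥ : Subalgebra κ A) := by
    by_contra hcon
    push Not at hcon
    exact hbt (eq_top_iff.mpr (fun x _ => hcon x)).symm.symm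
  obtain ⟨x, hx⟩ := hx
  have hadjx : Algebra.adjoin κ {x} = ⊤ :=
    (hor _).resolve_left (fun h0 => hx (h0 ▸ Algebra.self_mem_adjoin_singleton κ x))
  have hint : IsIntegral κ x := by
    by_cases hx2 : x ^ 2 ∈ (⊥ : Subalgebra κ A)
    · rw [Algebra.mem_bot] at hx2
      obtain ⟨c, hc⟩ := hx2
      refine ⟨X ^ 2 - C c, monic_X_pow_sub_C c two_ne_zero, ?_⟩
      rw [eval₂_sub, eval₂_X_pow, eval₂_C, hc, sub_self]
    · have hadj2 : Algebra.adjoin κ {x ^ 2} = ⊤ :=
        (hor _).resolve_left
          (fun h0 => hx2 (h0 ▸ Algebra.self_mem_adjoin_singleton κ (x ^ 2)))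
      have hmem : x ∈ Algebra.adjoin κ {x ^ 2} := by rw [hadj2]; exact Algebra.mem_top
      rw [Algebra.adjoin_singleton_eq_range_aeval] at hmem
      obtain ⟨q, hq⟩ := hmem
      have hq' : aeval (x ^ 2) q = x := hq
      apply IsAlgebraic.isIntegral
      refine ⟨expand κ 2 q - X, ?_, ?_⟩
      · intro h0
        have h1 := congrArg (fun r => coeff r 1) h0
        simp only [coeff_sub, coeff_X_one, coeff_zero] at h1
        rw [coeff_expand (by norm_num : 0 < 2)] at h1
        norm_num at h1
      · rw [map_sub, expand_aeval, aeval_X, hq', sub_self]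
  have hfg : (Subalgebra.toSubmodule (Algebra.adjoin κ {x})).FG := hint.fg_adjoin_singleton
  rw [hadjx, Algebra.top_toSubmodule] at hfg
  exact Module.finite_def.mpr hfg

theorem nonfield_case [Nontrivial A] (hor : ∀ S : Subalgebra κ A, S = ⊥ ∨ S = ⊤)
    (hF : ¬ IsField A) :
    Nonempty (A ≃ₐ[κ] DualNumber κ) ∨ Nonempty (A ≃ₐ[κ] (κ × κ)) := by
  obtain ⟨I₀, hI0, hI1⟩ := Ring.not_isField_iff_exists_ideal_bot_lt_and_lt_top.mp hF
  obtain ⟨z, hzI, hz0⟩ := Submodule.exists_mem_ne_zero_of_ne_bot hI0.ne'
  have hzu : ¬ IsUnit z := fun hu => hI1.ne (Ideal.eq_top_of_isUnit_mem I₀ hzI hu)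
  have hzbot : z ∉ (⊥ : Subalgebra κ A) := by
    rw [Algebra.mem_bot]
    rintro ⟨c, rfl⟩
    by_cases hc : c = 0
    · exact hz0 (by rw [hc, map_zero])
    · exact hzu ((isUnit_iff_ne_zero.mpr hc).map (algebraMap κ A))
  have hJ0 : Ideal.span {z} ≠ (⊥ : Ideal A) := by
    rw [Ne, Ideal.span_singleton_eq_bot]; exact hz0
  have hJ1 : Ideal.span {z} ≠ (⊤ : Ideal A) := by
    rw [Ne, Ideal.span_singleton_eq_top]; exact hzu
  by_cases hz2 : z ^ 2 = 0
  · left
    have H2 : ∀ a : A, ∃ c c' : κ, a = algebraMap κ A c + algebraMap κ A c' * z := by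
      intro a
      obtain ⟨c, hc⟩ := codim_one hor _ hJ0 hJ1 a
      obtain ⟨b, hb⟩ := Ideal.mem_span_singleton'.mp hc
      obtain ⟨c', hc'⟩ := codim_one hor _ hJ0 hJ1 b
      obtain ⟨b', hb'⟩ := Ideal.mem_span_singleton'.mp hc'
      refine ⟨c, c', ?_⟩
      have h1 : b = algebraMap κ A c' + b' * z := by rw [hb']; ring
      have h2 : a = algebraMap κ A c + b * z := by rw [hb]; ring
      rw [h2, h1]
      have h3 : (algebraMap κ A c' + b' * z) * z = algebraMap κ A c' * z + b' * z ^ 2 := by ring
      rw [h3, hz2, mul_zero, add_zero]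
    let φ : DualNumber κ →ₐ[κ] A :=
      DualNumber.lift ⟨(Algebra.ofId κ A, z), by rw [← pow_two]; exact hz2,
        fun _ => Commute.all _ _⟩
    have hφ : ∀ w : DualNumber κ, φ w =
        algebraMap κ A (TrivSqZeroExt.fst w) + algebraMap κ A (TrivSqZeroExt.snd w) * z :=
      fun w => rfl
    have hinj : Function.Injective φ := by
      rw [injective_iff_map_eq_zero]
      intro w hw
      rw [hφ] at hw
      have hs : TrivSqZeroExt.snd w = 0 := by
        by_contra hs
        apply hzbot
        rw [Algebra.mem_bot]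
        refine ⟨-(TrivSqZeroExt.snd w)⁻¹ * TrivSqZeroExt.fst w, ?_⟩
        have h3 : algebraMap κ A (TrivSqZeroExt.snd w) * z =
            - algebraMap κ A (TrivSqZeroExt.fst w) := by
          rw [← sub_eq_zero, sub_neg_eq_add, add_comm]; exact hw
        have h4 : algebraMap κ A ((TrivSqZeroExt.snd w)⁻¹) *
            (algebraMap κ A (TrivSqZeroExt.snd w) * z) = z := by
          rw [← mul_assoc, ← map_mul, inv_mul_cancel₀ hs, map_one, one_mul]
        rw [h3] at h4
        rw [map_mul, map_neg, ← h4]
        ring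
      have hf : TrivSqZeroExt.fst w = 0 := by
        rw [hs, map_zero, zero_mul, add_zero] at hw
        exact (map_eq_zero_iff _ (algebraMap κ A).injective).mp hw
      exact TrivSqZeroExt.ext hf hs
    have hsurj : Function.Surjective φ := by
      intro a
      obtain ⟨c, c', rfl⟩ := H2 a
      refine ⟨TrivSqZeroExt.inl c + TrivSqZeroExt.inr c', ?_⟩
      rw [hφ]
      simp only [TrivSqZeroExt.fst_add, TrivSqZeroExt.fst_inl, TrivSqZeroExt.fst_inr,
        TrivSqZeroExt.snd_add, TrivSqZeroExt.snd_inl, TrivSqZeroExt.snd_inr, add_zero, zero_add]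
    exact ⟨(AlgEquiv.ofBijective φ ⟨hinj, hsurj⟩).symm⟩
  · right
    have hz2J0 : Ideal.span {z ^ 2} ≠ (⊥ : Ideal A) := by
      rw [Ne, Ideal.span_singleton_eq_bot]; exact hz2
    have hz2J1 : Ideal.span {z ^ 2} ≠ (⊤ : Ideal A) := by
      rw [Ne, Ideal.span_singleton_eq_top]
      exact fun hu => hzu ((isUnit_pow_iff two_ne_zero).mp hu)
    obtain ⟨c, hc⟩ := codim_one hor _ hz2J0 hz2J1 z
    obtain ⟨u, hu⟩ := Ideal.mem_span_singleton'.mp hc
    have hc0 : c = 0 := by
      by_contra hc0
      apply hzu
      have h1 : z * (1 - u * z) = algebraMap κ A c := by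
        have h2 : algebraMap κ A c = z - u * z ^ 2 := by rw [hu]; ring
        rw [h2]; ring
      exact isUnit_of_mul_isUnit_left
        (h1 ▸ (isUnit_iff_ne_zero.mpr hc0).map (algebraMap κ A))
    have hzu2 : z = u * z ^ 2 := by rw [hu, hc0, map_zero, sub_zero]
    obtain ⟨e, he_def⟩ : ∃ e : A, e = u * z := ⟨_, rfl⟩
    have hee : e * e = e := by
      calc e * e = u * (u * z ^ 2) := by rw [he_def]; ring
        _ = u * z := by rw [← hzu2]
        _ = e := he_def.symm
    have he0 : e ≠ 0 := by
      intro h0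
      apply hz0
      calc z = u * z ^ 2 := hzu2
        _ = (u * z) * z := by ring
        _ = 0 := by rw [← he_def, h0, zero_mul]
    have he1 : e ≠ 1 := by
      intro h1
      exact hzu (IsUnit.of_mul_eq_one u (by rw [mul_comm, ← he_def]; exact h1))
    obtain ⟨f, hf_def⟩ : ∃ f : A, f = 1 - e := ⟨_, rfl⟩
    have hff : f * f = f := by rw [hf_def]; linear_combination hee
    have hef : e * f = 0 := by rw [hf_def]; linear_combination -hee
    have hf0 : f ≠ 0 := fun h0 => he1 (by rw [hf_def, sub_eq_zero] at h0; exact h0.symm)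
    have heu : ¬ IsUnit e := fun hu' => hf0 (hu'.mul_left_cancel (by rw [hef, mul_zero]))
    have hfu : ¬ IsUnit f :=
      fun hu' => he0 (hu'.mul_left_cancel (by rw [mul_comm, hef, mul_zero]))
    have hJe0 : Ideal.span {e} ≠ (⊥ : Ideal A) := by
      rw [Ne, Ideal.span_singleton_eq_bot]; exact he0
    have hJe1 : Ideal.span {e} ≠ (⊤ : Ideal A) := by
      rw [Ne, Ideal.span_singleton_eq_top]; exact heu
    have hJf0 : Ideal.span {f} ≠ (⊥ : Ideal A) := by
      rw [Ne, Ideal.span_singleton_eq_bot]; exact hf0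
    have hJf1 : Ideal.span {f} ≠ (⊤ : Ideal A) := by
      rw [Ne, Ideal.span_singleton_eq_top]; exact hfu
    have H3 : ∀ a : A, ∃ s t : κ, a = algebraMap κ A s * e + algebraMap κ A t * f := by
      intro a
      obtain ⟨t, ht⟩ := codim_one hor _ hJe0 hJe1 a
      obtain ⟨b, hb⟩ := Ideal.mem_span_singleton'.mp ht
      obtain ⟨s, hs⟩ := codim_one hor _ hJf0 hJf1 a
      obtain ⟨b', hb'⟩ := Ideal.mem_span_singleton'.mp hs
      refine ⟨s, t, ?_⟩
      have h1 : a * f = algebraMap κ A t * f := by
        have h3 : a = algebraMap κ A t + b * e := by rw [hb]; ring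
        rw [h3, add_mul, mul_assoc, hef, mul_zero, add_zero]
      have h2 : a * e = algebraMap κ A s * e := by
        have h3 : a = algebraMap κ A s + b' * f := by rw [hb']; ring
        rw [h3, add_mul, mul_assoc, mul_comm f e, hef, mul_zero, add_zero]
      calc a = a * e + a * f := by rw [hf_def]; ring
        _ = algebraMap κ A s * e + algebraMap κ A t * f := by rw [h1, h2]
    let ψ : (κ × κ) →ₐ[κ] A :=
      { toFun := fun w => algebraMap κ A w.1 * e + algebraMap κ A w.2 * f
        map_one' := by
          show algebraMap κ A 1 * e + algebraMap κ A 1 * f = 1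
          rw [map_one, one_mul, one_mul, hf_def]; ring
        map_mul' := by
          intro w w'
          show algebraMap κ A (w.1 * w'.1) * e + algebraMap κ A (w.2 * w'.2) * f =
            (algebraMap κ A w.1 * e + algebraMap κ A w.2 * f) *
              (algebraMap κ A w'.1 * e + algebraMap κ A w'.2 * f)
          rw [map_mul, map_mul]
          have h1 : (algebraMap κ A w.1 * e + algebraMap κ A w.2 * f) *
              (algebraMap κ A w'.1 * e + algebraMap κ A w'.2 * f) =
              algebraMap κ A w.1 * algebraMap κ A w'.1 * (e * e) +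
              (algebraMap κ A w.1 * algebraMap κ A w'.2 +
                algebraMap κ A w.2 * algebraMap κ A w'.1) * (e * f) +
              algebraMap κ A w.2 * algebraMap κ A w'.2 * (f * f) := by ring
          rw [h1, hee, hff, hef, mul_zero, add_zero]
        map_zero' := by
          show algebraMap κ A 0 * e + algebraMap κ A 0 * f = 0
          rw [map_zero, zero_mul, zero_mul, add_zero]
        map_add' := by
          intro w w'
          show algebraMap κ A (w.1 + w'.1) * e + algebraMap κ A (w.2 + w'.2) * f =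
            (algebraMap κ A w.1 * e + algebraMap κ A w.2 * f) +
              (algebraMap κ A w'.1 * e + algebraMap κ A w'.2 * f)
          rw [map_add, map_add]; ring
        commutes' := by
          intro c
          show algebraMap κ A c * e + algebraMap κ A c * f = algebraMap κ A c
          rw [hf_def]; ring }
    have hψ : ∀ w : κ × κ, ψ w = algebraMap κ A w.1 * e + algebraMap κ A w.2 * f :=
      fun w => rfl
    have hinj : Function.Injective ψ := by
      rw [injective_iff_map_eq_zero]
      intro w hw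
      rw [hψ] at hw
      have h1 : algebraMap κ A w.1 * e = 0 := by
        have h3 : (algebraMap κ A w.1 * e + algebraMap κ A w.2 * f) * e = 0 := by
          rw [hw, zero_mul]
        rw [add_mul, mul_assoc, hee, mul_assoc, mul_comm f e, hef, mul_zero, add_zero] at h3
        exact h3
      have h2 : algebraMap κ A w.2 * f = 0 := by rw [h1, zero_add] at hw; exact hw
      have hw1 : w.1 = 0 := by
        by_contra h0
        apply he0
        have hu' := (isUnit_iff_ne_zero.mpr h0).map (algebraMap κ A)
        exact hu'.mul_left_cancel (by rw [h1, mul_zero])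
      have hw2 : w.2 = 0 := by
        by_contra h0
        apply hf0
        have hu' := (isUnit_iff_ne_zero.mpr h0).map (algebraMap κ A)
        exact hu'.mul_left_cancel (by rw [h2, mul_zero])
      exact Prod.ext hw1 hw2
    have hsurj : Function.Surjective ψ := by
      intro a
      obtain ⟨s, t, rfl⟩ := H3 a
      exact ⟨(s, t), rfl⟩
    exact ⟨(AlgEquiv.ofBijective ψ ⟨hinj, hsurj⟩).symm⟩

theorem field_case [Nontrivial A] [FiniteDimensional κ A]
    (hor : ∀ S : Subalgebra κ A, S = ⊥ ∨ S = ⊤) (hF : IsField A)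
    (hsep : ¬ Algebra.IsSeparable κ A) :
    ∃ (p : ℕ) (a : κ), p.Prime ∧ CharP κ p ∧ (∀ b : κ, b ^ p ≠ a) ∧
      Nonempty (A ≃ₐ[κ] AdjoinRoot (X ^ p - C a)) := by
  haveI : IsDomain A := hF.isDomain
  rw [Algebra.isSeparable_def] at hsep
  push Not at hsep
  obtain ⟨x, hxsep⟩ := hsep
  have hxsep' : ¬ (minpoly κ x).Separable := hxsep
  have hint : IsIntegral κ x := Algebra.IsIntegral.isIntegral x
  have hirr : Irreducible (minpoly κ x) := minpoly.irreducible hint
  have hder : derivative (minpoly κ x) = 0 := by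
    by_contra hne
    exact hxsep' ((separable_iff_derivative_ne_zero hirr).mpr hne)
  obtain ⟨p, hp⟩ := CharP.exists κ
  have hp0 : p ≠ 0 := by
    rintro rfl
    haveI : CharZero κ := CharP.charP_to_charZero κ
    exact hxsep' hirr.separable
  have hpp : p.Prime := (CharP.char_is_prime_or_zero κ p).resolve_right hp0
  haveI : Fact p.Prime := ⟨hpp⟩
  haveI : CharP A p := charP_of_injective_algebraMap (algebraMap κ A).injective p
  have hxbot : x ∉ (⊥ : Subalgebra κ A) := by
    rw [Algebra.mem_bot]
    rintro ⟨c, rfl⟩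
    apply hxsep'
    rw [minpoly.eq_X_sub_C_of_algebraMap_inj c (algebraMap κ A).injective]
    exact separable_X_sub_C
  have hxp : x ^ p ∈ (⊥ : Subalgebra κ A) := by
    by_contra hxp
    have hadj : Algebra.adjoin κ {x ^ p} = ⊤ :=
      (hor _).resolve_left
        (fun h0 => hxp (h0 ▸ Algebra.self_mem_adjoin_singleton κ (x ^ p)))
    have hmem : x ∈ Algebra.adjoin κ {x ^ p} := by rw [hadj]; exact Algebra.mem_top
    rw [Algebra.adjoin_singleton_eq_range_aeval] at hmem
    obtain ⟨q, hq⟩ := hmem
    have hq' : aeval (x ^ p) q = x := hq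
    have hr : aeval x (expand κ p q - X) = 0 := by
      rw [map_sub, expand_aeval, aeval_X, hq', sub_self]
    obtain ⟨s, hs⟩ := minpoly.dvd κ x hr
    have hd1 : derivative (expand κ p q - X) = -1 := by
      rw [derivative_sub, derivative_expand, derivative_X, ← C_eq_natCast,
        CharP.cast_eq_zero κ p, C_0, zero_mul, mul_zero, zero_sub]
    have hd2 : derivative (expand κ p q - X) = minpoly κ x * derivative s := by
      rw [hs, derivative_mul, hder, zero_mul, zero_add]
    have hunit : IsUnit (minpoly κ x) := by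
      apply IsUnit.of_mul_eq_one (- derivative s)
      rw [mul_neg, ← hd2, hd1, neg_neg]
    exact hirr.not_isUnit hunit
  rw [Algebra.mem_bot] at hxp
  obtain ⟨a, ha⟩ := hxp
  have hnp : ∀ b : κ, b ^ p ≠ a := by
    intro b hb
    apply hxbot
    rw [Algebra.mem_bot]
    refine ⟨b, ?_⟩
    have h1 : (x - algebraMap κ A b) ^ p = 0 := by
      rw [sub_pow_char, ← ha, ← hb, map_pow, sub_self]
    have h2 : x - algebraMap κ A b = 0 := (pow_eq_zero_iff hpp.ne_zero).mp h1
    exact (sub_eq_zero.mp h2).symm
  have hirr2 : Irreducible (X ^ p - C a : κ[X]) := X_pow_sub_C_irreducible_of_prime hpp hnp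
  haveI : Fact (Irreducible (X ^ p - C a : κ[X])) := ⟨hirr2⟩
  let φ : AdjoinRoot (X ^ p - C a : κ[X]) →ₐ[κ] A :=
    AdjoinRoot.liftAlgHom (X ^ p - C a) (Algebra.ofId κ A) x (by
      rw [eval₂_sub, eval₂_X_pow, eval₂_C]
      show x ^ p - algebraMap κ A a = 0
      rw [ha, sub_self])
  have hφroot : φ (AdjoinRoot.root _) = x := AdjoinRoot.liftAlgHom_root _ _ _ _
  have hinj : Function.Injective φ :=
    (φ : AdjoinRoot (X ^ p - C a : κ[X]) →+* A).injective
  have hsurj : Function.Surjective φ := by
    rw [← AlgHom.range_eq_top]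
    refine (hor _).resolve_left (fun h0 => hxbot ?_)
    rw [← h0]
    exact ⟨AdjoinRoot.root _, hφroot⟩
  exact ⟨p, a, hpp, hp, hnp, ⟨(AlgEquiv.ofBijective φ ⟨hinj, hsurj⟩).symm⟩⟩

end aux



open Polynomial in
/-- Let κ be a field and A a commutative κ-algebra whose only κ-subalgebras are the image of κ and A
itself, these two being different. Then A is finite-dimensional over κ, and A is isomorphic as a
κ-algebra to the dual numbers over κ, or to κ × κ, or A is a field which is either separable over κ
or isomorphic to κ[X]/(X^p - a) with p the (positive) characteristic of κ and a an element of κ that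
is not a p-th power. (The published statement also records that these four cases exclude one
another; that part is not restated.) -/
theorem result (κ A : Type u) [Field κ] [CommRing A] [Algebra κ A]
    (h : IsSimpleOrder (Subalgebra κ A)) :
    FiniteDimensional κ A ∧
    (Nonempty (A ≃ₐ[κ] DualNumber κ) ∨ Nonempty (A ≃ₐ[κ] (κ × κ)) ∨
      (IsField A ∧ (Algebra.IsSeparable κ A ∨
        ∃ (p : ℕ) (a : κ), p.Prime ∧ CharP κ p ∧ (∀ b : κ, b ^ p ≠ a) ∧
          Nonempty (A ≃ₐ[κ] AdjoinRoot (X ^ p - C a))))) := by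
  haveI := h
  have hbt : (⊥ : Subalgebra κ A) ≠ ⊤ := bot_ne_top
  have hor : ∀ S : Subalgebra κ A, S = ⊥ ∨ S = ⊤ := fun S => eq_bot_or_eq_top S
  haveI : Nontrivial A := by
    by_contra hn
    rw [not_nontrivial_iff_subsingleton] at hn
    apply hbt
    ext x
    constructor
    · intro _; exact Algebra.mem_top
    · intro _
      rw [Subsingleton.elim x 0]
      exact zero_mem _
  haveI hfd : FiniteDimensional κ A := fd hbt hor
  refine ⟨hfd, ?_⟩
  by_cases hF : IsField A
  · right; right
    refine ⟨hF, ?_⟩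
    by_cases hsep : Algebra.IsSeparable κ A
    · exact Or.inl hsep
    · exact Or.inr (field_case hor hF hsep)
  · rcases nonfield_case hor hF with h1 | h1
    · exact Or.inl h1
    · exact Or.inr (Or.inl h1)


end Groth.Agent.S15939
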