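import Groth.Statements.S15941
import Mathlib.RingTheory.IntegralClosure.IntegrallyClosed
import Mathlib.Tactic.FieldSimp
import Mathlib.Tactic.Ring

set_option autoImplicit false
universe u
open HTop

namespace Groth.Agent.S15941

/-- An integrally closed integral domain is a seminormal ring, that is, whenever x^3 = y^2 there is
exactly one element a with x = a^2 and y = a^3. (The published statement is for a normal Noetherian
scheme and reduces at once to this affine integral case; the Noetherian hypothesis plays no role.) -/
theorem result (A : Type u) [CommRing A] [IsDomain A]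
    [IsIntegrallyClosed A] : HTop.IsSeminormalRing A := by
  intro x y h
  by_cases hx : x = 0
  · subst hx
    have hy : y = 0 := by
      have : y ^ 2 = 0 := by rw [← h]; ring
      exact (pow_eq_zero_iff two_ne_zero).mp this
    subst hy
    refine ⟨0, ⟨by ring, by ring⟩, ?_⟩
    rintro a ⟨ha, -⟩
    exact (pow_eq_zero_iff two_ne_zero).mp ha.symm
  · have hinj := IsFractionRing.injective A (FractionRing A)
    have hx' : algebraMap A (FractionRing A) x ≠ 0 := fun h0 => hx (hinj (by rw [h0, map_zero]))
    set a' : FractionRing A := algebraMap A (FractionRing A) y / algebraMap A (FractionRing A) x with ha'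
    have h2 : a' ^ 2 = algebraMap A (FractionRing A) x := by
      rw [ha', div_pow, ← map_pow, ← h, map_pow]; field_simp
    have hint : IsIntegral A a' := by
      refine ⟨Polynomial.X ^ 2 - Polynomial.C x, Polynomial.monic_X_pow_sub_C x two_ne_zero, ?_⟩
      simp [h2]
    obtain ⟨a, ha⟩ := IsIntegrallyClosed.isIntegral_iff.mp hint
    have hax : a * x = y := by
      apply hinj
      rw [map_mul, ha, ha']; field_simp
    have ha2 : a ^ 2 = x := by
      apply hinj; rw [map_pow, ha, h2]
    refine ⟨a, ⟨ha2.symm, by rw [← hax, ← ha2]; ring⟩, ?_⟩
    rintro b ⟨hb2, hb3⟩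
    have : b * x = a * x := by rw [hax, hb3, hb2]; ring
    exact mul_right_cancel₀ hx this

end Groth.Agent.S15941
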