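import Groth.Statements.S1596
import Mathlib
import Groth.Agent.Lib.Helper18.NNUnit
import Groth.Agent.Lib.Helper7.SteinU2
import Groth.Agent.Lib.Helper17.NodalGorRed
import Groth.Agent.Lib.Helper24.AssFib8

set_option autoImplicit false
universe u
open CategoryTheory CategoryTheory.Limits AlgebraicGeometry
open Curves

namespace Groth.Agent.S1596

open Groth.Agent.Lib.Helper18.NNUnit

/-- Let f : X → S be a proper morphism of schemes that is at-worst-nodal of relative dimension one with
geometrically connected fibres. Then R¹f_*O_X is a finite locally free O_S-module and R^q f_*O_X = 0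
for every q ≥ 2. The published statement also includes the compatibility of these direct images with
base change, which is not asserted here. (Existence of injective resolutions in the category of
O_X-modules is carried as an instance binder.) -/
theorem result {X S : Scheme.{u}} (f : X ⟶ S) [IsProper f] (hf : Curv2.IsNodalFamily f)
    [GeometricallyConnected f] [HasInjectiveResolutions X.Modules] :
    FlatMod.IsFinLocFree ((Coh.Rpush f 1).obj (Coh.structureModule X)) ∧
      ∀ q : ℕ, 2 ≤ q → IsZero ((Coh.Rpush f q).obj (Coh.structureModule X)) := by
  obtain ⟨hflat, hlfp, hfib⟩ := hf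
  haveI := hflat
  haveI := hlfp
  have hdim : ∀ s : S, topologicalKrullDim ↥(f.fiber s) ≤ 1 := fun s =>
    Groth.Agent.Lib.Helper24.AssFib.topologicalKrullDim_le_of_forall_irreducibleComponents 1
      (fun Z hZ => ((hfib s).1 Z hZ).le)
  have h0 : ∀ s : S, IsIso (f.fiberToSpecResidueField s).appTop := by
    intro s
    haveI : IsProper (f.fiberToSpecResidueField s) :=
      MorphismProperty.of_isPullback (IsPullback.of_hasPullback f (S.fromSpecResidueField s))
        inferInstance
    haveI : Flat (f.fiberToSpecResidueField s) :=
      MorphismProperty.of_isPullback (IsPullback.of_hasPullback f (S.fromSpecResidueField s))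
        inferInstance
    haveI : LocallyOfFinitePresentation (f.fiberToSpecResidueField s) :=
      MorphismProperty.of_isPullback (IsPullback.of_hasPullback f (S.fromSpecResidueField s))
        inferInstance
    haveI : LocallyOfFiniteType (f.fiberToSpecResidueField s) := inferInstance
    haveI : GeometricallyReduced (f.fiberToSpecResidueField s) :=
      Groth.Agent.Lib.helper17.NodalGorRed.geometricallyReduced_of_atWorstNodal
        (S.residueField s) (f.fiberToSpecResidueField s) (hfib s).2
    exact Groth.Agent.Lib.helper7.SteinU.isIso_app (f.fiberToSpecResidueField s) ⊤
  exact ⟨isFinLocFree_rpush_one_structureModule f hdim h0,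
    fun q hq => isZero_rpush_structureModule f hdim q hq⟩

end Groth.Agent.S1596
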