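import Groth.Statements.S15963
import Groth.Agent.Lib.Helper2.SNScheme

set_option autoImplicit false
universe u
open HTop

namespace Groth.Agent.S15963

theorem finite_of_comp_injective {A B C : Type u} [CommRing A] [CommRing B] [CommRing C]
    [IsNoetherianRing A] (f : A →+* B) (g : B →+* C) (hg : Function.Injective g)
    (h : (g.comp f).Finite) : f.Finite := by
  algebraize [f, g, g.comp f]
  let l : B →ₗ[A] C := (IsScalarTower.toAlgHom A B C).toLinearMap
  exact Module.Finite.of_injective l hg

open CategoryTheory AlgebraicGeometry in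
/-- Let S be a reduced Noetherian scheme, π : S̃ → S its normalisation (S̃ has integrally closed local
domains, π is integral and an isomorphism over a dense open subset of S with dense preimage), ν : X'
→ S a seminormalization of S (X' seminormal, ν a universal homeomorphism with residue-field
isomorphisms, initial among such) and g : S̃ → X' a morphism with g followed by ν equal to π. Then ν
and g are scheme-theoretically dominant (the structure sheaf maps injectively into the direct
image), and if π is finite then so are ν and g. -/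
theorem result {S Sn X' : Scheme.{u}}
    [IsNoetherian S] [IsReduced S]
    (π : Sn ⟶ S) [IsIntegralHom π] (hn : Pi1.IsNormalScheme Sn)
    (hbir : ∃ U : S.Opens, Dense (U : Set S) ∧ Dense ((π ⁻¹ᵁ U : Sn.Opens) : Set Sn) ∧ IsIso (π ∣_ U))
    (ν : X' ⟶ S) (hν : HTop.IsSeminormalization ν) (hX' : HTop.IsSeminormal X')
    (g : Sn ⟶ X') (hg : g ≫ ν = π) :
    (IsSchemeTheoreticallyDominant ν ∧ IsSchemeTheoreticallyDominant g) ∧
      (IsFinite π → IsFinite ν ∧ IsFinite g) := by
  haveI : IsReduced X' := Groth.Agent.Lib.helper2.SNScheme.isReduced_of_isSeminormal hX'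
  have hνh : IsHomeomorph ν := Groth.Agent.Lib.helper2.AWNScheme.isHomeomorph_of_isUnivHomeo ν hν.1.1
  haveI : IsAffineHom ν := Groth.Agent.Lib.helper2.AWNScheme.isAffineHom_of_isUnivHomeo ν hν.1.1
  -- π is surjective
  have hπs : Function.Surjective π := by
    obtain ⟨U, hU, -, hiso⟩ := hbir
    have hcl : IsClosed (Set.range π) := π.isClosedMap.isClosed_range
    have hsub : (U : Set S) ⊆ Set.range π := by
      intro s hs
      obtain ⟨y, hy⟩ := (π ∣_ U).surjective ⟨s, hs⟩
      refine ⟨y.1, ?_⟩
      have := morphismRestrict_base_coe π U y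
      rw [hy] at this
      exact this.symm
    have : Set.range π = Set.univ := by
      apply Set.eq_univ_of_univ_subset
      rw [← hU.closure_eq]
      exact closure_minimal hsub hcl
    exact Set.range_eq_univ.1 this
  have hgs : Function.Surjective g := by
    intro x'
    obtain ⟨y, hy⟩ := hπs (ν x')
    refine ⟨y, hνh.injective ?_⟩
    rw [← hy, ← hg]
    rfl
  haveI : Surjective ν := ⟨hνh.surjective⟩
  haveI : Surjective g := ⟨hgs⟩
  have h1 : IsSchemeTheoreticallyDominant ν := .of_isDominant ν
  have h2 : IsSchemeTheoreticallyDominant g := .of_isDominant g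
  refine ⟨⟨h1, h2⟩, fun hfin => ?_⟩
  subst hg
  haveI : IsFinite g := IsFinite.of_comp g ν
  refine ⟨?_, inferInstance⟩
  rw [isFinite_iff]
  refine ⟨inferInstance, fun V hV => ?_⟩
  haveI : IsNoetherianRing Γ(S, V) := IsLocallyNoetherian.component_noetherian ⟨V, hV⟩
  have h3 : ((g ≫ ν).app V).hom.Finite := (g ≫ ν).finite_app V hV
  rw [Scheme.Hom.comp_app] at h3
  exact finite_of_comp_injective (ν.app V).hom (g.app (ν ⁻¹ᵁ V)).hom (g.app_injective _) h3

end Groth.Agent.S15963
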