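import Groth.Statements.S1597
import Mathlib
import Groth.Agent.Lib.Helper17.CplFibreSch
import Groth.Agent.Lib.Helper17.RegGeneriz

set_option autoImplicit false
set_option linter.style.haveILetI false
universe u
open CategoryTheory CategoryTheory.Limits AlgebraicGeometry
open Resolve

namespace Groth.Agent.S1597

/-- Let A be a Noetherian local ring with completion A^, X a scheme proper over Spec A and Y its base
change to Spec A^. Then all local rings of X are regular if and only if all local rings of Y are
regular. -/
theorem result (A : Type u) [CommRing A] [IsLocalRing A] [IsNoetherianRing A]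
    (X : Scheme.{u}) (f : X ⟶ Spec (CommRingCat.of A)) [IsProper f] :
    (∀ x : X, IsRegularLocalRing (X.presheaf.stalk x)) ↔
      ∀ y : Curv2.bcCpl A f, IsRegularLocalRing ((Curv2.bcCpl A f).presheaf.stalk y) := by
  have hfcl : IsClosedMap f := f.isClosedMap
  have hscl : IsClosedMap (pullback.snd f (Groth.Agent.Lib.helper17.CplFibre.cplMap A)) :=
    (pullback.snd f (Groth.Agent.Lib.helper17.CplFibre.cplMap A)).isClosedMap
  constructor
  · intro hX y
    obtain ⟨y₀, hy, hy₀⟩ := Groth.Agent.Lib.helper17.RegGeneriz.exists_specializes_closedFibre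
      (pullback.snd f (Groth.Agent.Lib.helper17.CplFibre.cplMap A)) hscl y
    have h1 := (Groth.Agent.Lib.helper17.CplFibre.isRegularLocalRing_stalk_iff A f y₀ hy₀).mpr (hX _)
    exact Groth.Agent.Lib.helper17.RegGeneriz.isRegularLocalRing_stalk_of_specializes hy h1
  · intro hY x
    obtain ⟨x₀, hx, hx₀⟩ :=
      Groth.Agent.Lib.helper17.RegGeneriz.exists_specializes_closedFibre f hfcl x
    have hc : f x₀ = (Groth.Agent.Lib.helper17.CplFibre.cplMap A)
        (IsLocalRing.closedPoint (AdicCompletion (IsLocalRing.maximalIdeal A) A)) := by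
      rw [hx₀]
      exact (IsLocalRing.comap_closedPoint
        (algebraMap A (AdicCompletion (IsLocalRing.maximalIdeal A) A))).symm
    obtain ⟨y₀, hy₁, hy₂⟩ := Scheme.Pullback.exists_preimage_pullback x₀ _ hc
    have h1 := (Groth.Agent.Lib.helper17.CplFibre.isRegularLocalRing_stalk_iff A f y₀ hy₂).mp (hY y₀)
    rw [hy₁] at h1
    exact Groth.Agent.Lib.helper17.RegGeneriz.isRegularLocalRing_stalk_of_specializes hx h1

end Groth.Agent.S1597
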