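import Groth.Statements.S15976
import Groth.Agent.Lib.Helper20.RegSecAvoid1
import Groth.Agent.Lib.Helper20.RegSecAvoid2
import Groth.Agent.Lib.Helper16.PrimDec5

set_option autoImplicit false
universe u
open IntSh

namespace Groth.Agent.S15976

open CategoryTheory CategoryTheory.Limits AlgebraicGeometry Opposite in
/-- Let A be a Noetherian local ring with infinite residue field, V a Noetherian scheme over Spec A, L
an invertible O_V-module generated by finitely many global sections σ_0, …, σ_N (at every point some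
σ_i generates L), and F_1, …, F_m coherent O_V-modules. Then some A-linear combination σ of the σ_i
is F_j-regular for every j, regularity of a global section σ of L with respect to F meaning that the
map F ⊗ O_V → F ⊗ L induced by σ is injective. The combination is expressed through the global
sections σ(1), σ_i(1) ∈ Γ(V, L) and the images in Γ(V, O_V) of the coefficients from A. -/
theorem result
    {A : Type u} [CommRing A] [IsNoetherianRing A] [IsLocalRing A]
    (hA : Infinite (IsLocalRing.ResidueField A))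
    {V : Scheme.{u}} [IsNoetherian V] (f : V ⟶ Spec (CommRingCat.of A))
    (L : V.Modules) (hL : PicF.IsInvertible L)
    {N : ℕ} (σ : Fin (N + 1) → (Coh.structureModule V ⟶ L))
    (hgen : ∀ x : V, ∃ i, x ∈ CohB1.genLocus L (σ i))
    {m : ℕ} (F : Fin m → V.Modules) (hF : ∀ j, Coh.IsCoh (F j)) :
    ∃ (τ : Coh.structureModule V ⟶ L) (a : Fin (N + 1) → A),
      τ.val.app (op ⊤) (1 : V.ringCatSheaf.obj.obj (op ⊤)) =
        ∑ i, f.appTop ((Scheme.ΓSpecIso (CommRingCat.of A)).inv (a i)) •
          (σ i).val.app (op ⊤) (1 : V.ringCatSheaf.obj.obj (op ⊤)) ∧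
      ∀ j, Mono (((DCoh.tensorBi (X := V)).obj (F j)).map τ) := by
  classical
  haveI := hA
  haveI : ∀ j, (F j).IsQuasicoherent := fun j => (hF j).1
  have hD : ∀ x : V, Nonempty (Groth.Agent.Lib.Helper20.RegSecAvoid.LocData σ x) :=
    Groth.Agent.Lib.Helper20.RegSecAvoid.nonempty_locData σ hL
  let D : ∀ x : V, Groth.Agent.Lib.Helper20.RegSecAvoid.LocData σ x := fun x => (hD x).some
  let γ : A →+* Γ(V, ⊤) :=
    (f.appTop.hom).comp ((Scheme.ΓSpecIso (CommRingCat.of A)).inv.hom)
  let ρ : ∀ x : V, A →+* IsLocalRing.ResidueField (V.presheaf.stalk x) :=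
    fun x => ((D x).ev.comp (D x).rs).comp γ
  let M : V → Submodule A (Fin (N + 1) → A) := fun x =>
    { carrier := {a | ∑ i, ρ x (a i) * (D x).ev ((D x).h i) = 0}
      add_mem' := by
        intro a b ha hb
        show ∑ i, ρ x ((a + b) i) * (D x).ev ((D x).h i) = 0
        have ha' : ∑ i, ρ x (a i) * (D x).ev ((D x).h i) = 0 := ha
        have hb' : ∑ i, ρ x (b i) * (D x).ev ((D x).h i) = 0 := hb
        simp only [Pi.add_apply, map_add, add_mul, Finset.sum_add_distrib, ha', hb', add_zero]
      zero_mem' := by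
        show ∑ i, ρ x ((0 : Fin (N + 1) → A) i) * (D x).ev ((D x).h i) = 0
        simp
      smul_mem' := by
        intro r a ha
        show ∑ i, ρ x ((r • a) i) * (D x).ev ((D x).h i) = 0
        have ha' : ∑ i, ρ x (a i) * (D x).ev ((D x).h i) = 0 := ha
        simp only [Pi.smul_apply, smul_eq_mul, map_mul, mul_assoc]
        rw [← Finset.mul_sum, ha', mul_zero] }
  have hMne : ∀ x, M x ≠ ⊤ := by
    intro x h
    obtain ⟨i, hi⟩ := hgen x
    rw [(D x).mem_genLocus_iff_single i] at hi
    apply hi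
    have h1 : (Pi.single i (1 : A) : Fin (N + 1) → A) ∈ M x := by rw [h]; trivial
    have h2 : ∑ j, ρ x ((Pi.single i (1 : A) : Fin (N + 1) → A) j) * (D x).ev ((D x).h j) = 0 := h1
    rw [Finset.sum_eq_single i] at h2
    · simpa using h2
    · intro j _ hj
      rw [Pi.single_eq_of_ne hj]
      simp
    · intro h'
      exact absurd (Finset.mem_univ i) h'
  have hfin : (⋃ j, AssSch.Ass (F j)).Finite :=
    Set.finite_iUnion (fun j => Groth.Agent.Lib.helper16.PrimDec.finite_ass (F j) (hF j))
  obtain ⟨a, ha⟩ := Groth.Agent.Lib.Helper20.RegSecAvoid.exists_notMem_of_ne_top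
    hfin.toFinset M (fun x _ => hMne x)
  let c : Fin (N + 1) → Γ(V, ⊤) := fun i => γ (a i)
  let t : L.val.obj (op ⊤) :=
    ∑ i, c i • (σ i).val.app (op ⊤) (1 : V.ringCatSheaf.obj.obj (op ⊤))
  let τ : Coh.structureModule V ⟶ L := Groth.Agent.Lib.helper12.AmpleBasis.homOfSec L t
  have hτ0 : τ.val.app (op ⊤) (1 : V.ringCatSheaf.obj.obj (op ⊤)) = t := by
    have h1 := Groth.Agent.Lib.helper12.AmpleBasis.val_homOfSec L t ⊤
    have h2 : Groth.Agent.Lib.helper12.TwistExtend.res L (le_top : (⊤ : V.Opens) ≤ ⊤) t = t := by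
      show L.val.map (homOfLE (le_refl (⊤ : V.Opens))).op t = t
      have : (homOfLE (le_refl (⊤ : V.Opens))).op = 𝟙 (op ⊤) := rfl
      rw [this, L.val.map_id]
      rfl
    rw [h2] at h1
    exact h1
  refine ⟨τ, a, hτ0, fun j => ?_⟩
  apply Groth.Agent.Lib.Helper20.RegSecAvoid.mono_tensorMap_of_forall_assPoint_mem_genLocus hL
    (F j) τ
  intro x hx
  rw [(D x).mem_genLocus_iff c τ hτ0]
  have hxS : x ∈ hfin.toFinset := by
    rw [Set.Finite.mem_toFinset]
    exact Set.mem_iUnion.mpr ⟨j, hx⟩
  exact ha x hxS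

end Groth.Agent.S15976
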