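import Groth.Statements.S19466
import Mathlib
import Groth.Agent.Lib.Helper18.NNPush

set_option autoImplicit false
universe u
open Coherent

namespace Groth.Agent.S19466

open Groth.Agent.Lib.Helper18.NNLocal Groth.Agent.Lib.Helper18.NNRows
  Groth.Agent.Lib.Helper18.SplitAlg Groth.Agent.Lib.Helper18.NNPush
  Groth.Agent.Lib.Helper18.NNGen
  Groth.Agent.Lib.helper25.FLFLocus

open AlgebraicGeometry CategoryTheory CategoryTheory.Limits in
/-- Let f : X → S be proper and of finite presentation, F an O_X-module of finite presentation which is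
flat over S, and s a point of S such that the degree-0 base change map of the fibre square at s,
from the pullback of f_* F to Spec κ(s) to the direct image of the restriction of F to the fibre X_s
(on global sections: f_* F ⊗ κ(s) → H^0(X_s, F_s)), is an epimorphism. Then there is an open
neighbourhood U of s such that f_* F restricted to U is finite locally free and, for every cartesian
square on a morphism g : T → S whose image lies in U, with projections f' : X' → T and g' : X' → X,
the base change map g^* f_* F → f'_* g'^* F is an isomorphism. (In degree 0 the surjectivity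
condition on the comparison map one degree lower is empty, so both conclusions of the published
statement hold; the statement for higher degrees is not part of this row.) -/
theorem result {X S : Scheme.{u}} (f : X ⟶ S)
    [IsProper f] [LocallyOfFinitePresentation f]
    (F : X.Modules) (hF : CohB1.IsFP F) (hfl : FlatMod.IsFlatOver f F) (s : S)
    (hs : Epi (CohBC.bc0 f (S.fromSpecResidueField s) (f.fiberToSpecResidueField s) (f.fiberι s)
      (f.fiber_fac s) F)) :
    ∃ U : S.Opens, s ∈ U ∧ FlatMod.IsFinLocFree (((Coh.push f).obj F).restrict U.ι) ∧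
      ∀ (T X' : Scheme.{u}) (g : T ⟶ S) (f' : X' ⟶ T) (g' : X' ⟶ X) (hsq : IsPullback g' f' f g),
        Set.range g.base ⊆ (U : Set S) → IsIso (CohBC.bc0 f g f' g' hsq.w F) := by
  classical
  haveI : F.IsFinitePresentation := hF
  haveI : F.IsQuasicoherent := inferInstance
  haveI : ((Scheme.Modules.pushforward f).obj F).IsQuasicoherent :=
    Groth.Agent.Lib.helper7.QCohPushQC.isQuasicoherent_pushforward f F
  obtain ⟨W, hW', hsW, -⟩ := TopologicalSpace.Opens.isBasis_iff_nbhd.mp S.isBasis_affineOpens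
    (show s ∈ (⊤ : S.Opens) from trivial)
  have hW : IsAffineOpen W := hW'
  obtain ⟨L, hLff, -, hneg, hL, Θ₀, hΘ₀⟩ := master_push f F hF hfl hW
  obtain ⟨a0, hsa0, hg0⟩ := exists_gsplit_of_epi₀ f F hW L hLff Θ₀ hΘ₀ s hsW hs
  have hx : hW.fromSpec (hW.primeIdealOf ⟨s, hsW⟩) = s := hW.fromSpec_primeIdealOf ⟨s, hsW⟩
  have h0 : Subsingleton ((CohIII.bcCx (algebraMap Γ(S, W)
      (hW.primeIdealOf ⟨s, hsW⟩).asIdeal.ResidueField) L).homology (-1)) :=
    ModuleCat.subsingleton_of_isZero (hneg _ (-1) (by norm_num))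
  obtain ⟨am, hsam, hgm, -, -⟩ := exists_splits_of_subsingleton_bc hW L hLff
    (hW.primeIdealOf ⟨s, hsW⟩) (-1) h0
  rw [hx] at hsam
  have hrel0 : (ComplexShape.up ℤ).Rel (-1 : ℤ) ((0 : ℕ) : ℤ) := by
    show (-1 : ℤ) + 1 = ((0 : ℕ) : ℤ)
    norm_num
  have hfi : FSplit (L.sc ((0 : ℕ) : ℤ)) am := (fsplit_iff_gsplit L hrel0 am).mpr hgm
  have hmul : S.basicOpen (a0 * am) = S.basicOpen a0 ⊓ S.basicOpen am := Scheme.basicOpen_mul S a0 am
  have hle0 : S.basicOpen (a0 * am) ≤ S.basicOpen a0 := hmul.le.trans inf_le_left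
  have hlem : S.basicOpen (a0 * am) ≤ S.basicOpen am := hmul.le.trans inf_le_right
  refine ⟨S.basicOpen (a0 * am), by rw [hmul]; exact ⟨hsa0, hsam⟩, ?_, ?_⟩
  · apply FLFOn.isFinLocFree_restrict
    intro t ht
    haveI : Module.Finite Γ(S, W) (L.sc ((0 : ℕ) : ℤ)).X₂ := (hLff _).1
    haveI : Module.Free Γ(S, W) (L.sc ((0 : ℕ) : ℤ)).X₂ := (hLff _).2
    obtain ⟨p1, p2⟩ := projective_sections_basicOpen ((Scheme.Modules.pushforward f).obj F) hW
      (L.sc ((0 : ℕ) : ℤ)) Θ₀ (a0 * am) am a0 hfi hg0 hlem hle0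
    exact freeNear_of_projective_sections _ (hW.basicOpen (a0 * am)) p1 p2 t ht
  · intro T X' g f' g' hsq hrange
    exact isIso_adj_of_splitAtGen (fun z => splitAtGen_of_gsplit f F hW L Θ₀ hΘ₀ a0 hg0 g g' f' hsq z
      (hle0 (hrange ⟨z, rfl⟩)))

end Groth.Agent.S19466
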