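import Groth.Statements.S15985
import Mathlib
import Groth.Agent.Lib.Helper18.NNMaster0

set_option autoImplicit false
universe u
open Coherent

namespace Groth.Agent.S15985

open AlgebraicGeometry CategoryTheory Scheme.Modules
open Groth.Agent.Lib.Helper18.NNLocal Groth.Agent.Lib.Helper18.NNRows
  Groth.Agent.Lib.Helper18.SplitAlg Groth.Agent.Lib.Helper18.NNMaster0

open AlgebraicGeometry CategoryTheory Scheme.Modules in
/-- Let π : X → Y be proper of finite presentation, F a quasi-coherent O_X-module of finite
presentation, flat over Y, and p a natural number such that H^p(X_y, F|_{X_y}) = 0 for every point y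
of Y (cohomology of the restriction of F to the scheme-theoretic fibre at y). Then the higher direct
image R^p π_* F (the p-th right derived functor of π_* on O_X-modules, applied to F) is zero. -/
theorem result
    {X Y : Scheme.{u}} (π : X ⟶ Y) [IsProper π] [LocallyOfFinitePresentation π]
    [HasInjectiveResolutions X.Modules]
    (F : X.Modules) [Coh.IsQCoh F] (hfp : CohB1.IsFP F) (hfl : FlatMod.IsFlatOver π F) (p : ℕ)
    (h0 : ∀ y : Y, Subsingleton (CohIII.fiberH π F y p)) :
    Limits.IsZero ((Coh.Rpush π p).obj F) := by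
  classical
  haveI : ((Coh.Rpush π p).obj F).IsQuasicoherent := Groth.Agent.S0030.result π F p
  apply isZero_of_killAt
  intro t
  obtain ⟨W, hW', htW, -⟩ := TopologicalSpace.Opens.isBasis_iff_nbhd.mp Y.isBasis_affineOpens
    (show t ∈ (⊤ : Y.Opens) from trivial)
  have hW : IsAffineOpen W := hW'
  obtain ⟨L, hLff, -, -, hL, hΘ⟩ := master₀ π F hfp hfl hW
  obtain ⟨a, hta, -, -, hz⟩ := exists_splits_of_vanish π hW F L hLff hL t htW p (h0 t)
  obtain ⟨ΘA⟩ := hΘ p
  refine ⟨W, hW, a, hta, fun m => ?_⟩
  obtain ⟨x, rfl⟩ := ΘA.surjective m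
  have h0 : a • x = 0 := smul_homology_eq_zero (S := L.sc (p : ℤ)) hz x
  rw [← _root_.map_smul, h0, _root_.map_zero]

end Groth.Agent.S15985
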