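import Groth.Statements.S15987

set_option autoImplicit false
universe u v
open Deform

namespace Groth.Agent.S15987

open TrivSqZeroExt

variable {k : Type u} [Field k] {A : Type u} [CommRing A] [Algebra k A]

/-- The algebra endomorphism `(a, b) ↦ (a, b + D a)` of the dual numbers attached to a
derivation. -/
def homOfDer (D : Derivation k A A) : DualNumber A →ₐ[k] DualNumber A where
  toFun := fun x => inl x.fst + inr (x.snd + D x.fst)
  map_one' := by ext <;> simp
  map_mul' := fun x y => by
    ext
    · simp
    · simp only [snd_add, snd_inl, snd_inr, zero_add, DualNumber.snd_mul, fst_mul, fst_add,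
        fst_inl, fst_inr, add_zero, Derivation.leibniz, smul_eq_mul]
      ring
  map_zero' := by ext <;> simp
  map_add' := fun x y => by
    ext
    · simp
    · simp only [snd_add, snd_inl, snd_inr, zero_add, fst_add, map_add]; ring
  commutes' := fun r => by
    rw [algebraMap_eq_inl']
    ext
    · simp
    · simp

theorem homOfDer_apply (D : Derivation k A A) (x : DualNumber A) :
    homOfDer D x = inl x.fst + inr (x.snd + D x.fst) := rfl

/-- The automorphism `(a, b) ↦ (a, b + D a)` of the dual numbers attached to a derivation. -/
def autOfDer (D : Derivation k A A) : DualNumber A ≃ₐ[k] DualNumber A :=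
  AlgEquiv.ofAlgHom (homOfDer D) (homOfDer (-D))
    (by
      apply AlgHom.ext
      intro x
      simp only [AlgHom.comp_apply, homOfDer_apply, AlgHom.id_apply]
      ext <;> simp)
    (by
      apply AlgHom.ext
      intro x
      simp only [AlgHom.comp_apply, homOfDer_apply, AlgHom.id_apply]
      ext <;> simp)

theorem autOfDer_apply (D : Derivation k A A) (x : DualNumber A) :
    autOfDer D x = inl x.fst + inr (x.snd + D x.fst) := rfl

/-- Shape of an automorphism fixing `ε` and reducing to the identity. -/
theorem aut_apply (φ : DualNumber A ≃ₐ[k] DualNumber A) (hε : φ DualNumber.eps = DualNumber.eps)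
    (h1 : ∀ x, (φ x).fst = x.fst) (x : DualNumber A) :
    φ x = inl x.fst + inr (x.snd + (φ (inl x.fst)).snd) := by
  have hx : x = inl x.fst + inl x.snd * DualNumber.eps := by
    ext
    · simp
    · simp
  conv_lhs => rw [hx]
  rw [map_add, map_mul, hε]
  ext
  · simp [h1]
  · simp [h1, add_comm]

/-- The derivation attached to an automorphism fixing `ε` and reducing to the identity. -/
def derOfAut (φ : DualNumber A ≃ₐ[k] DualNumber A) (h1 : ∀ x, (φ x).fst = x.fst) :
    Derivation k A A :=
  Derivation.mk'
    { toFun := fun a => (φ (inl a)).snd
      map_add' := fun a b => by simp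
      map_smul' := fun r a => by
        simp only [RingHom.id_apply]
        have : (inl (r • a) : DualNumber A) = r • inl a := by ext <;> simp
        rw [this, map_smul, snd_smul] }
    (fun a b => by
      simp only [LinearMap.coe_mk, AddHom.coe_mk]
      rw [inl_mul, map_mul, DualNumber.snd_mul, h1, h1]
      simp [smul_eq_mul, mul_comm])

theorem derOfAut_apply (φ : DualNumber A ≃ₐ[k] DualNumber A) (h1 : ∀ x, (φ x).fst = x.fst) (a : A) :
    derOfAut φ h1 a = (φ (inl a)).snd := rfl

open TrivSqZeroExt in
/-- Let k be a field, A a commutative k-algebra and q_i : A → k (i ∈ ι) k-algebra maps (marked k-points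
of Spec A). The k-algebra automorphisms φ of the ring of dual numbers A[ε] that fix ε (so are
k[ε]-linear), are the identity modulo ε, and satisfy q_i((φ x)_ε) = q_i(x_ε) for all i and x
(compatibility with the trivial lifts A[ε] → k[ε] of the marked points) are in bijection with the
k-derivations D : A → A such that q_i ∘ D = 0 for every i, the bijection sending φ to a ↦ (φ(a))_ε.
(The source identifies the right-hand side with the global vector fields vanishing at the marked
points; the condition the computation yields is q_i ∘ D = 0, which is the same for Spec A smooth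
over k but is weaker in general, e.g. for A = k[x]/(x^2) with 2 invertible in k.) -/
theorem result
    (k : Type u) [Field k] (A : Type u) [CommRing A] [Algebra k A] {ι : Type v} (q : ι → (A →ₐ[k] k)) :
    ∃ e : {φ : DualNumber A ≃ₐ[k] DualNumber A //
            φ DualNumber.eps = DualNumber.eps ∧ (∀ x, (φ x).fst = x.fst) ∧
              ∀ i x, q i (φ x).snd = q i x.snd} ≃
          {D : Derivation k A A // ∀ i a, q i (D a) = 0},
      ∀ φ (a : A), (e φ).1 a = (φ.1 (inl a : DualNumber A)).snd := by
  refine ⟨{ toFun := fun φ => ⟨derOfAut φ.1 φ.2.2.1, fun i a => ?_⟩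
            invFun := fun D => ⟨autOfDer D.1, ?_, ?_, ?_⟩
            left_inv := fun φ => ?_
            right_inv := fun D => ?_ }, fun φ a => rfl⟩
  · have := φ.2.2.2 i (inl a)
    rw [derOfAut_apply]
    simpa using this
  · rw [autOfDer_apply]; ext <;> simp
  · intro x; rw [autOfDer_apply]; simp
  · intro i x; rw [autOfDer_apply]; simp [D.2 i]
  · apply Subtype.ext
    apply AlgEquiv.ext
    intro x
    rw [aut_apply φ.1 φ.2.1 φ.2.2.1 x]
    rfl
  · apply Subtype.ext
    apply Derivation.ext
    intro a
    change (autOfDer D.1 (inl a)).snd = D.1 a
    rw [autOfDer_apply]; simp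

end Groth.Agent.S15987
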