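import Groth.Statements.S15988
import Groth.Agent.S15987
import Mathlib.RingTheory.Smooth.Basic
import Mathlib.RingTheory.Ideal.Quotient.Operations

set_option autoImplicit false
universe u v
open Deform

namespace Groth.Agent.S15988

open TrivSqZeroExt

variable {k : Type u} [Field k] {A : Type u} [CommRing A] [Algebra k A]

/-- Finitely many pairwise distinct `k`-points of `A` are jointly surjective onto `ι → k`. -/
theorem pi_surjective {ι : Type v} [Finite ι] (q : ι → (A →ₐ[k] k)) (hq : Function.Injective q)
    (y : ι → k) : ∃ a : A, ∀ i, q i a = y i := by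
  have hmax : ∀ i, (RingHom.ker (q i).toRingHom).IsMaximal := fun i =>
    RingHom.ker_isMaximal_of_surjective (q i).toRingHom (fun r => ⟨algebraMap k A r, by simp⟩)
  have hne : ∀ i j, i ≠ j → RingHom.ker (q i).toRingHom ≠ RingHom.ker (q j).toRingHom := by
    intro i j hij hker
    apply hij
    apply hq
    apply AlgHom.ext
    intro a
    have h1 : a - algebraMap k A (q i a) ∈ RingHom.ker (q i).toRingHom := by
      rw [RingHom.mem_ker]; simp
    rw [hker, RingHom.mem_ker] at h1
    have h2 : q j a - q i a = 0 := by simpa using h1
    exact (sub_eq_zero.mp h2).symm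
  have hcop : Pairwise (Function.onFun IsCoprime fun i => RingHom.ker (q i).toRingHom) := by
    intro i j hij
    have := hmax i
    have := hmax j
    exact Ideal.isCoprime_of_isMaximal (hne i j hij)
  obtain ⟨r, hr⟩ := Ideal.exists_forall_sub_mem_ideal hcop (fun i => algebraMap k A (y i))
  refine ⟨r, fun i => ?_⟩
  have := hr i
  rw [RingHom.mem_ker] at this
  have h2 : q i r - y i = 0 := by simpa using this
  exact sub_eq_zero.mp h2

open TrivSqZeroExt in
/-- Let k be a field, A a smooth commutative k-algebra, q_i : A → k (i ∈ ι, ι finite) pairwise distinct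
k-algebra maps, and q'_i : A[ε] → k[ε] k-algebra maps with q'_i(ε) = ε which reduce to q_i modulo ε
(marked points of a first-order deformation with underlying trivial deformation). Then some
k-algebra automorphism φ of A[ε] with φ(ε) = ε and φ = id modulo ε carries every q'_i to the trivial
lift of q_i: q'_i(φ x) = (q_i(x_0), q_i(x_ε)) for all i and x. Together with the triviality of
first-order deformations of a smooth affine scheme this gives the source's statement that
first-order deformations of a smooth affine scheme with marked points are trivial. (The published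
statement does not say that the finitely many marked points are distinct; for two coincident points
with different lifts no such automorphism exists, so the points are taken pairwise distinct here,
and the source's non-singular is read as smooth over k.) -/
theorem result
    (k : Type u) [Field k] (A : Type u) [CommRing A] [Algebra k A] [Algebra.Smooth k A]
    {ι : Type v} [Finite ι] (q : ι → (A →ₐ[k] k)) (hq : Function.Injective q)
    (q' : ι → (DualNumber A →ₐ[k] DualNumber k))
    (hε : ∀ i, q' i DualNumber.eps = DualNumber.eps) (hq' : ∀ i x, (q' i x).fst = q i x.fst) :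
    ∃ φ : DualNumber A ≃ₐ[k] DualNumber A,
      φ DualNumber.eps = DualNumber.eps ∧ (∀ x, (φ x).fst = x.fst) ∧
        ∀ i x, (q' i (φ x)).fst = q i x.fst ∧ (q' i (φ x)).snd = q i x.snd := by
  -- the ring hom `A → ι → k`
  let Q : A →+* (ι → k) := RingHom.pi (fun i => (q i).toRingHom)
  have hQ : ∀ a i, Q a i = q i a := fun a i => rfl
  let modA : Module A (ι → k) := Module.compHom _ Q
  have hsmul : ∀ (a : A) (p : ι → k), a • p = Q a * p := fun a p => rfl
  have : IsScalarTower k A (ι → k) := ⟨fun r a p => by
    rw [hsmul, hsmul]
    funext i
    simp [hQ, Algebra.smul_def, mul_assoc]⟩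
  -- the derivation `d : A → ι → k`
  let d : Derivation k A (ι → k) := Derivation.mk'
    { toFun := fun a i => (q' i (inl a)).snd
      map_add' := fun a b => by funext i; simp
      map_smul' := fun r a => by
        funext i
        have : (inl (r • a) : DualNumber A) = r • inl a := by ext <;> simp
        simp only [RingHom.id_apply, Pi.smul_apply, this, map_smul, snd_smul] }
    (fun a b => by
      funext i
      simp only [LinearMap.coe_mk, AddHom.coe_mk, Pi.add_apply, hsmul, Pi.mul_apply, hQ]
      rw [inl_mul, map_mul, DualNumber.snd_mul, hq', hq']
      simp only [fst_inl]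
      ring)
  have hd : ∀ a i, d a i = (q' i (inl a)).snd := fun a i => rfl
  -- lift along the surjection `A → ι → k`
  let f : A →ₗ[A] (ι → k) := LinearMap.toSpanSingleton A (ι → k) 1
  have hf : ∀ a, f a = Q a := by
    intro a
    change a • (1 : ι → k) = Q a
    rw [hsmul, mul_one]
  have hfsurj : Function.Surjective f := by
    intro y
    obtain ⟨a, ha⟩ := pi_surjective q hq y
    exact ⟨a, by rw [hf]; funext i; rw [hQ, ha]⟩
  obtain ⟨h, hh⟩ := Module.projective_lifting_property f (-(d.liftKaehlerDifferential)) hfsurj
  let D : Derivation k A A := h.compDer (KaehlerDifferential.D k A)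
  have hD : ∀ a i, q i (D a) = -(q' i (inl a)).snd := by
    intro a i
    have := LinearMap.congr_fun hh (KaehlerDifferential.D k A a)
    rw [LinearMap.comp_apply, hf, LinearMap.neg_apply, Derivation.liftKaehlerDifferential_comp_D] at this
    have := congrFun this i
    rw [hQ, Pi.neg_apply, hd] at this
    exact this
  refine ⟨Groth.Agent.S15987.autOfDer D, ?_, ?_, ?_⟩
  · rw [Groth.Agent.S15987.autOfDer_apply]; ext <;> simp
  · intro x; rw [Groth.Agent.S15987.autOfDer_apply]; simp
  · intro i x
    rw [Groth.Agent.S15987.autOfDer_apply]
    have hx : (inl x.fst + inr (x.snd + D x.fst) : DualNumber A) =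
        inl x.fst + inl (x.snd + D x.fst) * DualNumber.eps := by
      ext <;> simp
    rw [hx, map_add, map_mul, hε]
    constructor
    · simp [hq']
    · simp [hq', hD]

end Groth.Agent.S15988
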