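import Groth.Statements.S15993
import Mathlib
import Groth.Agent.S3844

set_option autoImplicit false
open CategoryTheory AlgebraicGeometry
universe u
open EtHull

namespace Groth.Agent.S15993

open CategoryTheory.Limits in
/-- faithfully flat, quasi-compact, separated `f` which restricts to a monomorphism on a quasi-compact
scheme-theoretically dominant open `V` is an isomorphism. -/
theorem isIso_of_mono_on_dominant {X S : Scheme.{u}} (f : X ⟶ S)
    [Flat f] [Surjective f] [QuasiCompact f] [IsSeparated f]
    (V : X.Opens) [QuasiCompact V.ι] [IsSchemeTheoreticallyDominant V.ι]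
    (hmono : Mono (V.ι ≫ f)) : IsIso f := by
  let v : (V : Scheme.{u}) ⟶ X := V.ι
  let pr₁ : pullback f f ⟶ X := pullback.fst f f
  let pr₂ : pullback f f ⟶ X := pullback.snd f f
  let Δ : X ⟶ pullback f f := pullback.diagonal f
  -- A = P ×_X V via pr₂
  let a : pullback pr₂ v ⟶ pullback f f := pullback.fst pr₂ v
  haveI : Flat pr₂ := inferInstance
  haveI : IsSchemeTheoreticallyDominant a := inferInstance
  let c : pullback pr₂ v ⟶ X := a ≫ pr₁
  haveI : Flat a := inferInstance
  haveI : Flat pr₁ := inferInstance
  haveI : Flat c := inferInstance
  let b : pullback c v ⟶ pullback pr₂ v := pullback.fst c v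
  haveI : IsSchemeTheoreticallyDominant b := inferInstance
  let j : pullback c v ⟶ pullback f f := b ≫ a
  haveI : IsSchemeTheoreticallyDominant j := inferInstance
  let b1 : pullback c v ⟶ (V : Scheme.{u}) := pullback.snd c v
  let b2 : pullback c v ⟶ (V : Scheme.{u}) := b ≫ pullback.snd pr₂ v
  have e1 : j ≫ pr₁ = b1 ≫ v := by
    show (b ≫ a) ≫ pr₁ = pullback.snd c v ≫ v
    rw [Category.assoc]
    exact pullback.condition (f := c) (g := v)
  have e2 : j ≫ pr₂ = b2 ≫ v := by
    show (b ≫ a) ≫ pr₂ = (b ≫ pullback.snd pr₂ v) ≫ v
    rw [Category.assoc, Category.assoc]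
    exact congrArg (b ≫ ·) (pullback.condition (f := pr₂) (g := v))
  have e3 : b1 = b2 := by
    rw [← cancel_mono (v ≫ f), ← Category.assoc, ← Category.assoc, ← e1, ← e2,
      Category.assoc, Category.assoc]
    exact congrArg (j ≫ ·) (pullback.condition (f := f) (g := f))
  have hj : (j ≫ pr₁) ≫ Δ = j := by
    apply pullback.hom_ext
    · rw [Category.assoc, pullback.diagonal_fst, Category.comp_id]
    · rw [Category.assoc, pullback.diagonal_snd, Category.comp_id, e1, e3, ← e2]
  have hker : Δ.ker = ⊥ := by
    have h1 := Scheme.Hom.le_ker_comp (j ≫ pr₁) Δ
    rw [hj, j.ker_eq_bot] at h1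
    exact le_bot_iff.mp h1
  haveI : IsClosedImmersion Δ := inferInstance
  haveI : IsIso Δ := IsClosedImmersion.isIso_iff_ker_eq_bot.mpr hker
  have hpr : IsIso pr₁ := by
    have h2 : Δ ≫ pr₁ = 𝟙 X := pullback.diagonal_fst f
    have : pr₁ = inv Δ := by
      rw [← cancel_epi Δ, h2, IsIso.hom_inv_id]
    rw [this]
    infer_instance
  exact MorphismProperty.of_pullback_fst_of_descendsAlong
    (P := MorphismProperty.isomorphisms Scheme.{u})
    (Q := @Surjective ⊓ @Flat ⊓ @QuasiCompact) (f := f) (g := f)
    ⟨⟨inferInstance, inferInstance⟩, inferInstance⟩ hpr


/-- Let f : X → S be a morphism of schemes which is faithfully flat (flat and surjective), quasi-compact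
and separated, and schematically birational in the following sense: there are schematically dense
opens U of S and V of X, with the inclusion V → X quasi-compact, such that f maps V into U and the
induced morphism V → U is an isomorphism. Then f is an isomorphism. (The source states this for
algebraic spaces and puts no quasi-compactness condition on the dense opens. Its proof base-changes
along f and uses that the inverse image of V in X ×_S X is again schematically dense, which holds
when V → X is quasi-compact, for instance when X is locally Noetherian, and fails in general: over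
the Boolean ring of eventually constant sequences of elements of the field with two elements, the
spectrum of the ring of eventually two-periodic sequences is faithfully flat and affine, and it is
an isomorphism above the open set of principal points, which is schematically dense on both sides,
yet it is not an isomorphism, the point at infinity being doubled. So V is taken retrocompact in X
here, and X, S are schemes.) -/
theorem result {X S : Scheme.{u}} (f : X ⟶ S)
    [Flat f] [Surjective f] [QuasiCompact f] [IsSeparated f]
    (U : S.Opens) (V : X.Opens) [QuasiCompact V.ι]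
    (hU : CInt.IsSchematicallyDense U) (hV : CInt.IsSchematicallyDense V)
    (hle : V ≤ f ⁻¹ᵁ U) (hiso : IsIso (f.resLE U V hle)) : IsIso f := by
  haveI : IsSchemeTheoreticallyDominant V.ι := Groth.Agent.S3844.dominant_of_dense V hV
  refine isIso_of_mono_on_dominant f V ?_
  rw [← Scheme.Hom.resLE_comp_ι f hle]
  haveI := hiso
  exact mono_comp _ _

end Groth.Agent.S15993
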