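import Groth.Statements.S15995

set_option autoImplicit false
open CategoryTheory AlgebraicGeometry
universe u
open FrobSch

namespace Groth.Agent.S15995

open CategoryTheory.Limits

/-- Relatively perfect means that the Frobenius square is cartesian. -/
theorem isPullback_of_isIso {X S : Scheme.{u}} (f : X ⟶ S) (p : ℕ) [Fact p.Prime]
    [FrobSch.IsCharP S p] [FrobSch.IsCharP X p] (h : IsIso (FrobSch.relFrob f p)) :
    IsPullback (FrobSch.frob X p) f f (FrobSch.frob S p) :=
  IsPullback.of_iso_pullback ⟨FrobSch.frob_comp p f⟩ (asIso (FrobSch.relFrob f p))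
    (FrobSch.relFrob_fst f p) (FrobSch.relFrob_snd f p)

theorem isIso_of_isPullback {X S : Scheme.{u}} (f : X ⟶ S) (p : ℕ) [Fact p.Prime]
    [FrobSch.IsCharP S p] [FrobSch.IsCharP X p]
    (h : IsPullback (FrobSch.frob X p) f f (FrobSch.frob S p)) :
    IsIso (FrobSch.relFrob f p) := by
  have : FrobSch.relFrob f p = h.isoPullback.hom := by
    apply pullback.hom_ext
    · rw [FrobSch.relFrob_fst, IsPullback.isoPullback_hom_fst]
    · rw [FrobSch.relFrob_snd, IsPullback.isoPullback_hom_snd]
  rw [this]
  infer_instance

/-- Coperfection commutes with base restriction. Let S and T be schemes of characteristic p and f : T →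
S a relatively perfect morphism (its relative Frobenius T → T^(p/S) is an isomorphism). Let g : X →
T and let c : X → X' be a T-morphism to a relatively perfect T-scheme π : X' → T which is a
coperfection of X over T: for every relatively perfect T-scheme Y, every T-morphism X → Y factors
uniquely through c. Then X' with structure map π ≫ f is relatively perfect over S and c is a
coperfection of X over S: every S-morphism from X to a relatively perfect S-scheme factors uniquely
through c. (The source works with algebraic spaces; schemes here.) -/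
theorem result (p : ℕ) [Fact p.Prime] {X X' T S : Scheme.{u}}
    [FrobSch.IsCharP S p] [FrobSch.IsCharP T p] (f : T ⟶ S) (hf : IsIso (FrobSch.relFrob f p))
    (g : X ⟶ T) (π : X' ⟶ T) (hπ : IsIso (FrobSch.relFrob π p)) (c : X ⟶ X') (hc : c ≫ π = g)
    (huniv : ∀ (Y : Scheme.{u}) (q : Y ⟶ T), IsIso (FrobSch.relFrob q p) →
      ∀ k : X ⟶ Y, k ≫ q = g → ∃! h : X' ⟶ Y, h ≫ q = π ∧ c ≫ h = k) :
    IsIso (FrobSch.relFrob (π ≫ f) p) ∧
      ∀ (Y : Scheme.{u}) (r : Y ⟶ S), IsIso (FrobSch.relFrob r p) →
        ∀ k : X ⟶ Y, k ≫ r = g ≫ f → ∃! h : X' ⟶ Y, h ≫ r = π ≫ f ∧ c ≫ h = k := by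
  have : FrobSch.IsCharP X' p := FrobSch.IsCharP.of_hom π p
  have sqf := isPullback_of_isIso f p hf
  have sqπ := isPullback_of_isIso π p hπ
  refine ⟨isIso_of_isPullback (π ≫ f) p (sqπ.paste_vert sqf), ?_⟩
  intro Y r hr k hk
  have : FrobSch.IsCharP Y p := FrobSch.IsCharP.of_hom r p
  have sqr := isPullback_of_isIso r p hr
  -- base change of `Y` to `T`
  let YT := pullback r f
  let q : YT ⟶ T := pullback.snd r f
  have : FrobSch.IsCharP YT p := FrobSch.IsCharP.of_hom q p
  have hq : IsIso (FrobSch.relFrob q p) := by
    apply isIso_of_isPullback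
    -- the base change square
    have bc : IsPullback (pullback.fst r f) q r f := IsPullback.of_hasPullback r f
    -- big square
    have big : IsPullback (pullback.fst r f ≫ FrobSch.frob Y p) q r (f ≫ FrobSch.frob S p) :=
      bc.paste_horiz sqr
    have big' : IsPullback (FrobSch.frob YT p ≫ pullback.fst r f) q r (FrobSch.frob T p ≫ f) := by
      rw [FrobSch.frob_comp p (pullback.fst r f), FrobSch.frob_comp p f]
      exact big
    exact IsPullback.of_right big' (FrobSch.frob_comp p q) bc
  let k' : X ⟶ YT := pullback.lift k g hk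
  have hk' : k' ≫ q = g := pullback.lift_snd _ _ _
  obtain ⟨h', ⟨hh'1, hh'2⟩, hh'uniq⟩ := huniv YT q hq k' hk'
  refine ⟨h' ≫ pullback.fst r f, ⟨?_, ?_⟩, ?_⟩
  · rw [Category.assoc, pullback.condition, ← Category.assoc, hh'1]
  · rw [← Category.assoc, hh'2]
    exact pullback.lift_fst _ _ _
  · intro h₂ ⟨h₂1, h₂2⟩
    have : pullback.lift h₂ π h₂1 = h' := by
      apply hh'uniq
      constructor
      · exact pullback.lift_snd _ _ _
      · apply pullback.hom_ext
        · rw [Category.assoc, pullback.lift_fst, h₂2]
          exact (pullback.lift_fst _ _ _).symm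
        · rw [Category.assoc, pullback.lift_snd, hc]
          exact (pullback.lift_snd _ _ _).symm
    rw [← this, pullback.lift_fst]

end Groth.Agent.S15995
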