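import Groth.Statements.S16008
import Groth.Agent.Lib.Lead.VBCurve24
-- import your own Groth.Agent.* helpers here

set_option autoImplicit false
set_option backward.isDefEq.respectTransparency false
open CategoryTheory AlgebraicGeometry CategoryTheory.Limits
open VBCurve

namespace Groth.Agent.S16008

/-- Let X be a smooth proper integral curve over the complex numbers, of genus g = dim H¹(O_X), E a
finite locally free O_X-module of rank r ≥ 1 and C an integer such that every finite locally free
submodule G of E of rank n ≥ 1 satisfies deg G · r ≤ (deg E + r·C) · n, that is, μ(G) ≤ μ(E) + C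
(degrees being χ − rank · χ(O_X)). Then H¹(X, E ⊗ N) vanishes for every invertible module N with deg
E + r · deg N > r(r − 1)·C + r(2g − 2), that is, whenever μ(E) + deg N > (r − 1)C + 2g − 2. (Only
the degree of the twisting line bundle enters, so any invertible N replaces the twist O_X(m). The
published argument, written for the twists E(m) by a degree-one polarisation, prints the threshold
as m ≥ μ(E) + (r − 1)C + 2g − 1; for E = O(−1) on the projective line and m = −2 that threshold is
met while H¹(O(−3)) ≠ 0. The degree count in the argument gives the threshold −μ(E) + (r − 1)C + 2g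
− 2 < m stated here.) -/
theorem result
    (X : Scheme.{0}) [X.Over (Spec (CommRingCat.of ℂ))] [IsIntegral X]
    [IsProper (X ↘ Spec (CommRingCat.of ℂ))] [Smooth (X ↘ Spec (CommRingCat.of ℂ))]
    (hdim : topologicalKrullDim X = 1)
    (r : ℕ) (hr : 0 < r) (E : X.Modules) (hE : FlatMod.IsFinLocFreeOfRank r E) (C : ℤ)
    (hC : ∀ (G : X.Modules) (n : ℕ) (j : G ⟶ E), Mono j → 0 < n → FlatMod.IsFinLocFreeOfRank n G →
      Curv2.deg ℂ X G n * (r : ℤ) ≤ (Curv2.deg ℂ X E r + (r : ℤ) * C) * (n : ℤ))
    (N : X.Modules) (hN : PicF.IsInvertible N)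
    (hbig : (r : ℤ) * ((r : ℤ) - 1) * C + (r : ℤ) * (2 * (Curv2.genus ℂ X : ℤ) - 2) <
      Curv2.deg ℂ X E r + (r : ℤ) * Curv2.deg ℂ X N 1) :
    Subsingleton (Coh.HH X (CohB1.tensorMod E N) 1) := by
  have hP := Groth.Agent.Lib.Lead.VBCurve.pidStalks_of_smooth ℂ X hdim.le
  by_contra hcon
  rw [not_subsingleton_iff_nontrivial] at hcon
  obtain ⟨r', rfl⟩ : ∃ r', r = r' + 1 := ⟨r - 1, by omega⟩
  obtain ⟨hENr, hENd⟩ := Groth.Agent.Lib.Lead.VBCurve.deg_tensor_invertible ℂ X hdim.le hE hN
  obtain ⟨K, ι, hι, hK, hle⟩ :=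
    Groth.Agent.Lib.Lead.VBCurve.exists_sub_of_H1_nontrivial ℂ X hP hdim hENr hcon
  rw [hENd] at hle
  rcases Nat.eq_zero_or_pos r' with h0 | hpos
  · subst h0
    have hz := Groth.Agent.Lib.Lead.VBCurve.isZero_of_isFinLocFreeOfRank_zero hK
    rw [Groth.Agent.Lib.Lead.VBCurve.deg_zero_of_isZero ℂ X hz] at hle
    push_cast at hbig hle
    linarith
  · have hss := Groth.Agent.Lib.Lead.VBCurve.slope_tensor_invertible ℂ X hdim.le
      (((r' + 1 : ℕ) : ℤ) * C) hE hN (fun H n j hj hn hH => hC H n j hj hn hH)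
    have h1 := hss K r' ι hι hpos hK
    rw [hENd] at h1
    push_cast at h1 hbig hle
    have h2 : (0 : ℤ) ≤ (r' : ℤ) := Int.natCast_nonneg _
    nlinarith


end Groth.Agent.S16008
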