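import Groth.Statements.S16014
import Mathlib

set_option autoImplicit false
universe u
open W4c3ghconstell

namespace Groth.Agent.S16014

theorem abel (f : ℤ → ℚ) (N M : ℤ) :
    ∑ n ∈ Finset.Icc (-N) M, (n : ℚ) * f n =
      ∑ n ∈ Finset.Icc (-N + 1) M, (∑ m ∈ Finset.Icc n M, f m) -
        (N : ℚ) * ∑ m ∈ Finset.Icc (-N) M, f m := by
  have h1 : ∑ n ∈ Finset.Icc (-N + 1) M, (∑ m ∈ Finset.Icc n M, f m) =
      ∑ m ∈ Finset.Icc (-N + 1) M, ∑ n ∈ Finset.Icc (-N + 1) m, f m := by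
    apply Finset.sum_comm'
    intro n m
    simp only [Finset.mem_Icc]
    omega
  have h2 : ∀ m ∈ Finset.Icc (-N + 1) M, ∑ n ∈ Finset.Icc (-N + 1) m, f m = ((m : ℚ) + N) * f m := by
    intro m hm
    rw [Finset.mem_Icc] at hm
    rw [Finset.sum_const, Int.card_Icc, nsmul_eq_mul]
    congr 1
    have : ((m + 1 - (-N + 1)).toNat : ℤ) = m + N := by
      rw [Int.toNat_of_nonneg (by omega)]
      ring
    exact_mod_cast this
  have h3 : ∑ m ∈ Finset.Icc (-N + 1) M, ((m : ℚ) + N) * f m =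
      ∑ m ∈ Finset.Icc (-N) M, ((m : ℚ) + N) * f m := by
    apply Finset.sum_subset
    · intro m
      simp only [Finset.mem_Icc]
      omega
    · intro m hm hm'
      simp only [Finset.mem_Icc] at hm hm'
      have : m = -N := by omega
      subst this
      simp
  rw [h1, Finset.sum_congr rfl h2, h3, Finset.mul_sum, ← Finset.sum_sub_distrib]
  refine Finset.sum_congr rfl fun m _ => ?_
  ring

/-- Let B = ⊕_{n ∈ ℤ} ⊕_τ B^n_τ be a bigraded finite-dimensional vector space, τ running over a finite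
index set, with B^n = 0 for n < −N and for n > M (N, M integers); put d(n, τ) = dim B^n_τ. For
rational numbers φ_τ write φ(C) = Σ_τ φ_τ dim C_τ for a τ-graded piece C, and let B^{≥n} = ⊕_{m ≥ n}
B^m, so that dim B^{≥n}_τ = Σ_{n ≤ m ≤ M} d(m, τ). Then Σ_{−N ≤ n ≤ M} n · φ(B^n) = Σ_{−N+1 ≤ n ≤ M}
φ(B^{≥n}) − N · φ(B). (Stated directly on the dimension function d.) -/
theorem result {τ : Type u} [Fintype τ] (d : ℤ → τ → ℕ) (φ : τ → ℚ) (N M : ℤ)
    (hN : ∀ n, n < -N → d n = 0) (hM : ∀ n, M < n → d n = 0) :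
    ∑ n ∈ Finset.Icc (-N) M, (n : ℚ) * (∑ t, φ t * (d n t : ℚ)) =
      ∑ n ∈ Finset.Icc (-N + 1) M, (∑ t, φ t * (∑ m ∈ Finset.Icc n M, (d m t : ℚ))) -
        (N : ℚ) * (∑ t, φ t * (∑ m ∈ Finset.Icc (-N) M, (d m t : ℚ))) := by
  have key : ∀ t, ∑ n ∈ Finset.Icc (-N) M, (n : ℚ) * (d n t : ℚ) =
      ∑ n ∈ Finset.Icc (-N + 1) M, (∑ m ∈ Finset.Icc n M, (d m t : ℚ)) -
        (N : ℚ) * ∑ m ∈ Finset.Icc (-N) M, (d m t : ℚ) := fun t => abel (fun n => (d n t : ℚ)) N M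
  calc ∑ n ∈ Finset.Icc (-N) M, (n : ℚ) * (∑ t, φ t * (d n t : ℚ))
      = ∑ t, φ t * ∑ n ∈ Finset.Icc (-N) M, (n : ℚ) * (d n t : ℚ) := by
        simp only [Finset.mul_sum]
        rw [Finset.sum_comm]
        refine Finset.sum_congr rfl fun t _ => Finset.sum_congr rfl fun n _ => ?_
        ring
    _ = ∑ t, φ t * (∑ n ∈ Finset.Icc (-N + 1) M, (∑ m ∈ Finset.Icc n M, (d m t : ℚ)) -
        (N : ℚ) * ∑ m ∈ Finset.Icc (-N) M, (d m t : ℚ)) := by
        simp only [key]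
    _ = _ := by
        simp only [mul_sub, Finset.sum_sub_distrib, Finset.mul_sum]
        congr 1
        · rw [Finset.sum_comm]
        · refine Finset.sum_congr rfl fun t _ => Finset.sum_congr rfl fun n _ => ?_
          ring

end Groth.Agent.S16014
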