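import Groth.Statements.S16015
import Mathlib

set_option autoImplicit false
universe u v w
open W4c3ghconstell

namespace Groth.Agent.S16015

open TensorProduct

theorem result {B : Type u} [CommRing B]
    {E : Type v} [AddCommGroup E] [Module B E]
    {F : Type w} [AddCommGroup F] [Module B F] [Module.Finite B F] [Module.Projective B F]
    (β : E →ₗ[B] F) :
    ∃! I : Ideal B, ∀ (C : Type u) [CommRing C] [Algebra B C],
      LinearMap.baseChange C β = 0 ↔ I ≤ RingHom.ker (algebraMap B C) := by
  classical
  obtain ⟨n, s, hs⟩ := Module.Finite.exists_fin' B F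
  obtain ⟨i, hi⟩ := Module.projective_lifting_property s LinearMap.id hs
  have hsi : ∀ x, s (i x) = x := fun x => LinearMap.congr_fun hi x
  have hdecomp : ∀ x : F, x = ∑ j : Fin n, (i x j) • s (Pi.single j 1) := by
    intro x
    have hb := (Pi.basisFun B (Fin n)).sum_repr (i x)
    simp only [Pi.basisFun_repr, Pi.basisFun_apply] at hb
    conv_lhs => rw [← hsi x, ← hb]
    simp only [map_sum, map_smul]
  set I : Ideal B := Ideal.span {b | ∃ (l : F →ₗ[B] B) (e : E), b = l (β e)} with hI
  have hprop : ∀ (C : Type u) [CommRing C] [Algebra B C],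
      LinearMap.baseChange C β = 0 ↔ I ≤ RingHom.ker (algebraMap B C) := by
    intro C _ _
    constructor
    · intro h0
      rw [hI, Ideal.span_le]
      rintro b ⟨l, e, rfl⟩
      change algebraMap B C (l (β e)) = 0
      have h1 : ((TensorProduct.rid B C).toLinearMap ∘ₗ (l.lTensor C))
          ((LinearMap.baseChange C β) ((1 : C) ⊗ₜ[B] e)) = algebraMap B C (l (β e)) := by
        simp [Algebra.algebraMap_eq_smul_one]
      rw [← h1, h0]
      simp
    · intro hle
      have hker : ∀ (j : Fin n) (e : E), algebraMap B C (i (β e) j) = 0 := by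
        intro j e
        have : i (β e) j ∈ I := Ideal.subset_span ⟨(LinearMap.proj j) ∘ₗ i, e, rfl⟩
        exact hle this
      apply TensorProduct.AlgebraTensorModule.ext
      intro c e
      rw [LinearMap.baseChange_tmul, LinearMap.zero_apply, hdecomp (β e), TensorProduct.tmul_sum]
      refine Finset.sum_eq_zero fun j _ => ?_
      rw [TensorProduct.tmul_smul, TensorProduct.smul_tmul', Algebra.smul_def, hker, zero_mul,
        TensorProduct.zero_tmul]
  refine ⟨I, hprop, ?_⟩
  intro I' hI'
  have key : ∀ (J J' : Ideal B),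
      (∀ (C : Type u) [CommRing C] [Algebra B C],
        LinearMap.baseChange C β = 0 ↔ J ≤ RingHom.ker (algebraMap B C)) →
      (∀ (C : Type u) [CommRing C] [Algebra B C],
        LinearMap.baseChange C β = 0 ↔ J' ≤ RingHom.ker (algebraMap B C)) → J' ≤ J := by
    intro J J' hJ hJ'
    have hk : RingHom.ker (algebraMap B (B ⧸ J)) = J := by
      rw [Ideal.Quotient.algebraMap_eq, Ideal.mk_ker]
    have h0 : LinearMap.baseChange (B ⧸ J) β = 0 := (hJ (B ⧸ J)).mpr (by rw [hk])
    have := (hJ' (B ⧸ J)).mp h0
    rwa [hk] at this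
  exact le_antisymm (key I I' hprop hI') (key I' I hI' hprop)

end Groth.Agent.S16015
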