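import Groth.Statements.S16016
import Mathlib

set_option autoImplicit false
universe u
open W4c3ghconstell

namespace Groth.Agent.S16016

theorem entry {k : Type u} [Field k] (A : Matrix (Fin 3 ⊕ Fin 3) (Fin 3 ⊕ Fin 3) k)
    (i j : Fin 3 ⊕ Fin 3) :
    (A.transpose * Matrix.fromBlocks (0 : Matrix (Fin 3) (Fin 3) k) 1 1 0 +
        Matrix.fromBlocks (0 : Matrix (Fin 3) (Fin 3) k) 1 1 0 * A :
        Matrix (Fin 3 ⊕ Fin 3) (Fin 3 ⊕ Fin 3) k) i j =
      A (Sum.swap j) i + A (Sum.swap i) j := by
  rcases i with i | i <;> rcases j with j | j <;>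
    simp [Matrix.mul_apply, Fintype.sum_sum_type, Matrix.one_apply]

theorem result (k : Type u) [Field k] (h2 : (2 : k) ≠ 0)
    (A : Matrix (Fin 3 ⊕ Fin 3) (Fin 3 ⊕ Fin 3) k) :
    (A.transpose * Matrix.fromBlocks (0 : Matrix (Fin 3) (Fin 3) k) 1 1 0 +
        Matrix.fromBlocks (0 : Matrix (Fin 3) (Fin 3) k) 1 1 0 * A = 0 ∧
      LinearMap.range (Matrix.mulVecLin A.transpose) ≤
        Submodule.span k {Pi.single (Sum.inl 0 : Fin 3 ⊕ Fin 3) (1 : k), Pi.single (Sum.inl 1 : Fin 3 ⊕ Fin 3) (1 : k)}) ↔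
    ∃ a : k, A = a • (Matrix.single (Sum.inr 0) (Sum.inl 1) (1 : k) - Matrix.single (Sum.inr 1) (Sum.inl 0) (1 : k)) := by
  constructor
  · rintro ⟨h1, h2'⟩
    have hskew : ∀ i j, A (Sum.swap j) i + A (Sum.swap i) j = 0 := by
      intro i j
      rw [← entry A i j, h1]
      rfl
    have hcol : ∀ r c, c ≠ Sum.inl 0 → c ≠ Sum.inl 1 → A r c = 0 := by
      intro r c hc0 hc1
      have hmem : Matrix.mulVecLin A.transpose (Pi.single r 1) ∈
          Submodule.span k {Pi.single (Sum.inl 0 : Fin 3 ⊕ Fin 3) (1 : k),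
            Pi.single (Sum.inl 1 : Fin 3 ⊕ Fin 3) (1 : k)} := h2' ⟨_, rfl⟩
      rw [Submodule.mem_span_pair] at hmem
      obtain ⟨x, y, hxy⟩ := hmem
      have := congrFun hxy c
      simp [Pi.single_apply, hc0, hc1] at this
      exact this.symm
    have hrow : ∀ r c, r ≠ Sum.inr 0 → r ≠ Sum.inr 1 → A r c = 0 := by
      intro r c hr0 hr1
      have h := hskew c (Sum.swap r)
      rw [Sum.swap_swap] at h
      have h' : A (Sum.swap c) (Sum.swap r) = 0 := by
        apply hcol
        · intro hh
          apply hr0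
          have := congrArg Sum.swap hh
          simpa using this
        · intro hh
          apply hr1
          have := congrArg Sum.swap hh
          simpa using this
      rw [h', add_zero] at h
      exact h
    have h00 : A (Sum.inr 0) (Sum.inl 0) = 0 := by
      have h := hskew (Sum.inl 0) (Sum.inl 0)
      simp only [Sum.swap_inl] at h
      have : (2 : k) * A (Sum.inr 0) (Sum.inl 0) = 0 := by rw [two_mul]; exact h
      exact (mul_eq_zero.mp this).resolve_left h2
    have h11 : A (Sum.inr 1) (Sum.inl 1) = 0 := by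
      have h := hskew (Sum.inl 1) (Sum.inl 1)
      simp only [Sum.swap_inl] at h
      have : (2 : k) * A (Sum.inr 1) (Sum.inl 1) = 0 := by rw [two_mul]; exact h
      exact (mul_eq_zero.mp this).resolve_left h2
    have h10 : A (Sum.inr 1) (Sum.inl 0) = - A (Sum.inr 0) (Sum.inl 1) := by
      have h := hskew (Sum.inl 0) (Sum.inl 1)
      simp only [Sum.swap_inl] at h
      exact eq_neg_of_add_eq_zero_left h
    refine ⟨A (Sum.inr 0) (Sum.inl 1), ?_⟩
    ext i j
    rcases i with i | i <;> rcases j with j | j <;> fin_cases i <;> fin_cases j <;>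
      simp [Matrix.single_apply, hcol, hrow, h00, h11, h10]
  · rintro ⟨a, rfl⟩
    refine ⟨?_, ?_⟩
    · ext i j
      rw [entry]
      rcases i with i | i <;> rcases j with j | j <;> fin_cases i <;> fin_cases j <;>
        simp [Matrix.single_apply]
    · rintro _ ⟨v, rfl⟩
      rw [Submodule.mem_span_pair]
      refine ⟨-(a * v (Sum.inr 1)), a * v (Sum.inr 0), ?_⟩
      ext c
      rcases c with c | c <;> fin_cases c <;>
        simp [Matrix.mulVec, dotProduct, Fintype.sum_sum_type, Fin.sum_univ_three, Matrix.single_apply,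
          Pi.single_apply]

end Groth.Agent.S16016
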