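import Groth.Statements.S16017
import Mathlib

set_option autoImplicit false
universe u
open W4c3ghconstell

namespace Groth.Agent.S16017

theorem result {ι : Type u} [DecidableEq ι] (θ : ι → ℚ) (h h' : ι → ℕ)
    (hle : ∀ i, h' i ≤ h i) (hfin : {i | θ i < 0}.Finite)
    (hsum : Summable (fun i => (θ i : ℝ) * (h i : ℝ))) :
    Filter.Tendsto
      (fun D : Finset ι =>
        (∑ i ∈ D, (θ i : ℝ) * (h' i : ℝ)) +
          ((∑' i, if i ∈ D then (0 : ℝ) else (θ i : ℝ) * (h i : ℝ)) / ((D \ hfin.toFinset).card : ℝ)) *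
            ∑ i ∈ D \ hfin.toFinset, ((h' i : ℝ) / (h i : ℝ)))
      Filter.atTop (nhds (∑' i, (θ i : ℝ) * (h' i : ℝ))) := by
  set f : ι → ℝ := fun i => (θ i : ℝ) * (h i : ℝ) with hf
  set g : ι → ℝ := fun i => (θ i : ℝ) * (h' i : ℝ) with hg
  -- summability of g
  have hgs : Summable g := by
    refine Summable.of_norm_bounded (g := fun i => |f i|) hsum.abs ?_
    intro i
    simp only [hf, hg, Real.norm_eq_abs, abs_mul, Nat.abs_cast]
    gcongr
    exact_mod_cast hle i
  -- tail
  have hS : ∀ D : Finset ι, (∑' i, if i ∈ D then (0 : ℝ) else f i) = ∑' i, f i - ∑ i ∈ D, f i := by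
    intro D
    have h1 : (fun i => if i ∈ D then (0 : ℝ) else f i) =
        fun i => f i - (if i ∈ D then f i else 0) := by
      funext i
      split_ifs <;> simp
    have h2 : Summable (fun i => if i ∈ D then f i else (0 : ℝ)) :=
      summable_of_ne_finset_zero (s := D) (fun i hi => by simp [hi])
    have h3 : ∑' i, (if i ∈ D then f i else (0 : ℝ)) = ∑ i ∈ D, f i := by
      rw [tsum_eq_sum (s := D) (fun i hi => by simp [hi])]
      exact Finset.sum_congr rfl fun i hi => by simp [hi]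
    rw [h1, hsum.tsum_sub h2, h3]
  have hS0 : Filter.Tendsto (fun D : Finset ι => |∑' i, if i ∈ D then (0 : ℝ) else f i|)
      Filter.atTop (nhds 0) := by
    have : Filter.Tendsto (fun D : Finset ι => ∑' i, f i - ∑ i ∈ D, f i) Filter.atTop
        (nhds (∑' i, f i - ∑' i, f i)) := hsum.hasSum.const_sub _
    rw [sub_self] at this
    simp only [hS]
    simpa using this.abs
  -- second term tends to zero
  have hT2 : Filter.Tendsto (fun D : Finset ι =>
      ((∑' i, if i ∈ D then (0 : ℝ) else f i) / ((D \ hfin.toFinset).card : ℝ)) *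
        ∑ i ∈ D \ hfin.toFinset, ((h' i : ℝ) / (h i : ℝ))) Filter.atTop (nhds 0) := by
    refine squeeze_zero_norm (fun D => ?_) hS0
    set S := ∑' i, if i ∈ D then (0 : ℝ) else f i
    set E := D \ hfin.toFinset
    have hW0 : 0 ≤ ∑ i ∈ E, ((h' i : ℝ) / (h i : ℝ)) :=
      Finset.sum_nonneg fun i _ => div_nonneg (Nat.cast_nonneg _) (Nat.cast_nonneg _)
    have hW1 : ∑ i ∈ E, ((h' i : ℝ) / (h i : ℝ)) ≤ (E.card : ℝ) := by
      have : ∀ i ∈ E, ((h' i : ℝ) / (h i : ℝ)) ≤ 1 := by
        intro i _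
        apply div_le_one_of_le₀
        · exact_mod_cast hle i
        · exact Nat.cast_nonneg _
      calc ∑ i ∈ E, ((h' i : ℝ) / (h i : ℝ)) ≤ ∑ i ∈ E, (1 : ℝ) := Finset.sum_le_sum this
        _ = E.card := by simp
    rw [Real.norm_eq_abs, abs_mul, abs_div, abs_of_nonneg hW0, Nat.abs_cast]
    rcases Nat.eq_zero_or_pos E.card with hc | hc
    · rw [hc]
      simp
    · have hcpos : (0 : ℝ) < E.card := by exact_mod_cast hc
      rw [div_mul_eq_mul_div, div_le_iff₀ hcpos]
      exact mul_le_mul_of_nonneg_left hW1 (abs_nonneg _)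
  have hT1 : Filter.Tendsto (fun D : Finset ι => ∑ i ∈ D, g i) Filter.atTop (nhds (∑' i, g i)) :=
    hgs.hasSum
  have := hT1.add hT2
  rw [add_zero] at this
  exact this

end Groth.Agent.S16017
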