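import Groth.Statements.S1603
import Mathlib
import Groth.Agent.S1566
import Groth.Agent.Lib.Helper18.BiratFinite
import Groth.Agent.Lib.Helper18.HHZero

set_option autoImplicit false
universe u
open CategoryTheory CategoryTheory.Limits AlgebraicGeometry
open Curves

namespace Groth.Agent.S1603

open TopologicalSpace Opposite Groth.Agent.Lib.Helper18

/-- an affine morphism `f` with `O_X ⟶ f_* O_{X'}` an isomorphism is an isomorphism -/
lemma isIso_of_isIso_unitToPush {X X' : Scheme.{u}} (f : X' ⟶ X) [IsAffineHom f]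
    (h : IsIso (ClSub.unitToPush f)) : IsIso f := by
  have key : ∀ W : X.Opens, Function.Bijective (f.app W).hom := by
    intro W
    let u := ClSub.unitToPush f
    let v := inv u
    have h1 : ∀ s, ((v.app W).hom ((u.app W).hom s)) = s := by
      intro s
      have : (u ≫ v).app W = (𝟙 _ : Coh.structureModule X ⟶ _).app W := by rw [IsIso.hom_inv_id]
      exact congr($(this).hom s)
    have h2 : ∀ t, ((u.app W).hom ((v.app W).hom t)) = t := by
      intro t
      have : (v ≫ u).app W = (𝟙 _ : (Scheme.Modules.pushforward f).obj (Coh.structureModule X') ⟶ _).app W := by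
        rw [IsIso.inv_hom_id]
      exact congr($(this).hom t)
    exact ⟨fun a b hab => by rw [← h1 a, ← h1 b]; exact congrArg _ hab, fun t => ⟨_, h2 t⟩⟩
  refine HasAffineProperty.of_iSup_eq_top (P := MorphismProperty.isomorphisms Scheme)
    (fun W : X.affineOpens => W) (iSup_affineOpens_eq_top X) (fun W => ?_)
  refine ⟨IsAffineHom.isAffine_preimage _ W.2, ?_⟩
  rw [morphismRestrict_appTop]
  have h3 : IsIso (f.app (W.1.ι ''ᵁ ⊤)) := (ConcreteCategory.isIso_iff_bijective _).mpr (key _)
  have h4 : IsIso (X'.presheaf.map (eqToHom (image_morphismRestrict_preimage f W.1 ⊤)).op) :=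
    inferInstance
  exact @IsIso.comp_isIso _ _ _ _ _ _ _ h3 h4

/-- In the situation of the first part assume moreover that X is reduced, that H^0(X, O_X) → H^0(X',
O_{X'}) is surjective and that the two H^1 have the same dimension. Then f is an isomorphism. -/
theorem result (k : Type u) [Field k] (X X' : Scheme.{u}) [X.Over (Spec (CommRingCat.of k))] [X'.Over (Spec (CommRingCat.of k))]
    [IsProper (X ↘ (Spec (CommRingCat.of k)))] [IsReduced X] (hdim : topologicalKrullDim X ≤ 1) (f : X' ⟶ X) [IsProper f] (hf : f ≫ (X ↘ (Spec (CommRingCat.of k))) = X' ↘ (Spec (CommRingCat.of k)))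
    (U : X.Opens) (hU : Dense (U : Set X)) (hU' : Dense ((f ⁻¹ᵁ U : X'.Opens) : Set X')) (hfU : IsIso (f ∣_ U))
    (h0 : Function.Surjective (f.app ⊤).hom) (h1 : Curv2.genus k X' = Curv2.genus k X) : IsIso f := by
  haveI : IsFinite f :=
    Groth.Agent.Lib.Helper18.BiratFinite.isFinite_of_birational k X X' hdim f hf U hU' hfU
  haveI := Groth.Agent.Lib.Lead.CurveEuler.isNoetherian k X
  let u := ClSub.unitToPush f
  -- `u` is a monomorphism
  have hrange : (U : Set X) ⊆ Set.range f.base := by
    intro x hx
    obtain ⟨a, ha⟩ := (Scheme.homeoOfIso (asIso (f ∣_ U))).surjective ⟨x, hx⟩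
    refine ⟨a.1, ?_⟩
    have h2 := congrArg Subtype.val ha
    exact (morphismRestrict_base_coe f U a).symm.trans h2
  haveI : IsDominant f := ⟨hU.mono hrange⟩
  haveI : IsSchemeTheoreticallyDominant f := .of_isDominant f
  have hmono : Mono u :=
    Groth.Agent.Lib.helper16.QCohEpi.mono_of_injective_on_basis u X.affineOpens
      X.isBasis_affineOpens (fun D _ => f.app_injective D)
  let S : ShortComplex X.Modules := ShortComplex.mk u (cokernel.π u) (cokernel.condition u)
  have hS : S.ShortExact :=
    { exact := ShortComplex.exact_cokernel u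
      mono_f := hmono
      epi_g := inferInstanceAs (Epi (cokernel.π u)) }
  have hUcl : ∀ x : X, x ∉ U → IsClosed ({x} : Set X) := by
    intro x hx
    apply Groth.Agent.Lib.Lead.DimOneAffine.isClosed_singleton_of_dim_le_one X hdim x
    intro hgen
    exact hx (Groth.Agent.S1566.mem_of_dense_of_closure_mem (U : Set X) U.isOpen hU x hgen)
  have hQsec : ∀ O : X.Opens, O ≤ U → Subsingleton Γ(cokernel u, O) := fun O hO =>
    Groth.Agent.S1566.sections_cokernel_subsingleton_of_epi_restrict u U
      (Groth.Agent.S1566.epi_restrict_unitToPush f U inferInstance) O hO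
  have hQ1 : Subsingleton (Coh.HH X (cokernel u) 1) :=
    Groth.Agent.Lib.Lead.DimOneVanish.subsingleton_HH_of_sections_vanish (cokernel u) U hUcl hQsec 0
  have hsurj0 : Function.Surjective (HH.map u 0) := by
    intro y
    obtain ⟨s, hs⟩ := h0 (HH.equiv₀ _ y)
    refine ⟨(HH.equiv₀ _).symm s, ?_⟩
    rw [HH.equiv₀_symm_naturality]
    apply (HH.equiv₀ _).injective
    rw [LinearEquiv.apply_symm_apply]
    exact hs
  have hsurj1 : Function.Surjective (HH.mapOver k u 1) := HH.surjective_map_f hS 1 hQ1
  haveI : f.IsOver (Spec (CommRingCat.of k)) := ⟨hf⟩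
  haveI : (Coh.structureModule X').IsQuasicoherent :=
    (Groth.Agent.Lib.helper11.AmpleInv.isCoh_structureModule X').1
  haveI : Module.Finite k (Coh.HH X (Coh.structureModule X) 1) :=
    Groth.Agent.Lib.Lead.ProperEuler.finite_HH k X _
      (Groth.Agent.Lib.helper11.AmpleInv.isCoh_structureModule X) 1
  haveI : Module.Finite k (Coh.HH X ((Coh.push f).obj (Coh.structureModule X')) 1) :=
    Module.Finite.of_surjective _ hsurj1
  have hfr : Module.finrank k (Coh.HH X (Coh.structureModule X) 1) =
      Module.finrank k (Coh.HH X ((Coh.push f).obj (Coh.structureModule X')) 1) := by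
    rw [HH.finrank_push f (Coh.structureModule X') k 1]
    exact h1.symm
  have hinj1 : Function.Injective (HH.mapOver k u 1) :=
    (LinearMap.injective_iff_surjective_of_finrank_eq_finrank hfr).mpr hsurj1
  have hQ0 : Subsingleton (Coh.HH X (cokernel u) 0) := by
    refine ⟨fun a b => ?_⟩
    suffices H : ∀ c : Coh.HH X (cokernel u) 0, c = 0 by rw [H a, H b]
    intro c
    have e1 : HH.map u 1 (HH.δ hS 0 c) = 0 := (HH.exact₁ hS 0 _).2 ⟨c, rfl⟩
    have e2 : HH.δ hS 0 c = 0 := hinj1 (e1.trans (map_zero _).symm)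
    obtain ⟨y, rfl⟩ := (HH.exact₃ hS 0 c).1 e2
    obtain ⟨w, rfl⟩ := hsurj0 y
    change HH.map (cokernel.π u) 0 (HH.map u 0 w) = 0
    rw [← HH.map_comp_apply, cokernel.condition, HH.map_zero]
    rfl
  have hQzero : IsZero (cokernel u) := by
    refine Groth.Agent.Lib.Lead.DimOneVanish.isZero_of_sections_vanish (cokernel u) U hUcl hQsec ?_
    exact (HH.equiv₀ (cokernel u)).symm.injective.subsingleton
  haveI : Epi u := Preadditive.epi_of_isZero_cokernel u hQzero
  haveI : IsIso u := isIso_of_mono_of_epi u
  exact isIso_of_isIso_unitToPush f inferInstance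

end Groth.Agent.S1603
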