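import Groth.Statements.S16030
import Mathlib

set_option autoImplicit false
universe u
open CAlg

namespace Groth.Agent.S16030

/-- For a finite set F of points of the spectrum of a commutative ring A and an open subset U containing
F, some basic open D(a) contains F and is contained in U. -/
theorem result
    (A : Type u) [CommRing A] (F : Set (PrimeSpectrum A)) (hF : F.Finite)
    (U : TopologicalSpace.Opens (PrimeSpectrum A)) (hFU : F ⊆ (U : Set (PrimeSpectrum A))) :
    ∃ a : A, F ⊆ (PrimeSpectrum.basicOpen a : Set (PrimeSpectrum A)) ∧ PrimeSpectrum.basicOpen a ≤ U := by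
  classical
  rcases F.eq_empty_or_nonempty with hemp | ⟨p₀, hp₀⟩
  · refine ⟨0, by rw [hemp]; exact Set.empty_subset _, ?_⟩
    rw [PrimeSpectrum.basicOpen_zero]; exact bot_le
  obtain ⟨I, hI⟩ := (PrimeSpectrum.isClosed_iff_zeroLocus_ideal _).1 U.isOpen.isClosed_compl
  -- a point of U does not contain I
  have hnot : ∀ p ∈ F, ¬ I ≤ p.asIdeal := by
    intro p hp hle
    have hmem : p ∈ PrimeSpectrum.zeroLocus (I : Set A) := by
      rw [PrimeSpectrum.mem_zeroLocus]; exact hle
    rw [← hI] at hmem
    exact hmem (hFU hp)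
  have havoid : ¬ ((I : Set A) ⊆ ⋃ p ∈ (↑hF.toFinset : Set (PrimeSpectrum A)), (p.asIdeal : Set A)) := by
    intro hsub
    have h2 := (Ideal.subset_union_prime (s := hF.toFinset) (f := fun p : PrimeSpectrum A => p.asIdeal)
      p₀ p₀ (fun p _ _ _ => p.isPrime)).1 hsub
    obtain ⟨p, hp, hle⟩ := h2
    exact hnot p (hF.mem_toFinset.1 hp) hle
  rw [Set.not_subset] at havoid
  obtain ⟨a, haI, hanot⟩ := havoid
  refine ⟨a, ?_, ?_⟩
  · intro p hp
    show p ∈ PrimeSpectrum.basicOpen a
    rw [PrimeSpectrum.mem_basicOpen]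
    intro hap
    apply hanot
    simp only [Set.mem_iUnion]
    exact ⟨p, by simpa using hp, hap⟩
  · intro p hp
    rw [PrimeSpectrum.mem_basicOpen] at hp
    by_contra hpU
    have hpc : p ∈ (U : Set (PrimeSpectrum A))ᶜ := hpU
    rw [hI, PrimeSpectrum.mem_zeroLocus] at hpc
    exact hp (hpc haI)

end Groth.Agent.S16030
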