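import Groth.Statements.S1604
import Mathlib
import Groth.Agent.Lib.Helper18.EffCartierCurve

set_option autoImplicit false
universe u
open CategoryTheory CategoryTheory.Limits AlgebraicGeometry
open Variety

namespace Groth.Agent.S1604



/-- Let X be proper of dimension at most one over k and D an effective Cartier divisor with ideal sheaf
I. Then D is finite over k, and for E finite locally free of rank n and any invertible module L
inverse to I (so L plays the role of O_X(D)) one has deg(E ⊗ L) = n · dim_k H^0(X, O_D) + deg E. -/
theorem result (k : Type u) [Field k] (X : Scheme.{u}) [X.Over (Spec (CommRingCat.of k))] [IsProper (X ↘ (Spec (CommRingCat.of k)))] (hdim : topologicalKrullDim X ≤ 1)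
    (D : X.IdealSheafData) (hD : BlowUp.IsEffCartierIdeal D)
    (L : X.Modules) (hL : PicF.IsInvertible L) (hLD : ClSub.IsInverseOf L (ClSub.idealMod D))
    (n : ℕ) (E : X.Modules) (hE : FlatMod.IsFinLocFreeOfRank n E) :
    IsFinite (D.subschemeι ≫ (X ↘ (Spec (CommRingCat.of k)))) ∧
      Curv2.deg k X (CohB1.tensorMod E L) n = n * Module.finrank k (Coh.HH X (ClSub.quotMod D) 0) + Curv2.deg k X E n := by
  refine ⟨?_, Groth.Agent.Lib.Helper18.EffCartierCurve.deg_tensor_effCartier k X hdim D hD L hL hLD n E hE⟩
  haveI := Groth.Agent.Lib.Lead.CurveEuler.isNoetherian k X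
  have hcl : ∀ x ∈ (D.support : Set X), IsClosed ({x} : Set X) := fun x hx =>
    Groth.Agent.Lib.Helper18.EffCartierCurve.isClosed_singleton_of_mem_support hdim D hD x hx
  have hfin : (D.support : Set X).Finite :=
    Groth.Agent.Lib.helper9.CurveTwist.finite_of_forall_isClosed_singleton _ D.support.isClosed hcl
  haveI : IsAffine D.subscheme :=
    Groth.Agent.Lib.Helper18.EffCartierCurve.isAffine_subscheme_of_finite D hfin hcl
  exact IsFinite.iff_isProper_and_isAffineHom.mpr ⟨inferInstance, inferInstance⟩

end Groth.Agent.S1604
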