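import Groth.Statements.S16045
import Groth.Agent.Lib.Helper12.FerrandBC7
import Groth.Agent.Lib.Helper12.Ferrand5

set_option autoImplicit false
universe u
open CategoryTheory CategoryTheory.Limits AlgebraicGeometry
open FlatMor

namespace Groth.Agent.S16045

/-- Let θ₁ : Y ⟶ X₁ and θ₂ : Y ⟶ X₂ be closed immersions of schemes over S and X their pushout in
schemes over S. For a flat morphism g : S' ⟶ S, the square obtained by base change along g is a
pushout in schemes over S': pinching along a closed subscheme commutes with flat base change. -/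
theorem result
    {S S' : Scheme.{u}} (g : S' ⟶ S) [Flat g]
    {Y X₁ X₂ X : Over S} (θ₁ : Y ⟶ X₁) (θ₂ : Y ⟶ X₂) [IsClosedImmersion θ₁.left] [IsClosedImmersion θ₂.left]
    (φ₁ : X₁ ⟶ X) (φ₂ : X₂ ⟶ X) (hX : IsPushout θ₁ θ₂ φ₁ φ₂) :
    IsPushout ((Over.pullback g).map θ₁) ((Over.pullback g).map θ₂)
      ((Over.pullback g).map φ₁) ((Over.pullback g).map φ₂) := by
  have hpo : IsPushout θ₁.left θ₂.left φ₁.left φ₂.left := hX.map (Over.forget S)
  have haff : ∀ y : X₂.left, ∃ U : X₁.left.Opens, IsAffineOpen U ∧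
      θ₂.left ⁻¹' {y} ⊆ (θ₁.left ⁻¹ᵁ U : Set ↑Y.left) := by
    intro y
    by_cases hy : ∃ z : Y.left, θ₂.left.base z = y
    · obtain ⟨z, rfl⟩ := hy
      obtain ⟨U, hU, hzU, -⟩ := exists_isAffineOpen_mem_and_subset (X := X₁.left)
        (x := θ₁.left.base z) (U := ⊤) trivial
      refine ⟨U, hU, fun z' hz' => ?_⟩
      have : z' = z := θ₂.left.isClosedEmbedding.injective hz'
      rw [this]
      exact hzU
    · refine ⟨⊥, isAffineOpen_bot _, fun z' hz' => ?_⟩
      exact absurd ⟨z', hz'⟩ hy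
  have hcov := Groth.Agent.Lib.Helper12.Ferrand5.exists_goodPair θ₁.left θ₂.left haff
  have key := Groth.Agent.Lib.Helper12.FerrandBC7.isPushout_baseChange_of_isPushout θ₁.left θ₂.left
    hcov φ₁.left φ₂.left hpo X.hom g X₁.hom X₂.hom Y.hom (Over.w φ₁) (Over.w φ₂) (Over.w θ₁)
    (Over.w θ₂) (Or.inl inferInstance)
  refine IsPushout.of_map (Over.forget S') ?_ key
  rw [← Functor.map_comp, ← Functor.map_comp, hX.w]

end Groth.Agent.S16045
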