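import Groth.Statements.S16048
import Groth.Agent.Lib.Helper17.ArtAct
import Groth.Agent.S12722
import Groth.Agent.S12728
import Groth.Agent.S12727

set_option autoImplicit false
universe u v
open CategoryTheory
open ArtFun

namespace Groth.Agent.S16048
open Groth.Agent.Lib.helper17.ArtAct

/-- Let Λ be a complete local Noetherian ring with residue field k and F a functor on Artinian local
Λ-algebras with residue field k which admits a hull. A family ξ of F over a complete local
Noetherian Λ-algebra R with residue field k such that R is isomorphic over Λ to a power series ring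
Λ[[t_1, …, t_n]] and the induced map on tangent spaces h_R(k[ε]) → F(k[ε]) is bijective is
miniversal. (The source states this for the deformation functor of a rational double point over the
Witt vectors of an algebraically closed field, with the Kodaira–Spencer map as the tangent map and
the existence of a hull taken from Schlessinger's criteria; the argument uses only the existence of
a hull, so the hull is carried as a hypothesis and Λ is any complete local Noetherian ring with
residue field k.) -/
theorem result {Λ : Type u} {k : Type u}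
    [CommRing Λ] [Field k] [Algebra Λ k] [IsNoetherianRing Λ] [Module.Finite Λ k]
    [IsLocalRing Λ] [IsAdicComplete (IsLocalRing.maximalIdeal Λ) Λ]
    (hk : Function.Surjective (algebraMap Λ k))
    {F : ArtFun.Art Λ k ⥤ Type v} (hF : ArtFun.HasHull F)
    (R : ArtFun.CRing Λ k) (n : ℕ) (e : R.carrier ≃ₐ[Λ] MvPowerSeries (Fin n) Λ)
    (ξ : ArtFun.Family R.carrier R.res F)
    (hξ : Function.Bijective (ArtFun.TangentSpace.ofFamily ξ)) :
    ArtFun.IsMiniversal ξ := by
  classical
  obtain ⟨⟨R', ξ', hver', hbij'⟩⟩ := hF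
  -- `F(k)` is a point
  let φ₀ : ArtFun.HomSet R'.carrier R'.res (ArtFun.Art.base Λ k) := ⟨R'.res, AlgHom.id_comp _⟩
  have h0 : ArtFun.H0 F := by
    refine ⟨⟨ξ'.app _ φ₀⟩, ⟨?_⟩⟩
    have key : ∀ x : F.obj (ArtFun.Art.base Λ k), x = ξ'.app _ φ₀ := by
      intro x
      obtain ⟨θ, hθ⟩ := hbij'.2 (F.map ArtFun.Art.baseToDual x)
      have h1 : F.map (ArtFun.Art.toBase (ArtFun.Art.dual Λ k)) (F.map ArtFun.Art.baseToDual x) = x := by
        rw [← map_comp_apply]
        have : (ArtFun.Art.baseToDual ≫ ArtFun.Art.toBase (ArtFun.Art.dual Λ k) :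
            ArtFun.Art.base Λ k ⟶ ArtFun.Art.base Λ k) = 𝟙 _ :=
          (ArtFun.Art.eq_toBase _).trans (ArtFun.Art.eq_toBase _).symm
        rw [this, map_id_apply]
      rw [← h1, ← hθ, family_natural']
      congr 1
      exact Subsingleton.elim _ _
    intro a b
    rw [key a, key b]
  haveI : Subsingleton (F.obj (ArtFun.Art.base Λ k)) := h0.2
  have hS1 : ArtFun.S1 F := Groth.Agent.S12727.result F h0 ⟨⟨R', ξ', hver'⟩⟩
  have h2 : ArtFun.Heps F := by
    intro B A' p' p'' hsq
    refine ⟨?_, hS1 p' p'' _ _ hsq (ArtFun.Art.dual Λ k).res_surjective⟩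
    apply cmp_injective_of_forall
    intro z₁ z₂ h1 h2
    have hp'surj : Function.Surjective p' := by
      intro a'
      obtain ⟨d, hd⟩ := (ArtFun.Art.dual Λ k).res_surjective (A'.res a')
      obtain ⟨b, hb, -⟩ := hsq.surj a' d hd.symm
      exact ⟨b, hb⟩
    obtain ⟨ψ, hψ⟩ := Groth.Agent.S12727.surjective_app_of_isVersal h0 ξ' hver' A' (F.map p' z₁)
    obtain ⟨χ₁, hχ₁a, hχ₁b⟩ := hver' p' hp'surj ψ z₁ hψ.symm
    obtain ⟨χ₂, hχ₂a, hχ₂b⟩ := hver' p' hp'surj ψ z₂ (h1 ▸ hψ.symm)
    have hθ : ArtFun.HomSet.map p'' χ₁ = ArtFun.HomSet.map p'' χ₂ := by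
      apply hbij'.1
      rw [← family_natural', ← family_natural', hχ₁b, hχ₂b, h2]
    have hχ : χ₁ = χ₂ := by
      apply Subtype.ext
      apply AlgHom.ext
      intro r
      apply hsq.inj
      · have := congrArg (fun t => t.1 r) (hχ₁a.trans hχ₂a.symm)
        exact this
      · have := congrArg (fun t => t.1 r) hθ
        exact this
    rw [← hχ₁b, ← hχ₂b, hχ]
  have hsm : ArtFun.IsSmoothFunctor (ArtFun.hR R.carrier R.res) :=
    (Groth.Agent.S12722.result hk R).2 ⟨n, ⟨e⟩⟩
  refine ⟨(Groth.Agent.S12728.result h0 hS1 h2 R ξ).2 ⟨hξ.2, ?_⟩, hξ⟩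
  intro B A μ hμ φ y _
  exact hsm μ hμ.1 φ

end Groth.Agent.S16048
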