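import Groth.Statements.S16049
import Mathlib
import Groth.Agent.Lib.Helper18.RelSmoothFiberMor

set_option autoImplicit false
universe u
open CategoryTheory Limits AlgebraicGeometry
open FlatMor

namespace Groth.Agent.S16049

open Groth.Agent.Lib.Helper18.RelSmoothFiber

/-- `f` is smooth on its smooth locus. -/
theorem smooth_smoothLocus_ι_comp {X Y : Scheme.{u}} (f : X ⟶ Y) [LocallyOfFinitePresentation f] :
    Smooth (f.smoothLocus.ι ≫ f) := by
  rw [← Scheme.Hom.smoothLocus_eq_top_iff, ← Scheme.Hom.preimage_smoothLocus_eq]
  rw [← top_le_iff]
  rintro x -
  exact x.2

/-- Let g : Y → S and h : X → S be locally of finite presentation with h flat, let f : X → Y be an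
S-morphism and s a point of S such that the fibre map X_s → Y_s is smooth. Then f is smooth on an
open subscheme of X containing the whole fibre of h over s. (The published statement, for schemes of
finite type over a complete discrete valuation ring and s the closed point, concludes that f is
smooth everywhere; that fails because schemes of finite type over a discrete valuation ring have
closed points in the generic fibre — the dual numbers over the fraction field K, mapped to Spec K,
are flat and of finite type over the valuation ring with empty closed fibre and are not smooth over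
Spec K. The printed argument establishes smoothness exactly at the points over s, which is what is
stated here, over an arbitrary base.) -/
theorem result {X Y S : Scheme.{u}} (g : Y ⟶ S) (h : X ⟶ S)
    [LocallyOfFinitePresentation g] [LocallyOfFinitePresentation h] [Flat h]
    (f : X ⟶ Y) (w : f ≫ g = h) (s : S) (hs : Smooth (pullback.snd f (g.fiberι s))) :
    ∃ U : X.Opens, (∀ x : X, h.base x = s → x ∈ U) ∧ Smooth (U.ι ≫ f) := by
  subst w
  have hf : LocallyOfFinitePresentation f :=
    locallyOfFinitePresentation_of_comp f g inferInstance inferInstance
  refine ⟨f.smoothLocus, ?_, smooth_smoothLocus_ι_comp f⟩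
  intro x hx
  have hx0 : f x ∈ Set.range (g.fiberι s) := by
    rw [Scheme.Hom.range_fiberι]
    exact hx
  obtain ⟨y, hy⟩ := hx0
  obtain ⟨x', hx', -⟩ := Scheme.Pullback.exists_preimage_pullback (f := f)
    (g := g.fiberι s) x y hy.symm
  have h1 := formallySmooth_stalk_of_fiber g f s x'
    (by rw [hx']; exact Flat.stalkMap (f ≫ g) x)
    ((Scheme.Hom.smoothLocus_eq_top (pullback.snd f (g.fiberι s))).ge (Set.mem_univ x'))
  rw [hx'] at h1
  exact h1

end Groth.Agent.S16049
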