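import Groth.Statements.S16051
import Groth.Agent.Lib.Helper2.SubReg2

set_option autoImplicit false
universe u
open LieAlg

namespace Groth.Agent.S16051

/-- Let O be a discrete valuation ring of characteristic zero with residue field of characteristic p,
let 1 ≤ n with n + 1 < p (type A_n with p above the Coxeter number), and let x ∈ sl_{n+1}(O) be the
standard subregular nilpotent element, the matrix with entries x_{i,i+1} = 1 for i + 1 < n and 0
elsewhere (one Jordan block of size n and one of size 1; in the source this is the sum of the root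
vectors of the first n − 1 simple roots, completed there to an sl₂-triple). Then the quotient of
sl_{n+1}(O) by the image of ad_x is a free O-module of rank n + 2. (The source works over a complete
such ring with algebraically closed residue field; completeness and algebraic closedness are not
used for this statement.) -/
theorem result (O : Type u) [CommRing O] [IsDomain O] [IsDiscreteValuationRing O]
    [CharZero O] (p : ℕ) [Fact p.Prime] [CharP (IsLocalRing.ResidueField O) p]
    (n : ℕ) (hn : 1 ≤ n) (hp : n + 1 < p)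
    (x : LieAlgebra.SpecialLinear.sl (Fin (n + 1)) O)
    (hx : ∀ i j : Fin (n + 1), (x : Matrix (Fin (n + 1)) (Fin (n + 1)) O) i j =
      if j.val = i.val + 1 ∧ j.val < n then 1 else 0) :
    Module.Free O (LieAlgebra.SpecialLinear.sl (Fin (n + 1)) O ⧸
        LinearMap.range (LieAlgebra.ad O (LieAlgebra.SpecialLinear.sl (Fin (n + 1)) O) x)) ∧
      Module.finrank O (LieAlgebra.SpecialLinear.sl (Fin (n + 1)) O ⧸
        LinearMap.range (LieAlgebra.ad O (LieAlgebra.SpecialLinear.sl (Fin (n + 1)) O) x)) = n + 2 := by
  classical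
  have hu : IsUnit ((n + 1 : ℕ) : O) := by
    have h1 : IsLocalRing.residue O ((n + 1 : ℕ) : O) ≠ 0 := by
      rw [map_natCast]
      intro h0
      have := (CharP.cast_eq_zero_iff (IsLocalRing.ResidueField O) p (n + 1)).mp h0
      exact absurd (Nat.le_of_dvd (by omega) this) (by omega)
    exact (IsLocalRing.residue_ne_zero_iff_isUnit _).mp h1
  have hmem : ∀ A : Matrix (Fin (n + 1)) (Fin (n + 1)) O,
      A ∈ LieAlgebra.SpecialLinear.sl (Fin (n + 1)) O ↔ A.trace = 0 := fun A => LinearMap.mem_ker
  let Ψ : LieAlgebra.SpecialLinear.sl (Fin (n + 1)) O →ₗ[O] (Fin (n + 2) → O) :=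
    { toFun := fun M => Groth.Agent.Lib.helper2.SubReg.Phi M.val
      map_add' := fun A B => Groth.Agent.Lib.helper2.SubReg.Phi_add A.val B.val
      map_smul' := fun c A => Groth.Agent.Lib.helper2.SubReg.Phi_smul c A.val }
  have hΨ : ∀ M, Ψ M = Groth.Agent.Lib.helper2.SubReg.Phi M.val := fun M => rfl
  have hsurj : Function.Surjective Ψ := by
    intro v
    exact ⟨⟨Groth.Agent.Lib.helper2.SubReg.wit hn v,
      (hmem _).mpr (Groth.Agent.Lib.helper2.SubReg.trace_wit hn v)⟩,
      Groth.Agent.Lib.helper2.SubReg.Phi_wit hn v⟩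
  have hker : LinearMap.ker Ψ =
      LinearMap.range (LieAlgebra.ad O (LieAlgebra.SpecialLinear.sl (Fin (n + 1)) O) x) := by
    ext M
    constructor
    · intro hM
      rw [LinearMap.mem_ker, hΨ] at hM
      have htr : M.val.trace = 0 := (hmem _).mp M.2
      have hcomm := Groth.Agent.Lib.helper2.SubReg.comm_pre x.val hx hn M.val htr hM
      obtain ⟨c, hc⟩ := hu.exists_left_inv
      set N₀ := Groth.Agent.Lib.helper2.SubReg.pre M.val with hN₀
      let N₁ : Matrix (Fin (n + 1)) (Fin (n + 1)) O := N₀ - (c * N₀.trace) • 1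
      have hN₁ : N₁.trace = 0 := by
        simp only [N₁, Matrix.trace_sub, Matrix.trace_smul, Matrix.trace_one, Fintype.card_fin,
          smul_eq_mul]
        have : c * N₀.trace * ((n + 1 : ℕ) : O) = N₀.trace := by
          rw [mul_right_comm, hc, one_mul]
        rw [this, sub_self]
      refine ⟨⟨N₁, (hmem _).mpr hN₁⟩, ?_⟩
      apply Subtype.ext
      rw [LieAlgebra.ad_apply, LieAlgebra.SpecialLinear.sl_bracket]
      show x.val * N₁ - N₁ * x.val = M.val
      rw [← hcomm]
      simp only [N₁, mul_sub, sub_mul, Matrix.mul_smul, Matrix.smul_mul, mul_one, one_mul]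
      abel
    · rintro ⟨N, rfl⟩
      rw [LinearMap.mem_ker, hΨ, LieAlgebra.ad_apply, LieAlgebra.SpecialLinear.sl_bracket]
      exact Groth.Agent.Lib.helper2.SubReg.Phi_comm x.val hx hn N.val
  let e := (Submodule.quotEquivOfEq _ _ hker).symm ≪≫ₗ Ψ.quotKerEquivOfSurjective hsurj
  refine ⟨Module.Free.of_equiv e.symm, ?_⟩
  rw [LinearEquiv.finrank_eq e, Module.finrank_fin_fun]

end Groth.Agent.S16051
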