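import Groth.Statements.S16052
import Mathlib

set_option autoImplicit false
universe u
open Polynomial
open CAlg

namespace Groth.Agent.S16052

section helpers

/-- Hensel: in a henselian local ring with algebraically closed residue field, units have
`r`-th roots when `r` is invertible in the residue field. -/
theorem exists_root_of_unit {O : Type*} [CommRing O] [HenselianLocalRing O]
    [IsAlgClosed (IsLocalRing.ResidueField O)] (r : ℕ) (hr : 1 ≤ r)
    (hrk : (r : IsLocalRing.ResidueField O) ≠ 0) (v : Oˣ) : ∃ w : O, w ^ r = (v : O) := by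
  obtain ⟨z, hz⟩ := IsAlgClosed.exists_pow_nat_eq (IsLocalRing.residue O (v : O))
    (show 0 < r by omega)
  obtain ⟨a₀, ha₀⟩ := IsLocalRing.residue_surjective z
  have hz0 : z ≠ 0 := by
    intro h0
    rw [h0, zero_pow (by omega)] at hz
    have hu : IsUnit (IsLocalRing.residue O (v : O)) := v.isUnit.map _
    exact hu.ne_zero hz.symm
  have hmon : (X ^ r - C (v : O) : O[X]).Monic := monic_X_pow_sub_C _ (by omega)
  have h1 : (X ^ r - C (v : O) : O[X]).eval a₀ ∈ IsLocalRing.maximalIdeal O := by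
    rw [eval_sub, eval_pow, eval_X, eval_C, ← IsLocalRing.residue_eq_zero_iff, map_sub, map_pow,
      ha₀, hz, sub_self]
  have h2 : IsUnit ((X ^ r - C (v : O) : O[X]).derivative.eval a₀) := by
    rw [derivative_sub, derivative_C, sub_zero, derivative_X_pow, eval_mul, eval_pow, eval_X,
      eval_C, ← IsLocalRing.residue_ne_zero_iff_isUnit, map_mul, map_natCast, map_pow, ha₀]
    exact mul_ne_zero hrk (pow_ne_zero _ hz0)
  obtain ⟨a, ha, -⟩ := HenselianLocalRing.is_henselian (X ^ r - C (v : O) : O[X]) hmon a₀ h1 h2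
  refine ⟨a, ?_⟩
  rw [IsRoot.def, eval_sub, eval_pow, eval_X, eval_C, sub_eq_zero] at ha
  exact ha

/-- Hensel: primitive roots of unity lift. -/
theorem exists_primitiveRoot_hensel {O : Type*} [CommRing O] [HenselianLocalRing O]
    [IsAlgClosed (IsLocalRing.ResidueField O)] (r : ℕ) (hr : 1 ≤ r)
    (hrk : (r : IsLocalRing.ResidueField O) ≠ 0) : ∃ ζ : O, IsPrimitiveRoot ζ r := by
  haveI : NeZero (r : IsLocalRing.ResidueField O) := ⟨hrk⟩
  obtain ⟨z, hz⟩ := HasEnoughRootsOfUnity.exists_primitiveRoot (IsLocalRing.ResidueField O) r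
  obtain ⟨a₀, ha₀⟩ := IsLocalRing.residue_surjective z
  have hz0 : z ≠ 0 := hz.ne_zero (by omega)
  have hmon : (X ^ r - C (1 : O) : O[X]).Monic := monic_X_pow_sub_C _ (by omega)
  have h1 : (X ^ r - C (1 : O) : O[X]).eval a₀ ∈ IsLocalRing.maximalIdeal O := by
    rw [eval_sub, eval_pow, eval_X, eval_C, ← IsLocalRing.residue_eq_zero_iff, map_sub, map_pow,
      ha₀, hz.pow_eq_one, map_one, sub_self]
  have h2 : IsUnit ((X ^ r - C (1 : O) : O[X]).derivative.eval a₀) := by
    rw [derivative_sub, derivative_C, sub_zero, derivative_X_pow, eval_mul, eval_pow, eval_X,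
      eval_C, ← IsLocalRing.residue_ne_zero_iff_isUnit, map_mul, map_natCast, map_pow, ha₀]
    exact mul_ne_zero hrk (pow_ne_zero _ hz0)
  obtain ⟨a, ha, haa⟩ := HenselianLocalRing.is_henselian (X ^ r - C (1 : O) : O[X]) hmon a₀ h1 h2
  rw [IsRoot.def, eval_sub, eval_pow, eval_X, eval_C, sub_eq_zero] at ha
  have hres : IsLocalRing.residue O a = z := by
    rw [← ha₀, ← sub_eq_zero, ← map_sub, IsLocalRing.residue_eq_zero_iff]
    exact haa
  refine ⟨a, ha, fun l hl => ?_⟩
  apply hz.dvd_of_pow_eq_one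
  rw [← hres, ← map_pow, hl, map_one]

/-- Eisenstein: `X ^ R - ϖ` is irreducible over the fraction field. -/
theorem irreducible_X_pow_sub_unif {O K : Type*} [CommRing O] [IsDomain O]
    [IsDiscreteValuationRing O] [Field K] [Algebra O K] [IsFractionRing O K]
    (ϖ : O) (hϖ : Irreducible ϖ) (R : ℕ) (hR : 1 ≤ R) :
    Irreducible (X ^ R - C (algebraMap O K ϖ) : K[X]) := by
  have hmon : (X ^ R - C ϖ : O[X]).Monic := monic_X_pow_sub_C _ (by omega)
  have hP : IsLocalRing.maximalIdeal O = Ideal.span {ϖ} := hϖ.maximalIdeal_eq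
  have hπP : ϖ ∈ IsLocalRing.maximalIdeal O := by
    rw [hP]; exact Ideal.mem_span_singleton_self ϖ
  have hnd : (X ^ R - C ϖ : O[X]).natDegree = R := natDegree_X_pow_sub_C
  have hdeg : (X ^ R - C ϖ : O[X]).degree = ((R : ℕ) : WithBot ℕ) := by
    rw [degree_eq_natDegree hmon.ne_zero, hnd]
  have hirrA : Irreducible (X ^ R - C ϖ : O[X]) := by
    refine irreducible_of_eisenstein_criterion (P := IsLocalRing.maximalIdeal O)
      (IsLocalRing.maximalIdeal.isMaximal O).isPrime ?_ ?_ ?_ ?_ hmon.isPrimitive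
    · rw [hmon.leadingCoeff]
      exact fun h => mem_nonunits_iff.1 ((IsLocalRing.mem_maximalIdeal 1).1 h) isUnit_one
    · intro i hi
      have hi' : i < R := by
        rw [hdeg] at hi
        exact_mod_cast hi
      rw [coeff_sub, coeff_X_pow, if_neg (ne_of_lt hi'), zero_sub, Ideal.neg_mem_iff, coeff_C]
      split_ifs
      · exact hπP
      · exact zero_mem _
    · rw [hdeg]
      exact_mod_cast (show 0 < R by omega)
    · have hc0 : (X ^ R - C ϖ : O[X]).coeff 0 = -ϖ := by
        rw [coeff_sub, coeff_X_pow, if_neg (by omega), zero_sub, coeff_C_zero]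
      rw [hc0, hP, Ideal.span_singleton_pow, Ideal.mem_span_singleton, dvd_neg]
      intro hdvd
      have h2 : ϖ * ϖ ∣ ϖ * 1 := by rwa [mul_one, ← sq]
      exact hϖ.not_isUnit (isUnit_of_dvd_one ((mul_dvd_mul_iff_left hϖ.ne_zero).1 h2))
  have h3 := (hmon.irreducible_iff_irreducible_map_fraction_map (K := K)).1 hirrA
  rwa [Polynomial.map_sub, Polynomial.map_pow, map_X, map_C] at h3

/-- The arithmetic core: a subgroup of `ℤ` containing `R = lcm r_i` and all `(R / r_i) b_i`
with `gcd (r_i, b_i) = 1` contains `1`. -/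
theorem one_mem_of_lcm {m : ℕ} (r b : Fin m → ℕ) (hr : ∀ i, 1 ≤ r i)
    (hrb : ∀ i, Nat.Coprime (r i) (b i)) (R : ℕ) (hR : R = Finset.univ.lcm r)
    (H : AddSubgroup ℤ) (hRH : (R : ℤ) ∈ H) (hn : ∀ i, ((R / r i * b i : ℕ) : ℤ) ∈ H) :
    (1 : ℤ) ∈ H := by
  have hR0 : R ≠ 0 := by
    rw [hR]
    intro h0
    rw [Finset.lcm_eq_zero_iff] at h0
    obtain ⟨i, -, hi⟩ := h0
    have := hr i
    omega
  have hdvdR : ∀ i, r i ∣ R := fun i => by rw [hR]; exact Finset.dvd_lcm (Finset.mem_univ i)
  obtain ⟨g, hg⟩ := Int.subgroup_cyclic H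
  have hgH : g ∈ H := by rw [hg]; exact AddSubgroup.subset_closure rfl
  have hdvd : ∀ x ∈ H, g ∣ x := by
    intro x hx
    rw [hg, AddSubgroup.mem_closure_singleton] at hx
    obtain ⟨n, rfl⟩ := hx
    rw [smul_eq_mul]
    exact Dvd.intro_left n rfl
  have h1 : g.natAbs ∣ R := Int.natCast_dvd_natCast.1 (Int.natAbs_dvd.2 (hdvd _ hRH))
  have h2 : ∀ i, g.natAbs ∣ R / r i * b i := fun i =>
    Int.natCast_dvd_natCast.1 (Int.natAbs_dvd.2 (hdvd _ (hn i)))
  by_contra hne
  have hgn : g.natAbs ≠ 1 := by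
    intro h1g
    rcases Int.natAbs_eq g with h | h
    · rw [h1g] at h
      apply hne
      have e : (1 : ℤ) = g := by rw [h]; rfl
      rw [e]; exact hgH
    · rw [h1g] at h
      apply hne
      have e : (1 : ℤ) = -g := by rw [h]; simp
      rw [e]; exact H.neg_mem hgH
  obtain ⟨q, hq, hqg⟩ := Nat.exists_prime_and_dvd hgn
  have hqR : q ∣ R := hqg.trans h1
  have key : ∀ i, r i ∣ R / q := by
    intro i
    rcases (Nat.Prime.dvd_mul hq).1 (hqg.trans (h2 i)) with h | h
    · obtain ⟨k, hk⟩ := h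
      have e : R = q * (r i * k) := by
        calc R = R / r i * r i := (Nat.div_mul_cancel (hdvdR i)).symm
          _ = q * (r i * k) := by rw [hk]; ring
      exact ⟨k, Nat.div_eq_of_eq_mul_right hq.pos e⟩
    · have hc : Nat.Coprime (r i) q := Nat.Coprime.coprime_dvd_right h (hrb i)
      have e : r i ∣ q * (R / q) := by rw [Nat.mul_div_cancel' hqR]; exact hdvdR i
      exact hc.dvd_of_dvd_mul_left e
  have hl : Finset.univ.lcm r ∣ R / q := Finset.lcm_dvd (fun i _ => key i)
  rw [← hR] at hl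
  have hlt : R / q < R := Nat.div_lt_self (by omega) hq.one_lt
  have hpos : 0 < R / q := Nat.div_pos (Nat.le_of_dvd (by omega) hqR) hq.pos
  exact absurd (Nat.le_of_dvd hpos hl) (by omega)

/-- The field generated by an `R`-th root `ρ` of `c` is a splitting field of the product of the
`X ^ r_i - w_i ^ r_i c ^ b_i` when the base field has enough roots of unity. -/
theorem isSplittingField_core {K L : Type*} [Field K] [Field L] [Algebra K L]
    [FiniteDimensional K L] {m : ℕ} (r b : Fin m → ℕ) (R : ℕ) (hr : ∀ i, 1 ≤ r i)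
    (hrb : ∀ i, Nat.Coprime (r i) (b i)) (hR : R = Finset.univ.lcm r) (c : K) (hc0 : c ≠ 0)
    (wv : Fin m → K) (hwv : ∀ i, wv i ≠ 0) (ζ : Fin m → K)
    (hζ : ∀ i, IsPrimitiveRoot (ζ i) (r i)) (ρ : L) (hρ : ρ ^ R = algebraMap K L c)
    (hgen : Algebra.adjoin K ({ρ} : Set L) = ⊤) :
    IsSplittingField K L (∏ i, (X ^ (r i) - C ((wv i) ^ (r i) * c ^ (b i)))) := by
  classical
  have hR0 : R ≠ 0 := by
    rw [hR]
    intro h0
    rw [Finset.lcm_eq_zero_iff] at h0
    obtain ⟨i, -, hi⟩ := h0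
    have := hr i
    omega
  have hdvdR : ∀ i, r i ∣ R := fun i => by rw [hR]; exact Finset.dvd_lcm (Finset.mem_univ i)
  have hθpow : ∀ i, (algebraMap K L (wv i) * ρ ^ (R / r i * b i)) ^ r i =
      algebraMap K L ((wv i) ^ (r i) * c ^ (b i)) := by
    intro i
    have e : R / r i * b i * r i = R * b i := by
      calc R / r i * b i * r i = (R / r i * r i) * b i := by ring
        _ = R * b i := by rw [Nat.div_mul_cancel (hdvdR i)]
    rw [mul_pow, ← pow_mul, map_mul, map_pow, map_pow, ← hρ, ← pow_mul, e]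
  obtain ⟨f, hf⟩ : ∃ f : K[X], f = ∏ i, (X ^ (r i) - C ((wv i) ^ (r i) * c ^ (b i))) := ⟨_, rfl⟩
  rw [← hf]
  constructor
  · rw [hf, Polynomial.map_prod]
    refine Splits.prod fun i _ => ?_
    rw [Polynomial.map_sub, Polynomial.map_pow, map_X, map_C]
    exact X_pow_sub_C_splits_of_isPrimitiveRoot
      ((hζ i).map_of_injective (algebraMap K L).injective) (hθpow i)
  · have hf0 : f ≠ 0 := by
      rw [hf, Finset.prod_ne_zero_iff]
      intro i _
      exact X_pow_sub_C_ne_zero (by have := hr i; omega) _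
    have hroot : ∀ i, algebraMap K L (wv i) * ρ ^ (R / r i * b i) ∈ f.rootSet L := by
      intro i
      rw [mem_rootSet_of_ne hf0, hf, map_prod]
      refine Finset.prod_eq_zero (Finset.mem_univ i) ?_
      rw [map_sub, map_pow, aeval_X, aeval_C, hθpow i, sub_self]
    obtain ⟨E, hE⟩ : ∃ E : IntermediateField K L,
        E = IntermediateField.adjoin K (f.rootSet L) := ⟨_, rfl⟩
    have hρ0 : ρ ≠ 0 := by
      intro h0
      rw [h0, zero_pow hR0] at hρ
      exact hc0 ((map_eq_zero (algebraMap K L)).1 hρ.symm)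
    have hmemE : ∀ i, ρ ^ (R / r i * b i) ∈ E := by
      intro i
      have h1 : algebraMap K L (wv i) * ρ ^ (R / r i * b i) ∈ E := by
        rw [hE]; exact IntermediateField.subset_adjoin K _ (hroot i)
      have h2 : ρ ^ (R / r i * b i) = (algebraMap K L (wv i))⁻¹ *
          (algebraMap K L (wv i) * ρ ^ (R / r i * b i)) := by
        rw [← mul_assoc, inv_mul_cancel₀ ((map_ne_zero (algebraMap K L)).2 (hwv i)), one_mul]
      rw [h2]
      exact E.mul_mem (E.inv_mem (E.algebraMap_mem _)) h1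
    let H : AddSubgroup ℤ :=
      { carrier := {n : ℤ | ρ ^ n ∈ E}
        zero_mem' := by
          show ρ ^ (0 : ℤ) ∈ E
          rw [zpow_zero]; exact E.one_mem
        add_mem' := by
          intro a b ha hb
          show ρ ^ (a + b) ∈ E
          rw [zpow_add₀ hρ0]; exact E.mul_mem ha hb
        neg_mem' := by
          intro a ha
          show ρ ^ (-a) ∈ E
          rw [zpow_neg]; exact E.inv_mem ha }
    have h1H : (1 : ℤ) ∈ H := by
      refine one_mem_of_lcm r b hr hrb R hR H ?_ ?_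
      · show ρ ^ ((R : ℕ) : ℤ) ∈ E
        rw [zpow_natCast, hρ]; exact E.algebraMap_mem c
      · intro i
        show ρ ^ ((R / r i * b i : ℕ) : ℤ) ∈ E
        rw [zpow_natCast]; exact hmemE i
    have hρE : ρ ∈ E := by
      have h3 : ρ ^ (1 : ℤ) ∈ E := h1H
      rwa [zpow_one] at h3
    have htop : E.toSubalgebra = ⊤ := by
      rw [eq_top_iff, ← hgen]
      refine Algebra.adjoin_le ?_
      intro x hx
      rw [Set.mem_singleton_iff] at hx
      rw [hx]; exact hρE
    rw [← htop, hE, IntermediateField.adjoin_toSubalgebra]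

theorem main_generic (O K : Type u) [CommRing O] [IsDomain O] [IsDiscreteValuationRing O]
    [HenselianLocalRing O] [IsAlgClosed (IsLocalRing.ResidueField O)] [Field K] [Algebra O K]
    [IsFractionRing O K] (p : ℕ) [Fact p.Prime] [CharP (IsLocalRing.ResidueField O) p]
    (ϖ : O) (hϖ : Irreducible ϖ) (m : ℕ) (r b : Fin m → ℕ) (v : Fin m → Oˣ)
    (hr : ∀ i, 1 ≤ r i) (hrb : ∀ i, Nat.Coprime (r i) (b i)) (hp : ∑ i, r i < p) :
    Module.finrank K
        (∏ i, (X ^ (r i) - C (algebraMap O K ((v i : O) * ϖ ^ (b i))))).SplittingField =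
      Finset.univ.lcm r := by
  classical
  obtain ⟨R, hR⟩ : ∃ R, R = Finset.univ.lcm r := ⟨_, rfl⟩
  rw [← hR]
  have hR1 : 1 ≤ R := by
    have hR0 : R ≠ 0 := by
      rw [hR]
      intro h0
      rw [Finset.lcm_eq_zero_iff] at h0
      obtain ⟨i, -, hi⟩ := h0
      have := hr i
      omega
    omega
  have hri : ∀ i, (r i : IsLocalRing.ResidueField O) ≠ 0 := by
    intro i h0
    have h1 : p ∣ r i := (CharP.cast_eq_zero_iff (IsLocalRing.ResidueField O) p (r i)).1 h0
    have h2 : r i ≤ ∑ j, r j :=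
      Finset.single_le_sum (fun j _ => Nat.zero_le (r j)) (Finset.mem_univ i)
    have h3 := Nat.le_of_dvd (by have := hr i; omega) h1
    omega
  choose w hw using fun i => exists_root_of_unit (r i) (hr i) (hri i) (v i)
  choose ζ hζ using fun i => exists_primitiveRoot_hensel (O := O) (r i) (hr i) (hri i)
  have hinj : Function.Injective (algebraMap O K) := IsFractionRing.injective O K
  obtain ⟨c, hc⟩ : ∃ c : K, c = algebraMap O K ϖ := ⟨_, rfl⟩
  have hc0 : c ≠ 0 := by rw [hc]; exact (map_ne_zero_iff _ hinj).2 hϖ.ne_zero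
  have hirr : Irreducible (X ^ R - C c : K[X]) := by
    rw [hc]; exact irreducible_X_pow_sub_unif ϖ hϖ R hR1
  haveI : Fact (Irreducible (X ^ R - C c : K[X])) := ⟨hirr⟩
  have hP0 : (X ^ R - C c : K[X]) ≠ 0 := hirr.ne_zero
  haveI : FiniteDimensional K (AdjoinRoot (X ^ R - C c : K[X])) :=
    (AdjoinRoot.powerBasis hP0).finite
  have hρ : (AdjoinRoot.root (X ^ R - C c : K[X])) ^ R =
      algebraMap K (AdjoinRoot (X ^ R - C c : K[X])) c := by
    have h : aeval (AdjoinRoot.root (X ^ R - C c : K[X])) (X ^ R - C c : K[X]) = 0 := by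
      rw [AdjoinRoot.aeval_eq, AdjoinRoot.mk_self]
    rw [map_sub, map_pow, aeval_X, aeval_C, sub_eq_zero] at h
    exact h
  have hfin : Module.finrank K (AdjoinRoot (X ^ R - C c : K[X])) = R := by
    rw [(AdjoinRoot.powerBasis hP0).finrank, AdjoinRoot.powerBasis_dim, natDegree_X_pow_sub_C]
  have hfeq : (∏ i, (X ^ (r i) - C (algebraMap O K ((v i : O) * ϖ ^ (b i))))) =
      ∏ i, (X ^ (r i) - C ((algebraMap O K (w i)) ^ (r i) * c ^ (b i))) := by
    refine Finset.prod_congr rfl fun i _ => ?_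
    have e : algebraMap O K ((v i : O) * ϖ ^ (b i)) =
        (algebraMap O K (w i)) ^ (r i) * c ^ (b i) := by
      rw [map_mul, map_pow, ← hw i, map_pow, hc]
    rw [e]
  rw [hfeq]
  have hw0 : ∀ i, algebraMap O K (w i) ≠ 0 := by
    intro i
    refine (map_ne_zero_iff _ hinj).2 ?_
    intro h0
    have h1 := hw i
    rw [h0, zero_pow (by have := hr i; omega)] at h1
    exact (v i).ne_zero h1.symm
  haveI := isSplittingField_core (K := K) (L := AdjoinRoot (X ^ R - C c : K[X])) r b R hr hrb hR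
    c hc0 (fun i => algebraMap O K (w i)) hw0 (fun i => algebraMap O K (ζ i))
    (fun i => (hζ i).map_of_injective hinj) (AdjoinRoot.root _) hρ AdjoinRoot.adjoinRoot_eq_top
  rw [← hfin]
  exact (LinearEquiv.finrank_eq (IsSplittingField.algEquiv (AdjoinRoot (X ^ R - C c : K[X]))
    (∏ i, (X ^ (r i) - C ((algebraMap O K (w i)) ^ (r i) * c ^ (b i))))).toLinearEquiv).symm

end helpers



/-- Let O be a henselian discrete valuation ring of characteristic zero with algebraically closed
residue field of characteristic p, ϖ a uniformizer and K the fraction field. Let r_1, …, r_m ≥ 1 and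
b_1, …, b_m ≥ 1 be integers with gcd(r_i, b_i) = 1 for each i and r_1 + ⋯ + r_m < p, and let v_1, …,
v_m be units of O. Then the splitting field over K of the polynomial ∏_i (y^{r_i} − v_i ϖ^{b_i}) has
degree lcm(r_1, …, r_m) over K. (In the source O is complete and this polynomial is the y-part of a
deformation y ↦ x² + z² + f(y) of an A_n-singularity with n + 1 = Σ r_i; the proposition goes on to
identify the monodromy element, which is not stated here.) -/
theorem result (O : Type u) [CommRing O] [IsDomain O]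
    [IsDiscreteValuationRing O] [HenselianLocalRing O] [CharZero O] [IsAlgClosed (IsLocalRing.ResidueField O)]
    (p : ℕ) [Fact p.Prime] [CharP (IsLocalRing.ResidueField O) p]
    (ϖ : O) (hϖ : Irreducible ϖ) (m : ℕ) (r b : Fin m → ℕ) (v : Fin m → Oˣ)
    (hr : ∀ i, 1 ≤ r i) (hb : ∀ i, 1 ≤ b i) (hrb : ∀ i, Nat.Coprime (r i) (b i)) (hp : ∑ i, r i < p) :
    Module.finrank (FractionRing O)
        (∏ i, (X ^ (r i) - C (algebraMap O (FractionRing O) ((v i : O) * ϖ ^ (b i))))).SplittingField =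
      Finset.univ.lcm r := by
  exact main_generic O (FractionRing O) p ϖ hϖ m r b v hr hrb hp


end Groth.Agent.S16052
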