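import Groth.Statements.S1606
import Mathlib
import Groth.Agent.Lib.Helper18.GGF
import Groth.Agent.S1605
import Groth.Agent.Lib.Helper21.FlatSES

set_option autoImplicit false
universe u
open CategoryTheory CategoryTheory.Limits AlgebraicGeometry
open Curves

namespace Groth.Agent.S1606

open TopologicalSpace Module Scheme.Modules
  Groth.Agent.Lib.helper7.IdealMod Groth.Agent.Lib.Helper18.SubF
  Groth.Agent.Lib.Lead.ModTensor Groth.Agent.Lib.Helper20.DualDev
  Groth.Agent.Lib.Helper18.SubG Groth.Agent.Lib.Helper18.SubA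
  Groth.Agent.Lib.Helper18.AdjB Groth.Agent.Lib.Helper18.AdjC Groth.Agent.Lib.Helper18.AdjE
  Groth.Agent.Lib.Helper18.GGB Groth.Agent.Lib.Helper18.GGF Groth.Agent.Lib.Helper18
  Groth.Agent.Lib.helper9.CurveGG Groth.Agent.Lib.helper11.IsoLocus
  Groth.Agent.Lib.helper11.SerreGG Groth.Agent.Lib.Helper20.SplitH1

attribute [local instance] Groth.Agent.Lib.Helper18.SubE.overSub

section General

variable {X : Scheme.{u}}

/-- `0 ⊗ 𝟙 = 0` -/
theorem tensorMap_zero_left {M N : X.Modules} (Q : X.Modules) :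
    tensorMap (0 : M ⟶ N) (𝟙 Q) = 0 := by
  haveI := Groth.Agent.Lib.Helper21.FlatSES.additive_tens (O := X.sheaf) Q
  exact (Groth.Agent.Lib.Helper21.TensorAdj.tens X.sheaf Q).map_zero M N

/-- the zero ideal sheaf has zero module -/
theorem idealModι_bot : ClSub.idealModι (⊥ : X.IdealSheafData) = 0 := by
  refine Groth.Agent.Lib.helper16.QCohEpi.hom_ext_of_basis _ _ {U | IsAffineOpen U}
    X.isBasis_affineOpens (fun D hD a' => ?_)
  have hmem := idealModι_app_mem (⊥ : X.IdealSheafData) ⟨D, hD⟩ a'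
  rw [Scheme.IdealSheafData.ideal_bot] at hmem
  exact hmem

theorem isIso_toSubscheme_bot : IsIso (ClSub.toSubscheme (⊥ : X.IdealSheafData)) := by
  haveI : Mono (ClSub.toSubscheme (⊥ : X.IdealSheafData)) :=
    Preadditive.mono_of_kernel_zero (idealModι_bot (X := X))
  haveI : Epi (ClSub.toSubscheme (⊥ : X.IdealSheafData)) := epi_toSubscheme _
  exact isIso_of_mono_of_epi _

theorem bot_props [IsReduced X] [ConnectedSpace X] (hdim : topologicalKrullDim X = 1) :
    IsReduced (⊥ : X.IdealSheafData).subscheme ∧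
      ConnectedSpace (⊥ : X.IdealSheafData).subscheme ∧
      topologicalKrullDim (⊥ : X.IdealSheafData).subscheme = 1 := by
  haveI : IsIso (⊥ : X.IdealSheafData).subschemeι := inferInstance
  let e := Scheme.homeoOfIso (asIso (⊥ : X.IdealSheafData).subschemeι)
  refine ⟨isReduced_of_isOpenImmersion (⊥ : X.IdealSheafData).subschemeι, ?_, ?_⟩
  · exact e.symm.surjective.connectedSpace e.symm.continuous
  · rw [IsHomeomorph.topologicalKrullDim_eq e e.isHomeomorph]; exact hdim

end General

section Curve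

variable (k : Type u) [Field k] (X : Scheme.{u}) [X.Over (Spec (CommRingCat.of k))]
  [IsProper (X ↘ Spec (CommRingCat.of k))]

theorem finrank_sub (J : X.IdealSheafData) (p : ℕ) :
    finrank k (Coh.HH X (ClSub.quotMod J) p) =
      finrank k (Coh.HH J.subscheme (Coh.structureModule J.subscheme) p) :=
  Groth.Agent.Lib.Helper18.HH.finrank_push J.subschemeι (Coh.structureModule J.subscheme) k p

variable [IsReduced X] [ConnectedSpace X]

/-- under the degree hypothesis, `H¹(X, L) = 0` -/
theorem subsingleton_H1 (hdim : topologicalKrullDim X = 1) (L : X.Modules)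
    (hL : PicF.IsInvertible L)
    (h : ∀ J : X.IdealSheafData, IsReduced J.subscheme → ConnectedSpace J.subscheme → topologicalKrullDim J.subscheme = 1 →
      2 * (@Curv2.genus k _ J.subscheme ⟨J.subschemeι ≫ (X ↘ (Spec (CommRingCat.of k)))⟩ : ℤ) ≤
        @Curv2.deg k _ J.subscheme ⟨J.subschemeι ≫ (X ↘ (Spec (CommRingCat.of k)))⟩ ((Scheme.Modules.pullback J.subschemeι).obj L) 1) :
    Subsingleton (Coh.HH X L 1) := by
  by_contra hn
  rw [not_subsingleton_iff_nontrivial] at hn
  haveI := Groth.Agent.Lib.Lead.CurveEuler.isNoetherian k X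
  haveI := isIso_idealModι_top (X := X)
  let e : CohB1.tensorMod (ClSub.idealMod (⊤ : X.IdealSheafData)) L ≅ L :=
    tensorIso (asIso (ClSub.idealModι (⊤ : X.IdealSheafData))) (Iso.refl L) ≪≫ leftUnitor L
  have h1' : Nontrivial (Coh.HH X (CohB1.tensorMod (ClSub.idealMod (⊤ : X.IdealSheafData)) L) 1) := by
    by_contra hn'
    rw [not_nontrivial_iff_subsingleton] at hn'
    have := Groth.Agent.Lib.helper11.RelSerre.subsingleton_HH_of_iso e 1 hn'
    exact not_subsingleton _ this
  have hZ : topologicalKrullDim (((⊤ : X.IdealSheafData).support : Closeds X) : Set X) ≤ 0 := by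
    rw [Scheme.IdealSheafData.support_top]
    refine dim_le_zero_of_forall_isClosed _ isClosed_empty (fun x hx => ?_)
    exact (hx : x ∈ (∅ : Set X)).elim
  obtain ⟨J, hJr, hJc, hJd, hle⟩ := Groth.Agent.S1605.result k X hdim L hL ⊤ hZ h1'
  rw [top_sup_eq, finrank_H0_quotMod_top] at hle
  have hge := h J hJr hJc hJd
  have hχ := Groth.Agent.Lib.Lead.CurveEuler.euler_eq k J.subscheme hJd.le
    (Coh.structureModule J.subscheme)
    (Groth.Agent.Lib.helper8.Dev.isCoh_structureModule J.subscheme).1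
  have hpos : 0 < finrank k (Coh.HH J.subscheme (Coh.structureModule J.subscheme) 0) := by
    rw [← finrank_sub]
    obtain ⟨y⟩ := hJc.toNonempty
    refine finrank_H0_quotMod_pos k X J ⟨J.subschemeι y, ?_⟩
    rw [← Scheme.IdealSheafData.range_subschemeι]
    exact ⟨y, rfl⟩
  have hge' : 2 * (finrank k (Coh.HH J.subscheme (Coh.structureModule J.subscheme) 1) : ℤ) ≤
      Curv2.deg k J.subscheme ((Scheme.Modules.pullback J.subschemeι).obj L) 1 := hge
  have hpos' : (1 : ℤ) ≤ (finrank k (Coh.HH J.subscheme (Coh.structureModule J.subscheme) 0) : ℤ) := by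
    exact_mod_cast hpos
  have hle' : Curv2.deg k J.subscheme ((Scheme.Modules.pullback J.subschemeι).obj L) 1 ≤
      -2 * Curv2.euler k J.subscheme (Coh.structureModule J.subscheme) + ((0 : ℕ) : ℤ) := hle
  rw [hχ] at hle'
  push_cast at hle'
  linarith

/-- the numerical hypothesis in terms of modules on `X` -/
theorem hJ_of_h (L : X.Modules) (hL : PicF.IsInvertible L) (J : X.IdealSheafData)
    (hge : 2 * (@Curv2.genus k _ J.subscheme ⟨J.subschemeι ≫ (X ↘ (Spec (CommRingCat.of k)))⟩ : ℤ) ≤
        @Curv2.deg k _ J.subscheme ⟨J.subschemeι ≫ (X ↘ (Spec (CommRingCat.of k)))⟩ ((Scheme.Modules.pullback J.subschemeι).obj L) 1) :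
    2 * (finrank k (Coh.HH X (ClSub.quotMod J) 1) : ℤ) ≤
      Curv2.euler k X (CohB1.tensorMod (ClSub.quotMod J) L) - Curv2.euler k X (ClSub.quotMod J) := by
  have hLf := Groth.Agent.Lib.helper16.FLF.isFinLocFree_of_isInvertible hL
  have h1 := NefPull.nefq_eq_deg k X J L hLf
  unfold NefPull.nefq at h1
  rw [h1, finrank_sub]
  exact hge

/-- no connected reduced subcurve through `x` has `x` as a base point of `L` -/
theorem no_base (hdim : topologicalKrullDim X ≤ 1) {L : X.Modules} (hL : PicF.IsInvertible L)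
    {ω : X.Modules} (hω : Coh.IsCoh ω) (t : Coh.HH X ω 1 →ₗ[k] k)
    (hgood : ∀ F : X.Modules, Coh.IsCoh F → Good k t F)
    (hH1 : Subsingleton (Coh.HH X L 1))
    (x : X) (hx : IsClosed ({x} : Set X))
    (hJall : ∀ J : X.IdealSheafData, IsReduced J.subscheme → ConnectedSpace J.subscheme →
      topologicalKrullDim J.subscheme = 1 →
      2 * (finrank k (Coh.HH X (ClSub.quotMod J) 1) : ℤ) ≤
        Curv2.euler k X (CohB1.tensorMod (ClSub.quotMod J) L) - Curv2.euler k X (ClSub.quotMod J)) :
    ∀ (n : ℕ) (J : X.IdealSheafData), IsReduced J.subscheme → ConnectedSpace J.subscheme →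
      topologicalKrullDim J.subscheme = 1 → x ∈ J.support → (Sof J).ncard = n →
      HH.mapOver k (qq (Scheme.IdealSheafData.vanishingIdeal ⟨{x}, hx⟩) J L) 0 ≠ 0 := by
  intro n
  induction n using Nat.strong_induction_on with
  | _ n ih =>
    intro J hJr hJc hJd hxJ hn hBP
    haveI := hJr
    haveI := hJc
    haveI := Groth.Agent.Lib.Lead.CurveEuler.isNoetherian k X
    obtain ⟨J₀, h1, h2, h3, h4, h5, h6⟩ :=
      step k hdim hL hω t hgood hH1 x hx J hJd hxJ (hJall J hJr hJc hJd) hBP
    have hfin : (Sof J).Finite :=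
      (finite_setOf_not_isClosed (X := X) hdim).subset (fun η h => h.1)
    have hlt : (Sof J₀).ncard < (Sof J).ncard := Set.ncard_lt_ncard h5 hfin
    exact ih _ (hn ▸ hlt) J₀ h1 h2 h3 h4 rfl h6

end Curve

/-- Let X be proper over k, reduced, connected, of dimension one, and L an invertible module whose
restriction to each reduced connected one-dimensional closed subscheme Y of X has degree at least
twice the k-dimension of H^1(Y, O_Y). Then L is globally generated. -/
theorem result (k : Type u) [Field k] (X : Scheme.{u}) [X.Over (Spec (CommRingCat.of k))] [IsProper (X ↘ (Spec (CommRingCat.of k)))] [IsReduced X] [ConnectedSpace X]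
    (hdim : topologicalKrullDim X = 1) (L : X.Modules) (hL : PicF.IsInvertible L)
    (h : ∀ J : X.IdealSheafData, IsReduced J.subscheme → ConnectedSpace J.subscheme → topologicalKrullDim J.subscheme = 1 →
      2 * (@Curv2.genus k _ J.subscheme ⟨J.subschemeι ≫ (X ↘ (Spec (CommRingCat.of k)))⟩ : ℤ) ≤
        @Curv2.deg k _ J.subscheme ⟨J.subschemeι ≫ (X ↘ (Spec (CommRingCat.of k)))⟩ ((Scheme.Modules.pullback J.subschemeι).obj L) 1) :
    Curv2.IsGloballyGenerated L := by
  classical
  haveI := Groth.Agent.Lib.Lead.CurveEuler.isNoetherian k X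
  have hd1 : topologicalKrullDim X ≤ 1 := hdim.le
  -- the dualizing pair
  obtain ⟨N, ι, hcl, hι⟩ := Groth.Agent.Lib.Helper18.CurveProj.exists_closedImmersion k X hd1
  obtain ⟨ω, hω, t, hgood⟩ :=
    Groth.Agent.Lib.Helper18.CurveDualizing.exists_dualizing_coh_of_closedImmersion k N ι hι 1
      (by rw [hdim]; rfl)
  have hH1 := subsingleton_H1 k X hdim L hL h
  by_contra hng
  obtain ⟨x, hx, hbase⟩ := exists_base_point hng
  obtain ⟨hbr, hbc, hbd⟩ := bot_props (X := X) hdim
  refine no_base k X hd1 hL hω t hgood hH1 x hx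
    (fun J a b c => hJ_of_h k X L hL J (h J a b c)) _ ⊥ hbr hbc hbd
    (by rw [Scheme.IdealSheafData.support_bot]; trivial) rfl ?_
  -- the base point condition on the whole curve
  set Z := Scheme.IdealSheafData.vanishingIdeal ⟨{x}, hx⟩ with hZdef
  let OL := CohB1.tensorMod (Coh.structureModule X) L
  let F := CohB1.tensorMod (ClSub.idealMod Z) L
  let φ : F ⟶ OL := tensorMap (ClSub.idealModι Z) (𝟙 L)
  have hsurj : Function.Surjective (φ.app ⊤).hom := by
    intro x'
    apply exists_preimage_of_not_mem_isoLocus hL hx x'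
    have := hbase (homOfGlobal OL x' ≫ (leftUnitor L).hom)
    rwa [isoLocus_comp_of_isIso_right] at this
  have hs : Function.Surjective (HH.map φ 0) :=
    Groth.Agent.Lib.helper9.CurveLinSer.surjective_H0_of_sections φ hsurj
  haveI := isIso_toSubscheme_bot (X := X)
  let P : OL ≅ CohB1.tensorMod (ClSub.quotMod (⊥ : X.IdealSheafData)) L :=
    tensorIso (asIso (ClSub.toSubscheme (⊥ : X.IdealSheafData))) (Iso.refl L)
  have hP : P.hom = tensorMap (ClSub.toSubscheme (⊥ : X.IdealSheafData)) (𝟙 L) := rfl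
  have hcomp : φ ≫ P.hom ≫ qq Z ⊥ L = 0 := by
    have h1 : P.hom ≫ qq Z ⊥ L = tensorMap (ClSub.toSubscheme (Z ⊔ ⊥)) (𝟙 L) := by
      have := (tensorMap_comp (ClSub.toSubscheme (⊥ : X.IdealSheafData))
        (quotMap ⊥ (Z ⊔ ⊥) le_sup_right) (𝟙 L) (𝟙 L)).symm
      rwa [toSubscheme_quotMap, Category.comp_id] at this
    rw [h1]
    have := (tensorMap_comp (ClSub.idealModι Z) (ClSub.toSubscheme (Z ⊔ ⊥)) (𝟙 L) (𝟙 L)).symm
    rw [idealModι_comp_toSubscheme_of_le Z (Z ⊔ ⊥) le_sup_left, Category.comp_id,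
      tensorMap_zero_left] at this
    exact this
  apply LinearMap.ext
  intro y
  rw [HH.mapOver_apply, LinearMap.zero_apply]
  have hy1 : y = HH.map P.hom 0 (HH.map P.inv 0 y) := by
    rw [← HH.map_comp_apply, P.inv_hom_id, HH.map_id]; rfl
  obtain ⟨y₂, hy₂⟩ := hs (HH.map P.inv 0 y)
  rw [hy1, ← hy₂, ← HH.map_comp_apply, ← HH.map_comp_apply, hcomp, HH.map_zero]
  rfl

end Groth.Agent.S1606
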