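import Groth.Statements.S16072
import Groth.Agent.Lib.Helper6.MonoidAlgFrob
-- import your own Groth.Agent.* helpers here

set_option autoImplicit false
universe u
open Hopf

namespace Groth.Agent.S16072

/-- Let p be a prime and R a commutative ring of characteristic p (p = 0 in R, R nonzero). Then the
constant group scheme ℤ/p and the group scheme μ_p of p-th roots of unity over Spec R are not
isomorphic: there is no R-bialgebra isomorphism between the Hopf algebra Maps(ℤ/p, R) of functions
on the cyclic group of order p and the group algebra R[ℤ/p]. (Any nonzero commutative base ring of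
characteristic p is allowed. The published statement allows any ring R with p·R = 0; over the zero
ring both Hopf algebras are the zero ring and hence isomorphic, so R is assumed nonzero here.) -/
theorem result (p : ℕ) [Fact p.Prime] (R : Type u) [CommRing R]
    [CharP R p] :
    IsEmpty (ConstGrp.F R (Multiplicative (ZMod p)) ≃ₐc[R] MonoidAlgebra R (Multiplicative (ZMod p))) := by
  refine ⟨fun Φ => ?_⟩
  have hp : p.Prime := Fact.out
  have : Nontrivial R := CharP.nontrivial_of_char_ne_one (R := R) hp.ne_one
  have hG : ∀ g : Multiplicative (ZMod p), g ^ p = 1 := by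
    intro g
    apply Multiplicative.toAdd.injective
    rw [toAdd_pow, toAdd_one, nsmul_eq_mul, CharP.cast_eq_zero (ZMod p) p, zero_mul]
  set e₁ : ConstGrp.F R (Multiplicative (ZMod p)) := ConstGrp.e R 1 with he₁
  have hidem : IsIdempotentElem e₁ := by
    change e₁ * e₁ = e₁
    rw [he₁, ConstGrp.e_mul_e, if_pos rfl]
  have hidem' : IsIdempotentElem (Φ e₁) := by
    change Φ e₁ * Φ e₁ = Φ e₁
    rw [← map_mul, hidem.eq]
  obtain ⟨c, hc⟩ := Groth.Agent.Lib.helper6.idempotent_eq_algebraMap p R _ hG _ hidem'
  have he : e₁ = algebraMap R _ c := by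
    have h1 := congrArg Φ.symm hc
    rw [BialgEquiv.symm_apply_apply] at h1
    rw [h1]
    exact AlgEquiv.commutes (Φ.symm : MonoidAlgebra R (Multiplicative (ZMod p)) ≃ₐ[R]
      ConstGrp.F R (Multiplicative (ZMod p))) c
  -- evaluate at `1` and at a non-identity element
  have h1 : c = 1 := by
    have := congrFun he 1
    rw [he₁, ConstGrp.e_apply_self] at this
    exact this.symm
  let g : Multiplicative (ZMod p) := Multiplicative.ofAdd 1
  have hg : g ≠ 1 := by
    intro h
    have h2 : (1 : ZMod p) = 0 := Multiplicative.ofAdd.injective h
    haveI : Fact (1 < p) := ⟨hp.one_lt⟩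
    exact one_ne_zero h2
  have h0 : c = 0 := by
    have := congrFun he g
    rw [he₁, ConstGrp.e_apply_of_ne hg] at this
    exact this.symm
  exact one_ne_zero (h1.symm.trans h0)

end Groth.Agent.S16072
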