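import Groth.Statements.S16073
import Mathlib
-- import your own Groth.Agent.* helpers here

set_option autoImplicit false
universe u
open Hopf

namespace Groth.Agent.S16073

open Polynomial

/-- the `p`-th power of any element of `R[X]/(X^p)` is a scalar (characteristic `p`). -/
theorem pow_char_eq_algebraMap (p : ℕ) [Fact p.Prime] (R : Type u) [CommRing R] [CharP R p]
    (y : AlphaP.A p R) :
    y ^ p = algebraMap R (AlphaP.A p R) ((Bialgebra.counitAlgHom R (AlphaP.A p R) y) ^ p) := by
  have hp : p.Prime := Fact.out
  set ε := Bialgebra.counitAlgHom R (AlphaP.A p R) with hε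
  have hεx : ε (AlphaP.x p R) = 0 := AlphaP.counit_x p R
  obtain ⟨f, rfl⟩ := AlphaP.mk_surjective p R y
  induction f using Polynomial.induction_on' with
  | add f g hf hg =>
    rw [map_add, add_pow_char, hf, hg, map_add, add_pow_char, map_add]
  | monomial n a =>
    rw [← Polynomial.C_mul_X_pow_eq_monomial, map_mul, map_pow, AlphaP.mk_X]
    have hC : AlphaP.mk p R (C a) = algebraMap R (AlphaP.A p R) a := (AlphaP.mk p R).commutes a
    rw [hC, mul_pow, ← pow_mul, map_mul, map_pow ε, hεx, AlgHom.commutes]
    rcases Nat.eq_zero_or_pos n with h0 | h0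
    · subst h0
      simp
    · have h1 : AlphaP.x p R ^ (n * p) = 0 :=
        AlphaP.x_pow_of_le p R (Nat.le_mul_of_pos_left p h0)
      rw [h1, mul_zero, zero_pow h0.ne', mul_zero, zero_pow hp.ne_zero, map_zero]

/-- Let p be a prime and R a commutative ring of characteristic p (p = 0 in R, R nonzero). Then the
constant group scheme ℤ/p and α_p over Spec R are not isomorphic: there is no R-bialgebra
isomorphism between the Hopf algebra Maps(ℤ/p, R) of functions on the cyclic group of order p and
the Hopf algebra R[X]/(X^p) of α_p (X primitive). (Any nonzero commutative base ring of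
characteristic p is allowed. The published statement allows any ring R with p·R = 0; over the zero
ring both Hopf algebras are the zero ring and hence isomorphic, so R is assumed nonzero here.) -/
theorem result (p : ℕ) [Fact p.Prime] (R : Type u) [CommRing R] [CharP R p] :
    IsEmpty (ConstGrp.F R (Multiplicative (ZMod p)) ≃ₐc[R] AlphaP.A p R) := by
  refine ⟨fun Φ => ?_⟩
  have hp : p.Prime := Fact.out
  have : Nontrivial R := CharP.nontrivial_of_char_ne_one (R := R) hp.ne_one
  set e₁ : ConstGrp.F R (Multiplicative (ZMod p)) := ConstGrp.e R 1 with he₁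
  have hidem : IsIdempotentElem e₁ := by
    change e₁ * e₁ = e₁
    rw [he₁, ConstGrp.e_mul_e, if_pos rfl]
  have hidem' : IsIdempotentElem (Φ e₁) := by
    change Φ e₁ * Φ e₁ = Φ e₁
    rw [← map_mul, hidem.eq]
  have hc : Φ e₁ = algebraMap R _ ((Bialgebra.counitAlgHom R (AlphaP.A p R) (Φ e₁)) ^ p) := by
    rw [← pow_char_eq_algebraMap p R (Φ e₁)]
    have key : ∀ n : ℕ, n ≠ 0 → (Φ e₁) ^ n = Φ e₁ := by
      intro n hn
      obtain ⟨m, rfl⟩ := Nat.exists_eq_succ_of_ne_zero hn
      exact hidem'.pow_succ_eq m
    exact (key p hp.ne_zero).symm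
  set c := (Bialgebra.counitAlgHom R (AlphaP.A p R) (Φ e₁)) ^ p with hcdef
  have he : e₁ = algebraMap R _ c := by
    have h1 := congrArg Φ.symm hc
    rw [BialgEquiv.symm_apply_apply] at h1
    rw [h1]
    exact AlgEquiv.commutes (Φ.symm : AlphaP.A p R ≃ₐ[R]
      ConstGrp.F R (Multiplicative (ZMod p))) c
  have h1 : c = 1 := by
    have := congrFun he 1
    rw [he₁, ConstGrp.e_apply_self] at this
    exact this.symm
  let g : Multiplicative (ZMod p) := Multiplicative.ofAdd 1
  have hg : g ≠ 1 := by
    intro h
    have h2 : (1 : ZMod p) = 0 := Multiplicative.ofAdd.injective h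
    have : Fact (1 < p) := ⟨hp.one_lt⟩
    exact one_ne_zero h2
  have h0 : c = 0 := by
    have := congrFun he g
    rw [he₁, ConstGrp.e_apply_of_ne hg] at this
    exact this.symm
  exact one_ne_zero (h1.symm.trans h0)

end Groth.Agent.S16073
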