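import Groth.Statements.S16074
import Groth.Agent.Lib.Helper6.MonoidAlgPrimitive
-- import your own Groth.Agent.* helpers here

set_option autoImplicit false
universe u
open Hopf

namespace Groth.Agent.S16074

open TensorProduct

/-- Let p be a prime and R a commutative ring of characteristic p (p = 0 in R, R nonzero). Then μ_p and
α_p over Spec R are not isomorphic: there is no R-bialgebra isomorphism between the group algebra
R[ℤ/p] of the cyclic group of order p (group elements group-like) and the Hopf algebra R[X]/(X^p) of
α_p (X primitive), although the underlying R-algebras R[ℤ/p] = R[Y]/(Y^p) and R[X]/(X^p) are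
isomorphic. (Any nonzero commutative base ring of characteristic p is allowed. The published
statement allows any ring R with p·R = 0; over the zero ring both Hopf algebras are the zero ring
and hence isomorphic, so R is assumed nonzero here.) -/
theorem result (p : ℕ) [Fact p.Prime] (R : Type u) [CommRing R] [CharP R p] :
    IsEmpty (MonoidAlgebra R (Multiplicative (ZMod p)) ≃ₐc[R] AlphaP.A p R) := by
  refine ⟨fun e => ?_⟩
  have hp : p.Prime := Fact.out
  have : Nontrivial R := CharP.nontrivial_of_char_ne_one (R := R) hp.ne_one
  set y := e.symm (AlphaP.x p R) with hy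
  have hcomul : Coalgebra.comul (R := R) y = y ⊗ₜ[R] 1 + 1 ⊗ₜ[R] y := by
    rw [hy, ← CoalgHomClass.map_comp_comul_apply, AlphaP.comul_x, map_add, TensorProduct.map_tmul,
      TensorProduct.map_tmul]
    simp
  have hy0 : y = 0 := Groth.Agent.Lib.helper6.eq_zero_of_primitive R _ y hcomul
  have hx0 : AlphaP.x p R = 0 := by
    have := congrArg e hy0
    rwa [hy, BialgEquiv.apply_symm_apply, map_zero] at this
  -- but `x` is a basis vector
  have hb : AlphaP.basis p R ⟨1, hp.one_lt⟩ = AlphaP.x p R := by
    rw [AlphaP.basis_apply]; simp
  exact (AlphaP.basis p R).ne_zero ⟨1, hp.one_lt⟩ (hb.trans hx0)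

end Groth.Agent.S16074
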