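import Groth.Statements.S16075
-- import your own Groth.Agent.* helpers here

set_option autoImplicit false
universe u
open Hopf

namespace Groth.Agent.S16075

/-- Let p be a prime, T a commutative ring of characteristic p (p = 0 in T, T nonzero) and A =
T[X]/(X^p) the Hopf algebra of α_p over Spec T, with X primitive. Then the endomorphisms of the
T-group α_{p,T} are exactly the scalings: every T-bialgebra endomorphism f of A has f(X) = λ·X for a
unique λ ∈ T, and for every λ ∈ T there is a T-bialgebra endomorphism f of A with f(X) = λ·X. So the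
endomorphisms of α_{p,T} correspond bijectively to the elements of T. (Only this bijection is
stated; that it turns addition and composition of endomorphisms into addition and multiplication in
T, and its naturality in T, are not stated here. The zero ring, allowed as T in the published
statement, is excluded by the characteristic hypothesis here.) -/
theorem result (p : ℕ) [Fact p.Prime] (T : Type u) [CommRing T] [CharP T p] :
    (∀ f : AlphaP.A p T →ₐc[T] AlphaP.A p T, ∃! c : T, f (AlphaP.x p T) = c • AlphaP.x p T) ∧
      (∀ c : T, ∃ f : AlphaP.A p T →ₐc[T] AlphaP.A p T, f (AlphaP.x p T) = c • AlphaP.x p T) := by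
  classical
  have hp : p.Prime := Fact.out
  have hnt : Nontrivial T := CharP.nontrivial_of_char_ne_one (R := T) hp.ne_one
  set b := AlphaP.basis p T with hb
  set x := AlphaP.x p T with hx
  -- coordinates of powers of x
  have hcoord : ∀ (a : Fin p) (m : ℕ), b.coord a (x ^ m) = if m = (a : ℕ) then 1 else 0 := by
    intro a m
    by_cases hm : m < p
    · have : x ^ m = b ⟨m, hm⟩ := by rw [hb, AlphaP.basis_apply]
      rw [this, Module.Basis.coord_apply, Module.Basis.repr_self, Finsupp.single_apply]
      by_cases h : m = (a : ℕ)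
      · rw [if_pos h, if_pos (Fin.ext h)]
      · rw [if_neg h, if_neg (fun h' => h (congrArg Fin.val h'))]
    · push Not at hm
      rw [hx, AlphaP.x_pow_of_le p T hm, map_zero, if_neg]
      have := a.2
      omega
  -- comultiplication of powers of x
  have hcomul : ∀ m : ℕ, Coalgebra.comul (R := T) (x ^ m) =
      ∑ j ∈ Finset.range (m + 1), (m.choose j : T) • ((x ^ j) ⊗ₜ[T] (x ^ (m - j))) := by
    intro m
    have h1 : Coalgebra.comul (R := T) (x ^ m) = (Bialgebra.comulAlgHom T (AlphaP.A p T)) (x ^ m) := rfl
    rw [h1, map_pow, Bialgebra.comulAlgHom_apply, hx, AlphaP.comul_x, add_pow]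
    apply Finset.sum_congr rfl
    intro j _
    rw [Algebra.TensorProduct.tmul_pow, Algebra.TensorProduct.tmul_pow, one_pow, one_pow,
      Algebra.TensorProduct.tmul_mul_tmul, mul_one, one_mul, mul_comm, ← nsmul_eq_mul,
      Nat.cast_smul_eq_nsmul]
  have h1p : 1 < p := hp.one_lt
  have hunit : ∀ i : ℕ, 0 < i → i < p → ∀ c : T, (i : T) * c = 0 → c = 0 := by
    intro i hi0 hip c hc
    have hcop : Nat.Coprime i p :=
      Nat.Coprime.symm ((Nat.Prime.coprime_iff_not_dvd hp).mpr (Nat.not_dvd_of_pos_of_lt hi0 hip))
    obtain ⟨m, -, hm⟩ := Nat.exists_mul_mod_eq_one_of_coprime hcop h1p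
    have h2 : ((i * m : ℕ) : T) = 1 := by
      have := Nat.mod_add_div (i * m) p
      rw [← this, hm]
      push_cast
      rw [CharP.cast_eq_zero T p, zero_mul, add_zero]
    have : c = ((i * m : ℕ) : T) * c := by rw [h2, one_mul]
    rw [this]
    push_cast
    rw [mul_comm (i : T) (m : T), mul_assoc, hc, mul_zero]
  constructor
  · intro f
    set y := f x with hy
    have hprim : Coalgebra.comul (R := T) y = y ⊗ₜ[T] 1 + 1 ⊗ₜ[T] y := by
      have h1 := LinearMap.congr_fun (CoalgHomClass.map_comp_comul f) x
      simp only [LinearMap.comp_apply] at h1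
      rw [hx, AlphaP.comul_x, map_add, TensorProduct.map_tmul, TensorProduct.map_tmul] at h1
      have hf1 : f 1 = 1 := map_one f
      have h2 : Coalgebra.comul (R := T) (f (AlphaP.x p T)) =
          f (AlphaP.x p T) ⊗ₜ[T] f 1 + f 1 ⊗ₜ[T] f (AlphaP.x p T) := h1.symm
      rw [hf1] at h2
      exact h2
    have hcounit : Coalgebra.counit (R := T) y = 0 := by
      have h1 := CoalgHomClass.counit_comp_apply f x
      rw [hy]
      change Coalgebra.counit (R := T) (f (AlphaP.x p T)) = 0
      rw [h1, hx, AlphaP.counit_x]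
    -- expansion of y
    have hexp : y = ∑ i : Fin p, b.repr y i • x ^ (i : ℕ) := by
      conv_lhs => rw [← b.sum_repr y]
      apply Finset.sum_congr rfl
      intro i _
      rw [hb, AlphaP.basis_apply]
    -- higher coefficients vanish
    have hhigh : ∀ i : Fin p, 2 ≤ (i : ℕ) → b.repr y i = 0 := by
      intro i hi
      have hi1 : (i : ℕ) - 1 < p := by have := i.2; omega
      let φ : TensorProduct T (AlphaP.A p T) (AlphaP.A p T) →ₗ[T] T :=
        LinearMap.mul' T T ∘ₗ TensorProduct.map (b.coord ⟨1, h1p⟩) (b.coord ⟨(i : ℕ) - 1, hi1⟩)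
      have hφ : ∀ u v, φ (u ⊗ₜ[T] v) = b.coord ⟨1, h1p⟩ u * b.coord ⟨(i : ℕ) - 1, hi1⟩ v := by
        intro u v
        simp [φ]
      have hone0 : ∀ a : Fin p, b.coord a 1 = if (0 : ℕ) = (a : ℕ) then 1 else 0 := by
        intro a
        have := hcoord a 0
        rwa [pow_zero] at this
      have hR : φ (y ⊗ₜ[T] 1 + 1 ⊗ₜ[T] y) = 0 := by
        rw [map_add, hφ, hφ, hone0, hone0]
        have e1 : ¬ ((0 : ℕ) = ((⟨(i : ℕ) - 1, hi1⟩ : Fin p) : ℕ)) := by
          change ¬ (0 = (i : ℕ) - 1)
          omega
        have e2 : ¬ ((0 : ℕ) = ((⟨1, h1p⟩ : Fin p) : ℕ)) := by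
          change ¬ (0 = 1)
          omega
        rw [if_neg e1, if_neg e2, mul_zero, zero_mul, add_zero]
      have hLm : ∀ m : ℕ, m < p → φ (Coalgebra.comul (R := T) (x ^ m)) =
          if m = (i : ℕ) then ((i : ℕ) : T) else 0 := by
        intro m hm
        rw [hcomul, map_sum]
        simp_rw [map_smul, hφ, hcoord]
        by_cases hmi : m = (i : ℕ)
        · rw [if_pos hmi, Finset.sum_eq_single 1]
          · have : m - 1 = (i : ℕ) - 1 := by rw [hmi]
            rw [if_pos rfl, if_pos this, mul_one, smul_eq_mul, mul_one, hmi, Nat.choose_one_right]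
          · intro j _ hj
            rw [if_neg hj, zero_mul, smul_zero]
          · intro h
            exfalso
            apply h
            rw [Finset.mem_range]
            omega
        · rw [if_neg hmi]
          apply Finset.sum_eq_zero
          intro j hj
          by_cases hj1 : j = 1
          · subst hj1
            have : ¬ (m - 1 = (i : ℕ) - 1) := by
              rw [Finset.mem_range] at hj
              omega
            rw [if_neg this, mul_zero, smul_zero]
          · rw [if_neg hj1, zero_mul, smul_zero]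
      have hL : φ (Coalgebra.comul (R := T) y) = ((i : ℕ) : T) * b.repr y i := by
        conv_lhs => rw [hexp]
        rw [map_sum, map_sum]
        rw [Finset.sum_eq_single i]
        · rw [map_smul, map_smul, hLm _ i.2, if_pos rfl, smul_eq_mul, mul_comm]
        · intro j _ hj
          rw [map_smul, map_smul, hLm _ j.2, if_neg (fun h => hj (Fin.ext h)), smul_zero]
        · intro h; exact absurd (Finset.mem_univ i) h
      rw [hprim, hR] at hL
      exact hunit (i : ℕ) (by omega) i.2 _ hL.symm
    have hzero : b.repr y ⟨0, hp.pos⟩ = 0 := by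
      have h1 : Coalgebra.counit (R := T) y = b.repr y ⟨0, hp.pos⟩ := by
        conv_lhs => rw [hexp]
        rw [map_sum, Finset.sum_eq_single ⟨0, hp.pos⟩]
        · rw [map_smul]
          change _ • Coalgebra.counit (R := T) (x ^ 0) = _
          rw [pow_zero, Bialgebra.counit_one, smul_eq_mul, mul_one]
        · intro j _ hj
          have hj0 : (j : ℕ) ≠ 0 := fun h => hj (Fin.ext h)
          have h2 : Coalgebra.counit (R := T) (x ^ (j : ℕ)) = 0 := by
            have : Coalgebra.counit (R := T) (x ^ (j : ℕ)) = (Bialgebra.counitAlgHom T (AlphaP.A p T)) (x ^ (j : ℕ)) := rfl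
            rw [this, map_pow, Bialgebra.counitAlgHom_apply, hx, AlphaP.counit_x, zero_pow hj0]
          rw [map_smul, h2, smul_zero]
        · intro h; exact absurd (Finset.mem_univ _) h
      rw [← h1, hcounit]
    have hy1 : y = b.repr y ⟨1, h1p⟩ • x := by
      conv_lhs => rw [hexp]
      rw [Finset.sum_eq_single ⟨1, h1p⟩]
      · simp
      · intro j _ hj
        by_cases hj0 : (j : ℕ) = 0
        · have : j = ⟨0, hp.pos⟩ := Fin.ext hj0
          rw [this, hzero, zero_smul]
        · have hj1 : (j : ℕ) ≠ 1 := fun h => hj (Fin.ext h)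
          rw [hhigh j (by omega), zero_smul]
      · intro h; exact absurd (Finset.mem_univ _) h
    refine ⟨b.repr y ⟨1, h1p⟩, hy1, ?_⟩
    intro c hc
    have h1 := congrArg (b.coord ⟨1, h1p⟩) hc
    rw [map_smul] at h1
    have h2 := hcoord ⟨1, h1p⟩ 1
    rw [pow_one] at h2
    simp only [Fin.val_mk, if_true] at h2
    rw [h2, smul_eq_mul, mul_one] at h1
    rw [← h1]
    rfl
  · intro c
    have hcp : (c • x) ^ p = 0 := by rw [smul_pow, hx, AlphaP.x_pow, smul_zero]
    let f₀ : AlphaP.A p T →ₐ[T] AlphaP.A p T := AlphaP.lift p T (c • x) hcp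
    have hf₀ : f₀ x = c • x := AlphaP.lift_x _ _
    refine ⟨BialgHom.ofAlgHom f₀ ?_ ?_, hf₀⟩
    · apply AlphaP.algHom_ext
      rw [AlgHom.comp_apply, hf₀, map_smul, Bialgebra.counitAlgHom_apply, hx, AlphaP.counit_x, smul_zero]
    · apply AlphaP.algHom_ext
      rw [AlgHom.comp_apply, AlgHom.comp_apply, Bialgebra.comulAlgHom_apply, AlphaP.comul_x, map_add,
        Algebra.TensorProduct.map_tmul, Algebra.TensorProduct.map_tmul, map_one, hf₀, map_smul,
        Bialgebra.comulAlgHom_apply, hx, AlphaP.comul_x, smul_add, TensorProduct.smul_tmul',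
        TensorProduct.tmul_smul]

end Groth.Agent.S16075
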