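import Groth.Statements.S4610
import Mathlib.RingTheory.PiTensorProduct
import Mathlib.LinearAlgebra.PiTensorProduct.Basis
import Mathlib.RingTheory.AdjoinRoot
import Mathlib.LinearAlgebra.Dimension.Free
import Mathlib.LinearAlgebra.Dimension.StrongRankCondition
-- import your own Groth.Agent.* helpers here

set_option autoImplicit false
universe u
open EGA41

namespace Groth.Agent.S4610

open scoped TensorProduct
open PiTensorProduct

section

variable {A : Type u} [CommRing A] {r : ℕ} (F : Fin r → Polynomial A)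

/-- the relations -/
noncomputable abbrev gens : Fin r → MvPolynomial (Fin r) A :=
  fun i => Polynomial.aeval (MvPolynomial.X i : MvPolynomial (Fin r) A) (F i)

/-- the quotient -/
abbrev Q : Type u := MvPolynomial (Fin r) A ⧸ Ideal.span (Set.range (gens F))

/-- the tensor product of the `A[T]/(F i)` -/
abbrev B : Type u := ⨂[A] i, AdjoinRoot (F i)

/-- `T_i ↦ 1 ⊗ … ⊗ root ⊗ … ⊗ 1` -/
noncomputable def ψ0 : MvPolynomial (Fin r) A →ₐ[A] B F :=
  MvPolynomial.aeval (fun i => singleAlgHom i (AdjoinRoot.root (F i)))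

lemma ψ0_gens (i : Fin r) : ψ0 F (gens F i) = 0 := by
  unfold gens ψ0
  rw [← Polynomial.aeval_algHom_apply, MvPolynomial.aeval_X, Polynomial.aeval_algHom_apply,
    AdjoinRoot.aeval_eq, AdjoinRoot.mk_self, map_zero]

/-- the induced map on the quotient -/
noncomputable def ψ : Q F →ₐ[A] B F :=
  Ideal.Quotient.liftₐ _ (ψ0 F) (by
    have : Ideal.span (Set.range (gens F)) ≤ RingHom.ker (ψ0 F) := by
      rw [Ideal.span_le]
      rintro _ ⟨i, rfl⟩
      exact ψ0_gens F i
    intro a ha
    exact this ha)

lemma ψ_X (i : Fin r) : ψ F (Ideal.Quotient.mk _ (MvPolynomial.X i)) =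
    singleAlgHom i (AdjoinRoot.root (F i)) := by
  unfold ψ
  rw [Ideal.Quotient.liftₐ_apply, Ideal.Quotient.lift_mk]
  change ψ0 F (MvPolynomial.X i) = _
  unfold ψ0
  rw [MvPolynomial.aeval_X]

/-- the maps from the factors -/
noncomputable def gg (i : Fin r) : AdjoinRoot (F i) →ₐ[A] Q F :=
  AdjoinRoot.liftAlgHom (F i) (Algebra.ofId A (Q F)) (Ideal.Quotient.mk _ (MvPolynomial.X i)) (by
    have h0 : Ideal.Quotient.mk (Ideal.span (Set.range (gens F))) (gens F i) = 0 :=
      Ideal.Quotient.eq_zero_iff_mem.2 (Ideal.subset_span ⟨i, rfl⟩)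
    unfold gens at h0
    rw [Polynomial.aeval_def, Polynomial.hom_eval₂] at h0
    exact h0)

lemma gg_root (i : Fin r) : gg F i (AdjoinRoot.root (F i)) =
    Ideal.Quotient.mk _ (MvPolynomial.X i) := by
  unfold gg
  rw [AdjoinRoot.liftAlgHom_root]

/-- the map from the tensor product -/
noncomputable def θ : B F →ₐ[A] Q F :=
  liftAlgHom ((MultilinearMap.mkPiAlgebra A (Fin r) (Q F)).compLinearMap
    (fun i => (gg F i).toLinearMap))
    (by simp)
    (by
      intro x y
      simp [Finset.prod_mul_distrib])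

lemma θ_tprod (x : ∀ i, AdjoinRoot (F i)) : θ F (tprod A x) = ∏ i, gg F i (x i) := by
  unfold θ
  simp

lemma θ_single (i : Fin r) (a : AdjoinRoot (F i)) : θ F (singleAlgHom i a) = gg F i a := by
  rw [singleAlgHom_apply, θ_tprod]
  rw [Finset.prod_eq_single i]
  · simp
  · intro j _ hj
    simp [hj]
  · intro h
    exact absurd (Finset.mem_univ i) h

lemma ψ_comp_θ : (ψ F).comp (θ F) = AlgHom.id A (B F) := by
  apply PiTensorProduct.algHom_ext
  intro i
  apply AdjoinRoot.algHom_ext
  simp only [AlgHom.comp_apply, AlgHom.id_apply]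
  rw [θ_single, gg_root, ψ_X]

lemma θ_comp_ψ : (θ F).comp (ψ F) = AlgHom.id A (Q F) := by
  apply Ideal.Quotient.algHom_ext
  apply MvPolynomial.algHom_ext
  intro i
  simp only [AlgHom.comp_apply, AlgHom.id_apply, Ideal.Quotient.mkₐ_eq_mk]
  rw [ψ_X, θ_single, gg_root]

/-- the isomorphism -/
noncomputable def ee : Q F ≃ₐ[A] B F := AlgEquiv.ofAlgHom (ψ F) (θ F) (ψ_comp_θ F) (θ_comp_ψ F)

end


/-- Let A be a nonzero ring and F_1, …, F_r monic one-variable polynomials of degrees d_1, …, d_r; then
A[T_1, …, T_r]/(F_1(T_1), …, F_r(T_r)) is a free A-module of rank ∏ d_i. (The published statement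
assumes A local with maximal ideal of square zero and A' local, which this assertion does not use;
its bound [K' : K] ≤ d and part (ii) are not stated.) -/
theorem result {A : Type u} [CommRing A] [Nontrivial A]
    {r : ℕ} (F : Fin r → Polynomial A) (hF : ∀ i, (F i).Monic) :
    Module.Free A (MvPolynomial (Fin r) A ⧸ Ideal.span (Set.range fun i => Polynomial.aeval (MvPolynomial.X i : MvPolynomial (Fin r) A) (F i))) ∧
      Module.finrank A (MvPolynomial (Fin r) A ⧸ Ideal.span (Set.range fun i => Polynomial.aeval (MvPolynomial.X i : MvPolynomial (Fin r) A) (F i))) =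
        Finset.univ.prod fun i => (F i).natDegree := by
  let b : Module.Basis (∀ i, Fin (AdjoinRoot.powerBasis' (hF i)).dim) A (B F) :=
    Basis.piTensorProduct (fun i => (AdjoinRoot.powerBasis' (hF i)).basis)
  have hfree : Module.Free A (B F) := Module.Free.of_basis b
  have hrank : Module.finrank A (B F) = Finset.univ.prod fun i => (F i).natDegree := by
    rw [Module.finrank_eq_card_basis b, Fintype.card_pi]
    refine Finset.prod_congr rfl (fun i _ => ?_)
    rw [Fintype.card_fin, AdjoinRoot.powerBasis'_dim]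
  constructor
  · exact Module.Free.of_equiv (ee F).toLinearEquiv.symm
  · rw [← hrank]
    exact (ee F).toLinearEquiv.finrank_eq

end Groth.Agent.S4610
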