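import Groth.Statements.S16077
import Groth.Agent.S4610
import Mathlib.RingTheory.MvPolynomial.Ideal
import Mathlib.RingTheory.MvPolynomial.Expand
-- import your own Groth.Agent.* helpers here

set_option autoImplicit false
universe u
open CAlg

namespace Groth.Agent.S16077

open MvPolynomial

section numeric

lemma exists_equiv_of_sums {r s : ℕ} (e : Fin r → ℕ) (f : Fin s → ℕ)
    (he : ∀ i, 1 ≤ e i) (hf : ∀ j, 1 ≤ f j)
    (h : ∀ n, ∑ i, (e i - n) = ∑ j, (f j - n)) :
    ∃ σ : Fin r ≃ Fin s, ∀ i, f (σ i) = e i := by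
  classical
  have hgt : ∀ n, (Finset.univ.filter fun i => n < e i).card =
      (Finset.univ.filter fun j => n < f j).card := by
    intro n
    have h1 : ∀ {t : ℕ} (g : Fin t → ℕ), ∑ i, (g i - n) =
        ∑ i, (g i - (n + 1)) + (Finset.univ.filter fun i => n < g i).card := by
      intro t g
      rw [Finset.card_filter, ← Finset.sum_add_distrib]
      refine Finset.sum_congr rfl fun i _ => ?_
      split_ifs <;> omega
    have h2 := h n
    rw [h1 e, h1 f, h (n + 1)] at h2
    omega
  have heq : ∀ c, (Finset.univ.filter fun i => e i = c).card =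
      (Finset.univ.filter fun j => f j = c).card := by
    intro c
    rcases c with _ | c
    · have h1 : (Finset.univ.filter fun i => e i = 0) = ∅ := by
        rw [Finset.filter_eq_empty_iff]
        intro i _
        have := he i
        omega
      have h2 : (Finset.univ.filter fun j => f j = 0) = ∅ := by
        rw [Finset.filter_eq_empty_iff]
        intro i _
        have := hf i
        omega
      rw [h1, h2, Finset.card_empty, Finset.card_empty]
    · have h2 : ∀ {t : ℕ} (g : Fin t → ℕ), (Finset.univ.filter fun i => c < g i).card =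
          (Finset.univ.filter fun i => g i = c + 1).card +
            (Finset.univ.filter fun i => c + 1 < g i).card := by
        intro t g
        rw [Finset.card_filter, Finset.card_filter, Finset.card_filter,
          ← Finset.sum_add_distrib]
        refine Finset.sum_congr rfl fun i _ => ?_
        split_ifs <;> omega
      have h3 := hgt c
      rw [h2 e, h2 f, hgt (c + 1)] at h3
      omega
  have hfib : ∀ c, Nonempty ({ i // e i = c } ≃ { j // f j = c }) := by
    intro c
    refine ⟨Fintype.equivOfCardEq ?_⟩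
    rw [Fintype.card_subtype, Fintype.card_subtype]
    exact heq c
  refine ⟨Equiv.ofFiberEquiv fun c => (hfib c).some, fun i => ?_⟩
  exact Equiv.ofFiberEquiv_map _ i

end numeric

section alg

variable (k : Type u) [Field k]

/-- the monomial ideal `(X_i ^ q_i)` -/
noncomputable abbrev Iq {r : ℕ} (q : Fin r → ℕ) : Ideal (MvPolynomial (Fin r) k) :=
  Ideal.span (Set.range fun i : Fin r => (X i : MvPolynomial (Fin r) k) ^ q i)

lemma Iq_eq {r : ℕ} (q : Fin r → ℕ) :
    Iq k q = Ideal.span ((fun s => monomial s (1 : k)) ''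
      Set.range (fun i : Fin r => Finsupp.single i (q i))) := by
  unfold Iq
  congr 1
  rw [← Set.range_comp]
  congr 1
  funext i
  simp [X_pow_eq_monomial]

lemma mem_Iq_iff {r : ℕ} (q : Fin r → ℕ) (g : MvPolynomial (Fin r) k) :
    g ∈ Iq k q ↔ ∀ m ∈ g.support, ∃ i, q i ≤ m i := by
  rw [Iq_eq, mem_ideal_span_monomial_image]
  refine forall₂_congr fun m _ => ?_
  constructor
  · rintro ⟨_, ⟨i, rfl⟩, hi⟩
    exact ⟨i, by simpa using hi i⟩
  · rintro ⟨i, hi⟩
    exact ⟨_, ⟨i, rfl⟩, Finsupp.single_le_iff.2 (by simpa using hi)⟩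

lemma finrank_Iq {r : ℕ} (q : Fin r → ℕ) :
    Module.finrank k (MvPolynomial (Fin r) k ⧸ Iq k q) = ∏ i, q i := by
  have h := (Groth.Agent.S4610.result (A := k) (fun i : Fin r => (Polynomial.X : Polynomial k) ^ q i)
    (fun i => Polynomial.monic_X_pow _)).2
  have h1 : (fun i : Fin r => Polynomial.aeval (MvPolynomial.X i : MvPolynomial (Fin r) k)
      ((Polynomial.X : Polynomial k) ^ q i)) = fun i => (X i : MvPolynomial (Fin r) k) ^ q i := by
    funext i
    simp
  rw [h1] at h
  rw [h]
  simp

variable (p : ℕ) [Fact p.Prime] [CharP k p]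

include p in
lemma pow_mem_iff {r : ℕ} (e : Fin r → ℕ) (n : ℕ) (g : MvPolynomial (Fin r) k) :
    g ^ p ^ n ∈ Iq k (fun i => p ^ e i) ↔ g ∈ Iq k (fun i => p ^ (e i - n)) := by
  classical
  have : ExpChar k p := ExpChar.prime Fact.out
  have hp : 0 < p := (Fact.out : p.Prime).pos
  rw [mem_Iq_iff, mem_Iq_iff, ← map_iterateFrobenius_expand p g n,
    support_map_of_injective _ (iterateFrobenius k p n).injective, support_expand _ (pow_pos hp n).ne']
  rw [Finset.forall_mem_image]
  refine forall₂_congr fun m _ => exists_congr fun i => ?_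
  simp only [Finsupp.coe_smul, Pi.smul_apply, smul_eq_mul]
  rcases le_or_gt n (e i) with hle | hlt
  · obtain ⟨d, hd⟩ := Nat.exists_eq_add_of_le hle
    rw [hd, Nat.add_sub_cancel_left, pow_add]
    exact Nat.mul_le_mul_left_iff (pow_pos hp n)
  · rw [Nat.sub_eq_zero_of_le hlt.le, pow_zero]
    constructor
    · intro h
      rcases Nat.eq_zero_or_pos (m i) with h0 | h0
      · rw [h0, mul_zero] at h
        exact absurd h (by have := pow_pos hp (e i); omega)
      · exact h0
    · intro h
      calc p ^ e i ≤ p ^ n := Nat.pow_le_pow_right hp hlt.le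
        _ = p ^ n * 1 := (mul_one _).symm
        _ ≤ p ^ n * m i := Nat.mul_le_mul_left _ h

end alg

section main

variable (k : Type u) [Field k] (p : ℕ) [Fact p.Prime] [CharP k p]

include p in
lemma Iq_le {r : ℕ} (e : Fin r → ℕ) (n : ℕ) :
    Iq k (fun i => p ^ e i) ≤ Iq k (fun i => p ^ (e i - n)) := by
  intro g hg
  rw [← pow_mem_iff k p e n]
  exact Ideal.pow_mem_of_mem _ hg _ (pow_pos (Fact.out : p.Prime).pos n)

include p in
lemma mem_K_iff {r : ℕ} (e : Fin r → ℕ) (n : ℕ)
    (a : MvPolynomial (Fin r) k ⧸ Iq k (fun i => p ^ e i)) :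
    a ∈ (Iq k (fun i => p ^ (e i - n))).map (Ideal.Quotient.mk (Iq k (fun i => p ^ e i))) ↔
      a ^ p ^ n = 0 := by
  obtain ⟨g, rfl⟩ := Ideal.Quotient.mk_surjective a
  rw [Ideal.mem_quotient_iff_mem (Iq_le k p e n), ← map_pow, Ideal.Quotient.eq_zero_iff_mem,
    pow_mem_iff]

include p in
lemma finrank_eq_of_algEquiv {r s : ℕ} (e : Fin r → ℕ) (f : Fin s → ℕ)
    (φ : (MvPolynomial (Fin r) k ⧸ Iq k (fun i => p ^ e i)) ≃ₐ[k]
      (MvPolynomial (Fin s) k ⧸ Iq k (fun j => p ^ f j))) (n : ℕ) :
    Module.finrank k (MvPolynomial (Fin r) k ⧸ Iq k (fun i => p ^ (e i - n))) =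
      Module.finrank k (MvPolynomial (Fin s) k ⧸ Iq k (fun j => p ^ (f j - n))) := by
  have hK : (Iq k (fun j => p ^ (f j - n))).map (Ideal.Quotient.mk (Iq k (fun j => p ^ f j))) =
      ((Iq k (fun i => p ^ (e i - n))).map (Ideal.Quotient.mk (Iq k (fun i => p ^ e i)))).map
        ((φ : (MvPolynomial (Fin r) k ⧸ Iq k (fun i => p ^ e i)) ≃+*
        (MvPolynomial (Fin s) k ⧸ Iq k (fun j => p ^ f j))) : (MvPolynomial (Fin r) k ⧸ Iq k (fun i => p ^ e i)) →+*
        (MvPolynomial (Fin s) k ⧸ Iq k (fun j => p ^ f j))) := by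
    apply le_antisymm
    · intro b hb
      rw [mem_K_iff] at hb
      have h1 : φ.symm b ∈ (Iq k (fun i => p ^ (e i - n))).map
          (Ideal.Quotient.mk (Iq k (fun i => p ^ e i))) := by
        rw [mem_K_iff, ← map_pow, hb, map_zero]
      have h2 := Ideal.mem_map_of_mem ((φ : (MvPolynomial (Fin r) k ⧸ Iq k (fun i => p ^ e i)) ≃+*
        (MvPolynomial (Fin s) k ⧸ Iq k (fun j => p ^ f j))) : (MvPolynomial (Fin r) k ⧸ Iq k (fun i => p ^ e i)) →+*
        (MvPolynomial (Fin s) k ⧸ Iq k (fun j => p ^ f j))) h1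
      simpa using h2
    · rw [Ideal.map_le_iff_le_comap]
      intro a ha
      rw [mem_K_iff] at ha
      rw [Ideal.mem_comap, mem_K_iff]
      change (φ a) ^ p ^ n = 0
      rw [← map_pow, ha, map_zero]
  have e1 := DoubleQuot.quotQuotEquivQuotOfLEₐ k (Iq_le k p e n)
  have e2 := DoubleQuot.quotQuotEquivQuotOfLEₐ k (Iq_le k p f n)
  have e3 := Ideal.quotientEquivAlg _ _ φ hK
  exact (e1.symm.toLinearEquiv.trans (e3.toLinearEquiv.trans e2.toLinearEquiv)).finrank_eq

end main


/-- Let k be a perfect field of characteristic p > 0 and let e_1, …, e_r ≥ 1 and f_1, …, f_s ≥ 1 be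
natural numbers. If the k-algebras k[X_1, …, X_r]/(X_i^{p^{e_i}} : 1 ≤ i ≤ r) and k[X_1, …,
X_s]/(X_j^{p^{f_j}} : 1 ≤ j ≤ s) are isomorphic, then r = s and (f_j) is a permutation of (e_i):
there is a bijection σ between the index sets with f_{σ(i)} = e_i. Such truncated polynomial
algebras are the coordinate rings of the connected finite k-group schemes, and the row says that the
number of variables and the exponents are invariants of the group, indeed of its algebra. (Only this
invariance is stated here; the existence of such a presentation for every connected finite k-group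
is a separate statement.) -/
theorem result (p : ℕ) [Fact p.Prime] (k : Type u) [Field k]
    [CharP k p] [PerfectField k] (r s : ℕ) (e : Fin r → ℕ) (f : Fin s → ℕ) (he : ∀ i, 1 ≤ e i) (hf : ∀ j, 1 ≤ f j)
    (φ : (MvPolynomial (Fin r) k ⧸ Ideal.span (Set.range fun i : Fin r => (MvPolynomial.X i : MvPolynomial (Fin r) k) ^ p ^ e i)) ≃ₐ[k]
      (MvPolynomial (Fin s) k ⧸ Ideal.span (Set.range fun j : Fin s => (MvPolynomial.X j : MvPolynomial (Fin s) k) ^ p ^ f j))) :
    ∃ σ : Fin r ≃ Fin s, ∀ i : Fin r, f (σ i) = e i := by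
  refine exists_equiv_of_sums e f he hf fun n => ?_
  have h := finrank_eq_of_algEquiv k p e f φ n
  rw [finrank_Iq, finrank_Iq, Finset.prod_pow_eq_pow_sum, Finset.prod_pow_eq_pow_sum] at h
  exact Nat.pow_right_injective (Fact.out : p.Prime).two_le h

end Groth.Agent.S16077
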