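import Groth.Statements.S16078
import Mathlib
import Groth.Agent.Lib.Helper26.HopfUnitComp

set_option autoImplicit false
universe u
open scoped TensorProduct
open Hopf

namespace Groth.Agent.S16078


open Groth.Agent.Lib.helper26.HopfUnitComp in
/-- In a commutative ring `A` with a ring hom `ε : A → R` to a nontrivial ring, an ideal `J`
killed by `ε`, `e` idempotent with `ε e = 1` and `A/(1-e)` local; `e'` idempotent mod `J` with
`ε e' = 1` and `A / (J + (1-e'))` local. Then `e ≡ e'` mod `J`. -/
theorem idem_congr {A R : Type*} [CommRing A] [CommRing R] [Nontrivial R] (ε : A →+* R)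
    (J : Ideal A) (hJ : J ≤ RingHom.ker ε)
    (e : A) (he : IsIdempotentElem e) (heε : ε e = 1)
    [IsLocalRing (A ⧸ Ideal.span ({1 - e} : Set A))]
    (e' : A) (he' : IsIdempotentElem (Ideal.Quotient.mk J e')) (he'ε : ε e' = 1)
    [IsLocalRing (A ⧸ (J ⊔ Ideal.span ({1 - e'} : Set A)))] :
    Ideal.Quotient.mk J e = Ideal.Quotient.mk J e' := by
  have hspan : ∀ x : A, ε x = 1 → J ⊔ Ideal.span ({1 - x} : Set A) ≤ RingHom.ker ε := by
    intro x hx
    refine sup_le hJ ?_
    rw [Ideal.span_le, Set.singleton_subset_iff]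
    show ε (1 - x) = 0
    rw [map_sub, map_one, hx, sub_self]
  have hee' : e' * e' - e' ∈ J := by
    rw [← Ideal.Quotient.eq_zero_iff_mem, map_sub, map_mul, he'.eq, sub_self]
  -- general step: in a local quotient `A/K` with `K ≤ ker ε`, an element `x` with `x*x - x ∈ K`,
  -- `ε x = 1` has `1 - x ∈ K`
  have key : ∀ (K : Ideal A) (_ : K ≤ RingHom.ker ε) (_ : IsLocalRing (A ⧸ K)) (x : A),
      x * x - x ∈ K → ε x = 1 → 1 - x ∈ K := by
    intro K hK _ x hx hεx
    have hidem : IsIdempotentElem (Ideal.Quotient.mk K x) := by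
      show _ * _ = _
      rw [← sub_eq_zero, ← map_mul, ← map_sub, Ideal.Quotient.eq_zero_iff_mem]
      exact hx
    rcases eq_zero_or_one_of_isIdempotentElem hidem with h | h
    · exfalso
      rw [Ideal.Quotient.eq_zero_iff_mem] at h
      have := hK h
      rw [RingHom.mem_ker, hεx] at this
      exact one_ne_zero this
    · rw [← Ideal.Quotient.eq_zero_iff_mem, map_sub, map_one, h, sub_self]
  -- `A / (J + (1-e))` is local
  have hloc : IsLocalRing (A ⧸ (J ⊔ Ideal.span ({1 - e} : Set A))) := by
    have hnt : Nontrivial (A ⧸ (J ⊔ Ideal.span ({1 - e} : Set A))) := by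
      rw [Ideal.Quotient.nontrivial_iff]
      intro htop
      have h1 : (1 : A) ∈ J ⊔ Ideal.span ({1 - e} : Set A) := by rw [htop]; trivial
      have := hspan e heε h1
      rw [RingHom.mem_ker, map_one] at this
      exact one_ne_zero this
    exact IsLocalRing.of_surjective' (Ideal.Quotient.factor (le_sup_right :
      Ideal.span ({1 - e} : Set A) ≤ J ⊔ Ideal.span ({1 - e} : Set A)))
      (Ideal.Quotient.factor_surjective _)
  have h1 : 1 - e' ∈ J ⊔ Ideal.span ({1 - e} : Set A) :=
    key _ (hspan e heε) hloc e' (Ideal.mem_sup_left hee') he'ε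
  have h2 : 1 - e ∈ J ⊔ Ideal.span ({1 - e'} : Set A) := by
    refine key _ (hspan e' he'ε) inferInstance e ?_ heε
    rw [he.eq, sub_self]
    exact Ideal.zero_mem _
  -- `e (1 - e') ∈ J`
  have h3 : e * (1 - e') ∈ J := by
    obtain ⟨j, hj, y, hy, hsum⟩ := Submodule.mem_sup.mp h1
    obtain ⟨c, rfl⟩ := Ideal.mem_span_singleton'.mp hy
    rw [← hsum, mul_add]
    have : e * (c * (1 - e)) = c * (e - e * e) := by ring
    rw [this, he.eq, sub_self, mul_zero, add_zero]
    exact Ideal.mul_mem_left _ _ hj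
  have h4 : e' * (1 - e) ∈ J := by
    obtain ⟨j, hj, y, hy, hsum⟩ := Submodule.mem_sup.mp h2
    obtain ⟨c, rfl⟩ := Ideal.mem_span_singleton'.mp hy
    rw [← hsum, mul_add]
    have : e' * (c * (1 - e')) = - c * (e' * e' - e') := by ring
    rw [this]
    exact Ideal.add_mem _ (Ideal.mul_mem_left _ _ hj) (Ideal.mul_mem_left _ _ hee')
  rw [Ideal.Quotient.eq]
  have : e - e' = e * (1 - e') - e' * (1 - e) := by ring
  rw [this]
  exact Ideal.sub_mem _ h3 h4


/-- Let R be a henselian Noetherian local ring, A and A'' commutative Hopf algebras over R which are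
finite and flat as R-modules, and A'' → A an R-algebra homomorphism compatible with
comultiplications and counits making A faithfully flat over A'' (a faithfully flat homomorphism π :
G → G'' of finite flat R-groups); let J ⊆ A be the ideal generated by the image of the augmentation
ideal of A'' (G' = Spec A/J = ker π, so that 1 → G' → G → G'' → 1 is exact). Let e ∈ A and e'' ∈ A''
be idempotents with ε(e) = 1, ε(e'') = 1 and A/(1 − e), A''/(1 − e'') local rings (the unit
components G⁰ and G''⁰), and let e' ∈ A be an element whose image in A/J is an idempotent, with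
ε(e') = 1 and A/(J + (1 − e')) local (so G'⁰ = Spec (A/J)/(1 − e') is the unit component of G').
Suppose g : A''/(1 − e'') → A/(1 − e) is the ring homomorphism induced by A'' → A (the restriction
π⁰ : G⁰ → G''⁰ of π, which exists because G⁰ is connected). Then g is faithfully flat, and e ≡ e'
modulo J, i.e. J + (1 − e) = J + (1 − e') and the kernel of π⁰, which is cut out in G⁰ by J, is
exactly G'⁰: the sequence 1 → G'⁰ → G⁰ → G''⁰ → 1 is exact. (The published statement also asserts
exactness of the maximal étale quotient G ↦ G^ét, not stated here.) -/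
theorem result (R : Type u) [CommRing R] [HenselianLocalRing R]
    [IsNoetherianRing R] (A A'' : Type u) [CommRing A] [HopfAlgebra R A] [Module.Finite R A] [Module.Flat R A]
    [CommRing A''] [HopfAlgebra R A''] [Module.Finite R A''] [Module.Flat R A'']
    [Algebra A'' A] [IsScalarTower R A'' A] [Module.FaithfullyFlat A'' A]
    (hΔ : (Bialgebra.comulAlgHom R A).comp (IsScalarTower.toAlgHom R A'' A) =
      (Algebra.TensorProduct.map (IsScalarTower.toAlgHom R A'' A) (IsScalarTower.toAlgHom R A'' A)).comp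
        (Bialgebra.comulAlgHom R A''))
    (hε : (Bialgebra.counitAlgHom R A).comp (IsScalarTower.toAlgHom R A'' A) = Bialgebra.counitAlgHom R A'')
    (e : A) (he : IsIdempotentElem e) (heε : Bialgebra.counitAlgHom R A e = 1)
    [IsLocalRing (A ⧸ Ideal.span ({1 - e} : Set A))]
    (e'' : A'') (he'' : IsIdempotentElem e'') (he''ε : Bialgebra.counitAlgHom R A'' e'' = 1)
    [IsLocalRing (A'' ⧸ Ideal.span ({1 - e''} : Set A''))]
    (e' : A) (he' : IsIdempotentElem (Ideal.Quotient.mk ((RingHom.ker (Bialgebra.counitAlgHom R A'')).map (algebraMap A'' A)) e'))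
    (he'ε : Bialgebra.counitAlgHom R A e' = 1)
    [IsLocalRing (A ⧸ (((RingHom.ker (Bialgebra.counitAlgHom R A'')).map (algebraMap A'' A)) ⊔ Ideal.span ({1 - e'} : Set A)))]
    (g : (A'' ⧸ Ideal.span ({1 - e''} : Set A'')) →+* (A ⧸ Ideal.span ({1 - e} : Set A)))
    (hg : g.comp (Ideal.Quotient.mk (Ideal.span ({1 - e''} : Set A''))) =
      (Ideal.Quotient.mk (Ideal.span ({1 - e} : Set A))).comp (algebraMap A'' A)) :
    g.FaithfullyFlat ∧
      Ideal.Quotient.mk ((RingHom.ker (Bialgebra.counitAlgHom R A'')).map (algebraMap A'' A)) e = Ideal.Quotient.mk ((RingHom.ker (Bialgebra.counitAlgHom R A'')).map (algebraMap A'' A)) e' := by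
  have hεJ : (RingHom.ker (Bialgebra.counitAlgHom R A'')).map (algebraMap A'' A) ≤
      RingHom.ker ((Bialgebra.counitAlgHom R A : A →ₐ[R] R) : A →+* R) := by
    rw [Ideal.map_le_iff_le_comap]
    intro x hx
    rw [Ideal.mem_comap, RingHom.mem_ker]
    have := AlgHom.congr_fun hε x
    rw [RingHom.mem_ker] at hx
    rw [hx] at this
    exact this
  refine ⟨?_, idem_congr ((Bialgebra.counitAlgHom R A : A →ₐ[R] R) : A →+* R) _ hεJ e he heε e' he'
    he'ε⟩
  -- faithful flatness of `g`
  have hεI : ∀ a ∈ Ideal.span ({1 - e} : Set A), Bialgebra.counitAlgHom R A a = 0 := by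
    intro a ha
    obtain ⟨c, rfl⟩ := Ideal.mem_span_singleton'.mp ha
    rw [map_mul, map_sub, map_one, heε, sub_self, mul_zero]
  have hεI'' : ∀ a ∈ Ideal.span ({1 - e''} : Set A''), Bialgebra.counitAlgHom R A'' a = 0 := by
    intro a ha
    obtain ⟨c, rfl⟩ := Ideal.mem_span_singleton'.mp ha
    rw [map_mul, map_sub, map_one, he''ε, sub_self, mul_zero]
  let εb : A ⧸ Ideal.span ({1 - e} : Set A) →ₐ[R] R :=
    Ideal.Quotient.liftₐ _ (Bialgebra.counitAlgHom R A) hεI
  let εb'' : A'' ⧸ Ideal.span ({1 - e''} : Set A'') →ₐ[R] R :=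
    Ideal.Quotient.liftₐ _ (Bialgebra.counitAlgHom R A'') hεI''
  have hcomp : (εb : A ⧸ Ideal.span ({1 - e} : Set A) →+* R).comp g =
      (εb'' : A'' ⧸ Ideal.span ({1 - e''} : Set A'') →+* R) := by
    apply Ideal.Quotient.ringHom_ext
    apply RingHom.ext
    intro x
    have h1 := RingHom.congr_fun hg x
    simp only [RingHom.comp_apply] at h1 ⊢
    rw [h1]
    exact AlgHom.congr_fun hε x
  have hεb''s : Function.Surjective εb'' := fun r => ⟨algebraMap R _ r, by
    rw [AlgHom.commutes]; rfl⟩
  have hloc'' : IsLocalHom (εb'' : A'' ⧸ Ideal.span ({1 - e''} : Set A'') →+* R) :=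
    IsLocalHom.of_surjective _ hεb''s
  have hlocg : IsLocalHom g := by
    have : IsLocalHom ((εb : A ⧸ Ideal.span ({1 - e} : Set A) →+* R).comp g) := by
      rw [hcomp]; exact hloc''
    exact isLocalHom_of_comp g (εb : A ⧸ Ideal.span ({1 - e} : Set A) →+* R)
  show @Module.FaithfullyFlat _ _ _ _ g.toAlgebra.toModule
  let _ : Algebra (A'' ⧸ Ideal.span ({1 - e''} : Set A'')) (A ⧸ Ideal.span ({1 - e} : Set A)) :=
    g.toAlgebra
  have hloc2 : IsLocalHom (algebraMap (A'' ⧸ Ideal.span ({1 - e''} : Set A''))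
      (A ⧸ Ideal.span ({1 - e} : Set A))) := hlocg
  have htower : IsScalarTower A'' (A'' ⧸ Ideal.span ({1 - e''} : Set A''))
      (A ⧸ Ideal.span ({1 - e} : Set A)) := by
    apply IsScalarTower.of_algebraMap_eq
    intro x
    exact (RingHom.congr_fun hg x).symm
  have hA : IsLocalization.Away e (A ⧸ Ideal.span ({1 - e} : Set A)) :=
    IsLocalization.Away.quotient_of_isIdempotentElem he
  have hA'' : IsLocalization.Away e'' (A'' ⧸ Ideal.span ({1 - e''} : Set A'')) :=
    IsLocalization.Away.quotient_of_isIdempotentElem he''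
  have hfl1 : Module.Flat A (A ⧸ Ideal.span ({1 - e} : Set A)) :=
    IsLocalization.flat _ (Submonoid.powers e)
  have hfl2 : Module.Flat A'' (A ⧸ Ideal.span ({1 - e} : Set A)) :=
    Module.Flat.trans A'' A _
  have hfl3 : Module.Flat (A'' ⧸ Ideal.span ({1 - e''} : Set A''))
      (A ⧸ Ideal.span ({1 - e} : Set A)) :=
    (Module.flat_iff_of_isLocalization (A'' ⧸ Ideal.span ({1 - e''} : Set A''))
      (Submonoid.powers e'') (A ⧸ Ideal.span ({1 - e} : Set A))).mpr hfl2
  exact Module.FaithfullyFlat.of_flat_of_isLocalHom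


end Groth.Agent.S16078
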