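import Groth.Statements.S16079
import Mathlib

set_option autoImplicit false
universe u
open scoped TensorProduct
open Hopf

namespace Groth.Agent.S16079

/-- Let R be a henselian Noetherian local ring, A and B commutative and cocommutative Hopf algebras over
R which are finitely generated and projective as R-modules (finite flat commutative R-groups G =
Spec A and H = Spec B), and ψ : B → A an R-bialgebra homomorphism (a homomorphism φ : G → H). Let
e_A ∈ A be an idempotent with ε(e_A) = 1 such that (1 − e_A) is a Hopf ideal and A⁰ = A/(1 − e_A) is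
local, R-projective and cocommutative (the unit component G⁰), and let e'_A be an idempotent of the
dual Hopf algebra Hom_R(A⁰, R) with ε(e'_A) = 1 and local quotient by (1 − e'_A) (the unit component
of the Cartier dual (G⁰)^D); similarly e_B, B⁰ = B/(1 − e_B) and e'_B for H. Call a linear form x on
A⁰ invariant when (id ⊗ multiplication by e'_A)(Δx) = x ⊗ e'_A, i.e. x is invariant under
translation by the unit component of (G⁰)^D and so lies in the Hopf algebra of its étale quotient;
the elements of A⁰ annihilated by all invariant x form the ideal of G_μ ⊆ G⁰ ⊆ G, the largest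
connected multiplicative closed subgroup of G; likewise for B and H_μ. Then the filtration G_μ ⊆ G⁰
⊆ G is respected by φ at the G_μ step: φ maps G_μ into H_μ, i.e. for every b ∈ B whose image in B⁰
is annihilated by all invariant linear forms on B⁰ (b in the ideal of H_μ), the image of ψ(b) in A⁰
is annihilated by all invariant linear forms on A⁰ (ψ(b) in the ideal of G_μ). (That φ maps G⁰ into
H⁰ is the universal property of the unit component and is not restated.) -/
theorem result (R : Type u) [CommRing R]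
    [HenselianLocalRing R] [IsNoetherianRing R] (A B : Type u) [CommRing A] [HopfAlgebra R A] [Coalgebra.IsCocomm R A]
    [Module.Finite R A] [Module.Projective R A] [CommRing B] [HopfAlgebra R B] [Coalgebra.IsCocomm R B]
    [Module.Finite R B] [Module.Projective R B] (ψ : B →ₐc[R] A)
    (eA : A) (heA : IsIdempotentElem eA) (heAε : Bialgebra.counitAlgHom R A eA = 1)
    [(Ideal.span ({1 - eA} : Set A)).IsHopfIdeal R] [IsLocalRing (A ⧸ Ideal.span ({1 - eA} : Set A))] [Module.Projective R (A ⧸ Ideal.span ({1 - eA} : Set A))] [Coalgebra.IsCocomm R (A ⧸ Ideal.span ({1 - eA} : Set A))]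
    (fA : CartDual.D R (A ⧸ Ideal.span ({1 - eA} : Set A))) (hfA : IsIdempotentElem fA)
    (hfAε : Bialgebra.counitAlgHom R (CartDual.D R (A ⧸ Ideal.span ({1 - eA} : Set A))) fA = 1)
    [IsLocalRing (CartDual.D R (A ⧸ Ideal.span ({1 - eA} : Set A)) ⧸ Ideal.span ({1 - fA} : Set (CartDual.D R (A ⧸ Ideal.span ({1 - eA} : Set A)))))]
    (eB : B) (heB : IsIdempotentElem eB) (heBε : Bialgebra.counitAlgHom R B eB = 1)
    [(Ideal.span ({1 - eB} : Set B)).IsHopfIdeal R] [IsLocalRing (B ⧸ Ideal.span ({1 - eB} : Set B))] [Module.Projective R (B ⧸ Ideal.span ({1 - eB} : Set B))] [Coalgebra.IsCocomm R (B ⧸ Ideal.span ({1 - eB} : Set B))]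
    (fB : CartDual.D R (B ⧸ Ideal.span ({1 - eB} : Set B))) (hfB : IsIdempotentElem fB)
    (hfBε : Bialgebra.counitAlgHom R (CartDual.D R (B ⧸ Ideal.span ({1 - eB} : Set B))) fB = 1)
    [IsLocalRing (CartDual.D R (B ⧸ Ideal.span ({1 - eB} : Set B)) ⧸ Ideal.span ({1 - fB} : Set (CartDual.D R (B ⧸ Ideal.span ({1 - eB} : Set B)))))]
    (b : B) (hb : ∀ y : CartDual.D R (B ⧸ Ideal.span ({1 - eB} : Set B)), LinearMap.lTensor (CartDual.D R (B ⧸ Ideal.span ({1 - eB} : Set B))) (LinearMap.mulLeft R fB) (Coalgebra.comul (R := R) y) = y ⊗ₜ[R] fB → y (Ideal.Quotient.mk (Ideal.span ({1 - eB} : Set B)) b) = 0)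
    (x : CartDual.D R (A ⧸ Ideal.span ({1 - eA} : Set A))) (hx : LinearMap.lTensor (CartDual.D R (A ⧸ Ideal.span ({1 - eA} : Set A))) (LinearMap.mulLeft R fA) (Coalgebra.comul (R := R) x) = x ⊗ₜ[R] fA) :
    x (Ideal.Quotient.mk (Ideal.span ({1 - eA} : Set A)) (ψ b)) = 0 := by
  -- idempotents of local rings
  have hidem : ∀ (S : Type u) [CommRing S] [IsLocalRing S] (a : S), IsIdempotentElem a →
      a = 0 ∨ a = 1 := by
    intro S _ _ a ha
    rcases IsLocalRing.isUnit_or_isUnit_one_sub_self a with h | h
    · right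
      have h1 : a * (a - 1) = 0 := by rw [mul_sub, mul_one, ha.eq, sub_self]
      exact sub_eq_zero.1 (h.mul_right_eq_zero.1 h1)
    · left
      have h1 : (1 - a) * a = 0 := by rw [sub_mul, one_mul, ha.eq, sub_self]
      exact h.mul_right_eq_zero.1 h1
  have hRnt : Nontrivial R := inferInstance
  -- the induced map `B⁰ → A⁰`
  let πA : A →ₐc[R] (A ⧸ Ideal.span ({1 - eA} : Set A)) := Bialgebra.Quotient.mkBialgHom _
  let πB : B →ₐc[R] (B ⧸ Ideal.span ({1 - eB} : Set B)) := Bialgebra.Quotient.mkBialgHom _
  have hπAψ : (πA (ψ eB)) = 1 := by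
    rcases hidem _ (πA (ψ eB)) ((heB.map ψ).map πA) with h | h
    · exfalso
      have h1 : Bialgebra.counitAlgHom R _ (πA (ψ eB)) = Bialgebra.counitAlgHom R B eB := by
        change Coalgebra.counit (πA (ψ eB)) = Coalgebra.counit eB
        rw [CoalgHomClass.counit_comp_apply, CoalgHomClass.counit_comp_apply]
      rw [h, map_zero, heBε] at h1
      exact zero_ne_one h1
    · exact h
  let ψ₀alg : (B ⧸ Ideal.span ({1 - eB} : Set B)) →ₐ[R] (A ⧸ Ideal.span ({1 - eA} : Set A)) :=
    Ideal.Quotient.liftₐ _ ((πA : A →ₐ[R] _).comp (ψ : B →ₐ[R] A)) (by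
      intro b hb
      obtain ⟨c, rfl⟩ := Ideal.mem_span_singleton'.1 hb
      change πA (ψ (c * (1 - eB))) = 0
      rw [map_mul, map_mul, map_sub, map_sub, map_one, map_one, hπAψ, sub_self, mul_zero])
  have hψ₀mk : ∀ b : B, ψ₀alg (Ideal.Quotient.mk _ b) = Ideal.Quotient.mk _ (ψ b) := fun b => rfl
  let ψ₀ : (B ⧸ Ideal.span ({1 - eB} : Set B)) →ₐc[R] (A ⧸ Ideal.span ({1 - eA} : Set A)) :=
    BialgHom.ofAlgHom ψ₀alg
      (by
        refine Ideal.Quotient.algHom_ext R ?_
        ext b
        change Coalgebra.counit (ψ₀alg (Ideal.Quotient.mk _ b)) =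
          Coalgebra.counit (R := R) (Ideal.Quotient.mk (Ideal.span ({1 - eB} : Set B)) b)
        rw [hψ₀mk, Bialgebra.Quotient.counit_mk, Bialgebra.Quotient.counit_mk,
          CoalgHomClass.counit_comp_apply])
      (by
        refine Ideal.Quotient.algHom_ext R ?_
        ext b
        change Algebra.TensorProduct.map ψ₀alg ψ₀alg (Coalgebra.comul (Ideal.Quotient.mk _ b)) =
          Coalgebra.comul (ψ₀alg (Ideal.Quotient.mk _ b))
        rw [hψ₀mk, Bialgebra.Quotient.comul_mk, Bialgebra.Quotient.comul_mk,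
          ← CoalgHomClass.map_comp_comul_apply ψ b]
        have h2 : (Algebra.TensorProduct.map ψ₀alg ψ₀alg).toLinearMap ∘ₗ
            TensorProduct.map (Ideal.Quotient.mkₐ R (Ideal.span ({1 - eB} : Set B))).toLinearMap
              (Ideal.Quotient.mkₐ R (Ideal.span ({1 - eB} : Set B))).toLinearMap =
            TensorProduct.map (Ideal.Quotient.mkₐ R (Ideal.span ({1 - eA} : Set A))).toLinearMap
              (Ideal.Quotient.mkₐ R (Ideal.span ({1 - eA} : Set A))).toLinearMap ∘ₗ
              TensorProduct.map (ψ : B →ₗ[R] A) (ψ : B →ₗ[R] A) := by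
          apply TensorProduct.ext'
          intro x y
          rfl
        exact LinearMap.congr_fun h2 (Coalgebra.comul b))
  let T := CartDual.transpose R ψ₀
  let Tl : CartDual.D R (A ⧸ Ideal.span ({1 - eA} : Set A)) →ₗ[R]
      CartDual.D R (B ⧸ Ideal.span ({1 - eB} : Set B)) := T.toCoalgHom.toLinearMap
  have hTl : ∀ z, Tl z = T z := fun z => rfl
  -- `fB ≤ T fA`
  have hfBT : fB * T fA = fB := by
    have hcT : Bialgebra.counitAlgHom R _ (T fA) = 1 := by
      have : Coalgebra.counit (T fA) = Coalgebra.counit fA := CoalgHomClass.counit_comp_apply T fA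
      change Coalgebra.counit (T fA) = 1
      rw [this]
      exact hfAε
    have hTid : T fA * T fA = T fA := by rw [← map_mul, hfA.eq]
    rcases hidem _ (Ideal.Quotient.mk (Ideal.span ({1 - fB} : Set _)) (T fA))
      (by rw [IsIdempotentElem, ← map_mul, hTid]) with h | h
    · exfalso
      rw [Ideal.Quotient.eq_zero_iff_mem] at h
      obtain ⟨c, hc⟩ := Ideal.mem_span_singleton'.1 h
      have := congrArg (Bialgebra.counitAlgHom R _) hc
      rw [map_mul, map_sub, map_one, hfBε, sub_self, mul_zero, hcT] at this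
      exact zero_ne_one this
    · have h1 : (1 : CartDual.D R (B ⧸ Ideal.span ({1 - eB} : Set B))) - T fA ∈
          Ideal.span ({1 - fB} : Set _) := by
        rw [← Ideal.Quotient.eq_zero_iff_mem, map_sub, map_one, h, sub_self]
      obtain ⟨c, hc⟩ := Ideal.mem_span_singleton'.1 h1
      have h2 : fB * (1 - T fA) = 0 := by
        rw [← hc, mul_comm c, ← mul_assoc, mul_sub, mul_one, hfB.eq, sub_self, zero_mul]
      rw [mul_sub, mul_one, sub_eq_zero] at h2
      exact h2.symm
  -- invariance of `T x`
  have hinv : LinearMap.lTensor _ (LinearMap.mulLeft R fB) (Coalgebra.comul (R := R) (T x)) =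
      (T x) ⊗ₜ[R] fB := by
    have h1 := congrArg (TensorProduct.map Tl Tl) hx
    rw [TensorProduct.map_tmul, hTl, hTl] at h1
    have h2 : TensorProduct.map Tl Tl ∘ₗ
        LinearMap.lTensor _ (LinearMap.mulLeft R fA) =
        LinearMap.lTensor _ (LinearMap.mulLeft R (T fA)) ∘ₗ
          TensorProduct.map Tl Tl := by
      apply TensorProduct.ext'
      intro u v
      change T u ⊗ₜ[R] T (fA * v) = T u ⊗ₜ[R] (T fA * T v)
      rw [map_mul]
    have h3 := LinearMap.congr_fun h2 (Coalgebra.comul (R := R) x)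
    have h3' : TensorProduct.map Tl Tl (Coalgebra.comul (R := R) x) =
        Coalgebra.comul (R := R) (T x) := CoalgHomClass.map_comp_comul_apply T x
    rw [LinearMap.comp_apply, LinearMap.comp_apply, h3'] at h3
    rw [h3] at h1
    have h4 := congrArg (LinearMap.lTensor _ (LinearMap.mulLeft R fB)) h1
    rw [LinearMap.lTensor_tmul, LinearMap.mulLeft_apply] at h4
    change _ = T x ⊗ₜ[R] (fB * T fA) at h4
    rw [hfBT] at h4
    have h5 : LinearMap.lTensor (CartDual.D R (B ⧸ Ideal.span ({1 - eB} : Set B)))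
          (LinearMap.mulLeft R fB) ∘ₗ
        LinearMap.lTensor (CartDual.D R (B ⧸ Ideal.span ({1 - eB} : Set B)))
          (LinearMap.mulLeft R (T fA)) =
        LinearMap.lTensor (CartDual.D R (B ⧸ Ideal.span ({1 - eB} : Set B)))
          (LinearMap.mulLeft R fB) := by
      rw [← LinearMap.lTensor_comp]
      congr 1
      apply LinearMap.ext
      intro v
      change fB * (T fA * v) = fB * v
      rw [← mul_assoc, hfBT]
    have h6 := LinearMap.congr_fun h5 (Coalgebra.comul (R := R) (T x))
    rw [LinearMap.comp_apply] at h6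
    rw [← h6]
    exact h4
  exact hb (T x) hinv

end Groth.Agent.S16079
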