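import Groth.Statements.S1608
import Mathlib
import Groth.Agent.Lib.Helper3.QFinTop
import Groth.Agent.Lib.Helper3.DimIneqLoc
import Groth.Agent.Lib.Helper3.DimIneqSch2
import Groth.Agent.Lib.Helper3.DimFun

set_option autoImplicit false
universe u
open CategoryTheory CategoryTheory.Limits AlgebraicGeometry
open Variety

namespace Groth.Agent.S1608

open Groth.Agent.Lib.helper3.DimIneq in
theorem isNoetherianRing_atPrime_congr {R : Type u} [CommRing R] (P P' : Ideal R) [P.IsPrime]
    [P'.IsPrime] (h : P = P') (hN : IsNoetherianRing (Localization.AtPrime P)) :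
    IsNoetherianRing (Localization.AtPrime P') := by
  subst h; exact hN

open Groth.Agent.Lib.helper3.DimIneq in
/-- core: over a point `y` with Noetherian local ring of dimension `≤ 1`, there are no proper
specializations inside the fibre. -/
theorem eq_of_specializes_fibre {X Y : Scheme.{u}} (f : X ⟶ Y) [LocallyOfFiniteType f]
    (hgen : ∀ Z ∈ irreducibleComponents (X : Type u), ∀ η : X, IsGenericPoint η Z → f.QuasiFiniteAt η)
    (x₁ x₂ : X) [IsNoetherianRing (Y.presheaf.stalk (f.base x₂))]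
    (hy : ringKrullDim (Y.presheaf.stalk (f.base x₂)) ≤ 1)
    (h12 : f.base x₁ = f.base x₂) (hs : x₁ ⤳ x₂) : x₁ = x₂ := by
  by_contra hne
  obtain ⟨U, hU, hyU, -⟩ := exists_isAffineOpen_mem_and_subset (x := f.base x₂) (U := ⊤) trivial
  obtain ⟨V, hV, hx₂, e⟩ := exists_isAffineOpen_mem_and_subset (x := x₂) (U := f ⁻¹ᵁ U) hyU
  have hx₁ : x₁ ∈ V := hs.mem_open V.isOpen hx₂
  have hφ : (f.appLE U V e).hom.FiniteType := LocallyOfFiniteType.finiteType_appLE f hU hV e
  set φ := (f.appLE U V e).hom with hφdef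
  set q₁ := (hV.primeIdealOf ⟨x₁, hx₁⟩).asIdeal with hq₁
  set q₂ := (hV.primeIdealOf ⟨x₂, hx₂⟩).asIdeal with hq₂
  set p := (hU.primeIdealOf ⟨f.base x₂, hyU⟩).asIdeal with hp
  have hc₂ : q₂.comap φ = p := by
    have := IsAffineOpen.comap_primeIdealOf_appLE (f := f) (x := x₂) U hU V hV e hx₂
    exact congrArg PrimeSpectrum.asIdeal this
  have hle : q₁ ≤ q₂ := (specializes_iff_primeIdealOf_le hV x₁ x₂ hx₁ hx₂).mp hs
  have hlt : q₁ < q₂ := by
    refine lt_of_le_of_ne hle (fun heq => hne ?_)
    exact eq_of_primeIdealOf_eq hV x₁ x₂ hx₁ hx₂ heq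
  -- Noetherianity of the localization
  haveI hNp : IsNoetherianRing (Localization.AtPrime p) := by
    letI : Algebra Γ(Y, U) (Y.presheaf.stalk (f.base x₂)) :=
      TopCat.Presheaf.algebra_section_stalk Y.presheaf ⟨f.base x₂, hyU⟩
    haveI := hU.isLocalization_stalk ⟨f.base x₂, hyU⟩
    exact isNoetherianRing_of_ringEquiv _
      (IsLocalization.algEquiv p.primeCompl (Y.presheaf.stalk (f.base x₂))
        (Localization.AtPrime p)).toRingEquiv
  haveI : IsNoetherianRing (Localization.AtPrime (q₂.comap φ)) :=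
    isNoetherianRing_atPrime_congr p _ hc₂.symm hNp
  have hph : p.height ≤ 1 := by
    have := ringKrullDim_stalk_eq_height hU (f.base x₂) hyU
    rw [this] at hy
    exact_mod_cast hy
  obtain ⟨n, hn⟩ := exists_nat_td_residueFieldMap f x₂
  rw [← td_quotientMap_eq f hU hV e x₂ hx₂] at hn
  -- generic points are quasi-finite
  have hqf : ∀ ξ : X, ∀ hξ : ξ ∈ V, (hV.primeIdealOf ⟨ξ, hξ⟩).asIdeal ∈ minimalPrimes Γ(X, V) →
      f.QuasiFiniteAt ξ := by
    intro ξ hξ hmin
    exact hgen _ (closure_mem_irreducibleComponents hV ξ hξ hmin) ξ rfl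
  have hE : ∀ q0 ∈ minimalPrimes Γ(X, V), q0 ≤ q₂ → td (Ideal.quotientMap q0 φ le_rfl) ≤ (0 : ℕ) := by
    intro q0 hq0 _
    haveI : q0.IsPrime := hq0.1.1
    obtain ⟨ξ, hξ, hξq⟩ := exists_point_of_prime hV q0
    subst hξq
    have h1 := (hqf ξ hξ hq0).quasiFiniteAt hV hU e hξ
    rw [td_quotientMap_eq_zero_of_quasiFiniteAt _ _ h1]
    simp
  have key := height_add_le_loc' φ hφ q₂ n 0 hn hE
  rw [hc₂] at key
  have h2 : q₂.height ≤ 1 := by
    calc q₂.height ≤ q₂.height + n := le_self_add
      _ ≤ p.height + (0 : ℕ) := key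
      _ ≤ 1 := by simpa using hph
  have h3 : q₁.height + 1 ≤ q₂.height := Ideal.height_add_one_le_of_lt_of_isPrime hlt
  have h4 : q₁.height = 0 := by
    by_contra h0
    have h5 : 1 ≤ q₁.height := Order.one_le_iff_ne_zero.mpr h0
    have h6 : (1 : ℕ∞) + 1 ≤ 1 := (add_le_add_left h5 1).trans (h3.trans h2)
    exact absurd h6 (by decide)
  have hmin : q₁ ∈ minimalPrimes Γ(X, V) := Ideal.height_eq_zero_iff.mp h4
  have hqf₁ := hqf x₁ hx₁ hmin
  exact hne (Groth.Agent.Lib.helper3.QFinTop.eq_of_specializes_of_quasiFiniteAt f hqf₁ x₂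
    h12.symm (Or.inr hs)).symm

/-- Let f : X → Y be locally of finite type, and let y ∈ Y be a point whose local ring is Noetherian of
dimension at most one. Suppose f is quasi-finite at the generic point of each irreducible component
of X. Then f is quasi-finite at each point x of X with f(x) = y. -/
theorem result {X Y : Scheme.{u}} (f : X ⟶ Y) [LocallyOfFiniteType f]
    (y : Y) [IsNoetherianRing (Y.presheaf.stalk y)] (hy : ringKrullDim (Y.presheaf.stalk y) ≤ 1)
    (hgen : ∀ Z ∈ irreducibleComponents (X : Type u), ∀ η : X, IsGenericPoint η Z → f.QuasiFiniteAt η)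
    (x : X) (hx : f.base x = y) : f.QuasiFiniteAt x := by
  subst hx
  refine Groth.Agent.Lib.helper3.QFinTop.quasiFiniteAt_of_forall_specializes f x ?_ ?_
  · intro x' hx' hs
    exact eq_of_specializes_fibre f hgen x' x hy hx' hs
  · intro x' hx' hs
    haveI : IsNoetherianRing (Y.presheaf.stalk (f.base x')) := by
      have : f.base x' = f.base x := hx'
      rw [this]; infer_instance
    have hy' : ringKrullDim (Y.presheaf.stalk (f.base x')) ≤ 1 := by
      have : f.base x' = f.base x := hx'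
      rw [this]; exact hy
    exact (eq_of_specializes_fibre f hgen x x' hy' hx'.symm hs).symm

end Groth.Agent.S1608
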