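import Groth.Statements.S16082
import Mathlib
import Groth.Agent.Lib.Helper16.QCohPush

set_option autoImplicit false
universe u
open CategoryTheory CategoryTheory.Limits AlgebraicGeometry TopologicalSpace
open SDiv

namespace Groth.Agent.S16082

open Opposite
open Scheme.Modules Groth.Agent.Lib.helper16.QCohAss Groth.Agent.Lib.helper16.QCohPush

theorem result' (X : Scheme.{u}) [IsIntegral X] (F G : X.Modules)
    (hGt : TorSh.IsTorsionFree G) :
    TorSh.IsTorsionFree (RefHull.homSh F G) := by
  intro y
  set H := RefHull.homSh F G with hH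
  have key : ∀ (r : X.presheaf.stalk y) (n : ToType (H.presheaf.stalk y)),
      r ≠ 0 → r • n = 0 → n = 0 := by
    intro r n hr hrn
    obtain ⟨V₁, hy₁, a₁, rfl⟩ := X.presheaf.exists_germ_eq r
    obtain ⟨V₂, hy₂, t₂, rfl⟩ := H.presheaf.exists_germ_eq n
    let W : X.Opens := V₁ ⊓ V₂
    have hyW : y ∈ W := ⟨hy₁, hy₂⟩
    let a : Γ(X, W) := (X.presheaf.map (homOfLE (inf_le_left : W ≤ V₁)).op).hom a₁
    let t : Γ(H, W) := (H.presheaf.map (homOfLE (inf_le_right : W ≤ V₂)).op).hom t₂
    have hga : (X.presheaf.germ W y hyW).hom a = (X.presheaf.germ V₁ y hy₁).hom a₁ :=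
      TopCat.Presheaf.germ_res_apply _ _ _ _ _
    have hgt : (H.presheaf.germ W y hyW).hom t =
        (H.presheaf.germ V₂ y hy₂).hom t₂ :=
      TopCat.Presheaf.germ_res_apply _ _ _ _ _
    have h0 : (H.presheaf.germ W y hyW).hom (a • t) =
        (H.presheaf.germ W y hyW).hom 0 := by
      rw [germ_smul', hga, hgt, map_zero]
      exact hrn
    obtain ⟨W', hyW', i₁, i₂, hres⟩ := H.presheaf.germ_eq y hyW hyW _ _ h0
    have hle : W' ≤ W := i₁.le
    let a' : Γ(X, W') := (X.presheaf.map (homOfLE hle).op).hom a
    let t' : Γ(H, W') := (H.presheaf.map (homOfLE hle).op).hom t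
    have hat' : a' • t' = 0 := by
      have : (H.presheaf.map (homOfLE hle).op).hom (a • t) = a' • t' :=
        Scheme.Modules.map_smul H (homOfLE hle) a t
      rw [← this]
      have h1 : (H.presheaf.map i₁.op).hom (a • t) = 0 := by
        rw [show (H.presheaf.map i₁.op).hom (a • t) =
          (H.presheaf.map i₂.op).hom 0 from hres, map_zero]
      exact h1
    have hga' : (X.presheaf.germ W' y hyW').hom a' = (X.presheaf.germ V₁ y hy₁).hom a₁ := by
      rw [← hga]
      exact TopCat.Presheaf.germ_res_apply _ _ _ _ _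
    have hgt' : (H.presheaf.germ W' y hyW').hom t' =
        (H.presheaf.germ V₂ y hy₂).hom t₂ := by
      rw [← hgt]
      exact TopCat.Presheaf.germ_res_apply _ _ _ _ _
    have ha'ne : a' ≠ 0 := by
      intro h
      apply hr
      rw [← hga', h, map_zero]
    -- now show t' = 0
    have ht0 : t' = 0 := by
      apply Subtype.ext
      funext x
      apply LinearMap.ext
      intro m
      have h2 : (a' • t').1 x = (0 : Γ(H, W')).1 x := by rw [hat']
      have h3 : (X.presheaf.germ W' x.1 x.2).hom a' • (t'.1 x) m = 0 := by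
        have := congrArg (fun φ => φ m) h2
        exact this
      have hne : (X.presheaf.germ W' x.1 x.2).hom a' ≠ 0 := by
        intro h
        apply ha'ne
        apply germ_injective_of_isIntegral X x.1 x.2
        rw [map_zero]
        exact h
      haveI := hGt x.1
      have hreg : IsRegular ((X.presheaf.germ W' x.1 x.2).hom a') :=
        IsRegular.of_ne_zero hne
      have := (Module.IsTorsionFree.isSMulRegular hreg :
        IsSMulRegular (ToType (G.presheaf.stalk x.1)) _)
      apply this
      show _ • _ = _ • (0 : ToType (G.presheaf.stalk x.1))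
      rw [smul_zero]
      exact h3
    rw [← hgt', ht0, map_zero]
  constructor
  intro r hr n₁ n₂ h
  have hr0 : r ≠ 0 := hr.ne_zero
  have h' : r • (n₁ - n₂) = 0 := by
    rw [smul_sub]
    exact sub_eq_zero.mpr h
  exact sub_eq_zero.mp (key r (n₁ - n₂) hr0 h')



/-- Let X be an integral scheme and F, G quasi-coherent O_X-modules with F of finite presentation and G
torsion free (every stalk G_x is a torsion-free module over the domain O_{X,x}). Then every stalk of
the sheaf Hom 𝓗om_{O_X}(F, G) is torsion free as well. -/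
theorem result (X : Scheme.{u}) [IsIntegral X] (F G : X.Modules) (hF : Coh.IsQCoh F)
    (hFp : CohB1.IsFP F) (hG : Coh.IsQCoh G) (hGt : TorSh.IsTorsionFree G) :
    TorSh.IsTorsionFree (RefHull.homSh F G) := by
  exact Groth.Agent.S16082.result' X F G hGt

end Groth.Agent.S16082
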