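import Groth.Statements.S16083
import Groth.Agent.Lib.Lead.RefDivOrd5

set_option autoImplicit false
set_option backward.isDefEq.respectTransparency false
set_option linter.style.haveILetI false
set_option linter.unusedSectionVars false
universe u
open CategoryTheory CategoryTheory.Limits AlgebraicGeometry TopologicalSpace
open SDiv

namespace Groth.Agent.S16083

open RefHull Groth.Agent.Lib.Lead.RH Groth.Agent.Lib.Lead.RefGrp Groth.Agent.Lib.helper16.SecOrd
open Groth.Agent.Lib.Lead.HomHartogs Groth.Agent.Lib.Lead.RefExt Groth.Agent.Lib.helper2.CDivLib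
open Groth.Agent.Lib.Lead.RefDivOrd Groth.Agent.Lib.helper16.CohStalk Groth.Agent.Lib.helper16.CohFinite
open Opposite

section Algebra

/-- over a principal ideal domain, the evaluation map of a finitely generated module into its bidual is surjective -/
theorem dual_eval_surjective_of_pid {R M : Type*} [CommRing R] [IsDomain R] [IsPrincipalIdealRing R]
    [AddCommGroup M] [Module R M] [Module.Finite R M] :
    Function.Surjective (Module.Dual.eval R M) := by
  classical
  let T := Submodule.torsion R M
  let π : M →ₗ[R] (M ⧸ T) := T.mkQ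
  haveI : Module.Free R (M ⧸ T) := Module.free_of_finite_type_torsion_free'
  intro ξ
  let ξQ : Module.Dual R (Module.Dual R (M ⧸ T)) := ξ.comp π.dualMap
  obtain ⟨q, hq⟩ := (Module.bijective_dual_eval R (M ⧸ T)).2 ξQ
  obtain ⟨m, rfl⟩ := T.mkQ_surjective q
  refine ⟨m, LinearMap.ext fun φ => ?_⟩
  have hφ : T ≤ LinearMap.ker φ := by
    intro t ht
    obtain ⟨a, ha⟩ := (Submodule.mem_torsion_iff t).1 ht
    rw [LinearMap.mem_ker]
    have h1 : (a : R) • φ t = 0 := by
      rw [← map_smul]
      have : (a : R) • t = 0 := ha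
      rw [this, map_zero]
    rcases smul_eq_zero.1 h1 with h2 | h2
    · exact absurd h2 (nonZeroDivisors.coe_ne_zero a)
    · exact h2
  let φ' : Module.Dual R (M ⧸ T) := T.liftQ φ hφ
  have h3 : φ = π.dualMap φ' := by
    ext v
    simp [φ', π]
  have h4 := congrArg (fun ζ => ζ φ') hq
  simp only [Module.Dual.eval_apply] at h4
  rw [Module.Dual.eval_apply]
  calc φ m = φ' (π m) := by rw [h3]; rfl
    _ = ξQ φ' := h4
    _ = ξ φ := by rw [h3]; rfl

variable {R M L : Type*} [CommRing R] [AddCommGroup M] [Module R M] [AddCommGroup L] [Module R L]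

theorem surjective_applyₗ_of (e : L ≃ₗ[R] R) (h : Function.Surjective (Module.Dual.eval R M)) :
    Function.Surjective (LinearMap.applyₗ : M →ₗ[R] (M →ₗ[R] L) →ₗ[R] L) := by
  let C : ((M →ₗ[R] L) →ₗ[R] L) ≃ₗ[R] ((M →ₗ[R] R) →ₗ[R] R) :=
    LinearEquiv.arrowCongr (LinearEquiv.arrowCongr (LinearEquiv.refl R M) e) e
  have hC : ∀ v : M, C (LinearMap.applyₗ v) = Module.Dual.eval R M v := by
    intro v
    refine LinearMap.ext fun ξ => ?_
    simp [C, LinearEquiv.arrowCongr_apply, LinearEquiv.arrowCongr_symm_apply]
  intro w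
  obtain ⟨v, hv⟩ := h (C w)
  exact ⟨v, C.injective ((hC v).trans hv)⟩

end Algebra

variable {X : Scheme.{u}}

theorem stalkMapₗ_spec {A B : X.Modules} (φ : A ⟶ B) {x ξ : X} (h : ξ ⤳ x) (m : A.presheaf.stalk x) :
    stalkMapₗ φ ξ (A.presheaf.stalkSpecializes h m) =
      B.presheaf.stalkSpecializes h (stalkMapₗ φ x m) := by
  obtain ⟨U, hxU, s, rfl⟩ := TopCat.Presheaf.exists_germ_eq A.presheaf m
  rw [germ_spec A h hxU s, stalkMapₗ_germ, stalkMapₗ_germ, germ_spec B h hxU]

section Noeth

variable [IsLocallyNoetherian X]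

/-- the stalk of `bidualMap F` at `x` is surjective as soon as `F_x → (F_x)^**` is -/
theorem surjective_stalkMapₗ_bidualMap_of (F : X.Modules) (hF : Coh.IsCoh F) (x : X)
    (h : Function.Surjective
      (Module.Dual.eval (X.presheaf.stalk x) (F.presheaf.stalk x))) :
    Function.Surjective (stalkMapₗ (bidualMap F) x) := by
  have hFP := isFinitePresentation_of_isCoh F hF
  have hE1 := evalStalk_bijective F (Coh.structureModule X) hFP x
  have hE2 := evalStalk_bijective (dual F) (Coh.structureModule X)
    (isFinitePresentation_of_isCoh _ (dual_isCoh F hF)) x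
  obtain ⟨e⟩ := exists_stalkUnitEquiv (X := X) x
  have h0 := surjective_applyₗ_of (M := F.presheaf.stalk x) e h
  let E1 := LinearEquiv.ofBijective (evalStalk F (Coh.structureModule X) x) hE1
  let P : (StalkHom F (Coh.structureModule X) x →ₗ[X.presheaf.stalk x]
        (Coh.structureModule X).presheaf.stalk x) ≃ₗ[X.presheaf.stalk x]
      ((dual F).presheaf.stalk x →ₗ[X.presheaf.stalk x]
        (Coh.structureModule X).presheaf.stalk x) :=
    LinearEquiv.arrowCongr E1.symm
      (LinearEquiv.refl (X.presheaf.stalk x) ((Coh.structureModule X).presheaf.stalk x))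
  have h1 : ∀ v, bidualAt F x v = P (LinearMap.applyₗ v) := fun v =>
    LinearMap.ext fun θ => by
      simp [P, E1, LinearEquiv.arrowCongr_apply]
  intro w
  obtain ⟨v, hv⟩ := h0 (P.symm (evalStalk (dual F) (Coh.structureModule X) x w))
  refine ⟨v, hE2.1 ?_⟩
  rw [evalStalk_stalkMapₗ_bidualMap, h1, hv, LinearEquiv.apply_symm_apply]

/-- the images of the stalks span the generic stalk -/
theorem span_range_spec [IsIntegral X] (G : X.Modules) (hG : Coh.IsCoh G) (y : X)
    (hy : genericPoint X ⤳ y) :
    Submodule.span (X.presheaf.stalk (genericPoint X))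
      (Set.range (G.presheaf.stalkSpecializes hy)) = ⊤ := by
  haveI : G.IsQuasicoherent := hG.1
  obtain ⟨W, hW, hyW, -⟩ := Opens.isBasis_iff_nbhd.mp X.isBasis_affineOpens (Opens.mem_top y)
  haveI : Module.Finite Γ(X, W) Γ(G, W) := finite_sections_of_isCoh G hG hW
  obtain ⟨n, s, hs⟩ := Module.Finite.exists_fin (R := Γ(X, W)) (M := Γ(G, W))
  have hηW : genericPoint X ∈ W := hy.mem_open W.isOpen hyW
  have h1 := Groth.Agent.Lib.helper16.FLF.span_germ_eq_top G hW s hs (genericPoint X) hηW
  rw [eq_top_iff, ← h1]
  refine Submodule.span_mono ?_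
  rintro _ ⟨i, rfl⟩
  exact ⟨G.presheaf.germ W y hyW (s i), germ_spec G hy hyW (s i)⟩

theorem stalkSpecializes_injective_of_torsionFree [IsIntegral X] (B : X.Modules) [B.IsQuasicoherent]
    (htf : TorSh.IsTorsionFree B) {y : X} (hy : genericPoint X ⤳ y) :
    Function.Injective (B.presheaf.stalkSpecializes hy) := by
  rw [injective_iff_map_eq_zero]
  intro w hw
  obtain ⟨V, hyV, t, rfl⟩ := TopCat.Presheaf.exists_germ_eq B.presheaf w
  rw [germ_spec B hy hyV t] at hw
  exact Groth.Agent.Lib.Lead.TorsPure.germ_eq_zero_of_germ_genericPoint_eq_zero B htf y hyV t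
    (hy.mem_open V.isOpen hyV) hw

/-- a linear map of generic stalks mapping the image of `G_y` into the image of `B_y` restricts to a linear map of the stalks
at `y` (`B` torsion free) -/
theorem exists_stalkHom_of_forall [IsIntegral X] (G B : X.Modules) [B.IsQuasicoherent]
    (htf : TorSh.IsTorsionFree B) {y : X} (hy : genericPoint X ⤳ y)
    (T' : StalkHom G B (genericPoint X))
    (h : ∀ v : G.presheaf.stalk y, ∃ w : B.presheaf.stalk y,
      B.presheaf.stalkSpecializes hy w = T' (G.presheaf.stalkSpecializes hy v)) :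
    ∃ Ty : StalkHom G B y, ∀ v, T' (G.presheaf.stalkSpecializes hy v) =
      B.presheaf.stalkSpecializes hy (Ty v) := by
  have hinj := stalkSpecializes_injective_of_torsionFree B htf hy
  choose f hf using h
  refine ⟨{ toFun := f, map_add' := fun v v' => ?_, map_smul' := fun a v => ?_ }, fun v => (hf v).symm⟩
  · apply hinj
    rw [map_add, hf, hf, hf, map_add, map_add]
  · apply hinj
    rw [RingHom.id_apply, stalkSpecializes_smul, hf, hf, stalkSpecializes_smul, map_smul]

/-- a linear map of generic stalks into a coherent reflexive module which is compatible with linear maps of the stalks at the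
points of codimension at most one is the generic stalk map of a morphism -/
theorem exists_hom_of_stalk' [IsIntegral X] (hX : Pi1.IsNormalScheme X) (G B : X.Modules)
    (hG : Coh.IsCoh G) (hB : Coh.IsCoh B) (hBr : RefHull.IsReflexive B)
    (T' : StalkHom G B (genericPoint X))
    (hT : ∀ y : X, ringKrullDim (X.presheaf.stalk y) ≤ 1 →
      ∃ (hy : genericPoint X ⤳ y) (Ty : StalkHom G B y),
        ∀ v, T' (G.presheaf.stalkSpecializes hy v) = B.presheaf.stalkSpecializes hy (Ty v)) :
    ∃ ψ : G ⟶ B, stalkMapₗ ψ (genericPoint X) = T' := by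
  have hFP := isFinitePresentation_of_isCoh G hG
  have hHc : Coh.IsCoh (homSh G B) := homSh_isCoh G B hG hB
  have hHr : RefHull.IsReflexive (homSh G B) := Groth.Agent.S16081.result X G B hG hB hBr
  obtain ⟨h, hh⟩ := (evalStalk_bijective G B hFP (genericPoint X)).2 T'
  obtain ⟨σ, hσ⟩ := exists_section_of_forall_mem_range hX (homSh G B) hHc hHr h (by
    intro y hdim
    obtain ⟨hy, Ty, hTy⟩ := hT y hdim
    obtain ⟨θ, hθ⟩ := (evalStalk_bijective G B hFP y).2 Ty
    refine ⟨hy, θ, ?_⟩
    apply (evalStalk_bijective G B hFP (genericPoint X)).1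
    rw [hh]
    obtain ⟨V, hyV, τ, rfl⟩ := TopCat.Presheaf.exists_germ_eq (homSh G B).presheaf θ
    rw [germ_spec (homSh G B) hy hyV τ, evalStalk_germ]
    rw [evalStalk_germ] at hθ
    refine (LinearMap.ext_on (span_range_spec G hG y hy) ?_).symm
    rintro _ ⟨v, rfl⟩
    rw [hTy, ← hθ]
    exact (homSh_spec τ hy hyV v).symm)
  refine ⟨homOfGlobal σ, ?_⟩
  rw [stalkMapₗ_homOfGlobal, ← hh, ← hσ, evalStalk_germ]

end Noeth


/-- Suppose X is a normal scheme that is integral and locally Noetherian, write η for its generic point,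
let F and G be coherent O_X-modules, and let T : G_η → F_η be an O_{X,η}-linear map of generic
stalks. Then T extends to a morphism G ⟶ F^** — there is a morphism ψ whose stalk map at η is T
followed by the stalk map at η of the canonical map F ⟶ F^** — if and only if for every point x with
dim O_{X,x} = 1 the map T sends the image of G_x in G_η into the image of F_x in F_η. -/
theorem result (X : Scheme.{u}) [IsIntegral X] [IsLocallyNoetherian X]
    (hX : Pi1.IsNormalScheme X) (F G : X.Modules) (hF : Coh.IsCoh F) (hG : Coh.IsCoh G)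
    (T : ↑(G.presheaf.stalk (genericPoint ↥X)) →ₗ[↑(X.presheaf.stalk (genericPoint ↥X))]
      ↑(F.presheaf.stalk (genericPoint ↥X))) :
    (∃ ψ : G ⟶ RefHull.ddual F, RefHull.stalkMapₗ ψ (genericPoint ↥X) =
        (RefHull.stalkMapₗ (RefHull.bidualMap F) (genericPoint ↥X)).comp T) ↔
      ∀ x : ↥X, ringKrullDim ↑(X.presheaf.stalk x) = 1 →
        Set.MapsTo ⇑T
          (Set.range ⇑(G.presheaf.stalkSpecializes ((genericPoint_spec ↥X).specializes (Set.mem_univ x))).hom)
          (Set.range ⇑(F.presheaf.stalkSpecializes ((genericPoint_spec ↥X).specializes (Set.mem_univ x))).hom) := by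
  classical
  have hBc : Coh.IsCoh (ddual F) := ddual_isCoh F hF
  have hBr : RefHull.IsReflexive (ddual F) := isReflexive_ddual F hF
  haveI : (ddual F).IsQuasicoherent := hBc.1
  have htf := Groth.Agent.Lib.Lead.TorsPure.isTorsionFree_of_isReflexive (ddual F) hBr
  constructor
  · rintro ⟨ψ, hψ⟩ x hx1 _ ⟨g, rfl⟩
    have h : genericPoint X ⤳ x := (genericPoint_spec ↥X).specializes (Set.mem_univ x)
    have hco : Order.coheight x = 1 := by
      rw [ringKrullDim_stalk_eq_coheight] at hx1
      exact_mod_cast hx1
    haveI := isDVR_of_coheight_one hX x hco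
    haveI := finite_stalk_of_isCoh F hF x
    have hsurj := surjective_stalkMapₗ_bidualMap_of F hF x dual_eval_surjective_of_pid
    obtain ⟨f, hf⟩ := hsurj (stalkMapₗ ψ x g)
    refine ⟨f, ?_⟩
    have hreflη : IsReflexiveAt F (genericPoint X) := by
      unfold IsReflexiveAt
      letI : Field (X.presheaf.stalk (genericPoint X)) := inferInstanceAs (Field X.functionField)
      haveI := finite_stalk_of_isCoh F hF (genericPoint X)
      haveI : Module.Free (X.presheaf.stalk (genericPoint X))
          (F.presheaf.stalk (genericPoint X)) := Module.Free.of_divisionRing _ _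
      infer_instance
    have hinj := ((bijective_stalkMapₗ_bidualMap_iff F hF (genericPoint X)).2 hreflη).1
    apply hinj
    have e1 := stalkMapₗ_spec (bidualMap F) h f
    have e2 := stalkMapₗ_spec ψ h g
    rw [hf] at e1
    rw [hψ] at e2
    exact e1.trans e2.symm
  · intro hcond
    refine exists_hom_of_stalk' hX G (ddual F) hG hBc hBr
      ((stalkMapₗ (bidualMap F) (genericPoint X)).comp T) ?_
    intro y hdim
    have hy : genericPoint X ⤳ y := (genericPoint_spec X).specializes (Set.mem_univ y)
    refine ⟨hy, ?_⟩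
    refine exists_stalkHom_of_forall G (ddual F) htf hy _ fun v => ?_
    by_cases h1 : ringKrullDim (X.presheaf.stalk y) = 1
    · obtain ⟨f, hf⟩ := hcond y h1 ⟨v, rfl⟩
      refine ⟨stalkMapₗ (bidualMap F) y f, ?_⟩
      rw [← stalkMapₗ_spec (bidualMap F) hy f, LinearMap.comp_apply]
      congr 1
    · have h0 : Order.coheight y = 0 := by
        have h2 := coheight_le_one_of_dim hdim
        have hne : Order.coheight y ≠ 1 := by
          intro h3
          apply h1
          rw [ringKrullDim_stalk_eq_coheight, h3]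
          rfl
        exact Order.lt_one_iff.1 (lt_of_le_of_ne h2 hne)
      obtain rfl := eq_genericPoint_of_coheight_eq_zero h0
      refine ⟨(stalkMapₗ (bidualMap F) (genericPoint X)).comp T v, ?_⟩
      have hid : ∀ (A : X.Modules) (m : A.presheaf.stalk (genericPoint X)),
          A.presheaf.stalkSpecializes hy m = m := by
        intro A m
        obtain ⟨V, hV, t, rfl⟩ := TopCat.Presheaf.exists_germ_eq A.presheaf m
        exact germ_spec A hy hV t
      rw [hid, hid]


end Groth.Agent.S16083
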