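import Groth.Statements.S16084
import Groth.Agent.Lib.Lead.RefDiv1
import Groth.Agent.Lib.Lead.RefRank2
import Groth.Agent.Lib.Lead.TorsPure
-- import your own Groth.Agent.* helpers here

set_option autoImplicit false
set_option backward.isDefEq.respectTransparency false
set_option linter.style.haveILetI false
universe u
open CategoryTheory CategoryTheory.Limits AlgebraicGeometry TopologicalSpace
open SDiv

namespace Groth.Agent.S16084


open Groth.Agent.Lib.helper16.CohStalk Groth.Agent.Lib.helper16.CohFinite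
open Groth.Agent.Lib.helper3.DimIneq Groth.Agent.Lib.Lead.RefDiv

theorem smul_eq_zero_of_torsionFree {B : Type*} [CommRing B] [IsDomain B] {M : Type*} [AddCommGroup M]
    [Module B M] [Module.IsTorsionFree B M] {r : B} {m : M} (h : r • m = 0) : r = 0 ∨ m = 0 := by
  by_cases hr : r = 0
  · exact Or.inl hr
  · right
    have hreg : IsRegular r := IsRegular.of_ne_zero hr
    have := (Module.IsTorsionFree.isSMulRegular hreg : IsSMulRegular M r)
    exact this (by change r • m = r • 0; rw [h, smul_zero])

theorem withBot_enat_eq_one {a : WithBot ℕ∞} (h0 : ¬ a ≤ 0) (h2 : ¬ (2 : WithBot ℕ∞) ≤ a) : a = 1 := by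
  have h1 := Groth.Agent.Lib.Lead.RH.withBot_enat_le_one_of_not_two_le a h2
  induction a using WithBot.recBotCoe with
  | bot => exact absurd bot_le h0
  | coe a =>
    induction a using ENat.recTopCoe with
    | top => exact absurd le_top h2
    | coe n =>
      have h1' : n ≤ 1 := by
        have : ((n : ℕ∞) : WithBot ℕ∞) ≤ ((1 : ℕ∞) : WithBot ℕ∞) := h1
        have := WithBot.coe_le_coe.1 this
        exact_mod_cast this
      have h0' : ¬ n ≤ 0 := fun hn => h0 (by
        change ((n : ℕ∞) : WithBot ℕ∞) ≤ ((0 : ℕ∞) : WithBot ℕ∞)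
        exact WithBot.coe_le_coe.2 (by exact_mod_cast hn))
      have : n = 1 := by omega
      subst this
      rfl


/-- Let X be an integral locally Noetherian normal scheme, F a rank one coherent reflexive O_X-module
and s a nonzero global section of F. Let Z be the set of points x at which multiplication by the
germ of s, O_{X,x} → F_x, fails to be bijective (the complement of the open where s generates F).
Then every irreducible component of Z has codimension 1 in X: at each point z of Z to which no other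
point of Z specializes, the local ring O_{X,z} has dimension 1. -/
theorem result (X : Scheme.{u}) [IsIntegral X] [IsLocallyNoetherian X]
    (hX : Pi1.IsNormalScheme X) (F : X.Modules) (hF : RefHull.IsRef1 F) (s : Γ(F, ⊤)) (hs : s ≠ 0) (z : ↥X)
    (hz : ¬ Function.Bijective fun a : ↑(X.presheaf.stalk z) => a • F.presheaf.germ ⊤ z trivial s)
    (hmax : ∀ y : ↥X, ¬ Function.Bijective (fun a : ↑(X.presheaf.stalk y) => a • F.presheaf.germ ⊤ y trivial s) →
      y ⤳ z → y = z) :
    ringKrullDim ↑(X.presheaf.stalk z) = 1 := by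
  obtain ⟨hFcoh, hrefl, hrk⟩ := hF
  haveI : F.IsQuasicoherent := hFcoh.1
  obtain ⟨W, hW, hzW, -⟩ := Opens.isBasis_iff_nbhd.mp X.isBasis_affineOpens (Opens.mem_top z)
  haveI : Nonempty W := ⟨⟨z, hzW⟩⟩
  haveI : IsNoetherianRing Γ(X, W) := IsLocallyNoetherian.component_noetherian ⟨W, hW⟩
  haveI : Module.Finite Γ(X, W) Γ(F, W) := finite_sections_of_isCoh F hFcoh hW
  haveI : IsDomain Γ(X, W) := inferInstance
  set σ : Γ(F, W) := F.presheaf.map (homOfLE (le_top : W ≤ ⊤)).op s with hσ
  have hstalk := (Groth.Agent.Lib.Lead.RH.isReflexive_iff_forall_isReflexiveAt F hFcoh).1 hrefl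
  have htf : TorSh.IsTorsionFree F := Groth.Agent.Lib.Lead.TorsPure.isTorsionFree_of_isReflexive F hrefl
  -- germs of `s` are nonzero
  have hη : F.presheaf.germ ⊤ (genericPoint X) trivial s ≠ 0 := by
    intro h0
    apply hs
    refine Groth.Agent.Lib.Lead.RH.section_ext' F _ _ fun y hy => ?_
    rw [map_zero]
    exact Groth.Agent.Lib.Lead.TorsPure.germ_eq_zero_of_germ_genericPoint_eq_zero F htf y hy s trivial h0
  have hn : ∀ y : X, F.presheaf.germ ⊤ y trivial s ≠ 0 := by
    intro y h0
    apply hη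
    have hsp : genericPoint X ⤳ y := (genericPoint_spec X).specializes (Set.mem_univ y)
    have h1 := TopCat.Presheaf.germ_stalkSpecializes_apply F.presheaf
      (U := ⊤) (y := y) trivial hsp s
    rw [h0, map_zero] at h1
    exact h1.symm
  have hgerm : ∀ (y : X) (hy : y ∈ W), F.presheaf.germ W y hy σ = F.presheaf.germ ⊤ y trivial s :=
    fun y hy => TopCat.Presheaf.germ_res_apply F.presheaf (homOfLE (le_top : W ≤ ⊤)) y hy s
  -- injectivity of `a ↦ a • s_y`
  have hinjy : ∀ y : X, Function.Injective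
      (fun a : X.presheaf.stalk y => a • F.presheaf.germ ⊤ y trivial s) := by
    intro y a b hab
    haveI : IsDomain (X.presheaf.stalk y) := (hX y).1
    haveI : Module.IsReflexive (X.presheaf.stalk y) (F.presheaf.stalk y) := hstalk y
    have h1 : (a - b) • F.presheaf.germ ⊤ y trivial s = 0 := by
      rw [sub_smul]; exact sub_eq_zero.2 hab
    rcases smul_eq_zero_of_torsionFree h1 with h2 | h2
    · exact sub_eq_zero.1 h2
    · exact absurd h2 (hn y)
  -- surjectivity in terms of sections
  have key : ∀ (y : X) (hy : y ∈ W),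
      (Function.Surjective (fun a : X.presheaf.stalk y => a • F.presheaf.germ ⊤ y trivial s)) ↔
      ∀ m : Γ(F, W), ∃ t ∈ (hW.primeIdealOf ⟨y, hy⟩).asIdeal.primeCompl,
        t • m ∈ Submodule.span Γ(X, W) {σ} := by
    intro y hy
    letI := TopCat.Presheaf.algebra_section_stalk X.presheaf (⟨y, hy⟩ : W)
    letI := modStalk F y hy
    haveI := isScalarTower_stalk F y hy
    haveI : IsLocalization.AtPrime (X.presheaf.stalk y) (hW.primeIdealOf ⟨y, hy⟩).asIdeal :=
      hW.isLocalization_stalk ⟨y, hy⟩
    haveI := isLocalizedModule_stalk F hW y hy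
    have hg : germLin F y hy σ = F.presheaf.germ ⊤ y trivial s := hgerm y hy
    constructor
    · intro h m
      exact forall_smul_mem_of_surj _ (X.presheaf.stalk y) (germLin F y hy) σ
        (fun v => by obtain ⟨a, ha⟩ := h v; exact ⟨a, by rw [hg]; exact ha⟩) m
    · intro h v
      obtain ⟨a, ha⟩ := surj_of_forall_smul_mem _ (X.presheaf.stalk y) (germLin F y hy) σ h v
      exact ⟨a, by rw [← hg]; exact ha⟩
  -- injectivity of `r ↦ r • σ`
  have hinjσ : Function.Injective (fun r : Γ(X, W) => r • σ) := by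
    intro r r' hrr
    have h1 : (r - r') • σ = 0 := by rw [sub_smul]; exact sub_eq_zero.2 hrr
    letI := TopCat.Presheaf.algebra_section_stalk X.presheaf (⟨z, hzW⟩ : W)
    letI := modStalk F z hzW
    haveI := isScalarTower_stalk F z hzW
    haveI : IsLocalization.AtPrime (X.presheaf.stalk z) (hW.primeIdealOf ⟨z, hzW⟩).asIdeal :=
      hW.isLocalization_stalk ⟨z, hzW⟩
    have h2 : germLin F z hzW ((r - r') • σ) = 0 := by rw [h1, map_zero]
    rw [map_smul, ← algebraMap_smul (X.presheaf.stalk z) (r - r')] at h2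
    haveI : IsDomain (X.presheaf.stalk z) := (hX z).1
    haveI : Module.IsReflexive (X.presheaf.stalk z) (F.presheaf.stalk z) := hstalk z
    rcases smul_eq_zero_of_torsionFree h2 with h3 | h3
    · have hp : (hW.primeIdealOf ⟨z, hzW⟩).asIdeal.primeCompl ≤ nonZeroDivisors Γ(X, W) :=
        Ideal.primeCompl_le_nonZeroDivisors _
      have h4 := (IsLocalization.injective (X.presheaf.stalk z) hp)
        (h3.trans (map_zero (algebraMap Γ(X, W) (X.presheaf.stalk z))).symm)
      exact sub_eq_zero.1 h4
    · exfalso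
      apply hn z
      rw [← hgerm z hzW]
      exact h3
  -- the support of the cokernel
  have hnotmem : ∀ (y : X) (hy : y ∈ W),
      (Function.Surjective (fun a : X.presheaf.stalk y => a • F.presheaf.germ ⊤ y trivial s)) →
      hW.primeIdealOf ⟨y, hy⟩ ∉ Module.support Γ(X, W) (Γ(F, W) ⧸ Submodule.span Γ(X, W) {σ}) := by
    intro y hy hsurj
    rw [Module.notMem_support_iff']
    intro c
    obtain ⟨m, rfl⟩ := Submodule.mkQ_surjective _ c
    obtain ⟨t, ht, hmem⟩ := (key y hy).1 hsurj m
    refine ⟨t, ht, ?_⟩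
    rw [← map_smul]
    exact (Submodule.Quotient.mk_eq_zero _).2 hmem
  have hzs : hW.primeIdealOf ⟨z, hzW⟩ ∈
      Module.support Γ(X, W) (Γ(F, W) ⧸ Submodule.span Γ(X, W) {σ}) := by
    by_contra hcon
    rw [Module.notMem_support_iff'] at hcon
    apply hz
    refine ⟨hinjy z, (key z hzW).2 fun m => ?_⟩
    obtain ⟨r, hr, hrm⟩ := hcon (Submodule.mkQ _ m)
    refine ⟨r, hr, ?_⟩
    rw [← map_smul] at hrm
    exact (Submodule.Quotient.mk_eq_zero _).1 hrm
  have hmin : (hW.primeIdealOf ⟨z, hzW⟩).asIdeal ∈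
      (Module.annihilator Γ(X, W) (Γ(F, W) ⧸ Submodule.span Γ(X, W) {σ})).minimalPrimes := by
    refine ⟨⟨inferInstance, Module.mem_support_iff_of_finite.1 hzs⟩, fun q hq hle => ?_⟩
    obtain ⟨hqp, hqa⟩ := hq
    haveI := hqp
    obtain ⟨y, hyW, hy⟩ := exists_point_of_prime hW q
    have hsp : y ⤳ z := (specializes_iff_primeIdealOf_le hW y z hyW hzW).2 (by rw [hy]; exact hle)
    have hys : hW.primeIdealOf ⟨y, hyW⟩ ∈
        Module.support Γ(X, W) (Γ(F, W) ⧸ Submodule.span Γ(X, W) {σ}) :=
      Module.mem_support_iff_of_finite.2 (by rw [hy]; exact hqa)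
    have hyz : y = z := hmax y (fun hb => hnotmem y hyW hb.2 hys) hsp
    subst hyz
    rw [← hy]
  -- conclusion
  haveI : IsDomain (X.presheaf.stalk z) := (hX z).1
  haveI : IsIntegrallyClosed (X.presheaf.stalk z) := (hX z).2
  haveI : Module.IsReflexive (X.presheaf.stalk z) (F.presheaf.stalk z) := hstalk z
  haveI := finite_stalk_of_isCoh F hFcoh z
  refine withBot_enat_eq_one ?_ ?_
  · intro hd0
    apply hz
    refine ⟨hinjy z, ?_⟩
    have hK : Ring.KrullDimLE 0 (X.presheaf.stalk z) := Ring.krullDimLE_iff.mpr (by simpa using hd0)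
    have hbot : (⊥ : Ideal (X.presheaf.stalk z)).IsMaximal :=
      Ring.krullDimLE_zero_iff.1 hK ⊥ Ideal.isPrime_bot
    have hfield : IsField (X.presheaf.stalk z) :=
      IsLocalRing.isField_iff_maximalIdeal_eq.2 (IsLocalRing.eq_maximalIdeal hbot).symm
    letI := hfield.toField
    have h1 := Groth.Agent.Lib.Lead.RefRank.finrank_stalk_eq_one_of_genInvertible F hrk z
    exact (finrank_eq_one_iff_of_nonzero' (F.presheaf.germ ⊤ z trivial s) (hn z)).1 h1
  · intro h2
    letI := TopCat.Presheaf.algebra_section_stalk X.presheaf (⟨z, hzW⟩ : W)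
    letI := modStalk F z hzW
    haveI := isScalarTower_stalk F z hzW
    haveI : IsLocalization.AtPrime (X.presheaf.stalk z) (hW.primeIdealOf ⟨z, hzW⟩).asIdeal :=
      hW.isLocalization_stalk ⟨z, hzW⟩
    haveI := isLocalizedModule_stalk F hW z hzW
    have hd : 2 ≤ LocCoh.depth (X.presheaf.stalk z) (X.presheaf.stalk z) := by
      have h1 := Groth.Agent.Lib.Helper24.SerreNormal.sk_two_of_normal (B := X.presheaf.stalk z)
      rw [min_eq_left h2] at h1
      exact WithBot.coe_le_coe.1 h1
    have hdN := (Groth.Agent.Lib.helper26.Depth.reflexive_depth_Sk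
      (IsLocalRing.maximalIdeal (X.presheaf.stalk z)) (F.presheaf.stalk z)).2.1 hd
    exact false_of_minimal_of_depth (hW.primeIdealOf ⟨z, hzW⟩).asIdeal Γ(F, W) σ hinjσ
      (X.presheaf.stalk z) (F.presheaf.stalk z) (germLin F z hzW) hmin hd hdN


end Groth.Agent.S16084
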