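import Groth.Statements.S16085
import Groth.Agent.Lib.Lead.RefGrp4

set_option autoImplicit false
set_option backward.isDefEq.respectTransparency false
set_option linter.style.haveILetI false
universe u
open CategoryTheory CategoryTheory.Limits AlgebraicGeometry TopologicalSpace
open SDiv

namespace Groth.Agent.S16085

open RefHull Groth.Agent.Lib.Lead.RefGrp Groth.Agent.Lib.Lead.ModTensor

theorem nonempty_iso_of_eqvGen {X : Scheme.{u}} {F G : X.Modules}
    (h : Relation.EqvGen (fun L L' : X.Modules => Nonempty (L ≅ L')) F G) : Nonempty (F ≅ G) := by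
  induction h with
  | rel _ _ h => exact h
  | refl _ => exact ⟨Iso.refl _⟩
  | symm _ _ _ ih => exact ⟨ih.some.symm⟩
  | trans _ _ _ _ _ ih1 ih2 => exact ⟨ih1.some ≪≫ ih2.some⟩

theorem cl_eq_iff {X : Scheme.{u}} {F G : X.Modules} :
    PicF.cl F = PicF.cl G ↔ Nonempty (F ≅ G) :=
  ⟨fun h => nonempty_iso_of_eqvGen (Quot.eqvGen_exact h), fun h => Quot.sound h⟩

theorem cl_ddualTensor_congr {X : Scheme.{u}} {F F' G G' : X.Modules} (e : Nonempty (F ≅ F'))
    (e' : Nonempty (G ≅ G')) :
    PicF.cl (ddual (CohB1.tensorMod F G)) = PicF.cl (ddual (CohB1.tensorMod F' G')) :=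
  Quot.sound ⟨ddualCongr (tensorIso e.some e'.some)⟩

theorem cl_dual_congr {X : Scheme.{u}} {F F' : X.Modules} (e : Nonempty (F ≅ F')) :
    PicF.cl (dual F) = PicF.cl (dual F') :=
  Quot.sound ⟨homShCongr e.some (Coh.structureModule X)⟩

/-- the set of classes of rank one coherent reflexive modules -/
abbrev T (X : Scheme.{u}) : Type (u + 1) :=
  {c : PicF.Cl X // ∃ F : X.Modules, PicF.cl F = c ∧ RefHull.IsRef1 F}

/-- a chosen representative -/
noncomputable def rep {X : Scheme.{u}} (a : T X) : X.Modules := a.2.choose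

theorem rep_cl {X : Scheme.{u}} (a : T X) : PicF.cl (rep a) = a.1 := a.2.choose_spec.1

theorem rep_ref {X : Scheme.{u}} (a : T X) : IsRef1 (rep a) := a.2.choose_spec.2

theorem rep_iso {X : Scheme.{u}} (a : T X) (F : X.Modules) (h : a.1 = PicF.cl F) :
    Nonempty (rep a ≅ F) := cl_eq_iff.1 ((rep_cl a).trans h)

/-- Let X be an integral locally Noetherian normal scheme. Sending (F, G) to the reflexive hull (F
⊗_{O_X} G)^** makes the isomorphism classes of rank one coherent reflexive O_X-modules into an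
abelian group: on that set there are a commutative and associative composition law, a neutral
element and inverses, such that the product of the classes of F and G is the class of the reflexive
hull of F ⊗_{O_X} G, the neutral element is the class of O_X, and the inverse of the class of F is
the class of its dual 𝓗om_{O_X}(F, O_X). -/
theorem result (X : Scheme.{u}) [IsIntegral X] [IsLocallyNoetherian X] (hX : Pi1.IsNormalScheme X) :
    ∃ (mul : {c : PicF.Cl X // ∃ F : X.Modules, PicF.cl F = c ∧ RefHull.IsRef1 F} →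
          {c : PicF.Cl X // ∃ F : X.Modules, PicF.cl F = c ∧ RefHull.IsRef1 F} →
            {c : PicF.Cl X // ∃ F : X.Modules, PicF.cl F = c ∧ RefHull.IsRef1 F})
      (one : {c : PicF.Cl X // ∃ F : X.Modules, PicF.cl F = c ∧ RefHull.IsRef1 F})
      (inv : {c : PicF.Cl X // ∃ F : X.Modules, PicF.cl F = c ∧ RefHull.IsRef1 F} →
          {c : PicF.Cl X // ∃ F : X.Modules, PicF.cl F = c ∧ RefHull.IsRef1 F}),
      (∀ a b, mul a b = mul b a) ∧ (∀ a b c, mul (mul a b) c = mul a (mul b c)) ∧ (∀ a, mul one a = a) ∧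
        (∀ a, mul (inv a) a = one) ∧
        (∀ (F G : X.Modules) (hF : RefHull.IsRef1 F) (hG : RefHull.IsRef1 G),
          (mul ⟨PicF.cl F, F, rfl, hF⟩ ⟨PicF.cl G, G, rfl, hG⟩).1 = PicF.cl (RefHull.ddual (CohB1.tensorMod F G))) ∧
        one.1 = PicF.cl (Coh.structureModule X) ∧
        (∀ (F : X.Modules) (hF : RefHull.IsRef1 F), (inv ⟨PicF.cl F, F, rfl, hF⟩).1 = PicF.cl (RefHull.dual F)) := by
  classical
  let mul : T X → T X → T X := fun a b =>
    ⟨PicF.cl (ddual (CohB1.tensorMod (rep a) (rep b))), _, rfl,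
      isRef1_ddualTensor _ _ (rep_ref a) (rep_ref b)⟩
  let one : T X := ⟨PicF.cl (Coh.structureModule X), _, rfl, isRef1_unit⟩
  let inv : T X → T X := fun a => ⟨PicF.cl (dual (rep a)), _, rfl, isRef1_dual _ (rep_ref a)⟩
  refine ⟨mul, one, inv, ?_, ?_, ?_, ?_, ?_, rfl, ?_⟩
  · intro a b
    exact Subtype.ext (Quot.sound ⟨ddualCongr (braid _ _)⟩)
  · intro a b c
    apply Subtype.ext
    change PicF.cl (ddual (CohB1.tensorMod (rep (mul a b)) (rep c))) =
      PicF.cl (ddual (CohB1.tensorMod (rep a) (rep (mul b c))))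
    rw [cl_ddualTensor_congr (rep_iso (mul a b) _ rfl) ⟨Iso.refl (rep c)⟩,
      cl_ddualTensor_congr ⟨Iso.refl (rep a)⟩ (rep_iso (mul b c) _ rfl)]
    exact Quot.sound (nonempty_assoc_iso hX _ _ _ (rep_ref a) (rep_ref b) (rep_ref c))
  · intro a
    apply Subtype.ext
    change PicF.cl (ddual (CohB1.tensorMod (rep one) (rep a))) = a.1
    rw [cl_ddualTensor_congr (rep_iso one _ rfl) ⟨Iso.refl (rep a)⟩, ← rep_cl a]
    haveI : IsIso (bidualMap (rep a)) := (rep_ref a).2.1
    exact Quot.sound ⟨ddualCongr (leftUnitor (rep a)) ≪≫ (asIso (bidualMap (rep a))).symm⟩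
  · intro a
    apply Subtype.ext
    change PicF.cl (ddual (CohB1.tensorMod (rep (inv a)) (rep a))) =
      PicF.cl (Coh.structureModule X)
    rw [cl_ddualTensor_congr (rep_iso (inv a) _ rfl) ⟨Iso.refl (rep a)⟩]
    exact Quot.sound (nonempty_inv_iso hX _ (rep_ref a))
  · intro F G hF hG
    exact cl_ddualTensor_congr (rep_iso _ F rfl) (rep_iso _ G rfl)
  · intro F hF
    exact cl_dual_congr (rep_iso _ F rfl)

end Groth.Agent.S16085
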