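import Groth.Statements.S1609
import Mathlib
import Groth.Agent.Lib.Helper23.GeomFibre

set_option autoImplicit false
universe u
open CategoryTheory CategoryTheory.Limits AlgebraicGeometry
open Variety

namespace Groth.Agent.S1609

/-- Geometric irreducibility of a k-scheme can be checked after an arbitrary extension of the base
field. -/
theorem result (k : Type u) [Field k] (X : Scheme.{u}) [X.Over (Spec (CommRingCat.of k))] (k' : Type u) [Field k'] [Algebra k k']
    [GeometricallyIrreducible (Curv2.bcSnd k X k')] : GeometricallyIrreducible (X ↘ (Spec (CommRingCat.of k))) := by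
  have H : GeometricallyIrreducible (Curv2.bcSnd k X k') := inferInstance
  rw [geometricallyIrreducible_iff] at H ⊢
  refine Groth.Agent.Lib.helper23.geometrically_descend _ (fun {Z₁ Z₂} π hπ h => ?_)
    (X ↘ (Spec (CommRingCat.of k))) (Curv2.bcSnd k X k')
    (Curv2.bcFst k X k') (Spec.map (CommRingCat.ofHom (algebraMap k k'))) (IsPullback.of_hasPullback _ _) H
  have : IrreducibleSpace Z₂ := h
  exact Function.Surjective.irreducibleSpace π.continuous hπ

end Groth.Agent.S1609
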