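import Groth.Statements.S16090
import Groth.Agent.Lib.Lead.RefDivOrd1

set_option autoImplicit false
set_option backward.isDefEq.respectTransparency false
set_option linter.style.haveILetI false
universe u
open CategoryTheory CategoryTheory.Limits AlgebraicGeometry TopologicalSpace
open SDiv

namespace Groth.Agent.S16090

open RefHull Groth.Agent.Lib.Lead.RH Groth.Agent.Lib.Lead.RefGrp Groth.Agent.Lib.Lead.RefDivOrd
open Groth.Agent.Lib.helper16.SecOrd TensorProduct Opposite
open Groth.Agent.Lib.Helper18.DegCalc (isCoh_tensorMod)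

theorem ordAt_mul {X : Scheme.{u}} (x ξ : X) (h : ξ ⤳ x) {a b : X.residueField ξ} (ha : a ≠ 0)
    (hb : b ≠ 0) : Cyc.ordAt x ξ h (a * b) = Cyc.ordAt x ξ h a + Cyc.ordAt x ξ h b := by
  unfold Cyc.ordAt
  exact ordFrac_mul' _ _ ha hb

/-- The class map is additive for the reflexive tensor product: suppose X is a scheme that is integral,
normal and locally Noetherian, write η for its generic point, and take F and G to be rank one
coherent reflexive O_X-modules with s ∈ F_η, t ∈ G_η nonzero rational sections, with orders
ord_{x,F}(s), ord_{x,G}(t) at the points x of codimension 1 taken with respect to generators of the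
free rank one stalks. Then the reflexive hull (F ⊗_{O_X} G)^** admits a nonzero rational section w
whose order at every codimension-1 point x is ord_{x,F}(s) + ord_{x,G}(t); so the Weil divisor class
of (F ⊗ G)^** is the sum of the classes of F and G. -/
theorem result (X : Scheme.{u}) [IsIntegral X] [IsLocallyNoetherian X]
    (hX : Pi1.IsNormalScheme X) (F G : X.Modules) (hF : RefHull.IsRef1 F) (hG : RefHull.IsRef1 G)
    (s : Cyc.secFibre F (genericPoint ↥X)) (hs : s ≠ 0) (t : Cyc.secFibre G (genericPoint ↥X)) (ht : t ≠ 0) :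
    ∃ w : Cyc.secFibre (RefHull.ddual (CohB1.tensorMod F G)) (genericPoint ↥X), w ≠ 0 ∧
      ∀ (x : ↥X), Order.coheight x = 1 →
        Cyc.secOrdAt (RefHull.ddual (CohB1.tensorMod F G)) (genericPoint ↥X) x
            ((genericPoint_spec ↥X).specializes (Set.mem_univ x)) w =
          Cyc.secOrdAt F (genericPoint ↥X) x ((genericPoint_spec ↥X).specializes (Set.mem_univ x)) s +
            Cyc.secOrdAt G (genericPoint ↥X) x ((genericPoint_spec ↥X).specializes (Set.mem_univ x)) t := by
  classical
  have hFc := hF.1
  have hGc := hG.1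
  have cT := isCoh_tensorMod hFc hGc
  obtain ⟨s', hs'⟩ := Submodule.Quotient.mk_surjective _ s
  obtain ⟨t', ht'⟩ := Submodule.Quotient.mk_surjective _ t
  -- the rational section of the reflexive hull
  let τ : (CohB1.tensorMod F G).presheaf.stalk (genericPoint X) :=
    (tensorStalkEquiv F G (genericPoint X)).symm (s' ⊗ₜ t')
  let w : Cyc.secFibre (RefHull.ddual (CohB1.tensorMod F G)) (genericPoint X) :=
    Submodule.Quotient.mk (stalkMapₗ (bidualMap (CohB1.tensorMod F G)) (genericPoint X) τ)
  -- local description at a point of codimension at most one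
  have key : ∀ (y : X) (hy : ringKrullDim (X.presheaf.stalk y) ≤ 1),
      ∃ (U : X.Opens) (hyU : y ∈ U) (a : Γ(F, U)) (b : Γ(G, U))
        (φs φt : X.presheaf.stalk (genericPoint X)),
        Submodule.span (X.presheaf.stalk y) {F.presheaf.germ U y hyU a} = ⊤ ∧
        Submodule.span (X.presheaf.stalk y) {G.presheaf.germ U y hyU b} = ⊤ ∧
        s = φs • (Submodule.Quotient.mk
          (F.presheaf.germ U (genericPoint X) (genericPoint_mem hyU) a) :
            Cyc.secFibre F (genericPoint X)) ∧
        t = φt • (Submodule.Quotient.mk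
          (G.presheaf.germ U (genericPoint X) (genericPoint_mem hyU) b) :
            Cyc.secFibre G (genericPoint X)) ∧
        w = (φs * φt) • (Submodule.Quotient.mk
          ((RefHull.ddual (CohB1.tensorMod F G)).presheaf.germ U (genericPoint X)
            (genericPoint_mem hyU)
            ((bidualMap (CohB1.tensorMod F G)).app U (SecTwist.tmul F G U a b))) :
            Cyc.secFibre (RefHull.ddual (CohB1.tensorMod F G)) (genericPoint X)) ∧
        Submodule.span (X.presheaf.stalk y)
          {(RefHull.ddual (CohB1.tensorMod F G)).presheaf.germ U y hyU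
            ((bidualMap (CohB1.tensorMod F G)).app U (SecTwist.tmul F G U a b))} = ⊤ := by
    intro y hy
    obtain ⟨U, hyU, a, b, ha, hb, haη, hbη⟩ := exists_common_gen hX F G hF hG y hy
    obtain ⟨φs, hφs⟩ : ∃ φs : X.presheaf.stalk (genericPoint X),
        φs • F.presheaf.germ U (genericPoint X) (genericPoint_mem hyU) a = s' :=
      Submodule.mem_span_singleton.1 (by rw [haη]; exact Submodule.mem_top)
    obtain ⟨φt, hφt⟩ : ∃ φt : X.presheaf.stalk (genericPoint X),
        φt • G.presheaf.germ U (genericPoint X) (genericPoint_mem hyU) b = t' :=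
      Submodule.mem_span_singleton.1 (by rw [hbη]; exact Submodule.mem_top)
    refine ⟨U, hyU, a, b, φs, φt, ha, hb, ?_, ?_, ?_, ?_⟩
    · rw [← hs', ← hφs]; rfl
    · rw [← ht', ← hφt]; rfl
    · have hτ : τ = (φs * φt) • (CohB1.tensorMod F G).presheaf.germ U (genericPoint X)
          (genericPoint_mem hyU) (SecTwist.tmul F G U a b) := by
        apply (tensorStalkEquiv F G (genericPoint X)).injective
        rw [LinearEquiv.apply_symm_apply, map_smul, tensorStalkEquiv_germ_tmul,
          ← TensorProduct.smul_tmul_smul, ← hφs, ← hφt]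
      change Submodule.Quotient.mk
        (stalkMapₗ (bidualMap (CohB1.tensorMod F G)) (genericPoint X) τ) = _
      rw [hτ, map_smul, stalkMapₗ_germ]
      rfl
    · have rT : IsR1At (CohB1.tensorMod F G) y :=
        isR1At_tensor (isR1At_of_dim_le_one hX F hF y hy) (isR1At_of_dim_le_one hX G hG y hy)
      have hbij := (bijective_stalkMapₗ_bidualMap_iff (CohB1.tensorMod F G) cT y).2
        rT.isReflexiveAt
      have h1 := span_singleton_map (stalkMapₗ (bidualMap (CohB1.tensorMod F G)) y) hbij.2 _
        (span_germ_tmul F G y hyU a b ha hb)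
      rw [stalkMapₗ_germ] at h1
      exact h1
  refine ⟨w, ?_, ?_⟩
  · -- `w ≠ 0`
    obtain ⟨U, hyU, a, b, φs, φt, ha, hb, hs1, ht1, hw1, hspan⟩ :=
      key (genericPoint X) dim_genericPoint_le_one
    have hφs : φs ≠ 0 := by
      rintro rfl
      rw [zero_smul] at hs1
      exact hs hs1
    have hφt : φt ≠ 0 := by
      rintro rfl
      rw [zero_smul] at ht1
      exact ht ht1
    have hu : IsUnit (φs * φt) :=
      (isUnit_of_ne_zero_functionField φs hφs).mul (isUnit_of_ne_zero_functionField φt hφt)
    have rD : IsR1At (RefHull.ddual (CohB1.tensorMod F G)) (genericPoint X) :=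
      isR1At_ddual cT (isR1At_tensor (isR1At_of_dim_le_one hX F hF _ dim_genericPoint_le_one)
        (isR1At_of_dim_le_one hX G hG _ dim_genericPoint_le_one))
    rw [hw1]
    intro h0
    exact mk_ne_zero_of_span rD _ hspan (hu.smul_eq_zero.1 h0)
  · intro x hx
    have hdim : ringKrullDim (X.presheaf.stalk x) ≤ 1 := by
      rw [ringKrullDim_stalk_eq_coheight, hx]
      exact le_refl _
    set h := (genericPoint_spec ↥X).specializes (Set.mem_univ x) with hh
    obtain ⟨U, hxU, a, b, φs, φt, ha, hb, hs1, ht1, hw1, hspan⟩ := key x hdim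
    have hw0 : w ≠ 0 := by
      obtain ⟨U', hyU', a', b', φs', φt', ha', hb', hs1', ht1', hw1', hspan'⟩ :=
        key (genericPoint X) dim_genericPoint_le_one
      have hφs : φs' ≠ 0 := by
        rintro rfl
        rw [zero_smul] at hs1'
        exact hs hs1'
      have hφt : φt' ≠ 0 := by
        rintro rfl
        rw [zero_smul] at ht1'
        exact ht ht1'
      have hu : IsUnit (φs' * φt') :=
        (isUnit_of_ne_zero_functionField φs' hφs).mul (isUnit_of_ne_zero_functionField φt' hφt)
      have rD : IsR1At (RefHull.ddual (CohB1.tensorMod F G)) (genericPoint X) :=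
        isR1At_ddual cT (isR1At_tensor (isR1At_of_dim_le_one hX F hF _ dim_genericPoint_le_one)
          (isR1At_of_dim_le_one hX G hG _ dim_genericPoint_le_one))
      rw [hw1']
      intro h0
      exact mk_ne_zero_of_span rD _ hspan' (hu.smul_eq_zero.1 h0)
    have e1 : Cyc.secOrdAt F (genericPoint X) x h s =
        Cyc.ordAt x (genericPoint X) h (X.residue (genericPoint X) φs) :=
      secOrdAt_eq F x (genericPoint X) h s hs _ ha φs (by rw [germ_spec F h hxU a]; exact hs1)
    have e2 : Cyc.secOrdAt G (genericPoint X) x h t =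
        Cyc.ordAt x (genericPoint X) h (X.residue (genericPoint X) φt) :=
      secOrdAt_eq G x (genericPoint X) h t ht _ hb φt (by rw [germ_spec G h hxU b]; exact ht1)
    have e3 : Cyc.secOrdAt (RefHull.ddual (CohB1.tensorMod F G)) (genericPoint X) x h w =
        Cyc.ordAt x (genericPoint X) h (X.residue (genericPoint X) (φs * φt)) :=
      secOrdAt_eq _ x (genericPoint X) h w hw0 _ hspan (φs * φt)
        (by rw [germ_spec (RefHull.ddual (CohB1.tensorMod F G)) h hxU]; exact hw1)
    have n1 : X.residue (genericPoint X) φs ≠ 0 :=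
      residue_ne_zero_of_smul_ne_zero F (genericPoint X) (hs1 ▸ hs)
    have n2 : X.residue (genericPoint X) φt ≠ 0 :=
      residue_ne_zero_of_smul_ne_zero G (genericPoint X) (ht1 ▸ ht)
    rw [e1, e2, e3, map_mul, ordAt_mul x (genericPoint X) h n1 n2]

end Groth.Agent.S16090
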