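import Groth.Statements.S16092
import Groth.Agent.Lib.Helper16.SecOrd5
import Groth.Agent.Lib.Helper12.TensorInv

set_option autoImplicit false
universe u
open CategoryTheory CategoryTheory.Limits AlgebraicGeometry TopologicalSpace
open SDiv

namespace Groth.Agent.S16092


open Groth.Agent.Lib.helper16.SecOrd Opposite

/-- the class of a generator of a nonzero stalk in the fibre is nonzero -/
theorem mk_ne_zero_of_span' {X : Scheme.{u}} {M : X.Modules} {ξ : X}
    (hnt : Nontrivial (M.presheaf.stalk ξ)) (g : M.presheaf.stalk ξ)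
    (hg : Submodule.span (X.presheaf.stalk ξ) {g} = ⊤) :
    (Submodule.Quotient.mk g : Cyc.secFibre M ξ) ≠ 0 := by
  intro h0
  rw [Submodule.Quotient.mk_eq_zero] at h0
  have h1 : (⊤ : Submodule (X.presheaf.stalk ξ) (M.presheaf.stalk ξ)) ≤
      IsLocalRing.maximalIdeal (X.presheaf.stalk ξ) • ⊤ := by
    rw [← hg, Submodule.span_singleton_le_iff_mem, hg]
    exact h0
  have hfg : (⊤ : Submodule (X.presheaf.stalk ξ) (M.presheaf.stalk ξ)).FG := by
    rw [← hg]
    exact Submodule.fg_span_singleton g
  have h2 : (⊤ : Submodule (X.presheaf.stalk ξ) (M.presheaf.stalk ξ)) = ⊥ :=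
    Submodule.eq_bot_of_le_smul_of_le_jacobson_bot _ _ hfg h1
      (IsLocalRing.maximalIdeal_le_jacobson _)
  obtain ⟨v, v', hvv'⟩ := hnt
  apply hvv'
  have hv : v ∈ (⊤ : Submodule (X.presheaf.stalk ξ) (M.presheaf.stalk ξ)) := Submodule.mem_top
  have hv' : v' ∈ (⊤ : Submodule (X.presheaf.stalk ξ) (M.presheaf.stalk ξ)) := Submodule.mem_top
  rw [h2] at hv hv'
  rw [(Submodule.mem_bot _).1 hv, (Submodule.mem_bot _).1 hv']

theorem ordAt_one {X : Scheme.{u}} (x ξ : X) (h : ξ ⤳ x) :
    Cyc.ordAt x ξ h (1 : X.residueField ξ) = 0 := by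
  unfold Cyc.ordAt
  exact ordFrac_one' _ _


/-- Let X be an integral scheme that is locally Noetherian, with generic point η, let L and N be
invertible O_X-modules and s ∈ L_η, t ∈ N_η nonzero rational sections, with orders ord_{x,L}(s),
ord_{x,N}(t) along the prime divisors, i.e. at the points x with dim O_{X,x} = 1, taken with respect
to generators of the stalks. Then L ⊗_{O_X} N has a nonzero rational section w with ord_{x,L ⊗ N}(w)
= ord_{x,L}(s) + ord_{x,N}(t) at every such x; hence the Weil divisor class of L ⊗ N is the sum of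
the classes of L and N. The published statement names w as the product s·t; here only the existence
of such a w is asserted. -/
theorem result (X : Scheme.{u}) [IsIntegral X] [IsLocallyNoetherian X] (L N : X.Modules)
    (hL : PicF.IsInvertible L) (hN : PicF.IsInvertible N) (s : Cyc.secFibre L (genericPoint ↥X)) (hs : s ≠ 0)
    (t : Cyc.secFibre N (genericPoint ↥X)) (ht : t ≠ 0) :
    ∃ w : Cyc.secFibre (CohB1.tensorMod L N) (genericPoint ↥X), w ≠ 0 ∧
      ∀ (x : ↥X), ringKrullDim ↑(X.presheaf.stalk x) = 1 →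
        Cyc.secOrdAt (CohB1.tensorMod L N) (genericPoint ↥X) x ((genericPoint_spec ↥X).specializes (Set.mem_univ x)) w =
          Cyc.secOrdAt L (genericPoint ↥X) x ((genericPoint_spec ↥X).specializes (Set.mem_univ x)) s +
            Cyc.secOrdAt N (genericPoint ↥X) x ((genericPoint_spec ↥X).specializes (Set.mem_univ x)) t := by
  classical
  have hLc := isLocCyc_of_isInvertible L hL
  have hNc := isLocCyc_of_isInvertible N hN
  obtain ⟨U, hη, a, b, ha, hb⟩ := exists_common_generators L N hLc hNc (genericPoint X)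
  obtain ⟨ψL, hψL⟩ := exists_smul_mk_eq L _ _ ha s
  obtain ⟨ψN, hψN⟩ := exists_smul_mk_eq N _ _ hb t
  have hT : PicF.IsInvertible (CohB1.tensorMod L N) :=
    Groth.Agent.Lib.helper12.TensorInv.isInvertible_tensorMod hL hN
  have hrank := Groth.Agent.Lib.helper16.FLF.finrank_stalk_of_isFinLocFreeOfRank _
    ((Groth.Agent.Lib.helper16.FLF.isInvertible_iff_isFinLocFreeOfRank_one _).1 hT) (genericPoint X)
  have hnt : Nontrivial ((CohB1.tensorMod L N).presheaf.stalk (genericPoint X)) := by
    by_contra hcon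
    rw [not_nontrivial_iff_subsingleton] at hcon
    rw [Module.finrank_zero_of_subsingleton] at hrank
    exact absurd hrank (by norm_num)
  have hspan := span_germ_tmul L N (genericPoint X) hη a b ha hb
  have hg0 := mk_ne_zero_of_span' hnt _ hspan
  have hψLu : IsUnit ψL := by
    by_contra hnu
    apply hs
    rw [hψL]
    exact smul_eq_zero_of_mem L _ ((IsLocalRing.mem_maximalIdeal _).2 hnu) _
  have hψNu : IsUnit ψN := by
    by_contra hnu
    apply ht
    rw [hψN]
    exact smul_eq_zero_of_mem N _ ((IsLocalRing.mem_maximalIdeal _).2 hnu) _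
  let w : Cyc.secFibre (CohB1.tensorMod L N) (genericPoint X) :=
    (ψL * ψN) • (Submodule.Quotient.mk
      ((CohB1.tensorMod L N).presheaf.germ U (genericPoint X) hη (SecTwist.tmul L N U a b) :
        (CohB1.tensorMod L N).presheaf.stalk (genericPoint X)) :
        Cyc.secFibre (CohB1.tensorMod L N) (genericPoint X))
  have hw : w ≠ 0 := fun h0 => hg0 ((hψLu.mul hψNu).smul_eq_zero.1 h0)
  let R : Rep L N (genericPoint X) s t w := ⟨U, hη, a, b, ψL, ψN, ψL * ψN, ha, hb, hψL, hψN, rfl⟩
  refine ⟨w, hw, fun x _ => ?_⟩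
  have key := secOrdAt_tensor hLc hNc ((genericPoint_spec ↥X).specializes (Set.mem_univ x)) hs ht hw R
  have hr : X.residue (genericPoint X) R.ψL * X.residue (genericPoint X) R.ψN *
      (X.residue (genericPoint X) R.ψT)⁻¹ = 1 := by
    change X.residue (genericPoint X) ψL * X.residue (genericPoint X) ψN *
      (X.residue (genericPoint X) (ψL * ψN))⁻¹ = 1
    rw [map_mul]
    have h1 : X.residue (genericPoint X) ψL ≠ 0 := by
      intro h0
      exact ((IsLocalRing.residue_eq_zero_iff _).1 h0) hψLu
    have h2 : X.residue (genericPoint X) ψN ≠ 0 := by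
      intro h0
      exact ((IsLocalRing.residue_eq_zero_iff _).1 h0) hψNu
    exact mul_inv_cancel₀ (mul_ne_zero h1 h2)
  rw [hr, ordAt_one] at key
  linarith


end Groth.Agent.S16092
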