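import Groth.Statements.S16095
import Groth.Agent.Lib.Helper27.BMBij
-- import your own Groth.Agent.* helpers here

set_option autoImplicit false
universe u
open CategoryTheory AlgebraicGeometry Opposite
open BMCoh

namespace Groth.Agent.S16095

/-- Let T be a pre-theory (the groups, proper push-forwards and residue maps of a twisted Borel–Moore
cohomology theory, with their conditions) with coefficients in A on a constructible class V of
Noetherian schemes, X an object, w a point of X, Y an integral object identified by e with the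
normalisation of the reduced closure of w, and φ : Y → X the normalisation map followed by the
inclusion of that closure, assumed proper (so that the normalisation map is finite). Let L be a
push-forward datum of groups of points along φ from the generic point of Y to w: maps H^i(η_Y, M(n))
→ H^i(w, M(n)) that, read through nonempty opens of the two reduced closures, are proper
push-forward along the restrictions of φ. Then each map L is bijective. (Only the push-forward
structure of T is used, so the result is stated for a pre-theory; properness of φ is a hypothesis,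
automatic when the closure of w has finite normalisation.) -/
theorem result
    (V : ObjectProperty Scheme.{u}) [BMCoh.IsConstructible V] (R : Type u) [CommRing R]
    (A : BMCoh.Coefs R) (T : BMCoh.PreTheory V R A) (X : BMCoh.Obj V) (w : X.scheme)
    [IsIntegral (X.ptSub w).scheme]
    [QuasiCompact ((X.ptSub w).scheme.fromSpecStalk (genericPoint (X.ptSub w).scheme))]
    [QuasiSeparated ((X.ptSub w).scheme.fromSpecStalk (genericPoint (X.ptSub w).scheme))]
    (Y : BMCoh.Obj V) [IsIntegral Y.scheme] (e : Y.scheme ≅ Curv2.normalization (X.ptSub w).scheme)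
    (φ : Y.scheme ⟶ X.scheme) [IsProper φ]
    (hφ : φ = e.hom ≫ Curv2.normalizationι (X.ptSub w).scheme ≫ X.ptSubι w)
    (L : T.PtPush φ (genericPoint Y.scheme) w) (M : A.Cat) (i n : ℤ) :
    Function.Bijective (L.cpt M i n).hom := by
  have hmain : ∀ (S : Scheme.{u}) [IsIntegral S]
      [QuasiCompact (S.fromSpecStalk (genericPoint S))]
      [QuasiSeparated (S.fromSpecStalk (genericPoint S))] (c : S ⟶ X.scheme)
      [IsClosedImmersion c] (e' : Y.scheme ≅ Curv2.normalization S),
      φ = e'.hom ≫ Curv2.normalizationι S ≫ c →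
      ∃ U : S.Opens, genericPoint S ∈ U ∧ ∀ (ε : (Y.ptSub (genericPoint Y.scheme)).scheme ⟶ Y.scheme)
        [IsIso ε], IsIso ((ε ≫ e'.hom ≫ Curv2.normalizationι S) ∣_ U) := by
    intro S _ _ _ c _ e' hφ'
    haveI : IsProper ((e'.hom ≫ Curv2.normalizationι S) ≫ c) := by
      rw [Category.assoc, ← hφ']; infer_instance
    haveI : IsProper (e'.hom ≫ Curv2.normalizationι S) :=
      IsProper.of_comp (e'.hom ≫ Curv2.normalizationι S) c
    haveI : IsProper (Curv2.normalizationι S) := by
      have : Curv2.normalizationι S = e'.inv ≫ (e'.hom ≫ Curv2.normalizationι S) := by simp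
      rw [this]; infer_instance
    haveI : LocallyOfFiniteType (S.fromSpecStalk (genericPoint S)).fromNormalization :=
      (inferInstance : LocallyOfFiniteType (Curv2.normalizationι S))
    have h0 : ∀ (U : S.Opens) (ε : (Y.ptSub (genericPoint Y.scheme)).scheme ⟶ Y.scheme)
        [IsIso ε], IsIso ((ε ≫ e'.hom) ∣_ (Curv2.normalizationι S ⁻¹ᵁ U)) :=
      fun U ε _ => inferInstance
    obtain ⟨U, hgU, hiso⟩ := Groth.Agent.Lib.helper27.BMBirat.exists_isIso_restrict S
    refine ⟨U, hgU, fun ε _ => ?_⟩
    have h1 : IsIso ((ε ≫ e'.hom) ∣_ (Curv2.normalizationι S ⁻¹ᵁ U)) := h0 U ε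
    have h2 : IsIso (Curv2.normalizationι S ∣_ U) := hiso
    rw [← Category.assoc, morphismRestrict_comp]
    exact @IsIso.comp_isIso _ _ _ _ _ _ _ h1 h2
  obtain ⟨U, hgU, hU⟩ := hmain (X.ptSub w).scheme (X.ptSubι w) e hφ
  haveI : AlgebraicGeometry.Surjective (Y.ptSubι (genericPoint Y.scheme)) := ⟨by
    rw [← Set.range_eq_univ, Groth.Agent.Lib.helper27.BMGeom.range_ptSubι, genericPoint_closure]⟩
  haveI : IsIso (Y.ptSubι (genericPoint Y.scheme)) :=
    isIso_of_isClosedImmersion_of_surjective _
  have hψ : Groth.Agent.Lib.helper27.BMPtPush.ptMap φ (genericPoint Y.scheme) w L.maps_pt =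
      Y.ptSubι (genericPoint Y.scheme) ≫ e.hom ≫ Curv2.normalizationι (X.ptSub w).scheme := by
    rw [← cancel_mono (X.ptSubι w), Groth.Agent.Lib.helper27.BMPtPush.ptMap_fac, hφ]
    simp only [Category.assoc]
  have hiso : IsIso (Groth.Agent.Lib.helper27.BMPtPush.ptMap φ (genericPoint Y.scheme) w
      L.maps_pt ∣_ U) := by
    rw [hψ]
    exact hU _
  have hmem : Groth.Agent.Lib.helper27.BMGeom.ptSubPt X w ∈ U :=
    Groth.Agent.Lib.helper27.BMPiece.ptSubPt_mem X w
      ⟨U, ⟨_, hgU⟩, IsConstructible.dim_open (X.ptSub w).mem inferInstance _ ⟨_, hgU⟩⟩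
  exact Groth.Agent.Lib.helper27.BMBij.cpt_bijective T φ (genericPoint Y.scheme) w L U hiso hmem
    M i n

end Groth.Agent.S16095
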