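import Groth.Statements.S16098
import Mathlib
import Groth.Agent.Lib.Helper15.FFWeight

set_option autoImplicit false
set_option linter.style.haveILetI false
universe u
open AdFn

namespace Groth.Agent.S16098

open Groth.Agent.Lib.helper10 Groth.Agent.Lib.helper15

/-- Let `K/k` be a function field of one variable (every element having finitely many poles, so that the
diagonal `K → A_K` exists), `A_K = ∏'_v (K_v, O_v)` its adele ring over all places, and `S` a
nonempty set of places. (1) For every adele `a` some `f ∈ K` has `a_v - f ∈ O_v` at every place `v ∉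
S`: `A_K` is the sum of the principal adeles and the adeles integral outside `S`. (2) An adele `b`
with `b_v = 0` for `v ∉ S` is a principal adele plus an everywhere-integral adele exactly when some
`S`-integer `f ∈ K` has `b_v - f ∈ O_v` for every `v ∈ S`. (The published statement is for a curve
over an algebraically closed field, possibly singular; here it is stated for the places of a
function field `K/k` of one variable over any field `k` algebraically closed in `K`.) -/
theorem result (k K : Type u) [Field k] [Field K]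
    [Algebra k K] (hK : FunFld.IsFunctionField k K) [AdFn.HasFinitePoles k K]
    (S : Set (FunFld.Place k K)) (hS : S.Nonempty) :
    (∀ a : AdFn.AdeleRing k K, ∃ f : K, ∀ v : FunFld.Place k K, v ∉ S →
        AdFn.AdeleRing.proj v (a - AdFn.AdeleRing.diag f) ∈ AdFn.Ov v) ∧
    (∀ b : AdFn.AdeleRing k K, (∀ v : FunFld.Place k K, v ∉ S → AdFn.AdeleRing.proj v b = 0) →
        ((∃ f : K, ∀ v : FunFld.Place k K, AdFn.AdeleRing.proj v (b - AdFn.AdeleRing.diag f) ∈ AdFn.Ov v) ↔
          ∃ f ∈ AdFn.SInt S, ∀ v ∈ S, AdFn.AdeleRing.proj v b - AdFn.toKv v f ∈ AdFn.Ov v)) := by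
  classical
  obtain ⟨P, hP⟩ := hS
  -- density approximation at each place
  have happrox : ∀ (v : FunFld.Place k K) (x : AdFn.Kv v), ∃ y : K, x - AdFn.toKv v y ∈ AdFn.Ov v := by
    intro v x
    have hopen : IsOpen {y : AdFn.Kv v | x - y ∈ (AdFn.Ov v : Set (AdFn.Kv v))} := by
      have : Continuous fun y : AdFn.Kv v => x - y := continuous_const.sub continuous_id
      exact (AdFn.isOpen_Ov v).preimage this
    have hne : ({y : AdFn.Kv v | x - y ∈ (AdFn.Ov v : Set (AdFn.Kv v))}).Nonempty :=
      ⟨x, by simp [(AdFn.Ov v).zero_mem]⟩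
    have hdense : DenseRange ((↑) : WithVal v.1 → UniformSpace.Completion (WithVal v.1)) :=
      UniformSpace.Completion.denseRange_coe
    obtain ⟨y, hy⟩ := hdense.exists_mem_open hopen hne
    exact ⟨(WithVal.equiv v.1) y, hy⟩
  -- Riemann: `A(mP) + K = A`
  obtain ⟨N, hN⟩ := FF.riemann hK
  have hdP : 0 < P.deg := FF.Place.deg_pos hK P
  set m : ℕ := N.toNat with hm
  have hdelta : FF.delta (Finsupp.single P (m : ℤ) : FunFld.Divisor k K) = FunFld.genus k K := by
    unfold FF.delta
    apply hN
    rw [FF.deg_single]
    have h1 : N ≤ (m : ℤ) := Int.self_le_toNat N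
    have h2 : (1 : ℤ) ≤ (P.deg : ℤ) := by exact_mod_cast hdP
    nlinarith [Int.natCast_nonneg m]
  have hAm := FF.AD_sup_XK_eq_adele hK hdelta
  refine ⟨?_, ?_⟩
  · intro a
    choose xs hxs using fun v => happrox v (a.1 v)
    have hTfin : {v : FunFld.Place k K | ¬ a.1 v ∈ (AdFn.Ov v : Set (AdFn.Kv v))}.Finite := by
      have := a.2
      rwa [Filter.eventually_cofinite] at this
    set r : FunFld.Place k K → K := fun v => if a.1 v ∈ AdFn.Ov v then 0 else xs v with hr
    have hr_mem : r ∈ FunFld.adele k K := by
      rw [FF.mem_adele_iff]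
      apply hTfin.subset
      intro v hv
      by_contra hne
      apply hv
      have : r v = 0 := by
        simp only [hr]
        rw [if_pos]
        by_contra h
        exact hne h
      rw [this, Valuation.map_zero]
      exact zero_le_one
    rw [← hAm] at hr_mem
    obtain ⟨α, hα, _, ⟨f, rfl⟩, hsum⟩ := Submodule.mem_sup.mp hr_mem
    refine ⟨f, ?_⟩
    intro v hvS
    have hvP : v ≠ P := fun h => hvS (h ▸ hP)
    have hαv : v.1 (α v) ≤ 1 := by
      have := hα v
      rwa [Finsupp.single_apply, if_neg (Ne.symm hvP), WithZero.exp_zero] at this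
    have hrv : r v - f = α v := by
      have := congrFun hsum v
      rw [Pi.add_apply, FF.diag_apply] at this
      rw [← this]; ring
    rw [map_sub, AdFn.AdeleRing.proj_diag, AdFn.AdeleRing.proj_apply]
    by_cases hav : a.1 v ∈ AdFn.Ov v
    · have hr0 : r v = 0 := by simp only [hr]; rw [if_pos hav]
      rw [hr0, zero_sub] at hrv
      have hf : v.1 f ≤ 1 := by
        have : f = - α v := by rw [← hrv]; ring
        rw [this, Valuation.map_neg]; exact hαv
      exact sub_mem hav ((AdFn.toKv_mem_Ov v f).2 hf)
    · have hr1 : r v = xs v := by simp only [hr]; rw [if_neg hav]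
      rw [hr1] at hrv
      have h1 : AdFn.toKv v (xs v - f) ∈ AdFn.Ov v := by
        rw [AdFn.toKv_mem_Ov, hrv]; exact hαv
      have h2 : a.1 v - AdFn.toKv v f = (a.1 v - AdFn.toKv v (xs v)) + AdFn.toKv v (xs v - f) := by
        rw [map_sub]; ring
      rw [h2]
      exact (AdFn.Ov v).add_mem _ _ (hxs v) h1
  · intro b hb
    constructor
    · rintro ⟨f, hf⟩
      refine ⟨f, ?_, fun v _ => ?_⟩
      · intro v hv
        have := hf v
        rw [map_sub, AdFn.AdeleRing.proj_diag, hb v hv, zero_sub] at this
        have h2 : AdFn.toKv v f ∈ AdFn.Ov v := by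
          have := (AdFn.Ov v).neg_mem _ this
          rwa [neg_neg] at this
        exact (AdFn.toKv_mem_Ov v f).1 h2
      · have := hf v
        rwa [map_sub, AdFn.AdeleRing.proj_diag] at this
    · rintro ⟨f, hfS, hf⟩
      refine ⟨f, fun v => ?_⟩
      rw [map_sub, AdFn.AdeleRing.proj_diag]
      by_cases hv : v ∈ S
      · exact hf v hv
      · rw [hb v hv, zero_sub]
        exact (AdFn.Ov v).neg_mem _ ((AdFn.toKv_mem_Ov v f).2 (hfS v hv))

end Groth.Agent.S16098
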