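import Groth.Statements.S16099
import Mathlib
import Groth.Agent.Lib.Helper15.FFWeight

set_option autoImplicit false
set_option linter.style.haveILetI false
universe u
open FunFld

namespace Groth.Agent.S16099

open Groth.Agent.Lib.helper10 Groth.Agent.Lib.helper15

/-- For a function field `K/k` of one variable of genus `g` and any place `P`, the `k`-space `K /
(O_{\{P\}} + O_P)` is finite-dimensional of dimension `g` (the number of Weierstrass gaps when `P`
is rational), where `O_{\{P\}}` is the ring of elements of `K` integral at every place other than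
`P` and `O_P` is the valuation ring of `P` (written as the elements integral at every place outside
the complement of `\{P\}`). (The published example is for a curve over an algebraically closed field
and is stated with completions at `P`; this is the equivalent form inside `K`, over any field `k`
algebraically closed in `K`.) -/
theorem result (k K : Type u) [Field k] [Field K]
    [Algebra k K] (hK : FunFld.IsFunctionField k K) (P : FunFld.Place k K) :
    FiniteDimensional k (K ⧸ (Subalgebra.toSubmodule (AdFn.SInt ({P} : Set (FunFld.Place k K))) ⊔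
        Subalgebra.toSubmodule (AdFn.SInt (({P} : Set (FunFld.Place k K))ᶜ)))) ∧
    Module.finrank k (K ⧸ (Subalgebra.toSubmodule (AdFn.SInt ({P} : Set (FunFld.Place k K))) ⊔
        Subalgebra.toSubmodule (AdFn.SInt (({P} : Set (FunFld.Place k K))ᶜ)))) = FunFld.genus k K := by
  classical
  set U : Submodule k K := Subalgebra.toSubmodule (AdFn.SInt ({P} : Set (FunFld.Place k K))) ⊔
    Subalgebra.toSubmodule (AdFn.SInt (({P} : Set (FunFld.Place k K))ᶜ)) with hU
  let φ : K →ₗ[k] (FunFld.Place k K → K) := LinearMap.single k (fun _ => K) P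
  have hφP : ∀ x, φ x P = x := fun x => by
    change (Pi.single P x : FunFld.Place k K → K) P = x
    exact Pi.single_eq_same (M := fun _ => K) P x
  have hφQ : ∀ x Q, Q ≠ P → φ x Q = 0 := fun x Q h => by
    change (Pi.single P x : FunFld.Place k K → K) Q = 0
    exact Pi.single_eq_of_ne (M := fun _ => K) h x
  obtain ⟨N, hN⟩ := FF.riemann hK
  have hdP : 0 < P.deg := FF.Place.deg_pos hK P
  set m : ℕ := N.toNat with hm
  have hdelta : FF.delta (Finsupp.single P (m : ℤ) : FunFld.Divisor k K) = FunFld.genus k K := by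
    unfold FF.delta
    apply hN
    rw [FF.deg_single]
    have h1 : N ≤ (m : ℤ) := Int.self_le_toNat N
    have h2 : (1 : ℤ) ≤ (P.deg : ℤ) := by exact_mod_cast hdP
    nlinarith [Int.natCast_nonneg m]
  have hAm := FF.AD_sup_XK_eq_adele hK hdelta
  have hW : ∀ x ∈ (⊤ : Submodule k K), φ x ∈ FunFld.adele k K := by
    intro x _
    rw [FF.mem_adele_iff]
    apply (Set.finite_singleton P).subset
    intro Q hQ
    by_contra hne
    apply hQ
    rw [hφQ x Q hne, Valuation.map_zero]
    exact zero_le_one
  have hU' : ∀ x ∈ (⊤ : Submodule k K), x ∈ U → φ x ∈ FunFld.AD (0 : FunFld.Divisor k K) ⊔ FF.XK k K := by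
    intro x _ hx
    obtain ⟨u, hu, v, hv, rfl⟩ := Submodule.mem_sup.mp hx
    refine Submodule.mem_sup.mpr ⟨φ (u + v) - FunFld.diag k K u, ?_, FunFld.diag k K u, ⟨u, rfl⟩,
      by abel⟩
    intro Q
    rw [Finsupp.coe_zero, Pi.zero_apply, WithZero.exp_zero, Pi.sub_apply, FF.diag_apply]
    by_cases hQ : Q = P
    · subst hQ
      rw [hφP, add_sub_cancel_left]
      exact hv Q (fun h => h rfl)
    · rw [hφQ _ Q hQ, zero_sub, Valuation.map_neg]
      exact hu Q hQ
  have hinj : ∀ x ∈ (⊤ : Submodule k K), φ x ∈ FunFld.AD (0 : FunFld.Divisor k K) ⊔ FF.XK k K → x ∈ U := by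
    intro x _ hx
    obtain ⟨α, hα, _, ⟨y, rfl⟩, hsum⟩ := Submodule.mem_sup.mp hx
    have hy : y ∈ Subalgebra.toSubmodule (AdFn.SInt ({P} : Set (FunFld.Place k K))) := by
      intro Q hQ
      have h1 := congrFun hsum Q
      rw [Pi.add_apply, FF.diag_apply, hφQ x Q hQ] at h1
      have h2 : y = -α Q := by rw [eq_neg_iff_add_eq_zero, add_comm]; exact h1
      rw [h2, Valuation.map_neg]
      have := hα Q
      rwa [Finsupp.coe_zero, Pi.zero_apply, WithZero.exp_zero] at this
    have hxy : x - y ∈ Subalgebra.toSubmodule (AdFn.SInt (({P} : Set (FunFld.Place k K))ᶜ)) := by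
      intro Q hQ
      have hQP : Q = P := by
        by_contra hne
        exact hQ hne
      subst hQP
      have h1 := congrFun hsum Q
      rw [Pi.add_apply, FF.diag_apply, hφP] at h1
      have h2 : x - y = α Q := by rw [← h1]; ring
      rw [h2]
      have := hα Q
      rwa [Finsupp.coe_zero, Pi.zero_apply, WithZero.exp_zero] at this
    have : x = y + (x - y) := by ring
    rw [this]
    exact Submodule.add_mem_sup hy hxy
  have hsurj : ∀ β ∈ FunFld.adele k K, ∃ x ∈ (⊤ : Submodule k K),
      β - φ x ∈ FunFld.AD (0 : FunFld.Divisor k K) ⊔ FF.XK k K := by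
    intro β hβ
    rw [← hAm] at hβ
    obtain ⟨α, hα, _, ⟨y, rfl⟩, rfl⟩ := Submodule.mem_sup.mp hβ
    refine ⟨α P, Submodule.mem_top, ?_⟩
    refine Submodule.mem_sup.mpr ⟨α - φ (α P), ?_, FunFld.diag k K y, ⟨y, rfl⟩, by abel⟩
    intro Q
    rw [Finsupp.coe_zero, Pi.zero_apply, WithZero.exp_zero, Pi.sub_apply]
    by_cases hQ : Q = P
    · subst hQ
      rw [hφP, sub_self, Valuation.map_zero]
      exact zero_le_one
    · rw [hφQ _ Q hQ, sub_zero]
      have := hα Q
      rwa [Finsupp.single_apply, if_neg (Ne.symm hQ), WithZero.exp_zero] at this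
  have key := RD.relFin_of_bijective φ (U := U) (W := ⊤)
    (U' := FunFld.AD (0 : FunFld.Divisor k K) ⊔ FF.XK k K) (W' := FunFld.adele k K) hW hU' hinj hsurj
  have h0 := FF.relFin_adele hK (0 : FunFld.Divisor k K)
  have hd0 : FF.delta (0 : FunFld.Divisor k K) = 0 := by
    unfold FF.delta
    rw [FF.deg_zero, FF.ell_zero hK]
    simp
  rw [hd0, sub_zero] at h0
  have hfin : RD.RelFin U ⊤ := key.1.mpr h0.1
  have hdim : RD.relDim U ⊤ = FunFld.genus k K := by
    have := h0.2
    rw [← key.2] at this
    exact_mod_cast this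
  let e : RD.RQ U ⊤ ≃ₗ[k] K ⧸ U :=
    Submodule.Quotient.equiv _ _ (Submodule.topEquiv : (⊤ : Submodule k K) ≃ₗ[k] K) (by
      ext x
      simp only [Submodule.mem_map, Submodule.mem_comap, Submodule.subtype_apply,
        Submodule.topEquiv_apply]
      constructor
      · rintro ⟨y, hy, rfl⟩
        exact hy
      · intro hx
        exact ⟨⟨x, Submodule.mem_top⟩, hx, rfl⟩)
  haveI : FiniteDimensional k (RD.RQ U ⊤) := hfin
  refine ⟨Module.Finite.equiv e, ?_⟩
  rw [← e.finrank_eq]
  exact hdim

end Groth.Agent.S16099
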