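import Groth.Statements.S16100
import Groth.Agent.S16099

set_option autoImplicit false
universe u
open AdFn

namespace Groth.Agent.S16100

/-- For a function field `K/k` of one variable of genus `g` and any place `P` with completion `K_P` and
valuation ring `O_P ⊆ K_P`, the `k`-space `K_P / (O_{\{P\}} + O_P)`, where `O_{\{P\}} ⊆ K ⊆ K_P` is
the ring of elements of `K` integral at every place other than `P`, is finite-dimensional of
dimension `g` (the number of Weierstrass gaps when `P` is rational). (The published example is for a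
curve over an algebraically closed field; here any field `k` algebraically closed in `K` and any
place `P` are allowed.) -/
theorem result (k K : Type u) [Field k] [Field K]
    [Algebra k K] (hK : FunFld.IsFunctionField k K) (P : FunFld.Place k K) :
    FiniteDimensional k (AdFn.Kv P ⧸
        (Subalgebra.toSubmodule ((AdFn.SInt ({P} : Set (FunFld.Place k K))).map
            (IsScalarTower.toAlgHom k K (AdFn.Kv P))) ⊔
          Submodule.span k (AdFn.Ov P : Set (AdFn.Kv P)))) ∧
    Module.finrank k (AdFn.Kv P ⧸
        (Subalgebra.toSubmodule ((AdFn.SInt ({P} : Set (FunFld.Place k K))).map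
            (IsScalarTower.toAlgHom k K (AdFn.Kv P))) ⊔
          Submodule.span k (AdFn.Ov P : Set (AdFn.Kv P)))) = FunFld.genus k K := by
  classical
  -- notation
  set A : Submodule k (AdFn.Kv P) :=
    Subalgebra.toSubmodule ((AdFn.SInt ({P} : Set (FunFld.Place k K))).map
      (IsScalarTower.toAlgHom k K (AdFn.Kv P))) with hA
  set Oh : Submodule k (AdFn.Kv P) := Submodule.span k (AdFn.Ov P : Set (AdFn.Kv P)) with hOh
  set B : Submodule k K := Subalgebra.toSubmodule (AdFn.SInt ({P} : Set (FunFld.Place k K))) ⊔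
      Subalgebra.toSubmodule (AdFn.SInt (({P} : Set (FunFld.Place k K))ᶜ)) with hB
  obtain ⟨h1, h2⟩ := Groth.Agent.S16099.result k K hK P
  -- span of `Ov` is `Ov`
  have hOv_mem : ∀ x : AdFn.Kv P, x ∈ Oh ↔ x ∈ AdFn.Ov P := by
    intro x
    constructor
    · intro hx
      refine Submodule.span_induction (p := fun y _ => y ∈ AdFn.Ov P) (fun y hy => hy) ?_ ?_ ?_ hx
      · exact (AdFn.Ov P).zero_mem
      · intro a b _ _ ha hb
        exact (AdFn.Ov P).add_mem _ _ ha hb
      · intro c y _ hy
        rw [Algebra.smul_def]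
        refine (AdFn.Ov P).mul_mem _ _ ?_ hy
        rw [IsScalarTower.algebraMap_apply k K (AdFn.Kv P)]
        exact (AdFn.toKv_mem_Ov P _).2 (P.2.1 c)
    · intro hx
      exact Submodule.subset_span hx
  -- the map
  let f : K →ₗ[k] (AdFn.Kv P ⧸ (A ⊔ Oh)) :=
    (A ⊔ Oh).mkQ.comp (IsScalarTower.toAlgHom k K (AdFn.Kv P)).toLinearMap
  have hf_apply : ∀ y : K, f y = (A ⊔ Oh).mkQ (AdFn.toKv P y) := fun y => rfl
  have hsurj : Function.Surjective f := by
    intro z
    obtain ⟨x, rfl⟩ := (A ⊔ Oh).mkQ_surjective z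
    -- approximate `x` by an element of `K`
    have hopen : IsOpen {y : AdFn.Kv P | y - x ∈ (AdFn.Ov P : Set (AdFn.Kv P))} := by
      have : Continuous fun y : AdFn.Kv P => y - x := continuous_id.sub continuous_const
      exact (AdFn.isOpen_Ov P).preimage this
    have hne : ({y : AdFn.Kv P | y - x ∈ (AdFn.Ov P : Set (AdFn.Kv P))}).Nonempty :=
      ⟨x, by simp [(AdFn.Ov P).zero_mem]⟩
    have hdense : DenseRange ((↑) : WithVal P.1 → UniformSpace.Completion (WithVal P.1)) :=
      UniformSpace.Completion.denseRange_coe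
    obtain ⟨y, hy⟩ := hdense.exists_mem_open hopen hne
    refine ⟨(WithVal.equiv P.1) y, ?_⟩
    rw [hf_apply]
    rw [Submodule.mkQ_apply, Submodule.mkQ_apply, Submodule.Quotient.eq]
    refine Submodule.mem_sup_right ?_
    rw [hOv_mem]
    exact hy
  have hker : LinearMap.ker f = B := by
    ext y
    rw [LinearMap.mem_ker, hf_apply, Submodule.mkQ_apply, Submodule.Quotient.mk_eq_zero]
    constructor
    · intro hy
      obtain ⟨a, ha, o, ho, hao⟩ := Submodule.mem_sup.mp hy
      rw [hOv_mem] at ho
      obtain ⟨a', ha', rfl⟩ := ha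
      have hsub : AdFn.toKv P (y - a') = o := by
        rw [map_sub, ← hao]
        simp [AdFn.toKv]
      have hval : P.1 (y - a') ≤ 1 := (AdFn.toKv_mem_Ov P _).1 (hsub ▸ ho)
      have : y = a' + (y - a') := by ring
      rw [this]
      refine Submodule.add_mem _ (Submodule.mem_sup_left ha') (Submodule.mem_sup_right ?_)
      intro v hv
      have hvP : v = P := by
        by_contra hne
        exact hv hne
      rw [hvP]
      exact hval
    · intro hy
      obtain ⟨a, ha, b, hb, rfl⟩ := Submodule.mem_sup.mp hy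
      rw [map_add]
      refine Submodule.add_mem _ (Submodule.mem_sup_left ⟨a, ha, rfl⟩) (Submodule.mem_sup_right ?_)
      rw [hOv_mem]
      refine (AdFn.toKv_mem_Ov P b).2 ?_
      exact hb P (by simp)
  let e : (K ⧸ B) ≃ₗ[k] (AdFn.Kv P ⧸ (A ⊔ Oh)) :=
    (Submodule.quotEquivOfEq _ _ hker.symm).trans (f.quotKerEquivOfSurjective hsurj)
  refine ⟨?_, ?_⟩
  · exact Module.Finite.equiv e
  · rw [← e.finrank_eq]
    exact h2

end Groth.Agent.S16100
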