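import Groth.Statements.S16102
import Mathlib
import Groth.Agent.Lib.Helper18.NNPush

set_option autoImplicit false
universe u
open Coherent

namespace Groth.Agent.S16102

open Groth.Agent.Lib.Helper18.NNLocal Groth.Agent.Lib.Helper18.NNRows
  Groth.Agent.Lib.Helper18.SplitAlg Groth.Agent.Lib.Helper18.NNPush
  Groth.Agent.Lib.Helper18.NNGen
  Groth.Agent.Lib.helper25.FLFLocus

open AlgebraicGeometry CategoryTheory Scheme.Modules

open AlgebraicGeometry CategoryTheory Scheme.Modules in
/-- p = 2: let π : X → Y be proper of finite presentation and F a quasi-coherent O_X-module of finite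
presentation, flat over Y. Suppose that for every point y of Y, H^2(X_y, F|_{X_y}) = 0 (cohomology
of the restriction of F to the scheme-theoretic fibre) and the degree-0 base change map of the fibre
square at y, κ(y)^* π_* F → (X_y → Spec κ(y))_* (F|_{X_y}) — the adjoint of π_* of the unit F → ι_*
ι^* F for ι : X_y → X, followed by the identification π_* ι_* = (Spec κ(y) → Y)_* (X_y → Spec
κ(y))_* — is an epimorphism. Then R^1 π_* F, the first right derived functor of π_* on O_X-modules
applied to F, is a finite locally free O_Y-module. (The case p = 2 of the source's statement for an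
integer p, whose surjectivity hypothesis in degree p - 2 concerns a higher base change map when p is
at least 3 and is empty when p is at most 1.) -/
theorem result
    {X Y : Scheme.{u}} (π : X ⟶ Y) [IsProper π] [LocallyOfFinitePresentation π]
    [HasInjectiveResolutions X.Modules]
    (F : X.Modules) [Coh.IsQCoh F] (hfp : CohB1.IsFP F) (hfl : FlatMod.IsFlatOver π F)
    (h2 : ∀ y : Y, Subsingleton (CohIII.fiberH π F y 2))
    (h0 : ∀ y : Y, Epi (((pullbackPushforwardAdjunction (Y.fromSpecResidueField y)).homEquiv ((pushforward π).obj F)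
            ((pushforward (π.fiberToSpecResidueField y)).obj ((pullback (π.fiberι y)).obj F))).symm
          ((pushforward π).map ((pullbackPushforwardAdjunction (π.fiberι y)).unit.app F) ≫
            (pushforwardComp (π.fiberι y) π).hom.app ((pullback (π.fiberι y)).obj F) ≫
            (pushforwardCongr (π.fiber_fac y)).hom.app ((pullback (π.fiberι y)).obj F) ≫
            (pushforwardComp (π.fiberToSpecResidueField y) (Y.fromSpecResidueField y)).inv.app ((pullback (π.fiberι y)).obj F)))) :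
    FlatMod.IsFinLocFree ((Coh.Rpush π 1).obj F) := by
  classical
  haveI : F.IsFinitePresentation := hfp
  haveI : F.IsQuasicoherent := inferInstance
  haveI : ((Coh.Rpush π 1).obj F).IsQuasicoherent := Groth.Agent.S0030.result π F 1
  intro y
  obtain ⟨W, hW', hyW, -⟩ := TopologicalSpace.Opens.isBasis_iff_nbhd.mp Y.isBasis_affineOpens
    (show y ∈ (⊤ : Y.Opens) from trivial)
  have hW : IsAffineOpen W := hW'
  obtain ⟨K, hLff, -, -, hK, Θ₀, hΘ₀⟩ := master_push π F hfp hfl hW
  obtain ⟨Θ1⟩ := chart_rpush₀ π F hW K hK 1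
  obtain ⟨a2, hya2, -, hf2, -⟩ := exists_splits_of_vanish π hW F K hLff hK y hyW 2 (h2 y)
  have hrel2 : (ComplexShape.up ℤ).Rel ((1 : ℕ) : ℤ) ((2 : ℕ) : ℤ) := by
    show ((1 : ℕ) : ℤ) + 1 = ((2 : ℕ) : ℤ)
    norm_num
  have hg1 : GSplit (K.sc ((1 : ℕ) : ℤ)) a2 := (fsplit_iff_gsplit K hrel2 a2).mp hf2
  obtain ⟨a0, hya0, hg0⟩ := exists_gsplit_of_epi₀ π F hW K hLff Θ₀ hΘ₀ y hyW (h0 y)
  have hrel1 : (ComplexShape.up ℤ).Rel ((0 : ℕ) : ℤ) ((1 : ℕ) : ℤ) := by
    show ((0 : ℕ) : ℤ) + 1 = ((1 : ℕ) : ℤ)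
    norm_num
  have hf1 : FSplit (K.sc ((1 : ℕ) : ℤ)) a0 := (fsplit_iff_gsplit K hrel1 a0).mpr hg0
  have hmul : Y.basicOpen (a0 * a2) = Y.basicOpen a0 ⊓ Y.basicOpen a2 :=
    Scheme.basicOpen_mul Y a0 a2
  have hle0 : Y.basicOpen (a0 * a2) ≤ Y.basicOpen a0 := hmul.le.trans inf_le_left
  have hle2 : Y.basicOpen (a0 * a2) ≤ Y.basicOpen a2 := hmul.le.trans inf_le_right
  haveI : Module.Finite Γ(Y, W) (K.sc ((1 : ℕ) : ℤ)).X₂ := (hLff _).1
  haveI : Module.Free Γ(Y, W) (K.sc ((1 : ℕ) : ℤ)).X₂ := (hLff _).2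
  obtain ⟨p1, p2⟩ := projective_sections_basicOpen ((Coh.Rpush π 1).obj F) hW
    (K.sc ((1 : ℕ) : ℤ)) Θ1 (a0 * a2) a0 a2 hf1 hg1 hle0 hle2
  exact freeNear_of_projective_sections _ (hW.basicOpen (a0 * a2)) p1 p2 y
    (by rw [hmul]; exact ⟨hya0, hya2⟩)

end Groth.Agent.S16102
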