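import Groth.Statements.S16103
import Mathlib
import Groth.Agent.Lib.Helper18.NNMaster0

set_option autoImplicit false
universe u
open Coherent

namespace Groth.Agent.S16103

open AlgebraicGeometry CategoryTheory Scheme.Modules
open Groth.Agent.Lib.Helper18.NNLocal Groth.Agent.Lib.Helper18.NNRows
  Groth.Agent.Lib.Helper18.SplitAlg Groth.Agent.Lib.Helper18.NNMaster0

open AlgebraicGeometry CategoryTheory Scheme.Modules in
/-- Let π : X → Y be proper of finite presentation, F a quasi-coherent O_X-module of finite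
presentation, flat over Y, and q a natural number such that H^q(X_y, F|_{X_y}) = 0 and H^{q+2}(X_y,
F|_{X_y}) = 0 for every point y of Y (cohomology of the restriction of F to the scheme-theoretic
fibre). Then R^{q+1} π_* F, the (q+1)-st right derived functor of π_* on O_X-modules applied to F,
is a finite locally free O_Y-module. (The source's statement, with p = q + 2, asks instead of the
vanishing in degree q only that the degree-q base change map to the fibre be surjective at every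
point; the vanishing assumed here is the special case in which that map has zero target.) -/
theorem result
    {X Y : Scheme.{u}} (π : X ⟶ Y) [IsProper π] [LocallyOfFinitePresentation π]
    [HasInjectiveResolutions X.Modules]
    (F : X.Modules) [Coh.IsQCoh F] (hfp : CohB1.IsFP F) (hfl : FlatMod.IsFlatOver π F) (q : ℕ)
    (hq : ∀ y : Y, Subsingleton (CohIII.fiberH π F y q))
    (hq2 : ∀ y : Y, Subsingleton (CohIII.fiberH π F y (q + 2))) :
    FlatMod.IsFinLocFree ((Coh.Rpush π (q + 1)).obj F) := by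
  classical
  haveI : ∀ n, ((Coh.Rpush π n).obj F).IsQuasicoherent := fun n => Groth.Agent.S0030.result π F n
  intro y
  obtain ⟨W, hW', hyW, -⟩ := TopologicalSpace.Opens.isBasis_iff_nbhd.mp Y.isBasis_affineOpens
    (show y ∈ (⊤ : Y.Opens) from trivial)
  have hW : IsAffineOpen W := hW'
  obtain ⟨L, hLff, -, -, hL, hΘ⟩ := master₀ π F hfp hfl hW
  obtain ⟨Θ1⟩ := hΘ (q + 1)
  obtain ⟨a2, hya2, -, hf2, -⟩ := exists_splits_of_vanish π hW F L hLff hL y hyW (q + 2) (hq2 y)
  obtain ⟨a0, hya0, hg0, -, -⟩ := exists_splits_of_vanish π hW F L hLff hL y hyW q (hq y)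
  have hrel0 : (ComplexShape.up ℤ).Rel (q : ℤ) ((q + 1 : ℕ) : ℤ) := by
    show (q : ℤ) + 1 = ((q + 1 : ℕ) : ℤ)
    push_cast; ring
  have hrel1 : (ComplexShape.up ℤ).Rel ((q + 1 : ℕ) : ℤ) ((q + 2 : ℕ) : ℤ) := by
    show ((q + 1 : ℕ) : ℤ) + 1 = ((q + 2 : ℕ) : ℤ)
    push_cast; ring
  have hf1 : FSplit (L.sc ((q + 1 : ℕ) : ℤ)) a0 := (fsplit_iff_gsplit L hrel0 a0).mpr hg0
  have hg1 : GSplit (L.sc ((q + 1 : ℕ) : ℤ)) a2 := (fsplit_iff_gsplit L hrel1 a2).mp hf2
  have hmul : Y.basicOpen (a0 * a2) = Y.basicOpen a0 ⊓ Y.basicOpen a2 :=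
    Scheme.basicOpen_mul Y a0 a2
  haveI : Module.Finite Γ(Y, W) (L.sc ((q + 1 : ℕ) : ℤ)).X₂ := (hLff _).1
  haveI : Module.Free Γ(Y, W) (L.sc ((q + 1 : ℕ) : ℤ)).X₂ := (hLff _).2
  obtain ⟨p1, p2⟩ := projective_sections_basicOpen ((Coh.Rpush π (q + 1)).obj F) hW
    (L.sc ((q + 1 : ℕ) : ℤ)) Θ1 (a0 * a2) a0 a2 hf1 hg1 (hmul.le.trans inf_le_left)
    (hmul.le.trans inf_le_right)
  exact freeNear_of_projective_sections _ (hW.basicOpen (a0 * a2)) p1 p2 y
    (by rw [hmul]; exact ⟨hya0, hya2⟩)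

end Groth.Agent.S16103
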