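import Groth.Statements.S16104
import Mathlib

set_option autoImplicit false
universe u v
open LunaSt

namespace Groth.Agent.S16104

/-- Case of local rings. Let φ : A → B be a local homomorphism of Noetherian local rings whose composite
A → B/m_B² is surjective (the first infinitesimal neighbourhoods give a closed immersion), and
assume that A/m_A^(n+1) and B/m_B^(n+1) have the same length for every n (the associated graded
modules of the two maximal ideals have pieces of the same dimension over the common residue field).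
Then for every n the composite A → B/m_B^(n+1) is surjective with kernel m_A^(n+1): φ identifies all
infinitesimal neighbourhoods. (The published statement is for a pointed morphism of Noetherian local
algebraic stacks; its proof reduces to this case of local rings.) -/
theorem result
    (A : Type u) (B : Type v) [CommRing A] [CommRing B] [IsLocalRing A] [IsLocalRing B]
    [IsNoetherianRing A] [IsNoetherianRing B] (φ : A →+* B) [IsLocalHom φ]
    (h1 : Function.Surjective ((Ideal.Quotient.mk (IsLocalRing.maximalIdeal B ^ 2)).comp φ))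
    (hlen : ∀ n : ℕ, Module.length A (A ⧸ IsLocalRing.maximalIdeal A ^ (n + 1)) =
      Module.length B (B ⧸ IsLocalRing.maximalIdeal B ^ (n + 1))) (n : ℕ) :
    Function.Surjective ((Ideal.Quotient.mk (IsLocalRing.maximalIdeal B ^ (n + 1))).comp φ) ∧
      RingHom.ker ((Ideal.Quotient.mk (IsLocalRing.maximalIdeal B ^ (n + 1))).comp φ) =
        IsLocalRing.maximalIdeal A ^ (n + 1) := by
  classical
  set mA := IsLocalRing.maximalIdeal A with hmA
  set mB := IsLocalRing.maximalIdeal B with hmB
  -- Step 0: every b is congruent to some φ a modulo mB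
  have h0 : ∀ b : B, ∃ a : A, φ a - b ∈ mB := by
    intro b
    obtain ⟨a, ha⟩ := h1 (Ideal.Quotient.mk _ b)
    refine ⟨a, ?_⟩
    have : φ a - b ∈ mB ^ 2 := by
      rw [← Ideal.Quotient.eq]
      exact ha
    exact Ideal.pow_le_self (by norm_num) this
  -- Step 1: mB = map φ mA
  have hmap_le : Ideal.map φ mA ≤ mB := by
    rw [Ideal.map_le_iff_le_comap]
    intro x hx
    rw [Ideal.mem_comap]
    exact map_nonunit φ x hx
  have hmB_le : mB ≤ Ideal.map φ mA := by
    refine Submodule.le_of_le_smul_of_le_jacobson_bot (I := mB) (IsNoetherian.noetherian _)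
      (IsLocalRing.maximalIdeal_le_jacobson _) ?_
    intro b hb
    obtain ⟨a, ha⟩ := h1 (Ideal.Quotient.mk _ b)
    have hab : φ a - b ∈ mB ^ 2 := by
      rw [← Ideal.Quotient.eq]
      exact ha
    have hφa : φ a ∈ mB := by
      have : φ a = (φ a - b) + b := by ring
      rw [this]
      exact Ideal.add_mem _ (Ideal.pow_le_self (by norm_num) hab) hb
    have haA : a ∈ mA := by
      rw [hmA, IsLocalRing.mem_maximalIdeal, mem_nonunits_iff]
      intro hu
      exact (IsLocalRing.mem_maximalIdeal _).1 hφa (hu.map φ)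
    have : b = φ a + (b - φ a) := by ring
    rw [this]
    refine Submodule.add_mem_sup (Ideal.mem_map_of_mem φ haA) ?_
    have h2 : b - φ a ∈ mB ^ 2 := by
      have : b - φ a = -(φ a - b) := by ring
      rw [this]
      exact Ideal.neg_mem_iff _ |>.2 hab
    rw [smul_eq_mul, ← pow_two]
    exact h2
  have hmBeq : mB = Ideal.map φ mA := le_antisymm hmB_le hmap_le
  -- Step 2: approximation modulo higher powers
  have hstep : ∀ m : ℕ, ∀ y ∈ mB ^ m, ∃ a ∈ mA ^ m, φ a - y ∈ mB ^ (m + 1) := by
    intro m y hy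
    have hy' : y ∈ Ideal.map φ (mA ^ m) := by
      rw [Ideal.map_pow, ← hmBeq]
      exact hy
    have hmapm : Ideal.map φ (mA ^ m) = mB ^ m := by rw [Ideal.map_pow, ← hmBeq]
    rw [Ideal.map] at hy'
    refine Submodule.span_induction (p := fun y _ => ∃ a ∈ mA ^ m, φ a - y ∈ mB ^ (m + 1))
      ?_ ?_ ?_ ?_ hy'
    · rintro _ ⟨x, hx, rfl⟩
      exact ⟨x, hx, by rw [sub_self]; exact Ideal.zero_mem _⟩
    · exact ⟨0, Ideal.zero_mem _, by rw [map_zero, sub_self]; exact Ideal.zero_mem _⟩
    · rintro y z _ _ ⟨a, ha, hay⟩ ⟨c, hc, hcz⟩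
      refine ⟨a + c, Ideal.add_mem _ ha hc, ?_⟩
      have : φ (a + c) - (y + z) = (φ a - y) + (φ c - z) := by rw [map_add]; ring
      rw [this]
      exact Ideal.add_mem _ hay hcz
    · rintro b y hyspan ⟨a, ha, hay⟩
      obtain ⟨a', ha'⟩ := h0 b
      refine ⟨a' * a, Ideal.mul_mem_left _ _ ha, ?_⟩
      have hym : y ∈ mB ^ m := by
        rw [← hmapm]
        exact hyspan
      have : φ (a' * a) - b • y = φ a' * (φ a - y) + (φ a' - b) * y := by
        rw [map_mul, smul_eq_mul]; ring
      rw [this]
      refine Ideal.add_mem _ (Ideal.mul_mem_left _ _ hay) ?_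
      rw [pow_succ']
      exact Ideal.mul_mem_mul ha' hym
  have happrox : ∀ m : ℕ, ∀ b : B, ∃ a : A, φ a - b ∈ mB ^ (m + 1) := by
    intro m
    induction m with
    | zero =>
      intro b
      obtain ⟨a, ha⟩ := h0 b
      exact ⟨a, by simpa using ha⟩
    | succ m ih =>
      intro b
      obtain ⟨a, ha⟩ := ih b
      obtain ⟨c, -, hc⟩ := hstep (m + 1) (b - φ a) (by
        have : b - φ a = -(φ a - b) := by ring
        rw [this]
        exact (Ideal.neg_mem_iff _).2 ha)
      refine ⟨a + c, ?_⟩
      have : φ (a + c) - b = φ c - (b - φ a) := by rw [map_add]; ring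
      rw [this]
      exact hc
  have hsurj : Function.Surjective ((Ideal.Quotient.mk (mB ^ (n + 1))).comp φ) := by
    intro x
    obtain ⟨b, rfl⟩ := Ideal.Quotient.mk_surjective x
    obtain ⟨a, ha⟩ := happrox n b
    exact ⟨a, (Ideal.Quotient.eq).2 ha⟩
  refine ⟨hsurj, ?_⟩
  set ψ := (Ideal.Quotient.mk (mB ^ (n + 1))).comp φ with hψ
  set K := RingHom.ker ψ with hK
  have hle : mA ^ (n + 1) ≤ K := by
    intro x hx
    rw [hK, RingHom.mem_ker, hψ, RingHom.comp_apply, Ideal.Quotient.eq_zero_iff_mem]
    have : φ x ∈ Ideal.map φ (mA ^ (n + 1)) := Ideal.mem_map_of_mem φ hx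
    rwa [Ideal.map_pow, ← hmBeq] at this
  refine le_antisymm ?_ hle
  -- lengths
  let _ : Algebra A (B ⧸ mB ^ (n + 1)) := ψ.toAlgebra
  have hlenB : Module.length A (B ⧸ mB ^ (n + 1)) = Module.length B (B ⧸ mB ^ (n + 1)) := by
    have e1 : Module.length A (B ⧸ mB ^ (n + 1)) =
        Module.length (B ⧸ mB ^ (n + 1)) (B ⧸ mB ^ (n + 1)) :=
      Module.length_eq_of_surjective hsurj
    have e2 : Module.length B (B ⧸ mB ^ (n + 1)) =
        Module.length (B ⧸ mB ^ (n + 1)) (B ⧸ mB ^ (n + 1)) :=
      Module.length_eq_of_surjective Ideal.Quotient.mk_surjective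
    rw [e1, e2]
  -- finiteness of the length
  have hfin : Module.length B (B ⧸ mB ^ (n + 1)) ≠ ⊤ := by
    have hI : mB ^ (n + 1) ≠ ⊤ := by
      intro h
      have : mB ^ (n + 1) ≤ mB := Ideal.pow_le_self (by omega)
      rw [h, top_le_iff] at this
      exact (IsLocalRing.maximalIdeal.isMaximal B).ne_top this
    have : Nontrivial (B ⧸ mB ^ (n + 1)) := Ideal.Quotient.nontrivial_iff.mpr hI
    have := IsLocalRing.of_surjective' (Ideal.Quotient.mk (mB ^ (n + 1)))
      Ideal.Quotient.mk_surjective
    have := IsLocalHom.of_surjective (Ideal.Quotient.mk (mB ^ (n + 1)))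
      Ideal.Quotient.mk_surjective
    have hmax : mB.map (Ideal.Quotient.mk (mB ^ (n + 1))) =
        IsLocalRing.maximalIdeal (B ⧸ mB ^ (n + 1)) := by
      ext x
      obtain ⟨x, rfl⟩ := Ideal.Quotient.mk_surjective x
      have hsup : mB ⊔ mB ^ (n + 1) = mB := sup_eq_left.mpr (Ideal.pow_le_self (by omega))
      rw [Ideal.mem_map_iff_of_surjective _ Ideal.Quotient.mk_surjective]
      constructor
      · rintro ⟨y, hy, hyx⟩
        rw [← hyx]
        exact map_nonunit _ _ hy
      · intro hx
        refine ⟨x, ?_, rfl⟩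
        rw [hmB, IsLocalRing.mem_maximalIdeal, mem_nonunits_iff]
        intro hu
        exact (IsLocalRing.mem_maximalIdeal _).1 hx (hu.map _)
    have hart : IsArtinianRing (B ⧸ mB ^ (n + 1)) := by
      rw [isArtinianRing_iff_isNilpotent_maximalIdeal, ← hmax]
      refine ⟨n + 1, ?_⟩
      rw [← Ideal.map_pow, Ideal.zero_eq_bot, Ideal.map_eq_bot_iff_le_ker, Ideal.mk_ker]
    have e2 : Module.length B (B ⧸ mB ^ (n + 1)) =
        Module.length (B ⧸ mB ^ (n + 1)) (B ⧸ mB ^ (n + 1)) :=
      Module.length_eq_of_surjective Ideal.Quotient.mk_surjective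
    rw [e2]
    exact Module.length_ne_top
  -- the A-linear equivalence A/K ≃ B/mB^(n+1)
  let e : (A ⧸ K) ≃ₗ[A] (B ⧸ mB ^ (n + 1)) :=
    { (RingHom.quotientKerEquivOfSurjective hsurj).toAddEquiv with
      map_smul' := by
        intro a x
        obtain ⟨x, rfl⟩ := Ideal.Quotient.mk_surjective x
        change (RingHom.quotientKerEquivOfSurjective hsurj) (a • Ideal.Quotient.mk K x) =
          a • (RingHom.quotientKerEquivOfSurjective hsurj) (Ideal.Quotient.mk K x)
        rw [Algebra.smul_def, map_mul, Algebra.smul_def]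
        rfl }
  have hlenK : Module.length A (A ⧸ K) = Module.length A (A ⧸ mA ^ (n + 1)) := by
    rw [e.length_eq, hlenB, hlen n]
  -- the surjection A/mA^(n+1) → A/K
  let q : (A ⧸ mA ^ (n + 1)) →ₗ[A] (A ⧸ K) :=
    Submodule.mapQ (mA ^ (n + 1)) K LinearMap.id (by simpa using hle)
  have hq : Function.Surjective q := by
    intro x
    obtain ⟨x, rfl⟩ := Ideal.Quotient.mk_surjective x
    exact ⟨Ideal.Quotient.mk _ x, rfl⟩
  have hadd := Module.length_eq_add_of_exact (LinearMap.ker q).subtype q
    (Submodule.injective_subtype _) hq (LinearMap.exact_subtype_ker_map q)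
  rw [hlenK] at hadd
  have hfinA : Module.length A (A ⧸ mA ^ (n + 1)) ≠ ⊤ := by rw [hlen n]; exact hfin
  have hker0 : Module.length A (LinearMap.ker q) = 0 := by
    generalize Module.length A (A ⧸ mA ^ (n + 1)) = L at hadd hfinA
    generalize Module.length A (LinearMap.ker q) = x at hadd
    cases L with
    | top => exact absurd rfl hfinA
    | coe L =>
      cases x with
      | top => simp at hadd
      | coe x =>
        norm_cast at hadd ⊢
        omega
  rw [Module.length_eq_zero_iff] at hker0
  intro x hx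
  have : q (Ideal.Quotient.mk _ x) = 0 := by
    change Ideal.Quotient.mk K x = 0
    exact Ideal.Quotient.eq_zero_iff_mem.2 hx
  have h2 : (⟨Ideal.Quotient.mk _ x, this⟩ : LinearMap.ker q) = 0 := Subsingleton.elim _ _
  have h3 := congrArg Subtype.val h2
  exact Ideal.Quotient.eq_zero_iff_mem.1 h3

end Groth.Agent.S16104
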