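import Groth.Statements.S16107
import Groth.Agent.Lib.Helper22.HilbertGenU
import Groth.Prelude.Def_Hoch

set_option autoImplicit false
universe u v w
open LunaSt

namespace Groth.Agent.S16107

section aux

open scoped TensorProduct
open Groth.Agent.Lib.helper22

variable (k : Type u) [Field k] (H : Type v) [CommRing H] [HopfAlgebra k H]
variable (A : Type w) [CommRing A] [Algebra k A]

/-- the coaction `id ⊗ Δ` of the free comodule algebra `A ⊗ H`, as an algebra map -/
noncomputable def freeCoactHom : A ⊗[k] H →ₐ[k] (A ⊗[k] H) ⊗[k] H :=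
  (Algebra.TensorProduct.assoc k k k A H H).symm.toAlgHom.comp
    (Algebra.TensorProduct.map (AlgHom.id k A) (Bialgebra.comulAlgHom k H))

theorem freeCoactHom_apply (t : A ⊗[k] H) :
    freeCoactHom k H A t = Hoch.Ind.coactAux k H A t := by
  unfold freeCoactHom
  simp only [AlgHom.comp_apply]
  rw [algMap_lTensor_apply]
  change (Algebra.TensorProduct.assoc k k k A H H).symm _ =
    (TensorProduct.assoc k A H H).symm _
  rw [AlgEquiv.symm_apply_eq, algAssoc_apply, LinearEquiv.apply_symm_apply]
  rfl

/-- the free comodule structure on `A ⊗ H` -/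
@[reducible] noncomputable def freeComod : HopfRep.Comod k H (A ⊗[k] H) where
  coact := Hoch.Ind.coactAux k H A
  coassoc := (Hoch.Ind.comod k H A).coassoc
  counit_comp := (Hoch.Ind.comod k H A).counit_comp

theorem freeComod_coact (t : A ⊗[k] H) :
    (freeComod k H A).coact t = freeCoactHom k H A t := (freeCoactHom_apply k H A t).symm

theorem freeComod_isCoactAlg : @GLin.IsCoactAlg k _ H _ _ (A ⊗[k] H) _ _ (freeComod k H A) := by
  letI := freeComod k H A
  constructor
  · change (freeComod k H A).coact 1 = 1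
    rw [freeComod_coact, map_one]
  · intro f g
    change (freeComod k H A).coact (f * g) = (freeComod k H A).coact f * (freeComod k H A).coact g
    rw [freeComod_coact, freeComod_coact, freeComod_coact, map_mul]

/-- the retraction `id ⊗ ε : A ⊗ H → A` -/
noncomputable def retr : A ⊗[k] H →ₐ[k] A :=
  (Algebra.TensorProduct.rid k k A).toAlgHom.comp
    (Algebra.TensorProduct.map (AlgHom.id k A) (Bialgebra.counitAlgHom k H))

@[simp] theorem retr_tmul (a : A) (h : H) :
    retr k H A (a ⊗ₜ[k] h) = Coalgebra.counit (R := k) h • a := by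
  simp [retr]

theorem tmul_one_mem_invariants (a : A) :
    a ⊗ₜ[k] (1 : H) ∈ @GLin.invariants k _ H _ _ (A ⊗[k] H) _ _ (freeComod k H A)
      (freeComod_isCoactAlg k H A) := by
  change (freeComod k H A).coact (a ⊗ₜ[k] (1 : H)) = (a ⊗ₜ[k] (1 : H)) ⊗ₜ[k] (1 : H)
  change Hoch.Ind.coactAux k H A (a ⊗ₜ[k] (1 : H)) = _
  rw [Hoch.Ind.coactAux_tmul, Bialgebra.comul_one, Algebra.TensorProduct.one_def,
    TensorProduct.assoc_symm_tmul]

theorem eq_of_mem_invariants (t : A ⊗[k] H)
    (ht : t ∈ @GLin.invariants k _ H _ _ (A ⊗[k] H) _ _ (freeComod k H A)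
      (freeComod_isCoactAlg k H A)) :
    t = (retr k H A t) ⊗ₜ[k] (1 : H) := by
  have h1 : Hoch.Ind.coactAux k H A t = t ⊗ₜ[k] (1 : H) := ht
  -- apply `(a ⊗ h) ⊗ h' ↦ ε(h) a ⊗ h'`
  let Θ : (A ⊗[k] H) ⊗[k] H →ₗ[k] A ⊗[k] H := (retr k H A).toLinearMap.rTensor H
  have h2 := congrArg Θ h1
  have e1 : ∀ y : A ⊗[k] H, Θ (Hoch.Ind.coactAux k H A y) = y := by
    intro y
    induction y using TensorProduct.induction_on with
    | zero => simp
    | tmul a h =>
      rw [Hoch.Ind.coactAux_tmul]
      have : ∀ z : H ⊗[k] H, Θ ((TensorProduct.assoc k A H H).symm (a ⊗ₜ[k] z)) =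
          a ⊗ₜ[k] (TensorProduct.lid k H ((Coalgebra.counit (R := k) (A := H)).rTensor H z)) := by
        intro z
        induction z using TensorProduct.induction_on with
        | zero => simp
        | tmul h₁ h₂ =>
          simp only [TensorProduct.assoc_symm_tmul, Θ, LinearMap.rTensor_tmul,
            AlgHom.toLinearMap_apply, retr_tmul, TensorProduct.lid_tmul]
          rw [TensorProduct.smul_tmul]
        | add z₁ z₂ h₁ h₂ => simp only [TensorProduct.tmul_add, map_add, h₁, h₂]
      rw [this, Coalgebra.rTensor_counit_comul]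
      simp
    | add y₁ y₂ h₁ h₂ => simp only [map_add, h₁, h₂]
  rw [e1] at h2
  rw [h2]
  simp [Θ]

variable [HopfRep.Comod k H A] [GLin.IsCoactAlg k H A]

theorem retr_coact (a : A) : retr k H A (HopfRep.Comod.coact (k := k) (A := H) a) = a := by
  have h := LinearMap.congr_fun (HopfRep.Comod.counit_comp (k := k) (A := H) (V := A)) a
  simp only [LinearMap.comp_apply, LinearMap.flip_apply, TensorProduct.mk_apply] at h
  unfold retr
  simp only [AlgHom.comp_apply]
  rw [algMap_lTensor_apply]
  change (Algebra.TensorProduct.rid k k A)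
    ((Coalgebra.counit (R := k) (A := H)).lTensor A (HopfRep.Comod.coact (k := k) (A := H) a)) = a
  rw [h]
  simp

/-- `A ⊗ H` as an `A`-algebra through the coaction -/
@[reducible] noncomputable def coactAlgebra : Algebra A (A ⊗[k] H) :=
  (GLin.coactAlgHom k H A).toRingHom.toAlgebra

theorem isScalarTower_coactAlgebra :
    @IsScalarTower k A (A ⊗[k] H) _ (coactAlgebra k H A).toSMul _ := by
  letI := coactAlgebra k H A
  exact IsScalarTower.of_algebraMap_eq (fun x => ((GLin.coactAlgHom k H A).commutes x).symm)

theorem coact_comodHom (a : A) :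
    (HopfRep.Comod.coact (k := k) (A := H) (V := A)).rTensor H
      (HopfRep.Comod.coact (k := k) (A := H) a) =
    Hoch.Ind.coactAux k H A (HopfRep.Comod.coact (k := k) (A := H) a) := by
  have h := LinearMap.congr_fun (HopfRep.Comod.coassoc (k := k) (A := H) (V := A)) a
  simp only [LinearMap.comp_apply, LinearEquiv.coe_coe] at h
  unfold Hoch.Ind.coactAux
  simp only [LinearMap.comp_apply, LinearEquiv.coe_coe]
  rw [LinearEquiv.eq_symm_apply]
  exact h

/-- `x ⊗ h ↦ x * (1 ⊗ S h)` -/
noncomputable def twist : (A ⊗[k] H) ⊗[k] H →ₗ[k] A ⊗[k] H :=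
  LinearMap.mul' k (A ⊗[k] H) ∘ₗ TensorProduct.map LinearMap.id
    ((Algebra.TensorProduct.includeRight : H →ₐ[k] A ⊗[k] H).toLinearMap ∘ₗ
      HopfAlgebra.antipode k (A := H))

@[simp] theorem twist_tmul (x : A ⊗[k] H) (h : H) :
    twist k H A (x ⊗ₜ[k] h) = x * ((1 : A) ⊗ₜ[k] HopfAlgebra.antipode k h) := by
  simp [twist]

theorem twist_coactAux (y : A ⊗[k] H) :
    twist k H A (Hoch.Ind.coactAux k H A y) = (retr k H A y) ⊗ₜ[k] (1 : H) := by
  induction y using TensorProduct.induction_on with
  | zero => simp
  | tmul a h =>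
    rw [Hoch.Ind.coactAux_tmul]
    have : ∀ z : H ⊗[k] H, twist k H A ((TensorProduct.assoc k A H H).symm (a ⊗ₜ[k] z)) =
        a ⊗ₜ[k] (LinearMap.mul' k H ((HopfAlgebra.antipode k (A := H)).lTensor H z)) := by
      intro z
      induction z using TensorProduct.induction_on with
      | zero => simp
      | tmul h₁ h₂ =>
        simp only [TensorProduct.assoc_symm_tmul, twist_tmul, LinearMap.lTensor_tmul,
          LinearMap.mul'_apply, Algebra.TensorProduct.tmul_mul_tmul, mul_one]
      | add z₁ z₂ h₁ h₂ => simp only [TensorProduct.tmul_add, map_add, h₁, h₂]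
    rw [this, HopfAlgebra.mul_antipode_lTensor_comul_apply, retr_tmul,
      Algebra.algebraMap_eq_smul_one, TensorProduct.tmul_smul, TensorProduct.smul_tmul']
  | add y₁ y₂ h₁ h₂ => simp only [map_add, TensorProduct.add_tmul, h₁, h₂]

theorem finiteType_coactAlgebra [Algebra.FiniteType k H] :
    @Algebra.FiniteType A (A ⊗[k] H) _ _ (coactAlgebra k H A) := by
  classical
  letI := coactAlgebra k H A
  obtain ⟨s, hs⟩ := (Algebra.FiniteType.out : (⊤ : Subalgebra k H).FG)
  refine ⟨⟨s.image (fun h => (1 : A) ⊗ₜ[k] h), ?_⟩⟩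
  set B := Algebra.adjoin A (↑(s.image (fun h => (1 : A) ⊗ₜ[k] h)) : Set (A ⊗[k] H)) with hB
  have hρ : ∀ a : A, HopfRep.Comod.coact (k := k) (A := H) a ∈ B := fun a =>
    Subalgebra.algebraMap_mem B a
  have h1 : ∀ h : H, (1 : A) ⊗ₜ[k] h ∈ B := by
    intro h
    have hh : h ∈ Algebra.adjoin k (s : Set H) := hs ▸ Algebra.mem_top
    induction hh using Algebra.adjoin_induction with
    | mem x hx =>
      apply Algebra.subset_adjoin
      rw [Finset.coe_image]
      exact ⟨x, hx, rfl⟩
    | algebraMap c =>
      have : (1 : A) ⊗ₜ[k] (algebraMap k H c) = HopfRep.Comod.coact (k := k) (A := H)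
          (algebraMap k A c) := by
        have := (GLin.coactAlgHom k H A).commutes c
        rw [GLin.coactAlgHom_apply] at this
        rw [this, Algebra.TensorProduct.algebraMap_apply, Algebra.algebraMap_eq_smul_one,
          Algebra.algebraMap_eq_smul_one, TensorProduct.smul_tmul]
      rw [this]
      exact hρ _
    | add x y _ _ hx hy => rw [TensorProduct.tmul_add]; exact B.add_mem hx hy
    | mul x y _ _ hx hy =>
      have : (1 : A) ⊗ₜ[k] (x * y) = ((1 : A) ⊗ₜ[k] x) * ((1 : A) ⊗ₜ[k] y) := by
        rw [Algebra.TensorProduct.tmul_mul_tmul, one_mul]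
      rw [this]
      exact B.mul_mem hx hy
  have h2 : ∀ y : A ⊗[k] H, twist k H A
      ((HopfRep.Comod.coact (k := k) (A := H) (V := A)).rTensor H y) ∈ B := by
    intro y
    induction y using TensorProduct.induction_on with
    | zero => simp
    | tmul a h =>
      rw [LinearMap.rTensor_tmul, twist_tmul]
      exact B.mul_mem (hρ a) (h1 _)
    | add y₁ y₂ h₁ h₂ => rw [map_add, map_add]; exact B.add_mem h₁ h₂
  have h3 : ∀ a : A, a ⊗ₜ[k] (1 : H) ∈ B := by
    intro a
    have := h2 (HopfRep.Comod.coact (k := k) (A := H) a)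
    rwa [coact_comodHom, twist_coactAux, retr_coact] at this
  rw [eq_top_iff]
  intro x _
  induction x using TensorProduct.induction_on with
  | zero => exact B.zero_mem
  | tmul a h =>
    have : a ⊗ₜ[k] h = (a ⊗ₜ[k] (1 : H)) * ((1 : A) ⊗ₜ[k] h) := by
      rw [Algebra.TensorProduct.tmul_mul_tmul, one_mul, mul_one]
    rw [this]
    exact B.mul_mem (h3 a) (h1 h)
  | add x y hx hy => exact B.add_mem (hx Algebra.mem_top) (hy Algebra.mem_top)

end aux

/-- Let k be a field and H a commutative Hopf algebra of finite type over k all of whose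
finite-dimensional comodules are semisimple (a linearly reductive affine group G = Spec H of finite
type). Let A be a Noetherian commutative k-algebra with a coaction of H that is an algebra map (an
action of G on Spec A). Then A is of finite type as an algebra over its subring of invariants A^G.
(The published statement is that a good moduli space with affine diagonal of a Noetherian algebraic
stack is of finite type; this row is its case [Spec A/G] → Spec A^G.) -/
theorem result
    (k : Type u) [Field k] (H : Type v) [CommRing H] [HopfAlgebra k H] [Algebra.FiniteType k H]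
    (hG : HopfRep.IsLinearlyReductive k H)
    (A : Type w) [CommRing A] [Algebra k A] [IsNoetherianRing A]
    [HopfRep.Comod k H A] [GLin.IsCoactAlg k H A] :
    Algebra.FiniteType ↥(GLin.invariants k H A) A := by
  classical
  letI cT : HopfRep.Comod k H (TensorProduct k A H) := freeComod k H A
  haveI hcT : GLin.IsCoactAlg k H (TensorProduct k A H) := freeComod_isCoactAlg k H A
  letI algT : Algebra A (TensorProduct k A H) := coactAlgebra k H A
  haveI tower : @IsScalarTower k A (TensorProduct k A H) _ algT.toSMul _ :=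
    isScalarTower_coactAlgebra k H A
  haveI ft : Algebra.FiniteType A (TensorProduct k A H) := finiteType_coactAlgebra k H A
  have hST : Hoch.IsComodHom H (IsScalarTower.toAlgHom k A (TensorProduct k A H)).toLinearMap := by
    apply LinearMap.ext
    intro a
    simp only [LinearMap.comp_apply, AlgHom.toLinearMap_apply]
    exact (coact_comodHom k H A a).symm
  obtain ⟨s, hs⟩ := Groth.Agent.Lib.helper22.exists_finset_invariants_eq_adjoin_rel' k H hG A
    (TensorProduct k A H) hST
  refine ⟨⟨s.image (retr k H A), ?_⟩⟩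
  rw [eq_top_iff]
  intro a _
  have h1 : TensorProduct.tmul k a (1 : H) ∈ GLin.invariants k H (TensorProduct k A H) :=
    tmul_one_mem_invariants k H A a
  rw [hs] at h1
  have h2 : retr k H A (TensorProduct.tmul k a (1 : H)) ∈
      (Algebra.adjoin k (⇑(algebraMap A (TensorProduct k A H)) '' ↑(GLin.invariants k H A) ∪ ↑s)).map
        (retr k H A) := ⟨_, h1, rfl⟩
  rw [AlgHom.map_adjoin] at h2
  have h3 : retr k H A (TensorProduct.tmul k a (1 : H)) = a := by simp
  rw [h3] at h2
  have h4 : Algebra.adjoin k (⇑(retr k H A) ''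
      (⇑(algebraMap A (TensorProduct k A H)) '' ↑(GLin.invariants k H A) ∪ ↑s)) ≤
      (Algebra.adjoin (GLin.invariants k H A) (↑(s.image (retr k H A)) : Set A)).restrictScalars k := by
    apply Algebra.adjoin_le
    rintro _ ⟨x, hx | hx, rfl⟩
    · obtain ⟨c, hc, rfl⟩ := hx
      have : retr k H A (algebraMap A (TensorProduct k A H) c) = c := retr_coact k H A c
      rw [this]
      exact Subalgebra.algebraMap_mem
        (Algebra.adjoin (GLin.invariants k H A) (↑(s.image (retr k H A)) : Set A))
        (⟨c, hc⟩ : GLin.invariants k H A)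
    · apply Algebra.subset_adjoin
      rw [Finset.coe_image]
      exact ⟨x, hx, rfl⟩
  exact h4 h2

end Groth.Agent.S16107
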