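import Groth.Statements.S16131
import Groth.Agent.Lib.Helper5.RangeDim

set_option autoImplicit false
universe u
open CategoryTheory MonoidalCategory CartesianMonoidalCategory MonObj GrpObj AlgebraicGeometry CategoryTheory.Limits
open AlgGrp

namespace Groth.Agent.S16131

/-- Over an algebraically closed field k, let G be an algebraic group (a smooth k-group scheme of finite
type, not necessarily connected) acting on a variety X (a reduced separated k-scheme of finite
type), and let x be a k-point of X with orbit G · x (the image of the orbit map). Then the boundary
cl(G · x) ∖ G · x has strictly smaller Krull dimension than G · x (both with the subspace topology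
from X); so the orbit closure is the union of the orbit and of orbits of smaller dimension. -/
theorem result (k : Type u) [Field k] [IsAlgClosed k]
    (G X : Over (Spec (CommRingCat.of k))) [GrpObj G] [Smooth G.hom] [QuasiCompact G.hom]
    [IsReduced X.left] [IsSeparated X.hom] [LocallyOfFiniteType X.hom] [QuasiCompact X.hom]
    (a : AlgGrp.Action G X) (x : 𝟙_ (Over (Spec (CommRingCat.of k))) ⟶ X) :
    topologicalKrullDim ↥(closure (Set.range (a.orbitMap x).left.base) \ Set.range (a.orbitMap x).left.base) <
      topologicalKrullDim ↥(Set.range (a.orbitMap x).left.base) := by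
  classical
  haveI : LocallyOfFiniteType G.hom := inferInstance
  haveI : CompactSpace ↥G.left := (quasiCompact_iff_compactSpace (f := G.hom)).1 inferInstance
  haveI : CompactSpace ↥X.left := (quasiCompact_iff_compactSpace (f := X.hom)).1 inferInstance
  haveI : LocallyOfFiniteType ((a.orbitMap x).left ≫ X.hom) := by
    rw [Over.w]; infer_instance
  haveI : LocallyOfFiniteType (a.orbitMap x).left :=
    locallyOfFiniteType_of_comp (a.orbitMap x).left X.hom
  haveI : Nonempty ↥G.left := by
    obtain ⟨pt⟩ : Nonempty ↥(Spec (CommRingCat.of k)) := inferInstance
    exact ⟨η[G].left pt⟩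
  obtain ⟨s, h1, -, h3⟩ := Groth.Agent.Lib.helper5.RangeDim.exists_nat_dim_range k G.left X.left
    X.hom (a.orbitMap x).left
  change topologicalKrullDim ↥(closure (Set.range (a.orbitMap x).left) \
    Set.range (a.orbitMap x).left) < topologicalKrullDim ↥(Set.range (a.orbitMap x).left)
  rw [h1]
  generalize topologicalKrullDim ↥(closure (Set.range (a.orbitMap x).left) \
    Set.range (a.orbitMap x).left) = A at h3
  induction A using WithBot.recBotCoe with
  | bot => exact WithBot.bot_lt_coe _
  | coe A =>
    induction A using ENat.recTopCoe with
    | top =>
      exfalso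
      have : ((⊤ : ℕ∞) : WithBot ℕ∞) + 1 = ((⊤ : ℕ∞) : WithBot ℕ∞) := rfl
      rw [this] at h3
      have h' : (⊤ : ℕ∞) ≤ ((s : ℕ) : ℕ∞) := by exact_mod_cast h3
      exact absurd h' (by simp)
    | coe A =>
      have h' : A + 1 ≤ s := by exact_mod_cast h3
      have : A < s := by omega
      exact_mod_cast this

end Groth.Agent.S16131
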