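import Groth.Statements.S16149
import Mathlib
import Groth.Agent.Lib.Helper25.StalkExact
import Groth.Agent.Lib.Helper7.CohKer
import Groth.Agent.Lib.Helper8.DevMaster

set_option autoImplicit false
universe u
open CategoryTheory CategoryTheory.Limits AlgebraicGeometry TopologicalSpace
open SDiv

namespace Groth.Agent.S16149

open Groth.Agent.Lib.Helper25.StalkExact in
/-- the stalk map of a morphism is bijective iff the stalks of kernel and cokernel vanish -/
theorem mem_isoLocus_iff_not_mem_support {X : Scheme.{u}} {F : X.Modules}
    (s : Coh.structureModule X ⟶ F) (x : X) :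
    x ∈ RefPow.isoLocus s ↔ x ∉ CohB1.support (kernel s) ∧ x ∉ CohB1.support (cokernel s) := by
  let G := DerSch.stalkFunctor X x
  have h1 : x ∈ RefPow.isoLocus s ↔ IsIso (G.map s) := by
    rw [ConcreteCategory.isIso_iff_bijective]
    exact Iff.rfl
  have h2 : IsIso (G.map s) ↔ Mono (G.map s) ∧ Epi (G.map s) :=
    ⟨fun h => ⟨inferInstance, inferInstance⟩, fun ⟨h1, h2⟩ => isIso_of_mono_of_epi _⟩
  have h3 : Mono (G.map s) ↔ IsZero (G.obj (kernel s)) := by
    rw [Preadditive.mono_iff_isZero_kernel]
    exact (PreservesKernel.iso G s).symm.isZero_iff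
  have h4 : Epi (G.map s) ↔ IsZero (G.obj (cokernel s)) := by
    rw [Preadditive.epi_iff_isZero_cokernel]
    exact (PreservesCokernel.iso G s).symm.isZero_iff
  have h5 : ∀ M : X.Modules, IsZero (G.obj M) ↔ x ∉ CohB1.support M := by
    intro M
    rw [ModuleCat.isZero_iff_subsingleton]
    change _ ↔ ¬ ¬ Subsingleton (M.presheaf.stalk x)
    rw [not_not]
    exact Iff.rfl
  rw [h1, h2, h3, h4, h5, h5]

/-- Let X be a locally Noetherian scheme, F a coherent O_X-module (quasi-coherent of finite type) and s
: O_X → F a global section of F. Then the set of points x of X at which the stalk map (O_X)_x → F_x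
of s is bijective is open. (The published statement assumes moreover X integral and normal and F
reflexive of rank one; the openness assertion uses only that F is coherent on a locally Noetherian
scheme, and it can fail for F quasi-coherent of finite type on a scheme that is not locally
Noetherian.) -/
theorem result (X : Scheme.{u}) [IsLocallyNoetherian X] (F : X.Modules) (hF : Coh.IsCoh F)
    (s : Coh.structureModule X ⟶ F) : IsOpen (RefPow.isoLocus s) := by
  have hO : Coh.IsCoh (Coh.structureModule X) := Groth.Agent.Lib.helper8.Dev.isCoh_structureModule X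
  have hK := Groth.Agent.Lib.helper7.CohKer.isCoh_kernel hO hF s
  have hC := Groth.Agent.Lib.helper7.CohKer.isCoh_cokernel hO hF s
  have hclK := Groth.Agent.Lib.helper8.Dev.isClosed_support_of_isCoh _ hK
  have hclC := Groth.Agent.Lib.helper8.Dev.isClosed_support_of_isCoh _ hC
  have : RefPow.isoLocus s = (CohB1.support (kernel s))ᶜ ∩ (CohB1.support (cokernel s))ᶜ := by
    ext x
    rw [mem_isoLocus_iff_not_mem_support]
    exact Iff.rfl
  rw [this]
  exact hclK.isOpen_compl.inter hclC.isOpen_compl

end Groth.Agent.S16149
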