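import Groth.Statements.S1615
import Mathlib

set_option autoImplicit false
universe u
open CategoryTheory CategoryTheory.Limits AlgebraicGeometry
open Constr

namespace Groth.Agent.S1615

/-- For a graded ring A, quasi-compactness of Proj A is equivalent to the existence of finitely many
homogeneous elements of positive degree generating an ideal whose radical contains the irrelevant
ideal A_+. -/
theorem result {R A : Type u} [CommRing R] [CommRing A] [Algebra R A] (𝒜 : ℕ → Submodule R A) [GradedAlgebra 𝒜] :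
    CompactSpace ↥(Proj 𝒜) ↔ ∃ s : Finset A, (∀ f ∈ s, ∃ d : ℕ, 0 < d ∧ f ∈ 𝒜 d) ∧
      (HomogeneousIdeal.irrelevant 𝒜).toIdeal ≤ (Ideal.span (s : Set A)).radical := by
  classical
  constructor
  · intro hc
    -- the cover by all `D₊(f)`, `f` homogeneous of positive degree
    let ι := {f : A // ∃ d : ℕ, 0 < d ∧ f ∈ 𝒜 d}
    have hcov : ⨆ i : ι, Proj.basicOpen 𝒜 i.1 = ⊤ := by
      apply Proj.iSup_basicOpen_eq_top
      intro a ha
      rw [← DirectSum.sum_support_decompose 𝒜 a]
      refine Ideal.sum_mem _ fun i _ => ?_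
      by_cases hi : i = 0
      · subst hi
        have : (DirectSum.decompose 𝒜 a 0 : A) = 0 :=
          (HomogeneousIdeal.mem_irrelevant_iff 𝒜 a).1 ha
        rw [this]; exact zero_mem _
      · exact Ideal.subset_span ⟨⟨_, i, Nat.pos_of_ne_zero hi, (DirectSum.decompose 𝒜 a i).2⟩, rfl⟩
    have hcov' : (Set.univ : Set (Proj 𝒜)) ⊆ ⋃ i : ι, (Proj.basicOpen 𝒜 i.1 : Set (Proj 𝒜)) := by
      intro x _
      have : x ∈ (⨆ i : ι, Proj.basicOpen 𝒜 i.1) := by rw [hcov]; trivial
      rw [TopologicalSpace.Opens.mem_iSup] at this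
      obtain ⟨i, hi⟩ := this
      exact Set.mem_iUnion.2 ⟨i, hi⟩
    obtain ⟨t, ht⟩ := isCompact_univ.elim_finite_subcover
      (fun i : ι => (Proj.basicOpen 𝒜 i.1 : Set (Proj 𝒜))) (fun i => (Proj.basicOpen 𝒜 i.1).isOpen) hcov'
    refine ⟨t.image Subtype.val, ?_, ?_⟩
    · intro f hf
      obtain ⟨i, -, rfl⟩ := Finset.mem_image.1 hf
      exact i.2
    · have hhom : (Ideal.span ((t.image Subtype.val : Finset A) : Set A)).IsHomogeneous 𝒜 := by
        apply Ideal.homogeneous_span
        intro f hf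
        obtain ⟨i, -, rfl⟩ := Finset.mem_image.1 (Finset.mem_coe.1 hf)
        obtain ⟨d, -, hd⟩ := i.2
        exact ⟨d, hd⟩
      rw [hhom.radical_eq]
      refine le_sInf ?_
      rintro J ⟨hJhom, hJle, hJprime⟩
      by_contra hnot
      let x : ProjectiveSpectrum 𝒜 := ⟨⟨J, hJhom⟩, hJprime, hnot⟩
      have hx := ht (Set.mem_univ (x : Proj 𝒜))
      simp only [Set.mem_iUnion] at hx
      obtain ⟨i, hit, hxi⟩ := hx
      have hxi' : i.1 ∉ x.asHomogeneousIdeal := hxi
      apply hxi'
      show i.1 ∈ J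
      apply hJle
      apply Ideal.subset_span
      exact Finset.mem_coe.2 (Finset.mem_image.2 ⟨i, hit, rfl⟩)
  · rintro ⟨s, hs, hle⟩
    have hcov : (Set.univ : Set (Proj 𝒜)) = ⋃ f : s, (Proj.basicOpen 𝒜 f.1 : Set (Proj 𝒜)) := by
      symm
      rw [Set.eq_univ_iff_forall]
      intro x
      by_contra hx
      simp only [Set.mem_iUnion, not_exists] at hx
      apply x.not_irrelevant_le
      have h1 : Ideal.span (s : Set A) ≤ x.asHomogeneousIdeal.toIdeal := by
        rw [Ideal.span_le]
        intro f hf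
        by_contra hfx
        exact hx ⟨f, hf⟩ hfx
      have h2 : (Ideal.span (s : Set A)).radical ≤ x.asHomogeneousIdeal.toIdeal :=
        (Ideal.IsPrime.radical_le_iff x.isPrime).2 h1
      exact hle.trans h2
    rw [← isCompact_univ_iff, hcov]
    apply isCompact_iUnion
    intro f
    obtain ⟨d, hd, hfd⟩ := hs f.1 f.2
    exact (Proj.isAffineOpen_basicOpen 𝒜 f.1 hfd hd).isCompact

end Groth.Agent.S1615
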