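import Groth.Statements.S16152
import Mathlib

set_option autoImplicit false
universe u
open WGauss

namespace Groth.Agent.S16152

open MvPolynomial

section
variable {k : Type u} [Field k] {n : ℕ}

theorem expo (α β : Fin (n+1) →₀ ℕ) (j : Fin (n+1)) (h : α j ≠ 0) :
    β + (α - Finsupp.single j 1) = α + β - Finsupp.single j 1 := by
  ext l
  simp only [Finsupp.coe_add, Finsupp.coe_tsub, Pi.add_apply, Pi.sub_apply, Finsupp.single_apply]
  split_ifs with hl
  · subst hl; omega
  · omega

/-- the generating set -/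
def Gset (k : Type u) [Field k] (n a b e : ℕ) : Set (Fin (n+1) → MvPolynomial (Fin (n+1)) k) :=
  {g | ∃ σ τ : MvPolynomial (Fin (n + 1)) k, σ.IsHomogeneous (a * e) ∧ τ.IsHomogeneous (b * e) ∧
          g = fun i => (b : k) • (τ * pderiv i σ) - (a : k) • (σ * pderiv i τ)}

theorem gen_mem (a b e : ℕ) (α β : Fin (n+1) →₀ ℕ) (hα : α.degree = a*e) (hβ : β.degree = b*e) :
    (fun j => monomial (α + β - Finsupp.single j 1) ((b:k) * (α j : k) - (a:k) * (β j : k))) ∈
      Submodule.span k (Gset k n a b e) := by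
  apply Submodule.subset_span
  refine ⟨monomial α 1, monomial β 1, isHomogeneous_monomial 1 hα, isHomogeneous_monomial 1 hβ, ?_⟩
  funext j
  beta_reduce
  rw [pderiv_monomial, pderiv_monomial, monomial_mul, monomial_mul, smul_monomial, smul_monomial]
  simp only [one_mul, smul_eq_mul]
  have h1 : monomial (β + (α - Finsupp.single j 1)) ((b:k) * (α j : k)) =
      monomial (α + β - Finsupp.single j 1) ((b:k) * (α j : k)) := by
    by_cases h : α j = 0
    · rw [h, Nat.cast_zero, mul_zero, monomial_zero, monomial_zero]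
    · rw [expo α β j h]
  have h2 : monomial (α + (β - Finsupp.single j 1)) ((a:k) * (β j : k)) =
      monomial (α + β - Finsupp.single j 1) ((a:k) * (β j : k)) := by
    by_cases h : β j = 0
    · rw [h, Nat.cast_zero, mul_zero, monomial_zero, monomial_zero]
    · rw [expo β α j h, add_comm β α]
  rw [h1, h2, ← map_sub]

theorem exists_sub (δ : Fin (n+1) →₀ ℕ) : ∀ s : ℕ, s ≤ δ.degree →
    ∃ α₀ : Fin (n+1) →₀ ℕ, α₀ ≤ δ ∧ α₀.degree = s := by
  intro s
  induction s with
  | zero => intro _; exact ⟨0, zero_le, map_zero _⟩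
  | succ s ih =>
    intro hs
    obtain ⟨α₀, hle, hdeg⟩ := ih (by omega)
    have hex : ∃ j, α₀ j < δ j := by
      by_contra hcon
      have hcon' : ∀ j, δ j ≤ α₀ j := fun j => not_lt.mp (fun h => hcon ⟨j, h⟩)
      have : α₀ = δ := by
        ext j
        exact le_antisymm (Finsupp.le_def.mp hle j) (hcon' j)
      rw [this] at hdeg
      omega
    obtain ⟨j, hj⟩ := hex
    refine ⟨α₀ + Finsupp.single j 1, ?_, ?_⟩
    · rw [Finsupp.le_def]
      intro l
      rw [Finsupp.add_apply, Finsupp.single_apply]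
      have := Finsupp.le_def.mp hle l
      split_ifs with hl
      · subst hl; omega
      · omega
    · rw [map_add, hdeg, Finsupp.degree_single]

theorem exists_pred2 (γ : Fin (n+1) →₀ ℕ) (i i0 : Fin (n+1)) (hne : i ≠ i0) (hi : γ i ≠ 0)
    (hi0 : γ i0 ≠ 0) :
    ∃ δ : Fin (n+1) →₀ ℕ, γ = δ + Finsupp.single i 1 + Finsupp.single i0 1 := by
  refine ⟨γ - Finsupp.single i 1 - Finsupp.single i0 1, ?_⟩
  ext l
  simp only [Finsupp.coe_add, Finsupp.coe_tsub, Pi.add_apply, Pi.sub_apply, Finsupp.single_apply]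
  by_cases h1 : i = l
  · subst h1
    rw [if_pos rfl, if_neg (Ne.symm hne)]
    omega
  · by_cases h2 : i0 = l
    · subst h2
      rw [if_neg h1, if_pos rfl]
      omega
    · rw [if_neg h1, if_neg h2]
      omega

theorem diff_mem [CharZero k] (a b e : ℕ) (he : 0 < e) (ha : 0 < a) (hb : 0 < b)
    (γ : Fin (n+1) →₀ ℕ) (i i0 : Fin (n+1)) (hne : i ≠ i0) (hi : γ i ≠ 0) (hi0 : γ i0 ≠ 0)
    (hγ : γ.degree = (a+b)*e) :
    (Pi.single i (monomial (γ - Finsupp.single i 1) (1:k)) -
      Pi.single i0 (monomial (γ - Finsupp.single i0 1) (1:k)) :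
        Fin (n+1) → MvPolynomial (Fin (n+1)) k) ∈ Submodule.span k (Gset k n a b e) := by
  classical
  obtain ⟨δ, hδ⟩ := exists_pred2 γ i i0 hne hi hi0
  have hae : 1 ≤ a*e := Nat.mul_pos ha he
  have hbe : 1 ≤ b*e := Nat.mul_pos hb he
  have hT : (a+b)*e = a*e + b*e := Nat.add_mul a b e
  have hδdeg : γ.degree = δ.degree + 1 + 1 := by
    rw [hδ, map_add, map_add, Finsupp.degree_single, Finsupp.degree_single]
  obtain ⟨α₀, hα₀le, hα₀deg⟩ := exists_sub δ (a*e - 1) (by omega)
  obtain ⟨ρ, hρ⟩ : ∃ ρ, δ = α₀ + ρ := ⟨δ - α₀, (add_tsub_cancel_of_le hα₀le).symm⟩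
  have hρdeg : ρ.degree = b*e - 1 := by
    have : δ.degree = α₀.degree + ρ.degree := by rw [hρ, map_add]
    omega
  have hα : (α₀ + Finsupp.single i 1).degree = a*e := by
    rw [map_add, Finsupp.degree_single, hα₀deg]; omega
  have hβ : (ρ + Finsupp.single i0 1).degree = b*e := by
    rw [map_add, Finsupp.degree_single, hρdeg]; omega
  have hα' : (α₀ + Finsupp.single i0 1).degree = a*e := by
    rw [map_add, Finsupp.degree_single, hα₀deg]; omega
  have hβ' : (ρ + Finsupp.single i 1).degree = b*e := by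
    rw [map_add, Finsupp.degree_single, hρdeg]; omega
  have hsum : (α₀ + Finsupp.single i 1) + (ρ + Finsupp.single i0 1) = γ := by
    rw [hδ, hρ]; abel
  have hsum' : (α₀ + Finsupp.single i0 1) + (ρ + Finsupp.single i 1) = γ := by
    rw [hδ, hρ]; abel
  have g1 := gen_mem (k := k) a b e _ _ hα hβ
  have g2 := gen_mem (k := k) a b e _ _ hα' hβ'
  rw [hsum] at g1
  rw [hsum'] at g2
  have hab : ((a:k) + (b:k)) ≠ 0 := by
    rw [← Nat.cast_add]; exact Nat.cast_ne_zero.mpr (by omega)
  have key : (Pi.single i (monomial (γ - Finsupp.single i 1) (1:k)) -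
      Pi.single i0 (monomial (γ - Finsupp.single i0 1) (1:k)) :
        Fin (n+1) → MvPolynomial (Fin (n+1)) k) =
      ((a:k)+(b:k))⁻¹ • ((fun j => monomial (γ - Finsupp.single j 1)
          ((b:k) * (((α₀ + Finsupp.single i 1 : Fin (n+1) →₀ ℕ) j : ℕ) : k) - (a:k) * (((ρ + Finsupp.single i0 1 : Fin (n+1) →₀ ℕ) j : ℕ) : k))) -
        (fun j => monomial (γ - Finsupp.single j 1)
          ((b:k) * (((α₀ + Finsupp.single i0 1 : Fin (n+1) →₀ ℕ) j : ℕ) : k) - (a:k) * (((ρ + Finsupp.single i 1 : Fin (n+1) →₀ ℕ) j : ℕ) : k)))) := by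
    rw [eq_inv_smul_iff₀ hab]
    funext j
    simp only [Pi.smul_apply, Pi.sub_apply]
    rw [← map_sub]
    have hc : ((b:k) * (((α₀ + Finsupp.single i 1 : Fin (n+1) →₀ ℕ) j : ℕ) : k) - (a:k) * (((ρ + Finsupp.single i0 1 : Fin (n+1) →₀ ℕ) j : ℕ) : k)) -
        ((b:k) * (((α₀ + Finsupp.single i0 1 : Fin (n+1) →₀ ℕ) j : ℕ) : k) - (a:k) * (((ρ + Finsupp.single i 1 : Fin (n+1) →₀ ℕ) j : ℕ) : k)) =
        ((a:k) + (b:k)) * (((Finsupp.single i 1 j : ℕ) : k) - ((Finsupp.single i0 1 j : ℕ) : k)) := by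
      simp only [Finsupp.add_apply, Nat.cast_add]
      ring
    rw [hc]
    by_cases h1 : j = i
    · subst h1
      rw [Pi.single_eq_same, Pi.single_eq_of_ne hne, Finsupp.single_eq_same, Finsupp.single_apply,
        if_neg (Ne.symm hne), sub_zero, smul_monomial, Nat.cast_one, Nat.cast_zero, sub_zero,
        smul_eq_mul]
    · by_cases h2 : j = i0
      · subst h2
        rw [Pi.single_eq_same, Pi.single_eq_of_ne h1, Finsupp.single_eq_same, Finsupp.single_apply,
          if_neg (Ne.symm h1), zero_sub, smul_neg, smul_monomial, Nat.cast_one, Nat.cast_zero,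
          zero_sub, smul_eq_mul, mul_neg, map_neg]
      · rw [Pi.single_eq_of_ne h1, Pi.single_eq_of_ne h2, Finsupp.single_apply, Finsupp.single_apply,
          if_neg (Ne.symm h1), if_neg (Ne.symm h2), sub_zero, smul_zero, Nat.cast_zero, sub_zero,
          mul_zero, monomial_zero]
  rw [key]
  exact Submodule.smul_mem _ _ (Submodule.sub_mem _ g1 g2)

/-- a chosen index in the support -/
noncomputable def i0 (γ : Fin (n+1) →₀ ℕ) : Fin (n+1) :=
  if h : γ.support.Nonempty then h.choose else 0

theorem i0_spec (γ : Fin (n+1) →₀ ℕ) (h : γ ≠ 0) : γ (i0 γ) ≠ 0 := by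
  have hne : γ.support.Nonempty := Finsupp.support_nonempty_iff.mpr h
  unfold i0
  rw [dif_pos hne]
  exact Finsupp.mem_support_iff.mp hne.choose_spec

theorem main [CharZero k] (a b e : ℕ) (he : 0 < e) (ha : 0 < a) (hb : 0 < b)
    (f : Fin (n + 1) → MvPolynomial (Fin (n + 1)) k)
    (hf : ∀ i, (f i).IsHomogeneous ((a + b) * e - 1))
    (hEuler : ∑ i, X i * f i = 0) : f ∈ Submodule.span k (Gset k n a b e) := by
  classical
  let R : MvPolynomial (Fin (n+1)) k →ₗ[k] (Fin (n+1) → MvPolynomial (Fin (n+1)) k) :=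
    (basisMonomials (Fin (n+1)) k).constr k
      (fun γ => Pi.single (i0 γ) (monomial (γ - Finsupp.single (i0 γ) 1) (1:k)))
  have hR : ∀ γ, R (monomial γ 1) =
      Pi.single (i0 γ) (monomial (γ - Finsupp.single (i0 γ) 1) (1:k)) := by
    intro γ
    have := (basisMonomials (Fin (n+1)) k).constr_basis k
      (fun γ => (Pi.single (i0 γ) (monomial (γ - Finsupp.single (i0 γ) 1) (1:k)) :
        Fin (n+1) → MvPolynomial (Fin (n+1)) k)) γ
    rwa [coe_basisMonomials] at this
  let ε : (Fin (n+1) → MvPolynomial (Fin (n+1)) k) →ₗ[k] MvPolynomial (Fin (n+1)) k :=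
    ∑ i, (LinearMap.mulLeft k (X i : MvPolynomial (Fin (n+1)) k)).comp (LinearMap.proj i)
  have hε : ∀ g, ε g = ∑ i, X i * g i := by
    intro g
    simp only [ε, LinearMap.sum_apply, LinearMap.comp_apply, LinearMap.mulLeft_apply,
      LinearMap.proj_apply]
  have h2T : 2 ≤ (a+b)*e := le_trans (by omega : 2 ≤ a + b) (Nat.le_mul_of_pos_right _ he)
  have key : ∀ (i : Fin (n+1)) (m : Fin (n+1) →₀ ℕ), m.degree = (a+b)*e - 1 →
      Pi.single i (monomial m (1:k)) - R (ε (Pi.single i (monomial m (1:k)))) ∈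
        Submodule.span k (Gset k n a b e) := by
    intro i m hm
    have h1 : ε (Pi.single i (monomial m (1:k))) = monomial (m + Finsupp.single i 1) 1 := by
      rw [hε, Finset.sum_eq_single i]
      · rw [Pi.single_eq_same, X, monomial_mul, one_mul, add_comm (Finsupp.single i 1) m]
      · intro j _ hji
        rw [Pi.single_eq_of_ne hji, mul_zero]
      · intro h; exact absurd (Finset.mem_univ i) h
    rw [h1, hR]
    obtain ⟨γ, hγ⟩ : ∃ γ, γ = m + Finsupp.single i 1 := ⟨_, rfl⟩
    rw [← hγ]
    have hγi : γ i ≠ 0 := by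
      rw [hγ, Finsupp.add_apply, Finsupp.single_eq_same]; omega
    have hγ0 : γ ≠ 0 := fun h => hγi (by rw [h]; rfl)
    have hm' : m = γ - Finsupp.single i 1 := by rw [hγ, add_tsub_cancel_right]
    have hγdeg : γ.degree = (a+b)*e := by
      rw [hγ, map_add, Finsupp.degree_single, hm]
      omega
    by_cases hii : i = i0 γ
    · rw [hm', ← hii, sub_self]; exact Submodule.zero_mem _
    · rw [hm']; exact diff_mem a b e he ha hb γ i (i0 γ) hii hγi (i0_spec γ hγ0) hγdeg
  have hΦ : ∀ (i : Fin (n+1)) (p : MvPolynomial (Fin (n+1)) k), p.IsHomogeneous ((a+b)*e - 1) →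
      Pi.single i p - R (ε (Pi.single i p)) ∈ Submodule.span k (Gset k n a b e) := by
    intro i p hp
    have hp' := support_sum_monomial_coeff p
    let Ψ : MvPolynomial (Fin (n+1)) k →ₗ[k] (Fin (n+1) → MvPolynomial (Fin (n+1)) k) :=
      LinearMap.single k (fun _ => MvPolynomial (Fin (n+1)) k) i -
        R ∘ₗ ε ∘ₗ LinearMap.single k (fun _ => MvPolynomial (Fin (n+1)) k) i
    have hΨ : ∀ q, Ψ q = Pi.single i q - R (ε (Pi.single i q)) := fun q => rfl
    have e1 : Pi.single i p - R (ε (Pi.single i p)) =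
        ∑ m ∈ p.support, coeff m p • (Pi.single i (monomial m (1:k)) -
          R (ε (Pi.single i (monomial m (1:k))))) := by
      rw [← hΨ]
      conv_lhs => rw [← hp']
      rw [map_sum]
      apply Finset.sum_congr rfl
      intro m _
      rw [← hΨ, ← map_smul, smul_monomial, smul_eq_mul, mul_one]
    rw [e1]
    apply Submodule.sum_mem
    intro m hm
    apply Submodule.smul_mem
    apply key
    have := hp (mem_support_iff.mp hm)
    rw [Finsupp.degree_eq_weight_one]
    exact this
  have hfin : f = ∑ i, (Pi.single i (f i) - R (ε (Pi.single i (f i)))) := by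
    rw [Finset.sum_sub_distrib, ← map_sum, ← map_sum, Finset.univ_sum_single, hε, hEuler, map_zero,
      sub_zero]
  rw [hfin]
  exact Submodule.sum_mem _ (fun i _ => hΦ i (f i) (hf i))

end



open MvPolynomial in
/-- Over a field k of characteristic zero, for e, a, b positive integers with a < b, the weighted
Gaussian map of the line bundle O(e) on projective n-space is surjective. Concretely, identifying
global sections of O(m) with homogeneous polynomials of degree m in X_0, ..., X_n and global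
sections of the twisted cotangent sheaf Omega^1(t) with the (n+1)-tuples of homogeneous polynomials
of degree t - 1 killed by the Euler map (f_i) to sum_i X_i f_i, every such tuple with t = (a+b)e is
a k-linear combination of the tuples (b tau (d sigma / d X_i) - a sigma (d tau / d X_i))_i with
sigma homogeneous of degree ae and tau homogeneous of degree be. (The source works over the complex
numbers; the statement is one of linear algebra and is given here over any field of characteristic
zero.) -/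
theorem result
    (k : Type u) [Field k] [CharZero k] (n e a b : ℕ) (he : 0 < e) (ha : 0 < a) (hab : a < b)
    (f : Fin (n + 1) → MvPolynomial (Fin (n + 1)) k)
    (hf : ∀ i, (f i).IsHomogeneous ((a + b) * e - 1))
    (hEuler : ∑ i, X i * f i = 0) :
    f ∈ Submodule.span k
      {g : Fin (n + 1) → MvPolynomial (Fin (n + 1)) k |
        ∃ σ τ : MvPolynomial (Fin (n + 1)) k, σ.IsHomogeneous (a * e) ∧ τ.IsHomogeneous (b * e) ∧
          g = fun i => (b : k) • (τ * pderiv i σ) - (a : k) • (σ * pderiv i τ)} := by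
  exact main a b e he ha (by omega) f hf hEuler


end Groth.Agent.S16152
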