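import Groth.Statements.S16154
import Groth.Agent.Lib.Helper20.CIdeal17
import Groth.Agent.Lib.Helper21.SmoothCodim
import Groth.Agent.Lib.Helper17.FieldBCDim

set_option autoImplicit false
universe u
open CategoryTheory CategoryTheory.Limits AlgebraicGeometry
open WGauss

namespace Groth.Agent.S16154

/-- Let k be a field and X in projective n-space over k the common zero scheme of m forms G_j of degrees
d_1 >= d_2 >= ... >= d_m >= 2 (m >= 1), smooth over k of relative dimension kk >= 1 with kk + m = n,
so that X is a smooth complete intersection of dimension kk whose twisted conormal bundle N_X^*(t)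
is the direct sum of the O_X(t - d_j). Then, for an integer t, H^1(X, O_X(t - d_j)) = 0 for every j
(that is, H^1(X, N_X^*(t)) = 0) if and only if either kk >= 2, or kk = 1 and t > 2 d_1 + d_2 + ... +
d_m - n - 1. Here O_X(c) is the pullback of O(c) from projective space along the inclusion of X.
(The source works over the complex numbers with X smooth projective; the statement is given over any
field.) -/
theorem result
    (k : Type u) [Field k] (n kk m : ℕ) (hkk : 1 ≤ kk) (hm : 1 ≤ m) (hn : kk + m = n)
    (d : Fin m → ℕ) (hd2 : ∀ j, 2 ≤ d j) (hanti : Antitone d)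
    (G : ∀ j : Fin m, LefPen.Form n k (d j))
    [SmoothOfRelativeDimension kk ((LefPen.ciIdeal G).subschemeι ≫ CohB1.ProjSpace.toSpec n k)]
    (t : ℤ) :
    (∀ j : Fin m, Subsingleton (Coh.HH (LefPen.ciIdeal G).subscheme
        ((Scheme.Modules.pullback (LefPen.ciIdeal G).subschemeι).obj
          (Twist.twistProjSpace n k (t - (d j : ℤ)))) 1)) ↔
      (2 ≤ kk ∨ (kk = 1 ∧ ((d ⟨0, hm⟩ : ℤ) + ∑ j : Fin m, (d j : ℤ)) - (n : ℤ) - 1 < t)) := by
  letI : (LefPen.ciIdeal G).subscheme.Over (Spec (CommRingCat.of k)) :=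
    ⟨(LefPen.ciIdeal G).subschemeι ≫ CohB1.ProjSpace.toSpec n k⟩
  haveI : SmoothOfRelativeDimension kk
      ((LefPen.ciIdeal G).subscheme ↘ Spec (CommRingCat.of k)) := ‹_›
  have hdim : topologicalKrullDim ↥(LefPen.ciIdeal G).subscheme ≤ ((n - m : ℕ) : WithBot ℕ∞) := by
    rw [Groth.Agent.Lib.helper17.FieldBCDim.dim_eq_iSup_localDim]
    refine iSup_le fun y => ?_
    rw [Groth.Agent.Lib.helper21.SmoothCodim.localDim_eq_of_smooth k kk _ y]
    have hnm : n - m = kk := by omega
    rw [hnm]
  have ha : ∀ j, 1 ≤ d j := fun j => le_trans (by norm_num) (hd2 j)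
  have hH := fun y hy => Groth.Agent.Lib.helper20.CIdeal.le_htN_of_dim (r := m) G (by omega) hdim y hy
  by_cases h2 : 2 ≤ kk
  · refine ⟨fun _ => Or.inl h2, fun _ j => ?_⟩
    exact (Groth.Agent.Lib.helper20.CIdeal.good m (by omega) d ha G hH).1 _ 1 one_pos (by omega)
  · have h1 : kk = 1 := by omega
    have hiff := fun c => Groth.Agent.Lib.helper20.CIdeal.h1_curve_iff (r := m) (by omega) d ha G hH c
    constructor
    · intro h
      refine Or.inr ⟨h1, ?_⟩
      have h3 := (hiff _).mp (h ⟨0, hm⟩)
      linarith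
    · rintro (h | ⟨_, h⟩)
      · omega
      · intro j
        rw [hiff]
        have hj : d j ≤ d ⟨0, hm⟩ := hanti (Fin.mk_le_of_le_val (Nat.zero_le _))
        have hj' : (d j : ℤ) ≤ (d ⟨0, hm⟩ : ℤ) := by exact_mod_cast hj
        linarith

end Groth.Agent.S16154
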