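import Groth.Statements.S16156
import Mathlib

set_option autoImplicit false
universe u
open MukaiVec

namespace Groth.Agent.S16156

section aux

lemma key (n r d χ p q h : ℤ) (hn : 0 < n) (hr : 2 ≤ r) (hd : 0 < d) (hχ : χ < 0) (hp : 0 ≤ p)
    (hodge : 4*n*p*q ≤ h^2)
    (hm1 : 1 ≤ |d*h - r*q - χ*p|) (hm2 : |d*h - r*q - χ*p| ≤ 2)
    (hexc : ¬(d = 1 ∧ χ = -1 ∧ h = 1 ∧ 2*p*q = 0)) (hr2 : r = 2 → ¬(p = 0 ∧ h = 0)) :
    0 ≤ 2*n*d*p - r*h ↔ 0 ≤ χ*h - 2*n*d*q := by
  obtain ⟨hlo, hhi⟩ := abs_le.mp hm2
  have hnd : 0 < n*d := mul_pos hn hd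
  have hr0 : 0 < r := by linarith
  have hc : 0 < -χ := by linarith
  constructor
  · intro hA
    by_contra hB
    push_neg at hB
    rcases le_or_gt h 0 with hh | hh
    · -- h ≤ 0
      have hχh : 0 ≤ χ * h := mul_nonneg_of_nonpos_of_nonpos hχ.le hh
      have hq : 0 < q := by
        by_contra hq'
        push_neg at hq'
        have := mul_nonneg hnd.le (neg_nonneg.mpr hq')
        nlinarith
      have hrq : 2 ≤ r*q := by nlinarith
      have h1 : d * (-h) ≤ (-χ) * p := by linarith
      rcases hp.eq_or_lt with hp0 | hp0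
      · have hp' : p = 0 := hp0.symm
        have hh0 : h = 0 := by
          have h2 : d * (-h) ≤ 0 := by rw [hp'] at h1; simpa using h1
          have h3 : -h ≤ 0 := by
            by_contra hc'
            push_neg at hc'
            have := mul_pos hd hc'
            linarith
          linarith
        have hrq2 : r * q = 2 := by
          rw [hp', hh0] at hlo
          simp only [mul_zero, zero_sub, sub_zero] at hlo
          linarith
        have hr2' : r = 2 := by nlinarith
        exact hr2 hr2' ⟨hp', hh0⟩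
      · -- p > 0
        have hB' : (-χ)*(-h) < 2*n*d*q := by
          have : (-χ)*(-h) = χ*h := by ring
          linarith
        have hh' : 0 ≤ -h := by linarith
        have E1 := mul_le_mul_of_nonneg_right h1 (mul_nonneg hc.le hh')
        have E2 := mul_lt_mul_of_pos_left hB' (mul_pos hc hp0)
        have E3 := mul_le_mul_of_nonneg_left hodge (mul_nonneg hc.le hd.le)
        have E4 : 0 < (-χ)*d*(n*p*q) := mul_pos (mul_pos hc hd) (mul_pos (mul_pos hn hp0) hq)
        nlinarith
    · -- h > 0
      have hrh : 0 < r * h := mul_pos hr0 hh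
      have hp0 : 0 < p := by
        by_contra hp'
        push_neg at hp'
        have hp0 : p = 0 := le_antisymm hp' hp
        rw [hp0] at hA
        simp only [mul_zero, zero_sub] at hA
        linarith
      have hdh : 1 ≤ d * h := by nlinarith
      have hcp : 1 ≤ (-χ) * p := by nlinarith
      rcases le_or_gt q 0 with hq | hq
      · have hrq : 0 ≤ r * (-q) := mul_nonneg hr0.le (by linarith)
        have e1 : d * h = 1 := by linarith
        have e2 : r * (-q) = 0 := by linarith
        have e3 : (-χ) * p = 1 := by linarith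
        have hh1 : h = 1 := by nlinarith
        have hd1 : d = 1 := by rw [hh1] at e1; linarith
        have hp1 : p = 1 := by nlinarith
        have hχ1 : χ = -1 := by rw [hp1] at e3; linarith
        have hq0 : q = 0 := by
          rcases mul_eq_zero.mp e2 with h' | h'
          · linarith
          · linarith
        exact hexc ⟨hd1, hχ1, hh1, by rw [hq0]; ring⟩
      · have hrq : 2 ≤ r * q := by nlinarith
        have h1 : d * h < 2 * (r * q) := by linarith
        have E1 := mul_lt_mul_of_pos_right h1 hrh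
        have E2 := mul_le_mul_of_nonneg_left (sub_nonneg.mp hA) (by linarith : (0:ℤ) ≤ 2 * (r * q))
        have E3 := mul_le_mul_of_nonneg_left hodge (mul_nonneg hd.le hr0.le)
        nlinarith
  · intro hBq
    by_contra hA
    push_neg at hA
    have hndp : 0 ≤ n*d*p := mul_nonneg hnd.le hp
    have hrh : 0 < r * h := by linarith
    have hh : 0 < h := by
      by_contra hh'
      push_neg at hh'
      have := mul_nonneg hr0.le (neg_nonneg.mpr hh')
      linarith
    have hχh : χ * h < 0 := mul_neg_of_neg_of_pos hχ hh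
    have hq : q < 0 := by
      by_contra hq'
      push_neg at hq'
      have := mul_nonneg hnd.le hq'
      nlinarith
    have hdh : 1 ≤ d * h := by nlinarith
    have hrq : 2 ≤ r * (-q) := by nlinarith
    have hcp : 0 ≤ (-χ) * p := mul_nonneg hc.le hp
    linarith

end aux

/-- Let N be an abelian group with a symmetric integer-valued bilinear form and H an element with H·H =
2n for some n > 0 such that every x with x·H = 0 satisfies x·x ≤ 0 (the Hodge index inequality). Fix
integers r ≥ 2, d > 0 and χ < 0 (a Mukai vector v = (r, dH, χ)) and an isotropic Mukai vector u =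
(p, η, q), p ≥ 0, η ∈ N, η·η = 2pq, whose pairing ⟨v, u⟩ = d(H·η) − rq − χp has absolute value 1 or
2. Exclude the case d = 1, χ = −1, H·η = 1, η·η = 0, and when r = 2 also the case p = 0, H·η = 0.
Then the pairings of u∨ = (p, −η, q) with w₀ = (0, rH, −2nd) and with w₁ = (2nd, −χH, 0) are both
non-negative or both negative: 2ndp − r(H·η) ≥ 0 holds if and only if χ(H·η) − 2ndq ≥ 0 holds. -/
theorem result
    (N : Type u) [AddCommGroup N] (B : LinearMap.BilinForm ℤ N) (hB : ∀ x y : N, B x y = B y x)
    (H : N) (n : ℤ) (hn : 0 < n) (hH : B H H = 2 * n) (hodge : ∀ x : N, B x H = 0 → B x x ≤ 0)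
    (r d χ p q : ℤ) (η : N) (hr : 2 ≤ r) (hd : 0 < d) (hχ : χ < 0) (hp : 0 ≤ p)
    (hiso : B η η = 2 * p * q)
    (hvu : 1 ≤ |d * B H η - r * q - χ * p| ∧ |d * B H η - r * q - χ * p| ≤ 2)
    (hexc : ¬ (d = 1 ∧ χ = -1 ∧ B H η = 1 ∧ B η η = 0))
    (hr2 : r = 2 → ¬ (p = 0 ∧ B H η = 0)) :
    (0 ≤ 2 * n * d * p - r * B H η ↔ 0 ≤ χ * B H η - 2 * n * d * q) := by
  have hodge' : 4*n*p*q ≤ (B H η)^2 := by
    have hx : B ((2*n) • η - (B H η) • H) H = 0 := by
      simp only [map_sub, map_smul, LinearMap.sub_apply, LinearMap.smul_apply, smul_eq_mul, hH,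
        hB η H]
      ring
    have h1 := hodge _ hx
    have e : B ((2*n) • η - (B H η) • H) ((2*n) • η - (B H η) • H)
        = (2*n)*(2*n)*(B η η) - 2*(2*n)*(B H η)*(B H η) + (B H η)*(B H η)*(B H H) := by
      simp only [map_sub, map_smul, LinearMap.sub_apply, LinearMap.smul_apply, smul_eq_mul,
        hB η H]
      ring
    rw [e, hiso, hH] at h1
    nlinarith
  exact key n r d χ p q (B H η) hn hr hd hχ hp hodge' hvu.1 hvu.2
    (by rw [hiso] at hexc; exact hexc) hr2

end Groth.Agent.S16156
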