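import Groth.Statements.S16158
import Mathlib

set_option autoImplicit false
universe u v w
open MadRed

namespace Groth.Agent.S16158

open TensorProduct

variable {R : Type u} [CommRing R] [IsNoetherianRing R]
    {M : Type v} [AddCommGroup M] [Module R M] [Module.Finite R M]

theorem card_le_of_support (p : PrimeSpectrum R) {ι : Type w} [DecidableEq ι]
    (N : ι → Submodule R M) (hN : DirectSum.IsInternal N) (s : Finset ι)
    (hs : ∀ i ∈ s, p ∈ Module.support R (N i)) :
    s.card ≤ Module.finrank p.asIdeal.ResidueField (p.asIdeal.ResidueField ⊗[R] M) := by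
  haveI : IsNoetherian R M := isNoetherian_of_isNoetherianRing_of_finite R M
  let e : (DirectSum ι fun i => N i) ≃ₗ[R] M := LinearEquiv.ofBijective (DirectSum.coeLinearMap N) hN
  let π : M →ₗ[R] (∀ i : s, N i) :=
    LinearMap.pi (fun i => (DirectSum.component R ι (fun i => N i) i.1).comp e.symm.toLinearMap)
  have hπ : Function.Surjective π := by
    intro y
    refine ⟨e (∑ i : s, DirectSum.lof R ι (fun i => N i) i.1 (y i)), ?_⟩
    funext j
    simp only [π, LinearMap.pi_apply, LinearMap.comp_apply, LinearEquiv.coe_coe,
      LinearEquiv.symm_apply_apply, map_sum]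
    rw [Finset.sum_eq_single j]
    · exact DirectSum.component.lof_self R _ _
    · intro i _ hij
      rw [DirectSum.component.of, dif_neg (Subtype.val_injective.ne hij)]
    · intro hj; exact absurd (Finset.mem_univ j) hj
  set κ := p.asIdeal.ResidueField with hκ
  have hsurj : Function.Surjective (LinearMap.baseChange κ π) := by
    intro y
    obtain ⟨x, hx⟩ := LinearMap.lTensor_surjective κ hπ y
    exact ⟨x, hx⟩
  have h1 := LinearMap.finrank_le_finrank_of_surjective hsurj
  have h2 : Module.finrank κ (κ ⊗[R] (∀ i : s, N i)) =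
      ∑ i : s, Module.finrank κ (κ ⊗[R] N i) := by
    rw [LinearEquiv.finrank_eq (TensorProduct.piRight R κ κ (fun i : s => N i)),
      Module.finrank_pi_fintype]
  have h3 : ∀ i : s, 1 ≤ Module.finrank κ (κ ⊗[R] N i) := by
    intro i
    have : Nontrivial (κ ⊗[R] N i) :=
      (Module.mem_support_iff_nontrivial_residueField_tensorProduct p).1 (hs i.1 i.2)
    exact Module.finrank_pos
  calc s.card = ∑ i : s, 1 := by simp
    _ ≤ ∑ i : s, Module.finrank κ (κ ⊗[R] N i) := Finset.sum_le_sum fun i _ => h3 i
    _ = _ := h2.symm
    _ ≤ _ := h1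

omit [IsNoetherianRing R] [Module.Finite R M] in
theorem mem_support_of_mem_ass [IsNoetherianRing R] {q : Ideal R} (hq : q ∈ associatedPrimes R M) :
    (⟨q, hq.isPrime⟩ : PrimeSpectrum R) ∈ Module.support R M := by
  obtain ⟨_, x, hx⟩ := (isAssociatedPrime_iff (I := q) (M := M)).1 hq
  rw [Module.mem_support_iff_exists_annihilator]
  refine ⟨x, ?_⟩
  intro r hr
  rw [Submodule.mem_annihilator_span_singleton] at hr
  change r ∈ q
  rw [hx, Submodule.mem_colon_singleton]
  simpa using hr

theorem main (R : Type u) [CommRing R] [IsNoetherianRing R]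
    (M : Type v) [AddCommGroup M] [Module R M] [Module.Finite R M] :
    ∃ n : ℕ, ∀ (ι : Type w) [DecidableEq ι] (N : ι → Submodule R M), DirectSum.IsInternal N →
      ∃ s : Finset ι, s.card ≤ n ∧ ∀ i, N i ≠ ⊥ → i ∈ s := by
  classical
  haveI : IsNoetherian R M := isNoetherian_of_isNoetherianRing_of_finite R M
  have hA : {p : PrimeSpectrum R | p.asIdeal ∈ associatedPrimes R M}.Finite :=
    (associatedPrimes.finite R M).preimage
      (Set.injOn_of_injective (fun p q h => PrimeSpectrum.ext h))
  refine ⟨∑ p ∈ hA.toFinset, Module.finrank p.asIdeal.ResidueField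
    (p.asIdeal.ResidueField ⊗[R] M), ?_⟩
  intro ι _ N hN
  have hT : ∀ p : PrimeSpectrum R, {i | p ∈ Module.support R (N i)}.Finite := by
    intro p
    by_contra hinf
    obtain ⟨t, ht, hcard⟩ := Set.Infinite.exists_subset_card_eq hinf
      (Module.finrank p.asIdeal.ResidueField (p.asIdeal.ResidueField ⊗[R] M) + 1)
    have := card_le_of_support p N hN t (fun i hi => ht hi)
    omega
  refine ⟨hA.toFinset.biUnion (fun p => (hT p).toFinset), ?_, ?_⟩
  · refine Finset.card_biUnion_le.trans (Finset.sum_le_sum fun p _ => ?_)
    exact card_le_of_support p N hN _ (fun i hi => by simpa using hi)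
  · intro i hi
    have : Nontrivial (N i) := Submodule.nontrivial_iff_ne_bot.2 hi
    obtain ⟨q, hq⟩ := associatedPrimes.nonempty R (N i)
    have hqM : q ∈ associatedPrimes R M :=
      associatedPrimes.subset_of_injective (f := (N i).subtype) (N i).injective_subtype hq
    rw [Finset.mem_biUnion]
    refine ⟨⟨q, hq.isPrime⟩, ?_, ?_⟩
    · simpa using hqM
    · simpa using mem_support_of_mem_ass hq


/-- Let R be a commutative Noetherian ring and M a finitely generated R-module. Then there is a natural
number n such that in every decomposition of M as an internal direct sum of a family of submodules,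
at most n of the summands are nonzero (the nonzero summands are indexed by a finite set of size at
most n). -/
theorem result (R : Type u) [CommRing R] [IsNoetherianRing R]
    (M : Type v) [AddCommGroup M] [Module R M] [Module.Finite R M] :
    ∃ n : ℕ, ∀ (ι : Type w) [DecidableEq ι] (N : ι → Submodule R M), DirectSum.IsInternal N →
      ∃ s : Finset ι, s.card ≤ n ∧ ∀ i, N i ≠ ⊥ → i ∈ s := by
  exact main R M

end Groth.Agent.S16158
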