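import Groth.Statements.S16159
import Mathlib

set_option autoImplicit false
set_option linter.style.haveILetI false
universe u v w x
open MadRed

namespace Groth.Agent.S16159

open Module.End

section LemR

variable {K : Type u} {V : Type w} [Field K] [AddCommGroup V] [Module K V]

theorem mem_of_sum_mem (g : Module.End K V) (p : Submodule K V) (hp : ∀ x ∈ p, g x ∈ p) :
    ∀ (S : Finset K) (y : K → V), (∀ ν ∈ S, y ν ∈ eigenspace g ν) → (∑ ν ∈ S, y ν) ∈ p →
      ∀ ν ∈ S, y ν ∈ p := by
  classical
  intro S
  induction S using Finset.induction_on with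
  | empty => intro y _ _ ν hν; simp at hν
  | insert a S' ha ih =>
    intro y hy hsum
    have hS' : ∀ ν ∈ S', y ν ∈ p := by
      have h1 : g (∑ ν ∈ insert a S', y ν) - a • (∑ ν ∈ insert a S', y ν) ∈ p :=
        p.sub_mem (hp _ hsum) (p.smul_mem a hsum)
      have h2 : g (∑ ν ∈ insert a S', y ν) - a • (∑ ν ∈ insert a S', y ν) =
          ∑ ν ∈ S', (ν - a) • y ν := by
        rw [map_sum, Finset.smul_sum, ← Finset.sum_sub_distrib, Finset.sum_insert ha]
        have ha' : g (y a) - a • y a = 0 := by
          rw [mem_eigenspace_iff.1 (hy a (Finset.mem_insert_self a S')), sub_self]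
        rw [ha', zero_add]
        refine Finset.sum_congr rfl fun ν hν => ?_
        rw [mem_eigenspace_iff.1 (hy ν (Finset.mem_insert_of_mem hν)), sub_smul]
      rw [h2] at h1
      have h3 := ih (fun ν => (ν - a) • y ν)
        (fun ν hν => (eigenspace g ν).smul_mem _ (hy ν (Finset.mem_insert_of_mem hν))) h1
      intro ν hν
      have hne : ν - a ≠ 0 := by
        intro h0
        apply ha
        rw [← sub_eq_zero.1 h0]
        exact hν
      have := p.smul_mem (ν - a)⁻¹ (h3 ν hν)
      rwa [smul_smul, inv_mul_cancel₀ hne, one_smul] at this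
    intro ν hν
    rcases Finset.mem_insert.1 hν with rfl | hν'
    · have : y ν = (∑ μ ∈ insert ν S', y μ) - ∑ μ ∈ S', y μ := by
        rw [Finset.sum_insert ha, add_sub_cancel_right]
      rw [this]
      exact p.sub_mem hsum (p.sum_mem hS')
    · exact hS' ν hν'

theorem le_iSup_inf_eigenspace (g : Module.End K V) (p : Submodule K V) (hp : ∀ x ∈ p, g x ∈ p)
    (hg : ⨆ μ : K, eigenspace g μ = ⊤) : p ≤ ⨆ ν : K, p ⊓ eigenspace g ν := by
  classical
  intro x hx
  have hx' : x ∈ ⨆ μ : K, eigenspace g μ := by rw [hg]; exact Submodule.mem_top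
  obtain ⟨m, hm, rfl⟩ := (Submodule.mem_iSup_iff_exists_finsupp _ _).1 hx'
  have h1 := mem_of_sum_mem g p hp m.support m (fun ν _ => hm ν) hx
  refine Submodule.sum_mem _ fun ν hν => ?_
  exact (le_iSup (fun ν => p ⊓ eigenspace g ν) ν) ⟨h1 ν hν, hm ν⟩

end LemR


section LemA

variable (k : Type u) [Field k] (R : Type v) [CommRing R] [Algebra k R]
  (W : Type w) [AddCommGroup W] [Module R W] [Module k W] [IsScalarTower k R W]
  (ι : Type x) (g : ι → Module.End R W)

/-- joint eigenvectors modulo `N`. -/
def JE (N : Submodule R W) : Set W := {x | ∃ χ : ι → k, ∀ i, g i x - χ i • x ∈ N}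

variable {k R W ι g}

theorem mem_E_iff (i : ι) (ν : k) (x : W) :
    x ∈ eigenspace ((g i).restrictScalars k) ν ↔ g i x = ν • x := mem_eigenspace_iff

theorem mem_ER_iff (i : ι) (ν : k) (x : W) :
    x ∈ eigenspace (g i) (algebraMap k R ν) ↔ g i x = ν • x := by
  rw [mem_eigenspace_iff, algebraMap_smul]

theorem map_E (hcomm : ∀ i j, Commute (g i) (g j)) (i j : ι) (ν : k) (x : W)
    (hx : x ∈ eigenspace ((g i).restrictScalars k) ν) :
    g j x ∈ eigenspace ((g i).restrictScalars k) ν := by
  rw [mem_E_iff] at hx ⊢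
  have h1 : g i (g j x) = g j (g i x) := LinearMap.congr_fun (hcomm i j).eq x
  rw [h1, hx, LinearMap.map_smul_of_tower]

theorem span_JE_eq_top [IsNoetherian R W] (hcomm : ∀ i j, Commute (g i) (g j))
    (hdiag : ∀ i, ⨆ μ : k, eigenspace ((g i).restrictScalars k) μ = ⊤) (N : Submodule R W) :
    (∀ i, ∀ x ∈ N, g i x ∈ N) → ∀ w : W, w ∈ Submodule.span k (JE k R W ι g N) := by
  classical
  refine WellFoundedGT.induction (motive := fun N => (∀ i, ∀ x ∈ N, g i x ∈ N) →
    ∀ w : W, w ∈ Submodule.span k (JE k R W ι g N)) N ?_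
  intro N ih hN
  by_cases hA : ∀ i, ∃ μ : k, ∀ w : W, g i w - μ • w ∈ N
  · choose χ hχ using hA
    intro w
    exact Submodule.subset_span ⟨χ, fun i => hχ i w⟩
  · push Not at hA
    obtain ⟨i, hi⟩ := hA
    set E : k → Submodule k W := fun ν => eigenspace ((g i).restrictScalars k) ν with hE
    set ER : k → Submodule R W := fun ν => eigenspace (g i) (algebraMap k R ν) with hER
    have hER_mem : ∀ ν x, x ∈ ER ν ↔ x ∈ E ν := fun ν x => by
      rw [hE, hER]
      simp only
      rw [mem_ER_iff, mem_E_iff]
    have htop : ∀ w : W, w ∈ ⨆ ν, E ν := fun w => by rw [hdiag i]; exact Submodule.mem_top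
    set N' : k → Submodule R W := fun μ => N ⊔ ⨆ ν : {ν : k // ν ≠ μ}, ER ν with hN'
    have F1 : ∀ μ j, ∀ x ∈ N' μ, g j x ∈ N' μ := by
      intro μ j
      have : N' μ ≤ (N' μ).comap (g j) := by
        refine sup_le ?_ (iSup_le fun ν => ?_)
        · intro x hx
          exact Submodule.mem_comap.2 (Submodule.mem_sup_left (hN j x hx))
        · intro x hx
          apply Submodule.mem_comap.2
          apply Submodule.mem_sup_right
          apply Submodule.mem_iSup_of_mem ν
          exact (hER_mem ν.1 _).2 (map_E hcomm i j ν.1 x ((hER_mem ν.1 x).1 hx))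
      exact fun x hx => this hx
    have F2 : ∀ μ, N < N' μ := by
      intro μ
      refine lt_of_le_of_ne le_sup_left fun heq => ?_
      obtain ⟨w, hw⟩ := hi μ
      apply hw
      have hle : ∀ ν : k, ν ≠ μ → ER ν ≤ N := by
        intro ν hν
        rw [heq]
        exact le_trans (le_iSup (fun ν : {ν : k // ν ≠ μ} => ER ν) ⟨ν, hν⟩) le_sup_right
      refine Submodule.iSup_induction (p := E) (motive := fun w => g i w - μ • w ∈ N) (htop w)
        ?_ ?_ ?_
      · intro ν x hx
        have hx' : g i x = ν • x := (mem_E_iff i ν x).1 hx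
        rw [hx', ← sub_smul]
        by_cases hν : ν = μ
        · rw [hν, sub_self, zero_smul]
          exact N.zero_mem
        · exact N.smul_of_tower_mem _ (hle ν hν ((hER_mem ν x).2 hx))
      · simp
      · intro x y hx hy
        have : g i (x + y) - μ • (x + y) = (g i x - μ • x) + (g i y - μ • y) := by
          rw [map_add, smul_add]
          abel
        rw [this]
        exact N.add_mem hx hy
    have F3 : ∀ μ (w : W), w ∈ Submodule.span k (JE k R W ι g (N' μ)) :=
      fun μ => ih (N' μ) (F2 μ) (F1 μ)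
    intro w
    refine Submodule.iSup_induction (p := E)
      (motive := fun w => w ∈ Submodule.span k (JE k R W ι g N)) (htop w) ?_
      (Submodule.zero_mem _) (fun x y hx hy => Submodule.add_mem _ hx hy)
    intro μ w hw
    set C : Submodule k W := ⨆ (ν : k) (_ : ν ≠ μ), E ν with hC
    have hind := Module.End.eigenspaces_iSupIndep ((g i).restrictScalars k)
    have hcompl : IsCompl (E μ) C := by
      refine ⟨hind μ, ?_⟩
      rw [codisjoint_iff, hC, ← iSup_split_single E μ]
      exact hdiag i
    have C1 : ∀ j, ∀ x ∈ C, g j x ∈ C := by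
      intro j
      have : C ≤ C.comap ((g j).restrictScalars k) := by
        refine iSup_le fun ν => iSup_le fun hν => ?_
        intro x hx
        apply Submodule.mem_comap.2
        exact Submodule.mem_iSup_of_mem ν (Submodule.mem_iSup_of_mem hν (map_E hcomm i j ν x hx))
      exact fun x hx => this hx
    have C2 : ∀ z ∈ (⨆ ν : {ν : k // ν ≠ μ}, ER ν), z ∈ C := by
      intro z hz
      refine Submodule.iSup_induction (p := fun ν : {ν : k // ν ≠ μ} => ER ν)
        (motive := fun z => z ∈ C) hz ?_ C.zero_mem (fun x y hx hy => C.add_mem hx hy)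
      intro ν x hx
      exact Submodule.mem_iSup_of_mem ν.1 (Submodule.mem_iSup_of_mem ν.2 ((hER_mem ν.1 x).1 hx))
    set π := Submodule.projectionOnto (E μ) C hcompl with hπ
    set F : W →ₗ[k] W := (E μ).subtype ∘ₗ π with hF
    have hF1 : ∀ x ∈ E μ, F x = x := by
      intro x hx
      have := Submodule.projectionOnto_apply_left hcompl ⟨x, hx⟩
      change ((π x : E μ) : W) = x
      rw [hπ]
      exact congrArg Subtype.val this
    have hF2 : ∀ x, F x ∈ E μ := fun x => (π x).2
    have hF3 : ∀ x, x - F x ∈ C := by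
      intro x
      have h1 : π (x - F x) = 0 := by
        rw [map_sub]
        have : π (F x) = π x := by
          have := Submodule.projectionOnto_apply_left hcompl (π x)
          exact this
        rw [this, sub_self]
      have h2 : x - F x ∈ LinearMap.ker π := h1
      rwa [hπ, Submodule.ker_projectionOnto] at h2
    have hc : ∀ x ∈ JE k R W ι g (N' μ), F x ∈ JE k R W ι g N := by
      rintro x ⟨χ, hχ⟩
      refine ⟨χ, fun j => ?_⟩
      set x' := F x with hx'
      set c := x - x' with hcdef
      have hcC : c ∈ C := hF3 x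
      set y := g j x' - χ j • x' with hy
      have hyE : y ∈ E μ :=
        (E μ).sub_mem (map_E hcomm i j μ x' (hF2 x)) ((E μ).smul_mem _ (hF2 x))
      obtain ⟨n, hn, c', hc', hsum⟩ := Submodule.mem_sup.1 (hχ j)
      have hc'C : c' ∈ C := C2 c' hc'
      have hgc : g j c - χ j • c ∈ C := C.sub_mem (C1 j c hcC) (C.smul_mem _ hcC)
      have hxx : x = x' + c := by rw [hcdef]; abel
      have hyeq : y = n + c' - (g j c - χ j • c) := by
        rw [hsum, hy]
        conv_rhs => rw [hxx]
        rw [map_add, smul_add]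
        abel
      have hn' : n ∈ ⨆ ν, (N.restrictScalars k) ⊓ E ν :=
        le_iSup_inf_eigenspace ((g i).restrictScalars k) (N.restrictScalars k)
          (fun x hx => hN i x hx) (hdiag i) hn
      rw [iSup_split_single _ μ] at hn'
      obtain ⟨n₁, hn₁, n₂, hn₂, hn12⟩ := Submodule.mem_sup.1 hn'
      have hn₂C : n₂ ∈ C := by
        have hle : (⨆ (ν : k) (_ : ν ≠ μ), (N.restrictScalars k) ⊓ E ν) ≤ C :=
          iSup_mono fun ν => iSup_mono fun _ => inf_le_right
        exact hle hn₂
      have h1 : y - n₁ ∈ C := by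
        have : y - n₁ = n₂ + c' - (g j c - χ j • c) := by
          rw [hyeq, ← hn12]
          abel
        rw [this]
        exact C.sub_mem (C.add_mem hn₂C hc'C) hgc
      have h2 : y - n₁ ∈ E μ := (E μ).sub_mem hyE hn₁.2
      have h3 : y - n₁ = 0 := Submodule.disjoint_def.1 hcompl.disjoint _ h2 h1
      rw [sub_eq_zero.1 h3]
      exact hn₁.1
    have hw' : F w ∈ Submodule.span k (JE k R W ι g N) := by
      have h1 : F w ∈ (Submodule.span k (JE k R W ι g (N' μ))).map F :=
        Submodule.mem_map_of_mem (F3 μ w)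
      rw [← Submodule.span_image] at h1
      refine Submodule.span_mono ?_ h1
      rintro _ ⟨x, hx, rfl⟩
      exact hc x hx
    rwa [hF1 w hw] at hw'

theorem lemmaA [IsNoetherian R W] (hcomm : ∀ i j, Commute (g i) (g j))
    (hdiag : ∀ i, ⨆ μ : k, eigenspace ((g i).restrictScalars k) μ = ⊤) :
    ⨆ χ : ι → k, ⨅ i, eigenspace ((g i).restrictScalars k) (χ i) = ⊤ := by
  rw [eq_top_iff]
  intro w _
  have h1 := span_JE_eq_top hcomm hdiag ⊥ (fun i x hx => by
    rw [Submodule.mem_bot] at hx ⊢
    rw [hx, map_zero]) w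
  refine (Submodule.span_le.2 ?_) h1
  rintro x ⟨χ, hχ⟩
  refine Submodule.mem_iSup_of_mem χ ?_
  rw [Submodule.mem_iInf]
  intro i
  rw [mem_E_iff]
  exact sub_eq_zero.1 ((Submodule.mem_bot R).1 (hχ i))

end LemA


/-- Let k be a field, R a commutative Noetherian k-algebra and V an R-module, viewed also as a k-vector
space through k → R. Let (f_i) be a family of pairwise commuting R-linear endomorphisms of V such
that each f_i, as a k-linear map, is diagonalizable over k (its eigenspaces span V), and such that
every vector of V lies in a finitely generated R-submodule stable under every f_i. Then the family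
is simultaneously diagonalizable over k: the common eigenspaces ⨅_i Eig(f_i, χ(i)), over all
assignments χ of eigenvalues in k, span V. The source states this for the endomorphisms given by an
abelian group acting R-linearly; the row takes any commuting family, which is what the argument
uses, and neither k algebraically closed nor of characteristic zero is needed. -/
theorem result
    (k : Type u) [Field k] (R : Type v) [CommRing R] [Algebra k R] [IsNoetherianRing R]
    (V : Type w) [AddCommGroup V] [Module R V] [Module k V] [IsScalarTower k R V]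
    (ι : Type x) (f : ι → Module.End R V)
    (hcomm : ∀ i j, Commute (f i) (f j))
    (hdiag : ∀ i, ⨆ μ : k, Module.End.eigenspace ((f i).restrictScalars k) μ = ⊤)
    (hfin : ∀ v : V, ∃ W : Submodule R V, v ∈ W ∧ W.FG ∧ ∀ i, ∀ w ∈ W, f i w ∈ W) :
    ⨆ χ : ι → k, ⨅ i, Module.End.eigenspace ((f i).restrictScalars k) (χ i) = ⊤ := by
  classical
  rw [eq_top_iff]
  intro v _
  obtain ⟨W, hvW, hfg, hst⟩ := hfin v
  haveI : IsNoetherian R W := isNoetherian_of_fg_of_noetherian W hfg
  let g : ι → Module.End R W := fun i => (f i).restrict (hst i)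
  have hgc : ∀ i j, Commute (g i) (g j) := by
    intro i j
    apply LinearMap.ext
    intro w
    apply Subtype.ext
    change f i (f j w) = f j (f i w)
    exact LinearMap.congr_fun (hcomm i j).eq w
  have hgd : ∀ i, ⨆ μ : k, eigenspace ((g i).restrictScalars k) μ = ⊤ := by
    intro i
    rw [eq_top_iff]
    intro w _
    have h1 : (w : V) ∈ ⨆ ν : k, (W.restrictScalars k) ⊓ eigenspace ((f i).restrictScalars k) ν :=
      le_iSup_inf_eigenspace ((f i).restrictScalars k) (W.restrictScalars k)
        (fun x hx => hst i x hx) (hdiag i) w.2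
    have h2 : ∃ hx : (w : V) ∈ W,
        (⟨(w : V), hx⟩ : W) ∈ ⨆ μ : k, eigenspace ((g i).restrictScalars k) μ := by
      refine Submodule.iSup_induction
        (p := fun ν : k => (W.restrictScalars k) ⊓ eigenspace ((f i).restrictScalars k) ν)
        (motive := fun x => ∃ hx : x ∈ W,
          (⟨x, hx⟩ : W) ∈ ⨆ μ : k, eigenspace ((g i).restrictScalars k) μ) h1 ?_ ?_ ?_
      · intro ν x hx
        refine ⟨hx.1, Submodule.mem_iSup_of_mem ν ?_⟩
        rw [mem_eigenspace_iff]
        apply Subtype.ext
        exact mem_eigenspace_iff.1 hx.2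
      · exact ⟨W.zero_mem, Submodule.zero_mem _⟩
      · rintro x y ⟨hx, hx'⟩ ⟨hy, hy'⟩
        exact ⟨W.add_mem hx hy, Submodule.add_mem _ hx' hy'⟩
    obtain ⟨_, h3⟩ := h2
    exact h3
  have h2 := lemmaA hgc hgd
  have h3 : (⟨v, hvW⟩ : W) ∈ ⨆ χ : ι → k, ⨅ i, eigenspace ((g i).restrictScalars k) (χ i) := by
    rw [h2]
    exact Submodule.mem_top
  have h4 := Submodule.mem_map_of_mem (f := (W.subtype).restrictScalars k) h3
  rw [Submodule.map_iSup] at h4
  have h5 : (⨆ χ : ι → k, Submodule.map ((W.subtype).restrictScalars k)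
      (⨅ i, eigenspace ((g i).restrictScalars k) (χ i))) ≤
      ⨆ χ : ι → k, ⨅ i, Module.End.eigenspace ((f i).restrictScalars k) (χ i) := by
    refine iSup_mono fun χ => ?_
    rintro _ ⟨x, hx, rfl⟩
    rw [SetLike.mem_coe, Submodule.mem_iInf] at hx
    rw [Submodule.mem_iInf]
    intro i
    rw [mem_eigenspace_iff]
    have := congrArg Subtype.val (mem_eigenspace_iff.1 (hx i))
    exact this
  exact h5 h4


end Groth.Agent.S16159
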