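import Groth.Statements.S16160
import Mathlib
import Groth.Agent.S16159
import Groth.Agent.Lib.Helper15.ComodFin

set_option autoImplicit false
universe u v w
open scoped TensorProduct
open MadRed

namespace Groth.Agent.S16160

open TensorProduct Groth.Agent.Lib.helper15.ComodFin

section Aux
variable (k : Type u) [Field k] (A : Type v) [CommRing A] [HopfAlgebra k A]
  (R : Type w) [CommRing R] [Algebra k R]

/-- `y ⊗ z ↦ g y * h z`. -/
noncomputable def psi (g h : A →ₐ[k] R) : A ⊗[k] A →ₗ[k] R :=
  (Algebra.TensorProduct.lift g h (fun _ _ => Commute.all _ _)).toLinearMap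

/-- `x ⊗ s ↦ psi s ⊗ x`. -/
noncomputable def Phi (g h : A →ₐ[k] R) : A ⊗[k] (A ⊗[k] A) →ₗ[k] R ⊗[k] A :=
  (TensorProduct.comm k A R).toLinearMap ∘ₗ (psi k A R g h).lTensor A

theorem Phi_tmul (g h : A →ₐ[k] R) (x y z : A) :
    Phi k A R g h (x ⊗ₜ[k] (y ⊗ₜ[k] z)) = (g y * h z) ⊗ₜ[k] x := by
  simp [Phi, psi]

theorem translAux_apply (g : A →ₐ[k] R) (a : A) :
    MadRed.translAux k A R g a = Algebra.TensorProduct.map g (AlgHom.id k A)
      (Algebra.TensorProduct.comm k A A (Coalgebra.comul (R := k) a)) := rfl

theorem ptAct_tmul (g : A →ₐ[k] R) (r : R) (a : A) :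
    MadRed.ptAct k A R g (r ⊗ₜ[k] a) = r • MadRed.translAux k A R g a := by
  have h1 : (r ⊗ₜ[k] (1 : A) : R ⊗[k] A) = algebraMap R (R ⊗[k] A) r := by
    rw [Algebra.TensorProduct.algebraMap_apply]
    rfl
  rw [MadRed.ptAct, Algebra.TensorProduct.lift_tmul, Algebra.TensorProduct.includeLeft_apply, h1,
    ← Algebra.smul_def]

theorem aux1 (g h : A →ₐ[k] R) (y : A) (s : A ⊗[k] A) :
    h y • Algebra.TensorProduct.map g (AlgHom.id k A) (Algebra.TensorProduct.comm k A A s) =
      Phi k A R g h (TensorProduct.assoc k A A A (s ⊗ₜ[k] y)) := by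
  induction s with
  | zero => simp
  | tmul x₁ x₂ =>
    rw [Algebra.TensorProduct.comm_tmul, Algebra.TensorProduct.map_tmul, TensorProduct.assoc_tmul,
      Phi_tmul, TensorProduct.smul_tmul', smul_eq_mul, mul_comm]
    rfl
  | add s t hs ht =>
    rw [map_add, map_add, smul_add, hs, ht, TensorProduct.add_tmul, map_add, map_add]

theorem aux2 (g h : A →ₐ[k] R) (t : A ⊗[k] A) :
    MadRed.ptAct k A R g (Algebra.TensorProduct.map h (AlgHom.id k A)
        (Algebra.TensorProduct.comm k A A t)) =
      Phi k A R g h (TensorProduct.assoc k A A A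
        ((Coalgebra.comul (R := k) (A := A)).rTensor A t)) := by
  induction t with
  | zero => simp
  | tmul x y =>
    rw [Algebra.TensorProduct.comm_tmul, Algebra.TensorProduct.map_tmul, ptAct_tmul,
      translAux_apply, LinearMap.rTensor_tmul]
    exact aux1 k A R g h y (Coalgebra.comul x)
  | add s t hs ht => simp only [map_add, hs, ht]

theorem aux3 (g h : A →ₐ[k] R) (t : A ⊗[k] A) :
    Algebra.TensorProduct.map (WithConv.ofConv (WithConv.toConv g * WithConv.toConv h))
        (AlgHom.id k A) (Algebra.TensorProduct.comm k A A t) =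
      Phi k A R g h ((Coalgebra.comul (R := k) (A := A)).lTensor A t) := by
  induction t with
  | zero => simp
  | tmul x y =>
    rw [Algebra.TensorProduct.comm_tmul, Algebra.TensorProduct.map_tmul, LinearMap.lTensor_tmul]
    have h1 : (WithConv.ofConv (WithConv.toConv g * WithConv.toConv h)) y =
        psi k A R g h (Coalgebra.comul y) :=
      AlgHom.convMul_apply (WithConv.toConv g) (WithConv.toConv h) y
    rw [h1]
    simp [Phi]
  | add s t hs ht => simp only [map_add, hs, ht]

theorem ptAct_comp (g h : A →ₐ[k] R) (z : R ⊗[k] A) :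
    MadRed.ptAct k A R g (MadRed.ptAct k A R h z) =
      MadRed.ptAct k A R (WithConv.ofConv (WithConv.toConv g * WithConv.toConv h)) z := by
  induction z with
  | zero => simp
  | tmul r a =>
    rw [ptAct_tmul, ptAct_tmul, map_smul, translAux_apply, translAux_apply, aux2, aux3,
      Coalgebra.coassoc_apply]
  | add x y hx hy => simp only [map_add, hx, hy]

theorem good (v : R ⊗[k] A) : ∃ W : Submodule R (R ⊗[k] A), v ∈ W ∧ W.FG ∧
    ∀ g : A →ₐ[k] R, ∀ w ∈ W, MadRed.ptAct k A R g w ∈ W := by
  classical
  induction v with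
  | zero =>
    exact ⟨⊥, Submodule.zero_mem _, Submodule.fg_bot, fun g w hw => by
      rw [Submodule.mem_bot] at hw ⊢
      rw [hw, map_zero]⟩
  | tmul r a =>
    set D : Submodule k A := RCV (k := k) (A := A) (V := A) a with hD
    have haD : a ∈ D := mem_RCV a
    have hsub : HopfRep.IsSubcomod (k := k) (A := A) D := RCV_isSubcomod a
    obtain ⟨F, hF0⟩ := (RCV_fg (k := k) (A := A) a : D.FG)
    have hF : Submodule.span k (F : Set A) = D := hF0
    set W : Submodule R (R ⊗[k] A) :=
      Submodule.span R ((fun d : A => (1 : R) ⊗ₜ[k] d) '' (F : Set A)) with hW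
    have hA : ∀ d ∈ D, (1 : R) ⊗ₜ[k] d ∈ W := by
      intro d hd
      rw [← hF] at hd
      have : Submodule.span k (F : Set A) ≤
          (W.restrictScalars k).comap (TensorProduct.mk k R A 1) := by
        refine Submodule.span_le.2 ?_
        intro f hf
        exact Submodule.subset_span ⟨f, hf, rfl⟩
      exact this hd
    have hB : ∀ (r : R) (d : A), d ∈ D → r ⊗ₜ[k] d ∈ W := by
      intro r d hd
      have : r ⊗ₜ[k] d = r • ((1 : R) ⊗ₜ[k] d) := by
        rw [TensorProduct.smul_tmul', smul_eq_mul, mul_one]
      rw [this]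
      exact W.smul_mem r (hA d hd)
    refine ⟨W, hB r a haD, Submodule.fg_span ((F.finite_toSet).image _), ?_⟩
    intro g
    have : W ≤ W.comap (MadRed.ptAct k A R g).toLinearMap := by
      refine Submodule.span_le.2 ?_
      rintro _ ⟨f, hf, rfl⟩
      have hfD : f ∈ D := by
        rw [← hF]
        exact Submodule.subset_span hf
      obtain ⟨s, hs⟩ := hsub f hfD
      change MadRed.ptAct k A R g ((1 : R) ⊗ₜ[k] f) ∈ W
      rw [ptAct_tmul, one_smul, translAux_apply]
      have hs' : Coalgebra.comul (R := k) f = (D.subtype.rTensor A) s := hs.symm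
      rw [hs']
      clear hs hs'
      induction s with
      | zero => simp
      | tmul d b =>
        rw [LinearMap.rTensor_tmul, Algebra.TensorProduct.comm_tmul,
          Algebra.TensorProduct.map_tmul]
        exact hB _ _ d.2
      | add x y hx hy =>
        rw [map_add, map_add, map_add]
        exact W.add_mem hx hy
    exact fun w hw => this hw
  | add x y hx hy =>
    obtain ⟨W₁, h1, f1, s1⟩ := hx
    obtain ⟨W₂, h2, f2, s2⟩ := hy
    refine ⟨W₁ ⊔ W₂, Submodule.add_mem _ (Submodule.mem_sup_left h1) (Submodule.mem_sup_right h2),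
      f1.sup f2, ?_⟩
    intro g
    have : W₁ ⊔ W₂ ≤ (W₁ ⊔ W₂).comap (MadRed.ptAct k A R g).toLinearMap :=
      sup_le (fun w hw => Submodule.mem_sup_left (s1 g w hw))
        (fun w hw => Submodule.mem_sup_right (s2 g w hw))
    exact fun w hw => this hw

end Aux


/-- Let k be a field, G = Spec A an affine k-group with A a commutative Hopf algebra over k, and R a
commutative Noetherian k-algebra, so that R ⊗ A is the coordinate ring of the base change G_R and
the k-algebra maps A → R are its R-valued points. Let H be a set of R-valued points which pairwise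
commute for the convolution product of G(R) (the case of an abelian subgroup of G(R)). If every g in
H is diagonalizable over k on R ⊗ A, meaning that the eigenspaces of right translation by g, for
eigenvalues in k, span R ⊗ A, then H is simultaneously diagonalizable over k on R ⊗ A: the common
eigenspaces of the right translations by all g in H span R ⊗ A. The standing assumptions of the
source at this point (k algebraically closed of characteristic zero, G reductive) are not used. -/
theorem result (k : Type u) [Field k]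
    (A : Type v) [CommRing A] [HopfAlgebra k A] (R : Type w) [CommRing R] [Algebra k R]
    [IsNoetherianRing R] (H : Set (A →ₐ[k] R))
    (hcomm : ∀ g ∈ H, ∀ h ∈ H,
      WithConv.toConv g * WithConv.toConv h = WithConv.toConv h * WithConv.toConv g)
    (hdiag : ∀ g ∈ H, ⨆ μ : k,
      Module.End.eigenspace (((MadRed.ptAct k A R g).toLinearMap).restrictScalars k) μ = ⊤) :
    ⨆ χ : H → k, ⨅ g : H,
      Module.End.eigenspace (((MadRed.ptAct k A R g.1).toLinearMap).restrictScalars k) (χ g) = ⊤ := by
  classical
  refine Groth.Agent.S16159.result k R (R ⊗[k] A) H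
    (fun g => (MadRed.ptAct k A R g.1).toLinearMap) ?_ ?_ ?_
  · intro g h
    apply LinearMap.ext
    intro z
    change MadRed.ptAct k A R g.1 (MadRed.ptAct k A R h.1 z) =
      MadRed.ptAct k A R h.1 (MadRed.ptAct k A R g.1 z)
    rw [ptAct_comp, ptAct_comp, hcomm g.1 g.2 h.1 h.2]
  · intro g
    exact hdiag g.1 g.2
  · intro v
    obtain ⟨W, hv, hfg, hst⟩ := good k A R v
    exact ⟨W, hv, hfg, fun g w hw => hst g.1 w hw⟩

end Groth.Agent.S16160
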