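import Groth.Statements.S16161
import Mathlib

set_option autoImplicit false
universe u v
open MadRed

namespace Groth.Agent.S16161

open Polynomial

theorem iSup_ker_aeval_prod {k : Type u} [Field k] {W : Type v} [AddCommGroup W] [Module k W]
    (f : W →ₗ[k] W) {ι : Type*} [DecidableEq ι] (s : Finset ι) (p : ι → k[X])
    (hp : ∀ i ∈ s, ∀ j ∈ s, i ≠ j → IsCoprime (p i) (p j)) :
    ⨆ i ∈ s, LinearMap.ker (aeval f (p i)) = LinearMap.ker (aeval f (∏ i ∈ s, p i)) := by
  induction s using Finset.induction_on with
  | empty =>
    simp only [Finset.notMem_empty, not_false_eq_true, iSup_neg, iSup_bot, Finset.prod_empty,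
      map_one]
    symm
    rw [LinearMap.ker_eq_bot]
    exact fun x y h => h
  | insert a s ha ih =>
    rw [Finset.iSup_insert, Finset.prod_insert ha, ih (fun i hi j hj hij =>
      hp i (Finset.mem_insert_of_mem hi) j (Finset.mem_insert_of_mem hj) hij)]
    refine Polynomial.sup_ker_aeval_eq_ker_aeval_mul_of_coprime f ?_
    refine IsCoprime.prod_right (fun j hj => ?_)
    exact hp a (Finset.mem_insert_self a s) j (Finset.mem_insert_of_mem hj)
      (fun h => ha (h ▸ hj))

theorem main (k : Type u) [Field k] [IsAlgClosed k] [CharZero k]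
    {W : Type v} [AddCommGroup W] [Module k W] (g : Module.End k W) (m : ℕ) (hm : 0 < m)
    (hg : g ^ m = 1) : ⨆ μ : k, Module.End.eigenspace g μ = ⊤ := by
  classical
  haveI : NeZero (m : k) := ⟨Nat.cast_ne_zero.2 hm.ne'⟩
  obtain ⟨ζ, hζ⟩ := HasEnoughRootsOfUnity.exists_primitiveRoot k m
  have hprod := X_pow_sub_one_eq_prod hm hζ
  have h1 : LinearMap.ker (aeval g (X ^ m - 1 : k[X])) = ⊤ := by
    rw [LinearMap.ker_eq_top]
    simp [hg]
  rw [hprod, ← iSup_ker_aeval_prod g (nthRootsFinset m (1 : k)) (fun ζ => X - C ζ)] at h1
  · rw [eq_top_iff, ← h1]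
    refine iSup₂_le fun μ _ => ?_
    refine le_trans ?_ (le_iSup _ μ)
    intro w hw
    rw [Module.End.mem_eigenspace_iff]
    rw [LinearMap.mem_ker] at hw
    simp only [map_sub, aeval_X, aeval_C, LinearMap.sub_apply, Module.algebraMap_end_apply] at hw
    exact sub_eq_zero.1 hw
  · intro i _ j _ hij
    exact isCoprime_X_sub_C_of_isUnit_sub (sub_ne_zero.2 hij).isUnit


/-- Let k be an algebraically closed field of characteristic zero and R a reduced finitely generated
commutative k-algebra whose spectrum is connected (R has no idempotents besides 0 and 1); let W =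
R^n be a free R-module of finite rank and g an R-linear endomorphism of W of finite order, g^m = 1
with m > 0 (an element of finite order of GL(W)(R)). Then the action of g on W is diagonalizable
over k: viewing g as a k-linear map, its eigenspaces for eigenvalues in k span W. The source also
assumes that g is diagonalizable over k on every fibre W ⊗ k(x), x a point of Spec R; for g of
finite order this holds automatically (k is algebraically closed of characteristic zero), as the
source itself notes, so that hypothesis is omitted. -/
theorem result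
    (k : Type u) [Field k] [IsAlgClosed k] [CharZero k]
    (R : Type v) [CommRing R] [Algebra k R] [IsReduced R] [Algebra.FiniteType k R]
    (hconn : ∀ e : R, IsIdempotentElem e → e = 0 ∨ e = 1)
    (n : ℕ) (g : Module.End R (Fin n → R)) (m : ℕ) (hm : 0 < m) (hg : g ^ m = 1) :
    ⨆ μ : k, Module.End.eigenspace (g.restrictScalars k) μ = ⊤ := by
  refine main k (g.restrictScalars k) m hm ?_
  apply LinearMap.ext
  intro w
  have h1 : ((g.restrictScalars k) ^ m) w = (g ^ m) w := by
    rw [Module.End.pow_apply, Module.End.pow_apply]
    rfl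
  rw [h1, hg]
  rfl

end Groth.Agent.S16161
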