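import Groth.Statements.S16162
import Mathlib

set_option autoImplicit false
open CategoryTheory MonoidalCategory CartesianMonoidalCategory MonObj GrpObj AlgebraicGeometry
universe u
open MadRed

namespace Groth.Agent.S16162

/-- Let S be a scheme, G a group scheme over S, and X an S-scheme with an action of G making X → S a
principal G-bundle (a torsor in the representable fppf sense: X → S surjective, flat and locally of
finite presentation, and G ×_S X → X ×_S X, (g, x) ↦ (g·x, x), an isomorphism). Let P be a closed
subset of X stable under the action: the action map sends into P every point of G ×_S X whose second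
projection lies in P. Then the image of P in S is closed, and P is the full preimage of its image.
(The source works with varieties over the complex numbers and an affine algebraic group; the
assertion holds over any base. Its second assertion, that P → image is again a principal bundle for
the induced reduced structures, then comes from base change and is not part of this row.) -/
theorem result {S : Scheme.{u}}
    {G X : Over S} [GrpObj G] (a : AlgGrp.Action G X) (ha : RedSub.IsTorsor a)
    (P : Set X.left) (hP : IsClosed P)
    (hstab : ∀ w : (G ⊗ X).left, (snd G X).left.base w ∈ P → a.act.left.base w ∈ P) :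
    IsClosed (X.hom.base '' P) ∧ X.hom.base ⁻¹' (X.hom.base '' P) = P := by
  obtain ⟨hsurj, hflat, hlfp, hiso⟩ := ha
  have hopen : IsOpenMap X.hom.base := X.hom.isOpenMap
  have hΨ : IsIso (lift a.act (snd G X)).left :=
    (Over.forget S).map_isIso (lift a.act (snd G X))
  have hsat : ∀ x : X.left, ∀ x' ∈ P, X.hom.base x = X.hom.base x' → x ∈ P := by
    intro x x' hx' hxx'
    obtain ⟨t, ht1, ht2⟩ := Scheme.Pullback.exists_preimage_pullback (f := X.hom) (g := X.hom)
      x x' hxx'
    obtain ⟨w, rfl⟩ := ((lift a.act (snd G X)).left.homeomorph).surjective t
    have e1 : a.act.left.base w = x := by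
      rw [← ht1]
      have : lift a.act (snd G X) ≫ fst X X = a.act := lift_fst _ _
      exact (congrArg (fun k : G ⊗ X ⟶ X => k.left.base w) this).symm
    have e2 : (snd G X).left.base w = x' := by
      rw [← ht2]
      have : lift a.act (snd G X) ≫ snd X X = snd G X := lift_snd _ _
      exact (congrArg (fun k : G ⊗ X ⟶ X => k.left.base w) this).symm
    rw [← e1]
    exact hstab w (e2 ▸ hx')
  have hpre : X.hom.base ⁻¹' (X.hom.base '' P) = P := by
    apply Set.Subset.antisymm
    · rintro x ⟨x', hx', hxx'⟩
      exact hsat x x' hx' hxx'.symm
    · exact Set.subset_preimage_image _ _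
  refine ⟨?_, hpre⟩
  rw [← isOpen_compl_iff]
  have : (X.hom.base '' P)ᶜ = X.hom.base '' Pᶜ := by
    ext y
    constructor
    · intro hy
      obtain ⟨x, rfl⟩ := hsurj.surj y
      refine ⟨x, fun hx => hy ⟨x, hx, rfl⟩, rfl⟩
    · rintro ⟨x, hx, rfl⟩ ⟨x', hx', hxx'⟩
      exact hx (hsat x x' hx' hxx'.symm)
  rw [this]
  exact hopen _ hP.isOpen_compl

end Groth.Agent.S16162
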