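import Groth.Statements.S16164
import Mathlib

set_option autoImplicit false
open Neron

namespace Groth.Agent.S16164

open Matrix in
/-- Abstract lattice lemma: if `Y = L + M` with `M ⊥ L` for a positive definite symmetric integral
form, and every nonzero element of `M` splits as an orthogonal sum of two nonzero vectors, then
`M = 0` (a shortest nonzero vector of `M` cannot split). -/
theorem orth_trivial {Y : Type*} [AddCommGroup Y] (B : Y →ₗ[ℤ] Y →ₗ[ℤ] ℤ)
    (hsymm : ∀ a b, B a b = B b a) (hpos : ∀ a, a ≠ 0 → 0 < B a a)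
    (L M : AddSubgroup Y) (hLM : ∀ l ∈ L, ∀ m ∈ M, B l m = 0)
    (hsum : ∀ y, ∃ l ∈ L, y - l ∈ M)
    (hdec : ∀ m ∈ M, m ≠ 0 → ∃ a b, m = a + b ∧ B a b = 0 ∧ a ≠ 0 ∧ b ≠ 0) :
    ∀ m ∈ M, m = 0 := by
  classical
  by_contra hne
  push Not at hne
  obtain ⟨m0, hm0M, hm0⟩ := hne
  let S : Set ℕ := {n | ∃ m ∈ M, m ≠ 0 ∧ (B m m).toNat = n}
  have hS : S.Nonempty := ⟨_, m0, hm0M, hm0, rfl⟩
  obtain ⟨m, hmM, hm, hmn⟩ := Nat.sInf_mem hS
  have hnn : ∀ a : Y, 0 ≤ B a a := by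
    intro a
    by_cases h : a = 0
    · rw [h]; simp
    · exact (hpos a h).le
  have hmin : ∀ m' ∈ M, m' ≠ 0 → B m m ≤ B m' m' := by
    intro m' hm'M hm'
    have h1 : sInf S ≤ (B m' m').toNat := Nat.sInf_le ⟨m', hm'M, hm', rfl⟩
    rw [← hmn] at h1
    have h2 := Int.toNat_of_nonneg (hnn m)
    have h3 := Int.toNat_of_nonneg (hnn m')
    omega
  obtain ⟨a, b, hab, hBab, ha, hb⟩ := hdec m hmM hm
  obtain ⟨aL, haL, haM⟩ := hsum a
  have hbM : m - (a - aL) ∈ M := M.sub_mem hmM haM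
  have hb' : b = (m - (a - aL)) - aL := by rw [hab]; abel
  have ha' : a = aL + (a - aL) := by abel
  have h1 : B (a - aL) (m - (a - aL)) = B aL aL := by
    have h := hBab
    rw [ha', hb'] at h
    simp only [map_add, map_sub, LinearMap.add_apply, LinearMap.sub_apply] at h
    have e1 := hLM aL haL _ hbM
    have e2 := hLM aL haL _ haM
    have e3 := hsymm (a - aL) aL
    simp only [map_add, map_sub, LinearMap.add_apply, LinearMap.sub_apply] at e1 e2 e3 ⊢
    linarith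
  have h2 : B m m = B (a - aL) (a - aL) + 2 * B aL aL + B (m - (a - aL)) (m - (a - aL)) := by
    have e : m = (a - aL) + (m - (a - aL)) := by abel
    have gen : ∀ u v : Y, B (u + v) (u + v) = B u u + 2 * B u v + B v v := by
      intro u v
      simp only [map_add, LinearMap.add_apply]
      rw [hsymm v u]
      ring
    have h := gen (a - aL) (m - (a - aL))
    rw [← e, h1] at h
    exact h
  by_cases haM0 : a - aL = 0
  · have h3 : B aL aL = 0 := by rw [← h1, haM0]; simp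
    have h4 : aL = 0 := by
      by_contra h
      exact (hpos aL h).ne' h3
    apply ha
    rw [ha', haM0, h4, add_zero]
  by_cases hbM0 : m - (a - aL) = 0
  · have h3 : B aL aL = 0 := by rw [← h1, hbM0]; simp
    have h4 : aL = 0 := by
      by_contra h
      exact (hpos aL h).ne' h3
    apply hb
    rw [hb', hbM0, h4, sub_zero]
  · have i1 := hmin _ haM haM0
    have i2 := hmin _ hbM hbM0
    have i3 := hpos m hm
    have i4 := hnn aL
    linarith

/-- Let X, Y₁, Y₂ be finitely generated free abelian groups with chosen bases, so that homomorphisms are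
integer matrices acting on column vectors and each group is identified with its dual; let P : X → Y₁
and Q : X → Y₂ be surjective with A = (P over Q) : X → Y₁ ⊕ Y₂ injective, and let Ψ₁, Ψ₂ be
symmetric positive-definite integer matrices on Y₁ and Y₂, Ψ their block-diagonal sum. If the image
of Aᵀ Ψ : Y₁ ⊕ Y₂ → X coincides with the image of Aᵀ Ψ A : X → X (the reverse inclusion always
holds), then A is bijective. (In the source X, Y₁, Y₂ are character groups of maximal tori, P and Q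
specialization maps, Ψ₁ and Ψ₂ monodromy pairings, and the hypothesis expresses that two groups of
components coincide.) -/
theorem result
    {ι κ₁ κ₂ : Type} [Fintype ι] [Fintype κ₁] [Fintype κ₂]
    (P : Matrix κ₁ ι ℤ) (Q : Matrix κ₂ ι ℤ)
    (hP : Function.Surjective P.mulVec) (hQ : Function.Surjective Q.mulVec)
    (hA : Function.Injective (Matrix.fromRows P Q).mulVec)
    (Ψ₁ : Matrix κ₁ κ₁ ℤ) (Ψ₂ : Matrix κ₂ κ₂ ℤ) (hΨ₁ : Ψ₁.IsSymm) (hΨ₂ : Ψ₂.IsSymm)
    (hΨ₁pos : ∀ y : κ₁ → ℤ, y ≠ 0 → 0 < y ⬝ᵥ Ψ₁.mulVec y)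
    (hΨ₂pos : ∀ y : κ₂ → ℤ, y ≠ 0 → 0 < y ⬝ᵥ Ψ₂.mulVec y)
    (himage : LinearMap.range ((Matrix.fromRows P Q).transpose * Matrix.fromBlocks Ψ₁ 0 0 Ψ₂).mulVecLin =
      LinearMap.range ((Matrix.fromRows P Q).transpose * Matrix.fromBlocks Ψ₁ 0 0 Ψ₂ * Matrix.fromRows P Q).mulVecLin) :
    Function.Bijective (Matrix.fromRows P Q).mulVec := by
  classical
  refine ⟨hA, ?_⟩
  set A := Matrix.fromRows P Q with hAdef
  set Ψ := Matrix.fromBlocks Ψ₁ 0 0 Ψ₂ with hΨdef
  let B : (κ₁ ⊕ κ₂ → ℤ) →ₗ[ℤ] (κ₁ ⊕ κ₂ → ℤ) →ₗ[ℤ] ℤ := Matrix.toBilin' Ψ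
  have hB : ∀ y y' : κ₁ ⊕ κ₂ → ℤ, B y y' = y ⬝ᵥ Ψ.mulVec y' := fun y y' =>
    Matrix.toBilin'_apply' Ψ y y'
  have hB2 : ∀ y y' : κ₁ ⊕ κ₂ → ℤ, B y y' =
      (y ∘ Sum.inl) ⬝ᵥ Ψ₁.mulVec (y' ∘ Sum.inl) + (y ∘ Sum.inr) ⬝ᵥ Ψ₂.mulVec (y' ∘ Sum.inr) := by
    intro y y'
    rw [hB, hΨdef, Matrix.fromBlocks_mulVec]
    have hy : y = Sum.elim (y ∘ Sum.inl) (y ∘ Sum.inr) := by
      funext i; cases i <;> rfl
    conv_lhs => rw [hy]
    rw [sumElim_dotProduct_sumElim]
    simp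
  have hΨsymm : Ψ.transpose = Ψ := by
    rw [hΨdef, Matrix.fromBlocks_transpose, hΨ₁.eq, hΨ₂.eq]
    simp
  have hsymm : ∀ a b, B a b = B b a := by
    intro a b
    rw [hB, hB, Matrix.dotProduct_mulVec, ← Matrix.mulVec_transpose, hΨsymm, dotProduct_comm]
  have hpos : ∀ a : κ₁ ⊕ κ₂ → ℤ, a ≠ 0 → 0 < B a a := by
    intro a ha
    rw [hB2]
    have h1 : ∀ y : κ₁ → ℤ, 0 ≤ y ⬝ᵥ Ψ₁.mulVec y := by
      intro y
      by_cases h : y = 0
      · rw [h]; simp
      · exact (hΨ₁pos y h).le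
    have h2 : ∀ y : κ₂ → ℤ, 0 ≤ y ⬝ᵥ Ψ₂.mulVec y := by
      intro y
      by_cases h : y = 0
      · rw [h]; simp
      · exact (hΨ₂pos y h).le
    by_cases hl : a ∘ Sum.inl = 0
    · have hr : a ∘ Sum.inr ≠ 0 := by
        intro hr
        apply ha
        funext i
        cases i with
        | inl i => exact congrFun hl i
        | inr i => exact congrFun hr i
      have := hΨ₂pos _ hr
      have := h1 (a ∘ Sum.inl)
      linarith
    · have := hΨ₁pos _ hl
      have := h2 (a ∘ Sum.inr)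
      linarith
  let L : AddSubgroup (κ₁ ⊕ κ₂ → ℤ) := (LinearMap.range A.mulVecLin).toAddSubgroup
  let M : AddSubgroup (κ₁ ⊕ κ₂ → ℤ) := (LinearMap.ker (A.transpose * Ψ).mulVecLin).toAddSubgroup
  have hLM : ∀ l ∈ L, ∀ m ∈ M, B l m = 0 := by
    rintro _ ⟨x, rfl⟩ m hm
    have hm' : (A.transpose * Ψ).mulVec m = 0 := hm
    rw [hB, Matrix.mulVecLin_apply, ← Matrix.vecMul_transpose, ← Matrix.dotProduct_mulVec,
      Matrix.mulVec_mulVec, hm', dotProduct_zero]
  have hsum : ∀ y, ∃ l ∈ L, y - l ∈ M := by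
    intro y
    have hy : (A.transpose * Ψ).mulVecLin y ∈
        LinearMap.range (A.transpose * Ψ * A).mulVecLin := by
      rw [← himage]
      exact ⟨y, rfl⟩
    obtain ⟨x, hx⟩ := hy
    refine ⟨A.mulVec x, ⟨x, rfl⟩, ?_⟩
    change (A.transpose * Ψ).mulVec (y - A.mulVec x) = 0
    rw [Matrix.mulVec_sub, Matrix.mulVec_mulVec]
    simp only [Matrix.mulVecLin_apply] at hx
    rw [hx, sub_self]
  have hdec : ∀ m ∈ M, m ≠ 0 → ∃ a b, m = a + b ∧ B a b = 0 ∧ a ≠ 0 ∧ b ≠ 0 := by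
    intro m hmM hm
    refine ⟨Sum.elim (m ∘ Sum.inl) 0, Sum.elim 0 (m ∘ Sum.inr), ?_, ?_, ?_, ?_⟩
    · funext i
      cases i <;> simp
    · rw [hB2]
      have e1 : (Sum.elim 0 (m ∘ Sum.inr) : κ₁ ⊕ κ₂ → ℤ) ∘ Sum.inl = 0 := by
        funext i; simp
      have e2 : (Sum.elim (m ∘ Sum.inl) 0 : κ₁ ⊕ κ₂ → ℤ) ∘ Sum.inr = 0 := by
        funext i; simp
      rw [e1, e2]
      simp
    · intro h0
      have hl : m ∘ Sum.inl = 0 := by
        funext i
        have := congrFun h0 (Sum.inl i)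
        simpa using this
      have hr : m ∘ Sum.inr ≠ 0 := by
        intro hr
        apply hm
        funext i
        cases i with
        | inl i => exact congrFun hl i
        | inr i => exact congrFun hr i
      obtain ⟨x, hx⟩ := hQ (m ∘ Sum.inr)
      have h1 : B (A.mulVec x) m = 0 := hLM _ ⟨x, rfl⟩ m hmM
      rw [hB2, hl, hAdef, Matrix.fromRows_mulVec] at h1
      have e2 : (Sum.elim (P.mulVec x) (Q.mulVec x) : κ₁ ⊕ κ₂ → ℤ) ∘ Sum.inr = Q.mulVec x := by
        funext i; simp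
      rw [e2, hx] at h1
      have := hΨ₂pos _ hr
      simp at h1
      linarith
    · intro h0
      have hr : m ∘ Sum.inr = 0 := by
        funext i
        have := congrFun h0 (Sum.inr i)
        simpa using this
      have hl : m ∘ Sum.inl ≠ 0 := by
        intro hl
        apply hm
        funext i
        cases i with
        | inl i => exact congrFun hl i
        | inr i => exact congrFun hr i
      obtain ⟨x, hx⟩ := hP (m ∘ Sum.inl)
      have h1 : B (A.mulVec x) m = 0 := hLM _ ⟨x, rfl⟩ m hmM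
      rw [hB2, hr, hAdef, Matrix.fromRows_mulVec] at h1
      have e2 : (Sum.elim (P.mulVec x) (Q.mulVec x) : κ₁ ⊕ κ₂ → ℤ) ∘ Sum.inl = P.mulVec x := by
        funext i; simp
      rw [e2, hx] at h1
      have := hΨ₁pos _ hl
      simp at h1
      linarith
  have hM0 := orth_trivial B hsymm hpos L M hLM hsum hdec
  intro y
  obtain ⟨l, ⟨x, hx⟩, hyl⟩ := hsum y
  refine ⟨x, ?_⟩
  have := hM0 _ hyl
  rw [sub_eq_zero] at this
  rw [this, ← hx]
  rfl

end Groth.Agent.S16164
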