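import Groth.Statements.S1617
import Mathlib
import Groth.Agent.Lib.Helper3.FTFieldLocalDim

set_option autoImplicit false
universe u
open CategoryTheory CategoryTheory.Limits AlgebraicGeometry
open Variety

namespace Groth.Agent.S1617
open Groth.Agent.Lib.helper3.FTField Groth.Agent.Lib.helper3.DimIneq

/-- Let X be locally of finite type over a field k and x a closed point. Then the local dimension of X
at x (infimum of the dimensions of open neighbourhoods) equals the Krull dimension of the local ring
at x. -/
theorem result (k : Type u) [Field k] (X : Scheme.{u}) [X.Over (Spec (CommRingCat.of k))] [LocallyOfFiniteType (X ↘ (Spec (CommRingCat.of k)))] (x : X) (hx : IsClosed ({x} : Set X)) :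
    FlatMor.localDim X x = ringKrullDim (X.presheaf.stalk x) := by
  obtain ⟨U, hU, hxU, -⟩ := exists_isAffineOpen_mem_and_subset (x := x) (U := ⊤) trivial
  haveI := isNoetherianRing_of_isAffineOpen k X hU
  obtain ⟨b, hb⟩ := ENat.ne_top_iff_exists.mp
    (Ideal.height_ne_top_of_isPrime (I := (hU.primeIdealOf ⟨x, hxU⟩).asIdeal))
  have hb' : ringKrullDim (X.presheaf.stalk x) = (b : WithBot ℕ∞) := by
    rw [ringKrullDim_stalk_eq_height hU x hxU, ← hb]; rfl
  have h0 := trdeg_residueField_eq_zero_of_isClosed k X x hx
  have key := localDim_eq k X x 0 b (by rw [h0]; simp) hb'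
  rw [key, hb', zero_add]

end Groth.Agent.S1617
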