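import Groth.Statements.S16170
import Mathlib

set_option autoImplicit false
open Neron

namespace Groth.Agent.S16170

section aux
open Matrix

/-- `(A v) · w = v · (Aᵀ w)` -/
lemma mulVec_dot {ι : Type} [Fintype ι] (A : Matrix ι ι ℤ) (v w : ι → ℤ) :
    (A *ᵥ v) ⬝ᵥ w = v ⬝ᵥ (Aᵀ *ᵥ w) := by
  rw [Matrix.dotProduct_mulVec, Matrix.vecMul_transpose]

lemma main {ι : Type} [Fintype ι] [DecidableEq ι]
    (M N χ₁ χ₂ : Matrix ι ι ℤ) (hM : M.IsSymm) (hN : N.IsSymm)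
    (hMpos : ∀ v : ι → ℤ, 0 ≤ v ⬝ᵥ M.mulVec v) (hNpos : ∀ v : ι → ℤ, 0 ≤ v ⬝ᵥ N.mulVec v)
    (hpos : ∀ v : ι → ℤ, v ≠ 0 → 0 < v ⬝ᵥ (M + N).mulVec v)
    (hsum : χ₁ + χ₂ = 1) (hrel : M * χ₂ = N * χ₁) :
    χ₁ * χ₁ = χ₁ ∧ χ₂ * χ₂ = χ₂ := by
  classical
  set S := M + N with hSdef
  have hSsymm : Sᵀ = S := by rw [hSdef, Matrix.transpose_add, hM.eq, hN.eq]
  have hS1 : S * χ₁ = M := by
    calc S * χ₁ = M * χ₁ + N * χ₁ := by rw [hSdef, Matrix.add_mul]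
      _ = M * χ₁ + M * χ₂ := by rw [hrel]
      _ = M * (χ₁ + χ₂) := by rw [Matrix.mul_add]
      _ = M := by rw [hsum, Matrix.mul_one]
  have hS2 : S * χ₂ = N := by
    calc S * χ₂ = M * χ₂ + N * χ₂ := by rw [hSdef, Matrix.add_mul]
      _ = N * χ₁ + N * χ₂ := by rw [hrel]
      _ = N * (χ₁ + χ₂) := by rw [Matrix.mul_add]
      _ = N := by rw [hsum, Matrix.mul_one]
  have hT1 : χ₁ᵀ * S = M := by
    have := congrArg Matrix.transpose hS1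
    rw [Matrix.transpose_mul, hSsymm, hM.eq] at this
    exact this
  have hT2 : χ₂ᵀ * S = N := by
    have := congrArg Matrix.transpose hS2
    rw [Matrix.transpose_mul, hSsymm, hN.eq] at this
    exact this
  have hcomm : χ₁ * χ₂ = χ₂ * χ₁ := by
    have h2 : χ₂ = 1 - χ₁ := eq_sub_of_add_eq' hsum
    rw [h2, Matrix.mul_sub, Matrix.sub_mul, Matrix.mul_one, Matrix.one_mul]
  have hT : χ₁ᵀ * S * χ₂ = χ₁ᵀ * N * χ₁ + χ₂ᵀ * M * χ₂ := by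
    have e1 : χ₁ᵀ * N * χ₁ = χ₁ᵀ * S * χ₂ * χ₁ := by
      rw [← hS2]; simp only [Matrix.mul_assoc]
    have e2 : χ₂ᵀ * M * χ₂ = χ₁ᵀ * S * χ₂ * χ₂ := by
      calc χ₂ᵀ * M * χ₂ = χ₂ᵀ * (S * χ₁) * χ₂ := by rw [hS1]
        _ = (χ₂ᵀ * S) * χ₁ * χ₂ := by simp only [Matrix.mul_assoc]
        _ = N * χ₁ * χ₂ := by rw [hT2]
        _ = M * χ₂ * χ₂ := by rw [hrel]
        _ = χ₁ᵀ * S * χ₂ * χ₂ := by rw [hT1]
    rw [e1, e2, ← Matrix.mul_add, hsum, Matrix.mul_one]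
  have hT' : χ₁ᵀ * (S * χ₂) = χ₁ᵀ * (N * χ₁) + χ₂ᵀ * (M * χ₂) := by
    simpa only [Matrix.mul_assoc] using hT
  have hc : ∀ v : ι → ℤ, 0 ≤ (χ₁ *ᵥ v) ⬝ᵥ (S *ᵥ (χ₂ *ᵥ v)) := by
    intro v
    have e : (χ₁ *ᵥ v) ⬝ᵥ (S *ᵥ (χ₂ *ᵥ v))
        = (χ₁ *ᵥ v) ⬝ᵥ (N *ᵥ (χ₁ *ᵥ v)) + (χ₂ *ᵥ v) ⬝ᵥ (M *ᵥ (χ₂ *ᵥ v)) := by
      rw [mulVec_dot, mulVec_dot χ₁, mulVec_dot χ₂]
      simp only [Matrix.mulVec_mulVec, Matrix.mul_assoc]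
      rw [← dotProduct_add, ← Matrix.add_mulVec, hT']
    rw [e]; exact add_nonneg (hNpos _) (hMpos _)
  have hq : ∀ a b : ι → ℤ, (a + b) ⬝ᵥ (S *ᵥ (a + b))
      = a ⬝ᵥ (S *ᵥ a) + 2 * (a ⬝ᵥ (S *ᵥ b)) + b ⬝ᵥ (S *ᵥ b) := by
    intro a b
    have hsym : b ⬝ᵥ (S *ᵥ a) = a ⬝ᵥ (S *ᵥ b) := by
      rw [Matrix.dotProduct_mulVec, ← Matrix.mulVec_transpose, hSsymm, dotProduct_comm]
    rw [Matrix.mulVec_add, add_dotProduct, dotProduct_add, dotProduct_add, hsym]; ring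
  have hP : ∀ (k : ℕ) (v : ι → ℤ), (v ⬝ᵥ (S *ᵥ v)).toNat = k → (χ₁ * χ₂) *ᵥ v = 0 := by
    intro k
    induction k using Nat.strong_induction_on with
    | _ k ih =>
      intro v hv
      have hab : χ₁ *ᵥ v + χ₂ *ᵥ v = v := by
        rw [← Matrix.add_mulVec, hsum, Matrix.one_mulVec]
      by_cases hb0 : χ₂ *ᵥ v = 0
      · rw [← Matrix.mulVec_mulVec, hb0, Matrix.mulVec_zero]
      by_cases ha0 : χ₁ *ᵥ v = 0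
      · rw [hcomm, ← Matrix.mulVec_mulVec, ha0, Matrix.mulVec_zero]
      have hqa : 0 < (χ₁ *ᵥ v) ⬝ᵥ (S *ᵥ (χ₁ *ᵥ v)) := hpos _ ha0
      have hqb : 0 < (χ₂ *ᵥ v) ⬝ᵥ (S *ᵥ (χ₂ *ᵥ v)) := hpos _ hb0
      have hcv := hc v
      have hqv := hq (χ₁ *ᵥ v) (χ₂ *ᵥ v)
      rw [hab] at hqv
      have h1 : ((χ₁ *ᵥ v) ⬝ᵥ (S *ᵥ (χ₁ *ᵥ v))).toNat < k := by omega
      have h2 : ((χ₂ *ᵥ v) ⬝ᵥ (S *ᵥ (χ₂ *ᵥ v))).toNat < k := by omega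
      have e1 := ih _ h1 (χ₁ *ᵥ v) rfl
      have e2 := ih _ h2 (χ₂ *ᵥ v) rfl
      conv_lhs => rw [← hab]
      rw [Matrix.mulVec_add, e1, e2, add_zero]
  have hP0 : χ₁ * χ₂ = 0 := by
    ext i j
    have := congrFun (hP _ (Pi.single j 1) rfl) i
    rwa [Matrix.mulVec_single_one, Matrix.col_apply] at this
  constructor
  · calc χ₁ * χ₁ = χ₁ * χ₁ + χ₁ * χ₂ := by rw [hP0, add_zero]
      _ = χ₁ * (χ₁ + χ₂) := (Matrix.mul_add _ _ _).symm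
      _ = χ₁ := by rw [hsum, Matrix.mul_one]
  · calc χ₂ * χ₂ = χ₁ * χ₂ + χ₂ * χ₂ := by rw [hP0, zero_add]
      _ = (χ₁ + χ₂) * χ₂ := (Matrix.add_mul _ _ _).symm
      _ = χ₂ := by rw [hsum, Matrix.one_mul]

end aux

/-- Let M and N be symmetric positive-semidefinite integer matrices on the same finite index set whose
sum M + N is positive definite, and let χ₁, χ₂ be integer matrices with χ₁ + χ₂ = 1 and M χ₂ = N χ₁.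
Then χ₁ and χ₂ are idempotent. (In the intended application M = Pᵀ Ψ₁ P and N = Qᵀ Ψ₂ Q for
surjective integer matrices P, Q and positive-definite Ψ₁, Ψ₂.) -/
theorem result
    {ι : Type} [Fintype ι] [DecidableEq ι]
    (M N χ₁ χ₂ : Matrix ι ι ℤ) (hM : M.IsSymm) (hN : N.IsSymm)
    (hMpos : ∀ v : ι → ℤ, 0 ≤ v ⬝ᵥ M.mulVec v) (hNpos : ∀ v : ι → ℤ, 0 ≤ v ⬝ᵥ N.mulVec v)
    (hpos : ∀ v : ι → ℤ, v ≠ 0 → 0 < v ⬝ᵥ (M + N).mulVec v)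
    (hsum : χ₁ + χ₂ = 1) (hrel : M * χ₂ = N * χ₁) :
    χ₁ * χ₁ = χ₁ ∧ χ₂ * χ₂ = χ₂ := by
  exact main M N χ₁ χ₂ hM hN hMpos hNpos hpos hsum hrel

end Groth.Agent.S16170
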