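import Groth.Statements.S16174
import Groth.Agent.Lib.Helper2.Henselian
import Mathlib.Algebra.Polynomial.Reverse
import Mathlib.Algebra.Polynomial.Taylor
import Mathlib.RingTheory.Polynomial.Basic
import Mathlib.RingTheory.LocalRing.Quotient
import Mathlib.Tactic.Ring
import Mathlib.Tactic.IntervalCases
import Mathlib.Tactic.LinearCombination

set_option autoImplicit false
universe u
open Hensel

namespace Groth.Agent.S16174


open Polynomial IsLocalRing

section general

variable {A : Type*} [CommRing A]

lemma eval_mem_of_coeff_mem (I : Ideal A) (R : A[X]) (hR : ∀ j, R.coeff j ∈ I) (a : A) :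
    R.eval a ∈ I := by
  rw [eval_eq_sum_range]
  exact I.sum_mem fun i _ => I.mul_mem_right _ (hR i)

lemma derivative_eval_mem_of_coeff_mem (I : Ideal A) (R : A[X]) (hR : ∀ j, R.coeff j ∈ I)
    (a : A) : R.derivative.eval a ∈ I := by
  apply eval_mem_of_coeff_mem
  intro j
  rw [coeff_derivative]
  exact I.mul_mem_right _ (hR _)

end general

/-- Reversed Hensel: a polynomial `1 + Y + (terms with coefficients in the maximal ideal)` over a
Henselian local ring has a root. -/
lemma exists_root_of_coeff {V : Type*} [CommRing V] [HenselianLocalRing V] (h : V[X])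
    (h0 : h.coeff 0 = 1) (h1 : h.coeff 1 = 1)
    (h2 : ∀ i, 2 ≤ i → h.coeff i ∈ maximalIdeal V) : ∃ y : V, h.eval y = 0 := by
  classical
  set N := h.natDegree with hNdef
  have hN : 1 ≤ N := le_natDegree_of_ne_zero (by rw [h1]; exact one_ne_zero)
  set H := h.reverse with hHdef
  have hHmonic : H.Monic := by
    rw [Monic, hHdef, reverse_leadingCoeff, trailingCoeff]
    have : h.natTrailingDegree = 0 := by
      rw [natTrailingDegree_eq_zero]; right; rw [h0]; exact one_ne_zero
    rw [this, h0]
  set R := H - (X ^ N + X ^ (N - 1)) with hRdef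
  have hRcoeff : ∀ j, R.coeff j ∈ maximalIdeal V := by
    intro j
    rw [hRdef, coeff_sub, coeff_add, coeff_X_pow, coeff_X_pow, hHdef, coeff_reverse]
    rcases lt_trichotomy j (N - 1) with hj | hj | hj
    · have e1 : j ≠ N := by omega
      have e2 : j ≠ N - 1 := by omega
      rw [if_neg e1, if_neg e2, add_zero, sub_zero, revAt_le (by omega)]
      exact h2 _ (by omega)
    · have e1 : j ≠ N := by omega
      rw [if_neg e1, if_pos hj, revAt_le (by omega)]
      have : N - j = 1 := by omega
      rw [this, h1]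
      simp
    · rcases Nat.lt_or_ge N j with hj' | hj'
      · have e1 : j ≠ N := by omega
        have e2 : j ≠ N - 1 := by omega
        rw [if_neg e1, if_neg e2, add_zero, sub_zero, revAt_eq_self_of_lt hj',
          coeff_eq_zero_of_natDegree_lt hj']
        exact Ideal.zero_mem _
      · have e1 : j = N := by omega
        have e2 : j ≠ N - 1 := by omega
        rw [if_pos e1, if_neg e2, e1, revAt_le le_rfl, Nat.sub_self, h0]
        simp
  have hHeq : H = X ^ (N - 1) * (X + 1) + R := by
    rw [hRdef]
    have : (X : V[X]) ^ N = X ^ (N - 1) * X := by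
      rw [← pow_succ]; congr 1; omega
    rw [this]; ring
  have hH0 : H.eval (-1) ∈ maximalIdeal V := by
    rw [hHeq, eval_add, eval_mul, eval_add, eval_X, eval_one, neg_add_cancel, mul_zero, zero_add]
    exact eval_mem_of_coeff_mem _ R hRcoeff _
  have hH1 : IsUnit (H.derivative.eval (-1)) := by
    rw [hHeq, derivative_add, derivative_mul, eval_add, eval_add, eval_mul, eval_mul, eval_add,
      eval_X, eval_one, neg_add_cancel, mul_zero, zero_add, derivative_add, derivative_X,
      derivative_one, add_zero, eval_one, mul_one, eval_pow, eval_X]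
    have hjac : maximalIdeal V ≤ Ideal.jacobson ⊥ :=
      (IsLocalRing.jacobson_eq_maximalIdeal ⊥ bot_ne_top).ge
    exact Groth.Agent.Lib.helper2.isUnit_add_of_mem_jacobson hjac
      ((isUnit_one.neg).pow _) (derivative_eval_mem_of_coeff_mem _ R hRcoeff _)
  obtain ⟨z, hz, hz1⟩ := HenselianLocalRing.is_henselian H hHmonic (-1) hH0 hH1
  have hzu : IsUnit z := by
    have hjac : maximalIdeal V ≤ Ideal.jacobson ⊥ :=
      (IsLocalRing.jacobson_eq_maximalIdeal ⊥ bot_ne_top).ge
    have := Groth.Agent.Lib.helper2.isUnit_add_of_mem_jacobson hjac (isUnit_one.neg (a := (1 : V))) hz1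
    simpa using this
  obtain ⟨zu, rfl⟩ := hzu
  refine ⟨((zu⁻¹ : Vˣ) : V), ?_⟩
  have hinv : Invertible ((zu⁻¹ : Vˣ) : V) := Units.invertible _
  have key := (eval₂_reverse_eq_zero_iff (RingHom.id V) ((zu⁻¹ : Vˣ) : V) h).1
  rw [eval₂_id, eval₂_id] at key
  apply key
  have : ⅟((zu⁻¹ : Vˣ) : V) = (zu : V) := by
    rw [invOf_units, inv_inv]
  rw [this]
  exact hz

section localization

variable (V : Type u) [CommRing V] [IsDomain V] [ValuationRing V] (p : Ideal V) [p.IsPrime]

lemma exists_lift_of_mem_maximalIdeal (z : Localization.AtPrime p)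
    (hz : z ∈ maximalIdeal (Localization.AtPrime p)) :
    ∃ y ∈ p, algebraMap V (Localization.AtPrime p) y = z := by
  obtain ⟨x, s, rfl⟩ := IsLocalization.exists_mk'_eq p.primeCompl z
  rw [IsLocalization.AtPrime.mk'_mem_maximal_iff (Localization.AtPrime p) p] at hz
  obtain ⟨c, hc | hc⟩ := ValuationRing.cond x (s : V)
  · exfalso
    exact s.2 (hc ▸ p.mul_mem_right c hz)
  · have hcp : c ∈ p := by
      have : (s : V) * c ∈ p := hc ▸ hz
      exact (Ideal.IsPrime.mem_or_mem ‹p.IsPrime› this).resolve_left s.2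
    refine ⟨c, hcp, ?_⟩
    rw [eq_comm, IsLocalization.mk'_eq_iff_eq_mul, ← map_mul, mul_comm, hc]

end localization


section localization2

variable (V : Type u) [CommRing V] [IsDomain V] [ValuationRing V] [HenselianLocalRing V]
  (p : Ideal V) [p.IsPrime]

/-- A monic polynomial over `V_p` with constant coefficient in the maximal ideal and unit linear
coefficient has a root in the maximal ideal. -/
lemma exists_root_loc (g : (Localization.AtPrime p)[X])
    (h0 : g.coeff 0 ∈ maximalIdeal (Localization.AtPrime p)) (h1 : IsUnit (g.coeff 1)) :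
    ∃ x ∈ maximalIdeal (Localization.AtPrime p), g.eval x = 0 := by
  classical
  set L := Localization.AtPrime p
  set n := g.natDegree with hn
  set c0 := g.coeff 0 with hc0
  obtain ⟨u, hu⟩ := h1.exists_right_inv
  set e : ℕ → L := fun i => if i = 0 then 1 else g.coeff i * c0 ^ (i - 1) * u ^ i with he
  have hpm : p ≤ maximalIdeal V := IsLocalRing.le_maximalIdeal (Ideal.IsPrime.ne_top ‹_›)
  have hce : ∀ i, c0 * e i = g.coeff i * (c0 * u) ^ i := by
    intro i
    rcases Nat.eq_zero_or_pos i with rfl | hi
    · simp [he, hc0]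
    · obtain ⟨k, rfl⟩ : ∃ k, i = k + 1 := ⟨i - 1, by omega⟩
      simp only [he, if_neg (Nat.succ_ne_zero k), Nat.add_sub_cancel]
      ring
  have key : ∀ i, ∃ d : V, algebraMap V L d = e i ∧ (i = 0 → d = 1) ∧ (i = 1 → d = 1) ∧
      (2 ≤ i → d ∈ p) := by
    intro i
    rcases Nat.lt_or_ge i 2 with hi | hi
    · refine ⟨1, ?_, fun _ => rfl, fun _ => rfl, fun h => by omega⟩
      interval_cases i
      · simp [he]
      · simp [he, hu]
    · have hmem : e i ∈ maximalIdeal L := by
        simp only [he, if_neg (show i ≠ 0 by omega)]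
        obtain ⟨k, rfl⟩ : ∃ k, i = k + 2 := ⟨i - 2, by omega⟩
        have : c0 ^ (k + 2 - 1) = c0 * c0 ^ k := by
          rw [show k + 2 - 1 = k + 1 by omega, pow_succ']
        rw [this]
        have h3 : g.coeff (k + 2) * (c0 * c0 ^ k) * u ^ (k + 2)
          = c0 * (g.coeff (k + 2) * c0 ^ k * u ^ (k + 2)) := by ring
        rw [h3]
        exact Ideal.mul_mem_right _ _ h0
      obtain ⟨d, hd, hd'⟩ := exists_lift_of_mem_maximalIdeal V p (e i) hmem
      exact ⟨d, hd', fun h => by omega, fun h => by omega, fun _ => hd⟩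
  choose d hd using key
  set h : V[X] := ∑ i ∈ Finset.range (n + 1), monomial i (d i) with hh
  have hcoeff : ∀ j, h.coeff j = if j < n + 1 then d j else 0 := by
    intro j
    rw [hh, finsetSum_coeff]
    simp only [coeff_monomial]
    rw [Finset.sum_ite_eq' (Finset.range (n + 1)) j (fun i => d i)]
    simp only [Finset.mem_range]
  have hn1 : 1 ≤ n := le_natDegree_of_ne_zero h1.ne_zero
  obtain ⟨y, hy⟩ := exists_root_of_coeff h
    (by rw [hcoeff, if_pos (by omega)]; exact (hd 0).2.1 rfl)
    (by rw [hcoeff, if_pos (by omega)]; exact (hd 1).2.2.1 rfl)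
    (by
      intro i hi
      rw [hcoeff]
      split_ifs
      · exact hpm ((hd i).2.2.2 hi)
      · exact Ideal.zero_mem _)
  refine ⟨c0 * u * algebraMap V L y, ?_, ?_⟩
  · rw [mul_assoc]
    exact Ideal.mul_mem_right _ _ h0
  · rw [eval_eq_sum_range]
    have hy' : ∑ i ∈ Finset.range (n + 1), e i * (algebraMap V L y) ^ i = 0 := by
      have := congrArg (algebraMap V L) hy
      rw [hh, eval_finsetSum, map_sum, map_zero] at this
      rw [← this]
      refine Finset.sum_congr rfl fun i _ => ?_
      rw [eval_monomial, map_mul, map_pow, (hd i).1]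
    calc ∑ i ∈ Finset.range (n + 1), g.coeff i * (c0 * u * algebraMap V L y) ^ i
        = ∑ i ∈ Finset.range (n + 1), c0 * (e i * (algebraMap V L y) ^ i) := by
          refine Finset.sum_congr rfl fun i _ => ?_
          rw [mul_pow, ← mul_assoc, ← hce i]; ring
      _ = 0 := by rw [← Finset.mul_sum, hy', mul_zero]

theorem loc_henselian : HenselianLocalRing (Localization.AtPrime p) := by
  refine ⟨fun f hf a₀ h0 h1 => ?_⟩
  obtain ⟨x, hx, hx0⟩ := exists_root_loc V p (taylor a₀ f)
    (by rw [taylor_coeff_zero]; exact h0) (by rw [taylor_coeff_one]; exact h1)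
  refine ⟨x + a₀, ?_, by simpa using hx⟩
  rw [IsRoot, ← taylor_eval]
  exact hx0

end localization2

theorem quot_henselian (V : Type u) [CommRing V] [HenselianLocalRing V] (p : Ideal V)
    [p.IsPrime] : HenselianLocalRing (V ⧸ p) := by
  have : Nontrivial (V ⧸ p) := Ideal.Quotient.nontrivial_iff.2 (Ideal.IsPrime.ne_top ‹_›)
  have hloc : IsLocalRing (V ⧸ p) :=
    IsLocalRing.of_surjective' (Ideal.Quotient.mk p) Ideal.Quotient.mk_surjective
  have hlh : IsLocalHom (Ideal.Quotient.mk p) :=
    IsLocalHom.of_surjective _ Ideal.Quotient.mk_surjective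
  refine { hloc with is_henselian := fun f hf a₀ h0 h1 => ?_ }
  obtain ⟨F, hF, -, hFm⟩ := Polynomial.lifts_and_degree_eq_and_monic
    ((Polynomial.mem_lifts f).2 (Polynomial.map_surjective _ Ideal.Quotient.mk_surjective f)) hf
  obtain ⟨A₀, rfl⟩ := Ideal.Quotient.mk_surjective a₀
  have e0 : (Ideal.Quotient.mk p) (F.eval A₀) = f.eval (Ideal.Quotient.mk p A₀) := by
    rw [← hF, eval_map, eval₂_at_apply]
  have e1 : (Ideal.Quotient.mk p) (F.derivative.eval A₀)
      = f.derivative.eval (Ideal.Quotient.mk p A₀) := by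
    rw [← hF, derivative_map, eval_map, eval₂_at_apply]
  have H0 : F.eval A₀ ∈ maximalIdeal V := by
    by_contra hcon
    have hu : IsUnit (F.eval A₀) := by
      by_contra h; exact hcon ((IsLocalRing.mem_maximalIdeal _).2 h)
    have := hu.map (Ideal.Quotient.mk p)
    rw [e0] at this
    exact (IsLocalRing.mem_maximalIdeal _).1 h0 this
  have H1 : IsUnit (F.derivative.eval A₀) := by
    rw [← e1] at h1
    exact isUnit_of_map_unit (Ideal.Quotient.mk p) _ h1
  obtain ⟨A, hA, hA1⟩ := HenselianLocalRing.is_henselian F hFm A₀ H0 H1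
  refine ⟨Ideal.Quotient.mk p A, ?_, ?_⟩
  · rw [IsRoot, ← hF, eval_map, eval₂_at_apply, hA.eq_zero, map_zero]
  · rw [← map_sub]
    by_contra hcon
    have hu : IsUnit (Ideal.Quotient.mk p (A - A₀)) := by
      by_contra h; exact hcon ((IsLocalRing.mem_maximalIdeal _).2 h)
    exact (IsLocalRing.mem_maximalIdeal _).1 hA1 (isUnit_of_map_unit (Ideal.Quotient.mk p) _ hu)

/-- Let V be a Henselian valuation ring and p a prime ideal of V. Then the local rings V_p (localisation
at p) and V/p are Henselian. (Both are again valuation rings, which is elementary and not restated.) -/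
theorem result (V : Type u) [CommRing V]
    [IsDomain V] [ValuationRing V] [HenselianLocalRing V] (p : Ideal V) [p.IsPrime] :
    HenselianLocalRing (Localization.AtPrime p) ∧ HenselianLocalRing (V ⧸ p) := by
  exact ⟨loc_henselian V p, quot_henselian V p⟩

end Groth.Agent.S16174
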