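import Groth.Statements.S16179
import Groth.Agent.Lib.Helper3.ValPd2
import Groth.Agent.S0563

set_option autoImplicit false
universe u
open CategoryTheory
open CAlg

namespace Groth.Agent.S16179

/-- Let V be a valuation ring, B a flat V-algebra of finite presentation, q a prime ideal of B lying
over the prime p of V, A = B_q the local ring of Spec B at q, and suppose that the local ring A/pA
of the fibre over p at q is a regular local ring of dimension n. Then every finitely presented
A-module M has projective dimension at most n + 1 over A. -/
theorem result (V : Type u) [CommRing V] [IsDomain V] [ValuationRing V]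
    (B : Type u) [CommRing B] [Algebra V B] [Module.Flat V B] [Algebra.FinitePresentation V B]
    (q : Ideal B) [q.IsPrime] (n : ℕ)
    (hreg : IsRegularLocalRing (Localization.AtPrime q ⧸ Ideal.map (algebraMap V (Localization.AtPrime q)) (Ideal.comap (algebraMap V B) q)))
    (hn : ringKrullDim (Localization.AtPrime q ⧸ Ideal.map (algebraMap V (Localization.AtPrime q)) (Ideal.comap (algebraMap V B) q)) = n)
    (M : Type u) [AddCommGroup M] [Module (Localization.AtPrime q) M] [Module.FinitePresentation (Localization.AtPrime q) M] :
    HasProjectiveDimensionLE (ModuleCat.of (Localization.AtPrime q) M) (n + 1) := by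
  have : Module.Flat V (Localization.AtPrime q) := Module.Flat.trans V B (Localization.AtPrime q)
  have : Algebra.EssFiniteType B (Localization.AtPrime q) :=
    Algebra.EssFiniteType.of_isLocalization (Localization.AtPrime q) q.primeCompl
  have : Algebra.EssFiniteType V (Localization.AtPrime q) :=
    Algebra.EssFiniteType.comp V B (Localization.AtPrime q)
  have hp : (Ideal.comap (algebraMap V B) q).map (algebraMap V (Localization.AtPrime q)) ≤
      IsLocalRing.maximalIdeal (Localization.AtPrime q) := by
    rw [Ideal.map_le_iff_le_comap]
    intro x hx
    rw [Ideal.mem_comap, IsScalarTower.algebraMap_apply V B (Localization.AtPrime q),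
      IsLocalization.AtPrime.to_map_mem_maximal_iff (Localization.AtPrime q) q]
    exact hx
  have := hreg
  obtain ⟨s, f, hf⟩ := Module.Finite.exists_fin' (Localization.AtPrime q) M
  have : Module.Flat V (Fin s → Localization.AtPrime q) := Groth.Agent.Lib.helper3.ValPd.flat_pi s
  have : Module.Flat V (LinearMap.ker f) :=
    Groth.Agent.Lib.helper3.ValPd.flat_submodule (V := V) (LinearMap.ker f)
  have : Module.FinitePresentation (Localization.AtPrime q) (LinearMap.ker f) :=
    Groth.Agent.Lib.helper3.ValPd.finitePresentation_ker V f hf
  have h := Groth.Agent.S0563.result (Localization.AtPrime q ⧸ Ideal.map (algebraMap V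
    (Localization.AtPrime q)) (Ideal.comap (algebraMap V B) q)) n hn
    (TensorProduct (Localization.AtPrime q) (Localization.AtPrime q ⧸ Ideal.map (algebraMap V
    (Localization.AtPrime q)) (Ideal.comap (algebraMap V B) q)) (LinearMap.ker f))
  have hK := Groth.Agent.Lib.helper3.ValPd.pd_lt_of_fibre (Ideal.comap (algebraMap V B) q) hp
    (n + 1) (LinearMap.ker f) h
  have hS := Groth.Agent.Lib.helper3.PdFibre.ses_shortExact (LinearMap.ker f).subtype f
    (Submodule.injective_subtype _) hf (LinearMap.exact_subtype_ker_map f)
  have : CategoryTheory.Projective (Groth.Agent.Lib.helper3.PdFibre.ses (LinearMap.ker f).subtype f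
      (LinearMap.exact_subtype_ker_map f)).X₂ :=
    Groth.Agent.Lib.helper3.PdFibre.projective_free s
  exact hS.hasProjectiveDimensionLT_X₃ (n + 1) hK
    (CategoryTheory.hasProjectiveDimensionLT_of_ge _ 1 (n + 1 + 1) (by omega))

end Groth.Agent.S16179
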