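import Groth.Statements.S1618
import Mathlib
import Groth.Agent.Lib.Helper3.FTFieldLocalDim
import Groth.Agent.S1619

set_option autoImplicit false
universe u
open CategoryTheory CategoryTheory.Limits AlgebraicGeometry
open Variety

namespace Groth.Agent.S1618
open Groth.Agent.Lib.helper3.FTField Groth.Agent.Lib.helper3.DimIneq

/-- Let X be irreducible and locally of finite type over a field k. Then every nonempty open subset of X
has the same Krull dimension as X. -/
theorem result (k : Type u) [Field k] (X : Scheme.{u}) [X.Over (Spec (CommRingCat.of k))] [LocallyOfFiniteType (X ↘ (Spec (CommRingCat.of k)))] [IrreducibleSpace X]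
    (U : X.Opens) (hU : (U : Set X).Nonempty) : topologicalKrullDim U = topologicalKrullDim X := by
  obtain ⟨n, hn⟩ := exists_nat_trdeg_residueField k X (genericPoint X)
  have hX : topologicalKrullDim X = n := Groth.Agent.S1619.result k X n hn
  rw [hX]
  change topologicalKrullDim (U.1 : Set X) = _
  rw [dim_opens_eq_iSup_stalk]
  apply le_antisymm
  · refine iSup_le fun y => ?_
    rw [← hX]
    exact stalk_le_dim y.1
  · obtain ⟨z, hz⟩ := hU
    have hξU : genericPoint X ∈ U := (genericPoint_specializes z).mem_open U.isOpen hz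
    obtain ⟨U', hU', hξU', hU'U⟩ :=
      exists_isAffineOpen_mem_and_subset (x := genericPoint X) (U := U) hξU
    haveI : Nontrivial Γ(X, U') := by
      haveI : Nonempty U' := ⟨⟨genericPoint X, hξU'⟩⟩
      infer_instance
    obtain ⟨m, hm⟩ := Ideal.exists_maximal Γ(X, U')
    haveI := hm.isPrime
    obtain ⟨y, hyU', hym⟩ := exists_point_of_prime hU' m
    have h0 := trdeg_residueField_eq_zero_of_isMaximal k X hU' y hyU' (hym ▸ hm)
    have key := Groth.Agent.S1619.height_add_trdeg_of_irreducible k X hU' y hyU'
    rw [hn, h0, add_zero] at key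
    have h2 : (hU'.primeIdealOf ⟨y, hyU'⟩).asIdeal.height = (n : ℕ∞) := by
      rw [← Cardinal.ofENat_inj.{u}]
      simpa using key
    refine le_trans ?_ (le_iSup _ ⟨y, hU'U hyU'⟩)
    rw [ringKrullDim_stalk_eq_height hU' y hyU', h2]
    rfl

end Groth.Agent.S1618
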