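import Groth.Statements.S16185
import Mathlib
import Groth.Agent.Lib.Helper17.GorDescent

set_option autoImplicit false
set_option linter.style.haveILetI false
universe u
open CategoryTheory CategoryTheory.Limits AlgebraicGeometry
open Dual3

namespace Groth.Agent.S16185

/-- Let A be an Artinian local ring with maximal ideal m and let f : P → Spec A be a flat morphism of
schemes whose closed fibre X = P ×_{Spec A} Spec (A/m) is a Gorenstein scheme (locally Noetherian,
all local rings Gorenstein). Then f is a Gorenstein morphism: flat at every point with Gorenstein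
local rings on its fibres. (The source takes A to be a local Artinian algebra over a field k with
residue field k and X a k-scheme deformed flatly over A; the k-algebra structure plays no role, so
the residue field of A is used directly.) -/
theorem result
    {A : Type u} [CommRing A] [IsArtinianRing A] [IsLocalRing A]
    {P X : Scheme.{u}} (f : P ⟶ Spec (CommRingCat.of A)) [Flat f]
    (i : X ⟶ P) (q : X ⟶ Spec (CommRingCat.of (IsLocalRing.ResidueField A)))
    (hsq : IsPullback i q f (Spec.map (CommRingCat.ofHom (IsLocalRing.residue A))))
    (hX : Dual3.IsGorenstein X) : Dual3.IsGorensteinMor f := by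
  intro x
  have hres : Surjective (Spec.map (CommRingCat.ofHom (IsLocalRing.residue A))) := by
    refine ⟨fun p => ?_⟩
    refine ⟨⟨⊥, Ideal.isPrime_bot⟩, ?_⟩
    apply PrimeSpectrum.ext
    have hp : p.asIdeal = IsLocalRing.maximalIdeal A :=
      IsLocalRing.eq_maximalIdeal (haveI : IsArtinianRing (CommRingCat.of A) := ‹IsArtinianRing A›; haveI := p.isPrime; IsArtinianRing.isMaximal_of_isPrime p.asIdeal)
    rw [hp]
    change Ideal.comap (IsLocalRing.residue A) ⊥ = _
    rw [← RingHom.ker_eq_comap_bot, IsLocalRing.ker_residue]
  have hsurj : Surjective i := MorphismProperty.of_isPullback hsq.flip hres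
  obtain ⟨x', rfl⟩ := hsurj.surj x
  refine Groth.Agent.Lib.helper17.GorDescent.isGorensteinAt_descent' hsq x'
    (Flat.stalkMap f _) ?_
  rw [Groth.Agent.Lib.helper17.GorDescent.isGorensteinAt_iff_of_isField q x'
    (Groth.Agent.Lib.helper17.EtaleStalk.isField_stalk_spec_field
      (IsLocalRing.ResidueField A) (q x'))]
  exact hX.2 x'

end Groth.Agent.S16185
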