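import Groth.Statements.S16188
-- import your own Groth.Agent.* helpers here

set_option autoImplicit false
universe u
open CategoryTheory AlgebraicGeometry TopologicalSpace
open SchMor

namespace Groth.Agent.S16188

/-- Let f : X → Y be a morphism of schemes with X reduced and irreducible. Then f factors through an
irreducible component of Y carrying its reduced closed-subscheme structure: there are an irreducible
component Z of Y and a morphism g from X to the closed subscheme of Y cut out by the vanishing ideal
sheaf of Z with g followed by the inclusion equal to f; that closed subscheme is integral. -/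
theorem result
    {X Y : Scheme.{u}} (f : X ⟶ Y) [IsReduced X] [IrreducibleSpace X] :
    ∃ (Z : Closeds Y) (_ : (Z : Set Y) ∈ irreducibleComponents Y)
      (_ : IsIntegral (Scheme.IdealSheafData.vanishingIdeal Z).subscheme)
      (g : X ⟶ (Scheme.IdealSheafData.vanishingIdeal Z).subscheme),
      g ≫ (Scheme.IdealSheafData.vanishingIdeal Z).subschemeι = f := by
  classical
  -- the closure of the image is irreducible
  have hirr : IsIrreducible (closure (Set.range f.base)) := by
    rw [← Set.image_univ]
    exact ((IrreducibleSpace.isIrreducible_univ X).image f.base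
      f.base.hom.continuous.continuousOn).closure
  obtain ⟨Z₀, hZ₀, hsub⟩ := exists_mem_irreducibleComponents_subset_of_isIrreducible _ hirr
  let Z : Closeds Y := ⟨Z₀, isClosed_of_mem_irreducibleComponents Z₀ hZ₀⟩
  have hfZ : ∀ x : X, f.base x ∈ (Z : Set Y) := fun x => hsub (subset_closure ⟨x, rfl⟩)
  -- vanishing ideal is in the kernel
  have hle : Scheme.IdealSheafData.vanishingIdeal Z ≤ f.ker := by
    rw [Scheme.Hom.ker, Scheme.IdealSheafData.le_ofIdeals_iff]
    intro U s hs
    rw [Scheme.IdealSheafData.vanishingIdeal_ideal, PrimeSpectrum.mem_vanishingIdeal] at hs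
    rw [RingHom.mem_ker, ← basicOpen_eq_bot_iff, ← Scheme.preimage_basicOpen]
    ext x
    simp only [Opens.coe_bot, Set.mem_empty_iff_false, iff_false]
    intro hx
    have hx' : f.base x ∈ Y.basicOpen s := hx
    have hxU : f.base x ∈ U.1 := Y.basicOpen_le s hx'
    have hxU' : f.base x ∈ Set.range U.2.fromSpec.base := by
      rw [U.2.range_fromSpec]; exact hxU
    obtain ⟨q, hq⟩ := hxU'
    have h1 : s ∈ q.asIdeal := hs q (by
      show U.2.fromSpec.base q ∈ (Z : Set Y)
      rw [hq]; exact hfZ x)
    have h2 : q ∈ U.2.fromSpec ⁻¹ᵁ Y.basicOpen s := by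
      show U.2.fromSpec.base q ∈ Y.basicOpen s
      rw [hq]; exact hx'
    rw [U.2.fromSpec_preimage_basicOpen] at h2
    exact h2 h1
  have hred : IsReduced (Scheme.IdealSheafData.vanishingIdeal Z).subscheme := by
    have : ∀ i, IsReduced ((Scheme.IdealSheafData.vanishingIdeal Z).subschemeCover.openCover.X i) := by
      intro U
      show IsReduced (Spec (.of (Γ(Y, U.1) ⧸ (Scheme.IdealSheafData.vanishingIdeal Z).ideal U)))
      have : _root_.IsReduced (Γ(Y, U.1) ⧸ (Scheme.IdealSheafData.vanishingIdeal Z).ideal U) := by
        rw [← Ideal.isRadical_iff_quotient_reduced, Scheme.IdealSheafData.vanishingIdeal_ideal]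
        exact PrimeSpectrum.isRadical_vanishingIdeal _
      infer_instance
    exact IsReduced.of_openCover _ (Scheme.IdealSheafData.vanishingIdeal Z).subschemeCover.openCover
  have hirrZ : IrreducibleSpace (Scheme.IdealSheafData.vanishingIdeal Z).subscheme := by
    have hemb := (Scheme.IdealSheafData.vanishingIdeal Z).subschemeι.isEmbedding
    have hrange : Set.range (Scheme.IdealSheafData.vanishingIdeal Z).subschemeι.base = Z₀ := by
      rw [Scheme.IdealSheafData.range_subschemeι,
        Scheme.IdealSheafData.coe_support_vanishingIdeal]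
      rfl
    have h1 : IrreducibleSpace (Set.range (Scheme.IdealSheafData.vanishingIdeal Z).subschemeι.base) := by
      rw [hrange]
      exact Subtype.irreducibleSpace hZ₀.1
    exact (hemb.toHomeomorph.irreducibleSpace_iff).mpr h1
  refine ⟨Z, hZ₀, isIntegral_of_irreducibleSpace_of_isReduced _,
    f.toImage ≫ Scheme.IdealSheafData.inclusion hle, ?_⟩
  rw [Category.assoc, Scheme.IdealSheafData.inclusion_subschemeι, Scheme.Hom.toImage_imageι]

end Groth.Agent.S16188
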