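import Groth.Statements.S16194
import Mathlib.RingTheory.Jacobson.Ideal
import Mathlib.RingTheory.Jacobson.Radical

set_option autoImplicit false
universe u
open DivAlg

namespace Groth.Agent.S16194

theorem exists_left_inv {R : Type u} [Ring R] (r : R)
    (hr : r ∈ Ring.jacobson R) : ∃ s : R, s * (1 - r) = 1 := by
  have h : -r ∈ Ideal.jacobson (⊥ : Ideal R) := by
    rw [Ideal.jacobson_bot]
    exact (Ring.jacobson R).neg_mem hr
  obtain ⟨s, hs⟩ := Ideal.exists_mul_add_sub_mem_of_mem_jacobson (-r) h
  rw [Ideal.mem_bot, sub_eq_zero] at hs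
  refine ⟨s, ?_⟩
  have : (1 : R) - r = -r + 1 := by abel
  rw [this, hs]

/-- In an associative unital ring R, not necessarily commutative, every element r of the Jacobson
radical (the set of elements lying in every maximal left ideal) is quasiregular, i.e. 1 - r is a
two-sided unit. -/
theorem result {R : Type u} [Ring R] (r : R)
    (hr : r ∈ Ring.jacobson R) : IsUnit (1 - r) := by
  obtain ⟨s, hs⟩ := exists_left_inv r hr
  -- s = 1 + s * r, and -(s*r) ∈ J
  have hsr : -(s * r) ∈ Ring.jacobson R :=
    (Ring.jacobson R).neg_mem ((Ring.jacobson R).mul_mem_left s hr)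
  obtain ⟨t, ht⟩ := exists_left_inv (-(s * r)) hsr
  have hs' : 1 - -(s * r) = s := by
    have : s * (1 - r) = s - s * r := by rw [mul_sub, mul_one]
    rw [this] at hs
    rw [sub_neg_eq_add, ← hs]
    abel
  rw [hs'] at ht
  -- t * s = 1, s * (1 - r) = 1 ⟹ t = 1 - r
  have hteq : t = 1 - r := by
    calc t = t * (s * (1 - r)) := by rw [hs, mul_one]
      _ = (t * s) * (1 - r) := by rw [mul_assoc]
      _ = 1 - r := by rw [ht, one_mul]
  rw [hteq] at ht
  exact ⟨⟨1 - r, s, ht, hs⟩, rfl⟩

end Groth.Agent.S16194
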