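import Groth.Statements.S16196
import Mathlib.Algebra.BigOperators.Pi
import Mathlib.Algebra.Module.BigOperators
-- import your own Groth.Agent.* helpers here

set_option autoImplicit false
universe u v
open DivAlg

namespace Groth.Agent.S16196

/-- Let R be a ring (associative, unital, not necessarily commutative) and M a left R-module which is a
generator, in the form: for some n there is an R-linear surjection from M^n onto R. Then the natural
ring homomorphism from R to the double endomorphism ring BiEnd_R(M) = End_{End_R(M)}(M)
(endomorphisms of M commuting with every R-linear endomorphism), r ↦ multiplication by r, is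
bijective. (The printed form takes R an algebra over a commutative ring k, embeds R in E = End_k(M)
and asserts R = C_E(C_E(R)); the double centralizer there is BiEnd_R(M).) -/
theorem result {R : Type u} [Ring R] (M : Type v)
    [AddCommGroup M] [Module R M]
    (hgen : ∃ (n : ℕ) (f : (Fin n → M) →ₗ[R] R), Function.Surjective f) :
    Function.Bijective (Module.toModuleEnd (Module.End R M) (S := R) M) := by
  obtain ⟨n, f, hf⟩ := hgen
  obtain ⟨x, hx⟩ := hf 1
  have hsum : ∀ y : Fin n → M, f y = ∑ i, f (Pi.single i (y i)) := fun y => by
    rw [← map_sum, Finset.univ_sum_single]
  constructor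
  · intro r s hrs
    have h : ∀ m : M, r • m = s • m := fun m => by
      have := DFunLike.congr_fun hrs m
      simpa using this
    have hx' : r • x = s • x := funext fun i => h (x i)
    calc r = r * f x := by rw [hx, mul_one]
      _ = f (r • x) := by rw [map_smul, smul_eq_mul]
      _ = f (s • x) := by rw [hx']
      _ = s := by rw [map_smul, smul_eq_mul, hx, mul_one]
  · intro T
    refine ⟨f (fun i => T (x i)), ?_⟩
    ext m
    let φ : Fin n → Module.End R M := fun i =>
      (LinearMap.toSpanSingleton R M m).comp (f.comp (LinearMap.single R (fun _ => M) i))
    have hφ : ∀ i y, φ i y = f (Pi.single i y) • m := fun i y => rfl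
    have hT : ∀ i y, T (φ i y) = φ i (T y) := fun i y => by
      have := T.map_smul (φ i) y
      simpa using this
    have hm : m = ∑ i, φ i (x i) := by
      simp only [hφ]
      rw [← Finset.sum_smul, ← hsum, hx, one_smul]
    change f (fun i => T (x i)) • m = T m
    conv_rhs => rw [hm]
    rw [map_sum, Finset.sum_congr rfl (fun i _ => hT i (x i))]
    simp only [hφ]
    rw [← Finset.sum_smul, ← hsum (fun i => T (x i))]

end Groth.Agent.S16196
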