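import Groth.Statements.S16197
import Mathlib.LinearAlgebra.Finsupp.LSum
import Mathlib.LinearAlgebra.Pi
import Mathlib.Tactic

set_option autoImplicit false
universe u v w
open DivAlg

namespace Groth.Agent.S16197

/-- Let R be a ring (associative, unital, not necessarily commutative) and M a left R-module which is a
generator, used here only through the existence of an R-linear surjection from a direct sum of
copies of M, indexed by an arbitrary type, onto R. Then some finite power M^n decomposes as R × Q
for a submodule Q of M^n. (The published statement is an equivalence; this row states only the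
implication from the existence of such a surjection to the splitting.) -/
theorem result {R : Type u} [Ring R] (M : Type v)
    [AddCommGroup M] [Module R M]
    (hgen : ∃ (ι : Type w) (f : (ι →₀ M) →ₗ[R] R), Function.Surjective f) :
    ∃ (n : ℕ) (Q : Submodule R (Fin n → M)), Nonempty ((Fin n → M) ≃ₗ[R] (R × Q)) := by
  classical
  obtain ⟨ι, f, hf⟩ := hgen
  obtain ⟨x, hx⟩ := hf 1
  let s : Finset ι := x.support
  let e : Fin s.card ≃ s := s.equivFin.symm
  -- the restriction of `f` to the finitely many relevant coordinates
  let g : (Fin s.card → M) →ₗ[R] R :=
    ∑ j : Fin s.card, (f ∘ₗ Finsupp.lsingle ((e j : s) : ι)) ∘ₗ LinearMap.proj j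
  let x₀ : Fin s.card → M := fun j => x ((e j : s) : ι)
  have hg : ∀ v, g v = ∑ j : Fin s.card, f (Finsupp.single ((e j : s) : ι) (v j)) := by
    intro v
    simp [g, LinearMap.sum_apply]
  have hgx₀ : g x₀ = 1 := by
    rw [hg, ← hx, ← map_sum]
    congr 1
    have h1 : ∑ j : Fin s.card, Finsupp.single ((e j : s) : ι) (x₀ j) =
        ∑ i : s, Finsupp.single (i : ι) (x (i : ι)) :=
      Fintype.sum_equiv e _ _ (fun j => rfl)
    rw [h1, Finset.sum_coe_sort s (fun i => Finsupp.single i (x i))]
    exact x.sum_single
  refine ⟨s.card, LinearMap.ker g, ⟨?_⟩⟩
  refine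
    { toFun := fun v => (g v, ⟨v - g v • x₀, by
        rw [LinearMap.mem_ker, map_sub, map_smul, hgx₀, smul_eq_mul, mul_one, sub_self]⟩)
      map_add' := fun v w => by
        apply Prod.ext
        · simp
        · apply Subtype.ext
          simp only [map_add, add_smul, Prod.snd_add, Submodule.coe_add]
          abel
      map_smul' := fun c v => by
        apply Prod.ext
        · simp
        · apply Subtype.ext
          simp only [map_smul, smul_eq_mul, mul_smul, RingHom.id_apply, Prod.smul_snd,
            Submodule.coe_smul, smul_sub]
      invFun := fun rq => rq.1 • x₀ + (rq.2 : Fin s.card → M)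
      left_inv := fun v => by simp
      right_inv := fun rq => by
        obtain ⟨r, q, hq⟩ := rq
        have hq' : g q = 0 := hq
        apply Prod.ext
        · simp [hgx₀, hq']
        · apply Subtype.ext
          simp [hgx₀, hq'] }

end Groth.Agent.S16197
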