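import Groth.Statements.S16198
import Mathlib
-- import your own Groth.Agent.* helpers here

set_option autoImplicit false
universe u v
open DivAlg

namespace Groth.Agent.S16198

open TensorProduct in
theorem tpow_aux {R : Type u} [CommRing R] (N : Type v)
    [AddCommGroup N] [Module R N] [Module.Invertible R N] (n : ℕ) :
    ∃ (_ : Module.Invertible R (⨂[R]^n N)), CommRing.Pic.mk R (⨂[R]^n N) = CommRing.Pic.mk R N ^ n := by
  induction n with
  | zero =>
    have e0 : (⨂[R]^0 N) ≃ₗ[R] R := PiTensorProduct.isEmptyEquiv (Fin 0)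
    haveI : Module.Invertible R (⨂[R]^0 N) := Module.Invertible.congr e0.symm
    exact ⟨inferInstance, by rw [pow_zero]; exact CommRing.Pic.mk_eq_one_iff.mpr ⟨e0⟩⟩
  | succ n ih =>
    obtain ⟨inst, h⟩ := ih
    have e1 : (⨂[R]^1 N) ≃ₗ[R] N := PiTensorProduct.subsingletonEquiv (0 : Fin 1)
    have e2 : (⨂[R]^n N) ⊗[R] N ≃ₗ[R] (⨂[R]^(n+1) N) :=
      (TensorProduct.congr (LinearEquiv.refl R _) e1.symm).trans TensorPower.mulEquiv
    haveI : Module.Invertible R (⨂[R]^(n+1) N) := Module.Invertible.congr e2
    refine ⟨inferInstance, ?_⟩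
    rw [pow_succ, ← h, ← CommRing.Pic.mk_tensor]
    exact CommRing.Pic.mk_eq_mk_iff.mpr ⟨e2.symm⟩

open TensorProduct in
theorem det_surj {R : Type u} [CommRing R] (N : Type v)
    [AddCommGroup N] [Module R N] [Module.Invertible R N] (n : ℕ)
    (e : (Fin n → N) ≃ₗ[R] (Fin n → R)) :
    ∃ D : (⨂[R]^n N) →ₗ[R] R, Function.Surjective D := by
  classical
  let Dm : MultilinearMap R (fun _ : Fin n => N) R :=
    (Matrix.detRowAlternating (n := Fin n) (R := R)).toMultilinearMap.compLinearMap
      (fun i => e.toLinearMap ∘ₗ LinearMap.single R (fun _ => N) i)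
  let D := PiTensorProduct.lift Dm
  have hD : ∀ x : Fin n → N, D (PiTensorProduct.tprod R x) =
      Matrix.det (Matrix.of fun i j => e (Pi.single i (x i)) j) := by
    intro x
    rw [PiTensorProduct.lift.tprod]
    rfl
  refine ⟨D, ?_⟩
  have key : ∀ (l : Fin n → Module.Dual R N) (x : Fin n → N),
      ∏ i, l i (x i) ∈ LinearMap.range D := by
    intro l x
    let F : Matrix (Fin n) (Fin n) R := Matrix.of fun j k => l k ((e.symm (Pi.single j 1)) k)
    let E : Matrix (Fin n) (Fin n) R := Matrix.of fun i j => e (Pi.single i (x i)) j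
    have hEF : E * F = Matrix.diagonal fun i => l i (x i) := by
      refine Matrix.ext fun i k => ?_
      rw [Matrix.mul_apply]
      simp only [E, F, Matrix.of_apply]
      have h1 : ∑ j, e (Pi.single i (x i)) j * l k ((e.symm (Pi.single j 1)) k) =
          l k ((e.symm (e (Pi.single i (x i)))) k) := by
        conv_rhs => rw [pi_eq_sum_univ (e (Pi.single i (x i)))]
        simp only [map_sum, map_smul, Finset.sum_apply, Pi.smul_apply, smul_eq_mul]
        refine Finset.sum_congr rfl fun j _ => ?_
        have : (Pi.single j 1 : Fin n → R) = fun j' => if j = j' then 1 else 0 := by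
          ext j'; simp [Pi.single_apply, eq_comm]
        rw [this]
      rw [h1, LinearEquiv.symm_apply_apply, Matrix.diagonal_apply]
      by_cases hik : i = k
      · subst hik; simp
      · simp [hik]
    have : ∏ i, l i (x i) = E.det * F.det := by rw [← Matrix.det_mul, hEF, Matrix.det_diagonal]
    rw [this]
    exact ⟨F.det • PiTensorProduct.tprod R x, by rw [map_smul, hD, smul_eq_mul, mul_comm]⟩
  obtain ⟨z, hz⟩ := (Module.Invertible.bijective (R := R) (M := N)).2 1
  obtain ⟨S, rfl⟩ := TensorProduct.exists_finset z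
  have h1 : (1 : R) = ∑ p ∈ S, p.1 p.2 := by rw [← hz, map_sum]; simp [contractLeft_apply]
  have h1n : (1 : R) ∈ LinearMap.range D := by
    have : (1 : R) = ∏ _i : Fin n, ∑ p ∈ S, p.1 p.2 := by rw [← h1]; simp
    rw [this, Finset.prod_univ_sum]
    refine Submodule.sum_mem _ fun τ _ => ?_
    exact key (fun i => (τ i).1) (fun i => (τ i).2)
  intro r
  obtain ⟨y, hy⟩ := h1n
  exact ⟨r • y, by rw [map_smul, hy, smul_eq_mul, mul_one]⟩

/-- In the case of a commutative ring R, let N be an invertible R-module such that the direct sum N^n is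
isomorphic to R^n for some natural number n. Then the class of N in Pic(R) satisfies [N]^n = 1. (The
published statement is for invertible modules on an arbitrary ringed site; this row states the case
of a commutative ring.) -/
theorem result {R : Type u} [CommRing R] (N : Type v)
    [AddCommGroup N] [Module R N] [Module.Invertible R N] (n : ℕ)
    (e : (Fin n → N) ≃ₗ[R] (Fin n → R)) :
    CommRing.Pic.mk R N ^ n = 1 := by
  obtain ⟨inst, h⟩ := tpow_aux (R := R) N n
  obtain ⟨D, hD⟩ := det_surj N n e
  rw [← h]
  exact CommRing.Pic.mk_eq_one_iff.mpr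
    ⟨LinearEquiv.ofBijective D (Module.Invertible.bijective_of_surjective hD)⟩

end Groth.Agent.S16198
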