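import Groth.Statements.S1620
import Mathlib
import Groth.Agent.Lib.Helper3.FTField

set_option autoImplicit false
universe u
open CategoryTheory CategoryTheory.Limits AlgebraicGeometry
attribute [local instance] Curv2.stalkAlgebra Curv2.resAlgebra
open Variety

namespace Groth.Agent.S1620
open Groth.Agent.Lib.helper3.FTField Groth.Agent.Lib.helper3.DimIneq

/-- Let X be locally of finite type over a field k and x ⤳ x' an immediate specialisation (x ≠ x' and no
point strictly in between). If the residue field of x' has transcendence degree n over k then the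
residue field of x has transcendence degree n + 1. -/
theorem result (k : Type u) [Field k] (X : Scheme.{u}) [X.Over (Spec (CommRingCat.of k))] [LocallyOfFiniteType (X ↘ (Spec (CommRingCat.of k)))] (x x' : X) (hne : x ≠ x') (hsp : x ⤳ x')
    (himm : ∀ y : X, x ⤳ y → y ⤳ x' → y = x ∨ y = x')
    (n : ℕ) (hn : Algebra.trdeg k (X.residueField x') = n) : Algebra.trdeg k (X.residueField x) = n + 1 := by
  obtain ⟨U, hU, hxU', -⟩ := exists_isAffineOpen_mem_and_subset (x := x') (U := ⊤) trivial
  have hxU : x ∈ U := hsp.mem_open U.isOpen hxU'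
  have hle := (specializes_iff_primeIdealOf_le hU x x' hxU hxU').mp hsp
  have hneq : (hU.primeIdealOf ⟨x, hxU⟩).asIdeal ≠ (hU.primeIdealOf ⟨x', hxU'⟩).asIdeal := by
    intro heq
    have : x' ⤳ x := (specializes_iff_primeIdealOf_le hU x' x hxU' hxU).mpr (le_of_eq heq.symm)
    exact hne (hsp.antisymm this).eq
  have hone : ((hU.primeIdealOf ⟨x', hxU'⟩).asIdeal.map
      (Ideal.Quotient.mk (hU.primeIdealOf ⟨x, hxU⟩).asIdeal)).height = 1 := by
    apply height_map_eq_one _ _ (lt_of_le_of_ne hle hneq)
    intro p hp h1 h2
    obtain ⟨y, hyU, hyp⟩ := exists_point_of_prime hU p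
    subst hyp
    have hxy : x ⤳ y := (specializes_iff_primeIdealOf_le hU x y hxU hyU).mpr h1
    have hyx' : y ⤳ x' := (specializes_iff_primeIdealOf_le hU y x' hyU hxU').mpr h2
    rcases himm y hxy hyx' with h | h
    · left; subst h; rfl
    · right; subst h; rfl
  have key := height_map_add_trdeg_residueField k X hU x x' hxU hxU' hle
  rw [hone, hn] at key
  rw [← key]
  simp [add_comm]

end Groth.Agent.S1620
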