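import Groth.Statements.S16200
import Mathlib

set_option autoImplicit false
universe u v
open DivAlg

namespace Groth.Agent.S16200

open TensorProduct CommRing

section pieces

variable {R : Type u} [CommRing R]

/-- `(Fin (k+1) → M) ≃ M × (Fin k → M)`. -/
def piFinSuccEquiv (R : Type u) [CommRing R] (M : Type*) [AddCommGroup M] [Module R M] (k : ℕ) :
    (Fin (k + 1) → M) ≃ₗ[R] M × (Fin k → M) where
  toFun f := (f 0, fun i => f i.succ)
  map_add' _ _ := rfl
  map_smul' _ _ := rfl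
  invFun p := Fin.cons (α := fun _ => M) p.1 p.2
  left_inv f := by
    funext i
    refine Fin.cases ?_ (fun j => ?_) i
    · simp
    · simp
  right_inv p := by
    refine Prod.ext ?_ ?_
    · simp
    · funext i; simp

theorem nonempty_equiv_of_span_mul_eq [IsDomain R] {a b : R} (ha : a ≠ 0) (hb : b ≠ 0)
    {J K : Ideal R} (h : Ideal.span {a} * J = Ideal.span {b} * K) : Nonempty (J ≃ₗ[R] K) := by
  let φ : J →ₗ[R] R := (LinearMap.mulLeft R a) ∘ₗ J.subtype
  let ψ : K →ₗ[R] R := (LinearMap.mulLeft R b) ∘ₗ K.subtype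
  have hφa : ∀ x : J, φ x = a * (x : R) := fun x => rfl
  have hψa : ∀ x : K, ψ x = b * (x : R) := fun x => rfl
  have hφ : Function.Injective φ := by
    intro x y hxy
    rw [hφa, hφa] at hxy
    exact Subtype.ext (mul_left_cancel₀ ha hxy)
  have hψ : Function.Injective ψ := by
    intro x y hxy
    rw [hψa, hψa] at hxy
    exact Subtype.ext (mul_left_cancel₀ hb hxy)
  have hrange : LinearMap.range φ = LinearMap.range ψ := by
    ext z
    constructor
    · rintro ⟨x, rfl⟩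
      have h1 : a * (x : R) ∈ Ideal.span {a} * J :=
        Ideal.mem_span_singleton_mul.mpr ⟨x, x.2, rfl⟩
      rw [h] at h1
      obtain ⟨y, hy, hyz⟩ := Ideal.mem_span_singleton_mul.mp h1
      exact ⟨⟨y, hy⟩, hyz⟩
    · rintro ⟨x, rfl⟩
      have h1 : b * (x : R) ∈ Ideal.span {b} * K :=
        Ideal.mem_span_singleton_mul.mpr ⟨x, x.2, rfl⟩
      rw [← h] at h1
      obtain ⟨y, hy, hyz⟩ := Ideal.mem_span_singleton_mul.mp h1
      exact ⟨⟨y, hy⟩, hyz⟩
  exact ⟨(LinearEquiv.ofInjective φ hφ) ≪≫ₗ (LinearEquiv.ofEq _ _ hrange) ≪≫ₗ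
    (LinearEquiv.ofInjective ψ hψ).symm⟩

theorem exists_coprime_equiv [IsDedekindDomain R] (I J : Ideal R) (hI : I ≠ ⊥) (hJ : J ≠ ⊥) :
    ∃ K : Ideal R, I ⊔ K = ⊤ ∧ Nonempty (J ≃ₗ[R] K) := by
  by_cases hItop : I = ⊤
  · exact ⟨J, by rw [hItop, top_sup_eq], ⟨LinearEquiv.refl R J⟩⟩
  obtain ⟨b, hbJ, hb0⟩ := Submodule.exists_mem_ne_zero_of_ne_bot hJ
  obtain ⟨L, hL⟩ : J ∣ Ideal.span {b} :=
    Ideal.dvd_iff_le.mpr ((Ideal.span_singleton_le_iff_mem J).mpr hbJ)
  have hL0 : L ≠ ⊥ := by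
    rintro rfl
    rw [Ideal.mul_bot, Ideal.span_singleton_eq_bot] at hL
    exact hb0 hL
  have hLI0 : L * I ≠ 0 := mul_ne_zero hL0 hI
  obtain ⟨a, ha⟩ := IsDedekindDomain.exists_sup_span_eq (I := L * I) (J := L)
    Ideal.mul_le_left hLI0
  have haL : Ideal.span {a} ≤ L := le_sup_right.trans ha.le
  obtain ⟨K, hK⟩ : L ∣ Ideal.span {a} := Ideal.dvd_iff_le.mpr haL
  have hcop : I ⊔ K = ⊤ := by
    have h1 : L * (I ⊔ K) = L * ⊤ := by
      rw [Ideal.mul_sup, ← hK, ha, Ideal.mul_top]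
    exact mul_left_cancel₀ hL0 h1
  have ha0 : a ≠ 0 := by
    rintro rfl
    have h2 : L * K = ⊥ := by
      rw [← hK]
      exact Ideal.span_singleton_eq_bot.mpr rfl
    have hK0 : K = ⊥ := (mul_eq_zero.mp h2).resolve_left hL0
    rw [hK0, sup_bot_eq] at hcop
    exact hItop hcop
  refine ⟨K, hcop, ?_⟩
  apply nonempty_equiv_of_span_mul_eq ha0 hb0
  rw [hK, hL]
  ring

theorem prod_equiv_of_coprime (I K : Ideal R) (h : I ⊔ K = ⊤) :
    Nonempty ((I × K) ≃ₗ[R] (R × ↥(I * K))) := by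
  obtain ⟨a, haI, b, hbK, hab⟩ := Submodule.mem_sup.mp ((Ideal.eq_top_iff_one _).mp h)
  have m1 : ∀ p : I × K, b * (p.1 : R) - a * (p.2 : R) ∈ I * K := by
    intro p
    have h1 : (p.1 : R) * b ∈ I * K := Ideal.mul_mem_mul p.1.2 hbK
    have h2 : a * (p.2 : R) ∈ I * K := Ideal.mul_mem_mul haI p.2.2
    rw [mul_comm b (p.1 : R)]
    exact sub_mem h1 h2
  have m2 : ∀ q : R × ↥(I * K), a * q.1 + (q.2 : R) ∈ I := fun q =>
    add_mem (I.mul_mem_right _ haI) (Ideal.mul_le_left q.2.2)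
  have m3 : ∀ q : R × ↥(I * K), b * q.1 - (q.2 : R) ∈ K := fun q =>
    sub_mem (K.mul_mem_right _ hbK) (Ideal.mul_le_right q.2.2)
  let f : (I × K) → (R × ↥(I * K)) := fun p => ((p.1 : R) + (p.2 : R), ⟨b * p.1 - a * p.2, m1 p⟩)
  let g : (R × ↥(I * K)) → (I × K) := fun q => (⟨a * q.1 + q.2, m2 q⟩, ⟨b * q.1 - q.2, m3 q⟩)
  have hf1 : ∀ p, (f p).1 = (p.1 : R) + (p.2 : R) := fun p => rfl
  have hf2 : ∀ p, ((f p).2 : R) = b * (p.1 : R) - a * (p.2 : R) := fun p => rfl
  have hg1 : ∀ q, ((g q).1 : R) = a * q.1 + (q.2 : R) := fun q => rfl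
  have hg2 : ∀ q, ((g q).2 : R) = b * q.1 - (q.2 : R) := fun q => rfl
  have hadd : ∀ p p', f (p + p') = f p + f p' := by
    intro p p'
    refine Prod.ext ?_ (Subtype.ext ?_)
    · rw [Prod.fst_add, hf1, hf1, hf1, Prod.fst_add, Prod.snd_add, Submodule.coe_add,
        Submodule.coe_add]
      ring
    · rw [Prod.snd_add, Submodule.coe_add, hf2, hf2, hf2, Prod.fst_add, Prod.snd_add,
        Submodule.coe_add, Submodule.coe_add]
      ring
  have hsmul : ∀ (c : R) p, f (c • p) = c • f p := by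
    intro c p
    refine Prod.ext ?_ (Subtype.ext ?_)
    · rw [Prod.smul_fst, hf1, hf1, Prod.smul_fst, Prod.smul_snd, Submodule.coe_smul,
        Submodule.coe_smul, smul_eq_mul, smul_eq_mul, smul_eq_mul]
      ring
    · rw [Prod.smul_snd, Submodule.coe_smul, hf2, hf2, Prod.smul_fst, Prod.smul_snd,
        Submodule.coe_smul, Submodule.coe_smul, smul_eq_mul, smul_eq_mul, smul_eq_mul]
      ring
  have hl : ∀ p, g (f p) = p := by
    intro p
    refine Prod.ext (Subtype.ext ?_) (Subtype.ext ?_)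
    · rw [hg1, hf1, hf2]
      linear_combination (p.1 : R) * hab
    · rw [hg2, hf1, hf2]
      linear_combination (p.2 : R) * hab
  have hr : ∀ q, f (g q) = q := by
    intro q
    refine Prod.ext ?_ (Subtype.ext ?_)
    · rw [hf1, hg1, hg2]
      linear_combination q.1 * hab
    · rw [hf2, hg1, hg2]
      linear_combination (q.2 : R) * hab
  exact ⟨{ toFun := f
           map_add' := hadd
           map_smul' := hsmul
           invFun := g
           left_inv := hl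
           right_inv := hr }⟩

theorem ne_bot_of_invertible [Nontrivial R] (I : Ideal R) [hinv : Module.Invertible R I] :
    I ≠ ⊥ := by
  intro hI
  have hx : ∀ x : I, x = 0 := by
    intro x
    apply Subtype.ext
    have h3 : (x : R) ∈ I := x.2
    have h4 : (x : R) ∈ (⊥ : Ideal R) := by rw [← hI]; exact h3
    exact h4
  let e := Module.Invertible.linearEquiv R I
  have hall : ∀ t : Module.Dual R I ⊗[R] I, t = 0 := by
    intro t
    induction t using TensorProduct.induction_on with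
    | zero => rfl
    | tmul f x => rw [hx x, TensorProduct.tmul_zero]
    | add a b ha hb => rw [ha, hb, add_zero]
  have h1 : (1 : R) = 0 := by
    rw [← e.apply_symm_apply 1, hall (e.symm 1), map_zero]
  exact one_ne_zero h1

/-- Steinitz: `M₁ × M₂ ≃ R × (M₁ ⊗ M₂)` for invertible modules over a Dedekind domain. -/
theorem steinitz [IsDedekindDomain R] (M₁ : Type*) (M₂ : Type*)
    [AddCommGroup M₁] [Module R M₁] [Module.Invertible R M₁]
    [AddCommGroup M₂] [Module R M₂] [Module.Invertible R M₂] :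
    Nonempty ((M₁ × M₂) ≃ₗ[R] (R × (M₁ ⊗[R] M₂))) := by
  obtain ⟨I, ⟨e₁⟩⟩ := Module.Invertible.exists_linearEquiv_ideal R M₁
  obtain ⟨J, ⟨e₂⟩⟩ := Module.Invertible.exists_linearEquiv_ideal R M₂
  have : Module.Invertible R I := Module.Invertible.congr e₁
  have : Module.Invertible R J := Module.Invertible.congr e₂
  have hI : I ≠ ⊥ := ne_bot_of_invertible I
  have hJ : J ≠ ⊥ := ne_bot_of_invertible J
  obtain ⟨K, hcop, ⟨e₃⟩⟩ := exists_coprime_equiv I J hI hJ
  have : Module.Invertible R K := Module.Invertible.congr e₃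
  obtain ⟨e₄⟩ := prod_equiv_of_coprime I K hcop
  have hdis : Submodule.LinearDisjoint I K :=
    Submodule.LinearDisjoint.of_left_le_one_of_flat I K (le_top.trans Ideal.one_eq_top.ge)
  let e₅ : I ⊗[R] K ≃ₗ[R] ↥(I * K) := hdis.mulMap
  exact ⟨(LinearEquiv.prodCongr e₁ (e₂ ≪≫ₗ e₃)) ≪≫ₗ e₄ ≪≫ₗ
    (LinearEquiv.prodCongr (LinearEquiv.refl R R) e₅.symm) ≪≫ₗ
    (LinearEquiv.prodCongr (LinearEquiv.refl R R)
      (TensorProduct.congr e₁.symm (e₂ ≪≫ₗ e₃).symm))⟩

theorem pow_claim [IsDedekindDomain R] (N : Type v) [AddCommGroup N] [Module R N]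
    [Module.Invertible R N] (k : ℕ) :
    Nonempty ((Fin (k + 1) → N) ≃ₗ[R] ((Fin k → R) × ↥(Pic.mk R N ^ (k + 1)))) := by
  induction k with
  | zero =>
    have h1 : Pic.mk R N = Pic.mk R N ^ (0 + 1) := by rw [zero_add, pow_one]
    obtain ⟨e⟩ := Pic.mk_eq_iff.mp h1
    exact ⟨(LinearEquiv.funUnique (Fin 1) R N) ≪≫ₗ e ≪≫ₗ
      (LinearEquiv.uniqueProd (R := R) (M := ↥(Pic.mk R N ^ (0 + 1))) (M₂ := Fin 0 → R)).symm⟩
  | succ k ih =>
    obtain ⟨e⟩ := ih
    obtain ⟨s⟩ := steinitz (R := R) N ↥(Pic.mk R N ^ (k + 1))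
    have h1 : Pic.mk R (N ⊗[R] ↥(Pic.mk R N ^ (k + 1))) = Pic.mk R N ^ (k + 1 + 1) := by
      rw [Pic.mk_tensor, Pic.mk_eq_self, ← pow_succ']
    obtain ⟨t⟩ := Pic.mk_eq_iff.mp h1
    let A := Fin k → R
    let B := ↥(Pic.mk R N ^ (k + 1))
    -- `N × (A × B) ≃ A × (N × B)`
    let sh : (N × (A × B)) ≃ₗ[R] (A × (N × B)) :=
      (LinearEquiv.prodAssoc R N A B).symm ≪≫ₗ
        (LinearEquiv.prodCongr (LinearEquiv.prodComm R N A) (LinearEquiv.refl R B)) ≪≫ₗ
        (LinearEquiv.prodAssoc R A N B)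
    let r1 : (Fin (k + 1) → R) ≃ₗ[R] (A × R) :=
      (piFinSuccEquiv R R k) ≪≫ₗ (LinearEquiv.prodComm R R A)
    exact ⟨(piFinSuccEquiv R N (k + 1)) ≪≫ₗ
      (LinearEquiv.prodCongr (LinearEquiv.refl R N) e) ≪≫ₗ sh ≪≫ₗ
      (LinearEquiv.prodCongr (LinearEquiv.refl R A) s) ≪≫ₗ
      (LinearEquiv.prodAssoc R A R (N ⊗[R] B)).symm ≪≫ₗ
      (LinearEquiv.prodCongr r1.symm t)⟩

end pieces



/-- Let R be a Dedekind domain, N an invertible R-module and n a natural number with [N]^n = 1 in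
Pic(R). Then the direct sum N^n is isomorphic to R^n; thus over a Dedekind domain the invertible
modules N with N^n ≅ R^n are exactly the n-torsion classes of Pic(R), the other inclusion holding
over any commutative ring. -/
theorem result {R : Type u} [CommRing R]
    [IsDedekindDomain R] (N : Type v) [AddCommGroup N] [Module R N] [Module.Invertible R N]
    (n : ℕ) (h : CommRing.Pic.mk R N ^ n = 1) :
    Nonempty ((Fin n → N) ≃ₗ[R] (Fin n → R)) := by
  cases n with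
  | zero => exact ⟨LinearEquiv.ofSubsingleton _ _⟩
  | succ k =>
    obtain ⟨e⟩ := pow_claim (R := R) N k
    have h1 : Pic.mk R ↥(Pic.mk R N ^ (k + 1)) = 1 := by
      rw [Pic.mk_eq_self]; exact h
    obtain ⟨t⟩ := Pic.mk_eq_one_iff.mp h1
    exact ⟨e ≪≫ₗ (LinearEquiv.prodCongr (LinearEquiv.refl R (Fin k → R)) t) ≪≫ₗ
      (LinearEquiv.prodComm R (Fin k → R) R) ≪≫ₗ (piFinSuccEquiv R R k).symm⟩


end Groth.Agent.S16200
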