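import Groth.Statements.S16201
import Mathlib.AlgebraicGeometry.Morphisms.FinitePresentation
import Mathlib.AlgebraicGeometry.Noetherian
import Mathlib.Topology.JacobsonSpace
import Mathlib.Topology.Constructible
-- import your own Groth.Agent.* helpers here

set_option autoImplicit false
open CategoryTheory AlgebraicGeometry
open Variety
open Topology

namespace Groth.Agent.S16201


/-- In an irreducible space, a constructible set or its complement contains a nonempty open. -/
theorem constructible_dichotomy {Z : Type*} [TopologicalSpace Z] [IrreducibleSpace Z]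
    {s : Set Z} (hs : IsConstructible s) :
    (∃ U : Set Z, IsOpen U ∧ U.Nonempty ∧ U ⊆ s) ∨ (∃ U : Set Z, IsOpen U ∧ U.Nonempty ∧ U ⊆ sᶜ) := by
  induction hs using IsConstructible.empty_union_induction with
  | open_retrocompact U hUo hUc =>
    by_cases hU : U.Nonempty
    · exact Or.inl ⟨U, hUo, hU, subset_rfl⟩
    · rw [Set.not_nonempty_iff_eq_empty] at hU
      subst hU
      exact Or.inr ⟨Set.univ, isOpen_univ, Set.univ_nonempty, by simp⟩
  | union s hs t ht ihs iht =>
    rcases ihs with ⟨U, hUo, hUn, hUs⟩ | ⟨U, hUo, hUn, hUs⟩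
    · exact Or.inl ⟨U, hUo, hUn, hUs.trans Set.subset_union_left⟩
    · rcases iht with ⟨V, hVo, hVn, hVt⟩ | ⟨V, hVo, hVn, hVt⟩
      · exact Or.inl ⟨V, hVo, hVn, hVt.trans Set.subset_union_right⟩
      · refine Or.inr ⟨U ∩ V, hUo.inter hVo, nonempty_preirreducible_inter hUo hVo hUn hVn, ?_⟩
        rw [Set.compl_union]
        exact Set.inter_subset_inter hUs hVt
  | compl s hs ih =>
    rcases ih with h | h
    · exact Or.inr (by simpa using h)
    · exact Or.inl h

theorem exists_open_subset_of_dense {Z : Type*} [TopologicalSpace Z] [IrreducibleSpace Z]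
    {s : Set Z} (hs : IsConstructible s) (hd : Dense s) :
    ∃ U : Set Z, IsOpen U ∧ U.Nonempty ∧ U ⊆ s := by
  rcases constructible_dichotomy hs with h | ⟨U, hUo, hUn, hUs⟩
  · exact h
  · exfalso
    obtain ⟨x, hxU, hxs⟩ := hd.inter_open_nonempty U hUo hUn
    exact hUs hxU hxs

/-- Let f : Y → Z be a morphism of schemes of finite type over ℂ, with Z irreducible. Suppose that the
general fibre of f is irreducible, in the sense that there is a nonempty open subset V of Z such
that the fibre of f over every closed point of V is an irreducible topological space, and that each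
irreducible component of Y has dense image in Z. Then Y is irreducible. (The published statement is
for a morphism of projective varieties; only finiteness of type over the field is used, and the row
is stated in that generality.) -/
theorem result
    (Y Z : Scheme.{0}) (g : Z ⟶ Spec (CommRingCat.of ℂ)) (f : Y ⟶ Z)
    [LocallyOfFiniteType g] [QuasiCompact g] [LocallyOfFiniteType f] [QuasiCompact f]
    [IrreducibleSpace Z]
    (hgen : ∃ V : Z.Opens, (V : Set Z).Nonempty ∧
      ∀ z ∈ V, IsClosed ({z} : Set Z) → IsIrreducible (f.base ⁻¹' {z}))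
    (hdom : ∀ W ∈ irreducibleComponents Y, Dense (f.base '' W)) :
    IrreducibleSpace Y := by
  classical
  have hZN : IsLocallyNoetherian Z := LocallyOfFiniteType.isLocallyNoetherian g
  have hYN : IsLocallyNoetherian Y := LocallyOfFiniteType.isLocallyNoetherian f
  have hZc : CompactSpace Z := HasAffineProperty.iff_of_isAffine.mp ‹QuasiCompact g›
  have hYc : CompactSpace Y := by
    have : QuasiCompact (f ≫ g) := inferInstance
    exact HasAffineProperty.iff_of_isAffine.mp this
  have hYNoeth : IsNoetherian Y := { }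
  have hZJ : JacobsonSpace Z := LocallyOfFiniteType.jacobsonSpace g
  have hfin : (irreducibleComponents Y).Finite := finite_irreducibleComponents_of_isNoetherian
  obtain ⟨V, hVne, hV⟩ := hgen
  set 𝒲 : Finset (Set Y) := hfin.toFinset with h𝒲
  have hmem : ∀ W, W ∈ 𝒲 ↔ W ∈ irreducibleComponents Y := fun W => by simp [h𝒲]
  have hcover : ⋃₀ (𝒲 : Set (Set Y)) = Set.univ := by
    rw [h𝒲, Set.Finite.coe_toFinset]; exact sUnion_irreducibleComponents
  -- for each component, a nonempty open in Z inside the image of its "private part"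
  have key : ∀ W ∈ 𝒲, ∃ U : Set Z, IsOpen U ∧ U.Nonempty ∧
      ∀ z ∈ U, ∃ y ∈ W, f.base y = z ∧ ∀ W' ∈ 𝒲, y ∈ W' → W' = W := by
    intro W hW
    have hWirr : W ∈ irreducibleComponents Y := (hmem W).mp hW
    -- the private part
    let C : Set Y := ⋃₀ ((𝒲.erase W : Finset (Set Y)) : Set (Set Y))
    have hCclosed : IsClosed C := by
      show IsClosed (⋃₀ ((𝒲.erase W : Finset (Set Y)) : Set (Set Y)))
      rw [Set.sUnion_eq_biUnion]
      apply Set.Finite.isClosed_biUnion (Finset.finite_toSet _)
      intro W' hW'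
      have : W' ∈ 𝒲 := Finset.mem_of_mem_erase hW'
      exact isClosed_of_mem_irreducibleComponents W' ((hmem W').mp this)
    have hWC : ¬ W ⊆ C := by
      intro hsub
      obtain ⟨W', hW', hWW'⟩ := (isIrreducible_iff_sUnion_isClosed.mp hWirr.1) (𝒲.erase W)
        (fun W' hW' => isClosed_of_mem_irreducibleComponents W'
          ((hmem W').mp (Finset.mem_of_mem_erase hW'))) hsub
      have h1 : W' ∈ irreducibleComponents Y := (hmem W').mp (Finset.mem_of_mem_erase hW')
      have h2 : W' ≠ W := Finset.ne_of_mem_erase hW'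
      exact h2 (le_antisymm (hWirr.2 h1.1 hWW') hWW')
    have hne : (W ∩ Cᶜ).Nonempty := by
      rw [Set.not_subset] at hWC
      obtain ⟨y, hyW, hyC⟩ := hWC
      exact ⟨y, hyW, hyC⟩
    have hdense : Dense (f.base '' (W ∩ Cᶜ)) := by
      have h1 : W ⊆ closure (W ∩ Cᶜ) :=
        subset_closure_inter_of_isPreirreducible_of_isOpen hWirr.1.2 hCclosed.isOpen_compl hne
      have h2 : f.base '' W ⊆ closure (f.base '' (W ∩ Cᶜ)) :=
        (Set.image_mono h1).trans (image_closure_subset_closure_image f.base.hom.continuous)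
      have h3 := (hdom W hWirr).closure_eq
      rw [dense_iff_closure_eq, ← Set.univ_subset_iff, ← h3]
      exact closure_minimal h2 isClosed_closure
    have hconstr : IsConstructible (W ∩ Cᶜ) := by
      have hWc : IsConstructible W := by
        rw [← isConstructible_compl]
        exact IsRetrocompact.isConstructible
          (isClosed_of_mem_irreducibleComponents W hWirr).isOpen_compl
          (fun U _ _ => TopologicalSpace.NoetherianSpace.isCompact _)
      have hCc : IsConstructible Cᶜ :=
        IsRetrocompact.isConstructible hCclosed.isOpen_compl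
          (fun U _ _ => TopologicalSpace.NoetherianSpace.isCompact _)
      exact hWc.inter hCc
    have himg : IsConstructible (f.base '' (W ∩ Cᶜ)) := f.isConstructible_image hconstr
    obtain ⟨U, hUo, hUn, hUs⟩ := exists_open_subset_of_dense himg hdense
    refine ⟨U, hUo, hUn, fun z hz => ?_⟩
    obtain ⟨y, ⟨hyW, hyC⟩, hyz⟩ := hUs hz
    refine ⟨y, hyW, hyz, fun W' hW' hyW' => ?_⟩
    by_contra hne'
    exact hyC ⟨W', Finset.mem_erase.mpr ⟨hne', hW'⟩, hyW'⟩
  choose! U hUo hUn hUprop using key
  -- intersect all of them with V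
  have hZirr : IsIrreducible (Set.univ : Set Z) := IrreducibleSpace.isIrreducible_univ Z
  let 𝒰 : Finset (Set Z) := insert (V : Set Z) (𝒲.image U)
  have h𝒰o : ∀ u ∈ 𝒰, IsOpen u := by
    intro u hu
    rcases Finset.mem_insert.mp hu with rfl | hu
    · exact V.2
    · obtain ⟨W, hW, rfl⟩ := Finset.mem_image.mp hu
      exact hUo W hW
  have h𝒰n : ∀ u ∈ 𝒰, (Set.univ ∩ u).Nonempty := by
    intro u hu
    rw [Set.univ_inter]
    rcases Finset.mem_insert.mp hu with rfl | hu
    · exact hVne
    · obtain ⟨W, hW, rfl⟩ := Finset.mem_image.mp hu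
      exact hUn W hW
  have hinter := (isIrreducible_iff_sInter.mp hZirr) 𝒰 h𝒰o h𝒰n
  rw [Set.univ_inter] at hinter
  have hopen : IsOpen (⋂₀ (𝒰 : Set (Set Z))) := (Finset.finite_toSet 𝒰).isOpen_sInter h𝒰o
  obtain ⟨z, hz𝒰, hzcl⟩ := nonempty_inter_closedPoints hinter hopen.isLocallyClosed
  have hzV : z ∈ V := hz𝒰 (V : Set Z) (by simp [𝒰])
  have hzU : ∀ W ∈ 𝒲, z ∈ U W := fun W hW =>
    hz𝒰 (U W) (by simp only [𝒰, Finset.coe_insert, Finset.coe_image]; exact Or.inr ⟨W, hW, rfl⟩)
  have hfib : IsIrreducible (f.base ⁻¹' {z}) := hV z hzV hzcl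
  obtain ⟨W₀, hW₀, hfibW₀⟩ := (isIrreducible_iff_sUnion_isClosed.mp hfib) 𝒲
    (fun W hW => isClosed_of_mem_irreducibleComponents W ((hmem W).mp hW))
    (by rw [hcover]; exact Set.subset_univ _)
  have hall : ∀ W ∈ 𝒲, W = W₀ := by
    intro W hW
    obtain ⟨y, hyW, hyz, hy⟩ := hUprop W hW z (hzU W hW)
    exact (hy W₀ hW₀ (hfibW₀ hyz)).symm
  have huniv : (Set.univ : Set Y) = W₀ := by
    rw [← hcover]
    apply le_antisymm
    · apply Set.sUnion_subset
      intro W hW
      rw [hall W hW]
    · exact Set.subset_sUnion_of_mem hW₀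
  have hW₀irr : IsIrreducible W₀ := ((hmem W₀).mp hW₀).1
  rw [← huniv] at hW₀irr
  exact (irreducibleSpace_def Y).mpr hW₀irr

end Groth.Agent.S16201
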