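import Groth.Statements.S16206
import Mathlib
-- import your own Groth.Agent.* helpers here

set_option autoImplicit false
open RatCurv

namespace Groth.Agent.S16206

open W4c3cyccovratcurv

lemma conicAdj_symm {k : ℕ} : ∀ T₁ T₂ : MarkedTree k, ConicAdj T₁ T₂ → ConicAdj T₂ T₁ := by
  rintro T₁ T₂ ⟨u₁, w₁, u₂, w₂, h₁, h₂, φ, hφ, hm⟩
  refine ⟨u₂, w₂, u₁, w₁, h₂, h₁, φ.symm, ?_, ?_⟩
  · rw [← hφ]; exact φ.symm_apply_apply _
  · intro i; rw [← hm i]; exact φ.symm_apply_apply _

lemma rtg_symm {α : Type*} {r : α → α → Prop} (hr : ∀ a b, r a b → r b a) {a b : α}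
    (h : Relation.ReflTransGen r a b) : Relation.ReflTransGen r b a := by
  induction h with
  | refl => exact Relation.ReflTransGen.refl
  | tail _ hbc ih => exact Relation.ReflTransGen.head (hr _ _ hbc) ih

lemma conicAdj_of_contract_eq {k n : ℕ} (G G' : SimpleGraph (Fin n)) (hG : G.IsTree) (hG' : G'.IsTree)
    (m m' : Fin k → Fin n) (u w : Fin n) (h : G.Adj u w) (h' : G'.Adj u w)
    (hc : contract G u w = contract G' u w)
    (hm : ∀ i, contractMark m u w h.ne i = contractMark m' u w h'.ne i) :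
    ConicAdj (⟨n, G, hG, m⟩ : MarkedTree k) ⟨n, G', hG', m'⟩ := by
  refine ⟨u, w, u, w, h, h', ⟨Equiv.refl _, ?_⟩, ?_, ?_⟩
  · intro a b
    show (contract G' u w).Adj a b ↔ (contract G u w).Adj a b
    rw [hc]
  · rfl
  · intro i
    exact hm i

lemma del_adj_wu {n : ℕ} (G : SimpleGraph (Fin n)) (u w x : Fin n)
    (huw : G.Adj u w) (hwx : G.Adj w x) (hux : u ≠ x) :
    (G.deleteEdges {s(w, x)}).Adj w u := by
  rw [SimpleGraph.deleteEdges_adj]
  refine ⟨huw.symm, ?_⟩
  rw [Set.mem_singleton_iff, Sym2.eq_iff]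
  rintro (⟨-, h⟩ | ⟨h, -⟩)
  · exact hux h
  · exact hwx.ne h

lemma swap_isTree {n : ℕ} (G : SimpleGraph (Fin n)) (hG : G.IsTree) (u w x : Fin n)
    (huw : G.Adj u w) (hwx : G.Adj w x) (hux : u ≠ x) :
    (G.deleteEdges {s(w, x)} ⊔ SimpleGraph.edge u x).IsTree := by
  have hwu := del_adj_wu G u w x huw hwx hux
  have hedge : (SimpleGraph.edge u x).Adj u x := by
    rw [SimpleGraph.edge_adj]; exact ⟨Or.inl ⟨rfl, rfl⟩, hux⟩
  refine ⟨?_, ?_⟩
  · -- connected
    have key : ∀ a b, G.Adj a b →
        (G.deleteEdges {s(w, x)} ⊔ SimpleGraph.edge u x).Reachable a b := by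
      intro a b hab
      have hwx' : (G.deleteEdges {s(w, x)} ⊔ SimpleGraph.edge u x).Reachable w x :=
        (SimpleGraph.Adj.reachable (Or.inl hwu)).trans (SimpleGraph.Adj.reachable (Or.inr hedge))
      by_cases he : s(a, b) = s(w, x)
      · rw [Sym2.eq_iff] at he
        rcases he with ⟨rfl, rfl⟩ | ⟨rfl, rfl⟩
        · exact hwx'
        · exact hwx'.symm
      · refine SimpleGraph.Adj.reachable (Or.inl ?_)
        rw [SimpleGraph.deleteEdges_adj]
        exact ⟨hab, he⟩
    have key2 : ∀ a b, G.Reachable a b →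
        (G.deleteEdges {s(w, x)} ⊔ SimpleGraph.edge u x).Reachable a b := by
      rintro a b ⟨p⟩
      induction p with
      | nil => exact SimpleGraph.Reachable.refl _
      | cons h p ih => exact (key _ _ h).trans ih
    haveI := hG.connected.nonempty
    exact ⟨fun a b => key2 a b (hG.connected.preconnected a b)⟩
  · rw [SimpleGraph.isAcyclic_sup_fromEdgeSet_iff]
    refine ⟨hG.isAcyclic.anti (SimpleGraph.deleteEdges_le _), fun hreach => False.elim ?_⟩
    have hbr := SimpleGraph.isAcyclic_iff_forall_adj_isBridge.1 hG.isAcyclic hwx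
    rw [SimpleGraph.isBridge_iff] at hbr
    exact hbr ((SimpleGraph.Adj.reachable hwu).trans hreach)

lemma swap_contract {n : ℕ} (G : SimpleGraph (Fin n)) (u w x : Fin n)
    (huw : G.Adj u w) (hwx : G.Adj w x) (hux : u ≠ x) :
    contract G u w = contract (G.deleteEdges {s(w, x)} ⊔ SimpleGraph.edge u x) u w := by
  ext ⟨a, ha⟩ ⟨b, hb⟩
  simp only [contract, SimpleGraph.fromRel_adj, SimpleGraph.sup_adj, SimpleGraph.deleteEdges_adj,
    SimpleGraph.edge_adj, Set.mem_singleton_iff, Sym2.eq_iff, ne_eq, Subtype.mk.injEq]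
  have h1 : u ≠ w := huw.ne
  have h2 : w ≠ x := hwx.ne
  constructor
  · rintro ⟨hne, h⟩
    refine ⟨hne, ?_⟩
    rcases h with (h | ⟨rfl, h⟩) | (h | ⟨rfl, h⟩)
    · left; left; left
      exact ⟨h, by rintro (⟨rfl, -⟩ | ⟨-, rfl⟩) <;> simp_all⟩
    · by_cases hbx : b = x
      · subst hbx
        left; left; right
        exact ⟨Or.inl ⟨rfl, rfl⟩, hne⟩
      · left; right
        refine ⟨rfl, Or.inl ⟨h, ?_⟩⟩
        rintro (⟨-, rfl⟩ | ⟨rfl, -⟩)
        · exact hbx rfl
        · exact h2 rfl
    · right; left; left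
      exact ⟨h, by rintro (⟨rfl, -⟩ | ⟨-, rfl⟩) <;> simp_all⟩
    · by_cases hax : a = x
      · subst hax
        right; left; right
        exact ⟨Or.inl ⟨rfl, rfl⟩, fun h => hne h.symm⟩
      · right; right
        refine ⟨rfl, Or.inl ⟨h, ?_⟩⟩
        rintro (⟨-, rfl⟩ | ⟨rfl, -⟩)
        · exact hax rfl
        · exact h2 rfl
  · rintro ⟨hne, h⟩
    refine ⟨hne, ?_⟩
    rcases h with ((⟨h, -⟩ | ⟨(⟨rfl, rfl⟩ | ⟨rfl, rfl⟩), -⟩) | ⟨rfl, (⟨h, -⟩ | ⟨(⟨rfl, -⟩ | ⟨rfl, -⟩), -⟩)⟩) |
      ((⟨h, -⟩ | ⟨(⟨rfl, rfl⟩ | ⟨rfl, rfl⟩), -⟩) | ⟨rfl, (⟨h, -⟩ | ⟨(⟨rfl, -⟩ | ⟨rfl, -⟩), -⟩)⟩)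
    · left; left; exact h
    · left; right; exact ⟨rfl, hwx⟩
    · right; right; exact ⟨rfl, hwx⟩
    · left; right; exact ⟨rfl, h⟩
    · exact absurd rfl h1
    · exact absurd rfl h2
    · right; left; exact h
    · right; right; exact ⟨rfl, hwx⟩
    · left; right; exact ⟨rfl, hwx⟩
    · right; right; exact ⟨rfl, h⟩
    · exact absurd rfl h1
    · exact absurd rfl h2

lemma exists_boundary {V : Type*} (G : SimpleGraph V) (P : V → Prop) {a v : V} (p : G.Walk a v)
    (ha : P a) (hv : ¬ P v) : ∃ y x, G.Adj y x ∧ P y ∧ ¬ P x := by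
  induction p with
  | nil => exact absurd ha hv
  | @cons a b v' h p ih =>
    by_cases hb : P b
    · exact ih hb hv
    · exact ⟨_, _, h, ha, hb⟩

lemma phase1 {k n : ℕ} (c : Fin n) : ∀ (N : ℕ) (G : SimpleGraph (Fin n)) (hG : G.IsTree)
    (m : Fin k → Fin n),
    Set.ncard {v | v ≠ c ∧ ¬ G.Adj c v} = N →
    ∃ (G' : SimpleGraph (Fin n)) (hG' : G'.IsTree),
      Relation.ReflTransGen ConicAdj (⟨n, G, hG, m⟩ : MarkedTree k) ⟨n, G', hG', m⟩ ∧
        ∀ v, v ≠ c → G'.Adj c v := by
  classical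
  intro N
  induction N using Nat.strong_induction_on with
  | _ N ih =>
    intro G hG m hN
    by_cases hall : ∀ v, v ≠ c → G.Adj c v
    · exact ⟨G, hG, Relation.ReflTransGen.refl, hall⟩
    · obtain ⟨v, hvc, hv⟩ : ∃ v, v ≠ c ∧ ¬ G.Adj c v := by
        by_contra hno
        apply hall
        intro v hvc
        by_contra hv
        exact hno ⟨v, hvc, hv⟩
      obtain ⟨p⟩ := hG.connected.preconnected c v
      obtain ⟨y, x, hyx, hPy, hPx⟩ := exists_boundary G (fun a => a = c ∨ G.Adj c a) p (Or.inl rfl)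
        (by rintro (h | h); exact hvc h; exact hv h)
      have hxc : x ≠ c := fun h => hPx (Or.inl h)
      have hcx : ¬ G.Adj c x := fun h => hPx (Or.inr h)
      have hcy : G.Adj c y := by
        rcases hPy with rfl | h
        · exact absurd hyx hcx
        · exact h
      have hT' := swap_isTree G hG c y x hcy hyx hxc.symm
      have hstep : ConicAdj (⟨n, G, hG, m⟩ : MarkedTree k)
          ⟨n, G.deleteEdges {s(y, x)} ⊔ SimpleGraph.edge c x, hT', m⟩ := by
        refine conicAdj_of_contract_eq G _ hG hT' m m c y hcy ?_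
          (swap_contract G c y x hcy hyx hxc.symm) (fun i => rfl)
        left
        rw [SimpleGraph.deleteEdges_adj]
        refine ⟨hcy, ?_⟩
        rw [Set.mem_singleton_iff, Sym2.eq_iff]
        rintro (⟨h, -⟩ | ⟨h, -⟩)
        · exact hcy.ne h
        · exact hxc h.symm
      have hlt : Set.ncard {v | v ≠ c ∧
          ¬ (G.deleteEdges {s(y, x)} ⊔ SimpleGraph.edge c x).Adj c v} < N := by
        rw [← hN]
        apply Set.ncard_lt_ncard _ (Set.toFinite _)
        rw [Set.ssubset_def]
        refine ⟨?_, ?_⟩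
        · intro v' hv'
          refine ⟨hv'.1, fun hadj => hv'.2 (Or.inl ?_)⟩
          rw [SimpleGraph.deleteEdges_adj]
          refine ⟨hadj, ?_⟩
          rw [Set.mem_singleton_iff, Sym2.eq_iff]
          rintro (⟨h, -⟩ | ⟨h, -⟩)
          · exact hcy.ne h
          · exact hxc h.symm
        · intro hsub
          have hx1 : x ∈ {v | v ≠ c ∧ ¬ G.Adj c v} := ⟨hxc, hcx⟩
          have hx2 := hsub hx1
          apply hx2.2
          right
          rw [SimpleGraph.edge_adj]
          exact ⟨Or.inl ⟨rfl, rfl⟩, hxc.symm⟩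
      obtain ⟨G'', hG'', hrel, hstar⟩ := ih _ hlt _ hT' m rfl
      exact ⟨G'', hG'', Relation.ReflTransGen.head hstep hrel, hstar⟩

lemma phase2 {k n : ℕ} (c : Fin n) (G : SimpleGraph (Fin n)) (hG : G.IsTree)
    (hstar : ∀ v, v ≠ c → G.Adj c v) :
    ∀ (N : ℕ) (m : Fin k → Fin n), Set.ncard {i | m i ≠ c} = N →
      Relation.ReflTransGen ConicAdj (⟨n, G, hG, m⟩ : MarkedTree k) ⟨n, G, hG, fun _ => c⟩ := by
  classical
  intro N
  induction N using Nat.strong_induction_on with
  | _ N ih =>
    intro m hN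
    by_cases hall : ∀ i, m i = c
    · have : m = fun _ => c := funext hall
      subst this
      exact Relation.ReflTransGen.refl
    · obtain ⟨i, hi⟩ : ∃ i, m i ≠ c := by
        by_contra hno
        apply hall
        intro i
        by_contra hi
        exact hno ⟨i, hi⟩
      have hadj := hstar (m i) hi
      have hstep : ConicAdj (⟨n, G, hG, m⟩ : MarkedTree k)
          ⟨n, G, hG, fun j => if m j = m i then c else m j⟩ := by
        refine conicAdj_of_contract_eq G G hG hG m _ c (m i) hadj hadj rfl ?_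
        intro j
        unfold contractMark
        by_cases hj : m j = m i
        · have h2 : ¬ ((if m j = m i then c else m j) = m i) := by
            rw [if_pos hj]; exact fun h => hi h.symm
          rw [dif_pos hj, dif_neg h2]
          apply Subtype.ext
          simp [hj]
        · have h2 : ¬ ((if m j = m i then c else m j) = m i) := by
            rw [if_neg hj]; exact hj
          rw [dif_neg hj, dif_neg h2]
          apply Subtype.ext
          simp [hj]
      have hlt : Set.ncard {j | (if m j = m i then c else m j) ≠ c} < N := by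
        rw [← hN]
        apply Set.ncard_lt_ncard _ (Set.toFinite _)
        rw [Set.ssubset_def]
        refine ⟨?_, ?_⟩
        · intro j hj
          refine fun h => hj ?_
          by_cases hji : m j = m i
          · rw [if_pos hji]
          · rw [if_neg hji]; exact h
        · intro hsub
          have h1 : i ∈ {j | m j ≠ c} := hi
          have h2 := hsub h1
          apply h2
          show (if m i = m i then c else m i) = c
          rw [if_pos rfl]
      exact Relation.ReflTransGen.head hstep (ih _ hlt _ rfl)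

lemma star_adj {n : ℕ} (c : Fin n) (G : SimpleGraph (Fin n)) (hG : G.IsTree)
    (hstar : ∀ v, v ≠ c → G.Adj c v) (a b : Fin n) :
    G.Adj a b ↔ (a = c ∧ b ≠ c) ∨ (b = c ∧ a ≠ c) := by
  constructor
  · intro hab
    by_cases ha : a = c
    · left; exact ⟨ha, fun hb => hab.ne (ha.trans hb.symm)⟩
    by_cases hb : b = c
    · right; exact ⟨hb, ha⟩
    exfalso
    have hbr := SimpleGraph.isAcyclic_iff_forall_adj_isBridge.1 hG.isAcyclic hab
    rw [SimpleGraph.isBridge_iff] at hbr
    apply hbr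
    have h1 : (G.deleteEdges {s(a, b)}).Adj a c := by
      rw [SimpleGraph.deleteEdges_adj]
      refine ⟨(hstar a ha).symm, ?_⟩
      rw [Set.mem_singleton_iff, Sym2.eq_iff]
      rintro (⟨-, h⟩ | ⟨-, h⟩)
      · exact hb h.symm
      · exact ha h.symm
    have h2 : (G.deleteEdges {s(a, b)}).Adj c b := by
      rw [SimpleGraph.deleteEdges_adj]
      refine ⟨hstar b hb, ?_⟩
      rw [Set.mem_singleton_iff, Sym2.eq_iff]
      rintro (⟨h, -⟩ | ⟨h, -⟩)
      · exact ha h.symm
      · exact hb h.symm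
    exact (SimpleGraph.Adj.reachable h1).trans (SimpleGraph.Adj.reachable h2)
  · rintro (⟨rfl, hb⟩ | ⟨rfl, ha⟩)
    · exact hstar b hb
    · exact (hstar a ha).symm

/-- Let G₁ and G₂ be dual graphs of linear trees of the same total degree e and with k marked points
each, that is finite trees with e vertices, every vertex of degree one, together with a list of k
marked vertices (repetitions allowed). Then a finite chain of conic deformations leads from G₁ to
G₂. Here a conic deformation of such a graph is the marked graph obtained by contracting one edge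
(the contracted vertex being the unique vertex of degree two), two marked trees are one step apart
when they have isomorphic conic deformations, the isomorphism matching the contracted vertices and
the i-th marked vertices, and the conclusion is that G₁ and G₂ are related by the
reflexive-transitive closure of this one-step relation. -/
theorem result (k : ℕ) (T₁ T₂ : W4c3cyccovratcurv.MarkedTree k)
    (h : T₁.n = T₂.n) :
    Relation.ReflTransGen W4c3cyccovratcurv.ConicAdj T₁ T₂ := by
  obtain ⟨n₁, G₁, hG₁, m₁⟩ := T₁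
  obtain ⟨n₂, G₂, hG₂, m₂⟩ := T₂
  simp only at h
  subst h
  have hpos : 0 < n₁ := by
    haveI := hG₁.connected.nonempty
    exact Fin.pos_iff_nonempty.2 inferInstance
  obtain ⟨G₁', hG₁', hr₁, hs₁⟩ := phase1 (k := k) (⟨0, hpos⟩ : Fin n₁) _ G₁ hG₁ m₁ rfl
  obtain ⟨G₂', hG₂', hr₂, hs₂⟩ := phase1 (k := k) (⟨0, hpos⟩ : Fin n₁) _ G₂ hG₂ m₂ rfl
  have hr₁' := phase2 (⟨0, hpos⟩ : Fin n₁) G₁' hG₁' hs₁ _ m₁ rfl
  have hr₂' := phase2 (⟨0, hpos⟩ : Fin n₁) G₂' hG₂' hs₂ _ m₂ rfl
  have heq : G₁' = G₂' := by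
    ext a b
    rw [star_adj _ G₁' hG₁' hs₁, star_adj _ G₂' hG₂' hs₂]
  subst heq
  exact (hr₁.trans hr₁').trans (rtg_symm conicAdj_symm (hr₂.trans hr₂'))

end Groth.Agent.S16206
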