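import Groth.Statements.S16211
import Mathlib

set_option autoImplicit false
universe u v
open InvTh

namespace Groth.Agent.S16211

/-- Let R be a commutative ring, O a formally smooth R-algebra and G a finite group whose order is
invertible in R, acting on O by R-algebra automorphisms. Then the largest quotient algebra of O on
which G acts trivially, namely the quotient of O by the ideal generated by all g • f - f (the
coordinate ring of the subscheme of G-fixed points of Spec O), is again formally smooth over R:
invariant homomorphisms lift along square-zero extensions. The published statement is about a scheme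
X smooth and of finite presentation over the base and concludes that its fixed-point scheme is
smooth; this row, the affine step of its proof, assumes only that O is formally smooth over R and
concludes only formal smoothness. -/
theorem result (R : Type u) [CommRing R]
    (O : Type u) [CommRing O] [Algebra R O] [Algebra.FormallySmooth R O]
    (G : Type v) [Group G] [Finite G] [MulSemiringAction G O] [SMulCommClass G R O]
    (hG : IsUnit (Nat.card G : R)) :
    Algebra.FormallySmooth R (O ⧸ Ideal.span {x : O | ∃ (g : G) (f : O), x = g • f - f}) := by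
  classical
  have : Fintype G := Fintype.ofFinite G
  have hcard : (Nat.card G : R) = (Fintype.card G : R) := by rw [Nat.card_eq_fintype_card]
  obtain ⟨u, hu⟩ : ∃ u : R, u * (Fintype.card G : R) = 1 := by
    rw [← hcard]; exact hG.exists_left_inv
  set J : Ideal O := Ideal.span {x : O | ∃ (g : G) (f : O), x = g • f - f} with hJ
  apply Algebra.FormallySmooth.of_comp_surjective
  intro C _ _ I hI φ
  let ψbar : O →ₐ[R] C ⧸ I := φ.comp (Ideal.Quotient.mkₐ R J)
  obtain ⟨ψ, hψ⟩ := Algebra.FormallySmooth.comp_surjective R O I hI ψbar
  have hψ' : ∀ a : O, Ideal.Quotient.mk I (ψ a) = φ (Ideal.Quotient.mk J a) := fun a =>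
    DFunLike.congr_fun hψ a
  have hmkJ : ∀ (g : G) (a : O), Ideal.Quotient.mk J (g • a) = Ideal.Quotient.mk J a := by
    intro g a
    rw [Ideal.Quotient.eq]
    exact Ideal.subset_span ⟨g, a, rfl⟩
  have hinv : ∀ (g : G) (a : O), ψ (g • a) - ψ a ∈ I := by
    intro g a
    rw [← Ideal.Quotient.eq, hψ', hψ', hmkJ]
  have hII : ∀ s t : C, s ∈ I → t ∈ I → s * t = 0 := by
    intro s t hs ht
    have : s * t ∈ I ^ 2 := by rw [pow_two]; exact Ideal.mul_mem_mul hs ht
    rw [hI] at this
    exact this
  -- the sum map
  let F : O → C := fun a => ∑ g : G, ψ (g • a)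
  have hFadd : ∀ a b, F (a + b) = F a + F b := by
    intro a b
    simp only [F, smul_add, map_add, Finset.sum_add_distrib]
  have hFsmul : ∀ (r : R) a, F (r • a) = r • F a := by
    intro r a
    simp only [F, Finset.smul_sum]
    refine Finset.sum_congr rfl fun g _ => ?_
    rw [smul_comm g r a, map_smul]
  have hFone : F 1 = (Fintype.card G : R) • (1 : C) := by
    simp only [F, smul_one, map_one, Finset.sum_const, Finset.card_univ]
    rw [Nat.cast_smul_eq_nsmul]
  have hFinv : ∀ (h : G) a, F (h • a) = F a := by
    intro h a
    simp only [F, ← mul_smul]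
    exact Fintype.sum_equiv (Equiv.mulRight h) _ _ (fun g => rfl)
  have hFmul : ∀ a b, F a * F b = (Fintype.card G : R) • F (a * b) := by
    intro a b
    have key : ∀ g h : G, ψ (g • a) * ψ (h • b) =
        ψ (g • (a * b)) + ψ a * (ψ (h • b) - ψ (g • b)) := by
      intro g h
      have h0 : (ψ (g • a) - ψ a) * (ψ (h • b) - ψ (g • b)) = 0 := by
        apply hII _ _ (hinv g a)
        have : ψ (h • b) - ψ (g • b) = (ψ (h • b) - ψ b) - (ψ (g • b) - ψ b) := by ring
        rw [this]
        exact I.sub_mem (hinv h b) (hinv g b)
      rw [smul_mul', map_mul]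
      linear_combination h0
    calc F a * F b = ∑ g : G, ∑ h : G, ψ (g • a) * ψ (h • b) := by
          simp only [F]; rw [Finset.sum_mul_sum]
      _ = ∑ g : G, ∑ h : G, (ψ (g • (a * b)) + ψ a * (ψ (h • b) - ψ (g • b))) := by
          refine Finset.sum_congr rfl fun g _ => Finset.sum_congr rfl fun h _ => key g h
      _ = (Fintype.card G : R) • F (a * b) := by
          simp only [Finset.sum_add_distrib, Finset.sum_const, Finset.card_univ, mul_sub,
            Finset.sum_sub_distrib, ← Finset.mul_sum, ← Finset.smul_sum, F]
          rw [Nat.cast_smul_eq_nsmul]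
          simp
  let ψ'lin : O →ₗ[R] C :=
    { toFun := fun a => u • F a
      map_add' := fun a b => by rw [hFadd, smul_add]
      map_smul' := fun r a => by rw [hFsmul, smul_comm]; rfl }
  have hlin : ∀ a, ψ'lin a = u • F a := fun a => rfl
  let ψ' : O →ₐ[R] C := AlgHom.ofLinearMap ψ'lin
    (by rw [hlin, hFone, smul_smul, hu, one_smul])
    (by
      intro a b
      rw [hlin, hlin, hlin, smul_mul_smul_comm, hFmul, smul_smul, mul_assoc, hu, mul_one])
  have hψ'app : ∀ a, ψ' a = u • F a := fun a => rfl
  have hkill : ∀ a ∈ J, ψ' a = 0 := by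
    intro a ha
    have hle : J ≤ RingHom.ker ψ'.toRingHom := by
      rw [hJ, Ideal.span_le]
      rintro _ ⟨g, f, rfl⟩
      change ψ' (g • f - f) = 0
      rw [map_sub, hψ'app, hψ'app, hFinv, sub_self]
    exact hle ha
  refine ⟨Ideal.Quotient.liftₐ J ψ' hkill, ?_⟩
  apply AlgHom.ext
  intro x
  obtain ⟨a, rfl⟩ := Ideal.Quotient.mk_surjective x
  change Ideal.Quotient.mk I (ψ' a) = φ (Ideal.Quotient.mk J a)
  rw [hψ'app]
  have h1 : Ideal.Quotient.mk I (u • F a) = u • Ideal.Quotient.mk I (F a) := by
    rw [Algebra.smul_def, map_mul, Algebra.smul_def]; rfl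
  rw [h1]
  simp only [F, map_sum, hψ', hmkJ, Finset.sum_const, Finset.card_univ]
  rw [← Nat.cast_smul_eq_nsmul R, smul_smul, hu, one_smul]

end Groth.Agent.S16211
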