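import Groth.Statements.S1623
import Groth.Agent.Lib.Helper16.Blow2Chart
import Groth.Agent.S0010

set_option autoImplicit false
universe u
open CategoryTheory CategoryTheory.Limits AlgebraicGeometry
open Resolve

namespace Groth.Agent.S1623

open AlgebraicGeometry in
/-- the maximal ideal of a regular local ring of dimension two is generated by two elements. -/
lemma exists_pair (A : Type u) [CommRing A] [IsRegularLocalRing A] (hA : ringKrullDim A = 2) :
    ∃ x y : A, IsLocalRing.maximalIdeal A = Ideal.span {x, y} := by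
  classical
  have hfg : (IsLocalRing.maximalIdeal A).FG := (isNoetherianRing_iff_ideal_fg A).mp inferInstance _
  obtain ⟨s, hs, hspan⟩ := Submodule.FG.exists_span_finset_card_eq_spanFinrank hfg
  have h2 : ((IsLocalRing.maximalIdeal A).spanFinrank : WithBot ℕ∞) = 2 := by
    rw [IsRegularLocalRing.spanFinrank_maximalIdeal, hA]
  have h3 : (IsLocalRing.maximalIdeal A).spanFinrank = 2 := by exact_mod_cast h2
  rw [h3] at hs
  obtain ⟨x, y, -, hs'⟩ := Finset.card_eq_two.mp hs
  refine ⟨x, y, ?_⟩
  rw [← hspan, hs']
  simp [Ideal.span]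


/-- Let A be a regular local ring of dimension two and b : X → Spec A a blowing up in the maximal ideal.
For every quasi-coherent O_X-module F and every p ≥ 2, H^p(X, F) = 0. -/
theorem result (A : Type u) [CommRing A] [IsRegularLocalRing A] (hA : ringKrullDim A = 2)
    (X : Scheme.{u}) (b : X ⟶ Spec (CommRingCat.of A)) (hb : BlowUp.IsBlowUp b (Curv2.idealSheaf A (IsLocalRing.maximalIdeal A)))
    (F : X.Modules) (hF : Coh.IsQCoh F) (p : ℕ) (hp : 2 ≤ p) : Subsingleton (Coh.HH X F p) := by
  obtain ⟨x, y, hxy⟩ := exists_pair A hA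
  have hfg : (IsLocalRing.maximalIdeal A).FG := (isNoetherianRing_iff_ideal_fg A).mp inferInstance _
  haveI : X.IsSeparated :=
    Groth.Agent.Lib.helper16.ReesBlowup.isSeparated_of_isBlowUp _ hfg b hb
  obtain ⟨U, hU, hcov⟩ :=
    Groth.Agent.Lib.helper16.ReesBlowup.exists_two_affine_cover _ x y hxy b hb
  haveI : Coh.IsQCoh F := hF
  exact Groth.Agent.S0010.result X 2 U hU hcov (fun V W hV hW => hV.inf hW) F p hp

end Groth.Agent.S1623
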