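import Groth.Statements.S1622
import Groth.Agent.Lib.Helper16.Blow2Reg6
import Groth.Agent.S1623

set_option autoImplicit false
universe u
open CategoryTheory CategoryTheory.Limits AlgebraicGeometry
open Resolve

namespace Groth.Agent.S1622

/-- Let A be a regular local ring of dimension two and b : X → Spec A a blowing up of Spec A in the
maximal ideal (characterised by its universal property). Then X is irreducible and all of its local
rings are regular. -/
theorem result (A : Type u) [CommRing A] [IsRegularLocalRing A] (hA : ringKrullDim A = 2)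
    (X : Scheme.{u}) (b : X ⟶ Spec (CommRingCat.of A)) (hb : BlowUp.IsBlowUp b (Curv2.idealSheaf A (IsLocalRing.maximalIdeal A))) :
    IrreducibleSpace X ∧ ∀ x : X, IsRegularLocalRing (X.presheaf.stalk x) := by
  obtain ⟨x, y, hxy⟩ := Groth.Agent.S1623.exists_pair A hA
  have h2 : (IsLocalRing.maximalIdeal A).spanFinrank = 2 := by
    have h : ((IsLocalRing.maximalIdeal A).spanFinrank : WithBot ℕ∞) = 2 := by
      rw [IsRegularLocalRing.spanFinrank_maximalIdeal, hA]
    exact_mod_cast h
  haveI : IsDomain A := Groth.Agent.Lib.helper15.isDomain_of_isRegularLocalRing A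
  have hx : x ∈ IsLocalRing.maximalIdeal A := hxy ▸ Ideal.subset_span (by simp)
  have hy : y ∈ IsLocalRing.maximalIdeal A := hxy ▸ Ideal.subset_span (by simp)
  obtain ⟨hx0, -, -⟩ := Groth.Agent.Lib.helper16.ReesBlowup.regular_pair_facts A x y hxy h2
  obtain ⟨hy0, -, -⟩ := Groth.Agent.Lib.helper16.ReesBlowup.regular_pair_facts A y x
    (by rw [hxy, Set.pair_comm]) h2
  constructor
  · obtain ⟨φ, hφiso, hφ⟩ :=
      Groth.Agent.Lib.helper16.ReesBlowup.exists_iso_bl (IsLocalRing.maximalIdeal A) b hb
    haveI := Groth.Agent.Lib.helper16.ReesBlowup.irreducibleSpace_bl (IsLocalRing.maximalIdeal A)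
      x y hx hy hx0 hy0 hxy
    exact (φ.homeomorph.irreducibleSpace_iff).mpr inferInstance
  · intro p
    exact Groth.Agent.Lib.helper16.ReesBlowup.isRegularLocalRing_stalk_of_isBlowUp A x y hxy h2 b hb p

end Groth.Agent.S1622
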