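import Groth.Statements.S16221
import Mathlib
import Groth.Agent.Lib.Helper10.Dieu2
import Groth.Agent.Lib.Helper10.Dieu3
import Groth.Agent.Lib.Helper10.Dieu5

set_option autoImplicit false
universe u v
open Disp

namespace Groth.Agent.S16221

/-- Let p be a prime and k a perfect ring of characteristic p, so that the Frobenius σ of W = W(k) is
bijective, W has no p-torsion and W/p^n W = W_n(k) (the ideal p^n W is the kernel of the truncation
to length n). Let n ≥ 2 and let M be a truncated Dieudonné module of level n over k: a W-module on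
which W acts through W/p^n W, finitely generated and projective over W/p^n W, with a σ-semilinear F
: M → M and a σ⁻¹-semilinear V : M → M such that FV = VF = p. Then M/VM is a projective k-module;
here VM ⊇ VFM = pM, and the statement is made for the W/pW-module obtained from M/pM by dividing out
the image of V, W/pW being identified with k by the first Witt component. -/
theorem result (p : ℕ) [Fact p.Prime] (k : Type u) [CommRing k]
    [CharP k p] [PerfectRing k p] (n : ℕ) (hn : 2 ≤ n)
    (M : Type v) [AddCommGroup M] [Module (WittVector p k) M]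
    [Module (WittVector p k ⧸ Ideal.span {(p : WittVector p k) ^ n}) M] [IsScalarTower (WittVector p k) (WittVector p k ⧸ Ideal.span {(p : WittVector p k) ^ n}) M]
    [Module.Finite (WittVector p k ⧸ Ideal.span {(p : WittVector p k) ^ n}) M] [Module.Projective (WittVector p k ⧸ Ideal.span {(p : WittVector p k) ^ n}) M]
    (F : M →ₛₗ[(WittVector.frobenius : WittVector p k →+* WittVector p k)] M)
    (V : M →ₛₗ[((WittVector.frobeniusEquiv p k).symm : WittVector p k →+* WittVector p k)] M)
    (hFV : ∀ m : M, F (V m) = (p : WittVector p k) • m) (hVF : ∀ m : M, V (F m) = (p : WittVector p k) • m) :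
    Module.Projective (WittVector p k ⧸ Ideal.span {(p : WittVector p k)})
      ((M ⧸ (Ideal.span {(p : WittVector p k)} • (⊤ : Submodule (WittVector p k) M))) ⧸
        Submodule.span (WittVector p k ⧸ Ideal.span {(p : WittVector p k)})
          (Set.range fun m : M => (Ideal.span {(p : WittVector p k)} • (⊤ : Submodule (WittVector p k) M)).mkQ (V m))) := by
  classical
  have hle : Ideal.span {(p : WittVector p k) ^ n} ≤ Ideal.span {(p : WittVector p k)} := by
    rw [Ideal.span_le, Set.singleton_subset_iff]
    obtain ⟨j, rfl⟩ : ∃ j, n = j + 1 := ⟨n - 1, by omega⟩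
    rw [pow_succ]
    exact Ideal.mul_mem_left _ _ (Ideal.mem_span_singleton_self _)
  have hS : Function.Surjective (algebraMap (WittVector p k)
      (WittVector p k ⧸ Ideal.span {(p : WittVector p k) ^ n})) := Ideal.Quotient.mk_surjective
  let ρ : (WittVector p k ⧸ Ideal.span {(p : WittVector p k) ^ n}) →ₐ[WittVector p k]
      (WittVector p k ⧸ Ideal.span {(p : WittVector p k)}) :=
    Ideal.Quotient.liftₐ (Ideal.span {(p : WittVector p k) ^ n})
      (Ideal.Quotient.mkₐ (WittVector p k) (Ideal.span {(p : WittVector p k)}))
      (fun a ha => by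
        rw [Ideal.Quotient.mkₐ_eq_mk, Ideal.Quotient.eq_zero_iff_mem]
        exact hle ha)
  have : Module.Finite (WittVector p k) M :=
    Module.Finite.trans (WittVector p k ⧸ Ideal.span {(p : WittVector p k) ^ n}) M
  have : Module.Projective (WittVector p k ⧸ Ideal.span {(p : WittVector p k)})
      (M ⧸ (Ideal.span {(p : WittVector p k)} • (⊤ : Submodule (WittVector p k) M))) :=
    Groth.Agent.Lib.helper10.projective_quotient_smul_top _ hS ρ
  refine Groth.Agent.Lib.helper10.dieu_core p k F V hFV hVF ?_
  intro 𝔄 hsatA z hz
  refine Groth.Agent.Lib.helper10.mem_sup_of_smul_mem (p : WittVector p k) 𝔄 hS ?_ z hz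
  intro t ht
  have hker : RingHom.ker (algebraMap (WittVector p k)
      (WittVector p k ⧸ Ideal.span {(p : WittVector p k) ^ n})) =
      Ideal.span {(p : WittVector p k) ^ n} := Ideal.mk_ker
  rw [hker] at ht
  obtain ⟨a, ha, b, hb, hab⟩ := Submodule.mem_sup.mp ht
  obtain ⟨w, rfl⟩ := Ideal.mem_span_singleton'.mp hb
  obtain ⟨j, rfl⟩ : ∃ j, n = j + 2 := ⟨n - 2, by omega⟩
  have h1 : (p : WittVector p k) * (t - (p : WittVector p k) ^ (j + 1) * w) ∈ 𝔄 := by
    have : (p : WittVector p k) * (t - (p : WittVector p k) ^ (j + 1) * w) = a := by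
      rw [mul_sub, ← hab]; ring
    rw [this]; exact ha
  have h2 := hsatA _ h1
  have : t = (t - (p : WittVector p k) ^ (j + 1) * w) +
      ((p : WittVector p k) ^ j * w) * (p : WittVector p k) := by ring
  rw [this]
  exact Submodule.add_mem_sup h2 (Ideal.mem_span_singleton'.mpr ⟨_, rfl⟩)

end Groth.Agent.S16221
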