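import Groth.Statements.S16230
import Mathlib
import Groth.Agent.S15058
import Groth.Agent.S10826

set_option autoImplicit false
universe u
open VanCyc

namespace Groth.Agent.S16230

open MvPowerSeries
open Groth.Agent.S10826 (gpart coeff_gpart decomp_eq degree_one_eq)
open Groth.Agent.S15051 (V V_zero V_add V_sub V_neg V_sum V_mono V_mul V_X V_one_of_cc cc_of_V eq_zero_of_V V_subst)
open Groth.Agent.S15058 (V_subst_sub)

section Aux
variable {R : Type*} [CommRing R] {n : ℕ}

theorem V_C_mul {m : ℕ} (c : R) {g : MvPowerSeries (Fin n) R} (hg : V m g) : V m (C c * g) :=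
  fun d hd => by rw [coeff_C_mul, hg d hd, mul_zero]

theorem V_gpart {m : ℕ} {f : MvPowerSeries (Fin n) R} (hf : V (m + 1) f) (i : Fin n) :
    V m (gpart f i) := by
  intro d hd
  rw [coeff_gpart]
  split_ifs
  · apply hf
    rw [map_add, Finsupp.degree_single]; omega
  · rfl

theorem gpart_sub (f g : MvPowerSeries (Fin n) R) (i : Fin n) :
    gpart (f - g) i = gpart f i - gpart g i := by
  ext d
  rw [map_sub, coeff_gpart, coeff_gpart, coeff_gpart]
  split_ifs
  · rw [map_sub]
  · rw [sub_zero]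

theorem fixedpt {ι : Type*} (m₀ : ℕ)
    (T : (ι → MvPowerSeries (Fin n) R) → (ι → MvPowerSeries (Fin n) R))
    (hT2 : ∀ ε, (∀ i, V m₀ (ε i)) → ∀ i, V m₀ (T ε i))
    (hTc : ∀ ε ε', (∀ i, V m₀ (ε i)) → (∀ i, V m₀ (ε' i)) → ∀ m, (∀ i, V m (ε i - ε' i)) →
      ∀ i, V (m + 1) (T ε i - T ε' i)) :
    ∃ ε, (∀ i, V m₀ (ε i)) ∧ T ε = ε := by
  obtain ⟨E, hE0, hEs⟩ : ∃ E : ℕ → ι → MvPowerSeries (Fin n) R,
      E 0 = (fun _ => 0) ∧ ∀ m, E (m + 1) = T (E m) :=
    ⟨fun m => Nat.rec (fun _ => 0) (fun _ e => T e) m, rfl, fun _ => rfl⟩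
  have ha : ∀ m i, V m₀ (E m i) := by
    intro m
    induction m with
    | zero => intro i; rw [hE0]; exact V_zero m₀
    | succ m ih => intro i; rw [hEs]; exact hT2 _ ih i
  have hc : ∀ m i, V m (E (m + 1) i - E m i) := by
    intro m
    induction m with
    | zero => intro i d hd; exact absurd hd (Nat.not_lt_zero _)
    | succ m ih =>
      intro i
      have h := hTc (E (m + 1)) (E m) (ha (m + 1)) (ha m) m ih i
      rw [← hEs (m + 1), ← hEs m] at h
      exact h
  have hstab : ∀ (d : Fin n →₀ ℕ) (i : ι) (m : ℕ), d.degree + 1 ≤ m →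
      coeff d (E m i) = coeff d (E (d.degree + 1) i) := by
    intro d i m hm
    induction m, hm using Nat.le_induction with
    | base => rfl
    | succ m hm ih =>
      rw [← ih]
      have h1 := hc m i d (by omega)
      rw [map_sub, sub_eq_zero] at h1
      exact h1
  obtain ⟨ε, hεdef⟩ : ∃ ε : ι → MvPowerSeries (Fin n) R,
      ∀ i d, coeff d (ε i) = coeff d (E (d.degree + 1) i) :=
    ⟨fun i => fun d => coeff d (E (d.degree + 1) i), fun i d => rfl⟩
  have he : ∀ m i, V m (ε i - E m i) := by
    intro m i d hd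
    rw [map_sub, hεdef, hstab d i m (by omega), sub_self]
  have hε2 : ∀ i, V m₀ (ε i) := by
    intro i d hd
    rw [hεdef]; exact ha _ i d hd
  refine ⟨ε, hε2, ?_⟩
  funext i
  have hz : T ε i - ε i = 0 := by
    apply eq_zero_of_V
    intro m
    have h1 : V (m + 1) (T ε i - T (E m) i) := hTc ε (E m) hε2 (ha m) m (he m) i
    have h2 : V (m + 1) (ε i - E (m + 1) i) := he (m + 1) i
    have h3 : T ε i - ε i = (T ε i - T (E m) i) - (ε i - E (m + 1) i) := by
      rw [hEs m]; ring
    rw [h3]
    exact V_mono (Nat.le_succ m) (V_sub h1 h2)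
  exact sub_eq_zero.mp hz

end Aux



/-- Let A be a local ring, n and m natural numbers with 2 ≤ m, q an n × n coefficient table over A whose
quadratic form Q(x) = Σ_{i≤j} q_ij x_i x_j is non-degenerate (the polar bilinear form has unit Gram
determinant, i.e. is a perfect pairing — the reading of non-degeneracy over the local ring A used
here), a an element of A, and F a formal power series in x_1, …, x_n over A all of whose
coefficients in total degree at most m agree with those of Q + a. Then there are power series h_1,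
…, h_n with no terms of total degree less than m such that substituting x_i + h_i for x_i in F gives
exactly Q + a; consequently A[[x]]/(F) and A[[x]]/(Q + a) are isomorphic as A-algebras. -/
theorem result
    (A : Type u) [CommRing A] [IsLocalRing A] (n m : ℕ) (hm : 2 ≤ m)
    (q : Fin n → Fin n → A) (hq : VanCyc.QuadNondeg q) (a : A)
    (F : MvPowerSeries (Fin n) A)
    (hF : ∀ e : Fin n →₀ ℕ, e.degree ≤ m →
      MvPowerSeries.coeff e F = MvPowerSeries.coeff e ((VanCyc.quadPoly q + MvPolynomial.C a : MvPolynomial (Fin n) A) : MvPowerSeries (Fin n) A)) :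
    ∃ h : Fin n → MvPowerSeries (Fin n) A,
      (∀ (i : Fin n) (e : Fin n →₀ ℕ), e.degree < m → MvPowerSeries.coeff e (h i) = 0) ∧
      MvPowerSeries.HasSubst (fun i => MvPowerSeries.X i + h i) ∧
      MvPowerSeries.subst (fun i => MvPowerSeries.X i + h i) F = ((VanCyc.quadPoly q + MvPolynomial.C a : MvPolynomial (Fin n) A) : MvPowerSeries (Fin n) A) ∧
      Nonempty ((MvPowerSeries (Fin n) A ⧸ Ideal.span {F}) ≃ₐ[A]
        (MvPowerSeries (Fin n) A ⧸ Ideal.span {((VanCyc.quadPoly q + MvPolynomial.C a : MvPolynomial (Fin n) A) : MvPowerSeries (Fin n) A)})) := by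
  classical
  obtain ⟨P, hPdef⟩ : ∃ P : MvPowerSeries (Fin n) A,
      P = ((VanCyc.quadPoly q + MvPolynomial.C a : MvPolynomial (Fin n) A) :
        MvPowerSeries (Fin n) A) := ⟨_, rfl⟩
  rw [← hPdef] at hF ⊢
  have hm1 : 1 ≤ m := by omega
  -- coefficient table
  obtain ⟨c, hc⟩ : ∃ c : Fin n → Fin n → A, ∀ i j, c i j = if i ≤ j then q i j else 0 :=
    ⟨_, fun _ _ => rfl⟩
  obtain ⟨Bq, hBq⟩ : ∃ Bq : (Fin n → MvPowerSeries (Fin n) A) →
      (Fin n → MvPowerSeries (Fin n) A) → MvPowerSeries (Fin n) A,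
      ∀ u v, Bq u v = ∑ i, ∑ j, MvPowerSeries.C (c i j) * u i * v j := ⟨_, fun _ _ => rfl⟩
  have hsubP : ∀ b : Fin n → MvPowerSeries (Fin n) A,
      MvPowerSeries.subst b P = Bq b b + MvPowerSeries.C a := by
    intro b
    rw [hPdef, MvPowerSeries.subst_coe, map_add, MvPolynomial.aeval_C,
      ← MvPowerSeries.c_eq_algebraMap, hBq, VanCyc.quadPoly, map_sum]
    congr 1
    refine Finset.sum_congr rfl fun i _ => ?_
    rw [map_sum]
    refine Finset.sum_congr rfl fun j _ => ?_
    rw [hc]
    by_cases hij : i ≤ j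
    · rw [if_pos hij, if_pos hij, map_mul, map_mul, MvPolynomial.aeval_C, MvPolynomial.aeval_X,
        MvPolynomial.aeval_X, ← MvPowerSeries.c_eq_algebraMap]
    · rw [if_neg hij, if_neg hij, map_zero, map_zero, zero_mul, zero_mul]
  have hPX : P = Bq MvPowerSeries.X MvPowerSeries.X + MvPowerSeries.C a := by
    have h1 := hsubP MvPowerSeries.X
    rw [MvPowerSeries.subst_self] at h1
    exact h1
  obtain ⟨r, hrdef⟩ : ∃ r : MvPowerSeries (Fin n) A, r = F - P := ⟨_, rfl⟩
  have hFPr : F = P + r := by rw [hrdef]; ring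
  have hVr : V (m + 1) r := by
    intro d hd
    rw [hrdef, map_sub, hF d (by omega), sub_self]
  -- the polar matrix
  obtain ⟨H, hHdef⟩ : ∃ H : Matrix (Fin n) (Fin n) A, H = VanCyc.polarMatrix q := ⟨_, rfl⟩
  have hH : ∀ i j, H i j = c i j + c j i := by
    intro i j
    rw [hHdef, hc, hc]
    show (if i = j then 2 * q i i else if i < j then q i j else q j i) = _
    rcases lt_trichotomy i j with h | h | h
    · rw [if_neg (ne_of_lt h), if_pos h, if_pos (le_of_lt h), if_neg (not_le.mpr h), add_zero]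
    · subst h
      rw [if_pos rfl, if_pos (le_refl i), two_mul]
    · rw [if_neg (ne_of_lt h).symm, if_neg (not_lt.mpr (le_of_lt h)), if_neg (not_le.mpr h),
        if_pos (le_of_lt h), zero_add]
  have hHdet : IsUnit H.det := by rw [hHdef]; exact hq
  obtain ⟨G, hGdef⟩ : ∃ G : Matrix (Fin n) (Fin n) A, G = H⁻¹ := ⟨_, rfl⟩
  have hGH : G * H = 1 := by rw [hGdef]; exact Matrix.nonsing_inv_mul H hHdet
  obtain ⟨L, hL⟩ : ∃ L : Fin n → MvPowerSeries (Fin n) A,
      ∀ i, L i = ∑ k, MvPowerSeries.C (H i k) * MvPowerSeries.X k := ⟨_, fun _ => rfl⟩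
  have hXL : ∀ j, (MvPowerSeries.X j : MvPowerSeries (Fin n) A) =
      ∑ i, MvPowerSeries.C (G j i) * L i := by
    intro j
    have h1 : ∀ k, ∑ i, G j i * H i k = if j = k then 1 else 0 := by
      intro k; rw [← Matrix.mul_apply, hGH, Matrix.one_apply]
    calc (MvPowerSeries.X j : MvPowerSeries (Fin n) A)
        = ∑ k, MvPowerSeries.C (if j = k then (1 : A) else 0) * MvPowerSeries.X k := by
          rw [Finset.sum_eq_single j]
          · rw [if_pos rfl, map_one, one_mul]
          · intro k _ hk; rw [if_neg (Ne.symm hk), map_zero, zero_mul]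
          · intro h; exact absurd (Finset.mem_univ j) h
      _ = ∑ k, MvPowerSeries.C (∑ i, G j i * H i k) * MvPowerSeries.X k := by
          apply Finset.sum_congr rfl; intro k _; rw [h1]
      _ = ∑ k, ∑ i, MvPowerSeries.C (G j i) * (MvPowerSeries.C (H i k) * MvPowerSeries.X k) := by
          apply Finset.sum_congr rfl; intro k _
          rw [map_sum, Finset.sum_mul]
          apply Finset.sum_congr rfl; intro i _
          rw [map_mul]; ring
      _ = ∑ i, ∑ k, MvPowerSeries.C (G j i) * (MvPowerSeries.C (H i k) * MvPowerSeries.X k) :=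
          Finset.sum_comm
      _ = ∑ i, MvPowerSeries.C (G j i) * L i := by
          apply Finset.sum_congr rfl; intro i _
          rw [hL, Finset.mul_sum]
  -- the division operators
  obtain ⟨Dop, hDop⟩ : ∃ Dop : Fin n → MvPowerSeries (Fin n) A → MvPowerSeries (Fin n) A,
      ∀ i s, Dop i s = ∑ j, MvPowerSeries.C (G j i) * Groth.Agent.S10826.gpart s j :=
    ⟨_, fun _ _ => rfl⟩
  have hDop_decomp : ∀ s : MvPowerSeries (Fin n) A, MvPowerSeries.constantCoeff s = 0 →
      s = ∑ i, L i * Dop i s := by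
    intro s hs
    calc s = ∑ j, MvPowerSeries.X j * Groth.Agent.S10826.gpart s j :=
          Groth.Agent.S10826.decomp_eq s hs
      _ = ∑ j, ∑ i, (MvPowerSeries.C (G j i) * L i) * Groth.Agent.S10826.gpart s j := by
          apply Finset.sum_congr rfl; intro j _
          conv_lhs => rw [hXL j]
          rw [Finset.sum_mul]
      _ = ∑ i, ∑ j, (MvPowerSeries.C (G j i) * L i) * Groth.Agent.S10826.gpart s j :=
          Finset.sum_comm
      _ = ∑ i, L i * Dop i s := by
          apply Finset.sum_congr rfl; intro i _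
          rw [hDop, Finset.mul_sum]
          apply Finset.sum_congr rfl; intro j _; ring
  have hDop_sub : ∀ i s t, Dop i (s - t) = Dop i s - Dop i t := by
    intro i s t
    rw [hDop, hDop, hDop, ← Finset.sum_sub_distrib]
    apply Finset.sum_congr rfl; intro j _
    rw [gpart_sub]; ring
  have hDop_V : ∀ i s k, V (k + 1) s → V k (Dop i s) := by
    intro i s k hs
    rw [hDop]
    apply V_sum
    intro j _
    exact V_C_mul _ (V_gpart hs j)
  have hBqV : ∀ (u v : Fin n → MvPowerSeries (Fin n) A) (p p' : ℕ), (∀ i, V p (u i)) →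
      (∀ i, V p' (v i)) → V (p + p') (Bq u v) := by
    intro u v p p' hu hv
    rw [hBq]
    apply V_sum; intro i _
    apply V_sum; intro j _
    exact V_mul (V_C_mul _ (hu i)) (hv j)
  have hXe1 : ∀ ε : Fin n → MvPowerSeries (Fin n) A, (∀ i, V m (ε i)) →
      ∀ s, V 1 (MvPowerSeries.X s + ε s) :=
    fun ε hε s => V_add (V_X s) (V_mono hm1 (hε s))
  have hHS : ∀ ε : Fin n → MvPowerSeries (Fin n) A, (∀ i, V m (ε i)) →
      MvPowerSeries.HasSubst (fun s => MvPowerSeries.X s + ε s) :=
    fun ε hε => MvPowerSeries.hasSubst_of_constantCoeff_zero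
      (fun s => cc_of_V (le_refl 1) (hXe1 ε hε s))
  obtain ⟨T, hT0⟩ : ∃ T : (Fin n → MvPowerSeries (Fin n) A) → (Fin n → MvPowerSeries (Fin n) A),
      T = fun ε i => Dop i (-(Bq ε ε + MvPowerSeries.subst (fun s => MvPowerSeries.X s + ε s) r)) :=
    ⟨_, rfl⟩
  have hT : ∀ ε i, T ε i = Dop i (-(Bq ε ε + MvPowerSeries.subst (fun s => MvPowerSeries.X s + ε s) r)) := by
    intro ε i
    rw [hT0]
  have hsV : ∀ ε : Fin n → MvPowerSeries (Fin n) A, (∀ i, V m (ε i)) →
      V (m + 1) (-(Bq ε ε + MvPowerSeries.subst (fun s => MvPowerSeries.X s + ε s) r)) := by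
    intro ε hε
    apply V_neg
    apply V_add
    · exact V_mono (by omega) (hBqV ε ε m m hε hε)
    · exact V_subst (hHS ε hε) (hXe1 ε hε) hVr
  have hT2 : ∀ ε, (∀ i, V m (ε i)) → ∀ i, V m (T ε i) := by
    intro ε hε i
    rw [hT]
    exact hDop_V _ _ _ (hsV ε hε)
  have hTc : ∀ ε ε', (∀ i, V m (ε i)) → (∀ i, V m (ε' i)) → ∀ k, (∀ i, V k (ε i - ε' i)) →
      ∀ i, V (k + 1) (T ε i - T ε' i) := by
    intro ε ε' hε hε' k hk i
    rcases Nat.eq_zero_or_pos k with hk0 | hkpos
    · subst hk0
      exact V_mono (by omega) (V_sub (hT2 ε hε i) (hT2 ε' hε' i))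
    · have hk' : ∀ i, V k (ε' i - ε i) := fun i => by
        have h := V_neg (hk i); rwa [neg_sub] at h
      rw [hT, hT, ← hDop_sub]
      apply hDop_V
      have h2 : ∑ i', ∑ j', (MvPowerSeries.C (c i' j') * (ε' i' - ε i') * ε' j' +
          MvPowerSeries.C (c i' j') * ε i' * (ε' j' - ε j')) = Bq ε' ε' - Bq ε ε := by
        rw [hBq, hBq, ← Finset.sum_sub_distrib]
        apply Finset.sum_congr rfl; intro i' _
        rw [← Finset.sum_sub_distrib]
        apply Finset.sum_congr rfl; intro j' _; ring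
      have h1 : -(Bq ε ε + MvPowerSeries.subst (fun s => MvPowerSeries.X s + ε s) r) -
          -(Bq ε' ε' + MvPowerSeries.subst (fun s => MvPowerSeries.X s + ε' s) r)
          = (∑ i', ∑ j', (MvPowerSeries.C (c i' j') * (ε' i' - ε i') * ε' j' +
              MvPowerSeries.C (c i' j') * ε i' * (ε' j' - ε j')))
            - (MvPowerSeries.subst (fun s => MvPowerSeries.X s + ε s) r -
                MvPowerSeries.subst (fun s => MvPowerSeries.X s + ε' s) r) := by
        rw [h2]; ring
      rw [h1]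
      apply V_sub
      · apply V_sum; intro i' _
        apply V_sum; intro j' _
        apply V_add
        · exact V_mono (by omega) (V_mul (V_C_mul _ (hk' i')) (hε' j'))
        · exact V_mono (by omega) (V_mul (V_C_mul _ (hε i')) (hk' j'))
      · have hd : ∀ s, V k ((MvPowerSeries.X s + ε s) - (MvPowerSeries.X s + ε' s)) := fun s => by
          have h3 : (MvPowerSeries.X s + ε s) - (MvPowerSeries.X s + ε' s) = ε s - ε' s := by ring
          rw [h3]; exact hk s
        exact V_mono (by omega) (V_subst_sub (hHS ε hε) (hHS ε' hε') (hXe1 ε hε) (hXe1 ε' hε')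
          hkpos hd (k := m) hVr)
  obtain ⟨ε, hεV, hεfix⟩ := fixedpt m T hT2 hTc
  have hεi : ∀ i, ε i =
      Dop i (-(Bq ε ε + MvPowerSeries.subst (fun s => MvPowerSeries.X s + ε s) r)) := fun i => by
    rw [← hT]; exact (congrFun hεfix i).symm
  have hVs := hsV ε hεV
  have hs0 : MvPowerSeries.constantCoeff
      (-(Bq ε ε + MvPowerSeries.subst (fun s => MvPowerSeries.X s + ε s) r)) = 0 :=
    cc_of_V (m := m + 1) (by omega) hVs
  have hsum : ∑ i, L i * ε i =
      -(Bq ε ε + MvPowerSeries.subst (fun s => MvPowerSeries.X s + ε s) r) := by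
    have h := hDop_decomp _ hs0
    conv_rhs => rw [h]
    apply Finset.sum_congr rfl
    intro i _
    exact congrArg (L i * ·) (hεi i)
  have hLε : ∑ i, L i * ε i = Bq MvPowerSeries.X ε + Bq ε MvPowerSeries.X := by
    rw [hBq, hBq]
    have h1 : ∀ i, L i * ε i = ∑ k, (MvPowerSeries.C (c i k) * ε i * MvPowerSeries.X k +
        MvPowerSeries.C (c k i) * MvPowerSeries.X k * ε i) := by
      intro i
      rw [hL, Finset.sum_mul]
      apply Finset.sum_congr rfl; intro k _
      rw [hH, map_add]; ring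
    rw [Finset.sum_congr rfl (fun i _ => h1 i)]
    simp only [Finset.sum_add_distrib]
    rw [add_comm]
    congr 1
    exact Finset.sum_comm
  have hexp : Bq (fun i => MvPowerSeries.X i + ε i) (fun i => MvPowerSeries.X i + ε i) =
      Bq MvPowerSeries.X MvPowerSeries.X + Bq MvPowerSeries.X ε + Bq ε MvPowerSeries.X +
        Bq ε ε := by
    have hLHS : Bq (fun i => MvPowerSeries.X i + ε i) (fun i => MvPowerSeries.X i + ε i) =
        ∑ i, ∑ j, MvPowerSeries.C (c i j) * (MvPowerSeries.X i + ε i) *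
          (MvPowerSeries.X j + ε j) := by rw [hBq]
    rw [hLHS, hBq MvPowerSeries.X MvPowerSeries.X, hBq MvPowerSeries.X ε, hBq ε MvPowerSeries.X,
      hBq ε ε, ← Finset.sum_add_distrib, ← Finset.sum_add_distrib, ← Finset.sum_add_distrib]
    apply Finset.sum_congr rfl; intro i _
    rw [← Finset.sum_add_distrib, ← Finset.sum_add_distrib, ← Finset.sum_add_distrib]
    apply Finset.sum_congr rfl; intro j _; ring
  have hsubst : MvPowerSeries.HasSubst (fun i : Fin n => MvPowerSeries.X i + ε i) := hHS ε hεV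
  have hfinal : MvPowerSeries.subst (fun i => MvPowerSeries.X i + ε i) F = P := by
    rw [hFPr, MvPowerSeries.subst_add hsubst, hsubP, hexp,
      add_assoc (Bq MvPowerSeries.X MvPowerSeries.X) (Bq MvPowerSeries.X ε) (Bq ε MvPowerSeries.X),
      ← hLε, hsum]
    conv_rhs => rw [hPX]
    ring
  refine ⟨ε, fun i => hεV i, hsubst, hfinal, ?_⟩
  rcases Nat.eq_zero_or_pos n with hn0 | hnpos
  · subst hn0
    have hFeq : F = P := by
      ext e
      apply hF
      rw [Subsingleton.elim e 0, map_zero]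
      exact Nat.zero_le _
    exact ⟨Ideal.quotientEquivAlgOfEq A (by rw [hFeq])⟩
  · obtain ⟨φ, hφdef⟩ : ∃ φ : MvPowerSeries (Fin n) A →ₐ[A] MvPowerSeries (Fin n) A,
        φ = MvPowerSeries.substAlgHom hsubst := ⟨_, rfl⟩
    have hφ : ∀ f, φ f = MvPowerSeries.subst (fun i => MvPowerSeries.X i + ε i) f := by
      intro f; rw [hφdef, MvPowerSeries.substAlgHom_apply]
    have hφX : ∀ i, φ (MvPowerSeries.X i) = MvPowerSeries.X i + ε i := by
      intro i; rw [hφ, MvPowerSeries.subst_X hsubst]
    have hbij : Function.Bijective φ := by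
      apply Groth.Agent.S10826.result A n (Nat.succ_le_of_lt hnpos) φ
      · intro i; rw [hφX]; exact cc_of_V (le_refl 1) (hXe1 ε hεV i)
      · have hM : (Matrix.of fun i j : Fin n =>
            MvPowerSeries.coeff (Finsupp.single j 1) (φ (MvPowerSeries.X i))) = 1 := by
          ext i j
          rw [Matrix.of_apply, hφX, map_add, Matrix.one_apply,
            MvPowerSeries.coeff_index_single_X,
            hεV i (Finsupp.single j 1) (by rw [Finsupp.degree_single]; omega), add_zero]
          by_cases hij : i = j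
          · rw [if_pos hij.symm, if_pos hij]
          · rw [if_neg (fun h' => hij h'.symm), if_neg hij]
        rw [hM, Matrix.det_one]; exact isUnit_one
    have hIJ : Ideal.span {P} = (Ideal.span {F}).map
        ((AlgEquiv.ofBijective φ hbij : MvPowerSeries (Fin n) A ≃ₐ[A] MvPowerSeries (Fin n) A) :
          MvPowerSeries (Fin n) A →+* MvPowerSeries (Fin n) A) := by
      rw [Ideal.map_span, Set.image_singleton]
      have hPF : P = φ F := by rw [hφ, hfinal]
      rw [hPF]; rfl
    exact ⟨Ideal.quotientEquivAlg _ _ _ hIJ⟩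


end Groth.Agent.S16230
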