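import Groth.Statements.S16234
import Mathlib.RingTheory.HopkinsLevitzki
import Mathlib.RingTheory.Support
import Mathlib.RingTheory.Length
import Mathlib.RingTheory.KrullDimension.Zero
import Mathlib.RingTheory.Ideal.Quotient.Noetherian

set_option autoImplicit false
universe u v
open CAlg

namespace Groth.Agent.S16234

/-- For a finitely generated module M over a Noetherian commutative ring A, every prime ideal in the
support of M is a maximal ideal if and only if M has finite length. -/
theorem result (A : Type u) [CommRing A] [IsNoetherianRing A]
    (M : Type v) [AddCommGroup M] [Module A M] [Module.Finite A M] :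
    (∀ p ∈ Module.support A M, p.asIdeal.IsMaximal) ↔ IsFiniteLength A M := by
  constructor
  · intro h
    -- pass to the quotient by the annihilator
    let _ : Module (A ⧸ Module.annihilator A M) M := Module.quotientAnnihilator
    have : IsScalarTower A (A ⧸ Module.annihilator A M) M :=
      ⟨fun a b m => by
        obtain ⟨b, rfl⟩ := Ideal.Quotient.mk_surjective b
        change (Ideal.Quotient.mk _ (a * b)) • m = a • (Ideal.Quotient.mk _ b) • m
        change (a * b) • m = a • b • m
        rw [mul_smul]⟩
    have : Ring.KrullDimLE 0 (A ⧸ Module.annihilator A M) := by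
      rw [Ideal.krullDimLE_zero_quotient_iff_forall_minimalPrimes_isMaximal]
      intro J hJ
      have hJp : J.IsPrime := hJ.1.1
      refine h ⟨J, hJp⟩ ?_
      rw [Module.support_eq_zeroLocus]
      exact hJ.1.2
    have : IsArtinianRing (A ⧸ Module.annihilator A M) :=
      isArtinianRing_iff_isNoetherianRing_krullDimLE_zero.2 ⟨inferInstance, inferInstance⟩
    have : Module.Finite (A ⧸ Module.annihilator A M) M := Module.Finite.of_restrictScalars_finite A _ M
    have hfl : IsFiniteLength (A ⧸ Module.annihilator A M) M := by
      have h03 := (IsArtinianRing.tfae (R := A ⧸ Module.annihilator A M) (M := M)).out 0 3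
      exact h03.1 inferInstance
    rw [← Module.length_ne_top_iff] at hfl ⊢
    rwa [Module.length_eq_of_surjective (R := A ⧸ Module.annihilator A M)
      Ideal.Quotient.mk_surjective]
  · intro h p hp
    rw [isFiniteLength_iff_isNoetherian_isArtinian] at h
    have := h.2
    obtain ⟨m, hm⟩ := Module.mem_support_iff_exists_annihilator.1 hp
    let f : A →ₗ[A] M := LinearMap.toSpanSingleton A M m
    have hker : LinearMap.ker f ≤ p.asIdeal := by
      intro a ha
      apply hm
      rw [Submodule.mem_annihilator_span_singleton]
      exact ha
    -- `A ⧸ ker f` is Artinian as it embeds into `M`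
    have : IsArtinian A (A ⧸ LinearMap.ker f) :=
      isArtinian_of_injective ((LinearMap.ker f).liftQ f le_rfl)
        (by
          rw [← LinearMap.ker_eq_bot]
          exact Submodule.ker_liftQ_eq_bot _ _ _ le_rfl)
    have : IsArtinian A (A ⧸ p.asIdeal) :=
      isArtinian_of_surjective (A ⧸ LinearMap.ker f) (Submodule.mapQ _ _ LinearMap.id hker)
        (by
          intro x
          obtain ⟨x, rfl⟩ := Submodule.Quotient.mk_surjective _ x
          exact ⟨Submodule.Quotient.mk x, rfl⟩)
    have : IsArtinianRing (A ⧸ p.asIdeal) := isArtinian_of_tower A inferInstance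
    exact Ideal.Quotient.maximal_of_isField _ (IsArtinianRing.isField_of_isDomain _)

end Groth.Agent.S16234
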