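import Groth.Statements.S16235
import Mathlib
-- import your own Groth.Agent.* helpers here

set_option autoImplicit false
universe u
open CAlg

namespace Groth.Agent.S16235

/-- Let A be a Noetherian commutative ring and x_1, …, x_r a regular sequence on A (each x_i a
non-zero-divisor on A/(x_1, …, x_{i-1})) generating an ideal I ≠ A. Then the height of I, the
infimum of the heights of the minimal primes over I, equals r. -/
theorem result (A : Type u) [CommRing A] [IsNoetherianRing A]
    (r : ℕ) (x : Fin r → A) (hx : RingTheory.Sequence.IsWeaklyRegular A (List.ofFn x))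
    (hI : Ideal.span (Set.range x) ≠ ⊤) :
    (Ideal.span (Set.range x)).height = r := by
  classical
  have hof : Ideal.ofList (List.ofFn x) = Ideal.span (Set.range x) := by
    unfold Ideal.ofList
    congr 1
    ext y
    simp [List.mem_ofFn]
  apply le_antisymm
  · -- Krull's height theorem
    refine (Ideal.height_le_spanFinrank _ hI).trans ?_
    have h1 : ((Ideal.span (Set.range x)).spanFinrank : ℕ∞) ≤ (Set.range x).encard :=
      Submodule.spanFinrank_span_le_encard _
    refine h1.trans ?_
    have h2 : Set.range x = ((Finset.univ.image x : Finset A) : Set A) := by simp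
    rw [h2, Set.encard_coe_eq_coe_finsetCard]
    have h3 : (Finset.univ.image x).card ≤ r := by
      calc (Finset.univ.image x).card ≤ (Finset.univ : Finset (Fin r)).card := Finset.card_image_le
        _ = r := by simp
    exact_mod_cast h3
  · rw [Ideal.height_eq_inf_minimalPrimes]
    refine le_iInf₂ fun P hP => ?_
    haveI := hP.1.1
    have hIP : Ideal.span (Set.range x) ≤ P := hP.1.2
    set rs' := (List.ofFn x).map (algebraMap A (Localization.AtPrime P)) with hrs'
    have hreg' : RingTheory.Sequence.IsWeaklyRegular (Localization.AtPrime P) rs' :=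
      RingTheory.Sequence.IsWeaklyRegular.of_flat hx
    have hle : Ideal.ofList rs' ≤ IsLocalRing.maximalIdeal (Localization.AtPrime P) := by
      rw [hrs', ← Ideal.map_ofList, hof, ← Localization.AtPrime.map_eq_maximalIdeal]
      exact Ideal.map_mono hIP
    have hreg : RingTheory.Sequence.IsRegular (Localization.AtPrime P) rs' := by
      refine ⟨hreg', ?_⟩
      rw [smul_eq_mul, Ideal.mul_top]
      intro h
      have : Ideal.ofList rs' ≠ ⊤ := fun h' =>
        (IsLocalRing.maximalIdeal.isMaximal (Localization.AtPrime P)).ne_top
          (top_le_iff.1 (h' ▸ hle))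
      exact this h.symm
    have hdim := ringKrullDim_add_length_eq_ringKrullDim_of_isRegular rs' hreg
    have hlen : rs'.length = r := by simp [hrs']
    rw [hlen, IsLocalization.AtPrime.ringKrullDim_eq_height P (Localization.AtPrime P)] at hdim
    haveI : Nontrivial (Localization.AtPrime P ⧸ Ideal.ofList rs') :=
      Ideal.Quotient.nontrivial_iff.2 (fun h' =>
        (IsLocalRing.maximalIdeal.isMaximal (Localization.AtPrime P)).ne_top
          (top_le_iff.1 (h' ▸ hle)))
    have hnn : (0 : WithBot ℕ∞) ≤ ringKrullDim (Localization.AtPrime P ⧸ Ideal.ofList rs') :=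
      ringKrullDim_nonneg_of_nontrivial
    have : ((r : ℕ∞) : WithBot ℕ∞) ≤ (P.height : WithBot ℕ∞) := by
      rw [← hdim]
      calc ((r : ℕ∞) : WithBot ℕ∞) = 0 + (r : WithBot ℕ∞) := by simp
        _ ≤ ringKrullDim (Localization.AtPrime P ⧸ Ideal.ofList rs') + (r : WithBot ℕ∞) := by
          gcongr
    exact_mod_cast this

end Groth.Agent.S16235
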