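import Groth.Statements.S16236
import Mathlib
import Groth.Agent.Lib.Helper8.K0Dev
import Groth.Agent.Lib.Helper8.GEQuot
import Groth.Agent.Lib.Helper8.DevSupp
import Groth.Agent.Lib.Helper7.CohKer
import Groth.Agent.Lib.Helper20.ClosedImmDual
-- import your own Groth.Agent.* helpers here

set_option autoImplicit false
universe u
open CategoryTheory CategoryTheory.Limits AlgebraicGeometry
attribute [local instance] HasDerivedCategory.standard
open SGA6

namespace Groth.Agent.S16236

open Groth.Agent.Lib.helper8.K0Dev Groth.Agent.Lib.helper13.K0Res Groth.Agent.Lib.helper8.GEQuot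
open Groth.Agent.Lib.helper8.Rees Groth.Agent.Lib.helper8.Dev Groth.Agent.Lib.helper7.CohKer
open Scheme.Modules Opposite

variable {X X' : Scheme.{u}}

/-- coherent and killed by the ideal of `i` -/
abbrev PX (i : X' ⟶ X) : ObjectProperty X.Modules :=
  fun M => Coh.IsCoh M ∧ ClSub.KilledByIdeal i.ker M

/-- coherent -/
abbrev QX (X : Scheme.{u}) : ObjectProperty X.Modules := fun M => Coh.IsCoh M

theorem killedByIdeal_of_mono' (J : X.IdealSheafData) {A B : X.Modules} (f : A ⟶ B) [Mono f]
    (hB : ClSub.KilledByIdeal J B) : ClSub.KilledByIdeal J A := by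
  intro U a ha m
  apply appLin_injective_of_mono f U.1
  refine ((Hom.app_smul f a m).trans ?_).trans (map_zero (appLin f U.1)).symm
  exact hB U a ha _

theorem killedByIdeal_of_isZero (J : X.IdealSheafData) {Z : X.Modules} (hZ : IsZero Z) :
    ClSub.KilledByIdeal J Z := by
  intro U a ha m
  have h0 : IsZero Γ(Z, U.1) := by
    rw [IsZero.iff_id_eq_zero, ← Hom.id_app, hZ.eq_of_src (𝟙 Z) 0, Hom.zero_app]
  have : Subsingleton Γ(Z, U.1) := AddCommGrpCat.subsingleton_of_isZero h0
  have hm : m = 0 := @Subsingleton.elim Γ(Z, U.1) this m 0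
  rw [hm, smul_zero]

theorem hyp [IsNoetherian X] (i : X' ⟶ X) [IsClosedImmersion i] :
    Groth.Agent.Lib.helper8.K0Dev.Hyp (PX i) (QX X) where
  le := fun _ h => h.1
  P_zero := fun Z hZ => ⟨isCoh_of_isZero hZ, killedByIdeal_of_isZero _ hZ⟩
  P_iso := fun e h => ⟨isCoh_of_iso e h.1, by
    haveI : Mono e.inv := inferInstance
    exact killedByIdeal_of_mono' _ e.inv h.2⟩
  Q_iso := fun e h => isCoh_of_iso e h
  Q_ker := fun f hX hY => isCoh_kernel hX hY f
  Q_coker := fun f hX hY => isCoh_cokernel hX hY f
  P_sub := fun S hS h2 h1 => ⟨h1, by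
    haveI := hS.mono_f
    exact killedByIdeal_of_mono' _ S.f h2.2⟩
  P_quot := fun S hS h2 h3 => ⟨h3, by
    haveI := hS.epi_g
    haveI : S.X₂.IsQuasicoherent := h2.1.1
    haveI : S.X₃.IsQuasicoherent := h3.1
    exact killedByIdeal_of_epi _ S.g h2.2⟩

theorem sig_of_P [IsNoetherian X] (i : X' ⟶ X) [IsClosedImmersion i] (M : X.Modules)
    (hM : PX i M) : ∃ x, Sig (PX i) (QX X) M x := by
  obtain ⟨Z0, hz⟩ := HasZeroObject.zero (C := X.Modules)
  let T : ShortComplex X.Modules := ShortComplex.mk (0 : Z0 ⟶ M) (𝟙 M) zero_comp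
  have hsplit : T.Splitting :=
    { r := 0
      s := 𝟙 M
      f_r := hz.eq_of_src _ _
      s_g := Category.id_comp _
      id := by simp [T] }
  exact ⟨_, Sig.step T hsplit.shortExact (isCoh_of_isZero hz) hM.1 hM 0 (Sig.zero _ hz)⟩

theorem exists_sig_of_killed [IsNoetherian X] (i : X' ⟶ X) [IsClosedImmersion i] :
    ∀ (n : ℕ) (M : X.Modules), Coh.IsCoh M → ClSub.KilledByIdeal (i.ker ^ n) M →
      ∃ x, Sig (PX i) (QX X) M x := by
  intro n
  induction n with
  | zero =>
    intro M hM hk
    refine sig_of_P i M ⟨hM, ?_⟩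
    have h1 : ClSub.KilledByIdeal (i.ker ^ 1) M :=
      killedByIdeal_mono (pow_le_pow (Nat.zero_le 1) i.ker) hk
    rwa [pow_one] at h1
  | succ n ih =>
    intro M hM hk
    haveI : M.IsQuasicoherent := hM.1
    let π := quotπ i.ker M
    haveI : Epi π := epi_quotπ i.ker M
    let T : ShortComplex X.Modules := ShortComplex.mk (kernel.ι π) π (kernel.condition π)
    have hT : T.ShortExact :=
      { exact := ShortComplex.exact_of_f_is_kernel _ (kernelIsKernel π)
        mono_f := inferInstanceAs (Mono (kernel.ι π))
        epi_g := inferInstanceAs (Epi π) }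
    have hC : PX i ((quotF i.ker).obj M) := ⟨isCoh_quotF i.ker hM, killedByIdeal_quotF i.ker M⟩
    have hK : Coh.IsCoh (kernel π) := isCoh_kernel hM hC.1 π
    have hKk : ClSub.KilledByIdeal (i.ker ^ n) (kernel π) := by
      intro U a ha m
      apply appLin_injective_of_mono (kernel.ι π) U.1
      refine ((Hom.app_smul (kernel.ι π) a m).trans ?_).trans
        (map_zero (appLin (kernel.ι π) U.1)).symm
      change a • appLin (kernel.ι π) U.1 m = 0
      have hmem : appLin (kernel.ι π) U.1 m ∈ LinearMap.ker (appLin π U.1) := by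
        rw [← range_appLin_kernel_ι]
        exact ⟨m, rfl⟩
      rw [ker_quotη i.ker M U.2] at hmem
      rw [Scheme.IdealSheafData.ideal_pow] at ha
      refine Submodule.smul_induction_on hmem (fun b hb t _ => ?_) (fun x y hx hy => ?_)
      · rw [← mul_smul]
        refine hk U (a * b) ?_ t
        rw [Scheme.IdealSheafData.ideal_pow, pow_succ]
        exact Ideal.mul_mem_mul ha hb
      · rw [smul_add, hx, hy, add_zero]
    obtain ⟨x, hx⟩ := ih (kernel π) hK hKk
    exact ⟨_, Sig.step T hT hK hM hC x hx⟩

theorem main {X X' : Scheme.{u}} [IsNoetherian X]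
    (i : X' ⟶ X) [IsClosedImmersion i] [Surjective i]
    [(Scheme.Modules.pushforward i).Additive] [PreservesFiniteLimits (Scheme.Modules.pushforward i)]
    [PreservesFiniteColimits (Scheme.Modules.pushforward i)]
    (hi : ∀ M : X'.Modules, Coh.IsCoh M → Coh.IsCoh ((Scheme.Modules.pushforward i).obj M)) :
    Function.Bijective (SGA6.mapSub (Scheme.Modules.pushforward i) (fun M : (X').Modules => Coh.IsCoh M)
      (fun M : (X).Modules => Coh.IsCoh M) hi) := by
  have hH := hyp i
  -- the dévissage step
  have h1 : Function.Bijective (SGA6.mapSub (𝟭 X.Modules) (PX i) (QX X) hH.le) := by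
    refine bijective_mapSub_of_filtration hH (fun M hM => ?_)
    have hsupp : CohB1.support M ⊆ Set.range i := by
      rw [Set.range_eq_univ.mpr i.surjective]
      exact Set.subset_univ _
    obtain ⟨n, hn⟩ := exists_killed_of_support_subset i M hM hsupp
    exact exists_sig_of_killed i n M hM hn
  -- the transport step
  have hF : ∀ N : X'.Modules, Coh.IsCoh N → PX i ((Scheme.Modules.pushforward i).obj N) :=
    fun N hN => ⟨hi N hN, killedByIdeal_ker_push i N⟩
  have h2 : Function.Bijective (SGA6.mapSub (Scheme.Modules.pushforward i)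
      (fun M : X'.Modules => Coh.IsCoh M) (PX i) hF) := by
    refine bijective_mapSub_of_ff (Scheme.Modules.pushforward i) _ _ hF
      (fun N hN => isCoh_of_isZero hN) hH.P_zero ?_ ?_
    · intro N N' hN hN'
      haveI : ((Scheme.Modules.pushforward i).obj N).IsQuasicoherent := (hi N hN).1
      exact (Groth.Agent.Lib.Helper20.ClosedImmDual.map_bijective i N N').2
    · intro M hM
      haveI : M.IsQuasicoherent := hM.1.1
      haveI : IsIso ((pullbackPushforwardAdjunction i).unit.app M) := by
        rw [Groth.Agent.Lib.helper8.ClosedImmUnit.isIso_unit_iff_of_isClosedImmersion]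
        exact hM.2
      refine ⟨(Scheme.Modules.pullback i).obj M,
        ⟨Groth.Agent.Lib.helper16.QCohPullback.isQuasicoherent_pullback i M,
          Groth.Agent.Lib.helper16.QCohPullback2.isFiniteType_pullback i M hM.1.2⟩,
        ⟨(asIso ((pullbackPushforwardAdjunction i).unit.app M)).symm⟩⟩
  -- composition
  have hcomp : SGA6.mapSub (Scheme.Modules.pushforward i) (fun M : (X').Modules => Coh.IsCoh M)
      (fun M : (X).Modules => Coh.IsCoh M) hi =
      (SGA6.mapSub (𝟭 X.Modules) (PX i) (QX X) hH.le).comp
        (SGA6.mapSub (Scheme.Modules.pushforward i) (fun M : X'.Modules => Coh.IsCoh M) (PX i) hF) := by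
    apply K0sub_hom_ext
    intro N hN
    rw [AddMonoidHom.comp_apply, mapSub_cls', mapSub_cls', mapSub_cls]
  rw [hcomp]
  exact h1.comp h2


/-- Let X be a Noetherian scheme and i : X' ⟶ X a closed immersion which is surjective on points (a
closed subscheme with the same underlying space, such as X_red ⊂ X). Direct image along i is exact
and preserves coherence (instance hypotheses and hypothesis hi); the induced homomorphism K₀(Coh X')
⟶ K₀(Coh X) between the Grothendieck groups of coherent modules is bijective. (The published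
statement is the case X' = X_red; this row takes any closed immersion that is surjective on points.) -/
theorem result {X X' : Scheme.{u}} [IsNoetherian X]
    (i : X' ⟶ X) [IsClosedImmersion i] [Surjective i]
    [(Scheme.Modules.pushforward i).Additive] [PreservesFiniteLimits (Scheme.Modules.pushforward i)]
    [PreservesFiniteColimits (Scheme.Modules.pushforward i)]
    (hi : ∀ M : X'.Modules, Coh.IsCoh M → Coh.IsCoh ((Scheme.Modules.pushforward i).obj M)) :
    Function.Bijective (SGA6.mapSub (Scheme.Modules.pushforward i) (fun M : (X').Modules => Coh.IsCoh M)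
      (fun M : (X).Modules => Coh.IsCoh M) hi) := by
  exact main i hi

end Groth.Agent.S16236
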