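import Groth.Statements.S1624
import Groth.Agent.Lib.Helper16.Blow2H1c
import Groth.Agent.S1623
import Groth.Agent.Lib.Helper11.CoprodVan
import Groth.Agent.Lib.Helper25.QCohCoprod
import Groth.Agent.Lib.Helper7.CohKer
import Groth.Agent.Lib.Helper12.GGTensor

set_option autoImplicit false
universe u
open CategoryTheory CategoryTheory.Limits AlgebraicGeometry
open Resolve

namespace Groth.Agent.S1624

/-- Let A be a regular local ring of dimension two and b : X → Spec A the blowing up in the maximal
ideal. If F is a quasi-coherent O_X-module which is globally generated, then H¹(X, F) = 0. -/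
theorem result (A : Type u) [CommRing A] [IsRegularLocalRing A] (hA : ringKrullDim A = 2)
    (X : Scheme.{u}) (b : X ⟶ Spec (CommRingCat.of A)) (hb : BlowUp.IsBlowUp b (Curv2.idealSheaf A (IsLocalRing.maximalIdeal A)))
    (F : X.Modules) (hF : Coh.IsQCoh F) (hgg : Curv2.IsGloballyGenerated F) : Subsingleton (Coh.HH X F 1) := by
  obtain ⟨x, y, hxy⟩ := Groth.Agent.S1623.exists_pair A hA
  have hfg : (IsLocalRing.maximalIdeal A).FG := (isNoetherianRing_iff_ideal_fg A).mp inferInstance _
  haveI : X.IsSeparated :=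
    Groth.Agent.Lib.helper16.ReesBlowup.isSeparated_of_isBlowUp _ hfg b hb
  have hft : ((Curv2.idealSheaf A (IsLocalRing.maximalIdeal A)).ideal
      ⟨⊤, isAffineOpen_top (Spec (CommRingCat.of A))⟩).FG := by
    rw [Curv2.idealSheaf, Scheme.IdealSheafData.ofIdealTop_ideal]
    exact Ideal.FG.map (Ideal.FG.map hfg (Scheme.ΓSpecIso (CommRingCat.of A)).inv.hom) _
  haveI : IsProper b := Groth.Agent.Lib.helper16.BlowUpProper.isProper_of_isBlowUp _ b hb
    (fun _ => ⟨⟨⊤, isAffineOpen_top _⟩, trivial, hft⟩)
  haveI : CompactSpace X := QuasiCompact.compactSpace_of_compactSpace b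
  obtain ⟨ι, p, hp⟩ := hgg
  haveI : Epi p := hp
  have hO : Subsingleton (Coh.HH X (Coh.structureModule X) 1) :=
    Groth.Agent.Lib.helper16.ReesBlowup.subsingleton_H1_structureModule _ x y hxy b hb
  have hfree : Subsingleton (Coh.HH X (SheafOfModules.free ι : X.Modules) 1) :=
    Groth.Agent.Lib.helper11.CoprodVan.subsingleton_HH_sigma
      (G := fun _ : ι => Coh.structureModule X) (p := 1) (h := fun _ => hO)
  haveI : F.IsQuasicoherent := hF
  haveI : (SheafOfModules.free ι : X.Modules).IsQuasicoherent :=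
    Groth.Agent.Lib.helper25.QCohCoprod.isQuasicoherent_coproduct X
      (fun _ : ι => SheafOfModules.unit X.ringCatSheaf)
      (fun _ => Groth.Agent.Lib.helper12.AmpleBasis.structureModule_qcoh X)
  have hK : Coh.IsQCoh (Limits.kernel p) := Groth.Agent.Lib.helper7.CohKer.isQuasicoherent_kernel p
  have h2 : Subsingleton (Coh.HH X (Limits.kernel p) (1 + 1)) :=
    Groth.Agent.S1623.result A hA X b hb (Limits.kernel p) hK 2 le_rfl
  exact @Groth.Agent.Lib.helper12.GGTensor.subsingleton_HH_of_epi _ _ _ p hp 1 hfree h2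

end Groth.Agent.S1624
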