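import Groth.Statements.S16242
import Mathlib
import Groth.Agent.Lib.Helper10.G0

set_option autoImplicit false
universe u
open CategoryTheory
open KZero

namespace Groth.Agent.S16242

set_option linter.style.haveILetI false

open CategoryTheory KZero Groth.Agent.Lib.helper10.G0 Groth.Agent.Lib.helper7.K0API
open Polynomial

section ring

variable (k : Type u) [Field k]

/-- the node ring `k[x,y]/(xy)` -/
noncomputable abbrev J : Ideal (MvPolynomial (Fin 2) k) :=
  Ideal.span {(MvPolynomial.X 0 * MvPolynomial.X 1 : MvPolynomial (Fin 2) k)}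

abbrev Nd : Type u := MvPolynomial (Fin 2) k ⧸ J k

/-- the coordinate functions -/
noncomputable abbrev xx (i : Fin 2) : Nd k := Ideal.Quotient.mk (J k) (MvPolynomial.X i)

noncomputable abbrev II (i : Fin 2) : Ideal (Nd k) := Ideal.span {xx k i}

lemma fin2_cases : ∀ i j l : Fin 2, i ≠ j → l = i ∨ l = j := by decide

lemma xx_mul (i j : Fin 2) (hij : i ≠ j) : xx k i * xx k j = 0 := by
  have h01 : xx k 0 * xx k 1 = 0 := by
    rw [← map_mul]
    exact Ideal.Quotient.eq_zero_iff_mem.2 (Ideal.subset_span rfl)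
  have : ∀ i j : Fin 2, i ≠ j → (i = 0 ∧ j = 1) ∨ (i = 1 ∧ j = 0) := by decide
  rcases this i j hij with ⟨rfl, rfl⟩ | ⟨rfl, rfl⟩
  · exact h01
  · rw [mul_comm]; exact h01

/-- `k[T] → A`, `T ↦ x_j` -/
noncomputable def jmap (j : Fin 2) : k[X] →ₐ[k] Nd k := Polynomial.aeval (xx k j)

/-- `R → k[T]`, `X_j ↦ T`, other variable to `0`. -/
noncomputable def F0 (j : Fin 2) : MvPolynomial (Fin 2) k →ₐ[k] k[X] :=
  MvPolynomial.aeval (fun l => if l = j then (Polynomial.X : k[X]) else 0)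

lemma F0_X (j l : Fin 2) : F0 k j (MvPolynomial.X l) = if l = j then (Polynomial.X : k[X]) else 0 := by
  simp [F0]

lemma F0_J (i j : Fin 2) (hij : i ≠ j) : ∀ a ∈ J k, F0 k j a = 0 := by
  intro a ha
  have : J k ≤ RingHom.ker (F0 k j).toRingHom := by
    rw [Ideal.span_le, Set.singleton_subset_iff]
    change F0 k j (MvPolynomial.X 0 * MvPolynomial.X 1) = 0
    rw [map_mul, F0_X, F0_X]
    have : ∀ i j : Fin 2, i ≠ j → (0 : Fin 2) ≠ j ∨ (1 : Fin 2) ≠ j := by decide
    rcases this i j hij with h | h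
    · rw [if_neg h, zero_mul]
    · rw [if_neg h, mul_zero]
  exact this ha

noncomputable def F1 (i j : Fin 2) (hij : i ≠ j) : Nd k →ₐ[k] k[X] :=
  Ideal.Quotient.liftₐ (J k) (F0 k j) (F0_J k i j hij)

lemma F1_mk (i j : Fin 2) (hij : i ≠ j) (p : MvPolynomial (Fin 2) k) :
    F1 k i j hij (Ideal.Quotient.mk (J k) p) = F0 k j p := by
  unfold F1
  rw [Ideal.Quotient.liftₐ_apply, Ideal.Quotient.lift_mk]
  rfl

lemma F1_xx (i j : Fin 2) (hij : i ≠ j) (l : Fin 2) :
    F1 k i j hij (xx k l) = if l = j then (Polynomial.X : k[X]) else 0 := by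
  rw [F1_mk]
  exact F0_X k j l

lemma F1_II (i j : Fin 2) (hij : i ≠ j) : ∀ a ∈ II k i, F1 k i j hij a = 0 := by
  intro a ha
  have : II k i ≤ RingHom.ker (F1 k i j hij).toRingHom := by
    rw [Ideal.span_le, Set.singleton_subset_iff]
    change F1 k i j hij (xx k i) = 0
    rw [F1_xx, if_neg hij]
  exact this ha

noncomputable def F2 (i j : Fin 2) (hij : i ≠ j) : (Nd k ⧸ II k i) →ₐ[k] k[X] :=
  Ideal.Quotient.liftₐ (II k i) (F1 k i j hij) (F1_II k i j hij)

lemma F2_mk (i j : Fin 2) (hij : i ≠ j) (a : Nd k) :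
    F2 k i j hij (Ideal.Quotient.mk (II k i) a) = F1 k i j hij a := by
  unfold F2
  rw [Ideal.Quotient.liftₐ_apply, Ideal.Quotient.lift_mk]
  rfl

noncomputable def G2 (i j : Fin 2) : k[X] →ₐ[k] (Nd k ⧸ II k i) :=
  (Ideal.Quotient.mkₐ k (II k i)).comp (jmap k j)

lemma G2_X (i j : Fin 2) : G2 k i j Polynomial.X = Ideal.Quotient.mk (II k i) (xx k j) := by
  unfold G2 jmap
  rw [AlgHom.comp_apply, Polynomial.aeval_X]
  rfl

lemma F2_G2 (i j : Fin 2) (hij : i ≠ j) : (F2 k i j hij).comp (G2 k i j) = AlgHom.id k _ := by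
  apply Polynomial.algHom_ext
  rw [AlgHom.comp_apply, G2_X, F2_mk, F1_xx, if_pos rfl]
  rfl

lemma G2_F2 (i j : Fin 2) (hij : i ≠ j) : (G2 k i j).comp (F2 k i j hij) = AlgHom.id k _ := by
  apply Ideal.Quotient.algHom_ext
  apply Ideal.Quotient.algHom_ext
  apply MvPolynomial.algHom_ext
  intro l
  simp only [AlgHom.comp_apply, Ideal.Quotient.mkₐ_eq_mk, AlgHom.id_apply]
  rw [F2_mk, F1_xx]
  rcases fin2_cases i j l hij with rfl | rfl
  · rw [if_neg hij, map_zero]
    have h0 : Ideal.Quotient.mk (II k l) (xx k l) = 0 :=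
      Ideal.Quotient.eq_zero_iff_mem.2 (Ideal.subset_span (Set.mem_singleton _))
    exact h0.symm
  · rw [if_pos rfl, G2_X]

noncomputable def eqv (i j : Fin 2) (hij : i ≠ j) : (Nd k ⧸ II k i) ≃ₐ[k] k[X] :=
  AlgEquiv.ofAlgHom (F2 k i j hij) (G2 k i j) (F2_G2 k i j hij) (G2_F2 k i j hij)

lemma isDomain_quot (i : Fin 2) : IsDomain (Nd k ⧸ II k i) := by
  obtain ⟨j, hij⟩ : ∃ j : Fin 2, i ≠ j := by
    revert i; decide
  exact (eqv k i j hij).toMulEquiv.isDomain _

lemma isPIR_quot (i : Fin 2) : IsPrincipalIdealRing (Nd k ⧸ II k i) := by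
  obtain ⟨j, hij⟩ : ∃ j : Fin 2, i ≠ j := by
    revert i; decide
  exact IsPrincipalIdealRing.of_surjective (eqv k i j hij).symm.toRingEquiv.toRingHom
    (eqv k i j hij).symm.surjective

end ring

section rk

/-- rank of an `A`-module over `T` through a ring map `T → A` -/
noncomputable def rkf {T A : Type u} [CommRing T] [CommRing A] (f : T →+* A) (M : Type u)
    [AddCommGroup M] [Module A M] : Cardinal.{u} :=
  @Module.rank T M _ _ (Module.compHom M f)

theorem rkf_ses {T A : Type u} [CommRing T] [IsDomain T] [CommRing A] (f : T →+* A)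
    {M₁ M₂ M₃ : Type u} [AddCommGroup M₁] [Module A M₁] [AddCommGroup M₂] [Module A M₂]
    [AddCommGroup M₃] [Module A M₃] (φ : M₁ →ₗ[A] M₂) (ψ : M₂ →ₗ[A] M₃)
    (hφ : Function.Injective φ) (hψ : Function.Surjective ψ) (hex : Function.Exact φ ψ) :
    rkf f M₂ = rkf f M₁ + rkf f M₃ := by
  unfold rkf
  letI := Module.compHom M₁ f
  letI := Module.compHom M₂ f
  letI := Module.compHom M₃ f
  let φ' : M₁ →ₗ[T] M₂ :=
    { toFun := φ, map_add' := φ.map_add, map_smul' := fun t m => φ.map_smul (f t) m }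
  let ψ' : M₂ →ₗ[T] M₃ :=
    { toFun := ψ, map_add' := ψ.map_add, map_smul' := fun t m => ψ.map_smul (f t) m }
  exact rank_ses φ' ψ' hφ hψ hex

theorem rkf_eq_zero {T A : Type u} [CommRing T] [CommRing A] (f : T →+* A) (M : Type u)
    [AddCommGroup M] [Module A M] (t : T) (ht : t ≠ 0) (h : ∀ m : M, f t • m = 0) :
    rkf f M = 0 := by
  unfold rkf
  letI := Module.compHom M f
  rw [rank_eq_zero_iff]
  intro m
  exact ⟨t, ht, h m⟩

theorem rkf_lt_aleph0_of_span {T A : Type u} [CommRing T] [Nontrivial T] [CommRing A] (f : T →+* A)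
    (M : Type u)
    [AddCommGroup M] [Module A M] [Module.Finite A M]
    (h : ∀ (a : A) (m : M), ∃ t : T, a • m = f t • m) :
    rkf f M < Cardinal.aleph0 := by
  classical
  unfold rkf
  letI := Module.compHom M f
  obtain ⟨n, s, hs⟩ := Module.Finite.exists_fin (R := A) (M := M)
  haveI : Module.Finite T M := by
    constructor
    refine ⟨Finset.univ.image s, ?_⟩
    rw [eq_top_iff]
    rintro m -
    rw [Finset.coe_image, Finset.coe_univ, Set.image_univ]
    have hm : m ∈ Submodule.span A (Set.range s) := by rw [hs]; exact Submodule.mem_top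
    induction hm using Submodule.span_induction with
    | mem y hy =>
      obtain ⟨i, rfl⟩ := hy
      exact Submodule.subset_span ⟨i, rfl⟩
    | zero => exact Submodule.zero_mem _
    | add x y _ _ hx hy => exact Submodule.add_mem _ hx hy
    | smul a x _ hx =>
      obtain ⟨t, ht⟩ := h a x
      rw [ht]
      exact Submodule.smul_mem _ t hx
  exact Module.rank_lt_aleph0 T M

end rk

section node

variable (k : Type u) [Field k]

lemma smul_eq_zero_of_mem_II (i : Fin 2) (M : Type u) [AddCommGroup M] [Module (Nd k) M]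
    (h : ∀ m : M, xx k i • m = 0) : ∀ a ∈ II k i, ∀ m : M, a • m = 0 := by
  intro a ha m
  obtain ⟨c, rfl⟩ := Ideal.mem_span_singleton'.1 ha
  rw [mul_smul, h, smul_zero]

/-- the submodule `x_i M` -/
noncomputable def xM (i : Fin 2) (M : Type u) [AddCommGroup M] [Module (Nd k) M] :
    Submodule (Nd k) M :=
  LinearMap.range (LinearMap.lsmul (Nd k) M (xx k i))

lemma xM_kill (i j : Fin 2) (hij : i ≠ j) (M : Type u) [AddCommGroup M] [Module (Nd k) M]
    (n : xM k i M) : xx k j • n = 0 := by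
  obtain ⟨n, m, rfl⟩ := n
  apply Subtype.ext
  change xx k j • (xx k i • m) = 0
  rw [← mul_smul, xx_mul k j i hij.symm]
  exact zero_smul (Nd k) m

lemma quot_xM_kill (i : Fin 2) (M : Type u) [AddCommGroup M] [Module (Nd k) M]
    (q : M ⧸ xM k i M) : xx k i • q = 0 := by
  obtain ⟨m, rfl⟩ := (xM k i M).mkQ_surjective q
  rw [← map_smul]
  exact (Submodule.Quotient.mk_eq_zero _).2 ⟨m, rfl⟩

lemma xM_exact (i : Fin 2) (M : Type u) [AddCommGroup M] [Module (Nd k) M] :
    Function.Exact (xM k i M).subtype (xM k i M).mkQ := by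
  intro x
  constructor
  · intro hx
    exact ⟨⟨x, (Submodule.Quotient.mk_eq_zero _).1 hx⟩, rfl⟩
  · rintro ⟨y, rfl⟩
    exact (Submodule.Quotient.mk_eq_zero _).2 y.2

instance (i : Fin 2) (M : Type u) [AddCommGroup M] [Module (Nd k) M] [Module.Finite (Nd k) M] :
    Module.Finite (Nd k) (xM k i M) := by
  unfold xM
  infer_instance

/-- dévissage -/
theorem cF_mem_sup (M : Type u) [AddCommGroup M] [Module (Nd k) M] [Module.Finite (Nd k) M] :
    cF (Nd k) M ∈ AddSubgroup.zmultiples (cF (Nd k) (Nd k ⧸ II k 0)) ⊔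
      AddSubgroup.zmultiples (cF (Nd k) (Nd k ⧸ II k 1)) := by
  haveI := isDomain_quot k
  haveI := isPIR_quot k
  have hses := cF_ses (A := Nd k) (xM k 0 M).subtype (xM k 0 M).mkQ
    (xM k 0 M).injective_subtype (xM k 0 M).mkQ_surjective (xM_exact k 0 M)
  have h1 : cF (Nd k) (xM k 0 M) ∈ AddSubgroup.zmultiples (cF (Nd k) (Nd k ⧸ II k 1)) :=
    cF_mem_zmultiples (II k 1) _
      (smul_eq_zero_of_mem_II k 1 _ (xM_kill k 0 1 (by decide) M))
  have h2 : cF (Nd k) (M ⧸ xM k 0 M) ∈ AddSubgroup.zmultiples (cF (Nd k) (Nd k ⧸ II k 0)) :=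
    cF_mem_zmultiples (II k 0) _
      (smul_eq_zero_of_mem_II k 0 _ (quot_xM_kill k 0 M))
  rw [hses, add_comm]
  exact AddSubgroup.add_mem _ (AddSubgroup.mem_sup_left h2) (AddSubgroup.mem_sup_right h1)

/-- the rank function along `T ↦ x_j` -/
noncomputable abbrev rk (j : Fin 2) (M : Type u) [AddCommGroup M] [Module (Nd k) M] : Cardinal.{u} :=
  rkf (jmap k j).toRingHom M

lemma jmap_X (j : Fin 2) : (jmap k j).toRingHom Polynomial.X = xx k j := by
  change Polynomial.aeval (xx k j) Polynomial.X = _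
  rw [Polynomial.aeval_X]

lemma rk_eq_zero (j : Fin 2) (M : Type u) [AddCommGroup M] [Module (Nd k) M]
    (h : ∀ m : M, xx k j • m = 0) : rk k j M = 0 := by
  apply rkf_eq_zero _ M Polynomial.X Polynomial.X_ne_zero
  intro m
  rw [jmap_X]
  exact h m

lemma exists_jmap (i j : Fin 2) (hij : i ≠ j) (a : Nd k) :
    a - (jmap k j) (F1 k i j hij a) ∈ II k i := by
  have h := DFunLike.congr_fun (G2_F2 k i j hij) (Ideal.Quotient.mk (II k i) a)
  rw [AlgHom.comp_apply, F2_mk, AlgHom.id_apply] at h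
  have h' : Ideal.Quotient.mk (II k i) ((jmap k j) (F1 k i j hij a)) =
      Ideal.Quotient.mk (II k i) a := h
  rw [← Ideal.Quotient.eq]
  exact h'.symm

lemma rk_lt_of_kill (i j : Fin 2) (hij : i ≠ j) (M : Type u) [AddCommGroup M] [Module (Nd k) M]
    [Module.Finite (Nd k) M] (h : ∀ m : M, xx k i • m = 0) : rk k j M < Cardinal.aleph0 := by
  apply rkf_lt_aleph0_of_span
  intro a m
  refine ⟨F1 k i j hij a, ?_⟩
  have h1 := smul_eq_zero_of_mem_II k i M h _ (exists_jmap k i j hij a) m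
  rw [sub_smul, sub_eq_zero] at h1
  exact h1

lemma rk_lt (j : Fin 2) (M : Type u) [AddCommGroup M] [Module (Nd k) M]
    [Module.Finite (Nd k) M] : rk k j M < Cardinal.aleph0 := by
  obtain ⟨i, hij⟩ : ∃ i : Fin 2, i ≠ j := by
    revert j; decide
  have hses := rkf_ses (jmap k j).toRingHom (xM k i M).subtype (xM k i M).mkQ
    (xM k i M).injective_subtype (xM k i M).mkQ_surjective (xM_exact k i M)
  have h1 : rk k j (xM k i M) = 0 := rk_eq_zero k j _ (xM_kill k i j hij M)
  have h2 : rk k j (M ⧸ xM k i M) < Cardinal.aleph0 :=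
    rk_lt_of_kill k i j hij _ (quot_xM_kill k i M)
  change rkf _ M < _
  rw [hses]
  change rk k j _ + rk k j _ < _
  rw [h1, zero_add]
  exact h2

lemma rk_quot_self (j : Fin 2) : rk k j (Nd k ⧸ II k j) = 0 := by
  apply rk_eq_zero
  intro m
  obtain ⟨a, rfl⟩ := Ideal.Quotient.mk_surjective m
  change Ideal.Quotient.mk (II k j) (xx k j * a) = 0
  exact Ideal.Quotient.eq_zero_iff_mem.2
    (Ideal.mul_mem_right _ _ (Ideal.subset_span (Set.mem_singleton _)))

lemma rk_quot_other (i j : Fin 2) (hij : i ≠ j) : rk k j (Nd k ⧸ II k i) = 1 := by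
  unfold rk rkf
  letI := Module.compHom (Nd k ⧸ II k i) (jmap k j).toRingHom
  let e : (Nd k ⧸ II k i) ≃ₗ[k[X]] k[X] :=
    { toFun := eqv k i j hij
      invFun := (eqv k i j hij).symm
      left_inv := (eqv k i j hij).left_inv
      right_inv := (eqv k i j hij).right_inv
      map_add' := map_add _
      map_smul' := by
        intro t m
        change eqv k i j hij ((jmap k j t) • m) = t * eqv k i j hij m
        have h1 : (jmap k j t) • m = G2 k i j t * m := by
          obtain ⟨a, rfl⟩ := Ideal.Quotient.mk_surjective m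
          rfl
        rw [h1, map_mul]
        congr 1
        exact DFunLike.congr_fun (F2_G2 k i j hij) t }
  rw [e.rank_eq, Module.rank_self]

theorem exists_rho (j : Fin 2) : ∃ ρ : K0sub (PF (Nd k)) →+ ℤ,
    ∀ (M : Type u) [AddCommGroup M] [Module (Nd k) M] [Module.Finite (Nd k) M],
      ρ (cF (Nd k) M) = ((Cardinal.toNat (rk k j M) : ℕ) : ℤ) := by
  obtain ⟨ρ, hρ⟩ := exists_lift_K0sub (PF (Nd k)) (G := ℤ)
    (fun M : ModuleCat.{u} (Nd k) => ((Cardinal.toNat (rk k j M) : ℕ) : ℤ)) (by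
      intro S hS h1 h2 h3
      haveI : Module.Finite (Nd k) S.X₁ := h1
      haveI : Module.Finite (Nd k) S.X₃ := h3
      have := rkf_ses (jmap k j).toRingHom S.f.hom S.g.hom hS.moduleCat_injective_f
        hS.moduleCat_surjective_g
        ((ShortComplex.ShortExact.moduleCat_exact_iff_function_exact S).mp hS.exact)
      change ((Cardinal.toNat (rkf (jmap k j).toRingHom S.X₂) : ℕ) : ℤ) = _
      rw [this, Cardinal.toNat_add (rk_lt k j S.X₁) (rk_lt k j S.X₃)]
      push_cast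
      rfl)
  refine ⟨ρ, fun M _ _ hM => ?_⟩
  exact hρ (ModuleCat.of (Nd k) M) hM

theorem main :
    Function.Bijective (fun p : ℤ × ℤ =>
      p.1 • cF (Nd k) (Nd k ⧸ II k 0) + p.2 • cF (Nd k) (Nd k ⧸ II k 1)) := by
  constructor
  · obtain ⟨ρ0, hρ0⟩ := exists_rho k 0
    obtain ⟨ρ1, hρ1⟩ := exists_rho k 1
    have h00 : ρ0 (cF (Nd k) (Nd k ⧸ II k 0)) = 0 := by
      rw [hρ0, rk_quot_self]; simp
    have h01 : ρ0 (cF (Nd k) (Nd k ⧸ II k 1)) = 1 := by
      rw [hρ0, rk_quot_other k 1 0 (by decide)]; simp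
    have h10 : ρ1 (cF (Nd k) (Nd k ⧸ II k 0)) = 1 := by
      rw [hρ1, rk_quot_other k 0 1 (by decide)]; simp
    have h11 : ρ1 (cF (Nd k) (Nd k ⧸ II k 1)) = 0 := by
      rw [hρ1, rk_quot_self]; simp
    intro p q hpq
    have e0 := congrArg ρ0 hpq
    have e1 := congrArg ρ1 hpq
    simp only [map_add, map_zsmul, h00, h01, h10, h11, smul_eq_mul, mul_zero, mul_one, zero_add,
      add_zero] at e0 e1
    exact Prod.ext e1 e0
  · have htop : AddSubgroup.zmultiples (cF (Nd k) (Nd k ⧸ II k 0)) ⊔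
        AddSubgroup.zmultiples (cF (Nd k) (Nd k ⧸ II k 1)) = ⊤ := by
      rw [eq_top_iff, ← closure_clSub (PF (Nd k)), AddSubgroup.closure_le]
      rintro x ⟨F, hF, rfl⟩
      haveI : Module.Finite (Nd k) F := hF
      exact cF_mem_sup k F
    intro x
    have hx : x ∈ AddSubgroup.zmultiples (cF (Nd k) (Nd k ⧸ II k 0)) ⊔
        AddSubgroup.zmultiples (cF (Nd k) (Nd k ⧸ II k 1)) := by
      rw [htop]; exact AddSubgroup.mem_top _
    obtain ⟨y, hy, z, hz, rfl⟩ := AddSubgroup.mem_sup.1 hx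
    obtain ⟨a, rfl⟩ := AddSubgroup.mem_zmultiples_iff.1 hy
    obtain ⟨b, rfl⟩ := AddSubgroup.mem_zmultiples_iff.1 hz
    exact ⟨(a, b), rfl⟩

end node



/-- Let k be a field and A = k[x, y]/(xy) (polynomial ring in two variables x = X_0, y = X_1 modulo xy).
In the Grothendieck group of finitely generated A-modules (free abelian group on them modulo short
exact sequences), the classes of A/(x) ≅ k[y] and A/(y) ≅ k[x] form a basis: the homomorphism ℤ × ℤ
⟶ K₀ sending (a, b) to a·[A/(x)] + b·[A/(y)] is bijective. -/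
theorem result (k : Type u) [Field k] :
    Function.Bijective (fun p : ℤ × ℤ =>
      p.1 • KZero.clSub (fun M : ModuleCat.{u} (MvPolynomial (Fin 2) k ⧸ Ideal.span {(MvPolynomial.X 0 * MvPolynomial.X 1 : MvPolynomial (Fin 2) k)}) => Module.Finite (MvPolynomial (Fin 2) k ⧸ Ideal.span {(MvPolynomial.X 0 * MvPolynomial.X 1 : MvPolynomial (Fin 2) k)}) M)
          (ModuleCat.of (MvPolynomial (Fin 2) k ⧸ Ideal.span {(MvPolynomial.X 0 * MvPolynomial.X 1 : MvPolynomial (Fin 2) k)}) ((MvPolynomial (Fin 2) k ⧸ Ideal.span {(MvPolynomial.X 0 * MvPolynomial.X 1 : MvPolynomial (Fin 2) k)}) ⧸ Ideal.span {Ideal.Quotient.mk (Ideal.span {(MvPolynomial.X 0 * MvPolynomial.X 1 : MvPolynomial (Fin 2) k)}) (MvPolynomial.X 0)})) +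
        p.2 • KZero.clSub (fun M : ModuleCat.{u} (MvPolynomial (Fin 2) k ⧸ Ideal.span {(MvPolynomial.X 0 * MvPolynomial.X 1 : MvPolynomial (Fin 2) k)}) => Module.Finite (MvPolynomial (Fin 2) k ⧸ Ideal.span {(MvPolynomial.X 0 * MvPolynomial.X 1 : MvPolynomial (Fin 2) k)}) M)
          (ModuleCat.of (MvPolynomial (Fin 2) k ⧸ Ideal.span {(MvPolynomial.X 0 * MvPolynomial.X 1 : MvPolynomial (Fin 2) k)}) ((MvPolynomial (Fin 2) k ⧸ Ideal.span {(MvPolynomial.X 0 * MvPolynomial.X 1 : MvPolynomial (Fin 2) k)}) ⧸ Ideal.span {Ideal.Quotient.mk (Ideal.span {(MvPolynomial.X 0 * MvPolynomial.X 1 : MvPolynomial (Fin 2) k)}) (MvPolynomial.X 1)}))) := by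
  exact main k

end Groth.Agent.S16242
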