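import Groth.Statements.S16243
import Mathlib
import Groth.Agent.S16242
import Groth.Agent.Lib.Helper10.MinRes

set_option autoImplicit false
universe u
open CategoryTheory
open CAlg

namespace Groth.Agent.S16243

set_option linter.style.haveILetI false

open CategoryTheory Groth.Agent.S16242 Groth.Agent.Lib.helper10.MinRes
open Polynomial

section node

variable (k : Type u) [Field k]

lemma mem_II_of_F1_eq_zero (i j : Fin 2) (hij : i ≠ j) (a : Nd k) (h2 : F1 k i j hij a = 0) :
    a ∈ II k i := by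
  have h3 := exists_jmap k i j hij a
  rw [h2, map_zero, sub_zero] at h3
  exact h3

/-- `x_j a = 0 ⇒ a ∈ (x_i)` for `i ≠ j` -/
lemma mem_II_of_mul_eq_zero (i j : Fin 2) (hij : i ≠ j) (a : Nd k) (h : xx k j * a = 0) :
    a ∈ II k i := by
  have h1 : F1 k i j hij (xx k j * a) = 0 := by rw [h, map_zero]
  rw [map_mul, F1_xx, if_pos rfl] at h1
  have h2 : F1 k i j hij a = 0 := by
    rcases mul_eq_zero.1 h1 with h | h
    · exact absurd h Polynomial.X_ne_zero
    · exact h
  exact mem_II_of_F1_eq_zero k i j hij a h2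

lemma exists_mul_of_mul_eq_zero (i j : Fin 2) (hij : i ≠ j) (a : Nd k) (h : xx k j * a = 0) :
    ∃ b : Nd k, a = xx k i * b := by
  obtain ⟨b, hb⟩ := Ideal.mem_span_singleton'.1 (mem_II_of_mul_eq_zero k i j hij a h)
  exact ⟨b, by rw [← hb, mul_comm]⟩

/-- the maximal ideal at the origin -/
noncomputable abbrev mm : Ideal (Nd k) := Ideal.span {xx k 0, xx k 1}

lemma xx_mem_mm (i : Fin 2) : xx k i ∈ mm k := by
  have : ∀ i : Fin 2, i = 0 ∨ i = 1 := by decide
  rcases this i with rfl | rfl
  · exact Ideal.subset_span (Set.mem_insert _ _)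
  · exact Ideal.subset_span (Set.mem_insert_of_mem _ (Set.mem_singleton _))

lemma II_le_mm (i : Fin 2) : II k i ≤ mm k := by
  rw [Ideal.span_le, Set.singleton_subset_iff]
  exact xx_mem_mm k i

/-- the augmentation `A → k` -/
noncomputable def eps0 : MvPolynomial (Fin 2) k →ₐ[k] k := MvPolynomial.aeval (fun _ => (0 : k))

noncomputable def eps : Nd k →ₐ[k] k :=
  Ideal.Quotient.liftₐ (J k) (eps0 k) (by
    intro a ha
    have : J k ≤ RingHom.ker (eps0 k).toRingHom := by
      rw [Ideal.span_le, Set.singleton_subset_iff]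
      change eps0 k (MvPolynomial.X 0 * MvPolynomial.X 1) = 0
      simp [eps0]
    exact this ha)

lemma eps_xx (i : Fin 2) : eps k (xx k i) = 0 := by
  unfold eps
  rw [Ideal.Quotient.liftₐ_apply, Ideal.Quotient.lift_mk]
  change eps0 k (MvPolynomial.X i) = 0
  simp [eps0]

lemma ker_eps : RingHom.ker (eps k).toRingHom = mm k := by
  apply le_antisymm
  · intro a ha
    have ha' : eps k a = 0 := ha
    have h1 := exists_jmap k 0 1 (by decide) a
    set p := F1 k 0 1 (by decide) a with hp
    have h2 : jmap k 1 p ∈ mm k := by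
      have hp' : p = Polynomial.C (p.coeff 0) + Polynomial.X * p.divX := by
        rw [add_comm, mul_comm]; exact (Polynomial.divX_mul_X_add p).symm
      have h3 : eps k (jmap k 1 p) = p.coeff 0 := by
        rw [hp', map_add, map_add, map_mul, map_mul]
        have : jmap k 1 Polynomial.X = xx k 1 := by
          unfold jmap; rw [Polynomial.aeval_X]
        rw [this, eps_xx, zero_mul, add_zero]
        unfold jmap
        rw [Polynomial.aeval_C, AlgHom.commutes]
        simp
      have h4 : eps k (jmap k 1 p) = 0 := by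
        have : eps k (a - jmap k 1 p) = 0 := by
          have hmem : a - jmap k 1 p ∈ RingHom.ker (eps k).toRingHom := by
            have : II k 0 ≤ RingHom.ker (eps k).toRingHom := by
              rw [Ideal.span_le, Set.singleton_subset_iff]
              exact eps_xx k 0
            exact this h1
          exact hmem
        rw [map_sub, ha', zero_sub, neg_eq_zero] at this
        exact this
      rw [h3] at h4
      rw [hp', h4, map_zero, zero_add, map_mul]
      have : jmap k 1 Polynomial.X = xx k 1 := by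
        unfold jmap; rw [Polynomial.aeval_X]
      rw [this]
      exact Ideal.mul_mem_right _ _ (xx_mem_mm k 1)
    have h5 := Ideal.add_mem _ (II_le_mm k 0 h1) h2
    rwa [sub_add_cancel] at h5
  · rw [Ideal.span_le]
    rintro a (rfl | rfl)
    · exact eps_xx k 0
    · exact eps_xx k 1

instance mm_isMaximal : (mm k).IsMaximal := by
  rw [← ker_eps]
  apply RingHom.ker_isMaximal_of_surjective
  intro c
  exact ⟨algebraMap k (Nd k) c, by simp⟩

/-! ### the periodic resolution of the residue field -/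

def rk : ℕ → ℕ
  | 0 => 1
  | _ + 1 => 2

def pp (j : ℕ) : Fin 2 := if Even j then 1 else 0
def qq (j : ℕ) : Fin 2 := if Even j then 0 else 1

lemma pp_ne_qq (j : ℕ) : pp j ≠ qq j := by
  unfold pp qq; split_ifs <;> decide

lemma pp_succ (j : ℕ) : pp (j + 1) = qq j := by
  unfold pp qq
  by_cases h : Even j
  · rw [if_pos h, if_neg (by rw [Nat.even_add_one]; exact not_not.2 h)]
  · rw [if_neg h, if_pos (by rw [Nat.even_add_one]; exact h)]

lemma qq_succ (j : ℕ) : qq (j + 1) = pp j := by
  unfold pp qq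
  by_cases h : Even j
  · rw [if_pos h, if_neg (by rw [Nat.even_add_one]; exact not_not.2 h)]
  · rw [if_neg h, if_pos (by rw [Nat.even_add_one]; exact h)]

noncomputable def D (j : ℕ) : (Fin 2 → Nd k) →ₗ[Nd k] (Fin 2 → Nd k) where
  toFun v := ![xx k (pp j) * v 0, xx k (qq j) * v 1]
  map_add' v w := by
    ext i; fin_cases i <;> simp [mul_add]
  map_smul' c v := by
    ext i; fin_cases i <;> simp [mul_left_comm]

lemma D_apply (j : ℕ) (v : Fin 2 → Nd k) :
    D k j v = ![xx k (pp j) * v 0, xx k (qq j) * v 1] := rfl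

noncomputable def d0 : (Fin 2 → Nd k) →ₗ[Nd k] (Fin 1 → Nd k) where
  toFun v := fun _ => xx k 0 * v 0 + xx k 1 * v 1
  map_add' v w := by
    ext i; simp [mul_add]; ring
  map_smul' c v := by
    ext i; simp [mul_add, mul_left_comm]

lemma d0_apply (v : Fin 2 → Nd k) (i : Fin 1) : d0 k v i = xx k 0 * v 0 + xx k 1 * v 1 := rfl

noncomputable def dLin : (i : ℕ) → (Fin (rk (i + 1)) → Nd k) →ₗ[Nd k] (Fin (rk i) → Nd k)
  | 0 => d0 k
  | j + 1 => D k j

noncomputable def aug : (Fin 1 → Nd k) →ₗ[Nd k] (Nd k ⧸ mm k) :=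
  (Submodule.mkQ (mm k)).comp (LinearMap.proj 0)

lemma aug_apply (v : Fin 1 → Nd k) : aug k v = Ideal.Quotient.mk (mm k) (v 0) := rfl

lemma ker_D (j : ℕ) : LinearMap.ker (D k j) = LinearMap.range (D k (j + 1)) := by
  ext v
  rw [LinearMap.mem_ker, LinearMap.mem_range]
  constructor
  · intro h
    rw [D_apply] at h
    have h0 : xx k (pp j) * v 0 = 0 := by simpa using congrFun h 0
    have h1 : xx k (qq j) * v 1 = 0 := by simpa using congrFun h 1
    obtain ⟨w0, hw0⟩ := exists_mul_of_mul_eq_zero k (qq j) (pp j) (pp_ne_qq j).symm _ h0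
    obtain ⟨w1, hw1⟩ := exists_mul_of_mul_eq_zero k (pp j) (qq j) (pp_ne_qq j) _ h1
    refine ⟨![w0, w1], ?_⟩
    rw [D_apply, pp_succ, qq_succ]
    ext i; fin_cases i
    · simpa using hw0.symm
    · simpa using hw1.symm
  · rintro ⟨w, rfl⟩
    rw [D_apply, D_apply, pp_succ, qq_succ]
    ext i; fin_cases i
    · simp only [Fin.zero_eta, Fin.isValue, Matrix.cons_val_zero, Pi.zero_apply]
      rw [← mul_assoc, xx_mul k _ _ (pp_ne_qq j), zero_mul]
    · simp only [Fin.mk_one, Fin.isValue, Matrix.cons_val_one, Matrix.cons_val_zero, Pi.zero_apply]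
      rw [← mul_assoc, xx_mul k _ _ (pp_ne_qq j).symm, zero_mul]

lemma ker_d0 : LinearMap.ker (d0 k) = LinearMap.range (D k 0) := by
  ext v
  rw [LinearMap.mem_ker, LinearMap.mem_range]
  have hp0 : pp 0 = 1 := by simp [pp]
  have hq0 : qq 0 = 0 := by simp [qq]
  constructor
  · intro h
    have h0 : xx k 0 * v 0 + xx k 1 * v 1 = 0 := congrFun h 0
    have hv0 : v 0 ∈ II k 1 := by
      apply mem_II_of_F1_eq_zero k 1 0 (by decide)
      have := congrArg (F1 k 1 0 (by decide)) h0
      rw [map_add, map_mul, map_mul, F1_xx, F1_xx, if_pos rfl, if_neg (by decide), zero_mul,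
        add_zero, map_zero] at this
      rcases mul_eq_zero.1 this with h | h
      · exact absurd h Polynomial.X_ne_zero
      · exact h
    have hv1 : v 1 ∈ II k 0 := by
      apply mem_II_of_F1_eq_zero k 0 1 (by decide)
      have := congrArg (F1 k 0 1 (by decide)) h0
      rw [map_add, map_mul, map_mul, F1_xx, F1_xx, if_pos rfl, if_neg (by decide), zero_mul,
        zero_add, map_zero] at this
      rcases mul_eq_zero.1 this with h | h
      · exact absurd h Polynomial.X_ne_zero
      · exact h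
    obtain ⟨w0, hw0⟩ := Ideal.mem_span_singleton'.1 hv0
    obtain ⟨w1, hw1⟩ := Ideal.mem_span_singleton'.1 hv1
    refine ⟨![w0, w1], ?_⟩
    rw [D_apply, hp0, hq0]
    ext i; fin_cases i
    · simpa [mul_comm] using hw0
    · simpa [mul_comm] using hw1
  · rintro ⟨w, rfl⟩
    ext i
    rw [d0_apply, D_apply, hp0, hq0]
    simp only [Fin.isValue, Matrix.cons_val_zero, Matrix.cons_val_one, Pi.zero_apply]
    rw [← mul_assoc, ← mul_assoc, xx_mul k 0 1 (by decide), xx_mul k 1 0 (by decide), zero_mul,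
      zero_mul, add_zero]

lemma ker_aug : LinearMap.ker (aug k) = LinearMap.range (d0 k) := by
  ext v
  rw [LinearMap.mem_ker, LinearMap.mem_range, aug_apply, Ideal.Quotient.eq_zero_iff_mem,
    Ideal.mem_span_pair]
  constructor
  · rintro ⟨a, b, hab⟩
    refine ⟨![a, b], ?_⟩
    ext i
    have : i = 0 := Subsingleton.elim _ _
    subst this
    rw [d0_apply, ← hab]
    simp [mul_comm]
  · rintro ⟨w, rfl⟩
    exact ⟨w 0, w 1, by rw [d0_apply]; ring⟩

noncomputable def res : Res (Nd k) (Nd k ⧸ mm k) where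
  rk := rk
  dLin := dLin k
  augLin := aug k
  aug_surjective := by
    intro z
    obtain ⟨a, rfl⟩ := Ideal.Quotient.mk_surjective z
    exact ⟨fun _ => a, rfl⟩
  exact_zero := ker_aug k
  exact_succ := by
    intro i
    cases i with
    | zero => exact ker_d0 k
    | succ j => exact ker_D k j

lemma res_minimal : (res k).IsMinimal (mm k) := by
  intro i v a
  cases i with
  | zero =>
    change d0 k v a ∈ mm k
    rw [d0_apply]
    exact Ideal.add_mem _ (Ideal.mul_mem_right _ _ (xx_mem_mm k 0))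
      (Ideal.mul_mem_right _ _ (xx_mem_mm k 1))
  | succ j =>
    change D k j v a ∈ mm k
    rw [D_apply]
    fin_cases a
    · exact Ideal.mul_mem_right _ _ (xx_mem_mm k _)
    · exact Ideal.mul_mem_right _ _ (xx_mem_mm k _)

theorem part1 (i : ℕ) (hi : 1 ≤ i) :
    Module.length (Nd k) (((Tor (ModuleCat.{u} (Nd k)) i).obj (ModuleCat.of (Nd k) (Nd k ⧸ mm k))).obj
      (ModuleCat.of (Nd k) (Nd k ⧸ mm k))) = 2 := by
  rw [(res k).length_tor (res_minimal k) i]
  obtain ⟨j, rfl⟩ : ∃ j, i = j + 1 := ⟨i - 1, by omega⟩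
  rfl

theorem part2 (n : ℕ) :
    ¬ HasProjectiveDimensionLT (ModuleCat.of (Nd k) (Nd k ⧸ mm k)) n := by
  intro h
  have h2 : HasProjectiveDimensionLT (ModuleCat.of (Nd k) (Nd k ⧸ mm k)) (n + 2) :=
    hasProjectiveDimensionLT_of_ge _ n (n + 2) (by omega)
  have hproj := ((res k).pdLT_succ_succ_iff n).1 h2
  obtain ⟨r, hr, hkill⟩ := (res k).exists_kill_of_projective (res_minimal k) n hproj
  have hz : D k n ![1, 0] ∈ LinearMap.range ((res k).dLin (n + 1)) := ⟨![1, 0], rfl⟩
  have h3 : r • D k n ![1, 0] = 0 := hkill _ hz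
  have h4 : r * xx k (pp n) = 0 := by
    have := congrFun h3 (0 : Fin 2)
    rw [D_apply] at this
    simpa using this
  have h5 : r ∈ II k (qq n) :=
    mem_II_of_mul_eq_zero k (qq n) (pp n) (pp_ne_qq n).symm r (by rw [mul_comm]; exact h4)
  have h6 : r ∈ mm k := II_le_mm k _ h5
  have h7 : (1 : Nd k) ∈ mm k := by
    have := Ideal.sub_mem _ h6 hr
    rwa [sub_sub_cancel] at this
  exact (mm_isMaximal k).ne_top ((Ideal.eq_top_iff_one _).2 h7)

end node



/-- Let k be a field, A = k[x, y]/(xy) (x = X_0, y = X_1) and κ = A/(x, y) the residue field at the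
origin, viewed as an A-module. Then for every i ≥ 1 the A-module Tor_i^A(κ, κ) has length 2 (it is a
two-dimensional κ-vector space; Tor_0 is κ), and κ admits no finite projective resolution over A:
for no n is its projective dimension less than n. -/
theorem result (k : Type u) [Field k] :
    (∀ i : ℕ, 1 ≤ i →
      Module.length (MvPolynomial (Fin 2) k ⧸ Ideal.span {(MvPolynomial.X 0 * MvPolynomial.X 1 : MvPolynomial (Fin 2) k)}) ((((Tor (ModuleCat.{u} (MvPolynomial (Fin 2) k ⧸ Ideal.span {(MvPolynomial.X 0 * MvPolynomial.X 1 : MvPolynomial (Fin 2) k)})) i).obj (ModuleCat.of (MvPolynomial (Fin 2) k ⧸ Ideal.span {(MvPolynomial.X 0 * MvPolynomial.X 1 : MvPolynomial (Fin 2) k)}) ((MvPolynomial (Fin 2) k ⧸ Ideal.span {(MvPolynomial.X 0 * MvPolynomial.X 1 : MvPolynomial (Fin 2) k)}) ⧸ Ideal.span {Ideal.Quotient.mk (Ideal.span {(MvPolynomial.X 0 * MvPolynomial.X 1 : MvPolynomial (Fin 2) k)}) (MvPolynomial.X 0), Ideal.Quotient.mk (Ideal.span {(MvPolynomial.X 0 * MvPolynomial.X 1 :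 MvPolynomial (Fin 2) k)}) (MvPolynomial.X 1)}))).obj (ModuleCat.of (MvPolynomial (Fin 2) k ⧸ Ideal.span {(MvPolynomial.X 0 * MvPolynomial.X 1 : MvPolynomial (Fin 2) k)}) ((MvPolynomial (Fin 2) k ⧸ Ideal.span {(MvPolynomial.X 0 * MvPolynomial.X 1 : MvPolynomial (Fin 2) k)}) ⧸ Ideal.span {Ideal.Quotient.mk (Ideal.span {(MvPolynomial.X 0 * MvPolynomial.X 1 : MvPolynomial (Fin 2) k)}) (MvPolynomial.X 0), Ideal.Quotient.mk (Ideal.span {(MvPolynomial.X 0 * MvPolynomial.X 1 : MvPolynomial (Fin 2) k)}) (MvPolynomial.X 1)}))) : Type u) = 2) ∧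
    ∀ n : ℕ, ¬ HasProjectiveDimensionLT (ModuleCat.of (MvPolynomial (Fin 2) k ⧸ Ideal.span {(MvPolynomial.X 0 * MvPolynomial.X 1 : MvPolynomial (Fin 2) k)}) ((MvPolynomial (Fin 2) k ⧸ Ideal.span {(MvPolynomial.X 0 * MvPolynomial.X 1 : MvPolynomial (Fin 2) k)}) ⧸ Ideal.span {Ideal.Quotient.mk (Ideal.span {(MvPolynomial.X 0 * MvPolynomial.X 1 : MvPolynomial (Fin 2) k)}) (MvPolynomial.X 0), Ideal.Quotient.mk (Ideal.span {(MvPolynomial.X 0 * MvPolynomial.X 1 : MvPolynomial (Fin 2) k)}) (MvPolynomial.X 1)})) n := by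
  exact ⟨fun i hi => part1 k i hi, fun n => part2 k n⟩

end Groth.Agent.S16243
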