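import Groth.Statements.S16244
import Mathlib

set_option autoImplicit false
universe u
open Curves

namespace Groth.Agent.S16244

/-- Let k be an algebraically closed field in which 2 and 3 are nonzero, and W a short Weierstrass
equation y² = x³ + a₄x + a₆ over k with nonzero discriminant. The admissible changes of variables
(u, r, s, t) that fix W form a cyclic group, of order 6 when a₄ = 0, of order 4 when a₆ = 0, and of
order 2 when a₄ and a₆ are both nonzero. (The published statement says the automorphism group of the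
elliptic curve is cyclic of order 2, 4 or 6; the automorphisms are rendered here as the changes of
variables preserving the equation, and the case distinction is the one the computation gives.) -/
theorem result
    (k : Type u) [Field k] [IsAlgClosed k] (h2 : (2 : k) ≠ 0) (h3 : (3 : k) ≠ 0)
    (W : WeierstrassCurve k) [W.IsShortNF] (hΔ : W.Δ ≠ 0) :
    IsCyclic ↥(MulAction.stabilizer (WeierstrassCurve.VariableChange k) W) ∧
      (W.a₄ = 0 → Nat.card ↥(MulAction.stabilizer (WeierstrassCurve.VariableChange k) W) = 6) ∧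
      (W.a₆ = 0 → Nat.card ↥(MulAction.stabilizer (WeierstrassCurve.VariableChange k) W) = 4) ∧
      (W.a₄ ≠ 0 → W.a₆ ≠ 0 → Nat.card ↥(MulAction.stabilizer (WeierstrassCurve.VariableChange k) W) = 2) := by
  classical
  have ha1 : W.a₁ = 0 := W.a₁_of_isShortNF
  have ha2 : W.a₂ = 0 := W.a₂_of_isShortNF
  have ha3 : W.a₃ = 0 := W.a₃_of_isShortNF
  -- characterization of the stabilizer
  have hmem : ∀ C : WeierstrassCurve.VariableChange k,
      C ∈ MulAction.stabilizer (WeierstrassCurve.VariableChange k) W ↔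
        C.r = 0 ∧ C.s = 0 ∧ C.t = 0 ∧ ((C.u⁻¹ : kˣ) : k) ^ 4 * W.a₄ = W.a₄ ∧
          ((C.u⁻¹ : kˣ) : k) ^ 6 * W.a₆ = W.a₆ := by
    intro C
    rw [MulAction.mem_stabilizer_iff]
    have hu : ((C.u⁻¹ : kˣ) : k) ≠ 0 := Units.ne_zero _
    constructor
    · intro h
      have e1 := congrArg WeierstrassCurve.a₁ h
      have e2 := congrArg WeierstrassCurve.a₂ h
      have e3 := congrArg WeierstrassCurve.a₃ h
      have e4 := congrArg WeierstrassCurve.a₄ h
      have e6 := congrArg WeierstrassCurve.a₆ h
      rw [WeierstrassCurve.variableChange_a₁, ha1] at e1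
      rw [WeierstrassCurve.variableChange_a₂, ha1, ha2] at e2
      rw [WeierstrassCurve.variableChange_a₃, ha1, ha3] at e3
      rw [WeierstrassCurve.variableChange_a₄, ha1, ha2, ha3] at e4
      rw [WeierstrassCurve.variableChange_a₆, ha1, ha2, ha3] at e6
      have hs : C.s = 0 := by
        rcases mul_eq_zero.mp e1 with h | h
        · exact absurd h hu
        · rw [zero_add] at h
          exact (mul_eq_zero.mp h).resolve_left h2
      have hr : C.r = 0 := by
        rcases mul_eq_zero.mp e2 with h | h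
        · exact absurd (pow_eq_zero_iff (by norm_num) |>.mp h) hu
        · rw [hs] at h
          have : 3 * C.r = 0 := by linear_combination h
          exact (mul_eq_zero.mp this).resolve_left h3
      have ht : C.t = 0 := by
        rcases mul_eq_zero.mp e3 with h | h
        · exact absurd (pow_eq_zero_iff (by norm_num) |>.mp h) hu
        · rw [hr] at h
          have : 2 * C.t = 0 := by linear_combination h
          exact (mul_eq_zero.mp this).resolve_left h2
      refine ⟨hr, hs, ht, ?_, ?_⟩
      · rw [hr, hs, ht] at e4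
        linear_combination e4
      · rw [hr, ht] at e6
        linear_combination e6
    · rintro ⟨hr, hs, ht, h4, h6⟩
      ext
      · rw [WeierstrassCurve.variableChange_a₁, ha1, hs]; ring
      · rw [WeierstrassCurve.variableChange_a₂, ha1, ha2, hs, hr]; ring
      · rw [WeierstrassCurve.variableChange_a₃, ha1, ha3, hr, ht]; ring
      · rw [WeierstrassCurve.variableChange_a₄, ha1, ha2, ha3, hr, hs, ht]
        linear_combination h4
      · rw [WeierstrassCurve.variableChange_a₆, ha1, ha2, ha3, hr, ht]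
        linear_combination h6
  have hpow : ∀ (v : kˣ) (n : ℕ), ((v⁻¹ : kˣ) : k) ^ n = 1 ↔ v ^ n = 1 := by
    intro v n
    rw [← Units.val_pow_eq_pow_val, Units.val_eq_one, inv_pow, inv_eq_one]
  -- the injective character
  obtain ⟨f, hf⟩ : ∃ f : ↥(MulAction.stabilizer (WeierstrassCurve.VariableChange k) W) →* k,
      ∀ C, f C = (C.1.u : k) :=
    ⟨{ toFun := fun C => (C.1.u : k)
       map_one' := rfl
       map_mul' := fun C C' => by
        show (((C.1 * C'.1).u : kˣ) : k) = _
        rw [WeierstrassCurve.VariableChange.mul_def, Units.val_mul] }, fun _ => rfl⟩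
  have hfinj : Function.Injective f := by
    intro C C' h
    rw [hf, hf] at h
    obtain ⟨hr, hs, ht, -, -⟩ := (hmem C.1).mp C.2
    obtain ⟨hr', hs', ht', -, -⟩ := (hmem C'.1).mp C'.2
    apply Subtype.ext
    ext
    · exact h
    · rw [hr, hr']
    · rw [hs, hs']
    · rw [ht, ht']
  have key : ∀ n : ℕ, (n : k) ≠ 0 →
      (∀ v : kˣ, (((v⁻¹ : kˣ) : k) ^ 4 * W.a₄ = W.a₄ ∧ ((v⁻¹ : kˣ) : k) ^ 6 * W.a₆ = W.a₆) ↔
        v ^ n = 1) →
      Nat.card ↥(MulAction.stabilizer (WeierstrassCurve.VariableChange k) W) = n := by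
    intro n hn hH
    have : NeZero (n : k) := ⟨hn⟩
    have : NeZero n := .of_neZero_natCast k
    rw [← HasEnoughRootsOfUnity.natCard_rootsOfUnity k n]
    apply Nat.card_congr
    exact {
      toFun := fun C => ⟨C.1.u, (mem_rootsOfUnity _ _).mpr ((hH _).mp
        ⟨((hmem C.1).mp C.2).2.2.2.1, ((hmem C.1).mp C.2).2.2.2.2⟩)⟩
      invFun := fun v => ⟨⟨v.1, 0, 0, 0⟩, (hmem _).mpr ⟨rfl, rfl, rfl,
        ((hH v.1).mpr ((mem_rootsOfUnity _ _).mp v.2)).1,
        ((hH v.1).mpr ((mem_rootsOfUnity _ _).mp v.2)).2⟩⟩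
      left_inv := fun C => by
        apply Subtype.ext
        obtain ⟨hr, hs, ht, -, -⟩ := (hmem C.1).mp C.2
        ext
        · rfl
        · exact hr.symm
        · exact hs.symm
        · exact ht.symm
      right_inv := fun v => rfl }
  have hcyc : ∀ n : ℕ, n ≠ 0 →
      Nat.card ↥(MulAction.stabilizer (WeierstrassCurve.VariableChange k) W) = n →
      IsCyclic ↥(MulAction.stabilizer (WeierstrassCurve.VariableChange k) W) := by
    intro n hn hcard
    have : Finite ↥(MulAction.stabilizer (WeierstrassCurve.VariableChange k) W) :=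
      Nat.finite_of_card_ne_zero (by rw [hcard]; exact hn)
    exact isCyclic_of_injective_ringHom f hfinj
  have hΔ' : ¬ (W.a₄ = 0 ∧ W.a₆ = 0) := by
    rintro ⟨h4, h6⟩
    apply hΔ
    rw [W.Δ_of_isShortNF, h4, h6]
    ring
  have h6k : ((6 : ℕ) : k) ≠ 0 := by
    have : ((6 : ℕ) : k) = 2 * 3 := by norm_num
    rw [this]
    exact mul_ne_zero h2 h3
  have h4k : ((4 : ℕ) : k) ≠ 0 := by
    have : ((4 : ℕ) : k) = 2 * 2 := by norm_num
    rw [this]
    exact mul_ne_zero h2 h2
  have h2k : ((2 : ℕ) : k) ≠ 0 := by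
    have : ((2 : ℕ) : k) = 2 := by norm_num
    rw [this]
    exact h2
  have c6 : W.a₄ = 0 → Nat.card ↥(MulAction.stabilizer (WeierstrassCurve.VariableChange k) W) = 6 := by
    intro h4
    have h6 : W.a₆ ≠ 0 := fun h => hΔ' ⟨h4, h⟩
    apply key 6 h6k
    intro v
    rw [← hpow v 6, h4, mul_zero]
    constructor
    · rintro ⟨-, h⟩
      exact mul_right_cancel₀ h6 (by rw [h, one_mul])
    · intro h
      exact ⟨rfl, by rw [h, one_mul]⟩
  have c4 : W.a₆ = 0 → Nat.card ↥(MulAction.stabilizer (WeierstrassCurve.VariableChange k) W) = 4 := by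
    intro h6
    have h4 : W.a₄ ≠ 0 := fun h => hΔ' ⟨h, h6⟩
    apply key 4 h4k
    intro v
    rw [← hpow v 4, h6, mul_zero]
    constructor
    · rintro ⟨h, -⟩
      exact mul_right_cancel₀ h4 (by rw [h, one_mul])
    · intro h
      exact ⟨by rw [h, one_mul], rfl⟩
  have c2 : W.a₄ ≠ 0 → W.a₆ ≠ 0 →
      Nat.card ↥(MulAction.stabilizer (WeierstrassCurve.VariableChange k) W) = 2 := by
    intro h4 h6
    apply key 2 h2k
    intro v
    rw [← hpow v 2]
    obtain ⟨w, hw⟩ : ∃ w : k, w = ((v⁻¹ : kˣ) : k) := ⟨_, rfl⟩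
    rw [← hw]
    have hw0 : w ≠ 0 := by rw [hw]; exact Units.ne_zero _
    constructor
    · rintro ⟨e4, e6⟩
      have e4' : w ^ 4 = 1 := mul_right_cancel₀ h4 (by rw [e4, one_mul])
      have e6' : w ^ 6 = 1 := mul_right_cancel₀ h6 (by rw [e6, one_mul])
      have : w ^ 6 = w ^ 4 * w ^ 2 := by ring
      rw [this, e4', one_mul] at e6'
      exact e6'
    · intro h
      have e4' : w ^ 4 = 1 := by
        have : w ^ 4 = (w ^ 2) ^ 2 := by ring
        rw [this, h, one_pow]
      have e6' : w ^ 6 = 1 := by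
        have : w ^ 6 = (w ^ 2) ^ 3 := by ring
        rw [this, h, one_pow]
      exact ⟨by rw [e4', one_mul], by rw [e6', one_mul]⟩
  refine ⟨?_, c6, c4, c2⟩
  by_cases h4 : W.a₄ = 0
  · exact hcyc 6 (by norm_num) (c6 h4)
  · by_cases h6 : W.a₆ = 0
    · exact hcyc 4 (by norm_num) (c4 h6)
    · exact hcyc 2 (by norm_num) (c2 h4 h6)

end Groth.Agent.S16244
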