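import Groth.Statements.S16253
import Mathlib
import Groth.Agent.S7634
import Groth.Agent.Lib.Helper7.OmegaFitt

set_option autoImplicit false
universe u
open CategoryTheory CategoryTheory.Limits AlgebraicGeometry TopologicalSpace
open SDiv

namespace Groth.Agent.S16253

open scoped TensorProduct
open Groth.Agent.Lib.helper7 Groth.Agent.Lib.helper16.CohFinite Groth.Agent.Lib.helper16.CohStalk

theorem alg_fwd (A B : Type u) [CommRing A] [CommRing B] [Algebra A B] [Algebra.FiniteType A B]
    (q : Ideal B) [q.IsPrime] (p : ℕ) (d : B) (hd : d ∉ q) (g : Fin p → Ω[B⁄A])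
    (hg : ∀ m : Ω[B⁄A], d • m ∈ Submodule.span B (Set.range g)) :
    ∃ g' : B, g' ∉ q ∧ ∃ (D : Type u) (_ : CommRing D) (_ : Algebra A D),
      Algebra.IsStandardSmoothOfRelativeDimension p A D ∧
        ∃ φ : D →ₐ[A] Localization.Away g', Function.Surjective φ := by
  set K := q.ResidueField with hK
  have hspan : Submodule.span K (Set.range fun i => (1 : K) ⊗ₜ[B] g i) = ⊤ := by
    have h1 : (Set.range fun i => (1 : K) ⊗ₜ[B] g i) =
        TensorProduct.mk B K Ω[B⁄A] 1 '' Set.range g := by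
      rw [← Set.range_comp]; rfl
    rw [h1, ← Submodule.baseChange_span, eq_top_iff]
    rintro x -
    induction x using TensorProduct.induction_on with
    | zero => exact zero_mem _
    | add x y hx hy => exact add_mem hx hy
    | tmul k m =>
      have hdK : algebraMap B K d ≠ 0 := by
        rwa [Ne, Ideal.algebraMap_residueField_eq_zero]
      have h2 : k ⊗ₜ[B] m = (k * (algebraMap B K d)⁻¹) • ((1 : K) ⊗ₜ[B] (d • m)) := by
        rw [TensorProduct.tmul_smul, TensorProduct.smul_tmul', TensorProduct.smul_tmul',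
          smul_eq_mul, Algebra.smul_def, mul_one, mul_assoc, inv_mul_cancel₀ hdK, mul_one]
      rw [h2]
      exact Submodule.smul_mem _ _ (Submodule.tmul_mem_baseChange_of_mem _ (hg m))
  have hle : Module.finrank K (K ⊗[B] Ω[B⁄A]) ≤ p := by
    have := finrank_range_le_card (R := K) (fun i => (1 : K) ⊗ₜ[B] g i)
    rw [Set.finrank, hspan, finrank_top, Fintype.card_fin] at this
    exact this
  obtain ⟨g', hg', D, _, _, hD, φ, hφ⟩ := Groth.Agent.S7634.result A B q _ rfl
  refine ⟨g', hg', ?_⟩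
  set r := Module.finrank K (K ⊗[B] Ω[B⁄A]) with hr
  haveI : Nontrivial (Localization.Away g') :=
    Groth.Agent.Lib.helper15.FittLink.nontrivial_away_of_notMem q hg'
  haveI : Nontrivial D := φ.toRingHom.domain_nontrivial
  haveI := Groth.Agent.S7634.isStandardSmoothOfRelativeDimension_mvPolynomial D (p - r)
  have hD' : Algebra.IsStandardSmoothOfRelativeDimension p A (MvPolynomial (Fin (p - r)) D) := by
    have := Algebra.IsStandardSmoothOfRelativeDimension.trans (n := r) (m := p - r) A D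
      (MvPolynomial (Fin (p - r)) D)
    rwa [Nat.sub_add_cancel hle] at this
  refine ⟨MvPolynomial (Fin (p - r)) D, inferInstance, inferInstance, hD', ?_⟩
  refine ⟨φ.comp ((MvPolynomial.aeval (fun _ => (0 : D)) :
    MvPolynomial (Fin (p - r)) D →ₐ[D] D).restrictScalars A), ?_⟩
  intro z
  obtain ⟨y, rfl⟩ := hφ z
  exact ⟨MvPolynomial.C y, by simp⟩

theorem alg_bwd (A D B : Type u) [CommRing A] [CommRing D] [CommRing B] [Algebra A D]
    [Algebra A B] (θ : D →ₐ[A] B) (hθ : Function.Surjective θ) (p : ℕ)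
    [Algebra.IsStandardSmoothOfRelativeDimension p A D] :
    ∃ g : Fin p → Ω[B⁄A], Submodule.span B (Set.range g) = ⊤ := by
  letI := θ.toRingHom.toAlgebra
  haveI : IsScalarTower A D B := IsScalarTower.of_algebraMap_eq' (by
    ext a; exact (θ.commutes a).symm)
  haveI : Algebra.IsStandardSmooth A D :=
    Algebra.IsStandardSmoothOfRelativeDimension.isStandardSmooth p
  by_cases hD : Nontrivial D
  · have hrank := Algebra.IsStandardSmoothOfRelativeDimension.rank_kaehlerDifferential
      (R := A) (S := D) p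
    have hfin : Module.finrank D Ω[D⁄A] = p := by
      rw [Module.finrank, hrank]; simp
    have b : Module.Basis (Fin p) D Ω[D⁄A] := Module.finBasisOfFinrankEq D Ω[D⁄A] hfin
    refine ⟨fun i => KaehlerDifferential.map A A D B (b i), ?_⟩
    have hsurj : Function.Surjective (KaehlerDifferential.map A A D B) :=
      KaehlerDifferential.map_surjective_of_surjective A A D B hθ
    rw [eq_top_iff]
    rintro x -
    obtain ⟨y, rfl⟩ := hsurj x
    have hy : y ∈ Submodule.span D (Set.range b) := by rw [b.span_eq]; trivial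
    induction hy using Submodule.span_induction with
    | mem z hz =>
      obtain ⟨i, rfl⟩ := hz
      exact Submodule.subset_span ⟨i, rfl⟩
    | zero => simp
    | add x y _ _ hx hy => rw [map_add]; exact add_mem hx hy
    | smul a x _ hx =>
      rw [LinearMap.map_smul_of_tower, ← algebraMap_smul B a]
      exact Submodule.smul_mem _ _ hx
  · rw [not_nontrivial_iff_subsingleton] at hD
    haveI : Subsingleton B := by
      refine ⟨fun a b => ?_⟩
      obtain ⟨a', rfl⟩ := hθ a
      obtain ⟨b', rfl⟩ := hθ b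
      rw [Subsingleton.elim a' b']
    haveI : Subsingleton Ω[B⁄A] := Module.subsingleton B _
    exact ⟨fun _ => 0, Subsingleton.elim _ _⟩

set_option backward.isDefEq.respectTransparency.types false in
theorem fwd {X Y : Scheme.{u}} (f : X ⟶ Y) [LocallyOfFinitePresentation f] [QuasiSeparated f]
    (p : ℕ) (x : ↥X) (hx : x ∉ (Fitt.sheafIdeal (Omega.sheaf f) p).support) :
    ∃ (U : X.Opens) (U' : Scheme.{u}) (i : (U : Scheme.{u}) ⟶ U') (g : U' ⟶ Y),
        x ∈ U ∧ IsClosedImmersion i ∧ SmoothOfRelativeDimension p g ∧ i ≫ g = U.ι ≫ f := by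
  haveI : (Omega.sheaf f).IsQuasicoherent := OmegaAffine.omega_qcoh f
  have hft := OmegaFitt.omega_isFiniteType f
  obtain ⟨W, hW, hxW, -⟩ := Opens.isBasis_iff_nbhd.mp Y.isBasis_affineOpens
      (show f x ∈ (⊤ : Y.Opens) from trivial)
  obtain ⟨V, hV, hxV, hVW⟩ := Opens.isBasis_iff_nbhd.mp X.isBasis_affineOpens
      (show x ∈ f ⁻¹ᵁ W from hxW)
  haveI : Module.Finite Γ(X, V) Γ(Omega.sheaf f, V) :=
      finite_sections_of_isFiniteType (Omega.sheaf f) hft hV
  rw [FittSheaf.mem_support_iff (Omega.sheaf f) hft p hV x hxV, FittSheaf.not_le_prime_iff'] at hx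
  obtain ⟨d, hd, g₀, hg₀⟩ := hx
  letI := (f.appLE W V hVW).hom.toAlgebra
  obtain ⟨ψ, -⟩ := OmegaStruct.exists_sectionsEquiv f (OmegaSh.dOmega f)
    (OmegaUniv.isUniversal_dOmega f) hV hW hVW
  haveI : Algebra.FiniteType Γ(Y, W) Γ(X, V) :=
      HasRingHomProperty.appLE (P := @LocallyOfFiniteType) f inferInstance ⟨W, hW⟩ ⟨V, hV⟩ hVW
  obtain ⟨g', hg', D, _, _, hD, φ, hφ⟩ := alg_fwd Γ(Y, W) Γ(X, V)
    (hV.primeIdealOf ⟨x, hxV⟩).asIdeal p d hd (fun i => ψ (g₀ i)) (by
      intro m
      obtain ⟨m', rfl⟩ := ψ.surjective m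
      rw [← map_smul]
      have h2 : ψ (d • m') ∈ Submodule.map ψ.toLinearMap (Submodule.span _ (Set.range g₀)) :=
        ⟨_, hg₀ m', rfl⟩
      rwa [Submodule.map_span, ← Set.range_comp] at h2)
  have hU : IsAffineOpen (X.basicOpen g') := hV.basicOpen g'
  have hxU : x ∈ X.basicOpen g' := (FittSheaf.mem_basicOpen_iff hV ⟨x, hxV⟩ g').mpr hg'
  haveI : IsLocalization.Away g' Γ(X, X.basicOpen g') := hV.isLocalization_basicOpen g'
  let e : Localization.Away g' ≃ₐ[Γ(X, V)] Γ(X, X.basicOpen g') :=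
    IsLocalization.algEquiv (Submonoid.powers g') _ _
  let ρ : D →+* Γ(X, X.basicOpen g') := e.toRingEquiv.toRingHom.comp φ.toRingHom
  have hρ : Function.Surjective ρ := e.surjective.comp hφ
  have hUW : X.basicOpen g' ≤ f ⁻¹ᵁ W := (X.basicOpen_le g').trans hVW
  have hcomp : CommRingCat.ofHom (algebraMap Γ(Y, W) D) ≫ CommRingCat.ofHom ρ =
      f.appLE W (X.basicOpen g') hUW := by
    rw [← f.appLE_map hVW (homOfLE (X.basicOpen_le g')).op]
    ext a
    change e (φ (algebraMap Γ(Y, W) D a)) = algebraMap Γ(X, V) Γ(X, X.basicOpen g')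
      (algebraMap Γ(Y, W) Γ(X, V) a)
    rw [φ.commutes, IsScalarTower.algebraMap_apply Γ(Y, W) Γ(X, V) (Localization.Away g'),
      e.commutes]
  refine ⟨X.basicOpen g', Spec (CommRingCat.of D),
    hU.isoSpec.hom ≫ Spec.map (CommRingCat.ofHom ρ),
    Spec.map (CommRingCat.ofHom (algebraMap Γ(Y, W) D)) ≫ hW.fromSpec, hxU, ?_, ?_, ?_⟩
  · haveI := IsClosedImmersion.spec_of_surjective (CommRingCat.ofHom ρ) hρ
    infer_instance
  · haveI : SmoothOfRelativeDimension p (Spec.map (CommRingCat.ofHom (algebraMap Γ(Y, W) D))) := by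
      rw [HasRingHomProperty.Spec_iff (P := @SmoothOfRelativeDimension p)]
      exact RingHom.locally_of RingHom.isStandardSmoothOfRelativeDimension_respectsIso _
        ((RingHom.isStandardSmoothOfRelativeDimension_algebraMap p).mpr hD)
    exact inferInstanceAs (SmoothOfRelativeDimension (p + 0) _)
  · rw [Category.assoc, ← Spec.map_comp_assoc, hcomp, IsAffineOpen.SpecMap_appLE_fromSpec f hW hU,
      IsAffineOpen.isoSpec_hom_fromSpec_assoc]

set_option backward.isDefEq.respectTransparency.types false in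
theorem bwd {X Y : Scheme.{u}} (f : X ⟶ Y) [LocallyOfFinitePresentation f] [QuasiSeparated f]
    (p : ℕ) (x : ↥X) (U : X.Opens) (U' : Scheme.{u}) (i : (U : Scheme.{u}) ⟶ U') (g : U' ⟶ Y)
    (hxU : x ∈ U) [IsClosedImmersion i] [SmoothOfRelativeDimension p g]
    (hig : i ≫ g = U.ι ≫ f) :
    x ∉ (Fitt.sheafIdeal (Omega.sheaf f) p).support := by
  haveI : (Omega.sheaf f).IsQuasicoherent := OmegaAffine.omega_qcoh f
  have hft := OmegaFitt.omega_isFiniteType f
  obtain ⟨W, hW, V', hV', hyV', e, hstd⟩ :=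
    SmoothOfRelativeDimension.exists_isStandardSmoothOfRelativeDimension (n := p) (f := g)
      (i ⟨x, hxU⟩)
  have hT : IsAffineOpen (i ⁻¹ᵁ V') := hV'.preimage i
  set V : X.Opens := U.ι ''ᵁ (i ⁻¹ᵁ V') with hVdef
  have hV : IsAffineOpen V := hT.image_of_isOpenImmersion U.ι
  have hxV : x ∈ V := ⟨⟨x, hxU⟩, hyV', rfl⟩
  have hVW : V ≤ f ⁻¹ᵁ W := by
    rintro _ ⟨z, hz, rfl⟩
    have h1 : f (U.ι z) = g (i z) := by
      rw [← Scheme.Hom.comp_apply, ← Scheme.Hom.comp_apply, hig]
    show f (U.ι z) ∈ W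
    rw [h1]
    exact e hz
  rw [FittSheaf.mem_support_iff (Omega.sheaf f) hft p hV x hxV]
  haveI : Module.Finite Γ(X, V) Γ(Omega.sheaf f, V) :=
      finite_sections_of_isFiniteType (Omega.sheaf f) hft hV
  rw [FittSheaf.not_le_prime_iff']
  refine ⟨1, fun h => (hV.primeIdealOf ⟨x, hxV⟩).isPrime.ne_top
    ((Ideal.eq_top_iff_one _).mpr h), ?_⟩
  letI := (f.appLE W V hVW).hom.toAlgebra
  obtain ⟨ψ, -⟩ := OmegaStruct.exists_sectionsEquiv f (OmegaSh.dOmega f)
    (OmegaUniv.isUniversal_dOmega f) hV hW hVW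
  letI := (g.appLE W V' e).hom.toAlgebra
  haveI : Algebra.IsStandardSmoothOfRelativeDimension p Γ(Y, W) Γ(U', V') := hstd
  let θ₀ : Γ(U', V') ⟶ Γ(X, V) := i.app V' ≫ (U.ι.appIso (i ⁻¹ᵁ V')).inv
  have key : ∀ (h h' : (U : Scheme.{u}) ⟶ Y) (hh : h = h') e1 e2,
      h.appLE W (i ⁻¹ᵁ V') e1 = h'.appLE W (i ⁻¹ᵁ V') e2 := by
    rintro h _ rfl _ _; rfl
  have hθ₀ : g.appLE W V' e ≫ θ₀ = f.appLE W V hVW := by
    rw [← Category.assoc, Iso.comp_inv_eq, Scheme.Hom.app_eq_appLE, Scheme.Hom.appIso_hom',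
      Scheme.Hom.appLE_comp_appLE, Scheme.Hom.appLE_comp_appLE]
    exact key _ _ hig _ _
  have hsurj : Function.Surjective θ₀ := by
    have h1 : Function.Surjective (i.app V') := i.app_surjective V' hV'
    have h2 : Function.Surjective (U.ι.appIso (i ⁻¹ᵁ V')).inv :=
      (ConcreteCategory.bijective_of_isIso (U.ι.appIso (i ⁻¹ᵁ V')).inv).2
    exact h2.comp h1
  let θ : Γ(U', V') →ₐ[Γ(Y, W)] Γ(X, V) :=
    { θ₀.hom with
      commutes' := fun a => by
        have := congrArg (fun h => h.hom a) hθ₀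
        exact this }
  obtain ⟨g₁, hg₁⟩ := alg_bwd Γ(Y, W) Γ(U', V') Γ(X, V) θ hsurj p
  refine ⟨fun k => ψ.symm (g₁ k), fun m => ?_⟩
  rw [one_smul]
  have h2 : ψ m ∈ Submodule.span Γ(X, V) (Set.range g₁) := by rw [hg₁]; trivial
  have h3 : ψ.symm (ψ m) ∈ Submodule.map ψ.symm.toLinearMap
      (Submodule.span Γ(X, V) (Set.range g₁)) := ⟨_, h2, rfl⟩
  rwa [Submodule.map_span, ← Set.range_comp, ψ.symm_apply_apply] at h3

/-- Let f : X ⟶ Y be locally of finite presentation and quasi-separated and p ≥ 0, and let J^p(X/Y) ⊆ X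
be the closed subset cut out by the p-th Fitting ideal of the module of differentials Ω_{X/Y} (the
p-th Jacobian locus). Then a point x of X lies outside J^p(X/Y) if and only if x has an open
neighbourhood U admitting a closed immersion over Y into a Y-scheme U' which is smooth of relative
dimension p over Y. (The published statement takes f of finite presentation and asks U' smooth over
Y with fibre dimension p at x; after shrinking U' this is smoothness of relative dimension p.
Quasi-separatedness of f is assumed because the module Ω_{X/Y} used here is defined for such f.) -/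
theorem result
    {X Y : Scheme.{u}} (f : X ⟶ Y) [LocallyOfFinitePresentation f] [QuasiSeparated f] (p : ℕ) (x : ↥X) :
    x ∉ (Fitt.sheafIdeal (Omega.sheaf f) p).support ↔
      ∃ (U : X.Opens) (U' : Scheme.{u}) (i : (U : Scheme.{u}) ⟶ U') (g : U' ⟶ Y),
        x ∈ U ∧ IsClosedImmersion i ∧ SmoothOfRelativeDimension p g ∧ i ≫ g = U.ι ≫ f := by
  constructor
  · exact fwd f p x
  · rintro ⟨U, U', i, g, hxU, hi, hg, hig⟩
    exact bwd f p x U U' i g hxU hig

end Groth.Agent.S16253
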