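import Groth.Statements.S16254
import Mathlib


set_option autoImplicit false
universe u
open scoped BigOperators
open LefPen

namespace Groth.Agent.S16254

set_option linter.style.haveILetI false

open MvPolynomial

section

variable {A : Type u} [CommRing A] {N s : ℕ} (m : Fin s → (Fin (N + 1) → A))

/-- a retraction of the inclusion of the span -/
theorem exists_retraction (hli : LinearIndependent A m)
    (hproj : Module.Projective A ((Fin (N + 1) → A) ⧸ Submodule.span A (Set.range m))) :
    ∃ r : Fin s → Fin (N + 1) → A, ∀ i k, ∑ j, r i j * m k j = if i = k then 1 else 0 := by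
  classical
  let f : (Fin s → A) →ₗ[A] (Fin (N + 1) → A) := Fintype.linearCombination A m
  have hf : ∀ w, f w = ∑ i, w i • m i := fun w => Fintype.linearCombination_apply A m w
  have hinj : Function.Injective f := by
    rw [← LinearMap.ker_eq_bot, LinearMap.ker_eq_bot']
    intro w hw
    rw [hf] at hw
    funext i
    exact Fintype.linearIndependent_iff.mp hli w hw i
  have hrange : LinearMap.range f = Submodule.span A (Set.range m) :=
    Fintype.range_linearCombination A m
  let S := Submodule.span A (Set.range m)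
  obtain ⟨σ, hσ⟩ := Module.projective_lifting_property S.mkQ LinearMap.id S.mkQ_surjective
  let g : (Fin (N + 1) → A) →ₗ[A] (Fin (N + 1) → A) := LinearMap.id - σ.comp S.mkQ
  have hg : ∀ v, g v ∈ LinearMap.range f := by
    intro v
    rw [hrange]
    change g v ∈ S
    rw [← Submodule.Quotient.mk_eq_zero, ← Submodule.mkQ_apply]
    change S.mkQ (v - σ (S.mkQ v)) = 0
    rw [map_sub]
    have := LinearMap.congr_fun hσ (S.mkQ v)
    rw [LinearMap.comp_apply, LinearMap.id_apply] at this
    rw [this, sub_self]
  have hgm : ∀ k, g (m k) = m k := by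
    intro k
    change m k - σ (S.mkQ (m k)) = m k
    have : S.mkQ (m k) = 0 := by
      rw [Submodule.mkQ_apply, Submodule.Quotient.mk_eq_zero]
      exact Submodule.subset_span ⟨k, rfl⟩
    rw [this, map_zero, sub_zero]
  let e := LinearEquiv.ofInjective f hinj
  let R : (Fin (N + 1) → A) →ₗ[A] (Fin s → A) :=
    e.symm.toLinearMap.comp (g.codRestrict (LinearMap.range f) hg)
  have hfk : ∀ k, f (Pi.single k 1) = m k := by
    intro k
    rw [hf, Finset.sum_eq_single k]
    · rw [Pi.single_eq_same, one_smul]
    · intro i _ hik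
      rw [Pi.single_eq_of_ne hik, zero_smul]
    · intro h; exact absurd (Finset.mem_univ k) h
  have hR : ∀ k, R (m k) = Pi.single k 1 := by
    intro k
    change e.symm (g.codRestrict (LinearMap.range f) hg (m k)) = _
    rw [LinearEquiv.symm_apply_eq]
    apply Subtype.ext
    change g (m k) = f (Pi.single k 1)
    rw [hgm, hfk]
  refine ⟨fun i j => R (Pi.single j 1) i, fun i k => ?_⟩
  have h1 : m k = ∑ j, m k j • (Pi.single j 1 : Fin (N + 1) → A) := by
    funext j'
    rw [Finset.sum_apply, Finset.sum_eq_single j']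
    · rw [Pi.smul_apply, Pi.single_eq_same, smul_eq_mul, mul_one]
    · intro j _ hj
      rw [Pi.smul_apply, Pi.single_eq_of_ne hj.symm, smul_zero]
    · intro h; exact absurd (Finset.mem_univ j') h
  have h2 : R (m k) i = ∑ j, R (Pi.single j 1) i * m k j := by
    conv_lhs => rw [h1]
    rw [map_sum, Finset.sum_apply]
    refine Finset.sum_congr rfl fun j _ => ?_
    rw [map_smul, Pi.smul_apply, smul_eq_mul, mul_comm]
  rw [← h2, hR, Pi.single_apply]

end


section

variable {A : Type u} [CommRing A] {σ : Type*}

/-- for an algebra endomorphism `θ` of a polynomial ring, `f - θ f` lies in the ideal generated by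
the `X j - θ (X j)` -/
theorem sub_mem_span_of_algHom (θ : MvPolynomial σ A →ₐ[A] MvPolynomial σ A)
    (f : MvPolynomial σ A) :
    f - θ f ∈ Ideal.span (Set.range fun j : σ => (X j : MvPolynomial σ A) - θ (X j)) := by
  set J := Ideal.span (Set.range fun j : σ => (X j : MvPolynomial σ A) - θ (X j)) with hJ
  have h : (Ideal.Quotient.mkₐ A J).comp θ = Ideal.Quotient.mkₐ A J := by
    apply MvPolynomial.algHom_ext
    intro j
    rw [AlgHom.comp_apply, Ideal.Quotient.mkₐ_eq_mk, eq_comm,
      Ideal.Quotient.eq]
    exact Ideal.subset_span ⟨j, rfl⟩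
  have h2 := AlgHom.congr_fun h f
  rw [AlgHom.comp_apply, Ideal.Quotient.mkₐ_eq_mk, eq_comm,
    Ideal.Quotient.eq] at h2
  exact h2

end

section

variable {A : Type u} [CommRing A] {N s : ℕ} (m : Fin s → (Fin (N + 1) → A))

/-- the restriction map on polynomial functions -/
noncomputable def phi : MvPolynomial (Fin (N + 1)) A →ₐ[A] MvPolynomial (Fin s) A :=
  MvPolynomial.aeval (fun j : Fin (N + 1) => ∑ i : Fin s, MvPolynomial.C (m i j) * MvPolynomial.X i)

/-- the linear form with coefficient vector `c` -/
noncomputable def lin (c : Fin (N + 1) → A) : MvPolynomial (Fin (N + 1)) A :=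
  ∑ k, C (c k) * X k

/-- the kernel of `phi` lies in the ideal of the linear forms vanishing on the `m i` -/
theorem ker_phi_le (r : Fin s → Fin (N + 1) → A)
    (hr : ∀ i k, ∑ j, r i j * m k j = if i = k then 1 else 0) :
    RingHom.ker (phi m) ≤ Ideal.span {p | ∃ c : Fin (N + 1) → A,
      (∀ i, ∑ k, c k * m i k = 0) ∧ p = lin c} := by
  classical
  let ψ : MvPolynomial (Fin s) A →ₐ[A] MvPolynomial (Fin (N + 1)) A :=
    MvPolynomial.aeval (fun i : Fin s => ∑ k : Fin (N + 1), C (r i k) * X k)
  have hφψ : ∀ g, (phi m) (ψ g) = g := by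
    intro g
    have : (phi m).comp ψ = AlgHom.id A _ := by
      apply MvPolynomial.algHom_ext
      intro i
      rw [AlgHom.comp_apply, AlgHom.id_apply]
      change (phi m) (MvPolynomial.aeval _ (X i)) = X i
      rw [MvPolynomial.aeval_X, map_sum]
      have h1 : ∀ k, (phi m) (C (r i k) * X k) = ∑ i', C (r i k * m i' k) * X i' := by
        intro k
        rw [map_mul]
        change (phi m) (C (r i k)) * MvPolynomial.aeval _ (X k) = _
        rw [MvPolynomial.aeval_X, Finset.mul_sum]
        refine Finset.sum_congr rfl fun i' _ => ?_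
        have : (phi m) (C (r i k)) = C (r i k) := by
          change MvPolynomial.aeval _ (C (r i k)) = _
          rw [MvPolynomial.aeval_C]; rfl
        rw [this, ← mul_assoc, ← C_mul]
      simp_rw [h1]
      rw [Finset.sum_comm]
      simp_rw [← Finset.sum_mul, ← map_sum, hr]
      rw [Finset.sum_eq_single i]
      · rw [if_pos rfl, C_1, one_mul]
      · intro i' _ hi'
        rw [if_neg (Ne.symm hi'), C_0, zero_mul]
      · intro h; exact absurd (Finset.mem_univ i) h
    exact AlgHom.congr_fun this g
  intro f hf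
  rw [RingHom.mem_ker] at hf
  have h1 := sub_mem_span_of_algHom (ψ.comp (phi m)) f
  have h2 : (ψ.comp (phi m)) f = 0 := by
    rw [AlgHom.comp_apply, hf, map_zero]
  rw [h2, sub_zero] at h1
  refine Ideal.span_mono ?_ h1
  rintro _ ⟨j, rfl⟩
  -- the linear form `X j - ψ (φ (X j))`
  refine ⟨fun k => (if k = j then 1 else 0) - ∑ i, m i j * r i k, ?_, ?_⟩
  · intro i'
    simp_rw [sub_mul, Finset.sum_sub_distrib]
    rw [Finset.sum_eq_single j]
    · rw [if_pos rfl, one_mul, sub_eq_zero]
      simp_rw [Finset.sum_mul]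
      rw [Finset.sum_comm]
      have : ∀ i, ∑ k, m i j * r i k * m i' k = m i j * (if i = i' then 1 else 0) := by
        intro i
        rw [← hr i i', Finset.mul_sum]
        refine Finset.sum_congr rfl fun k _ => ?_
        ring
      simp_rw [this]
      rw [Finset.sum_eq_single i']
      · rw [if_pos rfl, mul_one]
      · intro i _ hi
        rw [if_neg hi, mul_zero]
      · intro h; exact absurd (Finset.mem_univ i') h
    · intro k _ hk
      rw [if_neg hk, zero_mul]
    · intro h; exact absurd (Finset.mem_univ j) h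
  · change (X j : MvPolynomial (Fin (N + 1)) A) - ψ ((phi m) (X j)) = _
    have h3 : (phi m) (X j) = ∑ i : Fin s, C (m i j) * X i := by
      change MvPolynomial.aeval _ (X j) = _
      rw [MvPolynomial.aeval_X]
    rw [h3, map_sum]
    have h4 : ∀ i, ψ (C (m i j) * X i) = ∑ k, C (m i j * r i k) * X k := by
      intro i
      rw [map_mul]
      change MvPolynomial.aeval _ (C (m i j)) * MvPolynomial.aeval _ (X i) = _
      rw [MvPolynomial.aeval_C, MvPolynomial.aeval_X, Finset.mul_sum]
      refine Finset.sum_congr rfl fun k _ => ?_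
      rw [← mul_assoc]
      congr 1
      rw [C_mul]; rfl
    simp_rw [h4]
    rw [Finset.sum_comm]
    unfold lin
    simp_rw [← Finset.sum_mul, ← map_sum, C_sub, sub_mul]
    rw [Finset.sum_sub_distrib]
    congr 1
    rw [Finset.sum_eq_single j]
    · rw [if_pos rfl, C_1, one_mul]
    · intro k _ hk
      rw [if_neg hk, C_0, zero_mul]
    · intro h; exact absurd (Finset.mem_univ j) h

end


section

variable {A : Type u} [CommRing A] {N s : ℕ} (m : Fin s → (Fin (N + 1) → A))

/-- the column vector `(m_1 k, …, m_s k, X k)` -/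
noncomputable def ucol (k : Fin (N + 1)) : Fin (s + 1) → MvPolynomial (Fin (N + 1)) A :=
  fun i => Fin.snoc (α := fun _ => MvPolynomial (Fin (N + 1)) A)
    (fun i' : Fin s => C (m i' k)) (X k) i

/-- the minor for the column choice `c` -/
noncomputable def minor (c : Fin (s + 1) → Fin (N + 1)) : MvPolynomial (Fin (N + 1)) A :=
  (Matrix.of fun (i : Fin (s + 1)) (j : Fin (s + 1)) =>
    (Fin.snoc (α := fun _ => MvPolynomial (Fin (N + 1)) A)
      (fun i' : Fin s => MvPolynomial.C (m i' (c j))) (MvPolynomial.X (c j)) i)).det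

/-- the matrix with first `s` columns chosen by `col` and last column `w` -/
noncomputable def mat (col : Fin s → Fin (N + 1)) (w : Fin (s + 1) → MvPolynomial (Fin (N + 1)) A) :
    Matrix (Fin (s + 1)) (Fin (s + 1)) (MvPolynomial (Fin (N + 1)) A) :=
  Matrix.of fun i j => Fin.lastCases (motive := fun _ => MvPolynomial (Fin (N + 1)) A) (w i)
    (fun j' => ucol m (col j') i) j

theorem minor_snoc (col : Fin s → Fin (N + 1)) (k : Fin (N + 1)) :
    minor m (Fin.snoc col k : Fin (s + 1) → Fin (N + 1)) = (mat m col (ucol m k)).det := by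
  unfold minor mat
  congr 1
  ext i j
  rw [Matrix.of_apply, Matrix.of_apply]
  refine Fin.lastCases ?_ (fun j' => ?_) j
  · rw [Fin.lastCases_last, Fin.snoc_last]
    rfl
  · rw [Fin.lastCases_castSucc, Fin.snoc_castSucc]
    rfl

theorem det_mat (col : Fin s → Fin (N + 1)) (w : Fin (s + 1) → MvPolynomial (Fin (N + 1)) A) :
    (mat m col w).det = ∑ i : Fin (s + 1), (-1) ^ ((i : ℕ) + s) * w i *
      (Matrix.of fun (a : Fin s) (b : Fin s) => ucol m (col b) (i.succAbove a)).det := by
  rw [Matrix.det_succ_column _ (Fin.last s)]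
  refine Finset.sum_congr rfl fun i _ => ?_
  congr 2
  · unfold mat
    rw [Matrix.of_apply, Fin.lastCases_last]
  · ext a b
    rw [Matrix.submatrix_apply, Matrix.of_apply, Fin.succAbove_last]
    unfold mat
    rw [Matrix.of_apply, Fin.lastCases_castSucc]

theorem det_mul_lin (c : Fin (N + 1) → A) (hc : ∀ i, ∑ k, c k * m i k = 0)
    (col : Fin s → Fin (N + 1)) :
    C (Matrix.of fun (a : Fin s) (b : Fin s) => m a (col b)).det * lin c =
      ∑ k, C (c k) * minor m (Fin.snoc col k : Fin (s + 1) → Fin (N + 1)) := by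
  simp_rw [minor_snoc, det_mat, Finset.mul_sum]
  rw [Finset.sum_comm]
  have h1 : ∀ i : Fin (s + 1), ∑ k, C (c k) * ((-1) ^ ((i : ℕ) + s) * ucol m k i *
      (Matrix.of fun (a : Fin s) (b : Fin s) => ucol m (col b) (i.succAbove a)).det) =
      (-1) ^ ((i : ℕ) + s) * (∑ k, C (c k) * ucol m k i) *
      (Matrix.of fun (a : Fin s) (b : Fin s) => ucol m (col b) (i.succAbove a)).det := by
    intro i
    rw [Finset.mul_sum, Finset.sum_mul]
    refine Finset.sum_congr rfl fun k _ => ?_
    ring
  simp_rw [h1]
  rw [Fin.sum_univ_castSucc]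
  have h2 : ∀ i' : Fin s, ∑ k, C (c k) * ucol m k (Fin.castSucc i') = 0 := by
    intro i'
    have : ∀ k, C (c k) * ucol m k (Fin.castSucc i') = C (c k * m i' k) := by
      intro k
      unfold ucol
      rw [Fin.snoc_castSucc, C_mul]
    simp_rw [this]
    rw [← map_sum, hc, C_0]
  simp_rw [h2, mul_zero, zero_mul]
  rw [Finset.sum_const_zero, zero_add]
  have h3 : ∑ k, C (c k) * ucol m k (Fin.last s) = lin c := by
    unfold lin ucol
    refine Finset.sum_congr rfl fun k _ => ?_
    rw [Fin.snoc_last]
  rw [h3, Fin.val_last, ← two_mul, pow_mul, neg_one_sq, one_pow, one_mul, mul_comm]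
  congr 1
  rw [RingHom.map_det]
  congr 1
  ext a b
  rw [RingHom.mapMatrix_apply, Matrix.map_apply, Matrix.of_apply, Matrix.of_apply,
    Fin.succAbove_last]
  unfold ucol
  rw [Fin.snoc_castSucc]

/-- Cauchy–Binet, in the form needed -/
theorem sum_prod_mul_det (r : Fin s → Fin (N + 1) → A)
    (hr : ∀ i k, ∑ j, r i j * m k j = if i = k then 1 else 0) :
    ∑ col : Fin s → Fin (N + 1), (∏ i, r i (col i)) *
      (Matrix.of fun (a : Fin s) (b : Fin s) => m a (col b)).det = 1 := by
  classical
  have h1 : (Matrix.of fun (i : Fin s) (k : Fin s) => ∑ j, r i j * m k j).det = 1 := by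
    have : (Matrix.of fun (i : Fin s) (k : Fin s) => ∑ j, r i j * m k j) = 1 := by
      ext i k
      rw [Matrix.of_apply, hr, Matrix.one_apply]
    rw [this, Matrix.det_one]
  rw [← h1]
  have h2 : (Matrix.of fun (i : Fin s) (k : Fin s) => ∑ j, r i j * m k j) =
      fun i => ∑ j, r i j • (fun k => m k j) := by
    funext i k
    rw [Matrix.of_apply, Finset.sum_apply]
    rfl
  rw [h2]
  have h3 := (Matrix.detRowAlternating (n := Fin s) (R := A)).toMultilinearMap.map_sum
    (fun i j => r i j • (fun k => m k j))
  change Matrix.det (fun i => ∑ j, r i j • (fun k => m k j)) = _ at h3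
  rw [h3]
  refine Finset.sum_congr rfl fun col _ => ?_
  have h4 := (Matrix.detRowAlternating (n := Fin s) (R := A)).toMultilinearMap.map_smul_univ
    (fun i => r i (col i)) (fun i => (fun k => m k (col i)))
  symm
  refine h4.trans ?_
  rw [smul_eq_mul]
  congr 1
  change Matrix.det (fun i k => m k (col i)) = _
  rw [← Matrix.det_transpose]
  rfl

/-- every minor lies in the kernel -/
theorem phi_minor (c : Fin (s + 1) → Fin (N + 1)) : phi m (minor m c) = 0 := by
  classical
  unfold minor
  rw [AlgHom.map_det]
  set B := (phi m).mapMatrix (Matrix.of fun (i : Fin (s + 1)) (j : Fin (s + 1)) =>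
    (Fin.snoc (α := fun _ => MvPolynomial (Fin (N + 1)) A)
      (fun i' : Fin s => MvPolynomial.C (m i' (c j))) (MvPolynomial.X (c j)) i)) with hB
  have hB1 : ∀ (i' : Fin s) j, B (Fin.castSucc i') j = C (m i' (c j)) := by
    intro i' j
    rw [hB, AlgHom.mapMatrix_apply, Matrix.map_apply, Matrix.of_apply, Fin.snoc_castSucc]
    change MvPolynomial.aeval _ (C (m i' (c j))) = _
    rw [MvPolynomial.aeval_C]; rfl
  have hB2 : ∀ j, B (Fin.last s) j = ∑ i' : Fin s, C (m i' (c j)) * X i' := by
    intro j
    rw [hB, AlgHom.mapMatrix_apply, Matrix.map_apply, Matrix.of_apply, Fin.snoc_last]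
    change MvPolynomial.aeval _ (X (c j)) = _
    rw [MvPolynomial.aeval_X]
  let coef : Fin (s + 1) → MvPolynomial (Fin s) A :=
    Fin.snoc (α := fun _ => MvPolynomial (Fin s) A) (fun i' => X i') 0
  have h1 : B.updateRow (Fin.last s) (∑ k, coef k • B k) = B := by
    have : ∑ k, coef k • B k = B (Fin.last s) := by
      funext j
      rw [Finset.sum_apply, Fin.sum_univ_castSucc]
      simp only [Pi.smul_apply, smul_eq_mul]
      have hc1 : ∀ i' : Fin s, coef (Fin.castSucc i') = X i' := fun i' => Fin.snoc_castSucc _ _ _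
      have hc2 : coef (Fin.last s) = 0 := Fin.snoc_last _ _
      simp_rw [hc1, hc2, hB1]
      rw [zero_mul, add_zero, hB2]
      refine Finset.sum_congr rfl fun i' _ => ?_
      rw [mul_comm]
    rw [this, Matrix.updateRow_eq_self]
  have h2 := Matrix.det_updateRow_sum B (Fin.last s) coef
  rw [h1] at h2
  rw [h2]
  have hc2 : coef (Fin.last s) = 0 := Fin.snoc_last _ _
  rw [hc2, zero_smul]

end

theorem main
    (A : Type u) [CommRing A] (N s : ℕ) (m : Fin s → (Fin (N + 1) → A))
    (hli : LinearIndependent A m)
    (hproj : Module.Projective A ((Fin (N + 1) → A) ⧸ Submodule.span A (Set.range m))) :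
    RingHom.ker (MvPolynomial.aeval (R := A) (S₁ := MvPolynomial (Fin s) A)
        (fun j : Fin (N + 1) => ∑ i : Fin s, MvPolynomial.C (m i j) * MvPolynomial.X i)) =
      Ideal.span (Set.range fun c : Fin (s + 1) → Fin (N + 1) =>
        (Matrix.of fun (i : Fin (s + 1)) (j : Fin (s + 1)) =>
          (Fin.snoc (α := fun _ => MvPolynomial (Fin (N + 1)) A)
            (fun i' : Fin s => MvPolynomial.C (m i' (c j))) (MvPolynomial.X (c j)) i)).det) := by
  classical
  obtain ⟨r, hr⟩ := exists_retraction m hli hproj
  change RingHom.ker (phi m) = Ideal.span (Set.range fun c => minor m c)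
  apply le_antisymm
  · refine (ker_phi_le m r hr).trans ?_
    rw [Ideal.span_le]
    rintro _ ⟨c, hc, rfl⟩
    have h1 : lin c = ∑ col : Fin s → Fin (N + 1), C (∏ i, r i (col i)) *
        (C (Matrix.of fun (a : Fin s) (b : Fin s) => m a (col b)).det * lin c) := by
      simp_rw [← mul_assoc, ← C_mul]
      rw [← Finset.sum_mul, ← map_sum, sum_prod_mul_det m r hr, C_1, one_mul]
    rw [h1]
    refine Ideal.sum_mem _ fun col _ => Ideal.mul_mem_left _ _ ?_
    rw [det_mul_lin m c hc col]
    refine Ideal.sum_mem _ fun k _ => Ideal.mul_mem_left _ _ ?_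
    exact Ideal.subset_span ⟨_, rfl⟩
  · rw [Ideal.span_le]
    rintro _ ⟨c, rfl⟩
    exact phi_minor m c



/-- Let A be a commutative ring and m_1, …, m_s ∈ A^(N+1) linearly independent vectors whose span M has
projective (that is, locally free) quotient A^(N+1)/M. Write a_0, …, a_N for the coordinate
functions, so that restricting linear forms to M and expressing them in the basis dual to the m_i
gives the A-algebra map A[a_0, …, a_N] ⟶ A[y_1, …, y_s], a_j ↦ Σ_i (m_i)_j y_i (the map
Sym((A^(N+1))^∨) ⟶ Sym(M^∨)). Its kernel is the ideal generated by the (s+1) × (s+1) minors of the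
(s+1) × (N+1) matrix whose first s rows are the coordinate rows of m_1, …, m_s and whose last row is
(a_0, …, a_N). The minors are indexed here by all maps c from Fin (s+1) to Fin (N+1) choosing the
columns (non-injective choices give zero). -/
theorem result
    (A : Type u) [CommRing A] (N s : ℕ) (m : Fin s → (Fin (N + 1) → A))
    (hli : LinearIndependent A m)
    (hproj : Module.Projective A ((Fin (N + 1) → A) ⧸ Submodule.span A (Set.range m))) :
    RingHom.ker (MvPolynomial.aeval (R := A) (S₁ := MvPolynomial (Fin s) A)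
        (fun j : Fin (N + 1) => ∑ i : Fin s, MvPolynomial.C (m i j) * MvPolynomial.X i)) =
      Ideal.span (Set.range fun c : Fin (s + 1) → Fin (N + 1) =>
        (Matrix.of fun (i : Fin (s + 1)) (j : Fin (s + 1)) =>
          (Fin.snoc (α := fun _ => MvPolynomial (Fin (N + 1)) A)
            (fun i' : Fin s => MvPolynomial.C (m i' (c j))) (MvPolynomial.X (c j)) i)).det) := by
  exact main A N s m hli hproj

end Groth.Agent.S16254
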