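import Groth.Statements.S8916
import Mathlib
import Groth.Agent.S5022
import Groth.Agent.Lib.Helper7.OmegaFitt
import Groth.Agent.Lib.Helper3.RelDim

set_option autoImplicit false
universe u
open CategoryTheory CategoryTheory.Limits AlgebraicGeometry TopologicalSpace
open SDiv

namespace Groth.Agent.S8916

open scoped TensorProduct
open Groth.Agent.Lib.helper7 Groth.Agent.Lib.helper16.CohFinite Groth.Agent.Lib.helper16.CohStalk

attribute [local instance] Algebra.TensorProduct.rightAlgebra in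
/-- the differentials of the fibre ring are spanned by the images of generators, up to `d₀` -/
theorem smul_mem_span_fiber_differentials (A B : Type u) [CommRing A] [CommRing B] [Algebra A B]
    (p : Ideal A) [p.IsPrime] (n : ℕ) (d₀ : B) (g : Fin n → Ω[B⁄A])
    (hg : ∀ m : Ω[B⁄A], d₀ • m ∈ Submodule.span B (Set.range g))
    (m' : Ω[p.Fiber B⁄p.ResidueField]) :
    (Algebra.TensorProduct.includeRight (R := A) (A := p.ResidueField) (B := B) d₀) • m' ∈
      Submodule.span (p.Fiber B) (Set.range fun i =>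
        KaehlerDifferential.map A p.ResidueField B (p.Fiber B) (g i)) := by
  have hbc := KaehlerDifferential.isBaseChange A p.ResidueField B (p.Fiber B)
  refine hbc.inductionOn m' _ (by rw [smul_zero]; exact zero_mem _) ?_ ?_ ?_
  · intro m
    have hm := hg m
    change _ • KaehlerDifferential.map A p.ResidueField B (p.Fiber B) m ∈ _
    have h1 : (Algebra.TensorProduct.includeRight (R := A) (A := p.ResidueField) (B := B) d₀) •
        KaehlerDifferential.map A p.ResidueField B (p.Fiber B) m =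
        KaehlerDifferential.map A p.ResidueField B (p.Fiber B) (d₀ • m) := by
      rw [map_smul, ← algebraMap_smul (p.Fiber B) d₀]
      rfl
    rw [h1]
    generalize d₀ • m = y at hm
    induction hm using Submodule.span_induction with
    | mem z hz =>
      obtain ⟨i, rfl⟩ := hz
      exact Submodule.subset_span ⟨i, rfl⟩
    | zero => simp
    | add x y _ _ hx hy => rw [map_add]; exact add_mem hx hy
    | smul a x _ hx =>
      rw [map_smul, ← algebraMap_smul (p.Fiber B) a]
      exact Submodule.smul_mem _ _ hx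
  · intro s y hy
    rw [smul_comm, ← algebraMap_smul (p.Fiber B) s]
    exact Submodule.smul_mem _ _ hy
  · intro y z hy hz
    rw [smul_add]
    exact add_mem hy hz

/-- flat at `q`, `Ω` generated by `n` elements near `q`, `n ≤` fibre dimension at `q` ⇒ smooth at `q` -/
theorem isSmoothAt_of_flat_of_smul_mem_span (A B : Type u) [CommRing A] [CommRing B] [Algebra A B]
    [Algebra.FinitePresentation A B] (q : Ideal B) [hq : q.IsPrime]
    (hflat : Module.Flat A (Localization.AtPrime q)) (n : ℕ) (d₀ : B) (hd₀ : d₀ ∉ q)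
    (g : Fin n → Ω[B⁄A]) (hg : ∀ m : Ω[B⁄A], d₀ • m ∈ Submodule.span B (Set.range g))
    (hdim : (n : WithBot ℕ∞) ≤ FlatMor.fibreDimAt (Spec.map (CommRingCat.ofHom (algebraMap A B)))
      (⟨q, hq⟩ : PrimeSpectrum B)) :
    Algebra.IsSmoothAt A q := by
  set p : Ideal A := q.under A with hp
  let Q : PrimeSpectrum (p.Fiber B) :=
    PrimeSpectrum.primesOverOrderIsoFiber A B p ⟨q, ⟨hq, ⟨rfl⟩⟩⟩
  have hQ : Q.asIdeal.comap (Algebra.TensorProduct.includeRight : B →ₐ[A] p.Fiber B) = q := by
    have := (PrimeSpectrum.primesOverOrderIsoFiber A B p).symm_apply_apply ⟨q, ⟨hq, ⟨rfl⟩⟩⟩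
    exact congrArg Subtype.val this
  have hQ' : (PrimeSpectrum.comap Algebra.TensorProduct.includeRight.toRingHom Q :
      PrimeSpectrum B) = ⟨q, hq⟩ := PrimeSpectrum.ext hQ
  have h1 := Groth.Agent.LibFibreDimBridge29.fibreDimAt_comap_includeRight A B ⟨p, inferInstance⟩ Q
  rw [hQ'] at h1
  rw [h1] at hdim
  have hsm : Algebra.IsSmoothAt p.ResidueField Q.asIdeal := by
    rw [Groth.Agent.S2063.main]
    refine le_trans ?_ hdim
    have h2 := Groth.Agent.S2063.finrank_le_of_smul_mem_span Q.asIdeal n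
      (Algebra.TensorProduct.includeRight (R := A) (A := p.ResidueField) (B := B) d₀)
      (fun h => hd₀ (by rw [← hQ]; exact h)) _
      (smul_mem_span_fiber_differentials A B p n d₀ g hg)
    exact_mod_cast h2
  have keyflat : ∀ (q' : Ideal B) [hq' : q'.IsPrime], q' = q →
      Module.Flat A (Localization.AtPrime q') := by
    rintro q' hq' rfl; exact hflat
  have h3 := Groth.Agent.Lib.Helper18.SmoothFiber.isSmoothAt_of_isSmoothAt_fiber p Q.asIdeal
    (keyflat _ hQ) hsm
  have key : ∀ (q' : Ideal B) [hq' : q'.IsPrime], q' = q → Algebra.IsSmoothAt A q' →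
      Algebra.IsSmoothAt A q := by
    rintro q' hq' rfl h; exact h
  exact key _ hQ h3

set_option backward.isDefEq.respectTransparency.types false in
theorem smooth_smoothLocus {X S : Scheme.{u}} (f : X ⟶ S) [LocallyOfFinitePresentation f] :
    Smooth (f.smoothLocus.ι ≫ f) := by
  rw [← Scheme.Hom.smoothLocus_eq_top_iff, ← Scheme.Hom.preimage_smoothLocus_eq]
  ext y
  simp

set_option backward.isDefEq.respectTransparency.types false in
theorem mem_smoothLocus_of_smooth {X S : Scheme.{u}} (f : X ⟶ S) [LocallyOfFinitePresentation f]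
    (U : X.Opens) (x : X) (hxU : x ∈ U) (hU : Smooth (U.ι ≫ f)) : x ∈ f.smoothLocus := by
  have h1 : U.ι ⁻¹ᵁ f.smoothLocus = ⊤ := by
    rw [Scheme.Hom.preimage_smoothLocus_eq, Scheme.Hom.smoothLocus_eq_top]
  have h2 : (⟨x, hxU⟩ : U) ∈ U.ι ⁻¹ᵁ f.smoothLocus := by rw [h1]; trivial
  exact h2

set_option backward.isDefEq.respectTransparency.types false in
theorem fwd {X S : Scheme.{u}} (f : X ⟶ S) [Flat f] [LocallyOfFinitePresentation f] [QuasiSeparated f]
    (d : ℕ) (hdim : ∀ s : ↥S, ∀ T ∈ irreducibleComponents ↥(f.fiber s), topologicalKrullDim ↥T = d) (x : ↥X)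
    (hx : x ∉ (Fitt.sheafIdeal (Omega.sheaf f) d).support) :
    ∃ U : X.Opens, x ∈ U ∧ Smooth (U.ι ≫ f) := by
  haveI : (Omega.sheaf f).IsQuasicoherent := OmegaAffine.omega_qcoh f
  have hft := OmegaFitt.omega_isFiniteType f
  refine ⟨f.smoothLocus, ?_, smooth_smoothLocus f⟩
  obtain ⟨W, hW, hxW, -⟩ := Opens.isBasis_iff_nbhd.mp S.isBasis_affineOpens
      (show f x ∈ (⊤ : S.Opens) from trivial)
  obtain ⟨V, hV, hxV, hVW⟩ := Opens.isBasis_iff_nbhd.mp X.isBasis_affineOpens
      (show x ∈ f ⁻¹ᵁ W from hxW)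
  haveI : Module.Finite Γ(X, V) Γ(Omega.sheaf f, V) :=
      finite_sections_of_isFiniteType (Omega.sheaf f) hft hV
  rw [FittSheaf.mem_support_iff (Omega.sheaf f) hft d hV x hxV, FittSheaf.not_le_prime_iff'] at hx
  obtain ⟨d₀, hd₀, g₀, hg₀⟩ := hx
  letI := (f.appLE W V hVW).hom.toAlgebra
  obtain ⟨ψ, -⟩ := OmegaStruct.exists_sectionsEquiv f (OmegaSh.dOmega f)
    (OmegaUniv.isUniversal_dOmega f) hV hW hVW
  haveI : Algebra.FinitePresentation Γ(S, W) Γ(X, V) := f.finitePresentation_appLE hW hV hVW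
  rw [Scheme.Hom.mem_smoothLocus, formallySmooth_stalkMap_iff W hW V hV hVW hxV]
  refine isSmoothAt_of_flat_of_smul_mem_span Γ(S, W) Γ(X, V) (hV.primeIdealOf ⟨x, hxV⟩).asIdeal
    (Groth.Agent.S5022.flat_atPrime_of_flat_stalkMap f x W hW V hV hVW hxV (Flat.stalkMap f x))
    d d₀ hd₀ (fun i => ψ (g₀ i)) ?_ ?_
  · intro m
    obtain ⟨m', rfl⟩ := ψ.surjective m
    rw [← map_smul]
    have h2 : ψ (d₀ • m') ∈ Submodule.map ψ.toLinearMap (Submodule.span _ (Set.range g₀)) :=
      ⟨_, hg₀ m', rfl⟩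
    rwa [Submodule.map_span, ← Set.range_comp] at h2
  · have h1 := Groth.Agent.Lib.helper3.RelDim.fibreDimAt_eq_of_hasRelDim f d hdim x
    rw [← h1, Groth.Agent.S5022.fibreDimAt_chart f W hW V hV hVW x hxV]
    exact le_of_eq rfl

set_option backward.isDefEq.respectTransparency.types false in
theorem bwd {X S : Scheme.{u}} (f : X ⟶ S) [LocallyOfFinitePresentation f] [QuasiSeparated f]
    (d : ℕ) (hdim : ∀ s : ↥S, ∀ T ∈ irreducibleComponents ↥(f.fiber s), topologicalKrullDim ↥T = d) (x : ↥X)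
    (U : X.Opens) (hxU : x ∈ U) (hU : Smooth (U.ι ≫ f)) :
    x ∉ (Fitt.sheafIdeal (Omega.sheaf f) d).support := by
  haveI : (Omega.sheaf f).IsQuasicoherent := OmegaAffine.omega_qcoh f
  have hft := OmegaFitt.omega_isFiniteType f
  have hx := mem_smoothLocus_of_smooth f U x hxU hU
  obtain ⟨-, U', n, hxU', ⟨iso⟩, hn⟩ := Groth.Agent.S5022.fwd f (Omega.sheaf f) (OmegaSh.dOmega f)
    (OmegaUniv.isUniversal_dOmega f) x hx
  have h1 := Groth.Agent.Lib.helper3.RelDim.fibreDimAt_eq_of_hasRelDim f d hdim x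
  have hnd : n = d := by
    rw [h1] at hn
    exact_mod_cast hn.symm
  subst hnd
  obtain ⟨V, hV, hxV, hVU'⟩ := Opens.isBasis_iff_nbhd.mp X.isBasis_affineOpens hxU'
  obtain ⟨isoV⟩ := Groth.Agent.Lib.helper16.FLF.restrict_iso_freeMod_of_le (Omega.sheaf f) hVU' n iso
  obtain ⟨e1⟩ := Groth.Agent.Lib.helper16.FLF.sections_of_restrict_iso_freeMod (Omega.sheaf f) hV n isoV
  rw [FittSheaf.mem_support_iff (Omega.sheaf f) hft n hV x hxV]
  let b : Module.Basis (Fin n) Γ(X, V) Γ(Omega.sheaf f, V) :=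
    (Pi.basisFun Γ(X, V) (Fin n)).map e1.symm
  rw [Groth.Agent.Lib.helper15.FittLink.fitt_eq_top_of_span b b.span_eq le_rfl]
  intro h
  exact (hV.primeIdealOf ⟨x, hxV⟩).isPrime.ne_top (top_le_iff.mp h)

/-- Let f : X ⟶ S be flat, locally of finite presentation and quasi-separated, and d ≥ 0 such that all
irreducible components of each nonempty fibre of f have dimension d. Then the closed subset of X
defined by the Fitting ideal Fit_d(Ω_{X/S}) is exactly the set of points at which f is not smooth,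
i.e. which have no open neighbourhood on which f is smooth. The published statement does not assume
f quasi-separated; this row does, because the module Ω_{X/S} used here is defined for
quasi-separated f. -/
theorem result {X S : Scheme.{u}} (f : X ⟶ S) [Flat f] [LocallyOfFinitePresentation f] [QuasiSeparated f]
    (d : ℕ) (hdim : ∀ s : ↥S, ∀ T ∈ irreducibleComponents ↥(f.fiber s), topologicalKrullDim ↥T = d) (x : ↥X) :
    x ∈ (Fitt.sheafIdeal (Omega.sheaf f) d).support ↔ ¬ ∃ U : X.Opens, x ∈ U ∧ Smooth (U.ι ≫ f) := by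
  rw [← not_iff_not, not_not]
  constructor
  · exact fwd f d hdim x
  · rintro ⟨U, hxU, hU⟩
    exact bwd f d hdim x U hxU hU

end Groth.Agent.S8916
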