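import Groth.Statements.S16256
import Mathlib
import Groth.Agent.Lib.Helper17.JacobiNum
import Groth.Agent.Lib.Helper7.KoszulLow
import Groth.Agent.Lib.Helper7.OmegaFitt
import Groth.Agent.S8916

set_option autoImplicit false
universe u
open CategoryTheory CategoryTheory.Limits AlgebraicGeometry TopologicalSpace
open SDiv

namespace Groth.Agent.S16256

open scoped TensorProduct
open Groth.Agent.Lib.helper7 Groth.Agent.Lib.helper16.CohFinite Groth.Agent.Lib.helper16.CohStalk
open Groth.Agent.Lib.helper17.JacobiNum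

/-- localizing a surjection with finitely generated kernel at an element -/
theorem loc_surjective_ker {D₀ B₀ D B : Type u} [CommRing D₀] [CommRing B₀] [CommRing D] [CommRing B]
    [Algebra D₀ D] [Algebra B₀ B] (φ₀ : D₀ →+* B₀) (hφ₀ : Function.Surjective φ₀) (g : D₀)
    [IsLocalization.Away g D] [IsLocalization.Away (φ₀ g) B] (ψ : D →+* B)
    (hψ : ψ.comp (algebraMap D₀ D) = (algebraMap B₀ B).comp φ₀) {c : ℕ} (b₀ : Fin c → D₀)
    (hker : RingHom.ker φ₀ = Ideal.span (Set.range b₀)) :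
    Function.Surjective ψ ∧
      RingHom.ker ψ = Ideal.span (Set.range fun j => algebraMap D₀ D (b₀ j)) := by
  have hT : Submonoid.map φ₀ (Submonoid.powers g) = Submonoid.powers (φ₀ g) :=
    Submonoid.map_powers φ₀ g
  haveI : IsLocalization (Submonoid.map φ₀ (Submonoid.powers g)) B := by rw [hT]; infer_instance
  have hmap : ψ = IsLocalization.map B φ₀ (Submonoid.powers g).le_comap_map := by
    apply IsLocalization.ringHom_ext (Submonoid.powers g)
    rw [hψ, IsLocalization.map_comp]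
  constructor
  · rw [hmap]
    exact IsLocalization.map_surjective_of_surjective (S := D) (Submonoid.powers g) B hφ₀
  · have h2 := IsLocalization.ker_map (S := D) B φ₀ (rfl : Submonoid.map φ₀ (Submonoid.powers g) = _)
    rw [hmap]
    rw [h2, hker, Ideal.map_span, ← Set.range_comp]
    rfl

set_option backward.isDefEq.respectTransparency.types false in
/-- sections over an affine open of the target of a closed-immersion restriction surject -/
theorem app_surjective_of_restrict {Z P : Scheme.{u}} (i : Z ⟶ P) (T : P.Opens) (hT : IsAffineOpen T)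
    [IsClosedImmersion (i ∣_ T)] : Function.Surjective (i.app T).hom := by
  haveI : IsAffine (T : Scheme.{u}) := hT
  have h1 : Function.Surjective ((i ∣_ T).app ⊤).hom :=
    (i ∣_ T).app_surjective ⊤ (isAffineOpen_top _)
  rw [morphismRestrict_app'] at h1
  have key : ∀ (A : P.Opens) (B : Z.Opens) (hA : A = T) (hB : B = i ⁻¹ᵁ T) (e : B ≤ i ⁻¹ᵁ A),
      Function.Surjective (i.appLE A B e).hom → Function.Surjective (i.app T).hom := by
    rintro A B rfl rfl e h
    rwa [Scheme.Hom.app_eq_appLE]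
  refine key _ _ ?_ ?_ _ h1
  · exact T.ι_image_top
  · rw [show ((i ∣_ T) ⁻¹ᵁ ⊤ : (i ⁻¹ᵁ T).toScheme.Opens) = ⊤ from rfl]
    exact (i ⁻¹ᵁ T).ι_image_top

set_option backward.isDefEq.respectTransparency.types false in
/-- the preimage of an affine open under a morphism restricting to a closed immersion is affine -/
theorem isAffineOpen_preimage_of_restrict {Z P : Scheme.{u}} (i : Z ⟶ P) (T : P.Opens)
    (hT : IsAffineOpen T) [IsClosedImmersion (i ∣_ T)] : IsAffineOpen (i ⁻¹ᵁ T) := by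
  haveI : IsAffine (T : Scheme.{u}) := hT
  exact isAffine_of_isAffineHom (i ∣_ T)

set_option backward.isDefEq.respectTransparency.types false in
/-- the chart: around `y` the morphism `f` is `Spec` of a quotient of a standard smooth algebra by an
`H₁`-regular sequence of length `c`. -/
theorem chart {Y X : Scheme.{u}} (f : Y ⟶ X) (m : ℕ) (y : ↥Y)
    (U : Y.Opens) (P : Scheme.{u}) (i : (U : Scheme.{u}) ⟶ P) (π : P ⟶ X) (c : ℕ) (hyU : y ∈ U)
    (hreg : RegImm.IsRegularImmersionOfCodim RegImm.Kind.koszul c i)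
    (hsm : SmoothOfRelativeDimension (m + c) π) (hcomp : i ≫ π = U.ι ≫ f) :
    ∃ (W : X.Opens) (_ : IsAffineOpen W) (V : Y.Opens) (hV : IsAffineOpen V) (hyV : y ∈ V)
      (e : V ≤ f ⁻¹ᵁ W),
      letI := (f.appLE W V e).hom.toAlgebra
      (Module.finrank (hV.primeIdealOf ⟨y, hyV⟩).asIdeal.ResidueField
          ((hV.primeIdealOf ⟨y, hyV⟩).asIdeal.ResidueField ⊗[Γ(Y, V)] Ω[Γ(Y, V)⁄Γ(X, W)]) ≤ m ↔
        Algebra.IsSmoothAt Γ(X, W) (hV.primeIdealOf ⟨y, hyV⟩).asIdeal) := by
  obtain ⟨T, hzT, hcl, rs, hlen, hseq, hkerT⟩ := hreg.2 ⟨y, hyU⟩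
  obtain ⟨W, hW, V', hV', hzV', e', hstd⟩ :=
    SmoothOfRelativeDimension.exists_isStandardSmoothOfRelativeDimension (n := m + c) (f := π)
      (i ⟨y, hyU⟩)
  obtain ⟨g, g', hgg', hzg⟩ := exists_basicOpen_le_affine_inter T.2 hV' (i ⟨y, hyU⟩) ⟨hzT, hzV'⟩
  haveI := hcl
  -- the affine opens of `U`
  have hO : IsAffineOpen (i ⁻¹ᵁ T.1) := isAffineOpen_preimage_of_restrict i T.1 T.2
  have hφ₀ : Function.Surjective (i.app T.1).hom := app_surjective_of_restrict i T.1 T.2
  set gb : Γ(U, i ⁻¹ᵁ T.1) := (i.app T.1).hom g with hgb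
  have hpre : i ⁻¹ᵁ P.basicOpen g = (U : Scheme.{u}).basicOpen gb := Scheme.preimage_basicOpen i g
  have hO₁ : IsAffineOpen ((U : Scheme.{u}).basicOpen gb) := hO.basicOpen gb
  have hT₁ : IsAffineOpen (P.basicOpen g) := T.2.basicOpen g
  have hzO₁ : (⟨y, hyU⟩ : U) ∈ (U : Scheme.{u}).basicOpen gb := by
    rw [← hpre]; exact hzg
  -- the chart of `Y`
  set V : Y.Opens := U.ι ''ᵁ ((U : Scheme.{u}).basicOpen gb) with hVdef
  have hV : IsAffineOpen V := hO₁.image_of_isOpenImmersion U.ι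
  have hyV : y ∈ V := ⟨⟨y, hyU⟩, hzO₁, rfl⟩
  have hleV' : P.basicOpen g ≤ V' := hgg' ▸ P.basicOpen_le g'
  have eπ : P.basicOpen g ≤ π ⁻¹ᵁ W := hleV'.trans e'
  have hVW : V ≤ f ⁻¹ᵁ W := by
    rintro _ ⟨z, hz, rfl⟩
    have h1 : f (U.ι z) = π (i z) := by
      rw [← Scheme.Hom.comp_apply, ← Scheme.Hom.comp_apply, hcomp]
    show f (U.ι z) ∈ W
    rw [h1]
    have hz' : z ∈ i ⁻¹ᵁ P.basicOpen g := by rw [hpre]; exact hz
    exact eπ hz'
  refine ⟨W, hW, V, hV, hyV, hVW, ?_⟩
  -- the ring maps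
  let ψ : Γ(P, P.basicOpen g) ⟶ Γ(U, (U : Scheme.{u}).basicOpen gb) :=
    i.appLE (P.basicOpen g) ((U : Scheme.{u}).basicOpen gb) (le_of_eq hpre.symm)
  let θ₀ : Γ(P, P.basicOpen g) ⟶ Γ(Y, V) :=
    ψ ≫ (U.ι.appIso ((U : Scheme.{u}).basicOpen gb)).inv
  have key : ∀ (h h' : (U : Scheme.{u}) ⟶ X) (hh : h = h') e1 e2,
      h.appLE W ((U : Scheme.{u}).basicOpen gb) e1 = h'.appLE W ((U : Scheme.{u}).basicOpen gb) e2 := by
    rintro h _ rfl _ _; rfl
  have hθ₀ : π.appLE W (P.basicOpen g) eπ ≫ θ₀ = f.appLE W V hVW := by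
    rw [← Category.assoc, Iso.comp_inv_eq, Scheme.Hom.appIso_hom',
      Scheme.Hom.appLE_comp_appLE, Scheme.Hom.appLE_comp_appLE]
    exact key _ _ hcomp _ _
  -- standard smoothness of the chart of `P`
  have hstdD : (π.appLE W (P.basicOpen g) eπ).hom.IsStandardSmoothOfRelativeDimension (m + c) := by
    rw [← π.appLE_map e' (homOfLE hleV').op]
    letI : Algebra Γ(P, V') Γ(P, P.basicOpen g) :=
      (P.presheaf.map (homOfLE hleV').op).hom.toAlgebra
    haveI : IsLocalization.Away g' Γ(P, P.basicOpen g) :=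
      hV'.isLocalization_of_eq_basicOpen g' (homOfLE hleV') hgg'
    exact (RingHom.isStandardSmoothOfRelativeDimension_stableUnderCompositionWithLocalizationAway
      (m + c)).2 Γ(P, P.basicOpen g) g' _ hstd
  -- the regular sequence
  let b₀ : Fin c → Γ(P, T.1) := fun j => rs.get (Fin.cast hlen.symm j)
  have hb₀ : CAlgX.IsH1Regular b₀ := by
    have h1 := KoszulLow.isH1Regular_of_isKoszulRegularSeq Γ(P, T.1) rs hseq
    refine KoszulLow.isH1Regular_of_comp_equiv Γ(P, T.1) (finCongr hlen) b₀ ?_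
    have h3 : b₀ ∘ finCongr hlen = rs.get := by
      funext j
      simp [b₀]
    rw [h3]
    exact h1
  have hker₀ : RingHom.ker (i.app T.1).hom = Ideal.span (Set.range b₀) := by
    rw [hkerT, Ideal.ofList]
    congr 1
    ext x
    simp only [Set.mem_ofPred_eq, Set.mem_range, b₀]
    constructor
    · intro hx
      obtain ⟨j, rfl⟩ := List.mem_iff_get.mp hx
      exact ⟨Fin.cast hlen j, by simp⟩
    · rintro ⟨j, rfl⟩
      exact List.get_mem _ _
  -- localize at `g`
  haveI : IsLocalization.Away g Γ(P, P.basicOpen g) := T.2.isLocalization_basicOpen g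
  haveI : IsLocalization.Away ((i.app T.1).hom g) Γ(U, (U : Scheme.{u}).basicOpen gb) :=
    hO.isLocalization_basicOpen gb
  have hψ : ψ.hom.comp (algebraMap Γ(P, T.1) Γ(P, P.basicOpen g)) =
      (algebraMap Γ(U, i ⁻¹ᵁ T.1) Γ(U, (U : Scheme.{u}).basicOpen gb)).comp (i.app T.1).hom := by
    change (P.presheaf.map (homOfLE (P.basicOpen_le g)).op ≫ ψ).hom =
      (i.app T.1 ≫ (U : Scheme.{u}).presheaf.map
        (homOfLE ((U : Scheme.{u}).basicOpen_le gb)).op).hom
    rw [Scheme.Hom.map_appLE, Scheme.Hom.app_eq_appLE, Scheme.Hom.appLE_map]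
  obtain ⟨hψsurj, hψker⟩ := loc_surjective_ker (i.app T.1).hom hφ₀ g ψ.hom hψ b₀ hker₀
  have hb : CAlgX.IsH1Regular fun j => algebraMap Γ(P, T.1) Γ(P, P.basicOpen g) (b₀ j) :=
    OmegaSeqAlg.isH1Regular_of_isLocalization (Submonoid.powers g) b₀ hb₀
  have hιbij : Function.Bijective (U.ι.appIso ((U : Scheme.{u}).basicOpen gb)).inv.hom :=
    ConcreteCategory.bijective_of_isIso (U.ι.appIso ((U : Scheme.{u}).basicOpen gb)).inv
  have hθsurj : Function.Surjective θ₀.hom := hιbij.2.comp hψsurj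
  have hθker : RingHom.ker θ₀.hom =
      Ideal.span (Set.range fun j => algebraMap Γ(P, T.1) Γ(P, P.basicOpen g) (b₀ j)) := by
    rw [← hψker]
    ext x
    rw [RingHom.mem_ker, RingHom.mem_ker]
    change (U.ι.appIso ((U : Scheme.{u}).basicOpen gb)).inv.hom (ψ.hom x) = 0 ↔ _
    rw [map_eq_zero_iff _ hιbij.1]
  -- the algebra structures
  letI algAD : Algebra Γ(X, W) Γ(P, P.basicOpen g) := (π.appLE W (P.basicOpen g) eπ).hom.toAlgebra
  letI algAB : Algebra Γ(X, W) Γ(Y, V) := (f.appLE W V hVW).hom.toAlgebra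
  letI algDB : Algebra Γ(P, P.basicOpen g) Γ(Y, V) := θ₀.hom.toAlgebra
  haveI : IsScalarTower Γ(X, W) Γ(P, P.basicOpen g) Γ(Y, V) := IsScalarTower.of_algebraMap_eq' (by
    change (f.appLE W V hVW).hom = θ₀.hom.comp (π.appLE W (P.basicOpen g) eπ).hom
    rw [← hθ₀]; rfl)
  haveI : Algebra.IsStandardSmoothOfRelativeDimension (m + c) Γ(X, W) Γ(P, P.basicOpen g) := hstdD
  obtain ⟨h1, h2⟩ := smoothAt_quotient_stdSmooth Γ(X, W) Γ(P, P.basicOpen g) Γ(Y, V) hθsurj
    (m + c) c (fun j => algebraMap Γ(P, T.1) Γ(P, P.basicOpen g) (b₀ j)) hθker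
    (hV.primeIdealOf ⟨y, hyV⟩).asIdeal
  constructor
  · intro hle
    exact h1 (by omega)
  · intro hs
    have := h2 hb hs
    omega

set_option backward.isDefEq.respectTransparency.types false in
theorem main
    {Y X : Scheme.{u}} (f : Y ⟶ X) [LocallyOfFinitePresentation f] [QuasiSeparated f] (m : ℕ) (y : ↥Y)
    (hlci : ∃ (U : Y.Opens) (P : Scheme.{u}) (i : (U : Scheme.{u}) ⟶ P) (π : P ⟶ X) (c : ℕ),
      y ∈ U ∧ RegImm.IsRegularImmersionOfCodim RegImm.Kind.koszul c i ∧
        SmoothOfRelativeDimension (m + c) π ∧ i ≫ π = U.ι ≫ f) :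
    (∃ V : Y.Opens, y ∈ V ∧ Smooth (V.ι ≫ f)) ↔ y ∉ (Fitt.sheafIdeal (Omega.sheaf f) m).support := by
  obtain ⟨U, P, i, π, c, hyU, hreg, hsm, hcomp⟩ := hlci
  obtain ⟨W, hW, V, hV, hyV, e, hiff⟩ := chart f m y U P i π c hyU hreg hsm hcomp
  haveI : (Omega.sheaf f).IsQuasicoherent := OmegaAffine.omega_qcoh f
  have hft := OmegaFitt.omega_isFiniteType f
  haveI : Module.Finite Γ(Y, V) Γ(Omega.sheaf f, V) :=
    finite_sections_of_isFiniteType (Omega.sheaf f) hft hV
  have h1 : (∃ V : Y.Opens, y ∈ V ∧ Smooth (V.ι ≫ f)) ↔ y ∈ f.smoothLocus :=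
    ⟨fun ⟨V', hyV', h⟩ => Groth.Agent.S8916.mem_smoothLocus_of_smooth f V' y hyV' h,
      fun h => ⟨f.smoothLocus, h, Groth.Agent.S8916.smooth_smoothLocus f⟩⟩
  rw [h1, FittSheaf.mem_support_iff (Omega.sheaf f) hft m hV y hyV, Scheme.Hom.mem_smoothLocus,
    formallySmooth_stalkMap_iff W hW V hV e hyV]
  letI := (f.appLE W V e).hom.toAlgebra
  obtain ⟨ψ, -⟩ := OmegaStruct.exists_sectionsEquiv f (OmegaSh.dOmega f)
    (OmegaUniv.isUniversal_dOmega f) hV hW e
  haveI : Module.Finite Γ(Y, V) Ω[Γ(Y, V)⁄Γ(X, W)] := Module.Finite.equiv ψ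
  rw [Groth.Agent.Lib.helper15.FittLink.fitt_congr ψ m, fitt_not_le_iff_finrank]
  exact hiff.symm

/-- Let f : Y ⟶ X be locally of finite presentation and quasi-separated, m ≥ 0, and y a point of Y near
which f is a local complete intersection of virtual dimension m, in the factorisation sense: some
open neighbourhood U of y admits a Koszul-regular immersion i of constant codimension c into a
scheme P smooth of relative dimension m + c over X, compatibly with f. Then f is smooth on some open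
neighbourhood of y if and only if y does not lie in the m-th Jacobian locus of Y over X, the closed
subset cut out by the m-th Fitting ideal of Ω_{Y/X}. (Quasi-separatedness of f is assumed because
the module Ω_{Y/X} used here is defined for such f.) -/
theorem result
    {Y X : Scheme.{u}} (f : Y ⟶ X) [LocallyOfFinitePresentation f] [QuasiSeparated f] (m : ℕ) (y : ↥Y)
    (hlci : ∃ (U : Y.Opens) (P : Scheme.{u}) (i : (U : Scheme.{u}) ⟶ P) (π : P ⟶ X) (c : ℕ),
      y ∈ U ∧ RegImm.IsRegularImmersionOfCodim RegImm.Kind.koszul c i ∧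
        SmoothOfRelativeDimension (m + c) π ∧ i ≫ π = U.ι ≫ f) :
    (∃ V : Y.Opens, y ∈ V ∧ Smooth (V.ι ≫ f)) ↔ y ∉ (Fitt.sheafIdeal (Omega.sheaf f) m).support := by
  exact main f m y hlci

end Groth.Agent.S16256
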