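import Groth.Statements.S16259
import Mathlib
import Groth.Agent.Lib.Helper22.BinomZ

set_option autoImplicit false
open W4c3wronskmg

namespace Groth.Agent.S16259

open Polynomial in
/-- Over a field of characteristic zero, for positive integers `i, j` and a natural number `n`, the
polynomial `h(W) = ∑_{l=0}^{n} (i choose l) (j choose (n-l)) W^(n-l)`, the coefficient of
`X^(i+j-n)` in `(X+1)^i (X+W)^j`, has no multiple root other than possibly `0` and `1`: every `c ≠
0, 1` has root multiplicity at most one. -/
theorem result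
    (k : Type*) [Field k] [CharZero k] (i j n : ℕ) (hi : 0 < i) (hj : 0 < j) (c : k) (hc0 : c ≠ 0) (hc1 : c ≠ 1) :
    Polynomial.rootMultiplicity c
      (∑ l ∈ Finset.range (n + 1),
        Polynomial.C (((i.choose l) * (j.choose (n - l)) : ℕ) : k) * Polynomial.X ^ (n - l)) ≤ 1 := by
  classical
  obtain ⟨h, hh⟩ : ∃ h : Polynomial k, h = ∑ l ∈ Finset.range (n + 1),
      Polynomial.C (((i.choose l) * (j.choose (n - l)) : ℕ) : k) * Polynomial.X ^ (n - l) := ⟨_, rfl⟩
  rw [← hh]
  by_cases h0 : h = 0
  · rw [h0, Polynomial.rootMultiplicity_zero]; exact Nat.zero_le _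
  by_contra hcon
  push_neg at hcon
  obtain ⟨hr, hr'⟩ := (Polynomial.one_lt_rootMultiplicity_iff_isRoot h0).1 hcon
  rw [Polynomial.IsRoot.def] at hr hr'
  obtain ⟨j', rfl⟩ := Nat.exists_eq_succ_of_ne_zero hj.ne'
  -- value of h at c
  have hval : Polynomial.eval c h = (Groth.Agent.Lib.Helper22.BinomZ.Kp c i (j' + 1)).coeff n := by
    rw [Groth.Agent.Lib.Helper22.BinomZ.Kp_coeff, hh, Polynomial.eval_finset_sum]
    refine Finset.sum_congr rfl fun l _ => ?_
    simp only [Polynomial.eval_mul, Polynomial.eval_C, Polynomial.eval_pow, Polynomial.eval_X,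
      Nat.succ_eq_add_one]
    push_cast
    ring
  cases n with
  | zero =>
    rw [hval, Groth.Agent.Lib.Helper22.BinomZ.Kp_coeff] at hr
    simp at hr
  | succ n' =>
    -- derivative
    have hder : Polynomial.eval c (Polynomial.derivative h) =
        ((j' : k) + 1) * (Groth.Agent.Lib.Helper22.BinomZ.Kp c i j').coeff n' := by
      rw [Groth.Agent.Lib.Helper22.BinomZ.Kp_coeff, hh, Polynomial.derivative_sum,
        Polynomial.eval_finset_sum, Finset.sum_range_succ, Finset.mul_sum]
      have hlast : Polynomial.eval c (Polynomial.derivative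
          (Polynomial.C (((i.choose (n' + 1)) * ((j' + 1).choose (n' + 1 - (n' + 1))) : ℕ) : k) *
            Polynomial.X ^ (n' + 1 - (n' + 1)))) = 0 := by
        simp
      rw [hlast, add_zero]
      refine Finset.sum_congr rfl fun l hl => ?_
      have hl' : l < n' + 1 := Finset.mem_range.1 hl
      have e1 : n' + 1 - l = (n' - l) + 1 := by omega
      have hch : (((j' + 1).choose (n' - l + 1) : ℕ) : k) * ((n' - l : ℕ) + 1 : k) =
          ((j' : k) + 1) * (j'.choose (n' - l) : k) := by
        have := Nat.add_one_mul_choose_eq j' (n' - l)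
        have h2 := congrArg (fun x : ℕ => (x : k)) this
        simp only [Nat.cast_mul, Nat.cast_add, Nat.cast_one] at h2
        rw [← h2]
      rw [e1, Polynomial.derivative_C_mul, Polynomial.derivative_X_pow_succ]
      simp only [Polynomial.eval_mul, Polynomial.eval_C, Polynomial.eval_pow, Polynomial.eval_X,
        Polynomial.eval_add, Polynomial.eval_one, Nat.succ_eq_add_one]
      push_cast
      push_cast at hch
      linear_combination (i.choose l : k) * c ^ (n' - l) * hch
    rw [hder] at hr'
    have hj1 : ((j' : k) + 1) ≠ 0 := Nat.cast_add_one_ne_zero j'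
    have hK0 : (Groth.Agent.Lib.Helper22.BinomZ.Kp c i j').coeff n' = 0 := by
      rcases mul_eq_zero.1 hr' with h | h
      · exact absurd h hj1
      · exact h
    rw [hval, Groth.Agent.Lib.Helper22.BinomZ.Kp_succ_coeff, hK0, mul_zero, add_zero] at hr
    by_cases hn : n' ≤ i + j'
    · exact Groth.Agent.Lib.Helper22.BinomZ.Kp_no_consecutive_zeros c hc0 i j' n' hn hK0 hr
    · apply h0
      rw [hh]
      refine Finset.sum_eq_zero fun l _ => ?_
      have : (i.choose l) * ((j' + 1).choose (n' + 1 - l)) = 0 := by
        by_cases hl : l ≤ i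
        · rw [Nat.choose_eq_zero_of_lt (by omega : j' + 1 < n' + 1 - l), mul_zero]
        · rw [Nat.choose_eq_zero_of_lt (by omega : i < l), zero_mul]
      rw [this]
      simp

end Groth.Agent.S16259
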