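import Groth.Statements.S16260
import Mathlib

set_option autoImplicit false

open W4c3wronskmg

namespace Groth.Agent.S16260

section aux
open Polynomial

variable {k : Type*} [Field k]

/-- The operator `u ↦ x(x-1)u' - ((a+b)x - a)u`. -/
noncomputable def Dop (a b : ℕ) (u : k[X]) : k[X] :=
  X * (X - 1) * derivative u - (((a : k[X]) + (b : k[X])) * X - (a : k[X])) * u

lemma Dop_zero (a b : ℕ) : Dop a b (0 : k[X]) = 0 := by simp [Dop]

lemma Dop_add (a b : ℕ) (u v : k[X]) : Dop a b (u + v) = Dop a b u + Dop a b v := by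
  simp only [Dop, derivative_add]; ring

lemma Dop_sub (a b : ℕ) (u v : k[X]) : Dop a b (u - v) = Dop a b u - Dop a b v := by
  simp only [Dop, derivative_sub]; ring

lemma Dop_C_mul (a b : ℕ) (c : k) (u : k[X]) : Dop a b (C c * u) = C c * Dop a b u := by
  simp only [Dop, derivative_C_mul]; ring

noncomputable def Eab (a b : ℕ) : k[X] := X ^ a * (X - 1) ^ b

lemma natDegree_X_sub_one_le : (X - 1 : k[X]).natDegree ≤ 1 := by
  rw [← C_1]; exact natDegree_X_sub_C_le 1

lemma natDegree_X_sub_one_pow_le (b : ℕ) : ((X - 1 : k[X]) ^ b).natDegree ≤ b :=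
  calc ((X - 1 : k[X]) ^ b).natDegree ≤ b * (X - 1 : k[X]).natDegree := natDegree_pow_le
    _ ≤ b * 1 := Nat.mul_le_mul_left _ natDegree_X_sub_one_le
    _ = b := mul_one b

lemma Eab_natDegree_le (a b : ℕ) : (Eab a b : k[X]).natDegree ≤ a + b := by
  refine natDegree_mul_le.trans ?_
  have h1 := natDegree_X_pow_le (R := k) a
  have h2 := natDegree_X_sub_one_pow_le (k := k) b
  omega

lemma Eab_eval_ne_zero (a b : ℕ) (r : k) (hr0 : r ≠ 0) (hr1 : r ≠ 1) : (Eab a b).eval r ≠ 0 := by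
  simp only [Eab, eval_mul, eval_pow, eval_X, eval_sub, eval_one]
  exact mul_ne_zero (pow_ne_zero _ hr0) (pow_ne_zero _ (sub_ne_zero.2 hr1))

lemma Dop_Eab (a b : ℕ) (ha : 0 < a) (hb : 0 < b) : Dop a b (Eab a b : k[X]) = 0 := by
  obtain ⟨a', rfl⟩ := Nat.exists_eq_succ_of_ne_zero ha.ne'
  obtain ⟨b', rfl⟩ := Nat.exists_eq_succ_of_ne_zero hb.ne'
  simp only [Dop, Eab, derivative_mul, derivative_X_pow_succ, derivative_pow_succ, derivative_sub,
    derivative_X, derivative_one, sub_zero, map_add, map_natCast, map_one, Nat.succ_eq_add_one,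
    Nat.cast_add, Nat.cast_one]
  ring

lemma Dop_third (a b : ℕ) (hb : 0 < b) :
    Dop a b (X ^ (a + 1) * (X - 1) ^ b : k[X]) = X ^ (a + 1) * (X - 1) ^ (b + 1) := by
  obtain ⟨b', rfl⟩ := Nat.exists_eq_succ_of_ne_zero hb.ne'
  simp only [Dop, derivative_mul, derivative_X_pow_succ, derivative_pow_succ, derivative_sub,
    derivative_X, derivative_one, sub_zero, map_add, map_natCast, map_one, Nat.succ_eq_add_one,
    Nat.cast_add, Nat.cast_one]
  ring

lemma Dop_first (a b : ℕ) (ha : 0 < a) (w : k[X]) :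
    Dop a b (X ^ a * w) = X ^ (a + 1) * ((X - 1) * derivative w - (b : k[X]) * w) := by
  obtain ⟨a', rfl⟩ := Nat.exists_eq_succ_of_ne_zero ha.ne'
  simp only [Dop, derivative_mul, derivative_X_pow_succ, map_add, map_natCast, map_one,
    Nat.succ_eq_add_one, Nat.cast_add, Nat.cast_one]
  ring

lemma Dop_second (a b : ℕ) (hb : 0 < b) (w : k[X]) :
    Dop a b ((X - 1) ^ b * w) = (X - 1) ^ (b + 1) * (X * derivative w - (a : k[X]) * w) := by
  obtain ⟨b', rfl⟩ := Nat.exists_eq_succ_of_ne_zero hb.ne'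
  simp only [Dop, derivative_mul, derivative_pow_succ, derivative_sub,
    derivative_X, derivative_one, sub_zero, map_add, map_natCast, map_one, Nat.succ_eq_add_one,
    Nat.cast_add, Nat.cast_one]
  ring

lemma natDeg_lt_of_mem {w : k[X]} {m : ℕ} (hm : 0 < m) (hw : w ∈ degreeLT k m) :
    w.natDegree < m := by
  rcases eq_or_ne w 0 with rfl | h0
  · simpa using hm
  · exact (natDegree_lt_iff_degree_lt h0).2 (mem_degreeLT.1 hw)

lemma solveT [CharZero k] (c : k) (m : ℕ) (h : k[X]) (hh : h ∈ degreeLT k m) :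
    ∃ w ∈ degreeLT k m, (X - C c) * derivative w - C (m : k) * w = h := by
  classical
  let T : k[X] →ₗ[k] k[X] :=
    (LinearMap.mulLeft k (X - C c)).comp derivative - LinearMap.mulLeft k (C (m : k))
  have hT : ∀ w, T w = (X - C c) * derivative w - C (m : k) * w := fun w => rfl
  have hcoeff : ∀ (w : k[X]) (n : ℕ), (T w).coeff n =
      ((n : k) - m) * w.coeff n - c * ((n : k) + 1) * w.coeff (n + 1) := by
    intro w n
    rw [hT, coeff_sub, sub_mul, coeff_sub, coeff_C_mul, coeff_C_mul, coeff_derivative]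
    cases n with
    | zero => rw [coeff_X_mul_zero]; push_cast; ring
    | succ n => rw [coeff_X_mul, coeff_derivative]; push_cast; ring
  have hmaps : ∀ w ∈ degreeLT k m, T w ∈ degreeLT k m := by
    intro w hw
    rw [mem_degreeLT, degree_lt_iff_coeff_zero] at hw ⊢
    intro n hn
    rw [hcoeff, hw n hn, hw (n + 1) (by omega)]; ring
  let T' : degreeLT k m →ₗ[k] degreeLT k m := T.restrict hmaps
  have hinj : Function.Injective T' := by
    rw [← LinearMap.ker_eq_bot, LinearMap.ker_eq_bot']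
    intro w hw
    by_contra hne
    have hw0 : (w : k[X]) ≠ 0 := fun h0 => hne (Subtype.ext h0)
    have hTw : T (w : k[X]) = 0 := by
      have := congrArg Subtype.val hw
      simpa [T', LinearMap.coe_restrict_apply] using this
    have hdeg : (w : k[X]).natDegree < m :=
      (natDegree_lt_iff_degree_lt hw0).2 (mem_degreeLT.1 w.2)
    have h1 := hcoeff (w : k[X]) (w : k[X]).natDegree
    rw [hTw, coeff_zero, coeff_natDegree_succ_eq_zero, mul_zero, sub_zero] at h1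
    have hlc : (w : k[X]).coeff (w : k[X]).natDegree ≠ 0 := by
      rw [coeff_natDegree]; exact leadingCoeff_ne_zero.2 hw0
    have h2 : (((w : k[X]).natDegree : k) - m) = 0 := by
      rcases mul_eq_zero.1 h1.symm with h | h
      · exact h
      · exact absurd h hlc
    have h3 : ((w : k[X]).natDegree : k) = (m : k) := sub_eq_zero.1 h2
    have := Nat.cast_injective h3
    omega
  have hsurj : Function.Surjective T' := LinearMap.injective_iff_surjective.1 hinj
  obtain ⟨w, hw⟩ := hsurj ⟨h, hh⟩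
  refine ⟨w.1, w.2, ?_⟩
  have := congrArg Subtype.val hw
  simpa [T', LinearMap.coe_restrict_apply, hT] using this

lemma key [CharZero k] (a b : ℕ) (p : k) (hp0 : p ≠ 0) (hp1 : p ≠ 1) :
    ∀ (m : ℕ) (v : k[X]), (X - C p) ^ m ∣ Dop a b v → v.eval p = 0 →
      (X - C p) ^ (m + 1) ∣ v := by
  intro m
  induction m with
  | zero =>
    intro v _ hv
    rw [zero_add, pow_one, dvd_iff_isRoot]
    exact hv
  | succ m ih =>
    intro v hD hv
    have h1 : (X - C p) ^ (m + 1) ∣ v :=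
      ih v (dvd_trans (pow_dvd_pow _ (Nat.le_succ m)) hD) hv
    obtain ⟨w, rfl⟩ := h1
    have hform : Dop a b ((X - C p) ^ (m + 1) * w) =
        (X - C p) ^ m * (((m : k[X]) + 1) * (X * (X - 1)) * w + (X - C p) * Dop a b w) := by
      simp only [Dop, derivative_mul, derivative_pow_succ, derivative_X_sub_C, map_add,
        map_natCast, map_one]
      ring
    rw [hform, pow_succ, mul_dvd_mul_iff_left (pow_ne_zero _ (X_sub_C_ne_zero p))] at hD
    have h2 : (X - C p) ∣ ((m : k[X]) + 1) * (X * (X - 1)) * w :=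
      (dvd_add_left (dvd_mul_right _ _)).1 hD
    rw [dvd_iff_isRoot, IsRoot.def] at h2
    simp only [eval_mul, eval_add, eval_natCast, eval_one, eval_X, eval_sub] at h2
    have hw : w.eval p = 0 := by
      have hm : ((m : k) + 1) ≠ 0 := Nat.cast_add_one_ne_zero m
      have hp1' : p - 1 ≠ 0 := sub_ne_zero.2 hp1
      rcases mul_eq_zero.1 h2 with h | h
      · exact absurd h (mul_ne_zero hm (mul_ne_zero hp0 hp1'))
      · exact h
    obtain ⟨w', rfl⟩ := dvd_iff_isRoot.2 hw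
    exact ⟨w', by ring⟩

lemma norm_dvd [CharZero k] (a b : ℕ) (ha : 0 < a) (hb : 0 < b) (r : k) (hr0 : r ≠ 0)
    (hr1 : r ≠ 1) (u : k[X]) (m : ℕ) (hdiv : (X - C r) ^ m ∣ Dop a b u) :
    (X - C r) ^ (m + 1) ∣ u - C (u.eval r / (Eab a b).eval r) * Eab a b := by
  apply key a b r hr0 hr1 m
  · rwa [Dop_sub, Dop_C_mul, Dop_Eab a b ha hb, mul_zero, sub_zero]
  · rw [eval_sub, eval_mul, eval_C, div_mul_cancel₀ _ (Eab_eval_ne_zero a b r hr0 hr1), sub_self]

lemma third_part (a b : ℕ) (hb : 0 < b) (f : k[X])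
    (hf : f ∈ Submodule.span k {(X : k[X]) ^ (a + 1) * (X - 1) ^ (b + 1)}) :
    ∃ u : k[X], u.natDegree ≤ a + b + 1 ∧ Dop a b u = f := by
  obtain ⟨c, rfl⟩ := Submodule.mem_span_singleton.1 hf
  refine ⟨C c * (X ^ (a + 1) * (X - 1) ^ b), ?_, ?_⟩
  · refine (natDegree_C_mul_le _ _).trans (natDegree_mul_le.trans ?_)
    have h1 : (X ^ (a + 1) : k[X]).natDegree ≤ a + 1 := natDegree_X_pow_le _
    have h2 := natDegree_X_sub_one_pow_le (k := k) b
    omega
  · rw [Dop_C_mul, Dop_third a b hb, smul_eq_C_mul]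

lemma first_part [CharZero k] (a b : ℕ) (ha : 0 < a) (hb : 0 < b) (f : k[X])
    (hf1 : (X : k[X]) ^ (a + 1) ∣ f) (hf2 : f.natDegree ≤ a + b) :
    ∃ u : k[X], u.natDegree ≤ a + b + 1 ∧ Dop a b u = f := by
  obtain ⟨g, rfl⟩ := hf1
  have hg : g ∈ degreeLT k b := by
    rw [mem_degreeLT]
    rcases eq_or_ne g 0 with rfl | hg0
    · rw [degree_zero]; exact WithBot.bot_lt_coe _
    · rw [natDegree_X_pow_mul _ hg0] at hf2
      exact (natDegree_lt_iff_degree_lt hg0).1 (by omega)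
  obtain ⟨w, hw, hTw⟩ := solveT (1 : k) b g hg
  have hwdeg : w.natDegree < b := natDeg_lt_of_mem hb hw
  have hTw' : (X - 1) * derivative w - (b : k[X]) * w = g := by
    rw [← hTw, C_1, map_natCast]
  refine ⟨X ^ a * w, ?_, ?_⟩
  · refine natDegree_mul_le.trans ?_
    have := natDegree_X_pow_le (R := k) a
    omega
  · rw [Dop_first a b ha, hTw']

lemma second_part [CharZero k] (a b : ℕ) (ha : 0 < a) (hb : 0 < b) (f : k[X])
    (hf1 : ((X : k[X]) - 1) ^ (b + 1) ∣ f) (hf2 : f.natDegree ≤ a + b) :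
    ∃ u : k[X], u.natDegree ≤ a + b + 1 ∧ Dop a b u = f := by
  obtain ⟨g, rfl⟩ := hf1
  have hne : ((X : k[X]) - 1) ^ (b + 1) ≠ 0 := by
    rw [← C_1]; exact pow_ne_zero _ (X_sub_C_ne_zero 1)
  have hdeg : (((X : k[X]) - 1) ^ (b + 1)).natDegree = b + 1 := by
    rw [← C_1, (monic_X_sub_C (1 : k)).natDegree_pow, natDegree_X_sub_C, mul_one]
  have hg : g ∈ degreeLT k a := by
    rw [mem_degreeLT]
    rcases eq_or_ne g 0 with rfl | hg0
    · rw [degree_zero]; exact WithBot.bot_lt_coe _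
    · rw [natDegree_mul hne hg0, hdeg] at hf2
      exact (natDegree_lt_iff_degree_lt hg0).1 (by omega)
  obtain ⟨w, hw, hTw⟩ := solveT (0 : k) a g hg
  have hwdeg : w.natDegree < a := natDeg_lt_of_mem ha hw
  have hTw' : X * derivative w - (a : k[X]) * w = g := by
    rw [← hTw, C_0, sub_zero, map_natCast]
  refine ⟨(X - 1) ^ b * w, ?_, ?_⟩
  · refine natDegree_mul_le.trans ?_
    have := natDegree_X_sub_one_pow_le (k := k) b
    omega
  · rw [Dop_second a b hb, hTw']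

end aux

open Polynomial in
theorem main_aux
    (k : Type*) [Field k] [CharZero k] (a b i j : ℕ) (ha : 0 < a) (hb : 0 < b) (hi : 0 < i) (hiab : i ≤ a + b)
    (hj : i + j = a + b + 2)
    (V : Submodule k (Polynomial k))
    (hV : V = ((Ideal.span {(X : Polynomial k) ^ (a + 1)}).restrictScalars k ⊓ Polynomial.degreeLE k ↑(a + b)) ⊔
      ((Ideal.span {((X : Polynomial k) - 1) ^ (b + 1)}).restrictScalars k ⊓ Polynomial.degreeLE k ↑(a + b)) ⊔
      Submodule.span k {(X : Polynomial k) ^ (a + 1) * (X - 1) ^ (b + 1)})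
    (p q : k) (hp0 : p ≠ 0) (hp1 : p ≠ 1) (hq0 : q ≠ 0) (hq1 : q ≠ 1) :
    ¬ (1 ≤ Module.finrank k ↥(V ⊓ (Ideal.span {(X - C p) ^ i * (X - C q) ^ j}).restrictScalars k) ∧
       2 ≤ Module.finrank k ↥(V ⊓ (Ideal.span {(X - C p) ^ (i - 1) * (X - C q) ^ (j - 1)}).restrictScalars k)) := by
  rintro ⟨h1, h2⟩
  have hVim : ∀ f ∈ V, ∃ u : k[X], u.natDegree ≤ a + b + 1 ∧ Dop a b u = f := by
    intro f hf
    rw [hV] at hf
    obtain ⟨y, hy, f3, hf3, rfl⟩ := Submodule.mem_sup.1 hf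
    obtain ⟨f1, hf1, f2, hf2, rfl⟩ := Submodule.mem_sup.1 hy
    obtain ⟨hf1a, hf1b⟩ := Submodule.mem_inf.1 hf1
    obtain ⟨hf2a, hf2b⟩ := Submodule.mem_inf.1 hf2
    rw [Submodule.restrictScalars_mem, Ideal.mem_span_singleton] at hf1a hf2a
    have hd1 : f1.natDegree ≤ a + b := natDegree_le_of_degree_le (mem_degreeLE.1 hf1b)
    have hd2 : f2.natDegree ≤ a + b := natDegree_le_of_degree_le (mem_degreeLE.1 hf2b)
    obtain ⟨u1, hu1, hD1⟩ := first_part a b ha hb f1 hf1a hd1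
    obtain ⟨u2, hu2, hD2⟩ := second_part a b ha hb f2 hf2a hd2
    obtain ⟨u3, hu3, hD3⟩ := third_part a b hb f3 hf3
    refine ⟨u1 + u2 + u3, ?_, by rw [Dop_add, Dop_add, hD1, hD2, hD3]⟩
    exact (natDegree_add_le _ _).trans
      (max_le ((natDegree_add_le _ _).trans (max_le hu1 hu2)) hu3)
  have hDA : ∀ (u : k[X]) (c : k), Dop a b (u - C c * Eab a b) = Dop a b u := by
    intro u c; rw [Dop_sub, Dop_C_mul, Dop_Eab a b ha hb, mul_zero, sub_zero]
  have hdegsub : ∀ (u : k[X]) (c : k), u.natDegree ≤ a + b + 1 →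
      (u - C c * Eab a b).natDegree ≤ a + b + 1 := fun u c hu =>
    (natDegree_sub_le _ _).trans (max_le hu ((natDegree_C_mul_le _ _).trans
      ((Eab_natDegree_le a b).trans (Nat.le_succ _))))
  -- f₁
  have hne : V ⊓ (Ideal.span {(X - C p) ^ i * (X - C q) ^ j}).restrictScalars k ≠ ⊥ := by
    intro h
    rw [h] at h1
    simp at h1
  obtain ⟨f₁, hf₁mem, hf₁ne⟩ := Submodule.exists_mem_ne_zero_of_ne_bot hne
  obtain ⟨hf₁V, hf₁F⟩ := Submodule.mem_inf.1 hf₁mem
  rw [Submodule.restrictScalars_mem, Ideal.mem_span_singleton] at hf₁F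
  obtain ⟨u₁, hu₁deg, hu₁⟩ := hVim f₁ hf₁V
  -- f₂
  obtain ⟨f₂, hf₂mem, hf₂span⟩ : ∃ f₂ ∈ V ⊓ (Ideal.span
      {(X - C p) ^ (i - 1) * (X - C q) ^ (j - 1)}).restrictScalars k,
      f₂ ∉ Submodule.span k {f₁} := by
    by_contra hcon
    push_neg at hcon
    have hle : V ⊓ (Ideal.span {(X - C p) ^ (i - 1) * (X - C q) ^ (j - 1)}).restrictScalars k ≤
        Submodule.span k {f₁} := hcon
    have h3 := Submodule.finrank_mono hle
    rw [finrank_span_singleton hf₁ne] at h3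
    omega
  obtain ⟨hf₂V, hf₂G⟩ := Submodule.mem_inf.1 hf₂mem
  rw [Submodule.restrictScalars_mem, Ideal.mem_span_singleton] at hf₂G
  obtain ⟨u₂, hu₂deg, hu₂⟩ := hVim f₂ hf₂V
  have hj1 : j - 1 + 1 = j := by omega
  have hi1 : i - 1 + 1 = i := by omega
  by_cases hpq : p = q
  · subst hpq
    have hdvd : (X - C p) ^ (i + j) ∣ Dop a b u₁ := by rw [hu₁, pow_add]; exact hf₁F
    have hA := norm_dvd a b ha hb p hp0 hp1 u₁ (i + j) hdvd
    have hA0 : u₁ - C (u₁.eval p / (Eab a b).eval p) * Eab a b = 0 := by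
      apply eq_zero_of_dvd_of_natDegree_lt hA
      rw [(monic_X_sub_C p).natDegree_pow, natDegree_X_sub_C]
      have := hdegsub u₁ (u₁.eval p / (Eab a b).eval p) hu₁deg
      omega
    apply hf₁ne
    rw [← hu₁, ← hDA u₁ (u₁.eval p / (Eab a b).eval p), hA0, Dop_zero]
  · have hcop : ∀ m n : ℕ, IsCoprime ((X - C p) ^ m) ((X - C q) ^ n) := fun m n =>
      (isCoprime_X_sub_C_of_isUnit_sub (sub_ne_zero.2 hpq).isUnit).pow
    have hdegprod : ∀ m n : ℕ, ((X - C p) ^ m * (X - C q) ^ n).natDegree = m + n := by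
      intro m n
      rw [((monic_X_sub_C p).pow m).natDegree_mul ((monic_X_sub_C q).pow n),
        (monic_X_sub_C p).natDegree_pow, (monic_X_sub_C q).natDegree_pow, natDegree_X_sub_C,
        natDegree_X_sub_C, mul_one, mul_one]
    have hpi : (X - C p) ^ i ∣ Dop a b u₁ := by rw [hu₁]; exact dvd_trans (dvd_mul_right _ _) hf₁F
    have hqj : (X - C q) ^ j ∣ Dop a b u₁ := by rw [hu₁]; exact dvd_trans (dvd_mul_left _ _) hf₁F
    have hpi2 : (X - C p) ^ (i - 1) ∣ Dop a b u₂ := by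
      rw [hu₂]; exact dvd_trans (dvd_mul_right _ _) hf₂G
    have hqj2 : (X - C q) ^ (j - 1) ∣ Dop a b u₂ := by
      rw [hu₂]; exact dvd_trans (dvd_mul_left _ _) hf₂G
    have hA₁ := norm_dvd a b ha hb p hp0 hp1 u₁ i hpi
    have hB₁ := norm_dvd a b ha hb q hq0 hq1 u₁ j hqj
    have hA₂ := norm_dvd a b ha hb p hp0 hp1 u₂ (i - 1) hpi2
    have hB₂ := norm_dvd a b ha hb q hq0 hq1 u₂ (j - 1) hqj2
    rw [hi1] at hA₂
    rw [hj1] at hB₂
    obtain ⟨l1, hl1⟩ : ∃ l1, l1 = u₁.eval p / (Eab a b).eval p := ⟨_, rfl⟩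
    obtain ⟨m1, hm1⟩ : ∃ m1, m1 = u₁.eval q / (Eab a b).eval q := ⟨_, rfl⟩
    obtain ⟨l2, hl2⟩ : ∃ l2, l2 = u₂.eval p / (Eab a b).eval p := ⟨_, rfl⟩
    obtain ⟨m2, hm2⟩ : ∃ m2, m2 = u₂.eval q / (Eab a b).eval q := ⟨_, rfl⟩
    rw [← hl1] at hA₁
    rw [← hm1] at hB₁
    rw [← hl2] at hA₂
    rw [← hm2] at hB₂
    have hw1 : C (m1 - l1) * (u₂ - C l2 * Eab a b) - C (m2 - l2) * (u₁ - C l1 * Eab a b) =
        C (m1 - l1) * (u₂ - C m2 * Eab a b) - C (m2 - l2) * (u₁ - C m1 * Eab a b) := by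
      simp only [map_sub]; ring
    have hwp : (X - C p) ^ i ∣
        C (m1 - l1) * (u₂ - C l2 * Eab a b) - C (m2 - l2) * (u₁ - C l1 * Eab a b) :=
      dvd_sub (dvd_mul_of_dvd_right hA₂ _)
        (dvd_mul_of_dvd_right (dvd_trans (pow_dvd_pow _ (Nat.le_succ i)) hA₁) _)
    have hwq : (X - C q) ^ j ∣
        C (m1 - l1) * (u₂ - C l2 * Eab a b) - C (m2 - l2) * (u₁ - C l1 * Eab a b) := by
      rw [hw1]
      exact dvd_sub (dvd_mul_of_dvd_right hB₂ _)
        (dvd_mul_of_dvd_right (dvd_trans (pow_dvd_pow _ (Nat.le_succ j)) hB₁) _)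
    have hw0 : C (m1 - l1) * (u₂ - C l2 * Eab a b) - C (m2 - l2) * (u₁ - C l1 * Eab a b) = 0 := by
      apply eq_zero_of_dvd_of_natDegree_lt ((hcop i j).mul_dvd hwp hwq)
      rw [hdegprod]
      have : (C (m1 - l1) * (u₂ - C l2 * Eab a b) -
          C (m2 - l2) * (u₁ - C l1 * Eab a b)).natDegree ≤ a + b + 1 :=
        (natDegree_sub_le _ _).trans (max_le
          ((natDegree_C_mul_le _ _).trans (hdegsub _ _ hu₂deg))
          ((natDegree_C_mul_le _ _).trans (hdegsub _ _ hu₁deg)))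
      omega
    have hDw := congrArg (Dop a b) hw0
    rw [Dop_sub, Dop_C_mul, Dop_C_mul, hDA, hDA, hu₁, hu₂, Dop_zero] at hDw
    by_cases hδ : m1 - l1 = 0
    · have hml : m1 = l1 := sub_eq_zero.1 hδ
      rw [hml] at hB₁
      have hA0 : u₁ - C l1 * Eab a b = 0 := by
        apply eq_zero_of_dvd_of_natDegree_lt ((hcop (i + 1) (j + 1)).mul_dvd hA₁ hB₁)
        rw [hdegprod]
        have := hdegsub u₁ l1 hu₁deg
        omega
      apply hf₁ne
      rw [← hu₁, ← hDA u₁ l1, hA0, Dop_zero]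
    · apply hf₂span
      rw [Submodule.mem_span_singleton]
      refine ⟨(m2 - l2) / (m1 - l1), ?_⟩
      have hEq : C (m1 - l1) * f₂ = C (m2 - l2) * f₁ := sub_eq_zero.1 hDw
      have hC : (C (m1 - l1) : k[X]) ≠ 0 := by
        rw [Ne, C_eq_zero]; exact hδ
      have hmul : (m1 - l1) * ((m2 - l2) / (m1 - l1)) = m2 - l2 := by field_simp
      rw [smul_eq_C_mul]
      apply mul_left_cancel₀ hC
      rw [← mul_assoc, ← C_mul, hmul, hEq]

open Polynomial in
/-- Let `k` be a field of characteristic zero, `a, b, i` positive integers with `i ≤ a + b`, and `j = a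
+ b + 2 - i`. On the projective line with three marked points `A = 0`, `B = 1`, `C = ∞`, the
`(a+b+1)`-dimensional linear system `V = H⁰(ω((1+a)A)) ⊕ H⁰(ω((1+b)B)) ⊕ H⁰(ω(2C)) ⊆ H⁰(ω((1+a)A +
(1+b)B + 2C)) ≅ H⁰(O(a+b+2))` becomes, in the affine coordinate, the span of the multiples of
`X^(a+1)` of degree at most `a+b`, the multiples of `(X-1)^(b+1)` of degree at most `a+b`, and
`X^(a+1) (X-1)^(b+1)`; and `V(-iP-jQ)` is the subspace of members divisible by `(X-p)^i (X-q)^j`.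
Then there are no points `P = p`, `Q = q` other than `A, B, C` (that is, `p, q ∉ {0, 1}`; `p = q`
allowed) with both `dim V(-iP-jQ) ≥ 1` and `dim V(-(i-1)P-(j-1)Q) ≥ 2`. (The published statement is
over the complex numbers.) -/
theorem result
    (k : Type*) [Field k] [CharZero k] (a b i j : ℕ) (ha : 0 < a) (hb : 0 < b) (hi : 0 < i) (hiab : i ≤ a + b)
    (hj : i + j = a + b + 2)
    (V : Submodule k (Polynomial k))
    (hV : V = ((Ideal.span {(X : Polynomial k) ^ (a + 1)}).restrictScalars k ⊓ Polynomial.degreeLE k ↑(a + b)) ⊔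
      ((Ideal.span {((X : Polynomial k) - 1) ^ (b + 1)}).restrictScalars k ⊓ Polynomial.degreeLE k ↑(a + b)) ⊔
      Submodule.span k {(X : Polynomial k) ^ (a + 1) * (X - 1) ^ (b + 1)})
    (p q : k) (hp0 : p ≠ 0) (hp1 : p ≠ 1) (hq0 : q ≠ 0) (hq1 : q ≠ 1) :
    ¬ (1 ≤ Module.finrank k ↥(V ⊓ (Ideal.span {(X - C p) ^ i * (X - C q) ^ j}).restrictScalars k) ∧
       2 ≤ Module.finrank k ↥(V ⊓ (Ideal.span {(X - C p) ^ (i - 1) * (X - C q) ^ (j - 1)}).restrictScalars k)) := by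
  exact main_aux k a b i j ha hb hi hiab hj V hV p q hp0 hp1 hq0 hq1

end Groth.Agent.S16260
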