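import Groth.Statements.S16261
import Mathlib
import Groth.Agent.S16260
import Groth.Agent.Lib.Helper22.BinomZ

set_option autoImplicit false
open W4c3wronskmg

namespace Groth.Agent.S16261

section aux
open Polynomial
open Groth.Agent.S16260

variable {k : Type*} [Field k]

lemma Dop_X_pow_mul (a b m : ℕ) (w : k[X]) :
    Dop a b (X ^ m * w) = X ^ m * ((X - 1) * ((m : k[X]) * w + X * derivative w) -
      (((a : k[X]) + (b : k[X])) * X - (a : k[X])) * w) := by
  have h := Groth.Agent.Lib.Helper22.BinomZ.mul_deriv_pow (X : k[X]) m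
  rw [derivative_X, mul_one] at h
  unfold Dop
  rw [derivative_mul]
  linear_combination (X - 1) * w * h

lemma Dop_X1_pow_mul (a b m : ℕ) (w : k[X]) :
    Dop a b ((X - 1) ^ m * w) = (X - 1) ^ m * (X * ((m : k[X]) * w + (X - 1) * derivative w) -
      (((a : k[X]) + (b : k[X])) * X - (a : k[X])) * w) := by
  have h := Groth.Agent.Lib.Helper22.BinomZ.mul_deriv_pow (X - 1 : k[X]) m
  have d : derivative (X - 1 : k[X]) = 1 := by simp
  rw [d, mul_one] at h
  unfold Dop
  rw [derivative_mul]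
  linear_combination X * w * h

lemma step0 [CharZero k] (a b m : ℕ) (hm : m ≠ a) (v : k[X]) (hD : X ^ (m + 1) ∣ Dop a b v)
    (hv : X ^ m ∣ v) : X ^ (m + 1) ∣ v := by
  obtain ⟨w, rfl⟩ := hv
  rw [Dop_X_pow_mul, pow_succ, mul_dvd_mul_iff_left (pow_ne_zero _ X_ne_zero), X_dvd_iff,
    coeff_zero_eq_eval_zero] at hD
  simp only [eval_sub, eval_mul, eval_add, eval_X, eval_one, eval_natCast] at hD
  have h1 : ((a : k) - m) * w.eval 0 = 0 := by linear_combination hD
  have h2 : (a : k) - m ≠ 0 := by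
    rw [sub_ne_zero]
    exact fun h => hm (Nat.cast_injective h).symm
  have hw : w.eval 0 = 0 := by
    rcases mul_eq_zero.1 h1 with h | h
    · exact absurd h h2
    · exact h
  have : X ∣ w := by rw [X_dvd_iff, coeff_zero_eq_eval_zero]; exact hw
  rw [pow_succ]
  exact mul_dvd_mul_left _ this

lemma step1 [CharZero k] (a b m : ℕ) (hm : m ≠ b) (v : k[X])
    (hD : (X - 1) ^ (m + 1) ∣ Dop a b v) (hv : (X - 1) ^ m ∣ v) : (X - 1) ^ (m + 1) ∣ v := by
  obtain ⟨w, rfl⟩ := hv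
  have hne : (X - 1 : k[X]) ≠ 0 := by rw [← C_1]; exact X_sub_C_ne_zero 1
  have hroot : ∀ B : k[X], (X - 1) ∣ B ↔ B.eval 1 = 0 := by
    intro B; rw [← C_1, dvd_iff_isRoot]; rfl
  rw [Dop_X1_pow_mul, pow_succ, mul_dvd_mul_iff_left (pow_ne_zero _ hne), hroot] at hD
  simp only [eval_sub, eval_mul, eval_add, eval_X, eval_one, eval_natCast] at hD
  have h1 : ((m : k) - b) * w.eval 1 = 0 := by linear_combination hD
  have h2 : (m : k) - b ≠ 0 := by
    rw [sub_ne_zero]
    exact fun h => hm (Nat.cast_injective h)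
  have hw : w.eval 1 = 0 := by
    rcases mul_eq_zero.1 h1 with h | h
    · exact absurd h h2
    · exact h
  rw [pow_succ]
  exact mul_dvd_mul_left _ ((hroot w).2 hw)

lemma low0 [CharZero k] (a b : ℕ) : ∀ m, m ≤ a → ∀ v : k[X], X ^ m ∣ Dop a b v → X ^ m ∣ v := by
  intro m
  induction m with
  | zero => intro _ v _; rw [pow_zero]; exact one_dvd _
  | succ m ih =>
    intro hm v hD
    exact step0 a b m (by omega) v hD
      (ih (by omega) v (dvd_trans (pow_dvd_pow X (Nat.le_succ m)) hD))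

lemma low1 [CharZero k] (a b : ℕ) :
    ∀ m, m ≤ b → ∀ v : k[X], (X - 1) ^ m ∣ Dop a b v → (X - 1) ^ m ∣ v := by
  intro m
  induction m with
  | zero => intro _ v _; rw [pow_zero]; exact one_dvd _
  | succ m ih =>
    intro hm v hD
    exact step1 a b m (by omega) v hD
      (ih (by omega) v (dvd_trans (pow_dvd_pow (X - 1) (Nat.le_succ m)) hD))

lemma high0 [CharZero k] (a b : ℕ) (v : k[X]) (hv : X ^ (a + 1) ∣ v) :
    ∀ m, a + 1 ≤ m → X ^ m ∣ Dop a b v → X ^ m ∣ v := by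
  intro m hm
  induction m, hm using Nat.le_induction with
  | base => intro _; exact hv
  | succ m hm ih =>
    intro hD
    exact step0 a b m (by omega) v hD (ih (dvd_trans (pow_dvd_pow X (Nat.le_succ m)) hD))

lemma high1 [CharZero k] (a b : ℕ) (v : k[X]) (hv : (X - 1) ^ (b + 1) ∣ v) :
    ∀ m, b + 1 ≤ m → (X - 1) ^ m ∣ Dop a b v → (X - 1) ^ m ∣ v := by
  intro m hm
  induction m, hm using Nat.le_induction with
  | base => intro _; exact hv
  | succ m hm ih =>
    intro hD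
    exact step1 a b m (by omega) v hD
      (ih (dvd_trans (pow_dvd_pow (X - 1) (Nat.le_succ m)) hD))

lemma norm0 [CharZero k] (a b : ℕ) (u : k[X]) (hD : X ^ (a + 1) ∣ Dop a b u) :
    ∃ c : k, X ^ (a + 1) ∣ u - C c * Eab a b := by
  obtain ⟨w, rfl⟩ := low0 a b a le_rfl u (dvd_trans (pow_dvd_pow X (Nat.le_succ a)) hD)
  refine ⟨w.eval 0 / (-1) ^ b, ?_⟩
  have hne : ((-1 : k)) ^ b ≠ 0 := pow_ne_zero _ (neg_ne_zero.2 one_ne_zero)
  have e : X ^ a * w - C (w.eval 0 / (-1) ^ b) * Eab a b =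
      X ^ a * (w - C (w.eval 0 / (-1) ^ b) * (X - 1) ^ b) := by
    unfold Eab; ring
  rw [e, pow_succ]
  refine mul_dvd_mul_left _ ?_
  rw [X_dvd_iff, coeff_zero_eq_eval_zero]
  simp only [eval_sub, eval_mul, eval_C, eval_pow, eval_X, eval_one, zero_sub]
  rw [div_mul_cancel₀ _ hne, sub_self]

lemma norm1 [CharZero k] (a b : ℕ) (u : k[X]) (hD : (X - 1) ^ (b + 1) ∣ Dop a b u) :
    ∃ c : k, (X - 1) ^ (b + 1) ∣ u - C c * Eab a b := by
  obtain ⟨w, rfl⟩ := low1 a b b le_rfl u (dvd_trans (pow_dvd_pow (X - 1) (Nat.le_succ b)) hD)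
  refine ⟨w.eval 1, ?_⟩
  have e : (X - 1) ^ b * w - C (w.eval 1) * Eab a b =
      (X - 1) ^ b * (w - C (w.eval 1) * X ^ a) := by
    unfold Eab; ring
  rw [e, pow_succ]
  refine mul_dvd_mul_left _ ?_
  rw [← C_1, dvd_iff_isRoot, IsRoot.def]
  simp only [eval_sub, eval_mul, eval_C, eval_pow, eval_X, one_pow, mul_one, sub_self]

end aux

open Polynomial in
/-- With `k` of characteristic zero, `a, b, i` positive, `i ≤ a + b`, `j = a + b + 2 - i` and `V ⊆ k[X]`
the linear system of the first assertion (marked points `A = 0`, `B = 1`, `C = ∞`; `V` spanned by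
the multiples of `X^(a+1)` of degree at most `a+b`, the multiples of `(X-1)^(b+1)` of degree at most
`a+b`, and `X^(a+1) (X-1)^(b+1)`): if the point `P` is put at `A` and `Q = q` is any point other
than `C`, and both `dim V(-iA-jQ) ≥ 1` and `dim V(-(i-1)A-(j-1)Q) ≥ 2` hold, then `i ≥ a + 1`. (The
published statement is over the complex numbers.) -/
theorem result
    (k : Type*) [Field k] [CharZero k] (a b i j : ℕ) (ha : 0 < a) (hb : 0 < b) (hi : 0 < i) (hiab : i ≤ a + b)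
    (hj : i + j = a + b + 2)
    (V : Submodule k (Polynomial k))
    (hV : V = ((Ideal.span {(X : Polynomial k) ^ (a + 1)}).restrictScalars k ⊓ Polynomial.degreeLE k ↑(a + b)) ⊔
      ((Ideal.span {((X : Polynomial k) - 1) ^ (b + 1)}).restrictScalars k ⊓ Polynomial.degreeLE k ↑(a + b)) ⊔
      Submodule.span k {(X : Polynomial k) ^ (a + 1) * (X - 1) ^ (b + 1)})
    (q : k)
    (h1 : 1 ≤ Module.finrank k ↥(V ⊓ (Ideal.span {(X : Polynomial k) ^ i * (X - C q) ^ j}).restrictScalars k))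
    (h2 : 2 ≤ Module.finrank k ↥(V ⊓ (Ideal.span {(X : Polynomial k) ^ (i - 1) * (X - C q) ^ (j - 1)}).restrictScalars k)) :
    a + 1 ≤ i := by
  classical
  by_contra hia
  have hia' : i ≤ a := by omega
  have hVim : ∀ f ∈ V, ∃ u : k[X], u.natDegree ≤ a + b + 1 ∧ Groth.Agent.S16260.Dop a b u = f := by
    intro f hf
    rw [hV] at hf
    obtain ⟨y, hy, f3, hf3, rfl⟩ := Submodule.mem_sup.1 hf
    obtain ⟨f1, hf1, f2, hf2, rfl⟩ := Submodule.mem_sup.1 hy
    obtain ⟨hf1a, hf1b⟩ := Submodule.mem_inf.1 hf1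
    obtain ⟨hf2a, hf2b⟩ := Submodule.mem_inf.1 hf2
    rw [Submodule.restrictScalars_mem, Ideal.mem_span_singleton] at hf1a hf2a
    have hd1 : f1.natDegree ≤ a + b := natDegree_le_of_degree_le (mem_degreeLE.1 hf1b)
    have hd2 : f2.natDegree ≤ a + b := natDegree_le_of_degree_le (mem_degreeLE.1 hf2b)
    obtain ⟨u1, hu1, hD1⟩ := Groth.Agent.S16260.first_part a b ha hb f1 hf1a hd1
    obtain ⟨u2, hu2, hD2⟩ := Groth.Agent.S16260.second_part a b ha hb f2 hf2a hd2
    obtain ⟨u3, hu3, hD3⟩ := Groth.Agent.S16260.third_part a b hb f3 hf3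
    refine ⟨u1 + u2 + u3, ?_, by rw [Groth.Agent.S16260.Dop_add, Groth.Agent.S16260.Dop_add,
      hD1, hD2, hD3]⟩
    exact (natDegree_add_le _ _).trans
      (max_le ((natDegree_add_le _ _).trans (max_le hu1 hu2)) hu3)
  have hDA : ∀ (u : k[X]) (c : k), Groth.Agent.S16260.Dop a b
      (u - C c * Groth.Agent.S16260.Eab a b) = Groth.Agent.S16260.Dop a b u := by
    intro u c
    rw [Groth.Agent.S16260.Dop_sub, Groth.Agent.S16260.Dop_C_mul,
      Groth.Agent.S16260.Dop_Eab a b ha hb, mul_zero, sub_zero]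
  have hdegsub : ∀ (u : k[X]) (c : k), u.natDegree ≤ a + b + 1 →
      (u - C c * Groth.Agent.S16260.Eab a b).natDegree ≤ a + b + 1 := fun u c hu =>
    (natDegree_sub_le _ _).trans (max_le hu ((natDegree_C_mul_le _ _).trans
      ((Groth.Agent.S16260.Eab_natDegree_le a b).trans (Nat.le_succ _))))
  have hne : V ⊓ (Ideal.span {(X : k[X]) ^ i * (X - C q) ^ j}).restrictScalars k ≠ ⊥ := by
    intro h
    rw [h] at h1
    simp at h1
  obtain ⟨f₁, hf₁mem, hf₁ne⟩ := Submodule.exists_mem_ne_zero_of_ne_bot hne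
  obtain ⟨hf₁V, hf₁F⟩ := Submodule.mem_inf.1 hf₁mem
  rw [Submodule.restrictScalars_mem, Ideal.mem_span_singleton] at hf₁F
  obtain ⟨u₁, hu₁deg, hu₁⟩ := hVim f₁ hf₁V
  have hXi : (X : k[X]) ^ i ∣ Groth.Agent.S16260.Dop a b u₁ := by
    rw [hu₁]; exact dvd_trans (dvd_mul_right _ _) hf₁F
  have hqj : (X - C q) ^ j ∣ Groth.Agent.S16260.Dop a b u₁ := by
    rw [hu₁]; exact dvd_trans (dvd_mul_left _ _) hf₁F
  -- conclude from a normalised antiderivative divisible by a polynomial of too large degree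
  have finish : ∀ (c : k) (P : k[X]), a + b + 1 < P.natDegree →
      P ∣ u₁ - C c * Groth.Agent.S16260.Eab a b → False := by
    intro c P hP hdvd
    have h0 : u₁ - C c * Groth.Agent.S16260.Eab a b = 0 :=
      eq_zero_of_dvd_of_natDegree_lt hdvd (lt_of_le_of_lt (hdegsub u₁ c hu₁deg) hP)
    apply hf₁ne
    rw [← hu₁, ← hDA u₁ c, h0, Groth.Agent.S16260.Dop_zero]
  by_cases hq0 : q = 0
  · subst hq0
    rw [C_0, sub_zero, ← pow_add] at hf₁F
    have hD : (X : k[X]) ^ (i + j) ∣ Groth.Agent.S16260.Dop a b u₁ := by rw [hu₁]; exact hf₁F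
    obtain ⟨c, hc⟩ := norm0 a b u₁ (dvd_trans (pow_dvd_pow X (by omega : a + 1 ≤ i + j)) hD)
    have h2 := high0 a b _ hc (i + j) (by omega) (by rw [hDA]; exact hD)
    exact finish c _ (by rw [natDegree_X_pow]; omega) h2
  by_cases hq1 : q = 1
  · subst hq1
    rw [C_1] at hqj
    obtain ⟨c, hc⟩ := norm1 a b u₁ (dvd_trans (pow_dvd_pow (X - 1) (by omega : b + 1 ≤ j)) hqj)
    have h2 := high1 a b _ hc j (by omega) (by rw [hDA]; exact hqj)
    have h3 := low0 a b i hia' (u₁ - C c * Groth.Agent.S16260.Eab a b) (by rw [hDA]; exact hXi)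
    have hcop : IsCoprime ((X : k[X]) ^ i) ((X - 1) ^ j) :=
      IsCoprime.pow ⟨1, -1, by ring⟩
    refine finish c _ ?_ (hcop.mul_dvd h3 h2)
    rw [← C_1, ((monic_X_pow i).natDegree_mul ((monic_X_sub_C (1 : k)).pow j)), natDegree_X_pow,
      (monic_X_sub_C (1 : k)).natDegree_pow, natDegree_X_sub_C]
    omega
  · have h2 := Groth.Agent.S16260.norm_dvd a b ha hb q hq0 hq1 u₁ j hqj
    have h3 := low0 a b i hia' (u₁ - C (eval q u₁ / eval q (Groth.Agent.S16260.Eab a b)) *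
      Groth.Agent.S16260.Eab a b) (by rw [hDA]; exact hXi)
    have hcop : IsCoprime ((X : k[X]) ^ i) ((X - C q) ^ (j + 1)) := by
      refine IsCoprime.pow ⟨C q⁻¹, -C q⁻¹, ?_⟩
      have : C q⁻¹ * X + -C q⁻¹ * (X - C q) = C (q⁻¹ * q) := by rw [C_mul]; ring
      rw [this, inv_mul_cancel₀ hq0, C_1]
    refine finish _ _ ?_ (hcop.mul_dvd h3 h2)
    rw [((monic_X_pow i).natDegree_mul ((monic_X_sub_C q).pow (j + 1))), natDegree_X_pow,
      (monic_X_sub_C q).natDegree_pow, natDegree_X_sub_C]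
    omega

end Groth.Agent.S16261
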