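import Groth.Statements.S16262
import Mathlib
import Groth.Agent.Lib.Helper22.BinomZ

set_option autoImplicit false
open W4c3wronskmg

namespace Groth.Agent.S16262

open Polynomial in
/-- Let `k` be a field of characteristic zero and `a, b, i` positive integers with `i < a + b`. On the
projective line with `A = 0`, `B = ∞`, `P = -1`, the system `V_{a,b} = H⁰(ω((1+a)A)) ⊕ H⁰(ω((1+b)B))
⊆ H⁰(O(a+b))` is the space of polynomials of degree at most `a+b` with vanishing coefficient of
`X^a`, and `V = V_{a,b}(-iP)` (divided by `(X+1)^i`) is the space of `G` of degree at most `a+b-i`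
such that the coefficient of `X^a` in `(X+1)^i G` vanishes; it is a linear system of dimension and
degree `a+b-i`. Then no point of the projective line other than `A` and `B` is a special
ramification point of `V` (a point of weight at least two); for such a system a point `q` of the
affine line is special exactly when two independent members are divisible by `(X-q)^(a+b-i-1)`, so
the statement is that this fails for every `q ≠ 0`. (The published statement does not except `A` and
`B`, but `A` has weight `max(b-i, 0)` in `V`, which is `2` for `a = 1, b = 3, i = 1`: there `X^3`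
and `X^2` both lie in `V`. It is stated over the complex numbers.) -/
theorem result
    (k : Type*) [Field k] [CharZero k] (a b i : ℕ) (ha : 0 < a) (hb : 0 < b) (hi : 0 < i) (hiab : i < a + b)
    (V : Submodule k (Polynomial k))
    (hV : V = Polynomial.degreeLE k ↑(a + b - i) ⊓
      LinearMap.ker ((Polynomial.lcoeff k a).comp (LinearMap.mulLeft k (((X : Polynomial k) + 1) ^ i))))
    (q : k) (hq : q ≠ 0) :
    Module.finrank k ↥(V ⊓ (Ideal.span {(X - C q) ^ (a + b - i - 1)}).restrictScalars k) ≤ 1 := by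
  classical
  obtain ⟨a', rfl⟩ := Nat.exists_eq_succ_of_ne_zero ha.ne'
  obtain ⟨s, hs⟩ : ∃ s, s = a'.succ + b - i - 1 := ⟨_, rfl⟩
  have hN : a'.succ + b - i = s + 1 := by omega
  rw [← hs]
  rw [hN] at hV
  obtain ⟨c, hcdef⟩ : ∃ c : k, c = -q⁻¹ := ⟨_, rfl⟩
  have hc : c ≠ 0 := by rw [hcdef]; exact neg_ne_zero.2 (inv_ne_zero hq)
  have hrel : (X - C q : k[X]) = C (-q) * (C c * X + 1) := by
    rw [hcdef, mul_add, ← mul_assoc, ← C_mul]
    simp [hq, sub_eq_add_neg]
  have hH : (X + 1 : k[X]) ^ i * (X - C q) ^ s =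
      C ((-q) ^ s) * Groth.Agent.Lib.Helper22.BinomZ.Kp c i s := by
    rw [hrel, mul_pow, ← C_pow]; unfold Groth.Agent.Lib.Helper22.BinomZ.Kp; ring
  obtain ⟨K, hK⟩ : ∃ K, K = Groth.Agent.Lib.Helper22.BinomZ.Kp c i s := ⟨_, rfl⟩
  rw [← hK] at hH
  have hZ : ¬ (K.coeff a' = 0 ∧ K.coeff (a' + 1) = 0) := by
    rintro ⟨h0, h1⟩
    rw [hK] at h0 h1
    exact Groth.Agent.Lib.Helper22.BinomZ.Kp_no_consecutive_zeros c hc i s a' (by omega) h0 h1
  obtain ⟨G₀, hG₀⟩ : ∃ G₀, G₀ = (X - C q) ^ s * (C (K.coeff (a' + 1)) * X - C (K.coeff a')) :=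
    ⟨_, rfl⟩
  have hqs : ((-q) ^ s : k) ≠ 0 := pow_ne_zero _ (neg_ne_zero.2 hq)
  have hle : V ⊓ (Ideal.span {(X - C q) ^ s}).restrictScalars k ≤ Submodule.span k {G₀} := by
    intro G hG
    obtain ⟨hGV, hGdvd⟩ := Submodule.mem_inf.1 hG
    rw [Submodule.restrictScalars_mem, Ideal.mem_span_singleton] at hGdvd
    rw [hV] at hGV
    obtain ⟨hGdeg, hGker⟩ := Submodule.mem_inf.1 hGV
    have hGdeg' : G.natDegree ≤ s + 1 := natDegree_le_of_degree_le (mem_degreeLE.1 hGdeg)
    rw [LinearMap.mem_ker, LinearMap.comp_apply, LinearMap.mulLeft_apply, lcoeff_apply] at hGker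
    obtain ⟨ℓ, rfl⟩ := hGdvd
    have hℓdeg : ℓ.natDegree ≤ 1 := by
      rcases eq_or_ne ℓ 0 with rfl | hℓ0
      · simp
      · rw [natDegree_mul (pow_ne_zero _ (X_sub_C_ne_zero q)) hℓ0,
          (monic_X_sub_C q).natDegree_pow, natDegree_X_sub_C, mul_one] at hGdeg'
        omega
    obtain ⟨α, β, hℓ⟩ : ∃ α β : k, ℓ = C α * X + C β :=
      ⟨_, _, eq_X_add_C_of_natDegree_le_one hℓdeg⟩
    have hcond : α * K.coeff a' + β * K.coeff (a' + 1) = 0 := by
      have e : (X + 1 : k[X]) ^ i * ((X - C q) ^ s * ℓ) =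
          C ((-q) ^ s) * (C α * (X * K) + C β * K) := by
        rw [← mul_assoc, hH, hℓ]; ring
      rw [e, coeff_C_mul, coeff_add, coeff_C_mul, coeff_C_mul, coeff_X_mul] at hGker
      rcases mul_eq_zero.1 hGker with h | h
      · exact absurd h hqs
      · exact h
    rw [Submodule.mem_span_singleton]
    by_cases hK1 : K.coeff (a' + 1) = 0
    · have hK0 : K.coeff a' ≠ 0 := fun h0 => hZ ⟨h0, hK1⟩
      have hα : α = 0 := by
        rw [hK1, mul_zero, add_zero] at hcond
        rcases mul_eq_zero.1 hcond with h | h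
        · exact h
        · exact absurd h hK0
      refine ⟨-β / K.coeff a', ?_⟩
      have hβ : β = -(-β / K.coeff a' * K.coeff a') := by field_simp
      rw [hG₀, hℓ, hα, hK1, smul_eq_C_mul]
      conv_rhs => rw [hβ]
      simp only [map_neg, map_mul, map_zero]
      ring
    · refine ⟨α / K.coeff (a' + 1), ?_⟩
      have hα : α = α / K.coeff (a' + 1) * K.coeff (a' + 1) := by field_simp
      have hβ : β = -(α / K.coeff (a' + 1) * K.coeff a') := by
        field_simp
        linear_combination hcond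
      rw [hG₀, hℓ, smul_eq_C_mul]
      conv_rhs => rw [hα, hβ]
      simp only [map_neg, map_mul]
      ring
  refine (Submodule.finrank_mono hle).trans ?_
  rcases eq_or_ne G₀ 0 with h0 | h0
  · rw [h0, Submodule.span_zero_singleton, finrank_bot]; exact Nat.zero_le _
  · rw [finrank_span_singleton h0]

end Groth.Agent.S16262
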