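import Groth.Statements.S16263
import Mathlib

set_option autoImplicit false
open W4c3wronskmg

namespace Groth.Agent.S16263

open Polynomial in
theorem claim0 (k : Type*) [Field k] (a : ℕ) (w : k[X])
    (hw : w ∈ Submodule.span k {(1 : k[X])} ⊔
      ((Ideal.span {(X : k[X]) * (X + 1)}).restrictScalars k ⊓ Polynomial.degreeLE k ↑(a + 1))) :
    w.degree ≤ ((a + 1 : ℕ) : WithBot ℕ) ∧ w.eval 0 = w.eval (-1) := by
  obtain ⟨y, hy, z, hz, rfl⟩ := Submodule.mem_sup.mp hw
  obtain ⟨c, rfl⟩ := Submodule.mem_span_singleton.mp hy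
  obtain ⟨hz1, hz2⟩ := Submodule.mem_inf.mp hz
  have hz1' : z ∈ Ideal.span {(X : k[X]) * (X + 1)} := hz1
  obtain ⟨F, rfl⟩ := Ideal.mem_span_singleton'.mp hz1'
  constructor
  · have h1 : (c • (1 : k[X])) ∈ Polynomial.degreeLE k ↑(a+1) := by
      rw [Polynomial.mem_degreeLE, Polynomial.smul_eq_C_mul, mul_one]
      exact le_trans Polynomial.degree_C_le (by exact_mod_cast Nat.zero_le _)
    exact Polynomial.mem_degreeLE.mp (Submodule.add_mem _ h1 hz2)
  · simp [Polynomial.eval_smul]

theorem le_one_of_le_span {k : Type*} [Field k] {M : Type*} [AddCommGroup M] [Module k M]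
    (W : Submodule k M) (v : M) (h : W ≤ Submodule.span k {v}) : Module.finrank k ↥W ≤ 1 := by
  refine (Submodule.finrank_mono h).trans ?_
  refine (finrank_span_le_card ({v} : Set M)).trans ?_
  simp

open Polynomial in
theorem part1 (k : Type*) [Field k] (a : ℕ) (ha : 0 < a) (V : Submodule k k[X])
    (hV : ∀ w ∈ V, w.degree ≤ ((a + 1 : ℕ) : WithBot ℕ) ∧ w.eval 0 = w.eval (-1)) (p : k) :
    Module.finrank k ↥(V ⊓ (Ideal.span {(X - C p) ^ a}).restrictScalars k) ≤ 1 := by
  obtain ⟨t, ht⟩ : ∃ t : k, t = (-1 - p)^a := ⟨_, rfl⟩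
  obtain ⟨u, hu⟩ : ∃ u : k, u = (-p)^a := ⟨_, rfl⟩
  apply le_one_of_le_span _ ((X - C p)^a * (C t + C (t - u) * X))
  intro w hw
  obtain ⟨hwV, hwJ⟩ := Submodule.mem_inf.mp hw
  have hwJ' : w ∈ Ideal.span {(X - C p) ^ a} := hwJ
  obtain ⟨G, rfl⟩ := Ideal.mem_span_singleton'.mp hwJ'
  obtain ⟨hdeg, hev⟩ := hV _ hwV
  have hne : (X - C p)^a ≠ 0 := pow_ne_zero _ (Polynomial.X_sub_C_ne_zero p)
  have hG1 : G.degree ≤ 1 := by
    by_cases hG : G = 0
    · rw [hG, Polynomial.degree_zero]; exact bot_le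
    · have h1 : (G * (X - C p)^a).natDegree = G.natDegree + a := by
        rw [Polynomial.natDegree_mul hG hne, Polynomial.natDegree_pow,
          Polynomial.natDegree_X_sub_C, mul_one]
      have h2 : (G * (X - C p)^a).natDegree ≤ a + 1 := Polynomial.natDegree_le_of_degree_le hdeg
      have h3 : G.natDegree ≤ 1 := by omega
      simpa using Polynomial.degree_le_of_natDegree_le h3
  obtain ⟨g0, g1, hG⟩ : ∃ g0 g1 : k, G = C g1 * X + C g0 :=
    ⟨_, _, Polynomial.eq_X_add_C_of_degree_le_one hG1⟩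
  subst hG
  simp only [eval_mul, eval_add, eval_C, eval_X, eval_pow, eval_sub, mul_zero, zero_add,
    zero_sub] at hev
  have hev' : g0 * u = (g0 - g1) * t := by
    rw [hu, ht]; linear_combination hev
  have key : ∃ c : k, c * t = g0 ∧ c * (t - u) = g1 := by
    by_cases htne : t = 0
    · have hp : p = -1 := by
        rw [htne] at ht
        have := pow_eq_zero_iff (ha.ne') |>.mp ht.symm
        linear_combination (-1 : k) * this
      have hu1 : u = 1 := by rw [hu, hp, neg_neg, one_pow]
      have hg0 : g0 = 0 := by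
        rw [htne, hu1, mul_one, mul_zero] at hev'
        exact hev'
      refine ⟨-g1, ?_, ?_⟩
      · rw [htne, hg0, mul_zero]
      · rw [htne, hu1]; ring
    · refine ⟨g0 / t, div_mul_cancel₀ g0 htne, ?_⟩
      rw [div_mul_eq_mul_div, div_eq_iff htne]
      linear_combination (-1 : k) * hev'
  obtain ⟨c, hc1, hc2⟩ := key
  rw [Submodule.mem_span_singleton]
  refine ⟨c, ?_⟩
  have h3 : C g1 * X + C g0 = C c * (C t + C (t - u) * X) := by
    rw [mul_add, ← mul_assoc, ← C_mul, ← C_mul, hc1, hc2, add_comm]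
  rw [Polynomial.smul_eq_C_mul, h3]
  ring

open Polynomial in
theorem part2 (k : Type*) [Field k] (a : ℕ) (V : Submodule k k[X])
    (hV : ∀ w ∈ V, w.degree ≤ ((a + 1 : ℕ) : WithBot ℕ) ∧ w.eval 0 = w.eval (-1)) :
    Module.finrank k ↥(V ⊓ Polynomial.degreeLT k 2) ≤ 1 := by
  apply le_one_of_le_span _ (1 : k[X])
  intro w hw
  obtain ⟨hwV, hw2⟩ := Submodule.mem_inf.mp hw
  obtain ⟨-, hev⟩ := hV _ hwV
  rw [Polynomial.mem_degreeLT] at hw2
  have hw1 : w.degree ≤ 1 := by
    by_cases hw0 : w = 0
    · rw [hw0, Polynomial.degree_zero]; exact bot_le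
    · have := (Polynomial.natDegree_lt_iff_degree_lt hw0).mpr hw2
      have h3 : w.natDegree ≤ 1 := by omega
      simpa using Polynomial.degree_le_of_natDegree_le h3
  obtain ⟨g0, g1, hG⟩ : ∃ g0 g1 : k, w = C g1 * X + C g0 :=
    ⟨_, _, Polynomial.eq_X_add_C_of_degree_le_one hw1⟩
  subst hG
  simp only [eval_mul, eval_add, eval_C, eval_X, mul_zero, zero_add] at hev
  have hg1 : g1 = 0 := by linear_combination hev
  rw [Submodule.mem_span_singleton]
  refine ⟨g0, ?_⟩
  rw [hg1, Polynomial.smul_eq_C_mul, mul_one, C_0, zero_mul, zero_add]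



open Polynomial in
/-- Let `k` be a field of characteristic zero and `a` a positive integer. On the projective line with `A
= 0`, `B = -1`, `C = ∞`, the `(a+1)`-dimensional system `V = H⁰(ω((1+a)C)) ⊕ H⁰(ω(A+B)) ⊆
H⁰(ω((1+a)C + A + B)) ≅ H⁰(O(a+1))` is, in the affine coordinate, the space of polynomials `c + X
(X+1) F` with `c` a constant and `deg F ≤ a - 1`. Then `V` has no special ramification point (no
point of weight at least two): since the members have degree at most `a + 1`, this says that for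
every point `p` of the affine line at most a one-dimensional subspace of `V` is divisible by
`(X-p)^a`, and at `C` that at most a one-dimensional subspace has degree at most one (degree less
than two). (The published statement carries two further positive integers `i, j` with `i + j = a -
1`, used only in its second assertion, and is over the complex numbers.) -/
theorem result
    (k : Type*) [Field k] [CharZero k] (a : ℕ) (ha : 0 < a)
    (V : Submodule k (Polynomial k))
    (hV : V = Submodule.span k {(1 : Polynomial k)} ⊔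
      ((Ideal.span {(X : Polynomial k) * (X + 1)}).restrictScalars k ⊓ Polynomial.degreeLE k ↑(a + 1))) :
    (∀ p : k, Module.finrank k ↥(V ⊓ (Ideal.span {(X - C p) ^ a}).restrictScalars k) ≤ 1) ∧
      Module.finrank k ↥(V ⊓ Polynomial.degreeLT k 2) ≤ 1 := by
  have hV' : ∀ w ∈ V, w.degree ≤ ((a + 1 : ℕ) : WithBot ℕ) ∧ w.eval 0 = w.eval (-1) := by
    intro w hw
    rw [hV] at hw
    exact claim0 k a w hw
  exact ⟨fun p => part1 k a ha V hV' p, part2 k a V hV'⟩


end Groth.Agent.S16263
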