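import Groth.Statements.S16264
import Mathlib
import Groth.Agent.S16263

set_option autoImplicit false
open W4c3wronskmg

namespace Groth.Agent.S16264

open Polynomial in
theorem claim0' (k : Type*) [Field k] (a : ℕ) (w : k[X])
    (hdeg : w.degree ≤ ((a + 1 : ℕ) : WithBot ℕ)) (hev : w.eval 0 = w.eval (-1)) :
    w ∈ Submodule.span k {(1 : k[X])} ⊔
      ((Ideal.span {(X : k[X]) * (X + 1)}).restrictScalars k ⊓ Polynomial.degreeLE k ↑(a + 1)) := by
  have hC : (C (w.eval 0)).degree ≤ ((a + 1 : ℕ) : WithBot ℕ) :=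
    le_trans Polynomial.degree_C_le (by exact_mod_cast Nat.zero_le _)
  refine Submodule.mem_sup.mpr ⟨C (w.eval 0), ?_, w - C (w.eval 0), ?_, by ring⟩
  · rw [Submodule.mem_span_singleton]
    exact ⟨w.eval 0, by rw [Polynomial.smul_eq_C_mul, mul_one]⟩
  · refine Submodule.mem_inf.mpr ⟨?_, ?_⟩
    · show w - C (w.eval 0) ∈ Ideal.span {(X : k[X]) * (X + 1)}
      rw [Ideal.mem_span_singleton]
      have hcop : IsCoprime (X : k[X]) (X + 1) := ⟨-1, 1, by ring⟩
      apply hcop.mul_dvd
      · rw [Polynomial.X_dvd_iff, Polynomial.coeff_zero_eq_eval_zero, eval_sub, eval_C, sub_self]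
      · have h1 : (X : k[X]) + 1 = X - C (-1) := by rw [C_neg, C_1, sub_neg_eq_add]
        rw [h1, Polynomial.dvd_iff_isRoot, IsRoot, eval_sub, eval_C, ← hev, sub_self]
    · rw [Polynomial.mem_degreeLE]
      exact le_trans (Polynomial.degree_sub_le _ _) (max_le hdeg hC)

theorem le_two_of_le_span {k : Type*} [Field k] {M : Type*} [AddCommGroup M] [Module k M]
    (W : Submodule k M) (v1 v2 : M) (h : W ≤ Submodule.span k {v1, v2}) :
    Module.finrank k ↥W ≤ 2 := by
  classical
  have h' : W ≤ Submodule.span k (↑({v1, v2} : Finset M) : Set M) := by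
    rw [Finset.coe_insert, Finset.coe_singleton]; exact h
  refine (Submodule.finrank_mono h').trans ?_
  exact (finrank_span_finset_le_card ({v1, v2} : Finset M)).trans Finset.card_le_two

open Polynomial in
theorem finite_of_le_degreeLE (k : Type*) [Field k] (n : ℕ) (W : Submodule k k[X])
    (h : W ≤ Polynomial.degreeLE k ↑n) : Module.Finite k ↥W := by
  classical
  haveI : Module.Finite k ↥(Polynomial.degreeLE k (↑n : WithBot ℕ)) := by
    rw [Polynomial.degreeLE_eq_span_X_pow]
    exact FiniteDimensional.span_finset k _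
  exact Submodule.finiteDimensional_of_le h

open Polynomial in
theorem main (k : Type*) [Field k] (a i j : ℕ) (hi : 0 < i) (hj : 0 < j) (hij : i + j + 1 = a)
    (V : Submodule k k[X])
    (hV1 : ∀ w ∈ V, w.degree ≤ ((a + 1 : ℕ) : WithBot ℕ) ∧ w.eval 0 = w.eval (-1))
    (hV2 : ∀ w : k[X], w.degree ≤ ((a + 1 : ℕ) : WithBot ℕ) → w.eval 0 = w.eval (-1) → w ∈ V)
    (p q : k) :
    3 ≤ Module.finrank k ↥(V ⊓ (Ideal.span {(X - C p) ^ i * (X - C q) ^ j}).restrictScalars k) ↔
      (p = 0 ∧ q = -1) ∨ (p = -1 ∧ q = 0) := by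
  obtain ⟨D, hD⟩ : ∃ D : k[X], D = (X - C p) ^ i * (X - C q) ^ j := ⟨_, rfl⟩
  rw [← hD]
  have hDne : D ≠ 0 := by
    rw [hD]
    exact mul_ne_zero (pow_ne_zero _ (X_sub_C_ne_zero p)) (pow_ne_zero _ (X_sub_C_ne_zero q))
  have hDdeg : D.natDegree = i + j := by
    rw [hD, natDegree_mul (pow_ne_zero _ (X_sub_C_ne_zero p)) (pow_ne_zero _ (X_sub_C_ne_zero q)),
      natDegree_pow, natDegree_pow, natDegree_X_sub_C, natDegree_X_sub_C, mul_one, mul_one]
  have hD0 : D.eval 0 = (-p)^i * (-q)^j := by
    rw [hD]; simp only [eval_mul, eval_pow, eval_sub, eval_X, eval_C, zero_sub]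
  have hD1 : D.eval (-1) = (-1-p)^i * (-1-q)^j := by
    rw [hD]; simp only [eval_mul, eval_pow, eval_sub, eval_X, eval_C]
  have hne01 : (0 : k) ≠ -1 := by
    intro h
    have : (1 : k) = 0 := by linear_combination h
    exact one_ne_zero this
  constructor
  · intro h3
    by_contra hcon
    push_neg at hcon
    have hab : D.eval 0 ≠ 0 ∨ D.eval (-1) ≠ 0 := by
      by_contra hboth
      push_neg at hboth
      obtain ⟨hb0, hb1⟩ := hboth
      rw [hD0, mul_eq_zero, pow_eq_zero_iff hi.ne', pow_eq_zero_iff hj.ne', neg_eq_zero,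
        neg_eq_zero] at hb0
      rw [hD1, mul_eq_zero, pow_eq_zero_iff hi.ne', pow_eq_zero_iff hj.ne', sub_eq_zero,
        sub_eq_zero] at hb1
      rcases hb0 with hp | hq
      · rcases hb1 with hp' | hq'
        · exact hne01 (by rw [← hp, ← hp'])
        · exact hcon.1 hp hq'.symm
      · rcases hb1 with hp' | hq'
        · exact hcon.2 hp'.symm hq
        · exact hne01 (by rw [← hq, ← hq'])
    have key : ∃ v1 v2 : k[X], V ⊓ (Ideal.span {D}).restrictScalars k
        ≤ Submodule.span k {v1, v2} := by
      by_cases hβ : D.eval (-1) = 0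
      · have hα : D.eval 0 ≠ 0 := by
          rcases hab with h | h
          · exact h
          · exact absurd hβ h
        refine ⟨D * X, D * X^2, ?_⟩
        intro w hw
        obtain ⟨hwV, hwJ⟩ := Submodule.mem_inf.mp hw
        have hwJ' : w ∈ Ideal.span {D} := hwJ
        obtain ⟨Q, rfl⟩ := Ideal.mem_span_singleton'.mp hwJ'
        obtain ⟨hdeg, hev⟩ := hV1 _ hwV
        have hQ2 : Q.degree ≤ 2 := by
          by_cases hQ : Q = 0
          · rw [hQ, degree_zero]; exact bot_le
          · have h1 : (Q * D).natDegree = Q.natDegree + (i + j) := by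
              rw [natDegree_mul hQ hDne, hDdeg]
            have h2 : (Q * D).natDegree ≤ a + 1 := natDegree_le_of_degree_le hdeg
            have h3 : Q.natDegree ≤ 2 := by omega
            simpa using degree_le_of_natDegree_le h3
        obtain ⟨c0, c1, c2, hQ⟩ : ∃ c0 c1 c2 : k, Q = C c2 * X^2 + C c1 * X + C c0 :=
          ⟨_, _, _, eq_quadratic_of_degree_le_two hQ2⟩
        subst hQ
        rw [eval_mul, eval_mul, hβ, mul_zero] at hev
        simp only [eval_add, eval_mul, eval_C, eval_X, eval_pow, mul_zero, zero_add] at hev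
        have hc0 : c0 = 0 := by
          rcases mul_eq_zero.mp hev with h | h
          · simpa using h
          · exact absurd h hα
        rw [Submodule.mem_span_pair]
        refine ⟨c1, c2, ?_⟩
        rw [hc0, smul_eq_C_mul, smul_eq_C_mul, C_0]
        ring
      · refine ⟨D * (1 + C (1 - D.eval 0 / D.eval (-1)) * X), D * (X + X^2), ?_⟩
        intro w hw
        obtain ⟨hwV, hwJ⟩ := Submodule.mem_inf.mp hw
        have hwJ' : w ∈ Ideal.span {D} := hwJ
        obtain ⟨Q, rfl⟩ := Ideal.mem_span_singleton'.mp hwJ'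
        obtain ⟨hdeg, hev⟩ := hV1 _ hwV
        have hQ2 : Q.degree ≤ 2 := by
          by_cases hQ : Q = 0
          · rw [hQ, degree_zero]; exact bot_le
          · have h1 : (Q * D).natDegree = Q.natDegree + (i + j) := by
              rw [natDegree_mul hQ hDne, hDdeg]
            have h2 : (Q * D).natDegree ≤ a + 1 := natDegree_le_of_degree_le hdeg
            have h3 : Q.natDegree ≤ 2 := by omega
            simpa using degree_le_of_natDegree_le h3
        obtain ⟨c0, c1, c2, hQ⟩ : ∃ c0 c1 c2 : k, Q = C c2 * X^2 + C c1 * X + C c0 :=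
          ⟨_, _, _, eq_quadratic_of_degree_le_two hQ2⟩
        subst hQ
        rw [eval_mul, eval_mul] at hev
        simp only [eval_add, eval_mul, eval_C, eval_X, eval_pow, mul_zero, zero_add] at hev
        have hc1 : c1 = c0 * (1 - D.eval 0 / D.eval (-1)) + c2 := by
          field_simp
          linear_combination hev
        rw [Submodule.mem_span_pair]
        refine ⟨c0, c2, ?_⟩
        rw [hc1, smul_eq_C_mul, smul_eq_C_mul, C_add, C_mul]
        ring
    obtain ⟨v1, v2, hle⟩ := key
    have := le_two_of_le_span _ v1 v2 hle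
    omega
  · intro hpq
    have hz : D.eval 0 = 0 ∧ D.eval (-1) = 0 := by
      rcases hpq with ⟨hp, hq⟩ | ⟨hp, hq⟩
      · constructor
        · rw [hD0, hp, neg_zero, zero_pow hi.ne', zero_mul]
        · rw [hD1, hq, sub_neg_eq_add, neg_add_cancel, zero_pow hj.ne', mul_zero]
      · constructor
        · rw [hD0, hq, neg_zero, zero_pow hj.ne', mul_zero]
        · rw [hD1, hp, sub_neg_eq_add, neg_add_cancel, zero_pow hi.ne', zero_mul]
    obtain ⟨hz0, hz1⟩ := hz
    have hmem : ∀ Q : ↥(Polynomial.degreeLT k 3),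
        ((LinearMap.mulLeft k D).comp (Polynomial.degreeLT k 3).subtype) Q
          ∈ V ⊓ (Ideal.span {D}).restrictScalars k := by
      intro Q
      show D * (Q : k[X]) ∈ _
      refine Submodule.mem_inf.mpr ⟨?_, ?_⟩
      · apply hV2
        · have hQ := Polynomial.mem_degreeLT.mp Q.2
          by_cases hQ0 : (Q : k[X]) = 0
          · rw [hQ0, mul_zero, degree_zero]; exact bot_le
          · have hQn : (Q : k[X]).natDegree < 3 := (natDegree_lt_iff_degree_lt hQ0).mpr hQ
            apply degree_le_of_natDegree_le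
            rw [natDegree_mul hDne hQ0, hDdeg]
            omega
        · rw [eval_mul, eval_mul, hz0, hz1, zero_mul, zero_mul]
      · show D * (Q : k[X]) ∈ Ideal.span {D}
        exact Ideal.mem_span_singleton.mpr (Dvd.intro _ rfl)
    haveI : Module.Finite k ↥(V ⊓ (Ideal.span {D}).restrictScalars k) := by
      apply finite_of_le_degreeLE k (a+1)
      intro w hw
      rw [Polynomial.mem_degreeLE]
      exact (hV1 w (Submodule.mem_inf.mp hw).1).1
    have hinj : Function.Injective (LinearMap.codRestrict _ _ hmem) := by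
      intro Q Q' h
      have h' : D * (Q : k[X]) = D * (Q' : k[X]) := congrArg Subtype.val h
      exact Subtype.ext (mul_left_cancel₀ hDne h')
    have h3 := LinearMap.finrank_le_finrank_of_injective hinj
    rw [(Polynomial.degreeLTEquiv k 3).finrank_eq, Module.finrank_fin_fun] at h3
    exact h3



open Polynomial in
/-- Let `k` be a field of characteristic zero and `a, i, j` positive integers with `i + j = a - 1`. With
`A = 0`, `B = -1`, `C = ∞` on the projective line and `V` the `(a+1)`-dimensional system of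
polynomials `c + X (X+1) F`, `deg F ≤ a - 1` (that is, `H⁰(ω((1+a)C)) ⊕ H⁰(ω(A+B)) ⊆ H⁰(O(a+1))`),
the pairs of points `(P, Q) = (p, q)` of the affine line with `dim V(-iP-jQ) ≥ 3`, i.e. with at
least a three-dimensional subspace of `V` divisible by `(X-p)^i (X-q)^j`, are exactly `(A, B)` and
`(B, A)`. (Here `P, Q` range over the points other than `C`; when one of them is `C` the dimension
is at most two for degree reasons. The published statement is over the complex numbers.) -/
theorem result
    (k : Type*) [Field k] [CharZero k] (a i j : ℕ) (hi : 0 < i) (hj : 0 < j) (hij : i + j + 1 = a)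
    (V : Submodule k (Polynomial k))
    (hV : V = Submodule.span k {(1 : Polynomial k)} ⊔
      ((Ideal.span {(X : Polynomial k) * (X + 1)}).restrictScalars k ⊓ Polynomial.degreeLE k ↑(a + 1)))
    (p q : k) :
    3 ≤ Module.finrank k ↥(V ⊓ (Ideal.span {(X - C p) ^ i * (X - C q) ^ j}).restrictScalars k) ↔
      (p = 0 ∧ q = -1) ∨ (p = -1 ∧ q = 0) := by
  apply main k a i j hi hj hij V
  · intro w hw
    rw [hV] at hw
    exact Groth.Agent.S16263.claim0 k a w hw
  · intro w h1 h2
    rw [hV]
    exact claim0' k a w h1 h2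


end Groth.Agent.S16264
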