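import Groth.Statements.S16265
import Mathlib
import Groth.Agent.Lib.Helper15.FFWeight

set_option autoImplicit false
set_option linter.style.haveILetI false
open FunFld

namespace Groth.Agent.S16265

open Groth.Agent.Lib.helper10 Groth.Agent.Lib.helper15

open Module in
/-- The purely linear-algebraic core: a doubly filtered family of subspaces with steps of size at
most one. -/
theorem main {k K : Type*} [Field k] [AddCommGroup K] [Module k K] (U : ℤ → ℤ → Submodule k K)
    [∀ m n, FiniteDimensional k (U m n)]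
    (anti : ∀ {m m' n n' : ℤ}, m ≤ m' → n ≤ n' → U m' n' ≤ U m n)
    (hinf : ∀ m n m' n', U m n ⊓ U m' n' ≤ U (max m m') (max n n'))
    (step1 : ∀ m n, finrank k (U (m - 1) n) ≤ finrank k (U m n) + 1)
    (step2 : ∀ m n, finrank k (U m (n - 1)) ≤ finrank k (U m n) + 1)
    (a b : ℤ) :
    ((2 ≤ finrank k (U a (b - 1)) ∨ 1 ≤ finrank k (U a (b + 1))) ∧
      (2 ≤ finrank k (U (a - 1) b) ∨ 1 ≤ finrank k (U (a + 1) b))) ↔
    (1 ≤ finrank k (U (a + 1) (b + 1)) ∨ 3 ≤ finrank k (U (a - 1) (b - 1)) ∨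
      (1 ≤ finrank k (U a (b + 1)) ∧ 2 ≤ finrank k (U (a - 1) b)) ∨
      (1 ≤ finrank k (U (a + 1) b) ∧ 2 ≤ finrank k (U a (b - 1)))) := by
  have mono : ∀ {m m' n n' : ℤ}, m ≤ m' → n ≤ n' → finrank k (U m' n') ≤ finrank k (U m n) :=
    fun h h' => Submodule.finrank_mono (anti h h')
  constructor
  · rintro ⟨h1 | h1, h2 | h2⟩
    · -- both ≥ 2
      by_cases h3 : 3 ≤ finrank k (U (a - 1) (b - 1))
      · exact Or.inr (Or.inl h3)
      · have e1 : U a (b - 1) = U (a - 1) (b - 1) :=
          Submodule.eq_of_le_of_finrank_le (anti (by omega) le_rfl) (by omega)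
        have e2 : U (a - 1) b = U (a - 1) (b - 1) :=
          Submodule.eq_of_le_of_finrank_le (anti le_rfl (by omega)) (by omega)
        have h4 := hinf a (b - 1) (a - 1) b
        rw [e1, e2, inf_idem, max_eq_left (by omega : a - 1 ≤ a),
          max_eq_right (by omega : b - 1 ≤ b)] at h4
        have h5 := Submodule.finrank_mono h4
        rw [← e1] at h5
        have h6 := step2 a (b + 1)
        rw [add_sub_cancel_right] at h6
        exact Or.inr (Or.inr (Or.inl ⟨by omega, h2⟩))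
    · exact Or.inr (Or.inr (Or.inr ⟨h2, h1⟩))
    · exact Or.inr (Or.inr (Or.inl ⟨h1, h2⟩))
    · by_cases h3 : 2 ≤ finrank k (U a b)
      · have := mono (by omega : a - 1 ≤ a) (le_refl b)
        exact Or.inr (Or.inr (Or.inl ⟨h1, by omega⟩))
      · have e1 : U a (b + 1) = U a b :=
          Submodule.eq_of_le_of_finrank_le (anti le_rfl (by omega)) (by omega)
        have e2 : U (a + 1) b = U a b :=
          Submodule.eq_of_le_of_finrank_le (anti (by omega) le_rfl) (by omega)
        have h4 := hinf a (b + 1) (a + 1) b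
        rw [e1, e2, inf_idem, max_eq_right (by omega : a ≤ a + 1),
          max_eq_left (by omega : b ≤ b + 1)] at h4
        have h5 := Submodule.finrank_mono h4
        rw [← e1] at h5
        exact Or.inl (by omega)
  · rintro (h | h | ⟨h, h'⟩ | ⟨h, h'⟩)
    · have m1 := mono (le_of_lt (lt_add_one a)) (le_refl (b + 1))
      have m2 := mono (le_refl (a + 1)) (le_of_lt (lt_add_one b))
      exact ⟨Or.inr (by omega), Or.inr (by omega)⟩
    · have s1 := step1 a (b - 1)
      have s2 := step2 (a - 1) b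
      exact ⟨Or.inl (by omega), Or.inl (by omega)⟩
    · exact ⟨Or.inr h, Or.inl h'⟩
    · exact ⟨Or.inl h', Or.inr h⟩


/-- Let `K/k` be a function field of one variable over an algebraically closed field `k` of
characteristic zero (the function field of a smooth projective curve), `D` a divisor and `V ⊆ L(D)`
a linear system of dimension `r + 1`; write `V(-mP-nQ) = V ∩ L(D - mP - nQ)` for the members
vanishing to the indicated orders. Assume `V` has no special ramification point, i.e. no place of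
weight at least two: for every place `R`, `dim V(-rR) ≤ 1` and `V(-(r+2)R) = 0`. Let `P ≠ Q` be
places and `a, b ≥ 1` with `a + b = r + 1` (so that `V(-aP)` and `V(-bQ)` have dimensions `b` and
`a`). Then the following are equivalent: (1) the system `V(-aP)` has weight at least two at `Q`,
that is `dim V(-aP-(b-1)Q) ≥ 2` or `dim V(-aP-(b+1)Q) ≥ 1`, and the system `V(-bQ)` has weight at
least two at `P`, that is `dim V(-(a-1)P-bQ) ≥ 2` or `dim V(-(a+1)P-bQ) ≥ 1`; (2) one of (a) `dim
V(-(a+1)P-(b+1)Q) ≥ 1`, (b) `dim V(-(a-1)P-(b-1)Q) ≥ 3`, (c) `dim V(-aP-(b+1)Q) ≥ 1` and `dim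
V(-(a-1)P-bQ) ≥ 2`, (d) `dim V(-(a+1)P-bQ) ≥ 1` and `dim V(-aP-(b-1)Q) ≥ 2`. (The published
statement is for a smooth curve over the complex numbers.) -/
theorem result
    (k K : Type*) [Field k] [IsAlgClosed k] [CharZero k] [Field K] [Algebra k K]
    (hK : FunFld.IsFunctionField k K) (D : FunFld.Divisor k K)
    (V : Submodule k K) (hVD : V ≤ FunFld.L D) (r : ℕ) (hr : Module.finrank k ↥V = r + 1)
    (hns : ∀ R : FunFld.Place k K,
      Module.finrank k ↥(V ⊓ FunFld.L (D - Finsupp.single R (r : ℤ))) ≤ 1 ∧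
        V ⊓ FunFld.L (D - Finsupp.single R ((r : ℤ) + 2)) = ⊥)
    (P Q : FunFld.Place k K) (hPQ : P ≠ Q) (a b : ℕ) (ha : 1 ≤ a) (hb : 1 ≤ b) (hab : a + b = r + 1) :
    ((2 ≤ Module.finrank k ↥(V ⊓ FunFld.L (D - Finsupp.single P (a : ℤ) - Finsupp.single Q ((b : ℤ) - 1 : ℤ))) ∨
        1 ≤ Module.finrank k ↥(V ⊓ FunFld.L (D - Finsupp.single P (a : ℤ) - Finsupp.single Q ((b : ℤ) + 1 : ℤ)))) ∧
      (2 ≤ Module.finrank k ↥(V ⊓ FunFld.L (D - Finsupp.single P ((a : ℤ) - 1 : ℤ) - Finsupp.single Q (b : ℤ))) ∨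
        1 ≤ Module.finrank k ↥(V ⊓ FunFld.L (D - Finsupp.single P ((a : ℤ) + 1 : ℤ) - Finsupp.single Q (b : ℤ))))) ↔
    (1 ≤ Module.finrank k ↥(V ⊓ FunFld.L (D - Finsupp.single P ((a : ℤ) + 1 : ℤ) - Finsupp.single Q ((b : ℤ) + 1 : ℤ))) ∨
      3 ≤ Module.finrank k ↥(V ⊓ FunFld.L (D - Finsupp.single P ((a : ℤ) - 1 : ℤ) - Finsupp.single Q ((b : ℤ) - 1 : ℤ))) ∨
      (1 ≤ Module.finrank k ↥(V ⊓ FunFld.L (D - Finsupp.single P (a : ℤ) - Finsupp.single Q ((b : ℤ) + 1 : ℤ))) ∧
        2 ≤ Module.finrank k ↥(V ⊓ FunFld.L (D - Finsupp.single P ((a : ℤ) - 1 : ℤ) - Finsupp.single Q (b : ℤ)))) ∨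
      (1 ≤ Module.finrank k ↥(V ⊓ FunFld.L (D - Finsupp.single P ((a : ℤ) + 1 : ℤ) - Finsupp.single Q (b : ℤ))) ∧
        2 ≤ Module.finrank k ↥(V ⊓ FunFld.L (D - Finsupp.single P (a : ℤ) - Finsupp.single Q ((b : ℤ) - 1 : ℤ))))) := by
  classical
  haveI : FiniteDimensional k V := Module.finite_of_finrank_pos (by omega)
  let U : ℤ → ℤ → Submodule k K := fun m n =>
    V ⊓ FunFld.L (D - Finsupp.single P m - Finsupp.single Q n)
  haveI : ∀ m n, FiniteDimensional k (U m n) := fun m n =>
    Submodule.finiteDimensional_of_le inf_le_left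
  refine main U ?_ ?_ ?_ ?_ (a : ℤ) (b : ℤ)
  · intro m m' n n' h h'
    exact inf_le_inf_left _ (FF.L_mono (sub_le_sub (sub_le_sub_left
      (FFW.single_le_single P h) D) (FFW.single_le_single Q h')))
  · intro m n m' n'
    refine le_inf (inf_le_left.trans inf_le_left) ?_
    rintro x ⟨⟨-, h1⟩, ⟨-, h2⟩⟩ R
    have a1 := h1 R
    have a2 := h2 R
    rw [Finsupp.sub_apply, Finsupp.sub_apply, Finsupp.single_apply, Finsupp.single_apply]
      at a1 a2
    rw [Finsupp.sub_apply, Finsupp.sub_apply, Finsupp.single_apply, Finsupp.single_apply]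
    by_cases hRP : P = R
    · have hRQ : ¬ Q = R := fun h => hPQ (hRP.trans h.symm)
      rw [if_pos hRP, if_neg hRQ] at a1 a2 ⊢
      rcases le_total m m' with h | h
      · rw [max_eq_right h]; exact a2
      · rw [max_eq_left h]; exact a1
    · rw [if_neg hRP] at a1 a2 ⊢
      by_cases hRQ : Q = R
      · rw [if_pos hRQ] at a1 a2 ⊢
        rcases le_total n n' with h | h
        · rw [max_eq_right h]; exact a2
        · rw [max_eq_left h]; exact a1
      · rw [if_neg hRQ] at a1 ⊢
        exact a1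
  · intro m n
    have h := FF.aDim_step hK V (D - Finsupp.single Q n) P (m - 1)
    unfold FF.aDim at h
    rw [sub_add_cancel, FF.Place.deg_eq_one hK, sub_right_comm D _ (Finsupp.single P (m - 1)),
      sub_right_comm D _ (Finsupp.single P m)] at h
    exact h
  · intro m n
    have h := FF.aDim_step hK V (D - Finsupp.single P m) Q (n - 1)
    unfold FF.aDim at h
    rw [sub_add_cancel, FF.Place.deg_eq_one hK] at h
    exact h

end Groth.Agent.S16265
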