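import Groth.Statements.S16268


set_option autoImplicit false
universe u w
open CategoryTheory CategoryTheory.Limits AlgebraicGeometry Opposite
open EtCore

namespace Groth.Agent.S16268

/-- Let X be a scheme, Y an etale X-scheme with Y -> X surjective, and G a finite group acting on Y by
X-automorphisms such that the morphisms (id, g) : Y -> Y x_X Y exhibit Y x_X Y as the coproduct of
copies of Y indexed by G (Y -> X is a Galois covering with group G). Let P be a presheaf of sets on
the small etale site of X which takes this coproduct to a product: s |-> (g |-> (id, g)^* s) is a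
bijection from P(Y x_X Y) onto the G-indexed families in P(Y). Then P satisfies the sheaf condition
for the covering consisting of the single morphism Y -> X if and only if the restriction P(X) ->
P(Y) is injective and its image is the set of G-invariant elements of P(Y). -/
theorem result (X : Scheme.{u})
    (Y : X.Etale) (hY : Function.Surjective Y.hom.base)
    {G : Type u} [Group G] [Finite G] (σ : G →* Aut Y)
    (hgal : Nonempty (IsColimit (Cofan.mk (Y ⨯ Y) (fun g : G => prod.lift (𝟙 Y) (σ g).hom))))
    (P : X.Etaleᵒᵖ ⥤ Type w)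
    (hP : Function.Bijective (fun s : P.obj (op (Y ⨯ Y)) => fun g : G => P.map (prod.lift (𝟙 Y) (σ g).hom).op s)) :
    Presieve.IsSheafFor P (Presieve.singleton ((EtCore.topIsTerminal X).from Y)) ↔
      (Function.Injective (P.map ((EtCore.topIsTerminal X).from Y).op) ∧
        Set.range (P.map ((EtCore.topIsTerminal X).from Y).op) = {s | ∀ g : G, P.map (σ g).hom.op s = s}) := by
  rw [Presieve.isSheafFor_singleton]
  obtain ⟨f, hf⟩ : ∃ f : Y ⟶ EtCoh.top X, f = (EtCore.topIsTerminal X).from Y := ⟨_, rfl⟩
  rw [← hf]
  have hterm : ∀ {Z : X.Etale} (a b : Z ⟶ EtCoh.top X), a = b :=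
    fun a b => (EtCore.topIsTerminal X).hom_ext a b
  have hcompat : ∀ x : P.obj (op Y),
      (∀ (Z : X.Etale) (p₁ p₂ : Z ⟶ Y), p₁ ≫ f = p₂ ≫ f → P.map p₁.op x = P.map p₂.op x) ↔
        ∀ g : G, P.map (σ g).hom.op x = x := by
    intro x
    constructor
    · intro h g
      have := h Y (σ g).hom (𝟙 Y) (hterm _ _)
      rw [this, op_id, Functor.map_id_apply]
    · intro h Z p₁ p₂ _
      have hfs : P.map (prod.fst : Y ⨯ Y ⟶ Y).op x = P.map (prod.snd : Y ⨯ Y ⟶ Y).op x := by
        apply hP.1
        funext g
        show P.map (prod.lift (𝟙 Y) (σ g).hom).op (P.map prod.fst.op x) =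
          P.map (prod.lift (𝟙 Y) (σ g).hom).op (P.map prod.snd.op x)
        rw [← Functor.map_comp_apply, ← Functor.map_comp_apply, ← op_comp, ← op_comp,
          prod.lift_fst, prod.lift_snd, op_id, Functor.map_id_apply, h g]
      have h1 : P.map p₁.op x = P.map (prod.lift p₁ p₂).op (P.map prod.fst.op x) := by
        rw [← Functor.map_comp_apply, ← op_comp, prod.lift_fst]
      have h2 : P.map p₂.op x = P.map (prod.lift p₁ p₂).op (P.map prod.snd.op x) := by
        rw [← Functor.map_comp_apply, ← op_comp, prod.lift_snd]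
      rw [h1, h2, hfs]
  have hres : ∀ (y : P.obj (op (EtCoh.top X))) (g : G),
      P.map (σ g).hom.op (P.map f.op y) = P.map f.op y := by
    intro y g
    rw [← Functor.map_comp_apply, ← op_comp, hterm ((σ g).hom ≫ f) f]
  constructor
  · intro H
    refine ⟨?_, ?_⟩
    · intro y y' hyy
      have hc := (hcompat (P.map f.op y)).mpr (hres y)
      exact (H _ (fun {Z} p₁ p₂ h => hc Z p₁ p₂ h)).unique rfl hyy.symm
    · ext s
      constructor
      · rintro ⟨y, rfl⟩
        exact hres y
      · intro hs
        have hc := (hcompat s).mpr hs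
        obtain ⟨y, hy, -⟩ := H s (fun {Z} p₁ p₂ h => hc Z p₁ p₂ h)
        exact ⟨y, hy⟩
  · rintro ⟨hinj, hrange⟩ x hx
    have hx' : x ∈ {s | ∀ g : G, P.map (σ g).hom.op s = s} :=
      (hcompat x).mp (fun Z p₁ p₂ h => hx p₁ p₂ h)
    rw [← hrange] at hx'
    obtain ⟨y, hy⟩ := hx'
    exact ⟨y, hy, fun y' hy' => hinj (hy'.trans hy.symm)⟩

end Groth.Agent.S16268
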