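import Groth.Statements.S1627
import Mathlib
import Groth.Agent.Lib.Helper18.DimOneAmple
import Groth.Agent.Lib.Helper18.CurveCompl
import Groth.Agent.Lib.Helper18.DimDense2
import Groth.Agent.Lib.Helper9.SectionExtend
import Groth.Agent.Lib.Helper11.PnImm

set_option autoImplicit false
universe u
open CategoryTheory CategoryTheory.Limits AlgebraicGeometry
open Variety

namespace Groth.Agent.S1627

open TopologicalSpace

/-- a quasi-sober irreducible space all of whose non-generic points are closed has dimension `≤ 1` -/
theorem topologicalKrullDim_le_one_of_forall {T : Type*} [TopologicalSpace T] [QuasiSober T]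
    (η : T) (h : ∀ y : T, y = η ∨ IsClosed ({y} : Set T)) (hη : closure ({η} : Set T) = Set.univ) :
    topologicalKrullDim T ≤ 1 := by
  unfold topologicalKrullDim
  rw [Order.krullDim_le_one_iff]
  intro Z
  obtain ⟨z, hz⟩ := QuasiSober.sober Z.isIrreducible Z.isClosed
  have hzZ : closure ({z} : Set T) = (Z : Set T) := hz
  rcases h z with rfl | hzcl
  · right
    intro W hZW w hw
    have : (Z : Set T) = Set.univ := by rw [← hzZ, hη]
    show w ∈ (Z : Set T)
    rw [this]
    trivial
  · left
    intro W hWZ
    have hZ : (Z : Set T) = {z} := by rw [← hzZ, hzcl.closure_eq]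
    obtain ⟨w, hw⟩ := W.isIrreducible.nonempty
    have hwz : w = z := by
      have : w ∈ (Z : Set T) := hWZ hw
      rw [hZ] at this
      exact this
    intro x hx
    have hx' : x ∈ (Z : Set T) := hx
    rw [hZ] at hx'
    show x ∈ (W : Set T)
    rw [Set.mem_singleton_iff.1 hx', ← hwz]
    exact hw

/-- A curve X over k (integral, separated, of finite type, of dimension one) is either affine or
H-projective, i.e. admits a closed immersion into some P^d_k over k. -/
theorem result (k : Type u) [Field k] (X : Scheme.{u}) [X.Over (Spec (CommRingCat.of k))] [IsIntegral X] [IsSeparated (X ↘ (Spec (CommRingCat.of k)))] [LocallyOfFiniteType (X ↘ (Spec (CommRingCat.of k)))] [QuasiCompact (X ↘ (Spec (CommRingCat.of k)))] (hdim : topologicalKrullDim X = 1) :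
    IsAffine X ∨ ∃ (d : ℕ) (c : X ⟶ CohB1.ProjSpace d k), IsClosedImmersion c ∧ c ≫ CohB1.ProjSpace.toSpec d k = X ↘ (Spec (CommRingCat.of k)) := by
  haveI : IsLocallyNoetherian X :=
    LocallyOfFiniteType.isLocallyNoetherian (X ↘ Spec (CommRingCat.of k))
  haveI : CompactSpace X :=
    QuasiCompact.compactSpace_of_compactSpace (X ↘ Spec (CommRingCat.of k))
  haveI : IsNoetherian X := {}
  haveI : X.IsSeparated := by
    refine ⟨?_⟩
    rw [← terminal.comp_from (X ↘ Spec (CommRingCat.of k))]
    infer_instance
  obtain ⟨L, hL⟩ := Groth.Agent.Lib.Helper18.DimOneAmple.exists_isAmple_of_isIntegral X hdim.le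
  obtain ⟨n₀, h⟩ := Groth.Agent.Lib.helper11.PnImm.isVeryAmpleProj_tensorPow_eventually
    (X ↘ Spec (CommRingCat.of k)) hL
  obtain ⟨N, r, hr, hrq, -⟩ := h n₀ le_rfl
  by_cases hprop : IsProper (X ↘ Spec (CommRingCat.of k))
  · right
    obtain ⟨N', r', hr', hrq', -⟩ := (h n₀ le_rfl).exists_closedImmersion
    exact ⟨N', r', hr', hrq'⟩
  · left
    haveI hpP : IsProper (CohB1.ProjSpace.toSpec N k) :=
      Groth.Agent.Lib.helper19.ProjSpaceProper.proper_toSpec N k
    haveI : QuasiCompact (r ≫ CohB1.ProjSpace.toSpec N k) := by rw [hrq]; infer_instance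
    haveI : QuasiCompact r := QuasiCompact.of_comp r (CohB1.ProjSpace.toSpec N k)
    haveI := hr
    let Y := r.image
    let j : X ⟶ Y := r.toImage
    let c : Y ⟶ CohB1.ProjSpace N k := r.imageι
    letI : Y.Over (Spec (CommRingCat.of k)) := ⟨c ≫ CohB1.ProjSpace.toSpec N k⟩
    haveI : IsProper (Y ↘ Spec (CommRingCat.of k)) :=
      inferInstanceAs (IsProper (c ≫ CohB1.ProjSpace.toSpec N k))
    haveI : IsIntegral Y := Groth.Agent.Lib.helper9.isIntegral_image_of_quasiCompact r
    haveI : IsOpenImmersion j := inferInstanceAs (IsOpenImmersion r.toImage)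
    haveI : IsDominant j := inferInstanceAs (IsDominant r.toImage)
    have hjw : j ≫ (Y ↘ Spec (CommRingCat.of k)) = X ↘ Spec (CommRingCat.of k) := by
      change r.toImage ≫ r.imageι ≫ _ = _
      rw [← Category.assoc, r.toImage_imageι, hrq]
    let V : Y.Opens := j.opensRange
    have hVdense : Dense (V : Set Y) := (inferInstance : IsDominant j).denseRange
    have hdimV : topologicalKrullDim ↥V ≤ 1 := by
      have e : X ≃ₜ (Set.range j) := j.isOpenEmbedding.isEmbedding.toHomeomorph
      have h1 := IsHomeomorph.topologicalKrullDim_eq e e.isHomeomorph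
      change topologicalKrullDim ↥(Set.range j) ≤ 1
      rw [← h1, hdim]
    haveI : JacobsonSpace Y := LocallyOfFiniteType.jacobsonSpace (Y ↘ Spec (CommRingCat.of k))
    have hYcl : ∀ y : Y, y = genericPoint Y ∨ IsClosed ({y} : Set Y) := by
      intro y
      by_cases hy : y ∈ V
      · obtain ⟨x, rfl⟩ := hy
        by_cases hx : x = genericPoint X
        · left
          rw [hx]
          exact genericPoint_eq_of_isOpenImmersion j
        · right
          have hxcl : IsClosed ({x} : Set X) := by
            apply Groth.Agent.Lib.Lead.DimOneAffine.isClosed_singleton_of_dim_le_one X hdim.le x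
            intro hgen
            have h1 : closure ({x} : Set X) = Set.univ := by
              have : irreducibleComponents X = {Set.univ} := irreducibleComponents_eq_singleton
              have h2 : closure ({x} : Set X) ∈ irreducibleComponents X := hgen
              rw [this] at h2
              exact h2
            have : IsGenericPoint x (Set.univ : Set X) := h1
            exact hx ((genericPoint_spec X).eq this).symm
          have h2 : x ∈ j ⁻¹' closedPoints Y := by
            rw [j.isOpenEmbedding.preimage_closedPoints]
            exact hxcl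
          exact h2
      · right
        exact Groth.Agent.Lib.Helper18.DimDense.isClosed_singleton_of_not_mem k Y V hVdense hdimV y hy
    have hdimY : topologicalKrullDim Y ≤ 1 :=
      topologicalKrullDim_le_one_of_forall (genericPoint Y) hYcl (genericPoint_spec Y)
    haveI := Groth.Agent.Lib.Lead.CurveEuler.isNoetherian k Y
    haveI : NoetherianSpace Y := IsNoetherian.noetherianSpace (X := Y)
    have hηV : genericPoint Y ∈ V := by
      rw [← genericPoint_eq_of_isOpenImmersion j]
      exact ⟨_, rfl⟩
    have hcl : ∀ t ∈ (V : Set Y)ᶜ, IsClosed ({t} : Set Y) := by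
      intro t ht
      rcases hYcl t with h | h
      · exact absurd (h ▸ hηV) ht
      · exact h
    have hfin : ((V : Set Y)ᶜ).Finite := by
      have := Groth.Agent.Lib.Helper18.AbsCurveDiv.finite_inter_of_forall_isClosed_singleton
        ((V : Set Y)ᶜ) Set.univ V.isOpen.isClosed_compl isOpen_univ (fun y hy => hcl y hy.1)
      rwa [Set.inter_univ] at this
    have hTne : ((V : Set Y)ᶜ).Nonempty := by
      by_contra hempty
      rw [Set.not_nonempty_iff_eq_empty, Set.compl_empty_iff] at hempty
      have hVtop : j.opensRange = ⊤ := Opens.ext hempty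
      haveI := isIso_of_isOpenImmersion_of_opensRange_eq_top j hVtop
      apply hprop
      rw [← hjw]
      infer_instance
    have haffV : IsAffineOpen V :=
      Groth.Agent.Lib.Helper18.CurveCompl.isAffineOpen_compl_finite k Y hdimY ((V : Set Y)ᶜ) hfin hTne hcl
        (fun h => h hηV) V (compl_compl _).symm
    haveI : IsAffine (V : Scheme) := haffV
    exact IsAffine.of_isIso j.isoOpensRange.hom

end Groth.Agent.S1627
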