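import Groth.Statements.S16272
import Mathlib
-- import your own Groth.Agent.* helpers here

set_option autoImplicit false
universe w' w v u
open CategoryTheory
open NonAbH1

namespace Groth.Agent.S16272

section helpers
open Opposite PresheafOfGroups

variable {C : Type u} [Category.{v} C] {J : GrothendieckTopology C} {G : Sheaf J GrpCat.{w}}

theorem smul_cancel (P : NonAbH1.GSheaf G) (hP : P.IsPseudoTorsor) {X : Cᵒᵖ} (p : P.P.obj.obj X)
    {g h : G.obj.obj X} (e : P.smul g p = P.smul h p) : g = h := by
  obtain ⟨k, _, hk⟩ := hP X p (P.smul h p)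
  exact (hk g e).trans (hk h rfl).symm

theorem map_map (P : NonAbH1.GSheaf G) {X Y Z : C} (a : Y ⟶ X) (b : Z ⟶ Y) (p : P.P.obj.obj (op X)) :
    P.P.obj.map b.op (P.P.obj.map a.op p) = P.P.obj.map (b ≫ a).op p := by
  rw [op_comp, Functor.map_comp]
  rfl

/-- the cocycle cut out by a family of sections of a pseudo-torsor -/
noncomputable def cocycleOf (P : NonAbH1.GSheaf G) (hP : P.IsPseudoTorsor) {I : Type w'} (U : I → C)
    (s : ∀ i, P.P.obj.obj (op (U i))) : OneCocycle G.obj U where
  ev i j T a b := (hP (op T) (P.P.obj.map b.op (s j)) (P.P.obj.map a.op (s i))).choose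
  ev_precomp i j T T' φ a b := by
    have h1 := (hP (op T') (P.P.obj.map b.op (s j)) (P.P.obj.map a.op (s i))).choose_spec.1
    have h2 := (hP (op T) (P.P.obj.map (φ ≫ b).op (s j)) (P.P.obj.map (φ ≫ a).op (s i))).choose_spec.1
    apply smul_cancel P hP (P.P.obj.map (φ ≫ b).op (s j))
    rw [h2, ← map_map, ← map_map, ← P.map_smul, h1]
  ev_trans i j k T a b c := by
    have h1 := (hP (op T) (P.P.obj.map b.op (s j)) (P.P.obj.map a.op (s i))).choose_spec.1
    have h2 := (hP (op T) (P.P.obj.map c.op (s k)) (P.P.obj.map b.op (s j))).choose_spec.1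
    have h3 := (hP (op T) (P.P.obj.map c.op (s k)) (P.P.obj.map a.op (s i))).choose_spec.1
    apply smul_cancel P hP (P.P.obj.map c.op (s k))
    rw [h3, P.mul_smul, h2, h1]

theorem isCocycleOf_cocycleOf (P : NonAbH1.GSheaf G) (hP : P.IsPseudoTorsor) {I : Type w'} (U : I → C)
    (s : ∀ i, P.P.obj.obj (op (U i))) : P.IsCocycleOf U s (cocycleOf P hP U s) := by
  intro i j T a b
  exact (hP (op T) (P.P.obj.map b.op (s j)) (P.P.obj.map a.op (s i))).choose_spec.1

theorem isCohomologous_of (P : NonAbH1.GSheaf G) (hP : P.IsPseudoTorsor) {I : Type w'} (U : I → C)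
    (s s' : ∀ i, P.P.obj.obj (op (U i))) (γ γ' : OneCocycle G.obj U)
    (h : P.IsCocycleOf U s γ) (h' : P.IsCocycleOf U s' γ') : γ.IsCohomologous γ' := by
  refine ⟨fun i => (hP (op (U i)) (s i) (s' i)).choose, ?_⟩
  have hα : ∀ i, P.smul ((hP (op (U i)) (s i) (s' i)).choose) (s i) = s' i :=
    fun i => (hP (op (U i)) (s i) (s' i)).choose_spec.1
  intro i j T a b
  apply smul_cancel P hP (P.P.obj.map b.op (s j))
  rw [P.mul_smul, P.mul_smul, h i j a b, ← P.map_smul, ← P.map_smul, hα, hα, h' i j a b]

end helpers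

/-- The class map is well defined: let C be a category with a Grothendieck topology J, G a sheaf of
groups and U a family of objects. A G-torsor P with a section over every U_i has exactly one Cech
class on U: choosing sections s_i of P over the U_i cuts out a 1-cocycle of G on U, and its class in
the Cech cohomology set H^1(U, G) does not depend on the choice. (The published statement is for an
etale covering of a scheme; this row is stated for any family of objects of any site.) -/
theorem result {C : Type u} [Category.{v} C]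
    {J : GrothendieckTopology C} {G : Sheaf J GrpCat.{w}} (P : NonAbH1.Torsor G)
    {I : Type w'} (U : I → C) (hP : P.TrivialisedBy U) :
    ∃! c : PresheafOfGroups.H1 G.obj U, P.HasCechClass U c := by
  have hP' : ∀ i, Nonempty (P.P.obj.obj (Opposite.op (U i))) := hP
  let s : ∀ i, P.P.obj.obj (Opposite.op (U i)) := fun i => (hP' i).some
  have hps := P.isTorsor.1
  refine ⟨(cocycleOf P.toGSheaf hps U s).class,
    ⟨s, cocycleOf P.toGSheaf hps U s, isCocycleOf_cocycleOf P.toGSheaf hps U s, rfl⟩, ?_⟩
  rintro c ⟨s', γ', h', rfl⟩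
  exact (isCohomologous_of P.toGSheaf hps U s' s γ' _ h'
    (isCocycleOf_cocycleOf P.toGSheaf hps U s)).class_eq

end Groth.Agent.S16272
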