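import Groth.Statements.S16273
import Mathlib
-- import your own Groth.Agent.* helpers here

set_option autoImplicit false
universe w' w v u
open CategoryTheory
open NonAbH1

namespace Groth.Agent.S16273

section helpers
open Opposite PresheafOfGroups

variable {C : Type u} [Category.{v} C] {J : GrothendieckTopology C} {G : Sheaf J GrpCat.{w}}

theorem smul_cancel (P : NonAbH1.GSheaf G) (hP : P.IsPseudoTorsor) {X : Cᵒᵖ} (p : P.P.obj.obj X)
    {g h : G.obj.obj X} (e : P.smul g p = P.smul h p) : g = h := by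
  obtain ⟨k, _, hk⟩ := hP X p (P.smul h p)
  exact (hk g e).trans (hk h rfl).symm

theorem map_map (P : NonAbH1.GSheaf G) {X Y Z : C} (a : Y ⟶ X) (b : Z ⟶ Y) (p : P.P.obj.obj (op X)) :
    P.P.obj.map b.op (P.P.obj.map a.op p) = P.P.obj.map (b ≫ a).op p := by
  rw [op_comp, Functor.map_comp]
  rfl

variable (P Q : NonAbH1.GSheaf G) (hP : P.IsPseudoTorsor) (hQ : Q.IsPseudoTorsor)
  {I : Type w'} {U : I → C}
  (s : ∀ i, P.P.obj.obj (op (U i))) (t : ∀ i, Q.P.obj.obj (op (U i)))

/-- the element of `G(T)` carrying `s_i|b` to `p`. -/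
noncomputable def tr {T : C} {i : I} (b : T ⟶ U i) (p : P.P.obj.obj (op T)) : G.obj.obj (op T) :=
  (hP (op T) (P.P.obj.map b.op (s i)) p).choose

theorem tr_spec {T : C} {i : I} (b : T ⟶ U i) (p : P.P.obj.obj (op T)) :
    P.smul (tr P hP s b p) (P.P.obj.map b.op (s i)) = p :=
  (hP (op T) (P.P.obj.map b.op (s i)) p).choose_spec.1

theorem tr_eq {T : C} {i : I} (b : T ⟶ U i) (p : P.P.obj.obj (op T)) (g : G.obj.obj (op T))
    (hg : P.smul g (P.P.obj.map b.op (s i)) = p) : tr P hP s b p = g :=
  smul_cancel P hP _ ((tr_spec P hP s b p).trans hg.symm)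

/-- the local transfer -/
noncomputable def loc {T : C} {i : I} (b : T ⟶ U i) (p : P.P.obj.obj (op T)) : Q.P.obj.obj (op T) :=
  Q.smul (tr P hP s b p) (Q.P.obj.map b.op (t i))

variable {γ : OneCocycle G.obj U} (hs : P.IsCocycleOf U s γ) (ht : Q.IsCocycleOf U t γ)

include hs ht in
theorem loc_indep {T : C} {i j : I} (b : T ⟶ U i) (b' : T ⟶ U j) (p : P.P.obj.obj (op T)) :
    loc P Q hP s t b p = loc P Q hP s t b' p := by
  unfold loc
  have h1 : tr P hP s b' p = tr P hP s b p * γ.ev i j b b' := by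
    apply tr_eq
    rw [P.mul_smul, hs i j b b', tr_spec]
  rw [h1, Q.mul_smul, ht i j b b']

theorem loc_restrict {T T' : C} (φ : T' ⟶ T) {i : I} (b : T ⟶ U i) (p : P.P.obj.obj (op T)) :
    Q.P.obj.map φ.op (loc P Q hP s t b p) = loc P Q hP s t (φ ≫ b) (P.P.obj.map φ.op p) := by
  unfold loc
  have h1 : tr P hP s (φ ≫ b) (P.P.obj.map φ.op p) = G.obj.map φ.op (tr P hP s b p) := by
    apply tr_eq
    rw [← map_map, ← P.map_smul, tr_spec]
  rw [h1, Q.map_smul, map_map]

theorem loc_smul {T : C} {i : I} (b : T ⟶ U i) (p : P.P.obj.obj (op T)) (g : G.obj.obj (op T)) :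
    loc P Q hP s t b (P.smul g p) = Q.smul g (loc P Q hP s t b p) := by
  unfold loc
  have h1 : tr P hP s b (P.smul g p) = g * tr P hP s b p := by
    apply tr_eq
    rw [P.mul_smul, tr_spec]
  rw [h1, Q.mul_smul]

theorem loc_loc {T : C} {i : I} (b : T ⟶ U i) (p : P.P.obj.obj (op T)) :
    loc Q P hQ t s b (loc P Q hP s t b p) = p := by
  have h1 : tr Q hQ t b (loc P Q hP s t b p) = tr P hP s b p := by
    apply tr_eq
    rfl
  unfold loc at h1 ⊢
  rw [h1, tr_spec]

section glue

variable (hU : J.CoversTop U)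

theorem isSheafType (Q : NonAbH1.GSheaf G) : Presieve.IsSheaf J Q.P.obj :=
  (isSheaf_iff_isSheaf_of_type J _).mp Q.P.property

/-- the family of local transfers of `p`. -/
noncomputable def fam (X : C) (p : P.P.obj.obj (op X)) :
    Presieve.FamilyOfElements Q.P.obj (Sieve.ofObjects U X).arrows :=
  fun T a ha => loc P Q hP s t (ha.choose_spec.some) (P.P.obj.map a.op p)

include hs ht in
theorem fam_eq (X : C) (p : P.P.obj.obj (op X)) {T : C} (a : T ⟶ X) {i : I} (b : T ⟶ U i)
    (ha : (Sieve.ofObjects U X).arrows a) :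
    fam P Q hP s t X p a ha = loc P Q hP s t b (P.P.obj.map a.op p) :=
  loc_indep P Q hP s t hs ht _ _ _

include hs ht in
theorem fam_compatible (X : C) (p : P.P.obj.obj (op X)) : (fam P Q hP s t X p).Compatible := by
  rw [Presieve.compatible_iff_sieveCompatible]
  intro Y Z f g hf
  obtain ⟨i, ⟨b⟩⟩ := hf
  rw [fam_eq P Q hP s t hs ht X p f b, fam_eq P Q hP s t hs ht X p (g ≫ f) (g ≫ b),
    loc_restrict, map_map]

/-- the glued transfer -/
noncomputable def glue (X : C) (p : P.P.obj.obj (op X)) : Q.P.obj.obj (op X) :=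
  ((isSheafType Q) _ (hU X)).amalgamate (fam P Q hP s t X p)
    (fam_compatible P Q hP s t hs ht X p)

theorem glue_spec (X : C) (p : P.P.obj.obj (op X)) {T : C} (a : T ⟶ X) {i : I} (b : T ⟶ U i) :
    Q.P.obj.map a.op (glue P Q hP s t hs ht hU X p) = loc P Q hP s t b (P.P.obj.map a.op p) := by
  have ha : (Sieve.ofObjects U X).arrows a := ⟨i, ⟨b⟩⟩
  have := ((isSheafType Q) _ (hU X)).valid_glue (fam_compatible P Q hP s t hs ht X p) a ha
  exact this.trans (fam_eq P Q hP s t hs ht X p a b ha)

include hU in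
theorem sep (X : C) (q q' : Q.P.obj.obj (op X))
    (h : ∀ {T : C} (a : T ⟶ X) {i : I} (b : T ⟶ U i), Q.P.obj.map a.op q = Q.P.obj.map a.op q') :
    q = q' := by
  apply ((isSheafType Q).isSeparated _ (hU X)).ext
  rintro T a ⟨i, ⟨b⟩⟩
  exact h a b

/-- the equivariant morphism -/
noncomputable def mor : P ⟶ Q where
  hom := ObjectProperty.homMk
    { app := fun X => ↾(glue P Q hP s t hs ht hU X.unop)
      naturality := by
        intro X Y f
        ext p
        apply sep Q hU
        intro T a i b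
        change Q.P.obj.map a.op (glue P Q hP s t hs ht hU Y.unop (P.P.obj.map f p)) =
          Q.P.obj.map a.op (Q.P.obj.map f (glue P Q hP s t hs ht hU X.unop p))
        rw [glue_spec P Q hP s t hs ht hU _ _ a b]
        have h1 : Q.P.obj.map a.op (Q.P.obj.map f (glue P Q hP s t hs ht hU X.unop p)) =
            Q.P.obj.map (a ≫ f.unop).op (glue P Q hP s t hs ht hU X.unop p) :=
          map_map Q f.unop a _
        rw [h1, glue_spec P Q hP s t hs ht hU _ _ (a ≫ f.unop) b]
        congr 1
        exact map_map P f.unop a p }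
  map_smul := by
    intro X g p
    apply sep Q hU
    intro T a i b
    change Q.P.obj.map a.op (glue P Q hP s t hs ht hU X.unop (P.smul g p)) =
      Q.P.obj.map a.op (Q.smul g (glue P Q hP s t hs ht hU X.unop p))
    rw [glue_spec P Q hP s t hs ht hU _ _ a b, Q.map_smul, glue_spec P Q hP s t hs ht hU _ _ a b,
      P.map_smul, loc_smul]

theorem mor_app (X : C) (p : P.P.obj.obj (op X)) :
    (mor P Q hP s t hs ht hU).hom.hom.app (op X) p = glue P Q hP s t hs ht hU X p := rfl

theorem mor_mor (X : C) (p : P.P.obj.obj (op X)) :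
    glue Q P hQ t s ht hs hU X (glue P Q hP s t hs ht hU X p) = p := by
  apply sep P hU
  intro T a i b
  rw [glue_spec Q P hQ t s ht hs hU _ _ a b, glue_spec P Q hP s t hs ht hU _ _ a b, loc_loc]

/-- the equivariant isomorphism -/
noncomputable def iso : P ≅ Q where
  hom := mor P Q hP s t hs ht hU
  inv := mor Q P hQ t s ht hs hU
  hom_inv_id := by
    apply NonAbH1.GSheaf.hom_ext
    apply ObjectProperty.hom_ext
    ext X p
    exact mor_mor P Q hP hQ s t hs ht hU X.unop p
  inv_hom_id := by
    apply NonAbH1.GSheaf.hom_ext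
    apply ObjectProperty.hom_ext
    ext X p
    exact mor_mor Q P hQ hP t s ht hs hU X.unop p

end glue

end helpers

/-- Let C be a category with a Grothendieck topology J, G a sheaf of groups and U a family of objects
which covers every object of the site. Two G-torsors admitting a common Cech class in H^1(U, G)
(each cut out by some family of sections over the U_i) are equivariantly isomorphic. (The published
statement is for an etale covering of a scheme; this row is stated for any family of objects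
covering the site.) -/
theorem result {C : Type u} [Category.{v} C]
    {J : GrothendieckTopology C} {G : Sheaf J GrpCat.{w}} {I : Type w'} (U : I → C) (hU : J.CoversTop U)
    (P Q : NonAbH1.Torsor G)
    (c : PresheafOfGroups.H1 G.obj U) (hPc : P.HasCechClass U c) (hQc : Q.HasCechClass U c) :
    Nonempty (P.toGSheaf ≅ Q.toGSheaf) := by
  obtain ⟨s, γ, hs, hγ⟩ := hPc
  obtain ⟨t', γ', ht', hγ'⟩ := hQc
  have hcoh : γ.IsCohomologous γ' :=
    (PresheafOfGroups.OneCocycle.class_eq_iff _ _).mp (hγ.trans hγ'.symm)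
  obtain ⟨α, hα⟩ := hcoh
  let t : ∀ i, Q.P.obj.obj (Opposite.op (U i)) := fun i => Q.smul (α i)⁻¹ (t' i)
  have ht : Q.IsCocycleOf U t γ := by
    intro i j T a b
    simp only [t]
    rw [Q.map_smul, Q.map_smul, ← Q.mul_smul, map_inv, map_inv]
    have h1 : γ.ev i j a b * (G.obj.map b.op (α j))⁻¹ =
        (G.obj.map a.op (α i))⁻¹ * γ'.ev i j a b := by
      rw [eq_inv_mul_iff_mul_eq, ← mul_assoc, hα i j a b, mul_assoc, mul_inv_cancel, mul_one]
    rw [h1, Q.mul_smul, ht' i j a b]
  exact ⟨iso P.toGSheaf Q.toGSheaf P.isTorsor.1 Q.isTorsor.1 s t hs ht hU⟩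

end Groth.Agent.S16273
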