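import Groth.Statements.S6166
import Mathlib
import Groth.Agent.Lib.Helper21.PushSS
-- import your own Groth.Agent.* helpers here

set_option autoImplicit false
universe u
open CategoryTheory
open CohSite

namespace Groth.Agent.S6166

open CategoryTheory.Limits in
/-- Let u : D -> C be a continuous functor between small sites with exact pullback on sheaves of sets (a
morphism of topoi), and take the topologically generating families to be all objects of C, resp. of
D, so that the inverse image of the second lies in the first. For an abelian sheaf F on C: if H^q(U,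
F) = 0 for all objects U of C and all q > 0, then H^q(V, u_* F) = 0 for all objects V of D and all q
> 0, where u_* F = F o u. -/
theorem result {C D : Type u} [SmallCategory C] [SmallCategory D]
    (J : GrothendieckTopology C) (K : GrothendieckTopology D) (u : D ⥤ C) [u.IsContinuous K J]
    [PreservesFiniteLimits (u.sheafPullback (Type u) K J)] (F : Sheaf J AddCommGrpCat.{u})
    (hF : ∀ (U : C) (q : ℕ), Subsingleton (CohSite.HU F (q + 1) U)) (V : D) (q : ℕ) :
    Subsingleton (CohSite.HU ((CohSite.push J K u).obj F) (q + 1) V) := by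
  have hu : PreservesFiniteLimits (u.sheafPullback (Type u) K J) := inferInstance
  let G := CohSite.push J K u
  let H : Sheaf K AddCommGrpCat.{u} ⥤ AddCommGrpCat.{u} :=
    preadditiveCoyoneda.obj (Opposite.op ((Groth.Agent.Lib.helper7.FreeYoneda.freeSheaf K).obj V))
  have hG : ∀ I : Sheaf J AddCommGrpCat.{u}, Injective I → Injective (G.obj I) := fun I hI =>
    Groth.Agent.Lib.helper21.PushSS.push_injective J K u hu I
  have hAc : Groth.Agent.Lib.helper27.CompAcyc.Acyc G F := by
    intro i hi
    obtain ⟨j, rfl⟩ : ∃ j, i = j + 1 := ⟨i - 1, by omega⟩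
    obtain ⟨e⟩ := Groth.Agent.Lib.helper27.RpushSheafify.rpush_iso J K u F (j + 1)
    refine IsZero.of_iso ?_ e
    refine Functor.map_isZero _ ?_
    refine Functor.isZero _ (fun W => ?_)
    have := hF (u.obj W.unop) j
    exact AddCommGrpCat.isZero_of_subsingleton
      (AddCommGrpCat.of (CohSite.HU F (j + 1) (u.obj W.unop)))
  obtain ⟨e1⟩ := Groth.Agent.Lib.helper27.CompAcyc.rightDerived_comp_iso G H hG F hAc (q + 1)
  obtain ⟨e2⟩ := Groth.Agent.Lib.helper27.ExtCoy.rightDerived_iso_ext H _ (Iso.refl _) (q + 1)
    (G.obj F)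
  obtain ⟨e3⟩ := Groth.Agent.Lib.helper27.ExtCoy.rightDerived_iso_ext (G ⋙ H) _
      (Groth.Agent.Lib.helper21.PushSS.coyPushIso J K u V) (q + 1) F
  have h4 : Subsingleton (AddCommGrpCat.of
      (Abelian.Ext ((Groth.Agent.Lib.helper7.FreeYoneda.freeSheaf J).obj (u.obj V)) F (q + 1))) :=
    hF (u.obj V) q
  exact (e2 ≪≫ e1 ≪≫ e3.symm).addCommGroupIsoToAddEquiv.toEquiv.subsingleton

end Groth.Agent.S6166
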