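import Groth.Statements.S16283
import Mathlib
import Groth.Agent.Lib.Helper21.HomAcyc3
import Groth.Agent.Lib.Helper27.PshSS
import Groth.Agent.S11319
import Groth.Agent.S6166
-- import your own Groth.Agent.* helpers here

set_option autoImplicit false
universe u
open CategoryTheory CategoryTheory.Limits AlgebraicGeometry ZeroObject
open Coherent

namespace Groth.Agent.S16283

/-- Let f : X → Y and g : Y → Z be morphisms of schemes, h = g ∘ f, and F, G O_X-modules. For a morphism
u out of X write Ext^b_u(F, -) for the b-th right derived functor of the left exact functor G ↦ u_*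
Hom_{O_X}(F, G) from O_X-modules. Then there is an E₂ spectral sequence of O_Z-modules with E₂^{a,b}
≅ R^a g_*(Ext^b_f(F, G)) for a, b ≥ 0 (and 0 otherwise), bounded, abutting with finite filtrations
to Ext^n_h(F, G) (n ≥ 0; 0 for n < 0). (Stated for schemes, the published statement being for ringed
spaces. Existence only: the E₂ identifications and the abutment are some isomorphisms. The internal
Hom functor of F, injective resolutions on X and Y and additivity of the composite functors are the
stated instance hypotheses, all true.) -/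
theorem result (X Y Z : Scheme.{u}) (f : X ⟶ Y) (g : Y ⟶ Z)
    (F G : X.Modules)
    [ModSite.HasSheafHom (O := X.sheaf) F] [HasInjectiveResolutions (ModSite.Mod X.sheaf)] [HasInjectiveResolutions Y.Modules]
    [(ModSite.sheafHom (O := X.sheaf) F ⋙ Scheme.Modules.pushforward f).Additive]
    [(ModSite.sheafHom (O := X.sheaf) F ⋙ Scheme.Modules.pushforward (f ≫ g)).Additive] :
    ∃ (E : E₂CohomologicalSpectralSequence Z.Modules)
      (a : SpSeq.Abutment E (fun n : ℤ =>
        if 0 ≤ n then ((ModSite.sheafHom (O := X.sheaf) F ⋙ Scheme.Modules.pushforward (f ≫ g)).rightDerived n.toNat).obj G else (0 : Z.Modules))),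
      (∀ n : ℤ, a.IsFinite n) ∧ SpSeq.IsBounded E ∧
      ∀ p q : ℤ, Nonempty ((E.page 2 le_rfl).X (p, q) ≅
        (if 0 ≤ p ∧ 0 ≤ q then (Coh.Rpush g p.toNat).obj (((ModSite.sheafHom (O := X.sheaf) F ⋙ Scheme.Modules.pushforward f).rightDerived q.toNat).obj G)
          else (0 : Z.Modules))) := by
  classical
  haveI : EnoughInjectives (ModSite.Mod X.sheaf) :=
    Groth.Agent.Lib.helper27.SSGroth.enoughInjectives_of_hasInjectiveResolutions _
  haveI hlimF : PreservesFiniteLimits (ModSite.sheafHom (O := X.sheaf) F) := by
    haveI := (ModSite.sheafHomAdj (O := X.sheaf) F).rightAdjoint_preservesLimits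
    exact PreservesLimitsOfSize.preservesFiniteLimits.{u, u} _
  haveI hlimf : PreservesFiniteLimits (Scheme.Modules.pushforward f) := by
    haveI := (Scheme.Modules.pullbackPushforwardAdjunction f).rightAdjoint_preservesLimits
    exact PreservesLimitsOfSize.preservesFiniteLimits.{u, u} _
  haveI hlimg : PreservesFiniteLimits (Scheme.Modules.pushforward g) := by
    haveI := (Scheme.Modules.pullbackPushforwardAdjunction g).rightAdjoint_preservesLimits
    exact PreservesLimitsOfSize.preservesFiniteLimits.{u, u} _
  haveI hlimfg : PreservesFiniteLimits (Scheme.Modules.pushforward (f ≫ g)) := by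
    haveI := (Scheme.Modules.pullbackPushforwardAdjunction (f ≫ g)).rightAdjoint_preservesLimits
    exact PreservesLimitsOfSize.preservesFiniteLimits.{u, u} _
  haveI : PreservesFiniteLimits
      (ModSite.sheafHom (O := X.sheaf) F ⋙ Scheme.Modules.pushforward f) :=
    @comp_preservesFiniteLimits _ _ _ _ _ _ (ModSite.sheafHom (O := X.sheaf) F)
      (Scheme.Modules.pushforward f) hlimF hlimf
  haveI : PreservesFiniteLimits
      (ModSite.sheafHom (O := X.sheaf) F ⋙ Scheme.Modules.pushforward (f ≫ g)) :=
    @comp_preservesFiniteLimits _ _ _ _ _ _ (ModSite.sheafHom (O := X.sheaf) F)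
      (Scheme.Modules.pushforward (f ≫ g)) hlimF hlimfg
  haveI : PreservesFiniteLimits
      ((ModSite.sheafHom (O := X.sheaf) F ⋙ Scheme.Modules.pushforward f) ⋙
        Scheme.Modules.pushforward g) :=
    comp_preservesFiniteLimits _ _
  refine Groth.Agent.Lib.helper27.SSGroth.grothendieck_ss_nat
    (ModSite.sheafHom (O := X.sheaf) F ⋙ Scheme.Modules.pushforward f)
    (Scheme.Modules.pushforward g) ?_ G
    (fun n => ((ModSite.sheafHom (O := X.sheaf) F ⋙
      Scheme.Modules.pushforward (f ≫ g)).rightDerived n).obj G) ?_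
    (fun p q => (Coh.Rpush g p).obj (((ModSite.sheafHom (O := X.sheaf) F ⋙
      Scheme.Modules.pushforward f).rightDerived q).obj G)) ?_
    (0 : Z.Modules) (0 : Z.Modules) (isZero_zero _) (isZero_zero _)
  · intro Q hQ q hq
    obtain ⟨a, rfl⟩ : ∃ a, q = a + 1 := ⟨q - 1, by omega⟩
    haveI : Injective (Q : ModSite.Mod X.sheaf) := hQ
    -- the abelian sheaf underlying `ℋom(F, Q)` and its direct image
    let A : Sheaf (Opens.grothendieckTopology X) AddCommGrpCat.{u} :=
      ModSite.toAb ((ModSite.sheafHom (O := X.sheaf) F).obj Q)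
    have hA : ∀ (U : TopologicalSpace.Opens X) (q : ℕ), Subsingleton (CohSite.HU A (q + 1) U) :=
      fun U q => Groth.Agent.Lib.helper21.HomAcyc.subsingleton_HU_sheafHom F Q U q
    haveI hpull : PreservesFiniteLimits ((TopologicalSpace.Opens.map f.base).sheafPullback
        (Type u) (Opens.grothendieckTopology Y) (Opens.grothendieckTopology X)) := by
      apply Functor.sheafPullbackConstruction.preservesFiniteLimits
    have hB : ∀ (V : TopologicalSpace.Opens Y) (q : ℕ), Subsingleton (CohSite.HU
        ((CohSite.push (Opens.grothendieckTopology X) (Opens.grothendieckTopology Y)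
          (TopologicalSpace.Opens.map f.base)).obj A) (q + 1) V) :=
      fun V q => Groth.Agent.S6166.result _ _ (TopologicalSpace.Opens.map f.base) A hA V q
    let M : Y.Modules := (ModSite.sheafHom (O := X.sheaf) F ⋙ Scheme.Modules.pushforward f).obj Q
    obtain ⟨e1⟩ := Groth.Agent.S11319.result g M (a + 1)
    obtain ⟨e2⟩ := Groth.Agent.Lib.helper27.RpushSheafify.rpush_iso_top g.base (Coh.toAb M) (a + 1)
    have hz : IsZero (Coh.toAb ((Coh.Rpush g (a + 1)).obj M)) := by
      refine IsZero.of_iso ?_ (e1 ≪≫ e2)
      refine Functor.map_isZero _ ?_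
      refine Functor.isZero _ (fun W => ?_)
      have := hB ((TopologicalSpace.Opens.map g.base).obj W.unop) a
      exact AddCommGrpCat.isZero_of_subsingleton (AddCommGrpCat.of (CohSite.HU
        ((CohSite.push (Opens.grothendieckTopology X) (Opens.grothendieckTopology Y)
          (TopologicalSpace.Opens.map f.base)).obj A) (a + 1)
            ((TopologicalSpace.Opens.map g.base).obj W.unop)))
    rw [IsZero.iff_id_eq_zero]
    apply (SheafOfModules.toSheaf Z.ringCatSheaf).map_injective
    exact hz.eq_of_src _ _
  · intro k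
    have e : ((ModSite.sheafHom (O := X.sheaf) F ⋙ Scheme.Modules.pushforward f) ⋙
        Scheme.Modules.pushforward g).rightDerived 0 ≅
        ModSite.sheafHom (O := X.sheaf) F ⋙ Scheme.Modules.pushforward (f ≫ g) :=
      Functor.rightDerivedZeroIsoSelf _ ≪≫ Functor.associator _ _ _ ≪≫
        Functor.isoWhiskerLeft _ (Scheme.Modules.pushforwardComp f g)
    exact Groth.Agent.Lib.helper27.DeltaSeq.rightDerived_iso
      (ModSite.sheafHom (O := X.sheaf) F ⋙ Scheme.Modules.pushforward (f ≫ g))
      (Groth.Agent.Lib.helper27.DeltaSeq.isExSeq_rightDerived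
        ((ModSite.sheafHom (O := X.sheaf) F ⋙ Scheme.Modules.pushforward f) ⋙
          Scheme.Modules.pushforward g)) e k G
  · intro k l
    exact ⟨Iso.refl _⟩

end Groth.Agent.S16283
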