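import Groth.Statements.S16280
import Groth.Agent.Lib.Helper21.CohWeakSerre
import Groth.Agent.Lib.Helper21.ShHomCoh3
import Groth.Agent.Lib.Helper21.DerivedComm
import Groth.Agent.Lib.Lead.RpushCoh
import Groth.Agent.Lib.Helper19.ProjSpaceProper
import Groth.Agent.S16283
-- import your own Groth.Agent.* helpers here

set_option autoImplicit false
universe u
open CategoryTheory CategoryTheory.Limits AlgebraicGeometry
open Coherent

namespace Groth.Agent.S16280

theorem additive_comp_push {X Y : Scheme.{u}} (g : X ⟶ Y) (F : X.Modules)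
    [ModSite.HasSheafHom (O := X.sheaf) F] :
    (ModSite.sheafHom (O := X.sheaf) F ⋙ Scheme.Modules.pushforward g).Additive := by
  let P : ModSite.Mod X.sheaf ⥤ ModSite.Mod Y.sheaf := Scheme.Modules.pushforward g
  haveI : P.IsRightAdjoint :=
    (Scheme.Modules.pullbackPushforwardAdjunction g).isRightAdjoint
  haveI : P.Additive := Functor.additive_of_preserves_binary_products P
  exact inferInstanceAs (ModSite.sheafHom (O := X.sheaf) F ⋙ P).Additive

/-- Let Y be a Noetherian scheme, f : X → Y a morphism admitting a factorisation through a closed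
immersion e : X → P^n_Y followed by the projection (a projective morphism), and F, G coherent
O_X-modules. Then for every p ≥ 0 the relative Ext sheaf Ext^p_f(F, G) — the value at G of the p-th
right derived functor of the left exact functor G ↦ f_* Hom_{O_X}(F, G) from O_X-modules to
O_Y-modules — is a coherent O_Y-module. (The internal Hom functor of F, injective resolutions of
O_X-modules and additivity of the composite functor are the stated instance hypotheses, all true.) -/
theorem result (X Y : Scheme.{u}) [IsNoetherian Y] (f : X ⟶ Y)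
    (n : ℕ) (e : X ⟶ CohB1.ProjSpaceOver n Y) [IsClosedImmersion e] (he : e ≫ CohB1.ProjSpaceOver.toBase n Y = f)
    (F G : X.Modules) (hF : Coh.IsCoh F) (hG : Coh.IsCoh G)
    [ModSite.HasSheafHom (O := X.sheaf) F] [HasInjectiveResolutions (ModSite.Mod X.sheaf)]
    [(ModSite.sheafHom (O := X.sheaf) F ⋙ Scheme.Modules.pushforward f).Additive] (p : ℕ) :
    Coh.IsCoh (((ModSite.sheafHom (O := X.sheaf) F ⋙ Scheme.Modules.pushforward f).rightDerived p).obj G) := by
  classical
  haveI : IsProper f := by rw [← he]; infer_instance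
  haveI : IsLocallyNoetherian X := LocallyOfFiniteType.isLocallyNoetherian f
  haveI hX : HasInjectiveResolutions X.Modules := ‹HasInjectiveResolutions (ModSite.Mod X.sheaf)›
  haveI a1 : (ModSite.sheafHom (O := X.sheaf) F ⋙ Scheme.Modules.pushforward (𝟙 X)).Additive :=
    additive_comp_push _ F
  haveI a2 : (ModSite.sheafHom (O := X.sheaf) F ⋙
      Scheme.Modules.pushforward (𝟙 X ≫ f)).Additive := additive_comp_push _ F
  obtain ⟨E, a, hfin, -, hE2⟩ := Groth.Agent.S16283.result X X Y (𝟙 X) f F G
  have hpage : ∀ pq, Coh.IsCoh ((E.page 2 le_rfl).X pq) := by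
    rintro ⟨p', q'⟩
    obtain ⟨i⟩ := hE2 p' q'
    refine Groth.Agent.Lib.helper21.ShHomCoh.isCoh_of_iso' i.symm ?_
    split_ifs with h
    · refine Groth.Agent.Lib.Lead.RpushCoh.isCoh_rpush f _ ?_ _
      have e1 : (ModSite.sheafHom (O := X.sheaf) F ⋙
          Scheme.Modules.pushforward (𝟙 X)).rightDerived q'.toNat ≅
          (ModSite.sheafHom (O := X.sheaf) F).rightDerived q'.toNat :=
        @Groth.Agent.Lib.Helper21.DerivedComm.rightDerivedIso _ _ _ _ _ _ _ _ _ a1
          (ModSite.sheafHom_additive X.sheaf F)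
          (Functor.isoWhiskerLeft _ (Scheme.Modules.pushforwardId X) ≪≫ Functor.rightUnitor _) _
      exact Groth.Agent.Lib.helper21.ShHomCoh.isCoh_of_iso' (e1.app G).symm
        (Groth.Agent.Lib.helper21.ShHomCoh.isCoh_T _ X F G hF hG)
    · exact Groth.Agent.Lib.helper7.CohKer.isCoh_of_isZero (isZero_zero _)
  have h1 := Groth.Agent.Lib.helper21.SSWeakSerre.prop_abutment
    Groth.Agent.Lib.helper21.CohWeakSerre.weakSerre_isCoh E a (p : ℤ) (hfin p) hpage
  rw [if_pos (Int.natCast_nonneg p), Int.toNat_natCast] at h1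
  have e2 : (ModSite.sheafHom (O := X.sheaf) F ⋙
      Scheme.Modules.pushforward (𝟙 X ≫ f)).rightDerived p ≅
      (ModSite.sheafHom (O := X.sheaf) F ⋙ Scheme.Modules.pushforward f).rightDerived p :=
    @Groth.Agent.Lib.Helper21.DerivedComm.rightDerivedIso _ _ _ _ _ _ _ _ _ a2 ‹_›
      (Functor.isoWhiskerLeft _ (Scheme.Modules.pushforwardCongr (Category.id_comp f))) _
  exact Groth.Agent.Lib.helper21.ShHomCoh.isCoh_of_iso' (e2.app G) h1

end Groth.Agent.S16280
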