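import Groth.Statements.S16281
import Groth.Agent.Lib.Helper21.ShRestr2
import Groth.Agent.Lib.Helper21.DerivedComm
import Groth.Agent.Lib.Helper21.SchShriek
import Groth.Agent.Lib.Helper21.ModOpenBC
-- import your own Groth.Agent.* helpers here

set_option autoImplicit false
universe u
open CategoryTheory CategoryTheory.Limits AlgebraicGeometry
open Coherent

namespace Groth.Agent.S16281

/-- Let f : X → Y be a morphism of schemes, F and G O_X-modules, W ⊆ Y an open subscheme and p ≥ 0.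
Write Ext^p_f(F, -) for the p-th right derived functor of the left exact functor G ↦ f_*
Hom_{O_X}(F, G) from O_X-modules to O_Y-modules (the relative Ext sheaves). Then the restriction of
Ext^p_f(F, G) to W is isomorphic to Ext^p_{f'}(F|_{f⁻¹W}, G|_{f⁻¹W}), where f' : f⁻¹W → W is the
restricted morphism. (Stated for schemes, the published statement being for ringed spaces; existence
of an isomorphism of O_W-modules only. The internal Hom functors, injective resolutions and
additivity of the composite functors on X and on f⁻¹W are the stated instance hypotheses, all true.) -/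
theorem result (X Y : Scheme.{u}) (f : X ⟶ Y) (W : Y.Opens)
    (F G : X.Modules) (p : ℕ)
    [ModSite.HasSheafHom (O := X.sheaf) F] [HasInjectiveResolutions (ModSite.Mod X.sheaf)]
    [(ModSite.sheafHom (O := X.sheaf) F ⋙ Scheme.Modules.pushforward f).Additive]
    [ModSite.HasSheafHom (O := (↑(f ⁻¹ᵁ W) : Scheme.{u}).sheaf) (F.restrict (f ⁻¹ᵁ W).ι)]
    [HasInjectiveResolutions (ModSite.Mod (↑(f ⁻¹ᵁ W) : Scheme.{u}).sheaf)]
    [(ModSite.sheafHom (O := (↑(f ⁻¹ᵁ W) : Scheme.{u}).sheaf) (F.restrict (f ⁻¹ᵁ W).ι) ⋙ Scheme.Modules.pushforward (f ∣_ W)).Additive] :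
    Nonempty ((Scheme.Modules.restrictFunctor W.ι).obj (((ModSite.sheafHom (O := X.sheaf) F ⋙ Scheme.Modules.pushforward f).rightDerived p).obj G) ≅
      ((ModSite.sheafHom (O := (↑(f ⁻¹ᵁ W) : Scheme.{u}).sheaf) (F.restrict (f ⁻¹ᵁ W).ι) ⋙ Scheme.Modules.pushforward (f ∣_ W)).rightDerived p).obj
        (G.restrict (f ⁻¹ᵁ W).ι)) := by
  classical
  let jW : ModSite.Mod Y.sheaf ⥤ ModSite.Mod (↑W : Scheme.{u}).sheaf :=
    Scheme.Modules.restrictFunctor W.ι
  let jU : ModSite.Mod X.sheaf ⥤ ModSite.Mod (↑(f ⁻¹ᵁ W) : Scheme.{u}).sheaf :=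
    Scheme.Modules.restrictFunctor (f ⁻¹ᵁ W).ι
  haveI : jW.IsRightAdjoint := (Groth.Agent.Lib.helper21.SchShriek.adj W).isRightAdjoint
  haveI : jW.IsLeftAdjoint := (Scheme.Modules.restrictAdjunction W.ι).isLeftAdjoint
  haveI : PreservesFiniteLimits jW := inferInstance
  haveI : PreservesFiniteColimits jW := inferInstance
  haveI : jW.Additive := Functor.additive_of_preserves_binary_products jW
  haveI : jW.PreservesHomology := inferInstance
  haveI : jU.IsRightAdjoint :=
    (Groth.Agent.Lib.helper21.SchShriek.adj (f ⁻¹ᵁ W)).isRightAdjoint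
  haveI : jU.IsLeftAdjoint := (Scheme.Modules.restrictAdjunction (f ⁻¹ᵁ W).ι).isLeftAdjoint
  haveI : PreservesFiniteLimits jU := inferInstance
  haveI : PreservesFiniteColimits jU := inferInstance
  haveI : jU.Additive := Functor.additive_of_preserves_binary_products jU
  haveI : jU.PreservesHomology := inferInstance
  haveI : jU.PreservesInjectiveObjects :=
    Groth.Agent.Lib.helper21.SchShriek.restrict_preservesInjectiveObjects (f ⁻¹ᵁ W)
  let H : ModSite.Mod X.sheaf ⥤ ModSite.Mod Y.sheaf :=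
    ModSite.sheafHom (O := X.sheaf) F ⋙ Scheme.Modules.pushforward f
  let H' : ModSite.Mod (↑(f ⁻¹ᵁ W) : Scheme.{u}).sheaf ⥤ ModSite.Mod (↑W : Scheme.{u}).sheaf :=
    ModSite.sheafHom (O := (↑(f ⁻¹ᵁ W) : Scheme.{u}).sheaf) (F.restrict (f ⁻¹ᵁ W).ι) ⋙
      Scheme.Modules.pushforward (f ∣_ W)
  haveI aH : H.Additive :=
    inferInstanceAs (ModSite.sheafHom (O := X.sheaf) F ⋙ Scheme.Modules.pushforward f).Additive
  haveI aH' : H'.Additive :=
    inferInstanceAs (ModSite.sheafHom (O := (↑(f ⁻¹ᵁ W) : Scheme.{u}).sheaf)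
      (F.restrict (f ⁻¹ᵁ W).ι) ⋙ Scheme.Modules.pushforward (f ∣_ W)).Additive
  have e1 := Groth.Agent.Lib.Helper21.DerivedComm.rightDerivedPostIso jW H p
  have e2 := Groth.Agent.Lib.Helper21.DerivedComm.rightDerivedPreIso jU H' p
  have e : H ⋙ jW ≅ jU ⋙ H' :=
    Functor.associator _ _ _ ≪≫
      Functor.isoWhiskerLeft _ (Groth.Agent.Lib.helper21.ModOpenBC.bcIso f W) ≪≫
      (Functor.associator _ _ _).symm ≪≫
      Functor.isoWhiskerRight
        (Groth.Agent.Lib.helper21.ShRestr.sheafHomRestrIso (f ⁻¹ᵁ W) F) _ ≪≫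
      Functor.associator _ _ _
  haveI a1 : (H ⋙ jW).Additive := inferInstance
  haveI a2 : (jU ⋙ H').Additive := inferInstance
  have e3 := @Groth.Agent.Lib.Helper21.DerivedComm.rightDerivedIso _ _ _ _ _ _ _ _ _ a1 a2 e p
  exact ⟨(e1.symm ≪≫ e3 ≪≫ e2).app G⟩

end Groth.Agent.S16281
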