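import Groth.Statements.S16284
import Mathlib
import Groth.Agent.Lib.Helper21.RelExtTwist
import Groth.Agent.Lib.Helper21.SSDegen
import Groth.Agent.Lib.Helper21.ShHomCoh3
import Groth.Agent.S16283
import Groth.Agent.S16280
-- import your own Groth.Agent.* helpers here

set_option autoImplicit false
universe u
open CategoryTheory CategoryTheory.Limits AlgebraicGeometry
open Coherent

namespace Groth.Agent.S16284

/-- Let Z be a Noetherian scheme, g : Y → Z a morphism factoring through a closed immersion e' : Y →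
P^m_Z followed by the projection, O_Y(l) = e'^*O(l), f : X → Y a morphism factoring through a closed
immersion X → P^n_Y followed by the projection, h = g ∘ f, and F, G coherent O_X-modules. For a
morphism u out of X write Ext^p_u(F, -) for the p-th right derived functor of the left exact functor
G ↦ u_* Hom_{O_X}(F, G). Then for every p ≥ 0 there is l₀ such that for all l ≥ l₀ the O_Z-module
g_* Ext^p_f(F, G ⊗ f^*O_Y(l)) is isomorphic to Ext^p_h(F, G ⊗ f^*O_Y(l)). (Existence of an
isomorphism of O_Z-modules only. The internal Hom functor of F, injective resolutions and additivity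
of the composite functors are the stated instance hypotheses, all true.) -/
theorem result (Z : Scheme.{u}) [IsNoetherian Z] (m : ℕ)
    (Y : Scheme.{u}) (g : Y ⟶ Z) (e' : Y ⟶ CohB1.ProjSpaceOver m Z) [IsClosedImmersion e']
    (he' : e' ≫ CohB1.ProjSpaceOver.toBase m Z = g)
    (n : ℕ) (X : Scheme.{u}) (f : X ⟶ Y) (e : X ⟶ CohB1.ProjSpaceOver n Y) [IsClosedImmersion e]
    (he : e ≫ CohB1.ProjSpaceOver.toBase n Y = f)
    (F G : X.Modules) (hF : Coh.IsCoh F) (hG : Coh.IsCoh G) (p : ℕ)
    [ModSite.HasSheafHom (O := X.sheaf) F] [HasInjectiveResolutions (ModSite.Mod X.sheaf)]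
    [(ModSite.sheafHom (O := X.sheaf) F ⋙ Scheme.Modules.pushforward f).Additive]
    [(ModSite.sheafHom (O := X.sheaf) F ⋙ Scheme.Modules.pushforward (f ≫ g)).Additive] :
    ∃ l₀ : ℕ, ∀ l : ℕ, l₀ ≤ l →
      Nonempty ((Scheme.Modules.pushforward g).obj (((ModSite.sheafHom (O := X.sheaf) F ⋙ Scheme.Modules.pushforward f).rightDerived p).obj
          (CohB1.tensorMod G ((Scheme.Modules.pullback f).obj
            ((Scheme.Modules.pullback e').obj (Twist.twistOver m Z (l : ℤ)))))) ≅
        ((ModSite.sheafHom (O := X.sheaf) F ⋙ Scheme.Modules.pushforward (f ≫ g)).rightDerived p).obj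
          (CohB1.tensorMod G ((Scheme.Modules.pullback f).obj
            ((Scheme.Modules.pullback e').obj (Twist.twistOver m Z (l : ℤ)))))) := by
  classical
  subst he'
  haveI hpZ : IsProper (CohB1.ProjSpaceOver.toBase m Z) :=
    Groth.Agent.Lib.helper19.ProjSpaceProper.proper_toBase m Z
  haveI hg : IsProper (e' ≫ CohB1.ProjSpaceOver.toBase m Z) := inferInstance
  haveI : IsLocallyNoetherian Y :=
    LocallyOfFiniteType.isLocallyNoetherian (e' ≫ CohB1.ProjSpaceOver.toBase m Z)
  haveI : CompactSpace Y :=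
    QuasiCompact.compactSpace_of_compactSpace (e' ≫ CohB1.ProjSpaceOver.toBase m Z)
  haveI : IsNoetherian Y := {}
  haveI hYinj : HasInjectiveResolutions Y.Modules :=
    Groth.Agent.Lib.helper21.ShHomCoh.hasInjRes Y
  have hC : ∀ b : ℕ, Coh.IsCoh (((ModSite.sheafHom (O := X.sheaf) F ⋙
      Scheme.Modules.pushforward f).rightDerived b).obj G) :=
    fun b => Groth.Agent.S16280.result X Y f n e he F G hF hG b
  have hex : ∀ b : ℕ, ∃ l₀ : ℕ, ∀ l : ℕ, l₀ ≤ l → ∀ a : ℕ, 0 < a →
      IsZero ((Coh.Rpush (e' ≫ CohB1.ProjSpaceOver.toBase m Z) a).obj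
        (CohB1.tensorMod (((ModSite.sheafHom (O := X.sheaf) F ⋙
          Scheme.Modules.pushforward f).rightDerived b).obj G)
          ((Scheme.Modules.pullback e').obj (Twist.twistOver m Z (l : ℤ))))) :=
    fun b => Groth.Agent.Lib.helper21.RelExtTwist.exists_isZero_rpush_twist m e' _ (hC b)
  choose L₀ hL₀ using hex
  refine ⟨(Finset.range (p + 1)).sup L₀, fun l hl => ?_⟩
  have hN := Groth.Agent.Lib.helper21.RelExtTwist.isFinLocFree_pullback_twistOver m e' l
  have hvan : ∀ a b : ℕ, 0 < a → b ≤ p →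
      IsZero ((Coh.Rpush (e' ≫ CohB1.ProjSpaceOver.toBase m Z) a).obj
        (((ModSite.sheafHom (O := X.sheaf) F ⋙ Scheme.Modules.pushforward f).rightDerived b).obj
          (CohB1.tensorMod G ((Scheme.Modules.pullback f).obj
            ((Scheme.Modules.pullback e').obj (Twist.twistOver m Z (l : ℤ))))))) := by
    intro a b ha hb
    obtain ⟨i⟩ := Groth.Agent.Lib.helper21.RelExtTwist.nonempty_extf_pull_iso f F G
      ((Scheme.Modules.pullback e').obj (Twist.twistOver m Z (l : ℤ))) hN b
    have h1 := hL₀ b l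
      ((Finset.le_sup (f := L₀) (Finset.mem_range.mpr (by omega))).trans hl) a ha
    exact IsZero.of_iso h1 ((Coh.Rpush (e' ≫ CohB1.ProjSpaceOver.toBase m Z) a).mapIso i)
  obtain ⟨E, ab, hfin, -, hE2⟩ := Groth.Agent.S16283.result X Y Z f
    (e' ≫ CohB1.ProjSpaceOver.toBase m Z) F
    (CohB1.tensorMod G ((Scheme.Modules.pullback f).obj
      ((Scheme.Modules.pullback e').obj (Twist.twistOver m Z (l : ℤ)))))
  have hzero : ∀ a b : ℤ, (¬ (0 ≤ a ∧ 0 ≤ b) ∨ (0 < a ∧ b ≤ p)) →
      IsZero ((E.page 2 le_rfl).X (a, b)) := by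
    intro a b h
    obtain ⟨i⟩ := hE2 a b
    refine IsZero.of_iso ?_ i
    split_ifs with hab
    · rcases h with h | ⟨h1, h2⟩
      · exact absurd hab h
      · refine hvan a.toNat b.toNat (by omega) (by omega)
    · exact isZero_zero _
  obtain ⟨i1⟩ := Groth.Agent.Lib.helper21.SSDegen.nonempty_abutment_iso E ab (p : ℤ) 0 (hfin _)
    (fun p' hp' => hzero _ _ (by
      by_cases h : 0 ≤ p'
      · exact Or.inr ⟨by omega, by omega⟩
      · exact Or.inl (fun h' => h h'.1)))
    (fun r hr => hzero _ _ (Or.inl (fun h' => by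
      have := h'.1
      simp at this
      omega)))
    (fun r hr => hzero _ _ (Or.inr ⟨by simp; omega, by simp; omega⟩))
  obtain ⟨i2⟩ := hE2 0 ((p : ℤ) - 0)
  rw [if_pos (Int.natCast_nonneg p), Int.toNat_natCast] at i1
  rw [if_pos ⟨le_rfl, by omega⟩] at i2
  have e0 : ((p : ℤ) - 0).toNat = p := by simp
  rw [e0, Int.toNat_zero] at i2
  haveI : PreservesFiniteLimits (Scheme.Modules.pushforward
      (e' ≫ CohB1.ProjSpaceOver.toBase m Z)) := by
    haveI := (Scheme.Modules.pullbackPushforwardAdjunction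
      (e' ≫ CohB1.ProjSpaceOver.toBase m Z)).rightAdjoint_preservesLimits
    exact PreservesLimitsOfSize.preservesFiniteLimits.{u, u} _
  have i3 := ((Scheme.Modules.pushforward
    (e' ≫ CohB1.ProjSpaceOver.toBase m Z)).rightDerivedZeroIsoSelf).app
    (((ModSite.sheafHom (O := X.sheaf) F ⋙ Scheme.Modules.pushforward f).rightDerived p).obj
      (CohB1.tensorMod G ((Scheme.Modules.pullback f).obj
        ((Scheme.Modules.pullback e').obj (Twist.twistOver m Z (l : ℤ))))))
  exact ⟨i3.symm ≪≫ i2.symm ≪≫ i1.symm⟩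

end Groth.Agent.S16284
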