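import Groth.Statements.S16286
import Mathlib
import Groth.Agent.S16289
import Groth.Agent.Lib.Helper21.AcycRes
import Groth.Agent.Lib.Helper21.TensorAdj
import Groth.Agent.Lib.Helper27.FunLES
-- import your own Groth.Agent.* helpers here

set_option autoImplicit false
universe u
open CategoryTheory CategoryTheory.Limits AlgebraicGeometry
open Coherent

namespace Groth.Agent.S16286

open Groth.Agent.Lib.helper21.AcycRes

lemma hasSheafHomAll {X : Scheme.{u}} (M : X.Modules) : ModSite.HasSheafHom (O := X.sheaf) M :=
  Groth.Agent.Lib.Helper21.TensorAdj.isLeftAdjoint_tens X.sheaf M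

lemma preservesFiniteLimits_comp {X Y : Scheme.{u}} (f : X ⟶ Y) (M : X.Modules)
    [ModSite.HasSheafHom (O := X.sheaf) M] :
    PreservesFiniteLimits (ModSite.sheafHom (O := X.sheaf) M ⋙ Scheme.Modules.pushforward f) := by
  haveI hlimf : PreservesFiniteLimits (Scheme.Modules.pushforward f) := by
    haveI := (Scheme.Modules.pullbackPushforwardAdjunction f).rightAdjoint_preservesLimits
    exact PreservesLimitsOfSize.preservesFiniteLimits.{u, u} _
  haveI hlim3 : PreservesFiniteLimits (ModSite.sheafHom (O := X.sheaf) M) := by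
    haveI := (ModSite.sheafHomAdj (O := X.sheaf) M).rightAdjoint_preservesLimits
    exact PreservesLimitsOfSize.preservesFiniteLimits.{u, u} _
  exact @comp_preservesFiniteLimits _ _ _ _ _ _ (ModSite.sheafHom (O := X.sheaf) M)
    (Scheme.Modules.pushforward f) hlim3 hlimf

lemma additive_comp {X Y : Scheme.{u}} (f : X ⟶ Y) (M : X.Modules)
    [ModSite.HasSheafHom (O := X.sheaf) M] :
    (ModSite.sheafHom (O := X.sheaf) M ⋙ Scheme.Modules.pushforward f).Additive := by
  haveI := preservesFiniteLimits_comp f M
  exact Functor.additive_of_preserves_binary_products _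

/-- the relative Ext objects `Ext^p_f(M, G)` for all `M` -/
noncomputable def T {X Y : Scheme.{u}} (f : X ⟶ Y) (G : X.Modules)
    [HasInjectiveResolutions (ModSite.Mod X.sheaf)] (p : ℕ) (M : X.Modules) : Y.Modules :=
  haveI := hasSheafHomAll M
  haveI := additive_comp f M
  ((ModSite.sheafHom (O := X.sheaf) M ⋙ Scheme.Modules.pushforward f).rightDerived p).obj G

/-- contravariance of `Ext^p_f(-, G)` -/
noncomputable def Tmap {X Y : Scheme.{u}} (f : X ⟶ Y) (G : X.Modules)
    [HasInjectiveResolutions (ModSite.Mod X.sheaf)] (p : ℕ) {M M' : X.Modules} (a : M' ⟶ M) :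
    T f G p M ⟶ T f G p M' :=
  haveI := hasSheafHomAll M
  haveI := hasSheafHomAll M'
  haveI := additive_comp f M
  haveI := additive_comp f M'
  (NatTrans.rightDerived (Functor.whiskerRight (ExtSupp.sheafHomMap (O := X.sheaf) a)
    (Scheme.Modules.pushforward f)) p).app G

lemma sheafHomMap_comp {X : Scheme.{u}} {M M' M'' : X.Modules}
    [ModSite.HasSheafHom (O := X.sheaf) M] [ModSite.HasSheafHom (O := X.sheaf) M']
    [ModSite.HasSheafHom (O := X.sheaf) M''] (a : M'' ⟶ M') (b : M' ⟶ M) :
    ExtSupp.sheafHomMap (O := X.sheaf) (a ≫ b) =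
      ExtSupp.sheafHomMap (O := X.sheaf) b ≫ ExtSupp.sheafHomMap (O := X.sheaf) a := by
  unfold ExtSupp.sheafHomMap
  rw [conjugateEquiv_comp, ← Functor.map_comp]

/-- the contravariant δ-functor structure -/
noncomputable def cd {X Y : Scheme.{u}} (f : X ⟶ Y) (G : X.Modules)
    [HasInjectiveResolutions (ModSite.Mod X.sheaf)] : ContraDelta (T f G) where
  map p {M M'} a := Tmap f G p a
  map_comp p {M M' M''} a b := by
    haveI := hasSheafHomAll M
    haveI := hasSheafHomAll M'
    haveI := hasSheafHomAll M''
    haveI := additive_comp f M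
    haveI := additive_comp f M'
    haveI := additive_comp f M''
    unfold Tmap
    have h1 := sheafHomMap_comp (X := X) a b
    have h2 : Functor.whiskerRight (ExtSupp.sheafHomMap (O := X.sheaf) (a ≫ b))
          (Scheme.Modules.pushforward f) =
        Functor.whiskerRight (ExtSupp.sheafHomMap (O := X.sheaf) b) (Scheme.Modules.pushforward f) ≫
          Functor.whiskerRight (ExtSupp.sheafHomMap (O := X.sheaf) a)
            (Scheme.Modules.pushforward f) := by
      refine (congrArg (fun t => Functor.whiskerRight t (Scheme.Modules.pushforward f)) h1).trans ?_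
      exact Functor.whiskerRight_comp _ _ _
    have h3 : NatTrans.rightDerived (Functor.whiskerRight (ExtSupp.sheafHomMap (O := X.sheaf) (a ≫ b))
          (Scheme.Modules.pushforward f)) p =
        NatTrans.rightDerived (Functor.whiskerRight (ExtSupp.sheafHomMap (O := X.sheaf) b)
          (Scheme.Modules.pushforward f)) p ≫
        NatTrans.rightDerived (Functor.whiskerRight (ExtSupp.sheafHomMap (O := X.sheaf) a)
            (Scheme.Modules.pushforward f)) p := by
      rw [h2]
      exact NatTrans.rightDerived_comp _ _ p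
    exact (NatTrans.congr_app h3 G).trans (NatTrans.comp_app _ _ G)
  les S hS := by
    haveI := hasSheafHomAll S.X₁
    haveI := hasSheafHomAll S.X₂
    haveI := hasSheafHomAll S.X₃
    haveI := additive_comp f S.X₁
    haveI := additive_comp f S.X₂
    haveI := additive_comp f S.X₃
    exact Groth.Agent.S16289.result X Y f S hS G

/-- Let f : X → Y be a morphism of schemes, F and G O_X-modules, and L_• → F → 0 a resolution of F: a
chain complex L of O_X-modules indexed by the natural numbers with an augmentation π : L_0 → F such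
that L is exact in every positive degree and L_1 → L_0 → F → 0 is exact. For an O_X-module M write
Ext^p_f(M, -) for the p-th right derived functor of the left exact functor G ↦ f_* Hom_{O_X}(M, G),
and assume Ext^p_f(L_i, G) = 0 for every i ≥ 0 and every p ≥ 1. Let C be the cochain complex f_*
Hom_{O_X}(L_•, G) of O_Y-modules, given with identifications C^i ≅ f_* Hom_{O_X}(L_i, G) under which
its differentials are f_* of the maps induced by the differentials of L. Then for every i the i-th
cohomology object of C is isomorphic to Ext^i_f(F, G). (Stated for schemes, the published statement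
being for ringed spaces; existence of an isomorphism of O_Y-modules only. The internal Hom functors,
injective resolutions and additivity of the composite functors are the stated instance hypotheses,
all true.) -/
theorem result (X Y : Scheme.{u}) (f : X ⟶ Y) (F G : X.Modules)
    (L : ChainComplex X.Modules ℕ) (π : L.X 0 ⟶ F) [Epi π] (hπ : L.d 1 0 ≫ π = 0)
    (hex0 : (ShortComplex.mk (L.d 1 0) π hπ).Exact) (hex : ∀ j : ℕ, L.ExactAt (j + 1))
    [∀ j : ℕ, ModSite.HasSheafHom (O := X.sheaf) (L.X j)] [ModSite.HasSheafHom (O := X.sheaf) F]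
    [HasInjectiveResolutions (ModSite.Mod X.sheaf)]
    [∀ j : ℕ, (ModSite.sheafHom (O := X.sheaf) (L.X j) ⋙ Scheme.Modules.pushforward f).Additive]
    [(ModSite.sheafHom (O := X.sheaf) F ⋙ Scheme.Modules.pushforward f).Additive]
    (hL : ∀ (j : ℕ) (p : ℕ), 1 ≤ p → IsZero (((ModSite.sheafHom (O := X.sheaf) (L.X j) ⋙ Scheme.Modules.pushforward f).rightDerived p).obj G))
    (C : CochainComplex Y.Modules ℕ)
    (e : ∀ j : ℕ, C.X j ≅ (Scheme.Modules.pushforward f).obj ((ModSite.sheafHom (O := X.sheaf) (L.X j)).obj G))
    (hC : ∀ j : ℕ, C.d j (j + 1) ≫ (e (j + 1)).hom =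
      (e j).hom ≫ (Scheme.Modules.pushforward f).map ((ExtSupp.sheafHomMap (O := X.sheaf) (L.d (j + 1) j)).app G))
    (i : ℕ) :
    Nonempty (C.homology i ≅ ((ModSite.sheafHom (O := X.sheaf) F ⋙ Scheme.Modules.pushforward f).rightDerived i).obj G) := by
  haveI : HasInjectiveResolutions X.Modules :=
    inferInstanceAs (HasInjectiveResolutions (ModSite.Mod X.sheaf))
  haveI : ∀ j, PreservesFiniteLimits (ModSite.sheafHom (O := X.sheaf) (L.X j) ⋙ Scheme.Modules.pushforward f) :=
    fun j => preservesFiniteLimits_comp f (L.X j)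
  let e' : ∀ j : ℕ, C.X j ≅ T f G 0 (L.X j) := fun j =>
    e j ≪≫ ((ModSite.sheafHom (O := X.sheaf) (L.X j) ⋙ Scheme.Modules.pushforward f).rightDerivedZeroIsoSelf.symm.app G)
  refine homology_iso (cd f G) L π hπ hex0 hex (fun j p hp => hL j p hp) C e' ?_ i
  intro j
  have hnat := Groth.Agent.Lib.helper27.FunLES.toRightDerivedZero_naturality
    (Functor.whiskerRight (ExtSupp.sheafHomMap (O := X.sheaf) (L.d (j + 1) j)) (Scheme.Modules.pushforward f))
  have hnatG := congrArg (fun t => t.app G) hnat
  simp only [NatTrans.comp_app] at hnatG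
  show C.d j (j + 1) ≫ ((e (j + 1)).hom ≫
      (ModSite.sheafHom (O := X.sheaf) (L.X (j + 1)) ⋙ Scheme.Modules.pushforward f).toRightDerivedZero.app G) =
    ((e j).hom ≫
      (ModSite.sheafHom (O := X.sheaf) (L.X j) ⋙ Scheme.Modules.pushforward f).toRightDerivedZero.app G) ≫
      (NatTrans.rightDerived (Functor.whiskerRight (ExtSupp.sheafHomMap (O := X.sheaf) (L.d (j + 1) j))
        (Scheme.Modules.pushforward f)) 0).app G
  rw [← Category.assoc, hC j, Category.assoc, Category.assoc, ← hnatG]
  rfl

end Groth.Agent.S16286
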