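import Groth.Statements.S16297
import Groth.Agent.Lib.Helper7.VAmpGen
import Groth.Agent.Lib.Helper18.NefH1Zero
import Groth.Agent.Lib.Helper9.CurveAmple
import Groth.Agent.Lib.Helper12.PullAmple

set_option autoImplicit false
universe u
open CategoryTheory CategoryTheory.Limits AlgebraicGeometry
open Curves

namespace Groth.Agent.S16297

/-- Let k be a field and X a proper scheme over k of dimension one (not assumed reduced or irreducible)
with H^1(X, O_X) = 0, and let L be an ample invertible O_X-module. Then L is very ample: for some n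
there is a closed immersion i : X → P^n_k over k with i^*O(1) isomorphic to L (existence of an
isomorphism only). -/
theorem result (k : Type u) [Field k] (X : Scheme.{u}) [X.Over (Spec (CommRingCat.of k))]
    [IsProper (X ↘ (Spec (CommRingCat.of k)))] (hdim : topologicalKrullDim X = 1)
    (h1 : Subsingleton (Coh.HH X (Coh.structureModule X) 1))
    (L : X.Modules) (hA : CohB1.IsAmple L) :
    ∃ (n : ℕ) (i : X ⟶ CohB1.ProjSpace n k), IsClosedImmersion i ∧
      i ≫ CohB1.ProjSpace.toSpec n k = X ↘ (Spec (CommRingCat.of k)) ∧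
      Nonempty ((Scheme.Modules.pullback i).obj (Twist.twistProjSpace n k 1) ≅ L) := by
  have hL : PicF.IsInvertible L := hA.1
  have hnef : ∀ J : X.IdealSheafData, IsIntegral J.subscheme → topologicalKrullDim J.subscheme = 1 →
      0 ≤ @Curv2.deg k _ J.subscheme ⟨J.subschemeι ≫ (X ↘ (Spec (CommRingCat.of k)))⟩
        ((Scheme.Modules.pullback J.subschemeι).obj L) 1 := by
    intro J hJint hJdim
    letI : J.subscheme.Over (Spec (CommRingCat.of k)) :=
      ⟨J.subschemeι ≫ (X ↘ (Spec (CommRingCat.of k)))⟩
    haveI : IsProper (J.subscheme ↘ Spec (CommRingCat.of k)) :=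
      inferInstanceAs (IsProper (J.subschemeι ≫ (X ↘ Spec (CommRingCat.of k))))
    haveI := hJint
    have hA' : CohB1.IsAmple ((Scheme.Modules.pullback J.subschemeι).obj L) :=
      Groth.Agent.Lib.helper12.PullAmple.isAmple_pullback_of_isAffineHom J.subschemeι hA
    exact (Groth.Agent.Lib.helper9.CurveAmple.deg_pos_of_isAmple k J.subscheme hJdim hA').le
  have hgg : Curv2.IsGloballyGenerated L :=
    Groth.Agent.Lib.Helper18.NefH1Zero.gg_of_nef k X hdim.le h1 hL hnef
  exact Groth.Agent.Lib.helper7.VAmpGen.veryAmple_of_H1_unit k X hdim h1 L hgg hA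

end Groth.Agent.S16297
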