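import Groth.Statements.S1630
import Mathlib
import Groth.Agent.Lib.Helper3.IrrCover
import Groth.Agent.Lib.Helper3.CompCard

set_option autoImplicit false
universe u
open CategoryTheory CategoryTheory.Limits AlgebraicGeometry
open Variety

namespace Groth.Agent.S1630

/-- Let X be a scheme over k. If X has a cover by a nonempty family of open subschemes, each
geometrically irreducible over k and any two of which meet, then X is geometrically irreducible over
k. -/
theorem result (k : Type u) [Field k] (X : Scheme.{u}) [X.Over (Spec (CommRingCat.of k))]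
    (ι : Type u) (U : ι → X.Opens) (hne : Nonempty ι) (hcov : (⨆ i, U i) = ⊤)
    (hmeet : ∀ i j, ((U i : Set X) ∩ (U j : Set X)).Nonempty)
    (hU : ∀ i, GeometricallyIrreducible ((U i).ι ≫ (X ↘ (Spec (CommRingCat.of k))))) : GeometricallyIrreducible (X ↘ (Spec (CommRingCat.of k))) := by
  refine ⟨(geometrically_iff_of_commRing_of_isClosedUnderIsomorphisms).mpr fun K _ _ => ?_⟩
  -- the projection `p : X_K ⟶ X`
  have hs : Surjective (pullback.fst (X ↘ (Spec (CommRingCat.of k)))
      (Spec.map (CommRingCat.ofHom (algebraMap k K)))) :=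
    MorphismProperty.pullback_fst (P := @Surjective) _ _
      (Groth.Agent.Lib.helper3.CompCard.surjective_specMap_field k K)
  have hrange : ∀ i, Set.range (pullback.snd (U i).ι (pullback.fst (X ↘ (Spec (CommRingCat.of k)))
      (Spec.map (CommRingCat.ofHom (algebraMap k K))))) =
      (pullback.fst (X ↘ (Spec (CommRingCat.of k)))
        (Spec.map (CommRingCat.ofHom (algebraMap k K)))) ⁻¹' (U i : Set X) := by
    intro i
    rw [Scheme.Pullback.range_snd, Scheme.Opens.range_ι]
  have hirr : ∀ i, IsIrreducible ((pullback.fst (X ↘ (Spec (CommRingCat.of k)))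
      (Spec.map (CommRingCat.ofHom (algebraMap k K)))) ⁻¹' (U i : Set X)) := by
    intro i
    have h1 : IrreducibleSpace ↥(pullback ((U i).ι ≫ (X ↘ (Spec (CommRingCat.of k))))
        (Spec.map (CommRingCat.ofHom (algebraMap k K)))) :=
      pullback_of_geometrically (hU i).geometrically_irreducibleSpace K _
    have h2 : IrreducibleSpace ↥(pullback (U i).ι (pullback.fst (X ↘ (Spec (CommRingCat.of k)))
        (Spec.map (CommRingCat.ofHom (algebraMap k K))))) :=
      (pullbackRightPullbackFstIso (X ↘ (Spec (CommRingCat.of k)))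
        (Spec.map (CommRingCat.ofHom (algebraMap k K)))
        (U i).ι).hom.homeomorph.irreducibleSpace_iff.mpr h1
    rw [← hrange i, ← Set.image_univ]
    exact (IrreducibleSpace.isIrreducible_univ _).image _
      (Scheme.Hom.continuous _).continuousOn
  refine Groth.Agent.Lib.helper3.IrrCover.irreducibleSpace_of_cover
    (fun i => (pullback.fst (X ↘ (Spec (CommRingCat.of k)))
      (Spec.map (CommRingCat.ofHom (algebraMap k K)))) ⁻¹' (U i : Set X))
    (fun i => (U i).2.preimage (Scheme.Hom.continuous _)) hirr ?_ ?_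
  · intro z
    have hz : (pullback.fst (X ↘ (Spec (CommRingCat.of k)))
        (Spec.map (CommRingCat.ofHom (algebraMap k K)))) z ∈ (⨆ i, U i : X.Opens) := by
      rw [hcov]; trivial
    obtain ⟨i, hi⟩ := TopologicalSpace.Opens.mem_iSup.mp hz
    exact ⟨i, hi⟩
  · intro i j
    obtain ⟨x, hxi, hxj⟩ := hmeet i j
    obtain ⟨z, rfl⟩ := Scheme.Hom.surjective (pullback.fst (X ↘ (Spec (CommRingCat.of k)))
      (Spec.map (CommRingCat.ofHom (algebraMap k K)))) x
    exact ⟨z, hxi, hxj⟩

end Groth.Agent.S1630
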