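import Groth.Statements.S16301
import Mathlib
import Groth.Agent.Lib.Helper18.GenusZeroPts2

set_option autoImplicit false
universe u
open CategoryTheory CategoryTheory.Limits AlgebraicGeometry
open Curves

namespace Groth.Agent.S16301

theorem cls_pow_eq {Y : Scheme.{u}} [PicGrp.Law Y] {L : Y.Modules} (hL : PicF.IsInvertible L) (n : ℕ) :
    PicGrp.cls L hL ^ n = PicGrp.cls (CohB1.tensorPow L n)
      (Groth.Agent.Lib.helper12.TensorInv.isInvertible_tensorPow hL n) :=
  Subtype.ext (PicGrp.cls_pow_val hL n)

open Groth.Agent.Lib.Helper18.GenusZeroPts Module in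

/-- Let k be an infinite field and X a genus-zero curve over k, that is, an integral scheme proper over
k of dimension one with H^1(X, O_X) = 0. Let P be a closed point of X whose local ring is regular
and whose degree deg_k P = dim_k H^0(P, O_P) is least among all closed points of X with regular
local ring, and let I_P be the ideal sheaf of the reduced point P (an invertible module, P being a
regular point of a curve; this is carried as a hypothesis). Then the Picard group of X is generated
by the class of I_P, equivalently by O_X(P): every class of an invertible O_X-module is an integer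
power of the class of I_P (the group law on the Picard group is the tensor product, supplied by the
binder). (The published statement is for an arbitrary base field; this row assumes k infinite, the
case in which the published argument applies: it twice replaces an ample divisor by a member of its
base-point-free complete linear system whose support avoids the finitely many non-regular points of
X, and over a finite field such a member need not exist.) -/
theorem result (k : Type u) [Field k] [Infinite k] (X : Scheme.{u}) [X.Over (Spec (CommRingCat.of k))]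
    [IsIntegral X] [IsProper (X ↘ (Spec (CommRingCat.of k)))] (hdim : topologicalKrullDim X = 1)
    (h1 : Subsingleton (Coh.HH X (Coh.structureModule X) 1))
    (P : X) (hPc : IsClosed ({P} : Set X)) (hPreg : IsRegularLocalRing (X.presheaf.stalk P))
    (hmin : ∀ (Q : X) (hQc : IsClosed ({Q} : Set X)), IsRegularLocalRing (X.presheaf.stalk Q) →
      Module.finrank k (Coh.HH X (ClSub.quotMod (Scheme.IdealSheafData.vanishingIdeal ⟨{P}, hPc⟩)) 0) ≤ Module.finrank k (Coh.HH X (ClSub.quotMod (Scheme.IdealSheafData.vanishingIdeal ⟨{Q}, hQc⟩)) 0))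
    (hI : PicF.IsInvertible (ClSub.idealMod (Scheme.IdealSheafData.vanishingIdeal ⟨{P}, hPc⟩))) [PicGrp.Law X]
    (c : PicLoc.PicSet X) :
    c ∈ Subgroup.zpowers (PicGrp.cls (ClSub.idealMod (Scheme.IdealSheafData.vanishingIdeal ⟨{P}, hPc⟩)) hI) := by
  obtain ⟨M, hM, rfl⟩ := PicGrp.exists_eq_cls c
  set I := ClSub.idealMod (Scheme.IdealSheafData.vanishingIdeal ⟨{P}, hPc⟩) with hIdef
  set a := PicGrp.cls I hI with hadef
  set d := finrank k (Coh.HH X (ClSub.quotMod (Scheme.IdealSheafData.vanishingIdeal ⟨{P}, hPc⟩)) 0)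
    with hddef
  have hdegI : Curv2.deg k X I 1 = -(d : ℤ) := deg_idealMod_eq_neg k X hdim.le hPc hI
  obtain ⟨q, hq⟩ := dvd_deg_of_minimal k X hdim h1 hPc hPreg hmin hM
  rcases le_total 0 q with hq0 | hq0
  · -- `q = n ≥ 0`: `M ⊗ I^{⊗ n}` has degree zero
    obtain ⟨n, rfl⟩ := Int.eq_ofNat_of_zero_le hq0
    have hIn := Groth.Agent.Lib.helper12.TensorInv.isInvertible_tensorPow hI n
    have hM' := Groth.Agent.Lib.helper12.TensorInv.isInvertible_tensorMod hM hIn
    have hdeg0 : Curv2.deg k X (CohB1.tensorMod M (CohB1.tensorPow I n)) 1 = 0 := by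
      rw [Groth.Agent.Lib.helper9.CurveDegAdd.deg_tensorMod k X hdim.le hM hIn,
        Groth.Agent.Lib.helper9.CurveDegAdd.deg_tensorPow k X hdim.le hI n, hdegI, hq]
      ring
    have htriv := nonempty_iso_structureModule_of_deg_eq_zero k X hdim.le h1 hM' hdeg0
    have h2 : PicGrp.cls M hM * a ^ n = 1 := by
      rw [hadef, cls_pow_eq hI n]
      exact (PicGrp.cls_mul_cls_eq_one_iff hM hIn).mpr htriv
    refine ⟨-(n : ℤ), ?_⟩
    show a ^ (-(n : ℤ)) = PicGrp.cls M hM
    rw [zpow_neg, zpow_natCast]
    exact (eq_inv_of_mul_eq_one_left h2).symm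
  · -- `q = -n ≤ 0`: `M ⊗ J^{⊗ n}` has degree zero, `J` the inverse of `I`
    obtain ⟨n, hn⟩ := Int.eq_ofNat_of_zero_le (neg_nonneg.mpr hq0)
    obtain ⟨J, hJ, hIJ, hJI⟩ := Groth.Agent.Lib.helper12.InvDual.exists_inverse hI
    have hdegJ : Curv2.deg k X J 1 = (d : ℤ) := by
      have := Groth.Agent.Lib.Lead.VBCurve.deg_add_deg_of_isInverseOf k X hdim.le hI hJ hJI
      rw [hdegI] at this
      linarith
    have hJn := Groth.Agent.Lib.helper12.TensorInv.isInvertible_tensorPow hJ n
    have hM' := Groth.Agent.Lib.helper12.TensorInv.isInvertible_tensorMod hM hJn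
    have hdeg0 : Curv2.deg k X (CohB1.tensorMod M (CohB1.tensorPow J n)) 1 = 0 := by
      rw [Groth.Agent.Lib.helper9.CurveDegAdd.deg_tensorMod k X hdim.le hM hJn,
        Groth.Agent.Lib.helper9.CurveDegAdd.deg_tensorPow k X hdim.le hJ n, hdegJ, hq, ← hn]
      ring
    have htriv := nonempty_iso_structureModule_of_deg_eq_zero k X hdim.le h1 hM' hdeg0
    have haJ : a⁻¹ = PicGrp.cls J hJ := PicGrp.cls_inv_eq_cls hI hJ hIJ
    have h2 : PicGrp.cls M hM * (a⁻¹) ^ n = 1 := by
      rw [haJ, cls_pow_eq hJ n]
      exact (PicGrp.cls_mul_cls_eq_one_iff hM hJn).mpr htriv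
    refine ⟨(n : ℤ), ?_⟩
    show a ^ (n : ℤ) = PicGrp.cls M hM
    rw [zpow_natCast]
    rw [inv_pow] at h2
    exact (eq_of_mul_inv_eq_one h2).symm

end Groth.Agent.S16301
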