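import Groth.Statements.S16302
import Mathlib
import Groth.Agent.Lib.Helper18.GenusZeroPts

set_option autoImplicit false
universe u
open CategoryTheory CategoryTheory.Limits AlgebraicGeometry
open Curves

namespace Groth.Agent.S16302

open Groth.Agent.Lib.Helper18.GenusZeroPts Module in

/-- Let k be an infinite field and X a genus-zero curve over k, that is, an integral scheme proper over
k of dimension one with H^1(X, O_X) = 0. Then the set of closed points P of X whose local ring is
regular and whose degree deg_k P = dim_k H^0(P, O_P) is least among all closed points with regular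
local ring is infinite. -/
theorem result (k : Type u) [Field k] (X : Scheme.{u}) [X.Over (Spec (CommRingCat.of k))] [Infinite k]
    [IsIntegral X] [IsProper (X ↘ (Spec (CommRingCat.of k)))] (hdim : topologicalKrullDim X = 1)
    (h1 : Subsingleton (Coh.HH X (Coh.structureModule X) 1)) :
    {P : X | ∃ hPc : IsClosed ({P} : Set X), IsRegularLocalRing (X.presheaf.stalk P) ∧
      ∀ (Q : X) (hQc : IsClosed ({Q} : Set X)), IsRegularLocalRing (X.presheaf.stalk Q) →
        Module.finrank k (Coh.HH X (ClSub.quotMod (Scheme.IdealSheafData.vanishingIdeal ⟨{P}, hPc⟩)) 0) ≤ Module.finrank k (Coh.HH X (ClSub.quotMod (Scheme.IdealSheafData.vanishingIdeal ⟨{Q}, hQc⟩)) 0)}.Infinite := by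
  classical
  intro hfin
  -- a regular closed point exists
  obtain ⟨S, hS, hreg⟩ := exists_finset_regular k X hdim
  obtain ⟨y0, hy0c, hy0S⟩ := exists_isClosed_notMem k X S hdim
  have hy0reg := hreg y0 hy0c hy0S
  -- the set of degrees of regular closed points
  let D : Set ℕ := {n | ∃ (Q : X) (hQ : IsClosed ({Q} : Set X)), IsRegularLocalRing (X.presheaf.stalk Q) ∧
    finrank k (Coh.HH X (ClSub.quotMod (Scheme.IdealSheafData.vanishingIdeal ⟨{Q}, hQ⟩)) 0) = n}
  have hDne : D.Nonempty := ⟨_, y0, hy0c, hy0reg, rfl⟩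
  obtain ⟨P0, hP0c, hP0reg, hP0d⟩ := Nat.sInf_mem hDne
  set d : ℕ := sInf D with hddef
  have hmin : ∀ (Q : X) (hQ : IsClosed ({Q} : Set X)), IsRegularLocalRing (X.presheaf.stalk Q) →
      d ≤ finrank k (Coh.HH X (ClSub.quotMod (Scheme.IdealSheafData.vanishingIdeal ⟨{Q}, hQ⟩)) 0) :=
    fun Q hQ hr => Nat.sInf_le ⟨Q, hQ, hr, rfl⟩
  -- the inverse of the ideal sheaf of `P0`
  have hinv := isInvertible_idealMod_of_regular k X hdim hP0c hP0reg
  obtain ⟨N, hN, hIN, hNI⟩ := Groth.Agent.Lib.helper12.InvDual.exists_inverse hinv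
  have hdegI := deg_idealMod_eq_neg k X hdim.le hP0c hinv
  have hdegN : Curv2.deg k X N 1 = (d : ℤ) := by
    have := Groth.Agent.Lib.Lead.VBCurve.deg_add_deg_of_isInverseOf k X hdim.le hinv hN hNI
    rw [hdegI, hP0d] at this
    linarith
  have hdpos : 0 < d := by
    rw [← hP0d]
    exact Groth.Agent.Lib.helper9.CurveGG.finrank_H0_quotMod_pos k X hP0c
  obtain ⟨Q, hQc, hQT, hQreg, hQle⟩ := exists_regular_closedPoint_deg_le k X hdim h1 hN
    (by rw [hdegN]; exact_mod_cast hdpos) hfin.toFinset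
    (fun y hy => by
      obtain ⟨hyc, -, -⟩ := hfin.mem_toFinset.mp hy
      exact hyc)
  apply hQT
  rw [Set.Finite.mem_toFinset]
  refine ⟨hQc, hQreg, fun Q' hQ'c hQ'reg => ?_⟩
  have h2 := hmin Q' hQ'c hQ'reg
  rw [hdegN] at hQle
  have h3 : finrank k (Coh.HH X (ClSub.quotMod (Scheme.IdealSheafData.vanishingIdeal ⟨{Q}, hQc⟩)) 0) ≤
      d := by exact_mod_cast hQle
  exact h3.trans h2

end Groth.Agent.S16302
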