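import Groth.Statements.S16309
import Groth.Agent.Lib.Helper7.KoszulD
import Groth.Agent.Lib.Helper18.NefH1Zero
import Groth.Agent.Lib.Helper9.CurveAmple
import Groth.Agent.Lib.Helper12.PullAmple
import Groth.Agent.Lib.Helper21.IdealPow1

set_option autoImplicit false
universe u
open CategoryTheory CategoryTheory.Limits AlgebraicGeometry
open Curves

namespace Groth.Agent.S16309

/-- Let k be a field and X a proper scheme over k of dimension one (not assumed reduced or irreducible)
with H^1(X, O_X) = 0 and H^0(X, O_X) = k, and let L be an ample invertible O_X-module. Then the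
section ring ⊕_{n ≥ 0} H^0(X, L^{⊗ n}) is generated by H^0(X, L) as a k-algebra: for every n, the
global sections of L^{⊗ n} ⊗ L = L^{⊗ (n+1)} are spanned over H^0(X, O_X) = k by the sections a ⊗ b
with a a global section of L^{⊗ n} and b a global section of L. -/
theorem result (k : Type u) [Field k] (X : Scheme.{u}) [X.Over (Spec (CommRingCat.of k))]
    [IsProper (X ↘ (Spec (CommRingCat.of k)))] (hdim : topologicalKrullDim X = 1)
    (h1 : Subsingleton (Coh.HH X (Coh.structureModule X) 1))
    (h0 : Module.finrank k (Coh.HH X (Coh.structureModule X) 0) = 1)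
    (L : X.Modules) (hA : CohB1.IsAmple L) (n : ℕ) :
    Submodule.span (X.ringCatSheaf.obj.obj (Opposite.op ⊤))
        (Set.range (fun p : (CohB1.tensorPow L n).val.obj (Opposite.op ⊤) × L.val.obj (Opposite.op ⊤) =>
          SecTwist.tmul (CohB1.tensorPow L n) L ⊤ p.1 p.2)) = ⊤ := by
  haveI := Groth.Agent.Lib.Lead.ProperEuler.compactSpace k X
  haveI := Groth.Agent.Lib.Lead.ProperEuler.quasiSeparatedSpace k X
  have hL : PicF.IsInvertible L := hA.1
  have hnef : ∀ J : X.IdealSheafData, IsIntegral J.subscheme → topologicalKrullDim J.subscheme = 1 →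
      0 ≤ @Curv2.deg k _ J.subscheme ⟨J.subschemeι ≫ (X ↘ (Spec (CommRingCat.of k)))⟩
        ((Scheme.Modules.pullback J.subschemeι).obj L) 1 := by
    intro J hJint hJdim
    letI : J.subscheme.Over (Spec (CommRingCat.of k)) :=
      ⟨J.subschemeι ≫ (X ↘ (Spec (CommRingCat.of k)))⟩
    haveI : IsProper (J.subscheme ↘ Spec (CommRingCat.of k)) :=
      inferInstanceAs (IsProper (J.subschemeι ≫ (X ↘ Spec (CommRingCat.of k))))
    haveI := hJint
    have hA' : CohB1.IsAmple ((Scheme.Modules.pullback J.subschemeι).obj L) :=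
      Groth.Agent.Lib.helper12.PullAmple.isAmple_pullback_of_isAffineHom J.subschemeι hA
    exact (Groth.Agent.Lib.helper9.CurveAmple.deg_pos_of_isAmple k J.subscheme hJdim hA').le
  have hgg : Curv2.IsGloballyGenerated L :=
    Groth.Agent.Lib.Helper18.NefH1Zero.gg_of_nef k X hdim.le h1 hL hnef
  rcases Nat.eq_zero_or_pos n with rfl | hn
  · rw [eq_top_iff]
    intro τ _
    let b : L.val.obj (Opposite.op ⊤) :=
      ((Groth.Agent.Lib.Lead.ModTensor.leftUnitor L).hom.val.app (Opposite.op ⊤)).hom τ
    have h2 := Groth.Agent.Lib.helper21.IdealPow.leftUnitor_tmul L ⊤ b 1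
    rw [one_smul] at h2
    have h3 : SecTwist.tmul (Coh.structureModule X) L ⊤
        ((1 : X.ringCatSheaf.obj.obj (Opposite.op ⊤)) : (Coh.structureModule X).val.obj (Opposite.op ⊤)) b = τ := by
      have e1 := Groth.Agent.Lib.helper12.TensorSec.iso_inv_hom_apply
        (Groth.Agent.Lib.Lead.ModTensor.leftUnitor L) ⊤
        (SecTwist.tmul (Coh.structureModule X) L ⊤
          ((1 : X.ringCatSheaf.obj.obj (Opposite.op ⊤)) : (Coh.structureModule X).val.obj (Opposite.op ⊤)) b)
      have e2 := Groth.Agent.Lib.helper12.TensorSec.iso_inv_hom_apply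
        (Groth.Agent.Lib.Lead.ModTensor.leftUnitor L) ⊤ τ
      rw [h2] at e1
      exact e1.symm.trans e2
    rw [← h3]
    exact Submodule.subset_span ⟨(_, b), rfl⟩
  · exact Groth.Agent.Lib.helper7.Koszul.span_tmul_tensorPow hdim.le hL hgg 0 h1 n hn

end Groth.Agent.S16309
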