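import Groth.Statements.S16312
import Mathlib
-- import your own Groth.Agent.* helpers here

set_option autoImplicit false
universe u
open W4c3irrattreebun

namespace Groth.Agent.S16312

/-- Let N be a closed cone in real n-space, f a function continuous on N, positive at the nonzero points
of N and homogeneous of degree one under scaling by nonnegative reals, and Λ a discrete additive
subgroup. Then for every real c the set of points H of Λ lying in N with f(H) ≤ c is finite. (The
published statement takes Λ to be a lattice; this row allows any discrete additive subgroup.) -/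
theorem result (n : ℕ)
    (N : Set (EuclideanSpace ℝ (Fin n))) (hN : IsClosed N)
    (hcone : ∀ x ∈ N, ∀ r : ℝ, 0 ≤ r → r • x ∈ N)
    (f : EuclideanSpace ℝ (Fin n) → ℝ) (hf : ContinuousOn f N)
    (hpos : ∀ x ∈ N, x ≠ 0 → 0 < f x)
    (hhom : ∀ x ∈ N, ∀ r : ℝ, 0 ≤ r → f (r • x) = r * f x)
    (Λ : Submodule ℤ (EuclideanSpace ℝ (Fin n))) [DiscreteTopology Λ] (c : ℝ) :
    ({x : EuclideanSpace ℝ (Fin n) | x ∈ N ∧ f x ≤ c} ∩ (Λ : Set (EuclideanSpace ℝ (Fin n)))).Finite := by
  have hΛd : IsDiscrete (Λ : Set (EuclideanSpace ℝ (Fin n))) := DiscreteTopology.isDiscrete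
  have hΛc : IsClosed (Λ : Set (EuclideanSpace ℝ (Fin n))) := by
    rw [← Submodule.coe_toAddSubgroup]
    have : DiscreteTopology Λ.toAddSubgroup := inferInstanceAs (DiscreteTopology Λ)
    exact AddSubgroup.isClosed_of_discrete
  suffices hb : Bornology.IsBounded {x : EuclideanSpace ℝ (Fin n) | x ∈ N ∧ f x ≤ c} from
    Metric.finite_isBounded_inter_isClosed hΛd hb hΛc
  set Sph := Metric.sphere (0 : EuclideanSpace ℝ (Fin n)) 1 ∩ N with hSph
  have hScomp : IsCompact Sph := (isCompact_sphere 0 1).inter_right hN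
  have hunit : ∀ x ∈ N, x ≠ 0 → (‖x‖⁻¹ • x) ∈ Sph := by
    intro x hx hx0
    have hn : 0 < ‖x‖ := norm_pos_iff.mpr hx0
    refine ⟨?_, hcone x hx _ (inv_nonneg.mpr hn.le)⟩
    rw [mem_sphere_zero_iff_norm, norm_smul, norm_inv, norm_norm, inv_mul_cancel₀ hn.ne']
  by_cases hSne : Sph.Nonempty
  · obtain ⟨x0, hx0, hmin⟩ := hScomp.exists_isMinOn hSne (hf.mono Set.inter_subset_right)
    have hx0ne : x0 ≠ 0 := by
      intro h
      have h1 := hx0.1
      rw [h, mem_sphere_zero_iff_norm, norm_zero] at h1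
      exact zero_ne_one h1
    have hm : 0 < f x0 := hpos x0 hx0.2 hx0ne
    have key : ∀ x ∈ N, f x0 * ‖x‖ ≤ f x := by
      intro x hx
      by_cases hx0' : x = 0
      · subst hx0'
        have h0 := hhom 0 hx 0 le_rfl
        rw [zero_smul, zero_mul] at h0
        rw [norm_zero, mul_zero, h0]
      · have hn : 0 < ‖x‖ := norm_pos_iff.mpr hx0'
        have h1 : f x0 ≤ f (‖x‖⁻¹ • x) := hmin (hunit x hx hx0')
        rw [hhom x hx _ (inv_nonneg.mpr hn.le)] at h1
        calc f x0 * ‖x‖ ≤ (‖x‖⁻¹ * f x) * ‖x‖ := mul_le_mul_of_nonneg_right h1 hn.le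
          _ = f x := by field_simp
    refine (Metric.isBounded_closedBall (x := (0 : EuclideanSpace ℝ (Fin n))) (r := c / f x0)).subset ?_
    rintro x ⟨hxN, hxc⟩
    rw [mem_closedBall_zero_iff, le_div_iff₀ hm]
    have := key x hxN
    linarith
  · have hsub : {x : EuclideanSpace ℝ (Fin n) | x ∈ N ∧ f x ≤ c} ⊆ {0} := by
      rintro x ⟨hxN, -⟩
      by_contra hx0
      exact hSne ⟨_, hunit x hxN hx0⟩
    exact Bornology.isBounded_singleton.subset hsub

end Groth.Agent.S16312
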