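import Groth.Statements.S16319
import Mathlib
import Groth.Agent.Lib.Helper18.PencilTrick2
import Groth.Agent.Lib.Helper18.Clifford
import Groth.Agent.Lib.Helper9.CurveDegAdd
import Groth.Agent.Lib.Helper12.InvDual2
import Groth.Agent.Lib.Helper12.TensorInvLocal

set_option autoImplicit false
open CategoryTheory CategoryTheory.Limits AlgebraicGeometry
universe u
open Curves

namespace Groth.Agent.S16319

open Groth.Agent.Lib.Helper18 Groth.Agent.Lib.Helper18.PencilTrick Module
open Groth.Agent.Lib.Lead.ModTensor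

theorem deg_eq_of_iso (k : Type u) [Field k] (X : Scheme.{u}) [X.Over (Spec (CommRingCat.of k))]
    [IsProper (X ↘ Spec (CommRingCat.of k))] {F G : X.Modules} (e : F ≅ G) (n : ℕ) :
    Curv2.deg k X F n = Curv2.deg k X G n := by
  unfold Curv2.deg
  rw [Groth.Agent.Lib.Lead.CurveEuler.euler_eq_of_iso k X e]

/-- Let k be an algebraically closed field of characteristic zero and X a smooth proper integral curve
over k (integral, proper and smooth over k, of dimension one) of genus 9 whose Clifford index is 3: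
some invertible module M with h^0(M) ≥ 2 and h^1(M) ≥ 2 has deg M − 2(h^0(M) − 1) = 3, and every
invertible module M with h^0(M) ≥ 2 and h^1(M) ≥ 2 has deg M − 2(h^0(M) − 1) ≥ 3 (degrees are χ(M) −
χ(O_X); in particular X is not hyperelliptic); let H be an invertible module of degree 7 with h^0(H)
= 3 (a g^2_7) and D a globally generated invertible module of degree 5 with h^0(D) = 2 (a
base-point-free complete g^1_5). Then every module N with D ⊗ N ≅ H has h^0(N) = 1: the difference
of the two series is the class of an effective divisor of degree 2 with a one-dimensional space of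
sections, so the pencil is cut out by the lines through a double point of the plane model of degree
7. -/
theorem result
    (k : Type u) [Field k] [IsAlgClosed k] [CharZero k]
    (X : Scheme.{u}) [X.Over (Spec (CommRingCat.of k))] [IsIntegral X]
    [IsProper (X ↘ Spec (CommRingCat.of k))] [Smooth (X ↘ Spec (CommRingCat.of k))]
    (hdim : topologicalKrullDim X = 1) (hg : Curv2.genus k X = 9)
    (hex : ∃ M : X.Modules, PicF.IsInvertible M ∧ 2 ≤ Module.finrank k (Coh.HH X M 0) ∧
      2 ≤ Module.finrank k (Coh.HH X M 1) ∧ Curv2.deg k X M 1 = 2 * (Module.finrank k (Coh.HH X M 0) : ℤ) + 1)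
    (hmin : ∀ M : X.Modules, PicF.IsInvertible M → 2 ≤ Module.finrank k (Coh.HH X M 0) →
      2 ≤ Module.finrank k (Coh.HH X M 1) → 2 * (Module.finrank k (Coh.HH X M 0) : ℤ) + 1 ≤ Curv2.deg k X M 1)
    (H : X.Modules) (hH : PicF.IsInvertible H) (hdH : Curv2.deg k X H 1 = 7)
    (h0H : Module.finrank k (Coh.HH X H 0) = 3)
    (D : X.Modules) (hD : PicF.IsInvertible D) (hgD : Curv2.IsGloballyGenerated D)
    (hdD : Curv2.deg k X D 1 = 5) (h0D : Module.finrank k (Coh.HH X D 0) = 2)
    (N : X.Modules) (e : CohB1.tensorMod D N ≅ H) :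
    Module.finrank k (Coh.HH X N 0) = 1 := by
  have hdim' : topologicalKrullDim X ≤ 1 := hdim.le
  have hO := Groth.Agent.Lib.helper9.CurveVanish.finrank_H0_structureModule_eq_one k X
  obtain ⟨s₀, s₁, hs⟩ := exists_two_sections k hD hgD h0D
  -- `N` is invertible
  obtain ⟨M, hM, ⟨eM⟩, -⟩ := Groth.Agent.Lib.helper12.InvDual.exists_inverse hH
  have hN : PicF.IsInvertible N := by
    refine Groth.Agent.Lib.helper12.TensorInvLocal.isInvertible_of_tensor_iso N (CohB1.tensorMod D M)
      ((assoc N D M).symm ≪≫ tensorIso (braid N D ≪≫ e) (Iso.refl M) ≪≫ eM)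
  -- general facts for invertible modules
  have hfin : ∀ (L : X.Modules), PicF.IsInvertible L → ∀ i, Module.Finite k (Coh.HH X L i) :=
    fun L hL i => Groth.Agent.Lib.Lead.ProperEuler.finite_HH k X _
      (Groth.Agent.Lib.Lead.CurveInv.isCoh_of_isInvertible X hL) i
  have hrr : ∀ (L : X.Modules), PicF.IsInvertible L → (finrank k (Coh.HH X L 0) : ℤ) -
      (finrank k (Coh.HH X L 1) : ℤ) = Curv2.deg k X L 1 - 8 := fun L hL => by
    have := Groth.Agent.Lib.Lead.CurveEuler.riemann_roch' k X hdim' hO L
      (Groth.Agent.Lib.Lead.CurveInv.isCoh_of_isInvertible X hL).1 1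
    rw [hg] at this
    push_cast at this
    linarith
  -- degrees
  have hdN : Curv2.deg k X N 1 = 2 := by
    have h1 := Groth.Agent.Lib.helper9.CurveDegAdd.deg_tensorMod k X hdim' hD hN
    rw [deg_eq_of_iso k X e 1, hdH, hdD] at h1
    linarith
  have hND : PicF.IsInvertible (CohB1.tensorMod N D) :=
    Groth.Agent.Lib.helper12.TensorInv.isInvertible_tensorMod hN hD
  have hNDD : PicF.IsInvertible (CohB1.tensorMod (CohB1.tensorMod N D) D) :=
    Groth.Agent.Lib.helper12.TensorInv.isInvertible_tensorMod hND hD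
  have hdND : Curv2.deg k X (CohB1.tensorMod N D) 1 = 7 := by
    rw [Groth.Agent.Lib.helper9.CurveDegAdd.deg_tensorMod k X hdim' hN hD, hdN, hdD]; norm_num
  have hdNDD : Curv2.deg k X (CohB1.tensorMod (CohB1.tensorMod N D) D) 1 = 12 := by
    rw [Groth.Agent.Lib.helper9.CurveDegAdd.deg_tensorMod k X hdim' hND hD, hdND, hdD]; norm_num
  have h0ND : finrank k (Coh.HH X (CohB1.tensorMod N D) 0) = 3 := by
    rw [← h0H]
    exact LinearEquiv.finrank_eq (HH.isoEquivOver k (braid N D ≪≫ e) 0)
  -- pencil trick
  have hpen : 2 * finrank k (Coh.HH X (CohB1.tensorMod N D) 0) ≤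
      finrank k (Coh.HH X N 0) +
        finrank k (Coh.HH X (CohB1.tensorMod (CohB1.tensorMod N D) D) 0) := by
    haveI := hfin N hN 0
    haveI := hfin _ hND 0
    haveI := hfin _ hNDD 0
    exact two_mul_finrank_le k s₀ s₁ hs N 0
  have r1 := hrr N hN
  have r2 := hrr _ hNDD
  have c1 := hmin N hN
  have c2 := hmin _ hNDD
  rw [hdN] at r1 c1
  rw [hdNDD] at r2 c2
  rw [h0ND] at hpen
  set a := finrank k (Coh.HH X N 0) with ha
  set a1 := finrank k (Coh.HH X N 1) with ha1
  set b := finrank k (Coh.HH X (CohB1.tensorMod (CohB1.tensorMod N D) D) 0) with hb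
  set b1 := finrank k (Coh.HH X (CohB1.tensorMod (CohB1.tensorMod N D) D) 1) with hb1
  have hle : a ≤ 1 := by
    by_contra hcon
    have h2 : 2 ≤ a := by omega
    have := c1 h2 (by omega)
    omega
  have hb5 : b ≤ 5 := by
    by_cases hb : 2 ≤ b1
    · have := c2 (by omega) hb
      omega
    · omega
  omega

end Groth.Agent.S16319
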