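import Groth.Statements.S16320
import Mathlib
import Groth.Agent.Lib.Helper18.PencilTrick2
import Groth.Agent.Lib.Helper18.Clifford
import Groth.Agent.Lib.Helper9.CurveDegAdd

set_option autoImplicit false
open CategoryTheory CategoryTheory.Limits AlgebraicGeometry
universe u
open Curves

namespace Groth.Agent.S16320

open Groth.Agent.Lib.Helper18 Groth.Agent.Lib.Helper18.PencilTrick Module

/-- Let k be an algebraically closed field of characteristic zero and X a smooth proper integral curve
over k (integral, proper and smooth over k, of dimension one) of genus 9 whose Clifford index is 3: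
some invertible module M with h^0(M) ≥ 2 and h^1(M) ≥ 2 has deg M − 2(h^0(M) − 1) = 3, and every
invertible module M with h^0(M) ≥ 2 and h^1(M) ≥ 2 has deg M − 2(h^0(M) − 1) ≥ 3 (degrees are χ(M) −
χ(O_X); in particular X is not hyperelliptic), and let D be a globally generated invertible module
of degree 5 with h^0(D) = 2 (a base-point-free complete g^1_5). Then h^0(D^{⊗2}) is 3 or 4,
h^0(D^{⊗3}) is 7 or 8, and h^0(D^{⊗3}) = 7 whenever h^0(D^{⊗2}) = 3. (The published statement says,
equivalently by Riemann–Roch applied to the numbers h^0(K − iD) − h^0(K − (i+1)D) for a canonical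
module K, that the rational normal fourfold scroll formed by the linear spans of the pencil's
divisors in the canonical embedding has type S(2,1,1,1), S(2,2,1,0) or S(3,1,1,0); the scroll itself
is not restated here.) -/
theorem result
    (k : Type u) [Field k] [IsAlgClosed k] [CharZero k]
    (X : Scheme.{u}) [X.Over (Spec (CommRingCat.of k))] [IsIntegral X]
    [IsProper (X ↘ Spec (CommRingCat.of k))] [Smooth (X ↘ Spec (CommRingCat.of k))]
    (hdim : topologicalKrullDim X = 1) (hg : Curv2.genus k X = 9)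
    (hex : ∃ M : X.Modules, PicF.IsInvertible M ∧ 2 ≤ Module.finrank k (Coh.HH X M 0) ∧
      2 ≤ Module.finrank k (Coh.HH X M 1) ∧ Curv2.deg k X M 1 = 2 * (Module.finrank k (Coh.HH X M 0) : ℤ) + 1)
    (hmin : ∀ M : X.Modules, PicF.IsInvertible M → 2 ≤ Module.finrank k (Coh.HH X M 0) →
      2 ≤ Module.finrank k (Coh.HH X M 1) → 2 * (Module.finrank k (Coh.HH X M 0) : ℤ) + 1 ≤ Curv2.deg k X M 1)
    (D : X.Modules) (hD : PicF.IsInvertible D) (hgD : Curv2.IsGloballyGenerated D)
    (hdD : Curv2.deg k X D 1 = 5) (h0D : Module.finrank k (Coh.HH X D 0) = 2) :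
    (Module.finrank k (Coh.HH X (CohB1.tensorPow D 2) 0) = 3 ∨
        Module.finrank k (Coh.HH X (CohB1.tensorPow D 2) 0) = 4) ∧
      (Module.finrank k (Coh.HH X (CohB1.tensorPow D 3) 0) = 7 ∨
        Module.finrank k (Coh.HH X (CohB1.tensorPow D 3) 0) = 8) ∧
      (Module.finrank k (Coh.HH X (CohB1.tensorPow D 2) 0) = 3 →
        Module.finrank k (Coh.HH X (CohB1.tensorPow D 3) 0) = 7) := by
  have hdim' : topologicalKrullDim X ≤ 1 := hdim.le
  have hO := Groth.Agent.Lib.helper9.CurveVanish.finrank_H0_structureModule_eq_one k X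
  obtain ⟨s₀, s₁, hs⟩ := exists_two_sections k hD hgD h0D
  -- invertibility, finiteness, degrees of the powers
  have hP : ∀ n, PicF.IsInvertible (CohB1.tensorPow D n) := fun n =>
    Groth.Agent.Lib.helper12.TensorInv.isInvertible_tensorPow hD n
  have hfin : ∀ n i, Module.Finite k (Coh.HH X (CohB1.tensorPow D n) i) := fun n i =>
    Groth.Agent.Lib.Lead.ProperEuler.finite_HH k X _
      (Groth.Agent.Lib.Lead.CurveInv.isCoh_of_isInvertible X (hP n)) i
  have hdeg : ∀ n : ℕ, Curv2.deg k X (CohB1.tensorPow D n) 1 = 5 * n := fun n => by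
    rw [Groth.Agent.Lib.helper9.CurveDegAdd.deg_tensorPow k X hdim' hD n, hdD]; ring
  have hrr : ∀ n : ℕ, (finrank k (Coh.HH X (CohB1.tensorPow D n) 0) : ℤ) -
      (finrank k (Coh.HH X (CohB1.tensorPow D n) 1) : ℤ) = 5 * n - 8 := fun n => by
    have := Groth.Agent.Lib.Lead.CurveEuler.riemann_roch' k X hdim' hO (CohB1.tensorPow D n)
      (Groth.Agent.Lib.Lead.CurveInv.isCoh_of_isInvertible X (hP n)).1 1
    rw [hdeg n, hg] at this
    push_cast at this
    linarith
  -- pencil inequalities
  have hpen : ∀ (n i : ℕ), 2 * finrank k (Coh.HH X (CohB1.tensorPow D (n + 1)) i) ≤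
      finrank k (Coh.HH X (CohB1.tensorPow D n) i) +
        finrank k (Coh.HH X (CohB1.tensorPow D (n + 2)) i) := fun n i => by
    haveI := hfin n i
    haveI := hfin (n + 1) i
    haveI := hfin (n + 2) i
    haveI : Module.Finite k (Coh.HH X (CohB1.tensorMod (CohB1.tensorPow D n) D) i) := hfin (n + 1) i
    haveI : Module.Finite k (Coh.HH X
        (CohB1.tensorMod (CohB1.tensorMod (CohB1.tensorPow D n) D) D) i) := hfin (n + 2) i
    exact two_mul_finrank_le k s₀ s₁ hs (CohB1.tensorPow D n) i
  -- values for `D^0`, `D^1`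
  have ha0 : finrank k (Coh.HH X (CohB1.tensorPow D 0) 0) = 1 := hO
  have ha1 : finrank k (Coh.HH X (CohB1.tensorPow D 1) 0) = 2 := by
    rw [← h0D]
    exact LinearEquiv.finrank_eq
      (HH.isoEquivOver k (Groth.Agent.Lib.Lead.ModTensor.tensorPowOne D) 0)
  -- Clifford-index hypothesis for the powers
  have hcl : ∀ n : ℕ, 2 ≤ finrank k (Coh.HH X (CohB1.tensorPow D n) 0) →
      2 ≤ finrank k (Coh.HH X (CohB1.tensorPow D n) 1) →
      2 * (finrank k (Coh.HH X (CohB1.tensorPow D n) 0) : ℤ) + 1 ≤ 5 * n := fun n h0 h1 => by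
    have := hmin _ (hP n) h0 h1
    rwa [hdeg n] at this
  -- `H¹(D^4) = 0` by Clifford
  have hc4 : finrank k (Coh.HH X (CohB1.tensorPow D 4) 1) = 0 := by
    by_contra hne
    haveI := hfin 4 1
    haveI := hfin 4 0
    have h1 : Nontrivial (Coh.HH X (CohB1.tensorPow D 4) 1) :=
      Module.nontrivial_of_finrank_pos (R := k) (Nat.pos_of_ne_zero hne)
    have hr := hrr 4
    have h0pos : 0 < finrank k (Coh.HH X (CohB1.tensorPow D 4) 0) := by
      have : (0 : ℤ) < (finrank k (Coh.HH X (CohB1.tensorPow D 4) 0) : ℤ) := by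
        push_cast at hr; linarith [Int.natCast_nonneg (finrank k (Coh.HH X (CohB1.tensorPow D 4) 1))]
      exact_mod_cast this
    have h0 : Nontrivial (Coh.HH X (CohB1.tensorPow D 4) 0) :=
      Module.nontrivial_of_finrank_pos (R := k) h0pos
    have hc := Clifford.clifford k X hdim' (hP 4) h0 h1
    rw [hdeg 4] at hc
    have hpos : (1 : ℤ) ≤ (finrank k (Coh.HH X (CohB1.tensorPow D 4) 1) : ℤ) := by
      exact_mod_cast Nat.pos_of_ne_zero hne
    push_cast at hr hc
    linarith
  have p00 := hpen 0 0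
  have p10 := hpen 1 0
  have p21 := hpen 2 1
  have r2 := hrr 2
  have r3 := hrr 3
  have c2 := hcl 2
  have c3 := hcl 3
  push_cast at r2 r3 c2 c3
  set a2 := finrank k (Coh.HH X (CohB1.tensorPow D 2) 0) with ha2
  set a3 := finrank k (Coh.HH X (CohB1.tensorPow D 3) 0) with ha3
  set b2 := finrank k (Coh.HH X (CohB1.tensorPow D 2) 1) with hb2
  set b3 := finrank k (Coh.HH X (CohB1.tensorPow D 3) 1) with hb3
  rw [ha0, ha1] at p00
  rw [ha1] at p10
  rw [hc4] at p21
  have hA2 : a2 = 3 ∨ a2 = 4 := by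
    by_cases hb : 2 ≤ b2
    · have := c2 (by omega) hb
      omega
    · omega
  have hA3 : a3 = 7 ∨ a3 = 8 := by
    by_cases hb : 2 ≤ b3
    · have := c3 (by omega) hb
      omega
    · omega
  refine ⟨hA2, hA3, fun h3 => ?_⟩
  omega

end Groth.Agent.S16320
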