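import Groth.Statements.S16322
import Mathlib
import Groth.Agent.Lib.Helper18.PencilTrick2
import Groth.Agent.Lib.Helper18.Clifford
import Groth.Agent.Lib.Helper18.TwoSec
import Groth.Agent.Lib.Helper9.CurveDegAdd
import Groth.Agent.Lib.Helper12.InvDual2

set_option autoImplicit false
open CategoryTheory CategoryTheory.Limits AlgebraicGeometry
universe u
open Curves

namespace Groth.Agent.S16322

open Groth.Agent.Lib.Helper18 Groth.Agent.Lib.Helper18.PencilTrick Module
open Groth.Agent.Lib.Lead.ModTensor Groth.Agent.Lib.helper9.CurveVanish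

theorem deg_eq_of_iso (k : Type u) [Field k] (X : Scheme.{u}) [X.Over (Spec (CommRingCat.of k))]
    [IsProper (X ↘ Spec (CommRingCat.of k))] {F G : X.Modules} (e : F ≅ G) (n : ℕ) :
    Curv2.deg k X F n = Curv2.deg k X G n := by
  unfold Curv2.deg
  rw [Groth.Agent.Lib.Lead.CurveEuler.euler_eq_of_iso k X e]

/-- Let k be a characteristic-zero algebraically closed field and X a smooth proper integral curve over
k (integral, proper and smooth over k, of dimension one) of genus 9 whose Clifford index is 3: some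
invertible module M with h^0(M) ≥ 2 and h^1(M) ≥ 2 has deg M − 2(h^0(M) − 1) = 3, and every
invertible module M with h^0(M) ≥ 2 and h^1(M) ≥ 2 has deg M − 2(h^0(M) − 1) ≥ 3 (degrees are χ(M) −
χ(O_X); in particular X is not hyperelliptic), and let D₁, D₂ be two non-isomorphic globally
generated invertible modules of degree 5 with h^0(D₁) = h^0(D₂) = 2 (two different base-point-free
complete pencils of degree 5). Then h^0(D₁ ⊗ D₂) = 4. (In the published statement the two pencils
are the ones cut out by the two rulings on a model of the curve in a blow-up of P^1 × P^1; the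
printed argument for this equality uses only that they are different base-point-free pencils of
degree 5 on a genus-9 curve of Clifford index 3, which is what is stated here; the further printed
assertion on a third pencil is not restated.) -/
theorem result
    (k : Type u) [Field k] [IsAlgClosed k] [CharZero k]
    (X : Scheme.{u}) [X.Over (Spec (CommRingCat.of k))] [IsIntegral X]
    [IsProper (X ↘ Spec (CommRingCat.of k))] [Smooth (X ↘ Spec (CommRingCat.of k))]
    (hdim : topologicalKrullDim X = 1) (hg : Curv2.genus k X = 9)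
    (hex : ∃ M : X.Modules, PicF.IsInvertible M ∧ 2 ≤ Module.finrank k (Coh.HH X M 0) ∧
      2 ≤ Module.finrank k (Coh.HH X M 1) ∧ Curv2.deg k X M 1 = 2 * (Module.finrank k (Coh.HH X M 0) : ℤ) + 1)
    (hmin : ∀ M : X.Modules, PicF.IsInvertible M → 2 ≤ Module.finrank k (Coh.HH X M 0) →
      2 ≤ Module.finrank k (Coh.HH X M 1) → 2 * (Module.finrank k (Coh.HH X M 0) : ℤ) + 1 ≤ Curv2.deg k X M 1)
    (D₁ D₂ : X.Modules) (h₁ : PicF.IsInvertible D₁) (h₂ : PicF.IsInvertible D₂)
    (hg₁ : Curv2.IsGloballyGenerated D₁) (hg₂ : Curv2.IsGloballyGenerated D₂)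
    (hd₁ : Curv2.deg k X D₁ 1 = 5) (hd₂ : Curv2.deg k X D₂ 1 = 5)
    (h0₁ : Module.finrank k (Coh.HH X D₁ 0) = 2) (h0₂ : Module.finrank k (Coh.HH X D₂ 0) = 2)
    (hne : IsEmpty (D₁ ≅ D₂)) :
    Module.finrank k (Coh.HH X (CohB1.tensorMod D₁ D₂) 0) = 4 := by
  have hdim' : topologicalKrullDim X ≤ 1 := hdim.le
  have hO := finrank_H0_structureModule_eq_one k X
  obtain ⟨s₀, s₁, hs⟩ := exists_two_sections k h₁ hg₁ h0₁
  obtain ⟨M, hM, ⟨eM⟩, ⟨eM'⟩⟩ := Groth.Agent.Lib.helper12.InvDual.exists_inverse h₁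
  -- `G = D₂ ⊗ D₁⁻¹`
  set G := CohB1.tensorMod D₂ M with hGdef
  have hG : PicF.IsInvertible G := Groth.Agent.Lib.helper12.TensorInv.isInvertible_tensorMod h₂ hM
  let φ : CohB1.tensorMod G D₁ ≅ D₂ :=
    assoc D₂ M D₁ ≪≫ tensorIso (Iso.refl D₂) eM' ≪≫ rightUnitor D₂
  let ψ : CohB1.tensorMod (CohB1.tensorMod G D₁) D₁ ≅ CohB1.tensorMod D₁ D₂ :=
    tensorIso φ (Iso.refl D₁) ≪≫ braid D₂ D₁
  have hfin : ∀ (L : X.Modules), PicF.IsInvertible L → ∀ i, Module.Finite k (Coh.HH X L i) :=
    fun L hL i => Groth.Agent.Lib.Lead.ProperEuler.finite_HH k X _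
      (Groth.Agent.Lib.Lead.CurveInv.isCoh_of_isInvertible X hL) i
  have hGD : PicF.IsInvertible (CohB1.tensorMod G D₁) :=
    Groth.Agent.Lib.helper12.TensorInv.isInvertible_tensorMod hG h₁
  have hGDD : PicF.IsInvertible (CohB1.tensorMod (CohB1.tensorMod G D₁) D₁) :=
    Groth.Agent.Lib.helper12.TensorInv.isInvertible_tensorMod hGD h₁
  have h12 : PicF.IsInvertible (CohB1.tensorMod D₁ D₂) :=
    Groth.Agent.Lib.helper12.TensorInv.isInvertible_tensorMod h₁ h₂
  -- degree of `G` is zero
  have hdG : Curv2.deg k X G 1 = 0 := by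
    have e1 := Groth.Agent.Lib.helper9.CurveDegAdd.deg_tensorMod k X hdim' hG h₁
    rw [deg_eq_of_iso k X φ 1, hd₂, hd₁] at e1
    linarith
  -- `H⁰(G) = 0`
  have h0G : finrank k (Coh.HH X G 0) = 0 := by
    by_contra hcon
    haveI := hfin G hG 0
    have hnt : Nontrivial (Coh.HH X G 0) :=
      Module.nontrivial_of_finrank_pos (R := k) (Nat.pos_of_ne_zero hcon)
    obtain ⟨y, hy⟩ := exists_ne (0 : Coh.HH X G 0)
    have ht : secHom G y ≠ 0 := fun h => hy ((secHom_eq_zero_iff G y).mp h)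
    have hχ : Curv2.euler k X G ≤ Curv2.euler k X (Coh.structureModule X) := by
      unfold Curv2.deg at hdG
      push_cast at hdG
      linarith
    haveI : IsIso (secHom G y) :=
      Groth.Agent.Lib.Helper18.TwoSec.isIso_of_euler_le k X hdim'
        (Groth.Agent.Lib.Lead.CurveInv.isCoh_of_isInvertible X hG) hG (𝟙 G) (secHom G y) ht hχ
    exact hne.false
      ((leftUnitor D₁).symm ≪≫ tensorIso (asIso (secHom G y)) (Iso.refl D₁) ≪≫ φ)
  -- pencil trick
  have hpen : 2 * finrank k (Coh.HH X (CohB1.tensorMod G D₁) 0) ≤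
      finrank k (Coh.HH X G 0) +
        finrank k (Coh.HH X (CohB1.tensorMod (CohB1.tensorMod G D₁) D₁) 0) := by
    haveI := hfin G hG 0
    haveI := hfin _ hGD 0
    haveI := hfin _ hGDD 0
    exact two_mul_finrank_le k s₀ s₁ hs G 0
  have e1 : finrank k (Coh.HH X (CohB1.tensorMod G D₁) 0) = 2 := by
    rw [← h0₂]
    exact LinearEquiv.finrank_eq (HH.isoEquivOver k φ 0)
  have e2 : finrank k (Coh.HH X (CohB1.tensorMod (CohB1.tensorMod G D₁) D₁) 0) =
      finrank k (Coh.HH X (CohB1.tensorMod D₁ D₂) 0) :=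
    LinearEquiv.finrank_eq (HH.isoEquivOver k ψ 0)
  rw [e1, e2, h0G] at hpen
  -- Riemann–Roch and the Clifford index
  have hd12 : Curv2.deg k X (CohB1.tensorMod D₁ D₂) 1 = 10 := by
    rw [Groth.Agent.Lib.helper9.CurveDegAdd.deg_tensorMod k X hdim' h₁ h₂, hd₁, hd₂]; norm_num
  have hrr := Groth.Agent.Lib.Lead.CurveEuler.riemann_roch' k X hdim' hO (CohB1.tensorMod D₁ D₂)
      (Groth.Agent.Lib.Lead.CurveInv.isCoh_of_isInvertible X h12).1 1
  rw [hg, hd12] at hrr
  push_cast at hrr
  have c := hmin _ h12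
  rw [hd12] at c
  set a := finrank k (Coh.HH X (CohB1.tensorMod D₁ D₂) 0) with ha
  set a1 := finrank k (Coh.HH X (CohB1.tensorMod D₁ D₂) 1) with ha1
  have := c (by omega) (by omega)
  omega

end Groth.Agent.S16322
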