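import Groth.Statements.S16324
import Mathlib
import Groth.Agent.Lib.Helper19.GrSG6
import Groth.Agent.Lib.Helper19.GrReg8
import Groth.Agent.S16323
import Groth.Agent.S0318

set_option autoImplicit false
universe u
open GrSyz

namespace Groth.Agent.S16324

-- MARK
open GrLC MvPolynomial Groth.Agent.Lib.helper19.GrMod Groth.Agent.Lib.helper19.GrLes
  Groth.Agent.Lib.helper19.GrConv Groth.Agent.Lib.helper19.GrPoly Groth.Agent.Lib.helper19.GrFin
  Groth.Agent.Lib.helper19.GrSG Groth.Agent.Lib.helper19.GrReg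



/-- Let k be an algebraically closed field of characteristic zero, S = k[x_0, …, x_n] graded by degree,
𝔪 = (x_0, …, x_n), and M a finitely generated ℤ-graded S-module which is Cohen–Macaulay: the Krull
dimension of its support equals its 𝔪-depth. Let F be a minimal graded free resolution of M of
length exactly ℓ (F_ℓ ≠ 0, F_i = 0 for i > ℓ; so ℓ = pd M) and let ρ be its regularity: every basis
vector of F_i has degree at most ρ + i, with equality for some i and some basis vector (so ρ = reg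
M). Let P be the Hilbert polynomial of M, i.e. a polynomial over ℚ with dim_k M_d = P(d) for all
sufficiently large d. Then dim_k M_d ≠ P(d) for d = ρ + ℓ − n − 1: the bound d ≥ reg M + pd M − n
beyond which the Hilbert function agrees with the Hilbert polynomial is sharp for Cohen–Macaulay
modules. (Part (1) of the published statement, the agreement for d ≥ reg M + pd M − n, follows from
the agreement for d at least the largest generator degree minus n and is not restated.) -/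
theorem result (k : Type u) [Field k] [IsAlgClosed k] [CharZero k] (n : ℕ)
    (M : Type u) [AddCommGroup M] [Module k M] [Module (MvPolynomial (Fin (n + 1)) k) M]
    [IsScalarTower k (MvPolynomial (Fin (n + 1)) k) M] [Module.Finite (MvPolynomial (Fin (n + 1)) k) M]
    (ℳ : ℤ → Submodule k M) [DirectSum.Decomposition ℳ] [SetLike.GradedSMul (GrSyz.stdGr k (Fin (n + 1))) ℳ]
    (hCM : Module.supportDim (MvPolynomial (Fin (n + 1)) k) M = ((LocCoh.idealDepth (GrSyz.irrel (GrSyz.stdGr k (Fin (n + 1)))).toIdeal M : ℕ∞) : WithBot ℕ∞))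
    (F : GrSyz.FreeRes (GrSyz.stdGr k (Fin (n + 1))) ℳ) (hF : F.IsMinimal (GrSyz.irrel (GrSyz.stdGr k (Fin (n + 1)))).toIdeal)
    (ℓ : ℕ) (hℓ : F.HasLengthLE ℓ) (hℓ' : F.rk ℓ ≠ 0)
    (ρ : ℤ) (hρ : F.IsGenLE ρ) (hρ' : ∃ (i : ℕ) (b : Fin (F.rk i)), F.deg i b = ρ + i)
    (P : Polynomial ℚ) (hP : ∃ d₁ : ℤ, ∀ d : ℤ, d₁ ≤ d → ((Module.finrank k ↥(ℳ d) : ℤ) : ℚ) = P.eval (d : ℚ)) :
    ((Module.finrank k ↥(ℳ (ρ + ℓ - n - 1)) : ℤ) : ℚ) ≠ P.eval ((ρ + ℓ - n - 1 : ℤ) : ℚ) := by
  classical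
  have hAB := Groth.Agent.S16323.result k n M ℳ F hF ℓ hℓ hℓ'
  obtain ⟨δ, hδ⟩ : ∃ δ : ℕ, LocCoh.idealDepth (GrSyz.irrel (GrSyz.stdGr k (Fin (n + 1)))).toIdeal M = δ := by
    have hne : LocCoh.idealDepth (GrSyz.irrel (GrSyz.stdGr k (Fin (n + 1)))).toIdeal M ≠ ⊤ := by
      intro h
      rw [h, add_top] at hAB
      exact absurd hAB (ENat.top_ne_natCast _)
    obtain ⟨δ, hδ⟩ := ENat.ne_top_iff_exists.1 hne
    exact ⟨δ, hδ.symm⟩
  have hℓδ : ℓ + δ = n + 1 := by
    rw [hδ] at hAB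
    exact_mod_cast hAB
  have hδ' : LocCoh.idealDepth (mm k (n + 1)).toIdeal M = δ := hδ
  obtain ⟨E⟩ := Groth.Agent.S13215.result (MvPolynomial (Fin (n + 1)) k) (gr k (n + 1)) M (addGr ℳ)
  have hsub : ∀ i : ℕ, i ≠ δ → Subsingleton (E.H (mm k (n + 1)) i) := by
    intro i hi
    obtain ⟨e⟩ := Groth.Agent.S13224.result (MvPolynomial (Fin (n + 1)) k) (gr k (n + 1)) (mm k (n + 1))
      M (addGr ℳ) E i
    rcases lt_or_gt_of_ne hi with h | h
    · have h1 : Subsingleton (LocCoh.H (mm k (n + 1)).toIdeal i M) :=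
        Groth.Agent.S0318.H_vanish_below (mm k (n + 1)).toIdeal M i (by rw [hδ']; exact_mod_cast h)
      exact e.toEquiv.subsingleton
    · have h0 : Module.supportDim (MvPolynomial (Fin (n + 1)) k) M < (i : WithBot ℕ∞) := by
        rw [hCM, hδ]
        exact_mod_cast h
      have h1 : Subsingleton (LocCoh.H (mm k (n + 1)).toIdeal i M) :=
        Groth.Agent.Lib.helper19.LCGroth.vanish (mm k (n + 1)).toIdeal M i h0
      exact e.toEquiv.subsingleton
  have hbot : ∀ i : ℕ, i ≠ δ → ∀ g : ℤ, E.Hgr (mm k (n + 1)) i g = ⊥ := by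
    intro i hi g
    haveI := hsub i hi
    exact eq_bot_of_subsingleton E (mm k (n + 1)) i g
  have hform := formula_poly k (n + 1) M ℳ E P hP
  have hchi : ∀ g : ℤ, chi (gr k (n + 1)) (mm k (n + 1)) E (n + 1) g =
      (-1 : ℚ) ^ δ * (len (deg0 (gr k (n + 1))) ↥(E.Hcomp (mm k (n + 1)) δ g) : ℚ) := by
    intro g
    unfold chi
    rw [Finset.sum_eq_single δ]
    · intro i _ hi
      rw [len_Hcomp_eq_zero _ (Hcomp_eq_bot_of_Hgr _ (hbot i hi g))]
      simp
    · intro h
      exact absurd (Finset.mem_range.2 (by omega)) h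
  have hreg1 : LCReg (mm k (n + 1)) (addGr ℳ) ρ :=
    (Groth.Agent.S15417.isGenLE_iff_lcreg_poly k (n + 1) M ℳ F hF ρ).1 hρ
  have hreg2 : ¬ LCReg (mm k (n + 1)) (addGr ℳ) (ρ - 1) := by
    intro h
    have h1 := (Groth.Agent.S15417.isGenLE_iff_lcreg_poly k (n + 1) M ℳ F hF (ρ - 1)).2 h
    obtain ⟨i, b, hb⟩ := hρ'
    have := h1 i b
    omega
  unfold LCReg at hreg2
  push Not at hreg2
  obtain ⟨E', j, g, hg, hne⟩ := hreg2
  have hne' : E.Hgr (mm k (n + 1)) j g ≠ ⊥ :=
    fun h => hne ((Hgr_indep E E' (mm k (n + 1)) j g).1 h)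
  have hj : j = δ := by
    by_contra hj
    exact hne' (hbot j hj g)
  subst hj
  have hg2 : g ≤ ρ - j := by
    by_contra hcon
    exact hne' (hreg1 E j g (by omega))
  have hd : ρ + ℓ - n - 1 = g := by omega
  rw [hd]
  intro heq
  have h1 := hform g
  rw [heq, sub_self, hchi g] at h1
  have hlen : len (deg0 (gr k (n + 1))) ↥(E.Hcomp (mm k (n + 1)) j g) ≠ 0 := by
    intro h0
    have hfl := (good_of_starLocal (gr k (n + 1)) (gr_neg k (n + 1)) (mm k (n + 1))
      (isStarLocal_poly k (n + 1)) (n + 1) (ringKrullDim_poly k (n + 1))).fin M (addGr ℳ) E j g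
    unfold len at h0
    rw [ENat.toNat_eq_zero] at h0
    rcases h0 with h0 | h0
    · rw [Module.length_eq_zero_iff] at h0
      apply hne'
      rw [eq_bot_iff]
      intro x hx
      have : (⟨x, hx⟩ : ↥(E.Hcomp (mm k (n + 1)) j g)) = 0 := Subsingleton.elim _ _
      rw [AddSubgroup.mem_bot]
      exact congrArg Subtype.val this
    · exact absurd h0 (Module.length_ne_top_iff.2 hfl)
  have h2 : ((-1 : ℚ) ^ j * (len (deg0 (gr k (n + 1))) ↥(E.Hcomp (mm k (n + 1)) j g) : ℚ)) ≠ 0 := by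
    apply mul_ne_zero
    · exact pow_ne_zero _ (by norm_num)
    · exact_mod_cast hlen
  exact h2 h1.symm

end Groth.Agent.S16324
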