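import Groth.Statements.S16325
import Mathlib
import Groth.Agent.Lib.Helper18.ModHomology

set_option autoImplicit false
universe u v
open CategoryTheory
open W4c3biextchow

namespace Groth.Agent.S16325

open W4c3biextchow

/-- Let f : C ⟶ D be a chain map of ℕ-indexed chain complexes of modules over a ring R, and consider the
functor it induces between the groupoids attached to C and D (objects: degree-0 elements; morphisms
a ⟶ b: degree-1 elements with boundary b - a, modulo boundaries of degree-2 elements). This functor
is faithful if and only if f is injective on homology in degree 1. (The published statement is for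
complexes of abelian groups; this row allows modules over any ring R.) -/
theorem result
    (R : Type u) [Ring R] (C D : ChainComplex (ModuleCat.{v} R) ℕ) (f : C ⟶ D) :
    (W4c3biextchow.cxFunctor f).Faithful ↔ Mono (HomologicalComplex.homologyMap f 1) := by
  rw [Groth.Agent.Lib.helper18.mono_homologyMap_iff_elementwise f 2 1 0 (by simp) (by simp)]
  constructor
  · intro hF x hx y hxy
    let a : Obj C := ⟨0⟩
    let φ : a ⟶ a := ⟨Submodule.Quotient.mk x, by rw [delta_mk, hx, sub_self]⟩
    have h1 : (cxFunctor f).map φ = (cxFunctor f).map (𝟙 a) := by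
      apply Hom.ext
      rw [cxFunctor_map_cl, cxFunctor_map_cl, id_cl, map_zero]
      change q1Map f (Submodule.Quotient.mk x) = 0
      rw [q1Map_mk, Submodule.Quotient.mk_eq_zero]
      exact ⟨y, hxy.symm⟩
    have h2 : φ = 𝟙 a := hF.map_injective h1
    have h3 : (φ : Hom C a a).cl = 0 := by rw [h2]; rfl
    have h4 : x ∈ LinearMap.range (C.d 2 1).hom := (Submodule.Quotient.mk_eq_zero _).mp h3
    obtain ⟨x₁, hx₁⟩ := h4
    exact ⟨x₁, hx₁.symm⟩
  · intro H
    constructor
    intro a b φ ψ h
    apply Hom.ext
    have h1 : q1Map f ((φ : Hom C a b).cl - (ψ : Hom C a b).cl) = 0 := by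
      have := congrArg Hom.cl h
      rw [cxFunctor_map_cl, cxFunctor_map_cl] at this
      rw [map_sub, this, sub_self]
    have h2 : delta C ((φ : Hom C a b).cl - (ψ : Hom C a b).cl) = 0 := by
      rw [map_sub, Hom.delta_cl, Hom.delta_cl, sub_self]
    obtain ⟨x, hx⟩ := Submodule.Quotient.mk_surjective _ ((φ : Hom C a b).cl - (ψ : Hom C a b).cl)
    rw [← hx, q1Map_mk, Submodule.Quotient.mk_eq_zero] at h1
    rw [← hx, delta_mk] at h2
    obtain ⟨y, hy⟩ := h1
    obtain ⟨x₁, hx₁⟩ := H x h2 y hy.symm
    have h3 : (Submodule.Quotient.mk x : Q1 C) = 0 :=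
      (Submodule.Quotient.mk_eq_zero _).mpr ⟨x₁, hx₁.symm⟩
    rw [hx] at h3
    exact sub_eq_zero.mp h3

end Groth.Agent.S16325
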