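import Groth.Statements.S16326
import Mathlib
import Groth.Agent.Lib.Helper18.ModHomology

set_option autoImplicit false
universe u v
open CategoryTheory
open W4c3biextchow

namespace Groth.Agent.S16326

open W4c3biextchow

/-- Let f : C ⟶ D be a chain map of ℕ-indexed chain complexes of modules over a ring R, and consider the
functor it induces between the groupoids attached to C and D (objects: degree-0 elements; morphisms
a ⟶ b: degree-1 elements with boundary b - a, modulo boundaries of degree-2 elements). This functor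
is full if and only if f is surjective on homology in degree 1 and injective on homology in degree
0. (The published statement is for complexes of abelian groups; this row allows modules over any
ring R.) -/
theorem result
    (R : Type u) [Ring R] (C D : ChainComplex (ModuleCat.{v} R) ℕ) (f : C ⟶ D) :
    (W4c3biextchow.cxFunctor f).Full ↔
      Epi (HomologicalComplex.homologyMap f 1) ∧ Mono (HomologicalComplex.homologyMap f 0) := by
  rw [Groth.Agent.Lib.helper18.epi_homologyMap_iff_elementwise f 2 1 0 (by simp) (by simp),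
    Groth.Agent.Lib.helper18.mono_homologyMap_iff_elementwise f 1 0 0 (by simp) (by simp)]
  have hC : C.d 0 0 = 0 := C.shape 0 0 (by simp)
  have hcomm : ∀ x : C.X 1, (D.d 1 0).hom ((f.f 1).hom x) = (f.f 0).hom ((C.d 1 0).hom x) := by
    intro x
    have h := congrArg (fun φ => φ.hom x) (f.comm 1 0)
    simpa only [ModuleCat.hom_comp, LinearMap.comp_apply] using h
  constructor
  · intro hF
    refine ⟨?_, ?_⟩
    · intro y hy
      let a : Obj C := ⟨0⟩
      let ψ : (cxFunctor f).obj a ⟶ (cxFunctor f).obj a :=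
        ⟨Submodule.Quotient.mk y, by rw [delta_mk, hy, sub_self]⟩
      obtain ⟨φ, hφ⟩ := hF.map_surjective ψ
      obtain ⟨x, hx⟩ := Submodule.Quotient.mk_surjective _ (φ : Hom C a a).cl
      have h1 := (φ : Hom C a a).delta_cl
      rw [← hx, delta_mk, sub_self] at h1
      have h2 := congrArg Hom.cl hφ
      rw [cxFunctor_map_cl, ← hx, q1Map_mk] at h2
      change _ = (Submodule.Quotient.mk y : Q1 D) at h2
      have h3 : y - (f.f 1).hom x ∈ LinearMap.range (D.d 2 1).hom := by
        rw [← Submodule.Quotient.mk_eq_zero, Submodule.Quotient.mk_sub, h2, sub_self]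
      obtain ⟨y₁, hy₁⟩ := h3
      refine ⟨x, h1, y₁, ?_⟩
      rw [hy₁]; abel
    · intro x _ y hxy
      let a : Obj C := ⟨0⟩
      let b : Obj C := ⟨x⟩
      let ψ : (cxFunctor f).obj a ⟶ (cxFunctor f).obj b :=
        ⟨Submodule.Quotient.mk y, by
          rw [delta_mk, ← hxy]
          change (f.f 0).hom x = (f.f 0).hom x - (f.f 0).hom 0
          rw [map_zero, sub_zero]⟩
      obtain ⟨φ, -⟩ := hF.map_surjective ψ
      obtain ⟨x₁, hx₁⟩ := Submodule.Quotient.mk_surjective _ (φ : Hom C a b).cl
      have h1 := (φ : Hom C a b).delta_cl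
      rw [← hx₁, delta_mk] at h1
      refine ⟨x₁, ?_⟩
      rw [h1]
      change x = x - 0
      rw [sub_zero]
  · rintro ⟨hE, hM⟩
    constructor
    intro a b ψ
    obtain ⟨y', hy'⟩ := Submodule.Quotient.mk_surjective _ (ψ : Hom D _ _).cl
    have h1 := (ψ : Hom D _ _).delta_cl
    rw [← hy', delta_mk] at h1
    have h1' : (D.d 1 0).hom y' = (f.f 0).hom (b.pt - a.pt) := by
      rw [h1, map_sub]; rfl
    obtain ⟨x₁, hx₁⟩ := hM (b.pt - a.pt) (by rw [hC]; rfl) y' h1'.symm
    have h2 : (D.d 1 0).hom (y' - (f.f 1).hom x₁) = 0 := by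
      rw [map_sub, hcomm, ← hx₁, h1', sub_self]
    obtain ⟨x, hx, y₁, hy₁⟩ := hE _ h2
    refine ⟨⟨Submodule.Quotient.mk (x₁ + x), ?_⟩, ?_⟩
    · rw [delta_mk, map_add, hx, add_zero, ← hx₁]
    · apply Hom.ext
      rw [cxFunctor_map_cl]
      change q1Map f (Submodule.Quotient.mk (x₁ + x)) = (ψ : Hom D _ _).cl
      rw [q1Map_mk, ← hy', eq_comm, ← sub_eq_zero, ← Submodule.Quotient.mk_sub,
        Submodule.Quotient.mk_eq_zero]
      refine ⟨y₁, ?_⟩
      rw [map_add]
      have : y' = (f.f 1).hom x₁ + ((f.f 1).hom x + (D.d 2 1).hom y₁) := by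
        rw [← hy₁]; abel
      rw [this]; abel

end Groth.Agent.S16326
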