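import Groth.Statements.S16327
import Mathlib
import Groth.Agent.Lib.Helper18.ModHomology

set_option autoImplicit false
universe u v
open CategoryTheory
open W4c3biextchow

namespace Groth.Agent.S16327

open W4c3biextchow

/-- every morphism of the groupoid is invertible -/
def isoOfHom {R : Type u} [Ring R] {C : ChainComplex (ModuleCat.{v} R) ℕ} {a b : Obj C}
    (φ : a ⟶ b) : a ≅ b where
  hom := φ
  inv := ⟨-(φ : Hom C a b).cl, by rw [map_neg, Hom.delta_cl]; abel⟩
  hom_inv_id := Hom.ext (by simp)
  inv_hom_id := Hom.ext (by simp)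

/-- Let f : C ⟶ D be a chain map of ℕ-indexed chain complexes of modules over a ring R, and consider the
functor it induces between the groupoids attached to C and D (objects: degree-0 elements; morphisms
a ⟶ b: degree-1 elements with boundary b - a, modulo boundaries of degree-2 elements). This functor
is essentially surjective if and only if f is surjective on homology in degree 0. (The published
statement is for complexes of abelian groups; this row allows modules over any ring R.) -/
theorem result
    (R : Type u) [Ring R] (C D : ChainComplex (ModuleCat.{v} R) ℕ) (f : C ⟶ D) :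
    (W4c3biextchow.cxFunctor f).EssSurj ↔ Epi (HomologicalComplex.homologyMap f 0) := by
  rw [Groth.Agent.Lib.helper18.epi_homologyMap_iff_elementwise f 1 0 0 (by simp) (by simp)]
  have hC : C.d 0 0 = 0 := C.shape 0 0 (by simp)
  have hD : D.d 0 0 = 0 := D.shape 0 0 (by simp)
  constructor
  · intro hF y _
    obtain ⟨a, ⟨e⟩⟩ := hF.mem_essImage (⟨y⟩ : Obj D)
    obtain ⟨y₁, hy₁⟩ := Submodule.Quotient.mk_surjective _ (e.hom : Hom D _ _).cl
    have h1 := (e.hom : Hom D _ _).delta_cl
    rw [← hy₁, delta_mk] at h1
    refine ⟨a.pt, by rw [hC]; rfl, y₁, ?_⟩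
    rw [h1]
    change y = (f.f 0).hom a.pt + (y - (f.f 0).hom a.pt)
    abel
  · intro H
    constructor
    intro b
    obtain ⟨x, _, y₁, hy₁⟩ := H b.pt (by rw [hD]; rfl)
    refine ⟨⟨x⟩, ⟨isoOfHom ⟨Submodule.Quotient.mk y₁, ?_⟩⟩⟩
    rw [delta_mk]
    change (D.d 1 0).hom y₁ = b.pt - (f.f 0).hom x
    rw [hy₁]
    abel

end Groth.Agent.S16327
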