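import Groth.Statements.S16328
import Mathlib
import Groth.Agent.Lib.Helper25.FreeCx

set_option autoImplicit false
universe v
open CategoryTheory
open W4c3biextchow

namespace Groth.Agent.S16328

/-- Let f : A' ⟶ A and p : A ⟶ A'' be chain maps of ℕ-indexed chain complexes of free abelian groups
forming a short exact sequence in every degree (f injective, p surjective, image of f equal to the
kernel of p), and assume f is a quasi-isomorphism. Then there is a chain map h : A'' ⟶ A such that
in every degree q the map (a'', a') ↦ h(a'') + f(a') is a bijection from A''_q × A'_q onto A_q, so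
that A is the direct sum of the subcomplexes f(A') and h(A''). (The source allows complexes indexed
by all integers; stated here for complexes in non-negative degrees.) -/
theorem result
    (A' A A'' : ChainComplex (ModuleCat.{v} ℤ) ℕ) (f : A' ⟶ A) (p : A ⟶ A'')
    [∀ q, Module.Free ℤ (A'.X q)] [∀ q, Module.Free ℤ (A.X q)] [∀ q, Module.Free ℤ (A''.X q)]
    (hf : ∀ q, Function.Injective (f.f q).hom) (hp : ∀ q, Function.Surjective (p.f q).hom)
    (hfp : ∀ q, Function.Exact (f.f q).hom (p.f q).hom) [QuasiIso f] :
    ∃ h : A'' ⟶ A, ∀ q : ℕ,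
      Function.Bijective (fun x : A''.X q × A'.X q => (h.f q).hom x.1 + (f.f q).hom x.2) := by
  have hzero : f ≫ p = 0 := by
    ext q x
    exact (hfp q).apply_apply_eq_zero x
  let S : ShortComplex (ChainComplex (ModuleCat.{v} ℤ) ℕ) := ShortComplex.mk f p hzero
  have hS : S.ShortExact :=
    HomologicalComplex.shortExact_of_degreewise_shortExact S
      (fun i => ModuleCat.shortComplex_shortExact _ (hfp i) (hf i) (hp i))
  have hproj : ∀ q, Projective (S.X₃.X q) := fun q => by
    change Projective (A''.X q)
    infer_instance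
  have : QuasiIso S.f := ‹QuasiIso f›
  obtain ⟨h, hh⟩ := Groth.Agent.Lib.helper25.FreeCx.exists_section S hS
  have hh' : ∀ q (x : A''.X q), (p.f q).hom ((h.f q).hom x) = x := fun q x => by
    have h0 : h.f q ≫ p.f q = 𝟙 (A''.X q) := HomologicalComplex.congr_hom hh q
    have := congrArg (fun φ : A''.X q ⟶ A''.X q => φ.hom x) h0
    simpa using this
  have hpf : ∀ q (x : A'.X q), (p.f q).hom ((f.f q).hom x) = 0 := fun q x =>
    (hfp q).apply_apply_eq_zero x
  refine ⟨h, fun q => ⟨?_, ?_⟩⟩
  · rintro ⟨a, a'⟩ ⟨b, b'⟩ hab
    simp only at hab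
    have h1 := congrArg (p.f q).hom hab
    simp only [map_add, hh', hpf, add_zero] at h1
    subst h1
    have h2 : (f.f q).hom a' = (f.f q).hom b' := add_left_cancel hab
    rw [hf q h2]
  · intro a
    have hk : (p.f q).hom (a - (h.f q).hom ((p.f q).hom a)) = 0 := by
      simp only [map_sub, hh', sub_self]
    obtain ⟨a', ha'⟩ := (hfp q _).1 hk
    exact ⟨((p.f q).hom a, a'), by simp only [ha']; abel⟩

end Groth.Agent.S16328
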