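import Groth.Statements.S16331
import Mathlib
import Groth.Agent.S16330

set_option autoImplicit false
universe v
open CategoryTheory
open W4c3biextchow

namespace Groth.Agent.S16331

/-- The natural isomorphism between the groupoid functors of two homotopic chain maps
(composed with a further chain map `h'`), with components `-[h'(H a)]`. -/
theorem natIso_of_homotopy
    {A A' B : ChainComplex (ModuleCat.{v} ℤ) ℕ} (g₁ g₂ : A ⟶ A') (h' : A' ⟶ B)
    (H : Homotopy g₁ g₂) :
    ∃ N : W4c3biextchow.cxFunctor (g₁ ≫ h') ≅ W4c3biextchow.cxFunctor (g₂ ≫ h'),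
      ∀ a : W4c3biextchow.Obj A,
        (N.hom.app a : W4c3biextchow.Hom B _ _).cl =
          Submodule.Quotient.mk (-(h'.f 1).hom ((H.hom 0 1).hom a.pt)) := by
  -- the homotopy relations in degrees 0 and 1, elementwise
  have e0 : ∀ x : A.X 0, (g₁.f 0).hom x =
      (A'.d 1 0).hom ((H.hom 0 1).hom x) + (g₂.f 0).hom x := fun x => by
    have := H.comm 0
    rw [Homotopy.dNext_zero_chainComplex, Homotopy.prevD_chainComplex, zero_add] at this
    have := congrArg (fun φ : A.X 0 ⟶ A'.X 0 => φ.hom x) this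
    simpa using this
  have e1 : ∀ u : A.X 1, (g₁.f 1).hom u =
      (H.hom 0 1).hom ((A.d 1 0).hom u) + (A'.d 2 1).hom ((H.hom 1 2).hom u) +
        (g₂.f 1).hom u := fun u => by
    have := H.comm 1
    rw [Homotopy.dNext_succ_chainComplex, Homotopy.prevD_chainComplex] at this
    have := congrArg (fun φ : A.X 1 ⟶ A'.X 1 => φ.hom u) this
    simpa using this
  have c10 : ∀ y : A'.X 1, (B.d 1 0).hom ((h'.f 1).hom y) = (h'.f 0).hom ((A'.d 1 0).hom y) :=
    fun y => by
      have := congrArg (fun φ : A'.X 1 ⟶ B.X 0 => φ.hom y) (h'.comm 1 0)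
      simpa only [ModuleCat.hom_comp, LinearMap.comp_apply] using this
  have c21 : ∀ y : A'.X 2, (B.d 2 1).hom ((h'.f 2).hom y) = (h'.f 1).hom ((A'.d 2 1).hom y) :=
    fun y => by
      have := congrArg (fun φ : A'.X 2 ⟶ B.X 1 => φ.hom y) (h'.comm 2 1)
      simpa only [ModuleCat.hom_comp, LinearMap.comp_apply] using this
  -- components
  let c : ∀ a : W4c3biextchow.Obj A, W4c3biextchow.Q1 B := fun a =>
    Submodule.Quotient.mk (-(h'.f 1).hom ((H.hom 0 1).hom a.pt))
  have hc : ∀ a : W4c3biextchow.Obj A, W4c3biextchow.delta B (c a) =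
      ((W4c3biextchow.cxFunctor (g₂ ≫ h')).obj a).pt -
        ((W4c3biextchow.cxFunctor (g₁ ≫ h')).obj a).pt := fun a => by
    simp only [c, W4c3biextchow.delta_mk, map_neg, c10, W4c3biextchow.cxFunctor_obj_pt,
      HomologicalComplex.comp_f, ModuleCat.hom_comp, LinearMap.comp_apply, e0 a.pt, map_add]
    abel
  have hc' : ∀ a : W4c3biextchow.Obj A, W4c3biextchow.delta B (-(c a)) =
      ((W4c3biextchow.cxFunctor (g₁ ≫ h')).obj a).pt -
        ((W4c3biextchow.cxFunctor (g₂ ≫ h')).obj a).pt := fun a => by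
    rw [map_neg, hc]; abel
  let N : W4c3biextchow.cxFunctor (g₁ ≫ h') ≅ W4c3biextchow.cxFunctor (g₂ ≫ h') :=
    NatIso.ofComponents
      (fun a =>
        { hom := (⟨c a, hc a⟩ : W4c3biextchow.Hom B _ _)
          inv := (⟨-(c a), hc' a⟩ : W4c3biextchow.Hom B _ _)
          hom_inv_id := W4c3biextchow.Hom.ext (add_neg_cancel _)
          inv_hom_id := W4c3biextchow.Hom.ext (neg_add_cancel _) })
      (by
        intro a b φ
        apply W4c3biextchow.Hom.ext
        obtain ⟨w, hw⟩ := φ
        induction w using Submodule.Quotient.induction_on with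
        | H u =>
          have hu : (A.d 1 0).hom u = b.pt - a.pt := by simpa using hw
          change W4c3biextchow.q1Map (g₁ ≫ h') (Submodule.Quotient.mk u) + c b =
            c a + W4c3biextchow.q1Map (g₂ ≫ h') (Submodule.Quotient.mk u)
          simp only [W4c3biextchow.q1Map_mk, c, HomologicalComplex.comp_f, ModuleCat.hom_comp,
            LinearMap.comp_apply]
          rw [← Submodule.Quotient.mk_add, ← Submodule.Quotient.mk_add,
            Submodule.Quotient.eq]
          refine ⟨(h'.f 2).hom ((H.hom 1 2).hom u), ?_⟩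
          rw [c21, e1 u, hu]
          simp only [map_add, map_sub]
          abel)
  exact ⟨N, fun a => rfl⟩

/-- Let f : A' ⟶ A be a chain map of ℕ-indexed chain complexes of free abelian groups which is injective
in every degree, with free degreewise quotients A_q / f(A'_q), and a quasi-isomorphism; let h' : A'
⟶ B be a chain map to another complex of free abelian groups and g₁, g₂ : A ⟶ A' two chain maps with
f ≫ g₁ = f ≫ g₂ = 𝟙. Consider the functors induced by g₁ ≫ h' and g₂ ≫ h' between the groupoids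
attached to A and B (objects: degree-0 elements; morphisms a ⟶ b: degree-1 elements with boundary b
- a, modulo boundaries of degree-2 elements). Then there is a natural isomorphism between these two
functors whose component at every object of the form f(a'), a' a degree-0 element of A', is the zero
class, i.e. the identity morphism of h'(a'). -/
theorem result
    (A' A B : ChainComplex (ModuleCat.{v} ℤ) ℕ) (f : A' ⟶ A) (h' : A' ⟶ B)
    [∀ q, Module.Free ℤ (A'.X q)] [∀ q, Module.Free ℤ (A.X q)] [∀ q, Module.Free ℤ (B.X q)]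
    (hf : ∀ q, Function.Injective (f.f q).hom)
    (hq : ∀ q, Module.Free ℤ ((A.X q) ⧸ LinearMap.range (f.f q).hom)) [QuasiIso f]
    (g₁ g₂ : A ⟶ A') (h₁ : f ≫ g₁ = 𝟙 A') (h₂ : f ≫ g₂ = 𝟙 A') :
    ∃ N : W4c3biextchow.cxFunctor (g₁ ≫ h') ≅ W4c3biextchow.cxFunctor (g₂ ≫ h'),
      ∀ a : W4c3biextchow.Obj A',
        (N.hom.app ((W4c3biextchow.cxFunctor f).obj a) : W4c3biextchow.Hom B _ _).cl = 0 := by
  obtain ⟨H, hH⟩ := Groth.Agent.S16330.result A' A f hf hq g₁ g₂ h₁ h₂
  obtain ⟨N, hN⟩ := natIso_of_homotopy g₁ g₂ h' H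
  refine ⟨N, fun a => ?_⟩
  rw [hN]
  have h0 : (H.hom 0 1).hom ((f.f 0).hom a.pt) = 0 := by
    have := congrArg (fun φ : A'.X 0 ⟶ A'.X 1 => φ.hom a.pt) (hH 0 1)
    simpa using this
  simp [h0]

end Groth.Agent.S16331
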