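import Groth.Statements.S16335
import Mathlib.RingTheory.Invariant.Defs
import Mathlib.RingTheory.TensorProduct.Basic
import Mathlib.Algebra.Algebra.Bilinear
import Mathlib.SetTheory.Cardinal.Finite
import Mathlib.Tactic.Ring

set_option autoImplicit false
universe u v w w'
open TensorProduct
open InvTh

namespace Groth.Agent.S16335

/-- Let `R` be a commutative ring with an action of a finite group `Γ` by ring automorphisms such that
the order of `Γ` is invertible in `R`, and let `A → R` be injective with image exactly the
invariants `R^Γ`, the action being `A`-linear. Then for every commutative `A`-algebra `S`, with `Γ`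
acting on `S ⊗_A R` through the factor `R`, the map `S → S ⊗_A R`, `s ↦ s ⊗ 1`, is injective and its
image is exactly the set of `Γ`-fixed elements: `S ≅ (S ⊗_A R)^Γ`. No flatness of `S` over `A` is
assumed; the invertibility of the order of `Γ` replaces it. This is the affine statement that for a
tame quotient the coarse space commutes with arbitrary base change. (The published lemma is the
statement that the coarse moduli space of a tame Deligne–Mumford stack commutes with arbitrary base
change, whose proof reduces to this ring statement. The published lemma also asserts the analogous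
statement for the reduced fibre product when the base-change scheme is reduced; that clause is not
part of this row.) -/
theorem result
    (A : Type u) [CommRing A] (R : Type v) [CommRing R] [Algebra A R]
    (Γ : Type w) [Group Γ] [Finite Γ] [MulSemiringAction Γ R] [SMulCommClass Γ A R]
    [Algebra.IsInvariant A R Γ] (hinj : Function.Injective (algebraMap A R))
    (hΓ : IsUnit (Nat.card Γ : R))
    (S : Type w') [CommRing S] [Algebra A S] :
    Function.Injective (fun s : S => s ⊗ₜ[A] (1 : R)) ∧
      ∀ x : S ⊗[A] R,
        (∀ γ : Γ, Algebra.TensorProduct.map (AlgHom.id A S) (MulSemiringAction.toAlgHom A R γ) x = x) →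
          x ∈ Set.range (fun s : S => s ⊗ₜ[A] (1 : R)) := by
  classical
  have := Fintype.ofFinite Γ
  obtain ⟨u, hu⟩ := hΓ.exists_left_inv
  rw [Nat.card_eq_fintype_card] at hu
  -- u is Γ-fixed
  have hufix : ∀ γ : Γ, γ • u = u := by
    intro γ
    have hc : γ • (Fintype.card Γ : R) = (Fintype.card Γ : R) := by
      have hc := map_natCast (MulSemiringAction.toRingHom Γ R γ) (Fintype.card Γ)
      simpa only [MulSemiringAction.toRingHom_apply] using hc
    have h1 : γ • u * (Fintype.card Γ : R) = 1 := by
      have := congrArg (fun z => γ • z) hu
      simp only [smul_mul', smul_one, hc] at this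
      exact this
    calc γ • u = γ • u * (u * (Fintype.card Γ : R)) := by rw [hu, mul_one]
      _ = (γ • u * (Fintype.card Γ : R)) * u := by ring
      _ = u := by rw [h1, one_mul]
  let g : Γ → (R →ₗ[A] R) := fun γ => (MulSemiringAction.toAlgHom A R γ).toLinearMap
  let avgR : R →ₗ[A] R := (LinearMap.mulLeft A u) ∘ₗ ∑ γ : Γ, g γ
  have havg : ∀ r : R, avgR r = u * ∑ γ : Γ, γ • r := by
    intro r
    simp [avgR, g, Finset.mul_sum]
  have hfix : ∀ (r : R) (γ : Γ), γ • avgR r = avgR r := by
    intro r γ
    rw [havg, smul_mul', hufix, Finset.smul_sum]
    congr 1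
    simp only [smul_smul]
    exact Fintype.sum_equiv (Equiv.mulLeft γ) _ _ (fun g => rfl)
  have hrange : ∀ r : R, avgR r ∈ LinearMap.range (Algebra.linearMap A R) := by
    intro r
    obtain ⟨a, ha⟩ := Algebra.IsInvariant.isInvariant (A := A) (G := Γ) (avgR r) (hfix r)
    exact ⟨a, ha⟩
  let e := LinearEquiv.ofInjective (Algebra.linearMap A R) hinj
  let ρ : R →ₗ[A] A := e.symm.toLinearMap ∘ₗ avgR.codRestrict _ hrange
  have hρ : ∀ r : R, algebraMap A R (ρ r) = avgR r := by
    intro r
    have : e (ρ r) = avgR.codRestrict _ hrange r := by
      simp [ρ]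
    have h2 := congrArg Subtype.val this
    simpa [e] using h2
  have hρ1 : ρ 1 = 1 := by
    apply hinj
    rw [hρ, havg, map_one]
    simp only [smul_one, Finset.sum_const, Finset.card_univ, nsmul_eq_mul, mul_one]
    exact hu
  refine ⟨?_, ?_⟩
  · intro s s' hss
    have h3 := congrArg (fun x => TensorProduct.rid A S (ρ.lTensor S x)) hss
    simpa [hρ1] using h3
  · intro x hx
    -- T γ agrees with lTensor
    have hT : ∀ (γ : Γ) (y : S ⊗[A] R),
        Algebra.TensorProduct.map (AlgHom.id A S) (MulSemiringAction.toAlgHom A R γ) y =
          (g γ).lTensor S y := by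
      intro γ y
      induction y using TensorProduct.induction_on with
      | zero => simp
      | tmul s r => simp [g]
      | add a b ha hb => rw [map_add, map_add, ha, hb]
    have hsum : (∑ γ : Γ, g γ).lTensor S x = (Fintype.card Γ) • x := by
      have h4 : (∑ γ : Γ, g γ).lTensor S = ∑ γ : Γ, (g γ).lTensor S := by
        rw [← LinearMap.coe_lTensorHom (R := A) (M := S), map_sum]
      rw [h4, LinearMap.sum_apply]
      simp only [← hT, hx, Finset.sum_const, Finset.card_univ]
    have hmul : ∀ y : S ⊗[A] R,
        (LinearMap.mulLeft A u).lTensor S ((Fintype.card Γ : A) • y) = y := by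
      intro y
      induction y using TensorProduct.induction_on with
      | zero => simp
      | tmul s r =>
        rw [← TensorProduct.tmul_smul]
        simp only [LinearMap.lTensor_tmul, LinearMap.mulLeft_apply]
        congr 1
        rw [Algebra.smul_def, map_natCast, ← mul_assoc, hu, one_mul]
      | add a b ha hb => rw [smul_add, map_add, ha, hb]
    have hx' : avgR.lTensor S x = x := by
      simp only [avgR, LinearMap.lTensor_comp, LinearMap.comp_apply]
      rw [hsum, ← Nat.cast_smul_eq_nsmul A, hmul]
    have hfact : avgR = (Algebra.linearMap A R) ∘ₗ ρ := by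
      ext r
      simp [hρ]
    refine ⟨TensorProduct.rid A S (ρ.lTensor S x), ?_⟩
    change (TensorProduct.rid A S (ρ.lTensor S x)) ⊗ₜ[A] (1 : R) = x
    conv_rhs => rw [← hx', hfact, LinearMap.lTensor_comp, LinearMap.comp_apply]
    generalize ρ.lTensor S x = y
    induction y using TensorProduct.induction_on with
    | zero => simp
    | tmul s a =>
      simp only [TensorProduct.rid_tmul, LinearMap.lTensor_tmul, Algebra.linearMap_apply]
      rw [TensorProduct.smul_tmul, Algebra.smul_def, mul_one]
    | add a b ha hb => rw [map_add, TensorProduct.add_tmul, ha, hb, map_add]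

end Groth.Agent.S16335
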