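import Groth.Statements.S16336
import Mathlib.Algebra.Module.LinearMap.Basic
import Mathlib.Algebra.BigOperators.GroupWithZero.Action
import Mathlib.Data.Fintype.BigOperators
import Mathlib.SetTheory.Cardinal.Finite
import Mathlib.Algebra.Module.LinearMap.End
import Mathlib.Algebra.Module.Submodule.LinearMap

set_option autoImplicit false
universe u v w w'
open InvTh

namespace Groth.Agent.S16336

section avg
variable {A : Type*} [CommRing A] {Γ : Type*} [Group Γ] [Fintype Γ]
  {M : Type*} [AddCommGroup M] [Module A M] [DistribMulAction Γ M] [SMulCommClass Γ A M]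

/-- the averaging operator `m ↦ u • Σ γ • m`. -/
noncomputable def avg (u : A) : M →ₗ[A] M :=
  u • ∑ γ : Γ, DistribSMul.toLinearMap A M γ

theorem avg_apply (u : A) (m : M) : avg (Γ := Γ) u m = u • ∑ γ : Γ, γ • m := by
  simp [avg, LinearMap.sum_apply]

theorem smul_avg (u : A) (m : M) (γ : Γ) : γ • avg (Γ := Γ) u m = avg (Γ := Γ) u m := by
  rw [avg_apply, smul_comm γ u, Finset.smul_sum]
  congr 1
  simp only [smul_smul]
  exact Fintype.sum_equiv (Equiv.mulLeft γ) _ _ (fun g => rfl)

theorem avg_of_fixed (u : A) (hu : u * (Fintype.card Γ : A) = 1) (m : M) (hm : ∀ γ : Γ, γ • m = m) :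
    avg (Γ := Γ) u m = m := by
  rw [avg_apply]
  simp only [hm, Finset.sum_const, Finset.card_univ]
  rw [← Nat.cast_smul_eq_nsmul A, smul_smul, hu, one_smul]

end avg


/-- Let `A` be a commutative ring and `Γ` a finite group whose order is invertible in `A`; let `M`, `N`
be `A`-modules with `A`-linear actions of `Γ` and `f : M → N` an `A`-linear surjective map commuting
with the actions. Then `f` maps the `Γ`-fixed elements of `M` onto the `Γ`-fixed elements of `N`:
the functor of invariants is exact for such tame actions. (The published lemma concerns push-forward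
from a separated tame Deligne–Mumford stack to its coarse moduli scheme: it preserves quasi-coherent
and coherent sheaves and is exact; this row is the module statement its proof establishes for the
exactness. The coherence assertion is not part of this row.) -/
theorem result
    (A : Type u) [CommRing A] (Γ : Type v) [Group Γ] [Finite Γ] (hΓ : IsUnit (Nat.card Γ : A))
    (M : Type w) [AddCommGroup M] [Module A M] [DistribMulAction Γ M] [SMulCommClass Γ A M]
    (N : Type w') [AddCommGroup N] [Module A N] [DistribMulAction Γ N] [SMulCommClass Γ A N]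
    (f : M →ₗ[A] N) (hf : ∀ (γ : Γ) (m : M), f (γ • m) = γ • f m)
    (hsurj : Function.Surjective f) (n : N) (hn : ∀ γ : Γ, γ • n = n) :
    ∃ m : M, (∀ γ : Γ, γ • m = m) ∧ f m = n := by
  classical
  have := Fintype.ofFinite Γ
  obtain ⟨u, hu⟩ := hΓ.exists_left_inv
  rw [Nat.card_eq_fintype_card] at hu
  obtain ⟨m0, hm0⟩ := hsurj n
  refine ⟨avg (Γ := Γ) u m0, fun γ => smul_avg u m0 γ, ?_⟩
  rw [avg_apply, map_smul, map_sum]
  simp only [hf, hm0, hn, Finset.sum_const, Finset.card_univ]
  rw [← Nat.cast_smul_eq_nsmul A, smul_smul, hu, one_smul]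

end Groth.Agent.S16336
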