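import Groth.Statements.S16337
import Groth.Agent.S16336
import Mathlib.RingTheory.Ideal.Operations

set_option autoImplicit false
universe u v w
open InvTh

namespace Groth.Agent.S16337

open Groth.Agent.S16336


/-- Let `A` be a commutative ring, `Γ` a finite group whose order is invertible in `A`, `M` an
`A`-module with an `A`-linear action of `Γ`, and `I` an ideal of `A`. Then reduction modulo `I`
induces a bijection `M^Γ / I·M^Γ ≅ (M / IM)^Γ`: (a) an element of `M` fixed by `Γ` modulo `IM` is
congruent modulo `IM` to a `Γ`-fixed element, and (b) a `Γ`-fixed element lying in `IM` lies in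
`I·M^Γ`, where `M^Γ` is the submodule of `Γ`-fixed elements. (The published lemma says that
push-forward to the coarse space of a tame stack over a complete local base commutes with reduction
modulo powers of the maximal ideal; this row is the module statement its proof establishes, for an
arbitrary ideal.) -/
theorem result
    (A : Type u) [CommRing A] (Γ : Type v) [Group Γ] [Finite Γ] (hΓ : IsUnit (Nat.card Γ : A))
    (M : Type w) [AddCommGroup M] [Module A M] [DistribMulAction Γ M] [SMulCommClass Γ A M]
    (I : Ideal A) :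
    (∀ x : M, (∀ γ : Γ, γ • x - x ∈ I • (⊤ : Submodule A M)) →
        ∃ y : M, (∀ γ : Γ, γ • y = y) ∧ x - y ∈ I • (⊤ : Submodule A M)) ∧
      ∀ y : M, (∀ γ : Γ, γ • y = y) → y ∈ I • (⊤ : Submodule A M) →
        y ∈ I • Submodule.span A {m : M | ∀ γ : Γ, γ • m = m} := by
  classical
  have := Fintype.ofFinite Γ
  obtain ⟨u, hu⟩ := hΓ.exists_left_inv
  rw [Nat.card_eq_fintype_card] at hu
  refine ⟨fun x hx => ?_, fun y hy hyI => ?_⟩
  · refine ⟨avg (Γ := Γ) u x, fun γ => smul_avg u x γ, ?_⟩
    have h1 : x - avg (Γ := Γ) u x = -(u • ∑ γ : Γ, (γ • x - x)) := by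
      rw [avg_apply, Finset.sum_sub_distrib, Finset.sum_const, Finset.card_univ, smul_sub,
        ← Nat.cast_smul_eq_nsmul A, smul_smul, hu, one_smul]
      abel
    rw [h1]
    exact Submodule.neg_mem _ (Submodule.smul_mem _ _ (Submodule.sum_mem _ fun γ _ => hx γ))
  · have h2 : avg (Γ := Γ) u y = y := avg_of_fixed u hu y hy
    rw [← h2]
    have h3 : Submodule.map (avg (Γ := Γ) (M := M) u) (I • (⊤ : Submodule A M)) ≤
        I • Submodule.span A {m : M | ∀ γ : Γ, γ • m = m} := by
      rw [Submodule.map_smul'']
      refine Submodule.smul_mono le_rfl ?_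
      rintro _ ⟨m, -, rfl⟩
      exact Submodule.subset_span (fun γ => smul_avg u m γ)
    exact h3 ⟨y, hyI, rfl⟩

end Groth.Agent.S16337
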