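import Groth.Statements.S16340
import Groth.Agent.Lib.Lead.HilbPos5
-- import your own Groth.Agent.* helpers here

set_option autoImplicit false
set_option backward.isDefEq.respectTransparency false
open CategoryTheory CategoryTheory.Limits AlgebraicGeometry Polynomial
universe u
open ShStab

namespace Groth.Agent.S16340

/-- Let X be a scheme proper over a field k carrying an ample invertible sheaf L, Hilbert polynomials
being taken with respect to L, and let ι : E → E' be a monomorphism of coherent O_X-modules with
Hilbert polynomials P_E and P_E'. Then P_E(m) ≤ P_E'(m) for all large m; and if the cokernel of ι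
has support of topological Krull dimension less than d (for example, if the cokernel is zero), then
the multiplicities in dimension d agree: α_d(P_E) = α_d(P_E'), where α_d(P) is d! times the
coefficient of degree d. (The published statement is the case where E' is the saturation of E inside
a coherent sheaf of dimension d, over an algebraically closed field; the argument is unchanged for
any field.) -/
theorem result (k : Type u) [Field k] (X : Scheme.{u})
    [X.Over (Spec (CommRingCat.of k))] [IsProper (X ↘ Spec (CommRingCat.of k))]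
    (L : X.Modules) (hL : CohB1.IsAmple L) (d : ℕ) (E E' : X.Modules)
    (hE : Coh.IsCoh E) (hE' : Coh.IsCoh E') (ι : E ⟶ E') [Mono ι]
    (pE pE' : ℚ[X]) (hpE : ShStab.IsHilbPoly k X L E pE) (hpE' : ShStab.IsHilbPoly k X L E' pE') :
    StabCat.PolyLE pE pE' ∧
      (topologicalKrullDim (CohB1.support (cokernel ι)) < (d : WithBot ℕ∞) →
        StabCat.alpha d pE = StabCat.alpha d pE') := by
  haveI := Groth.Agent.Lib.Lead.CurveEuler.isNoetherian k X
  have hQc : Coh.IsCoh (cokernel ι) := Groth.Agent.Lib.helper7.CohKer.isCoh_cokernel hE hE' ι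
  have hS := Groth.Agent.Lib.helper8.Dev.shortExact_cokernel ι
  have hpQ : ShStab.IsHilbPoly k X L (cokernel ι) (pE' - pE) := by
    intro m
    have h := Groth.Agent.Lib.Lead.HilbPos.hilb_add k X hL.1 _ hS hE hQc m
    have h1 := hpE m
    have h2 := hpE' m
    rw [Polynomial.eval_sub, ← h1, ← h2]
    have h3 : (Groth.Agent.Lib.Lead.HilbPos.hilb k X L E' m : ℚ) =
        (Groth.Agent.Lib.Lead.HilbPos.hilb k X L E m : ℚ) +
        (Groth.Agent.Lib.Lead.HilbPos.hilb k X L (cokernel ι) m : ℚ) := by
      have : Groth.Agent.Lib.Lead.HilbPos.hilb k X L E' m =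
        Groth.Agent.Lib.Lead.HilbPos.hilb k X L E m +
        Groth.Agent.Lib.Lead.HilbPos.hilb k X L (cokernel ι) m := h
      rw [this]; push_cast; rfl
    have h4 : (Groth.Agent.Lib.Lead.HilbPos.hilb k X L (cokernel ι) m : ℚ) =
        (Groth.Agent.Lib.Lead.HilbPos.hilb k X L E' m : ℚ) -
        (Groth.Agent.Lib.Lead.HilbPos.hilb k X L E m : ℚ) := by
      rw [h3]; ring
    exact h4
  refine ⟨?_, fun hd => ?_⟩
  · obtain ⟨N, hN⟩ := Groth.Agent.Lib.Lead.HilbPos.evNonneg_of_isHilbPoly k X hL hQc hpQ
    refine ⟨N, fun m hm => ?_⟩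
    have := hN m hm
    rw [Polynomial.eval_sub] at this
    linarith
  · obtain ⟨P, hP, hP0⟩ := Groth.Agent.Lib.Lead.HilbPos.exists_isHilbPoly_lt k X hL.1 hQc d hd
    have hPe : pE' - pE = P := Groth.Agent.Lib.Lead.HilbPos.isHilbPoly_unique k X hpQ hP
    have hc : pE'.coeff d - pE.coeff d = 0 := by
      rw [← Polynomial.coeff_sub, hPe, hP0]
    unfold StabCat.alpha
    rw [sub_eq_zero] at hc
    rw [hc]

end Groth.Agent.S16340
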