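import Groth.Statements.S16344
import Groth.Agent.Lib.Helper10.CompactLim

set_option autoImplicit false
universe u v
open IdeleMod

namespace Groth.Agent.S16344

/-- Let (G_i) be an inverse system, indexed by a directed preorder, of compact Hausdorff topological
abelian groups with continuous surjective transition maps, let G be its limit (the group of
compatible families) and let m be a natural number. Then the canonical map G/mG → lim G_i/mG_i is
bijective: a compatible family that lies in mG_i at every index is m times a compatible family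
(injectivity), and every family that is compatible modulo m agrees modulo m, index by index, with a
compatible family (surjectivity). -/
theorem result
    {ι : Type u} [Preorder ι] [IsDirected ι (· ≤ ·)]
    (G : ι → Type v) [∀ i, AddCommGroup (G i)] [∀ i, TopologicalSpace (G i)]
    [∀ i, IsTopologicalAddGroup (G i)] [∀ i, CompactSpace (G i)] [∀ i, T2Space (G i)]
    (f : ∀ ⦃i j : ι⦄, i ≤ j → (G j →+ G i)) (hf : ∀ i j (h : i ≤ j), Continuous (f h))
    (hid : ∀ i (x : G i), f (le_refl i) x = x)
    (hcomp : ∀ i j k (hij : i ≤ j) (hjk : j ≤ k) (x : G k), f hij (f hjk x) = f (hij.trans hjk) x)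
    (hsurj : ∀ i j (h : i ≤ j), Function.Surjective (f h)) (m : ℕ) :
    (∀ x : ∀ i, G i, (∀ i j (h : i ≤ j), f h (x j) = x i) → (∀ i, ∃ y : G i, m • y = x i) →
        ∃ z : ∀ i, G i, (∀ i j (h : i ≤ j), f h (z j) = z i) ∧ ∀ i, m • z i = x i) ∧
    (∀ y : ∀ i, G i, (∀ i j (h : i ≤ j), ∃ w : G i, f h (y j) - y i = m • w) →
        ∃ x : ∀ i, G i, (∀ i j (h : i ≤ j), f h (x j) = x i) ∧ ∀ i, ∃ w : G i, x i - y i = m • w) := by
  classical
  constructor
  · intro x hx hdiv
    obtain ⟨z, hz1, hz2⟩ := Groth.Agent.Lib.helper10.CompactLim.exists_compatible G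
      (fun i j h => (f h : G j → G i)) hf hcomp (fun i => {y : G i | m • y = x i})
      (fun i => isClosed_eq (continuous_nsmul m) continuous_const)
      (fun i => hdiv i)
      (by
        intro i j h y hy
        simp only [Set.mem_setOf_eq] at hy ⊢
        rw [← map_nsmul, hy, hx])
    exact ⟨z, hz2, hz1⟩
  · intro y hy
    have hcont : ∀ i, Continuous (fun w : G i => y i + m • w) :=
      fun i => continuous_const.add (continuous_nsmul m)
    obtain ⟨x, hx1, hx2⟩ := Groth.Agent.Lib.helper10.CompactLim.exists_compatible G
      (fun i j h => (f h : G j → G i)) hf hcomp (fun i => Set.range (fun w : G i => y i + m • w))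
      (fun i => (isCompact_range (hcont i)).isClosed)
      (fun i => Set.range_nonempty _)
      (by
        rintro i j h _ ⟨w, rfl⟩
        obtain ⟨w', hw'⟩ := hy i j h
        refine ⟨w' + f h w, ?_⟩
        simp only
        rw [map_add, map_nsmul, smul_add, ← add_assoc, ← hw']
        abel)
    refine ⟨x, hx2, fun i => ?_⟩
    obtain ⟨w, hw⟩ := hx1 i
    refine ⟨w, ?_⟩
    rw [← hw]; simp

end Groth.Agent.S16344
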