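import Groth.Statements.S16346
import Mathlib

set_option autoImplicit false
universe u v
open KatoHom

namespace Groth.Agent.S16346



/-- Let P be a set of primes and I_P the set of positive integers all of whose prime factors lie in P.
Let A be an abelian group, (B_n)_{n ∈ I_P} an inverse system of abelian groups with transition maps
B_n → B_m for m ∣ n, and φ_n : A → B_n homomorphisms vanishing on nA and compatible with the
transition maps, so that they induce φ̂ : Â → B̂ on the limits Â = lim A/nA and B̂ = lim B_n (limits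
taken as compatible families). Suppose some N ∈ I_P kills the torsion subgroup of B̂ and kills the
kernel of φ̂ (the latter meaning: a compatible family of residues (a_n) with φ_n(a_n) = 0 for all n
has N a_n ∈ nA for all n). Then the subgroup ⋂_{n ∈ I_P} nA is ℓ-divisible for every ℓ ∈ P, and it
contains every subgroup of A that is ℓ-divisible for all ℓ ∈ P; that is, it is the largest
P-divisible subgroup of A. -/
theorem result
    {A : Type u} [AddCommGroup A] (P : Set ℕ) (hP : ∀ p ∈ P, p.Prime)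
    (IP : Set ℕ) (hIP : ∀ n, n ∈ IP ↔ 0 < n ∧ ∀ p : ℕ, p.Prime → p ∣ n → p ∈ P)
    (B : IP → Type v) [∀ n, AddCommGroup (B n)]
    (g : ∀ ⦃m n : IP⦄, (m : ℕ) ∣ (n : ℕ) → (B n →+ B m))
    (hgid : ∀ (n : IP) (b : B n), g (dvd_refl (n : ℕ)) b = b)
    (hgcomp : ∀ (k m n : IP) (hkm : (k : ℕ) ∣ (m : ℕ)) (hmn : (m : ℕ) ∣ (n : ℕ)) (b : B n),
      g hkm (g hmn b) = g (hkm.trans hmn) b)
    (φ : ∀ n : IP, A →+ B n) (hφ : ∀ (n : IP) (a : A), φ n ((n : ℕ) • a) = 0)
    (hφg : ∀ (m n : IP) (h : (m : ℕ) ∣ (n : ℕ)) (a : A), g h (φ n a) = φ m a)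
    (N : ℕ) (hN : N ∈ IP)
    (htor : ∀ b : ∀ n : IP, B n, (∀ (m n : IP) (h : (m : ℕ) ∣ (n : ℕ)), g h (b n) = b m) →
      (∃ k : ℕ, 0 < k ∧ ∀ n, k • b n = 0) → ∀ n, N • b n = 0)
    (hker : ∀ a : IP → A, (∀ m n : IP, (m : ℕ) ∣ (n : ℕ) → ∃ c : A, a n - a m = (m : ℕ) • c) →
      (∀ n, φ n (a n) = 0) → ∀ n : IP, ∃ c : A, N • a n = (n : ℕ) • c) :
    (∀ ℓ ∈ P, ∀ x : A, (∀ n ∈ IP, ∃ y : A, x = n • y) →
        ∃ y : A, (∀ n ∈ IP, ∃ z : A, y = n • z) ∧ ℓ • y = x) ∧
    (∀ H : AddSubgroup A, (∀ ℓ ∈ P, ∀ x ∈ H, ∃ y ∈ H, ℓ • y = x) →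
        ∀ x ∈ H, ∀ n ∈ IP, ∃ y : A, x = n • y) := by
  have hIPmul : ∀ a b, a ∈ IP → b ∈ IP → a * b ∈ IP := by
    intro a b ha hb
    rw [hIP] at ha hb ⊢
    refine ⟨Nat.mul_pos ha.1 hb.1, fun p hp hdvd => ?_⟩
    rcases (Nat.Prime.dvd_mul hp).mp hdvd with h | h
    · exact ha.2 p hp h
    · exact hb.2 p hp h
  have h1IP : 1 ∈ IP := by
    rw [hIP]
    refine ⟨one_pos, fun p hp h => ?_⟩
    have h1 := Nat.le_of_dvd one_pos h
    have h2 := hp.two_le
    omega
  have hPIP : ∀ ℓ ∈ P, ℓ ∈ IP := by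
    intro ℓ hℓ
    rw [hIP]
    refine ⟨(hP ℓ hℓ).pos, fun p hp hdvd => ?_⟩
    have h1 := (Nat.prime_dvd_prime_iff_eq hp (hP ℓ hℓ)).mp hdvd
    rw [h1]
    exact hℓ
  constructor
  · intro ℓ hℓ x hx
    have hk : ℓ * (N * N) ∈ IP := hIPmul _ _ (hPIP ℓ hℓ) (hIPmul _ _ hN hN)
    have hkpos : 0 < ℓ * (N * N) := ((hIP _).mp hk).1
    have hz : ∀ n : IP, ∃ z : A, x = (ℓ * (N * N) * (n : ℕ)) • z :=
      fun n => hx _ (hIPmul _ _ hk n.2)
    choose z hz using hz
    have hx1 : x = (ℓ * (N * N)) • z ⟨1, h1IP⟩ := by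
      have h1 := hz ⟨1, h1IP⟩
      simpa using h1
    have hb_tor : ∀ n : IP, (ℓ * (N * N)) • φ n (z ⟨1, h1IP⟩) = 0 := by
      intro n
      rw [← map_nsmul, ← hx1, hz n, mul_comm _ (n : ℕ), mul_smul]
      exact hφ n _
    have hNb : ∀ n : IP, N • φ n (z ⟨1, h1IP⟩) = 0 :=
      htor (fun n => φ n (z ⟨1, h1IP⟩)) (fun m n h => hφg m n h _) ⟨ℓ * (N * N), hkpos, hb_tor⟩
    have hy : ∀ n : IP, ∃ c : A, N • (N • z ⟨1, h1IP⟩) = (n : ℕ) • c :=
      hker (fun _ => N • z ⟨1, h1IP⟩) (fun m n _ => ⟨0, by simp⟩)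
        (fun n => by rw [map_nsmul]; exact hNb n)
    refine ⟨(N * N) • z ⟨1, h1IP⟩, ?_, ?_⟩
    · intro n hn
      obtain ⟨c, hc⟩ := hy ⟨n, hn⟩
      exact ⟨c, by rw [mul_smul]; exact hc⟩
    · rw [hx1, mul_smul ℓ (N * N)]
  · intro H hH
    have key : ∀ n : ℕ, n ∈ IP → ∀ x ∈ H, ∃ y ∈ H, x = n • y := by
      intro n
      induction n using Nat.strong_induction_on with
      | _ n ih =>
        intro hn x hx
        rcases Nat.lt_or_ge 1 n with h1 | h1
        · have hn' := (hIP n).mp hn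
          have hp : (n.minFac).Prime := Nat.minFac_prime (by omega)
          have hpP : n.minFac ∈ P := hn'.2 _ hp (Nat.minFac_dvd n)
          obtain ⟨m, hm⟩ := Nat.minFac_dvd n
          have hmpos : 0 < m := by
            rcases Nat.eq_zero_or_pos m with h0 | h0
            · rw [h0, mul_zero] at hm
              omega
            · exact h0
          have hmlt : m < n := by
            have h2 := hp.two_le
            nlinarith
          have hmIP : m ∈ IP := by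
            rw [hIP]
            refine ⟨hmpos, fun q hq hqm => hn'.2 q hq ?_⟩
            rw [hm]
            exact Dvd.dvd.mul_left hqm _
          obtain ⟨y₁, hy₁H, hy₁⟩ := hH _ hpP x hx
          obtain ⟨y₂, hy₂H, hy₂⟩ := ih m hmlt hmIP y₁ hy₁H
          refine ⟨y₂, hy₂H, ?_⟩
          rw [← hy₁, hy₂, ← mul_smul, ← hm]
        · have hn' := (hIP n).mp hn
          have h1' : n = 1 := by omega
          exact ⟨x, hx, by rw [h1', one_smul]⟩
    intro x hx n hn
    obtain ⟨y, _, hy⟩ := key n hn x hx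
    exact ⟨y, hy⟩


end Groth.Agent.S16346
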