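import Groth.Statements.S1635
import Groth.Agent.Lib.Lead.CurveSec
-- import your own Groth.Agent.* helpers here

set_option autoImplicit false
set_option backward.isDefEq.respectTransparency false
universe u
open CategoryTheory CategoryTheory.Limits AlgebraicGeometry
open Curves

namespace Groth.Agent.S1635

/-- Let X be a proper curve over k with global functions k and genus 0, and L an invertible module of
degree d > 0. Then H^0(X, L) has dimension d + 1 and H^1(X, L) = 0. -/
theorem result (k : Type u) [Field k] (X : Scheme.{u}) [X.Over (Spec (CommRingCat.of k))]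
    [IsIntegral X] [IsProper (X ↘ (Spec (CommRingCat.of k)))] (hdim : topologicalKrullDim X = 1)
    (h0 : Module.finrank k (Coh.HH X (Coh.structureModule X) 0) = 1) (hg : Curv2.genus k X = 0)
    (L : X.Modules) (hL : PicF.IsInvertible L) (d : ℕ) (hd : 0 < d) (hdeg : Curv2.deg k X L 1 = d) :
    Module.finrank k (Coh.HH X L 0) = d + 1 ∧ Subsingleton (Coh.HH X L 1) := by
  have hLc := Groth.Agent.Lib.Lead.CurveInv.isCoh_of_isInvertible X hL
  have hOc := Groth.Agent.Lib.Lead.CurveInv.isCoh_of_isInvertible X (Groth.Agent.Lib.helper11.InvMod.isInvertible_structureModule X)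
  have hrr := Groth.Agent.Lib.Lead.CurveEuler.riemann_roch' k X hdim.le h0 L hLc.1 1
  rw [hdeg, hg] at hrr
  have hnn : (0 : ℤ) ≤ (Module.finrank k (Coh.HH X L 1) : ℤ) := Int.natCast_nonneg _
  have hpos : 0 < Module.finrank k (Coh.HH X L 0) := by
    by_contra hcon
    have : Module.finrank k (Coh.HH X L 0) = 0 := by omega
    rw [this] at hrr
    simp at hrr
    omega
  obtain ⟨s, hs⟩ := Groth.Agent.Lib.Lead.CurveSec.exists_hom_ne_zero_of_finrank_pos k X L hpos
  have hfin := Groth.Agent.Lib.Lead.ProperEuler.finite_HH k X _ hOc 1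
  have hH1O : Subsingleton (Coh.HH X (Coh.structureModule X) 1) := by
    unfold Curv2.genus at hg
    exact Module.finrank_zero_iff.mp hg
  have hH1 := Groth.Agent.Lib.Lead.CurveSec.subsingleton_H1_of_section k X hdim.le hH1O hL s hs
  refine ⟨?_, hH1⟩
  have h1 : Module.finrank k (Coh.HH X L 1) = 0 := Module.finrank_zero_of_subsingleton
  rw [h1] at hrr
  simp at hrr
  omega

end Groth.Agent.S1635
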