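import Groth.Statements.S16351
import Mathlib

set_option autoImplicit false
universe u
open Cubic

namespace Groth.Agent.S16351

section aux
variable {K : Type*} [Field K]

lemma det_cons (s : Fin 4 → K) (c : Fin 4 → Fin 3 → K) :
    Matrix.det (Matrix.of (fun i => (Fin.cons (s i) (c i) : Fin 4 → K))) =
      ∑ i : Fin 4, (-1 : K) ^ (i : ℕ) * s i *
        Matrix.det (Matrix.of (fun a => c (i.succAbove a))) := by
  rw [Matrix.det_succ_column_zero]
  refine Finset.sum_congr rfl fun i _ => ?_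
  have h1 : (Matrix.of (fun i => (Fin.cons (s i) (c i) : Fin 4 → K))) i 0 = s i := by simp
  have h2 : (Matrix.of (fun i => (Fin.cons (s i) (c i) : Fin 4 → K))).submatrix
      i.succAbove Fin.succ = Matrix.of (fun a => c (i.succAbove a)) := by
    ext a b; simp
  rw [h1, h2]

lemma li4 (s : Fin 4 → K) (c : Fin 4 → Fin 3 → K)
    (h : ∑ i : Fin 4, (-1 : K) ^ (i : ℕ) * s i *
        Matrix.det (Matrix.of (fun a => c (i.succAbove a))) ≠ 0) :
    LinearIndependent K (fun i => (Fin.cons (s i) (c i) : Fin 4 → K)) := by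
  have := (Matrix.linearIndependent_rows_iff_isUnit
    (A := Matrix.of (fun i => (Fin.cons (s i) (c i) : Fin 4 → K)))).mpr ?_
  · exact this
  · rw [Matrix.isUnit_iff_isUnit_det, det_cons]; exact IsUnit.mk0 _ h

end aux

/-- Let K be a field of characteristic zero and S = V(F) ⊂ P^3_K a cone over a plane cubic curve C,
normalised so that the vertex is [1 : 0 : 0 : 0], i.e. F is a homogeneous cubic in K[x_0, …, x_3]
not involving x_0 and C = V(F) in the plane P^2 of the coordinates x_1, x_2, x_3. If C has five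
K-rational points no three of which are collinear, then S has five K-rational points in general
position (no four coplanar: any four representing vectors linearly independent). -/
theorem result (K : Type u) [Field K] [CharZero K]
    (G : MvPolynomial (Fin 3) K) (hG : G.IsHomogeneous 3) (F : MvPolynomial (Fin 4) K)
    (hF : F = MvPolynomial.rename Fin.succ G)
    (b : Fin 5 → (Fin 3 → K)) (hb : ∀ j : Fin 5, MvPolynomial.eval (b j) G = 0)
    (h3 : ∀ i j l : Fin 5, i ≠ j → j ≠ l → i ≠ l → LinearIndependent K ![b i, b j, b l]) :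
    ∃ p : Fin 5 → (Fin 4 → K), (∀ j : Fin 5, MvPolynomial.eval (p j) F = 0) ∧
      ∀ j : Fin 5, LinearIndependent K (fun i : Fin 4 => p (j.succAbove i)) := by
  classical
  set D : Fin 5 → Fin 4 → K := fun j i =>
    Matrix.det (Matrix.of (fun a : Fin 3 => b (j.succAbove (i.succAbove a)))) with hDdef
  have hD : ∀ j i, D j i ≠ 0 := by
    intro j i
    have hinj : Function.Injective (fun a : Fin 3 => j.succAbove (i.succAbove a)) :=
      Fin.succAbove_right_injective.comp Fin.succAbove_right_injective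
    have hli := h3 (j.succAbove (i.succAbove 0)) (j.succAbove (i.succAbove 1))
      (j.succAbove (i.succAbove 2))
      (fun h => absurd (hinj (a₁ := 0) (a₂ := 1) h) (by decide))
      (fun h => absurd (hinj (a₁ := 1) (a₂ := 2) h) (by decide))
      (fun h => absurd (hinj (a₁ := 0) (a₂ := 2) h) (by decide))
    have heq : (![b (j.succAbove (i.succAbove 0)), b (j.succAbove (i.succAbove 1)),
        b (j.succAbove (i.succAbove 2))] : Fin 3 → Fin 3 → K) =
        fun a : Fin 3 => b (j.succAbove (i.succAbove a)) := by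
      funext a; fin_cases a <;> rfl
    rw [heq] at hli
    have hu := (Matrix.linearIndependent_rows_iff_isUnit
      (A := Matrix.of (fun a : Fin 3 => b (j.succAbove (i.succAbove a))))).mp hli
    exact ((Matrix.isUnit_iff_isUnit_det _).mp hu).ne_zero
  obtain ⟨x, hx⟩ := Infinite.exists_notMem_finset
    ({0, D 2 0 / D 2 1, D 3 0 / D 3 1, D 4 0 / D 4 1} : Finset K)
  simp only [Finset.mem_insert, Finset.mem_singleton, not_or] at hx
  obtain ⟨hx0, hx2, hx3, hx4⟩ := hx
  set t : Fin 5 → K := ![1, x, 0, 0, 0] with ht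
  refine ⟨fun j => Fin.cons (t j) (b j), ?_, ?_⟩
  · intro j
    rw [hF, MvPolynomial.eval_rename]
    have : ((Fin.cons (t j) (b j) : Fin 4 → K) ∘ Fin.succ) = b j := by
      funext a; simp
    rw [this]; exact hb j
  · intro j
    refine li4 (fun i => t (j.succAbove i)) (fun i => b (j.succAbove i)) ?_
    change ∑ i : Fin 4, (-1 : K) ^ (i : ℕ) * t (j.succAbove i) * D j i ≠ 0
    have e : ∀ (j : Fin 5) (i : Fin 4),
        j.succAbove i = if i.1 < j.1 then i.castSucc else i.succ := by decide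
    have key : ∀ (u v : K), v ≠ 0 → x ≠ u / v → u + -(x * v) ≠ 0 := by
      intro u v hv hxu h
      apply hxu
      rw [eq_div_iff hv]; linear_combination -h
    have S0 : ∑ i : Fin 4, (-1 : K) ^ (i : ℕ) * t (Fin.succAbove (0 : Fin 5) i) * D 0 i
        = x * D 0 0 := by simp [Fin.sum_univ_four, e, ht]
    have S1 : ∑ i : Fin 4, (-1 : K) ^ (i : ℕ) * t (Fin.succAbove (1 : Fin 5) i) * D 1 i
        = D 1 0 := by simp [Fin.sum_univ_four, e, ht]
    have S2 : ∑ i : Fin 4, (-1 : K) ^ (i : ℕ) * t (Fin.succAbove (2 : Fin 5) i) * D 2 i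
        = D 2 0 + -(x * D 2 1) := by simp [Fin.sum_univ_four, e, ht]
    have S3 : ∑ i : Fin 4, (-1 : K) ^ (i : ℕ) * t (Fin.succAbove (3 : Fin 5) i) * D 3 i
        = D 3 0 + -(x * D 3 1) := by simp [Fin.sum_univ_four, e, ht]
    have S4 : ∑ i : Fin 4, (-1 : K) ^ (i : ℕ) * t (Fin.succAbove (4 : Fin 5) i) * D 4 i
        = D 4 0 + -(x * D 4 1) := by simp [Fin.sum_univ_four, e, ht]
    fin_cases j
    · change ∑ i : Fin 4, (-1 : K) ^ (i : ℕ) * t (Fin.succAbove (0 : Fin 5) i) * D 0 i ≠ 0
      rw [S0]; exact mul_ne_zero hx0 (hD 0 0)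
    · change ∑ i : Fin 4, (-1 : K) ^ (i : ℕ) * t (Fin.succAbove (1 : Fin 5) i) * D 1 i ≠ 0
      rw [S1]; exact hD 1 0
    · change ∑ i : Fin 4, (-1 : K) ^ (i : ℕ) * t (Fin.succAbove (2 : Fin 5) i) * D 2 i ≠ 0
      rw [S2]; exact key _ _ (hD 2 1) hx2
    · change ∑ i : Fin 4, (-1 : K) ^ (i : ℕ) * t (Fin.succAbove (3 : Fin 5) i) * D 3 i ≠ 0
      rw [S3]; exact key _ _ (hD 3 1) hx3
    · change ∑ i : Fin 4, (-1 : K) ^ (i : ℕ) * t (Fin.succAbove (4 : Fin 5) i) * D 4 i ≠ 0
      rw [S4]; exact key _ _ (hD 4 1) hx4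

end Groth.Agent.S16351
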