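import Groth.Statements.S16353
import Groth.Agent.Lib.Helper10.Apolar

set_option autoImplicit false
universe u
open DegLoci

namespace Groth.Agent.S16353

/-- Let k be a field of characteristic zero, R = k[y_0, …, y_{m−1}] acting on S = k[∂_0, …, ∂_{m−1}] by
apolarity (y_i acts as the derivative with respect to ∂_i), F ∈ S homogeneous of degree e and d ≤ e.
Then the degree-d part of the apolar ideal of F is the orthogonal complement of the partial
derivatives of F of order e − d: a homogeneous D ∈ R_d satisfies D(F) = 0 if and only if D(y^α(F)) =
0 for every multi-index α with |α| = e − d (each D(y^α(F)) being a constant, the value of the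
apolarity pairing of D with y^α(F)). -/
theorem result (k : Type u) [Field k] [CharZero k] (m : ℕ)
    (F : MvPolynomial (Fin m) k) (e : ℕ) (hF : F.IsHomogeneous e) (d : ℕ) (hd : d ≤ e)
    (D : MvPolynomial (Fin m) k) (hD : D.IsHomogeneous d) :
    W4c3degenlocivb.contract D F = 0 ↔
      ∀ α : Fin m →₀ ℕ, α.degree = e - d → W4c3degenlocivb.contract D (W4c3degenlocivb.contract (MvPolynomial.monomial α 1) F) = 0 := by
  have hH : (W4c3degenlocivb.contract D F).IsHomogeneous (e - d) :=
    Groth.Agent.Lib.helper10.Apolar.contract_isHomogeneous hD hF
  constructor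
  · intro h α _
    rw [Groth.Agent.Lib.helper10.Apolar.contract_comm, h,
      Groth.Agent.Lib.helper10.Apolar.contract_zero_right]
  · intro h
    ext α
    rw [MvPolynomial.coeff_zero]
    by_cases hα : α.degree = e - d
    · have h1 := h α hα
      rw [Groth.Agent.Lib.helper10.Apolar.contract_comm] at h1
      exact (Groth.Agent.Lib.helper10.Apolar.contract_monomial_top hH α hα).mp h1
    · exact hH.coeff_eq_zero hα

end Groth.Agent.S16353
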