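import Groth.Statements.S16354
import Mathlib
import Groth.Agent.Lib.Helper6.PfLines5

set_option autoImplicit false
universe u
open Cubic

namespace Groth.Agent.S16354

theorem real_cubic_root_pos (a b c d : ℝ) (ha : 0 < a) :
    ∃ t : ℝ, a * t ^ 3 + b * t ^ 2 + c * t + d = 0 := by
  have hcont : Continuous (fun t : ℝ => a * t ^ 3 + b * t ^ 2 + c * t + d) := by fun_prop
  have h1 : ∃ x : ℝ, 0 ≤ a * x ^ 3 + b * x ^ 2 + c * x + d := by
    have hP := Polynomial.tendsto_atTop_of_leadingCoeff_nonneg
      (Polynomial.C a * Polynomial.X ^ 3 + Polynomial.C b * Polynomial.X ^ 2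
        + Polynomial.C c * Polynomial.X + Polynomial.C d : Polynomial ℝ)
      (by rw [Polynomial.degree_cubic ha.ne']; norm_num)
      (by rw [Polynomial.leadingCoeff_cubic ha.ne']; exact ha.le)
    obtain ⟨x, hx⟩ := (hP.eventually_ge_atTop 0).exists
    refine ⟨x, ?_⟩
    simpa using hx
  have h2 : ∃ y : ℝ, a * y ^ 3 + b * y ^ 2 + c * y + d ≤ 0 := by
    have hP := Polynomial.tendsto_atBot_of_leadingCoeff_nonpos
      (Polynomial.C (-a) * Polynomial.X ^ 3 + Polynomial.C b * Polynomial.X ^ 2
        + Polynomial.C (-c) * Polynomial.X + Polynomial.C d : Polynomial ℝ)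
      (by rw [Polynomial.degree_cubic (neg_ne_zero.mpr ha.ne')]; norm_num)
      (by rw [Polynomial.leadingCoeff_cubic (neg_ne_zero.mpr ha.ne')]; linarith)
    obtain ⟨y, hy⟩ := (hP.eventually_le_atBot 0).exists
    refine ⟨-y, ?_⟩
    have h : Polynomial.eval y (Polynomial.C (-a) * Polynomial.X ^ 3
        + Polynomial.C b * Polynomial.X ^ 2 + Polynomial.C (-c) * Polynomial.X
        + Polynomial.C d : Polynomial ℝ)
        = a * (-y) ^ 3 + b * (-y) ^ 2 + c * (-y) + d := by
      simp only [Polynomial.eval_add, Polynomial.eval_mul, Polynomial.eval_C,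
        Polynomial.eval_pow, Polynomial.eval_X]
      ring
    rw [h] at hy
    exact hy
  obtain ⟨t, ht⟩ := mem_range_of_exists_le_of_exists_ge hcont h2 h1
  exact ⟨t, ht⟩

theorem real_cubic_root (a b c d : ℝ) (ha : a ≠ 0) :
    ∃ t : ℝ, a * t ^ 3 + b * t ^ 2 + c * t + d = 0 := by
  rcases lt_or_gt_of_ne ha with h | h
  · obtain ⟨t, ht⟩ := real_cubic_root_pos (-a) (-b) (-c) (-d) (neg_pos.mpr h)
    exact ⟨t, by linear_combination -ht⟩
  · exact real_cubic_root_pos a b c d h



/-- Let k be a subfield of ℝ (a field equipped with an embedding into the reals) and S = V(F) ⊂ P^3 the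
cubic surface of a homogeneous cubic F ∈ k[x_0, …, x_3] which is geometrically irreducible and not a
cone (no nonzero vector v has Σ_i v_i ∂F/∂x_i = 0). Then S admits a linear Pfaffian representation
over a real intermediate field k ⊆ E ⊆ ℝ of degree [E : k] ≤ 3. A linear Pfaffian representation
over E is a 6 × 6 alternating matrix M of linear forms in E[x_0, …, x_3] whose Pfaffian is a nonzero
constant multiple of F; since the determinant of an alternating matrix is the square of its Pfaffian
and the polynomial ring is factorial with no nonconstant units, this is the same as det M = c · F^2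
for a nonzero constant c, which is how it is written here. -/
theorem result (k : Type u) [Field k] [Algebra k ℝ]
    (F : MvPolynomial (Fin 4) k) (hF : F.IsHomogeneous 3)
    (hirr : Irreducible (MvPolynomial.map (algebraMap k (AlgebraicClosure k)) F))
    (hcone : ¬ ∃ v : Fin 4 → k, v ≠ 0 ∧ ∑ i : Fin 4, v i • MvPolynomial.pderiv i F = 0) :
    ∃ E : IntermediateField k ℝ, FiniteDimensional k ↥E ∧ Module.finrank k ↥E ≤ 3 ∧
      ∃ M : Matrix (Fin 6) (Fin 6) (MvPolynomial (Fin 4) ↥E), (∀ i j, (M i j).IsHomogeneous 1) ∧ M.transpose = -M ∧ (∀ i, M i i = 0) ∧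
        ∃ c : ↥E, c ≠ 0 ∧ M.det = MvPolynomial.C c * (MvPolynomial.map (algebraMap k ↥E) F) ^ 2 := by
  have hc0 : CharZero k := (algebraMap k ℝ).charZero
  have hal : Algebra.IsAlgebraic k ↥(⊥ : IntermediateField k ℝ) :=
    Algebra.IsAlgebraic.of_finite k _
  have hroot : ∀ a b c d : k, a ≠ 0 → ∃ t : ℝ,
      algebraMap k ℝ a * t ^ 3 + algebraMap k ℝ b * t ^ 2
        + algebraMap k ℝ c * t + algebraMap k ℝ d = 0 :=
    fun a b c d ha => real_cubic_root _ _ _ _ ((map_ne_zero (algebraMap k ℝ)).mpr ha)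
  exact Groth.Agent.Lib.Helper6.PfLines.pfaffian_exists
    (K := AlgebraicClosure ↥(⊥ : IntermediateField k ℝ)) (R := ℝ) hroot F hF
    (Groth.Agent.Lib.Helper6.PfLines.irreducible_map_of_isAlgClosure F hirr) hcone


end Groth.Agent.S16354
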