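import Groth.Statements.S16356
import Groth.Agent.Lib.Helper17.Witt
import Mathlib

set_option autoImplicit false
universe u
open OrdAV

namespace Groth.Agent.S16356

/-- `(1 + y) ^ i = 1 + i * y + y ^ 2 * c`. -/
theorem one_add_pow_eq {W : Type*} [CommRing W] (y : W) (i : ℕ) :
    ∃ c : W, (1 + y) ^ i = 1 + (i : W) * y + y ^ 2 * c := by
  induction i with
  | zero => exact ⟨0, by simp⟩
  | succ i ih =>
    obtain ⟨c, hc⟩ := ih
    refine ⟨(i : W) + c + c * y, ?_⟩
    rw [pow_succ, hc]
    push_cast
    ring

/-- In `W(k)` with `k` perfect of characteristic `p`, a Witt vector with vanishing zeroth coefficient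
is divisible by `p`. -/
theorem exists_eq_p_mul (p : ℕ) [Fact p.Prime] (k : Type*) [CommRing k] [CharP k p]
    [PerfectRing k p] (y : WittVector p k) (h : y.coeff 0 = 0) :
    ∃ y' : WittVector p k, y = (p : WittVector p k) * y' := by
  obtain ⟨z, rfl⟩ := Groth.Agent.Lib.helper17.Witt.exists_verschiebung_of_coeff_zero y h
  obtain ⟨z', rfl⟩ := (WittVector.frobenius_bijective p k).2 z
  exact ⟨z', by rw [WittVector.verschiebung_frobenius, mul_comm]⟩

/-- The geometric sum `∑_{i<p} x^i` is nonzero when `x ≡ 1` and `p` is odd. -/
theorem geom_sum_ne_zero (p : ℕ) [Fact p.Prime] (hp : p ≠ 2)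
    (k : Type*) [Field k] [CharP k p] [PerfectRing k p]
    (x : WittVector p k) (h0 : x.coeff 0 = 1) :
    ∑ i ∈ Finset.range p, x ^ i ≠ 0 := by
  set y := x - 1 with hy
  have hx : x = 1 + y := by rw [hy]; ring
  have hy0 : y.coeff 0 = 0 := by
    have : WittVector.constantCoeff (x - 1) = 0 := by
      rw [map_sub, map_one, WittVector.constantCoeff_apply, h0, sub_self]
    exact this
  obtain ⟨y', hy'⟩ := exists_eq_p_mul p k y hy0
  choose c hc using one_add_pow_eq y
  have hodd : ∃ t : ℕ, p = 2 * t + 1 := by
    rcases (Fact.out : p.Prime).eq_two_or_odd with h2 | h2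
    · exact absurd h2 hp
    · exact ⟨p / 2, by omega⟩
  obtain ⟨t, ht⟩ := hodd
  have hsumid : (∑ i ∈ Finset.range p, (i : WittVector p k)) = (p : WittVector p k) * (t : WittVector p k) := by
    have h1 := Finset.sum_range_id_mul_two p
    have h2 : ∑ i ∈ Finset.range p, i = p * t := by
      have : p - 1 = 2 * t := by omega
      rw [this] at h1
      nlinarith
    rw [← Nat.cast_sum, h2, Nat.cast_mul]
  have hS : ∑ i ∈ Finset.range p, x ^ i = (p : WittVector p k) *
      (1 + (t : WittVector p k) * y + (p : WittVector p k) * y' ^ 2 * ∑ i ∈ Finset.range p, c i) := by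
    calc ∑ i ∈ Finset.range p, x ^ i
        = ∑ i ∈ Finset.range p, (1 + (i : WittVector p k) * y + y ^ 2 * c i) := by
          refine Finset.sum_congr rfl fun i _ => ?_
          rw [hx, hc]
      _ = (p : WittVector p k) + (∑ i ∈ Finset.range p, (i : WittVector p k)) * y +
            y ^ 2 * ∑ i ∈ Finset.range p, c i := by
          rw [Finset.sum_add_distrib, Finset.sum_add_distrib, Finset.sum_const, Finset.card_range,
            nsmul_eq_mul, mul_one, ← Finset.sum_mul, ← Finset.mul_sum]
      _ = _ := by
          rw [hsumid, hy']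
          ring
  rw [hS]
  have hp0 : (p : WittVector p k) ≠ 0 := WittVector.p_nonzero p k
  refine mul_ne_zero hp0 ?_
  intro hzero
  have := congrArg WittVector.constantCoeff hzero
  rw [map_add, map_add, map_one, map_mul, map_mul, map_mul, map_natCast, map_natCast,
    WittVector.constantCoeff_apply (x := y), hy0, CharP.cast_eq_zero k p] at this
  simp at this

/-- Main induction. -/
theorem pow_ne_one (p : ℕ) [Fact p.Prime] (hp : p ≠ 2)
    (k : Type*) [Field k] [CharP k p] [PerfectRing k p] :
    ∀ (n : ℕ), 0 < n → ∀ x : WittVector p k, x.coeff 0 = 1 → x ≠ 1 → x ^ n ≠ 1 := by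
  intro n
  induction n using Nat.strong_induction_on with
  | _ n ih =>
    intro hn x h0 hx1
    set y := x - 1 with hy
    have hxy : x = 1 + y := by rw [hy]; ring
    have hyne : y ≠ 0 := sub_ne_zero.mpr hx1
    have hy0 : y.coeff 0 = 0 := by
      have : WittVector.constantCoeff (x - 1) = 0 := by
        rw [map_sub, map_one, WittVector.constantCoeff_apply, h0, sub_self]
      exact this
    by_cases hpn : p ∣ n
    · obtain ⟨n', rfl⟩ := hpn
      have hn' : 0 < n' := Nat.pos_of_mul_pos_left hn
      have hlt : n' < p * n' := by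
        have := (Fact.out : p.Prime).two_le
        nlinarith
      rw [pow_mul]
      apply ih n' hlt hn' (x ^ p)
      · have : WittVector.constantCoeff (x ^ p) = 1 := by
          rw [map_pow, WittVector.constantCoeff_apply, h0, one_pow]
        exact this
      · intro hxp
        have h1 := mul_geom_sum x p
        rw [hxp, sub_self] at h1
        rcases mul_eq_zero.mp h1 with h2 | h2
        · exact hyne h2
        · exact geom_sum_ne_zero p hp k x h0 h2
    · intro hxn
      obtain ⟨c, hc⟩ := one_add_pow_eq y n
      rw [← hxy, hxn] at hc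
      have h1 : y * ((n : WittVector p k) + y * c) = 0 := by
        have : (1 : WittVector p k) + (n : WittVector p k) * y + y ^ 2 * c - 1 = 0 := by
          rw [← hc, sub_self]
        rw [← this]
        ring
      rcases mul_eq_zero.mp h1 with h2 | h2
      · exact hyne h2
      · have := congrArg WittVector.constantCoeff h2
        rw [map_add, map_mul, map_natCast, WittVector.constantCoeff_apply (x := y), hy0, zero_mul,
          add_zero, map_zero] at this
        exact hpn ((CharP.cast_eq_zero_iff k p n).mp this)

/-- For an odd prime p and a perfect field k of characteristic p, a root of unity in the ring of Witt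
vectors W(k) whose residue in k is 1 is itself 1: if x ^ n = 1 with n ≥ 1 and the zeroth Witt
component of x is 1, then x = 1. (For p = 2 this fails: -1 in W(F_2).) -/
theorem result (p : ℕ) [Fact p.Prime] (hp : p ≠ 2)
    (k : Type u) [Field k] [CharP k p] [PerfectRing k p]
    (x : WittVector p k) (n : ℕ) (hn : 0 < n) (hx : x ^ n = 1) (h0 : x.coeff 0 = 1) : x = 1 := by
  by_contra hne
  exact pow_ne_one p hp k n hn x h0 hne hx

end Groth.Agent.S16356
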