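import Groth.Statements.S16357
import Mathlib

set_option autoImplicit false
universe u
open OrdAV

namespace Groth.Agent.S16357

/-- Over a field L of characteristic zero, a monic polynomial h whose square has rational coefficients
has rational coefficients itself. -/
theorem result (L : Type u) [Field L] [CharZero L]
    (h : Polynomial L) (hm : h.Monic) (f : Polynomial ℚ)
    (hf : h ^ 2 = Polynomial.map (algebraMap ℚ L) f) :
    ∃ g : Polynomial ℚ, Polynomial.map (algebraMap ℚ L) g = h := by
  classical
  set R : Subfield L := (algebraMap ℚ L).fieldRange with hR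
  have hfR : ∀ m, (Polynomial.map (algebraMap ℚ L) f).coeff m ∈ R := by
    intro m
    rw [Polynomial.coeff_map]
    exact ⟨f.coeff m, rfl⟩
  set n := h.natDegree with hn
  have key : ∀ j, j ≤ n → h.coeff (n - j) ∈ R := by
    intro j
    induction j using Nat.strong_induction_on with
    | _ j ih =>
    intro hj
    rcases Nat.eq_zero_or_pos j with rfl | hjpos
    · rw [Nat.sub_zero, hn, hm.coeff_natDegree]
      exact R.one_mem
    have hc : (h ^ 2).coeff (2 * n - j) ∈ R := by
      rw [hf]
      exact hfR _
    rw [pow_two, Polynomial.coeff_mul] at hc
    have hmem1 : (n, n - j) ∈ Finset.HasAntidiagonal.antidiagonal (2 * n - j) := by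
      rw [Finset.HasAntidiagonal.mem_antidiagonal]
      omega
    have hmem2 : (n - j, n) ∈ (Finset.HasAntidiagonal.antidiagonal (2 * n - j)).erase (n, n - j) := by
      rw [Finset.mem_erase, Finset.HasAntidiagonal.mem_antidiagonal]
      refine ⟨?_, by omega⟩
      intro heq
      have := congrArg Prod.fst heq
      simp only at this
      omega
    rw [← Finset.add_sum_erase _ _ hmem1, ← Finset.add_sum_erase _ _ hmem2] at hc
    have hrest : ∑ x ∈ ((Finset.HasAntidiagonal.antidiagonal (2 * n - j)).erase (n, n - j)).erase (n - j, n),
        h.coeff x.1 * h.coeff x.2 ∈ R := by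
      refine R.sum_mem fun x hx => ?_
      rw [Finset.mem_erase, Finset.mem_erase, Finset.HasAntidiagonal.mem_antidiagonal] at hx
      obtain ⟨hne2, hne1, hsum⟩ := hx
      obtain ⟨i, l⟩ := x
      simp only at hsum
      simp only [ne_eq, Prod.mk.injEq, not_and] at hne1 hne2
      by_cases hi : n < i
      · rw [Polynomial.coeff_eq_zero_of_natDegree_lt hi, zero_mul]
        exact R.zero_mem
      by_cases hl : n < l
      · rw [Polynomial.coeff_eq_zero_of_natDegree_lt hl, mul_zero]
        exact R.zero_mem
      have hi' : i < n := by
        rcases Nat.lt_or_ge i n with h1 | h1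
        · exact h1
        · exfalso
          have : i = n := by omega
          exact hne1 this (by omega)
      have hl' : l < n := by
        rcases Nat.lt_or_ge l n with h1 | h1
        · exact h1
        · exfalso
          have : l = n := by omega
          exact hne2 (by omega) this
      have h1 : h.coeff i ∈ R := by
        have := ih (n - i) (by omega) (by omega)
        rwa [show n - (n - i) = i by omega] at this
      have h2 : h.coeff l ∈ R := by
        have := ih (n - l) (by omega) (by omega)
        rwa [show n - (n - l) = l by omega] at this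
      exact R.mul_mem h1 h2
    have hlead : h.coeff n = 1 := hm.coeff_natDegree
    rw [hlead, one_mul, mul_one, ← add_assoc] at hc
    have h2mem : h.coeff (n - j) + h.coeff (n - j) ∈ R := by
      have := R.sub_mem hc hrest
      rwa [add_sub_cancel_right] at this
    have h2 : (2 : L) ∈ R := by
      have := R.add_mem R.one_mem R.one_mem
      rwa [one_add_one_eq_two] at this
    have : h.coeff (n - j) = (2 : L)⁻¹ * (h.coeff (n - j) + h.coeff (n - j)) := by
      rw [← two_mul, inv_mul_cancel_left₀ two_ne_zero]
    rw [this]
    exact R.mul_mem (R.inv_mem h2) h2mem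
  have hall : ∀ m, h.coeff m ∈ Set.range (algebraMap ℚ L) := by
    intro m
    by_cases hmn : m ≤ n
    · have := key (n - m) (by omega)
      rw [show n - (n - m) = m by omega] at this
      exact this
    · rw [Polynomial.coeff_eq_zero_of_natDegree_lt (by omega)]
      exact ⟨0, map_zero _⟩
  exact (Polynomial.mem_lifts h).mp ((Polynomial.lifts_iff_coeff_lifts h).mpr hall)

end Groth.Agent.S16357
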