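import Groth.Statements.S16358
import Mathlib

set_option autoImplicit false
universe u v w
open OrdAV

namespace Groth.Agent.S16358

/-- Let k be a perfect field of characteristic p > 0 and W = W(k); let M be a finitely generated free
W-module on which a finite group G acts W-linearly, with invariant submodule M^G. Then the map
(W/pW) ⊗ M^G → (W/pW) ⊗ M induced by the inclusion is injective. Since M^G is free, this implies
rank_W M^G ≤ dim_k (M/pM)^G; the published statement is that inequality, and this row states the
stronger injectivity. -/
theorem result (p : ℕ) [Fact p.Prime]
    (k : Type u) [Field k] [CharP k p] [PerfectRing k p]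
    (M : Type v) [AddCommGroup M] [Module (WittVector p k) M]
    [Module.Free (WittVector p k) M] [Module.Finite (WittVector p k) M]
    (G : Type w) [Group G] [Finite G] (ρ : Representation (WittVector p k) G M) :
    Function.Injective
      (LinearMap.lTensor (WittVector p k ⧸ Ideal.span {(p : WittVector p k)}) ρ.invariants.subtype) := by
  classical
  have htf : Module.IsTorsionFree (WittVector p k) M := inferInstance
  have hQtf : Module.IsTorsionFree (WittVector p k) (M ⧸ ρ.invariants) := by
    refine ⟨fun r hr => ?_⟩
    have hrM : IsSMulRegular M r := htf.isSMulRegular hr
    intro x y hxy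
    induction x using Submodule.Quotient.induction_on with
    | H m =>
    induction y using Submodule.Quotient.induction_on with
    | H m' =>
    simp only at hxy
    rw [← Submodule.Quotient.mk_smul, ← Submodule.Quotient.mk_smul, Submodule.Quotient.eq,
      ← smul_sub, Representation.mem_invariants] at hxy
    rw [Submodule.Quotient.eq, Representation.mem_invariants]
    intro g
    apply hrM
    simp only
    rw [← map_smul]
    exact hxy g
  have hfree : Module.Free (WittVector p k) (M ⧸ ρ.invariants) := inferInstance
  obtain ⟨s, hs⟩ := Module.projective_lifting_property ρ.invariants.mkQ LinearMap.id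
    (Submodule.mkQ_surjective ρ.invariants)
  let r : M →ₗ[WittVector p k] ρ.invariants :=
    (LinearMap.id - s ∘ₗ ρ.invariants.mkQ).codRestrict ρ.invariants (fun m => by
      rw [← Submodule.Quotient.mk_eq_zero, LinearMap.sub_apply, Submodule.Quotient.mk_sub,
        LinearMap.id_apply, LinearMap.comp_apply]
      have := LinearMap.congr_fun hs (ρ.invariants.mkQ m)
      rw [LinearMap.comp_apply, LinearMap.id_apply, Submodule.mkQ_apply, Submodule.mkQ_apply] at this
      rw [Submodule.mkQ_apply, this, sub_self])
  have hr : r ∘ₗ ρ.invariants.subtype = LinearMap.id := by
    ext n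
    simp only [LinearMap.comp_apply, Submodule.subtype_apply, LinearMap.id_apply, r,
      LinearMap.codRestrict_apply, LinearMap.sub_apply, Submodule.mkQ_apply]
    rw [(Submodule.Quotient.mk_eq_zero _).mpr n.2, map_zero, sub_zero]
  have hleft : Function.LeftInverse
      (LinearMap.lTensor (WittVector p k ⧸ Ideal.span {(p : WittVector p k)}) r)
      (LinearMap.lTensor (WittVector p k ⧸ Ideal.span {(p : WittVector p k)})
        ρ.invariants.subtype) := by
    intro x
    rw [← LinearMap.comp_apply, ← LinearMap.lTensor_comp, hr, LinearMap.lTensor_id,
      LinearMap.id_apply]
  exact hleft.injective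

end Groth.Agent.S16358
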