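import Groth.Statements.S1636
import Groth.Agent.Lib.Helper7.VAmpGen2
import Groth.Agent.Lib.Helper18.NefH1Zero
import Groth.Agent.Lib.Helper9.CurveAmple
import Groth.Agent.Lib.Helper12.PullAmple
import Groth.Agent.S1635

set_option autoImplicit false
universe u
open CategoryTheory CategoryTheory.Limits AlgebraicGeometry
open Curves

namespace Groth.Agent.S1636

/-- Let X be a proper curve over k with global functions k and genus 0, and L an invertible module of
degree d > 0. Then there is a closed immersion i : X → P^d_k over k with i^* O(1) ≅ L. -/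
theorem result (k : Type u) [Field k] (X : Scheme.{u}) [X.Over (Spec (CommRingCat.of k))]
    [IsIntegral X] [IsProper (X ↘ (Spec (CommRingCat.of k)))] (hdim : topologicalKrullDim X = 1)
    (h0 : Module.finrank k (Coh.HH X (Coh.structureModule X) 0) = 1) (hg : Curv2.genus k X = 0)
    (L : X.Modules) (hL : PicF.IsInvertible L) (d : ℕ) (hd : 0 < d) (hdeg : Curv2.deg k X L 1 = d) :
    ∃ i : X ⟶ CohB1.ProjSpace d k, IsClosedImmersion i ∧ i ≫ CohB1.ProjSpace.toSpec d k = X ↘ (Spec (CommRingCat.of k)) ∧
      Nonempty ((Scheme.Modules.pullback i).obj (Twist.twistProjSpace d k 1) ≅ L) := by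
  have hdegpos : 0 < Curv2.deg k X L 1 := by rw [hdeg]; exact_mod_cast hd
  have hA : CohB1.IsAmple L :=
    Groth.Agent.Lib.helper9.CurveAmple.isAmple_of_deg_pos k X hdim.le hL hdegpos
  have hOc : Coh.IsCoh (Coh.structureModule X) :=
    Groth.Agent.Lib.Lead.CurveInv.isCoh_of_isInvertible X
      (Groth.Agent.Lib.helper11.InvMod.isInvertible_structureModule X)
  haveI : Module.Finite k (Coh.HH X (Coh.structureModule X) 1) :=
    Groth.Agent.Lib.Lead.ProperEuler.finite_HH k X _ hOc 1
  have h1 : Subsingleton (Coh.HH X (Coh.structureModule X) 1) := by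
    have hz : Module.finrank k (Coh.HH X (Coh.structureModule X) 1) = 0 := hg
    exact Module.finrank_zero_iff.mp hz
  have hnef : ∀ J : X.IdealSheafData, IsIntegral J.subscheme → topologicalKrullDim J.subscheme = 1 →
      0 ≤ @Curv2.deg k _ J.subscheme ⟨J.subschemeι ≫ (X ↘ (Spec (CommRingCat.of k)))⟩
        ((Scheme.Modules.pullback J.subschemeι).obj L) 1 := by
    intro J hJint hJdim
    letI : J.subscheme.Over (Spec (CommRingCat.of k)) :=
      ⟨J.subschemeι ≫ (X ↘ (Spec (CommRingCat.of k)))⟩
    haveI : IsProper (J.subscheme ↘ Spec (CommRingCat.of k)) :=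
      inferInstanceAs (IsProper (J.subschemeι ≫ (X ↘ Spec (CommRingCat.of k))))
    haveI := hJint
    have hA' : CohB1.IsAmple ((Scheme.Modules.pullback J.subschemeι).obj L) :=
      Groth.Agent.Lib.helper12.PullAmple.isAmple_pullback_of_isAffineHom J.subschemeι hA
    exact (Groth.Agent.Lib.helper9.CurveAmple.deg_pos_of_isAmple k J.subscheme hJdim hA').le
  have hgg : Curv2.IsGloballyGenerated L :=
    Groth.Agent.Lib.Helper18.NefH1Zero.gg_of_nef k X hdim.le h1 hL hnef
  have hn := (Groth.Agent.S1635.result k X hdim h0 hg L hL d hd hdeg).1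
  exact Groth.Agent.Lib.helper7.VAmpGen.veryAmple_of_H1_unit' k X hdim h1 L hgg hA d hn

end Groth.Agent.S1636
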