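import Groth.Statements.S16360
import Groth.Agent.Lib.Helper22.DvrPerf
import Groth.Agent.Lib.Helper24.IntegralHensel

set_option autoImplicit false
universe u
open Hensel
open Groth.Agent.Lib.helper22.DvrExt

namespace Groth.Agent.S16360

/-- Let R be a discrete valuation ring that is Henselian and excellent, write k for its residue field
and p for the characteristic exponent of k. There is a Henselian discrete valuation ring R' and an
injective ring map R → R' such that the maximal ideal of R generates that of R' (so a uniformizer of
R is a uniformizer of R'), R' is the directed union of R-subalgebras that are finite free R-modules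
of rank a power of p, and the residue field k' of R' is a perfect closure of k: every element of k'
is a p-th power in k', and some p-power-th power of it lies in the image of k. (The published
statement also asserts that R' is excellent; that is not asserted here.) -/
theorem result (R : Type u) [CommRing R] [IsDomain R]
    [IsDiscreteValuationRing R] [HenselianLocalRing R] (hR : EGA4.IsExcellent R) :
    ∃ (R' : Type u) (_ : CommRing R') (_ : IsDomain R') (_ : IsDiscreteValuationRing R')
      (_ : HenselianLocalRing R') (_ : Algebra R R'),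
      Function.Injective (algebraMap R R') ∧
      Ideal.map (algebraMap R R') (IsLocalRing.maximalIdeal R) = IsLocalRing.maximalIdeal R' ∧
      (∀ s : Finset R', ∃ S : Subalgebra R R', (↑s : Set R') ⊆ ↑S ∧ Module.Finite R S ∧ Module.Free R S ∧
        ∃ m : ℕ, Module.finrank R S = ringExpChar (IsLocalRing.ResidueField R) ^ m) ∧
      (∀ y : R', ∃ z : R', z ^ ringExpChar (IsLocalRing.ResidueField R) - y ∈ IsLocalRing.maximalIdeal R') ∧
      (∀ y : R', ∃ (m : ℕ) (z : R),
        algebraMap R R' z - y ^ (ringExpChar (IsLocalRing.ResidueField R) ^ m) ∈ IsLocalRing.maximalIdeal R') := by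
  classical
  let K := FractionRing R
  let Ω := AlgebraicClosure K
  let k' := AlgebraicClosure (IsLocalRing.ResidueField R)
  have hpE : ExpChar (IsLocalRing.ResidueField R) (ringExpChar (IsLocalRing.ResidueField R)) :=
    ringExpChar.expChar _
  have hpE' : ExpChar k' (ringExpChar (IsLocalRing.ResidueField R)) :=
    expChar_of_injective_algebraMap (algebraMap (IsLocalRing.ResidueField R) k').injective _
  letI : Algebra R k' :=
    ((algebraMap (IsLocalRing.ResidueField R) k').comp (IsLocalRing.residue R)).toAlgebra
  have hk'def : ∀ a : R, algebraMap R k' a =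
      algebraMap (IsLocalRing.ResidueField R) k' (IsLocalRing.residue R a) := fun a => rfl
  obtain ⟨π, hπ⟩ := IsDiscreteValuationRing.exists_irreducible R
  have hinj : Function.Injective (algebraMap R Ω) := by
    rw [IsScalarTower.algebraMap_eq R K Ω]
    exact (algebraMap K Ω).injective.comp (IsFractionRing.injective R K)
  have hπk : algebraMap R k' π = 0 := by
    rw [hk'def, (IsLocalRing.residue_eq_zero_iff π).mpr, map_zero]
    exact hπ.not_isUnit
  have hπΩ : algebraMap R Ω π ≠ 0 := fun h => hπ.ne_zero (hinj (by rw [h, map_zero]))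
  have hloc : ∀ a : R, algebraMap R k' a ≠ 0 → IsUnit a := by
    intro a ha
    by_contra hnu
    apply ha
    rw [hk'def, (IsLocalRing.residue_eq_zero_iff a).mpr hnu, map_zero]
  obtain ⟨S, hS1, hS2, hS3⟩ := exists_perfect_stage (Ω := Ω) (k' := k')
    (ringExpChar (IsLocalRing.ResidueField R)) hinj hπ hloc hπk
  letI hlocS := S.isLocalRing
  have hdvr := S.isDVR hπk hπΩ
  have hφinj : Function.Injective (algebraMap R S.O) := by
    intro a b hab
    apply hinj
    exact congrArg (Subtype.val) hab
  have hintS : Algebra.IsIntegral R S.O := by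
    constructor
    intro x
    obtain ⟨T, -, hxT, hfin, -⟩ := hS2 {(x : Ω)} (by
      intro z hz
      rw [Finset.coe_singleton, Set.mem_singleton_iff] at hz
      rw [hz]
      exact x.2)
    have hx : (x : Ω) ∈ T := hxT (by simp)
    have h1 : IsIntegral R (⟨x, hx⟩ : T) := Algebra.IsIntegral.isIntegral _
    have h2 : IsIntegral R (x : Ω) := h1.map T.val
    exact (isIntegral_algHom_iff S.O.val Subtype.val_injective).mp h2
  have hhens : HenselianLocalRing S.O :=
    Groth.Agent.Lib.Helper24.IntegralHensel.henselian_of_isIntegral R S.O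
  have hker : ∀ x : S.O, S.ρ x = 0 → x ∈ IsLocalRing.maximalIdeal S.O := by
    intro x hx
    rw [← S.ker_eq]
    exact hx
  refine ⟨S.O, inferInstance, inferInstance, hdvr, hhens, inferInstance, hφinj, ?_, ?_, ?_, ?_⟩
  · rw [hπ.maximalIdeal_eq, Ideal.map_span, Set.image_singleton]
    exact (S.maximalIdeal_eq hπk).symm
  · intro s
    obtain ⟨T, hT, hsT, hfin, hfree, m, hm⟩ := hS2 (s.image Subtype.val) (by
      intro z hz
      rw [Finset.coe_image] at hz
      obtain ⟨x, -, rfl⟩ := hz
      exact x.2)
    let e : (T.comap S.O.val) ≃ₗ[R] T :=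
      { toFun := fun x => ⟨x.1.1, x.2⟩
        invFun := fun t => ⟨⟨t.1, hT t.2⟩, t.2⟩
        map_add' := fun _ _ => rfl
        map_smul' := fun _ _ => rfl
        left_inv := fun _ => rfl
        right_inv := fun _ => rfl }
    refine ⟨T.comap S.O.val, ?_, Module.Finite.equiv e.symm, Module.Free.of_equiv e.symm, m, ?_⟩
    · intro x hx
      show (x : Ω) ∈ T
      apply hsT
      rw [Finset.coe_image]
      exact ⟨x, hx, rfl⟩
    · rw [e.finrank_eq, hm]
  · intro y
    obtain ⟨z, hz⟩ := hS3 y
    refine ⟨z, hker _ ?_⟩
    rw [map_sub, map_pow, hz, sub_self]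
  · intro y
    obtain ⟨m, z, hz⟩ := hS1 y
    refine ⟨m, z, hker _ ?_⟩
    rw [map_sub, map_pow, AlgHom.commutes, ← hz, sub_self]

end Groth.Agent.S16360
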