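import Groth.Statements.S16362
import Mathlib

set_option autoImplicit false
universe u
open MovLem

namespace Groth.Agent.S16362

theorem key_identity {K : Type*} [Field K] (ζ' u' : K) (hu' : u' ≠ 0) (N : ℕ) (b : ℕ → K) :
    ζ' ^ N + ∑ i ∈ Finset.Icc 1 N, b i * ζ' ^ (N - i) * u' ^ i =
      u' ^ N * ((ζ' / u') ^ N + ∑ i ∈ Finset.Icc 1 N, b i * (ζ' / u') ^ (N - i)) := by
  rw [mul_add, Finset.mul_sum]
  congr 1
  · rw [div_pow, mul_div_cancel₀ _ (pow_ne_zero _ hu')]
  · refine Finset.sum_congr rfl fun i hi => ?_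
    have hi' : i ≤ N := (Finset.mem_Icc.mp hi).2
    have : u' ^ N = u' ^ (N - i) * u' ^ i := by rw [← pow_add, Nat.sub_add_cancel hi']
    rw [this, div_pow]
    field_simp

theorem sum_reflect {K : Type*} [AddCommMonoid K] (N : ℕ) (g : ℕ → K) :
    ∑ i ∈ Finset.Icc 1 N, g (N - i) = ∑ j ∈ Finset.range N, g j := by
  refine Finset.sum_nbij' (fun i => N - i) (fun j => N - j) ?_ ?_ ?_ ?_ ?_
  · intro i hi
    simp only [Finset.mem_Icc, Finset.mem_range] at hi ⊢
    omega
  · intro j hj
    simp only [Finset.mem_Icc, Finset.mem_range] at hj ⊢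
    omega
  · intro i hi
    simp only [Finset.mem_Icc] at hi
    omega
  · intro j hj
    simp only [Finset.mem_range] at hj
    omega
  · intro i _
    rfl

/-- Let A be a commutative ring, p a prime ideal of A, and ζ, u elements of A with u not in p. Then the
quotient of the classes of ζ and u in the fraction field of the domain A ⧸ p is integral over A ⧸ p
if and only if there exist a natural number N and elements a_1, …, a_N of A such that ζ^N + a_1
ζ^(N-1) u + ⋯ + a_N u^N lies in p; equivalently, some binary form of degree N with coefficients in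
A, monic in the first variable, evaluated at (ζ, u), lies in p. -/
theorem result
    {A : Type u} [CommRing A] (p : Ideal A) [p.IsPrime] (ζ u : A) (hu : u ∉ p) :
    IsIntegral (A ⧸ p)
        (algebraMap (A ⧸ p) (FractionRing (A ⧸ p)) (Ideal.Quotient.mk p ζ) /
          algebraMap (A ⧸ p) (FractionRing (A ⧸ p)) (Ideal.Quotient.mk p u)) ↔
      ∃ (N : ℕ) (a : ℕ → A),
        ζ ^ N + ∑ i ∈ Finset.Icc 1 N, a i * ζ ^ (N - i) * u ^ i ∈ p := by
  set K := FractionRing (A ⧸ p) with hK
  set φ := algebraMap (A ⧸ p) K with hφ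
  have hinj : Function.Injective φ := IsFractionRing.injective (A ⧸ p) K
  have hu' : φ (Ideal.Quotient.mk p u) ≠ 0 := by
    intro h
    rw [← map_zero φ] at h
    exact hu (Ideal.Quotient.eq_zero_iff_mem.mp (hinj h))
  constructor
  · rintro ⟨P, hmonic, hroot⟩
    set N := P.natDegree with hN
    have hsurj := Ideal.Quotient.mk_surjective (I := p)
    choose lift hlift using hsurj
    refine ⟨N, fun i => lift (P.coeff (N - i)), ?_⟩
    rw [← Ideal.Quotient.eq_zero_iff_mem]
    apply hinj
    rw [map_zero]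
    simp only [map_add, map_sum, map_mul, map_pow, hlift]
    rw [key_identity _ _ hu' N (fun i => φ (P.coeff (N - i)))]
    rw [Polynomial.eval₂_eq_sum_range, Finset.sum_range_succ, ← hN, hmonic.coeff_natDegree,
      map_one, one_mul, add_comm] at hroot
    rw [sum_reflect N (fun j => φ (P.coeff j) * (φ (Ideal.Quotient.mk p ζ) /
      φ (Ideal.Quotient.mk p u)) ^ j), hroot, mul_zero]
  · rintro ⟨N, a, h⟩
    rw [← Ideal.Quotient.eq_zero_iff_mem] at h
    have h2 := congrArg φ h
    rw [map_zero] at h2
    simp only [map_add, map_sum, map_mul, map_pow] at h2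
    rw [key_identity _ _ hu' N (fun i => φ (Ideal.Quotient.mk p (a i)))] at h2
    have h3 := (mul_eq_zero.mp h2).resolve_left (pow_ne_zero _ hu')
    refine ⟨Polynomial.X ^ N + ∑ i ∈ Finset.Icc 1 N,
      Polynomial.C (Ideal.Quotient.mk p (a i)) * Polynomial.X ^ (N - i), ?_, ?_⟩
    · apply Polynomial.monic_X_pow_add
      refine lt_of_le_of_lt (Polynomial.degree_sum_le _ _) ?_
      refine (Finset.sup_lt_iff (WithBot.bot_lt_coe N)).mpr ?_
      intro i hi
      refine lt_of_le_of_lt (Polynomial.degree_C_mul_X_pow_le _ _) ?_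
      have := Finset.mem_Icc.mp hi
      exact WithBot.coe_lt_coe.mpr (by omega : N - i < N)
    · rw [Polynomial.eval₂_add, Polynomial.eval₂_finsetSum]
      simp only [Polynomial.eval₂_mul, Polynomial.eval₂_C, Polynomial.eval₂_X_pow]
      exact h3

end Groth.Agent.S16362
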