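import Groth.Statements.S16367
import Mathlib

set_option autoImplicit false
universe u
open MovLem

namespace Groth.Agent.S16367


theorem term_mem {k : Type u} [CommRing k] (d n : ℕ) (U : MvPolynomial (Fin d ⊕ Fin n) k)
    (v : Fin d → k) (N s : ℕ) (I : Ideal (Polynomial (MvPolynomial (Fin d ⊕ Fin n) k)))
    (hI : 0 < N → Polynomial.C (U ^ s) ∈ I)
    (m : (Fin d ⊕ Fin n) →₀ ℕ) (a : k) (hm : ∑ i : Fin d, m (Sum.inl i) ≤ N) :
    Polynomial.C (MvPolynomial.C a) * Polynomial.X ^ (N - ∑ i : Fin d, m (Sum.inl i)) *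
      (∏ i : Fin d, (Polynomial.X * Polynomial.C (MvPolynomial.X (Sum.inl i)) +
          Polynomial.C (U ^ s * MvPolynomial.C (v i))) ^ m (Sum.inl i)) *
      (∏ j : Fin n, Polynomial.C (MvPolynomial.X (Sum.inr j)) ^ m (Sum.inr j)) -
      Polynomial.X ^ N * Polynomial.C (MvPolynomial.monomial m a) ∈ I := by
  classical
  have hA : ∀ i : Fin d, (Polynomial.X * Polynomial.C (MvPolynomial.X (Sum.inl i)) +
          Polynomial.C (U ^ s * MvPolynomial.C (v i))) ^ m (Sum.inl i) -
          (Polynomial.X * Polynomial.C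
            (MvPolynomial.X (Sum.inl i) : MvPolynomial (Fin d ⊕ Fin n) k)) ^ m (Sum.inl i) ∈ I := by
    intro i
    by_cases h0 : m (Sum.inl i) = 0
    · rw [h0, pow_zero, pow_zero, sub_self]; exact I.zero_mem
    · have hN : 0 < N := by
        have : m (Sum.inl i) ≤ ∑ i : Fin d, m (Sum.inl i) :=
          Finset.single_le_sum (f := fun i : Fin d => m (Sum.inl i))
            (fun _ _ => Nat.zero_le _) (Finset.mem_univ i)
        omega
      obtain ⟨q, hq⟩ := sub_dvd_pow_sub_pow
        (Polynomial.X * Polynomial.C (MvPolynomial.X (Sum.inl i)) +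
          Polynomial.C (U ^ s * MvPolynomial.C (v i)))
        (Polynomial.X * Polynomial.C
          (MvPolynomial.X (Sum.inl i) : MvPolynomial (Fin d ⊕ Fin n) k)) (m (Sum.inl i))
      have hC : Polynomial.C (U ^ s * MvPolynomial.C (v i)) =
          Polynomial.C (U ^ s) * Polynomial.C (MvPolynomial.C (v i)) := map_mul _ _ _
      rw [hq, add_sub_cancel_left, hC]
      exact I.mul_mem_right _ (I.mul_mem_right _ (hI hN))
  have hAB : (∏ i : Fin d, (Polynomial.X * Polynomial.C (MvPolynomial.X (Sum.inl i)) +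
          Polynomial.C (U ^ s * MvPolynomial.C (v i))) ^ m (Sum.inl i)) -
      (∏ i : Fin d, (Polynomial.X * Polynomial.C
            (MvPolynomial.X (Sum.inl i) : MvPolynomial (Fin d ⊕ Fin n) k)) ^ m (Sum.inl i)) ∈ I := by
    have : Ideal.Quotient.mk I (∏ i : Fin d,
          (Polynomial.X * Polynomial.C (MvPolynomial.X (Sum.inl i)) +
          Polynomial.C (U ^ s * MvPolynomial.C (v i))) ^ m (Sum.inl i)) =
        Ideal.Quotient.mk I (∏ i : Fin d, (Polynomial.X * Polynomial.C
            (MvPolynomial.X (Sum.inl i) : MvPolynomial (Fin d ⊕ Fin n) k)) ^ m (Sum.inl i)) := by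
      rw [map_prod, map_prod]
      exact Finset.prod_congr rfl (fun i _ => Ideal.Quotient.eq.2 (hA i))
    exact Ideal.Quotient.eq.1 this
  have hmon : (MvPolynomial.monomial m a : MvPolynomial (Fin d ⊕ Fin n) k) =
      MvPolynomial.C a * ((∏ i : Fin d, MvPolynomial.X (Sum.inl i) ^ m (Sum.inl i)) *
        ∏ j : Fin n, MvPolynomial.X (Sum.inr j) ^ m (Sum.inr j)) := by
    rw [MvPolynomial.monomial_eq, Finsupp.prod_fintype _ _ (fun i => pow_zero _),
      Fintype.prod_sum_type]
  have hXN : (Polynomial.X : Polynomial (MvPolynomial (Fin d ⊕ Fin n) k)) ^ N =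
      Polynomial.X ^ (N - ∑ i : Fin d, m (Sum.inl i)) *
        ∏ i : Fin d, Polynomial.X ^ m (Sum.inl i) := by
    rw [Finset.prod_pow_eq_pow_sum, ← pow_add, Nat.sub_add_cancel hm]
  have hB : (∏ i : Fin d, (Polynomial.X * Polynomial.C
        (MvPolynomial.X (Sum.inl i) : MvPolynomial (Fin d ⊕ Fin n) k)) ^ m (Sum.inl i)) =
      (∏ i : Fin d, Polynomial.X ^ m (Sum.inl i)) *
        ∏ i : Fin d, Polynomial.C
          (MvPolynomial.X (Sum.inl i) : MvPolynomial (Fin d ⊕ Fin n) k) ^ m (Sum.inl i) := by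
    rw [← Finset.prod_mul_distrib]
    exact Finset.prod_congr rfl (fun i _ => mul_pow _ _ _)
  have key : Polynomial.X ^ N * Polynomial.C (MvPolynomial.monomial m a) =
      Polynomial.C (MvPolynomial.C a) * Polynomial.X ^ (N - ∑ i : Fin d, m (Sum.inl i)) *
      (∏ i : Fin d, (Polynomial.X * Polynomial.C
        (MvPolynomial.X (Sum.inl i) : MvPolynomial (Fin d ⊕ Fin n) k)) ^ m (Sum.inl i)) *
      (∏ j : Fin n, Polynomial.C (MvPolynomial.X (Sum.inr j)) ^ m (Sum.inr j)) := by
    rw [hmon, hXN, hB, map_mul, map_mul, map_prod, map_prod]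
    simp only [map_pow]
    ring
  have hfin : Polynomial.C (MvPolynomial.C a) * Polynomial.X ^ (N - ∑ i : Fin d, m (Sum.inl i)) *
      (∏ i : Fin d, (Polynomial.X * Polynomial.C (MvPolynomial.X (Sum.inl i)) +
          Polynomial.C (U ^ s * MvPolynomial.C (v i))) ^ m (Sum.inl i)) *
      (∏ j : Fin n, Polynomial.C (MvPolynomial.X (Sum.inr j)) ^ m (Sum.inr j)) -
      Polynomial.X ^ N * Polynomial.C (MvPolynomial.monomial m a) =
      Polynomial.C (MvPolynomial.C a) * Polynomial.X ^ (N - ∑ i : Fin d, m (Sum.inl i)) *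
      ((∏ i : Fin d, (Polynomial.X * Polynomial.C (MvPolynomial.X (Sum.inl i)) +
          Polynomial.C (U ^ s * MvPolynomial.C (v i))) ^ m (Sum.inl i)) -
      (∏ i : Fin d, (Polynomial.X * Polynomial.C
            (MvPolynomial.X (Sum.inl i) : MvPolynomial (Fin d ⊕ Fin n) k)) ^ m (Sum.inl i))) *
      (∏ j : Fin n, Polynomial.C (MvPolynomial.X (Sum.inr j)) ^ m (Sum.inr j)) := by
    rw [key]; ring
  rw [hfin]
  exact I.mul_mem_right _ (I.mul_mem_left _ hAB)

theorem gl_mem {k : Type u} [CommRing k] (d n : ℕ) (U : MvPolynomial (Fin d ⊕ Fin n) k)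
    (v : Fin d → k) (N s : ℕ) (I : Ideal (Polynomial (MvPolynomial (Fin d ⊕ Fin n) k)))
    (hI : 0 < N → Polynomial.C (U ^ s) ∈ I)
    (f : MvPolynomial (Fin d ⊕ Fin n) k)
    (hdeg : ∀ m ∈ f.support, ∑ i : Fin d, m (Sum.inl i) ≤ N) :
    (∑ m ∈ f.support,
      Polynomial.C (MvPolynomial.C (MvPolynomial.coeff m f)) *
        Polynomial.X ^ (N - ∑ i : Fin d, m (Sum.inl i)) *
        (∏ i : Fin d, (Polynomial.X * Polynomial.C (MvPolynomial.X (Sum.inl i)) +
            Polynomial.C (U ^ s * MvPolynomial.C (v i))) ^ m (Sum.inl i)) *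
        ∏ j : Fin n, Polynomial.C (MvPolynomial.X (Sum.inr j)) ^ m (Sum.inr j)) -
      Polynomial.X ^ N * Polynomial.C f ∈ I := by
  have hf : Polynomial.C f = ∑ m ∈ f.support,
      Polynomial.C (MvPolynomial.monomial m (MvPolynomial.coeff m f)) := by
    rw [← map_sum, MvPolynomial.support_sum_monomial_coeff]
  rw [hf, Finset.mul_sum, ← Finset.sum_sub_distrib]
  exact Ideal.sum_mem _ (fun m hm => term_mem d n U v N s I hI m _ (hdeg m hm))

theorem main {k : Type u} [CommRing k] (d n : ℕ) (U : MvPolynomial (Fin d ⊕ Fin n) k)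
    (v : Fin d → k) (ζ : MvPolynomial (Fin d ⊕ Fin n) k) (N s : ℕ) (hs : N ≤ s)
    {Λ : Type u} [Fintype Λ] (f : Λ → MvPolynomial (Fin d ⊕ Fin n) k)
    (hdeg : ∀ l, ∀ m ∈ (f l).support, ∑ i : Fin d, m (Sum.inl i) ≤ N)
    (c : ℕ → MvPolynomial (Fin d ⊕ Fin n) k)
    (hE : ζ ^ N + ∑ i ∈ Finset.Icc 1 N, c i * ζ ^ (N - i) * U ^ i ∈ Ideal.span (Set.range f)) :
    ∃ c' : ℕ → Polynomial (MvPolynomial (Fin d ⊕ Fin n) k),
      (Polynomial.X * Polynomial.C ζ) ^ N +
        ∑ i ∈ Finset.Icc 1 N, c' i * (Polynomial.X * Polynomial.C ζ) ^ (N - i) *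
          Polynomial.C U ^ i ∈
      Ideal.span (Set.range fun l : Λ =>
        ∑ m ∈ (f l).support,
          Polynomial.C (MvPolynomial.C (MvPolynomial.coeff m (f l))) *
            Polynomial.X ^ (N - ∑ i : Fin d, m (Sum.inl i)) *
            (∏ i : Fin d, (Polynomial.X * Polynomial.C (MvPolynomial.X (Sum.inl i)) +
                Polynomial.C (U ^ s * MvPolynomial.C (v i))) ^ m (Sum.inl i)) *
            ∏ j : Fin n, Polynomial.C (MvPolynomial.X (Sum.inr j)) ^ m (Sum.inr j)) := by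
  classical
  obtain ⟨a, ha⟩ := Ideal.mem_span_range_iff_exists_fun.1 hE
  obtain ⟨g, hg⟩ : ∃ g : Λ → Polynomial (MvPolynomial (Fin d ⊕ Fin n) k), g = fun l : Λ =>
        ∑ m ∈ (f l).support,
          Polynomial.C (MvPolynomial.C (MvPolynomial.coeff m (f l))) *
            Polynomial.X ^ (N - ∑ i : Fin d, m (Sum.inl i)) *
            (∏ i : Fin d, (Polynomial.X * Polynomial.C (MvPolynomial.X (Sum.inl i)) +
                Polynomial.C (U ^ s * MvPolynomial.C (v i))) ^ m (Sum.inl i)) *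
            ∏ j : Fin n, Polynomial.C (MvPolynomial.X (Sum.inr j)) ^ m (Sum.inr j) := ⟨_, rfl⟩
  rw [← hg]
  have hgmem : ∀ l, g l ∈ Ideal.span (Set.range g) := fun l => Ideal.subset_span ⟨l, rfl⟩
  have hsum_mem : ∑ l, Polynomial.C (a l) * g l ∈ Ideal.span (Set.range g) :=
    Ideal.sum_mem _ (fun l _ => Ideal.mul_mem_left _ _ (hgmem l))
  have hD : ∀ I : Ideal (Polynomial (MvPolynomial (Fin d ⊕ Fin n) k)),
      (0 < N → Polynomial.C (U ^ s) ∈ I) →
      ∑ l, Polynomial.C (a l) * g l - Polynomial.X ^ N *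
        Polynomial.C (ζ ^ N + ∑ i ∈ Finset.Icc 1 N, c i * ζ ^ (N - i) * U ^ i) ∈ I := by
    intro I hI
    rw [← ha, map_sum, Finset.mul_sum, ← Finset.sum_sub_distrib]
    refine Ideal.sum_mem _ (fun l _ => ?_)
    have h1 := gl_mem d n U v N s I hI (f l) (hdeg l)
    have h2 : Polynomial.C (a l) * g l - Polynomial.X ^ N * Polynomial.C (a l * f l) =
        Polynomial.C (a l) * (g l - Polynomial.X ^ N * Polynomial.C (f l)) := by
      rw [map_mul]; ring
    rw [h2, hg]
    exact I.mul_mem_left _ h1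
  have hXE : Polynomial.X ^ N *
        Polynomial.C (ζ ^ N + ∑ i ∈ Finset.Icc 1 N, c i * ζ ^ (N - i) * U ^ i) =
      (Polynomial.X * Polynomial.C ζ) ^ N + ∑ i ∈ Finset.Icc 1 N,
        (Polynomial.X ^ i * Polynomial.C (c i)) * (Polynomial.X * Polynomial.C ζ) ^ (N - i) *
          Polynomial.C U ^ i := by
    have e1 : (Polynomial.X : Polynomial (MvPolynomial (Fin d ⊕ Fin n) k)) ^ N *
        Polynomial.C (ζ ^ N) = (Polynomial.X * Polynomial.C ζ) ^ N := by
      rw [mul_pow, map_pow]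
    have e2 : ∀ i ∈ Finset.Icc 1 N,
        (Polynomial.X : Polynomial (MvPolynomial (Fin d ⊕ Fin n) k)) ^ N *
          Polynomial.C (c i * ζ ^ (N - i) * U ^ i) =
        (Polynomial.X ^ i * Polynomial.C (c i)) * (Polynomial.X * Polynomial.C ζ) ^ (N - i) *
          Polynomial.C U ^ i := by
      intro i hi
      have hiN : i ≤ N := (Finset.mem_Icc.1 hi).2
      have hX : (Polynomial.X : Polynomial (MvPolynomial (Fin d ⊕ Fin n) k)) ^ N =
          Polynomial.X ^ i * Polynomial.X ^ (N - i) := by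
        rw [← pow_add, Nat.add_sub_cancel' hiN]
      rw [hX, map_mul, map_mul, map_pow, map_pow, mul_pow]
      ring
    rw [map_add, map_sum, mul_add, Finset.mul_sum, e1, Finset.sum_congr rfl e2]
  rcases Nat.eq_zero_or_pos N with hN | hN
  · refine ⟨fun _ => 0, ?_⟩
    have h0 := hD ⊥ (fun h => absurd h (by omega))
    rw [Ideal.mem_bot, sub_eq_zero, hXE] at h0
    have hempty : Finset.Icc 1 N = ∅ := by
      rw [hN]; rfl
    rw [hempty, Finset.sum_empty] at h0 ⊢
    rw [← h0]; exact hsum_mem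
  · obtain ⟨R, hR⟩ := Ideal.mem_span_singleton'.1
      (hD (Ideal.span {Polynomial.C (U ^ s)}) (fun _ => Ideal.subset_span rfl))
    refine ⟨fun i => Polynomial.X ^ i * Polynomial.C (c i) +
      if i = N then R * Polynomial.C (U ^ (s - N)) else 0, ?_⟩
    have hUs : Polynomial.C (U ^ s) = Polynomial.C (U ^ (s - N)) * Polynomial.C U ^ N := by
      rw [← map_pow, ← map_mul, ← pow_add, Nat.sub_add_cancel hs]
    have h1 : ∀ i ∈ Finset.Icc 1 N,
        (Polynomial.X ^ i * Polynomial.C (c i) +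
          if i = N then R * Polynomial.C (U ^ (s - N)) else 0) *
          (Polynomial.X * Polynomial.C ζ) ^ (N - i) * Polynomial.C U ^ i =
        (Polynomial.X ^ i * Polynomial.C (c i)) * (Polynomial.X * Polynomial.C ζ) ^ (N - i) *
          Polynomial.C U ^ i + (if i = N then R * Polynomial.C (U ^ s) else 0) := by
      intro i hi
      by_cases hiN : i = N
      · rw [if_pos hiN, if_pos hiN, hUs, hiN, Nat.sub_self, pow_zero]; ring
      · rw [if_neg hiN, if_neg hiN, add_zero, add_zero]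
    have h2 : ∑ i ∈ Finset.Icc 1 N, (if i = N then R * Polynomial.C (U ^ s) else 0) =
        R * Polynomial.C (U ^ s) := by
      rw [Finset.sum_ite_eq' (Finset.Icc 1 N) N (fun _ => R * Polynomial.C (U ^ s)),
        if_pos (Finset.mem_Icc.2 ⟨hN, le_refl N⟩)]
    have hT : (Polynomial.X * Polynomial.C ζ) ^ N +
        ∑ i ∈ Finset.Icc 1 N, (Polynomial.X ^ i * Polynomial.C (c i) +
          if i = N then R * Polynomial.C (U ^ (s - N)) else 0) *
          (Polynomial.X * Polynomial.C ζ) ^ (N - i) * Polynomial.C U ^ i =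
        ∑ l, Polynomial.C (a l) * g l := by
      rw [Finset.sum_congr rfl h1, Finset.sum_add_distrib, h2, ← add_assoc, ← hXE, hR]
      exact add_sub_cancel _ _
    exact hT ▸ hsum_mem


/-- The chart computation of its proof: let k be a commutative ring, P = k[x_1, …, x_d, w_1, …, w_n] a
polynomial ring in two groups of variables, u a polynomial in the x-variables alone, v a vector in
k^d, J a set of indices among the w-variables with ζ = ∏_{j ∈ J} w_j, and N ≤ s natural numbers. Let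
(f_λ) be a finite family of elements of P, each of total degree at most N in the x-variables, and
assume that ζ^N + c_1 ζ^(N-1) u + ⋯ + c_N u^N lies in the ideal generated by the f_λ for some c_1,
…, c_N ∈ P. For each λ let φ_λ ∈ P[τ] be the polynomial τ^N · f_λ(x + u^s v/τ, w), written out
monomial by monomial: a monomial a·x^m·w^m' of x-degree e = |m| contributes a · τ^(N-e) · ∏_i (τ x_i
+ u^s v_i)^(m_i) · w^m'. Then there are c'_1, …, c'_N ∈ P[τ] with (τζ)^N + c'_1 (τζ)^(N-1) u + ⋯ +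
c'_N u^N in the ideal of P[τ] generated by the φ_λ. (This identity is what shows that translating a
cycle by t·u^s·v preserves the modulus condition on the chart whose coordinates are the z_i and the
1/z_j, with τ = 1/t; integrality of ζ/u, resp. τζ/u, is expressed by such monic binary forms.) -/
theorem result
    {k : Type u} [CommRing k] (d n : ℕ) (u : MvPolynomial (Fin d) k) (v : Fin d → k)
    (J : Finset (Fin n)) (N s : ℕ) (hs : N ≤ s)
    {Λ : Type u} [Fintype Λ] (f : Λ → MvPolynomial (Fin d ⊕ Fin n) k)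
    (hdeg : ∀ l, ∀ m ∈ (f l).support, ∑ i : Fin d, m (Sum.inl i) ≤ N)
    (c : ℕ → MvPolynomial (Fin d ⊕ Fin n) k)
    (hE : (∏ j ∈ J, MvPolynomial.X (Sum.inr j)) ^ N +
        ∑ i ∈ Finset.Icc 1 N, c i * (∏ j ∈ J, MvPolynomial.X (Sum.inr j)) ^ (N - i) *
          MvPolynomial.rename Sum.inl u ^ i ∈ Ideal.span (Set.range f)) :
    ∃ c' : ℕ → Polynomial (MvPolynomial (Fin d ⊕ Fin n) k),
      (Polynomial.X * Polynomial.C (∏ j ∈ J, MvPolynomial.X (Sum.inr j))) ^ N +
        ∑ i ∈ Finset.Icc 1 N, c' i *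
          (Polynomial.X * Polynomial.C (∏ j ∈ J, MvPolynomial.X (Sum.inr j))) ^ (N - i) *
            Polynomial.C (MvPolynomial.rename Sum.inl u) ^ i ∈
      Ideal.span (Set.range fun l : Λ =>
        ∑ m ∈ (f l).support,
          Polynomial.C (MvPolynomial.C (MvPolynomial.coeff m (f l))) *
            Polynomial.X ^ (N - ∑ i : Fin d, m (Sum.inl i)) *
            (∏ i : Fin d, (Polynomial.X * Polynomial.C (MvPolynomial.X (Sum.inl i)) +
                Polynomial.C (MvPolynomial.rename Sum.inl u ^ s * MvPolynomial.C (v i))) ^ m (Sum.inl i)) *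
            ∏ j : Fin n, Polynomial.C (MvPolynomial.X (Sum.inr j)) ^ m (Sum.inr j)) := by
  exact main d n (MvPolynomial.rename Sum.inl u) v (∏ j ∈ J, MvPolynomial.X (Sum.inr j)) N s hs f hdeg c hE


end Groth.Agent.S16367
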