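import Groth.Statements.S16370
import Mathlib

set_option autoImplicit false
universe u
open CategoryTheory AlgebraicGeometry Opposite
open FrobSch

namespace Groth.Agent.S16370

/-- (ii) ⇒ (iii): let X be a reduced scheme of prime characteristic p, φ the p-th power map on the sheaf
of additive groups underlying O_X (a monomorphism, X being reduced) and B its cokernel in abelian
sheaves. If H^i(X, B) = 0 for all i ≥ 0, then the endomorphism of H^i(X, O_X) induced by φ — the
Hasse–Witt operation — is bijective for all i. (The source has X normal and proper over a perfect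
field; only reducedness enters this implication.) -/
theorem result
    (p : ℕ) [Fact p.Prime] (X : Scheme.{u}) [IsReduced X] (hp : (p : Γ(X, ⊤)) = 0)
    (φ : Coh.toAb (Coh.structureModule X) ⟶ Coh.toAb (Coh.structureModule X))
    (hφ : ∀ (U : X.Opens) (t : Γ(X, U)), φ.hom.app (op U) t = t ^ p)
    (hB : ∀ i : ℕ, Subsingleton (Sheaf.H (Limits.cokernel φ) i))
    (i : ℕ) : Function.Bijective (Sheaf.H.map φ i) := by
  -- φ is a monomorphism
  have hinj : ∀ U : (TopologicalSpace.Opens X)ᵒᵖ, Function.Injective (φ.hom.app U) := by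
    intro U
    obtain ⟨U⟩ := U
    rw [injective_iff_map_eq_zero]
    intro t ht
    have key : ∀ s : Γ(X, U), s ^ p = 0 → s = 0 := fun s hs =>
      (pow_eq_zero_iff (Fact.out : p.Prime).ne_zero).mp hs
    exact key t ((hφ U t).symm.trans ht)
  have hmono' : ∀ U, Mono (φ.hom.app U) := fun U =>
    (AddCommGrpCat.mono_iff_injective _).mpr (hinj U)
  have hmono'' : Mono φ.hom := NatTrans.mono_of_mono_app _
  have hmono : Mono φ := Sheaf.Hom.mono_of_presheaf_mono _ _ φ
  let S : ShortComplex (Sheaf (Opens.grothendieckTopology X) AddCommGrpCat.{u}) :=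
    ShortComplex.mk φ (Limits.cokernel.π φ) (Limits.cokernel.condition φ)
  have hS : S.ShortExact :=
    { exact := ShortComplex.exact_cokernel φ
      mono_f := hmono
      epi_g := inferInstanceAs (Epi (Limits.cokernel.π φ)) }
  constructor
  · rw [injective_iff_map_eq_zero]
    intro x hx
    cases i with
    | zero =>
      exact (injective_iff_map_eq_zero _).mp
        (Abelian.Ext.postcomp_mk₀_injective_of_mono _ φ) x hx
    | succ i =>
      obtain ⟨x₃, rfl⟩ := Abelian.Ext.covariant_sequence_exact₁ _ hS x hx rfl
      have : x₃ = 0 := @Subsingleton.elim _ (hB i) _ _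
      rw [this, Abelian.Ext.zero_comp]
  · intro y
    have h0 : y.comp (Abelian.Ext.mk₀ S.g) (add_zero i) = 0 := @Subsingleton.elim _ (hB i) _ _
    obtain ⟨x, hx⟩ := Abelian.Ext.covariant_sequence_exact₂ _ hS y h0
    exact ⟨x, hx⟩

end Groth.Agent.S16370
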