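import Groth.Statements.S16371
import Mathlib

set_option autoImplicit false
universe u v w
open FrobAlg

namespace Groth.Agent.S16371

/-- Let p be a prime, A a commutative ring and B, C commutative A-algebras with p² = 0 in B. If two
A-algebra maps g₁, g₂ : C → B agree modulo p, then they agree on every element of C which is
congruent modulo p to an element of the A-subalgebra generated by the p-th powers. (The source
states this for liftings over a flat ℤ/p²-thickening of two smooth schemes and the subsheaf of
functions whose reduction lies in the image of the relative Frobenius; the smoothness and lifting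
hypotheses are not needed for the identity.) -/
theorem result
    (p : ℕ) [Fact p.Prime] (A : Type u) [CommRing A] (B : Type v) [CommRing B] [Algebra A B]
    (C : Type w) [CommRing C] [Algebra A C] (hp : (p : B) ^ 2 = 0)
    (g₁ g₂ : C →ₐ[A] B) (hg : ∀ x : C, g₁ x - g₂ x ∈ Ideal.span ({(p : B)} : Set B))
    (x y : C) (hy : y ∈ Algebra.adjoin A (Set.range fun c : C => c ^ p))
    (hxy : x - y ∈ Ideal.span ({(p : C)} : Set C)) :
    g₁ x = g₂ x := by
  have hp2 : (p : B) * (p : B) = 0 := by rw [← sq]; exact hp
  -- agreement on p-th powers
  have hpow : ∀ c : C, g₁ (c ^ p) = g₂ (c ^ p) := by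
    intro c
    obtain ⟨b, hb⟩ := Ideal.mem_span_singleton'.mp (hg c)
    have h1 : g₁ c = b * p + g₂ c := by rw [hb]; ring
    rw [map_pow, map_pow, h1, add_pow]
    rw [Finset.sum_range_succ', Finset.sum_eq_zero]
    · simp
    · intro k _
      rcases Nat.eq_zero_or_pos k with rfl | hk
      · -- k+1 = 1 : coefficient p.choose 1 = p
        simp only [zero_add, pow_one, Nat.choose_one_right]
        have : b * ↑p * g₂ c ^ (p - 1) * (p : B) = b * g₂ c ^ (p - 1) * ((p : B) * p) := by ring
        rw [this, hp2, mul_zero]
      · have : (b * (p : B)) ^ (k + 1) = 0 := by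
          rw [mul_pow]
          have : (p : B) ^ (k + 1) = 0 := by
            have : k + 1 = 2 + (k - 1) := by omega
            rw [this, pow_add, hp, zero_mul]
          rw [this, mul_zero]
        rw [this, zero_mul, zero_mul]
  have hadj : ∀ y ∈ Algebra.adjoin A (Set.range fun c : C => c ^ p), g₁ y = g₂ y := by
    intro y hy
    have : Algebra.adjoin A (Set.range fun c : C => c ^ p) ≤ AlgHom.equalizer g₁ g₂ := by
      rw [Algebra.adjoin_le_iff]
      rintro _ ⟨c, rfl⟩
      exact hpow c
    exact this hy
  obtain ⟨c, hc⟩ := Ideal.mem_span_singleton'.mp hxy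
  have hx : x = y + c * p := by rw [hc]; ring
  obtain ⟨b, hb⟩ := Ideal.mem_span_singleton'.mp (hg c)
  have h1 : g₁ c = g₂ c + b * p := by rw [hb]; ring
  rw [hx, map_add, map_add, hadj y hy, map_mul, map_mul, h1, map_natCast, map_natCast]
  have : (g₂ c + b * ↑p) * (p : B) = g₂ c * p + b * ((p : B) * p) := by ring
  rw [this, hp2, mul_zero, add_zero]

end Groth.Agent.S16371
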