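import Groth.Statements.S16374
import Mathlib

set_option autoImplicit false
universe u v w
open FrobAlg
open scoped KaehlerDifferential

namespace Groth.Agent.S16374

/-- Let p be a prime, A a commutative ring, B and C commutative A-algebras with p² = 0 in B, and g : C →
B an A-algebra map such that every g(c) is congruent modulo p to an element of the A-subalgebra of B
generated by the p-th powers (g lifts a relative Frobenius). Then d(g(x)) = 0 in the module of
Kähler differentials of B over A for every x ∈ C that is congruent modulo p to an element of the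
A-subalgebra of C generated by the p-th powers. (The source works with a lifting of the relative
Frobenius of a smooth scheme over a ℤ/p²-thickening and the subsheaf of functions whose reduction
comes from the Frobenius twist; smoothness is not needed for this vanishing.) -/
theorem result
    (p : ℕ) [Fact p.Prime] (A : Type u) [CommRing A] (B : Type v) [CommRing B] [Algebra A B]
    (C : Type w) [CommRing C] [Algebra A C] (hp : (p : B) ^ 2 = 0)
    (g : C →ₐ[A] B)
    (hg : ∀ c : C, ∃ u ∈ Algebra.adjoin A (Set.range fun b : B => b ^ p),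
      g c - u ∈ Ideal.span ({(p : B)} : Set B))
    (x y : C) (hy : y ∈ Algebra.adjoin A (Set.range fun c : C => c ^ p))
    (hxy : x - y ∈ Ideal.span ({(p : C)} : Set C)) :
    KaehlerDifferential.D A B (g x) = 0 := by
  set D := KaehlerDifferential.D A B with hD
  have hp2 : ∀ ω : Ω[B⁄A], (p : B) • ((p : B) • ω) = 0 := by
    intro ω
    rw [smul_smul, ← sq, hp, zero_smul]
  have hDp : D (p : B) = 0 := by
    have : (p : B) = algebraMap A B (p : A) := by simp
    rw [this]; exact D.map_algebraMap _
  -- Lemma 1: D u ∈ p • Ω for u in A[B^p]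
  have h1 : ∀ u ∈ Algebra.adjoin A (Set.range fun b : B => b ^ p), ∃ ω : Ω[B⁄A], D u = (p : B) • ω := by
    intro u hu
    induction hu using Algebra.adjoin_induction with
    | mem u hu =>
      obtain ⟨b, rfl⟩ := hu
      refine ⟨b ^ (p - 1) • D b, ?_⟩
      simp only
      rw [Derivation.leibniz_pow, Nat.cast_smul_eq_nsmul]
    | algebraMap a => exact ⟨0, by rw [D.map_algebraMap, smul_zero]⟩
    | add u v _ _ hu hv =>
      obtain ⟨ω₁, h₁⟩ := hu
      obtain ⟨ω₂, h₂⟩ := hv
      exact ⟨ω₁ + ω₂, by rw [map_add, h₁, h₂, smul_add]⟩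
    | mul u v _ _ hu hv =>
      obtain ⟨ω₁, h₁⟩ := hu
      obtain ⟨ω₂, h₂⟩ := hv
      refine ⟨u • ω₂ + v • ω₁, ?_⟩
      rw [Derivation.leibniz, h₁, h₂, smul_add, smul_comm u, smul_comm v]
  -- Lemma 2: D (g c) ∈ p • Ω
  have h2 : ∀ c : C, ∃ ω : Ω[B⁄A], D (g c) = (p : B) • ω := by
    intro c
    obtain ⟨u, hu, hcu⟩ := hg c
    obtain ⟨b, hb⟩ := Ideal.mem_span_singleton'.mp hcu
    obtain ⟨ω, hω⟩ := h1 u hu
    have : g c = u + b * p := by rw [hb]; ring
    refine ⟨ω + D b, ?_⟩
    rw [this, map_add, hω, Derivation.leibniz, hDp, smul_zero, zero_add, smul_add]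
  -- Lemma 3: D (g y) = 0 for y in A[C^p]
  have h3 : ∀ y ∈ Algebra.adjoin A (Set.range fun c : C => c ^ p), D (g y) = 0 := by
    intro y hy
    induction hy using Algebra.adjoin_induction with
    | mem y hy =>
      obtain ⟨c, rfl⟩ := hy
      obtain ⟨ω, hω⟩ := h2 c
      simp only
      rw [map_pow, Derivation.leibniz_pow, hω, ← Nat.cast_smul_eq_nsmul B,
        smul_comm (g c ^ (p - 1)) (p : B) ω, hp2]
    | algebraMap a => rw [AlgHom.commutes, D.map_algebraMap]
    | add u v _ _ hu hv => rw [map_add, map_add, hu, hv, add_zero]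
    | mul u v _ _ hu hv => rw [map_mul, Derivation.leibniz, hu, hv, smul_zero, smul_zero, add_zero]
  obtain ⟨c, hc⟩ := Ideal.mem_span_singleton'.mp hxy
  have hx : x = y + c * p := by rw [hc]; ring
  obtain ⟨ω, hω⟩ := h2 c
  rw [hx, map_add, map_add, h3 y hy, zero_add, map_mul, map_natCast, Derivation.leibniz, hDp,
    smul_zero, zero_add, hω, hp2]

end Groth.Agent.S16374
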