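import Groth.Statements.S1638
import Mathlib.RingTheory.Flat.Basic
import Mathlib.LinearAlgebra.FreeModule.Basic
import Mathlib.LinearAlgebra.Basis.VectorSpace
-- import your own Groth.Agent.* helpers here

set_option autoImplicit false
universe u
open Brauer

namespace Groth.Agent.S1638

/-- Let A and A' be algebras over a field k with subalgebras B ⊆ A and B' ⊆ A' having centralizers C and
C'. Then the centralizer of the image of B ⊗ B' in A ⊗_k A' is the image of C ⊗_k C'. -/
theorem result (k : Type u) [Field k] (A A' : Type u) [Ring A] [Ring A'] [Algebra k A] [Algebra k A']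
    (B : Subalgebra k A) (B' : Subalgebra k A') :
    Subalgebra.centralizer k ((Algebra.TensorProduct.map B.val B'.val).range : Set (TensorProduct k A A')) =
      (Algebra.TensorProduct.map (Subalgebra.centralizer k (B : Set A)).val (Subalgebra.centralizer k (B' : Set A')).val).range := by
  set C := Subalgebra.centralizer k (B : Set A) with hC
  set C' := Subalgebra.centralizer k (B' : Set A') with hC'
  apply le_antisymm
  · intro w hw
    rw [Subalgebra.mem_centralizer_iff] at hw
    -- step 1: w ∈ C ⊗ A'
    have h1 : w ∈ Subalgebra.centralizer k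
        (Algebra.TensorProduct.includeLeft (R := k) (S := k) (A := A) (B := A') '' (B : Set A)) := by
      rw [Subalgebra.mem_centralizer_iff]
      rintro _ ⟨b, hb, rfl⟩
      apply hw
      exact ⟨(⟨b, hb⟩ : B) ⊗ₜ[k] (1 : B'), by simp⟩
    rw [Subalgebra.centralizer_coe_image_includeLeft_eq_center_tensorProduct] at h1
    obtain ⟨w', rfl⟩ := h1
    have hinj : Function.Injective
        (Algebra.TensorProduct.map C.val (AlgHom.id k A')) := by
      have : ⇑(Algebra.TensorProduct.map C.val (AlgHom.id k A')) =
          ⇑(LinearMap.rTensor A' C.val.toLinearMap) := by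
        ext x
        induction x using TensorProduct.induction_on with
        | zero => simp
        | tmul a b => simp
        | add x y hx hy => simp only [map_add, hx, hy]
      rw [this]
      exact Module.Flat.rTensor_preserves_injective_linearMap _ Subtype.val_injective
    -- step 2
    have h2 : w' ∈ Subalgebra.centralizer k
        (Algebra.TensorProduct.includeRight (R := k) (A := C) (B := A') '' (B' : Set A')) := by
      rw [Subalgebra.mem_centralizer_iff]
      rintro _ ⟨b', hb', rfl⟩
      apply hinj
      rw [map_mul, map_mul]
      have := hw ((1 : A) ⊗ₜ[k] b') ⟨(1 : B) ⊗ₜ[k] (⟨b', hb'⟩ : B'), by simp⟩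
      simpa using this
    rw [Subalgebra.centralizer_coe_image_includeRight_eq_center_tensorProduct] at h2
    obtain ⟨z, rfl⟩ := h2
    refine ⟨z, ?_⟩
    have := Algebra.TensorProduct.map_comp C.val (AlgHom.id k C) (AlgHom.id k A') C'.val
    have h3 := AlgHom.congr_fun this z
    simp only [AlgHom.comp_id, AlgHom.id_comp] at h3
    exact h3
  · rintro _ ⟨z, rfl⟩
    rw [Subalgebra.mem_centralizer_iff]
    rintro _ ⟨y, rfl⟩
    induction z using TensorProduct.induction_on with
    | zero => simp
    | tmul c c' =>
      induction y using TensorProduct.induction_on with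
      | zero => simp
      | tmul b b' =>
        simp only [AlgHom.toRingHom_eq_coe, RingHom.coe_coe, Algebra.TensorProduct.map_tmul,
          Subalgebra.coe_val, Algebra.TensorProduct.tmul_mul_tmul]
        rw [(Subalgebra.mem_centralizer_iff k).1 c.2 b b.2,
          (Subalgebra.mem_centralizer_iff k).1 c'.2 b' b'.2]
      | add y₁ y₂ h₁ h₂ => rw [map_add, add_mul, mul_add, h₁, h₂]
    | add z₁ z₂ h₁ h₂ => rw [map_add, add_mul, mul_add, h₁, h₂]

end Groth.Agent.S1638
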