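import Groth.Statements.S1639
import Mathlib
import Groth.Agent.S8879
import Groth.Agent.S8881
import Groth.Agent.Lib.Helper2.PushPt1
import Groth.Agent.Lib.Helper12.PullAmple

set_option autoImplicit false
universe u
open CategoryTheory CategoryTheory.Limits AlgebraicGeometry
open Divisors

namespace Groth.Agent.S1639

/-- Let π : X → Y be finite and surjective, with Y integral and normal. If X has an ample invertible
module then so does Y. -/
theorem result {X Y : Scheme.{u}} (π : X ⟶ Y) [IsFinite π] [Surjective π]
    [IsIntegral Y] (hY : Pi1.IsNormalScheme Y) (L : X.Modules) (hL : CohB1.IsAmple L) :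
    ∃ M : Y.Modules, CohB1.IsAmple M := by
  obtain ⟨ξ, hξ⟩ := Surjective.surj (f := π) (genericPoint Y)
  let π' : Groth.Agent.Lib.helper2.PushPt.Wc ξ ⟶ Y := Groth.Agent.Lib.helper2.PushPt.jc ξ ≫ π
  have : IsFinite π' := inferInstance
  have hcl : IsClosed (Set.range π') := π'.isClosedMap.isClosed_range
  have hη : genericPoint Y ∈ Set.range π' :=
    ⟨genericPoint (Groth.Agent.Lib.helper2.PushPt.Wc ξ), by
      rw [Scheme.Hom.comp_apply, Groth.Agent.Lib.helper2.PushPt.jc_genericPoint, hξ]⟩
  have hrange : Set.range π' = Set.univ := by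
    have h1 := (genericPoint_spec Y).def
    have h2 : closure {genericPoint Y} ⊆ Set.range π' :=
      hcl.closure_subset_iff.mpr (Set.singleton_subset_iff.mpr hη)
    rw [h1] at h2
    exact Set.eq_univ_of_univ_subset h2
  have : Surjective π' := ⟨Set.range_eq_univ.mp hrange⟩
  obtain ⟨d, hd⟩ := Groth.Agent.S8881.result π' hY
  have hL' := Groth.Agent.Lib.helper12.PullAmple.isAmple_pullback_of_isAffineHom
    (Groth.Agent.Lib.helper2.PushPt.jc ξ) hL
  exact Groth.Agent.S8879.result π' d hd _ hL'

end Groth.Agent.S1639
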