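import Groth.Statements.S16390
import Mathlib

set_option autoImplicit false
open AbVar

namespace Groth.Agent.S16390

theorem part1 (p r : ℕ) (hp : p.Prime) (hr : 2 < r) :
    Irreducible (Polynomial.X ^ 2 - Polynomial.C (p : ℚ) * Polynomial.X
      + Polynomial.C ((p : ℚ) ^ r)) := by
  have hdeg : (Polynomial.X ^ 2 - Polynomial.C (p : ℚ) * Polynomial.X
      + Polynomial.C ((p : ℚ) ^ r)).natDegree = 2 := by
    have e : (Polynomial.X ^ 2 - Polynomial.C (p : ℚ) * Polynomial.X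
        + Polynomial.C ((p : ℚ) ^ r))
        = Polynomial.C 1 * Polynomial.X ^ 2 + Polynomial.C (-(p : ℚ)) * Polynomial.X
          + Polynomial.C ((p : ℚ) ^ r) := by
      rw [Polynomial.C_1, one_mul, Polynomial.C_neg, neg_mul, sub_eq_add_neg]
    rw [e]
    exact Polynomial.natDegree_quadratic one_ne_zero
  apply Polynomial.irreducible_of_degree_le_three_of_not_isRoot
  · rw [hdeg]; decide
  · intro x hx
    rw [Polynomial.IsRoot.def, Polynomial.eval_add, Polynomial.eval_sub, Polynomial.eval_pow,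
      Polynomial.eval_mul, Polynomial.eval_C, Polynomial.eval_X, Polynomial.eval_C] at hx
    have hp2 : (2 : ℚ) ≤ p := by exact_mod_cast hp.two_le
    have h1 : (p : ℚ) ^ 3 ≤ (p : ℚ) ^ r := pow_le_pow_right₀ (by linarith) (by omega)
    have h2 : (p : ℚ) ^ 3 = p * p * p := by ring
    nlinarith [sq_nonneg (x - p / 2), mul_pos (show (0 : ℚ) < p by linarith) (show (0 : ℚ) < p by linarith)]

theorem part2 (p r : ℕ) (hp : p.Prime) (hr : 2 < r) (π : ℂ)
    (hπ : π ^ 2 - (p : ℂ) * π + (p : ℂ) ^ r = 0) : ‖π‖ = Real.sqrt ((p : ℝ) ^ r) := by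
  have hp2 : (2 : ℝ) ≤ p := by exact_mod_cast hp.two_le
  have h1 : (p : ℝ) ^ 3 ≤ (p : ℝ) ^ r := pow_le_pow_right₀ (by linarith) (by omega)
  have h2 : (p : ℝ) ^ 3 = p * p * p := by ring
  have hpp : (0 : ℝ) < p * p := mul_pos (by linarith) (by linarith)
  have hcast : (p : ℂ) ^ r = (((p : ℝ) ^ r : ℝ) : ℂ) := by push_cast; rfl
  have hcast2 : (p : ℂ) = ((p : ℝ) : ℂ) := by push_cast; rfl
  rw [hcast, hcast2] at hπ
  generalize (p : ℝ) ^ r = Q at *
  generalize (p : ℝ) = P at *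
  obtain ⟨x, y⟩ := π
  have hre := congrArg Complex.re hπ
  have him := congrArg Complex.im hπ
  simp only [pow_two, Complex.add_re, Complex.sub_re, Complex.mul_re, Complex.ofReal_re,
    Complex.ofReal_im, Complex.zero_re, Complex.add_im, Complex.sub_im, Complex.mul_im,
    Complex.zero_im, zero_mul, sub_zero, add_zero] at hre him
  have hsq : ‖(⟨x, y⟩ : ℂ)‖ ^ 2 = Q := by
    rw [Complex.sq_norm, Complex.normSq_mk]
    have hy : y * (2 * x - P) = 0 := by linarith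
    rcases mul_eq_zero.mp hy with hy0 | hx2
    · exfalso
      rw [hy0] at hre
      nlinarith [sq_nonneg (x - P / 2)]
    · have hx : x = P / 2 := by linarith
      rw [hx] at hre ⊢
      nlinarith
  rw [← hsq, Real.sqrt_sq (norm_nonneg _)]

theorem unit_val (p : ℕ) [hp : Fact p.Prime] (z : ℤ_[p]) (hz : ‖z‖ = 1) :
    z ≠ 0 ∧ z.valuation = 0 := by
  have hz0 : z ≠ 0 := by
    intro h; rw [h, norm_zero] at hz; exact zero_ne_one hz
  refine ⟨hz0, ?_⟩
  have h := PadicInt.norm_eq_zpow_neg_valuation hz0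
  rw [hz] at h
  have hp1 : (p : ℝ) ≠ 1 := by exact_mod_cast hp.out.one_lt.ne'
  have h0 := (zpow_eq_one_iff_right₀ (Nat.cast_nonneg p) hp1).mp h.symm
  omega

theorem part3 (p r : ℕ) [hp : Fact p.Prime] (hr : 2 < r) :
    ∃ a b : ℚ_[p], a ≠ b ∧ a ^ 2 - (p : ℚ_[p]) * a + (p : ℚ_[p]) ^ r = 0 ∧
      b ^ 2 - (p : ℚ_[p]) * b + (p : ℚ_[p]) ^ r = 0 ∧ a.valuation = 1 ∧
      b.valuation = (r : ℤ) - 1 := by
  let F : Polynomial ℤ := Polynomial.X ^ 2 - Polynomial.X + Polynomial.C ((p : ℤ) ^ (r - 2))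
  have hF : ∀ z : ℤ_[p], Polynomial.aeval z F = z ^ 2 - z + (p : ℤ_[p]) ^ (r - 2) := by
    intro z; simp [F]
  have hdF : Polynomial.derivative F = Polynomial.C 2 * Polynomial.X - 1 := by
    show Polynomial.derivative (Polynomial.X ^ 2 - Polynomial.X
      + Polynomial.C ((p : ℤ) ^ (r - 2))) = _
    rw [Polynomial.derivative_add, Polynomial.derivative_sub, Polynomial.derivative_C,
      Polynomial.derivative_X, Polynomial.derivative_X_pow, add_zero]
    norm_num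
  have hF' : ∀ z : ℤ_[p], Polynomial.aeval z (Polynomial.derivative F) = 2 * z - 1 := by
    intro z
    rw [hdF, map_sub, map_mul, Polynomial.aeval_C, Polynomial.aeval_X, map_one, eq_intCast,
      Int.cast_ofNat]
  have hc : ‖((p : ℤ_[p]) ^ (r - 2))‖ < 1 := by
    rw [norm_pow, PadicInt.norm_p]
    apply pow_lt_one₀ (by positivity)
    · apply inv_lt_one_of_one_lt₀
      exact_mod_cast hp.out.one_lt
    · omega
  have hc0 : ((p : ℤ_[p]) ^ (r - 2)) ≠ 0 := pow_ne_zero _ (by exact_mod_cast hp.out.ne_zero)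
  -- root near 0
  obtain ⟨z₀, hz₀, hz₀n, -, -⟩ := hensels_lemma (F := F) (a := (0 : ℤ_[p])) (by
    rw [hF, hF']; simpa using hc)
  -- root near 1
  obtain ⟨z₁, hz₁, hz₁n, -, -⟩ := hensels_lemma (F := F) (a := (1 : ℤ_[p])) (by
    rw [hF, hF']; norm_num; simpa using hc)
  rw [hF] at hz₀ hz₁
  rw [hF'] at hz₀n hz₁n
  have hz₀n' : ‖z₀‖ < 1 := by simpa using hz₀n
  have hz₁n' : ‖z₁ - 1‖ < 1 := by
    have : ‖(2 * 1 - 1 : ℤ_[p])‖ = 1 := by norm_num
    rw [this] at hz₁n; exact hz₁n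
  -- z₁ is a unit
  have hz₁u : ‖z₁‖ = 1 := by
    have e : z₁ = (z₁ - 1) + 1 := by ring
    rw [e, PadicInt.norm_add_eq_max_of_ne (by rw [norm_one]; exact hz₁n'.ne), norm_one]
    exact max_eq_right hz₁n'.le
  obtain ⟨hz₁0, hv₁⟩ := unit_val p z₁ hz₁u
  -- 1 - z₀ is a unit
  have hu : ‖1 - z₀‖ = 1 := by
    have e : 1 - z₀ = (-z₀) + 1 := by ring
    rw [e, PadicInt.norm_add_eq_max_of_ne (by rw [norm_one, norm_neg]; exact hz₀n'.ne), norm_one,
      norm_neg]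
    exact max_eq_right hz₀n'.le
  obtain ⟨hu0, hvu⟩ := unit_val p (1 - z₀) hu
  have hprod : z₀ * (1 - z₀) = (p : ℤ_[p]) ^ (r - 2) := by
    linear_combination (-1 : ℤ_[p]) * hz₀
  have hz₀0 : z₀ ≠ 0 := by
    intro h; rw [h, zero_mul] at hprod; exact hc0 hprod.symm
  have hv₀ : z₀.valuation = r - 2 := by
    have h := congrArg PadicInt.valuation hprod
    rw [PadicInt.valuation_mul hz₀0 hu0, hvu, PadicInt.valuation_pow, PadicInt.valuation_p] at h
    omega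
  have hp0 : (p : ℤ_[p]) ≠ 0 := by exact_mod_cast hp.out.ne_zero
  have hva : ((p : ℤ_[p]) * z₁).valuation = 1 := by
    rw [PadicInt.valuation_mul hp0 hz₁0, PadicInt.valuation_p, hv₁]
  have hvb : ((p : ℤ_[p]) * z₀).valuation = r - 1 := by
    rw [PadicInt.valuation_mul hp0 hz₀0, PadicInt.valuation_p, hv₀]; omega
  have hpow : (p : ℤ_[p]) ^ r = (p : ℤ_[p]) ^ 2 * (p : ℤ_[p]) ^ (r - 2) := by
    rw [← pow_add]; congr 1; omega
  have heq : ∀ z : ℤ_[p], z ^ 2 - z + (p : ℤ_[p]) ^ (r - 2) = 0 →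
      (((p : ℤ_[p]) * z : ℤ_[p]) : ℚ_[p]) ^ 2 - (p : ℚ_[p]) * (((p : ℤ_[p]) * z : ℤ_[p]) : ℚ_[p])
        + (p : ℚ_[p]) ^ r = 0 := by
    intro z hz
    have h1 : ((p : ℤ_[p]) * z) ^ 2 - (p : ℤ_[p]) * ((p : ℤ_[p]) * z) + (p : ℤ_[p]) ^ r = 0 := by
      rw [hpow]; linear_combination (p : ℤ_[p]) ^ 2 * hz
    have h2 : ((((p : ℤ_[p]) * z) ^ 2 - (p : ℤ_[p]) * ((p : ℤ_[p]) * z)
        + (p : ℤ_[p]) ^ r : ℤ_[p]) : ℚ_[p]) = ((0 : ℤ_[p]) : ℚ_[p]) := by rw [h1]
    push_cast at h2 ⊢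
    exact h2
  refine ⟨(((p : ℤ_[p]) * z₁ : ℤ_[p]) : ℚ_[p]), (((p : ℤ_[p]) * z₀ : ℤ_[p]) : ℚ_[p]), ?_,
    heq z₁ hz₁, heq z₀ hz₀, ?_, ?_⟩
  · intro h
    have h3 := congrArg Padic.valuation h
    rw [PadicInt.valuation_coe, PadicInt.valuation_coe, hva, hvb] at h3
    omega
  · rw [PadicInt.valuation_coe, hva]; rfl
  · rw [PadicInt.valuation_coe, hvb]; omega



/-- Let p be a prime number, r > 2 and q = p^r. The polynomial x² − p x + q is irreducible over ℚ, each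
of its complex roots has absolute value √q (so its roots are Weil q-numbers), and it has two
distinct roots in ℚ_p, of p-adic valuations 1 and r − 1. The published lemma also computes the index
of the endomorphism algebra of the simple abelian variety attached to a root; this row does not
state that part. -/
theorem result (p r : ℕ) [Fact p.Prime] (hr : 2 < r) :
    Irreducible (Polynomial.X ^ 2 - Polynomial.C (p : ℚ) * Polynomial.X + Polynomial.C ((p : ℚ) ^ r)) ∧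
      (∀ π : ℂ, π ^ 2 - (p : ℂ) * π + (p : ℂ) ^ r = 0 → ‖π‖ = Real.sqrt ((p : ℝ) ^ r)) ∧
      ∃ a b : ℚ_[p], a ≠ b ∧ a ^ 2 - (p : ℚ_[p]) * a + (p : ℚ_[p]) ^ r = 0 ∧
        b ^ 2 - (p : ℚ_[p]) * b + (p : ℚ_[p]) ^ r = 0 ∧ a.valuation = 1 ∧ b.valuation = (r : ℤ) - 1 := by
  exact ⟨part1 p r Fact.out hr, fun π hπ => part2 p r Fact.out hr π hπ, part3 p r hr⟩


end Groth.Agent.S16390
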