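import Groth.Statements.S16394
import Mathlib

set_option autoImplicit false
universe u
open CategoryTheory MonoidalCategory CartesianMonoidalCategory MonObj GrpObj AlgebraicGeometry
open AbVar

namespace Groth.Agent.S16394

open AlgebraicGeometry.Scheme AlgebraicGeometry.Scheme.IdealSheafData TopologicalSpace in
/-- ACC for ideal sheaves on a Noetherian scheme (argument as in helper21's `CartSum2`). -/
theorem wellFoundedGT_idealSheafData (X : Scheme.{u}) [IsNoetherian X] :
    WellFoundedGT X.IdealSheafData := by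
  rw [wellFoundedGT_iff_monotone_chain_condition]
  intro a
  obtain ⟨s, hs, hcov⟩ := (isCompact_and_isOpen_iff_finite_and_eq_biUnion_affineOpens (X := X)
    (U := Set.univ)).mp ⟨isCompact_univ, isOpen_univ⟩
  have hstab : ∀ U : X.affineOpens, ∃ n, ∀ m, n ≤ m → (a n).ideal U = (a m).ideal U := by
    intro U
    haveI : IsNoetherianRing Γ(X, U.1) := IsLocallyNoetherian.component_noetherian U
    exact monotone_stabilizes_iff_noetherian.mpr inferInstance
      ⟨fun n => (a n).ideal U, fun m n h => a.monotone h U⟩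
  choose N hN using hstab
  obtain ⟨n, hn⟩ : ∃ n, ∀ U ∈ s, N U ≤ n := by
    obtain ⟨n, hn⟩ := (hs.image N).bddAbove
    exact ⟨n, fun U hU => hn ⟨U, hU, rfl⟩⟩
  refine ⟨n, fun m hm => ?_⟩
  refine ext_of_iSup_eq_top (fun U : s => U.1) ?_ (fun U => ?_)
  · rw [eq_top_iff]
    intro x _
    have hx : x ∈ ⋃ i ∈ s, ((i : X.Opens) : Set X) := hcov ▸ Set.mem_univ x
    obtain ⟨U, hU, hxU⟩ := Set.mem_iUnion₂.mp hx
    exact Opens.mem_iSup.mpr ⟨⟨U, hU⟩, hxU⟩
  · rw [← hN U.1 n (hn U.1 U.2), ← hN U.1 m ((hn U.1 U.2).trans hm)]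

section

open CategoryTheory.Limits

variable {S : Scheme.{u}} {X A : Over S} [GrpObj A]

/-- The ideal sheaf of the kernel of `ψ` (the fibre over the unit section). -/
noncomputable def kerIdeal (ψ : X ⟶ A) : X.left.IdealSheafData :=
  (pullback.fst ψ.left (η[A] : 𝟙_ (Over S) ⟶ A).left).ker

theorem comp_eq_one_iff [IsSeparated A.hom] (ψ : X ⟶ A) {T : Over S} (x : T ⟶ X) :
    x ≫ ψ = 1 ↔ kerIdeal ψ ≤ x.left.ker := by
  have hη : (η[A] : 𝟙_ (Over S) ⟶ A).left ≫ A.hom = 𝟙 S := Over.w η[A]
  have hone : ((1 : T ⟶ A)).left = T.hom ≫ (η[A] : 𝟙_ (Over S) ⟶ A).left := rfl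
  constructor
  · intro h
    have h1 : x.left ≫ ψ.left = T.hom ≫ (η[A] : 𝟙_ (Over S) ⟶ A).left := by
      rw [← hone, ← h]; rfl
    have h2 : pullback.lift x.left T.hom h1 ≫
        pullback.fst ψ.left (η[A] : 𝟙_ (Over S) ⟶ A).left = x.left := pullback.lift_fst _ _ _
    have h3 := Scheme.Hom.le_ker_comp (pullback.lift x.left T.hom h1)
      (pullback.fst ψ.left (η[A] : 𝟙_ (Over S) ⟶ A).left)
    rw [h2] at h3
    exact h3
  · intro h
    haveI : IsClosedImmersion (η[A] : 𝟙_ (Over S) ⟶ A).left := by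
      haveI : IsClosedImmersion ((η[A] : 𝟙_ (Over S) ⟶ A).left ≫ A.hom) := by
        rw [hη]; exact inferInstanceAs (IsClosedImmersion (𝟙 S))
      exact IsClosedImmersion.of_comp _ A.hom
    haveI : IsClosedImmersion (pullback.fst ψ.left (η[A] : 𝟙_ (Over S) ⟶ A).left) :=
      inferInstance
    let l := IsClosedImmersion.lift (pullback.fst ψ.left (η[A] : 𝟙_ (Over S) ⟶ A).left) x.left h
    have hl : l ≫ pullback.fst ψ.left (η[A] : 𝟙_ (Over S) ⟶ A).left = x.left :=
      IsClosedImmersion.lift_fac _ _ _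
    have hsnd : l ≫ pullback.snd ψ.left (η[A] : 𝟙_ (Over S) ⟶ A).left = T.hom := by
      calc l ≫ pullback.snd ψ.left (η[A] : 𝟙_ (Over S) ⟶ A).left
          = l ≫ pullback.snd ψ.left (η[A] : 𝟙_ (Over S) ⟶ A).left ≫
              ((η[A] : 𝟙_ (Over S) ⟶ A).left ≫ A.hom) := by
            rw [hη]; exact (congrArg (l ≫ ·) (Category.comp_id _)).symm
        _ = l ≫ pullback.fst ψ.left (η[A] : 𝟙_ (Over S) ⟶ A).left ≫ ψ.left ≫ A.hom := by
            rw [← Category.assoc (pullback.snd _ _), ← pullback.condition, Category.assoc]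
        _ = x.left ≫ X.hom := by rw [← Category.assoc, hl, Over.w ψ]
        _ = T.hom := Over.w x
    apply Over.OverMorphism.ext
    rw [hone]
    change x.left ≫ ψ.left = _
    rw [← hl, Category.assoc, pullback.condition, ← Category.assoc, hsnd]

end

/-- (b₁) ⇒ (c₁): let k be a finite field and X, A abelian varieties over k (proper, geometrically
integral commutative group schemes over k). Suppose the common kernel of all homomorphisms X → A is
trivial: every T-valued point of X over k that is sent to the unit by every homomorphism X → A is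
the unit point (this is condition (b₁) for the trivial subgroup). Then there are finitely many
homomorphisms ψ_1, …, ψ_n : X → A which are jointly monomorphic on T-valued points — two T-valued
points of X with the same image under every ψ_i are equal — so that (ψ_i) is an injective
homomorphism X → A^n. The published statement restricts X and A to abelian varieties whose Frobenius
is killed by a fixed polynomial; this row has no such restriction. -/
theorem result
    (k : Type u) [Field k] [Finite k] (X A : Over (Spec (CommRingCat.of k))) [GrpObj X] [IsCommMonObj X] [IsProper X.hom] [GeometricallyIntegral X.hom]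
    [GrpObj A] [IsCommMonObj A] [IsProper A.hom] [GeometricallyIntegral A.hom]
    (hsep : ∀ (T : Over (Spec (CommRingCat.of k))) (x : T ⟶ X), (∀ f : EndAV.Hom X A, x ≫ f.toHom = 1) → x = 1) :
    ∃ (n : ℕ) (ψ : Fin n → EndAV.Hom X A), ∀ (T : Over (Spec (CommRingCat.of k))) (x y : T ⟶ X),
      (∀ i, x ≫ (ψ i).toHom = y ≫ (ψ i).toHom) → x = y := by
  classical
  haveI : IsLocallyNoetherian X.left := LocallyOfFiniteType.isLocallyNoetherian X.hom
  haveI : CompactSpace X.left := QuasiCompact.compactSpace_of_compactSpace X.hom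
  haveI : IsNoetherian X.left := ⟨⟩
  haveI := wellFoundedGT_idealSheafData X.left
  let 𝒮 : Set X.left.IdealSheafData :=
    {I | ∃ s : Finset (EndAV.Hom X A), I = s.sup fun φ => kerIdeal φ.toHom}
  have hne : 𝒮.Nonempty := ⟨⊥, ∅, by simp⟩
  obtain ⟨I, ⟨s, rfl⟩, hmax⟩ := WellFounded.has_min (wellFounded_gt) 𝒮 hne
  have hall : ∀ φ : EndAV.Hom X A,
      kerIdeal φ.toHom ≤ s.sup fun φ => kerIdeal φ.toHom := by
    intro φ
    by_contra hnot
    refine hmax ((insert φ s).sup fun φ => kerIdeal φ.toHom) ⟨insert φ s, rfl⟩ ?_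
    rw [Finset.sup_insert]
    exact lt_of_le_of_ne le_sup_right (fun h => hnot (h ▸ le_sup_left))
  refine ⟨s.card, fun i => (s.equivFin.symm i).1, ?_⟩
  intro T x y hxy
  have hxy' : ∀ φ ∈ s, x ≫ φ.toHom = y ≫ φ.toHom := by
    intro φ hφ
    have := hxy (s.equivFin ⟨φ, hφ⟩)
    simpa using this
  have hz : ∀ φ ∈ s, (x / y) ≫ φ.toHom = 1 := by
    intro φ hφ
    rw [GrpObj.div_comp, hxy' φ hφ, div_self']
  have hker : (s.sup fun φ => kerIdeal φ.toHom) ≤ (x / y).left.ker := by
    apply Finset.sup_le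
    intro φ hφ
    exact (comp_eq_one_iff φ.toHom (x / y)).mp (hz φ hφ)
  have h1 : x / y = 1 := by
    apply hsep
    intro φ
    exact (comp_eq_one_iff φ.toHom (x / y)).mpr ((hall φ).trans hker)
  exact div_eq_one.mp h1

end Groth.Agent.S16394
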