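import Groth.Statements.S16396
import Mathlib
-- import your own Groth.Agent.* helpers here

set_option autoImplicit false
universe u
open CAlg

namespace Groth.Agent.S16396

open Polynomial in
lemma C_coeff_mem (A : Type u) [CommRing A] [Algebra ℚ A] (B : Subalgebra ℚ A[X])
    (hX : (X : A[X]) ∈ B) (hD : ∀ P ∈ B, Polynomial.derivative P ∈ B) :
    ∀ (n : ℕ) (Q : A[X]), Q ∈ B → Q.natDegree ≤ n → ∀ i, C (Q.coeff i) ∈ B := by
  intro n
  induction n with
  | zero =>
    intro Q hQ hdeg i
    have hQC : Q = C (Q.coeff 0) := Polynomial.eq_C_of_natDegree_le_zero hdeg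
    rcases Nat.eq_zero_or_pos i with rfl | hi
    · rw [← hQC]; exact hQ
    · have : Q.coeff i = 0 := by
        rw [hQC, Polynomial.coeff_C, if_neg hi.ne']
      rw [this, map_zero]; exact B.zero_mem
  | succ n ih =>
    intro Q hQ hdeg i
    have hD' : (Polynomial.derivative Q).natDegree ≤ n := by
      have := Polynomial.natDegree_derivative_le Q
      omega
    have hsucc : ∀ j, C (Q.coeff (j + 1)) ∈ B := by
      intro j
      have h1 := ih _ (hD Q hQ) hD' j
      rw [Polynomial.coeff_derivative] at h1
      have h2 : C (Q.coeff (j + 1)) = ((j + 1 : ℚ)⁻¹) • C (Q.coeff (j + 1) * ((j : A) + 1)) := by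
        rw [Polynomial.smul_C]
        congr 1
        have hne : ((j : ℚ) + 1) ≠ 0 := by positivity
        have h3 : ((j : A) + 1) = algebraMap ℚ A ((j : ℚ) + 1) := by
          simp
        rw [h3, Algebra.smul_def, mul_comm (Q.coeff (j + 1)), ← mul_assoc, ← map_mul,
          inv_mul_cancel₀ hne, map_one, one_mul]
      rw [h2]
      exact B.smul_mem h1 _
    rcases Nat.eq_zero_or_pos i with rfl | hi
    · have hsum := Polynomial.as_sum_range_C_mul_X_pow Q
      rw [Finset.sum_range_succ', pow_zero, mul_one] at hsum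
      have : C (Q.coeff 0) = Q - ∑ k ∈ Finset.range Q.natDegree, C (Q.coeff (k + 1)) * X ^ (k + 1) := by
        rw [eq_sub_iff_add_eq, add_comm]
        exact hsum.symm
      rw [this]
      refine B.sub_mem hQ (B.sum_mem fun k _ => ?_)
      exact B.mul_mem (hsucc k) (B.pow_mem hX _)
    · obtain ⟨j, rfl⟩ : ∃ j, i = j + 1 := ⟨i - 1, by omega⟩
      exact hsucc j

open Polynomial in
/-- For a commutative ℚ-algebra A, a ℚ-subalgebra B of the polynomial algebra A[X] that contains X and
is closed under d/dX consists exactly of the polynomials each of whose coefficients is the value at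
0 of some element of B; in other words B = ev(B)[X], with ev the evaluation at 0. -/
theorem result
    (A : Type u) [CommRing A] [Algebra ℚ A] (B : Subalgebra ℚ A[X])
    (hX : (X : A[X]) ∈ B) (hD : ∀ P ∈ B, Polynomial.derivative P ∈ B) (P : A[X]) :
    P ∈ B ↔ ∀ i : ℕ, ∃ Q ∈ B, Polynomial.eval 0 Q = P.coeff i := by
  constructor
  · intro hP i
    exact ⟨C (P.coeff i), C_coeff_mem A B hX hD _ P hP le_rfl i, by simp⟩
  · intro h
    rw [Polynomial.as_sum_range_C_mul_X_pow P]
    refine B.sum_mem fun i _ => ?_
    obtain ⟨Q, hQ, hQi⟩ := h i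
    have := C_coeff_mem A B hX hD _ Q hQ le_rfl 0
    rw [Polynomial.coeff_zero_eq_eval_zero, hQi] at this
    exact B.mul_mem this (B.pow_mem hX _)

end Groth.Agent.S16396
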