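import Groth.Statements.S16397
import Mathlib

set_option autoImplicit false
open W4c3tautjacobian

namespace Groth.Agent.S16397

section
open MvPolynomial

/-- first-degree weight (ℕ-valued) -/
def w1N (g : ℕ) : Var g → ℕ := fun v => (wt g v).1
/-- first-degree weight (ℤ-valued) -/
def w1 (g : ℕ) : Var g → ℤ := fun v => ((w1N g v : ℕ) : ℤ)

lemma weight_map {σ M N : Type*} [AddCommMonoid M] [AddCommMonoid N] (φ : M →+ N) (w : σ → M)
    (d : σ →₀ ℕ) : φ (Finsupp.weight w d) = Finsupp.weight (fun s => φ (w s)) d := by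
  rw [Finsupp.weight_apply, Finsupp.weight_apply, Finsupp.sum, Finsupp.sum, map_sum]
  exact Finset.sum_congr rfl fun i _ => map_nsmul φ _ _

lemma isWH_map {σ M N : Type*} [AddCommMonoid M] [AddCommMonoid N] (φ : M →+ N) (w : σ → M)
    {P : MvPolynomial σ ℚ} {m : M} (h : IsWeightedHomogeneous w P m) :
    IsWeightedHomogeneous (fun s => φ (w s)) P (φ m) :=
  fun d hd => (weight_map φ w d).symm.trans (congrArg φ (h hd))

lemma isWH_of_map_injective {σ M N : Type*} [AddCommMonoid M] [AddCommMonoid N] (φ : M →+ N)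
    (hφ : Function.Injective φ) (w : σ → M) {P : MvPolynomial σ ℚ} {m : M}
    (h : IsWeightedHomogeneous (fun s => φ (w s)) P (φ m)) : IsWeightedHomogeneous w P m :=
  fun d hd => hφ ((weight_map φ w d).trans (h hd))

lemma congr_deg {σ M : Type*} [AddCommMonoid M] {w : σ → M} {P : MvPolynomial σ ℚ} {a b : M}
    (h : IsWeightedHomogeneous w P a) (e : a = b) : IsWeightedHomogeneous w P b := e ▸ h

lemma smul_deg {σ M : Type*} [AddCommMonoid M] {w : σ → M} {P : MvPolynomial σ ℚ} {k : M} (c : ℚ)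
    (h : IsWeightedHomogeneous w P k) : IsWeightedHomogeneous w (c • P) k :=
  (weightedHomogeneousSubmodule ℚ w k).smul_mem c h

lemma valid_two_zero (g : ℕ) (hg : 1 ≤ g) : Valid g (2, 0) := by
  unfold Valid
  refine ⟨?_, ?_, ?_, ?_⟩
  · show (2 : ℕ) ≤ 0 + 2
    norm_num
  · show 0 + 2 ≤ 2 * g
    omega
  · exact ⟨1, rfl⟩
  · intro h
    have := congrArg Prod.fst h
    simp at this

lemma valid_mem_idx (g : ℕ) (p : ℕ × ℕ) (h : Valid g p) : p ∈ idx g := by
  have h' : p.1 ≤ p.2 + 2 ∧ p.2 + 2 ≤ 2 * g ∧ Even (p.1 + p.2) ∧ p ≠ (0, 0) := h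
  obtain ⟨h1, h2, -, -⟩ := h'
  unfold idx
  rw [Finset.mem_product, Finset.mem_range, Finset.mem_range]
  exact ⟨by omega, by omega⟩

lemma xv_zero_zero (g : ℕ) : xv g 0 0 = (g : RelRing g) := by
  unfold xv
  rw [if_pos ⟨rfl, rfl⟩]

lemma xv_neg_right (g : ℕ) (i j : ℤ) (hj : j < 0) : xv g i j = 0 := by
  unfold xv
  rw [if_neg (fun h => (ne_of_lt hj) h.2), dif_neg (fun h => absurd h.2.1 (not_le.mpr hj))]

lemma xv_valid (g : ℕ) (p : ℕ × ℕ) (h : Valid g p) :
    xv g (p.1 : ℤ) (p.2 : ℤ) = X (some ⟨p, h⟩) := by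
  have h' : p.1 ≤ p.2 + 2 ∧ p.2 + 2 ≤ 2 * g ∧ Even (p.1 + p.2) ∧ p ≠ (0, 0) := h
  have h0 : ¬ ((p.1 : ℤ) = 0 ∧ (p.2 : ℤ) = 0) := by
    rintro ⟨a, b⟩
    apply h'.2.2.2
    have a' : p.1 = 0 := by exact_mod_cast a
    have b' : p.2 = 0 := by exact_mod_cast b
    exact Prod.ext a' b'
  have e : ((p.1 : ℤ).toNat, (p.2 : ℤ).toNat) = p := by simp
  have h1 : 0 ≤ (p.1 : ℤ) ∧ 0 ≤ (p.2 : ℤ) ∧ Valid g ((p.1 : ℤ).toNat, (p.2 : ℤ).toNat) :=
    ⟨by omega, by omega, by rw [e]; exact h⟩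
  unfold xv
  rw [if_neg h0, dif_pos h1]
  exact congrArg (fun s : {p : ℕ × ℕ // Valid g p} => (X (some s) : RelRing g)) (Subtype.ext e)

lemma mergeCoeff_two_left (k : ℕ) : mergeCoeff 2 k = k := by
  unfold mergeCoeff
  rcases Nat.eq_zero_or_pos k with rfl | hk
  · simp
  · have hc : ¬ (2 = 0 ∨ k = 0) := by omega
    rw [if_neg hc]
    have e1 : 2 + k - 2 = k := by omega
    rw [e1]
    exact Nat.choose_one_right k

lemma mergeCoeff_two_right (i : ℕ) : mergeCoeff i 2 = i := by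
  unfold mergeCoeff
  rcases Nat.eq_zero_or_pos i with rfl | hi
  · simp
  · have hc : ¬ (i = 0 ∨ 2 = 0) := by omega
    rw [if_neg hc]
    obtain ⟨m, rfl⟩ : ∃ m, i = m + 1 := ⟨i - 1, by omega⟩
    have e1 : m + 1 + 2 - 2 = m + 1 := by omega
    have e2 : m + 1 - 1 = m := by omega
    rw [e1, e2]
    exact Nat.choose_succ_self_right m

lemma dv_zero (g : ℕ) (p : ℕ × ℕ) : dv g p (0 : RelRing g) = 0 := by
  unfold dv
  split_ifs
  · exact map_zero _
  · rfl

lemma dv_add (g : ℕ) (p : ℕ × ℕ) (P Q : RelRing g) :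
    dv g p (P + Q) = dv g p P + dv g p Q := by
  unfold dv
  split_ifs
  · exact map_add _ _ _
  · exact (add_zero 0).symm

lemma dv_C_mul (g : ℕ) (p : ℕ × ℕ) (r : ℚ) (P : RelRing g) :
    dv g p (C r * P) = C r * dv g p P := by
  unfold dv
  split_ifs
  · exact pderiv_C_mul
  · exact (mul_zero _).symm

lemma dv_ite (g : ℕ) (p : ℕ × ℕ) (c : Prop) [Decidable c] (P : RelRing g) :
    dv g p (if c then P else 0) = if c then dv g p P else 0 := by
  split_ifs
  · rfl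
  · exact dv_zero g p

lemma dv_Z_mul (g : ℕ) (hv : Valid g (2, 0)) (p : ℕ × ℕ) (P : RelRing g) :
    dv g p (X (some ⟨(2, 0), hv⟩) * P) =
      X (some ⟨(2, 0), hv⟩) * dv g p P + (if p = (2, 0) then P else 0) := by
  by_cases h : Valid g p
  · have e1 : ∀ Q : RelRing g, dv g p Q = pderiv (some ⟨p, h⟩) Q := fun Q => by
      unfold dv; rw [dif_pos h]
    rw [e1, e1, pderiv_mul]
    by_cases hp : p = (2, 0)
    · subst hp
      rw [if_pos rfl, pderiv_X_self]
      ring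
    · have hne : (some ⟨(2, 0), hv⟩ : Var g) ≠ some ⟨p, h⟩ := fun hh =>
        hp (congrArg Subtype.val (Option.some.inj hh)).symm
      rw [if_neg hp, pderiv_X_of_ne hne]
      ring
  · have e1 : ∀ Q : RelRing g, dv g p Q = 0 := fun Q => by
      unfold dv; rw [dif_neg h]
    have hp : p ≠ (2, 0) := fun hp => h (hp ▸ hv)
    rw [e1, e1, if_neg hp]
    ring

/-- coefficient of the second-order part of `F` -/
noncomputable def ccf (g : ℕ) (p q : ℕ × ℕ) : RelRing g :=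
  X none * xv g ((p.1 : ℤ) - 1) ((p.2 : ℤ) - 1) * xv g ((q.1 : ℤ) - 1) ((q.2 : ℤ) - 1)
    - (mergeCoeff p.1 q.1 : RelRing g) * xv g ((p.1 : ℤ) + q.1 - 2) ((p.2 : ℤ) + q.2)

/-- coefficient of the first-order part of `F` -/
noncomputable def bbf (g : ℕ) (p : ℕ × ℕ) : RelRing g := xv g ((p.1 : ℤ) - 2) (p.2 : ℤ)

lemma F_eq (g : ℕ) (P : RelRing g) :
    F g P = (1 / 2 : ℚ) • (∑ p ∈ idx g, ∑ q ∈ idx g, ccf g p q * dv g p (dv g q P))
      + ∑ p ∈ idx g, bbf g p * dv g p P := rfl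

lemma ccf_left (g : ℕ) (p q : ℕ × ℕ) (h1 : p.1 = 2) (h2 : p.2 = 0) :
    ccf g p q = -((q.1 : RelRing g) * xv g (q.1 : ℤ) (q.2 : ℤ)) := by
  unfold ccf
  rw [h1, h2]
  have e0 : xv g (((2 : ℕ) : ℤ) - 1) (((0 : ℕ) : ℤ) - 1) = 0 :=
    xv_neg_right g _ _ (by norm_num)
  have e1 : ((2 : ℕ) : ℤ) + (q.1 : ℤ) - 2 = (q.1 : ℤ) := by omega
  have e2 : ((0 : ℕ) : ℤ) + (q.2 : ℤ) = (q.2 : ℤ) := by omega
  rw [e0, mergeCoeff_two_left, e1, e2]
  ring

lemma ccf_right (g : ℕ) (p q : ℕ × ℕ) (h1 : q.1 = 2) (h2 : q.2 = 0) :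
    ccf g p q = -((p.1 : RelRing g) * xv g (p.1 : ℤ) (p.2 : ℤ)) := by
  unfold ccf
  rw [h1, h2]
  have e0 : xv g (((2 : ℕ) : ℤ) - 1) (((0 : ℕ) : ℤ) - 1) = 0 :=
    xv_neg_right g _ _ (by norm_num)
  have e1 : (p.1 : ℤ) + ((2 : ℕ) : ℤ) - 2 = (p.1 : ℤ) := by omega
  have e2 : (p.2 : ℤ) + ((0 : ℕ) : ℤ) = (p.2 : ℤ) := by omega
  rw [e0, mergeCoeff_two_right, e1, e2]
  ring

lemma bbf_z (g : ℕ) (p : ℕ × ℕ) (h1 : p.1 = 2) (h2 : p.2 = 0) : bbf g p = (g : RelRing g) := by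
  unfold bbf
  rw [h1, h2]
  have e1 : ((2 : ℕ) : ℤ) - 2 = 0 := by norm_num
  have e2 : ((0 : ℕ) : ℤ) = 0 := by norm_num
  rw [e1, e2]
  exact xv_zero_zero g

lemma L1 {ι R : Type*} [DecidableEq ι] [AddCommMonoid R] (s : Finset ι) (z : ι) (hz : z ∈ s)
    (f : ι → ι → R) :
    ∑ p ∈ s, ∑ q ∈ s, (if p = z then f p q else 0) = ∑ q ∈ s, f z q := by
  rw [Finset.sum_eq_single z]
  · exact Finset.sum_congr rfl fun q _ => if_pos rfl
  · intro b _ hb
    exact Finset.sum_eq_zero fun q _ => if_neg hb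
  · intro h
    exact absurd hz h

lemma L2 {ι R : Type*} [DecidableEq ι] [AddCommMonoid R] (s : Finset ι) (z : ι) (hz : z ∈ s)
    (f : ι → ι → R) :
    ∑ p ∈ s, ∑ q ∈ s, (if q = z then f p q else 0) = ∑ p ∈ s, f p z := by
  refine Finset.sum_congr rfl fun p _ => ?_
  rw [Finset.sum_eq_single z]
  · exact if_pos rfl
  · intro b _ hb
    exact if_neg hb
  · intro h
    exact absurd hz h

lemma L3 {ι R : Type*} [DecidableEq ι] [AddCommMonoid R] (s : Finset ι) (z : ι) (hz : z ∈ s)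
    (f : ι → R) :
    ∑ p ∈ s, (if p = z then f p else 0) = f z := by
  rw [Finset.sum_eq_single z]
  · exact if_pos rfl
  · intro b _ hb
    exact if_neg hb
  · intro h
    exact absurd hz h

lemma sum_split {ι R : Type*} [DecidableEq ι] [CommRing R] (s : Finset ι) (z : ι) (hz : z ∈ s)
    (Z : R) (c A : ι → ι → R) (B : ι → R) :
    ∑ p ∈ s, ∑ q ∈ s, c p q * (Z * A p q + (if p = z then B q else 0) + (if q = z then B p else 0))
      = Z * (∑ p ∈ s, ∑ q ∈ s, c p q * A p q) + ∑ q ∈ s, c z q * B q + ∑ p ∈ s, c p z * B p := by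
  have e : ∀ p q, c p q * (Z * A p q + (if p = z then B q else 0) + (if q = z then B p else 0)) =
      Z * (c p q * A p q) + (if p = z then c p q * B q else 0)
        + (if q = z then c p q * B p else 0) := by
    intro p q
    split_ifs <;> ring
  have hZs : ∑ p ∈ s, ∑ q ∈ s, Z * (c p q * A p q) = Z * ∑ p ∈ s, ∑ q ∈ s, c p q * A p q := by
    rw [Finset.mul_sum]
    exact Finset.sum_congr rfl fun p _ => (Finset.mul_sum _ _ _).symm
  calc ∑ p ∈ s, ∑ q ∈ s,
        c p q * (Z * A p q + (if p = z then B q else 0) + (if q = z then B p else 0))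
      = ∑ p ∈ s, ∑ q ∈ s, (Z * (c p q * A p q) + (if p = z then c p q * B q else 0)
          + (if q = z then c p q * B p else 0)) :=
        Finset.sum_congr rfl fun p _ => Finset.sum_congr rfl fun q _ => e p q
    _ = (∑ p ∈ s, ∑ q ∈ s, Z * (c p q * A p q))
          + (∑ p ∈ s, ∑ q ∈ s, (if p = z then c p q * B q else 0))
          + ∑ p ∈ s, ∑ q ∈ s, (if q = z then c p q * B p else 0) := by
        simp only [Finset.sum_add_distrib]
    _ = _ := by
        rw [hZs, L1 s z hz, L2 s z hz]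

lemma F_add (g : ℕ) (P Q : RelRing g) : F g (P + Q) = F g P + F g Q := by
  simp only [F_eq, dv_add, mul_add, Finset.sum_add_distrib, smul_add]
  abel

lemma F_C_mul (g : ℕ) (r : ℚ) (P : RelRing g) : F g (C r * P) = C r * F g P := by
  have e1 : ∀ p q, ccf g p q * dv g p (dv g q (C r * P)) =
      C r * (ccf g p q * dv g p (dv g q P)) := by
    intro p q
    rw [dv_C_mul, dv_C_mul]
    ring
  have e2 : ∀ p, bbf g p * dv g p (C r * P) = C r * (bbf g p * dv g p P) := by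
    intro p
    rw [dv_C_mul]
    ring
  rw [F_eq, F_eq]
  simp only [e1, e2, ← Finset.mul_sum]
  rw [mul_add, mul_smul_comm]

lemma F_E_core (g : ℕ) (Z : RelRing g)
    (hZ : ∀ (p : ℕ × ℕ) (Q : RelRing g),
      dv g p (Z * Q) = Z * dv g p Q + (if p = (2, 0) then Q else 0))
    (hz : ((2, 0) : ℕ × ℕ) ∈ idx g) (P : RelRing g) :
    F g (Z * P) = Z * F g P + (g : RelRing g) * P
      - ∑ p ∈ idx g, (p.1 : RelRing g) * xv g (p.1 : ℤ) (p.2 : ℤ) * dv g p P := by
  have h2 : ∀ p q : ℕ × ℕ, dv g p (dv g q (Z * P)) = Z * dv g p (dv g q P)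
      + (if p = (2, 0) then dv g q P else 0) + (if q = (2, 0) then dv g p P else 0) := by
    intro p q
    rw [hZ q P, dv_add, hZ p (dv g q P), dv_ite]
  have e1 : ∑ p ∈ idx g, ∑ q ∈ idx g, ccf g p q * dv g p (dv g q (Z * P)) =
      Z * (∑ p ∈ idx g, ∑ q ∈ idx g, ccf g p q * dv g p (dv g q P))
        + ∑ q ∈ idx g, ccf g (2, 0) q * dv g q P + ∑ p ∈ idx g, ccf g p (2, 0) * dv g p P := by
    calc ∑ p ∈ idx g, ∑ q ∈ idx g, ccf g p q * dv g p (dv g q (Z * P))
        = ∑ p ∈ idx g, ∑ q ∈ idx g, ccf g p q * (Z * dv g p (dv g q P)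
            + (if p = (2, 0) then dv g q P else 0) + (if q = (2, 0) then dv g p P else 0)) :=
          Finset.sum_congr rfl fun p _ => Finset.sum_congr rfl fun q _ => by rw [h2]
      _ = _ := sum_split (idx g) (2, 0) hz Z (ccf g) (fun p q => dv g p (dv g q P))
            (fun p => dv g p P)
  have e2 : ∑ p ∈ idx g, bbf g p * dv g p (Z * P) =
      Z * (∑ p ∈ idx g, bbf g p * dv g p P) + bbf g (2, 0) * P := by
    calc ∑ p ∈ idx g, bbf g p * dv g p (Z * P)
        = ∑ p ∈ idx g, (Z * (bbf g p * dv g p P) + (if p = (2, 0) then bbf g p * P else 0)) :=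
          Finset.sum_congr rfl fun p _ => by
            rw [hZ p P]
            split_ifs <;> ring
      _ = _ := by
          rw [Finset.sum_add_distrib, ← Finset.mul_sum, L3 (idx g) (2, 0) hz]
  have e3 : ∑ q ∈ idx g, ccf g (2, 0) q * dv g q P =
      -∑ p ∈ idx g, (p.1 : RelRing g) * xv g (p.1 : ℤ) (p.2 : ℤ) * dv g p P := by
    rw [← Finset.sum_neg_distrib]
    exact Finset.sum_congr rfl fun q _ => by
      rw [ccf_left g (2, 0) q rfl rfl]
      ring
  have e4 : ∑ p ∈ idx g, ccf g p (2, 0) * dv g p P =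
      -∑ p ∈ idx g, (p.1 : RelRing g) * xv g (p.1 : ℤ) (p.2 : ℤ) * dv g p P := by
    rw [← Finset.sum_neg_distrib]
    exact Finset.sum_congr rfl fun p _ => by
      rw [ccf_right g p (2, 0) rfl rfl]
      ring
  have e5 : bbf g (2, 0) = (g : RelRing g) := bbf_z g (2, 0) rfl rfl
  have e6 : ∀ S T : RelRing g,
      (1 / 2 : ℚ) • (Z * S + -T + -T) = Z * ((1 / 2 : ℚ) • S) + -T := by
    intro S T
    have h : -T + -T = (2 : ℚ) • (-T) := (two_smul ℚ (-T)).symm
    have h12 : (1 / 2 : ℚ) * 2 = 1 := by norm_num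
    rw [add_assoc, h, smul_add, smul_smul, h12, one_smul, mul_smul_comm]
  rw [F_eq, F_eq, e1, e2, e3, e4, e5, e6]
  ring

lemma natCast_deg (g : ℕ) (m : ℕ) : IsWeightedHomogeneous (w1 g) ((m : ℕ) : RelRing g) 0 := by
  have e : ((m : ℕ) : RelRing g) = C (m : ℚ) := (map_natCast (C : ℚ →+* RelRing g) m).symm
  rw [e]
  exact isWeightedHomogeneous_C _ _

lemma xv_deg (g : ℕ) (i j : ℤ) : IsWeightedHomogeneous (w1 g) (xv g i j) i := by
  unfold xv
  split_ifs with h1 h2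
  · rw [h1.1]
    exact natCast_deg g g
  · exact congr_deg (isWeightedHomogeneous_X ℚ (w1 g) (some ⟨(i.toNat, j.toNat), h2.2.2⟩))
      (Int.toNat_of_nonneg h2.1)
  · exact isWeightedHomogeneous_zero ℚ _ _

lemma dv_deg (g : ℕ) (p : ℕ × ℕ) {P : RelRing g} {k : ℤ}
    (hP : IsWeightedHomogeneous (w1 g) P k) :
    IsWeightedHomogeneous (w1 g) (dv g p P) (k - (p.1 : ℤ)) := by
  unfold dv
  split_ifs with h
  · exact hP.pderiv (sub_add_cancel k (p.1 : ℤ))
  · exact isWeightedHomogeneous_zero ℚ _ _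

lemma F_deg (g : ℕ) {P : RelRing g} {k : ℤ} (hP : IsWeightedHomogeneous (w1 g) P k) :
    IsWeightedHomogeneous (w1 g) (F g P) (k - 2) := by
  rw [F_eq]
  have hy : IsWeightedHomogeneous (w1 g) (X none : RelRing g) 0 :=
    isWeightedHomogeneous_X ℚ (w1 g) none
  refine IsWeightedHomogeneous.add (smul_deg _ (IsWeightedHomogeneous.sum _ _ _ fun p _ =>
    IsWeightedHomogeneous.sum _ _ _ fun q _ => ?_)) (IsWeightedHomogeneous.sum _ _ _ fun p _ => ?_)
  · have h1 := (hy.mul (xv_deg g ((p.1 : ℤ) - 1) ((p.2 : ℤ) - 1))).mul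
      (xv_deg g ((q.1 : ℤ) - 1) ((q.2 : ℤ) - 1))
    have h2 := (natCast_deg g (mergeCoeff p.1 q.1)).mul
      (xv_deg g ((p.1 : ℤ) + q.1 - 2) ((p.2 : ℤ) + q.2))
    have h3 : IsWeightedHomogeneous (w1 g) (ccf g p q) ((p.1 : ℤ) + q.1 - 2) :=
      (congr_deg h1 (by ring)).sub (congr_deg h2 (by ring))
    exact congr_deg (h3.mul (dv_deg g p (dv_deg g q hP))) (by ring)
  · have h1 : IsWeightedHomogeneous (w1 g) (bbf g p) ((p.1 : ℤ) - 2) := xv_deg g _ _
    exact congr_deg (h1.mul (dv_deg g p hP)) (by ring)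

lemma eq_zero_of_neg_deg (g : ℕ) {P : RelRing g} {k : ℤ}
    (hP : IsWeightedHomogeneous (w1 g) P k) (hk : k < 0) : P = 0 :=
  hP.eq_zero_of_no_monomials fun d hd => by
    have e := weight_map (Nat.castAddMonoidHom ℤ) (w1N g) d
    have e' : ((Finsupp.weight (w1N g) d : ℕ) : ℤ) = k := e.trans hd
    omega

lemma euler (g : ℕ) (P : RelRing g) (k : ℤ) (hP : IsWeightedHomogeneous (w1 g) P k) :
    ∑ p ∈ idx g, (p.1 : RelRing g) * xv g (p.1 : ℤ) (p.2 : ℤ) * dv g p P = C (k : ℚ) * P := by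
  classical
  by_cases hP0 : P = 0
  · subst hP0
    rw [mul_zero]
    exact Finset.sum_eq_zero fun p _ => by rw [dv_zero, mul_zero]
  obtain ⟨d0, hd0⟩ := MvPolynomial.exists_coeff_ne_zero hP0
  have hk : ((Finsupp.weight (w1N g) d0 : ℕ) : ℤ) = k :=
    (weight_map (Nat.castAddMonoidHom ℤ) (w1N g) d0).trans (hP hd0)
  obtain ⟨n, hn⟩ : ∃ n : ℕ, (n : ℤ) = k := ⟨_, hk⟩
  subst hn
  have hPN : IsWeightedHomogeneous (w1N g) P n :=
    isWH_of_map_injective (Nat.castAddMonoidHom ℤ) Nat.cast_injective (w1N g) hP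
  letI instF : Fintype {p : ℕ × ℕ // Valid g p} :=
    Fintype.subtype ((idx g).filter (Valid g)) (fun x => by
      rw [Finset.mem_filter]
      exact ⟨fun h => h.2, fun h => ⟨valid_mem_idx g x h, h⟩⟩)
  have hE : ∑ i : Var g, w1N g i • (X i * pderiv i P) = n • P := hPN.sum_weight_X_mul_pderiv
  have hE2 : ∑ i : Var g, ((w1N g i : ℕ) : RelRing g) * (X i * pderiv i P)
      = ((n : ℕ) : RelRing g) * P :=
    (Finset.sum_congr rfl fun i _ => (nsmul_eq_mul (w1N g i) (X i * pderiv i P)).symm).trans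
      (hE.trans (nsmul_eq_mul n P))
  have hC : C (((n : ℕ) : ℤ) : ℚ) * P = ((n : ℕ) : RelRing g) * P := by
    rw [Int.cast_natCast, map_natCast]
  rw [hC, ← hE2, Fintype.sum_option]
  have h0 : ((w1N g none : ℕ) : RelRing g) * ((X none : RelRing g) * pderiv none P) = 0 := by
    have : w1N g none = 0 := rfl
    rw [this, Nat.cast_zero, zero_mul]
  rw [h0, zero_add]
  have hsub := Finset.sum_subtype (F := instF) ((idx g).filter (Valid g)) (p := Valid g)
    (fun x => by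
      rw [Finset.mem_filter]
      exact ⟨fun h => h.2, fun h => ⟨valid_mem_idx g x h, h⟩⟩)
    (fun p => (p.1 : RelRing g) * xv g (p.1 : ℤ) (p.2 : ℤ) * dv g p P)
  have hfil : ∑ p ∈ idx g, (p.1 : RelRing g) * xv g (p.1 : ℤ) (p.2 : ℤ) * dv g p P =
      ∑ p ∈ (idx g).filter (Valid g),
        (p.1 : RelRing g) * xv g (p.1 : ℤ) (p.2 : ℤ) * dv g p P := by
    rw [Finset.sum_filter]
    refine Finset.sum_congr rfl fun p _ => ?_
    by_cases h : Valid g p
    · rw [if_pos h]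
    · rw [if_neg h]
      unfold dv
      rw [dif_neg h, mul_zero]
  rw [hfil, hsub]
  refine Finset.sum_congr rfl fun a _ => ?_
  have hd : dv g a.1 P = pderiv (some a) P := by
    unfold dv
    rw [dif_pos a.2]
  show ((a.1.1 : ℕ) : RelRing g) * xv g (a.1.1 : ℤ) (a.1.2 : ℤ) * dv g a.1 P = _
  rw [xv_valid g a.1 a.2, hd]
  exact mul_assoc _ _ _

lemma F_E (g : ℕ) (hg : 1 ≤ g) (P : RelRing g) (k : ℤ)
    (hP : IsWeightedHomogeneous (w1 g) P k) :
    F g (E g P) = E g (F g P) + C ((g : ℚ) - (k : ℚ)) * P := by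
  have hv : Valid g (2, 0) := valid_two_zero g hg
  have hZ : xv g 2 0 = X (some ⟨(2, 0), hv⟩) := xv_valid g (2, 0) hv
  unfold E
  rw [hZ, F_E_core g _ (dv_Z_mul g hv) (valid_mem_idx g _ hv) P, euler g P k hP, map_sub,
    map_natCast]
  ring

lemma iter_deg (g : ℕ) (k : ℤ) : ∀ (n : ℕ) (P : RelRing g),
    IsWeightedHomogeneous (w1 g) P k →
      IsWeightedHomogeneous (w1 g) ((F g)^[n] P) (k - 2 * (n : ℤ)) := by
  intro n
  induction n with
  | zero =>
    intro P hP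
    exact congr_deg hP (by simp)
  | succ n ih =>
    intro P hP
    rw [Function.iterate_succ_apply']
    exact congr_deg (F_deg g (ih P hP)) (by push_cast; ring)

/-- the commutator coefficient -/
def cf (g : ℕ) (k : ℤ) (n : ℕ) : ℚ := ((n : ℚ) + 1) * ((g : ℚ) - (k : ℚ) + (n : ℚ))

lemma cf_zero (g : ℕ) (k : ℤ) : cf g k 0 = (g : ℚ) - (k : ℚ) := by
  unfold cf
  push_cast
  ring

lemma cf_succ (g : ℕ) (k : ℤ) (n : ℕ) :
    cf g k (n + 1) = cf g k n + ((g : ℚ) - ((k - 2 * ((n : ℤ) + 1) : ℤ) : ℚ)) := by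
  unfold cf
  push_cast
  ring

lemma iter (g : ℕ) (hg : 1 ≤ g) (k : ℤ) : ∀ (n : ℕ) (P : RelRing g),
    IsWeightedHomogeneous (w1 g) P k →
      (F g)^[n + 1] (E g P) = E g ((F g)^[n + 1] P) + C (cf g k n) * (F g)^[n] P := by
  have it : ∀ (m : ℕ) (Q : RelRing g), (F g)^[m + 1] Q = F g ((F g)^[m] Q) := fun m Q =>
    Function.iterate_succ_apply' (F g) m Q
  intro n
  induction n with
  | zero =>
    intro P hP
    show F g (E g P) = E g (F g P) + C (cf g k 0) * P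
    rw [cf_zero]
    exact F_E g hg P k hP
  | succ n ih =>
    intro P hP
    have hdeg : IsWeightedHomogeneous (w1 g) ((F g)^[n + 1] P) (k - 2 * ((n : ℤ) + 1)) :=
      congr_deg (iter_deg g k (n + 1) P hP) (by push_cast; ring)
    rw [it (n + 1) (E g P), ih P hP, F_add, F_C_mul, F_E g hg _ _ hdeg, it (n + 1) P, ← it n P,
      cf_succ, map_add]
    ring

end



/-- In the formal relation ring of genus g ≥ 1, for every element β which is bihomogeneous of bidegree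
(2g, n), the (g+1)-st iterate of the operator F kills x 2 0 · β. (Stated for every bihomogeneous β;
the case of a monomial β is equivalent by linearity.) -/
theorem result
    (g : ℕ) (hg : 1 ≤ g) (n : ℕ) (β : W4c3tautjacobian.RelRing g)
    (hβ : MvPolynomial.IsWeightedHomogeneous (W4c3tautjacobian.wt g) β ((2 * g, n) : ℕ × ℕ)) :
    (W4c3tautjacobian.F g)^[g + 1] (W4c3tautjacobian.E g β) = 0 := by
  have hβ1 : MvPolynomial.IsWeightedHomogeneous (w1 g) β (((2 * g : ℕ)) : ℤ) :=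
    isWH_map (Nat.castAddMonoidHom ℤ) (w1N g) (isWH_map (AddMonoidHom.fst ℕ ℕ) (wt g) hβ)
  have h := iter g hg (((2 * g : ℕ)) : ℤ) g β hβ1
  have hz : (W4c3tautjacobian.F g)^[g + 1] β = 0 :=
    eq_zero_of_neg_deg g (iter_deg g _ (g + 1) β hβ1) (by push_cast; omega)
  have hc : cf g (((2 * g : ℕ)) : ℤ) g = 0 := by
    unfold cf
    push_cast
    ring
  rw [h, hz, hc, map_zero, zero_mul, add_zero]
  unfold W4c3tautjacobian.E
  rw [mul_zero]


end Groth.Agent.S16397
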