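import Groth.Statements.S16400
import Mathlib

set_option autoImplicit false
universe u v
open CAlgX

open scoped Matrix

namespace Groth.Agent.S16400

section aux
variable {K : Type*} [Field K]
open Matrix

/-- column selection: a subfamily of columns which is independent and spans the column space -/
lemma exists_cols {m n : Type*} [Fintype n] (M : Matrix m n K) :
    ∃ S : Finset n, Function.Injective (M.submatrix id (Subtype.val : ↥S → n)).mulVecLin ∧
      LinearMap.range (M.submatrix id (Subtype.val : ↥S → n)).mulVecLin =
        LinearMap.range M.mulVecLin := by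
  classical
  obtain ⟨b, -, -, hspan, hli⟩ := exists_linearIndepOn_extension (K := K) (v := M.col)
    (s := (∅ : Set n)) (t := Set.univ) (linearIndepOn_empty K M.col) (Set.empty_subset _)
  refine ⟨b.toFinset, ?_, ?_⟩
  · show Function.Injective (M.submatrix id (Subtype.val : ↥b.toFinset → n)).mulVec
    rw [Matrix.mulVec_injective_iff]
    exact hli.comp (fun j : ↥b.toFinset => (⟨j.1, Set.mem_toFinset.mp j.2⟩ : ↥b))
      (fun x y h => Subtype.ext (congrArg (fun z : ↥b => z.1) h))
  · rw [Matrix.range_mulVecLin, Matrix.range_mulVecLin]
    apply le_antisymm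
    · apply Submodule.span_mono
      rintro _ ⟨j, rfl⟩
      exact ⟨j.1, rfl⟩
    · rw [Submodule.span_le]
      rintro _ ⟨j, rfl⟩
      have h1 : M.col j ∈ Submodule.span K (M.col '' b) := hspan ⟨j, Set.mem_univ _, rfl⟩
      refine Submodule.span_mono ?_ h1
      rintro _ ⟨i, hi, rfl⟩
      exact ⟨⟨i, Set.mem_toFinset.mpr hi⟩, rfl⟩

lemma transpose_bijective {m n : Type*} [Fintype m] [Fintype n] (M : Matrix m n K)
    (h : Function.Bijective M.mulVecLin) : Function.Bijective Mᵀ.mulVecLin := by
  classical
  have hcard : Fintype.card n = Fintype.card m := by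
    have e := LinearEquiv.ofBijective M.mulVecLin h
    have := e.finrank_eq
    simpa [Module.finrank_fintype_fun_eq_card] using this
  have hinj : Function.Injective Mᵀ.mulVecLin := by
    rw [← LinearMap.ker_eq_bot, LinearMap.ker_eq_bot']
    intro y hy
    have hy' : y ᵥ* M = 0 := by rw [← Matrix.mulVec_transpose]; exact hy
    apply dotProduct_eq_zero
    intro z
    obtain ⟨x, rfl⟩ := h.2 z
    show y ⬝ᵥ (M *ᵥ x) = 0
    rw [Matrix.dotProduct_mulVec, hy', zero_dotProduct]
  refine ⟨hinj, ?_⟩
  exact (LinearMap.injective_iff_surjective_of_finrank_eq_finrank (by simp [hcard])).mp hinj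

end aux

/-- Let K be a field, N a finite index set and A a square matrix over K indexed by N whose linear map on
column vectors has kernel equal to its range (so A composed with A is zero and the three-term
sequence it defines is exact in the middle). Then there are subsets N₁₂, N₂₁, N₃₁ of N such that the
block of A with rows in N₃₁ and columns in N₂₁, and the block of A with rows outside N₂₁ and columns
in N₁₂, both act bijectively on column vectors. (In the original setting K is the prime field and
middle exactness is supplied by the Cartier isomorphism; here exactness is the hypothesis and K is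
any field.) -/
theorem result
    {K : Type u} [Field K] {N : Type v} [Fintype N] [DecidableEq N]
    (A : Matrix N N K)
    (hA : LinearMap.ker A.mulVecLin = LinearMap.range A.mulVecLin) :
    ∃ N₁₂ N₂₁ N₃₁ : Finset N,
      Function.Bijective (A.submatrix (Subtype.val : ↥N₃₁ → N) (Subtype.val : ↥N₂₁ → N)).mulVecLin ∧
      Function.Bijective
        (A.submatrix (Subtype.val : {x : N // x ∉ N₂₁} → N) (Subtype.val : ↥N₁₂ → N)).mulVecLin := by
  classical
  -- Step 1: independent columns spanning the range
  obtain ⟨J, hJinj, hJrange⟩ := exists_cols A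
  -- Step 2: rows
  have hMt_surj : Function.Surjective
      (Matrix.transpose (A.submatrix id (Subtype.val : ↥J → N))).mulVecLin := by
    rw [← LinearMap.range_eq_top]
    apply Submodule.eq_top_of_finrank_eq
    have h1 : (Matrix.transpose (A.submatrix id (Subtype.val : ↥J → N))).rank =
        (A.submatrix id (Subtype.val : ↥J → N)).rank := Matrix.rank_transpose _
    unfold Matrix.rank at h1
    rw [h1, LinearMap.finrank_range_of_inj hJinj]
  obtain ⟨I, hIinj, hIrange⟩ := exists_cols (Matrix.transpose (A.submatrix id (Subtype.val : ↥J → N)))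
  have hIbij : Function.Bijective
      ((Matrix.transpose (A.submatrix id (Subtype.val : ↥J → N))).submatrix id
        (Subtype.val : ↥I → N)).mulVecLin := by
    refine ⟨hIinj, ?_⟩
    rw [← LinearMap.range_eq_top, hIrange, LinearMap.range_eq_top]; exact hMt_surj
  have hblock1 : Function.Bijective
      (A.submatrix (Subtype.val : ↥I → N) (Subtype.val : ↥J → N)).mulVecLin :=
    transpose_bijective _ hIbij
  -- Step 3: the rows outside J
  have hfrT : Module.finrank K (LinearMap.range A.mulVecLin) = J.card := by
    rw [← hJrange, LinearMap.finrank_range_of_inj hJinj, Module.finrank_fintype_fun_eq_card,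
      Fintype.card_coe]
  have hkerT : Module.finrank K (LinearMap.ker A.mulVecLin) = J.card := by
    rw [hA]; exact hfrT
  have hN : Fintype.card N = 2 * J.card := by
    have := LinearMap.finrank_range_add_finrank_ker A.mulVecLin
    rw [hfrT, hkerT, Module.finrank_fintype_fun_eq_card] at this
    omega
  have hkerR : LinearMap.ker
      (A.submatrix (Subtype.val : {x : N // x ∉ J} → N) id).mulVecLin =
      LinearMap.ker A.mulVecLin := by
    ext x
    simp only [LinearMap.mem_ker]
    constructor
    · intro hx
      have hy_range : A.mulVecLin x ∈ LinearMap.range A.mulVecLin := ⟨x, rfl⟩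
      rw [← hA] at hy_range
      have hy0 : ∀ i, i ∉ J → (A *ᵥ x) i = 0 := fun i hi => congrFun hx ⟨i, hi⟩
      have hy : A *ᵥ (A *ᵥ x) = 0 := hy_range
      have hMy : (A.submatrix id (Subtype.val : ↥J → N)) *ᵥ
          (fun j : ↥J => (A *ᵥ x) j.1) = A *ᵥ (A *ᵥ x) := by
        funext i
        show ∑ j : ↥J, A i j.1 * (A *ᵥ x) j.1 = ∑ j : N, A i j * (A *ᵥ x) j
        rw [Finset.sum_coe_sort J (fun j => A i j * (A *ᵥ x) j)]
        exact Finset.sum_subset (Finset.subset_univ J)
          (fun j _ hj => by rw [hy0 j hj, mul_zero])
      have h0 : (fun j : ↥J => (A *ᵥ x) j.1) = 0 := by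
        apply hJinj
        show (A.submatrix id (Subtype.val : ↥J → N)) *ᵥ _ =
          (A.submatrix id (Subtype.val : ↥J → N)) *ᵥ 0
        rw [hMy, hy, Matrix.mulVec_zero]
      show A *ᵥ x = 0
      funext i
      by_cases hi : i ∈ J
      · exact congrFun h0 ⟨i, hi⟩
      · exact hy0 i hi
    · intro hx
      show (A.submatrix (Subtype.val : {x : N // x ∉ J} → N) id) *ᵥ x = 0
      funext i
      exact congrFun (show A *ᵥ x = 0 from hx) i.1
  have hR_surj : Function.Surjective
      (A.submatrix (Subtype.val : {x : N // x ∉ J} → N) id).mulVecLin := by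
    rw [← LinearMap.range_eq_top]
    apply Submodule.eq_top_of_finrank_eq
    have h1 := LinearMap.finrank_range_add_finrank_ker
      (A.submatrix (Subtype.val : {x : N // x ∉ J} → N) id).mulVecLin
    rw [hkerR, hkerT, Module.finrank_fintype_fun_eq_card] at h1
    rw [Module.finrank_fintype_fun_eq_card]
    have h2 : Fintype.card {x : N // x ∉ J} = Fintype.card N - J.card := by
      rw [Fintype.card_subtype_compl (· ∈ J), Fintype.card_coe]
    omega
  obtain ⟨S, hSinj, hSrange⟩ :=
    exists_cols (A.submatrix (Subtype.val : {x : N // x ∉ J} → N) id)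
  refine ⟨S, J, I, hblock1, ?_⟩
  have hSbij : Function.Bijective
      ((A.submatrix (Subtype.val : {x : N // x ∉ J} → N) id).submatrix id
        (Subtype.val : ↥S → N)).mulVecLin :=
    ⟨hSinj, by rw [← LinearMap.range_eq_top, hSrange, LinearMap.range_eq_top]; exact hR_surj⟩
  exact hSbij

end Groth.Agent.S16400
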