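import Groth.Statements.S16401
import Mathlib
-- import your own Groth.Agent.* helpers here

set_option autoImplicit false
universe u v
open CAlgX

namespace Groth.Agent.S16401

section Aux

variable {R : Type u} [CommRing R] {ι : Type v} [AddCommGroup ι]
    (E : ι → AddSubgroup R) (h0 : E 0 = ⊤)
    (hmul : ∀ a b : ι, ∀ x ∈ E a, ∀ y ∈ E b, x * y ∈ E (a + b))

include h0 hmul

lemma prod_mem {κ : Type*} (s : Finset κ) (x : κ → R) (a : κ → ι)
    (h : ∀ k ∈ s, x k ∈ E (a k)) : ∏ k ∈ s, x k ∈ E (∑ k ∈ s, a k) := by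
  classical
  induction s using Finset.induction_on with
  | empty => simp [h0]
  | insert k s hk ih =>
    rw [Finset.prod_insert hk, Finset.sum_insert hk]
    exact hmul _ _ _ (h k (Finset.mem_insert_self k s)) _
      (ih fun j hj => h j (Finset.mem_insert_of_mem hj))

lemma det_mem {r : ℕ} (wβ wγ : Fin r → ι) (M : Matrix (Fin r) (Fin r) R)
    (hM : ∀ i j, M i j ∈ E (wγ i - wβ j)) : M.det ∈ E (∑ i, wγ i - ∑ j, wβ j) := by
  rw [Matrix.det_apply]
  refine sum_mem fun σ _ => ?_
  refine zsmul_mem ?_ _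
  have := prod_mem E h0 hmul Finset.univ (fun i => M (σ i) i) (fun i => wγ (σ i) - wβ i)
    (fun i _ => hM (σ i) i)
  rwa [Finset.sum_sub_distrib, Equiv.sum_comp σ wγ] at this

lemma adjugate_mem {r : ℕ} (wβ wγ : Fin r → ι) (hsum : ∑ j, wβ j = ∑ i, wγ i)
    (ϑ : Matrix (Fin r) (Fin r) R) (hϑ : ∀ i j, ϑ i j ∈ E (wγ i - wβ j)) (i j : Fin r) :
    ϑ.adjugate i j ∈ E (wβ i - wγ j) := by
  rw [Matrix.adjugate_apply]
  have := det_mem E h0 hmul wβ (Function.update wγ j (wβ i)) (ϑ.updateRow j (Pi.single i 1)) ?_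
  · convert this using 2
    have h1 : ∑ k, Function.update wγ j (wβ i) k = ∑ k, wγ k - wγ j + wβ i := by
      rw [Finset.sum_update_of_mem (Finset.mem_univ j)]
      rw [← Finset.sum_erase_add _ _ (Finset.mem_univ j)]
      simp only [Finset.sdiff_singleton_eq_erase]
      abel
    rw [h1, hsum]
    abel
  · intro a b
    by_cases ha : a = j
    · subst ha
      rw [Matrix.updateRow_self, Function.update_self]
      by_cases hb : b = i
      · subst hb
        simp [h0]
      · rw [Pi.single_eq_of_ne hb]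
        exact zero_mem _
    · rw [Matrix.updateRow_ne ha, Function.update_of_ne ha]
      exact hϑ a b

end Aux

/-- Let R be a commutative ring and (E_a), a ∈ ι, a family of additive subgroups of R indexed by an
additive commutative group ι, with E_0 = R and E_a · E_b ⊆ E_{a+b}. Let β, γ : Fin r → ι be weight
vectors with Σ_j β_j = Σ_i γ_i, and let ϑ be an r × r matrix over R with ϑ_{ij} ∈ E_{γ_i − β_j} for
all i, j and with unit determinant. Then a column vector u satisfies u_j ∈ E_{β_j} for every j if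
and only if (ϑ u)_i ∈ E_{γ_i} for every i; since ϑ is invertible this says that ϑ maps the box Π_j
E_{β_j} bijectively onto the box Π_i E_{γ_i}. -/
theorem result
    {R : Type u} [CommRing R] {ι : Type v} [AddCommGroup ι]
    (E : ι → AddSubgroup R) (h0 : E 0 = ⊤)
    (hmul : ∀ a b : ι, ∀ x ∈ E a, ∀ y ∈ E b, x * y ∈ E (a + b))
    {r : ℕ} (wβ wγ : Fin r → ι) (hsum : ∑ j, wβ j = ∑ i, wγ i)
    (ϑ : Matrix (Fin r) (Fin r) R) (hϑ : ∀ i j, ϑ i j ∈ E (wγ i - wβ j))
    (hdet : IsUnit ϑ.det) (u : Fin r → R) :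
    (∀ j, u j ∈ E (wβ j)) ↔ ∀ i, ϑ.mulVec u i ∈ E (wγ i) := by
  constructor
  · intro hu i
    simp only [Matrix.mulVec, dotProduct]
    refine sum_mem fun j _ => ?_
    have := hmul _ _ _ (hϑ i j) _ (hu j)
    rwa [sub_add_cancel] at this
  · intro hv j
    have hinv : ϑ⁻¹.mulVec (ϑ.mulVec u) = u := by
      rw [Matrix.mulVec_mulVec, Matrix.nonsing_inv_mul _ hdet, Matrix.one_mulVec]
    rw [← hinv]
    simp only [Matrix.mulVec, dotProduct]
    refine sum_mem fun i _ => ?_
    have h1 : ϑ⁻¹ j i ∈ E (wβ j - wγ i) := by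
      rw [Matrix.inv_def, Matrix.smul_apply, smul_eq_mul]
      have := hmul 0 _ (Ring.inverse ϑ.det) (by rw [h0]; trivial) _
        (adjugate_mem E h0 hmul wβ wγ hsum ϑ hϑ j i)
      rwa [zero_add] at this
    have := hmul _ _ _ h1 _ (hv i)
    rwa [sub_add_cancel] at this

end Groth.Agent.S16401
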