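import Groth.Statements.S16405
-- import your own Groth.Agent.* helpers here

set_option autoImplicit false
universe u v
open InvQ

namespace Groth.Agent.S16405

/-- In weight form. Let b : L → ℤ^r be an injective homomorphism of abelian groups (the case in view: L
the character group of a maximal torus T of a semisimple group over ℂ and b the map dual to the
surjection of the rank-r split torus T' onto T that sends the i-th coordinate cocharacter to the
primitive generator of the i-th ray of the Weyl chamber; only the injectivity of b is used, and ℂ is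
replaced by any commutative ring k). Grade the monoid algebra k[L × ℕ^r] (the coordinate ring of T ×
𝔸^r) by ℤ^r, the monomial (w, n) having weight b(w) + n (the weights of the T'-action u·(t, v) =
(b^∨(u) t, u v)), and grade k[ℕ^r] by ℤ^r/b(L), the monomial n having weight the class of n (the
weights of the action on 𝔸^r of the diagonalizable kernel Z of T' → T, a finite group in the case in
view). For a diagonalizable group acting on an affine scheme the ring of invariants is the
weight-zero part, so the two weight-zero parts are the coordinate rings of the quotients (T ×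
𝔸^r)//T' and 𝔸^r//Z. The statement: the algebra map k[L × ℕ^r] → k[ℕ^r] induced by the projection L
× ℕ^r → ℕ^r (restriction to the slice 1 × 𝔸^r) maps the weight-zero part of k[L × ℕ^r] bijectively
onto the weight-zero part of k[ℕ^r]; hence it induces an isomorphism of k-algebras between them. -/
theorem result
    (k : Type u) [CommRing k] (r : ℕ) (L : Type v) [AddCommGroup L]
    (b : L →+ (Fin r → ℤ)) (hb : Function.Injective b) :
    Set.BijOn
      (AddMonoidAlgebra.mapDomainAlgHom k k (AddMonoidHom.snd L (Fin r → ℕ)))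
      (AddMonoidAlgebra.gradeBy k
        (b.comp (AddMonoidHom.fst L (Fin r → ℕ)) +
          (AddMonoidHom.compLeft (Nat.castAddMonoidHom ℤ) (Fin r)).comp (AddMonoidHom.snd L (Fin r → ℕ))) 0 :
        Set (AddMonoidAlgebra k (L × (Fin r → ℕ))))
      (AddMonoidAlgebra.gradeBy k
        ((QuotientAddGroup.mk' b.range).comp (AddMonoidHom.compLeft (Nat.castAddMonoidHom ℤ) (Fin r))) 0 :
        Set (AddMonoidAlgebra k (Fin r → ℕ))) := by
  classical
  set f1 : (L × (Fin r → ℕ)) →+ (Fin r → ℤ) := b.comp (AddMonoidHom.fst L (Fin r → ℕ)) +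
          (AddMonoidHom.compLeft (Nat.castAddMonoidHom ℤ) (Fin r)).comp (AddMonoidHom.snd L (Fin r → ℕ)) with hf1
  set f2 : (Fin r → ℕ) →+ (Fin r → ℤ) ⧸ b.range :=
    (QuotientAddGroup.mk' b.range).comp (AddMonoidHom.compLeft (Nat.castAddMonoidHom ℤ) (Fin r)) with hf2
  set P := AddMonoidAlgebra.mapDomainAlgHom k k (AddMonoidHom.snd L (Fin r → ℕ)) with hP
  have hPc : ∀ a : AddMonoidAlgebra k (L × (Fin r → ℕ)),
      (P a).coeff = Finsupp.mapDomain Prod.snd a.coeff := fun a => rfl
  have hf1v : ∀ p : L × (Fin r → ℕ), f1 p = b p.1 + (fun i => ((p.2 i : ℕ) : ℤ)) := fun p => rfl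
  have hf2v : ∀ n : Fin r → ℕ, f2 n = QuotientAddGroup.mk (fun i => ((n i : ℕ) : ℤ)) := fun n => rfl
  -- the projection is injective on the zero locus of `f1`
  have hinj : Set.InjOn (Prod.snd : L × (Fin r → ℕ) → (Fin r → ℕ)) (f1 ⁻¹' {0}) := by
    rintro ⟨w, n⟩ h1 ⟨w', n'⟩ h2 (h : n = n')
    subst h
    simp only [Set.mem_preimage, Set.mem_singleton_iff, hf1v] at h1 h2
    have : b w = b w' := by
      have := h1.trans h2.symm
      exact add_right_cancel this
    rw [hb this]
  have himg : ∀ p : L × (Fin r → ℕ), f1 p = 0 → f2 p.2 = 0 := by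
    rintro ⟨w, n⟩ h
    rw [hf1v] at h
    rw [hf2v, QuotientAddGroup.eq_zero_iff]
    refine ⟨-w, ?_⟩
    rw [map_neg]
    exact neg_eq_of_add_eq_zero_right h
  have hsec : ∀ n : Fin r → ℕ, f2 n = 0 → ∃ w : L, f1 (w, n) = 0 := by
    intro n hn
    rw [hf2v, QuotientAddGroup.eq_zero_iff] at hn
    obtain ⟨w, hw⟩ := hn
    refine ⟨-w, ?_⟩
    rw [hf1v]
    change b (-w) + _ = 0
    rw [map_neg, hw, neg_add_cancel]
  refine ⟨?_, ?_, ?_⟩
  · intro a ha
    rw [SetLike.mem_coe, AddMonoidAlgebra.mem_gradeBy_iff] at ha ⊢
    intro n hn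
    rw [hPc] at hn
    have := Finsupp.mapDomain_support hn
    rw [Finset.mem_image] at this
    obtain ⟨p, hp, rfl⟩ := this
    exact himg p (ha hp)
  · intro a ha a' ha' h
    rw [SetLike.mem_coe, AddMonoidAlgebra.mem_gradeBy_iff] at ha ha'
    apply AddMonoidAlgebra.coeff_injective
    apply Finsupp.mapDomain_injOn _ hinj ha ha'
    have := congrArg AddMonoidAlgebra.coeff h
    rw [hPc, hPc] at this
    exact this
  · intro c hc
    rw [SetLike.mem_coe, AddMonoidAlgebra.mem_gradeBy_iff] at hc
    let σ : (Fin r → ℕ) → L × (Fin r → ℕ) := fun n =>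
      if h : f2 n = 0 then ((hsec n h).choose, n) else (0, n)
    have hσ2 : ∀ n, (σ n).2 = n := by
      intro n
      simp only [σ]
      split_ifs <;> rfl
    have hσ1 : ∀ n, f2 n = 0 → f1 (σ n) = 0 := by
      intro n h
      simp only [σ]
      rw [dif_pos h]
      exact (hsec n h).choose_spec
    refine ⟨AddMonoidAlgebra.ofCoeff (Finsupp.mapDomain σ c.coeff), ?_, ?_⟩
    · rw [SetLike.mem_coe, AddMonoidAlgebra.mem_gradeBy_iff]
      intro p hp
      have := Finsupp.mapDomain_support hp
      rw [Finset.mem_image] at this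
      obtain ⟨n, hn, rfl⟩ := this
      exact hσ1 n (hc hn)
    · apply AddMonoidAlgebra.coeff_injective
      rw [hPc]
      change Finsupp.mapDomain Prod.snd (Finsupp.mapDomain σ c.coeff) = c.coeff
      rw [← Finsupp.mapDomain_comp]
      have : Prod.snd ∘ σ = id := funext hσ2
      rw [this, Finsupp.mapDomain_id]


end Groth.Agent.S16405
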