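import Groth.Statements.S16414
import Mathlib.Tactic.Linarith
import Mathlib.Tactic.Push
import Mathlib.Tactic.NormNum
import Mathlib.Tactic.Ring
import Mathlib.Tactic.Set

set_option autoImplicit false
open Dieud

namespace Groth.Agent.S16414

/-- Let μ be a rational number with 0 < μ ≤ 1 and i an integer, and put f(i,j) = max(−i−j, −j, 0) for
integers j. Then min over all integers j of f(i,j) + jμ exists and equals max(−iμ, 0). -/
theorem result (μ : ℚ) (hμ0 : 0 < μ) (hμ1 : μ ≤ 1) (i : ℤ) :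
    IsLeast (Set.range fun j : ℤ => ((max (max (-i - j) (-j)) 0 : ℤ) : ℚ) + (j : ℚ) * μ)
      (max (-(i : ℚ) * μ) 0) := by
  constructor
  · rcases le_or_gt 0 i with hi | hi
    · refine ⟨0, ?_⟩
      have hiq : (0 : ℚ) ≤ (i : ℚ) := by exact_mod_cast hi
      have h1 : max (max (-i - 0) (-(0 : ℤ))) 0 = 0 := by
        simp only [sub_zero, neg_zero]
        rw [max_eq_right (by omega : -i ≤ 0), max_self]
      have h2 : max (-(i : ℚ) * μ) 0 = 0 := max_eq_right (by nlinarith)
      simp only [h1, h2]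
      simp
    · refine ⟨-i, ?_⟩
      have hiq : (i : ℚ) < 0 := by exact_mod_cast hi
      have h1 : max (max (-i - -i) (-(-i))) 0 = 0 := by
        simp only [sub_self, neg_neg]
        rw [max_eq_left (by omega : i ≤ 0), max_self]
      have h2 : max (-(i : ℚ) * μ) 0 = -(i : ℚ) * μ := max_eq_left (by nlinarith)
      simp only [h1, h2]
      push_cast
      ring
  · rintro _ ⟨j, rfl⟩
    simp only
    have hA : -(i : ℚ) - (j : ℚ) ≤ ((max (max (-i - j) (-j)) 0 : ℤ) : ℚ) := by
      have : ((-i - j : ℤ) : ℚ) ≤ ((max (max (-i - j) (-j)) 0 : ℤ) : ℚ) := by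
        exact_mod_cast le_max_of_le_left (le_max_left _ _)
      simpa using this
    have hB : -(j : ℚ) ≤ ((max (max (-i - j) (-j)) 0 : ℤ) : ℚ) := by
      have : ((-j : ℤ) : ℚ) ≤ ((max (max (-i - j) (-j)) 0 : ℤ) : ℚ) := by
        exact_mod_cast le_max_of_le_left (le_max_right _ _)
      simpa using this
    have hC : (0 : ℚ) ≤ ((max (max (-i - j) (-j)) 0 : ℤ) : ℚ) := by
      exact_mod_cast le_max_right _ _
    generalize ((max (max (-i - j) (-j)) 0 : ℤ) : ℚ) = F at hA hB hC ⊢
    have hjcases : (0 : ℚ) ≤ (j : ℚ) ∨ (j : ℚ) ≤ 0 := le_total _ _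
    have hijcases : (0 : ℚ) ≤ (i : ℚ) + (j : ℚ) ∨ (i : ℚ) + (j : ℚ) ≤ 0 := le_total _ _
    apply max_le
    · -- -i μ ≤ F + j μ  i.e. 0 ≤ F + (i + j) μ
      rcases hijcases with h | h
      · nlinarith
      · -- i + j ≤ 0: F ≥ -i - j, (i+j) μ ≥ (i + j) since μ ≤ 1
        nlinarith
    · rcases hjcases with h | h
      · nlinarith
      · nlinarith

end Groth.Agent.S16414
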