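import Groth.Statements.S16415
import Mathlib.Tactic.Linarith
import Mathlib.Tactic.Ring
import Mathlib.Tactic.NormNum
import Mathlib.Algebra.Order.Floor.Ring

set_option autoImplicit false
open Dieud

namespace Groth.Agent.S16415

/-- Let μ be a rational number with 0 < μ ≤ 1, N a natural number and i an integer. The minimum of m +
jμ over all pairs of integers (m, j) with m ≥ max(−i−j, −j, 0) and 2m + i + 2j ≥ N exists and equals
μ · max(⌈(N−i)/2⌉, −i, 0). (The published statement prints the value as max(⌈(N−i)/2⌉, −iμ, 0),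
without the factor μ on the first term; the printed argument computes μ · max(⌈(N−i)/2⌉, −i, 0),
attained at m = 0, and for N = 2, i = 0, μ = 1/2 the pair (m, j) = (0, 1) gives 1/2 < 1, so the
value with the factor μ is stated here.) -/
theorem result (μ : ℚ) (hμ0 : 0 < μ) (hμ1 : μ ≤ 1)
    (N : ℕ) (i : ℤ) :
    IsLeast {x : ℚ | ∃ m j : ℤ, max (max (-i - j) (-j)) 0 ≤ m ∧ (N : ℤ) ≤ 2 * m + i + 2 * j ∧
        x = (m : ℚ) + (j : ℚ) * μ}
      (((max (max ⌈((N : ℚ) - i) / 2⌉ (-i)) 0 : ℤ) : ℚ) * μ) := by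
  set a : ℤ := ⌈((N : ℚ) - i) / 2⌉ with ha
  set c : ℤ := max (max a (-i)) 0 with hc
  have hca : a ≤ c := le_max_of_le_left (le_max_left _ _)
  have hci : -i ≤ c := le_max_of_le_left (le_max_right _ _)
  have hc0 : 0 ≤ c := le_max_right _ _
  have haq : ((N : ℚ) - i) / 2 ≤ (a : ℚ) := Int.le_ceil _
  constructor
  · refine ⟨0, c, ?_, ?_, by simp⟩
    · apply max_le (max_le ?_ ?_) le_rfl <;> omega
    · have h1 : ((N : ℚ) - i) / 2 ≤ (c : ℚ) := haq.trans (by exact_mod_cast hca)
      have h2 : ((N : ℤ) : ℚ) ≤ ((2 * 0 + i + 2 * c : ℤ) : ℚ) := by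
        push_cast
        linarith
      exact_mod_cast h2
  · rintro x ⟨m, j, hm, hN, rfl⟩
    have hm1 : -i - j ≤ m := (le_max_of_le_left (le_max_left _ _)).trans hm
    have hm2 : -j ≤ m := (le_max_of_le_left (le_max_right _ _)).trans hm
    have hm0 : 0 ≤ m := (le_max_right _ _).trans hm
    have hm1q : -(i : ℚ) - (j : ℚ) ≤ (m : ℚ) := by exact_mod_cast hm1
    have hm2q : -(j : ℚ) ≤ (m : ℚ) := by exact_mod_cast hm2
    have hm0q : (0 : ℚ) ≤ (m : ℚ) := by exact_mod_cast hm0
    have hNq : (N : ℚ) ≤ 2 * (m : ℚ) + i + 2 * j := by exact_mod_cast hN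
    -- a ≤ m + j
    have hamj : a ≤ m + j := by
      rw [ha, Int.ceil_le]
      push_cast
      linarith
    have hamjq : (a : ℚ) ≤ (m : ℚ) + j := by exact_mod_cast hamj
    have h1μ : 0 ≤ 1 - μ := by linarith
    rcases max_choice (max a (-i)) 0 with h | h
    · rcases max_choice a (-i) with h' | h'
      · have : c = a := by rw [hc, h, h']
        rw [this]
        -- a μ ≤ m + j μ
        nlinarith
      · have : c = -i := by rw [hc, h, h']
        rw [this]
        push_cast
        rcases le_total 0 ((i : ℚ) + j) with hij | hij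
        · nlinarith
        · nlinarith
    · have : c = 0 := by rw [hc, h]
      rw [this]
      push_cast
      rcases le_total 0 (j : ℚ) with hj | hj
      · nlinarith
      · nlinarith

end Groth.Agent.S16415
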