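import Groth.Statements.S16419
import Mathlib


set_option autoImplicit false
universe u v
open CAlg

namespace Groth.Agent.S16419

set_option linter.style.haveILetI false
set_option linter.unusedSectionVars false

open TensorProduct

/-- a submodule with projective quotient has a linear retraction -/
lemma exists_retraction {R : Type*} {M : Type*} [CommRing R] [AddCommGroup M] [Module R M]
    (p : Submodule R M) [Module.Projective R (M ⧸ p)] :
    ∃ π : M →ₗ[R] p, ∀ x : p, π x = x := by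
  obtain ⟨σ, hσ⟩ := Module.projective_lifting_property p.mkQ LinearMap.id
    (Submodule.mkQ_surjective p)
  have hσ' : ∀ y, p.mkQ (σ y) = y := fun y => LinearMap.congr_fun hσ y
  let ρ : M →ₗ[R] M := LinearMap.id - σ ∘ₗ p.mkQ
  have hρ : ∀ x, ρ x ∈ p := by
    intro x
    rw [← Submodule.Quotient.mk_eq_zero, ← Submodule.mkQ_apply]
    show p.mkQ (x - σ (p.mkQ x)) = 0
    rw [map_sub, hσ', sub_self]
  refine ⟨ρ.codRestrict p hρ, ?_⟩
  intro x
  apply Subtype.ext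
  show (x : M) - σ (p.mkQ x) = x
  have : p.mkQ (x : M) = 0 := by
    rw [Submodule.mkQ_apply, Submodule.Quotient.mk_eq_zero]; exact x.2
  rw [this, map_zero, sub_zero]

theorem main
    (R : Type u) [CommRing R]
    (H₁ : Type v) (H : Type v) (H₂ : Type v)
    [AddCommGroup H₁] [Module R H₁] [AddCommGroup H] [Module R H] [AddCommGroup H₂] [Module R H₂]
    [Module.Free R H₂]
    (f : H₁ →ₗ[R] H) (g : H →ₗ[R] H₂) (hf : Function.Injective f) (hg : Function.Surjective g)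
    (hfg : Function.Exact f g)
    (F₁ : Submodule R H₁) (F₂ : Submodule R H₂) [Module.Free R (H₁ ⧸ F₁)] [Module.Free R (H₂ ⧸ F₂)]
    (𝔫 : Ideal R)
    (Fb : Submodule (R ⧸ 𝔫) ((R ⧸ 𝔫) ⊗[R] H))
    (h1 : Fb ⊓ LinearMap.range (f.baseChange (R ⧸ 𝔫)) =
      Submodule.map (f.baseChange (R ⧸ 𝔫)) (F₁.baseChange (R ⧸ 𝔫)))
    (h2 : Submodule.map (g.baseChange (R ⧸ 𝔫)) Fb = F₂.baseChange (R ⧸ 𝔫)) :
    ∃ F : Submodule R H, (∃ C : Submodule R H, IsCompl F C) ∧
      F ⊓ LinearMap.range f = Submodule.map f F₁ ∧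
      F.baseChange (R ⧸ 𝔫) = Fb ∧ Submodule.map g F = F₂ := by
  classical
  -- retractions
  obtain ⟨π₁, hπ₁⟩ := exists_retraction F₁
  obtain ⟨π₂, hπ₂⟩ := exists_retraction F₂
  -- section of g
  obtain ⟨s, hs⟩ := Module.projective_lifting_property g LinearMap.id hg
  have hs' : ∀ y, g (s y) = y := fun y => LinearMap.congr_fun hs y
  -- F₂ projective
  haveI : Module.Projective R F₂ := Module.Projective.of_split F₂.subtype π₂ (by
    ext x; simp [hπ₂])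
  -- exactness after base change
  have hex : ∀ x : (R ⧸ 𝔫) ⊗[R] H, g.baseChange (R ⧸ 𝔫) x = 0 →
      x ∈ LinearMap.range (f.baseChange (R ⧸ 𝔫)) := by
    intro x hx
    have h := lTensor_exact (R ⧸ 𝔫) hfg hg
    have hx' : (g.lTensor (R ⧸ 𝔫)) x = 0 := by
      rw [← LinearMap.baseChange_eq_ltensor]; exact hx
    obtain ⟨y, hy⟩ := (h x).mp hx'
    refine ⟨y, ?_⟩
    rw [← hy, LinearMap.baseChange_eq_ltensor]
  -- the surjection `Fb → F₂.baseChange`
  have hφ : ∀ x : Fb, (g.baseChange (R ⧸ 𝔫) ∘ₗ Fb.subtype) x ∈ F₂.baseChange (R ⧸ 𝔫) := by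
    intro x
    rw [← h2]
    exact Submodule.mem_map_of_mem x.2
  let φ : Fb →ₗ[R ⧸ 𝔫] F₂.baseChange (R ⧸ 𝔫) :=
    (g.baseChange (R ⧸ 𝔫) ∘ₗ Fb.subtype).codRestrict (F₂.baseChange (R ⧸ 𝔫)) hφ
  have hφs : Function.Surjective φ := by
    rintro ⟨y, hy⟩
    have hy' := hy
    rw [← h2] at hy'
    obtain ⟨x, hx, hxy⟩ := hy'
    exact ⟨⟨x, hx⟩, Subtype.ext hxy⟩
  obtain ⟨tb, htb⟩ := Module.projective_lifting_property φ (F₂.toBaseChange (R ⧸ 𝔫)) hφs
  have htb' : ∀ y : (R ⧸ 𝔫) ⊗[R] F₂, g.baseChange (R ⧸ 𝔫) (tb y : (R ⧸ 𝔫) ⊗[R] H) =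
      F₂.subtype.baseChange (R ⧸ 𝔫) y := by
    intro y
    have := congrArg Subtype.val (LinearMap.congr_fun htb y)
    exact this
  -- lift to `t'`
  let τ : F₂ →ₗ[R] (R ⧸ 𝔫) ⊗[R] H :=
    ((Fb.subtype ∘ₗ tb).restrictScalars R) ∘ₗ (TensorProduct.mk R (R ⧸ 𝔫) F₂ 1)
  have hτ : ∀ b : F₂, τ b = (tb ((1 : R ⧸ 𝔫) ⊗ₜ[R] b) : (R ⧸ 𝔫) ⊗[R] H) := fun b => rfl
  let q : H →ₗ[R] (R ⧸ 𝔫) ⊗[R] H := TensorProduct.mk R (R ⧸ 𝔫) H 1
  have hq : Function.Surjective q :=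
    TensorProduct.mk_surjective R H (R ⧸ 𝔫) Ideal.Quotient.mk_surjective
  obtain ⟨t', ht'⟩ := Module.projective_lifting_property q τ hq
  have ht'' : ∀ b : F₂, (1 : R ⧸ 𝔫) ⊗ₜ[R] (t' b) = τ b := fun b => LinearMap.congr_fun ht' b
  let t : F₂ →ₗ[R] H := t' - s ∘ₗ (g ∘ₗ t' - F₂.subtype)
  have ht : ∀ b : F₂, t b = t' b - s (g (t' b) - (b : H₂)) := fun b => rfl
  have hgt : ∀ b : F₂, g (t b) = b := by
    intro b
    rw [ht, map_sub, hs']
    abel
  have hqt : ∀ b : F₂, (1 : R ⧸ 𝔫) ⊗ₜ[R] (t b) = τ b := by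
    intro b
    have h0 : (1 : R ⧸ 𝔫) ⊗ₜ[R] (g (t' b) - (b : H₂)) = 0 := by
      rw [TensorProduct.tmul_sub, sub_eq_zero]
      have e1 : (1 : R ⧸ 𝔫) ⊗ₜ[R] (g (t' b)) = g.baseChange (R ⧸ 𝔫) ((1 : R ⧸ 𝔫) ⊗ₜ[R] (t' b)) := by
        rw [LinearMap.baseChange_tmul]
      rw [e1, ht'', hτ, htb', LinearMap.baseChange_tmul]
      rfl
    have h3 : (1 : R ⧸ 𝔫) ⊗ₜ[R] (s (g (t' b) - (b : H₂))) = 0 := by
      have e2 : (1 : R ⧸ 𝔫) ⊗ₜ[R] (s (g (t' b) - (b : H₂))) =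
          s.baseChange (R ⧸ 𝔫) ((1 : R ⧸ 𝔫) ⊗ₜ[R] (g (t' b) - (b : H₂))) := by
        rw [LinearMap.baseChange_tmul]
      rw [e2, h0, map_zero]
    rw [ht, TensorProduct.tmul_sub, h3, sub_zero, ht'']
  -- the submodule
  refine ⟨Submodule.map f F₁ ⊔ LinearMap.range t, ?_, ?_, ?_, ?_⟩
  · -- complement
    refine ⟨Submodule.map f (LinearMap.ker π₁) ⊔ Submodule.map s (LinearMap.ker π₂), ?_⟩
    rw [isCompl_iff]
    constructor
    · rw [Submodule.disjoint_def]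
      intro x hxF hxC
      obtain ⟨y, hy, z, hz, rfl⟩ := Submodule.mem_sup.mp hxF
      obtain ⟨a, ha, rfl⟩ := hy
      obtain ⟨b, rfl⟩ := hz
      obtain ⟨y', hy', z', hz', hsum⟩ := Submodule.mem_sup.mp hxC
      obtain ⟨c₁, hc₁, rfl⟩ := hy'
      obtain ⟨c₂, hc₂, rfl⟩ := hz'
      have hgf : ∀ w, g (f w) = 0 := fun w => hfg.apply_apply_eq_zero w
      -- apply g
      have hg1 := congrArg g hsum
      rw [map_add, map_add, hgf, hgf, zero_add, zero_add, hs', hgt] at hg1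
      -- c₂ = b ∈ F₂ ∩ ker π₂
      have hc₂0 : c₂ = 0 := by
        have : π₂ c₂ = ⟨c₂, hg1 ▸ b.2⟩ := hπ₂ ⟨c₂, hg1 ▸ b.2⟩
        rw [LinearMap.mem_ker.mp hc₂] at this
        exact (congrArg Subtype.val this).symm
      have hb0 : b = 0 := by
        apply Subtype.ext
        rw [← hg1, hc₂0]; rfl
      rw [hc₂0, hb0, map_zero, map_zero, add_zero, add_zero] at hsum
      have hac : c₁ = a := hf hsum
      have ha0 : a = 0 := by
        have h5 : π₁ a = ⟨a, ha⟩ := hπ₁ ⟨a, ha⟩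
        have h6 : π₁ a = 0 := by rw [← hac]; exact LinearMap.mem_ker.mp hc₁
        rw [h6] at h5
        exact (congrArg Subtype.val h5).symm
      rw [ha0, hb0, map_zero, map_zero, add_zero]
    · rw [codisjoint_iff, eq_top_iff]
      intro x _
      -- decompose
      set b : F₂ := π₂ (g x) with hb
      set c₂ : H₂ := g x - b with hc₂
      have hc₂k : c₂ ∈ LinearMap.ker π₂ := by
        rw [LinearMap.mem_ker, hc₂, map_sub, hπ₂, sub_self]
      have hker : g (x - t b - s c₂) = 0 := by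
        rw [map_sub, map_sub, hgt, hs', hc₂]; abel
      obtain ⟨w, hw⟩ := (hfg _).mp hker
      set a : F₁ := π₁ w with ha
      set c₁ : H₁ := w - a with hc₁
      have hc₁k : c₁ ∈ LinearMap.ker π₁ := by
        rw [LinearMap.mem_ker, hc₁, map_sub, hπ₁, sub_self]
      have hx : x = (f a + t b) + (f c₁ + s c₂) := by
        have : f w = f a + f c₁ := by rw [← map_add, hc₁]; congr 1; abel
        rw [← sub_eq_zero]
        have h5 : x - t b - s c₂ = f a + f c₁ := by rw [← hw, this]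
        rw [← sub_eq_zero] at h5
        rw [← h5]; abel
      rw [hx]
      apply Submodule.add_mem_sup
      · exact Submodule.add_mem_sup (Submodule.mem_map_of_mem a.2) ⟨b, rfl⟩
      · exact Submodule.add_mem_sup (Submodule.mem_map_of_mem hc₁k) (Submodule.mem_map_of_mem hc₂k)
  · -- F ⊓ range f = map f F₁
    apply le_antisymm
    · rintro x ⟨hxF, hxr⟩
      obtain ⟨y, hy, z, hz, rfl⟩ := Submodule.mem_sup.mp hxF
      obtain ⟨b, rfl⟩ := hz
      obtain ⟨w, hw⟩ := hxr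
      have hg1 := congrArg g hw
      have hgf : ∀ w, g (f w) = 0 := fun w => hfg.apply_apply_eq_zero w
      obtain ⟨a, ha, rfl⟩ := hy
      rw [hgf, map_add, hgf, zero_add, hgt] at hg1
      have hb0 : b = 0 := Subtype.ext hg1.symm
      rw [hb0, map_zero, add_zero]
      exact Submodule.mem_map_of_mem ha
    · intro x hx
      refine ⟨Submodule.mem_sup_left hx, ?_⟩
      obtain ⟨a, -, rfl⟩ := hx
      exact ⟨a, rfl⟩
  · -- base change
    have hF1 : Submodule.map (f.baseChange (R ⧸ 𝔫)) (F₁.baseChange (R ⧸ 𝔫)) ≤ Fb := by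
      rw [← h1]; exact inf_le_left
    apply le_antisymm
    · rw [Submodule.baseChange_eq_span, Submodule.span_le]
      rintro _ ⟨x, hx, rfl⟩
      obtain ⟨y, hy, z, hz, rfl⟩ := Submodule.mem_sup.mp hx
      obtain ⟨a, ha, rfl⟩ := hy
      obtain ⟨b, rfl⟩ := hz
      show (1 : R ⧸ 𝔫) ⊗ₜ[R] (f a + t b) ∈ Fb
      rw [TensorProduct.tmul_add, hqt, hτ]
      apply Fb.add_mem
      · apply hF1
        refine ⟨(1 : R ⧸ 𝔫) ⊗ₜ[R] a, Submodule.tmul_mem_baseChange_of_mem _ ha, ?_⟩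
        rw [LinearMap.baseChange_tmul]
      · exact (tb _).2
    · intro x hx
      -- g.baseChange x ∈ F₂.baseChange
      have hgx : g.baseChange (R ⧸ 𝔫) x ∈ F₂.baseChange (R ⧸ 𝔫) := by
        rw [← h2]; exact Submodule.mem_map_of_mem hx
      obtain ⟨y, hy⟩ := hgx
      -- x - tb y ∈ Fb ∩ ker
      have hd : x - (tb y : (R ⧸ 𝔫) ⊗[R] H) ∈ Fb := Fb.sub_mem hx (tb y).2
      have hd0 : g.baseChange (R ⧸ 𝔫) (x - (tb y : (R ⧸ 𝔫) ⊗[R] H)) = 0 := by
        rw [map_sub, htb', hy, sub_self]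
      have hd1 : x - (tb y : (R ⧸ 𝔫) ⊗[R] H) ∈
          Submodule.map (f.baseChange (R ⧸ 𝔫)) (F₁.baseChange (R ⧸ 𝔫)) := by
        rw [← h1]; exact ⟨hd, hex _ hd0⟩
      -- both pieces in F.baseChange
      have hp1 : Submodule.map (f.baseChange (R ⧸ 𝔫)) (F₁.baseChange (R ⧸ 𝔫)) ≤
          (Submodule.map f F₁ ⊔ LinearMap.range t).baseChange (R ⧸ 𝔫) := by
        rw [Submodule.map_le_iff_le_comap, Submodule.baseChange_eq_span, Submodule.span_le]
        rintro _ ⟨a, ha, rfl⟩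
        show f.baseChange (R ⧸ 𝔫) ((1 : R ⧸ 𝔫) ⊗ₜ[R] a) ∈
          (Submodule.map f F₁ ⊔ LinearMap.range t).baseChange (R ⧸ 𝔫)
        rw [LinearMap.baseChange_tmul]
        exact Submodule.tmul_mem_baseChange_of_mem _
          (Submodule.mem_sup_left (Submodule.mem_map_of_mem ha))
      have hp2 : ∀ y : (R ⧸ 𝔫) ⊗[R] F₂, (tb y : (R ⧸ 𝔫) ⊗[R] H) ∈
          (Submodule.map f F₁ ⊔ LinearMap.range t).baseChange (R ⧸ 𝔫) := by
        intro y
        induction y using TensorProduct.induction_on with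
        | zero => rw [map_zero]; exact Submodule.zero_mem _
        | tmul r b =>
          have : r ⊗ₜ[R] b = r • ((1 : R ⧸ 𝔫) ⊗ₜ[R] b) := by
            rw [TensorProduct.smul_tmul', smul_eq_mul, mul_one]
          rw [this, map_smul]
          show r • (tb ((1 : R ⧸ 𝔫) ⊗ₜ[R] b) : (R ⧸ 𝔫) ⊗[R] H) ∈ _
          rw [← hτ, ← hqt]
          exact Submodule.smul_mem _ _ (Submodule.tmul_mem_baseChange_of_mem _
            (Submodule.mem_sup_right ⟨b, rfl⟩))
        | add y z hy hz =>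
          rw [map_add]
          exact Submodule.add_mem _ hy hz
      have : x = (x - (tb y : (R ⧸ 𝔫) ⊗[R] H)) + (tb y : (R ⧸ 𝔫) ⊗[R] H) := by abel
      rw [this]
      exact Submodule.add_mem _ (hp1 hd1) (hp2 y)
  · -- map g F = F₂
    apply le_antisymm
    · rw [Submodule.map_le_iff_le_comap]
      intro x hx
      obtain ⟨y, hy, z, hz, rfl⟩ := Submodule.mem_sup.mp hx
      obtain ⟨a, ha, rfl⟩ := hy
      obtain ⟨b, rfl⟩ := hz
      show g (f a + t b) ∈ F₂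
      rw [map_add, hfg.apply_apply_eq_zero, zero_add, hgt]
      exact b.2
    · intro b hb
      exact ⟨t ⟨b, hb⟩, Submodule.mem_sup_right ⟨_, rfl⟩, hgt ⟨b, hb⟩⟩



open TensorProduct in
/-- For a commutative local Artinian ring R and an exact sequence 0 → H₁ → H → H₂ → 0 of finite free
R-modules, let F₁ ⊆ H₁ and F₂ ⊆ H₂ be submodules with H₁/F₁ and H₂/F₂ free; let 𝔫 be an ideal of R
of square zero, R̄ = R/𝔫, and F̄ an R̄-submodule of H̄ = R̄ ⊗ H with free quotient such that F̄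
meets the image of R̄ ⊗ H₁ in the image of R̄ ⊗ F₁ and the image of F̄ in R̄ ⊗ H₂ is the image of R̄
⊗ F₂. Then there is a direct summand F of H with F ∩ H₁ = F₁, whose image in H̄ is F̄ and whose
image in H₂ is F₂. -/
theorem result
    (R : Type u) [CommRing R] [IsArtinianRing R] [IsLocalRing R]
    (H₁ : Type v) (H : Type v) (H₂ : Type v)
    [AddCommGroup H₁] [Module R H₁] [AddCommGroup H] [Module R H] [AddCommGroup H₂] [Module R H₂]
    [Module.Free R H₁] [Module.Finite R H₁] [Module.Free R H] [Module.Finite R H]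
    [Module.Free R H₂] [Module.Finite R H₂]
    (f : H₁ →ₗ[R] H) (g : H →ₗ[R] H₂) (hf : Function.Injective f) (hg : Function.Surjective g)
    (hfg : Function.Exact f g)
    (F₁ : Submodule R H₁) (F₂ : Submodule R H₂) [Module.Free R (H₁ ⧸ F₁)] [Module.Free R (H₂ ⧸ F₂)]
    (𝔫 : Ideal R) (hn : 𝔫 * 𝔫 = ⊥)
    (Fb : Submodule (R ⧸ 𝔫) ((R ⧸ 𝔫) ⊗[R] H))
    [Module.Free (R ⧸ 𝔫) (((R ⧸ 𝔫) ⊗[R] H) ⧸ Fb)]
    (h1 : Fb ⊓ LinearMap.range (f.baseChange (R ⧸ 𝔫)) =
      Submodule.map (f.baseChange (R ⧸ 𝔫)) (F₁.baseChange (R ⧸ 𝔫)))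
    (h2 : Submodule.map (g.baseChange (R ⧸ 𝔫)) Fb = F₂.baseChange (R ⧸ 𝔫)) :
    ∃ F : Submodule R H, (∃ C : Submodule R H, IsCompl F C) ∧
      F ⊓ LinearMap.range f = Submodule.map f F₁ ∧
      F.baseChange (R ⧸ 𝔫) = Fb ∧ Submodule.map g F = F₂ := by
  exact main R H₁ H H₂ f g hf hg hfg F₁ F₂ 𝔫 Fb h1 h2

end Groth.Agent.S16419
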