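import Groth.Statements.S16420
import Mathlib

set_option autoImplicit false
universe u v
open CAlg

namespace Groth.Agent.S16420

open TensorProduct

section
variable {R : Type u} [CommRing R] {H₁ H H₂ : Type v} [AddCommGroup H₁] [Module R H₁]
  [AddCommGroup H] [Module R H] [AddCommGroup H₂] [Module R H₂]

theorem factor_through {X : Type v} [AddCommGroup X] [Module R X] (f : H₁ →ₗ[R] H)
    (g : H →ₗ[R] H₂) (hf : Function.Injective f) (hfg : Function.Exact f g)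
    (d : X →ₗ[R] H) (hd : ∀ x, g (d x) = 0) : ∃ w : X →ₗ[R] H₁, ∀ x, f (w x) = d x := by
  have hmem : ∀ x, d x ∈ LinearMap.range f := fun x => (hfg (d x)).mp (hd x)
  refine ⟨(LinearEquiv.ofInjective f hf).symm.toLinearMap ∘ₗ
    d.codRestrict (LinearMap.range f) hmem, fun x => ?_⟩
  have h1 := (LinearEquiv.ofInjective f hf).apply_symm_apply
    (d.codRestrict (LinearMap.range f) hmem x)
  have h2 := congrArg Subtype.val h1
  rw [LinearEquiv.ofInjective_apply] at h2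
  exact h2

theorem one_tmul_eq_zero (𝔫 : Ideal R) (z : H) (hz : z ∈ 𝔫 • (⊤ : Submodule R H)) :
    (1 : R ⧸ 𝔫) ⊗ₜ[R] z = 0 := by
  refine Submodule.smul_induction_on hz ?_ ?_
  · intro r hr n _
    rw [TensorProduct.tmul_smul, TensorProduct.smul_tmul']
    have e : r • (1 : R ⧸ 𝔫) = 0 := by
      rw [Algebra.smul_def, mul_one]
      exact Ideal.Quotient.eq_zero_iff_mem.mpr hr
    rw [e, TensorProduct.zero_tmul]
  · intro x y hx hy
    rw [TensorProduct.tmul_add, hx, hy, add_zero]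

theorem crit (𝔫 : Ideal R) (F₁ : Submodule R H₁) (h : H₁)
    (hh : (1 : R ⧸ 𝔫) ⊗ₜ[R] h ∈ F₁.baseChange (R ⧸ 𝔫)) :
    h ∈ F₁ ⊔ 𝔫 • (⊤ : Submodule R H₁) := by
  obtain ⟨P, hP⟩ : ∃ P, P = F₁ ⊔ 𝔫 • (⊤ : Submodule R H₁) := ⟨_, rfl⟩
  rw [← hP]
  let B₀ : R →ₗ[R] (H₁ →ₗ[R] H₁ ⧸ P) := LinearMap.toSpanSingleton R _ P.mkQ
  have hker : (𝔫 : Submodule R R) ≤ LinearMap.ker B₀ := by
    intro r hr
    rw [LinearMap.mem_ker]
    ext x
    show (r • P.mkQ) x = 0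
    rw [LinearMap.smul_apply, ← map_smul, Submodule.mkQ_apply, Submodule.Quotient.mk_eq_zero, hP]
    exact Submodule.mem_sup_right (Submodule.smul_mem_smul hr Submodule.mem_top)
  let B : (R ⧸ 𝔫) →ₗ[R] (H₁ →ₗ[R] H₁ ⧸ P) := Submodule.liftQ 𝔫 B₀ hker
  let ψ := TensorProduct.lift B
  have hψ1 : ∀ x, ψ ((1 : R ⧸ 𝔫) ⊗ₜ[R] x) = P.mkQ x := by
    intro x
    show B (Submodule.Quotient.mk 1) x = _
    rw [Submodule.liftQ_apply]
    show ((1 : R) • P.mkQ) x = _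
    rw [one_smul]
  have hvan : ∀ z ∈ F₁.baseChange (R ⧸ 𝔫), ψ z = 0 := by
    intro z hz
    rw [Submodule.baseChange_eq_span] at hz
    induction hz using Submodule.span_induction with
    | mem z hz =>
      obtain ⟨x, hx, rfl⟩ := hz
      show ψ ((1 : R ⧸ 𝔫) ⊗ₜ[R] x) = 0
      rw [hψ1, Submodule.mkQ_apply, Submodule.Quotient.mk_eq_zero, hP]
      exact Submodule.mem_sup_left hx
    | zero => exact map_zero _
    | add a b _ _ ha hb => rw [map_add, ha, hb, add_zero]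
    | smul a z _ hz =>
      obtain ⟨r, rfl⟩ := Ideal.Quotient.mk_surjective a
      have e : (Ideal.Quotient.mk 𝔫 r) • z = r • z := algebraMap_smul (R ⧸ 𝔫) r z
      rw [e, map_smul, hz, smul_zero]
  have h0 := hvan _ hh
  rw [hψ1, Submodule.mkQ_apply, Submodule.Quotient.mk_eq_zero] at h0
  exact h0

theorem exists_retract (F₁ : Submodule R H₁) [Module.Free R (H₁ ⧸ F₁)] :
    ∃ e : H₁ →ₗ[R] H₁, (∀ x, x - e x ∈ F₁) ∧ (∀ x ∈ F₁, e x = 0) := by
  obtain ⟨s, hs⟩ := Module.projective_lifting_property F₁.mkQ LinearMap.id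
    (Submodule.mkQ_surjective F₁)
  refine ⟨s ∘ₗ F₁.mkQ, fun x => ?_, fun x hx => ?_⟩
  · rw [← Submodule.Quotient.mk_eq_zero, Submodule.Quotient.mk_sub, sub_eq_zero]
    have := LinearMap.congr_fun hs (F₁.mkQ x)
    exact this.symm
  · rw [LinearMap.comp_apply, Submodule.mkQ_apply, (Submodule.Quotient.mk_eq_zero F₁).mpr hx,
      map_zero]

theorem inter_smul_top (𝔫 : Ideal R) (F₁ : Submodule R H₁) [Module.Free R (H₁ ⧸ F₁)]
    (z : H₁) (hz1 : z ∈ F₁) (hz2 : z ∈ 𝔫 • (⊤ : Submodule R H₁)) : z ∈ 𝔫 • F₁ := by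
  obtain ⟨e, he1, he2⟩ := exists_retract F₁
  have h1 : ((LinearMap.id : H₁ →ₗ[R] H₁) - e) z = z := by
    rw [LinearMap.sub_apply, LinearMap.id_apply, he2 z hz1, sub_zero]
  have h2 : ((LinearMap.id : H₁ →ₗ[R] H₁) - e) z ∈ Submodule.map ((LinearMap.id : H₁ →ₗ[R] H₁) - e) (𝔫 • (⊤ : Submodule R H₁)) :=
    Submodule.mem_map_of_mem hz2
  rw [Submodule.map_smul'', h1] at h2
  refine Submodule.smul_mono (le_refl 𝔫) ?_ h2
  rintro _ ⟨x, _, rfl⟩
  exact he1 x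

theorem map_mem_smul_top (𝔫 : Ideal R) (f : H₁ →ₗ[R] H) (z : H₁)
    (hz : z ∈ 𝔫 • (⊤ : Submodule R H₁)) : f z ∈ 𝔫 • (⊤ : Submodule R H) := by
  have h2 : f z ∈ Submodule.map f (𝔫 • (⊤ : Submodule R H₁)) := Submodule.mem_map_of_mem hz
  rw [Submodule.map_smul''] at h2
  exact Submodule.smul_mono (le_refl 𝔫) le_top h2

end

section
variable {R : Type u} [CommRing R] {H₁ H H₂ : Type v} [AddCommGroup H₁] [Module R H₁]
  [AddCommGroup H] [Module R H] [AddCommGroup H₂] [Module R H₂]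

/-- the transvection `x ↦ x + f (u (g x))` -/
abbrev θ (f : H₁ →ₗ[R] H) (g : H →ₗ[R] H₂) (u : H₂ →ₗ[R] H₁) : H →ₗ[R] H :=
  LinearMap.id + f ∘ₗ u ∘ₗ g

variable {f : H₁ →ₗ[R] H} {g : H →ₗ[R] H₂}

theorem θ_apply (u : H₂ →ₗ[R] H₁) (x : H) : θ f g u x = x + f (u (g x)) := rfl

theorem θ_inv (hgf : ∀ h, g (f h) = 0) (u : H₂ →ₗ[R] H₁) (x : H) :
    θ f g u (θ f g (-u) x) = x := by
  rw [θ_apply, θ_apply, map_add, hgf, add_zero]
  simp only [LinearMap.neg_apply, map_neg]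
  abel

theorem θ_inv' (hgf : ∀ h, g (f h) = 0) (u : H₂ →ₗ[R] H₁) (x : H) :
    θ f g (-u) (θ f g u x) = x := by
  have := θ_inv hgf (-u) x
  rwa [neg_neg] at this

theorem g_θ (hgf : ∀ h, g (f h) = 0) (u : H₂ →ₗ[R] H₁) (x : H) : g (θ f g u x) = g x := by
  rw [θ_apply, map_add, hgf, add_zero]

theorem θ_f (hgf : ∀ h, g (f h) = 0) (u : H₂ →ₗ[R] H₁) (h : H₁) : θ f g u (f h) = f h := by
  rw [θ_apply, hgf, map_zero, map_zero, add_zero]

theorem part1 (hgf : ∀ h, g (f h) = 0) (F₁ : Submodule R H₁) (F₂ : Submodule R H₂)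
    (𝔫 : Ideal R) (Fb : Submodule (R ⧸ 𝔫) ((R ⧸ 𝔫) ⊗[R] H)) (F : Submodule R H)
    (hF : (∃ C : Submodule R H, IsCompl F C) ∧ F ⊓ LinearMap.range f = Submodule.map f F₁ ∧
      Submodule.baseChange (R ⧸ 𝔫) F = Fb ∧ Submodule.map g F = F₂)
    (u : H₂ →ₗ[R] H₁) (hu : ∀ y, u y ∈ 𝔫 • (⊤ : Submodule R H₁)) :
    (∃ C : Submodule R H, IsCompl (Submodule.map (θ f g u) F) C) ∧
      (Submodule.map (θ f g u) F) ⊓ LinearMap.range f = Submodule.map f F₁ ∧
      Submodule.baseChange (R ⧸ 𝔫) (Submodule.map (θ f g u) F) = Fb ∧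
      Submodule.map g (Submodule.map (θ f g u) F) = F₂ := by
  obtain ⟨⟨C, hC⟩, hF2, hF3, hF4⟩ := hF
  refine ⟨⟨Submodule.map (θ f g u) C, ?_⟩, ?_, ?_, ?_⟩
  · rw [isCompl_iff, Submodule.disjoint_def, Submodule.codisjoint_iff_exists_add_eq]
    constructor
    · rintro x ⟨a, ha, rfl⟩ ⟨c, hc, hce⟩
      have hac : c = a := by
        have := congrArg (θ f g (-u)) hce
        rwa [θ_inv' hgf, θ_inv' hgf] at this
      have ha0 : a = 0 := by
        have := Submodule.disjoint_def.mp hC.disjoint a ha (hac ▸ hc)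
        exact this
      rw [ha0, map_zero]
    · intro x
      obtain ⟨a, c, ha, hc, hac⟩ := Submodule.codisjoint_iff_exists_add_eq.mp hC.codisjoint
        (θ f g (-u) x)
      refine ⟨θ f g u a, θ f g u c, Submodule.mem_map_of_mem ha, Submodule.mem_map_of_mem hc, ?_⟩
      rw [← map_add, hac, θ_inv hgf]
  · apply le_antisymm
    · rintro x ⟨⟨a, ha, rfl⟩, ⟨h, hh⟩⟩
      have ha' : a = f h := by
        have := congrArg (θ f g (-u)) hh
        rw [θ_f hgf, θ_inv' hgf] at this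
        exact this.symm
      have hmem : a ∈ F ⊓ LinearMap.range f := ⟨ha, ⟨h, ha'.symm⟩⟩
      rw [hF2] at hmem
      rw [ha', θ_f hgf, ← ha']
      exact hmem
    · rintro x ⟨h₁, hh₁, rfl⟩
      have hx : f h₁ ∈ F ⊓ LinearMap.range f := by rw [hF2]; exact ⟨h₁, hh₁, rfl⟩
      exact ⟨⟨f h₁, hx.1, θ_f hgf u h₁⟩, ⟨h₁, rfl⟩⟩
  · rw [← hF3, Submodule.baseChange_eq_span, Submodule.baseChange_eq_span, ← Submodule.map_comp]
    have e : (TensorProduct.mk R (R ⧸ 𝔫) H 1) ∘ₗ (θ f g u) = TensorProduct.mk R (R ⧸ 𝔫) H 1 := by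
      ext x
      rw [LinearMap.comp_apply, θ_apply, map_add, TensorProduct.mk_apply, TensorProduct.mk_apply,
        one_tmul_eq_zero 𝔫 _ (map_mem_smul_top 𝔫 f _ (hu _)), add_zero]
    rw [e]
  · rw [← Submodule.map_comp]
    have e : g ∘ₗ θ f g u = g := LinearMap.ext (g_θ hgf u)
    rw [e, hF4]

theorem part2 (hf : Function.Injective f) (hgf : ∀ h, g (f h) = 0) (F₁ : Submodule R H₁)
    [Module.Free R (H₁ ⧸ F₁)] (F₂ : Submodule R H₂) (𝔫 : Ideal R) (F : Submodule R H)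
    (hF2 : F ⊓ LinearMap.range f = Submodule.map f F₁) (hF4 : Submodule.map g F = F₂)
    (u : H₂ →ₗ[R] H₁) (hu : ∀ y, u y ∈ 𝔫 • (⊤ : Submodule R H₁)) :
    Submodule.map (θ f g u) F = F ↔ ∀ y ∈ F₂, u y ∈ 𝔫 • F₁ := by
  constructor
  · intro hθ y hy
    rw [← hF4] at hy
    obtain ⟨x, hx, rfl⟩ := hy
    have h1 : θ f g u x ∈ F := by rw [← hθ]; exact Submodule.mem_map_of_mem hx
    have h2 : f (u (g x)) ∈ F ⊓ LinearMap.range f := by
      refine ⟨?_, ⟨_, rfl⟩⟩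
      have e : f (u (g x)) = θ f g u x - x := by rw [θ_apply]; abel
      rw [e]; exact F.sub_mem h1 hx
    rw [hF2] at h2
    obtain ⟨h₁, hh₁, he⟩ := h2
    have e : u (g x) = h₁ := (hf he).symm
    exact inter_smul_top 𝔫 F₁ _ (e ▸ hh₁) (hu (g x))
  · intro hy
    have key : ∀ (u' : H₂ →ₗ[R] H₁), (∀ y ∈ F₂, u' y ∈ 𝔫 • F₁) → ∀ x ∈ F, θ f g u' x ∈ F := by
      intro u' hu' x hx
      rw [θ_apply]
      apply F.add_mem hx
      have h1 : g x ∈ F₂ := by rw [← hF4]; exact Submodule.mem_map_of_mem hx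
      have h2 : u' (g x) ∈ F₁ := Submodule.smul_le_right (hu' _ h1)
      have h3 : f (u' (g x)) ∈ F ⊓ LinearMap.range f := by
        rw [hF2]; exact Submodule.mem_map_of_mem h2
      exact h3.1
    apply le_antisymm
    · rintro _ ⟨x, hx, rfl⟩; exact key u hy x hx
    · intro x hx
      refine ⟨θ f g (-u) x, key (-u) (fun y hy' => ?_) x hx, θ_inv hgf u x⟩
      rw [LinearMap.neg_apply]
      exact Submodule.neg_mem _ (hy y hy')

theorem part3 (hf : Function.Injective f) (hg : Function.Surjective g)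
    (hfg : Function.Exact f g) [Module.Free R H₂] (F₁ : Submodule R H₁)
    [Module.Free R (H₁ ⧸ F₁)] (F₂ : Submodule R H₂) [Module.Free R (H₂ ⧸ F₂)] (𝔫 : Ideal R)
    (Fb : Submodule (R ⧸ 𝔫) ((R ⧸ 𝔫) ⊗[R] H))
    (h1 : Fb ⊓ LinearMap.range (f.baseChange (R ⧸ 𝔫)) =
      Submodule.map (f.baseChange (R ⧸ 𝔫)) (F₁.baseChange (R ⧸ 𝔫)))
    (F F' : Submodule R H)
    (hF : F ⊓ LinearMap.range f = Submodule.map f F₁ ∧
      Submodule.baseChange (R ⧸ 𝔫) F = Fb ∧ Submodule.map g F = F₂)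
    (hF' : F' ⊓ LinearMap.range f = Submodule.map f F₁ ∧
      Submodule.baseChange (R ⧸ 𝔫) F' = Fb ∧ Submodule.map g F' = F₂) :
    ∃ u : H₂ →ₗ[R] H₁, (∀ y : H₂, u y ∈ 𝔫 • (⊤ : Submodule R H₁)) ∧
      F' = Submodule.map (θ f g u) F := by
  have hgf : ∀ h, g (f h) = 0 := fun h => (hfg (f h)).mpr ⟨h, rfl⟩
  obtain ⟨σ, hσ⟩ := Module.projective_lifting_property g LinearMap.id hg
  have hσ' : ∀ y, g (σ y) = y := fun y => LinearMap.congr_fun hσ y
  obtain ⟨ρ, hρ⟩ := factor_through f g hf hfg ((LinearMap.id : H →ₗ[R] H) - σ ∘ₗ g) (by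
    intro x
    rw [LinearMap.sub_apply, LinearMap.id_apply, LinearMap.comp_apply, map_sub, hσ', sub_self])
  have hρf : ∀ h, ρ (f h) = h := by
    intro h
    apply hf
    rw [hρ, LinearMap.sub_apply, LinearMap.id_apply, LinearMap.comp_apply, hgf, map_zero,
      sub_zero]
  have hfinj : Function.Injective (f.baseChange (R ⧸ 𝔫)) := by
    apply Function.LeftInverse.injective (g := ρ.baseChange (R ⧸ 𝔫))
    intro z
    have e : ρ.baseChange (R ⧸ 𝔫) ∘ₗ f.baseChange (R ⧸ 𝔫) = LinearMap.id := by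
      rw [← LinearMap.baseChange_comp, (LinearMap.ext hρf : ρ ∘ₗ f = LinearMap.id),
        LinearMap.baseChange_id]
    exact LinearMap.congr_fun e z
  obtain ⟨e₂, he2a, he2b⟩ := exists_retract F₂
  have hτ : ∀ (E : Submodule R H), Submodule.map g E = F₂ → ∃ τ : H₂ →ₗ[R] H,
      (∀ y, τ y ∈ E) ∧ ∀ y, g (τ y) = y - e₂ y := by
    intro E hE
    let gE : E →ₗ[R] F₂ := (g.domRestrict E).codRestrict F₂ (fun x => by
      rw [← hE]; exact Submodule.mem_map_of_mem x.2)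
    have hgE : Function.Surjective gE := by
      rintro ⟨y, hy⟩
      have hy' := hy
      rw [← hE] at hy'
      obtain ⟨x, hx, hxy⟩ := hy'
      exact ⟨⟨x, hx⟩, Subtype.ext hxy⟩
    let p₂' : H₂ →ₗ[R] F₂ := ((LinearMap.id : H₂ →ₗ[R] H₂) - e₂).codRestrict F₂
      (fun y => he2a y)
    obtain ⟨τ', hτ'⟩ := Module.projective_lifting_property gE p₂' hgE
    refine ⟨E.subtype ∘ₗ τ', fun y => (τ' y).2, fun y => ?_⟩
    have := congrArg Subtype.val (LinearMap.congr_fun hτ' y)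
    exact this
  obtain ⟨τ, hτF, hτg⟩ := hτ F hF.2.2
  obtain ⟨τ', hτF', hτg'⟩ := hτ F' hF'.2.2
  obtain ⟨w, hw⟩ := factor_through f g hf hfg (τ' - τ) (by
    intro y
    rw [LinearMap.sub_apply, map_sub, hτg, hτg', sub_self])
  have hwmem : ∀ y, w y ∈ F₁ ⊔ 𝔫 • (⊤ : Submodule R H₁) := by
    intro y
    apply crit
    have hb : (1 : R ⧸ 𝔫) ⊗ₜ[R] f (w y) ∈ Fb := by
      rw [hw, LinearMap.sub_apply, TensorProduct.tmul_sub]
      apply Submodule.sub_mem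
      · rw [← hF'.2.1]; exact Submodule.tmul_mem_baseChange_of_mem _ (hτF' y)
      · rw [← hF.2.1]; exact Submodule.tmul_mem_baseChange_of_mem _ (hτF y)
    have hb2 : f.baseChange (R ⧸ 𝔫) ((1 : R ⧸ 𝔫) ⊗ₜ[R] w y) ∈
        Fb ⊓ LinearMap.range (f.baseChange (R ⧸ 𝔫)) := by
      refine ⟨?_, ⟨_, rfl⟩⟩
      rw [LinearMap.baseChange_tmul]; exact hb
    rw [h1] at hb2
    obtain ⟨z, hz, hze⟩ := hb2
    rw [← hfinj hze]; exact hz
  obtain ⟨e₁, he1a, he1b⟩ := exists_retract F₁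
  have hsw : ∀ z, z ∈ F → g z = 0 → z ∈ F' := by
    intro z hz hgz
    have h0 : z ∈ F ⊓ LinearMap.range f := ⟨hz, (hfg z).mp hgz⟩
    rw [hF.1, ← hF'.1] at h0
    exact h0.1
  have hsw' : ∀ z, z ∈ F' → g z = 0 → z ∈ F := by
    intro z hz hgz
    have h0 : z ∈ F' ⊓ LinearMap.range f := ⟨hz, (hfg z).mp hgz⟩
    rw [hF'.1, ← hF.1] at h0
    exact h0.1
  have hδ : ∀ y, f (e₁ (w y)) - f (w y) ∈ F ∧ f (e₁ (w y)) - f (w y) ∈ F' := by
    intro y
    have h0 : f (e₁ (w y)) - f (w y) ∈ Submodule.map f F₁ := by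
      rw [← map_sub]
      apply Submodule.mem_map_of_mem
      have := F₁.neg_mem (he1a (w y))
      rwa [neg_sub] at this
    constructor
    · have h2 := h0
      rw [← hF.1] at h2
      exact h2.1
    · have h2 := h0
      rw [← hF'.1] at h2
      exact h2.1
  refine ⟨e₁ ∘ₗ w, ?_, ?_⟩
  · intro y
    obtain ⟨a, ha, b, hb, hab⟩ := Submodule.mem_sup.mp (hwmem y)
    rw [LinearMap.comp_apply, ← hab, map_add, he1b a ha, zero_add]
    exact map_mem_smul_top 𝔫 e₁ b hb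
  · apply le_antisymm
    · intro x' hx'
      have hy : g x' ∈ F₂ := by rw [← hF'.2.2]; exact Submodule.mem_map_of_mem hx'
      have hp : g x' - e₂ (g x') = g x' := by rw [he2b _ hy, sub_zero]
      refine ⟨θ f g (-(e₁ ∘ₗ w)) x', ?_, θ_inv hgf _ x'⟩
      have e : θ f g (-(e₁ ∘ₗ w)) x' = (x' - τ' (g x')) + τ (g x') -
          (f (e₁ (w (g x'))) - f (w (g x'))) := by
        rw [θ_apply, LinearMap.neg_apply, LinearMap.comp_apply, map_neg, hw,
          LinearMap.sub_apply]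
        abel
      rw [e]
      apply F.sub_mem (F.add_mem ?_ (hτF _)) (hδ _).1
      apply hsw' _ (F'.sub_mem hx' (hτF' _))
      rw [map_sub, hτg', hp, sub_self]
    · rintro _ ⟨x, hx, rfl⟩
      have hy : g x ∈ F₂ := by rw [← hF.2.2]; exact Submodule.mem_map_of_mem hx
      have hp : g x - e₂ (g x) = g x := by rw [he2b _ hy, sub_zero]
      have e : θ f g (e₁ ∘ₗ w) x = (x - τ (g x)) + τ' (g x) +
          (f (e₁ (w (g x))) - f (w (g x))) := by
        rw [θ_apply, LinearMap.comp_apply, hw, LinearMap.sub_apply]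
        abel
      rw [e]
      apply F'.add_mem (F'.add_mem ?_ (hτF' _)) (hδ _).2
      apply hsw _ (F.sub_mem hx (hτF _))
      rw [map_sub, hτg, hp, sub_self]

end


open TensorProduct in
/-- For a commutative local Artinian ring R and an exact sequence 0 → H₁ → H → H₂ → 0 of finite free
R-modules, let F₁ ⊆ H₁ and F₂ ⊆ H₂ be submodules with free quotients, 𝔫 an ideal of R of square
zero, R̄ = R/𝔫, and F̄ ⊆ H̄ = R̄ ⊗ H an R̄-submodule with free quotient meeting the image of R̄ ⊗ H₁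
in the image of R̄ ⊗ F₁ and mapping onto the image of R̄ ⊗ F₂; let L be the set of direct summands F
of H with F ∩ H₁ = F₁, with image F̄ in H̄ and with image F₂ in H₂. Then L is a torsor under
Hom_R(F₂, 𝔫(H₁/F₁)), acting as follows: an R-linear u : H₂ → H₁ with u(H₂) ⊆ 𝔫H₁ moves F ∈ L to the
image of F under x ↦ x + f(u(g(x))). Precisely, for F ∈ L: (1) that image again lies in L; (2) it
equals F if and only if u(F₂) ⊆ 𝔫F₁; (3) every F' ∈ L is obtained from F in this way for some such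
u. (The published statement phrases the torsor under the R̄-linear maps from F̄₂ to 𝔫 ⊗ (H̄₁/F̄₁), a
group identified with the maps u as above modulo those with u(F₂) ⊆ 𝔫F₁, and describes the action
through a lift F₂ → 𝔫 ⊗ H₁ composed with F → F/F₁ ≅ F₂; restricted to F this is x ↦ f(u(g(x))).) -/
theorem result
    (R : Type u) [CommRing R] [IsArtinianRing R] [IsLocalRing R]
    (H₁ : Type v) (H : Type v) (H₂ : Type v)
    [AddCommGroup H₁] [Module R H₁] [AddCommGroup H] [Module R H] [AddCommGroup H₂] [Module R H₂]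
    [Module.Free R H₁] [Module.Finite R H₁] [Module.Free R H] [Module.Finite R H]
    [Module.Free R H₂] [Module.Finite R H₂]
    (f : H₁ →ₗ[R] H) (g : H →ₗ[R] H₂) (hf : Function.Injective f) (hg : Function.Surjective g)
    (hfg : Function.Exact f g)
    (F₁ : Submodule R H₁) (F₂ : Submodule R H₂) [Module.Free R (H₁ ⧸ F₁)] [Module.Free R (H₂ ⧸ F₂)]
    (𝔫 : Ideal R) (hn : 𝔫 * 𝔫 = ⊥)
    (Fb : Submodule (R ⧸ 𝔫) ((R ⧸ 𝔫) ⊗[R] H))
    [Module.Free (R ⧸ 𝔫) (((R ⧸ 𝔫) ⊗[R] H) ⧸ Fb)]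
    (h1 : Fb ⊓ LinearMap.range (f.baseChange (R ⧸ 𝔫)) =
      Submodule.map (f.baseChange (R ⧸ 𝔫)) (F₁.baseChange (R ⧸ 𝔫)))
    (h2 : Submodule.map (g.baseChange (R ⧸ 𝔫)) Fb = F₂.baseChange (R ⧸ 𝔫))
    (F F' : Submodule R H)
    (hF : (∃ C : Submodule R H, IsCompl (F) C) ∧
      (F) ⊓ LinearMap.range f = Submodule.map f F₁ ∧
      Submodule.baseChange (R ⧸ 𝔫) (F) = Fb ∧ Submodule.map g (F) = F₂)
    (hF' : (∃ C : Submodule R H, IsCompl (F') C) ∧
      (F') ⊓ LinearMap.range f = Submodule.map f F₁ ∧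
      Submodule.baseChange (R ⧸ 𝔫) (F') = Fb ∧ Submodule.map g (F') = F₂) :
    (∀ u : H₂ →ₗ[R] H₁, (∀ y : H₂, u y ∈ 𝔫 • (⊤ : Submodule R H₁)) →
      (∃ C : Submodule R H, IsCompl (Submodule.map (LinearMap.id + f ∘ₗ u ∘ₗ g) F) C) ∧
      (Submodule.map (LinearMap.id + f ∘ₗ u ∘ₗ g) F) ⊓ LinearMap.range f = Submodule.map f F₁ ∧
      Submodule.baseChange (R ⧸ 𝔫) (Submodule.map (LinearMap.id + f ∘ₗ u ∘ₗ g) F) = Fb ∧ Submodule.map g (Submodule.map (LinearMap.id + f ∘ₗ u ∘ₗ g) F) = F₂) ∧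
    (∀ u : H₂ →ₗ[R] H₁, (∀ y : H₂, u y ∈ 𝔫 • (⊤ : Submodule R H₁)) →
      (Submodule.map (LinearMap.id + f ∘ₗ u ∘ₗ g) F = F ↔ ∀ y ∈ F₂, u y ∈ 𝔫 • F₁)) ∧
    (∃ u : H₂ →ₗ[R] H₁, (∀ y : H₂, u y ∈ 𝔫 • (⊤ : Submodule R H₁)) ∧
      F' = Submodule.map (LinearMap.id + f ∘ₗ u ∘ₗ g) F) := by
  have hgf : ∀ h, g (f h) = 0 := fun h => (hfg (f h)).mpr ⟨h, rfl⟩
  refine ⟨fun u hu => part1 hgf F₁ F₂ 𝔫 Fb F hF u hu,
    fun u hu => part2 hf hgf F₁ F₂ 𝔫 F hF.2.1 hF.2.2.2 u hu,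
    part3 hf hg hfg F₁ F₂ 𝔫 Fb h1 F F' hF.2 hF'.2⟩


end Groth.Agent.S16420
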