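import Groth.Statements.S16421
import Mathlib
import Groth.Agent.S14255
import Groth.Agent.S14260

set_option autoImplicit false
universe u
open FrobAlg

namespace Groth.Agent.S16421

section
variable (p : ℕ) [Fact p.Prime]

/-- trivialisation of relations in `φ_* R` for a flat endomorphism `φ`. -/
theorem trivial_relation_of_flat_endo {R : Type u} [CommRing R] (φ : R →+* R) (hφ : φ.Flat)
    {l : ℕ} (f : Fin l → R) (b : Fin l → R) (h : ∑ k, φ (f k) * b k = 0) :
    ∃ (K : ℕ) (c : Fin l → Fin K → R) (y : Fin K → R),
      (∀ k, b k = ∑ t, φ (c k t) * y t) ∧ ∀ t, ∑ k, f k * c k t = 0 := by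
  unfold RingHom.Flat at hφ
  have := (@Module.Flat.iff_forall_isTrivialRelation R R _ _ φ.toAlgebra.toModule).1 hφ
    (f := f) (x := b) h
  obtain ⟨K, c, y, h1, h2⟩ := this
  exact ⟨K, c, y, h1, h2⟩

theorem iterateFrobenius_flat {R : Type u} [CommRing R] [CharP R p] (hF : (frobenius R p).Flat)
    (N : ℕ) : (iterateFrobenius R p N).Flat := by
  induction N with
  | zero =>
    have : iterateFrobenius R p 0 = RingHom.id R := by
      ext r; simp [iterateFrobenius_def]
    rw [this]; exact RingHom.Flat.id R
  | succ N ih =>
    have : iterateFrobenius R p (N + 1) = (frobenius R p).comp (iterateFrobenius R p N) := by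
      ext r; simp [iterateFrobenius_def, frobenius_def, pow_succ, pow_mul]
    rw [this]; exact ih.comp hF

theorem flat_of_frobenius_flat {R R' : Type u} [CommRing R] [CommRing R'] [CharP R p] [CharP R' p]
    [PerfectRing R' p] (ι : R →+* R') [IsPRadical ι p] (hF : (frobenius R p).Flat) : ι.Flat := by
  letI alg : Algebra R R' := ι.toAlgebra
  change Module.Flat R R'
  rw [Module.Flat.iff_forall_isTrivialRelation]
  intro l f x hfx
  have hsm : ∀ (a : R) (b : R'), a • b = ι a * b := fun a b => rfl
  obtain ⟨N₂, hN₂⟩ := Groth.Agent.S14255.pow_mem_family p ι x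
  choose b hb using hN₂ N₂ le_rfl
  have h1 : ι (∑ k, f k ^ p ^ N₂ * b k) = 0 := by
    have := congrArg (iterateFrobenius R' p N₂) hfx
    rw [map_sum, map_zero] at this
    rw [map_sum, ← this]
    apply Finset.sum_congr rfl
    intro k _
    rw [hsm, map_mul, map_mul, iterateFrobenius_def, iterateFrobenius_def, ← map_pow, hb k]
  have h2 : (∑ k, f k ^ p ^ N₂ * b k) ∈ pNilradical R p := IsPRadical.ker_le ι p h1
  obtain ⟨M, hM⟩ := mem_pNilradical.1 h2
  set b' : Fin l → R := fun k => b k ^ p ^ M with hb'
  set N := N₂ + M with hN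
  have hb'' : ∀ k, ι (b' k) = x k ^ p ^ N := by
    intro k
    rw [hb', map_pow, hb k, ← pow_mul, ← pow_add]
  have h3 : ∑ k, iterateFrobenius R p N (f k) * b' k = 0 := by
    have e : iterateFrobenius R p M (∑ k, f k ^ p ^ N₂ * b k) =
        ∑ k, iterateFrobenius R p N (f k) * b' k := by
      rw [map_sum]
      apply Finset.sum_congr rfl
      intro k _
      rw [map_mul, iterateFrobenius_def, iterateFrobenius_def, iterateFrobenius_def, hb', ← pow_mul,
        ← pow_add]
    rw [← e, iterateFrobenius_def]
    exact hM
  obtain ⟨K, c, y, hy, hc⟩ := trivial_relation_of_flat_endo (iterateFrobenius R p N)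
    (iterateFrobenius_flat p hF N) f b' h3
  let EB := (iterateFrobeniusEquiv R' p N).symm
  have hEB : ∀ z : R', (EB z) ^ p ^ N = z := fun z => by
    rw [← iterateFrobeniusEquiv_def]; exact (iterateFrobeniusEquiv R' p N).apply_symm_apply z
  refine ⟨K, c, fun t => EB (ι (y t)), ?_, hc⟩
  intro k
  apply (iterateFrobeniusEquiv R' p N).injective
  rw [iterateFrobeniusEquiv_def, ← hb'' k, hy k, map_sum, map_sum]
  apply Finset.sum_congr rfl
  intro t _
  rw [hsm, map_mul, iterateFrobeniusEquiv_def, mul_pow, hEB, iterateFrobenius_def, map_pow]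

/-- `R` as a module over itself through Frobenius. -/
def FrobMod (p : ℕ) (R : Type u) : Type u := R

instance {R : Type u} [CommRing R] : AddCommGroup (FrobMod p R) := inferInstanceAs (AddCommGroup R)

noncomputable instance {R : Type u} [CommRing R] [CharP R p] : Module R (FrobMod p R) :=
  (frobenius R p).toAlgebra.toModule

/-- a `p`-basis makes Frobenius flat. -/
theorem frobenius_flat_of_pBasis {R : Type u} [CommRing R] [CharP R p] (ι : Type u) (x : ι → R)
    (hx : Function.Bijective
      (fun c : {e : ι →₀ ℕ // ∀ i, e i < p} →₀ R =>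
        c.sum (fun e r => r ^ p * e.1.prod (fun i n => x i ^ n)))) :
    (frobenius R p).Flat := by
  change Module.Flat R (FrobMod p R)
  have hsm : ∀ (a : R) (b : FrobMod p R), a • b = (show R from a ^ p * (show R from b)) :=
    fun a b => rfl
  let Φ : ({e : ι →₀ ℕ // ∀ i, e i < p} →₀ R) →ₗ[R] FrobMod p R :=
    { toFun := fun c => (show R from c.sum (fun e r => r ^ p * e.1.prod (fun i n => x i ^ n)))
      map_add' := by
        intro c c'
        change (c + c').sum _ = (c.sum _ : R) + c'.sum _
        rw [Finsupp.sum_add_index']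
        · intro e; rw [zero_pow (Fact.out : p.Prime).ne_zero, zero_mul]
        · intro e r r'; rw [add_pow_char, add_mul]
      map_smul' := by
        intro a c
        rw [RingHom.id_apply, hsm]
        change (a • c).sum _ = a ^ p * (c.sum _ : R)
        rw [Finsupp.sum_smul_index, Finsupp.mul_sum]
        · apply Finsupp.sum_congr
          intro e _
          rw [mul_pow, mul_assoc]
        · intro e; rw [zero_pow (Fact.out : p.Prime).ne_zero, zero_mul] }
  exact Module.Flat.of_linearEquiv (LinearEquiv.ofBijective Φ hx).symm
end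


/-- Let p be a prime and R a commutative ring of characteristic p with a p-basis (x_i), meaning that the
monomials ∏ x_i^(e i) with every exponent e i < p form a basis of R as a module over itself through
the Frobenius, i.e. the map sending a finitely supported family of coefficients c to ∑_e (c e)^p · ∏
x_i^(e i) is a bijection onto R. Then the canonical ring map from R to its perfect closure is
faithfully flat. -/
theorem result (p : ℕ) [Fact p.Prime]
    (R : Type u) [CommRing R] [CharP R p] (ι : Type u) (x : ι → R)
    (hx : Function.Bijective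
      (fun c : {e : ι →₀ ℕ // ∀ i, e i < p} →₀ R =>
        c.sum (fun e r => r ^ p * e.1.prod (fun i n => x i ^ n)))) :
    (PerfectClosure.of R p).FaithfullyFlat := by
  rw [RingHom.FaithfullyFlat.iff_flat_and_comap_surjective]
  refine ⟨flat_of_frobenius_flat p (PerfectClosure.of R p) (frobenius_flat_of_pBasis p ι x hx), ?_⟩
  exact Groth.Agent.S14260.comap_surjective_of_isPRadical p (PerfectClosure.of R p)

end Groth.Agent.S16421
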