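import Groth.Statements.S16422
import Mathlib

set_option autoImplicit false
universe u
open GrMod

namespace Groth.Agent.S16422

open DirectSum in
/-- component of `s • y` for `y` homogeneous -/
theorem decompose_smul_of_mem {S : Type u} [CommRing S] (𝒜 : ℤ → AddSubgroup S) [GradedRing 𝒜]
    {M : Type u} [AddCommGroup M] [Module S M] (ℳ : ℤ → AddSubgroup M)
    [DirectSum.Decomposition ℳ] [SetLike.GradedSMul 𝒜 ℳ] (s : S) {y : M} {d : ℤ}
    (hy : y ∈ ℳ d) (n : ℤ) :
    (decompose ℳ (s • y) n : M) = (decompose 𝒜 s (n - d) : S) • y := by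
  classical
  have hterm : ∀ a : ℤ, (decompose ℳ ((decompose 𝒜 s a : S) • y) n : M) =
      if a = n - d then (decompose 𝒜 s a : S) • y else 0 := by
    intro a
    have hmem' : (decompose 𝒜 s a : S) • y ∈ ℳ (a +ᵥ d) :=
      SetLike.GradedSMul.smul_mem (i := a) (j := d) (SetLike.coe_mem (decompose 𝒜 s a)) hy
    have hmem : (decompose 𝒜 s a : S) • y ∈ ℳ (a + d) := by
      rwa [vadd_eq_add] at hmem'
    by_cases h : a = n - d
    · subst h
      rw [if_pos rfl]
      have e : n - d + d = n := by ring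
      rw [e] at hmem
      exact decompose_of_mem_same ℳ hmem
    · rw [if_neg h]
      exact decompose_of_mem_ne ℳ hmem (by omega)
  conv_lhs => rw [← sum_support_decompose 𝒜 s, Finset.sum_smul, decompose_sum]
  rw [DFinsupp.finsetSum_apply, AddSubmonoidClass.coe_finsetSum]
  simp_rw [hterm]
  rw [Finset.sum_ite_eq']
  split_ifs with h
  · rfl
  · rw [DFinsupp.notMem_support_iff] at h
    rw [h]
    simp



/-- Let S be a commutative ring graded by ℤ with pieces 𝒜 n, and V a decreasing sequence of homogeneous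
ideals for which S is graded-complete, i.e. for each degree n the map from 𝒜 n to the inverse limit
of the quotients 𝒜 n / (𝒜 n ∩ V m) is bijective (stated as: a degree-n element in every V m
vanishes, and every sequence in 𝒜 n whose consecutive differences lie in the V m has a limit in 𝒜
n). Then every graded S-module M which is finitely generated and projective as an S-module is
graded-complete in the same sense for the submodules V m · M: for each n the map from ℳ n to the
inverse limit of ℳ n / (ℳ n ∩ V m · M) is bijective. -/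
theorem result
    (S : Type u) [CommRing S] (𝒜 : ℤ → AddSubgroup S) [GradedRing 𝒜]
    (V : ℕ → HomogeneousIdeal 𝒜) (hV : ∀ m, (V (m + 1)).toIdeal ≤ (V m).toIdeal)
    (hsep : ∀ (n : ℤ) (s : S), s ∈ 𝒜 n → (∀ m, s ∈ (V m).toIdeal) → s = 0)
    (hcpl : ∀ (n : ℤ) (f : ℕ → S), (∀ m, f m ∈ 𝒜 n) →
      (∀ m, f (m + 1) - f m ∈ (V m).toIdeal) → ∃ s ∈ 𝒜 n, ∀ m, s - f m ∈ (V m).toIdeal)
    (M : Type u) [AddCommGroup M] [Module S M] (ℳ : ℤ → AddSubgroup M)
    [DirectSum.Decomposition ℳ] [SetLike.GradedSMul 𝒜 ℳ]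
    [Module.Finite S M] [Module.Projective S M] :
    (∀ (n : ℤ) (x : M), x ∈ ℳ n → (∀ m, x ∈ (V m).toIdeal • (⊤ : Submodule S M)) → x = 0) ∧
    (∀ (n : ℤ) (g : ℕ → M), (∀ m, g m ∈ ℳ n) →
      (∀ m, g (m + 1) - g m ∈ (V m).toIdeal • (⊤ : Submodule S M)) →
      ∃ x ∈ ℳ n, ∀ m, x - g m ∈ (V m).toIdeal • (⊤ : Submodule S M)) := by
  classical
  obtain ⟨t, ht⟩ := (Module.Finite.fg_top : (⊤ : Submodule S M).FG)
  let T : Finset M := t.biUnion fun y =>
    (DirectSum.decompose ℳ y).support.image fun n => (DirectSum.decompose ℳ y n : M)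
  have hThom : ∀ y ∈ T, ∃ n : ℤ, y ∈ ℳ n := by
    intro y hy
    obtain ⟨z, -, hz⟩ := Finset.mem_biUnion.mp hy
    obtain ⟨n, -, rfl⟩ := Finset.mem_image.mp hz
    exact ⟨n, SetLike.coe_mem _⟩
  have hTspan : Submodule.span S (T : Set M) = ⊤ := by
    rw [eq_top_iff, ← ht, Submodule.span_le]
    intro z hz
    rw [SetLike.mem_coe, ← DirectSum.sum_support_decompose ℳ z]
    refine Submodule.sum_mem _ fun n hn => Submodule.subset_span ?_
    exact Finset.mem_coe.mpr
      (Finset.mem_biUnion.mpr ⟨z, hz, Finset.mem_image.mpr ⟨n, hn, rfl⟩⟩)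
  choose! d hd using hThom
  let π : (T → S) →ₗ[S] M := Fintype.linearCombination S (fun y : T => (y : M))
  have hπ : Function.Surjective π := by
    rw [← LinearMap.range_eq_top, Fintype.range_linearCombination, Subtype.range_coe_subtype]
    simpa using hTspan
  obtain ⟨σ, hσ⟩ := Module.projective_lifting_property π LinearMap.id hπ
  have hrep : ∀ x : M, x = ∑ y : T, σ x y • (y : M) := by
    intro x
    have h := LinearMap.congr_fun hσ x
    simp only [LinearMap.comp_apply, LinearMap.id_apply] at h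
    calc x = π (σ x) := h.symm
      _ = ∑ y : T, σ x y • (y : M) := Fintype.linearCombination_apply S _ _
  have hcomp : ∀ (n : ℤ) (x : M), x ∈ ℳ n →
      x = ∑ y : T, (DirectSum.decompose 𝒜 (σ x y) (n - d y) : S) • (y : M) := by
    intro n x hx
    have h1 : (DirectSum.decompose ℳ x n : M) = x := DirectSum.decompose_of_mem_same ℳ hx
    have h2 := congrArg (fun z => (DirectSum.decompose ℳ z n : M)) (hrep x)
    simp only at h2
    rw [h1, DirectSum.decompose_sum, DFinsupp.finsetSum_apply,
      AddSubmonoidClass.coe_finsetSum] at h2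
    refine h2.trans ?_
    exact Finset.sum_congr rfl fun y _ =>
      decompose_smul_of_mem 𝒜 ℳ (σ x y) (hd y y.2) n
  have hV1 : ∀ (m : ℕ) (x : M), x ∈ (V m).toIdeal • (⊤ : Submodule S M) →
      ∀ y : T, σ x y ∈ (V m).toIdeal := by
    intro m x hx y
    refine Submodule.smul_induction_on hx ?_ ?_
    · intro r hr z _
      rw [map_smul, Pi.smul_apply, smul_eq_mul]
      exact Ideal.mul_mem_right _ _ hr
    · intro a b ha hb
      rw [map_add, Pi.add_apply]
      exact add_mem ha hb
  have hV2 : ∀ (m : ℕ) (x : M), x ∈ (V m).toIdeal • (⊤ : Submodule S M) →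
      ∀ (y : T) (k : ℤ), (DirectSum.decompose 𝒜 (σ x y) k : S) ∈ (V m).toIdeal :=
    fun m x hx y k => (V m).isHomogeneous k (hV1 m x hx y)
  refine ⟨?_, ?_⟩
  · intro n x hx hxV
    rw [hcomp n x hx]
    refine Finset.sum_eq_zero fun y _ => ?_
    rw [hsep (n - d y) _ (SetLike.coe_mem _) (fun m => hV2 m x (hxV m) y _), zero_smul]
  · intro n g hg hgV
    have hlim : ∀ y : T, ∃ s ∈ 𝒜 (n - d y),
        ∀ m, s - (DirectSum.decompose 𝒜 (σ (g m) y) (n - d y) : S) ∈ (V m).toIdeal := by
      intro y
      refine hcpl (n - d y) (fun m => (DirectSum.decompose 𝒜 (σ (g m) y) (n - d y) : S))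
        (fun m => SetLike.coe_mem _) ?_
      intro m
      have h := hV2 m _ (hgV m) y (n - d y)
      simpa [map_sub, DirectSum.decompose_sub] using h
    choose s hs hsV using hlim
    refine ⟨∑ y : T, s y • (y : M), ?_, ?_⟩
    · refine sum_mem fun y _ => ?_
      have h := SetLike.GradedSMul.smul_mem (hs y) (hd y y.2)
      have e : (n - d y) + d y = n := by ring
      rw [vadd_eq_add, e] at h
      exact h
    · intro m
      have h : ∑ y : T, s y • (y : M) - g m =
          ∑ y : T, (s y - (DirectSum.decompose 𝒜 (σ (g m) y) (n - d y) : S)) • (y : M) := by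
        simp only [sub_smul, Finset.sum_sub_distrib]
        congr 1
        exact hcomp n (g m) (hg m)
      rw [h]
      exact Submodule.sum_mem _ fun y _ => Submodule.smul_mem_smul (hsV y m) Submodule.mem_top


end Groth.Agent.S16422
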