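import Groth.Statements.S1643
import Groth.Agent.Lib.Helper20.MumfordBC
import Groth.Agent.Lib.Helper16.FLF5
import Groth.Agent.Lib.Lead.RankAdd
import Groth.Agent.Lib.Lead.SerreFin

set_option autoImplicit false
universe u
open CategoryTheory CategoryTheory.Limits AlgebraicGeometry
open Variety

namespace Groth.Agent.S1643

/-- Fix n ≥ 0, r ≥ 1 and a rational polynomial P. There is an integer m, depending only on n, r and P,
such that for every field k and every epimorphism from the free module of rank r on P^n_k onto a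
coherent module F whose Euler characteristics χ(F(t)) are given by P for all integers t, the kernel
is m-regular. -/
theorem result (n r : ℕ) (hr : 1 ≤ r) (P : Polynomial ℚ) :
    ∃ m : ℤ, ∀ (k : Type u) [Field k] (F : (CohB1.ProjSpace n k).Modules) (φ : FlatMod.freeMod (CohB1.ProjSpace n k) r ⟶ F), Coh.IsCoh F → Epi φ →
      (∀ t : ℤ, (Curv2.euler k (CohB1.ProjSpace n k) (CohB1.tensorMod F (Twist.twistProjSpace n k t)) : ℚ) = P.eval (t : ℚ)) →
      Curv2.IsMRegular k n (kernel φ) m := by
  obtain ⟨m, -, -, hm⟩ := Groth.Agent.Lib.Helper20.MumfordUnif.mumford_unif (P.natDegree + 1) P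
    (lt_of_le_of_lt Polynomial.degree_le_natDegree (by exact_mod_cast Nat.lt_succ_self _)) 0
  refine ⟨m, fun k _ F φ hF hφ hχ => ?_⟩
  haveI : IsLocallyNoetherian (CohB1.ProjSpace n k) :=
    Groth.Agent.Lib.Lead.SerreFin.isLocallyNoetherian_projSpace n k
  have hfree : Coh.IsCoh (FlatMod.freeMod (CohB1.ProjSpace n k) r) :=
    Groth.Agent.Lib.Lead.RankAdd.isCoh_of_isFinLocFreeOfRank
      (Groth.Agent.Lib.helper16.FLF.isFinLocFreeOfRank_freeMod _ r)
  have hK : Coh.IsCoh (kernel φ) := Groth.Agent.Lib.helper7.CohKer.isCoh_kernel hfree hF φ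
  let S : ShortComplex (CohB1.ProjSpace n k).Modules :=
    ShortComplex.mk (kernel.ι φ) φ (kernel.condition φ)
  have hS : S.ShortExact :=
    ShortComplex.ShortExact.mk' (ShortComplex.exact_of_f_is_kernel S (kernelIsKernel φ))
      (inferInstanceAs (Mono (kernel.ι φ))) hφ
  have hS' : (S.map (Scheme.Modules.pullback
      (Groth.Agent.Lib.Helper20.MumfordBC.gK k (AlgebraicClosure k) n))).ShortExact :=
    hS.map_of_exact _
  have key := hm (AlgebraicClosure k) n _ hS'
    (Groth.Agent.Lib.helper7.BCField.isCoh_pullback _ hfree)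
    (Groth.Agent.Lib.helper7.BCField.isCoh_pullback _ hF)
    ((Groth.Agent.Lib.Helper20.MumfordBC.isMRegular_pullback_iff (AlgebraicClosure k) hfree 0).2
      (Groth.Agent.Lib.Helper20.MumfordBC.isMRegular_free k n r))
    (fun l _ => by
      have h1 := Groth.Agent.Lib.Helper20.MumfordBC.euler_pullback_twist (AlgebraicClosure k) hF l
      exact (congrArg (fun z : ℤ => (z : ℚ)) h1).trans (hχ l))
  exact (Groth.Agent.Lib.Helper20.MumfordBC.isMRegular_pullback_iff (AlgebraicClosure k) hK m).1 key


end Groth.Agent.S1643
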