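import Groth.Statements.S16431
import Mathlib
import Groth.Agent.Lib.Helper17.BranchPI

set_option autoImplicit false
set_option linter.style.haveILetI false
universe u
open Hensel

namespace Groth.Agent.S16431

section aux

/-- For a reduced ring, the normalization of `A` is isomorphic to the normalization of `A_red`,
compatibly with the maps from `A`. -/
theorem exists_ringEquiv_normRed (A : Type u) [CommRing A] [IsReduced A] :
    ∃ Θ : integralClosure A (FractionRing A) ≃+* CAlg2.normRed A,
      ∀ a : A, Θ (algebraMap A (integralClosure A (FractionRing A)) a) =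
        (algebraMap (CAlg2.red A) (CAlg2.normRed A)).comp (Ideal.Quotient.mk (nilradical A)) a := by
  have hbij : Function.Bijective (Ideal.Quotient.mk (nilradical A)) := by
    refine ⟨?_, Ideal.Quotient.mk_surjective⟩
    rw [injective_iff_map_eq_zero]
    intro a ha
    rw [Ideal.Quotient.eq_zero_iff_mem, nilradical_eq_zero] at ha
    exact ha
  let e : A ≃+* CAlg2.red A := RingEquiv.ofBijective (Ideal.Quotient.mk (nilradical A)) hbij
  have hfr : IsFractionRing A (FractionRing (CAlg2.red A)) :=
    IsFractionRing.of_ringEquiv_left e (fun x => rfl)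
  let Φ : FractionRing A ≃ₐ[A] FractionRing (CAlg2.red A) :=
    FractionRing.algEquiv A (FractionRing (CAlg2.red A))
  have hint : ∀ z : integralClosure A (FractionRing A),
      Φ (z : FractionRing A) ∈ integralClosure (CAlg2.red A) (FractionRing (CAlg2.red A)) :=
    fun z => (z.2.map Φ).tower_top
  let Θr : integralClosure A (FractionRing A) →+* CAlg2.normRed A :=
    RingHom.codRestrict (Φ.toAlgHom.toRingHom.comp
      (integralClosure A (FractionRing A)).val.toRingHom)
      (integralClosure (CAlg2.red A) (FractionRing (CAlg2.red A))) hint
  refine ⟨RingEquiv.ofBijective Θr ⟨?_, ?_⟩, ?_⟩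
  · intro z₁ z₂ h
    have h1 : Φ (z₁ : FractionRing A) = Φ (z₂ : FractionRing A) := congrArg Subtype.val h
    exact Subtype.ext (Φ.injective h1)
  · intro w
    have hw : IsIntegral A (w : FractionRing (CAlg2.red A)) :=
      isIntegral_trans (A := CAlg2.red A) _ w.2
    have hw' : IsIntegral A (Φ.symm (w : FractionRing (CAlg2.red A))) := hw.map Φ.symm
    refine ⟨⟨Φ.symm w, hw'⟩, ?_⟩
    apply Subtype.ext
    show Φ (Φ.symm (w : FractionRing (CAlg2.red A))) = w
    exact Φ.apply_symm_apply _
  · intro a
    apply Subtype.ext
    show Φ (algebraMap A (FractionRing A) a) = _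
    rw [Φ.commutes]
    rfl

end aux

/-- Let A be an excellent reduced local ring with residue field k, let A' be the integral closure of A
in its total ring of fractions, let A^h be a henselization and A^hs a strict henselization of A, and
let A^h → A^hs be the A-algebra map between them (it is the unique one). Then the residue field of
A' at every maximal ideal is purely inseparable over k — every element has some p^n-th power in the
image of A, p the characteristic exponent — if and only if every minimal prime ideal of A^hs is
generated by its contraction to A^h. -/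
theorem result
    (A Ah Ash : Type u) [CommRing A] [IsLocalRing A] [IsReduced A] (hA : EGA4.IsExcellent A)
    [CommRing Ah] [IsLocalRing Ah] [Algebra A Ah] [IsLocalHom (algebraMap A Ah)]
    [Hensel.IsHenselization A Ah]
    [CommRing Ash] [IsLocalRing Ash] [Algebra A Ash] [IsLocalHom (algebraMap A Ash)]
    [Hensel.IsStrictHenselization A Ash] [Algebra Ah Ash] [IsScalarTower A Ah Ash] :
    (∀ (M : Ideal (integralClosure A (FractionRing A))) [M.IsMaximal], ∀ x : (integralClosure A (FractionRing A)) ⧸ M, ∃ n : ℕ,
        x ^ (ringExpChar ((integralClosure A (FractionRing A)) ⧸ M)) ^ n ∈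
          ((Ideal.Quotient.mk M).comp (algebraMap A (integralClosure A (FractionRing A)))).range) ↔
      (∀ Q ∈ minimalPrimes Ash, Q = Ideal.map (algebraMap Ah Ash) (Q.comap (algebraMap Ah Ash))) := by
  classical
  haveI hNA : IsNoetherianRing A := hA.1
  obtain ⟨Θ, hΘ⟩ := exists_ringEquiv_normRed A
  have hfinmin : (minimalPrimes A).Finite := minimalPrimes.finite_of_isNoetherianRing A
  haveI hNAh : IsNoetherianRing Ah :=
    Groth.Agent.Lib.helper17.HensFib.isNoetherianRing_of_isHenselization A Ah
  have hfin : Finite (MaximalSpectrum (CAlg2.normRed A)) := by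
    have h1 := Groth.Agent.S9237.result A Ah
    unfold Brnch.numBranches at h1
    rw [if_pos hfinmin] at h1
    have h2 : ENat.card (minimalPrimes Ah) < ⊤ := by
      haveI : Finite (minimalPrimes Ah) := (minimalPrimes.finite_of_isNoetherianRing Ah).to_subtype
      exact ENat.card_lt_top_of_finite
    rw [h1] at h2
    exact ENat.card_lt_top.1 h2
  rw [← Groth.Agent.Lib.helper17.BranchPI.injOn_iff A Ah Ash,
    ← Groth.Agent.Lib.helper17.BranchPI.geom_eq_iff_injOn A Ah Ash,
    Groth.Agent.Lib.helper17.BranchPI.geom_eq_iff_subsingleton A hfinmin hfin]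
  have hΘ' : ∀ a : A, Θ.symm ((algebraMap (CAlg2.red A) (CAlg2.normRed A)).comp
      (Ideal.Quotient.mk (nilradical A)) a) =
      algebraMap A (integralClosure A (FractionRing A)) a := by
    intro a
    rw [← hΘ a, RingEquiv.symm_apply_apply]
  constructor
  · intro h M
    rw [Groth.Agent.S9236.subsingleton_emb_iff]
    haveI hMmax : M.asIdeal.IsMaximal := M.isMaximal
    haveI hM1 : (M.asIdeal.comap (Θ : integralClosure A (FractionRing A) →+* CAlg2.normRed A)).IsMaximal :=
      Ideal.comap_isMaximal_of_surjective _ Θ.surjective
    have h1 := h (M.asIdeal.comap (Θ : integralClosure A (FractionRing A) →+* CAlg2.normRed A))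
    have h2 := Groth.Agent.Lib.helper17.BranchPI.pi_transport
      ((algebraMap (CAlg2.red A) (CAlg2.normRed A)).comp (Ideal.Quotient.mk (nilradical A)))
      (algebraMap A (integralClosure A (FractionRing A))) Θ.symm hΘ'
      (M.asIdeal.comap (Θ : integralClosure A (FractionRing A) →+* CAlg2.normRed A)) h1
    have h3 : (M.asIdeal.comap (Θ : integralClosure A (FractionRing A) →+* CAlg2.normRed A)).comap
        (Θ.symm : CAlg2.normRed A →+* integralClosure A (FractionRing A)) = M.asIdeal := by
      rw [Ideal.comap_comap]
      have : (Θ : integralClosure A (FractionRing A) →+* CAlg2.normRed A).comp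
          (Θ.symm : CAlg2.normRed A →+* integralClosure A (FractionRing A)) = RingHom.id _ := by
        ext x
        simp
      rw [this, Ideal.comap_id]
    rw [h3] at h2
    exact h2
  · intro h M hM
    have hM2 : (M.comap (Θ.symm : CAlg2.normRed A →+* integralClosure A (FractionRing A))).IsMaximal :=
      Ideal.comap_isMaximal_of_surjective _ Θ.symm.surjective
    have h1 := (Groth.Agent.S9236.subsingleton_emb_iff A ⟨_, hM2⟩).1 (h ⟨_, hM2⟩)
    have h2 := Groth.Agent.Lib.helper17.BranchPI.pi_transport
      (algebraMap A (integralClosure A (FractionRing A)))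
      ((algebraMap (CAlg2.red A) (CAlg2.normRed A)).comp (Ideal.Quotient.mk (nilradical A)))
      Θ hΘ (M.comap (Θ.symm : CAlg2.normRed A →+* integralClosure A (FractionRing A))) h1
    have h3 : (M.comap (Θ.symm : CAlg2.normRed A →+* integralClosure A (FractionRing A))).comap
        (Θ : integralClosure A (FractionRing A) →+* CAlg2.normRed A) = M := by
      rw [Ideal.comap_comap]
      have : (Θ.symm : CAlg2.normRed A →+* integralClosure A (FractionRing A)).comp
          (Θ : integralClosure A (FractionRing A) →+* CAlg2.normRed A) = RingHom.id _ := by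
        ext x
        simp
      rw [this, Ideal.comap_id]
    rw [h3] at h2
    exact h2

end Groth.Agent.S16431
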