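import Groth.Statements.S16438
-- import your own Groth.Agent.* helpers here
import Groth.Agent.Lib.Helper9.EssEtInj1

set_option linter.style.haveILetI false

set_option autoImplicit false
universe u
open EGA4loc

namespace Groth.Agent.S16438

open IsLocalRing in
/-- Let A be a Noetherian local ring with maximal ideal m, S a strict henselization of A, and D an
A-subalgebra of S which is a local ring dominated by S (the inclusion is local), essentially of
finite type over A, and such that m D is the maximal ideal of D. Then D is an essentially etale
local A-algebra: A-isomorphic to the localization of an etale A-algebra at a prime over m. (The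
published statement also assumes the total ring of fractions of D finitely generated over that of A;
for D essentially of finite type over A and dominated by S this is automatic, D then lying in a
local etale subextension of S, so that hypothesis is omitted here.) -/
theorem result
    (A S : Type u) [CommRing A] [IsLocalRing A] [IsNoetherianRing A]
    [CommRing S] [IsLocalRing S] [Algebra A S] [IsLocalHom (algebraMap A S)]
    [Hensel.IsStrictHenselization A S] (D : Subalgebra A S) [IsLocalRing D]
    [IsLocalHom (algebraMap D S)] [Algebra.EssFiniteType A D]
    (hm : Ideal.map (algebraMap A D) (maximalIdeal A) = maximalIdeal D) :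
    EGA4loc.IsEssentiallyEtale A D := by
  classical
  obtain ⟨ε⟩ := Groth.Agent.Lib.Helper24.StrictHens.exists_algEquiv_SH A S
  -- the structure map `A → D` is local
  haveI hlocAD : IsLocalHom (algebraMap A D) := by
    constructor
    intro a ha
    have h1 : IsUnit (algebraMap D S (algebraMap A D a)) := ha.map (algebraMap D S)
    rw [← IsScalarTower.algebraMap_apply A D S] at h1
    exact isUnit_of_map_unit (algebraMap A S) a h1
  -- separability of the residue field extension
  haveI hsepS : Algebra.IsSeparable (ResidueField A) (ResidueField S) :=
    (Hensel.IsStrictHenselization.isSepClosure (R := A) (S := S)).separable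
  let gA : ResidueField D →ₐ[ResidueField A] ResidueField S :=
    { toRingHom := ResidueField.map (algebraMap D S)
      commutes' := by
        intro r
        obtain ⟨a, rfl⟩ := residue_surjective r
        show ResidueField.map (algebraMap D S)
          (ResidueField.map (algebraMap A D) (residue A a)) =
          ResidueField.map (algebraMap A S) (residue A a)
        rw [ResidueField.map_residue, ResidueField.map_residue, ResidueField.map_residue,
          ← IsScalarTower.algebraMap_apply A D S] }
  haveI hsepD : Algebra.IsSeparable (ResidueField A) (ResidueField D) :=
    Algebra.IsSeparable.of_algHom _ _ gA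
  haveI hunr : Algebra.FormallyUnramified A D :=
    Algebra.FormallyUnramified.of_map_maximalIdeal hm
  obtain ⟨C, i1, i2, q, i3, hC, hq, ψ, hsurj, hlocal⟩ :=
    Groth.Agent.Lib.helper9.EssEtInj.exists_etale_surjection_of_formallyUnramified (A := A) D
  haveI : Algebra.Etale A C := hC
  let ψ₁ : Localization.AtPrime q →ₐ[A] Groth.Agent.Lib.Helper24.StrictHens.SH A :=
    ((ε.symm : S →ₐ[A] Groth.Agent.Lib.Helper24.StrictHens.SH A).comp D.val).comp ψ
  have hψ₁ : ∀ x, ψ₁ x = ε.symm ((ψ x : D) : S) := fun _ => rfl
  have hinj₁ : Function.Injective ψ₁ := by
    apply Groth.Agent.Lib.helper9.EssEtInj.injective_of_etale_localization C q ψ₁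
    intro x hx
    apply hlocal
    rw [hψ₁] at hx
    have h1 : IsUnit (ε (ε.symm ((ψ x : D) : S))) := hx.map ε
    rw [ε.apply_symm_apply] at h1
    exact isUnit_of_map_unit (algebraMap D S) (ψ x) h1
  have hinj : Function.Injective ψ := by
    intro x y hxy
    apply hinj₁
    rw [hψ₁, hψ₁, hxy]
  exact ⟨C, i1, i2, q, i3, hC, hq, ⟨(AlgEquiv.ofBijective ψ ⟨hinj, hsurj⟩).symm⟩⟩

end Groth.Agent.S16438
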