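import Groth.Statements.S1644
import Mathlib
import Groth.Agent.Lib.Helper18.PicGlue3
import Groth.Agent.Lib.Helper18.UnitLift

set_option autoImplicit false
universe u
open CategoryTheory CategoryTheory.Limits AlgebraicGeometry
open Variety

namespace Groth.Agent.S1644

open Groth.Agent.Lib.Helper18.PicGlue Groth.Agent.Lib.Helper18.UnitLift Groth.Agent.Lib.helper11.InvMod
open Groth.Agent.Lib.Helper12.NormSec TopologicalSpace

/-- two generators over the same open differ by a unit -/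
theorem exists_unit_of_isGen {X : Scheme.{u}} {L : X.Modules} {O : X.Opens} {ℓ ℓ' : Γ(L, O)}
    (h : IsGen L O ℓ) (h' : IsGen L O ℓ') : ∃ u : (Γ(X, O))ˣ, ℓ = (u : Γ(X, O)) • ℓ' := by
  have hb := h O le_rfl
  have hb' := h' O le_rfl
  rw [rs_self] at hb hb'
  obtain ⟨u, hu⟩ := hb'.2 ℓ
  obtain ⟨v, hv⟩ := hb.2 ℓ'
  have hu' : u • ℓ' = ℓ := hu
  have hv' : v • ℓ = ℓ' := hv
  have huv : u * v = 1 := by
    apply hb.1
    change (u * v) • ℓ = (1 : Γ(X, O)) • ℓ
    rw [mul_smul, hv', hu', one_smul]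
  have hvu : v * u = 1 := by rw [mul_comm]; exact huv
  exact ⟨⟨u, v, huv, hvu⟩, hu'.symm⟩

theorem isClosed_of_finite_of_forall_isClosed {T : Type*} [TopologicalSpace T] (F : Set T) (hF : F.Finite)
    (hc : ∀ c ∈ F, IsClosed ({c} : Set T)) : IsClosed F := by
  rw [← Set.biUnion_of_singleton F]
  exact hF.isClosed_biUnion hc

/-- the local data at a point for the gluing along potentials -/
theorem exists_local_data {Z X : Scheme.{u}} (i : Z ⟶ X) [IsClosedImmersion i]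
    [NoetherianSpace X] (hdim : topologicalKrullDim X ≤ 1)
    (L : Z.Modules) (hL : PicF.IsInvertible L) (F : Set X) (hF : F.Finite)
    (hFc : ∀ c ∈ F, IsClosed ({c} : Set X)) (W : X.Opens) (hW : (W : Set X) = Fᶜ)
    (s : Γ(L, i ⁻¹ᵁ W)) (hs : IsGen L (i ⁻¹ᵁ W) s) (x : X) :
    ∃ (U : X.Opens) (e : Γ(L, i ⁻¹ᵁ U)) (q : (Γ(X, U ⊓ W))ˣ), x ∈ U ∧ (∀ y ∈ U, y ∉ W → y = x) ∧
      IsGen L (i ⁻¹ᵁ U) e ∧
      rs L (i.preimage_mono (inf_le_right : U ⊓ W ≤ W)) s =
        (i.app (U ⊓ W)).hom (q : Γ(X, U ⊓ W)) • rs L (i.preimage_mono (inf_le_left : U ⊓ W ≤ U)) e := by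
  by_cases hx : x ∈ W
  · refine ⟨W, s, 1, hx, fun y hy hy' => absurd hy hy', hs, ?_⟩
    rw [Units.val_one, map_one, one_smul]
  · have hxF : x ∈ F := by
      by_contra h
      apply hx
      have : x ∈ (W : Set X) := by rw [hW]; exact h
      exact this
    obtain ⟨W₂, hxW₂, hT⟩ := exists_isTrivOn_preimage i hL x
    have hF' : IsClosed (F \ {x}) :=
      isClosed_of_finite_of_forall_isClosed _ (hF.subset Set.sdiff_subset) (fun c hc => hFc c hc.1)
    let W₃ : X.Opens := W₂ ⊓ ⟨(F \ {x})ᶜ, hF'.isOpen_compl⟩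
    have hxW₃ : x ∈ W₃ := ⟨hxW₂, fun h => h.2 rfl⟩
    obtain ⟨ℓ₃, hℓ₃⟩ := exists_isGen_of_isTrivOn hT (i.preimage_mono (inf_le_left : W₃ ≤ W₂))
    let Y : X.Opens := W₃ ⊓ W
    have hs' := hs.rs (i.preimage_mono (inf_le_right : Y ≤ W))
    have hℓ' := hℓ₃.rs (i.preimage_mono (inf_le_left : Y ≤ W₃))
    obtain ⟨g, hg⟩ := exists_unit_of_isGen hs' hℓ'
    obtain ⟨Y', hY', h, hh, hfin, hcl⟩ := exists_unit_lift i hdim Y g
    have hC : IsClosed ((Y : Set X) \ Y') := isClosed_of_finite_of_forall_isClosed _ hfin hcl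
    let U : X.Opens := W₃ ⊓ ⟨((Y : Set X) \ Y')ᶜ, hC.isOpen_compl⟩
    have hxU : x ∈ U := ⟨hxW₃, fun h => hx h.1.2⟩
    have hUW : U ⊓ W ≤ Y' := by
      rintro y ⟨⟨hy1, hy2⟩, hy3⟩
      by_contra hy4
      exact hy2 ⟨⟨hy1, hy3⟩, hy4⟩
    have hUW₃ : U ≤ W₃ := inf_le_left
    refine ⟨U, rs L (i.preimage_mono hUW₃) ℓ₃, ru hUW h, hxU, ?_, hℓ₃.rs _, ?_⟩
    · intro y hy hyW
      have hyF : y ∈ F := by
        by_contra h
        apply hyW
        have : y ∈ (W : Set X) := by rw [hW]; exact h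
        exact this
      by_contra hne
      exact hy.1.2 ⟨hyF, hne⟩
    · -- the relation
      have hUY : U ⊓ W ≤ Y := hUW.trans hY'
      have h1 := congrArg (rs L (i.preimage_mono hUY)) hg
      rw [rs_rs, rs_smul, rs_rs] at h1
      rw [rs_rs, h1]
      congr 1
      rw [coe_ru]
      have h2 := congrArg (rf (i.preimage_mono hUW)) hh
      rw [← app_rf i hUW] at h2
      symm
      change (i.app (U ⊓ W)).hom (rf hUW (h : Γ(X, Y'))) = _
      rw [h2]
      exact rf_rf (i.preimage_mono hY') (i.preimage_mono hUW) (g : Γ(Z, i ⁻¹ᵁ Y))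

/-- Let i : Z → X be a closed immersion where the topological space of X is Noetherian of dimension at
most one. Then every invertible O_Z-module is isomorphic to the pullback of an invertible
O_X-module. -/
theorem result {Z X : Scheme.{u}} (i : Z ⟶ X) [IsClosedImmersion i]
    [TopologicalSpace.NoetherianSpace X] (hdim : topologicalKrullDim X ≤ 1)
    (L : Z.Modules) (hL : PicF.IsInvertible L) :
    ∃ L' : X.Modules, PicF.IsInvertible L' ∧ Nonempty ((Scheme.Modules.pullback i).obj L' ≅ L) := by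
  classical
  haveI : NoetherianSpace Z := i.isClosedEmbedding.isInducing.noetherianSpace
  have hdimZ : topologicalKrullDim Z ≤ 1 := i.isClosedEmbedding.isInducing.topologicalKrullDim_le.trans hdim
  obtain ⟨A, S, hA, -, hSA, hinc, hfin⟩ := exists_affine_generic_finite Z hdimZ ⊤
  let pr : {η // η ∈ S} → PrimeSpectrum Γ(Z, A) := fun η => hA.primeIdealOf ⟨η.1, hSA η.1 η.2⟩
  let T : Finset (PrimeSpectrum Γ(Z, A)) := S.attach.image pr
  have hT : ∀ p ∈ T, ∃ η : {η // η ∈ S}, pr η = p := by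
    intro p hp
    obtain ⟨η, -, rfl⟩ := Finset.mem_image.1 hp
    exact ⟨η, rfl⟩
  have hincT : ∀ p ∈ T, ∀ q ∈ T, q.asIdeal ≤ p.asIdeal → q = p := by
    intro p hp q hq hle
    obtain ⟨η, rfl⟩ := hT p hp
    obtain ⟨η', rfl⟩ := hT q hq
    have h1 : pr η' ⤳ pr η := (PrimeSpectrum.le_iff_specializes _ _).mp hle
    have h2 : hA.fromSpec (pr η') ⤳ hA.fromSpec (pr η) := h1.map hA.fromSpec.continuous
    rw [hA.fromSpec_primeIdealOf ⟨η'.1, _⟩, hA.fromSpec_primeIdealOf ⟨η.1, _⟩] at h2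
    have h3 : η'.1 = η.1 := hinc η'.1 η'.2 η.1 η.2 h2
    have h4 : η' = η := Subtype.ext h3
    rw [h4]
  obtain ⟨D, ℓ, hℓ, hD⟩ := Groth.Agent.Lib.Helper18.SemiLocalGen.exists_isGen_of_finset hL hA T hincT
  have hSD : ∀ η ∈ S, η ∈ D := by
    intro η hη
    have := hD (pr ⟨η, hη⟩) (Finset.mem_image.2 ⟨⟨η, hη⟩, Finset.mem_attach _ _, rfl⟩)
    rw [hA.fromSpec_primeIdealOf ⟨η, _⟩] at this
    exact this
  obtain ⟨hfin1, hfin2⟩ := hfin D le_top hSD
  let F : Set X := i '' (((⊤ : Z.Opens) : Set Z) \ D)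
  have hF : F.Finite := hfin1.image _
  have hFc : ∀ c ∈ F, IsClosed ({c} : Set X) := by
    rintro _ ⟨z, hz, rfl⟩
    have := i.isClosedEmbedding.isClosedMap _ (hfin2 z hz)
    rwa [Set.image_singleton] at this
  have hFclosed : IsClosed F := isClosed_of_finite_of_forall_isClosed F hF hFc
  let W : X.Opens := ⟨Fᶜ, hFclosed.isOpen_compl⟩
  have hWD : i ⁻¹ᵁ W ≤ D := by
    intro z hz
    by_contra hzD
    exact hz ⟨z, ⟨trivial, hzD⟩, rfl⟩
  have hℓ' : IsGen L D ℓ := fun V hV => bijective_of_isGen hℓ V hV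
  have hs := hℓ'.rs hWD
  choose U e q hxU hUW he hq using
    exists_local_data i hdim L hL F hF hFc W rfl (rs L hWD ℓ) hs
  refine exists_invertible_pullback_of_potentials i U ?_ W ?_ (rs L hWD ℓ) e he q hq
  · rw [eq_top_iff]
    intro y _
    exact TopologicalSpace.Opens.mem_iSup.mpr ⟨y, hxU y⟩
  · intro a b hab x hx
    by_contra hxW
    exact hab ((hUW a x hx.1 hxW).symm.trans (hUW b x hx.2 hxW))

end Groth.Agent.S1644
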