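import Groth.Statements.S16441
-- import your own Groth.Agent.* helpers here
import Groth.Agent.Lib.Helper9.StageSub1
import Groth.Agent.Lib.Helper9.TotFrac2

set_option linter.style.haveILetI false

set_option autoImplicit false
universe u
open EGA4loc

namespace Groth.Agent.S16441

open Groth.Agent.Lib.helper9.StageSub Groth.Agent.Lib.helper9.TotFrac
  Groth.Agent.Lib.helper9.EssEtBasic in
/-- A nonzerodivisor of an intermediate ring `D` of the strict henselization `S` of a reduced local
ring with finitely many minimal primes is a nonzerodivisor of `S`. -/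
theorem mem_nonZeroDivisors_of_mem
    (A S : Type u) [CommRing A] [IsLocalRing A] [IsReduced A] (hmin : (minimalPrimes A).Finite)
    [CommRing S] [IsLocalRing S] [Algebra A S] [IsLocalHom (algebraMap A S)]
    [Hensel.IsStrictHenselization A S] (D : Subalgebra A S) (w : D)
    (hw : w ∈ nonZeroDivisors D) : (w : S) ∈ nonZeroDivisors S := by
  classical
  obtain ⟨ε⟩ := Groth.Agent.Lib.Helper24.StrictHens.exists_algEquiv_SH A S
  rw [mem_nonZeroDivisors_iff_right]
  intro s hs
  by_contra hsne
  obtain ⟨j, hj⟩ := exists_stage_finset ε ({(w : S), s} : Finset S)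
  have hwj : (w : S) ∈ stageSub ε j := hj _ (by simp)
  have hsj : s ∈ stageSub ε j := hj _ (by simp)
  have hEj := isEssentiallyEtale_stageSub ε j
  haveI : Module.Flat A (stageSub ε j) := flat_of_isEssentiallyEtale A _ hEj
  haveI : Algebra.QuasiFinite A (stageSub ε j) := quasiFinite_of_isEssentiallyEtale A _ hEj
  let wj : stageSub ε j := ⟨(w : S), hwj⟩
  let sj : stageSub ε j := ⟨s, hsj⟩
  have hwjn : wj ∉ nonZeroDivisors (stageSub ε j) := by
    intro h
    rw [mem_nonZeroDivisors_iff_right] at h
    have h1 : sj * wj = 0 := Subtype.ext hs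
    have h2 : sj = 0 := h sj h1
    exact hsne (congrArg Subtype.val h2)
  obtain ⟨G, hG, hGne, hGw⟩ := exists_mem_adjoin_mul_eq_zero A (stageSub ε j) hmin wj hwjn
  have hGD : (G : S) ∈ D := by
    have hle : Algebra.adjoin A ({wj} : Set (stageSub ε j)) ≤ D.comap (stageSub ε j).val := by
      apply Algebra.adjoin_le
      intro y hy
      rw [Set.mem_singleton_iff] at hy
      rw [hy]
      exact w.2
    exact hle hG
  rw [mem_nonZeroDivisors_iff_right] at hw
  have h3 : (⟨(G : S), hGD⟩ : D) * w = 0 := by
    apply Subtype.ext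
    show (G : S) * (w : S) = 0
    exact congrArg (fun z : stageSub ε j => (z : S)) hGw
  have h4 : (⟨(G : S), hGD⟩ : D) = 0 := hw _ h3
  apply hGne
  apply Subtype.ext
  show (G : S) = 0
  exact congrArg (fun z : D => (z : S)) h4

/-- Let A be a reduced local ring with finitely many minimal prime ideals, S a strict henselization of
A, and D an A-subalgebra of S which is a local ring dominated by S (local inclusion). Then the total
ring of fractions K_D of D is finitely generated over that of A — there is a finite subset t of K_D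
such that every element of K_D, multiplied by (the image of) some non-zero-divisor of A, is a
polynomial expression in t with coefficients from A — if and only if D is contained in some
A-subalgebra E of S which is a local ring and an essentially etale local A-algebra (a localization
of an etale A-algebra at a prime over the maximal ideal). -/
theorem result
    (A S : Type u) [CommRing A] [IsLocalRing A] [IsReduced A] (hmin : (minimalPrimes A).Finite)
    [CommRing S] [IsLocalRing S] [Algebra A S] [IsLocalHom (algebraMap A S)]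
    [Hensel.IsStrictHenselization A S] (D : Subalgebra A S) [IsLocalRing D]
    [IsLocalHom (algebraMap D S)] :
    (∃ t : Finset (FractionRing D), ∀ x : FractionRing D, ∃ a ∈ nonZeroDivisors A,
        algebraMap A (FractionRing D) a * x ∈ Algebra.adjoin A (t : Set (FractionRing D))) ↔
      ∃ E : Subalgebra A S, D ≤ E ∧ ∃ _ : IsLocalRing E, EGA4loc.IsEssentiallyEtale A E := by
  classical
  constructor
  · -- finitely generated total ring of fractions ⇒ contained in a stage
    rintro ⟨t, ht⟩
    obtain ⟨ε⟩ := Groth.Agent.Lib.Helper24.StrictHens.exists_algEquiv_SH A S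
    have hmk : ∀ τ : FractionRing D, ∃ p : D × nonZeroDivisors D,
        τ * algebraMap D (FractionRing D) p.2 = algebraMap D (FractionRing D) p.1 :=
      fun τ => IsLocalization.surj (nonZeroDivisors D) τ
    choose p hp using hmk
    obtain ⟨i, hi⟩ := Groth.Agent.Lib.helper9.StageSub.exists_stage_finset ε
      (t.image (fun τ => ((p τ).1 : S)) ∪ t.image (fun τ => (((p τ).2 : D) : S)))
    let E := Groth.Agent.Lib.helper9.StageSub.stageSub ε i
    refine ⟨E, ?_, Groth.Agent.Lib.helper9.StageSub.isLocalRing_stageSub ε i,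
      Groth.Agent.Lib.helper9.StageSub.isEssentiallyEtale_stageSub ε i⟩
    have hinj : Function.Injective (algebraMap D (FractionRing D)) :=
      IsFractionRing.injective D (FractionRing D)
    -- every element of `A[t]` is a fraction with numerator and denominator in the stage
    have key : ∀ y ∈ Algebra.adjoin A (t : Set (FractionRing D)),
        ∃ n w : D, (n : S) ∈ E ∧ (w : S) ∈ E ∧ w ∈ nonZeroDivisors D ∧
          y * algebraMap D (FractionRing D) w = algebraMap D (FractionRing D) n := by
      intro y hy
      induction hy using Algebra.adjoin_induction with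
      | mem τ hτ =>
        refine ⟨(p τ).1, (p τ).2, ?_, ?_, (p τ).2.2, hp τ⟩
        · exact hi _ (Finset.mem_union_left _ (Finset.mem_image_of_mem _ hτ))
        · exact hi _ (Finset.mem_union_right _
            (Finset.mem_image_of_mem (fun τ => (((p τ).2 : D) : S)) hτ))
      | algebraMap c =>
        refine ⟨algebraMap A D c, 1, E.algebraMap_mem c, E.one_mem, one_mem _, ?_⟩
        rw [map_one, mul_one, ← IsScalarTower.algebraMap_apply]
      | add y₁ y₂ _ _ h₁ h₂ =>
        obtain ⟨n₁, w₁, hn₁, hw₁, hw₁', e₁⟩ := h₁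
        obtain ⟨n₂, w₂, hn₂, hw₂, hw₂', e₂⟩ := h₂
        refine ⟨n₁ * w₂ + n₂ * w₁, w₁ * w₂, E.add_mem (E.mul_mem hn₁ hw₂) (E.mul_mem hn₂ hw₁),
          E.mul_mem hw₁ hw₂, mul_mem hw₁' hw₂', ?_⟩
        rw [map_mul, map_add, map_mul, map_mul, ← e₁, ← e₂]
        ring
      | mul y₁ y₂ _ _ h₁ h₂ =>
        obtain ⟨n₁, w₁, hn₁, hw₁, hw₁', e₁⟩ := h₁
        obtain ⟨n₂, w₂, hn₂, hw₂, hw₂', e₂⟩ := h₂
        refine ⟨n₁ * n₂, w₁ * w₂, E.mul_mem hn₁ hn₂, E.mul_mem hw₁ hw₂, mul_mem hw₁' hw₂', ?_⟩
        rw [map_mul, map_mul, ← e₁, ← e₂]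
        ring
    intro d₀ hd₀
    obtain ⟨a, ha, hax⟩ := ht (algebraMap D (FractionRing D) ⟨d₀, hd₀⟩)
    obtain ⟨n, w, hn, hw, hw', e⟩ := key _ hax
    -- the relation in `D`, hence in `S`
    have hD : algebraMap A D a * ⟨d₀, hd₀⟩ * w = n := by
      apply hinj
      rw [map_mul, map_mul, ← e, ← IsScalarTower.algebraMap_apply]
    have hS : (n : S) = (algebraMap A S a * (w : S)) * d₀ := by
      have := congrArg Subtype.val hD
      rw [← this]
      show (algebraMap A S a * d₀) * (w : S) = _
      ring
    have haw : algebraMap A S a * (w : S) ∈ E := E.mul_mem (E.algebraMap_mem a) hw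
    obtain ⟨s', hs'E, hs'⟩ := Groth.Agent.Lib.helper9.StageSub.exists_mul_eq_of_mem_stageSub ε i
      _ _ haw hn d₀ hS
    haveI : Module.Flat A S :=
      (Groth.Agent.Lib.Helper24.StrictHens.faithfullyFlat_of_isStrictHenselization A S).toFlat
    have haS : algebraMap A S a ∈ nonZeroDivisors S :=
      Groth.Agent.Lib.helper9.TotFrac.algebraMapSubmonoid_le_of_flat A S ⟨a, ha, rfl⟩
    have hwS : (w : S) ∈ nonZeroDivisors S := mem_nonZeroDivisors_of_mem A S hmin D w hw'
    have hawS : algebraMap A S a * (w : S) ∈ nonZeroDivisors S := mul_mem haS hwS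
    have h5 : (algebraMap A S a * (w : S)) * (d₀ - s') = 0 := by
      rw [mul_sub, ← hS, ← hs', sub_self]
    have h6 : d₀ - s' = 0 := by
      rw [mem_nonZeroDivisors_iff_right] at hawS
      apply hawS
      rw [mul_comm]
      exact h5
    rw [sub_eq_zero.1 h6]
    exact hs'E
  · -- contained in an essentially étale local subalgebra ⇒ finitely generated
    rintro ⟨E, hDE, -, hE⟩
    haveI : Module.Flat A E := Groth.Agent.Lib.helper9.EssEtBasic.flat_of_isEssentiallyEtale A E hE
    haveI : Algebra.QuasiFinite A E :=
      Groth.Agent.Lib.helper9.EssEtBasic.quasiFinite_of_isEssentiallyEtale A E hE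
    obtain ⟨-, t, ht⟩ := Groth.Agent.Lib.helper9.TotFrac.isLocalization_fractionRing_of_injective
      A E hmin D (Subalgebra.inclusion hDE) (Subalgebra.inclusion_injective hDE)
    refine ⟨t, fun x => ?_⟩
    obtain ⟨a, ha, hax⟩ := ht x
    exact ⟨a, ha, Algebra.span_le_adjoin A _ hax⟩

end Groth.Agent.S16441
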