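import Groth.Statements.S16442
-- import your own Groth.Agent.* helpers here
import Groth.Agent.Lib.Helper9.StageSub1

set_option linter.style.haveILetI false

set_option autoImplicit false
universe u
open EGA4loc

namespace Groth.Agent.S16442

/-- Let A be a reduced local ring with finitely many minimal prime ideals, S a strict henselization of
A, and D an A-subalgebra of S which is a local ring dominated by S (local inclusion) and essentially
of finite type over A. Then D is contained in some A-subalgebra E of S which is a local ring and an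
essentially etale local A-algebra. -/
theorem result
    (A S : Type u) [CommRing A] [IsLocalRing A] [IsReduced A] (hmin : (minimalPrimes A).Finite)
    [CommRing S] [IsLocalRing S] [Algebra A S] [IsLocalHom (algebraMap A S)]
    [Hensel.IsStrictHenselization A S] (D : Subalgebra A S) [IsLocalRing D]
    [IsLocalHom (algebraMap D S)] [Algebra.EssFiniteType A D] :
    ∃ E : Subalgebra A S, D ≤ E ∧ ∃ _ : IsLocalRing E, EGA4loc.IsEssentiallyEtale A E := by
  classical
  obtain ⟨ε⟩ := Groth.Agent.Lib.Helper24.StrictHens.exists_algEquiv_SH A S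
  obtain ⟨σ, hσ⟩ := (Algebra.essFiniteType_iff A D).1 ‹Algebra.EssFiniteType A D›
  obtain ⟨i, hi⟩ := Groth.Agent.Lib.helper9.StageSub.exists_stage_finset ε (σ.image Subtype.val)
  refine ⟨Groth.Agent.Lib.helper9.StageSub.stageSub ε i, ?_,
    Groth.Agent.Lib.helper9.StageSub.isLocalRing_stageSub ε i,
    Groth.Agent.Lib.helper9.StageSub.isEssentiallyEtale_stageSub ε i⟩
  have hadj : ∀ x : D, x ∈ Algebra.adjoin A (σ : Set D) →
      (x : S) ∈ Groth.Agent.Lib.helper9.StageSub.stageSub ε i := by
    intro x hx
    have hle : Algebra.adjoin A (σ : Set D) ≤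
        (Groth.Agent.Lib.helper9.StageSub.stageSub ε i).comap D.val := by
      apply Algebra.adjoin_le
      intro y hy
      exact hi y.1 (Finset.mem_image_of_mem _ hy)
    exact hle hx
  intro d hd
  obtain ⟨t, ht, htu, hdt⟩ := hσ ⟨d, hd⟩
  have h1 : (t : S) ∈ Groth.Agent.Lib.helper9.StageSub.stageSub ε i := hadj t ht
  have h2 : d * (t : S) ∈ Groth.Agent.Lib.helper9.StageSub.stageSub ε i := hadj _ hdt
  have h3 : IsUnit (t : S) := htu.map D.val
  obtain ⟨t', ht', htt'⟩ :=
    Groth.Agent.Lib.helper9.StageSub.exists_inv_mem_stageSub ε i t.1 h1 h3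
  have h4 : d = (d * t.1) * t' := by rw [mul_assoc, htt', mul_one]
  rw [h4]
  exact (Groth.Agent.Lib.helper9.StageSub.stageSub ε i).mul_mem h2 ht'

end Groth.Agent.S16442
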