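import Groth.Statements.S16443
-- import your own Groth.Agent.* helpers here
import Groth.Agent.Lib.Helper9.TotFrac2
import Groth.Agent.Lib.Helper9.EssEtBasic1

set_option linter.style.haveILetI false

set_option autoImplicit false
universe u
open EGA4loc

namespace Groth.Agent.S16443

/-- Let A be a reduced local ring with finitely many minimal prime ideals, E a local ring which is an
essentially etale local A-algebra with local structure map, K_E the total ring of fractions of E,
and L an A-subalgebra of K_E containing an inverse of the image of every non-zero-divisor of A (so L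
is an intermediate ring between the total rings of fractions of A and of E). Then the preimage D of
L in E is (the underlying set of) an A-subalgebra of E which is a local ring with local inclusion
into E — its maximal ideal lies under that of E — and L is the total ring of fractions of D in the
sense that every element of L is the image of an element of D times the inverse of the image of a
non-zero-divisor of A. -/
theorem result
    (A E : Type u) [CommRing A] [IsLocalRing A] [IsReduced A] (hmin : (minimalPrimes A).Finite)
    [CommRing E] [IsLocalRing E] [Algebra A E] [IsLocalHom (algebraMap A E)]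
    (hE : EGA4loc.IsEssentiallyEtale A E) (L : Subalgebra A (FractionRing E))
    (hL : ∀ s ∈ nonZeroDivisors A, ∃ y ∈ L, algebraMap A (FractionRing E) s * y = 1) :
    ∃ D : Subalgebra A E, (D : Set E) = (algebraMap E (FractionRing E)) ⁻¹' (L : Set (FractionRing E)) ∧
      ∃ _ : IsLocalRing D, IsLocalHom (algebraMap D E) ∧
        ∀ l ∈ L, ∃ d ∈ D, ∃ s ∈ nonZeroDivisors A, ∃ y ∈ L,
          algebraMap A (FractionRing E) s * y = 1 ∧ l = algebraMap E (FractionRing E) d * y := by
  classical
  haveI : Module.Flat A E := Groth.Agent.Lib.helper9.EssEtBasic.flat_of_isEssentiallyEtale A E hE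
  haveI : Algebra.QuasiFinite A E :=
    Groth.Agent.Lib.helper9.EssEtBasic.quasiFinite_of_isEssentiallyEtale A E hE
  have hloc := (Groth.Agent.Lib.helper9.TotFrac.isLocalization_fractionRing_of_quasiFinite_flat
    A E hmin).1
  have hinj : Function.Injective (algebraMap E (FractionRing E)) :=
    IsFractionRing.injective E (FractionRing E)
  let D : Subalgebra A E := L.comap (IsScalarTower.toAlgHom A E (FractionRing E))
  have hDmem : ∀ x : E, x ∈ D ↔ algebraMap E (FractionRing E) x ∈ L := fun x => Iff.rfl
  -- the inclusion is local
  have hlocal : IsLocalHom (algebraMap D E) := by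
    constructor
    intro d hd
    have hd' : IsUnit (d.1 : E) := hd
    obtain ⟨e', he'⟩ := hd'.exists_right_inv
    have hu : IsUnit (algebraMap E (FractionRing E) d.1) := hd'.map _
    obtain ⟨l', hl'L, hl'⟩ := Groth.Agent.Lib.helper9.TotFrac.exists_mul_eq_one_of_isUnit A E hmin
      L hL _ ((hDmem d.1).1 d.2) hu
    have h1 : algebraMap E (FractionRing E) e' = l' := by
      have h2 : algebraMap E (FractionRing E) d.1 * algebraMap E (FractionRing E) e' = 1 := by
        rw [← map_mul, he', map_one]
      calc algebraMap E (FractionRing E) e'
          = (l' * algebraMap E (FractionRing E) d.1) * algebraMap E (FractionRing E) e' := by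
            rw [mul_comm l', hl', one_mul]
        _ = l' * (algebraMap E (FractionRing E) d.1 * algebraMap E (FractionRing E) e') :=
            mul_assoc _ _ _
        _ = l' := by rw [h2, mul_one]
    have he'D : e' ∈ D := (hDmem e').2 (h1 ▸ hl'L)
    refine IsUnit.of_mul_eq_one (⟨e', he'D⟩ : D) ?_
    exact Subtype.ext he'
  refine ⟨D, rfl, (algebraMap D E).domain_isLocalRing, hlocal, ?_⟩
  intro l hl
  haveI := hloc
  obtain ⟨⟨e, m⟩, hem⟩ := IsLocalization.surj ((nonZeroDivisors A).map (algebraMap A E)) l
  obtain ⟨s, hs, hsm⟩ := m.2
  obtain ⟨y, hyL, hy⟩ := hL s hs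
  have h3 : algebraMap E (FractionRing E) m.1 = algebraMap A (FractionRing E) s := by
    rw [← hsm, ← IsScalarTower.algebraMap_apply]
  have hem' : l * algebraMap A (FractionRing E) s = algebraMap E (FractionRing E) e := by
    rw [← h3]; exact hem
  have heD : e ∈ D := by
    rw [hDmem, ← hem']
    exact L.mul_mem hl (L.algebraMap_mem s)
  refine ⟨e, heD, s, hs, y, hyL, hy, ?_⟩
  calc l = l * (algebraMap A (FractionRing E) s * y) := by rw [hy, mul_one]
    _ = (l * algebraMap A (FractionRing E) s) * y := (mul_assoc _ _ _).symm
    _ = algebraMap E (FractionRing E) e * y := by rw [hem']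

end Groth.Agent.S16443
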