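import Groth.Statements.S16444
import Groth.Agent.Lib.Helper24.FiniteEtaleLift
import Groth.Agent.Lib.Helper24.HenselEss
import Groth.Agent.Lib.Helper24.IntegralHensel
-- import your own Groth.Agent.* helpers here

set_option autoImplicit false
universe u
open scoped TensorProduct
open Hensel

namespace Groth.Agent.S16444

section Aux

open IsLocalRing Polynomial

/-- A local `A`-algebra map from a noetherian local formally unramified `A`-algebra to a finite
étale local `A`-algebra which is surjective on residue fields is bijective. -/
theorem bijective_of_residue (A E B : Type u) [CommRing A] [IsLocalRing A]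
    [CommRing E] [IsLocalRing E] [IsNoetherianRing E] [Algebra A E]
    [Algebra.FormallyUnramified A E]
    [CommRing B] [IsLocalRing B] [Algebra A B] [IsLocalHom (algebraMap A B)]
    [Module.Finite A B] [Algebra.FormallySmooth A B] [Algebra.FormallyUnramified A B]
    (g : E →ₐ[A] B) (hres : ∀ b : B, ∃ x : E, b - g x ∈ maximalIdeal B) :
    Function.Bijective g := by
  have hsurj : Function.Surjective g := by
    have hft : Algebra.FiniteType A B := inferInstance
    have hmap : (maximalIdeal A).map (algebraMap A B) = maximalIdeal B :=
      Algebra.FormallyUnramified.map_maximalIdeal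
    have hle : (⊤ : Submodule A B) ≤ LinearMap.range g.toLinearMap := by
      apply Submodule.le_of_le_smul_of_le_jacobson_bot (I := maximalIdeal A) Module.Finite.fg_top
        (by rw [IsLocalRing.jacobson_eq_maximalIdeal ⊥ bot_ne_top])
      intro b _
      obtain ⟨x, hx⟩ := hres b
      have hb : b = g x + (b - g x) := by ring
      rw [hb]
      refine Submodule.add_mem_sup ⟨x, rfl⟩ ?_
      rw [Ideal.smul_top_eq_map, hmap]
      exact hx
    intro b
    obtain ⟨x, hx⟩ := hle (Submodule.mem_top : b ∈ ⊤)
    exact ⟨x, hx⟩
  refine ⟨?_, hsurj⟩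
  letI : Algebra E B := g.toRingHom.toAlgebra
  have : IsScalarTower A E B := IsScalarTower.of_algebraMap_eq (fun a => (g.commutes a).symm)
  have hfs : Algebra.FormallySmooth E B := Algebra.FormallySmooth.of_restrictScalars A E B
  let f : E →ₐ[E] B := Algebra.ofId E B
  have hf : Function.Surjective f := hsurj
  obtain ⟨σ, hσ⟩ := (Algebra.FormallySmooth.iff_split_surjection f hf).1 hfs
  have hK : RingHom.ker f.toRingHom ≤ RingHom.ker f.toRingHom ^ 2 := by
    intro k hk
    have h1 : σ (f k) = algebraMap E _ k := by
      rw [show f k = algebraMap E B k from rfl, σ.commutes]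
    have h2 : f k = 0 := hk
    rw [h2, map_zero] at h1
    rw [← Ideal.Quotient.eq_zero_iff_mem]
    exact h1.symm
  have hK0 : RingHom.ker f.toRingHom = ⊥ := by
    have hfg : (RingHom.ker f.toRingHom).FG := IsNoetherian.noetherian _
    have hjac : RingHom.ker f.toRingHom ≤ Ideal.jacobson ⊥ := by
      rw [IsLocalRing.jacobson_eq_maximalIdeal ⊥ bot_ne_top]
      exact IsLocalRing.le_maximalIdeal (RingHom.ker_ne_top _)
    exact Submodule.eq_bot_of_le_smul_of_le_jacobson_bot _ _ hfg
      (by rwa [smul_eq_mul, ← pow_two]) hjac
  exact (RingHom.injective_iff_ker_eq_bot f.toRingHom).2 hK0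

end Aux

open IsLocalRing in
/-- Let A be a complete Noetherian local ring and R → A a local homomorphism from a henselian Noetherian
local ring R inducing a bijection on residue fields. Then every local ring E which is an essentially
etale local A-algebra with local structure map is A-isomorphic to A ⊗_R S for some local ring S
which is a finite etale R-algebra (its residue field is then that of E). (The published statement
takes R to be a coefficient ring of A, that is a field or an image of a complete p-ring with the
same residue field; its proof uses only that R is henselian with the same residue field as A, which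
is the hypothesis made here.) -/
theorem result
    (R A E : Type u) [CommRing R] [HenselianLocalRing R] [IsNoetherianRing R]
    [CommRing A] [IsLocalRing A] [IsNoetherianRing A] [IsAdicComplete (maximalIdeal A) A]
    [Algebra R A] [IsLocalHom (algebraMap R A)]
    (hres : Function.Bijective (ResidueField.map (algebraMap R A)))
    [CommRing E] [IsLocalRing E] [Algebra A E] [IsLocalHom (algebraMap A E)]
    (hE : EGA4loc.IsEssentiallyEtale A E) :
    ∃ (S : Type u) (_ : CommRing S) (_ : IsLocalRing S) (_ : Algebra R S),
      Module.Finite R S ∧ Algebra.Etale R S ∧ Nonempty (E ≃ₐ[A] A ⊗[R] S) := by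
  classical
  have hA : HenselianLocalRing A := ⟨fun f hf a₀ h₁ h₂ =>
    HenselianRing.is_henselian (I := maximalIdeal A) f hf a₀ h₁ (h₂.map _)⟩
  obtain ⟨C, _, _, q, hq, hEt, hqm, ⟨e⟩⟩ := hE
  have hCn : IsNoetherianRing C := Algebra.FiniteType.isNoetherianRing A C
  have hE'n : IsNoetherianRing (Localization.AtPrime q) :=
    IsLocalization.isNoetherianRing q.primeCompl _ hCn
  have hloc' : IsLocalHom (algebraMap A (Localization.AtPrime q)) := by
    constructor
    intro a ha
    rw [IsScalarTower.algebraMap_apply A C (Localization.AtPrime q),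
      IsLocalization.AtPrime.isUnit_to_map_iff (Localization.AtPrime q) q] at ha
    by_contra hna
    apply ha
    show algebraMap A C a ∈ q
    rw [← Ideal.mem_comap, hqm]
    exact (mem_maximalIdeal _).2 hna
  have hfe1 : Algebra.FormallyEtale C (Localization.AtPrime q) :=
    Algebra.FormallyEtale.of_isLocalization q.primeCompl
  have hfe : Algebra.FormallyEtale A (Localization.AtPrime q) :=
    Algebra.FormallyEtale.comp A C _
  have heft1 : Algebra.EssFiniteType C (Localization.AtPrime q) :=
    Algebra.EssFiniteType.of_isLocalization _ q.primeCompl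
  have heft : Algebra.EssFiniteType A (Localization.AtPrime q) :=
    Algebra.EssFiniteType.comp A C _
  -- the residue field extension
  obtain ⟨FA, hFA, hFAs, hFAirr, ⟨eL⟩⟩ :=
    Groth.Agent.Lib.Helper24.FiniteEtaleLift.exists_lift_field A
      (ResidueField (Localization.AtPrime q))
  -- lift to `R`
  let φ : R →+* ResidueField A := (residue A).comp (algebraMap R A)
  have hφ : Function.Surjective φ := by
    intro z
    obtain ⟨w, rfl⟩ := hres.2 z
    obtain ⟨r, rfl⟩ := residue_surjective w
    exact ⟨r, (ResidueField.map_residue _ r).symm⟩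
  have hμmon : (FA.map (algebraMap A (ResidueField A))).Monic := hFA.map _
  obtain ⟨F, hFμ, -, hF⟩ := Polynomial.lifts_and_natDegree_eq_and_monic
    (Polynomial.mem_lifts_of_surjective (f := φ) hφ (FA.map (algebraMap A (ResidueField A))))
    hμmon
  have hFbar : (F.map (residue R)).map (ResidueField.map (algebraMap R A)) =
      FA.map (algebraMap A (ResidueField A)) := by
    rw [Polynomial.map_map, ← hFμ]
    congr 1
  have hμsep : (FA.map (algebraMap A (ResidueField A))).Separable := hFAs.map
  have hFsep : F.Separable :=
    Groth.Agent.Lib.Helper24.FiniteEtaleLift.separable_of_map_residue F hF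
      ((Polynomial.separable_map _).1 (hFbar ▸ hμsep))
  have hFirr : Irreducible (F.map (algebraMap R (ResidueField R))) := by
    rw [IsLocalRing.ResidueField.algebraMap_eq]
    exact Polynomial.Monic.irreducible_of_irreducible_map
      (ResidueField.map (algebraMap R A)) _ (hF.map _) (hFbar ▸ hFAirr)
  have hSloc : IsLocalRing (AdjoinRoot F) :=
    Groth.Agent.Lib.Helper24.FiniteEtaleLift.isLocalRing_adjoinRoot F hF hFirr
  have hSfin : Module.Finite R (AdjoinRoot F) := hF.finite_adjoinRoot
  have hSet : Algebra.Etale R (AdjoinRoot F) :=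
    Groth.Agent.Lib.Helper24.FiniteEtaleLift.etale_adjoinRoot F hF hFsep
  -- the base change
  have hG : (F.map (algebraMap R A)).Monic := hF.map _
  have hGμ : (F.map (algebraMap R A)).map (algebraMap A (ResidueField A)) =
      FA.map (algebraMap A (ResidueField A)) := by
    rw [Polynomial.map_map, ← hFμ]
    rfl
  have hGsep : (F.map (algebraMap R A)).Separable := hFsep.map
  have hGirr : Irreducible ((F.map (algebraMap R A)).map (algebraMap A (ResidueField A))) := by
    rw [hGμ]
    exact hFAirr
  have hBloc : IsLocalRing (AdjoinRoot (F.map (algebraMap R A))) :=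
    Groth.Agent.Lib.Helper24.FiniteEtaleLift.isLocalRing_adjoinRoot _ hG hGirr
  have hBfin : Module.Finite A (AdjoinRoot (F.map (algebraMap R A))) := hG.finite_adjoinRoot
  have hBet : Algebra.Etale A (AdjoinRoot (F.map (algebraMap R A))) :=
    Groth.Agent.Lib.Helper24.FiniteEtaleLift.etale_adjoinRoot _ hG hGsep
  have hBint : Algebra.IsIntegral A (AdjoinRoot (F.map (algebraMap R A))) :=
    Algebra.IsIntegral.of_finite A _
  have hBlh : IsLocalHom (algebraMap A (AdjoinRoot (F.map (algebraMap R A)))) :=
    Groth.Agent.Lib.Helper24.IntegralHensel.isLocalHom_of_isIntegral A _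
  have hBh : HenselianLocalRing (AdjoinRoot (F.map (algebraMap R A))) :=
    Groth.Agent.Lib.Helper24.IntegralHensel.henselian_of_finite A _
  -- residue field of `B`
  have hfact := Fact.mk hGirr
  have hsurjB := Groth.Agent.Lib.Helper24.FiniteEtaleLift.baseMap_surjective
    (F.map (algebraMap R A)) ((F.map (algebraMap R A)).map (algebraMap A (ResidueField A))) rfl
    (by rw [IsLocalRing.ResidueField.algebraMap_eq]; exact residue_surjective)
  obtain ⟨e'⟩ := Groth.Agent.Lib.Helper24.FiniteEtaleLift.exists_residueField_equiv
    (AdjoinRoot (F.map (algebraMap R A)))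
    (AdjoinRoot ((F.map (algebraMap R A)).map (algebraMap A (ResidueField A))))
    (Groth.Agent.Lib.Helper24.FiniteEtaleLift.baseMap (F.map (algebraMap R A))
      ((F.map (algebraMap R A)).map (algebraMap A (ResidueField A))) rfl) hsurjB
  let τe : ResidueField (AdjoinRoot (F.map (algebraMap R A))) ≃ₐ[ResidueField A]
      ResidueField (Localization.AtPrime q) :=
    (e'.trans (AdjoinRoot.algEquivOfEq (ResidueField A) _ _ hGμ)).trans eL
  let τ : ResidueField (Localization.AtPrime q) →+*
      ResidueField (AdjoinRoot (F.map (algebraMap R A))) := τe.symm.toAlgHom.toRingHom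
  have hτ : ∀ a : A, τ (residue _ (algebraMap A (Localization.AtPrime q) a)) =
      residue _ (algebraMap A (AdjoinRoot (F.map (algebraMap R A))) a) := by
    intro a
    rw [← IsLocalRing.ResidueField.algebraMap_residue, ← IsLocalRing.ResidueField.algebraMap_residue]
    exact τe.symm.commutes _
  obtain ⟨g, ⟨hg1, hg2, hg3⟩, -⟩ :=
    Groth.Agent.Lib.helper24.HenselEss.existsUnique_lift_atPrime A C q
      (AdjoinRoot (F.map (algebraMap R A))) (algebraMap A _) τ hτ
  let gₐ : Localization.AtPrime q →ₐ[A] AdjoinRoot (F.map (algebraMap R A)) :=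
    { g with commutes' := fun a => congrArg (fun ψ : A →+* _ => ψ a) hg2 }
  have hgres : ∀ b : AdjoinRoot (F.map (algebraMap R A)), ∃ x : Localization.AtPrime q,
      b - gₐ x ∈ maximalIdeal _ := by
    intro b
    obtain ⟨x, hx⟩ := residue_surjective (τe (residue _ b))
    refine ⟨x, ?_⟩
    rw [← residue_eq_zero_iff, map_sub, sub_eq_zero]
    show residue _ b = residue _ (g x)
    rw [hg3, hx]
    show residue _ b = τe.symm (τe (residue _ b))
    rw [AlgEquiv.symm_apply_apply]
  have hbij := bijective_of_residue A (Localization.AtPrime q)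
    (AdjoinRoot (F.map (algebraMap R A))) gₐ hgres
  refine ⟨AdjoinRoot F, inferInstance, hSloc, inferInstance, hSfin, hSet, ?_⟩
  exact ⟨(e.trans (AlgEquiv.ofBijective gₐ hbij)).trans
    (Groth.Agent.Lib.Helper24.FiniteEtaleLift.tensorEquiv F (F.map (algebraMap R A)) rfl).symm⟩

end Groth.Agent.S16444
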