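import Groth.Statements.S9428
import Mathlib

set_option autoImplicit false
universe u
open CAlg

namespace Groth.Agent.S9428


lemma nil_ker {B C : Type*} [CommRing B] [CommRing C] (q : B →+* C) (K : Ideal B)
    (hK : RingHom.ker q ≤ K) (n : ℕ) (hKn : K ^ n = ⊥) : RingHom.ker q ^ n = ⊥ :=
  le_bot_iff.mp (hKn ▸ Ideal.pow_right_mono hK n)

/-- If R → S is formally étale and J ⊆ S is an ideal with R → S/J surjective, I ⊆ R its kernel (the
preimage of J), then R/I^n → S/J^n is bijective for all n. (The published statement adds that the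
associated graded rings are then isomorphic, which follows from these bijections.) -/
theorem result (R : Type u) [CommRing R] (S : Type u)
    [CommRing S] [Algebra R S] [Algebra.FormallyEtale R S] (J : Ideal S)
    (hJ : Function.Surjective (algebraMap R (S ⧸ J))) (n : ℕ) :
    Function.Bijective (Ideal.quotientMap (J ^ n) (algebraMap R S)
      (le_of_le_of_eq (Ideal.le_comap_pow (algebraMap R S) n) rfl :
        (J.comap (algebraMap R S)) ^ n ≤ (J ^ n).comap (algebraMap R S))) := by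
  rcases Nat.eq_zero_or_pos n with hn | hn
  · subst hn
    haveI : Subsingleton (R ⧸ (J.comap (algebraMap R S)) ^ 0) := by
      rw [Ideal.Quotient.subsingleton_iff]; simp
    haveI : Subsingleton (S ⧸ J ^ 0) := by
      rw [Ideal.Quotient.subsingleton_iff]; simp
    exact ⟨fun a b _ => Subsingleton.elim a b, fun y => ⟨0, Subsingleton.elim _ _⟩⟩
  set I : Ideal R := J.comap (algebraMap R S) with hI
  have hle : I ^ n ≤ (J ^ n).comap (algebraMap R S) :=
    (le_of_le_of_eq (Ideal.le_comap_pow (algebraMap R S) n) rfl)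
  set φ : R ⧸ I ^ n →+* S ⧸ J ^ n := Ideal.quotientMap (J ^ n) (algebraMap R S) hle with hφ
  have hφmk : ∀ r : R, φ (Ideal.Quotient.mk _ r) = Ideal.Quotient.mk _ (algebraMap R S r) :=
    fun r => Ideal.quotientMap_mk
  -- the map g : R/I^n → S/J
  have hIn : I ^ n ≤ I := Ideal.pow_le_self hn.ne'
  let g : R ⧸ I ^ n →ₐ[R] S ⧸ J := Ideal.Quotient.liftₐ (I ^ n) (Algebra.ofId R (S ⧸ J))
    (fun a ha => by
      have : algebraMap R S a ∈ J := hIn ha
      show algebraMap R (S ⧸ J) a = 0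
      rw [IsScalarTower.algebraMap_apply R S (S ⧸ J), Ideal.Quotient.algebraMap_eq,
        Ideal.Quotient.eq_zero_iff_mem]
      exact this)
  have hgmk : ∀ r : R, g (Ideal.Quotient.mk _ r) = Ideal.Quotient.mk J (algebraMap R S r) := by
    intro r
    show algebraMap R (S ⧸ J) r = _
    rw [IsScalarTower.algebraMap_apply R S (S ⧸ J), Ideal.Quotient.algebraMap_eq]
  have hg : Function.Surjective g := by
    intro y
    obtain ⟨r, hr⟩ := hJ y
    exact ⟨Ideal.Quotient.mk _ r, by
      rw [hgmk, ← hr, IsScalarTower.algebraMap_apply R S (S ⧸ J), Ideal.Quotient.algebraMap_eq]⟩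
  have hkerg : RingHom.ker (g : R ⧸ I ^ n →+* S ⧸ J) ^ n = ⊥ := by
    apply nil_ker _ (I.map (Ideal.Quotient.mk (I ^ n)))
    · intro x hx
      obtain ⟨r, rfl⟩ := Ideal.Quotient.mk_surjective x
      rw [RingHom.mem_ker] at hx
      have hx' : g (Ideal.Quotient.mk _ r) = 0 := hx
      rw [hgmk, Ideal.Quotient.eq_zero_iff_mem] at hx'
      exact Ideal.mem_map_of_mem _ hx'
    · rw [← Ideal.map_pow, Ideal.map_quotient_self]
  have hnil : IsNilpotent (RingHom.ker (g : R ⧸ I ^ n →+* S ⧸ J)) := ⟨n, hkerg⟩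
  let f₀ : S →ₐ[R] S ⧸ J := Ideal.Quotient.mkₐ R J
  let ψ : S →ₐ[R] R ⧸ I ^ n := Algebra.FormallySmooth.liftOfSurjective f₀ g hg hnil
  have hψ : ∀ s, g (ψ s) = Ideal.Quotient.mk J s :=
    Algebra.FormallySmooth.liftOfSurjective_apply f₀ g hg hnil
  have hψJ : ∀ a ∈ J ^ n, ψ a = 0 := by
    intro a ha
    have h1 : ψ a ∈ Ideal.map ψ (J ^ n) := Ideal.mem_map_of_mem _ ha
    rw [Ideal.map_pow] at h1
    have h2 : Ideal.map ψ J ≤ RingHom.ker (g : R ⧸ I ^ n →+* S ⧸ J) := by
      rw [Ideal.map_le_iff_le_comap]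
      intro j hj
      rw [Ideal.mem_comap, RingHom.mem_ker]
      show g (ψ j) = 0
      rw [hψ, Ideal.Quotient.eq_zero_iff_mem]
      exact hj
    have h3 := Ideal.pow_right_mono h2 n h1
    rw [hkerg] at h3
    exact h3
  let ψbar : S ⧸ J ^ n →ₐ[R] R ⧸ I ^ n := Ideal.Quotient.liftₐ (J ^ n) ψ hψJ
  have hψbar : ∀ s : S, ψbar (Ideal.Quotient.mk _ s) = ψ s := fun s => rfl
  -- φ as an algebra hom
  let φa : R ⧸ I ^ n →ₐ[R] S ⧸ J ^ n :=
    { φ with
      commutes' := fun r => by
        show φ (Ideal.Quotient.mk _ r) = _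
        rw [hφmk, IsScalarTower.algebraMap_apply R S (S ⧸ J ^ n), Ideal.Quotient.algebraMap_eq] }
  have hφa : ∀ x, φa x = φ x := fun x => rfl
  -- the factor map
  let fac : S ⧸ J ^ n →+* S ⧸ J := Ideal.Quotient.factor (Ideal.pow_le_self hn.ne')
  have hfacmk : ∀ s : S, fac (Ideal.Quotient.mk _ s) = Ideal.Quotient.mk J s := fun s => rfl
  have hkerfac : IsNilpotent (RingHom.ker fac) := by
    refine ⟨n, nil_ker _ (J.map (Ideal.Quotient.mk (J ^ n))) ?_ n ?_⟩
    · intro x hx
      obtain ⟨s, rfl⟩ := Ideal.Quotient.mk_surjective x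
      rw [RingHom.mem_ker, hfacmk, Ideal.Quotient.eq_zero_iff_mem] at hx
      exact Ideal.mem_map_of_mem _ hx
    · rw [← Ideal.map_pow, Ideal.map_quotient_self]
  have hfacφ : ∀ x, fac (φ x) = g x := by
    intro x
    obtain ⟨r, rfl⟩ := Ideal.Quotient.mk_surjective x
    rw [hφmk, hfacmk, hgmk]
  have heq : φa.comp ψ = Ideal.Quotient.mkₐ R (J ^ n) := by
    apply Algebra.FormallyUnramified.ext' fac hkerfac
    intro s
    show fac (φ (ψ s)) = fac (Ideal.Quotient.mk _ s)
    rw [hfacφ, hψ, hfacmk]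
  have hleft : ∀ x, ψbar (φ x) = x := by
    intro x
    obtain ⟨r, rfl⟩ := Ideal.Quotient.mk_surjective x
    rw [hφmk, hψbar, ← Ideal.Quotient.algebraMap_eq, ψ.commutes]
  have hright : ∀ y, φ (ψbar y) = y := by
    intro y
    obtain ⟨s, rfl⟩ := Ideal.Quotient.mk_surjective y
    rw [hψbar]
    exact AlgHom.congr_fun heq s
  exact ⟨Function.LeftInverse.injective hleft, Function.RightInverse.surjective hright⟩

end Groth.Agent.S9428
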