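import Groth.Statements.S16452
import Mathlib
import Groth.Agent.Lib.Helper8.GrMapApprox
import Groth.Agent.S9428

set_option autoImplicit false
universe u
open CAlg

namespace Groth.Agent.S16452

/-- Let R → S be formally étale and J an ideal of S such that the composite R → S → S/J is surjective;
let I ⊆ R be its kernel, the preimage of J in R. Then the homomorphism of associated graded rings ⊕ₙ
Iⁿ/Iⁿ⁺¹ → ⊕ₙ Jⁿ/Jⁿ⁺¹ induced by R → S (which carries I into J) is bijective. -/
theorem result (R : Type u) [CommRing R] (S : Type u)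
    [CommRing S] [Algebra R S] [Algebra.FormallyEtale R S] (J : Ideal S)
    (hJ : Function.Surjective (algebraMap R (S ⧸ J))) :
    Function.Bijective (AssocGr.map (AssocGr.IsFiltHom.adic
      (Ideal.map_comap_le : (J.comap (algebraMap R S)).map (algebraMap R S) ≤ J))) := by
  have key : ∀ n : ℕ, Function.Bijective (Ideal.quotientMap (J ^ n) (algebraMap R S)
      (le_of_le_of_eq (Ideal.le_comap_pow (algebraMap R S) n) rfl :
        (J.comap (algebraMap R S)) ^ n ≤ (J ^ n).comap (algebraMap R S))) :=
    fun n => Groth.Agent.S9428.result R S J hJ n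
  -- elementwise forms
  have hinj : ∀ (n : ℕ) (a : R), algebraMap R S a ∈ J ^ n → a ∈ (J.comap (algebraMap R S)) ^ n := by
    intro n a ha
    have h1 : Ideal.quotientMap (J ^ n) (algebraMap R S)
        (le_of_le_of_eq (Ideal.le_comap_pow (algebraMap R S) n) rfl :
          (J.comap (algebraMap R S)) ^ n ≤ (J ^ n).comap (algebraMap R S))
        (Ideal.Quotient.mk _ a) = 0 := by
      rw [Ideal.quotientMap_mk]
      exact Ideal.Quotient.eq_zero_iff_mem.2 ha
    have h2 := (key n).1 (h1.trans (map_zero _).symm)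
    exact Ideal.Quotient.eq_zero_iff_mem.1 h2
  have hsurj : ∀ (n : ℕ) (b : S), ∃ a : R, b - algebraMap R S a ∈ J ^ n := by
    intro n b
    obtain ⟨x, hx⟩ := (key n).2 (Ideal.Quotient.mk _ b)
    obtain ⟨a, rfl⟩ := Ideal.Quotient.mk_surjective x
    rw [Ideal.quotientMap_mk] at hx
    refine ⟨a, ?_⟩
    rw [← Ideal.Quotient.eq_zero_iff_mem, map_sub, hx, sub_self]
  constructor
  · refine Groth.Agent.Lib.Helper8.GrMapApprox.map_injective_of _ ?_
    intro n a _ ha
    exact hinj (n + 1) a ha
  · refine Groth.Agent.Lib.Helper8.GrMapApprox.map_surjective_of _ ?_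
    intro n b hb
    obtain ⟨a, ha⟩ := hsurj (n + 1) b
    refine ⟨a, ?_, ha⟩
    apply hinj n a
    have hb' : b ∈ J ^ n := hb
    have h1 : b - algebraMap R S a ∈ J ^ n := Ideal.pow_le_pow_right (Nat.le_succ n) ha
    have h2 : algebraMap R S a = b - (b - algebraMap R S a) := by ring
    rw [h2]
    exact Ideal.sub_mem _ hb' h1

end Groth.Agent.S16452
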