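import Groth.Statements.S16453
import Mathlib
import Groth.Agent.Lib.Helper8.GrMapApprox

set_option autoImplicit false
universe u
open AdicGr

namespace Groth.Agent.S16453

theorem val_algebraMap (A : Type u) [CommRing A] (I : Ideal A) (a : A) (n : ℕ) :
    (algebraMap A (AdicCompletion I A) a).val n = Submodule.Quotient.mk a := by
  rw [AdicCompletion.algebraMap_apply, Algebra.algebraMap_self, RingHom.id_apply,
    AdicCompletion.of_apply, Submodule.mkQ_apply]

theorem val_algebraMap_eq_zero_iff (A : Type u) [CommRing A] (I : Ideal A) (a : A) (n : ℕ) :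
    (algebraMap A (AdicCompletion I A) a).val n = 0 ↔ a ∈ I ^ n := by
  rw [val_algebraMap, Submodule.Quotient.mk_eq_zero]
  change a ∈ (I ^ n • ⊤ : Ideal A) ↔ _
  rw [AssocGr.pow_smul_top]

/-- Let A be a commutative ring, I an ideal and Â the I-adic completion, filtered by the kernels Âₙ of
the projections Â → A/Iⁿ. Then the homomorphism of associated graded rings ⊕ₙ Iⁿ/Iⁿ⁺¹ → ⊕ₙ Âₙ/Âₙ₊₁
induced by the canonical map A → Â is bijective. No hypothesis on A or I is needed. (The published
statement is for an arbitrary filtered ring and also asserts the analogous isomorphism for a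
compatibly filtered module; this row is the ring assertion for the filtration by the powers of one
ideal.) -/
theorem result (A : Type u) [CommRing A] (I : Ideal A) :
    Function.Bijective (AssocGr.map (AssocGr.isFiltHom_kerFilt I)) := by
  constructor
  · refine Groth.Agent.Lib.Helper8.GrMapApprox.map_injective_of _ ?_
    intro n a _ ha
    rw [AssocGr.mem_kerFilt_iff_val, val_algebraMap_eq_zero_iff] at ha
    exact ha
  · refine Groth.Agent.Lib.Helper8.GrMapApprox.map_surjective_of _ ?_
    intro n x hx
    rw [AssocGr.mem_kerFilt_iff_val] at hx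
    obtain ⟨a, ha⟩ := Submodule.Quotient.mk_surjective _ (x.val (n + 1))
    have han : a ∈ I ^ n := by
      rw [← val_algebraMap_eq_zero_iff A I a n, val_algebraMap]
      have h1 := AdicCompletion.transitionMap_comp_eval_apply I A (Nat.le_succ n) x
      rw [hx, ← ha] at h1
      exact h1
    refine ⟨a, han, ?_⟩
    rw [AssocGr.mem_kerFilt_iff_val, AdicCompletion.val_sub_apply, val_algebraMap, ha, sub_self]

end Groth.Agent.S16453
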