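import Groth.Statements.S16454
import Mathlib
import Groth.Agent.Lib.Helper8.LocalFlat

set_option autoImplicit false
universe u
open TensorProduct
open EGA43

namespace Groth.Agent.S16454

section Aux

variable {A : Type u} [CommRing A]

/-- For a module `Q` killed by `I`, the map `Q ⊗ M → Q ⊗ M/IM` is injective. -/
theorem lTensor_mkQ_injective_of_torsion (I : Ideal A) (Q : Type u) [AddCommGroup Q] [Module A Q]
    (hQ : ∀ b ∈ I, ∀ q : Q, b • q = 0) (M : Type u) [AddCommGroup M] [Module A M] :
    Function.Injective ((I • (⊤ : Submodule A M)).mkQ.lTensor Q) := by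
  -- the inverse map
  have hle : I • (⊤ : Submodule A M) ≤ LinearMap.ker (TensorProduct.mk A Q M).flip := by
    rw [Submodule.smul_le]
    intro b hb m _
    rw [LinearMap.mem_ker, map_smul]
    ext q
    simp only [LinearMap.smul_apply, LinearMap.flip_apply, TensorProduct.mk_apply,
      LinearMap.zero_apply]
    rw [TensorProduct.smul_tmul', hQ b hb q, TensorProduct.zero_tmul]
  let φ : (M ⧸ I • (⊤ : Submodule A M)) →ₗ[A] Q →ₗ[A] Q ⊗[A] M :=
    (I • (⊤ : Submodule A M)).liftQ (TensorProduct.mk A Q M).flip hle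
  let ψ : Q ⊗[A] (M ⧸ I • (⊤ : Submodule A M)) →ₗ[A] Q ⊗[A] M := TensorProduct.lift φ.flip
  have hψ : ∀ z : Q ⊗[A] M, ψ ((I • (⊤ : Submodule A M)).mkQ.lTensor Q z) = z := by
    intro z
    induction z using TensorProduct.induction_on with
    | zero => simp
    | tmul q m => simp [ψ, φ]
    | add x y hx hy => rw [map_add, map_add, hx, hy]
  exact Function.LeftInverse.injective hψ

end Aux

/-- Let A be a commutative ring, I a nilpotent ideal of A and M an A-module, and form the associated
graded ring G = ⊕ₙ Iⁿ/Iⁿ⁺¹ and the associated graded G-module gr_I(M) = ⊕ₙ IⁿM/Iⁿ⁺¹M. Assume that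
M/IM is flat over A/I and that the canonical homomorphism (M/IM) ⊗ G → gr_I(M), [x] ⊗ [a] ↦ [a·x],
is injective: degree by degree, whenever elements a_i ∈ Iⁿ and x_i ∈ M satisfy Σ_i [a_i]·[x_i] = 0
in gr_I(M) (that is Σ a_i x_i ∈ Iⁿ⁺¹M), the element Σ_i [a_i] ⊗ [x_i] of (Iⁿ/Iⁿ⁺¹) ⊗ (M/IM) is zero.
Then M is a flat A-module. (The published lemma is stated for any finite decreasing multiplicative
filtration A = J₀ ⊇ J₁ ⊇ … ⊇ J_N₊₁ = 0 of A with M filtered by the submodules JₙM; this row is its
case Jₙ = Iⁿ.) -/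
theorem result (A : Type u) [CommRing A] (I : Ideal A)
    (hI : IsNilpotent I) (M : Type u) [AddCommGroup M] [Module A M]
    (hflat : Module.Flat (A ⧸ I) (M ⧸ (I • (⊤ : Submodule A M))))
    (hinj : ∀ (n k : ℕ) (a : Fin k → ↥((FiltBl.IdealFiltration.adic I).F n))
      (x : Fin k → ↥((Rees.powFilt I M).N 0)),
      (∑ i, (AssocGr.inDeg (FiltBl.IdealFiltration.adic I) n (a i) :
          AssocGr.GrRing (FiltBl.IdealFiltration.adic I)) •
        (AssocGr.inDegM (Rees.powFilt I M) 0 (x i) : AssocGr.GrMod (Rees.powFilt I M))) = 0 →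
      (∑ i, (AssocGr.inDeg (FiltBl.IdealFiltration.adic I) n (a i)) ⊗ₜ[A]
          (Submodule.Quotient.mk (x i : M)) :
        ↥(AssocGr.gr (FiltBl.IdealFiltration.adic I) n) ⊗[A] (M ⧸ (I • (⊤ : Submodule A M)))) = 0) :
    Module.Flat A M := by
  classical
  set 𝓕 := FiltBl.IdealFiltration.adic I with h𝓕
  have hFpow : ∀ k, 𝓕.F k = I ^ k := fun k => rfl
  -- the graded pieces are killed by `I`
  have hkill : ∀ (k : ℕ) (b : A), b ∈ I → ∀ g : ↥(AssocGr.gr 𝓕 k), b • g = 0 := by
    intro k b hb g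
    obtain ⟨a, rfl⟩ := AssocGr.inDeg_surjective 𝓕 k g
    rw [← map_smul, AssocGr.inDeg_eq_zero_iff]
    show b • (a : A) ∈ I ^ (k + 1)
    rw [pow_succ', smul_eq_mul]
    exact Ideal.mul_mem_mul hb a.2
  -- the key injectivity, degree by degree
  have key : ∀ (k : ℕ) (z : ↥(𝓕.F k) ⊗[A] M),
      (𝓕.F k).subtype.rTensor M z = 0 → (AssocGr.inDeg 𝓕 k).rTensor M z = 0 := by
    intro k z hz
    obtain ⟨S, rfl⟩ := TensorProduct.exists_finset z
    -- re-index by `Fin`
    let e := S.equivFin
    let a : Fin S.card → ↥(𝓕.F k) := fun i => (e.symm i).1.1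
    let x : Fin S.card → ↥((Rees.powFilt I M).N 0) := fun i =>
      ⟨(e.symm i).1.2, by
        show (e.symm i).1.2 ∈ I ^ 0 • (⊤ : Submodule A M)
        rw [pow_zero, Ideal.one_eq_top, Submodule.top_smul]; trivial⟩
    have hre : ∀ {N : Type u} [AddCommMonoid N] (f : ↥(𝓕.F k) × M → N),
        S.sum f = ∑ i : Fin S.card, f (e.symm i).1 := by
      intro N _ f
      rw [← Finset.sum_coe_sort S f]
      exact Fintype.sum_equiv e _ _ (fun s => by simp)
    have hzero : ∑ i : Fin S.card, ((a i : A) • ((x i : M))) = 0 := by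
      have h1 := congrArg (TensorProduct.lid A M) hz
      rw [map_zero, map_sum, map_sum] at h1
      rw [hre] at h1
      simpa using h1
    have hprem : (∑ i, (AssocGr.inDeg 𝓕 k (a i) : AssocGr.GrRing 𝓕) •
        (AssocGr.inDegM (Rees.powFilt I M) 0 (x i) : AssocGr.GrMod (Rees.powFilt I M))) = 0 := by
      have h2 : ∀ i, (AssocGr.inDeg 𝓕 k (a i) : AssocGr.GrRing 𝓕) •
          (AssocGr.inDegM (Rees.powFilt I M) 0 (x i) : AssocGr.GrMod (Rees.powFilt I M)) =
          (AssocGr.inDegM (Rees.powFilt I M) (k + 0) ⟨(a i : A) • (x i : M),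
            (Rees.powFilt I M).pow_smul_le k 0
              (Submodule.smul_mem_smul (show (a i : A) ∈ I ^ k from (a i).2) (x i).2)⟩ :
            AssocGr.GrMod (Rees.powFilt I M)) := fun i =>
        AssocGr.inDeg_smul_inDegM (Rees.powFilt I M) k 0 (a i) (x i)
      rw [Finset.sum_congr rfl (fun i _ => h2 i), ← AddSubmonoidClass.coe_finsetSum, ← map_sum,
        ZeroMemClass.coe_eq_zero, AssocGr.inDegM_eq_zero_iff]
      have h3 : ((∑ i, (⟨(a i : A) • (x i : M), (Rees.powFilt I M).pow_smul_le k 0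
          (Submodule.smul_mem_smul (show (a i : A) ∈ I ^ k from (a i).2) (x i).2)⟩ :
          ↥((Rees.powFilt I M).N (k + 0))) : ↥((Rees.powFilt I M).N (k + 0))) : M) =
          ∑ i, (a i : A) • (x i : M) := by
        rw [AddSubmonoidClass.coe_finsetSum]
      rw [h3, hzero]
      exact zero_mem _
    have hconc := hinj k S.card a x hprem
    apply lTensor_mkQ_injective_of_torsion I (↥(AssocGr.gr 𝓕 k)) (hkill k) M
    rw [map_zero, map_sum, map_sum, hre]
    simpa using hconc
  -- descending induction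
  obtain ⟨n, hn⟩ := hI
  have hn' : I ^ n = ⊥ := hn
  have claim : ∀ d k : ℕ, n ≤ k + d → Function.Injective ((𝓕.F k).subtype.rTensor M) := by
    intro d
    induction d with
    | zero =>
      intro k hk
      have hbot : 𝓕.F k = ⊥ := by
        rw [hFpow, eq_bot_iff, ← hn']
        exact Ideal.pow_le_pow_right (by omega)
      haveI : Subsingleton ↥(𝓕.F k) := by rw [hbot]; infer_instance
      haveI : Subsingleton (↥(𝓕.F k) ⊗[A] M) := inferInstance
      exact Function.injective_of_subsingleton _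
    | succ d ih =>
      intro k hk
      have ihk := ih (k + 1) (by omega)
      let ι : ↥(𝓕.F (k + 1)) →ₗ[A] ↥(𝓕.F k) := Submodule.inclusion (𝓕.antitone (Nat.le_succ k))
      have hex : Function.Exact ι (AssocGr.inDeg 𝓕 k) := by
        intro y
        rw [AssocGr.inDeg_eq_zero_iff]
        constructor
        · intro hy
          exact ⟨⟨y.1, hy⟩, rfl⟩
        · rintro ⟨z, rfl⟩
          exact z.2
      have hexT := rTensor_exact M hex (AssocGr.inDeg_surjective 𝓕 k)
      rw [injective_iff_map_eq_zero]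
      intro z hz
      obtain ⟨z₁, rfl⟩ := (hexT z).mp (key k z hz)
      have hcomp : (𝓕.F (k + 1)).subtype = (𝓕.F k).subtype ∘ₗ ι := LinearMap.ext fun _ => rfl
      have h3 : (𝓕.F (k + 1)).subtype.rTensor M z₁ = 0 := by
        rw [hcomp, LinearMap.rTensor_comp, LinearMap.comp_apply]
        exact hz
      rw [(injective_iff_map_eq_zero _).mp ihk z₁ h3, map_zero]
  have h1' := claim n 1 (by omega)
  have hle : I ≤ 𝓕.F 1 := by rw [hFpow, pow_one]
  have hge : 𝓕.F 1 ≤ I := by rw [hFpow, pow_one]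
  have h1 : Function.Injective (I.subtype.rTensor M) := by
    rw [injective_iff_map_eq_zero]
    intro z hz
    have h2 : (𝓕.F 1).subtype.rTensor M ((Submodule.inclusion hle).rTensor M z) = 0 := by
      rw [← LinearMap.comp_apply, ← LinearMap.rTensor_comp]
      have : (𝓕.F 1).subtype ∘ₗ Submodule.inclusion hle = I.subtype := LinearMap.ext fun _ => rfl
      rw [this, hz]
    have h3 := (injective_iff_map_eq_zero _).mp h1' _ h2
    have h4 : (Submodule.inclusion hge) ∘ₗ (Submodule.inclusion hle) = LinearMap.id :=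
      LinearMap.ext fun _ => rfl
    have h5 := congrArg ((Submodule.inclusion hge).rTensor M) h3
    rw [← LinearMap.comp_apply, ← LinearMap.rTensor_comp, h4, LinearMap.rTensor_id,
      LinearMap.id_apply, map_zero] at h5
    exact h5
  -- flatness of the reduction
  haveI : Module.Flat (A ⧸ I) ((A ⧸ I) ⊗[A] M) := by
    haveI := hflat
    exact Module.Flat.of_linearEquiv
      ((TensorProduct.quotTensorEquivQuotSMul M I).extendScalarsOfSurjective
        Ideal.Quotient.mk_surjective)
  exact Groth.Agent.Lib.helper8.LocalFlat.flat_of_isNilpotent I M h1 ⟨n, hn⟩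

end Groth.Agent.S16454
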