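import Groth.Statements.S16456
import Mathlib
import Groth.Agent.Lib.Helper8.GrMapApprox

set_option autoImplicit false
universe u
open AdicGr

namespace Groth.Agent.S16456

theorem mem_pow_smul_top_iff {R : Type u} [CommRing R] (K : Ideal R) (n : ℕ) (r : R) :
    r ∈ (K ^ n • ⊤ : Submodule R R) ↔ r ∈ K ^ n := by
  rw [smul_eq_mul, Ideal.mul_top]

/-- Lifting by successive approximation. -/
theorem lift_mem (A : Type u) [CommRing A] (B : Type u) [CommRing B] (φ : A →+* B) (I : Ideal A)
    (J : Ideal B) (hIJ : ∀ n, ∀ a ∈ I ^ n, φ a ∈ J ^ n) [IsPrecomplete I A] [IsHausdorff J B]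
    (hstep : ∀ n, ∀ b ∈ J ^ n, ∃ a ∈ I ^ n, b - φ a ∈ J ^ (n + 1))
    (n : ℕ) (b : B) (hb : b ∈ J ^ n) : ∃ a ∈ I ^ n, φ a = b := by
  classical
  choose step hs1 hs2 using hstep
  let Y : (j : ℕ) → {z : B // z ∈ J ^ (n + j)} := fun j =>
    Nat.rec (motive := fun j => {z : B // z ∈ J ^ (n + j)}) ⟨b, hb⟩
      (fun j z => ⟨z.1 - φ (step (n + j) z.1 z.2), hs2 (n + j) z.1 z.2⟩) j
  let c : ℕ → A := fun j => step (n + j) (Y j).1 (Y j).2
  have hc : ∀ j, c j ∈ I ^ (n + j) := fun j => hs1 (n + j) (Y j).1 (Y j).2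
  have hYs : ∀ j, (Y (j + 1)).1 = (Y j).1 - φ (c j) := fun j => rfl
  let s : ℕ → A := fun j => ∑ m ∈ Finset.range j, c m
  have hYn : ∀ j, (Y j).1 = b - φ (s j) := by
    intro j
    induction j with
    | zero => simp [s, Y]
    | succ j ih =>
      rw [hYs, ih]
      simp only [s]
      rw [Finset.sum_range_succ, map_add]
      ring
  have hsn : ∀ j, s j ∈ I ^ n := fun j =>
    Ideal.sum_mem _ fun m _ => Ideal.pow_le_pow_right (Nat.le_add_right n m) (hc m)
  obtain ⟨L, hL⟩ := IsPrecomplete.prec (I := I) (M := A) inferInstance (f := s) (by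
    intro m j hmj
    rw [SModEq.sub_mem, mem_pow_smul_top_iff]
    have : s m - s j = - ∑ l ∈ Finset.Ico m j, c l := by
      rw [Finset.sum_Ico_eq_sub _ hmj]
      simp only [s]
      ring
    rw [this]
    refine (Ideal.neg_mem_iff _).mpr (Ideal.sum_mem _ fun l hl => ?_)
    rw [Finset.mem_Ico] at hl
    exact Ideal.pow_le_pow_right (by omega) (hc l))
  have hL' : ∀ j, s j - L ∈ I ^ j := fun j => by
    have := hL j
    rwa [SModEq.sub_mem, mem_pow_smul_top_iff] at this
  refine ⟨L, ?_, ?_⟩
  · have : L = s n - (s n - L) := by ring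
    rw [this]
    exact Ideal.sub_mem _ (hsn n) (hL' n)
  · have h0 : b - φ L = 0 := by
      refine IsHausdorff.haus (I := J) (M := B) inferInstance _ fun j => ?_
      rw [SModEq.sub_mem, sub_zero, mem_pow_smul_top_iff]
      have : b - φ L = (Y j).1 + φ (s j - L) := by
        rw [hYn j, map_sub]; ring
      rw [this]
      exact Ideal.add_mem _ (Ideal.pow_le_pow_right (Nat.le_add_left j n) (Y j).2)
        (hIJ j _ (hL' j))
    exact (sub_eq_zero.mp h0).symm

/-- Let φ : A → B be a ring homomorphism, I ⊆ A and J ⊆ B ideals with φ(I)B ⊆ J, so that φ is a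
homomorphism of filtered rings for the I-adic and J-adic filtrations. Assume that A is I-adically
complete in the sense that every I-adically Cauchy sequence has a limit, that B is J-adically
separated, and that the induced homomorphism of associated graded rings ⊕ₙ Iⁿ/Iⁿ⁺¹ → ⊕ₙ Jⁿ/Jⁿ⁺¹ is
surjective. Then φ is surjective, φ is strict (Jⁿ = φ(Iⁿ)B for all n, that is J = φ(I)B), and B is
J-adically separated and complete. (The published statement is for a homomorphism of filtered
modules over a filtered ring, with arbitrary compatible filtrations; this row is its case of a ring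
homomorphism with adic filtrations.) -/
theorem result (A : Type u) [CommRing A] (B : Type u)
    [CommRing B] (φ : A →+* B) (I : Ideal A) (J : Ideal B) (hIJ : I.map φ ≤ J)
    [IsPrecomplete I A] [IsHausdorff J B]
    (h : Function.Surjective (AssocGr.map (AssocGr.IsFiltHom.adic hIJ))) :
    Function.Surjective φ ∧ I.map φ = J ∧ IsAdicComplete J B := by
  classical
  have hfilt := AssocGr.IsFiltHom.adic hIJ
  have hIJn : ∀ n, ∀ a ∈ I ^ n, φ a ∈ J ^ n := fun n a ha => hfilt n ha
  have hstep : ∀ n, ∀ b ∈ J ^ n, ∃ a ∈ I ^ n, b - φ a ∈ J ^ (n + 1) := fun n b hb =>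
    Groth.Agent.Lib.Helper8.GrMapApprox.exists_of_map_surjective hfilt h n b hb
  have hlift := lift_mem A B φ I J hIJn hstep
  have hsurj : Function.Surjective φ := fun b => by
    obtain ⟨a, _, ha⟩ := hlift 0 b (by rw [pow_zero, Ideal.one_eq_top]; trivial)
    exact ⟨a, ha⟩
  refine ⟨hsurj, le_antisymm hIJ ?_, ?_⟩
  · intro b hb
    obtain ⟨a, ha, rfl⟩ := hlift 1 b (by rwa [pow_one])
    rw [pow_one] at ha
    exact Ideal.mem_map_of_mem φ ha
  · haveI : IsPrecomplete J B := by
      refine ⟨fun f hf => ?_⟩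
      have hdiff : ∀ n, ∃ δ ∈ I ^ n, φ δ = f (n + 1) - f n := fun n => by
        refine hlift n _ ?_
        have := hf (Nat.le_succ n)
        rw [SModEq.sub_mem, mem_pow_smul_top_iff] at this
        rw [← neg_sub]
        exact (Ideal.neg_mem_iff _).mpr this
      choose δ hδ1 hδ2 using hdiff
      obtain ⟨g0, hg0⟩ := hsurj (f 0)
      let g : ℕ → A := fun n => g0 + ∑ m ∈ Finset.range n, δ m
      have hg : ∀ n, φ (g n) = f n := by
        intro n
        induction n with
        | zero => simp [g, hg0]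
        | succ n ih =>
          have : g (n + 1) = g n + δ n := by
            simp only [g]
            rw [Finset.sum_range_succ, add_assoc]
          rw [this, map_add, ih, hδ2]
          ring
      obtain ⟨L, hL⟩ := IsPrecomplete.prec (I := I) (M := A) inferInstance (f := g) (by
        intro m n hmn
        rw [SModEq.sub_mem, mem_pow_smul_top_iff]
        have : g m - g n = - ∑ l ∈ Finset.Ico m n, δ l := by
          rw [Finset.sum_Ico_eq_sub _ hmn]
          simp only [g]
          ring
        rw [this]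
        refine (Ideal.neg_mem_iff _).mpr (Ideal.sum_mem _ fun l hl => ?_)
        rw [Finset.mem_Ico] at hl
        exact Ideal.pow_le_pow_right hl.1 (hδ1 l))
      refine ⟨φ L, fun n => ?_⟩
      have := hL n
      rw [SModEq.sub_mem, mem_pow_smul_top_iff] at this
      rw [SModEq.sub_mem, mem_pow_smul_top_iff, ← hg n, ← map_sub]
      exact hIJn n _ this
    exact { }

end Groth.Agent.S16456
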