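import Groth.Statements.S16458
import Mathlib
import Groth.Agent.Lib.Helper8.GrApprox

set_option autoImplicit false
universe u
open AdicGr

namespace Groth.Agent.S16458

/-- Let A be a commutative ring and I an ideal such that every I-adically Cauchy sequence in A has a
limit, and let M be an A-module with an I-filtration M = N₀ ⊇ N₁ ⊇ … (I·Nₙ ⊆ Nₙ₊₁) which is
separated, ⋂ₙ Nₙ = 0. If the associated graded module gr(M) = ⊕ₙ Nₙ/Nₙ₊₁ is finitely generated as a
module over the associated graded ring ⊕ₙ Iⁿ/Iⁿ⁺¹, then M is a finitely generated A-module. (The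
published statement allows any complete filtered ring and also concludes that M is complete for its
filtration; this row takes the I-adic filtration on A and states the finiteness.) -/
theorem result (A : Type u) [CommRing A] (I : Ideal A)
    [IsPrecomplete I A] (M : Type u) [AddCommGroup M] [Module A M] (F : I.Filtration M)
    (h0 : F.N 0 = ⊤) (hsep : ⨅ n, F.N n = ⊥)
    [Module.Finite (AssocGr.GrRing (FiltBl.IdealFiltration.adic I)) (AssocGr.GrMod F)] :
    Module.Finite A M := by
  classical
  have hfg : (Submodule.span (AssocGr.GrRing (FiltBl.IdealFiltration.adic I))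
      (Groth.Agent.Lib.Helper8.GrApprox.homog F '' Set.univ)).FG := by
    rw [Set.image_univ, Groth.Agent.Lib.Helper8.GrApprox.span_homog_eq_top]
    exact Module.Finite.fg_top
  obtain ⟨k, d, x, _, hspan⟩ := Groth.Agent.Lib.Helper8.GrApprox.exists_fin_family F Set.univ hfg
  rw [Set.image_univ, Groth.Agent.Lib.Helper8.GrApprox.span_homog_eq_top] at hspan
  have htop : Submodule.span A (Set.range fun i => ((x i : ↥(F.N (d i))) : M)) = ⊤ := by
    rw [eq_top_iff]
    refine Groth.Agent.Lib.Helper8.GrApprox.approx F h0 hsep d x ⊤ (fun _ => trivial) ?_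
    intro n y _ hy
    exact Groth.Agent.Lib.Helper8.GrApprox.key F d x n ⟨y, hy⟩ (by rw [hspan]; trivial)
  rw [Module.finite_def, ← htop]
  exact Submodule.fg_span (Set.finite_range _)

end Groth.Agent.S16458
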