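import Groth.Statements.S16459
import Mathlib
import Groth.Agent.Lib.Helper8.GrApprox

set_option autoImplicit false
universe u
open AdicGr

namespace Groth.Agent.S16459

open Groth.Agent.Lib.Helper8.GrApprox in
theorem aux (A : Type u) [CommRing A]
    (I : Ideal A) [IsPrecomplete I A] (M : Type u) [AddCommGroup M] [Module A M] (F : I.Filtration M)
    (h0 : F.N 0 = ⊤) (hsep : ⨅ n, F.N n = ⊥)
    [IsNoetherian (AssocGr.GrRing (FiltBl.IdealFiltration.adic I)) (AssocGr.GrMod F)]
    (M' : Submodule A M) : M'.FG ∧ ⨅ n, M' ⊔ F.N n = M' := by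
  classical
  let S : Set (Σ n : ℕ, ↥(F.N n)) := {t | ((t.2 : ↥(F.N t.1)) : M) ∈ M'}
  have hfg : (Submodule.span (AssocGr.GrRing (FiltBl.IdealFiltration.adic I)) (homog F '' S)).FG :=
    IsNoetherian.noetherian _
  obtain ⟨k, d, x, hxS, hspan⟩ := exists_fin_family F S hfg
  have hxM' : ∀ i, ((x i : ↥(F.N (d i))) : M) ∈ M' := fun i => hxS i
  have hle : M' ≤ ⨅ n, M' ⊔ F.N n := le_iInf fun n => le_sup_left
  have hP : (⨅ n, M' ⊔ F.N n) ≤ Submodule.span A (Set.range fun i => ((x i : ↥(F.N (d i))) : M)) := by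
    refine approx F h0 hsep d x _ (fun i => hle (hxM' i)) ?_
    intro n y hyP hyn
    rw [Submodule.mem_iInf] at hyP
    obtain ⟨m, hm, z, hz, hmz⟩ := Submodule.mem_sup.mp (hyP (n + 1))
    have hmn : m ∈ F.N n := by
      have : m = y - z := by rw [← hmz]; abel
      rw [this]
      exact (F.N n).sub_mem hyn (F.antitone (Nat.le_succ n) hz)
    have hmem : (AssocGr.inDegM F n ⟨m, hmn⟩ : AssocGr.GrMod F) ∈
        Submodule.span (AssocGr.GrRing (FiltBl.IdealFiltration.adic I))
          (Set.range fun i => (AssocGr.inDegM F (d i) (x i) : AssocGr.GrMod F)) := by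
      rw [hspan]
      exact Submodule.subset_span ⟨⟨n, ⟨m, hmn⟩⟩, hm, rfl⟩
    obtain ⟨a, ha1, ha2⟩ := key F d x n ⟨m, hmn⟩ hmem
    refine ⟨a, ha1, ?_⟩
    have : y - ∑ i, a i • ((x i : ↥(F.N (d i))) : M) =
        (m - ∑ i, a i • ((x i : ↥(F.N (d i))) : M)) + z := by
      rw [← hmz]; abel
    rw [this]
    exact (F.N (n + 1)).add_mem ha2 hz
  have hspanle : Submodule.span A (Set.range fun i => ((x i : ↥(F.N (d i))) : M)) ≤ M' := by
    rw [Submodule.span_le]
    rintro _ ⟨i, rfl⟩
    exact hxM' i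
  have h1 : ⨅ n, M' ⊔ F.N n = M' := le_antisymm (hP.trans hspanle) hle
  have h2 : M' = Submodule.span A (Set.range fun i => ((x i : ↥(F.N (d i))) : M)) :=
    le_antisymm (hle.trans hP) hspanle
  refine ⟨?_, h1⟩
  rw [h2]
  exact Submodule.fg_span (Set.finite_range _)

/-- Let A be a commutative ring and I an ideal such that every I-adically Cauchy sequence in A has a
limit, and let M be an A-module with an I-filtration M = N₀ ⊇ N₁ ⊇ … (I·Nₙ ⊆ Nₙ₊₁) which is
separated, ⋂ₙ Nₙ = 0. If the associated graded module gr(M) = ⊕ₙ Nₙ/Nₙ₊₁ is a Noetherian module over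
the associated graded ring ⊕ₙ Iⁿ/Iⁿ⁺¹, then M is a Noetherian A-module and every submodule M' of M
is closed for the topology defined by the filtration, that is ⋂ₙ (M' + Nₙ) = M'. (The published
statement allows any complete filtered ring; this row takes the I-adic filtration on A.) -/
theorem result (A : Type u) [CommRing A]
    (I : Ideal A) [IsPrecomplete I A] (M : Type u) [AddCommGroup M] [Module A M] (F : I.Filtration M)
    (h0 : F.N 0 = ⊤) (hsep : ⨅ n, F.N n = ⊥)
    [IsNoetherian (AssocGr.GrRing (FiltBl.IdealFiltration.adic I)) (AssocGr.GrMod F)] :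
    IsNoetherian A M ∧ ∀ M' : Submodule A M, ⨅ n, M' ⊔ F.N n = M' := by
  refine ⟨?_, fun M' => (aux A I M F h0 hsep M').2⟩
  rw [isNoetherian_def]
  exact fun M' => (aux A I M F h0 hsep M').1

end Groth.Agent.S16459
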