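import Groth.Statements.S16460


set_option autoImplicit false
universe u
open AdicGr

namespace Groth.Agent.S16460

open AssocGr in
/-- a nonzero element has an order: `a ∈ F n`, `a ∉ F (n+1)`. -/
theorem exists_order {A : Type u} [CommRing A] (𝓕 : FiltBl.IdealFiltration A)
    (hsep : ⨅ n, 𝓕.F n = ⊥) (a : A) (ha : a ≠ 0) : ∃ n, a ∈ 𝓕.F n ∧ a ∉ 𝓕.F (n + 1) := by
  classical
  by_contra hcon
  push Not at hcon
  have hall : ∀ n, a ∈ 𝓕.F n := by
    intro n
    induction n with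
    | zero => rw [𝓕.zero_eq]; trivial
    | succ n ih => exact hcon n ih
  apply ha
  have : a ∈ ⨅ n, 𝓕.F n := by
    rw [Ideal.mem_iInf]; exact hall
  rw [hsep] at this
  exact this


/-- Let A be a commutative ring with a decreasing filtration by ideals A = F₀ ⊇ F₁ ⊇ F₂ ⊇ … satisfying
F_m·F_n ⊆ F_{m+n}, and assume the filtration is separated, ⋂ₙ Fₙ = 0. If the associated graded ring
⊕ₙ Fₙ/Fₙ₊₁ is an integral domain, then A is an integral domain. -/
theorem result (A : Type u) [CommRing A]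
    (𝓕 : FiltBl.IdealFiltration A) (hsep : ⨅ n, 𝓕.F n = ⊥) [IsDomain (AssocGr.GrRing 𝓕)] :
    IsDomain A := by
  have hnt : Nontrivial A := by
    by_contra hcon
    rw [not_nontrivial_iff_subsingleton] at hcon
    have h01 : (0 : AssocGr.GrRing 𝓕) = 1 := by
      have : (0 : A) = 1 := Subsingleton.elim _ _
      have h2 := congrArg (algebraMap A (AssocGr.GrRing 𝓕)) this
      rwa [map_zero, map_one] at h2
    exact zero_ne_one h01
  have hnzd : NoZeroDivisors A := by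
    refine ⟨fun {a b} hab => ?_⟩
    by_contra hcon
    push Not at hcon
    obtain ⟨ha, hb⟩ := hcon
    obtain ⟨m, ham, ham'⟩ := exists_order 𝓕 hsep a ha
    obtain ⟨n, hbn, hbn'⟩ := exists_order 𝓕 hsep b hb
    have h1 : AssocGr.inDeg 𝓕 m ⟨a, ham⟩ ≠ 0 := by
      intro h0
      exact ham' ((AssocGr.inDeg_eq_zero_iff 𝓕 m ⟨a, ham⟩).1 h0)
    have h2 : AssocGr.inDeg 𝓕 n ⟨b, hbn⟩ ≠ 0 := by
      intro h0
      exact hbn' ((AssocGr.inDeg_eq_zero_iff 𝓕 n ⟨b, hbn⟩).1 h0)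
    have h1' : (AssocGr.inDeg 𝓕 m ⟨a, ham⟩ : AssocGr.GrRing 𝓕) ≠ 0 := by
      intro h0; exact h1 (Subtype.ext h0)
    have h2' : (AssocGr.inDeg 𝓕 n ⟨b, hbn⟩ : AssocGr.GrRing 𝓕) ≠ 0 := by
      intro h0; exact h2 (Subtype.ext h0)
    have hprod := AssocGr.coe_inDeg_mul 𝓕 m n ⟨a, ham⟩ ⟨b, hbn⟩
    have hzero : (AssocGr.inDeg 𝓕 (m + n) ⟨a * b, 𝓕.mul_le m n (Ideal.mul_mem_mul ham hbn)⟩ :
        AssocGr.GrRing 𝓕) = 0 := by
      have : AssocGr.inDeg 𝓕 (m + n) ⟨a * b, 𝓕.mul_le m n (Ideal.mul_mem_mul ham hbn)⟩ = 0 := by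
        rw [AssocGr.inDeg_eq_zero_iff]
        change a * b ∈ _
        rw [hab]; exact Ideal.zero_mem _
      rw [this]; rfl
    rw [hzero] at hprod
    exact (mul_ne_zero h1' h2') hprod
  exact NoZeroDivisors.to_isDomain A

end Groth.Agent.S16460
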