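import Groth.Statements.S16469
import Groth.Agent.Lib.Lead.VBCurve13
-- import your own Groth.Agent.* helpers here

set_option autoImplicit false
set_option backward.isDefEq.respectTransparency false
universe u
open CategoryTheory CategoryTheory.Limits AlgebraicGeometry
open VBCurve

namespace Groth.Agent.S16469

theorem slopes_eq (dE dF dK dI r s rK rI : ℤ) (hr : 0 < r) (hs : 0 < s) (hrK : 0 ≤ rK) (hrI : 0 ≤ rI)
    (hrk : r = rK + rI) (hdeg : dE = dK + dI) (hμ : dE * s = dF * r)
    (hK : 0 < rK → dK * r ≤ dE * rK) (hI : 0 < rI → dI * s ≤ dF * rI)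
    (hK0 : rK = 0 → dK = 0) (hI0 : rI = 0 → dI = 0) :
    dK * r = dE * rK ∧ dI * s = dF * rI := by
  rcases hrK.eq_or_lt with h1 | h1
  · have hk := hK0 h1.symm
    subst hk
    have : rK = 0 := h1.symm
    subst this
    simp only [zero_add] at hrk hdeg
    subst hrk hdeg
    exact ⟨by ring, hμ⟩
  rcases hrI.eq_or_lt with h2 | h2
  · have hi := hI0 h2.symm
    subst hi
    have : rI = 0 := h2.symm
    subst this
    simp only [add_zero] at hrk hdeg
    subst hrk hdeg
    exact ⟨rfl, by ring⟩
  have a := hK h1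
  have b := hI h2
  -- dI * r ≤ dE * rI
  have b' : dI * r ≤ dE * rI := by
    have h3 : dI * s * r ≤ dF * rI * r := mul_le_mul_of_nonneg_right b hr.le
    have h4 : dF * rI * r = dE * rI * s := by
      calc dF * rI * r = (dF * r) * rI := by ring
        _ = (dE * s) * rI := by rw [hμ]
        _ = dE * rI * s := by ring
    rw [h4] at h3
    have h5 : dI * r * s ≤ dE * rI * s := by linarith [mul_right_comm dI s r]
    exact le_of_mul_le_mul_right h5 hs
  have hsum : dK * r + dI * r = dE * rK + dE * rI := by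
    subst hrk hdeg; ring
  have e1 : dK * r = dE * rK := by linarith
  have e2 : dI * r = dE * rI := by linarith
  refine ⟨e1, ?_⟩
  have h6 : dI * s * r = dF * rI * r := by
    calc dI * s * r = (dI * r) * s := by ring
      _ = dE * rI * s := by rw [e2]
      _ = (dE * s) * rI := by ring
      _ = (dF * r) * rI := by rw [hμ]
      _ = dF * rI * r := by ring
  exact mul_right_cancel₀ hr.ne' h6

/-- semistability of the kernel -/
theorem ss_ker (dG dE dK r rK n : ℤ) (hr : 0 < r) (hK : dK * r = dE * rK) (h : dG * r ≤ dE * n) (hrK : 0 ≤ rK) :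
    dG * rK ≤ dK * n := by
  have h1 : dG * rK * r ≤ dK * n * r := by
    calc dG * rK * r = (dG * r) * rK := by ring
      _ ≤ (dE * n) * rK := mul_le_mul_of_nonneg_right h hrK
      _ = (dE * rK) * n := by ring
      _ = (dK * r) * n := by rw [hK]
      _ = dK * n * r := by ring
  exact le_of_mul_le_mul_right h1 hr

/-- slope of the cokernel -/
theorem coker_slope (dF dI dC s rI t : ℤ) (hrk : s = rI + t) (hdeg : dF = dI + dC) (hI : dI * s = dF * rI) :
    dC * s = dF * t := by
  have : dC = dF - dI := by linarith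
  subst this
  have : t = s - rI := by linarith
  subst this
  linarith [mul_sub dF s rI, sub_mul dF dI s]

/-- semistability of the cokernel -/
theorem ss_coker (dG dF dI dC s rI t n : ℤ) (hs : 0 < s) (ht : 0 ≤ t) (hI : dI * s = dF * rI) (hC : dC * s = dF * t)
    (h : (dI + dG) * s ≤ dF * (rI + n)) : dG * t ≤ dC * n := by
  have h0 : dG * s ≤ dF * n := by
    have : (dI + dG) * s = dI * s + dG * s := by ring
    rw [this, hI] at h
    linarith [mul_add dF rI n]
  have h1 : dG * t * s ≤ dC * n * s := by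
    calc dG * t * s = (dG * s) * t := by ring
      _ ≤ (dF * n) * t := mul_le_mul_of_nonneg_right h0 ht
      _ = (dF * t) * n := by ring
      _ = (dC * s) * n := by rw [hC]
      _ = dC * n * s := by ring
  exact le_of_mul_le_mul_right h1 hs


/-- Let X be a smooth proper integral curve (integral, smooth and proper of dimension one) over an
algebraically closed field k, and let E, F be finite locally free O_X-modules of ranks r ≥ 1, s ≥ 1,
both slope-semistable (deg G · rank ≤ deg · rank G on finite locally free submodules G of positive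
rank; degree = χ − rank·χ(O_X)) and of the same slope μ: deg E · s = deg F · r. Then for every
homomorphism f : E → F the kernel and the cokernel of f, taken in the abelian category of
O_X-modules, are finite locally free of some ranks r₀ and s₀, have slope μ when nonzero (deg(ker f)
· r = deg E · r₀ and deg(coker f) · s = deg F · s₀) and are slope-semistable: deg G · r₀ ≤ deg(ker
f) · n for every finite locally free submodule G ⊂ ker f of rank n ≥ 1, and likewise for coker f
with s₀. In other words the semistable bundles of slope μ form an abelian subcategory, and the image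
of f is a sub-bundle of F. -/
theorem result (k : Type u) [Field k] [IsAlgClosed k] (X : Scheme.{u}) [X.Over (Spec (CommRingCat.of k))]
    [IsIntegral X] [IsProper (X ↘ Spec (CommRingCat.of k))] [Smooth (X ↘ Spec (CommRingCat.of k))]
    (hdim : topologicalKrullDim X = 1)
    (r s : ℕ) (hr : 0 < r) (hs : 0 < s) (E F : X.Modules)
    (hE : FlatMod.IsFinLocFreeOfRank r E) (hF : FlatMod.IsFinLocFreeOfRank s F)
    (hEss : ModFun.IsSlopeSemistable k X E r) (hFss : ModFun.IsSlopeSemistable k X F s)
    (hμ : Curv2.deg k X E r * (s : ℤ) = Curv2.deg k X F s * (r : ℤ)) (f : E ⟶ F) :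
    (∃ r₀ : ℕ, FlatMod.IsFinLocFreeOfRank r₀ (kernel f) ∧
        Curv2.deg k X (kernel f) r₀ * (r : ℤ) = Curv2.deg k X E r * (r₀ : ℤ) ∧
        ∀ (G : X.Modules) (n : ℕ) (j : G ⟶ kernel f), Mono j → 0 < n → FlatMod.IsFinLocFreeOfRank n G →
          Curv2.deg k X G n * (r₀ : ℤ) ≤ Curv2.deg k X (kernel f) r₀ * (n : ℤ)) ∧
      (∃ s₀ : ℕ, FlatMod.IsFinLocFreeOfRank s₀ (cokernel f) ∧
        Curv2.deg k X (cokernel f) s₀ * (s : ℤ) = Curv2.deg k X F s * (s₀ : ℤ) ∧
        ∀ (G : X.Modules) (n : ℕ) (j : G ⟶ cokernel f), Mono j → 0 < n → FlatMod.IsFinLocFreeOfRank n G →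
          Curv2.deg k X G n * (s₀ : ℤ) ≤ Curv2.deg k X (cokernel f) s₀ * (n : ℤ)) := by
  have hP := Groth.Agent.Lib.Lead.VBCurve.pidStalks_of_smooth k X hdim.le
  have hd := hdim.le
  haveI := Groth.Agent.Lib.Lead.CurveEuler.isNoetherian k X
  have hr0 : (0 : ℤ) < (r : ℤ) := by exact_mod_cast hr
  have hs0 : (0 : ℤ) < (s : ℤ) := by exact_mod_cast hs
  obtain ⟨rK, rI, hK, hI, hrr, hdeg, -, -, hdK0⟩ :=
    Groth.Agent.Lib.Lead.VBCurve.kernel_image_data k X hP hE hF f
  have hI0 : rI = 0 → Curv2.deg k X (Abelian.image f) rI = 0 := fun h => by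
    subst h
    exact Groth.Agent.Lib.Lead.VBCurve.deg_zero_of_isZero k X
      (Groth.Agent.Lib.Lead.VBCurve.isZero_of_isFinLocFreeOfRank_zero hI)
  have hKss : 0 < rK → Curv2.deg k X (kernel f) rK * (r : ℤ) ≤ Curv2.deg k X E r * (rK : ℤ) :=
    fun h => hEss (kernel f) rK (kernel.ι f) inferInstance h hK
  have hIss : 0 < rI → Curv2.deg k X (Abelian.image f) rI * (s : ℤ) ≤ Curv2.deg k X F s * (rI : ℤ) :=
    fun h => hFss (Abelian.image f) rI (Abelian.image.ι f) inferInstance h hI
  have hrr' : (r : ℤ) = (rK : ℤ) + (rI : ℤ) := by exact_mod_cast hrr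
  obtain ⟨eK, eI⟩ := slopes_eq (Curv2.deg k X E r) (Curv2.deg k X F s) (Curv2.deg k X (kernel f) rK)
    (Curv2.deg k X (Abelian.image f) rI) r s rK rI hr0 hs0 (Int.natCast_nonneg _) (Int.natCast_nonneg _)
    hrr' hdeg hμ (fun h => hKss (by exact_mod_cast h)) (fun h => hIss (by exact_mod_cast h))
    (fun h => hdK0 (by exact_mod_cast h)) (fun h => hI0 (by exact_mod_cast h))
  refine ⟨⟨rK, hK, eK, fun G n j hj hn hG => ?_⟩, ?_⟩
  · haveI := hj
    have h := hEss G n (j ≫ kernel.ι f) inferInstance hn hG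
    exact ss_ker _ _ _ _ _ _ hr0 eK h (Int.natCast_nonneg _)
  · let S : ShortComplex X.Modules :=
      ShortComplex.mk (Abelian.image.ι f) (cokernel.π f) (kernel.condition (cokernel.π f))
    have hS : S.ShortExact :=
      { exact := ShortComplex.exact_kernel (cokernel.π f)
        mono_f := inferInstanceAs (Mono (kernel.ι (cokernel.π f)))
        epi_g := inferInstanceAs (Epi (cokernel.π f)) }
    have hmax : ∀ (G' : X.Modules) (ι' : G' ⟶ S.X₂), Mono ι' → FlatMod.IsFinLocFreeOfRank rI G' →
        Curv2.deg k X G' rI ≤ Curv2.deg k X S.X₁ rI := by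
      intro G' ι' hm hG'
      rcases Nat.eq_zero_or_pos rI with h0 | hpos
      · subst h0
        rw [Groth.Agent.Lib.Lead.VBCurve.deg_zero_of_isZero k X
          (Groth.Agent.Lib.Lead.VBCurve.isZero_of_isFinLocFreeOfRank_zero hG')]
        exact (Groth.Agent.Lib.Lead.VBCurve.deg_zero_of_isZero k X
          (Groth.Agent.Lib.Lead.VBCurve.isZero_of_isFinLocFreeOfRank_zero hI)).ge
      · have h1 := hFss G' rI ι' hm hpos hG'
        rw [← eI] at h1
        exact le_of_mul_le_mul_right h1 hs0
    obtain ⟨t, hrk, ht, hdegC⟩ :=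
      Groth.Agent.Lib.Lead.VBCurve.quotient_data_of_maxDeg k X hP hd S hS hI hF hmax
    have hrk' : (s : ℤ) = (rI : ℤ) + (t : ℤ) := by exact_mod_cast hrk
    have eC : Curv2.deg k X (cokernel f) t * (s : ℤ) = Curv2.deg k X F s * (t : ℤ) :=
      coker_slope _ _ _ _ _ _ hrk' hdegC eI
    refine ⟨t, ht, eC, fun G n j hj hn hG => ?_⟩
    haveI := hj
    obtain ⟨P, a, f', g', ha, -, -, -, hPr, hPd⟩ := Groth.Agent.Lib.Lead.VBCurve.preimage_data k X hP S hS
      (Groth.Agent.Lib.Lead.RankAdd.isCoh_of_isFinLocFreeOfRank ht).1 hI hF hG j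
    have h := hFss P (rI + n) a ha (by omega) hPr
    rw [hPd] at h
    push_cast at h
    exact ss_coker _ _ _ _ _ _ _ _ hs0 (Int.natCast_nonneg _) eI eC h

end Groth.Agent.S16469
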