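import Groth.Statements.S16478
import Mathlib
import Groth.Agent.Lib.Helper11.GaChar
import Groth.Agent.Lib.Helper11.GaChar2
import Groth.Agent.S13374

set_option autoImplicit false
universe u
open GaDual

namespace Groth.Agent.S16478

open Groth.Agent.Lib.helper11.GaChar Groth.Agent.Lib.helper11.GaChar2
open scoped TensorProduct

section aux
variable (p : ℕ) [hp : Fact p.Prime] (A : Type u) [CommRing A] [CharP A p] (n : ℕ)

/-- the truncation ideal -/
noncomputable abbrev II : Ideal (MvPolynomial (Fin 2) A) :=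
  Ideal.span {(MvPolynomial.X 0 ^ p ^ n : MvPolynomial (Fin 2) A), MvPolynomial.X 1 ^ p ^ n}

/-- the comparison map `A[x]/(x^N) ⊗ A[x]/(x^N) → A[X₀,X₁]/(X₀^N, X₁^N)` -/
noncomputable def Psi : AlphaPn.A p n A ⊗[A] AlphaPn.A p n A →ₐ[A] (MvPolynomial (Fin 2) A ⧸ II p A n) :=
  Algebra.TensorProduct.productMap
    (AlphaPn.lift p n A (Ideal.Quotient.mk (II p A n) (MvPolynomial.X 0)) (by
      rw [← map_pow]
      exact Ideal.Quotient.eq_zero_iff_mem.2 (Ideal.subset_span (Or.inl rfl))))
    (AlphaPn.lift p n A (Ideal.Quotient.mk (II p A n) (MvPolynomial.X 1)) (by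
      rw [← map_pow]
      exact Ideal.Quotient.eq_zero_iff_mem.2 (Ideal.subset_span (Or.inr rfl))))

lemma lift_mk {B : Type u} [CommRing B] [Algebra A B] (b : B) (hb : b ^ (p ^ n) = 0) (f : Polynomial A) :
    AlphaPn.lift p n A b hb (AlphaPn.mk p n A f) = Polynomial.aeval b f := by
  rw [← AlphaPn.aeval_x, ← Polynomial.aeval_algHom_apply, AlphaPn.lift_x]

lemma aeval_mkI (f : Polynomial A) (P : MvPolynomial (Fin 2) A) :
    Polynomial.aeval (Ideal.Quotient.mk (II p A n) P) f =
      Ideal.Quotient.mk (II p A n) (Polynomial.aeval P f) := by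
  have := Polynomial.aeval_algHom_apply (Ideal.Quotient.mkₐ A (II p A n)) P f
  simpa using this

end aux


/-- Let A be a commutative ring of prime characteristic p and n ≥ 1, and let φ be the comorphism of the
closed immersion α_{p^n} → G_a over A: the bialgebra map from the Hopf algebra of the additive group
(generator t primitive) to A[x]/(x^(p^n)) (x primitive) sending t to x. Then the restriction map on
characters, from those of the additive group over A to those of α_{p^n} over A, is surjective: every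
group-like element of A[x]/(x^(p^n)) is the image under φ of a group-like element of the Hopf
algebra of the additive group. -/
theorem result (p : ℕ) [Fact p.Prime] (A : Type u) [CommRing A] [CharP A p]
    (n : ℕ) (hn : 1 ≤ n) (φ : SekSuwa.A A 0 →ₐc[A] AlphaPn.A p n A) (hφ : φ SekSuwa.A.t = AlphaPn.x p n A)
    (u : AlphaPn.A p n A) (hu : IsGroupLikeElem A u) :
    ∃ g : SekSuwa.A A 0, IsGroupLikeElem A g ∧ φ g = u := by
  classical
  have : Nontrivial A := CharP.nontrivial_of_char_ne_one (R := A) (v := p) (Fact.out : p.Prime).one_lt.ne'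
  -- a polynomial representative of small degree
  obtain ⟨f₀, hf₀⟩ := AlphaPn.mk_surjective p n A u
  have hmonic : (Polynomial.X ^ (p ^ n) : Polynomial A).Monic := Polynomial.monic_X_pow _
  set f : Polynomial A := f₀ %ₘ (Polynomial.X ^ (p ^ n)) with hf
  have hfu : AlphaPn.mk p n A f = u := by
    rw [← hf₀]
    have h1 := Polynomial.modByMonic_add_div f₀ (q := (Polynomial.X ^ (p ^ n) : Polynomial A))
    conv_rhs => rw [← h1]
    rw [map_add, map_mul, map_pow, AlphaPn.mk_X, AlphaPn.x_pow, zero_mul, add_zero]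
  have hdeg : f.natDegree < p ^ n := by
    have := Polynomial.natDegree_modByMonic_lt f₀ hmonic (by
      intro h
      have := congrArg Polynomial.natDegree h
      rw [Polynomial.natDegree_X_pow, Polynomial.natDegree_one] at this
      exact absurd this (pow_ne_zero _ (Fact.out : p.Prime).ne_zero))
    rwa [Polynomial.natDegree_X_pow] at this
  -- counit
  have h0 : f.eval 0 = 1 := by
    have h1 := hu.counit_eq_one
    rw [← hfu] at h1
    change AlphaPn.counitAlg p n A (AlphaPn.mk p n A f) = 1 at h1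
    rw [AlphaPn.counitAlg, lift_mk] at h1
    rwa [Polynomial.coe_aeval_eq_eval] at h1
  -- comultiplication
  have hmul : Ideal.Quotient.mk (II p A n)
        (Polynomial.aeval (MvPolynomial.X 0 + MvPolynomial.X 1 : MvPolynomial (Fin 2) A) f) =
      Ideal.Quotient.mk (II p A n)
        (Polynomial.aeval (MvPolynomial.X 0 : MvPolynomial (Fin 2) A) f *
          Polynomial.aeval (MvPolynomial.X 1 : MvPolynomial (Fin 2) A) f) := by
    have h1 := congrArg (Psi p A n) hu.comul_eq_tmul_self
    rw [← hfu] at h1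
    change Psi p A n (AlphaPn.comulAlg p n A (AlphaPn.mk p n A f)) = _ at h1
    rw [Psi, Algebra.TensorProduct.productMap_apply_tmul, lift_mk, lift_mk, AlphaPn.comulAlg, lift_mk,
      ← Polynomial.aeval_algHom_apply, map_add, Algebra.TensorProduct.productMap_apply_tmul,
      Algebra.TensorProduct.productMap_apply_tmul, map_one, map_one, mul_one, one_mul,
      AlphaPn.lift_x, AlphaPn.lift_x, ← map_add, aeval_mkI, aeval_mkI, aeval_mkI, ← map_mul] at h1
    exact h1
  obtain ⟨a, ha, hprod⟩ := Groth.Agent.S13374.result p A n f hdeg h0 hmul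
  have hchar := (prod_E_char a ha n).2
  change Polynomial.aeval (MvPolynomial.X 0 + MvPolynomial.X 1 : MvPolynomial (Fin 2) A) _ =
    Polynomial.aeval (MvPolynomial.X 0 : MvPolynomial (Fin 2) A) _ *
    Polynomial.aeval (MvPolynomial.X 1 : MvPolynomial (Fin 2) A) _ at hchar
  have hprod' : f = ∏ i ∈ Finset.range n, E p (a i) i := hprod
  rw [← hprod'] at hchar
  refine ⟨Polynomial.aeval (SekSuwa.A.t : SekSuwa.A A 0) f, ⟨?_, ?_⟩, ?_⟩
  · change Bialgebra.counitAlgHom A (SekSuwa.A A 0) (Polynomial.aeval SekSuwa.A.t f) = 1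
    rw [← Polynomial.aeval_algHom_apply]
    change Polynomial.aeval (CoalgebraStruct.counit (R := A) (SekSuwa.A.t : SekSuwa.A A 0)) f = 1
    rw [SekSuwa.A.counit_t, Polynomial.coe_aeval_eq_eval, h0]
  · change Bialgebra.comulAlgHom A (SekSuwa.A A 0) (Polynomial.aeval SekSuwa.A.t f) = _
    rw [← Polynomial.aeval_algHom_apply]
    change Polynomial.aeval (CoalgebraStruct.comul (R := A) (SekSuwa.A.t : SekSuwa.A A 0)) f = _
    rw [SekSuwa.A.comul_t, zero_smul, add_zero]
    have h1 := congrArg (MvPolynomial.aeval (R := A)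
      ![(SekSuwa.A.t : SekSuwa.A A 0) ⊗ₜ[A] (1 : SekSuwa.A A 0),
        (1 : SekSuwa.A A 0) ⊗ₜ[A] (SekSuwa.A.t : SekSuwa.A A 0)]) hchar
    rw [map_mul, ← Polynomial.aeval_algHom_apply, ← Polynomial.aeval_algHom_apply,
      ← Polynomial.aeval_algHom_apply, map_add, MvPolynomial.aeval_X, MvPolynomial.aeval_X] at h1
    simp only [Matrix.cons_val_zero, Matrix.cons_val_one] at h1
    rw [h1]
    have h2 : Polynomial.aeval ((SekSuwa.A.t : SekSuwa.A A 0) ⊗ₜ[A] (1 : SekSuwa.A A 0)) f =
        (Polynomial.aeval (SekSuwa.A.t : SekSuwa.A A 0) f) ⊗ₜ[A] (1 : SekSuwa.A A 0) := by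
      have := Polynomial.aeval_algHom_apply
        (Algebra.TensorProduct.includeLeft (R := A) (S := A) (A := SekSuwa.A A 0) (B := SekSuwa.A A 0))
        (SekSuwa.A.t : SekSuwa.A A 0) f
      simpa using this
    have h3 : Polynomial.aeval ((1 : SekSuwa.A A 0) ⊗ₜ[A] (SekSuwa.A.t : SekSuwa.A A 0)) f =
        (1 : SekSuwa.A A 0) ⊗ₜ[A] (Polynomial.aeval (SekSuwa.A.t : SekSuwa.A A 0) f) := by
      have := Polynomial.aeval_algHom_apply
        (Algebra.TensorProduct.includeRight (R := A) (A := SekSuwa.A A 0) (B := SekSuwa.A A 0))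
        (SekSuwa.A.t : SekSuwa.A A 0) f
      simpa using this
    rw [h2, h3, Algebra.TensorProduct.tmul_mul_tmul, mul_one, one_mul]
  · rw [← Polynomial.aeval_algHom_apply, hφ, AlphaPn.aeval_x, hfu]

end Groth.Agent.S16478
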