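import Groth.Statements.S16484
import Groth.Agent.Lib.Helper11.LocGen
import Groth.Agent.Lib.Lead.RefHull2
-- import your own Groth.Agent.* helpers here

set_option autoImplicit false
set_option backward.isDefEq.respectTransparency false
universe u
open CategoryTheory AlgebraicGeometry
open RefHull

namespace Groth.Agent.S16484

open RefHull Groth.Agent.Lib.helper11.LocGen Groth.Agent.Lib.helper11.OverGen in
/-- a stalk hom vanishing on the germs of a locally spanning family vanishes -/
theorem stalkHom_eq_zero_of_locSpan {X : Scheme.{u}} (F G : X.Modules) {ι : Type u} (U : X.Opens)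
    (m : ι → F.val.obj (Opposite.op U)) (hm : LocSpan F U m) (y : X) (hy : y ∈ U)
    (f : StalkHom F G y) (h : ∀ i, f (F.presheaf.germ U y hy (m i)) = 0) : f = 0 := by
  refine LinearMap.ext fun v => ?_
  obtain ⟨D₀, hyD₀, s₀, rfl⟩ := TopCat.Presheaf.exists_germ_eq F.presheaf v
  rw [← TopCat.Presheaf.germ_res_apply F.presheaf (homOfLE (inf_le_left : D₀ ⊓ U ≤ D₀)) y ⟨hyD₀, hy⟩ s₀]
  obtain ⟨D', hD', hyD', hs⟩ := hm (D₀ ⊓ U) inf_le_right
    ((F.presheaf.map (homOfLE (inf_le_left : D₀ ⊓ U ≤ D₀)).op).hom s₀) y ⟨hyD₀, hy⟩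
  have key : ∀ z : F.val.obj (Opposite.op D'),
      z ∈ Submodule.span (X.ringCatSheaf.obj.obj (Opposite.op D'))
        (Set.range fun i => resM F (hD'.trans inf_le_right) (m i)) →
      f (F.presheaf.germ D' y hyD' z) = 0 := by
    intro z hz
    induction hz using Submodule.span_induction with
    | mem z hz =>
      obtain ⟨i, rfl⟩ := hz
      have := TopCat.Presheaf.germ_res_apply F.presheaf (homOfLE (hD'.trans inf_le_right)) y hyD' (m i)
      beta_reduce
      rw [resM_apply]
      erw [this]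
      exact h i
    | zero => rw [map_zero, map_zero]
    | add a b _ _ ha hb => rw [map_add, map_add, ha, hb, add_zero]
    | smul a z _ hz =>
      have := Mero.germ_smul F D' y hyD' a z
      erw [this]
      rw [map_smul, hz, smul_zero]
  have := key _ hs
  rw [resM_apply] at this
  erw [TopCat.Presheaf.germ_res_apply F.presheaf (homOfLE hD') y hyD'] at this
  rw [LinearMap.zero_apply]
  exact this


/-- Consider a scheme X together with O_X-modules F and G, where F is assumed to be of finite type, and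
fix a point x ∈ X. The natural O_{X,x}-linear map 𝓗om_{O_X}(F, G)_x → Hom_{O_{X,x}}(F_x, G_x),
taking the germ at x of a section of the sheaf Hom to the map on stalks at x that it induces, is
injective. (In the source the claim is made for modules over any ringed space; here it is formulated
only for schemes, since that is where the sheaf Hom used in the statement is available.) -/
theorem result (X : Scheme.{u}) (F G : X.Modules) (hF : CohB1.IsFT F) (x : X) :
    Function.Injective (RefHull.evalStalk F G x) := by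
  classical
  open RefHull Groth.Agent.Lib.helper11.LocGen Groth.Agent.Lib.helper11.OverGen in
  rw [injective_iff_map_eq_zero]
  intro θ hθ
  obtain ⟨V, hxV, g, rfl⟩ := TopCat.Presheaf.exists_germ_eq (homSh F G).presheaf θ
  rw [evalStalk_germ] at hθ
  haveI : SheafOfModules.IsFiniteType (R := X.ringCatSheaf) F := hF
  obtain ⟨U₀, hxU₀, ι, hfin, m₀, hm₀⟩ := exists_locSpan_of_isFiniteType (M := F) x
  haveI := Fintype.ofFinite ι
  let U : X.Opens := U₀ ⊓ V
  have hUU₀ : U ≤ U₀ := inf_le_left
  have hUV : U ≤ V := inf_le_right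
  have hxU : x ∈ U := ⟨hxU₀, hxV⟩
  let t : ι → F.val.obj (Opposite.op U) := fun i => resM F hUU₀ (m₀ i)
  have ht : LocSpan F U t := hm₀.mono hUU₀
  have h1 : ∀ i, ∃ (W : X.Opens) (_ : x ∈ W) (hWU : W ≤ U), ∀ y : W,
      g.1 ⟨y.1, hUV (hWU y.2)⟩ (F.presheaf.germ U y.1 (hWU y.2) (t i)) = 0 := by
    intro i
    obtain ⟨W, hxW, j, n, hn⟩ := isLocSect_of_mem g U (homOfLE hUV) (t i) ⟨x, hxU⟩
    have h0 : G.presheaf.germ W x hxW n = G.presheaf.germ W x hxW 0 := by
      rw [map_zero, ← hn ⟨x, hxW⟩]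
      change g.1 ⟨x, hxV⟩ _ = 0
      rw [hθ]
      rfl
    obtain ⟨W', hxW', i₁, i₂, heq⟩ := TopCat.Presheaf.germ_eq G.presheaf x hxW hxW _ _ h0
    refine ⟨W', hxW', i₁.le.trans j.le, fun y => ?_⟩
    have h2 := hn ⟨y.1, i₁.le y.2⟩
    have h3 := congrArg (G.presheaf.germ W' y.1 y.2) heq
    rw [TopCat.Presheaf.germ_res_apply, TopCat.Presheaf.germ_res_apply, map_zero] at h3
    exact h2.trans h3
  choose W hxW hWU hW using h1
  let W₀ : X.Opens := U ⊓ ⟨⋂ i, (W i : Set X), isOpen_iInter_of_finite fun i => (W i).2⟩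
  have hxW₀ : x ∈ W₀ := ⟨hxU, Set.mem_iInter.2 hxW⟩
  have hW₀U : W₀ ≤ U := inf_le_left
  have hW₀ : ∀ i, W₀ ≤ W i := fun i y hy => Set.mem_iInter.1 hy.2 i
  rw [← TopCat.Presheaf.germ_res_apply (homSh F G).presheaf (homOfLE (hW₀U.trans hUV)) x hxW₀ g]
  have hz : (homSh F G).presheaf.map (homOfLE (hW₀U.trans hUV)).op g = 0 := by
    refine Subtype.ext (funext fun y => ?_)
    change g.1 ⟨y.1, hUV (hW₀U y.2)⟩ = 0
    exact stalkHom_eq_zero_of_locSpan F G U t ht y.1 (hW₀U y.2) _
      fun i => hW i ⟨y.1, hW₀ i y.2⟩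
  rw [hz, map_zero]

end Groth.Agent.S16484
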