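import Groth.Statements.S16487
import Groth.Agent.Lib.Helper21.PrinPart5
import Groth.Agent.Lib.Lead.RefHull4
-- import your own Groth.Agent.* helpers here

set_option autoImplicit false
set_option backward.isDefEq.respectTransparency false
universe u
open CategoryTheory CategoryTheory.Limits AlgebraicGeometry TopologicalSpace Opposite
open Nrm16

namespace Groth.Agent.S16487

/-- Let f : X ⟶ S be a morphism locally of finite presentation, n a natural number, F a quasi-coherent
O_X-module of finite presentation and G a quasi-coherent O_X-module. Then the sheaf Hom
𝓗om_{O_X}(P^n_{X/S}(F), G) out of the sheaf of principal parts of order n of F with its left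
O_X-module structure — which is the sheaf 𝒟iff^n_{X/S}(F, G) of differential operators of order at
most n from F to G, carrying the O_X-module structure (aD)(t) = a·D(t) — is a quasi-coherent
O_X-module. (The published statement asserts quasi-coherence for either of the two O_X-module
structures of the sheaf of differential operators; this row states it for the structure induced by
the left structure of the principal parts.) -/
theorem result {X S : Scheme.{u}} (f : X ⟶ S) [LocallyOfFinitePresentation f] (n : ℕ)
    (F G : X.Modules) (hF : CohB1.IsFP F) (hG : Coh.IsQCoh G) :
    Coh.IsQCoh (RefHull.homSh (PrinPart.PMod f n F) G) := by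
  haveI : G.IsQuasicoherent := hG
  exact Groth.Agent.Lib.Lead.RH.homSh_isQuasicoherent _ _
    (Groth.Agent.Lib.helper21.PrinPart.isFP_PMod f n F hF)

end Groth.Agent.S16487
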