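import Groth.Statements.S16488
import Groth.Agent.Lib.Lead.RefHull8
import Groth.Agent.Lib.Helper19.Falt2
-- import your own Groth.Agent.* helpers here

set_option autoImplicit false
set_option backward.isDefEq.respectTransparency false
set_option linter.style.haveILetI false
universe u
open CategoryTheory CategoryTheory.Limits AlgebraicGeometry TopologicalSpace
open VBPn

namespace Groth.Agent.S16488


theorem enat_le_two_of_not_three_le (d : ℕ∞) (h : ¬ (3 : ℕ∞) ≤ d) : d ≤ 2 := by
  induction d using ENat.recTopCoe with
  | top => exact absurd le_top h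
  | coe n =>
    have h' : ¬ 3 ≤ n := fun hn => h (by exact_mod_cast hn)
    have : n ≤ 2 := by omega
    exact_mod_cast this
theorem free_of_reflexive_of_regular_dim_le_two (A : Type u) [CommRing A] [IsRegularLocalRing A]
    (N : Type u) [AddCommGroup N] [Module A N] [Module.Finite A N] [Module.IsReflexive A N]
    (hd : ringKrullDim A ≤ 2) : Module.Free A N := by
  by_cases hN : Subsingleton N
  · exact Module.Free.of_subsingleton A N
  · rw [not_subsingleton_iff_nontrivial] at hN
    have hdepthA := Groth.Agent.Lib.helper26.Depth.depth_eq_ringKrullDim_of_isRegularLocalRing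
      (A := A)
    obtain ⟨n, hn⟩ : ∃ n : ℕ, ringKrullDim A = ((n : ℕ∞) : WithBot ℕ∞) := by
      rw [← hdepthA] at hd ⊢
      have h2 : LocCoh.depth A A ≤ 2 := WithBot.coe_le_coe.1
        (show ((LocCoh.depth A A : ℕ∞) : WithBot ℕ∞) ≤ ((2 : ℕ∞) : WithBot ℕ∞) from hd)
      have hne : LocCoh.depth A A ≠ ⊤ := ne_top_of_le_ne_top (by simp) h2
      obtain ⟨n, hn⟩ := ENat.ne_top_iff_exists.mp hne
      exact ⟨n, by rw [← hn]⟩
    have hn2 : n ≤ 2 := by
      rw [hn] at hd
      have : ((n : ℕ∞)) ≤ 2 := WithBot.coe_le_coe.1
        (show (((n : ℕ∞)) : WithBot ℕ∞) ≤ ((2 : ℕ∞) : WithBot ℕ∞) from hd)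
      exact_mod_cast this
    have hdA : LocCoh.depth A A = (n : ℕ∞) := by
      rw [hn] at hdepthA
      exact WithBot.coe_injective hdepthA
    obtain ⟨k, hk, hkd⟩ := Groth.Agent.Lib.helper19.Falt.pd_add_depth A N (n : ℕ∞) hn
    have hS := Groth.Agent.Lib.helper26.Depth.reflexive_depth_Sk (IsLocalRing.maximalIdeal A) N
    have hge : (n : ℕ∞) ≤ LocCoh.depth A N := by
      interval_cases n
      · exact zero_le
      · exact hS.1 (by
          change (1 : ℕ∞) ≤ LocCoh.depth A A
          rw [hdA]; norm_num)
      · exact hS.2.1 (by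
          change (2 : ℕ∞) ≤ LocCoh.depth A A
          rw [hdA]; norm_num)
    have hle : LocCoh.depth A N ≤ (n : ℕ∞) := by
      rw [← hkd]; exact le_add_self
    have heq : LocCoh.depth A N = (n : ℕ∞) := le_antisymm hle hge
    rw [heq] at hkd
    have hk0 : k = 0 := by
      have : ((k + n : ℕ) : ℕ∞) = (n : ℕ∞) := by push_cast; exact hkd
      have := Nat.cast_injective this
      omega
    subst hk0
    have hproj := ((CategoryTheory.projectiveDimension_eq_zero_iff _).1 (by simpa using hk)).1
    haveI : Module.Projective A N := (IsProjective.iff_projective N).2 hproj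
    exact Module.free_of_flat_of_isLocalRing


/-- Let X be an integral locally Noetherian scheme all of whose local rings are regular, and F a
coherent O_X-module which is reflexive, i.e. the canonical map F → F^** is an isomorphism. Then the
singularity set of F (the set of points at which the stalk of F is not free) has codimension at
least 3: for every point x such that F_x is not a free O_{X,x}-module, the local ring O_{X,x} has
dimension at least 3. The published statement is for reflexive coherent analytic sheaves on a
complex manifold; this row is its statement for coherent sheaves on a regular integral locally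
Noetherian scheme, where the same argument (a reflexive sheaf is locally a second syzygy sheaf)
applies. -/
theorem result (X : Scheme.{u}) [IsIntegral X] [IsLocallyNoetherian X]
    (hreg : ∀ x : X, IsRegularLocalRing (X.presheaf.stalk x)) (F : X.Modules) (hF : Coh.IsCoh F)
    (hrefl : RefHull.IsReflexive F) (x : X) (hx : ¬ Module.Free (X.presheaf.stalk x) (F.presheaf.stalk x)) :
    (3 : WithBot ℕ∞) ≤ ringKrullDim (X.presheaf.stalk x) := by
  have hst := (Groth.Agent.Lib.Lead.RH.isReflexive_iff_forall_isReflexiveAt F hF).1 hrefl x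
  by_contra hcon
  apply hx
  haveI := hreg x
  haveI : Module.IsReflexive (X.presheaf.stalk x) (F.presheaf.stalk x) := hst
  haveI := Groth.Agent.Lib.helper16.CohStalk.finite_stalk_of_isCoh F hF x
  refine free_of_reflexive_of_regular_dim_le_two _ _ ?_
  have hdepthA := Groth.Agent.Lib.helper26.Depth.depth_eq_ringKrullDim_of_isRegularLocalRing
    (A := X.presheaf.stalk x)
  rw [← hdepthA] at hcon ⊢
  have h3 : ¬ (3 : ℕ∞) ≤ LocCoh.depth (X.presheaf.stalk x) (X.presheaf.stalk x) := fun h =>
    hcon (show ((3 : ℕ∞) : WithBot ℕ∞) ≤ _ from WithBot.coe_le_coe.2 h)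
  have h2 := enat_le_two_of_not_three_le _ h3
  exact (show _ ≤ ((2 : ℕ∞) : WithBot ℕ∞) from WithBot.coe_le_coe.2 h2)


end Groth.Agent.S16488
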