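import Groth.Statements.S16498
import Mathlib

set_option autoImplicit false
universe u
open Curves

namespace Groth.Agent.S16498

section Aux
open Polynomial Finset

theorem coeff_comp_X_add_C {k : Type u} [CommRing k] (F : k[X]) (α : k) (m B : ℕ)
    (hB : F.natDegree < B) :
    (F.comp (X + C α)).coeff m = ∑ l ∈ range B, (l.choose m : k) * F.coeff l * α ^ (l - m) := by
  conv_lhs => rw [F.as_sum_range' B hB]
  rw [Polynomial.sum_comp, Polynomial.finsetSum_coeff]
  apply Finset.sum_congr rfl
  intro l _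
  rw [monomial_comp, coeff_C_mul, coeff_X_add_C_pow]
  ring

theorem sum_range_mul_block {M : Type*} [AddCommMonoid M] (T : ℕ → M) (n p : ℕ) :
    ∑ l ∈ range (n * p), T l = ∑ I ∈ range n, ∑ r ∈ range p, T (I * p + r) := by
  induction n with
  | zero => simp
  | succ n ih =>
    rw [Nat.succ_mul, Finset.sum_range_add, ih, Finset.sum_range_succ]

theorem lucas_cast {k : Type u} [CommRing k] (p : ℕ) [Fact p.Prime] [CharP k p]
    (I r i s : ℕ) (hr : r < p) (hs : s < p) :
    (((I * p + r).choose (i * p + s) : ℕ) : k) = ((r.choose s : ℕ) : k) * ((I.choose i : ℕ) : k) := by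
  have h := Choose.choose_modEq_choose_mod_mul_choose_div_nat (p := p) (n := I * p + r)
    (k := i * p + s)
  have hp : 0 < p := (Fact.out : p.Prime).pos
  have e1 : (I * p + r) % p = r := by
    rw [Nat.add_comm, Nat.add_mul_mod_self_right, Nat.mod_eq_of_lt hr]
  have e2 : (i * p + s) % p = s := by
    rw [Nat.add_comm, Nat.add_mul_mod_self_right, Nat.mod_eq_of_lt hs]
  have e3 : (I * p + r) / p = I := by
    rw [Nat.add_comm, Nat.add_mul_div_right _ _ hp, Nat.div_eq_of_lt hr, Nat.zero_add]
  have e4 : (i * p + s) / p = i := by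
    rw [Nat.add_comm, Nat.add_mul_div_right _ _ hp, Nat.div_eq_of_lt hs, Nat.zero_add]
  rw [e1, e2, e3, e4] at h
  have := (CharP.natCast_eq_natCast k p).mpr h
  rw [this, Nat.cast_mul]

/-- the coefficient identity -/
theorem cm_coeff {k : Type u} [Field k] (p : ℕ) [Fact p.Prime] [CharP k p]
    (g : ℕ) (hg : g ≤ p) (F : k[X]) (hF : F.natDegree ≤ (g + 1) * (p - 1)) (α : k)
    (i j : ℕ) (_hi : i < g) (hj : j < g) :
    (F.comp (X + C α)).coeff ((i + 1) * p - (j + 1)) =
      ∑ I ∈ range g, ∑ J ∈ range g,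
        ((I.choose i : ℕ) : k) * α ^ ((I - i) * p) * F.coeff ((I + 1) * p - (J + 1)) *
          ((((p - (J + 1)).choose (p - (j + 1)) : ℕ) : k) * α ^ (j - J)) := by
  have hp : 0 < p := (Fact.out : p.Prime).pos
  have hjp : j + 1 ≤ p := by omega
  set s := p - (j + 1) with hs
  have hsp : s < p := by omega
  have hm : (i + 1) * p - (j + 1) = i * p + s := by
    rw [Nat.succ_mul]; omega
  have hB : F.natDegree < (g + 1) * p := by
    have : (g + 1) * (p - 1) < (g + 1) * p := by
      apply Nat.mul_lt_mul_of_pos_left <;> omega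
    omega
  rw [hm, coeff_comp_X_add_C F α _ _ hB, sum_range_mul_block]
  -- reflect the inner sum
  have hrefl : ∀ I, ∑ r ∈ range p, (((I * p + r).choose (i * p + s) : ℕ) : k) * F.coeff (I * p + r) *
        α ^ (I * p + r - (i * p + s)) =
      ∑ J ∈ range p, (((I * p + (p - 1 - J)).choose (i * p + s) : ℕ) : k) *
        F.coeff (I * p + (p - 1 - J)) * α ^ (I * p + (p - 1 - J) - (i * p + s)) := by
    intro I
    exact (Finset.sum_range_reflect (fun r => (((I * p + r).choose (i * p + s) : ℕ) : k) *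
      F.coeff (I * p + r) * α ^ (I * p + r - (i * p + s))) p).symm
  simp_rw [hrefl]
  -- per-term identity
  have hterm : ∀ I J, J < p →
      (((I * p + (p - 1 - J)).choose (i * p + s) : ℕ) : k) *
        F.coeff (I * p + (p - 1 - J)) * α ^ (I * p + (p - 1 - J) - (i * p + s)) =
      ((I.choose i : ℕ) : k) * α ^ ((I - i) * p) * F.coeff ((I + 1) * p - (J + 1)) *
          ((((p - (J + 1)).choose s : ℕ) : k) * α ^ (j - J)) := by
    intro I J hJ
    have hr : p - 1 - J = p - (J + 1) := by omega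
    have hrp : p - (J + 1) < p := by omega
    have hidx : I * p + (p - (J + 1)) = (I + 1) * p - (J + 1) := by
      rw [Nat.succ_mul]; omega
    rw [hr, lucas_cast p I (p - (J + 1)) i s hrp hsp, hidx]
    by_cases hIi : I < i
    · rw [Nat.choose_eq_zero_of_lt hIi]; simp
    by_cases hJj : j < J
    · have : p - (J + 1) < s := by omega
      rw [Nat.choose_eq_zero_of_lt this]; simp
    push Not at hIi hJj
    have hexp : (I + 1) * p - (J + 1) - (i * p + s) = (I - i) * p + (j - J) := by
      have h1 : i * p ≤ I * p := Nat.mul_le_mul_right p hIi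
      have h2 : (I - i) * p = I * p - i * p := Nat.sub_mul I i p
      rw [h2, Nat.succ_mul]
      omega
    rw [hexp, pow_add]
    ring
  have hsum1 : ∀ I, ∑ J ∈ range p, (((I * p + (p - 1 - J)).choose (i * p + s) : ℕ) : k) *
        F.coeff (I * p + (p - 1 - J)) * α ^ (I * p + (p - 1 - J) - (i * p + s)) =
      ∑ J ∈ range g, ((I.choose i : ℕ) : k) * α ^ ((I - i) * p) * F.coeff ((I + 1) * p - (J + 1)) *
          ((((p - (J + 1)).choose s : ℕ) : k) * α ^ (j - J)) := by
    intro I
    rw [Finset.sum_congr rfl (fun J hJ => hterm I J (Finset.mem_range.mp hJ))]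
    symm
    apply Finset.sum_subset
    · intro x hx
      rw [Finset.mem_range] at hx ⊢
      omega
    · intro J hJp hJg
      rw [Finset.mem_range] at hJp hJg
      have : p - (J + 1) < s := by omega
      rw [Nat.choose_eq_zero_of_lt this]; simp
  simp_rw [hsum1]
  rw [Finset.sum_range_succ]
  have hlast : ∑ J ∈ range g, ((g.choose i : ℕ) : k) * α ^ ((g - i) * p) *
      F.coeff ((g + 1) * p - (J + 1)) * ((((p - (J + 1)).choose s : ℕ) : k) * α ^ (j - J)) = 0 := by
    apply Finset.sum_eq_zero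
    intro J hJ
    rw [Finset.mem_range] at hJ
    have hdeg : F.natDegree < (g + 1) * p - (J + 1) := by
      have h1 : (g + 1) * (p - 1) = (g + 1) * p - (g + 1) := by
        rw [Nat.mul_sub, Nat.mul_one]
      have h2 : g + 1 ≤ (g + 1) * p := Nat.le_mul_of_pos_right _ hp
      omega
    rw [coeff_eq_zero_of_natDegree_lt hdeg]; simp
  rw [hlast, add_zero]

end Aux

/-- Let k be a field of odd characteristic p, g ≤ p a natural number, f ∈ k[x] of degree at most 2g + 2,
and α ∈ k. Write f^((p-1)/2) = Σ_l c_l x^l and f(x + α)^((p-1)/2) = Σ_l d_l x^l, and form the g × g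
Cartier–Manin matrices (c_{ip-j}) and (d_{ip-j}), indices i, j = 1, …, g (below written with i, j
ranging over Fin g, so that the entry at (i, j) is the coefficient of x^((i+1)p-(j+1))). Then
(d_{ip-j}) = L · (c_{ip-j}) · U with L_{i,I} = binom(I-1, i-1) α^((I-i)p) and U_{J,j} = binom(p-J,
p-j) α^(j-J); both L and U are unitriangular since a binomial coefficient vanishes when its lower
index exceeds its upper index. (The source works over a perfect field, with f separable of degree 2g
+ 2 and α ∈ k^* a root of f, hypotheses this identity does not use.) -/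
theorem result (k : Type u) [Field k] (p : ℕ) [Fact p.Prime] (hp : p ≠ 2) [CharP k p]
    (g : ℕ) (hg : g ≤ p) (f : Polynomial k) (hf : f.natDegree ≤ 2 * g + 2) (α : k) :
    (Matrix.of fun i j : Fin g =>
        ((f.comp (Polynomial.X + Polynomial.C α)) ^ ((p - 1) / 2)).coeff (((i : ℕ) + 1) * p - ((j : ℕ) + 1))) =
      (Matrix.of fun i I : Fin g => (((I : ℕ).choose (i : ℕ) : ℕ) : k) * α ^ (((I : ℕ) - (i : ℕ)) * p)) *
        (Matrix.of fun i j : Fin g => (f ^ ((p - 1) / 2)).coeff (((i : ℕ) + 1) * p - ((j : ℕ) + 1))) *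
        (Matrix.of fun J j : Fin g => (((p - ((J : ℕ) + 1)).choose (p - ((j : ℕ) + 1)) : ℕ) : k) * α ^ ((j : ℕ) - (J : ℕ))) := by
  have hodd : 2 * ((p - 1) / 2) = p - 1 := by
    rcases (Fact.out : p.Prime).eq_two_or_odd' with h | h
    · exact absurd h hp
    · obtain ⟨m, hm⟩ := h
      omega
  have hF : (f ^ ((p - 1) / 2)).natDegree ≤ (g + 1) * (p - 1) := by
    refine (Polynomial.natDegree_pow_le).trans ?_
    calc (p - 1) / 2 * f.natDegree ≤ (p - 1) / 2 * (2 * g + 2) := Nat.mul_le_mul_left _ hf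
      _ = (g + 1) * (2 * ((p - 1) / 2)) := by ring
      _ = (g + 1) * (p - 1) := by rw [hodd]
  ext i j
  simp only [Matrix.of_apply, Matrix.mul_apply]
  rw [← Polynomial.pow_comp, cm_coeff p g hg (f ^ ((p - 1) / 2)) hF α i j i.2 j.2,
    Finset.sum_range]
  have h1 : ∀ I : Fin g, ∑ J ∈ Finset.range g,
      (((I : ℕ).choose (i : ℕ) : ℕ) : k) * α ^ (((I : ℕ) - (i : ℕ)) * p) *
        (f ^ ((p - 1) / 2)).coeff (((I : ℕ) + 1) * p - (J + 1)) *
          ((((p - (J + 1)).choose (p - ((j : ℕ) + 1)) : ℕ) : k) * α ^ ((j : ℕ) - J)) =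
      ∑ J : Fin g, (((I : ℕ).choose (i : ℕ) : ℕ) : k) * α ^ (((I : ℕ) - (i : ℕ)) * p) *
        (f ^ ((p - 1) / 2)).coeff (((I : ℕ) + 1) * p - ((J : ℕ) + 1)) *
          ((((p - ((J : ℕ) + 1)).choose (p - ((j : ℕ) + 1)) : ℕ) : k) * α ^ ((j : ℕ) - (J : ℕ))) :=
    fun I => Finset.sum_range _
  simp_rw [h1]
  rw [Finset.sum_comm]
  apply Finset.sum_congr rfl
  intro J _
  rw [Finset.sum_mul]

end Groth.Agent.S16498
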