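import Groth.Statements.S16500
import Mathlib

set_option autoImplicit false
universe u
open Curves

namespace Groth.Agent.S16500

theorem reflect_pow' {R : Type*} [CommSemiring R] (f : Polynomial R) (N : ℕ) (hf : f.natDegree ≤ N)
    (e : ℕ) : Polynomial.reflect (e * N) (f ^ e) = (Polynomial.reflect N f) ^ e := by
  induction e with
  | zero => simp
  | succ e ih =>
    have hdeg : (f ^ e).natDegree ≤ e * N :=
      le_trans Polynomial.natDegree_pow_le (Nat.mul_le_mul_left e hf)
    rw [pow_succ, pow_succ, Nat.succ_mul, Polynomial.reflect_mul _ _ hdeg hf, ih]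

/-- Let k be a field of odd characteristic p, g ≤ p a natural number and f ∈ k[x] of degree at most 2g +
2. Let F be f with its coefficients reversed in degrees 0, …, 2g + 2, i.e. F(X) = X^(2g+2) f(1/X)
(Mathlib's reflect (2g+2) f), and write f^((p-1)/2) = Σ_l c_l x^l and F^((p-1)/2) = Σ_l C_l X^l.
Then C_{ip-j} = c_{(g+1-i)p-(g+1-j)} for all i, j = 1, …, g; that is, the g × g Cartier–Manin matrix
of F is that of f with the order of both rows and columns reversed (below the indices run over Fin
g, the entry at (i, j) being the coefficient of degree (i+1)p-(j+1), and reversal is Fin.rev). In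
particular the two matrices have the same determinant. (The source applies this to f with f(0) = 0,
separable of degree 2g + 2 over a perfect field, so that F has odd degree 2g + 1; the identity uses
none of that.) -/
theorem result (k : Type u) [Field k] (p : ℕ) [Fact p.Prime] (hp : p ≠ 2) [CharP k p]
    (g : ℕ) (hg : g ≤ p) (f : Polynomial k) (hf : f.natDegree ≤ 2 * g + 2) :
    (Matrix.of fun i j : Fin g =>
        ((Polynomial.reflect (2 * g + 2) f) ^ ((p - 1) / 2)).coeff (((i : ℕ) + 1) * p - ((j : ℕ) + 1))) =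
      Matrix.of fun i j : Fin g =>
        (f ^ ((p - 1) / 2)).coeff (((Fin.rev i : ℕ) + 1) * p - ((Fin.rev j : ℕ) + 1)) := by
  ext i j
  simp only [Matrix.of_apply]
  have hp2 : p - 1 = 2 * ((p - 1) / 2) := by
    have hodd : p % 2 = 1 := (Fact.out : p.Prime).eq_two_or_odd.resolve_left hp
    omega
  have hpos : 1 ≤ p := (Fact.out : p.Prime).one_lt.le
  rw [← reflect_pow' f (2 * g + 2) hf, Polynomial.coeff_reflect]
  have hi := i.2
  have hj := j.2
  have hmul : (p - 1) / 2 * (2 * g + 2) = (g + 1) * (p - 1) := by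
    have : (p - 1) / 2 * (2 * g + 2) = (g + 1) * (2 * ((p - 1) / 2)) := by ring
    rw [this, ← hp2]
  rw [hmul]
  -- key inequalities
  have h1 : ((i : ℕ) + 1) * p ≤ g * p := Nat.mul_le_mul_right p (by omega)
  have hle : ((i : ℕ) + 1) * p - ((j : ℕ) + 1) ≤ (g + 1) * (p - 1) := by
    have e1 : (g + 1) * (p - 1) = g * p + p - g - 1 := by
      have : (g + 1) * (p - 1) + (g + 1) = (g + 1) * p := by
        rw [← Nat.mul_succ]; congr 1; omega
      have h2 : (g + 1) * p = g * p + p := by ring
      omega
    omega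
  rw [Polynomial.revAt_le hle]
  congr 1
  simp only [Fin.val_rev]
  -- (g+1)(p-1) - ((i+1)p - (j+1)) = (g - (i+1) + 1) p - (g - (j+1) + 1)
  have e1 : (g + 1) * (p - 1) + (g + 1) = (g + 1) * p := by
    rw [← Nat.mul_succ]; congr 1; omega
  have e2 : (g + 1) * p = (g - ((i : ℕ) + 1) + 1) * p + ((i : ℕ) + 1) * p := by
    rw [← Nat.add_mul]; congr 1; omega
  have h3 : (j : ℕ) + 1 ≤ ((i : ℕ) + 1) * p := by nlinarith
  have h4 : g - ((j : ℕ) + 1) + 1 ≤ (g - ((i : ℕ) + 1) + 1) * p := by
    have : g - ((j : ℕ) + 1) + 1 ≤ g := by omega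
    have : g ≤ (g - ((i : ℕ) + 1) + 1) * p := by
      calc g ≤ p := hg
        _ = 1 * p := (one_mul p).symm
        _ ≤ (g - ((i : ℕ) + 1) + 1) * p := Nat.mul_le_mul_right p (by omega)
    omega
  omega

end Groth.Agent.S16500
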