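import Groth.Statements.S16515
import Mathlib.RingTheory.MvPolynomial.Homogeneous
import Mathlib.LinearAlgebra.FiniteDimensional.Lemmas
import Mathlib.LinearAlgebra.FreeModule.Finite.Matrix
import Mathlib.LinearAlgebra.Dimension.Constructions
import Mathlib.Tactic

set_option autoImplicit false
universe u
open RatCurv

namespace Groth.Agent.S16515

open MvPolynomial Module

/-- exponent vectors of degree `d` in two variables correspond to `Fin (d+1)` -/
noncomputable def expEquiv (d : ℕ) : ↥{e : Fin 2 →₀ ℕ | e.degree = d} ≃ Fin (d + 1) where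
  toFun e := ⟨e.1 0, by
    have : e.1.degree = d := e.2
    rw [Finsupp.degree_eq_sum, Fin.sum_univ_two] at this
    omega⟩
  invFun i := ⟨Finsupp.single 0 i.1 + Finsupp.single 1 (d - i.1), by
    change (Finsupp.single 0 i.1 + Finsupp.single 1 (d - i.1) : Fin 2 →₀ ℕ).degree = d
    rw [map_add, Finsupp.degree_single, Finsupp.degree_single]
    have := i.2
    omega⟩
  left_inv e := by
    have : e.1.degree = d := e.2
    rw [Finsupp.degree_eq_sum, Fin.sum_univ_two] at this
    apply Subtype.ext
    ext j
    fin_cases j
    · simp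
    · simp; omega
  right_inv i := by
    apply Fin.ext
    simp

theorem finrank_homogeneous (K : Type u) [Field K] (d : ℕ) :
    finrank K (homogeneousSubmodule (Fin 2) K d) = d + 1 := by
  rw [homogeneousSubmodule_eq_finsupp_supported]
  rw [(AddMonoidAlgebra.supportedEquivFinsupp (R := K) (S := K) {e : Fin 2 →₀ ℕ | e.degree = d}).finrank_eq]
  rw [(Finsupp.domLCongr (M := K) (R := K) (expEquiv d)).finrank_eq]
  simp

/-- If C ⊂ P^n is a rational normal curve and P ⊂ P^n a linear r-plane with (r + 2) k ≥ (r + 1)(n + 1),
then P is contained in a k-secant (k − 1)-plane of C, i.e. in the span of some effective divisor of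
degree k on C. Stated through the identification of the linear forms on P^n with the binary forms of
degree n on C ≅ P^1: the r-plane P is recorded by the space U of degree-n binary forms vanishing on
it (of codimension r + 1), an effective divisor of degree k on C by a nonzero binary form g of
degree k, and P ⊂ span(div g) says that every degree-n form divisible by g lies in U. Here k ≤ n,
and the ground field is arbitrary (the source works over the complex numbers). -/
theorem result (K : Type u) [Field K] (n r k : ℕ)
    (hkn : k ≤ n) (hineq : (r + 1) * (n + 1) ≤ (r + 2) * k)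
    (U : Submodule K (MvPolynomial (Fin 2) K))
    (hU : U ≤ MvPolynomial.homogeneousSubmodule (Fin 2) K n)
    (hcodim : Module.finrank K ↥U + (r + 1) = n + 1) :
    ∃ g ∈ MvPolynomial.homogeneousSubmodule (Fin 2) K k, g ≠ 0 ∧
      ∀ h ∈ MvPolynomial.homogeneousSubmodule (Fin 2) K (n - k), g * h ∈ U := by
  obtain ⟨m, rfl⟩ := Nat.exists_eq_add_of_le hkn
  have hm : k + m - k = m := by omega
  rw [hm]
  set Sk := homogeneousSubmodule (Fin 2) K k with hSk
  set Sm := homogeneousSubmodule (Fin 2) K m with hSm
  set Sn := homogeneousSubmodule (Fin 2) K (k + m) with hSn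
  -- the bilinear multiplication map
  let B : Sk →ₗ[K] Sm →ₗ[K] Sn :=
    LinearMap.mk₂ K (fun g h => ⟨g.1 * h.1, IsHomogeneous.mul g.2 h.2⟩)
      (fun g₁ g₂ h => Subtype.ext (by simp [add_mul]))
      (fun c g h => Subtype.ext (by simp))
      (fun g h₁ h₂ => Subtype.ext (by simp [mul_add]))
      (fun c g h => Subtype.ext (by simp))
  let U' : Submodule K Sn := U.comap Sn.subtype
  have hU' : finrank K U' = finrank K U :=
    (Submodule.comapSubtypeEquivOfLe hU).finrank_eq
  have hSn_fin : finrank K Sn = k + m + 1 := finrank_homogeneous K (k + m)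
  have : Module.Finite K Sn := Module.finite_of_finrank_pos (by omega)
  have : Module.Finite K Sk := Module.finite_of_finrank_pos (by rw [finrank_homogeneous]; omega)
  have : Module.Finite K Sm := Module.finite_of_finrank_pos (by rw [finrank_homogeneous]; omega)
  have hQ : finrank K (Sn ⧸ U') = r + 1 := by
    have := Submodule.finrank_quotient_add_finrank U'
    omega
  let Φ : Sk →ₗ[K] Sm →ₗ[K] (Sn ⧸ U') := B.compr₂ U'.mkQ
  have hlt : finrank K (Sm →ₗ[K] (Sn ⧸ U')) < finrank K Sk := by
    rw [Module.finrank_linearMap, hQ, finrank_homogeneous, finrank_homogeneous]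
    nlinarith
  have hker := LinearMap.ker_ne_bot_of_finrank_lt (f := Φ) hlt
  obtain ⟨g, hg, hg0⟩ := (Submodule.ne_bot_iff _).mp hker
  refine ⟨g.1, g.2, fun h => hg0 (Subtype.ext h), fun h hh => ?_⟩
  have h1 : Φ g ⟨h, hh⟩ = 0 := by
    rw [LinearMap.mem_ker] at hg
    rw [hg]
    rfl
  have h2 : (⟨g.1 * h, IsHomogeneous.mul g.2 hh⟩ : Sn) ∈ U' := by
    rw [← Submodule.Quotient.mk_eq_zero]
    exact h1
  exact h2

end Groth.Agent.S16515
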