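import Groth.Statements.S16516
import Groth.Agent.S16515

set_option autoImplicit false
universe u
open RatCurv
open MvPolynomial Module

namespace Groth.Agent.S16516


theorem ker_finrank_aux {K A B Q : Type*} [Field K] [AddCommGroup A] [Module K A]
    [AddCommGroup B] [Module K B] [AddCommGroup Q] [Module K Q] [FiniteDimensional K A]
    [FiniteDimensional K B] [FiniteDimensional K Q] (Φ : A →ₗ[K] B →ₗ[K] Q)
    (hQ : finrank K Q = 1) (hnd : ∀ e : B, (∀ a, Φ a e = 0) → e = 0) :
    finrank K (LinearMap.ker Φ) + finrank K B = finrank K A := by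
  have hHom : finrank K (B →ₗ[K] Q) = finrank K B := by
    rw [Module.finrank_linearMap, hQ, mul_one]
  have hsurj : LinearMap.range Φ = ⊤ := by
    by_contra hne
    have hlt : finrank K (LinearMap.range Φ) < finrank K B := by
      rw [← hHom]; exact Submodule.finrank_lt hne
    let ev : B →ₗ[K] (LinearMap.range Φ) →ₗ[K] Q := (LinearMap.range Φ).subtype.flip
    have hlt' : finrank K ((LinearMap.range Φ) →ₗ[K] Q) < finrank K B := by
      rw [Module.finrank_linearMap, hQ, mul_one]; exact hlt
    obtain ⟨e, he, he0⟩ :=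
      (Submodule.ne_bot_iff _).mp (LinearMap.ker_ne_bot_of_finrank_lt (f := ev) hlt')
    apply he0
    apply hnd
    intro a
    have h1 : ev e ⟨Φ a, LinearMap.mem_range_self Φ a⟩ = 0 := by
      rw [LinearMap.mem_ker] at he; rw [he]; rfl
    exact h1
  have h1 := LinearMap.finrank_range_add_finrank_ker Φ
  rw [hsurj, finrank_top, hHom] at h1
  omega

/-- A smooth nondegenerate rational quintic curve C ⊂ P^4 has exactly one 3-secant line. Stated for C
given as the image of P^1 under a 5-dimensional linear series V of binary quintic forms which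
separates every length-2 subscheme of P^1 (for every nonzero quadratic form e the forms of V
together with the multiples of e span all quintic forms), so that P^1 → P(V^*) = P^4 is a closed
embedding with nondegenerate image; the linear forms on P^4 are the elements of V, a line L ⊂ P^4 is
recorded by the 3-dimensional space of linear forms vanishing on it, and L ∩ C has length at least 3
exactly when that space consists of the multiples g · K[s,t]_2 of a cubic form g. The conclusion: a
nonzero cubic g with g · K[s,t]_2 ⊆ V exists and is unique up to a scalar. (That such a line meets C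
in length exactly 3, i.e. is not 4-secant, is immediate in this description and is not restated; the
ground field is algebraically closed of characteristic zero in place of the complex numbers.) -/
theorem result (K : Type u) [Field K] [IsAlgClosed K]
    [CharZero K] (V : Submodule K (MvPolynomial (Fin 2) K))
    (hV : V ≤ MvPolynomial.homogeneousSubmodule (Fin 2) K 5) (hdim : Module.finrank K ↥V = 5)
    (hsep : ∀ e ∈ MvPolynomial.homogeneousSubmodule (Fin 2) K 2, e ≠ 0 →
      ∀ F ∈ MvPolynomial.homogeneousSubmodule (Fin 2) K 5, ∃ v ∈ V,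
        ∃ h ∈ MvPolynomial.homogeneousSubmodule (Fin 2) K 3, F = v + e * h) :
    ∃ g ∈ MvPolynomial.homogeneousSubmodule (Fin 2) K 3, g ≠ 0 ∧
      (∀ h ∈ MvPolynomial.homogeneousSubmodule (Fin 2) K 2, g * h ∈ V) ∧
      ∀ g' ∈ MvPolynomial.homogeneousSubmodule (Fin 2) K 3,
        (∀ h ∈ MvPolynomial.homogeneousSubmodule (Fin 2) K 2, g' * h ∈ V) → ∃ c : K, g' = c • g := by
  classical
  have fh := Groth.Agent.S16515.finrank_homogeneous K
  set S3 := homogeneousSubmodule (Fin 2) K 3 with hS3
  set S2 := homogeneousSubmodule (Fin 2) K 2 with hS2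
  set S5 := homogeneousSubmodule (Fin 2) K 5 with hS5
  let B : S3 →ₗ[K] S2 →ₗ[K] S5 :=
    LinearMap.mk₂ K (fun g h => ⟨g.1 * h.1, IsHomogeneous.mul g.2 h.2⟩)
      (fun g₁ g₂ h => Subtype.ext (by simp [add_mul]))
      (fun c g h => Subtype.ext (by simp))
      (fun g h₁ h₂ => Subtype.ext (by simp [mul_add]))
      (fun c g h => Subtype.ext (by simp))
  let V' : Submodule K S5 := V.comap S5.subtype
  have hV' : finrank K V' = 5 := by
    rw [← hdim]; exact (Submodule.comapSubtypeEquivOfLe hV).finrank_eq
  have hS5f : finrank K S5 = 6 := fh 5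
  have hS3f : finrank K S3 = 4 := fh 3
  have hS2f : finrank K S2 = 3 := fh 2
  have : Module.Finite K S5 := Module.finite_of_finrank_pos (by omega)
  have : Module.Finite K S3 := Module.finite_of_finrank_pos (by omega)
  have : Module.Finite K S2 := Module.finite_of_finrank_pos (by omega)
  have hQ : finrank K (S5 ⧸ V') = 1 := by
    have := Submodule.finrank_quotient_add_finrank V'
    omega
  let Φ : S3 →ₗ[K] S2 →ₗ[K] (S5 ⧸ V') := B.compr₂ V'.mkQ
  have hΦ : ∀ (g : S3) (h : S2), Φ g h = 0 ↔ g.1 * h.1 ∈ V := by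
    intro g h
    change V'.mkQ (⟨g.1 * h.1, IsHomogeneous.mul g.2 h.2⟩ : S5) = 0 ↔ _
    rw [Submodule.mkQ_apply, Submodule.Quotient.mk_eq_zero]
    rfl
  have hker : finrank K (LinearMap.ker Φ) = 1 := by
    have h1 := ker_finrank_aux Φ hQ (by
      intro e he
      by_contra he0
      have hmem : ∀ g : S3, g.1 * e.1 ∈ V := fun g => (hΦ g e).mp (he g)
      have htop : V' = ⊤ := by
        rw [eq_top_iff]
        rintro ⟨F, hF⟩ _
        obtain ⟨v, hv, h, hh, rfl⟩ := hsep e.1 e.2 (fun h0 => he0 (Subtype.ext h0)) F hF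
        change v + e.1 * h ∈ V
        refine V.add_mem hv ?_
        rw [mul_comm]
        exact hmem ⟨h, hh⟩
      rw [htop, finrank_top] at hV'
      omega)
    omega
  have hmemker : ∀ g : S3, g ∈ LinearMap.ker Φ ↔ ∀ h ∈ S2, g.1 * h ∈ V := by
    intro g
    rw [LinearMap.mem_ker]
    constructor
    · intro hg h hh
      have : Φ g ⟨h, hh⟩ = 0 := by rw [hg]; rfl
      exact (hΦ g ⟨h, hh⟩).mp this
    · intro hg
      ext h
      exact (hΦ g h).mpr (hg h.1 h.2)
  obtain ⟨g, hg0⟩ : ∃ g : LinearMap.ker Φ, g ≠ 0 := by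
    have : Nontrivial (LinearMap.ker Φ) := Module.nontrivial_of_finrank_pos (R := K) (by omega)
    exact exists_ne 0
  refine ⟨g.1.1, g.1.2, fun h0 => hg0 (Subtype.ext (Subtype.ext h0)),
    (hmemker g.1).mp g.2, fun g' hg' hg'V => ?_⟩
  have hg'ker : (⟨g', hg'⟩ : S3) ∈ LinearMap.ker Φ := (hmemker _).mpr hg'V
  obtain ⟨c, hc⟩ := (finrank_eq_one_iff_of_nonzero' g hg0).mp hker ⟨⟨g', hg'⟩, hg'ker⟩
  refine ⟨c, ?_⟩
  have := congrArg (fun x : LinearMap.ker Φ => x.1.1) hc
  exact this.symm

end Groth.Agent.S16516
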