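import Groth.Statements.S16517
import Mathlib
import Groth.Agent.Lib.Helper19.Link5

set_option autoImplicit false
universe u
open CAlg

namespace Groth.Agent.S16517

-- MARK


/-- Let R be a regular local ring, A a Gorenstein local ring which is a flat R-algebra through a local
homomorphism, I ⊂ A an ideal of codimension zero (the Krull dimension of A/I equals that of A) with
A/I Cohen–Macaulay, and J = (0 : I) the annihilator of I in A (the ideal of the residual subscheme).
Then A/I and A/J are flat over R. -/
theorem result (R A : Type u)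
    [CommRing R] [IsRegularLocalRing R] [CommRing A] [Algebra R A] [LocCoh.IsGorensteinLocalRing A]
    [IsLocalHom (algebraMap R A)] [Module.Flat R A] (I : Ideal A)
    (hI : ringKrullDim (A ⧸ I) = ringKrullDim A) [LocCoh.IsCohenMacaulayLocalRing (A ⧸ I)] :
    Module.Flat R (A ⧸ I) ∧ Module.Flat R (A ⧸ (Submodule.annihilator I)) := by
  classical
  obtain ⟨rs, hrs, hwr⟩ := Groth.Agent.Lib.helper19.Link.exists_regular_generators R
  have hA : RingTheory.Sequence.IsWeaklyRegular A (rs.map (algebraMap R A)) := hwr.of_flat
  have hmem : ∀ a ∈ rs.map (algebraMap R A), a ∈ IsLocalRing.maximalIdeal A := by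
    intro a ha
    obtain ⟨r, hr, rfl⟩ := List.mem_map.mp ha
    have hr' : r ∈ IsLocalRing.maximalIdeal R := by
      rw [← hrs]
      exact Ideal.subset_span hr
    exact IsLocalRing.map_maximalIdeal_le (algebraMap R A) (Ideal.mem_map_of_mem _ hr')
  have h1 := Groth.Agent.Lib.helper19.Link.isWeaklyRegular_quot A I hI _ hmem hA
  have h2 := Groth.Agent.Lib.helper19.Link.isWeaklyRegular_quot_ann A I hI _ hA
  rw [RingTheory.Sequence.isWeaklyRegular_map_algebraMap_iff] at h1 h2
  exact ⟨Groth.Agent.Lib.helper19.Link.flat_of_isWeaklyRegular (A := A) rs hrs h1,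
    Groth.Agent.Lib.helper19.Link.flat_of_isWeaklyRegular (A := A) rs hrs h2⟩

end Groth.Agent.S16517
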