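import Groth.Statements.S16519
import Mathlib.Tactic
import Mathlib.Data.Fintype.BigOperators
import Mathlib.Order.Interval.Finset.Basic
import Mathlib.Data.Int.Interval

set_option autoImplicit false
open CubicSurf

namespace Groth.Agent.S16519

theorem bound_aux (a x y1 y2 y3 y4 y5 : ℤ) (h1 : 3*a - (x+y1+y2+y3+y4+y5) = 3)
    (h2 : a^2 - (x^2+y1^2+y2^2+y3^2+y4^2+y5^2) = 1) : 1 ≤ a ∧ a ≤ 5 ∧ 0 ≤ x ∧ x ≤ 2 := by
  have hs : y1+y2+y3+y4+y5 = 3*a - 3 - x := by linarith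
  have hq : y1^2+y2^2+y3^2+y4^2+y5^2 = a^2 - 1 - x^2 := by linarith
  have cs : (y1+y2+y3+y4+y5)^2 ≤ 5 * (y1^2+y2^2+y3^2+y4^2+y5^2) := by
    nlinarith [sq_nonneg (y1-y2), sq_nonneg (y1-y3), sq_nonneg (y1-y4), sq_nonneg (y1-y5),
      sq_nonneg (y2-y3), sq_nonneg (y2-y4), sq_nonneg (y2-y5), sq_nonneg (y3-y4), sq_nonneg (y3-y5),
      sq_nonneg (y4-y5)]
  rw [hs, hq] at cs
  have key : 3*x^2 - 3*(a-1)*x + (2*a-7)*(a-1) ≤ 0 := by nlinarith
  have hd : (a-1) * (5 - a) ≥ 0 := by nlinarith [sq_nonneg (2*x - (a-1))]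
  have ha1 : 1 ≤ a := by nlinarith
  have ha5 : a ≤ 5 := by nlinarith
  refine ⟨ha1, ha5, ?_, ?_⟩ <;> interval_cases a <;> nlinarith

set_option maxRecDepth 100000 in
theorem card_aux : (((Finset.Icc (1:ℤ) 5) ×ˢ Fintype.piFinset (fun _ : Fin 6 => Finset.Icc (0:ℤ) 2)).filter
    (fun p => 3 * p.1 - (Finset.univ.sum fun i => p.2 i) = 3 ∧
      p.1^2 - (Finset.univ.sum fun i => p.2 i ^2) = 1)).card = 72 := by decide +kernel

/-- On a smooth cubic surface there are exactly 72 divisor classes L with L² = 1 and L · K = −3. Stated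
in the lattice ℤ^{1,6} with basis l, e_1, …, e_6 (l² = 1, e_i² = −1, K = −3l + Σ e_i): the integer
vectors (a, b) ∈ ℤ × ℤ^6, standing for a·l − Σ b_i e_i, with 3a − Σ b_i = 3 and a² − Σ b_i² = 1 form
a set of exactly 72 elements. -/
theorem result :
    {p : ℤ × (Fin 6 → ℤ) | 3 * p.1 - (Finset.univ.sum fun i => p.2 i) = 3 ∧
        p.1 ^ 2 - (Finset.univ.sum fun i => p.2 i ^ 2) = 1}.ncard = 72 := by
  have hset : {p : ℤ × (Fin 6 → ℤ) | 3 * p.1 - (Finset.univ.sum fun i => p.2 i) = 3 ∧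
        p.1 ^ 2 - (Finset.univ.sum fun i => p.2 i ^ 2) = 1} =
      ↑(((Finset.Icc (1:ℤ) 5) ×ˢ Fintype.piFinset (fun _ : Fin 6 => Finset.Icc (0:ℤ) 2)).filter
        (fun p => 3 * p.1 - (Finset.univ.sum fun i => p.2 i) = 3 ∧
          p.1^2 - (Finset.univ.sum fun i => p.2 i ^2) = 1)) := by
    ext ⟨a, b⟩
    simp only [Set.mem_ofPred_eq, Finset.coe_filter, Finset.mem_product, Finset.mem_Icc,
      Fintype.mem_piFinset]
    constructor
    · rintro ⟨h1, h2⟩
      have h1' := h1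
      have h2' := h2
      rw [Fin.sum_univ_six] at h1' h2'
      refine ⟨⟨?_, ?_⟩, h1, h2⟩
      · have := bound_aux a (b 0) (b 1) (b 2) (b 3) (b 4) (b 5) (by linarith) (by linarith)
        exact ⟨this.1, this.2.1⟩
      · intro i
        fin_cases i
        · exact (bound_aux a (b 0) (b 1) (b 2) (b 3) (b 4) (b 5) (by linarith) (by linarith)).2.2
        · exact (bound_aux a (b 1) (b 0) (b 2) (b 3) (b 4) (b 5) (by linarith) (by linarith)).2.2
        · exact (bound_aux a (b 2) (b 0) (b 1) (b 3) (b 4) (b 5) (by linarith) (by linarith)).2.2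
        · exact (bound_aux a (b 3) (b 0) (b 1) (b 2) (b 4) (b 5) (by linarith) (by linarith)).2.2
        · exact (bound_aux a (b 4) (b 0) (b 1) (b 2) (b 3) (b 5) (by linarith) (by linarith)).2.2
        · exact (bound_aux a (b 5) (b 0) (b 1) (b 2) (b 3) (b 4) (by linarith) (by linarith)).2.2
    · rintro ⟨_, h1, h2⟩
      exact ⟨h1, h2⟩
  rw [hset, Set.ncard_coe_finset, card_aux]

end Groth.Agent.S16519
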