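import Groth.Statements.S1652
import Groth.Agent.Lib.Lead.GenLocusInt
import Groth.Agent.Lib.Helper12.TensorSec
-- import your own Groth.Agent.* helpers here

set_option autoImplicit false
set_option backward.isDefEq.respectTransparency false
universe u
open CategoryTheory CategoryTheory.Limits AlgebraicGeometry
open Variety

namespace Groth.Agent.S1652

/-- On a proper curve over a field, if L and M are invertible modules with L ⊗ M ≅ O_X and both L and M
have a nonzero global section, then L is isomorphic to the structure sheaf. -/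
theorem result (k : Type u) [Field k] (X : Scheme.{u}) [X.Over (Spec (CommRingCat.of k))]
    [IsIntegral X] [IsProper (X ↘ (Spec (CommRingCat.of k)))] (hdim : topologicalKrullDim X = 1)
    (L M : X.Modules) (hL : PicF.IsInvertible L) (hM : PicF.IsInvertible M) (hLM : ClSub.IsInverseOf L M)
    (s : Coh.structureModule X ⟶ L) (hs : s ≠ 0) (t : Coh.structureModule X ⟶ M) (ht : t ≠ 0) :
    Nonempty (L ≅ Coh.structureModule X) := by
  obtain ⟨e⟩ := hLM
  have hfield : IsField (Γ(X, ⊤) : Type u) :=
    isField_of_universallyClosed k (X ↘ (Spec (CommRingCat.of k)))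
  have h1 : CohB1.genLocus _ (SecTwist.tmulHom s t ≫ e.hom) =
      CohB1.genLocus L s ⊓ CohB1.genLocus M t := by
    rw [Groth.Agent.Lib.helper11.IsoLocus.genLocus_comp_iso,
      Groth.Agent.Lib.helper12.TensorSec.genLocus_tmulHom hL hM]
  have hsne := Groth.Agent.Lib.Lead.GenLocusInt.genLocus_ne_bot hL s hs
  have htne := Groth.Agent.Lib.Lead.GenLocusInt.genLocus_ne_bot hM t ht
  have h2 : CohB1.genLocus _ (SecTwist.tmulHom s t ≫ e.hom) ≠ ⊥ := by
    rw [h1]
    intro hbot
    have hs' : ((CohB1.genLocus L s : X.Opens) : Set X).Nonempty := by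
      rw [Set.nonempty_iff_ne_empty]
      intro h0
      exact hsne (TopologicalSpace.Opens.ext h0)
    have ht' : ((CohB1.genLocus M t : X.Opens) : Set X).Nonempty := by
      rw [Set.nonempty_iff_ne_empty]
      intro h0
      exact htne (TopologicalSpace.Opens.ext h0)
    obtain ⟨x, hx⟩ := nonempty_preirreducible_inter (CohB1.genLocus L s).isOpen
      (CohB1.genLocus M t).isOpen hs' ht'
    have : x ∈ (CohB1.genLocus L s ⊓ CohB1.genLocus M t : X.Opens) := hx
    rw [hbot] at this
    exact this
  have h3 := Groth.Agent.Lib.Lead.GenLocusInt.genLocus_eq_top_of_isField hfield _ h2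
  rw [h1] at h3
  have h4 : CohB1.genLocus L s = ⊤ := by
    rw [eq_top_iff, ← h3]
    exact inf_le_left
  rw [Groth.Agent.Lib.helper11.IsoLocus.genLocus_eq_top_iff] at h4
  exact ⟨(asIso s).symm⟩

end Groth.Agent.S1652
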