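import Groth.Statements.S1653
import Mathlib
import Groth.Agent.S0402
import Groth.Agent.Lib.Helper3.FibreDimNat
import Groth.Agent.Lib.Helper3.FTFieldClosureDim
import Groth.Agent.Lib.Helper3.FTFieldDim
import Groth.Agent.Lib.Helper3.FibreIsol

set_option autoImplicit false
universe u
open CategoryTheory CategoryTheory.Limits AlgebraicGeometry
open Variety

namespace Groth.Agent.S1653
open Groth.Agent.Lib.helper3.DimIneq Groth.Agent.Lib.helper3.FTField Groth.Agent.Lib.helper3.FibreParam Groth.Agent.Lib.helper3.DimFibre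

/-- Let f : X → Y be a k-morphism of schemes locally of finite type over a field k, with X irreducible
of dimension a, and let the closure of the image of f have dimension b. Then the local fibre
dimension of f at every point of X is at least a - b, and the set of points where it equals a - b is
open and dense. -/
theorem result (k : Type u) [Field k] (X Y : Scheme.{u}) [X.Over (Spec (CommRingCat.of k))] [Y.Over (Spec (CommRingCat.of k))]
    [LocallyOfFiniteType (X ↘ (Spec (CommRingCat.of k)))] [LocallyOfFiniteType (Y ↘ (Spec (CommRingCat.of k)))] [IrreducibleSpace X]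
    (f : X ⟶ Y) (hf : f ≫ (Y ↘ (Spec (CommRingCat.of k))) = X ↘ (Spec (CommRingCat.of k))) (a b : ℕ) (ha : topologicalKrullDim X = a)
    (hb : topologicalKrullDim (closure (Set.range f.base)) = b) :
    (∀ x : X, ((a - b : ℕ) : WithBot ℕ∞) ≤ FlatMor.fibreDimAt f x) ∧
      IsOpen {x : X | FlatMor.fibreDimAt f x = (a - b : ℕ)} ∧ Dense {x : X | FlatMor.fibreDimAt f x = (a - b : ℕ)} := by
  classical
  haveI : LocallyOfFiniteType f := by
    haveI : LocallyOfFiniteType (f ≫ (Y ↘ Spec (CommRingCat.of k))) := by rw [hf]; infer_instance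
    exact locallyOfFiniteType_of_comp f (Y ↘ Spec (CommRingCat.of k))
  set ξ := genericPoint X with hξ
  have hcl : closure ({ξ} : Set X) = Set.univ := genericPoint_spec X
  have hgen : ∀ x : X, ξ ⤳ x := fun x => by
    rw [specializes_iff_mem_closure, hcl]; trivial
  set η := f ξ with hη
  obtain ⟨a', ha'⟩ := exists_nat_trdeg_residueField k X ξ
  obtain ⟨b', hb'⟩ := exists_nat_trdeg_residueField k Y η
  have haa' : a' = a := by
    have h1 := dim_closure_eq_trdeg k X ξ a' ha'
    rw [hcl] at h1
    have h2 : topologicalKrullDim ↥(Set.univ : Set X) = topologicalKrullDim X :=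
      IsHomeomorph.topologicalKrullDim_eq _ (Homeomorph.Set.univ X).isHomeomorph
    rw [h2, ha] at h1
    exact_mod_cast h1.symm
  have hrange : closure (Set.range f) = closure ({η} : Set Y) := by
    apply subset_antisymm
    · apply closure_minimal _ isClosed_closure
      rintro _ ⟨x, rfl⟩
      exact ((hgen x).map f.continuous).mem_closed isClosed_closure (subset_closure rfl)
    · apply closure_mono
      rintro _ rfl
      exact ⟨ξ, rfl⟩
  have hbb' : b' = b := by
    have h1 := dim_closure_eq_trdeg k Y η b' hb'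
    rw [← hrange] at h1
    have hb2 : topologicalKrullDim ↥(closure (Set.range f)) = (b : WithBot ℕ∞) := hb
    rw [hb2] at h1
    exact_mod_cast h1.symm
  subst haa' hbb'
  -- transcendence degree of the residue field extension at the generic point
  have htd : td (f.residueFieldMap ξ).hom = ((a' - b' : ℕ) : Cardinal.{u}) ∧ b' ≤ a' := by
    have hcomp := resMap_comp k (Y ↘ Spec (CommRingCat.of k)) (X ↘ Spec (CommRingCat.of k)) f hf ξ
    have hadd := td_add_of_comp (Curv2.resMap k Y η) (f.residueFieldMap ξ).hom
      (RingHom.injective _) (RingHom.injective _)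
    have h1 : td ((f.residueFieldMap ξ).hom.comp (Curv2.resMap k Y η)) = (a' : Cardinal.{u}) := by
      rw [← ha']
      have : (f.residueFieldMap ξ).hom.comp (Curv2.resMap k Y η) = Curv2.resMap k X ξ := hcomp.symm
      rw [this]
    have h2 : td (Curv2.resMap k Y η) = (b' : Cardinal.{u}) := hb'
    rw [h1, h2] at hadd
    have hfin : td (f.residueFieldMap ξ).hom < Cardinal.aleph0 := by
      refine lt_of_le_of_lt (b := (a' : Cardinal.{u})) ?_ Cardinal.natCast_lt_aleph0
      rw [hadd]; exact le_add_self
    obtain ⟨c, hc⟩ := Cardinal.lt_aleph0.mp hfin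
    rw [hc] at hadd ⊢
    have : a' = b' + c := by exact_mod_cast hadd
    constructor
    · congr 1; omega
    · omega
  obtain ⟨htd, hba⟩ := htd
  have hξdim : ∀ n : ℕ, FlatMor.fibreDimAt f ξ ≤ (n : WithBot ℕ∞) ↔ a' - b' ≤ n := by
    intro n
    rw [fibreDimAt_le_iff]
    constructor
    · intro h
      have := h ξ specializes_rfl rfl
      rw [htd] at this
      exact_mod_cast this
    · intro h x' hx' _
      have : x' = ξ := ((hgen x').antisymm hx').eq.symm
      subst this
      rw [htd]
      exact_mod_cast h
  have hi : ∀ x : X, ((a' - b' : ℕ) : WithBot ℕ∞) ≤ FlatMor.fibreDimAt f x := by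
    intro x
    obtain ⟨d, hd⟩ := exists_nat_fibreDimAt f x
    rw [hd]
    have hopen := Groth.Agent.S0402.result f d
    have hx : x ∈ {x : X | FlatMor.fibreDimAt f x ≤ (d : WithBot ℕ∞)} := hd.le
    have hξ' := (hgen x).mem_open hopen hx
    rw [Set.mem_ofPred_eq, hξdim] at hξ'
    exact_mod_cast hξ'
  have hset : {x : X | FlatMor.fibreDimAt f x = ((a' - b' : ℕ) : WithBot ℕ∞)} =
      {x : X | FlatMor.fibreDimAt f x ≤ ((a' - b' : ℕ) : WithBot ℕ∞)} := by
    ext x
    exact ⟨fun h => h.le, fun h => le_antisymm h (hi x)⟩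
  refine ⟨hi, ?_, ?_⟩
  · rw [hset]
    exact Groth.Agent.S0402.result f (a' - b')
  · rw [hset]
    have hmem : ξ ∈ {x : X | FlatMor.fibreDimAt f x ≤ ((a' - b' : ℕ) : WithBot ℕ∞)} :=
      (hξdim _).mpr le_rfl
    intro x
    exact closure_mono (Set.singleton_subset_iff.mpr hmem) (by rw [hcl]; trivial)

end Groth.Agent.S1653
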