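import Groth.Statements.S16539
import Mathlib

set_option autoImplicit false
universe u v
open Disp

namespace Groth.Agent.S16539

open Dieu

section Theta

variable {W : Type u} [CommRing W] (g ginv : W →+* W) (h : ∀ a, ginv (g a) = a)
  {M : Type v} [AddCommGroup M] [Module W M]

/-- the bilinear map `(b, x) ↦ g⁻¹(b) • x` -/
noncomputable def thetaBil : Res g →ₗ[W] M →ₗ[W] M :=
  LinearMap.mk₂ W (fun (t : Res g) (x : M) => ginv t.val • x)
    (fun s t x => by rw [Res.val_add, map_add, add_smul])
    (fun a t x => by rw [Res.val_smul, map_mul, h, mul_smul])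
    (fun t x y => by rw [smul_add])
    (fun a t x => by rw [smul_comm])

/-- `θ (b ⊗ x) = g⁻¹(b) • x`. -/
noncomputable def theta (z : BC g M) : M :=
  TensorProduct.lift (thetaBil g ginv h (M := M)) (show TensorProduct W (Res g) M from z)

theorem theta_tmul (b : W) (x : M) : theta g ginv h (BC.tmul g b x) = ginv b • x := by
  change TensorProduct.lift (thetaBil g ginv h (M := M)) ((Res.mk g b) ⊗ₜ[W] x) = _
  rw [TensorProduct.lift.tmul]
  rfl

theorem theta_add (z₁ z₂ : BC g M) :
    theta g ginv h (z₁ + z₂) = theta g ginv h z₁ + theta g ginv h z₂ :=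
  map_add (TensorProduct.lift (thetaBil g ginv h (M := M))) _ _

theorem theta_zero : theta g ginv h (0 : BC g M) = 0 :=
  map_zero (TensorProduct.lift (thetaBil g ginv h (M := M)))

theorem theta_smul (c : W) (z : BC g M) : theta g ginv h (c • z) = ginv c • theta g ginv h z := by
  induction z using BC.induction_on g with
  | zero => rw [smul_zero, theta_zero, smul_zero]
  | tmul b x => rw [BC.smul_tmul, theta_tmul, theta_tmul, map_mul, mul_smul]
  | add z₁ z₂ h₁ h₂ => rw [smul_add, theta_add, theta_add, h₁, h₂, smul_add]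

theorem theta_mem (π : ℕ) (z : BC g M)
    (hz : z ∈ Ideal.span {(π : W)} • (⊤ : Submodule W (BC g M))) :
    theta g ginv h z ∈ Ideal.span {(π : W)} • (⊤ : Submodule W M) := by
  refine Submodule.smul_induction_on hz (fun c hc z _ => ?_) (fun x y hx hy => ?_)
  · rw [theta_smul]
    refine Submodule.smul_mem_smul ?_ Submodule.mem_top
    obtain ⟨c', rfl⟩ := Ideal.mem_span_singleton'.mp hc
    rw [map_mul, map_natCast]
    exact Ideal.mem_span_singleton'.mpr ⟨_, rfl⟩
  · rw [theta_add]; exact add_mem hx hy

include ginv h in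
theorem mem_of_tmul_one_mem (π : ℕ) (y : M)
    (hy : BC.tmul g 1 y ∈ Ideal.span {(π : W)} • (⊤ : Submodule W (BC g M))) :
    y ∈ Ideal.span {(π : W)} • (⊤ : Submodule W M) := by
  have := theta_mem g ginv h π _ hy
  rwa [theta_tmul, map_one, one_smul] at this

end Theta

lemma mem_piM_iff {W : Type*} [CommRing W] (π : W) {M : Type*} [AddCommGroup M] [Module W M] (x : M) :
    x ∈ Ideal.span {π} • (⊤ : Submodule W M) ↔ ∃ y : M, x = π • y := by
  rw [Submodule.ideal_span_singleton_smul]
  constructor
  · intro h
    obtain ⟨y, _, rfl⟩ := (Submodule.mem_smul_pointwise_iff_exists _ _ _).mp h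
    exact ⟨y, rfl⟩
  · rintro ⟨y, rfl⟩
    exact Submodule.smul_mem_pointwise_smul _ _ _ Submodule.mem_top

section Main

variable (p : ℕ) [Fact p.Prime] (k : Type u) [CommRing k] [CharP k p] [PerfectRing k p]
  {M : Type v} [AddCommGroup M] [Module (WittVector p k) M]

theorem IV_eq : W4c1extbt610.IV p k = Ideal.span {(p : WittVector p k)} := by
  apply le_antisymm
  · rw [W4c1extbt610.IV, Ideal.span_le]
    rintro _ ⟨w, rfl⟩
    have : WittVector.verschiebung w = (WittVector.frobeniusEquiv p k).symm w * (p : WittVector p k) := by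
      rw [← WittVector.verschiebung_frobenius, ← WittVector.frobeniusEquiv_apply,
        RingEquiv.apply_symm_apply]
    rw [SetLike.mem_coe, this]
    exact Ideal.mem_span_singleton'.mpr ⟨_, rfl⟩
  · rw [Ideal.span_le, Set.singleton_subset_iff]
    have : (p : WittVector p k) = WittVector.verschiebung (WittVector.frobenius 1) := by
      rw [WittVector.verschiebung_frobenius, one_mul]
    rw [SetLike.mem_coe, this]
    exact W4c1extbt610.verschiebung_mem_IV p k _

theorem frob_pow_inv (n : ℕ) (a : WittVector p k) :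
    (((WittVector.frobeniusEquiv p k).symm : WittVector p k →+* WittVector p k) ^ n)
      (((WittVector.frobenius : WittVector p k →+* WittVector p k) ^ n) a) = a := by
  rw [RingHom.coe_pow, RingHom.coe_pow]
  have hl : Function.LeftInverse
      (⇑((WittVector.frobeniusEquiv p k).symm : WittVector p k →+* WittVector p k))
      (⇑(WittVector.frobenius : WittVector p k →+* WittVector p k)) := by
    intro x
    change (WittVector.frobeniusEquiv p k).symm (WittVector.frobenius x) = x
    rw [← WittVector.frobeniusEquiv_apply]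
    exact RingEquiv.symm_apply_apply _ _
  exact hl.iterate n a

variable (V : M →ₛₗ[((WittVector.frobeniusEquiv p k).symm : WittVector p k →+* WittVector p k)] M)

theorem V_natCast_smul (m : M) : V ((p : WittVector p k) • m) = (p : WittVector p k) • V m := by
  rw [LinearMap.map_smulₛₗ, map_natCast]

theorem V_iter_natCast_pow_smul (e N : ℕ) (m : M) :
    (⇑V)^[N] ((p : WittVector p k) ^ e • m) = (p : WittVector p k) ^ e • (⇑V)^[N] m := by
  induction N generalizing m with
  | zero => rfl
  | succ N ih =>
    rw [Function.iterate_succ_apply, Function.iterate_succ_apply, LinearMap.map_smulₛₗ, map_pow,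
      map_natCast, ih]

theorem vSharpPow_eq
    (Vs : M →ₗ[WittVector p k] BC (WittVector.frobenius : WittVector p k →+* WittVector p k) M)
    (hVs : ∀ x, Vs x = BC.tmul (WittVector.frobenius : WittVector p k →+* WittVector p k) 1 (V x))
    (n : ℕ) (x : M) :
    vSharpPow Vs n x =
      BC.tmul ((WittVector.frobenius : WittVector p k →+* WittVector p k) ^ (n + 1)) 1
        ((⇑V)^[n + 1] x) := by
  induction n generalizing x with
  | zero =>
    rw [vSharpPow_zero_apply, hVs, BC.castHom_tmul]
    rfl
  | succ n ih =>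
    rw [vSharpPow_succ_apply, hVs, BC.map_tmul, ih, BC.lift_tmul, one_smul, BC.push_tmul, map_one,
      BC.castHom_tmul, ← Function.iterate_succ_apply (⇑V) (n + 1) x]

theorem nilpotent_iff
    (Vs : M →ₗ[WittVector p k] BC (WittVector.frobenius : WittVector p k →+* WittVector p k) M)
    (hVs : ∀ x, Vs x = BC.tmul (WittVector.frobenius : WittVector p k →+* WittVector p k) 1 (V x)) :
    IsVNilpotent Vs ↔ ∃ n : ℕ, ∀ x : M, (⇑V)^[n + 1] x ∈
      Ideal.span {(p : WittVector p k)} • (⊤ : Submodule (WittVector p k) M) := by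
  unfold IsVNilpotent
  rw [IV_eq, sup_idem]
  constructor
  · rintro ⟨n, hn⟩
    refine ⟨n, fun x => ?_⟩
    have := hn x
    rw [vSharpPow_eq p k V Vs hVs] at this
    exact mem_of_tmul_one_mem _ _ (frob_pow_inv p k (n + 1)) p _ this
  · rintro ⟨n, hn⟩
    refine ⟨n, fun x => ?_⟩
    rw [vSharpPow_eq p k V Vs hVs]
    obtain ⟨y, hy⟩ := (mem_piM_iff _ _).mp (hn x)
    rw [hy, ← BC.tmul_apply_eq, map_natCast, BC.tmul_eq_smul_tmul_one]
    exact Submodule.smul_mem_smul (Ideal.mem_span_singleton_self _) Submodule.mem_top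

theorem topNilp_iff (Dm : Dieu.DieuMod p k M) :
    Dm.VTopNilp ↔ ∃ n : ℕ, ∀ x : M, (⇑Dm.V)^[n + 1] x ∈
      Ideal.span {(p : WittVector p k)} • (⊤ : Submodule (WittVector p k) M) := by
  constructor
  · intro h
    obtain ⟨n, hn⟩ := h 1
    refine ⟨n, fun x => ?_⟩
    rw [pow_one] at hn
    rw [Function.iterate_succ_apply]
    exact hn _
  · rintro ⟨n, hn⟩ e
    refine ⟨(n + 1) * e, fun m => ?_⟩
    rw [Ideal.span_singleton_pow, mem_piM_iff]
    induction e generalizing m with
    | zero => exact ⟨m, by simp⟩
    | succ e ih =>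
      have : (n + 1) * (e + 1) = (n + 1) + (n + 1) * e := by ring
      rw [this, Function.iterate_add_apply]
      obtain ⟨y, hy⟩ := ih m
      rw [hy, V_iter_natCast_pow_smul]
      obtain ⟨y', hy'⟩ := (mem_piM_iff _ _).mp (hn y)
      exact ⟨y', by rw [hy', smul_smul, pow_succ]⟩

end Main


/-- Let p be a prime, k a perfect commutative ring of characteristic p, W = W(k) with Frobenius
automorphism σ, and M a finitely generated projective W-module carrying a Dieudonné module
structure, a σ-semilinear F and a σ⁻¹-semilinear V with FV = VF = p. Let D be the associated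
3n-display (M, VM, F, V⁻¹): the 3n-display structure on M whose submodule is the image of V, whose
Frobenius operator is F and whose inverse operator sends V m to m. Then D is a display, i.e. its
operator V# satisfies the nilpotence condition, if and only if V is topologically nilpotent for the
p-adic topology on M: for every e some power of V maps M into p^e M. -/
theorem result (p : ℕ) [Fact p.Prime] (k : Type u) [CommRing k]
    [CharP k p] [PerfectRing k p]
    (M : Type v) [AddCommGroup M] [Module (WittVector p k) M] [Module.Finite (WittVector p k) M]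
    [Module.Projective (WittVector p k) M] (Dm : Dieu.DieuMod p k M) (D : W4c1extbt610.Display3n p k M)
    (hF : D.F = Dm.F) (hQ : ∀ x : M, x ∈ D.Q ↔ x ∈ Set.range Dm.V)
    (hV : ∀ (m : M) (h : Dm.V m ∈ D.Q), D.Vinv ⟨Dm.V m, h⟩ = m) :
    Dieu.IsDisplay D ↔ Dm.VTopNilp := by
  have hVsharp : ∀ (Vs : M →ₗ[WittVector p k]
      Dieu.BC (WittVector.frobenius : WittVector p k →+* WittVector p k) M),
      Dieu.IsVSharp D Vs → ∀ x, Vs x =
        Dieu.BC.tmul (WittVector.frobenius : WittVector p k →+* WittVector p k) 1 (Dm.V x) := by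
    intro Vs hVs x
    have hx : Dm.V x ∈ D.Q := (hQ _).mpr ⟨x, rfl⟩
    have := hVs.app_smul_Vinv 1 ⟨Dm.V x, hx⟩
    rw [hV x hx, one_smul] at this
    exact this
  rw [topNilp_iff p k Dm]
  constructor
  · rintro ⟨Vs, hVs, hnil⟩
    exact (nilpotent_iff p k Dm.V Vs (hVsharp Vs hVs)).mp hnil
  · intro hnil
    let Vs : M →ₗ[WittVector p k]
        Dieu.BC (WittVector.frobenius : WittVector p k →+* WittVector p k) M :=
      { toFun := fun x =>
          Dieu.BC.tmul (WittVector.frobenius : WittVector p k →+* WittVector p k) 1 (Dm.V x)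
        map_add' := fun x y => by rw [map_add, Dieu.BC.tmul_add]
        map_smul' := fun w x => by
          rw [RingHom.id_apply, LinearMap.map_smulₛₗ, ← Dieu.BC.tmul_apply_eq,
            ← Dieu.BC.tmul_eq_smul_tmul_one]
          congr 1
          change WittVector.frobenius ((WittVector.frobeniusEquiv p k).symm w) = w
          rw [← WittVector.frobeniusEquiv_apply]
          exact RingEquiv.apply_symm_apply _ _ }
    have hVs0 : ∀ x, Vs x =
        Dieu.BC.tmul (WittVector.frobenius : WittVector p k →+* WittVector p k) 1 (Dm.V x) :=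
      fun x => rfl
    refine ⟨Vs, ⟨?_, ?_⟩, (nilpotent_iff p k Dm.V Vs hVs0).mpr hnil⟩
    · intro w x
      rw [map_smul, hVs0, hF, Dm.V_F, ← Dieu.BC.tmul_apply_eq, map_natCast, Dieu.BC.smul_tmul,
        Dieu.BC.smul_tmul, mul_comm]
    · intro w y
      obtain ⟨m, hm⟩ := (hQ _).mp y.2
      have hy : y = ⟨Dm.V m, (hQ _).mpr ⟨m, rfl⟩⟩ := Subtype.ext hm.symm
      rw [hy, hV m, map_smul, hVs0, ← Dieu.BC.tmul_eq_smul_tmul_one]

end Groth.Agent.S16539
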