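import Groth.Statements.S16543
import Mathlib
import Groth.Agent.Lib.Helper10.DispLift

set_option autoImplicit false
universe u v
open Disp

namespace Groth.Agent.S16543

set_option linter.style.haveILetI false
set_option linter.unusedSectionVars false

open WittVector Dieu W4c1extbt610 Groth.Agent.Lib.helper10.WittIdeal
  Groth.Agent.Lib.helper10.DispRigid Groth.Agent.Lib.helper10.DispLift

variable {p : ℕ} [hp : Fact p.Prime] {S R : Type u} [CommRing S] [CommRing R] (f : S →+* R)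

set_option hygiene false in
local notation "Wf" => (WittVector.map f : WittVector p S →+* WittVector p R)
set_option hygiene false in
local notation "cc" => (WittVector.constantCoeff : WittVector p R →+* R)

lemma mem_WI_ker_iff (x : WittVector p S) : x ∈ (WI (RingHom.ker f) : Ideal (WittVector p S)) ↔
    Wf x = 0 := by
  rw [mem_WI, WittVector.ext_iff]
  simp only [WittVector.map_coeff, WittVector.zero_coeff, RingHom.mem_ker]

variable {P' : Type v} [AddCommGroup P'] [Module (WittVector p S) P']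

lemma tmul_sub (b : WittVector p R) (x y : P') :
    BC.tmul Wf b (x - y) = BC.tmul Wf b x - BC.tmul Wf b y := by
  rw [sub_eq_add_neg, BC.tmul_add, BC.tmul_neg, ← sub_eq_add_neg]

/-- `1 ⊗ v = 0` for `v ∈ W(ker f) P'` -/
lemma tmul_one_eq_zero_of_mem {v : P'} (hv : v ∈ AP p P' (RingHom.ker f)) :
    BC.tmul Wf 1 v = 0 := by
  refine Submodule.smul_induction_on hv (fun a ha x _ => ?_) (fun x y hx hy => ?_)
  · rw [← BC.tmul_apply_eq, (mem_WI_ker_iff f a).1 ha, BC.zero_tmul]
  · rw [BC.tmul_add, hx, hy, add_zero]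

/-- `1 ⊗ v = 0` implies `v ∈ W(ker f) P'`, for `P'` finite projective -/
lemma mem_of_tmul_one_eq_zero [Module.Finite (WittVector p S) P']
    [Module.Projective (WittVector p S) P'] {v : P'} (hv : BC.tmul Wf 1 v = 0) :
    v ∈ AP p P' (RingHom.ker f) := by
  obtain ⟨n, fm, gm, -, -, hfg⟩ :=
    Module.Finite.exists_comp_eq_id_of_projective (WittVector p S) P'
  have hmem : ∀ j, gm v j ∈ (WI (RingHom.ker f) : Ideal (WittVector p S)) := by
    intro j
    rw [mem_WI_ker_iff]
    let μ : P' →ₛₗ[Wf] WittVector p R :=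
      { toFun := fun x => Wf (gm x j)
        map_add' := fun x y => by rw [map_add, Pi.add_apply, map_add]
        map_smul' := fun a x => by rw [map_smul, Pi.smul_apply, smul_eq_mul, map_mul, smul_eq_mul] }
    have h := congrArg (BC.lift Wf μ) hv
    rw [BC.lift_tmul, map_zero, one_smul] at h
    exact h
  have hdec : v = ∑ j, gm v j • fm (Pi.single j 1) := by
    have h1 : v = fm (gm v) := by
      have := LinearMap.congr_fun hfg v
      rw [LinearMap.comp_apply, LinearMap.id_apply] at this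
      exact this.symm
    conv_lhs => rw [h1]
    conv_lhs => rw [← Finset.univ_sum_single (gm v)]
    rw [map_sum]
    refine Finset.sum_congr rfl fun j _ => ?_
    have : (Pi.single j (gm v j) : Fin n → WittVector p S) = gm v j • Pi.single j 1 := by
      rw [← Pi.single_smul, smul_eq_mul, mul_one]
    rw [this, map_smul]
  rw [hdec]
  exact Submodule.sum_mem _ fun j _ => Submodule.smul_mem_smul (hmem j) Submodule.mem_top

variable {P : Type v} [AddCommGroup P] [Module (WittVector p S) P]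

/-- lifting a `W(R)`-linear map between the base changes to a `W(S)`-linear map -/
lemma exists_lift_map (hf : Function.Surjective f) [Module.Projective (WittVector p S) P]
    (χ : BC Wf P →ₗ[WittVector p R] BC Wf P') :
    ∃ α : P →ₗ[WittVector p S] P', ∀ x, BC.tmul Wf 1 (α x) = χ (BC.tmul Wf 1 x) := by
  letI : Module (WittVector p S) (BC Wf P') := Module.compHom _ Wf
  have hsmul : ∀ (a : WittVector p S) (z : BC Wf P'), a • z = Wf a • z := fun a z => rfl
  let ιl : P' →ₗ[WittVector p S] BC Wf P' :=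
    { toFun := fun x => BC.tmul Wf 1 x
      map_add' := fun x y => BC.tmul_add Wf 1 x y
      map_smul' := fun a x => by
        rw [RingHom.id_apply, hsmul, ← BC.tmul_apply_eq, BC.tmul_eq_smul_tmul_one] }
  let gl : P →ₗ[WittVector p S] BC Wf P' :=
    { toFun := fun x => χ (BC.tmul Wf 1 x)
      map_add' := fun x y => by rw [BC.tmul_add, map_add]
      map_smul' := fun a x => by
        rw [RingHom.id_apply, hsmul, ← map_smul, ← BC.tmul_apply_eq, BC.tmul_eq_smul_tmul_one] }
  have hsurj : Function.Surjective ιl := by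
    intro z
    induction z using BC.induction_on with
    | zero => exact ⟨0, map_zero _⟩
    | tmul b x =>
      obtain ⟨a, rfl⟩ := WittVector.map_surjective f hf b
      exact ⟨a • x, (BC.tmul_apply_eq Wf a x).symm⟩
    | add z₁ z₂ h₁ h₂ =>
      obtain ⟨x₁, rfl⟩ := h₁
      obtain ⟨x₂, rfl⟩ := h₂
      exact ⟨x₁ + x₂, map_add _ _ _⟩
  obtain ⟨α, hα⟩ := Module.projective_lifting_property ιl gl hsurj
  exact ⟨α, fun x => congrArg (fun l => l x) hα⟩


section BCside

variable {D' : Display3n p S P'} (N : NData D')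
  {DR' : Display3n p R (BC Wf P')} (hDR' : IsDispBaseChange f D' DR')

include hDR' in
/-- the preimage of `Q'_R` lies in `Q̂' = Q' + W(ker f)P'` -/
lemma mem_Qhat_of_tmul_mem {v : P'} (h : BC.tmul Wf 1 v ∈ DR'.Q) :
    v ∈ N.Qhat (RingHom.ker f) := by
  intro j
  rw [hDR'.Q_eq, LinearMap.mem_ker, bcQuotMap_tmul] at h
  let μ₀ : P' →ₛₗ[RingHom.comp cc Wf] R :=
    { toFun := fun x => (RingHom.comp cc Wf) (N.lam j x)
      map_add' := fun x y => by rw [map_add, map_add]
      map_smul' := fun a x => by rw [map_smul, smul_eq_mul, map_mul, smul_eq_mul] }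
  have hμ₀ : ∀ x, μ₀ x = f ((N.lam j x).coeff 0) := by
    intro x
    show (RingHom.comp cc Wf) (N.lam j x) = _
    rw [RingHom.comp_apply]
    show (WittVector.map f (N.lam j x)).coeff 0 = _
    rw [WittVector.map_coeff]
  have hle : D'.Q ≤ LinearMap.ker μ₀ := by
    intro z hz
    rw [LinearMap.mem_ker, hμ₀, N.lam_coeff_zero_of_mem_Q hz j, map_zero]
  let μ := D'.Q.liftQ μ₀ hle
  have h' := congrArg (BC.lift (RingHom.comp cc Wf) μ) h
  rw [BC.lift_tmul, map_zero, map_one, one_smul] at h'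
  have h'' : μ₀ v = 0 := h'
  rw [hμ₀] at h''
  exact h''

include hDR' in
/-- `V'_R⁻¹ (1 ⊗ v) = 1 ⊗ V̂ v` -/
lemma Vinv_tmul_one {v : P'} (hv : v ∈ N.Qhat (RingHom.ker f)) (h : BC.tmul Wf 1 v ∈ DR'.Q) :
    DR'.Vinv ⟨BC.tmul Wf 1 v, h⟩ = BC.tmul Wf 1 (N.Vhat v) := by
  set l : D'.Q := Groth.Agent.S16538.pLQ D' N.L N.T N.hLT N.hQ v with hl_def
  have hl : (l : P') = v - N.zT v := by
    rw [hl_def, Groth.Agent.S16538.pLQ_coe, N.proj_L]
  let w : Fin N.n → WittVector p R := fun j => Wf (sh (N.lam j v))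
  have hw : ∀ j, Wf (N.lam j v) = verschiebung (w j) := by
    intro j
    conv_lhs => rw [eq_teich_add_verschiebung_sh (N.lam j v), map_add]
    show WittVector.map f (teichmuller p ((N.lam j v).coeff 0)) +
      WittVector.map f (verschiebung (sh (N.lam j v))) = _
    rw [WittVector.map_teichmuller, (RingHom.mem_ker.1 (hv j)), teichmuller_zero, zero_add,
      WittVector.map_verschiebung]
  have h1 : BC.tmul Wf 1 (l : P') ∈ DR'.Q := by
    rw [hDR'.Q_eq]
    exact Groth.Agent.S16538.tmul_mem_QR f D' 1 _ l.2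
  have h2 : ∀ j, BC.tmul Wf (verschiebung (w j)) (N.t j) ∈ DR'.Q := fun j => by
    rw [hDR'.Q_eq]
    exact Groth.Agent.S16538.versch_tmul_mem_QR f D' _ _
  have e : (⟨BC.tmul Wf 1 v, h⟩ : DR'.Q) = ⟨_, h1⟩ + ∑ j, ⟨_, h2 j⟩ := by
    apply Subtype.ext
    rw [Submodule.coe_add, Submodule.coe_sum]
    show BC.tmul Wf 1 v = BC.tmul Wf 1 (l : P') + ∑ j, BC.tmul Wf (verschiebung (w j)) (N.t j)
    have hv' : v = (l : P') + ∑ j, N.lam j v • N.t j := by
      rw [hl]; unfold NData.zT; abel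
    conv_lhs => rw [hv', BC.tmul_add]
    congr 1
    rw [Groth.Agent.S16538.tmul_one_sum]
    refine Finset.sum_congr rfl fun j _ => ?_
    rw [hw j, ← BC.tmul_eq_smul_tmul_one]
  rw [e, map_add, map_sum, hDR'.Vinv_tmul 1 l h1]
  have e2 : ∀ j, DR'.Vinv ⟨_, h2 j⟩ = BC.tmul Wf (w j) (D'.F (N.t j)) := fun j =>
    hDR'.Vinv_verschiebung_tmul (w j) (N.t j) (h2 j)
  simp only [e2]
  rw [map_one]
  unfold NData.Vhat Psi0
  rw [BC.tmul_add, Groth.Agent.S16538.tmul_one_sum]
  congr 1
  refine Finset.sum_congr rfl fun j _ => ?_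
  rw [← BC.tmul_eq_smul_tmul_one]

end BCside

section HomSide

variable {D : Display3n p S P} {D' : Display3n p S P'} (N : NData D')
  {DR : Display3n p R (BC Wf P)} (hDR : IsDispBaseChange f D DR)
  {DR' : Display3n p R (BC Wf P')} (hDR' : IsDispBaseChange f D' DR')

include hDR hDR' in
/-- a lift of a homomorphism of the base changes is a homomorphism modulo `W(ker f)` -/
lemma homMod_of_lift (χ : BC Wf P →ₗ[WittVector p R] BC Wf P') (hχ : IsHom DR DR' χ)
    (α : P →ₗ[WittVector p S] P') (hα : ∀ x, BC.tmul Wf 1 (α x) = χ (BC.tmul Wf 1 x)) :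
    HomMod D N (RingHom.ker f) α := by
  haveI := D'.finite
  haveI := D'.projective
  have hQ1 : ∀ y ∈ D.Q, BC.tmul Wf 1 y ∈ DR.Q := fun y hy => by
    rw [hDR.Q_eq]
    exact Groth.Agent.S16538.tmul_mem_QR f D 1 y hy
  have hQ2 : ∀ y ∈ D.Q, BC.tmul Wf 1 (α y) ∈ DR'.Q := fun y hy => by
    rw [hα]
    exact hχ.mapsTo _ (hQ1 y hy)
  refine ⟨fun y hy => mem_Qhat_of_tmul_mem f N hDR' (hQ2 y hy), fun y => ?_⟩
  apply mem_of_tmul_one_eq_zero f
  have hmem := mem_Qhat_of_tmul_mem f N hDR' (hQ2 y y.2)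
  rw [tmul_sub, sub_eq_zero, hα, ← Vinv_tmul_one f N hDR' hmem (hQ2 y y.2)]
  have e1 : BC.tmul Wf 1 (D.Vinv y) = DR.Vinv ⟨BC.tmul Wf 1 (y : P), hQ1 y y.2⟩ := by
    rw [hDR.Vinv_tmul 1 y (hQ1 y y.2), map_one]
  rw [e1, hχ.comm_Vinv]
  congr 1
  apply Subtype.ext
  exact (hα y).symm

end HomSide


lemma isHom_sub {D : Display3n p S P} {D' : Display3n p S P'} {ψ χ : P →ₗ[WittVector p S] P'}
    (hψ : IsHom D D' ψ) (hχ : IsHom D D' χ) : IsHom D D' (ψ - χ) := by
  have hmaps : ∀ q : P, q ∈ D.Q → (ψ - χ) q ∈ D'.Q := fun q hq =>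
    D'.Q.sub_mem (hψ.mapsTo q hq) (hχ.mapsTo q hq)
  refine ⟨hmaps, fun x => ?_, fun q => ?_⟩
  · rw [LinearMap.sub_apply, LinearMap.sub_apply, hψ.comm_F, hχ.comm_F, map_sub]
  · rw [LinearMap.sub_apply, hψ.comm_Vinv, hχ.comm_Vinv, ← map_sub]
    rfl

theorem main (p : ℕ) [Fact p.Prime]
    (S R : Type u) [CommRing S] [CommRing R] (hp : IsNilpotent (p : S))
    (f : S →+* R) (hf : Function.Surjective f) (hker : IsNilpotent (RingHom.ker f))
    (P P' : Type v) [AddCommGroup P] [Module (WittVector p S) P] [AddCommGroup P'] [Module (WittVector p S) P']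
    (D : W4c1extbt610.Display3n p S P) (D' : W4c1extbt610.Display3n p S P')
    (hD : Dieu.IsDisplay D) (hD' : Dieu.IsDisplay D')
    (DR : W4c1extbt610.Display3n p R (Dieu.BC (WittVector.map f : WittVector p S →+* WittVector p R) P)) (hDR : Dieu.IsDispBaseChange f D DR)
    (DR' : W4c1extbt610.Display3n p R (Dieu.BC (WittVector.map f : WittVector p S →+* WittVector p R) P')) (hDR' : Dieu.IsDispBaseChange f D' DR') :
    (∀ ψ χ : P →ₗ[WittVector p S] P', W4c1extbt610.IsHom D D' ψ → W4c1extbt610.IsHom D D' χ →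
        Dieu.BC.map (WittVector.map f : WittVector p S →+* WittVector p R) ψ = Dieu.BC.map (WittVector.map f : WittVector p S →+* WittVector p R) χ → ψ = χ) ∧
      ∀ χ : Dieu.BC (WittVector.map f : WittVector p S →+* WittVector p R) P →ₗ[WittVector p R] Dieu.BC (WittVector.map f : WittVector p S →+* WittVector p R) P', W4c1extbt610.IsHom DR DR' χ →
        ∃ (n : ℕ) (ψ : P →ₗ[WittVector p S] P'), W4c1extbt610.IsHom D D' ψ ∧
          Dieu.BC.map (WittVector.map f : WittVector p S →+* WittVector p R) ψ = ((p : WittVector p R) ^ n) • χ := by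
  haveI := D'.finite
  haveI := D'.projective
  haveI := D.projective
  obtain ⟨N⟩ := exists_NData D'
  refine ⟨?_, ?_⟩
  · intro ψ χ hψ hχ heq
    have hu := isHom_sub hψ hχ
    have h0 : ψ - χ = 0 := by
      refine rigidity hp D D' hD (ψ - χ) hu (RingHom.ker f) hker ?_
      intro x
      apply mem_of_tmul_one_eq_zero f
      rw [LinearMap.sub_apply, tmul_sub, sub_eq_zero]
      have h1 := congrArg (fun l => l (BC.tmul Wf 1 x)) heq
      simpa only [BC.map_tmul] using h1
    exact sub_eq_zero.1 h0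
  · intro χ hχ
    obtain ⟨α₀, hα₀⟩ := exists_lift_map f hf χ
    have h0 : HomMod D N (RingHom.ker f) α₀ := homMod_of_lift f N hDR hDR' χ hχ α₀ hα₀
    obtain ⟨Vs, hVs, hnil⟩ := hD
    set 𝔞 : Ideal S := RingHom.ker f with h𝔞
    set 𝔠 : Ideal S := 𝔞 ⊔ Ideal.span {(p : S)} with h𝔠
    have h𝔠nil : IsNilpotent 𝔠 := by
      obtain ⟨m, hm⟩ := hker
      obtain ⟨r, hr⟩ := hp
      refine ⟨m + r, ?_⟩
      rw [Ideal.zero_eq_bot, eq_bot_iff]
      refine (Ideal.sup_pow_add_le_pow_sup_pow (I := 𝔞) (J := Ideal.span {(p : S)})).trans ?_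
      rw [hm, Ideal.span_singleton_pow, hr, Ideal.zero_eq_bot, bot_sup_eq, Ideal.span_le]
      rintro _ rfl
      exact Ideal.zero_mem _
    have hp𝔠 : (p : S) ∈ 𝔠 := Ideal.mem_sup_right (Ideal.subset_span rfl)
    have h𝔞𝔠 : 𝔞 ≤ 𝔠 := le_sup_left
    have hchain : ∀ k : ℕ, ∃ α : P →ₗ[WittVector p S] P', HomMod D N (𝔠 ^ k * 𝔞) α ∧
        ∀ x, α x - ((p : WittVector p S) ^ k) • α₀ x ∈ AP p P' 𝔞 := by
      intro k
      induction k with
      | zero =>
        refine ⟨α₀, ?_, fun x => ?_⟩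
        · rw [pow_zero, one_mul]; exact h0
        · rw [pow_zero, one_smul, sub_self]; exact Submodule.zero_mem _
      | succ k ih =>
        obtain ⟨α, hα, hαx⟩ := ih
        have hle : 𝔠 ^ k * 𝔞 ≤ 𝔠 := Ideal.mul_le_right.trans h𝔞𝔠
        have e : 𝔠 ^ (k + 1) * 𝔞 = 𝔠 * (𝔠 ^ k * 𝔞) := by rw [pow_succ', mul_assoc]
        have h1 : (𝔠 ^ k * 𝔞) * (𝔠 ^ k * 𝔞) ≤ 𝔠 ^ (k + 1) * 𝔞 := by
          rw [e]
          exact Ideal.mul_mono_left hle
        have h2 : ∀ a ∈ 𝔠 ^ k * 𝔞, (p : S) * a ∈ 𝔠 ^ (k + 1) * 𝔞 := by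
          intro a ha
          rw [e]
          exact Ideal.mul_mem_mul hp𝔠 ha
        obtain ⟨α', hα', hα'x⟩ := lift_step hp Vs hVs hnil h1 h2 α hα
        refine ⟨α', hα', fun x => ?_⟩
        have hle' : AP p P' (𝔠 ^ k * 𝔞) ≤ AP p P' 𝔞 :=
          Submodule.smul_mono (WI_mono Ideal.mul_le_right) le_rfl
        have hsplit : α' x - ((p : WittVector p S) ^ (k + 1)) • α₀ x =
            (α' x - (p : WittVector p S) • α x) +
              (p : WittVector p S) • (α x - ((p : WittVector p S) ^ k) • α₀ x) := by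
          rw [smul_sub, smul_smul, ← pow_succ']; abel
        rw [hsplit]
        exact Submodule.add_mem _ (hle' (hα'x x)) (Submodule.smul_mem _ _ (hαx x))
    obtain ⟨Nn, hN⟩ := h𝔠nil
    obtain ⟨ψ, hψ, hψx⟩ := hchain Nn
    rw [hN, Ideal.zero_eq_bot, Ideal.bot_mul] at hψ
    refine ⟨Nn, ψ, hψ.isHom, ?_⟩
    apply BC.ext
    intro x
    rw [BC.map_tmul, LinearMap.smul_apply, ← hα₀]
    have h3 := tmul_one_eq_zero_of_mem f (hψx x)
    rw [tmul_sub, sub_eq_zero] at h3
    rw [h3, Groth.Agent.S16538.tmul_one_smul, map_pow, map_natCast]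



/-- Let p be a prime, S a commutative ring in which p is nilpotent, f : S → R a surjective homomorphism
of commutative rings whose kernel is a nilpotent ideal, and (P, Q, F, V⁻¹), (P', Q', F', V'⁻¹) two
displays over S, i.e. 3n-displays whose operators V# satisfy the nilpotence condition. Let (P_R,
Q_R, F_R, V_R⁻¹) and (P'_R, Q'_R, F'_R, V'_R⁻¹) be their base changes along f, the 3n-display
structures on W(R) ⊗_{W(S)} P and W(R) ⊗_{W(S)} P' characterised by Q_R = ker(P_R → R ⊗_S P/Q),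
F_R(w ⊗ x) = σ(w) ⊗ F x, V_R⁻¹(w ⊗ y) = σ(w) ⊗ V⁻¹ y for y ∈ Q and V_R⁻¹(V(w) ⊗ x) = w ⊗ F x (and
likewise for P'). Then the natural map ψ ↦ id ⊗ ψ from homomorphisms of 3n-displays P → P' to
homomorphisms P_R → P'_R is injective, and its cokernel is a p-torsion group: for every homomorphism
χ of the base-changed 3n-displays there are n and a homomorphism ψ over S with id ⊗ ψ = p^n·χ. -/
theorem result (p : ℕ) [Fact p.Prime]
    (S R : Type u) [CommRing S] [CommRing R] (hp : IsNilpotent (p : S))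
    (f : S →+* R) (hf : Function.Surjective f) (hker : IsNilpotent (RingHom.ker f))
    (P P' : Type v) [AddCommGroup P] [Module (WittVector p S) P] [AddCommGroup P'] [Module (WittVector p S) P']
    (D : W4c1extbt610.Display3n p S P) (D' : W4c1extbt610.Display3n p S P')
    (hD : Dieu.IsDisplay D) (hD' : Dieu.IsDisplay D')
    (DR : W4c1extbt610.Display3n p R (Dieu.BC (WittVector.map f : WittVector p S →+* WittVector p R) P)) (hDR : Dieu.IsDispBaseChange f D DR)
    (DR' : W4c1extbt610.Display3n p R (Dieu.BC (WittVector.map f : WittVector p S →+* WittVector p R) P')) (hDR' : Dieu.IsDispBaseChange f D' DR') :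
    (∀ ψ χ : P →ₗ[WittVector p S] P', W4c1extbt610.IsHom D D' ψ → W4c1extbt610.IsHom D D' χ →
        Dieu.BC.map (WittVector.map f : WittVector p S →+* WittVector p R) ψ = Dieu.BC.map (WittVector.map f : WittVector p S →+* WittVector p R) χ → ψ = χ) ∧
      ∀ χ : Dieu.BC (WittVector.map f : WittVector p S →+* WittVector p R) P →ₗ[WittVector p R] Dieu.BC (WittVector.map f : WittVector p S →+* WittVector p R) P', W4c1extbt610.IsHom DR DR' χ →
        ∃ (n : ℕ) (ψ : P →ₗ[WittVector p S] P'), W4c1extbt610.IsHom D D' ψ ∧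
          Dieu.BC.map (WittVector.map f : WittVector p S →+* WittVector p R) ψ = ((p : WittVector p R) ^ n) • χ := by
  exact main p S R hp f hf hker P P' D D' hD hD' DR hDR DR' hDR'

end Groth.Agent.S16543
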