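import Groth.Statements.S16544
import Mathlib
import Groth.Agent.Lib.Helper10.DispRigid

set_option autoImplicit false
universe u v
open Disp

namespace Groth.Agent.S16544

set_option linter.style.haveILetI false
set_option linter.unusedSectionVars false

open WittVector Groth.Agent.Lib.helper10.WittIdeal Groth.Agent.Lib.helper10.DispRigid

/-- `p`-torsion Witt vectors have nilpotent coefficients (when `p` is nilpotent in `S`). -/
lemma mem_WI_nilradical_of_p_mul_eq_zero (p : ℕ) [Fact p.Prime]
    (S : Type u) [CommRing S] [Nontrivial S] (hp : IsNilpotent (p : S))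
    (w : WittVector p S) (hw : (p : WittVector p S) * w = 0) :
    w ∈ (WI (nilradical S) : Ideal (WittVector p S)) := by
  set 𝔫 := nilradical S with h𝔫
  have hne : 𝔫 ≠ ⊤ := by
    intro htop
    have h1 : (1 : S) ∈ 𝔫 := htop ▸ Submodule.mem_top
    rw [h𝔫, mem_nilradical] at h1
    exact not_isNilpotent_one h1
  haveI : Nontrivial (S ⧸ 𝔫) := Ideal.Quotient.nontrivial_iff.2 hne
  have hp0 : ((p : ℕ) : S ⧸ 𝔫) = 0 := by
    have : (Ideal.Quotient.mk 𝔫) (p : S) = 0 := by
      rw [Ideal.Quotient.eq_zero_iff_mem, h𝔫, mem_nilradical]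
      exact hp
    rwa [map_natCast] at this
  haveI : CharP (S ⧸ 𝔫) p := (CharP.charP_iff_prime_eq_zero (Fact.out : p.Prime)).2 hp0
  rw [mem_WI]
  intro n
  set wb : WittVector p (S ⧸ 𝔫) := WittVector.map (Ideal.Quotient.mk 𝔫) w with hwb
  have h0 : wb * (p : WittVector p (S ⧸ 𝔫)) = 0 := by
    rw [mul_comm, hwb]
    have := congrArg (WittVector.map (p := p) (Ideal.Quotient.mk 𝔫)) hw
    rwa [map_mul, map_natCast, map_zero] at this
  have h1 := mul_charP_coeff_succ wb n
  rw [h0, WittVector.zero_coeff, hwb, WittVector.map_coeff] at h1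
  have h2 : (w.coeff n) ^ p ∈ 𝔫 := by
    rw [← Ideal.Quotient.eq_zero_iff_mem, map_pow]
    exact h1.symm
  rw [h𝔫, mem_nilradical] at h2 ⊢
  obtain ⟨k, hk⟩ := h2
  exact ⟨p * k, by rw [pow_mul]; exact hk⟩

theorem main (p : ℕ) [Fact p.Prime]
    (S : Type u) [CommRing S] (hp : IsNilpotent (p : S)) (hn : IsNilpotent (nilradical S))
    (P P' : Type v) [AddCommGroup P] [Module (WittVector p S) P] [AddCommGroup P'] [Module (WittVector p S) P']
    (D : W4c1extbt610.Display3n p S P) (D' : W4c1extbt610.Display3n p S P')
    (hD : Dieu.IsDisplay D) (hD' : Dieu.IsDisplay D')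
    (ψ : P →ₗ[WittVector p S] P') (hψ : W4c1extbt610.IsHom D D' ψ)
    (h : (p : WittVector p S) • ψ = 0) : ψ = 0 := by
  rcases subsingleton_or_nontrivial S with hS | hS
  · -- trivial ring: everything is zero
    haveI : Subsingleton (WittVector p S) := by
      refine ⟨fun a b => ?_⟩
      ext n
      exact Subsingleton.elim _ _
    haveI : Subsingleton P' := Module.subsingleton (WittVector p S) P'
    ext x
    exact Subsingleton.elim _ _
  · refine rigidity hp D D' hD ψ hψ (nilradical S) hn ?_
    intro x
    haveI := D'.finite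
    haveI := D'.projective
    obtain ⟨n, f, g, -, -, hfg⟩ :=
      Module.Finite.exists_comp_eq_id_of_projective (WittVector p S) P'
    have hx : (p : WittVector p S) • ψ x = 0 := by
      have := LinearMap.congr_fun h x
      rwa [LinearMap.smul_apply, LinearMap.zero_apply] at this
    have hmem : ∀ j, g (ψ x) j ∈ (WI (nilradical S) : Ideal (WittVector p S)) := by
      intro j
      refine mem_WI_nilradical_of_p_mul_eq_zero p S hp _ ?_
      have : g ((p : WittVector p S) • ψ x) j = 0 := by rw [hx, map_zero]; rfl
      rwa [map_smul, Pi.smul_apply, smul_eq_mul] at this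
    have hdec : ψ x = ∑ j, g (ψ x) j • f (Pi.single j 1) := by
      have h1 : ψ x = f (g (ψ x)) := by
        have := LinearMap.congr_fun hfg (ψ x)
        rw [LinearMap.comp_apply, LinearMap.id_apply] at this
        exact this.symm
      conv_lhs => rw [h1]
      conv_lhs => rw [← Finset.univ_sum_single (g (ψ x))]
      rw [map_sum]
      refine Finset.sum_congr rfl fun j _ => ?_
      have : (Pi.single j (g (ψ x) j) : Fin n → WittVector p S) =
          g (ψ x) j • Pi.single j 1 := by
        rw [← Pi.single_smul, smul_eq_mul, mul_one]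
      rw [this, map_smul]
    rw [hdec]
    exact Submodule.sum_mem _ fun j _ => Submodule.smul_mem_smul (hmem j) Submodule.mem_top



/-- Let p be a prime and S a commutative ring in which p is nilpotent and whose nilradical (the ideal of
nilpotent elements) is a nilpotent ideal; let (P, Q, F, V⁻¹) and (P', Q', F', V'⁻¹) be displays over
S, i.e. 3n-displays whose operators V# satisfy the nilpotence condition. Then the group of
homomorphisms of displays from P to P' has no p-torsion: a W(S)-linear ψ : P → P' which is a
homomorphism of 3n-displays and satisfies p·ψ = 0 is zero. (The published statement says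
torsion-free; primes other than p are units in S, and the published proof treats the prime p.) -/
theorem result (p : ℕ) [Fact p.Prime]
    (S : Type u) [CommRing S] (hp : IsNilpotent (p : S)) (hn : IsNilpotent (nilradical S))
    (P P' : Type v) [AddCommGroup P] [Module (WittVector p S) P] [AddCommGroup P'] [Module (WittVector p S) P']
    (D : W4c1extbt610.Display3n p S P) (D' : W4c1extbt610.Display3n p S P')
    (hD : Dieu.IsDisplay D) (hD' : Dieu.IsDisplay D')
    (ψ : P →ₗ[WittVector p S] P') (hψ : W4c1extbt610.IsHom D D' ψ)
    (h : (p : WittVector p S) • ψ = 0) : ψ = 0 := by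
  exact main p S hp hn P P' D D' hD hD' ψ hψ h

end Groth.Agent.S16544
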