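import Groth.Statements.S16576
import Mathlib
import Groth.Agent.Lib.Helper17.C2Flat
import Groth.Agent.Lib.Helper17.FFMin
import Groth.Agent.Lib.Helper24.CplFlat
import Groth.Agent.Lib.Helper24.UniCpl1
import Groth.Agent.S0542
import Groth.Agent.S0568

set_option autoImplicit false
set_option linter.style.haveILetI false
universe u
open CAlg

namespace Groth.Agent.S16576

/-- Let A → B be a flat local homomorphism of Noetherian local rings and let Â, B̂ be their completions
at the maximal ideals. If every irreducible component of Spec Â has dimension at least 2, then every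
irreducible component of Spec B̂ has dimension at least 2. (This is the c_2 condition in its
completed form; globally: the preimage of a c_2 closed subset under a flat morphism of Noetherian
schemes is c_2, in particular the condition is invariant under Zariski and étale localization.) -/
theorem result
    (A B : Type u) [CommRing A] [CommRing B] [IsNoetherianRing A] [IsNoetherianRing B]
    [IsLocalRing A] [IsLocalRing B] (f : A →+* B) [IsLocalHom f] (hf : f.Flat)
    (hA : ∀ q ∈ minimalPrimes (AdicCompletion (IsLocalRing.maximalIdeal A) A), (2 : WithBot ℕ∞) ≤ ringKrullDim (AdicCompletion (IsLocalRing.maximalIdeal A) A ⧸ q)) :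
    ∀ q ∈ minimalPrimes (AdicCompletion (IsLocalRing.maximalIdeal B) B), (2 : WithBot ℕ∞) ≤ ringKrullDim (AdicCompletion (IsLocalRing.maximalIdeal B) B ⧸ q) := by
  classical
  letI : Algebra A B := f.toAlgebra
  haveI hlocf : IsLocalHom (algebraMap A B) := ‹IsLocalHom f›
  haveI hflat : Module.Flat A B := hf
  letI : Algebra (AdicCompletion (IsLocalRing.maximalIdeal A) A)
      (AdicCompletion (IsLocalRing.maximalIdeal B) B) :=
    (Groth.Agent.Lib.Helper24.CplFlat.cplMap A B).toAlgebra
  haveI : Module.Flat (AdicCompletion (IsLocalRing.maximalIdeal A) A)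
      (AdicCompletion (IsLocalRing.maximalIdeal B) B) :=
    Groth.Agent.Lib.Helper24.CplFlat.flat_cplMap A B
  haveI : IsLocalHom (algebraMap (AdicCompletion (IsLocalRing.maximalIdeal A) A)
      (AdicCompletion (IsLocalRing.maximalIdeal B) B)) :=
    Groth.Agent.Lib.Helper24.CplFlat.isLocalHom_cplMap A B
  haveI : IsNoetherianRing (AdicCompletion (IsLocalRing.maximalIdeal A) A) :=
    Groth.Agent.S0542.result A _ (IsLocalRing.maximalIdeal A).fg_of_isNoetherianRing
  haveI : IsNoetherianRing (AdicCompletion (IsLocalRing.maximalIdeal B) B) :=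
    Groth.Agent.S0542.result B _ (IsLocalRing.maximalIdeal B).fg_of_isNoetherianRing
  haveI hcomplete : IsAdicComplete
      (IsLocalRing.maximalIdeal (AdicCompletion (IsLocalRing.maximalIdeal A) A))
      (AdicCompletion (IsLocalRing.maximalIdeal A) A) := by
    rw [AdicCompletion.maximalIdeal_eq_map]
    exact (IsAdicComplete.map_algebraMap_iff (R := A)
      (S := AdicCompletion (IsLocalRing.maximalIdeal A) A) (I := IsLocalRing.maximalIdeal A)
      (M := AdicCompletion (IsLocalRing.maximalIdeal A) A)).mpr
      (AdicCompletion.isAdicComplete (IsNoetherian.noetherian (IsLocalRing.maximalIdeal A)))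
  haveI : HenselianLocalRing (AdicCompletion (IsLocalRing.maximalIdeal A) A) :=
    Groth.Agent.Lib.Helper24.UniCpl.henselianLocalRing_of_isAdicComplete _
  have hN : CAlg.IsNagata (AdicCompletion (IsLocalRing.maximalIdeal A) A) :=
    Groth.Agent.S0568.result _
  intro q hq
  exact Groth.Agent.Lib.helper17.C2Flat.two_le_dim_quotient_of_flat
    (AdicCompletion (IsLocalRing.maximalIdeal A) A)
    (AdicCompletion (IsLocalRing.maximalIdeal B) B) hN q hq
    (hA _ (Groth.Agent.Lib.helper17.FFMin.mapsTo_minimalPrimes_of_flat _ _ hq))

end Groth.Agent.S16576
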