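import Groth.Statements.S16577
import Groth.Agent.Lib.Helper24.HensDim
-- import your own Groth.Agent.* helpers here

set_option autoImplicit false
universe u
open Hensel

namespace Groth.Agent.S16577

/-- Let A be a Noetherian local ring with a strict henselization S', and p a prime ideal of A. Call p an
immediate étale generization of the closed point when the strict henselization S'/pS' of A/p has an
irreducible component of dimension 1, that is, some minimal prime P over pS' has dim S'/P = 1. Then
p is an immediate étale generization of the closed point if and only if p is the contraction of some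
prime ideal P of S' with dim S'/P = 1. -/
theorem result
    (A : Type u) [CommRing A] [IsNoetherianRing A] [IsLocalRing A]
    (S' : Type u) [CommRing S'] [IsLocalRing S'] [Algebra A S'] [IsLocalHom (algebraMap A S')]
    [Hensel.IsStrictHenselization A S']
    (p : Ideal A) [p.IsPrime] :
    (∃ P ∈ (p.map (algebraMap A S')).minimalPrimes, ringKrullDim (S' ⧸ P) = 1) ↔
    (∃ P : Ideal S', P.IsPrime ∧ P.comap (algebraMap A S') = p ∧ ringKrullDim (S' ⧸ P) = 1) := by
  have hff : Module.FaithfullyFlat A S' :=
    Groth.Agent.Lib.Helper24.StrictHens.faithfullyFlat_of_isStrictHenselization A S'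
  have H : ∀ x : S', ∃ (G : Type u) (_ : CommRing G) (_ : Algebra A G)
      (_ : Algebra.QuasiFinite A G) (φ : G →ₐ[A] S'), x ∈ Set.range φ := by
    intro x
    obtain ⟨e⟩ := Groth.Agent.Lib.Helper24.StrictHens.exists_algEquiv_SH A S'
    obtain ⟨i, y, hy⟩ := Groth.Agent.Lib.Helper24.StrictHens.exists_ofS (e.symm x)
    refine ⟨i.G, inferInstance, inferInstance, inferInstance,
      e.toAlgHom.comp (Groth.Agent.Lib.Helper24.HensDim.ofSₐ i), y, ?_⟩
    show e (Groth.Agent.Lib.Helper24.StrictHens.ofS i y) = x
    rw [hy, AlgEquiv.apply_symm_apply]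
  constructor
  · rintro ⟨P, hP, hdim⟩
    have hPp : P.IsPrime := hP.1.1
    refine ⟨P, hPp, ?_, hdim⟩
    have hle : p ≤ P.comap (algebraMap A S') := Ideal.map_le_iff_le_comap.1 hP.1.2
    by_contra hne
    have hlt : p < P.under A := lt_of_le_of_ne hle (fun h => hne h.symm)
    obtain ⟨P₁, hP₁le, hP₁p, hP₁lo⟩ :=
      Algebra.HasGoingDown.exists_ideal_le_liesOver_of_lt (R := A) (S := S') (p := p) P hlt
    have h1 : p.map (algebraMap A S') ≤ P₁ := by
      rw [Ideal.map_le_iff_le_comap]
      exact (hP₁lo.over).le
    have h2 : P ≤ P₁ := hP.2 ⟨hP₁p, h1⟩ hP₁le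
    have h3 : P₁ = P := le_antisymm hP₁le h2
    apply hne
    rw [← h3]
    exact hP₁lo.over.symm
  · rintro ⟨P, hPp, hPc, hdim⟩
    refine ⟨P, ?_, hdim⟩
    have hle : p.map (algebraMap A S') ≤ P := by
      rw [Ideal.map_le_iff_le_comap, hPc]
    obtain ⟨P', hP', hP'le⟩ := Ideal.exists_minimalPrimes_le hle
    have hP'p : P'.IsPrime := hP'.1.1
    have h1 : p ≤ P'.under A := Ideal.map_le_iff_le_comap.1 hP'.1.2
    have h2 : P'.under A ≤ P.under A := Ideal.comap_mono hP'le
    have h3 : P.under A = p := hPc
    by_cases heq : P' = P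
    · rw [← heq]
      exact hP'
    · exfalso
      have hlt : P' < P := lt_of_le_of_ne hP'le heq
      have := Groth.Agent.Lib.Helper24.IndQuasiFiniteDim.under_lt_under_of_ind_quasiFinite
        A S' H P' P hlt
      rw [h3] at this
      exact absurd h1 (not_le_of_gt this)

end Groth.Agent.S16577
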