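import Groth.Statements.S16583
import Mathlib
import Groth.Prelude
import Groth.Agent.Lib.Helper1.HensLocalSection

set_option autoImplicit false
universe u
open CategoryTheory AlgebraicGeometry
open EtCore

namespace Groth.Agent.S16583

open CategoryTheory.Limits

/-- strengthening of `HensLocalSection.exists_local_section`: the section passes through `w`. -/
theorem exists_local_section_through {W U : Scheme.{u}} (f : W ⟶ U) [Etale f] (w : W)
    [HenselianLocalRing (U.presheaf.stalk (f w))]
    [IsSepClosed (IsLocalRing.ResidueField (U.presheaf.stalk (f w)))] :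
    ∃ (V : U.Opens) (hV : f w ∈ V) (s : V.toScheme ⟶ W), s ≫ f = V.ι ∧ s ⟨f w, hV⟩ = w := by
  have hiso : IsIso (f.residueFieldMap w) :=
    Groth.Agent.H1.HensLocalSection.isIso_residueFieldMap f w
  let y₁ : Spec (U.residueField (f w)) ⟶ W :=
    Spec.map (inv (f.residueFieldMap w)) ≫ W.fromSpecResidueField w
  have hy₁ : y₁ ≫ f = Spec.map (U.residue (f w)) ≫ U.fromSpecStalk (f w) := by
    change (Spec.map (inv (f.residueFieldMap w)) ≫ W.fromSpecResidueField w) ≫ f = _
    rw [Category.assoc, ← Scheme.Hom.SpecMap_residueFieldMap_fromSpecResidueField,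
      ← Spec.map_comp_assoc, IsIso.hom_inv_id, Spec.map_id, Category.id_comp]
    rfl
  let y : Spec (U.residueField (f w)) ⟶ pullback f (U.fromSpecStalk (f w)) :=
    pullback.lift y₁ (Spec.map (U.residue (f w))) hy₁
  have hy : y ≫ pullback.snd f (U.fromSpecStalk (f w)) = Spec.map (U.residue (f w)) :=
    pullback.lift_snd _ _ _
  have hE : Etale (pullback.snd f (U.fromSpecStalk (f w))) := inferInstance
  obtain ⟨σ, hσ1, hσ2⟩ := @Groth.Agent.Lib.helper5.HensSection.exists_section_of_etale
    (U.presheaf.stalk (f w)) _ ‹_› (pullback f (U.fromSpecStalk (f w)))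
    (pullback.snd f (U.fromSpecStalk (f w))) hE y hy
  obtain ⟨V, hxV, s, hs1, hs2⟩ := Groth.Agent.H1.SpreadOutFP.spread_out_of_finitePresentation'
    (𝟙 U) f (x := f w) (σ ≫ pullback.fst f (U.fromSpecStalk (f w))) (by
      rw [Category.assoc, pullback.condition, ← Category.assoc]
      erw [hσ1]
      exact (Category.id_comp _).trans (Category.comp_id _).symm)
  refine ⟨V, hxV, s, by simpa using hs2, ?_⟩
  -- evaluate at the closed point
  have h1 : (Spec.map (U.residue (f w)) ≫ σ ≫ pullback.fst f (U.fromSpecStalk (f w))) = y₁ := by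
    rw [← Category.assoc]
    erw [hσ2]
    exact pullback.lift_fst _ _ _
  have h2 : y₁ default = w := by
    change (Spec.map (inv (f.residueFieldMap w)) ≫ W.fromSpecResidueField w) default = w
    rw [Scheme.Hom.comp_apply]
    exact Scheme.fromSpecResidueField_apply _ _
  rw [hs1] at h1
  have h3 := congrArg (fun g : Spec (U.residueField (f w)) ⟶ W => g default) h1
  simp only [Scheme.Hom.comp_apply] at h3
  rw [h2] at h3
  have h4 : (V.fromSpecStalkOfMem (f w) hxV) ((Spec.map (U.residue (f w))) default)
      = (⟨f w, hxV⟩ : V.toScheme) := by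
    apply V.ι.injective
    rw [← Scheme.Hom.comp_apply, Scheme.Opens.fromSpecStalkOfMem_ι, Scheme.SpecMap_residue_apply,
      Scheme.fromSpecStalk_closedPoint]
    rfl
  rw [h4] at h3
  exact h3

theorem main
    (X Y : Scheme.{u}) (hX : ∀ x : X, IsField (X.presheaf.stalk x))
    (hX' : ∀ x : X, IsAlgClosed (X.residueField x))
    (f : Y ⟶ X) [Etale f] (y : Y) :
    ∃ (V : X.Opens) (s : (V : Scheme.{u}) ⟶ Y), f.base y ∈ V ∧ s ≫ f = V.ι ∧ y ∈ Set.range s.base := by
  haveI : HenselianLocalRing (X.presheaf.stalk (f y)) :=
    { is_henselian := fun p _ a₀ h₁ _ => by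
        have hbot : IsLocalRing.maximalIdeal (X.presheaf.stalk (f y)) = ⊥ :=
          IsLocalRing.isField_iff_maximalIdeal_eq.1 (hX (f y))
        rw [hbot, Ideal.mem_bot] at h₁
        exact ⟨a₀, h₁, by rw [sub_self]; exact Ideal.zero_mem _⟩ }
  haveI : IsAlgClosed (X.residueField (f y)) := hX' (f y)
  haveI : IsSepClosed (IsLocalRing.ResidueField (X.presheaf.stalk (f y))) :=
    inferInstanceAs (IsSepClosed (X.residueField (f y)))
  obtain ⟨V, hV, s, hs, hsy⟩ := exists_local_section_through f y
  exact ⟨V, s, hV, hs, ⟨⟨f y, hV⟩, hsy⟩⟩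

/-- Let X be a scheme such that every local ring of X is a field and every residue field of X is
algebraically closed, and let f : Y → X be an étale morphism. Then f is Zariski-locally trivial: for
every point y of Y there exist an open V of X containing f(y) and a section s : V → Y of f over V
whose image contains y. (The published lemma is stated for a specific scheme X^c attached to a
coherent scheme — the constructible topology of a suitable integral cover, which has these two
properties by construction; the row states the assertion for every scheme with these two properties,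
which is all the printed proof uses. The lemma's further assertions about the étale and Zariski
topoi, torsors and gerbes on X^c are not included.) -/
theorem result
    (X Y : Scheme.{u}) (hX : ∀ x : X, IsField (X.presheaf.stalk x))
    (hX' : ∀ x : X, IsAlgClosed (X.residueField x))
    (f : Y ⟶ X) [Etale f] (y : Y) :
    ∃ (V : X.Opens) (s : (V : Scheme.{u}) ⟶ Y), f.base y ∈ V ∧ s ≫ f = V.ι ∧ y ∈ Set.range s.base := by
  exact main X Y hX hX' f y

end Groth.Agent.S16583
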