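import Groth.Statements.S16597
import Mathlib
import Groth.Agent.S16598

set_option autoImplicit false
universe u v
open LGRing

namespace Groth.Agent.S16597

theorem free_aux {R : Type u} [CommRing R] (hR : LGRing.IsLGRing R) (d : ℕ) :
    ∀ (M : Type v) [AddCommGroup M] [Module R M] [Module.Finite R M] [Module.Projective R M],
      (∀ p : PrimeSpectrum R, Module.rankAtStalk M p = d) → Module.Free R M := by
  induction d with
  | zero =>
    intro M _ _ _ _ hd
    have h0 : Module.rankAtStalk (R := R) M = 0 := funext hd
    have : Subsingleton M := Module.rankAtStalk_eq_zero_iff_subsingleton.mp h0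
    exact Module.Free.of_subsingleton R M
  | succ d ih =>
    intro M _ _ _ _ hd
    rcases subsingleton_or_nontrivial R with hsub | hnt
    · have : Subsingleton M := Module.subsingleton R M
      exact Module.Free.of_subsingleton R M
    -- fibres are nonzero
    have hM : ∀ (m : Ideal R) [m.IsMaximal], (m • (⊤ : Submodule R M)) ≠ ⊤ := by
      intro m hm htop
      obtain ⟨r, hr1, hr2⟩ := Submodule.exists_sub_one_mem_and_smul_eq_zero_of_fg_of_le_smul m
        (⊤ : Submodule R M) Module.Finite.fg_top (le_of_eq htop.symm)
      have hrm : r ∉ m := by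
        intro hr
        apply hm.ne_top
        rw [Ideal.eq_top_iff_one]
        have := m.sub_mem hr hr1
        simpa using this
      have hsupp : (⟨m, hm.isPrime⟩ : PrimeSpectrum R) ∉ Module.support R M := by
        rw [Module.notMem_support_iff']
        intro x
        exact ⟨r, hrm, hr2 x Submodule.mem_top⟩
      have h0 := (Module.rankAtStalk_eq_zero_iff_notMem_support (M := M) ⟨m, hm.isPrime⟩).mpr hsupp
      rw [hd] at h0
      exact Nat.succ_ne_zero d h0
    obtain ⟨x, f, hfx⟩ := Groth.Agent.S16598.exists_unimodular hR M hM
    -- split off the unimodular element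
    let l : R →ₗ[R] M := LinearMap.toSpanSingleton R M x
    have hl : f ∘ₗ l = LinearMap.id := by
      ext
      simp [l, hfx]
    have hex : Function.Exact (LinearMap.ker f).subtype f := by
      intro y
      simp
    obtain ⟨e, he1, he2⟩ : ∃ e : M ≃ₗ[R] (LinearMap.ker f) × R,
        (LinearMap.ker f).subtype = e.symm ∘ₗ LinearMap.inl R (LinearMap.ker f) R ∧
        f = LinearMap.snd R (LinearMap.ker f) R ∘ₗ e :=
      ((Function.Exact.split_tfae' (f := (LinearMap.ker f).subtype) (g := f) hex).out 0 2 rfl rfl).mp
        ⟨(LinearMap.ker f).injective_subtype, l, hl⟩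
    have hfinK : Module.Finite R (LinearMap.ker f) :=
      Module.Finite.of_surjective (LinearMap.fst R (LinearMap.ker f) R ∘ₗ e.toLinearMap)
        (fun y => ⟨e.symm (y, 0), by simp⟩)
    have hprojK : Module.Projective R (LinearMap.ker f) :=
      Module.Projective.of_split (e.symm.toLinearMap ∘ₗ LinearMap.inl R (LinearMap.ker f) R)
        (LinearMap.fst R (LinearMap.ker f) R ∘ₗ e.toLinearMap) (by ext y; simp)
    have hrank : Module.rankAtStalk (R := R) M =
        Module.rankAtStalk (R := R) (LinearMap.ker f) + Module.rankAtStalk (R := R) R := by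
      rw [Module.rankAtStalk_eq_of_equiv e, Module.rankAtStalk_prod]
    have hdK : ∀ p : PrimeSpectrum R, Module.rankAtStalk (LinearMap.ker f) p = d := by
      intro p
      have := congrFun hrank p
      rw [Pi.add_apply, hd p, Module.rankAtStalk_self, Pi.one_apply] at this
      omega
    have hfreeK : Module.Free R (LinearMap.ker f) := ih (LinearMap.ker f) hdK
    exact Module.Free.of_equiv e.symm

/-- Let R be an LG-ring and M a finite locally free (finitely generated projective) R-module of constant
rank. Then M is free. In particular invertible R-modules are trivial: Pic(R) = 0. -/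
theorem result {R : Type u} [CommRing R] (hR : LGRing.IsLGRing R)
    (M : Type v) [AddCommGroup M] [Module R M] [Module.Finite R M] [Module.Projective R M] (d : ℕ)
    (hd : ∀ p : PrimeSpectrum R, Module.rankAtStalk M p = d) : Module.Free R M :=
  free_aux hR d M hd

end Groth.Agent.S16597
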