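import Groth.Statements.S16599
import Mathlib

set_option autoImplicit false
open AlgebraicGeometry
universe u
open LGRing

namespace Groth.Agent.S16599

/-- Let R be an LG-ring, n ≥ 0, and U an open quasi-compact subscheme of affine n-space Spec R[X₁, …,
Xₙ]. If U has an (R ⧸ m)-valued point over R for every maximal ideal m of R, then U has an R-valued
point: some n-tuple x over R defines a section Spec R ⟶ Spec R[X₁, …, Xₙ] with image inside U. -/
theorem result {R : Type u} [CommRing R] (hR : LGRing.IsLGRing R)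
    (n : ℕ) (U : (Spec (CommRingCat.of (MvPolynomial (Fin n) R))).Opens)
    (hU : IsCompact (U : Set ↥(Spec (CommRingCat.of (MvPolynomial (Fin n) R)))))
    (h : ∀ (m : Ideal R) [m.IsMaximal], ∃ x : Fin n → R ⧸ m,
      Set.range (Spec.map (CommRingCat.ofHom (MvPolynomial.eval₂Hom (Ideal.Quotient.mk m) x))).base ⊆
        (U : Set ↥(Spec (CommRingCat.of (MvPolynomial (Fin n) R))))) :
    ∃ x : Fin n → R, Set.range (Spec.map (CommRingCat.ofHom (MvPolynomial.eval x))).base ⊆
      (U : Set ↥(Spec (CommRingCat.of (MvPolynomial (Fin n) R)))) := by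
  classical
  obtain ⟨t, ht⟩ := (PrimeSpectrum.isCompact_isOpen_iff
    (s := U.1)).mp ⟨hU, U.2⟩
  -- enumerate `t`
  obtain ⟨r, g, hg⟩ : ∃ (r : ℕ) (g : Fin r → MvPolynomial (Fin n) R), Set.range g = (t : Set _) := by
    refine ⟨t.card, fun k => (t.equivFin.symm k).1, ?_⟩
    ext f
    constructor
    · rintro ⟨k, rfl⟩
      exact (t.equivFin.symm k).2
    · intro hf
      exact ⟨t.equivFin ⟨f, hf⟩, by simp⟩
  rw [← hg] at ht
  -- membership criterion
  have hmem : ∀ {B : Type u} [CommRing B] (φ : MvPolynomial (Fin n) R →+* B),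
      Set.range (Spec.map (CommRingCat.ofHom φ)).base ⊆
        (U : Set ↥(Spec (CommRingCat.of (MvPolynomial (Fin n) R)))) ↔
      ∀ q : PrimeSpectrum B, ∃ k, φ (g k) ∉ q.asIdeal := by
    intro B _ φ
    rw [Set.range_subset_iff]
    refine forall_congr' fun q => ?_
    have e1 : ((Spec.map (CommRingCat.ofHom φ)).base q ∈
        (U : Set ↥(Spec (CommRingCat.of (MvPolynomial (Fin n) R))))) ↔
        (PrimeSpectrum.comap φ q : PrimeSpectrum (MvPolynomial (Fin n) R)) ∈
          (PrimeSpectrum.zeroLocus (Set.range g))ᶜ := by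
      rw [ht]; rfl
    rw [e1, Set.mem_compl_iff, PrimeSpectrum.mem_zeroLocus, Set.range_subset_iff]
    push Not
    rfl
  -- the polynomial
  let G : MvPolynomial (Fin (n + r)) R :=
    ∑ k : Fin r, MvPolynomial.X (Fin.natAdd n k) * MvPolynomial.rename (Fin.castAdd r) (g k)
  have hG : ∀ {S : Type u} [CommRing S] [Algebra R S] (s : Fin (n + r) → S),
      MvPolynomial.aeval s G =
        ∑ k : Fin r, s (Fin.natAdd n k) * MvPolynomial.aeval (s ∘ Fin.castAdd r) (g k) := by
    intro S _ _ s
    simp only [G, map_sum, map_mul, MvPolynomial.aeval_X, MvPolynomial.aeval_rename]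
  have hrep : LGRing.RepresentsUnit G R := by
    apply hR
    intro m hm
    obtain ⟨x, hx⟩ := h m
    have hdom : IsDomain (R ⧸ m) := Ideal.Quotient.isDomain m
    obtain ⟨k, hk⟩ := (hmem _).mp hx ⟨⊥, Ideal.isPrime_bot⟩
    have hk' : MvPolynomial.eval₂Hom (Ideal.Quotient.mk m) x (g k) ≠ 0 := hk
    refine ⟨Fin.addCases x (fun k' => if k' = k then 1 else 0), ?_⟩
    rw [hG]
    have hcomp : (Fin.addCases x (fun k' => if k' = k then (1 : R ⧸ m) else 0) : Fin (n + r) → R ⧸ m) ∘
        Fin.castAdd r = x := by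
      funext j
      simp
    simp only [Fin.addCases_right, hcomp, ite_mul, one_mul, zero_mul, Finset.sum_ite_eq',
      Finset.mem_univ, if_true]
    have hfield := (Ideal.Quotient.maximal_ideal_iff_isField_quotient m).mp hm
    have hne : MvPolynomial.aeval x (g k) ≠ (0 : R ⧸ m) := hk'
    obtain ⟨b, hb⟩ := hfield.mul_inv_cancel hne
    exact IsUnit.of_mul_eq_one _ hb
  obtain ⟨s, hs⟩ := hrep
  rw [hG] at hs
  refine ⟨s ∘ Fin.castAdd r, (hmem _).mpr fun q => ?_⟩
  by_contra hcon
  push Not at hcon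
  apply q.2.ne_top
  apply Ideal.eq_top_of_isUnit_mem _ _ hs
  refine Ideal.sum_mem _ fun k _ => Ideal.mul_mem_left _ _ ?_
  have := hcon k
  simpa [MvPolynomial.aeval_eq_eval] using this

end Groth.Agent.S16599
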