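import Groth.Statements.S16600
import Mathlib
import Groth.Agent.S16599

set_option autoImplicit false
open AlgebraicGeometry
universe u
open LGRing

namespace Groth.Agent.S16600

/-- Let R be an LG-ring, M a finite locally free R-module, W(M) = Spec Sym(M^∨) the vector bundle of M
(its points with values in an R-algebra R' are the R-algebra maps Sym(M^∨) → R', i.e. the R-linear
maps M^∨ → R'), and U ⊆ W(M) an open quasi-compact subscheme. Then U(R) is non-empty if and only if
U(R ⧸ m) is non-empty for every maximal ideal m of R. -/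
theorem result {R : Type u} [CommRing R]
    (hR : LGRing.IsLGRing R) (M : Type u) [AddCommGroup M] [Module R M] [Module.Finite R M] [Module.Projective R M]
    (U : (Spec (CommRingCat.of (SymmetricAlgebra R (Module.Dual R M)))).Opens)
    (hU : IsCompact (U : Set ↥(Spec (CommRingCat.of (SymmetricAlgebra R (Module.Dual R M)))))) :
    (∃ φ : Module.Dual R M →ₗ[R] R,
      Set.range (Spec.map (CommRingCat.ofHom (SymmetricAlgebra.lift φ).toRingHom)).base ⊆
        (U : Set ↥(Spec (CommRingCat.of (SymmetricAlgebra R (Module.Dual R M)))))) ↔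
    ∀ (m : Ideal R) [m.IsMaximal], ∃ φ : Module.Dual R M →ₗ[R] (R ⧸ m),
      Set.range (Spec.map (CommRingCat.ofHom (SymmetricAlgebra.lift φ).toRingHom)).base ⊆
        (U : Set ↥(Spec (CommRingCat.of (SymmetricAlgebra R (Module.Dual R M))))) := by
  classical
  constructor
  · rintro ⟨φ, hφ⟩ m hm
    refine ⟨(Ideal.Quotient.mkₐ R m).toLinearMap ∘ₗ φ, ?_⟩
    have e1 : SymmetricAlgebra.lift ((Ideal.Quotient.mkₐ R m).toLinearMap ∘ₗ φ) =
        (Ideal.Quotient.mkₐ R m).comp (SymmetricAlgebra.lift φ) := by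
      apply SymmetricAlgebra.algHom_ext
      ext p
      simp
    have e2 : (SymmetricAlgebra.lift ((Ideal.Quotient.mkₐ R m).toLinearMap ∘ₗ φ)).toRingHom =
        (Ideal.Quotient.mk m).comp (SymmetricAlgebra.lift φ).toRingHom := by
      rw [e1]; rfl
    rw [e2, CommRingCat.ofHom_comp, Spec.map_comp]
    rintro _ ⟨y, rfl⟩
    exact hφ ⟨_, rfl⟩
  · intro h
    obtain ⟨n, f, gg, -, -, hfg⟩ :=
      Module.Finite.exists_comp_eq_id_of_projective R (Module.Dual R M)
    -- the linear map `P → R[X]`
    let lin : Module.Dual R M →ₗ[R] MvPolynomial (Fin n) R :=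
      ∑ j : Fin n, (LinearMap.toSpanSingleton R (MvPolynomial (Fin n) R) (MvPolynomial.X j)) ∘ₗ
        (LinearMap.proj j) ∘ₗ gg
    have hlin : ∀ p, lin p = ∑ j : Fin n, gg p j • MvPolynomial.X j := by
      intro p
      simp [lin, LinearMap.sum_apply]
    let α : SymmetricAlgebra R (Module.Dual R M) →ₐ[R] MvPolynomial (Fin n) R :=
      SymmetricAlgebra.lift lin
    -- evaluation
    have hkey : ∀ {S : Type u} [CommRing S] [Algebra R S] (x : Fin n → S)
        (φ : Module.Dual R M →ₗ[R] S), (∀ p, φ p = ∑ j : Fin n, gg p j • x j) →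
        SymmetricAlgebra.lift φ = (MvPolynomial.aeval x).comp α := by
      intro S _ _ x φ hφ
      apply SymmetricAlgebra.algHom_ext
      ext p
      simp [α, hlin, hφ, map_sum, MvPolynomial.aeval_X]
    have hrec : ∀ {S : Type u} [CommRing S] [Algebra R S] (φ : Module.Dual R M →ₗ[R] S) (p),
        φ p = ∑ j : Fin n, gg p j • (fun j => φ (f (Pi.single j 1))) j := by
      intro S _ _ φ p
      have h1 : p = f (gg p) := by
        have := congrArg (fun l => l p) hfg
        simpa using this.symm
      conv_lhs => rw [h1]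
      have h2 : gg p = ∑ j : Fin n, gg p j • (Pi.single j 1 : Fin n → R) := by
        funext i
        simp [Finset.sum_apply, Pi.single_apply]
      conv_lhs => rw [h2]
      simp only [map_sum, map_smul]
    -- preimage
    let a : Spec (CommRingCat.of (MvPolynomial (Fin n) R)) ⟶
        Spec (CommRingCat.of (SymmetricAlgebra R (Module.Dual R M))) :=
      Spec.map (CommRingCat.ofHom α.toRingHom)
    let U' : (Spec (CommRingCat.of (MvPolynomial (Fin n) R))).Opens := a ⁻¹ᵁ U
    have hU' : IsCompact (U' : Set ↥(Spec (CommRingCat.of (MvPolynomial (Fin n) R)))) :=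
      QuasiCompact.isCompact_preimage (f := a) _ U.2 hU
    obtain ⟨x, hx⟩ := Groth.Agent.S16599.result hR n U' hU' (by
      intro m hm
      obtain ⟨φ, hφ⟩ := h m
      refine ⟨fun j => φ (f (Pi.single j 1)), ?_⟩
      have e := hkey _ φ (hrec φ)
      have e2 : (SymmetricAlgebra.lift φ).toRingHom =
          (MvPolynomial.eval₂Hom (Ideal.Quotient.mk m) fun j => φ (f (Pi.single j 1))).comp
            α.toRingHom := by
        rw [e]; rfl
      rw [e2, CommRingCat.ofHom_comp, Spec.map_comp] at hφ
      rintro _ ⟨y, rfl⟩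
      exact hφ ⟨y, rfl⟩)
    let φ : Module.Dual R M →ₗ[R] R :=
      ∑ j : Fin n, (LinearMap.toSpanSingleton R R (x j)) ∘ₗ (LinearMap.proj j) ∘ₗ gg
    have hφ : ∀ p, φ p = ∑ j : Fin n, gg p j • x j := by
      intro p
      simp [φ, LinearMap.sum_apply]
    refine ⟨φ, ?_⟩
    have e := hkey x φ hφ
    have e2 : (SymmetricAlgebra.lift φ).toRingHom =
        (MvPolynomial.eval x).comp α.toRingHom := by
      rw [e]; ext p <;> simp [MvPolynomial.aeval_eq_eval]
    rw [e2, CommRingCat.ofHom_comp, Spec.map_comp]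
    rintro _ ⟨y, rfl⟩
    exact hx ⟨y, rfl⟩

end Groth.Agent.S16600
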