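import Groth.Statements.S16601
import Mathlib
import Groth.Agent.S16600

set_option autoImplicit false
open AlgebraicGeometry
universe u
open LGRing

namespace Groth.Agent.S16601

/-- Let R be an LG-ring whose residue fields at maximal ideals are all infinite (R satisfies the
primitive criterion), M a finite locally free R-module with vector bundle W(M) = Spec Sym(M^∨), and
U ⊆ W(M) an open quasi-compact subscheme which is fibrewise dense over the closed points of Spec R
(for every maximal ideal m, the trace of U on the closed fibre Spec (Sym(M^∨) ⧸ m Sym(M^∨)) is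
dense). Then U has an R-valued point. (The source asks U to be R-dense in W(M); only density of the
closed fibres is used, which is what is assumed here.) -/
theorem result {R : Type u} [CommRing R]
    (hR : LGRing.IsLGRing R) (hinf : ∀ (m : Ideal R) [m.IsMaximal], Infinite (R ⧸ m))
    (M : Type u) [AddCommGroup M] [Module R M] [Module.Finite R M] [Module.Projective R M]
    (U : (Spec (CommRingCat.of (SymmetricAlgebra R (Module.Dual R M)))).Opens)
    (hU : IsCompact (U : Set ↥(Spec (CommRingCat.of (SymmetricAlgebra R (Module.Dual R M))))))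
    (hdense : ∀ (m : Ideal R) [m.IsMaximal],
      Dense ((Spec.map (CommRingCat.ofHom (Ideal.Quotient.mk
        (Ideal.map (algebraMap R (SymmetricAlgebra R (Module.Dual R M))) m)))).base ⁻¹'
          (U : Set ↥(Spec (CommRingCat.of (SymmetricAlgebra R (Module.Dual R M))))))) :
    ∃ φ : Module.Dual R M →ₗ[R] R,
      Set.range (Spec.map (CommRingCat.ofHom (SymmetricAlgebra.lift φ).toRingHom)).base ⊆
        (U : Set ↥(Spec (CommRingCat.of (SymmetricAlgebra R (Module.Dual R M))))) := by
  classical
  apply (Groth.Agent.S16600.result hR M U hU).mpr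
  intro m hm
  -- notation
  let Sy := SymmetricAlgebra R (Module.Dual R M)
  let J : Ideal Sy := Ideal.map (algebraMap R Sy) m
  -- `U` as the complement of a zero locus
  obtain ⟨t, ht⟩ := (PrimeSpectrum.isCompact_isOpen_iff (s := U.1)).mp ⟨hU, U.2⟩
  have hmem : ∀ {B : Type u} [CommRing B] (φ : Sy →+* B)
      (q : ↥(Spec (CommRingCat.of B))),
      (Spec.map (CommRingCat.ofHom φ)).base q ∈
        (U : Set ↥(Spec (CommRingCat.of Sy))) ↔ ∃ g ∈ t, φ g ∉ q.asIdeal := by
    intro B _ φ q
    have e1 : ((Spec.map (CommRingCat.ofHom φ)).base q ∈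
        (U : Set ↥(Spec (CommRingCat.of Sy)))) ↔
        (PrimeSpectrum.comap φ q : PrimeSpectrum Sy) ∈
          (PrimeSpectrum.zeroLocus (t : Set Sy))ᶜ := by
      rw [ht]; rfl
    rw [e1, Set.mem_compl_iff, PrimeSpectrum.mem_zeroLocus, Set.not_subset]
    rfl
  -- `J ≠ ⊤`
  let ρ : Sy →+* R ⧸ m :=
    (Ideal.Quotient.mk m).comp (SymmetricAlgebra.algebraMapInv (R := R) (M := Module.Dual R M)).toRingHom
  have hJρ : J ≤ RingHom.ker ρ := by
    rw [Ideal.map_le_iff_le_comap]
    intro r hr
    change ρ (algebraMap R Sy r) = 0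
    have : ρ (algebraMap R Sy r) = Ideal.Quotient.mk m r := by
      simp [ρ]
    rw [this]
    exact Ideal.Quotient.eq_zero_iff_mem.mpr hr
  have hJ : J ≠ ⊤ := by
    intro hJ
    have h1 : (1 : Sy) ∈ RingHom.ker ρ := hJρ (hJ ▸ Submodule.mem_top)
    have h2 : (1 : R ⧸ m) = 0 := by simpa using h1
    have : (1 : R) ∈ m := Ideal.Quotient.eq_zero_iff_mem.mp (by simpa using h2)
    exact hm.ne_top ((Ideal.eq_top_iff_one m).mpr this)
  have hnt : Nontrivial (Sy ⧸ J) := Ideal.Quotient.nontrivial_iff.mpr hJ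
  have hne : Nonempty ↥(Spec (CommRingCat.of (Sy ⧸ J))) :=
    inferInstanceAs (Nonempty (PrimeSpectrum (Sy ⧸ J)))
  obtain ⟨q, hq⟩ := (hdense m).nonempty
  obtain ⟨g, hgt, hgq⟩ := (hmem _ q).mp hq
  have hgJ : g ∉ J := by
    intro hg
    apply hgq
    have : Ideal.Quotient.mk J g = 0 := Ideal.Quotient.eq_zero_iff_mem.mpr hg
    rw [this]
    exact Ideal.zero_mem _
  -- split `Dual R M` off a free module
  obtain ⟨n, f, gg, -, -, hfg⟩ :=
    Module.Finite.exists_comp_eq_id_of_projective R (Module.Dual R M)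
  have hfg' : ∀ p, f (gg p) = p := fun p => by
    have := congrArg (fun l => l p) hfg
    simpa using this
  let lin : Module.Dual R M →ₗ[R] MvPolynomial (Fin n) R :=
    ∑ j : Fin n, (LinearMap.toSpanSingleton R (MvPolynomial (Fin n) R) (MvPolynomial.X j)) ∘ₗ
      (LinearMap.proj j) ∘ₗ gg
  have hlin : ∀ p, lin p = ∑ j : Fin n, gg p j • MvPolynomial.X j := by
    intro p
    simp [lin, LinearMap.sum_apply]
  let α : Sy →ₐ[R] MvPolynomial (Fin n) R := SymmetricAlgebra.lift lin
  let β : MvPolynomial (Fin n) R →ₐ[R] Sy :=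
    MvPolynomial.aeval fun j => SymmetricAlgebra.ι R (Module.Dual R M) (f (Pi.single j 1))
  have hβα : β.comp α = AlgHom.id R Sy := by
    apply SymmetricAlgebra.algHom_ext
    ext p
    have h2 : gg p = ∑ j : Fin n, gg p j • (Pi.single j 1 : Fin n → R) := by
      funext i
      simp [Finset.sum_apply, Pi.single_apply]
    have h3 : p = ∑ j : Fin n, gg p j • f (Pi.single j 1) := by
      conv_lhs => rw [← hfg' p, h2]
      simp only [map_sum, map_smul]
    change β (α (SymmetricAlgebra.ι R (Module.Dual R M) p)) = SymmetricAlgebra.ι R (Module.Dual R M) p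
    have h4 : α (SymmetricAlgebra.ι R (Module.Dual R M) p) = lin p :=
      SymmetricAlgebra.lift_ι_apply lin p
    rw [h4, hlin]
    simp only [map_sum, map_smul, β, MvPolynomial.aeval_X]
    conv_rhs => rw [h3]
    simp only [map_sum, map_smul]
  have hαg : α g ∉ Ideal.map (MvPolynomial.C : R →+* MvPolynomial (Fin n) R) m := by
    intro hmem'
    apply hgJ
    have h1 : β (α g) ∈ Ideal.map β.toRingHom (Ideal.map (MvPolynomial.C : R →+* MvPolynomial (Fin n) R) m) :=
      Ideal.mem_map_of_mem _ hmem'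
    rw [Ideal.map_map] at h1
    have h2 : β.toRingHom.comp (MvPolynomial.C : R →+* MvPolynomial (Fin n) R) = algebraMap R Sy := by
      ext r
      simp [β]
    rw [h2] at h1
    have h3 : β (α g) = g := by
      have := congrArg (fun l => l g) hβα
      simpa using this
    rwa [h3] at h1
  have hp : MvPolynomial.map (Ideal.Quotient.mk m) (α g) ≠ 0 := by
    intro h0
    apply hαg
    have : α g ∈ RingHom.ker (MvPolynomial.map (Ideal.Quotient.mk m) : MvPolynomial (Fin n) R →+* _) := h0
    rwa [MvPolynomial.ker_map, Ideal.mk_ker] at this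
  have hdom : IsDomain (R ⧸ m) := Ideal.Quotient.isDomain m
  have hinf' : Infinite (R ⧸ m) := hinf m
  obtain ⟨x, hx⟩ : ∃ x : Fin n → R ⧸ m,
      MvPolynomial.eval x (MvPolynomial.map (Ideal.Quotient.mk m) (α g)) ≠ 0 := by
    by_contra hcon
    push Not at hcon
    apply hp
    apply MvPolynomial.funext
    intro x
    rw [hcon x, map_zero]
  let φ : Module.Dual R M →ₗ[R] R ⧸ m :=
    ∑ j : Fin n, (LinearMap.toSpanSingleton R (R ⧸ m) (x j)) ∘ₗ (LinearMap.proj j) ∘ₗ gg
  have hφ : ∀ p, φ p = ∑ j : Fin n, gg p j • x j := by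
    intro p
    simp [φ, LinearMap.sum_apply]
  have hlift : SymmetricAlgebra.lift φ = (MvPolynomial.aeval x).comp α := by
    apply SymmetricAlgebra.algHom_ext
    ext p
    simp [α, hlin, hφ, map_sum, MvPolynomial.aeval_X]
  refine ⟨φ, ?_⟩
  rintro _ ⟨y, rfl⟩
  rw [hmem]
  refine ⟨g, hgt, ?_⟩
  have hval : (SymmetricAlgebra.lift φ).toRingHom g =
      MvPolynomial.eval x (MvPolynomial.map (Ideal.Quotient.mk m) (α g)) := by
    rw [hlift]
    change MvPolynomial.aeval x (α g) = _
    rw [MvPolynomial.aeval_def, MvPolynomial.eval₂_eq_eval_map]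
    rfl
  rw [hval]
  intro hin
  have hfield := (Ideal.Quotient.maximal_ideal_iff_isField_quotient m).mp hm
  obtain ⟨b, hb⟩ := hfield.mul_inv_cancel hx
  apply y.2.ne_top
  rw [Ideal.eq_top_iff_one, ← hb]
  exact Ideal.mul_mem_right _ _ hin

end Groth.Agent.S16601
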