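import Groth.Statements.S16606
import Mathlib
import Groth.Agent.S16605

set_option autoImplicit false
open scoped TensorProduct
universe u v
open LGRing

namespace Groth.Agent.S16606

/-- Let R be an LG-ring, M₁, M₂ finite projective R-modules and N a faithfully projective R-module
(finite projective and faithful). If M₁ ⊗_R N ≅ M₂ ⊗_R N then M₁ ≅ M₂. -/
theorem result {R : Type u} [CommRing R]
    (hR : LGRing.IsLGRing R) (M₁ M₂ N : Type v) [AddCommGroup M₁] [Module R M₁] [Module.Finite R M₁]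
    [Module.Projective R M₁] [AddCommGroup M₂] [Module R M₂] [Module.Finite R M₂] [Module.Projective R M₂]
    [AddCommGroup N] [Module R N] [Module.Finite R N] [Module.Projective R N] [FaithfulSMul R N]
    (e : M₁ ⊗[R] N ≃ₗ[R] M₂ ⊗[R] N) : Nonempty (M₁ ≃ₗ[R] M₂) := by
  classical
  apply Groth.Agent.S16605.nonempty_linearEquiv_of_fibres hR M₁ M₂
  intro m hm
  letI : Field (R ⧸ m) := Ideal.Quotient.field m
  have e1 : Module.finrank (R ⧸ m) ((R ⧸ m) ⊗[R] (M₁ ⊗[R] N)) =
      Module.finrank (R ⧸ m) ((R ⧸ m) ⊗[R] (M₂ ⊗[R] N)) :=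
    LinearEquiv.finrank_eq (LinearEquiv.baseChange R (R ⧸ m) (M₁ ⊗[R] N) (M₂ ⊗[R] N) e)
  have e2 : ∀ (M : Type v) [AddCommGroup M] [Module R M] [Module.Finite R M],
      Module.finrank (R ⧸ m) ((R ⧸ m) ⊗[R] (M ⊗[R] N)) =
        Module.finrank (R ⧸ m) ((R ⧸ m) ⊗[R] M) * Module.finrank (R ⧸ m) ((R ⧸ m) ⊗[R] N) := by
    intro M _ _ _
    rw [LinearEquiv.finrank_eq
      (TensorProduct.AlgebraTensorModule.distribBaseChange R (R ⧸ m) M N),
      Module.finrank_tensorProduct]
  rw [e2 M₁, e2 M₂] at e1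
  -- the fibre of `N` is nonzero
  have hN : 0 < Module.finrank (R ⧸ m) ((R ⧸ m) ⊗[R] N) := by
    have hnt : Nontrivial ((R ⧸ m) ⊗[R] N) := by
      have htop : m • (⊤ : Submodule R N) ≠ ⊤ := by
        intro htop
        obtain ⟨r, hr1, hr2⟩ := Submodule.exists_sub_one_mem_and_smul_eq_zero_of_fg_of_le_smul m
          (⊤ : Submodule R N) Module.Finite.fg_top (le_of_eq htop.symm)
        have hr0 : r = 0 := by
          apply FaithfulSMul.eq_of_smul_eq_smul (α := N)
          intro x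
          rw [hr2 x Submodule.mem_top, zero_smul]
        rw [hr0, zero_sub] at hr1
        apply hm.ne_top
        rw [Ideal.eq_top_iff_one]
        simpa using m.neg_mem hr1
      have : Nontrivial (N ⧸ m • (⊤ : Submodule R N)) :=
        Submodule.Quotient.nontrivial_iff.mpr htop
      exact (TensorProduct.quotTensorEquivQuotSMul N m).toEquiv.nontrivial
    exact Module.finrank_pos
  have e3 : Module.finrank (R ⧸ m) ((R ⧸ m) ⊗[R] M₁) =
      Module.finrank (R ⧸ m) ((R ⧸ m) ⊗[R] M₂) :=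
    Nat.eq_of_mul_eq_mul_right hN e1
  exact ⟨(LinearEquiv.ofFinrankEq ((R ⧸ m) ⊗[R] M₁) ((R ⧸ m) ⊗[R] M₂) e3).restrictScalars R⟩

end Groth.Agent.S16606
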