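import Groth.Statements.S16619
import Mathlib
import Groth.Agent.Lib.Helper10.BrauerCorner

set_option autoImplicit false
open scoped TensorProduct
universe u
open Brauer

namespace Groth.Agent.S16619

set_option linter.style.haveILetI false
set_option linter.unusedSectionVars false

open Groth.Agent.Lib.Helper10.BrauerCorner Module

theorem main {R : Type u} [CommRing R]
    [ConnectedSpace (PrimeSpectrum R)] (A : Type u) [Ring A] [Algebra R A] [IsAzumaya R A] :
    ∃ (B : Type u) (_ : Ring B) (_ : Algebra R B) (_ : IsAzumaya R B) (P Q : Type u) (_ : AddCommGroup P)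
      (_ : Module R P) (_ : AddCommGroup Q) (_ : Module R Q),
      (∀ b : B, IsIdempotentElem b → b = 0 ∨ b = 1) ∧ Module.Finite R P ∧ Module.Projective R P ∧
      FaithfulSMul R P ∧ Module.Finite R Q ∧ Module.Projective R Q ∧ FaithfulSMul R Q ∧
      Nonempty (A ⊗[R] Module.End R P ≃ₐ[R] B ⊗[R] Module.End R Q) := by
  classical
  haveI : Nonempty (PrimeSpectrum R) := ConnectedSpace.toNonempty
  haveI : Nontrivial R := (PrimeSpectrum.nonempty_iff_nontrivial).mp inferInstance
  haveI : Nontrivial A := by
    refine ⟨⟨1, 0, fun h => ?_⟩⟩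
    have h1 : algebraMap R A 1 = algebraMap R A 0 := by rw [map_one, map_zero]; exact h
    exact one_ne_zero (FaithfulSMul.algebraMap_injective R A h1)
  let p₀ : PrimeSpectrum R := Classical.arbitrary _
  let n : A → ℕ := fun e => rankAtStalk (leftIdeal (R := R) e) p₀
  let S : Set A := {e | IsIdempotentElem e ∧ e ≠ 0}
  have hS : S.Nonempty := ⟨1, IsIdempotentElem.one, one_ne_zero⟩
  obtain ⟨e, ⟨he, hne⟩, hmin⟩ := WellFounded.has_min (measure n).wf S hS
  -- the corner
  haveI : Nontrivial he.Corner := by
    refine ⟨⟨1, 0, fun h => ?_⟩⟩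
    exact hne (congrArg Subtype.val h)
  haveI : FaithfulSMul R he.Corner := faithfulSMul_of_connected (R := R) he.Corner
  haveI hB : IsAzumaya R he.Corner := isAzumaya_corner he
  haveI : Module.Projective R (leftIdeal (R := R) e) := leftIdeal_projective he
  haveI : Nontrivial (leftIdeal (R := R) e) := by
    refine ⟨⟨⟨e, self_mem_leftIdeal he⟩, 0, fun h => ?_⟩⟩
    exact hne (congrArg Subtype.val h)
  haveI : FaithfulSMul R (leftIdeal (R := R) e) :=
    faithfulSMul_of_connected (R := R) (leftIdeal (R := R) e)
  refine ⟨he.Corner, inferInstance, inferInstance, hB, he.Corner, leftIdeal (R := R) e,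
    inferInstance, inferInstance, inferInstance, inferInstance, ?_, inferInstance, inferInstance,
    inferInstance, inferInstance, inferInstance, inferInstance, nonempty_algEquiv_corner he⟩
  -- trivial idempotents
  intro b hb
  by_contra hcon
  rw [not_or] at hcon
  obtain ⟨hb0, hb1⟩ := hcon
  have he' : IsIdempotentElem b.1 := congrArg Subtype.val hb.eq
  have hne' : b.1 ≠ 0 := fun h => hb0 (Subtype.ext h)
  have h1 : e * b.1 = b.1 := corner_left_mul he b
  have h2 : b.1 * e = b.1 := corner_mul_right he b
  have he'' : IsIdempotentElem (e - b.1) := by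
    show (e - b.1) * (e - b.1) = e - b.1
    rw [mul_sub, sub_mul, sub_mul, he.eq, he'.eq, h1, h2]
    abel
  have hne'' : e - b.1 ≠ 0 := fun h => hb1 (Subtype.ext (sub_eq_zero.mp h).symm)
  haveI : Module.Projective R (leftIdeal (R := R) b.1) := leftIdeal_projective he'
  haveI : Module.Projective R (leftIdeal (R := R) (e - b.1)) := leftIdeal_projective he''
  haveI : Nontrivial (leftIdeal (R := R) (e - b.1)) := by
    refine ⟨⟨⟨e - b.1, self_mem_leftIdeal he''⟩, 0, fun h => ?_⟩⟩
    exact hne'' (congrArg Subtype.val h)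
  have hrank : n e = n b.1 + n (e - b.1) := by
    show rankAtStalk (leftIdeal (R := R) e) p₀ = rankAtStalk (leftIdeal (R := R) b.1) p₀ +
      rankAtStalk (leftIdeal (R := R) (e - b.1)) p₀
    rw [rankAtStalk_eq_of_equiv (leftIdealSplit he he' h1 h2), rankAtStalk_prod]
    rfl
  have hpos : 0 < n (e - b.1) :=
    rankAtStalk_pos_of_connected (R := R) (leftIdeal (R := R) (e - b.1)) p₀
  exact hmin b.1 ⟨he', hne'⟩ (by show n b.1 < n e; omega)



/-- Let R be a connected commutative ring. Then every class of the Brauer group of R is represented by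
an Azumaya algebra B with idemp(B) = {0, 1}: for every Azumaya R-algebra A there are such a B and
faithfully projective R-modules P, Q with A ⊗_R End_R(P) ≅ B ⊗_R End_R(Q) as R-algebras. -/
theorem result {R : Type u} [CommRing R]
    [ConnectedSpace (PrimeSpectrum R)] (A : Type u) [Ring A] [Algebra R A] [IsAzumaya R A] :
    ∃ (B : Type u) (_ : Ring B) (_ : Algebra R B) (_ : IsAzumaya R B) (P Q : Type u) (_ : AddCommGroup P)
      (_ : Module R P) (_ : AddCommGroup Q) (_ : Module R Q),
      (∀ b : B, IsIdempotentElem b → b = 0 ∨ b = 1) ∧ Module.Finite R P ∧ Module.Projective R P ∧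
      FaithfulSMul R P ∧ Module.Finite R Q ∧ Module.Projective R Q ∧ FaithfulSMul R Q ∧
      Nonempty (A ⊗[R] Module.End R P ≃ₐ[R] B ⊗[R] Module.End R Q) := by
  exact main A

end Groth.Agent.S16619
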