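import Groth.Statements.S16620
import Groth.Agent.Lib.Helper14.KerMT2
import Groth.Agent.Lib.Helper14.MTProps
import Groth.Agent.Lib.Helper14.SplitQuot2
import Groth.Agent.Lib.Helper5.FppfImage5

set_option autoImplicit false
open CategoryTheory MonoidalCategory CartesianMonoidalCategory MonObj GrpObj AlgebraicGeometry
universe u
open SGA3x

namespace Groth.Agent.S16620

/-- Let S be a connected, normal, locally Noetherian scheme, T an S-torus and T₀ ⟶ T its unique maximal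
split subtorus, i.e. a split subtorus through which every split subtorus of T factors. Then every
cocharacter λ : 𝔾_m ⟶ T over S factors through T₀; this is the equality X_*(T₀)(S) = X_*(T)(S) of
groups of cocharacters defined over S. -/
theorem result {S : Scheme.{u}} [ConnectedSpace ↥S]
    [IsLocallyNoetherian S] (hnorm : ∀ x : ↥S, IsDomain (S.presheaf.stalk x) ∧ IsIntegrallyClosed (S.presheaf.stalk x))
    {T T₀ : Over S} [GrpObj T] [GrpObj T₀] (hT : Red.IsTorus T) (j₀ : T₀ ⟶ T) [IsMonHom j₀] [Mono j₀] (r₀ : ℕ)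
    (hT₀ : Red.IsSplitTorusWith (Fin r₀ → ℤ) T₀)
    (hmax : ∀ (T' : Over S) [GrpObj T'] (j' : T' ⟶ T) [IsMonHom j'] [Mono j'] (r' : ℕ),
      Red.IsSplitTorusWith (Fin r' → ℤ) T' → ∃ g : T' ⟶ T₀, g ≫ j₀ = j')
    (lam : Red.Gm S ⟶ T) [IsMonHom lam] : ∃ mu : Red.Gm S ⟶ T₀, mu ≫ j₀ = lam := by
  haveI : AddGroup.FG ℤ := Module.Finite.iff_addGroup_fg.mp inferInstance
  -- `𝔾_m` is a split torus of rank one
  haveI hI := Groth.Agent.Lib.Helper14.DiagHom3.isIso_DSmap (S := S)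
    (AddEquiv.funUnique (Fin 1) ℤ)
  haveI : IsMonHom (Red.DSmap S (AddEquiv.funUnique (Fin 1) ℤ).toAddMonoidHom) :=
    Groth.Agent.Lib.helper15.DSMap.isMonHom_DSmap _ _
  have hGm1 : Red.IsSplitTorusWith (Fin 1 → ℤ) (Red.Gm S) :=
    ⟨Grp.mkIso' (asIso (Red.DSmap S (AddEquiv.funUnique (Fin 1) ℤ).toAddMonoidHom))⟩
  have hGm : SGA3x.IsMultTypeFT (Red.Gm S) :=
    Groth.Agent.Lib.Helper14.TorusMonoIso.isMultTypeFT_of_isTorus
      (Groth.Agent.Lib.Helper14.MaxSplit.isTorus_of_split 1 hGm1)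
  have hTm : SGA3x.IsMultTypeFT T :=
    Groth.Agent.Lib.Helper14.TorusMonoIso.isMultTypeFT_of_isTorus hT
  -- the kernel of `lam`
  obtain ⟨K, instK, k, hkm, hkmono, hk⟩ := Groth.Agent.Lib.Helper14.KerMT.exists_kernel_grp lam
  haveI := hkm
  haveI := hkmono
  have hKm : SGA3x.IsMultTypeFT K :=
    Groth.Agent.Lib.Helper14.KerMT.isMultTypeFT_kernel hGm hTm lam k hk
  haveI : Flat K.hom := Groth.Agent.Lib.Helper14.MTProps.flat_of_isMultTypeFT K hKm
  haveI : LocallyOfFinitePresentation (Red.Gm S).hom :=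
    Groth.Agent.Lib.Helper14.MTProps.locallyOfFinitePresentation_DS S ℤ
  -- the image of `lam`
  obtain ⟨Q, instQ, q, hqm, hq, -, m, hmm, hmmono, hqm'⟩ :=
    Groth.Agent.Lib.helper5.FppfImage.exists_quotient_by_flat_kernel' (Red.Gm S) T
      (Or.inr inferInstance) lam K k hk
  haveI := hqm
  haveI := hmm
  haveI := hmmono
  obtain ⟨r', -, hQ⟩ := Groth.Agent.Lib.Helper14.SplitQuot.split_of_connected 1 hGm1 k hKm q hq
  obtain ⟨g, hg⟩ := hmax Q m r' hQ
  exact ⟨q ≫ g, by rw [Category.assoc, hg, hqm']⟩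

end Groth.Agent.S16620
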