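import Groth.Statements.S16621
import Groth.Agent.Lib.Helper14.IrrSplit3
import Groth.Agent.Lib.Helper9.UnramConn

set_option autoImplicit false
open CategoryTheory MonoidalCategory CartesianMonoidalCategory MonObj GrpObj AlgebraicGeometry
universe u
open SGA3x

namespace Groth.Agent.S16621

/-- Let S be a connected, normal, locally Noetherian scheme, T an S-torus and T₀ ⟶ T its unique maximal
split subtorus (a split subtorus through which every split subtorus of T factors). Then T₀ is also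
the unique maximal locally split subtorus of T: every subtorus T₁ ⟶ T which is split Zariski-locally
on S factors through T₀. (Without normality this fails.) -/
theorem result {S : Scheme.{u}} [ConnectedSpace ↥S]
    [IsLocallyNoetherian S] (hnorm : ∀ x : ↥S, IsDomain (S.presheaf.stalk x) ∧ IsIntegrallyClosed (S.presheaf.stalk x))
    {T T₀ T₁ : Over S} [GrpObj T] [GrpObj T₀] [GrpObj T₁] (hT : Red.IsTorus T) (j₀ : T₀ ⟶ T) [IsMonHom j₀] [Mono j₀]
    (r₀ : ℕ) (hT₀ : Red.IsSplitTorusWith (Fin r₀ → ℤ) T₀)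
    (hmax : ∀ (T' : Over S) [GrpObj T'] (j' : T' ⟶ T) [IsMonHom j'] [Mono j'] (r' : ℕ),
      Red.IsSplitTorusWith (Fin r' → ℤ) T' → ∃ g : T' ⟶ T₀, g ≫ j₀ = j')
    (j₁ : T₁ ⟶ T) [IsMonHom j₁] [Mono j₁]
    (hT₁ : ∀ s : ↥S, ∃ U : S.Opens, s ∈ U ∧ ∃ r : ℕ, Red.IsSplitTorusWith (Fin r → ℤ) (Red.bc U.ι T₁)) :
    ∃ g : T₁ ⟶ T₀, g ≫ j₀ = j₁ := by
  classical
  haveI : IsIntegral S :=
    Groth.Agent.Lib.helper9.UnramGeom.isIntegral_of_connected_of_isDomain_stalk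
      (fun x => (hnorm x).1)
  haveI : IrreducibleSpace ↥S := inferInstance
  obtain ⟨s₀⟩ : Nonempty ↥S := inferInstance
  obtain ⟨U₀, hs₀, r, ⟨e₀⟩⟩ := hT₁ s₀
  have huni : ∀ s : S, ∃ U : S.Opens, s ∈ U ∧
      Nonempty (Grp.mk (Red.bc U.ι T₁) ≅ Grp.mk (Red.DS U (Fin r → ℤ))) := by
    intro s
    obtain ⟨U, hsU, r', ⟨eU⟩⟩ := hT₁ s
    obtain ⟨x, hxU, hxU₀⟩ : ((U ⊓ U₀ : S.Opens) : Set S).Nonempty :=
      Groth.Agent.Lib.Helper14.IrrSplit.inf_nonempty U U₀ ⟨s, hsU⟩ ⟨s₀, hs₀⟩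
    obtain ⟨f₁⟩ := Groth.Agent.Lib.Helper14.LocSplit.split_fibre U x hxU r' eU
    obtain ⟨f₂⟩ := Groth.Agent.Lib.Helper14.LocSplit.split_fibre U₀ x hxU₀ r e₀
    haveI : Nonempty ↥(Spec (S.residueField x)) :=
      inferInstanceAs (Nonempty (PrimeSpectrum (S.residueField x)))
    have h1 : r' ≤ r :=
      Groth.Agent.Lib.Helper14.MaxSplit.rank_le_of_mono r' r (AddMonoidHom.id _)
        Function.surjective_id f₁ f₂ (𝟙 _)
    have h2 : r ≤ r' :=
      Groth.Agent.Lib.Helper14.MaxSplit.rank_le_of_mono r r' (AddMonoidHom.id _)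
        Function.surjective_id f₂ f₁ (𝟙 _)
    have h3 : r' = r := le_antisymm h1 h2
    subst h3
    exact ⟨U, hsU, ⟨eU⟩⟩
  have hsplit : Red.IsSplitTorusWith (Fin r → ℤ) T₁ :=
    Groth.Agent.Lib.Helper14.IrrSplit.split_of_locallySplit r huni
  exact hmax T₁ j₁ r hsplit

end Groth.Agent.S16621
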