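import Groth.Statements.S16625
import Groth.Agent.S19429
import Groth.Agent.Lib.Helper20.FibreReg
import Groth.Agent.Lib.Helper11.GCLocGeo
import Groth.Agent.Lib.Helper11.FlatTwistPn
import Groth.Agent.Lib.Helper11.RpushAbBridge
import Groth.Agent.Lib.Helper11.ProjFormulaC
import Groth.Agent.Lib.Helper16.FLF8

set_option autoImplicit false
universe u
open FGA

namespace Groth.Agent.S16625

open AlgebraicGeometry CategoryTheory CategoryTheory.Limits in
/-- Let S be a Noetherian scheme with projective n-space π : P^n_S → S, Q a coherent module on P^n_S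
which is flat over S, and m > 0 an integer such that for every point s of S the restriction Q_s of Q
to the fibre P^n_S ×_S Spec κ(s) is m-regular: H^i of the restriction of Q(m - i) = Q ⊗ O(m - i) to
that fibre vanishes for every i ≥ 1. Then for every integer d ≥ m: (1) π_*(Q(d)) is a finite locally
free O_S-module; (2) R^i π_*(Q(d)) = 0 for every i ≥ 1 (higher direct images of the underlying
abelian sheaf); (3) the counit π^*π_*(Q(d)) → Q(d) is an epimorphism. (The source's (1) also says
that the formation of π_*(Q(d)) commutes with arbitrary base change T → S; that clause is not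
recorded here.) -/
theorem result (S : Scheme.{u}) [IsNoetherian S] (n : ℕ)
    (Q : (CohB1.ProjSpaceOver n S).Modules) (hQ : Coh.IsCoh Q)
    (hflat : FlatMod.IsFlatOver (CohB1.ProjSpaceOver.toBase n S) Q) (m : ℤ) (hm : 0 < m)
    (hreg : ∀ (s : S) (i : ℕ), 1 ≤ i →
      Subsingleton (Coh.HH (pullback (CohB1.ProjSpaceOver.toBase n S) (S.fromSpecResidueField s))
        ((Scheme.Modules.pullback
            (pullback.fst (CohB1.ProjSpaceOver.toBase n S) (S.fromSpecResidueField s))).obj
          (CohB1.tensorMod Q (Twist.twistOver n S (m - i)))) i))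
    (d : ℤ) (hd : m ≤ d) :
    FlatMod.IsFinLocFree ((Coh.push (CohB1.ProjSpaceOver.toBase n S)).obj
        (CohB1.tensorMod Q (Twist.twistOver n S d))) ∧
      (∀ i : ℕ, 1 ≤ i → IsZero ((Coh.RpushAb (CohB1.ProjSpaceOver.toBase n S) i).obj
        (Coh.toAb (CohB1.tensorMod Q (Twist.twistOver n S d))))) ∧
      Epi ((Scheme.Modules.pullbackPushforwardAdjunction (CohB1.ProjSpaceOver.toBase n S)).counit.app
        (CohB1.tensorMod Q (Twist.twistOver n S d))) := by
  classical
  haveI hq : Q.IsQuasicoherent := hQ.1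
  haveI : IsProper (KRR.pr n S) := Groth.Agent.Lib.helper19.ProjSpaceProper.proper_toBase n S
  -- the twists are coherent and flat over `S`
  have hinv : ∀ r : ℤ, PicF.IsInvertible (Twist.twistOver n S r) :=
    fun r => Groth.Agent.Lib.Helper20.FibreReg.isInvertible_twistOver n r
  have hcoh : ∀ r : ℤ, Coh.IsCoh (CohB1.tensorMod Q (Twist.twistOver n S r)) := by
    intro r
    have hq' : (Twist.twistOver n S r).IsQuasicoherent :=
      Groth.Agent.Lib.Helper20.RelReg.isQuasicoherent_twistOver n S r
    have hft : CohB1.IsFT (Twist.twistOver n S r) :=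
      Groth.Agent.Lib.helper16.FLF.isFiniteType_of_isFinLocFree _
        (Groth.Agent.Lib.helper16.FLF.isFinLocFree_of_isInvertible (hinv r))
    exact ⟨Groth.Agent.Lib.helper2.TensorQCoh.isQuasicoherent_tensorMod _ _,
      Groth.Agent.Lib.helper2.TensorQCoh.isFiniteType_tensorMod _ _ hQ.2 hft⟩
  have hfl : ∀ r : ℤ, FlatMod.IsFlatOver (KRR.pr n S)
      (CohB1.tensorMod Q (Twist.twistOver n S r)) := by
    intro r
    haveI : (CohB1.tensorMod Q (Twist.twistOver n S r)).IsQuasicoherent := (hcoh r).1
    exact Groth.Agent.Lib.helper11.FlatTwistPn.isFlatOver_tensorMod_of_isInvertible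
      (KRR.pr n S) Q hflat (hinv r)
  -- the key vanishing
  have key : ∀ (i : ℕ) (r : ℤ), 1 ≤ i → m - i ≤ r →
      IsZero ((Coh.Rpush (KRR.pr n S) i).obj (CohB1.tensorMod Q (Twist.twistOver n S r))) := by
    intro i r hi hr
    apply Groth.Agent.Lib.helper11.ProjFormula.isZero_of_forall_restrict
    intro y
    exact Groth.Agent.Lib.helper11.GCLoc.rpush_vanishes_near (KRR.pr n S) _ (hcoh r) (hfl r) y i
      (Groth.Agent.Lib.Helper20.FibreReg.fibre_vanish n S y Q m (hreg y) i hi r hr)
  have keyAb : ∀ (i : ℕ) (r : ℤ), 1 ≤ i → m - i ≤ r →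
      IsZero ((Coh.RpushAb (KRR.pr n S) i).obj
        (Coh.toAb (CohB1.tensorMod Q (Twist.twistOver n S r)))) := by
    intro i r hi hr
    obtain ⟨e⟩ := Groth.Agent.Lib.helper11.RpushAbBridge.nonempty_rpush_toSheaf_iso (KRR.pr n S) i
    have h0 := key i r hi hr
    have h1 : IsZero ((SheafOfModules.toSheaf.{u} S.ringCatSheaf).obj
        ((Coh.Rpush (KRR.pr n S) i).obj (CohB1.tensorMod Q (Twist.twistOver n S r)))) := by
      rw [IsZero.iff_id_eq_zero] at h0 ⊢
      exact ((SheafOfModules.toSheaf.{u} S.ringCatSheaf).map_id _).symm.trans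
        ((congrArg (SheafOfModules.toSheaf.{u} S.ringCatSheaf).map h0).trans rfl)
    exact IsZero.of_iso h1 (e.app _).symm
  refine ⟨?_, fun i hi => keyAb i d hi (by omega), ?_⟩
  · -- (1) finite locally free
    obtain ⟨-, h2⟩ := Groth.Agent.Lib.helper11.GCLoc.push_locFree_of_rpush_zero (KRR.pr n S)
      (CohB1.tensorMod Q (Twist.twistOver n S d)) (hcoh d) (hfl d)
      (fun i hi => key i d hi (by omega))
    intro y
    obtain ⟨U, hyU, hU⟩ := h2 y
    exact ⟨U, _, hyU, hU⟩
  · -- (3) the counit is an epimorphism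
    refine Groth.Agent.S19429.result n S _ (hcoh d).1 ?_
    intro i hi
    have hz := keyAb i (d + -(i : ℤ)) hi (by omega)
    let e : CohB1.tensorMod Q (Twist.twistOver n S (d + -(i : ℤ))) ≅
        KRR.twF n S (-(i : ℤ)) (CohB1.tensorMod Q (Twist.twistOver n S d)) :=
      Groth.Agent.Lib.Lead.ModTensor.tensorIso (Iso.refl Q)
          (Groth.Agent.Lib.Helper20.FibreReg.twistOverTensorIso n d (-(i : ℤ))).symm ≪≫
        (Groth.Agent.Lib.Lead.ModTensor.assoc _ _ _).symm ≪≫
        Groth.Agent.Lib.Lead.ModTensor.braid _ _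
    exact IsZero.of_iso hz ((Coh.RpushAb (KRR.pr n S) i).mapIso
      ((SheafOfModules.toSheaf.{u} _).mapIso e.symm))


end Groth.Agent.S16625
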