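import Groth.Statements.S16627
import Groth.Agent.S0022
import Groth.Agent.Lib.Helper20.TwistEquivPn
import Groth.Agent.Lib.Helper2.TensorQCoh

set_option autoImplicit false
universe u
open Variety

namespace Groth.Agent.S16627

open Groth.Agent.Lib.Helper20.TwistEquivPn Groth.Agent.Lib.Helper18.HH

open AlgebraicGeometry CategoryTheory CategoryTheory.Limits in
/-- Let k be a field, F a coherent module on projective n-space P^n_k which is m-regular, and ι : F ⊗
O(-1) → F a monomorphism of O-modules (such as multiplication by a linear form that is a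
nonzerodivisor on F, i.e. a hyperplane avoiding the associated points of F). Then the cokernel of ι
— the restriction of F to the hyperplane, as a module on P^n_k — is again m-regular. (Stated for an
arbitrary monomorphism F(-1) → F and an arbitrary ground field.) -/
theorem result (k : Type u) [Field k] (n : ℕ)
    (F : (CohB1.ProjSpace n k).Modules) (hF : Coh.IsCoh F) (m : ℤ) (hreg : Curv2.IsMRegular k n F m)
    (ι : CohB1.tensorMod F (Twist.twistProjSpace n k (-1)) ⟶ F) [Mono ι] :
    Curv2.IsMRegular k n (cokernel ι) m := by
  intro i hi1 hin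
  -- the short exact sequence `0 → F(-1) → F → coker → 0`
  have hS : (ShortComplex.mk ι (cokernel.π ι) (cokernel.condition ι)).ShortExact :=
    ShortComplex.ShortExact.mk' (ShortComplex.exact_cokernel ι) inferInstance inferInstance
  have hT := shortExact_twistSC n k (m - i) hS
  refine subsingleton_X₃ hT i (hreg i hi1 hin) ?_
  -- `H^{i+1}((F(-1))(m-i)) ≅ H^{i+1}(F(m-(i+1)))`
  have e := twistTwistIso n k F (-1) (m - i)
  have e' : CohB1.tensorMod F (Twist.twistProjSpace n k (-1 + (m - (i : ℤ)))) ≅
      CohB1.tensorMod F (Twist.twistProjSpace n k (m - ((i + 1 : ℕ) : ℤ))) :=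
    eqToIso (by congr 2; push_cast; ring)
  refine subsingleton_of_iso (e ≪≫ e').symm (i + 1) ?_
  by_cases h : i + 1 ≤ n
  · exact hreg (i + 1) (by omega) h
  · haveI : Coh.IsQCoh F := hF.1
    have : Coh.IsQCoh (CohB1.tensorMod F (Twist.twistProjSpace n k (m - ((i + 1 : ℕ) : ℤ)))) :=
      Groth.Agent.Lib.helper2.TensorQCoh.isQuasicoherent_tensorMod _ _
    exact Groth.Agent.S0022.result n k _ (i + 1) (by omega)

end Groth.Agent.S16627
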