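import Groth.Statements.S16644
import Mathlib
-- import your own Groth.Agent.* helpers here

set_option autoImplicit false
open QuadZ

namespace Groth.Agent.S16644

section helpers

theorem main (n : ℕ) (hn : Odd n) :
    (2 : MvPolynomial (Sym2 (Fin n)) ℤ) ∣
      (Matrix.of fun i j : Fin n =>
        if i = j then 2 * MvPolynomial.X (R := ℤ) (σ := Sym2 (Fin n)) (Sym2.mk i j)
        else MvPolynomial.X (R := ℤ) (σ := Sym2 (Fin n)) (Sym2.mk i j)).det := by
  set R := MvPolynomial (Sym2 (Fin n)) ℤ with hR
  set M : Matrix (Fin n) (Fin n) R := Matrix.of fun i j : Fin n =>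
        if i = j then 2 * MvPolynomial.X (R := ℤ) (σ := Sym2 (Fin n)) (Sym2.mk i j)
        else MvPolynomial.X (R := ℤ) (σ := Sym2 (Fin n)) (Sym2.mk i j) with hM
  let N : Matrix (Fin n) (Fin n) R := Matrix.of fun i j : Fin n =>
        if i < j then MvPolynomial.X (Sym2.mk i j)
        else if j < i then - MvPolynomial.X (Sym2.mk i j) else 0
  have hNt : N.transpose = -N := by
    refine Matrix.ext fun i j => ?_
    simp only [N, Matrix.transpose_apply, Matrix.of_apply, Matrix.neg_apply]
    rcases lt_trichotomy i j with h | h | h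
    · have h' : ¬ j < i := not_lt.2 h.le
      simp [h, h', Sym2.eq_swap]
    · subst h; simp
    · have h' : ¬ i < j := not_lt.2 h.le
      simp only [h, h', if_true, if_false]
      rw [neg_neg, Sym2.eq_swap]
  have hdetN : N.det = 0 := by
    have h1 : N.det = -N.det := by
      conv_lhs => rw [← Matrix.det_transpose, hNt, Matrix.det_neg, Fintype.card_fin,
        hn.neg_one_pow]
      ring
    have h2 : (2 : R) * N.det = 0 := by linear_combination h1
    rcases mul_eq_zero.1 h2 with h | h
    · exact absurd h two_ne_zero
    · exact h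
  let π := Ideal.Quotient.mk (Ideal.span {(2 : R)})
  have hπ2 : π 2 = 0 := Ideal.Quotient.eq_zero_iff_mem.2 (Ideal.mem_span_singleton_self 2)
  have hmap : π.mapMatrix M = π.mapMatrix N := by
    refine Matrix.ext fun i j => ?_
    simp only [RingHom.mapMatrix_apply, Matrix.map_apply, M, N, Matrix.of_apply]
    rcases lt_trichotomy i j with h | h | h
    · have h' : i ≠ j := h.ne
      simp [h, h']
    · subst h
      simp [hπ2]
    · have h' : i ≠ j := h.ne'
      have h'' : ¬ i < j := not_lt.2 h.le
      simp only [h', if_false, h'', h, if_true, map_neg]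
      have : π (MvPolynomial.X (Sym2.mk i j)) + π (MvPolynomial.X (Sym2.mk i j)) = 0 := by
        rw [← two_mul, ← map_ofNat π 2, hπ2, zero_mul]
      exact eq_neg_of_add_eq_zero_left this
  have hdet : π M.det = 0 := by
    rw [RingHom.map_det, hmap, ← RingHom.map_det, hdetN, map_zero]
  rw [Ideal.Quotient.eq_zero_iff_mem, Ideal.mem_span_singleton] at hdet
  exact hdet


end helpers

/-- For odd n, the discriminant of the universal quadratic form Σ_{i ≤ j} A_{ij} x_i x_j in n variables
(variables A_{ij} indexed by unordered pairs), i.e. the determinant of the symmetric matrix with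
diagonal entries 2 A_{ii} and off-diagonal entries A_{ij}, is divisible by 2 in the integral
polynomial ring ℤ[A_{ij}] (so the half-discriminant is an integral polynomial). -/
theorem result (n : ℕ) (hn : Odd n) :
    (2 : MvPolynomial (Sym2 (Fin n)) ℤ) ∣
      (Matrix.of fun i j : Fin n =>
        if i = j then 2 * MvPolynomial.X (R := ℤ) (σ := Sym2 (Fin n)) (Sym2.mk i j)
        else MvPolynomial.X (R := ℤ) (σ := Sym2 (Fin n)) (Sym2.mk i j)).det := by
  exact main n hn

end Groth.Agent.S16644
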