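import Groth.Statements.S6370
import Mathlib
import Groth.Agent.Lib.Helper13.KA3
-- import your own Groth.Agent.* helpers here

set_option autoImplicit false
universe u
open CAlg

namespace Groth.Agent.S6370

/-- For a one-dimensional Noetherian domain A with fraction field K, a finite field extension L of K
(separable or not) and B the integral closure of A in L: B is a Dedekind domain, Spec B → Spec A is
surjective and has finite fibres, and at every maximal ideal Q of B the residue field B/Q is finite
over A/(Q ∩ A). -/
theorem result (A K L B : Type u) [CommRing A] [IsDomain A]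
    [IsNoetherianRing A] (hdim : ringKrullDim A = 1) [Field K] [Algebra A K] [IsFractionRing A K]
    [Field L] [Algebra K L] [FiniteDimensional K L] [Algebra A L] [IsScalarTower A K L]
    [CommRing B] [IsDomain B] [Algebra A B] [Algebra B L] [IsScalarTower A B L] [IsIntegralClosure B A L] :
    IsDedekindDomain B ∧ Function.Surjective (PrimeSpectrum.comap (algebraMap A B)) ∧
      (∀ p : PrimeSpectrum A, (PrimeSpectrum.comap (algebraMap A B) ⁻¹' {p}).Finite) ∧
      ∀ Q : Ideal B, Q.IsMaximal → Module.Finite (A ⧸ Q.comap (algebraMap A B)) (B ⧸ Q) := by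
  have hK1 : Ring.KrullDimLE 1 A := Ring.krullDimLE_iff.mpr (by rw [hdim]; rfl)
  have hD1 : Ring.DimensionLEOne A :=
    ⟨fun {p} hp hp' => Ring.krullDimLE_one_iff_of_noZeroDivisors.mp hK1 p hp hp'⟩
  have hBL : Function.Injective (algebraMap B L) := IsIntegralClosure.algebraMap_injective B A L
  have hAL : Function.Injective (algebraMap A L) := by
    rw [IsScalarTower.algebraMap_eq A K L]
    exact (algebraMap K L).injective.comp (IsFractionRing.injective A K)
  have hAB : Function.Injective (algebraMap A B) := by
    have h := hAL
    rw [IsScalarTower.algebraMap_eq A B L] at h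
    exact Function.Injective.of_comp h
  have hint : Algebra.IsIntegral A B := IsIntegralClosure.isIntegral_algebra A L
  have hfs : FaithfulSMul A B := (faithfulSMul_iff_algebraMap_injective A B).mpr hAB
  have hfr : IsFractionRing B L := IsIntegralClosure.isFractionRing_of_finite_extension A K L B
  have hnotfield : ¬ IsField A := by
    intro hf
    have h2 : ringKrullDim A = 0 := ringKrullDim_eq_zero_of_isField hf
    rw [hdim] at h2
    exact one_ne_zero h2
  -- nonzero primes of `B` contain nonzero elements of `A`
  have hmeet : ∀ Q : Ideal B, Q ≠ ⊥ → ∃ a : A, a ≠ 0 ∧ algebraMap A B a ∈ Q := fun Q hQ =>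
    Groth.Agent.Lib.helper13.KA.exists_ne_zero_mem_of_ne_bot A K L B hBL Q hQ
  refine ⟨?_, ?_, ?_, ?_⟩
  · have hN : IsNoetherianRing B :=
      Groth.Agent.Lib.helper13.KA.isNoetherianRing_of_between A K L B hBL
    have hD : Ring.DimensionLEOne B := Ring.DimensionLEOne.of_isIntegral A B
    rw [isDedekindDomain_iff B L]
    refine ⟨inferInstance, hN, hD, ?_⟩
    intro x hx
    exact ⟨IsIntegralClosure.mk' B x (isIntegral_trans (R := A) _ hx), IsIntegralClosure.algebraMap_mk' _ _ _⟩
  · exact Algebra.IsIntegral.comap_surjective A B
  · intro p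
    by_cases hp : p.asIdeal = ⊥
    · refine (Set.finite_singleton (⊥ : PrimeSpectrum B)).subset ?_
      intro Q hQ
      have h1 : Q.asIdeal.comap (algebraMap A B) = ⊥ := by
        have := congrArg PrimeSpectrum.asIdeal (show PrimeSpectrum.comap (algebraMap A B) Q = p from hQ)
        rw [← hp, ← this]
        rfl
      have h2 : Q.asIdeal = ⊥ := Ideal.eq_bot_of_comap_eq_bot h1
      exact PrimeSpectrum.ext h2
    · obtain ⟨a, hap, ha0⟩ := Submodule.exists_mem_ne_zero_of_ne_bot hp
      have hfin := Groth.Agent.Lib.helper13.KA.finite_setOf_isPrime_mem A K L B hBL ha0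
      refine Set.Finite.of_finite_image (f := PrimeSpectrum.asIdeal) (hfin.subset ?_)
        (fun x _ y _ hxy => PrimeSpectrum.ext hxy)
      rintro _ ⟨Q, hQ, rfl⟩
      refine ⟨Q.2, ?_⟩
      have := congrArg PrimeSpectrum.asIdeal (show PrimeSpectrum.comap (algebraMap A B) Q = p from hQ)
      have h3 : a ∈ Q.asIdeal.comap (algebraMap A B) := by
        change a ∈ (PrimeSpectrum.comap (algebraMap A B) Q).asIdeal
        rw [this]
        exact hap
      exact h3
  · intro Q hQ
    have hQ0 : Q ≠ ⊥ := by
      rintro rfl
      have hB : IsField B := by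
        have := Ideal.Quotient.maximal_ideal_iff_isField_quotient (⊥ : Ideal B) |>.mp hQ
        exact (RingEquiv.quotientBot B).symm.toMulEquiv.isField this
      exact hnotfield (isField_of_isIntegral_of_isField hAB hB)
    obtain ⟨a, ha0, haQ⟩ := hmeet Q hQ0
    have hfin : Module.Finite A (B ⧸ Q) :=
      Groth.Agent.Lib.helper13.KA.finite_quotient A K L B hBL ha0 Q haQ
    exact Module.Finite.of_restrictScalars_finite A _ _

end Groth.Agent.S6370
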