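import Groth.Statements.S1665
import Mathlib
import Groth.Agent.S6370

set_option autoImplicit false
universe u
open Variety

namespace Groth.Agent.S1665

theorem pow_mul_mem_range {B : Type u} [CommRing B] [IsDomain B] [Ring.DimensionLEOne B]
    (x y : integralClosure B (FractionRing B))
    (hx : x ∈ (⊥ : Ideal (integralClosure B (FractionRing B))).jacobson) :
    ∃ n : ℕ, (x ^ n * y).1 ∈ (algebraMap B (FractionRing B)).range := by
  classical
  let C : Subalgebra B (FractionRing B) :=
    Algebra.adjoin B {(x : FractionRing B), (y : FractionRing B)}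
  have hxC : (x : FractionRing B) ∈ C := Algebra.subset_adjoin (by simp)
  have hyC : (y : FractionRing B) ∈ C := Algebra.subset_adjoin (by simp)
  have hCle : C ≤ integralClosure B (FractionRing B) := Algebra.adjoin_le (by
    intro z hz
    rcases hz with rfl | rfl
    · exact x.2
    · exact y.2)
  have hfg : (Subalgebra.toSubmodule C).FG := fg_adjoin_of_finite (Set.toFinite _) (by
    intro z hz
    rcases hz with rfl | rfl
    · exact (mem_integralClosure_iff B (FractionRing B)).mp x.2
    · exact (mem_integralClosure_iff B (FractionRing B)).mp y.2)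
  obtain ⟨t, ht⟩ := hfg
  obtain ⟨⟨d, hd⟩, hdt⟩ :=
    IsLocalization.exist_integer_multiples_of_finset (nonZeroDivisors B) t
  have hd0 : d ≠ 0 := nonZeroDivisors.ne_zero hd
  have hdC : ∀ c ∈ C, algebraMap B (FractionRing B) d * c ∈
      (algebraMap B (FractionRing B)).range := by
    intro c hc
    have hc' : c ∈ Submodule.span B (t : Set (FractionRing B)) := by
      rw [ht]
      exact hc
    refine Submodule.span_induction
      (p := fun c _ => algebraMap B (FractionRing B) d * c ∈
        (algebraMap B (FractionRing B)).range) ?_ ?_ ?_ ?_ hc'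
    · intro a ha
      obtain ⟨b, hb⟩ := hdt a ha
      refine ⟨b, ?_⟩
      rw [hb]
      show d • a = _
      rw [Algebra.smul_def]
    · simp
    · intro a b _ _ ha hb
      rw [mul_add]
      exact add_mem ha hb
    · intro r a _ ha
      rw [Algebra.smul_def, mul_left_comm]
      exact mul_mem ⟨r, rfl⟩ ha
  have : Algebra.IsIntegral B C := ⟨fun c => by
    have : IsIntegral B (c : FractionRing B) :=
      (mem_integralClosure_iff B (FractionRing B)).mp (hCle c.2)
    exact (isIntegral_algHom_iff C.val Subtype.val_injective).mp this⟩
  have : Ring.DimensionLEOne C := Ring.DimensionLEOne.of_isIntegral B C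
  let ι : C →ₐ[B] integralClosure B (FractionRing B) := Subalgebra.inclusion hCle
  let _ : Algebra C (integralClosure B (FractionRing B)) := ι.toRingHom.toAlgebra
  have : IsScalarTower B C (integralClosure B (FractionRing B)) :=
    IsScalarTower.of_algebraMap_eq (fun r => (ι.commutes r).symm)
  have : Algebra.IsIntegral C (integralClosure B (FractionRing B)) :=
    ⟨fun b => (Algebra.IsIntegral.isIntegral (R := B) b).tower_top⟩
  let x' : C := ⟨x, hxC⟩
  let d' : C := algebraMap B C d
  have hd'0 : d' ≠ 0 := by
    intro h
    apply hd0
    have h1 : algebraMap B (FractionRing B) d = 0 := congrArg Subtype.val h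
    exact (IsFractionRing.injective B (FractionRing B)) (by rw [h1, map_zero])
  have hx' : x ∈ sInf {J : Ideal (integralClosure B (FractionRing B)) | ⊥ ≤ J ∧ J.IsMaximal} := hx
  have hrad : x' ∈ (Ideal.span {d'}).radical := by
    rw [Ideal.radical_eq_sInf, Ideal.mem_sInf]
    rintro P ⟨hdP, hP⟩
    have hP0 : P ≠ ⊥ := by
      rintro rfl
      exact hd'0 (by simpa using hdP (Ideal.subset_span rfl))
    have hPmax : P.IsMaximal := Ring.DimensionLEOne.maximalOfPrime hP0 hP
    obtain ⟨Q, -, hQ, hQP⟩ := Ideal.exists_ideal_over_prime_of_isIntegral P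
      (⊥ : Ideal (integralClosure B (FractionRing B))) (by
        intro c hc
        have h1 : algebraMap C (integralClosure B (FractionRing B)) c = 0 := hc
        have hc0 : c = 0 := by
          apply Subtype.ext
          have h2 : ((algebraMap C (integralClosure B (FractionRing B)) c :
              integralClosure B (FractionRing B)) : FractionRing B) =
              ((0 : integralClosure B (FractionRing B)) : FractionRing B) :=
            congrArg Subtype.val h1
          exact h2
        rw [hc0]
        exact zero_mem _)
    have hQmax : Q.IsMaximal :=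
      Ideal.isMaximal_of_isIntegral_of_isMaximal_comap (R := C) Q (by rw [hQP]; exact hPmax)
    have hxQ : x ∈ Q := (Ideal.mem_sInf.mp hx') ⟨bot_le, hQmax⟩
    rw [← hQP]
    show algebraMap C (integralClosure B (FractionRing B)) x' ∈ Q
    have h2 : algebraMap C (integralClosure B (FractionRing B)) x' = x := Subtype.ext rfl
    rw [h2]
    exact hxQ
  obtain ⟨n, hn⟩ := hrad
  obtain ⟨c, hc⟩ := Ideal.mem_span_singleton'.mp hn
  refine ⟨n, ?_⟩
  have hval : ((x ^ n * y : integralClosure B (FractionRing B)) : FractionRing B) =
      algebraMap B (FractionRing B) d * ((c : FractionRing B) * (y : FractionRing B)) := by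
    have h1 : ((x' ^ n : C) : FractionRing B) =
        (c : FractionRing B) * algebraMap B (FractionRing B) d := by
      rw [← hc]
      rfl
    have h2 : ((x ^ n * y : integralClosure B (FractionRing B)) : FractionRing B) =
        ((x' ^ n : C) : FractionRing B) * (y : FractionRing B) := by
      simp [x']
    rw [h2, h1]
    ring
  rw [hval]
  exact hdC _ (C.mul_mem c.2 hyC)



/-- Let B be a Noetherian domain of dimension one with finitely many maximal ideals and B' its integral
closure in its fraction field. Then B' is a Dedekind domain with finitely many maximal ideals, and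
for every nonzero x in the Jacobson radical of B' and every y ∈ B' some power x^n satisfies x^n y ∈
B. -/
theorem result (B : Type u) [CommRing B] [IsDomain B] [IsNoetherianRing B]
    (hdim : ringKrullDim B = 1) (hsl : Finite (MaximalSpectrum B)) :
    IsDedekindDomain (integralClosure B (FractionRing B)) ∧ Finite (MaximalSpectrum (integralClosure B (FractionRing B))) ∧
      ∀ x : integralClosure B (FractionRing B), x ≠ 0 → x ∈ (⊥ : Ideal (integralClosure B (FractionRing B))).jacobson →
        ∀ y : integralClosure B (FractionRing B), ∃ n : ℕ, (x ^ n * y).1 ∈ (algebraMap B (FractionRing B)).range := by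
  have hK1 : Ring.KrullDimLE 1 B := Ring.krullDimLE_iff.mpr (by rw [hdim]; rfl)
  have hD1 : Ring.DimensionLEOne B :=
    ⟨fun {p} hp hp' => Ring.krullDimLE_one_iff_of_noZeroDivisors.mp hK1 p hp hp'⟩
  obtain ⟨hDed, -, hfib, -⟩ := Groth.Agent.S6370.result B (FractionRing B) (FractionRing B)
    (integralClosure B (FractionRing B)) hdim
  refine ⟨hDed, ?_, ?_⟩
  · let T : Set (PrimeSpectrum (integralClosure B (FractionRing B))) :=
      ⋃ m : MaximalSpectrum B,
        PrimeSpectrum.comap (algebraMap B (integralClosure B (FractionRing B))) ⁻¹'
          {m.toPrimeSpectrum}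
    have hT : T.Finite := Set.finite_iUnion fun m => hfib m.toPrimeSpectrum
    have hTf : Finite T := hT.to_subtype
    have hmem : ∀ Q : MaximalSpectrum (integralClosure B (FractionRing B)),
        Q.toPrimeSpectrum ∈ T := by
      intro Q
      rw [Set.mem_iUnion]
      have := Q.isMaximal
      refine ⟨⟨Q.asIdeal.comap (algebraMap B (integralClosure B (FractionRing B))),
        Ideal.isMaximal_comap_of_isIntegral_of_isMaximal (R := B) Q.asIdeal⟩, ?_⟩
      rfl
    refine Finite.of_injective
      (fun Q : MaximalSpectrum (integralClosure B (FractionRing B)) =>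
        (⟨Q.toPrimeSpectrum, hmem Q⟩ : T)) ?_
    intro Q Q' h
    have h1 := congrArg (fun z : T => z.1.asIdeal) h
    exact MaximalSpectrum.ext h1
  · intro x _ hx y
    exact pow_mul_mem_range x y hx


end Groth.Agent.S1665
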