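import Groth.Statements.S1666
import Mathlib
import Groth.Agent.Lib.Helper18.DegCalc
import Groth.Agent.Lib.Helper18.PullEuler
import Groth.Agent.Lib.Helper18.BiratFinite
import Groth.Agent.Lib.Helper18.EffCartierCurve
import Groth.Agent.Lib.Helper16.Satur1
import Groth.Agent.Lib.Helper8.DevInd
import Groth.Agent.S0019
import Groth.Agent.S1566

set_option autoImplicit false
universe u
open CategoryTheory CategoryTheory.Limits AlgebraicGeometry
open Variety

namespace Groth.Agent.S1666

open TopologicalSpace Opposite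

/-- `f.app P` is injective for `P ≤ U` when `f ∣_ U` is an isomorphism -/
lemma app_injective_of_isIso_restrict {X X' : Scheme.{u}} (f : X' ⟶ X) (U : X.Opens)
    (hfU : IsIso (f ∣_ U)) (P : X.Opens) (hP : P ≤ U) :
    Function.Injective (f.app P).hom := by
  have hPe : U.ι ''ᵁ (U.ι ⁻¹ᵁ P) = P := by
    apply le_antisymm (U.ι.image_preimage_le P)
    intro x hx
    exact ⟨⟨x, hP hx⟩, hx, rfl⟩
  have h1 : IsIso ((f ∣_ U).app (U.ι ⁻¹ᵁ P)) := inferInstance
  rw [morphismRestrict_app] at h1
  have h2 : IsIso (f.app (U.ι ''ᵁ (U.ι ⁻¹ᵁ P))) := by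
    have h3 : IsIso (X'.presheaf.map (eqToHom (image_morphismRestrict_preimage f U (U.ι ⁻¹ᵁ P))).op) :=
      inferInstance
    exact @IsIso.of_isIso_comp_right _ _ _ _ _ (f.app (U.ι ''ᵁ (U.ι ⁻¹ᵁ P)))
      (X'.presheaf.map (eqToHom (image_morphismRestrict_preimage f U (U.ι ⁻¹ᵁ P))).op) h3 h1
  rw [hPe] at h2
  exact ((ConcreteCategory.isIso_iff_bijective _).mp h2).1

/-- the kernel of `O_X ⟶ f_* O_X'` has no sections over opens inside `U` -/
lemma sections_kernel_subsingleton {X X' : Scheme.{u}} (f : X' ⟶ X) (U : X.Opens)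
    (hfU : IsIso (f ∣_ U)) {K : X.Modules} (ι : K ⟶ Coh.structureModule X) [Mono ι]
    (hι : ι ≫ ClSub.unitToPush f = 0) (P : X.Opens) (hP : P ≤ U) :
    Subsingleton Γ(K, P) := by
  refine ⟨fun s t => ?_⟩
  apply Groth.Agent.Lib.helper16.Satur.injective_app_of_mono ι P
  apply app_injective_of_isIso_restrict f U hfU P hP
  have h1 : ∀ r : Γ(K, P), (f.app P).hom ((ι.app P).hom r) = 0 := by
    intro r
    have := congrArg (fun φ => (Scheme.Modules.Hom.app φ P).hom r) hι
    exact this
  change (f.app P).hom ((ι.app P).hom s) = (f.app P).hom ((ι.app P).hom t)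
  rw [h1 s, h1 t]

/-- Let f : X' → X be a k-morphism of proper schemes of dimension at most one over k which is an
isomorphism over a dense open of X whose preimage is dense in X'. Then for every finite locally free
module E of rank n on X, deg(f^* E) = deg(E). -/
theorem result (k : Type u) [Field k] (X X' : Scheme.{u}) [X.Over (Spec (CommRingCat.of k))] [X'.Over (Spec (CommRingCat.of k))]
    [IsProper (X ↘ (Spec (CommRingCat.of k)))] [IsProper (X' ↘ (Spec (CommRingCat.of k)))] (hdim : topologicalKrullDim X ≤ 1) (hdim' : topologicalKrullDim X' ≤ 1)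
    (f : X' ⟶ X) (hf : f ≫ (X ↘ (Spec (CommRingCat.of k))) = X' ↘ (Spec (CommRingCat.of k)))
    (U : X.Opens) (hU : Dense (U : Set X)) (hU' : Dense ((f ⁻¹ᵁ U : X'.Opens) : Set X')) (hfU : IsIso (f ∣_ U))
    (n : ℕ) (E : X.Modules) (hE : FlatMod.IsFinLocFreeOfRank n E) :
    Curv2.deg k X' ((Scheme.Modules.pullback f).obj E) n = Curv2.deg k X E n := by
  haveI := Groth.Agent.Lib.Lead.CurveEuler.isNoetherian k X
  haveI := Groth.Agent.Lib.Lead.CurveEuler.isNoetherian k X'
  haveI : IsProper f := by
    haveI : IsProper (f ≫ (X ↘ (Spec (CommRingCat.of k)))) := by rw [hf]; infer_instance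
    exact IsProper.of_comp f (X ↘ (Spec (CommRingCat.of k)))
  haveI hfin : IsFinite f :=
    Groth.Agent.Lib.Helper18.BiratFinite.isFinite_of_birational k X X' hdim f hf U hU' hfU
  -- `A = f_* O_X'`
  set A : X.Modules := (Scheme.Modules.pushforward f).obj (Coh.structureModule X') with hAdef
  have hO : Coh.IsCoh (Coh.structureModule X) := Groth.Agent.Lib.helper8.Dev.isCoh_structureModule X
  have hA : Coh.IsCoh A :=
    Groth.Agent.S0019.result f _ (Groth.Agent.Lib.helper8.Dev.isCoh_structureModule X')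
  have h1 := Groth.Agent.Lib.Helper18.PullEuler.euler_pullback k f hf E
    (Groth.Agent.Lib.helper16.FLF.isFinLocFree_of_isFinLocFreeOfRank hE)
  have h2 : Curv2.euler k X A = Curv2.euler k X' (Coh.structureModule X') :=
    Groth.Agent.Lib.Helper18.PullEuler.euler_push k f hf (Coh.structureModule X')
  -- points off `U`
  have hcl : ∀ x, x ∉ U → IsClosed ({x} : Set X) := by
    intro x hx
    apply Groth.Agent.Lib.Lead.DimOneAffine.isClosed_singleton_of_dim_le_one X hdim x
    intro hgen
    exact hx (Groth.Agent.S1566.mem_of_dense_of_closure_mem (U : Set X) U.isOpen hU x hgen)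
  have hfinU : ((U : Set X)ᶜ).Finite :=
    Groth.Agent.Lib.Helper20.ZeroDimSupp.finite_of_isClosed_of_closed_points _
      U.isOpen.isClosed_compl (fun x hx => hcl x hx)
  -- the two short exact sequences
  let u := ClSub.unitToPush f
  let S2 : ShortComplex X.Modules :=
    ShortComplex.mk (Abelian.image.ι u) (cokernel.π u) (kernel.condition _)
  have hS2 : S2.ShortExact :=
    { exact := ShortComplex.exact_of_f_is_kernel _ (kernelIsKernel (cokernel.π u))
      mono_f := inferInstanceAs (Mono (kernel.ι (cokernel.π u)))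
      epi_g := inferInstanceAs (Epi (cokernel.π u)) }
  let p := Abelian.factorThruImage u
  let S1 : ShortComplex X.Modules := ShortComplex.mk (kernel.ι p) p (kernel.condition p)
  have hS1 : S1.ShortExact :=
    { exact := ShortComplex.exact_of_f_is_kernel _ (kernelIsKernel p)
      mono_f := inferInstanceAs (Mono (kernel.ι p))
      epi_g := inferInstanceAs (Epi (Abelian.factorThruImage u)) }
  have hQc : Coh.IsCoh (cokernel u) := Groth.Agent.Lib.helper7.CohKer.isCoh_cokernel hO hA u
  have hIc : Coh.IsCoh (Abelian.image u) :=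
    Groth.Agent.Lib.helper7.CohKer.isCoh_kernel hA hQc (cokernel.π u)
  have hKc : Coh.IsCoh (kernel p) := Groth.Agent.Lib.helper7.CohKer.isCoh_kernel hO hIc p
  -- sections of kernel and cokernel vanish on opens inside `U`
  have hQU : ∀ P : X.Opens, P ≤ U → Subsingleton Γ(cokernel u, P) := fun P hP =>
    Groth.Agent.S1566.sections_cokernel_subsingleton_of_epi_restrict u U
      (Groth.Agent.S1566.epi_restrict_unitToPush f U inferInstance) P hP
  have hKU : ∀ P : X.Opens, P ≤ U → Subsingleton Γ(kernel p, P) := fun P hP => by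
    refine sections_kernel_subsingleton f U hfU (kernel.ι p) ?_ P hP
    have hu : kernel.ι p ≫ u = (kernel.ι p ≫ p) ≫ Abelian.image.ι u := by
      rw [Category.assoc, Abelian.image.fac]
    change kernel.ι p ≫ u = 0
    rw [hu, kernel.condition, zero_comp]
  -- Euler characteristics
  have eK := Groth.Agent.Lib.Helper18.EffCartierCurve.euler_tensor_of_open k X (kernel p) hKc U hKU
    hfinU hcl n E hE
  have eK' := Groth.Agent.Lib.Helper18.Punctual.euler_eq_finrank_H0 k (kernel p) U hKU hcl
  have eQ := Groth.Agent.Lib.Helper18.EffCartierCurve.euler_tensor_of_open k X (cokernel u) hQc U hQU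
    hfinU hcl n E hE
  have eQ' := Groth.Agent.Lib.Helper18.Punctual.euler_eq_finrank_H0 k (cokernel u) U hQU hcl
  have a1 := Groth.Agent.Lib.Helper18.DegCalc.euler_tensor_additive k X S1 hS1 hKc hIc hE
  have a2 := Groth.Agent.Lib.Helper18.DegCalc.euler_tensor_additive k X S2 hS2 hIc hQc hE
  have b1 := Groth.Agent.Lib.Lead.ProperEuler.euler_additive k hS1 hKc hIc
  have b2 := Groth.Agent.Lib.Lead.ProperEuler.euler_additive k hS2 hIc hQc
  have hl := Groth.Agent.Lib.Lead.CurveEuler.euler_eq_of_iso k X
    (Groth.Agent.Lib.Lead.ModTensor.leftUnitor E)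
  change Curv2.euler k X (CohB1.tensorMod (Coh.structureModule X) E) = _ at a1
  change Curv2.euler k X (CohB1.tensorMod A E) = _ at a2
  change Curv2.euler k X (Coh.structureModule X) = _ at b1
  change Curv2.euler k X A = _ at b2
  unfold Curv2.deg
  rw [h1, ← h2]
  change Curv2.euler k X (CohB1.tensorMod A E) - n * Curv2.euler k X A = _
  rw [← hl]
  change Curv2.euler k X (CohB1.tensorMod S1.X₁ E) = _ at eK
  change Curv2.euler k X S1.X₁ = _ at eK'
  change Curv2.euler k X (CohB1.tensorMod S2.X₃ E) = _ at eQ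
  change Curv2.euler k X S2.X₃ = _ at eQ'
  have hX3 : S1.X₃ = S2.X₁ := rfl
  rw [hX3] at a1 b1
  rw [a2, b2, a1, b1, eK, eQ, eK', eQ']
  ring

end Groth.Agent.S1666
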