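import Groth.Statements.S16661

set_option autoImplicit false
universe v u
open TensorProduct
open Conn

namespace Groth.Agent.S16661

section
variable {A : Type v} {B Ω M : Type u} [CommRing A] [CommRing B] [Algebra A B]
  [AddCommGroup Ω] [Module B Ω] [Module A Ω] [IsScalarTower A B Ω]
  [AddCommGroup M] [Module B M] [Module A M] [IsScalarTower A B M]

omit [IsScalarTower A B Ω] in
/-- Leibniz expansion of `(f ⊗ 1)(∇ m)` in a basis. -/
theorem map_nabla_basis {ι : Type*} [Fintype ι] (b : Module.Basis ι B M)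
    (δ : Derivation A B Ω) (nabla : M →ₗ[A] M ⊗[B] Ω) (hc : Conn.IsConn δ nabla)
    (f : M →ₗ[B] B) (m : M) :
    TensorProduct.map f (LinearMap.id : Ω →ₗ[B] Ω) (nabla m) =
      ∑ j, (b.repr m j • TensorProduct.map f (LinearMap.id : Ω →ₗ[B] Ω) (nabla (b j))
        + f (b j) ⊗ₜ[B] δ (b.repr m j)) := by
  conv_lhs => rw [← b.sum_repr m]
  rw [map_sum, map_sum]
  refine Finset.sum_congr rfl fun j _ => ?_
  rw [hc, map_add, map_smul, TensorProduct.map_tmul, LinearMap.id_apply]

omit [CommRing A] [Algebra A B] [Module A Ω] [IsScalarTower A B Ω] [Module A M]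
  [IsScalarTower A B M] in
theorem map_sum_left' {N : Type u} [AddCommGroup N] [Module B N]
    {ι : Type*} (t : Finset ι) (f : ι → (M →ₗ[B] N)) (s : M ⊗[B] Ω) :
    TensorProduct.map (∑ i ∈ t, f i) (LinearMap.id : Ω →ₗ[B] Ω) s =
      ∑ i ∈ t, TensorProduct.map (f i) (LinearMap.id : Ω →ₗ[B] Ω) s := by
  change LinearMap.rTensorHom Ω (∑ i ∈ t, f i) s = _
  rw [map_sum, LinearMap.sum_apply]
  rfl

omit [CommRing A] [Algebra A B] [Module A Ω] [IsScalarTower A B Ω] [Module A M]
  [IsScalarTower A B M] in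
/-- Expansion of `(f ⊗ 1)` along the dual basis. -/
theorem map_dual_basis {ι : Type*} [Fintype ι] [DecidableEq ι] (b : Module.Basis ι B M)
    (f : M →ₗ[B] B) (s : M ⊗[B] Ω) :
    TensorProduct.map f (LinearMap.id : Ω →ₗ[B] Ω) s =
      ∑ k, f (b k) • TensorProduct.map (b.coord k) (LinearMap.id : Ω →ₗ[B] Ω) s := by
  conv_lhs => rw [← b.sum_dual_apply_smul_coord f]
  rw [map_sum_left']
  refine Finset.sum_congr rfl fun k _ => ?_
  change LinearMap.rTensor Ω _ s = _
  rw [LinearMap.rTensor_smul]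
  rfl

omit [CommRing A] [Algebra A B] [Module A Ω] [IsScalarTower A B Ω] [Module A M]
  [IsScalarTower A B M] in
/-- `(tr ⊗ 1)` expanded in a basis. -/
theorem map_trace_basis {ι : Type*} [Fintype ι] [DecidableEq ι] (b : Module.Basis ι B M)
    (s : (M →ₗ[B] M) ⊗[B] Ω) :
    TensorProduct.map (LinearMap.trace B M) (LinearMap.id : Ω →ₗ[B] Ω) s =
      ∑ i, TensorProduct.map (b.coord i) (LinearMap.id : Ω →ₗ[B] Ω)
        (TensorProduct.map (LinearMap.applyₗ (b i)) LinearMap.id s) := by
  have htr : LinearMap.trace B M = ∑ i, (b.coord i) ∘ₗ (LinearMap.applyₗ (b i)) := by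
    ext ψ
    rw [LinearMap.trace_eq_matrix_trace B b]
    simp [Matrix.trace, LinearMap.toMatrix_apply]
  rw [htr, map_sum_left']
  refine Finset.sum_congr rfl fun i _ => ?_
  change LinearMap.rTensor Ω _ _ = _
  rw [LinearMap.rTensor_comp]
  rfl

omit [IsScalarTower A B Ω] in
/-- The basic trace identity: `Σ_i (e_i^* ⊗ 1)(∇(ψ e_i) − (ψ ⊗ 1)(∇ e_i)) = 1 ⊗ δ(tr ψ)`. -/
theorem trace_formula {ι : Type*} [Fintype ι] [DecidableEq ι] (b : Module.Basis ι B M)
    (δ : Derivation A B Ω) (nabla : M →ₗ[A] M ⊗[B] Ω) (hc : Conn.IsConn δ nabla)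
    (φ : M →ₗ[B] M) :
    ∑ i, TensorProduct.map (b.coord i) (LinearMap.id : Ω →ₗ[B] Ω) (nabla (φ (b i)))
      - ∑ i, TensorProduct.map (b.coord i) (LinearMap.id : Ω →ₗ[B] Ω)
          (TensorProduct.map φ LinearMap.id (nabla (b i))) =
      (1 : B) ⊗ₜ[B] δ (LinearMap.trace B M φ) := by
  have h1 : ∀ i, TensorProduct.map (b.coord i) (LinearMap.id : Ω →ₗ[B] Ω) (nabla (φ (b i))) =
      ∑ j, b.repr (φ (b i)) j • TensorProduct.map (b.coord i) (LinearMap.id : Ω →ₗ[B] Ω) (nabla (b j))
        + (1 : B) ⊗ₜ[B] δ (b.repr (φ (b i)) i) := by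
    intro i
    rw [map_nabla_basis b δ nabla hc, Finset.sum_add_distrib]
    congr 1
    rw [Finset.sum_eq_single i]
    · simp
    · intro j _ hj
      simp [Module.Basis.coord_apply, hj]
    · simp
  have h2 : ∀ i, TensorProduct.map (b.coord i) (LinearMap.id : Ω →ₗ[B] Ω)
        (TensorProduct.map φ LinearMap.id (nabla (b i))) =
      ∑ k, b.repr (φ (b k)) i • TensorProduct.map (b.coord k) (LinearMap.id : Ω →ₗ[B] Ω) (nabla (b i)) := by
    intro i
    have : TensorProduct.map (b.coord i) (LinearMap.id : Ω →ₗ[B] Ω)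
        (TensorProduct.map φ LinearMap.id (nabla (b i))) =
        TensorProduct.map (b.coord i ∘ₗ φ) (LinearMap.id : Ω →ₗ[B] Ω) (nabla (b i)) := by
      change _ = LinearMap.rTensor Ω _ _
      rw [LinearMap.rTensor_comp]
      rfl
    rw [this, map_dual_basis b]
    rfl
  simp only [h1, h2, Finset.sum_add_distrib]
  rw [Finset.sum_comm, add_sub_cancel_left, LinearMap.trace_eq_matrix_trace B b]
  simp [Matrix.trace, LinearMap.toMatrix_apply, TensorProduct.tmul_sum]

end

/-- Let B be an A-algebra with a receptacle of differentials (Ω, δ), Ω a finite free B-module (the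
affine-local form of differentials locally free of finite type), let M be a finite free B-module
(the local form of a vector bundle) with a connection ∇ : M → M ⊗ Ω, and let ∇_E be the induced
connection on the B-linear endomorphisms of M, the one with (ev_m ⊗ 1)(∇_E φ) = ∇(φ m) − (φ ⊗ 1)(∇
m). Give B the connection b ↦ 1 ⊗ δ b. Then the trace map End_B(M) → B is horizontal: 1 ⊗ δ(tr φ) =
(tr ⊗ 1)(∇_E φ) for every endomorphism φ. -/
theorem result {A : Type v} {B Ω M : Type u}
    [CommRing A] [CommRing B] [Algebra A B]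
    [AddCommGroup Ω] [Module B Ω] [Module A Ω] [IsScalarTower A B Ω] [Module.Finite B Ω] [Module.Free B Ω]
    [AddCommGroup M] [Module B M] [Module A M] [IsScalarTower A B M] [Module.Finite B M] [Module.Free B M]
    (δ : Derivation A B Ω) (nabla : M →ₗ[A] M ⊗[B] Ω) (hc : Conn.IsConn δ nabla)
    (nablaE : (M →ₗ[B] M) →ₗ[A] (M →ₗ[B] M) ⊗[B] Ω) (hE : Conn.IsHomConn nabla nabla nablaE) :
    Conn.IsHorizontal nablaE (Conn.triv δ) (LinearMap.trace B M) := by
  classical
  intro φ
  let b : Module.Basis (Module.Free.ChooseBasisIndex B M) B M := Module.Free.chooseBasis B M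
  rw [map_trace_basis b, Conn.triv_apply, ← trace_formula b δ nabla hc φ]
  simp only [hE φ, map_sub, Finset.sum_sub_distrib]

end Groth.Agent.S16661
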