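import Groth.Statements.S16662
import Groth.Agent.Lib.Helper6.ConnHom

set_option autoImplicit false
universe v u
open TensorProduct
open Conn

namespace Groth.Agent.S16662

section
variable {B Ω E F G : Type u} [CommRing B]
  [AddCommGroup Ω] [Module B Ω] [AddCommGroup E] [Module B E] [AddCommGroup F] [Module B F]
  [AddCommGroup G] [Module B G]

theorem ev_comp_swapR (e : E) (φ : E →ₗ[B] F) (s : (F →ₗ[B] G) ⊗[B] Ω) :
    TensorProduct.map (LinearMap.applyₗ e) (LinearMap.id : Ω →ₗ[B] Ω)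
      (TensorProduct.map (TensorProduct.lift (LinearMap.llcomp B E F G)) (LinearMap.id : Ω →ₗ[B] Ω)
        (Conn.swapR (s ⊗ₜ[B] φ))) =
    TensorProduct.map (LinearMap.applyₗ (φ e)) LinearMap.id s := by
  induction s using TensorProduct.induction_on with
  | zero => simp
  | tmul ψ ω => simp [Conn.swapR_tmul]
  | add x y hx hy => simp only [TensorProduct.add_tmul, map_add, hx, hy]

theorem ev_comp_assoc_symm (e : E) (ψ : F →ₗ[B] G) (s : (E →ₗ[B] F) ⊗[B] Ω) :
    TensorProduct.map (LinearMap.applyₗ e) (LinearMap.id : Ω →ₗ[B] Ω)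
      (TensorProduct.map (TensorProduct.lift (LinearMap.llcomp B E F G)) (LinearMap.id : Ω →ₗ[B] Ω)
        ((TensorProduct.assoc B (F →ₗ[B] G) (E →ₗ[B] F) Ω).symm (ψ ⊗ₜ[B] s))) =
    TensorProduct.map ψ LinearMap.id (TensorProduct.map (LinearMap.applyₗ e) LinearMap.id s) := by
  induction s using TensorProduct.induction_on with
  | zero => simp
  | tmul φ ω => simp
  | add x y hx hy => simp only [TensorProduct.tmul_add, map_add, hx, hy]

theorem map_map_id (ψ : F →ₗ[B] G) (φ : E →ₗ[B] F) (s : E ⊗[B] Ω) :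
    TensorProduct.map ψ (LinearMap.id : Ω →ₗ[B] Ω) (TensorProduct.map φ LinearMap.id s) =
      TensorProduct.map (ψ ∘ₗ φ) LinearMap.id s := by
  induction s using TensorProduct.induction_on with
  | zero => simp
  | tmul e ω => simp
  | add x y hx hy => simp only [map_add, hx, hy]

end

/-- Let B be an A-algebra with a receptacle of differentials (Ω, δ), Ω a finite free B-module, and let
E, F, G be B-modules with connections ∇_E, ∇_F, ∇_G, with E and F finitely presented. Equip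
Hom_B(E,F), Hom_B(F,G) and Hom_B(E,G) with the induced connections (the connection ∇'' on Hom_B(X,Y)
being the one with (ev_x ⊗ 1)(∇'' φ) = ∇_Y(φ x) − (φ ⊗ 1)(∇_X x)), and Hom_B(F,G) ⊗ Hom_B(E,F) with
the tensor product of these connections. Then the composition map Hom_B(F,G) ⊗ Hom_B(E,F) →
Hom_B(E,G), ψ ⊗ φ ↦ ψ ∘ φ, is horizontal. -/
theorem result {A : Type v} {B Ω E F G : Type u}
    [CommRing A] [CommRing B] [Algebra A B]
    [AddCommGroup Ω] [Module B Ω] [Module A Ω] [IsScalarTower A B Ω] [Module.Finite B Ω] [Module.Free B Ω]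
    [AddCommGroup E] [Module B E] [Module A E] [IsScalarTower A B E] [Module.FinitePresentation B E]
    [AddCommGroup F] [Module B F] [Module A F] [IsScalarTower A B F] [Module.FinitePresentation B F]
    [AddCommGroup G] [Module B G] [Module A G] [IsScalarTower A B G]
    (δ : Derivation A B Ω)
    (nE : E →ₗ[A] E ⊗[B] Ω) (hcE : Conn.IsConn δ nE)
    (nF : F →ₗ[A] F ⊗[B] Ω) (hcF : Conn.IsConn δ nF)
    (nG : G →ₗ[A] G ⊗[B] Ω) (hcG : Conn.IsConn δ nG)
    (nEF : (E →ₗ[B] F) →ₗ[A] (E →ₗ[B] F) ⊗[B] Ω) (hEF : Conn.IsHomConn nE nF nEF)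
    (nFG : (F →ₗ[B] G) →ₗ[A] (F →ₗ[B] G) ⊗[B] Ω) (hFG : Conn.IsHomConn nF nG nFG)
    (nEG : (E →ₗ[B] G) →ₗ[A] (E →ₗ[B] G) ⊗[B] Ω) (hEG : Conn.IsHomConn nE nG nEG)
    (nT : (F →ₗ[B] G) ⊗[B] (E →ₗ[B] F) →ₗ[A] ((F →ₗ[B] G) ⊗[B] (E →ₗ[B] F)) ⊗[B] Ω)
    (hT : Conn.IsTensorConn nFG nEF nT) :
    Conn.IsHorizontal nT nEG (TensorProduct.lift (LinearMap.llcomp B E F G)) := by
  intro t
  induction t using TensorProduct.induction_on with
  | zero => simp
  | tmul ψ φ =>
    refine Groth.Agent.Lib.helper6.hom_tensor_ext _ _ fun e => ?_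
    rw [hT ψ φ, map_add, map_add, ev_comp_swapR, ev_comp_assoc_symm, hFG ψ (φ e), hEF φ e,
      TensorProduct.lift.tmul, hEG, map_sub, map_map_id]
    simp only [LinearMap.llcomp_apply', LinearMap.comp_apply]
    abel
  | add x y hx hy => simp only [map_add, hx, hy]

end Groth.Agent.S16662
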