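import Groth.Statements.S16663
import Groth.Agent.S16661

set_option autoImplicit false
universe v u
open TensorProduct
open Conn

namespace Groth.Agent.S16663

section
variable {B Ω P Q R : Type u} [CommRing B]
  [AddCommGroup Ω] [Module B Ω] [AddCommGroup P] [Module B P] [AddCommGroup Q] [Module B Q]
  [AddCommGroup R] [Module B R]

theorem map_comp_apply (g : Q →ₗ[B] R) (f : P →ₗ[B] Q) (s : P ⊗[B] Ω) :
    TensorProduct.map (g ∘ₗ f) (LinearMap.id : Ω →ₗ[B] Ω) s =
      TensorProduct.map g (LinearMap.id : Ω →ₗ[B] Ω) (TensorProduct.map f LinearMap.id s) := by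
  change LinearMap.rTensor Ω _ _ = _
  rw [LinearMap.rTensor_comp]
  rfl

end

/-- Let B be an A-algebra with a receptacle of differentials (Ω, δ), Ω a finite free B-module (the local
form of a weakly smooth scheme), and let M be a finitely ℤ-graded B-module presented as a finite
family of finite free B-modules M_i with integer degrees deg i (the local form of a graded vector
bundle), with total module Π_i M_i. Let ∇ be a connection on Π_i M_i preserving the grading, in the
sense that (pr_j ⊗ 1)(∇(ι_i m)) = 0 for m ∈ M_i whenever deg i ≠ deg j, and let ∇_E be the induced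
connection on the B-linear endomorphisms, the one with (ev_m ⊗ 1)(∇_E φ) = ∇(φ m) − (φ ⊗ 1)(∇ m).
Give B the connection b ↦ 1 ⊗ δ b. Then the supertrace, φ ↦ tr(ε ∘ φ) with ε = Σ_i (−1)^{deg i} ι_i
∘ pr_i the grading involution, is a horizontal map End_B(Π_i M_i) → B. -/
theorem result {A : Type v} {B Ω ι : Type u}
    [CommRing A] [CommRing B] [Algebra A B]
    [AddCommGroup Ω] [Module B Ω] [Module A Ω] [IsScalarTower A B Ω] [Module.Finite B Ω] [Module.Free B Ω]
    [Fintype ι] [DecidableEq ι] (deg : ι → ℤ) (M : ι → Type u)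
    [∀ i, AddCommGroup (M i)] [∀ i, Module B (M i)] [∀ i, Module A (M i)] [∀ i, IsScalarTower A B (M i)]
    [∀ i, Module.Free B (M i)] [∀ i, Module.Finite B (M i)]
    (δ : Derivation A B Ω) (nabla : (Π k, M k) →ₗ[A] (Π k, M k) ⊗[B] Ω) (hc : Conn.IsConn δ nabla)
    (hgr : ∀ i j : ι, deg i ≠ deg j → ∀ m : M i,
      TensorProduct.map (LinearMap.proj j : (Π k, M k) →ₗ[B] M j) LinearMap.id (nabla (LinearMap.single B M i m)) = 0)
    (nablaE : ((Π k, M k) →ₗ[B] (Π k, M k)) →ₗ[A] ((Π k, M k) →ₗ[B] (Π k, M k)) ⊗[B] Ω)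
    (hE : Conn.IsHomConn nabla nabla nablaE) :
    Conn.IsHorizontal nablaE (Conn.triv δ)
      (LinearMap.trace B (Π k, M k) ∘ₗ LinearMap.llcomp B (Π k, M k) (Π k, M k) (Π k, M k)
        (∑ i : ι, (LinearMap.single B M i) ∘ₗ (((-1 : B) ^ (deg i).natAbs) • (LinearMap.proj i : (Π k, M k) →ₗ[B] M i)))) := by
  classical
  set ε : (Π k, M k) →ₗ[B] (Π k, M k) :=
    ∑ i : ι, (LinearMap.single B M i) ∘ₗ (((-1 : B) ^ (deg i).natAbs) • (LinearMap.proj i : (Π k, M k) →ₗ[B] M i)) with hε
  -- δ kills signs
  have hδ : ∀ n : ℕ, δ ((-1 : B) ^ n) = 0 := by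
    intro n
    rcases neg_one_pow_eq_or B n with h | h <;> simp [h]
  -- ε on a single
  have hεs : ∀ (i : ι) (m : M i), ε (LinearMap.single B M i m) =
      ((-1 : B) ^ (deg i).natAbs) • LinearMap.single B M i m := by
    intro i m
    rw [hε, LinearMap.sum_apply, Finset.sum_eq_single i]
    · rw [LinearMap.comp_apply, LinearMap.smul_apply, map_smul]
      simp
    · intro j _ hj
      simp [Pi.single_eq_of_ne hj]
    · simp
  -- ε ⊗ 1 on ∇ of a single
  have hεn : ∀ (i : ι) (m : M i), TensorProduct.map ε (LinearMap.id : Ω →ₗ[B] Ω)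
      (nabla (LinearMap.single B M i m)) =
      ((-1 : B) ^ (deg i).natAbs) • nabla (LinearMap.single B M i m) := by
    intro i m
    set y := nabla (LinearMap.single B M i m) with hy
    have hterm : ∀ j : ι, TensorProduct.map ((LinearMap.single B M j) ∘ₗ
        (((-1 : B) ^ (deg j).natAbs) • (LinearMap.proj j : (Π k, M k) →ₗ[B] M j)))
        (LinearMap.id : Ω →ₗ[B] Ω) y =
        ((-1 : B) ^ (deg i).natAbs) • TensorProduct.map ((LinearMap.single B M j) ∘ₗ
          (LinearMap.proj j : (Π k, M k) →ₗ[B] M j)) (LinearMap.id : Ω →ₗ[B] Ω) y := by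
      intro j
      rw [map_comp_apply, map_comp_apply]
      by_cases hd : deg i = deg j
      · rw [hd]
        change TensorProduct.map _ _ (LinearMap.rTensor Ω _ y) = _
        rw [LinearMap.rTensor_smul, LinearMap.smul_apply, map_smul]
        rfl
      · change TensorProduct.map _ _ (LinearMap.rTensor Ω _ y) = _
        rw [LinearMap.rTensor_smul, LinearMap.smul_apply]
        change TensorProduct.map _ _ (_ • TensorProduct.map (LinearMap.proj j) LinearMap.id y) = _
        rw [hy, hgr i j hd m]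
        simp
    rw [hε, Groth.Agent.S16661.map_sum_left']
    simp only [hterm]
    rw [← Finset.smul_sum, ← Groth.Agent.S16661.map_sum_left']
    have hid : (∑ j : ι, (LinearMap.single B M j) ∘ₗ (LinearMap.proj j : (Π k, M k) →ₗ[B] M j)) =
        LinearMap.id := by
      ext x k
      simp [Finset.sum_apply, Pi.single_apply]
    rw [hid, TensorProduct.map_id, LinearMap.id_apply]
  -- ε is horizontal
  have hεh : ∀ x : (Π k, M k), nabla (ε x) = TensorProduct.map ε (LinearMap.id : Ω →ₗ[B] Ω) (nabla x) := by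
    intro x
    have hx : x = ∑ i, LinearMap.single B M i (x i) := by
      ext k
      simp [Finset.sum_apply, Pi.single_apply]
    rw [hx, map_sum, map_sum, map_sum, map_sum]
    refine Finset.sum_congr rfl fun i _ => ?_
    rw [hεs, hεn, hc, hδ, TensorProduct.tmul_zero, add_zero]
  intro φ
  let b : Module.Basis (Module.Free.ChooseBasisIndex B (Π k, M k)) B (Π k, M k) :=
    Module.Free.chooseBasis B (Π k, M k)
  have hev : ∀ (m : (Π k, M k)) (s : ((Π k, M k) →ₗ[B] (Π k, M k)) ⊗[B] Ω),
      TensorProduct.map (LinearMap.applyₗ m) (LinearMap.id : Ω →ₗ[B] Ω)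
        (TensorProduct.map (LinearMap.llcomp B (Π k, M k) (Π k, M k) (Π k, M k) ε) LinearMap.id s) =
      TensorProduct.map ε (LinearMap.id : Ω →ₗ[B] Ω)
        (TensorProduct.map (LinearMap.applyₗ m) LinearMap.id s) := by
    intro m s
    rw [← map_comp_apply, ← map_comp_apply]
    rfl
  rw [map_comp_apply, Groth.Agent.S16661.map_trace_basis b, Conn.triv_apply, LinearMap.comp_apply,
    ← Groth.Agent.S16661.trace_formula b δ nabla hc]
  simp only [hev, hE φ, map_sub, Finset.sum_sub_distrib, ← hεh]
  congr 1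
  refine Finset.sum_congr rfl fun i _ => ?_
  rw [← map_comp_apply ε φ]
  rfl

end Groth.Agent.S16663
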