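import Groth.Statements.S16664

set_option autoImplicit false
universe v u
open TensorProduct
open Conn

namespace Groth.Agent.S16664

section
variable {A : Type v} {B Ω M M' : Type u} [CommRing A] [CommRing B] [Algebra A B]
  [AddCommGroup Ω] [Module B Ω] [Module A Ω] [IsScalarTower A B Ω]
  [AddCommGroup M] [Module B M] [Module A M] [IsScalarTower A B M]
  [AddCommGroup M'] [Module B M'] [Module A M'] [IsScalarTower A B M']

omit [Module A Ω] [IsScalarTower A B Ω] [Module A M] [IsScalarTower A B M] [Module A M']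
  [IsScalarTower A B M'] [CommRing A] [Algebra A B] in
theorem rid_map_apply (θ : Ω →ₗ[B] B) (m : M) (s : (M →ₗ[B] M') ⊗[B] Ω) :
    (TensorProduct.rid B (M →ₗ[B] M') (TensorProduct.map LinearMap.id θ s)) m =
      TensorProduct.rid B M' (TensorProduct.map LinearMap.id θ
        (TensorProduct.map (LinearMap.applyₗ m) LinearMap.id s)) := by
  induction s using TensorProduct.induction_on with
  | zero => simp
  | tmul ψ ω => simp
  | add x y hx hy => simp only [map_add, LinearMap.add_apply, hx, hy]

omit [Module A Ω] [IsScalarTower A B Ω] [Module A M] [IsScalarTower A B M] [Module A M']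
  [IsScalarTower A B M'] [CommRing A] [Algebra A B] in
theorem rid_map_map (θ : Ω →ₗ[B] B) (χ : M →ₗ[B] M') (s : M ⊗[B] Ω) :
    TensorProduct.rid B M' (TensorProduct.map LinearMap.id θ
        (TensorProduct.map χ LinearMap.id s)) =
      χ (TensorProduct.rid B M (TensorProduct.map LinearMap.id θ s)) := by
  induction s using TensorProduct.induction_on with
  | zero => simp
  | tmul m ω => simp
  | add x y hx hy => simp only [map_add, hx, hy]

/-- The covariant derivative of the induced connection on `Hom`. -/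
theorem along_hom (nabla : M →ₗ[A] M ⊗[B] Ω) (nabla' : M' →ₗ[A] M' ⊗[B] Ω)
    (nablaH : (M →ₗ[B] M') →ₗ[A] (M →ₗ[B] M') ⊗[B] Ω) (hH : Conn.IsHomConn nabla nabla' nablaH)
    (θ : Ω →ₗ[B] B) (χ : M →ₗ[B] M') (m : M) :
    Conn.along nablaH θ χ m = Conn.along nabla' θ (χ m) - χ (Conn.along nabla θ m) := by
  rw [Conn.along_apply, rid_map_apply, hH χ m, map_sub, map_sub, rid_map_map,
    Conn.along_apply, Conn.along_apply]

end

/-- Let B be an A-algebra with a receptacle of differentials (Ω, δ), Ω free on a finite basis ω_1, …,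
ω_n, let M be a finitely presented B-module with a connection ∇, let ∇_E be the induced connection
on the B-linear endomorphisms of M (the one with (ev_m ⊗ 1)(∇_E φ) = ∇(φ m) − (φ ⊗ 1)(∇ m)), and for
each q let ∇_q = (1 ⊗ ω_q^*) ∘ ∇_E be the covariant derivative on End_B(M) along the q-th vector of
the dual basis. If an endomorphism φ satisfies φ ∘ ∇_q(φ) + ∇_q(φ) ∘ φ = 0 for every q, then for all
q, r one has φ ∘ ∇_q(∇_r(φ)) + ∇_q(∇_r(φ)) ∘ φ + ∇_q(φ) ∘ ∇_r(φ) + ∇_r(φ) ∘ ∇_q(φ) = 0. (The
published statement takes M graded with ∇ preserving the grading and φ of odd degree, and is written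
with supercommutators; for such φ the supercommutators in question are exactly these
anticommutators, and the identity holds for an arbitrary endomorphism.) -/
theorem result {A : Type v} {B Ω M : Type u}
    [CommRing A] [CommRing B] [Algebra A B]
    [AddCommGroup Ω] [Module B Ω] [Module A Ω] [IsScalarTower A B Ω] {n : ℕ} (bΩ : Module.Basis (Fin n) B Ω)
    [AddCommGroup M] [Module B M] [Module A M] [IsScalarTower A B M] [Module.FinitePresentation B M]
    (δ : Derivation A B Ω) (nabla : M →ₗ[A] M ⊗[B] Ω) (hc : Conn.IsConn δ nabla)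
    (nablaE : (M →ₗ[B] M) →ₗ[A] (M →ₗ[B] M) ⊗[B] Ω) (hE : Conn.IsHomConn nabla nabla nablaE)
    (φ : M →ₗ[B] M)
    (hφ : ∀ q : Fin n, φ ∘ₗ Conn.along nablaE (bΩ.coord q) φ + Conn.along nablaE (bΩ.coord q) φ ∘ₗ φ = 0)
    (q r : Fin n) :
    φ ∘ₗ Conn.along nablaE (bΩ.coord q) (Conn.along nablaE (bΩ.coord r) φ)
      + Conn.along nablaE (bΩ.coord q) (Conn.along nablaE (bΩ.coord r) φ) ∘ₗ φ
      + Conn.along nablaE (bΩ.coord q) φ ∘ₗ Conn.along nablaE (bΩ.coord r) φ
      + Conn.along nablaE (bΩ.coord r) φ ∘ₗ Conn.along nablaE (bΩ.coord q) φ = 0 := by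
  have leib : ∀ (θ : Ω →ₗ[B] B) (χ ψ : M →ₗ[B] M),
      Conn.along nablaE θ (χ ∘ₗ ψ) = Conn.along nablaE θ χ ∘ₗ ψ + χ ∘ₗ Conn.along nablaE θ ψ := by
    intro θ χ ψ
    ext m
    simp only [LinearMap.add_apply, LinearMap.comp_apply, along_hom nabla nabla nablaE hE, map_sub]
    abel
  have h := congrArg (Conn.along nablaE (bΩ.coord q)) (hφ r)
  rw [map_add, leib, leib, map_zero] at h
  rw [← h]
  abel

end Groth.Agent.S16664
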