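import Groth.Statements.S16667
import Mathlib
import Groth.Agent.Lib.Helper26.DepthLoc
import Groth.Agent.Lib.Helper26.CM7

set_option autoImplicit false
universe u
open CAlg

namespace Groth.Agent.S16667

/-- Let A be a Noetherian integral domain satisfying Serre's condition (S_2), with fraction field K. An
element of K which lies in the localization A_p for every prime p of A with depth(A_p) = 1 lies in
A. -/
theorem result {A : Type u} [CommRing A] [IsDomain A]
    [IsNoetherianRing A] (hS2 : LocCoh.HasSk 2 A A) (x : FractionRing A)
    (hx : ∀ (p : Ideal A) [p.IsPrime],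
      LocCoh.depth (Localization.AtPrime p) (Localization.AtPrime p) = 1 →
        x ∈ Set.range (algebraMap (Localization.AtPrime p) (FractionRing A))) :
    x ∈ Set.range (algebraMap A (FractionRing A)) := by
  classical
  by_contra hcon
  obtain ⟨b, s, hs, rfl⟩ := IsFractionRing.div_surjective (A := A) x
  have hs0 : s ≠ 0 := nonZeroDivisors.ne_zero hs
  have hsK : algebraMap A (FractionRing A) s ≠ 0 := by
    intro h
    exact hs0 ((IsFractionRing.injective A (FractionRing A)) (by rw [h, map_zero]))
  -- the class of `b` in `A/sA` is nonzero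
  have hb : (Submodule.Quotient.mk b : QuotSMulTop s A) ≠ 0 := by
    intro h
    rw [Submodule.Quotient.mk_eq_zero] at h
    obtain ⟨c, -, hc⟩ := (Submodule.mem_smul_pointwise_iff_exists b s ⊤).mp h
    apply hcon
    refine ⟨c, ?_⟩
    rw [← hc, smul_eq_mul, map_mul]
    field_simp
  obtain ⟨P, hP, hle⟩ := exists_le_isAssociatedPrime_of_isNoetherianRing A
    (Submodule.Quotient.mk b : QuotSMulTop s A) hb
  have hPmem : P ∈ associatedPrimes A (QuotSMulTop s A) := hP
  obtain ⟨hprime, hd0⟩ :=
    Groth.Agent.Lib.helper26.Depth.depth_localization_eq_zero_of_mem_associatedPrimes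
      (QuotSMulTop s A) P hPmem
  have _hp := hprime
  have hsP : s ∈ P := by
    apply hle
    rw [Submodule.mem_colon_singleton, Submodule.mem_bot, ← Submodule.Quotient.mk_smul,
      Submodule.Quotient.mk_eq_zero]
    exact Submodule.smul_mem_pointwise_smul _ _ _ Submodule.mem_top
  have hreg : IsSMulRegular A s := by
    intro a a' h
    exact mul_left_cancel₀ hs0 h
  have h1 := Groth.Agent.Lib.helper26.Depth.depth_localization_quotSMulTop (p := P) (M := A) s hsP hreg
  rw [hd0, zero_add, Groth.Agent.Lib.helper26.Depth.depth_localizedModule_self] at h1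
  obtain ⟨y, hy⟩ := hx P h1.symm
  obtain ⟨a, t, rfl⟩ := IsLocalization.exists_mk'_eq P.primeCompl y
  have h2 : IsLocalization.mk' (Localization.AtPrime P) a t * algebraMap A (Localization.AtPrime P) t
      = algebraMap A (Localization.AtPrime P) a := IsLocalization.mk'_spec _ _ _
  have h3 := congrArg (algebraMap (Localization.AtPrime P) (FractionRing A)) h2
  rw [map_mul, hy, ← IsScalarTower.algebraMap_apply, ← IsScalarTower.algebraMap_apply] at h3
  have h4 : algebraMap A (FractionRing A) (b * t) = algebraMap A (FractionRing A) (a * s) := by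
    rw [map_mul, map_mul, ← h3]
    field_simp
  have h5 : b * t = a * s := IsFractionRing.injective A (FractionRing A) h4
  have htP : (t : A) ∈ P := by
    apply hle
    rw [Submodule.mem_colon_singleton, Submodule.mem_bot, ← Submodule.Quotient.mk_smul,
      Submodule.Quotient.mk_eq_zero, smul_eq_mul, mul_comm, h5, mul_comm]
    exact Submodule.smul_mem_pointwise_smul _ _ _ Submodule.mem_top
  exact t.2 htP


end Groth.Agent.S16667
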