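import Groth.Statements.S7599
import Mathlib
import Groth.Agent.Lib.Helper17.GeomPoint
import Groth.Agent.Lib.Helper24.GeomFG4
import Groth.Agent.Lib.Helper24.GeomLim3

set_option autoImplicit false
set_option linter.style.haveILetI false
universe u
open CategoryTheory CategoryTheory.Limits AlgebraicGeometry
attribute [local instance] Curv2.stalkAlgebra
open scoped TensorProduct
open Variety

namespace Groth.Agent.S7599

theorem hgen (R : Type u) [CommRing R] (p m : Ideal R) [p.IsPrime] [m.IsPrime] (hle : p ≤ m)
    (h : IsDomain (Localization.AtPrime m) ∧ IsIntegrallyClosed (Localization.AtPrime m)) :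
    IsDomain (Localization.AtPrime p) ∧ IsIntegrallyClosed (Localization.AtPrime p) := by
  obtain ⟨hd, hic⟩ := h
  have hdisj : Disjoint (m.primeCompl : Set R) p := by
    rw [Set.disjoint_left]
    intro a ha hap
    exact ha (hle hap)
  haveI hp' : (p.map (algebraMap R (Localization.AtPrime m))).IsPrime :=
    IsLocalization.isPrime_of_isPrime_disjoint m.primeCompl _ p ‹_› hdisj
  have hcomap : (p.map (algebraMap R (Localization.AtPrime m))).comap
      (algebraMap R (Localization.AtPrime m)) = p :=
    IsLocalization.under_map_of_isPrime_disjoint m.primeCompl _ ‹_› hdisj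
  have hM : (p.map (algebraMap R (Localization.AtPrime m))).primeCompl ≤
      nonZeroDivisors (Localization.AtPrime m) := by
    intro a ha
    rw [mem_nonZeroDivisors_iff_ne_zero]
    rintro rfl
    exact ha (Ideal.zero_mem _)
  haveI hd' : IsDomain (Localization.AtPrime (p.map (algebraMap R (Localization.AtPrime m)))) :=
    IsLocalization.isDomain_localization hM
  haveI hic' : IsIntegrallyClosed
      (Localization.AtPrime (p.map (algebraMap R (Localization.AtPrime m)))) :=
    isIntegrallyClosed_of_isLocalization _ _ hM
  have h1 := IsLocalization.isLocalization_isLocalization_atPrime_isLocalization m.primeCompl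
    (Localization.AtPrime (p.map (algebraMap R (Localization.AtPrime m))))
    (p.map (algebraMap R (Localization.AtPrime m)))
  haveI h2 : IsLocalization.AtPrime
      (Localization.AtPrime (p.map (algebraMap R (Localization.AtPrime m)))) p := by
    convert h1 using 2
    exact hcomap.symm
  let e : Localization.AtPrime (p.map (algebraMap R (Localization.AtPrime m))) ≃+*
      Localization.AtPrime p := (IsLocalization.algEquiv p.primeCompl
    (Localization.AtPrime (p.map (algebraMap R (Localization.AtPrime m))))
    (Localization.AtPrime p)).toRingEquiv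
  haveI : IsDomain (Localization.AtPrime p) := e.symm.injective.isDomain e.symm.toRingHom
  exact ⟨inferInstance, IsIntegrallyClosed.of_equiv e⟩

theorem hiso (R R' : Type u) [CommRing R] [CommRing R'] (e : R ≃+* R')
    (h : IsDomain R ∧ IsIntegrallyClosed R) : IsDomain R' ∧ IsIntegrallyClosed R' := by
  haveI := h.1
  haveI := h.2
  haveI : IsDomain R' := e.symm.injective.isDomain e.symm.toRingHom
  exact ⟨inferInstance, IsIntegrallyClosed.of_equiv e⟩

/-- Let X be a scheme over a field k and x a point of X. These conditions are equivalent: (1) the scheme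
X is geometrically normal at x (meaning: for any extension field k' and any point x' of X_{k'} over
x the local ring O_{X_{k'}, x'} is an integrally closed domain); (2) the same for the finite purely
inseparable extensions k' of k only; (3) for every extension field k' of k the ring k' ⊗_k O_{X, x}
is normal (all its localisations at primes are integrally closed domains). Stated as (1) ↔ (2)
together with (2) ↔ (3). -/
theorem result (k : Type u) [Field k] (X : Scheme.{u}) [X.Over (Spec (CommRingCat.of k))] (x : ↥X) :
    ((∀ (k' : Type u) [Field k'] [Algebra k k'] (x' : ↥(Curv2.bc k X k')), Curv2.bcFst k X k' x' = x →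
          IsDomain ↥((Curv2.bc k X k').presheaf.stalk x') ∧ IsIntegrallyClosed ↥((Curv2.bc k X k').presheaf.stalk x')) ↔
      (∀ (k' : Type u) [Field k'] [Algebra k k'] [FiniteDimensional k k'] [IsPurelyInseparable k k'] (x' : ↥(Curv2.bc k X k')), Curv2.bcFst k X k' x' = x →
          IsDomain ↥((Curv2.bc k X k').presheaf.stalk x') ∧ IsIntegrallyClosed ↥((Curv2.bc k X k').presheaf.stalk x'))) ∧
    ((∀ (k' : Type u) [Field k'] [Algebra k k'] [FiniteDimensional k k'] [IsPurelyInseparable k k'] (x' : ↥(Curv2.bc k X k')), Curv2.bcFst k X k' x' = x →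
          IsDomain ↥((Curv2.bc k X k').presheaf.stalk x') ∧ IsIntegrallyClosed ↥((Curv2.bc k X k').presheaf.stalk x')) ↔
      ∀ (k' : Type u) [Field k'] [Algebra k k'], EGA4.IsNormalRing (k' ⊗[k] ↥(X.presheaf.stalk x))) := by
  have h12 : (∀ (k' : Type u) [Field k'] [Algebra k k'] (x' : ↥(Curv2.bc k X k')), Curv2.bcFst k X k' x' = x →
          IsDomain ↥((Curv2.bc k X k').presheaf.stalk x') ∧ IsIntegrallyClosed ↥((Curv2.bc k X k').presheaf.stalk x')) →
      (∀ (k' : Type u) [Field k'] [Algebra k k'] [FiniteDimensional k k'] [IsPurelyInseparable k k'] (x' : ↥(Curv2.bc k X k')), Curv2.bcFst k X k' x' = x →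
          IsDomain ↥((Curv2.bc k X k').presheaf.stalk x') ∧ IsIntegrallyClosed ↥((Curv2.bc k X k').presheaf.stalk x')) := by
    intro h k' _ _ _ _ x' hx'
    exact h k' x' hx'
  have h23 : (∀ (k' : Type u) [Field k'] [Algebra k k'] [FiniteDimensional k k'] [IsPurelyInseparable k k'] (x' : ↥(Curv2.bc k X k')), Curv2.bcFst k X k' x' = x →
          IsDomain ↥((Curv2.bc k X k').presheaf.stalk x') ∧ IsIntegrallyClosed ↥((Curv2.bc k X k').presheaf.stalk x')) →
      ∀ (k' : Type u) [Field k'] [Algebra k k'], EGA4.IsNormalRing (k' ⊗[k] ↥(X.presheaf.stalk x)) := by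
    intro h K _ _ q hq
    refine Groth.Agent.Lib.Helper24.GeomLim.isNormal_tensor_of_geom k (X.presheaf.stalk x) ?_ K q
    refine (Groth.Agent.Lib.Helper24.GeomFG.geom_iff_pi
      Groth.Agent.Lib.Helper24.GeomFG.geomStable_isNormal k (X.presheaf.stalk x)).2 ?_
    intro k' _ _ hfin hpi p hp
    haveI := hfin
    haveI := hpi
    exact Groth.Agent.Lib.helper17.GeomPoint.tensor_of_stalk k X x
      (fun R _ => IsDomain R ∧ IsIntegrallyClosed R) hiso hgen k' (fun x' hx' => h k' x' hx') p
  have h31 : (∀ (k' : Type u) [Field k'] [Algebra k k'], EGA4.IsNormalRing (k' ⊗[k] ↥(X.presheaf.stalk x))) →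
      (∀ (k' : Type u) [Field k'] [Algebra k k'] (x' : ↥(Curv2.bc k X k')), Curv2.bcFst k X k' x' = x →
          IsDomain ↥((Curv2.bc k X k').presheaf.stalk x') ∧ IsIntegrallyClosed ↥((Curv2.bc k X k').presheaf.stalk x')) := by
    intro h k' _ _ x' hx'
    exact Groth.Agent.Lib.helper17.GeomPoint.stalk_of_tensor k X x
      (fun R _ => IsDomain R ∧ IsIntegrallyClosed R) hiso k'
      (fun p _ => h k' p) x' hx'
  exact ⟨⟨h12, fun h => h31 (h23 h)⟩, ⟨h23, fun h => h12 (h31 h)⟩⟩

end Groth.Agent.S7599
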