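import Groth.Statements.S16688
import Groth.Agent.Lib.Helper6.HopfAntipode

set_option autoImplicit false
universe u v w
open ComodSub

namespace Groth.Agent.S16688

open TensorProduct

section
variable {k : Type u} [CommRing k] {A : Type v} [CommRing A] [HopfAlgebra k A]
  {M : Type w} [AddCommGroup M] [Module k M]

local notation "S" => HopfAlgebraStruct.antipode (R := k) (A := A)
local notation "Δ" => CoalgebraStruct.comul (R := k) (A := A)
local notation "ε" => CoalgebraStruct.counit (R := k) (A := A)

theorem lemA (l : ComodSub.LComod k A M) (x : A ⊗[k] M) :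
    (ComodSub.rcoactOfLeft l).rTensor A (TensorProduct.comm k A M (LinearMap.rTensor M S x)) =
      TensorProduct.comm k A (M ⊗[k] A)
        (TensorProduct.map S ((TensorProduct.comm k A M).toLinearMap ∘ₗ LinearMap.rTensor M S)
          (l.coact.lTensor A x)) := by
  induction x using TensorProduct.induction_on with
  | zero => simp
  | tmul a w => simp [ComodSub.rcoactOfLeft_apply]
  | add x y hx hy => simp only [map_add, hx, hy]

theorem lemB (y : A ⊗[k] A) (w : M) :
    TensorProduct.assoc k M A A (TensorProduct.comm k A (M ⊗[k] A)
        (TensorProduct.map S ((TensorProduct.comm k A M).toLinearMap ∘ₗ LinearMap.rTensor M S)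
          (TensorProduct.assoc k A A M (y ⊗ₜ[k] w)))) =
      w ⊗ₜ[k] (TensorProduct.map S S (TensorProduct.comm k A A y)) := by
  induction y using TensorProduct.induction_on with
  | zero => simp
  | tmul a b => simp
  | add x y hx hy => simp only [TensorProduct.add_tmul, map_add, hx, hy, TensorProduct.tmul_add]

theorem lemC (x : A ⊗[k] M) :
    TensorProduct.assoc k M A A (TensorProduct.comm k A (M ⊗[k] A)
        (TensorProduct.map S ((TensorProduct.comm k A M).toLinearMap ∘ₗ LinearMap.rTensor M S)
          (TensorProduct.assoc k A A M (LinearMap.rTensor M Δ x)))) =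
      LinearMap.lTensor M Δ (TensorProduct.comm k A M (LinearMap.rTensor M S x)) := by
  induction x using TensorProduct.induction_on with
  | zero => simp
  | tmul a w =>
    rw [LinearMap.rTensor_tmul, lemB, LinearMap.rTensor_tmul, TensorProduct.comm_tmul,
      LinearMap.lTensor_tmul, Groth.Agent.Lib.helper6.comul_antipode]
  | add x y hx hy => simp only [map_add, hx, hy]

theorem lemD (x : A ⊗[k] M) :
    LinearMap.lTensor M ε (TensorProduct.comm k A M (LinearMap.rTensor M S x)) =
      TensorProduct.comm k k M (LinearMap.rTensor M ε x) := by
  induction x using TensorProduct.induction_on with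
  | zero => simp
  | tmul a w => simp
  | add x y hx hy => simp only [map_add, hx, hy]

end

/-- Let `k` be a commutative ring, `A` a commutative Hopf algebra over `k` with antipode `S`, and `M` a
`k`-module with a left `A`-comodule structure `m ↦ Σ m₋₁ ⊗ m₀`. Then the map `M → M ⊗ A`, `m ↦ Σ m₀
⊗ S(m₋₁)`, is coassociative and counital: it is the coaction of a right `A`-comodule structure on
`M` (a right structure is determined by its coaction, so this structure is unique). -/
theorem result (k : Type u) [CommRing k]
    (A : Type v) [CommRing A] [HopfAlgebra k A]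
    (M : Type w) [AddCommGroup M] [Module k M] (l : ComodSub.LComod k A M) :
    ∃ c : HopfRep.Comod k A M, c.coact = ComodSub.rcoactOfLeft l := by
  refine ⟨{ coact := ComodSub.rcoactOfLeft l, coassoc := ?_, counit_comp := ?_ }, rfl⟩
  · ext v
    have hco := LinearMap.congr_fun l.coassoc v
    simp only [LinearMap.comp_apply, LinearEquiv.coe_coe] at hco ⊢
    rw [ComodSub.rcoactOfLeft_apply l v, lemA, hco, lemC]
  · ext v
    have hcu := LinearMap.congr_fun l.counit_comp v
    simp only [LinearMap.comp_apply] at hcu ⊢
    rw [ComodSub.rcoactOfLeft_apply l v, lemD, hcu]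
    simp

end Groth.Agent.S16688
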