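import Groth.Statements.S16689
import Groth.Agent.Lib.Helper6.HopfAntipode

set_option autoImplicit false
universe u v w
open ComodSub

namespace Groth.Agent.S16689

open TensorProduct

section
variable {k : Type u} [CommRing k] {A : Type v} [CommRing A] [HopfAlgebra k A]
  {M : Type w} [AddCommGroup M] [Module k M]

local notation "S" => HopfAlgebraStruct.antipode (R := k) (A := A)
local notation "Δ" => CoalgebraStruct.comul (R := k) (A := A)
local notation "ε" => CoalgebraStruct.counit (R := k) (A := A)

theorem lemA (c : HopfRep.Comod k A M) (x : M ⊗[k] A) :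
    (ComodSub.lcoactOfRight c).lTensor A (TensorProduct.comm k M A (LinearMap.lTensor M S x)) =
      TensorProduct.comm k (A ⊗[k] M) A
        (TensorProduct.map ((TensorProduct.comm k M A).toLinearMap ∘ₗ LinearMap.lTensor M S) S
          (c.coact.rTensor A x)) := by
  induction x using TensorProduct.induction_on with
  | zero => simp
  | tmul w a => simp [ComodSub.lcoactOfRight_apply]
  | add x y hx hy => simp only [map_add, hx, hy]

theorem lemB (y : A ⊗[k] A) (w : M) :
    TensorProduct.comm k (A ⊗[k] M) A
        (TensorProduct.map ((TensorProduct.comm k M A).toLinearMap ∘ₗ LinearMap.lTensor M S) S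
          ((TensorProduct.assoc k M A A).symm (w ⊗ₜ[k] y))) =
      TensorProduct.assoc k A A M ((TensorProduct.map S S (TensorProduct.comm k A A y)) ⊗ₜ[k] w) := by
  induction y using TensorProduct.induction_on with
  | zero => simp
  | tmul a b => simp
  | add x y hx hy => simp only [TensorProduct.add_tmul, map_add, hx, hy, TensorProduct.tmul_add]

theorem lemC (x : M ⊗[k] A) :
    TensorProduct.comm k (A ⊗[k] M) A
        (TensorProduct.map ((TensorProduct.comm k M A).toLinearMap ∘ₗ LinearMap.lTensor M S) S
          ((TensorProduct.assoc k M A A).symm (LinearMap.lTensor M Δ x))) =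
      TensorProduct.assoc k A A M
        (LinearMap.rTensor M Δ (TensorProduct.comm k M A (LinearMap.lTensor M S x))) := by
  induction x using TensorProduct.induction_on with
  | zero => simp
  | tmul w a =>
    rw [LinearMap.lTensor_tmul, lemB, LinearMap.lTensor_tmul, TensorProduct.comm_tmul,
      LinearMap.rTensor_tmul, Groth.Agent.Lib.helper6.comul_antipode]
  | add x y hx hy => simp only [map_add, hx, hy]

theorem lemD (x : M ⊗[k] A) :
    LinearMap.rTensor M ε (TensorProduct.comm k M A (LinearMap.lTensor M S x)) =
      TensorProduct.comm k M k (LinearMap.lTensor M ε x) := by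
  induction x using TensorProduct.induction_on with
  | zero => simp
  | tmul w a => simp
  | add x y hx hy => simp only [map_add, hx, hy]

end

/-- Let `k` be a commutative ring, `A` a commutative Hopf algebra over `k` with antipode `S`, and `M` a
`k`-module with a right `A`-comodule structure `m ↦ Σ m₀ ⊗ m₁`. Then the map `M → A ⊗ M`, `m ↦ Σ
S(m₁) ⊗ m₀`, is coassociative and counital: it is the coaction of a left `A`-comodule structure on
`M` (a left structure is determined by its coaction, so this structure is unique). -/
theorem result (k : Type u) [CommRing k]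
    (A : Type v) [CommRing A] [HopfAlgebra k A]
    (M : Type w) [AddCommGroup M] [Module k M] (c : HopfRep.Comod k A M) :
    ∃ l : ComodSub.LComod k A M, l.coact = ComodSub.lcoactOfRight c := by
  refine ⟨{ coact := ComodSub.lcoactOfRight c, coassoc := ?_, counit_comp := ?_ }, rfl⟩
  · ext v
    have hco := LinearMap.congr_fun c.coassoc v
    simp only [LinearMap.comp_apply, LinearEquiv.coe_coe] at hco ⊢
    rw [← LinearEquiv.eq_symm_apply] at hco
    rw [ComodSub.lcoactOfRight_apply c v, lemA, hco, lemC]
  · ext v
    have hcu := LinearMap.congr_fun c.counit_comp v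
    simp only [LinearMap.comp_apply] at hcu ⊢
    rw [ComodSub.lcoactOfRight_apply c v, lemD, hcu]
    simp

end Groth.Agent.S16689
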