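import Groth.Statements.S16690
import Mathlib
import Groth.Agent.Lib.Helper15.DualTensorFlat

set_option autoImplicit false
set_option linter.unusedSectionVars false
universe u v w
open ComodSub

namespace Groth.Agent.S16690

open TensorProduct Groth.Agent.Lib.helper15.DualTensorFlat

section Aux

variable {k : Type u} [CommRing k] {A : Type v} [AddCommGroup A] [Module k A] [Coalgebra k A]
  {M : Type w} [AddCommGroup M] [Module k M] (c : HopfRep.Comod k A M)

/-- `g ↦ ldualFun c g`, as a linear map. -/
noncomputable def mu : Module.Dual k M →ₗ[k] (M →ₗ[k] A) where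
  toFun g := ldualFun c g
  map_add' f g := by
    ext m
    simp [ldualFun, LinearMap.rTensor_add]
  map_smul' r f := by
    ext m
    simp [ldualFun, LinearMap.rTensor_smul]

theorem mu_apply (g : Module.Dual k M) (m : M) :
    mu c g m = TensorProduct.lid k A (LinearMap.rTensor A g (c.coact m)) := rfl

theorem counit_mu (g : Module.Dual k M) (m : M) :
    Coalgebra.counit (R := k) (mu c g m) = g m := by
  have h1 : ∀ s : M ⊗[k] A,
      Coalgebra.counit (R := k) (TensorProduct.lid k A (LinearMap.rTensor A g s)) =
      g (TensorProduct.rid k M ((Coalgebra.counit (R := k) (A := A)).lTensor M s)) := by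
    intro s
    induction s with
    | zero => simp
    | tmul x a => simp [mul_comm]
    | add x y hx hy => simp only [map_add, hx, hy]
  have h2 : (Coalgebra.counit (R := k) (A := A)).lTensor M (c.coact m) = m ⊗ₜ[k] (1 : k) :=
    LinearMap.congr_fun c.counit_comp m
  rw [mu_apply, h1, h2, TensorProduct.rid_tmul, one_smul]

theorem comul_mu (g : Module.Dual k M) (m : M) :
    Coalgebra.comul (R := k) (mu c g m) = (mu c g).rTensor A (c.coact m) := by
  have hco : c.coact.rTensor A (c.coact m) =
      (TensorProduct.assoc k M A A).symm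
        ((Coalgebra.comul (R := k) (A := A)).lTensor M (c.coact m)) := by
    rw [LinearEquiv.eq_symm_apply]
    exact LinearMap.congr_fun c.coassoc m
  have hT : ∀ z : M ⊗[k] (A ⊗[k] A),
      ((TensorProduct.lid k A).toLinearMap ∘ₗ LinearMap.rTensor A g).rTensor A
        ((TensorProduct.assoc k M A A).symm z) =
      TensorProduct.lid k (A ⊗[k] A) (LinearMap.rTensor (A ⊗[k] A) g z) := by
    intro z
    induction z with
    | zero => simp
    | tmul x w =>
      induction w with
      | zero => simp
      | tmul a b => simp [TensorProduct.smul_tmul']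
      | add w₁ w₂ h₁ h₂ => simp only [TensorProduct.tmul_add, map_add, h₁, h₂]
    | add z₁ z₂ h₁ h₂ => simp only [map_add, h₁, h₂]
  have hD : ∀ s : M ⊗[k] A, TensorProduct.lid k (A ⊗[k] A) (LinearMap.rTensor (A ⊗[k] A) g
      ((Coalgebra.comul (R := k) (A := A)).lTensor M s)) =
      Coalgebra.comul (R := k) (TensorProduct.lid k A (LinearMap.rTensor A g s)) := by
    intro s
    induction s with
    | zero => simp
    | tmul x a => simp
    | add s₁ s₂ h₁ h₂ => simp only [map_add, h₁, h₂]
  have hmu : mu c g =
      ((TensorProduct.lid k A).toLinearMap ∘ₗ LinearMap.rTensor A g) ∘ₗ c.coact := rfl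
  have e1 : (mu c g).rTensor A (c.coact m) =
      ((TensorProduct.lid k A).toLinearMap ∘ₗ LinearMap.rTensor A g).rTensor A
        (c.coact.rTensor A (c.coact m)) := by
    rw [hmu, LinearMap.rTensor_comp, LinearMap.comp_apply]
  rw [e1, hco, hT, hD]
  rfl

theorem rTensor_dualTensorHom_tmul (φ : Module.Dual k M) (a : A) (s : M ⊗[k] A) :
    (dualTensorHom k M A (φ ⊗ₜ[k] a)).rTensor A s =
      a ⊗ₜ[k] (TensorProduct.lid k A (LinearMap.rTensor A φ s)) := by
  induction s with
  | zero => simp
  | tmul x c => simp [TensorProduct.smul_tmul]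
  | add s₁ s₂ h₁ h₂ => simp only [map_add, TensorProduct.tmul_add, h₁, h₂]

variable [Module.Flat k A] [Module.FinitePresentation k M]

/-- the coaction of the left dual, written `M^* → M^* ⊗ A`. -/
noncomputable def Lam : Module.Dual k M →ₗ[k] Module.Dual k M ⊗[k] A :=
  (dualTensorEquiv k M A).symm.toLinearMap ∘ₗ mu c

theorem dualTensorHom_Lam (g : Module.Dual k M) :
    dualTensorHom k M A (Lam c g) = mu c g :=
  dualTensorHom_symm_apply _

/-- the left coaction `M^* → A ⊗ M^*`. -/
noncomputable def lcoact : Module.Dual k M →ₗ[k] A ⊗[k] Module.Dual k M :=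
  (TensorProduct.comm k (Module.Dual k M) A).toLinearMap ∘ₗ Lam c

theorem lcoact_apply (g : Module.Dual k M) :
    lcoact c g = TensorProduct.comm k (Module.Dual k M) A (Lam c g) := rfl

/-- `a ⊗ (b ⊗ φ) ↦ φ ⊗ (a ⊗ b)`. -/
noncomputable def Om : A ⊗[k] (A ⊗[k] Module.Dual k M) ≃ₗ[k] Module.Dual k M ⊗[k] (A ⊗[k] A) :=
  (TensorProduct.assoc k A A (Module.Dual k M)).symm.trans
    (TensorProduct.comm k (A ⊗[k] A) (Module.Dual k M))

theorem Om_tmul (a b : A) (φ : Module.Dual k M) :
    Om (k := k) (A := A) (M := M) (a ⊗ₜ[k] (b ⊗ₜ[k] φ)) = φ ⊗ₜ[k] (a ⊗ₜ[k] b) := rfl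

theorem lcounit : (Coalgebra.counit (R := k) (A := A)).rTensor (Module.Dual k M) ∘ₗ lcoact c =
    TensorProduct.mk k k (Module.Dual k M) 1 := by
  refine LinearMap.ext fun g => ?_
  have h1 : (Coalgebra.counit (R := k) (A := A)).lTensor (Module.Dual k M) (Lam c g) =
      g ⊗ₜ[k] (1 : k) := by
    apply dualTensorHom_injective (R := k) (E := M) (M := k)
    refine LinearMap.ext fun m => ?_
    rw [dualTensorHom_lTensor, dualTensorHom_Lam, counit_mu, dualTensorHom_apply, smul_eq_mul,
      mul_one]
  have h2 : ∀ t : Module.Dual k M ⊗[k] A,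
      (Coalgebra.counit (R := k) (A := A)).rTensor (Module.Dual k M)
        (TensorProduct.comm k (Module.Dual k M) A t) =
      TensorProduct.comm k (Module.Dual k M) k
        ((Coalgebra.counit (R := k) (A := A)).lTensor (Module.Dual k M) t) := by
    intro t
    induction t with
    | zero => simp
    | tmul φ a => simp
    | add x y hx hy => simp only [map_add, hx, hy]
  rw [LinearMap.comp_apply, lcoact_apply, h2, h1, TensorProduct.comm_tmul]
  rfl

theorem lcoassoc : (lcoact c).lTensor A ∘ₗ lcoact c =
    (TensorProduct.assoc k A A (Module.Dual k M)).toLinearMap ∘ₗ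
      (Coalgebra.comul (R := k) (A := A)).rTensor (Module.Dual k M) ∘ₗ lcoact c := by
  refine LinearMap.ext fun g => ?_
  apply (Om (k := k) (A := A) (M := M)).injective
  -- right-hand side
  have hR : ∀ t : Module.Dual k M ⊗[k] A,
      Om (k := k) (A := A) (M := M) (TensorProduct.assoc k A A (Module.Dual k M)
        ((Coalgebra.comul (R := k) (A := A)).rTensor (Module.Dual k M)
          (TensorProduct.comm k (Module.Dual k M) A t))) =
      (Coalgebra.comul (R := k) (A := A)).lTensor (Module.Dual k M) t := by
    intro t
    induction t with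
    | zero => simp
    | tmul φ a =>
      rw [TensorProduct.comm_tmul, LinearMap.rTensor_tmul, LinearMap.lTensor_tmul]
      generalize Coalgebra.comul (R := k) a = w
      induction w with
      | zero => simp
      | tmul x y => rfl
      | add w₁ w₂ h₁ h₂ =>
        rw [TensorProduct.add_tmul, map_add, map_add, h₁, h₂, TensorProduct.tmul_add]
    | add x y hx hy => simp only [map_add, hx, hy]
  -- left-hand side, after applying `dualTensorHom` and evaluating
  have hsub : ∀ (a : A) (s : Module.Dual k M ⊗[k] A) (m : M),
      dualTensorHom k M (A ⊗[k] A) (Om (k := k) (A := A) (M := M)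
        (a ⊗ₜ[k] TensorProduct.comm k (Module.Dual k M) A s)) m =
      a ⊗ₜ[k] dualTensorHom k M A s m := by
    intro a s m
    induction s with
    | zero => simp
    | tmul ψ b =>
      rw [TensorProduct.comm_tmul, Om_tmul, dualTensorHom_apply, dualTensorHom_apply,
        TensorProduct.tmul_smul]
    | add x y hx hy =>
      simp only [map_add, TensorProduct.tmul_add, LinearMap.add_apply, hx, hy]
  have hL : ∀ (t : Module.Dual k M ⊗[k] A) (m : M),
      dualTensorHom k M (A ⊗[k] A) (Om (k := k) (A := A) (M := M)
        ((lcoact c).lTensor A (TensorProduct.comm k (Module.Dual k M) A t))) m =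
      (dualTensorHom k M A t).rTensor A (c.coact m) := by
    intro t m
    induction t with
    | zero => simp
    | tmul φ a =>
      rw [TensorProduct.comm_tmul, LinearMap.lTensor_tmul, lcoact_apply, hsub,
        dualTensorHom_Lam, rTensor_dualTensorHom_tmul]
      rfl
    | add x y hx hy =>
      simp only [map_add, LinearMap.add_apply, LinearMap.rTensor_add, hx, hy]
  apply dualTensorHom_injective (R := k) (E := M) (M := A ⊗[k] A)
  refine LinearMap.ext fun m => ?_
  rw [LinearMap.comp_apply, LinearMap.comp_apply, LinearMap.comp_apply, LinearEquiv.coe_coe,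
    lcoact_apply, hR, hL, dualTensorHom_lTensor, dualTensorHom_Lam, comul_mu]

end Aux


/-- Let `k` be a commutative ring, `A` a `k`-coalgebra that is flat over `k`, and `M` a finitely
presented `k`-module with a right `A`-comodule structure `m ↦ Σ m₀ ⊗ m₁`. Then the dual module `M^*
= Hom(M, k)` carries a left `A`-comodule structure whose coaction sends a form `g` to the element of
`A ⊗ M^*` that reads, through `a ⊗ φ ↦ (m ↦ φ(m) a)`, as the map `m ↦ Σ g(m₀) m₁` (the left dual of
the given structure). (The published statement takes coalgebras to be commutative algebras whose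
comultiplication and counit are algebra maps; the construction uses no multiplication on `A`, so
here `A` is any flat coalgebra.) -/
theorem result (k : Type u) [CommRing k]
    (A : Type v) [AddCommGroup A] [Module k A] [Coalgebra k A] [Module.Flat k A]
    (M : Type w) [AddCommGroup M] [Module k M] [Module.FinitePresentation k M]
    (c : HopfRep.Comod k A M) :
    ∃ l : ComodSub.LComod k A (Module.Dual k M), ComodSub.LComod.IsLDual c l := by
  refine ⟨{ coact := lcoact c, coassoc := lcoassoc c, counit_comp := lcounit c }, ?_⟩
  intro g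
  change dualTensorHom k M A (TensorProduct.comm k A (Module.Dual k M) (lcoact c g)) = ldualFun c g
  rw [lcoact_apply]
  have h1 : TensorProduct.comm k A (Module.Dual k M)
      (TensorProduct.comm k (Module.Dual k M) A (Lam c g)) = Lam c g := by
    generalize Lam c g = t
    induction t with
    | zero => simp
    | tmul φ a => rfl
    | add x y hx hy => simp only [map_add, hx, hy]
  rw [h1, dualTensorHom_Lam]
  rfl

end Groth.Agent.S16690
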