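import Groth.Statements.S16705
import Mathlib
import Groth.Agent.Lib.Helper4.QuotSt7

set_option autoImplicit false
universe u
open AlgSt

namespace Groth.Agent.S16705

open CategoryTheory AlgebraicGeometry in
/-- Categorical case, schemes as test category: for the quotient stack `[X/G]` of an action of a group
scheme `G` affine, flat and locally of finite presentation over `S`, the morphism `π : [X/G] → Y`
induced by a morphism of schemes `f : X → Y` is a categorical moduli space in schemes if and only if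
`f` is a categorical quotient in schemes. (The uniform variants and other test categories are not
stated.) -/
theorem result (S : Scheme.{u}) (G : Over S) [GrpObj G]
    [IsAffineHom G.hom] [Flat G.hom] [LocallyOfFinitePresentation G.hom]
    (X Y : Over S) (aX : AlgGrp.Action G X) (f : X ⟶ Y)
    (π : AlgSt.QuotSt Scheme.fppfPrecoverage G aX ⥤ᵇ AlgSt.ofSch Y)
    (hπ : Nonempty (BasedFunctor.comp (AlgSt.quotMap Scheme.fppfPrecoverage G aX) π ≅
      AlgSt.ofSpMap ((AlgSp.yon S).map f))) :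
    AlgSt.IsCatModuliSch π ↔ GIT.IsCatQuot aX f := by
  have hG1 : Flat G.hom := inferInstance
  have hG2 : LocallyOfFinitePresentation G.hom := inferInstance
  have hπ' : Groth.Agent.Lib.helper4.QuotSt7.invMap _ π = (AlgSp.yon S).map f := by
    apply Groth.Agent.Lib.helper4.QuotSt7.ofSpMap_injective
    rw [Groth.Agent.Lib.helper4.QuotSt7.ofSpMap_invMap]
    exact Groth.Agent.Lib.helper4.QuotSt7.eq_of_iso hπ
  have hinv : GIT.IsInvariant aX f := by
    have := Groth.Agent.Lib.helper4.QuotSt7.invMap_invariant _ π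
    rw [hπ', ← CategoryTheory.Functor.map_comp, ← CategoryTheory.Functor.map_comp] at this
    exact (AlgSp.yon S).map_injective this
  constructor
  · rintro ⟨-, hU⟩
    refine ⟨hinv, fun Z ψ hψ => ?_⟩
    have hψ0 : aX.act ≫ ψ = CartesianMonoidalCategory.snd G X ≫ ψ := hψ
    have hψ' : (AlgSp.yon S).map aX.act ≫ (AlgSp.yon S).map ψ =
        (AlgSp.yon S).map (CartesianMonoidalCategory.snd G X) ≫ (AlgSp.yon S).map ψ := by
      rw [← CategoryTheory.Functor.map_comp, ← CategoryTheory.Functor.map_comp, hψ0]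
    have hZ : ((AlgSp.yon S).obj Z).obj.IsRepresentable :=
      ⟨Z, ⟨AlgSp.representableByOfIso (Iso.refl _)⟩⟩
    obtain ⟨g, hg, hu⟩ := hU ((AlgSp.yon S).obj Z) hZ
      (Groth.Agent.Lib.helper4.QuotSt6.descFunctor _ ((AlgSp.yon S).map ψ) hG1 hG2 hψ')
    obtain ⟨χ, rfl⟩ := (AlgSp.yon S).map_surjective g
    have e1 := Groth.Agent.Lib.helper4.QuotSt7.eq_of_iso hg
    have e2 : (AlgSp.yon S).map f ≫ (AlgSp.yon S).map χ = (AlgSp.yon S).map ψ := by
      have := congrArg (Groth.Agent.Lib.helper4.QuotSt7.invMap _) e1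
      rwa [Groth.Agent.Lib.helper4.QuotSt7.invMap_comp, hπ',
        Groth.Agent.Lib.helper4.QuotSt7.invMap_descFunctor] at this
    refine ⟨χ, (AlgSp.yon S).map_injective (by
      rw [CategoryTheory.Functor.map_comp]; exact e2), fun χ' hχ' => ?_⟩
    have h3 : BasedFunctor.comp π (AlgSt.ofSpMap ((AlgSp.yon S).map χ')) =
        Groth.Agent.Lib.helper4.QuotSt6.descFunctor _ ((AlgSp.yon S).map ψ) hG1 hG2 hψ' := by
      apply Groth.Agent.Lib.helper4.QuotSt7.eq_of_invMap_eq hG1 hG2
      rw [Groth.Agent.Lib.helper4.QuotSt7.invMap_comp, hπ',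
        Groth.Agent.Lib.helper4.QuotSt7.invMap_descFunctor, ← CategoryTheory.Functor.map_comp, hχ']
    have h4 : (AlgSp.yon S).map χ' = (AlgSp.yon S).map χ := hu _ ⟨eqToIso h3⟩
    exact (AlgSp.yon S).map_injective h4
  · rintro ⟨-, hU⟩
    refine ⟨⟨Y, ⟨AlgSp.representableByOfIso (Iso.refl _)⟩⟩, fun N hN Φ => ?_⟩
    obtain ⟨Z, ⟨r⟩⟩ := hN
    let i : (AlgSp.yon S).obj Z ≅ N := AlgSp.isoOfRepresentableBy r
    obtain ⟨ψ₀, hψ₀⟩ := (AlgSp.yon S).map_surjective
      (Groth.Agent.Lib.helper4.QuotSt7.invMap N Φ ≫ i.inv)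
    have hinv0 : GIT.IsInvariant aX ψ₀ := by
      apply (AlgSp.yon S).map_injective
      rw [CategoryTheory.Functor.map_comp, CategoryTheory.Functor.map_comp, hψ₀, ← Category.assoc,
        Groth.Agent.Lib.helper4.QuotSt7.invMap_invariant, Category.assoc]
    obtain ⟨χ, hχ, hu⟩ := hU Z ψ₀ hinv0
    refine ⟨(AlgSp.yon S).map χ ≫ i.hom, ⟨eqToIso ?_⟩, ?_⟩
    · apply Groth.Agent.Lib.helper4.QuotSt7.eq_of_invMap_eq hG1 hG2
      rw [Groth.Agent.Lib.helper4.QuotSt7.invMap_comp, hπ', ← Category.assoc,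
        ← CategoryTheory.Functor.map_comp, hχ, hψ₀, Category.assoc, i.inv_hom_id, Category.comp_id]
    · rintro g' ⟨α⟩
      have e1 := Groth.Agent.Lib.helper4.QuotSt7.eq_of_iso ⟨α⟩
      have e2 : (AlgSp.yon S).map f ≫ g' = Groth.Agent.Lib.helper4.QuotSt7.invMap N Φ := by
        have := congrArg (Groth.Agent.Lib.helper4.QuotSt7.invMap N) e1
        rwa [Groth.Agent.Lib.helper4.QuotSt7.invMap_comp, hπ'] at this
      obtain ⟨χ', hχ'⟩ := (AlgSp.yon S).map_surjective (g' ≫ i.inv)
      have h5 : χ' = χ := hu χ' ((AlgSp.yon S).map_injective (by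
        rw [CategoryTheory.Functor.map_comp, hχ', ← Category.assoc, e2, hψ₀]))
      rw [← h5, hχ', Category.assoc, i.inv_hom_id, Category.comp_id]

end Groth.Agent.S16705
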