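import Groth.Statements.S16707
import Mathlib.RingTheory.Flat.Equalizer
import Mathlib.LinearAlgebra.TensorProduct.Quotient

set_option autoImplicit false
universe u v
open CAlg

namespace Groth.Agent.S16707

open TensorProduct in
lemma subsingleton_of_nilpotent {A : Type*} [CommRing A] (I : Ideal A) (hI : IsNilpotent I)
    (P : Type*) [AddCommGroup P] [Module A P] (h : Subsingleton ((A ⧸ I) ⊗[A] P)) :
    Subsingleton P := by
  have h1 : Subsingleton (P ⧸ (I • ⊤ : Submodule A P)) :=
    (TensorProduct.quotTensorEquivQuotSMul P I).symm.injective.subsingleton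
  have h2 : (I • ⊤ : Submodule A P) = ⊤ := Submodule.Quotient.subsingleton_iff.mp h1
  have h3 : ∀ n : ℕ, (I ^ n • ⊤ : Submodule A P) = ⊤ := by
    intro n
    induction n with
    | zero => simp
    | succ n ih => rw [pow_succ, mul_smul, h2, ih]
  obtain ⟨n, hn⟩ := hI
  have h4 := h3 n
  rw [hn, Ideal.zero_eq_bot, Submodule.bot_smul] at h4
  exact (Submodule.subsingleton_iff A).mp (subsingleton_of_bot_eq_top h4)

open TensorProduct in
/-- Let A be a commutative ring, I a nilpotent ideal of A and f : M → N a homomorphism of A-modules with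
N flat over A (no finiteness assumption on M or N). If the base change of f to A/I, that is M/IM →
N/IN, is bijective, then f is bijective. -/
theorem result (A : Type u) [CommRing A] (I : Ideal A)
    (hI : IsNilpotent I) (M N : Type v) [AddCommGroup M] [Module A M] [AddCommGroup N] [Module A N]
    [Module.Flat A N] (f : M →ₗ[A] N)
    (hf : Function.Bijective (f.baseChange (A ⧸ I))) :
    Function.Bijective f := by
  have hfl : ⇑(f.baseChange (A ⧸ I)) = ⇑(f.lTensor (A ⧸ I)) := LinearMap.baseChange_eq_ltensor f
  have hinj : Function.Injective (f.lTensor (A ⧸ I)) := hfl ▸ hf.1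
  have hsur : Function.Surjective (f.lTensor (A ⧸ I)) := hfl ▸ hf.2
  -- surjectivity
  have hs : Function.Surjective f := by
    have hex : Function.Exact f (LinearMap.range f).mkQ := LinearMap.exact_map_mkQ_range f
    have hex' := lTensor_exact (A ⧸ I) hex (LinearMap.range f).mkQ_surjective
    have hsub : Subsingleton ((A ⧸ I) ⊗[A] (N ⧸ LinearMap.range f)) := by
      refine ⟨fun x y => ?_⟩
      obtain ⟨x', rfl⟩ := LinearMap.lTensor_surjective (A ⧸ I) (LinearMap.range f).mkQ_surjective x
      obtain ⟨y', rfl⟩ := LinearMap.lTensor_surjective (A ⧸ I) (LinearMap.range f).mkQ_surjective y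
      obtain ⟨x'', rfl⟩ := hsur x'
      obtain ⟨y'', rfl⟩ := hsur y'
      rw [hex'.apply_apply_eq_zero, hex'.apply_apply_eq_zero]
    have := subsingleton_of_nilpotent I hI _ hsub
    have hr : LinearMap.range f = ⊤ := Submodule.Quotient.subsingleton_iff.mp this
    exact LinearMap.range_eq_top.mp hr
  refine ⟨?_, hs⟩
  -- injectivity
  have hK : Function.Injective ((LinearMap.ker f).subtype.lTensor (A ⧸ I)) :=
    LinearMap.lTensor_injective_of_exact_of_flat f hs (LinearMap.ker f).subtype
      (LinearMap.ker f).injective_subtype (LinearMap.exact_subtype_ker_map f) (A ⧸ I)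
  have hsub : Subsingleton ((A ⧸ I) ⊗[A] (LinearMap.ker f)) := by
    refine ⟨fun x y => ?_⟩
    apply hK
    apply hinj
    have hz : (f.lTensor (A ⧸ I)) ∘ₗ ((LinearMap.ker f).subtype.lTensor (A ⧸ I)) = 0 := by
      rw [← LinearMap.lTensor_comp]
      have : f ∘ₗ (LinearMap.ker f).subtype = 0 := by
        ext x; simp
      rw [this, LinearMap.lTensor_zero]
    have h1 := LinearMap.congr_fun hz x
    have h2 := LinearMap.congr_fun hz y
    simp only [LinearMap.coe_comp, Function.comp_apply, LinearMap.zero_apply] at h1 h2
    rw [h1, h2]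
  have := subsingleton_of_nilpotent I hI _ hsub
  rw [← LinearMap.ker_eq_bot]
  exact Submodule.subsingleton_iff_eq_bot.mp this

end Groth.Agent.S16707
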