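import Groth.Statements.S18812
import Groth.Agent.Lib.Helper22.Integral

set_option autoImplicit false
universe u v w
open TensorProduct
open HopfRep

namespace Groth.Agent.S18812

/-- Let k be a field and A a commutative Hopf algebra over k, the coordinate ring of an affine group
scheme G. Suppose the inclusion of constants k → A splits as a map of G-representations: there is a
k-linear map α : A → k which is a comodule map from the regular comodule A to the trivial comodule k
and satisfies α(1) = 1. Then every A-comodule, of any dimension, is semisimple: every subcomodule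
has a complementary subcomodule. (The source works with left comodules; this is the right-comodule
form. The converse implication is the easy one and is not part of this row.) -/
theorem result (k : Type u) [Field k] (A : Type v) [CommRing A] [HopfAlgebra k A]
    (α : A →ₗ[k] k) (hα : @Hoch.IsComodHom k _ A _ _ _ A _ _ _ k _ _ (HopfRep.Comod.trivial k A k) α)
    (h1 : α 1 = 1)
    (V : Type w) [AddCommGroup V] [Module k V] [HopfRep.Comod k A V] :
    HopfRep.IsSemisimpleComod k A V := by
  let _ : HopfRep.Comod k A k := HopfRep.Comod.trivial k A k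
  have hHM : TameAct.IsHopfMod k A k V := ⟨by
    intro b m
    have key : ∀ y : TensorProduct k V A,
        TameAct.hmSMul k A k V (b ⊗ₜ[k] (1 : A)) y = b • y := by
      intro y
      induction y using TensorProduct.induction_on with
      | zero => simp
      | tmul m' c => simp [TensorProduct.smul_tmul']
      | add y₁ y₂ h₁ h₂ => simp only [map_add, smul_add, h₁, h₂]
    rw [map_smul]
    exact (key _).symm⟩
  intro W hW
  obtain ⟨p, hp⟩ := W.subtype.exists_leftInverse_of_injective W.ker_subtype
  obtain ⟨e, he⟩ : ∃ e : V →ₗ[k] V, e = W.subtype ∘ₗ p := ⟨_, rfl⟩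
  have heW : e ∘ₗ W.subtype = W.subtype := by
    rw [he, LinearMap.comp_assoc, hp, LinearMap.comp_id]
  obtain ⟨lamV, hlamV⟩ : ∃ l : TensorProduct k V A →ₗ[k] V,
    l = Groth.Agent.Lib.helper22.Integral.lam α := ⟨_, rfl⟩
  have hlam_comod := Groth.Agent.Lib.helper22.Integral.lam_comod (k := k) (A := A) (B := k) (M := V) α hα
  rw [← hlamV] at hlam_comod
  obtain ⟨q, hq⟩ : ∃ q : V →ₗ[k] V,
    q = lamV ∘ₗ e.rTensor A ∘ₗ HopfRep.Comod.coact (k := k) (A := A) := ⟨_, rfl⟩
  -- (1) q is a comodule endomorphism
  have hq_comod : ∀ v : V, HopfRep.Comod.coact (k := k) (A := A) (q v) =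
      q.rTensor A (HopfRep.Comod.coact (k := k) (A := A) v) := by
    intro v
    have h1 : ∀ y : TensorProduct k V A, Hoch.Ind.coactAux k A V (e.rTensor A y) =
        (e.rTensor A).rTensor A (Hoch.Ind.coactAux k A V y) := by
      intro y
      have : Hoch.Ind.coactAux k A V ∘ₗ e.rTensor A =
          (e.rTensor A).rTensor A ∘ₗ Hoch.Ind.coactAux k A V := by
        apply TensorProduct.ext'
        intro m a
        simp only [LinearMap.comp_apply, LinearMap.rTensor_tmul, Hoch.Ind.coactAux_tmul]
        generalize CoalgebraStruct.comul (R := k) a = t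
        induction t using TensorProduct.induction_on with
        | zero => simp
        | tmul a' a'' => simp
        | add t₁ t₂ h₁ h₂ => simp only [map_add, TensorProduct.tmul_add, h₁, h₂]
      exact LinearMap.congr_fun this y
    have h2 : Hoch.Ind.coactAux k A V (HopfRep.Comod.coact (k := k) (A := A) v) =
        (HopfRep.Comod.coact (k := k) (A := A)).rTensor A (HopfRep.Comod.coact (k := k) (A := A) v) := by
      have := Groth.Agent.Lib.helper22.Integral.coassoc_apply (k := k) (A := A) v
      rw [Hoch.Ind.coactAux, LinearMap.comp_apply, ← this]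
      simp
    rw [hq]
    simp only [LinearMap.comp_apply]
    rw [hlam_comod, h1, h2]
    simp only [LinearMap.rTensor_comp, LinearMap.comp_apply]
  -- (2) lam maps W ⊗ A into W
  have hact : ∀ y : TensorProduct k W A,
      Groth.Agent.Lib.helper22.Integral.actα α (W.subtype.rTensor A y) ∈ W := by
    intro y
    induction y using TensorProduct.induction_on with
    | zero => simp
    | tmul w c =>
      simp only [LinearMap.rTensor_tmul, Submodule.subtype_apply,
        Groth.Agent.Lib.helper22.Integral.actα_tmul]
      exact W.smul_mem _ w.2
    | add y₁ y₂ h₁ h₂ => rw [map_add, map_add]; exact W.add_mem h₁ h₂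
  have hlamW : ∀ y : TensorProduct k W A, lamV (W.subtype.rTensor A y) ∈ W := by
    intro y
    induction y using TensorProduct.induction_on with
    | zero => simp
    | tmul w a =>
      obtain ⟨y', hy'⟩ := hW w.1 w.2
      have hcomm : ∀ (g : A →ₗ[k] A) (y' : TensorProduct k W A),
          g.lTensor V (W.subtype.rTensor A y') = W.subtype.rTensor A (g.lTensor W y') := by
        intro g y'
        have := (LinearMap.lTensor_comp_rTensor _ W.subtype g).trans
          (LinearMap.rTensor_comp_lTensor _ W.subtype g).symm
        exact LinearMap.congr_fun this y'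
      rw [hlamV, Groth.Agent.Lib.helper22.Integral.lam, LinearMap.comp_apply,
        LinearMap.rTensor_tmul, Groth.Agent.Lib.helper22.Integral.tau,
        Groth.Agent.Lib.helper22.Integral.shear_tmul, Submodule.subtype_apply, ← hy', hcomm]
      exact hact _
    | add y₁ y₂ h₁ h₂ => rw [map_add, map_add]; exact W.add_mem h₁ h₂
  have hqW : ∀ v : V, q v ∈ W := by
    intro v
    rw [hq]
    simp only [LinearMap.comp_apply]
    rw [he, LinearMap.rTensor_comp, LinearMap.comp_apply]
    exact hlamW _
  -- (3) q is the identity on W
  have hqid : ∀ w : W, q w.1 = w.1 := by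
    intro w
    obtain ⟨y', hy'⟩ := hW w.1 w.2
    rw [hq]
    simp only [LinearMap.comp_apply]
    rw [← hy', ← LinearMap.comp_apply (e.rTensor A), ← LinearMap.rTensor_comp, heW, hy', hlamV,
      Groth.Agent.Lib.helper22.Integral.lam_coact, h1, one_smul]
  refine ⟨LinearMap.ker q, ?_, ?_⟩
  · intro v hv
    have hex := Module.Flat.rTensor_exact A (LinearMap.exact_subtype_ker_map q)
    apply (hex _).mp
    rw [← hq_comod, LinearMap.mem_ker.mp hv, map_zero]
  · have := LinearMap.isCompl_of_proj (f := q.codRestrict W hqW) (fun w => Subtype.ext (hqid w))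
    rwa [LinearMap.ker_codRestrict] at this


end Groth.Agent.S18812
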