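import Groth.Statements.S16708
import Groth.Agent.S18812

set_option autoImplicit false
universe u
open HopfRep

namespace Groth.Agent.S16708

/-- Let G be a finite group and k a field in which the order of G is a nonzero element. Then the
constant group scheme of G over k is linearly reductive: every finite-dimensional comodule over its
coordinate Hopf algebra (the algebra of functions G → k with the Hopf structure of the constant
group) is semisimple, i.e. every subcomodule admits a complementary subcomodule. -/
theorem result (k : Type u) [Field k] (G : Type u) [Group G]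
    [Fintype G] [DecidableEq G] (hG : ((Fintype.card G : ℕ) : k) ≠ 0) :
    HopfRep.IsLinearlyReductive k (ConstGrp.F k G) := by
  intro V _ _ _ _
  let c : k := ((Fintype.card G : ℕ) : k)⁻¹
  let α : ConstGrp.F k G →ₗ[k] k :=
    c • ∑ g : G, (ConstGrp.ev k g).toLinearMap
  have hαe : ∀ g : G, α (ConstGrp.e k g) = c := by
    intro g
    simp only [α, LinearMap.smul_apply, LinearMap.sum_apply, AlgHom.toLinearMap_apply,
      ConstGrp.ev_apply, smul_eq_mul]
    rw [Finset.sum_eq_single g]
    · rw [ConstGrp.e_apply_self, mul_one]
    · intro h _ hne
      exact ConstGrp.e_apply_of_ne hne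
    · intro hk; exact absurd (Finset.mem_univ g) hk
  refine Groth.Agent.S18812.result k (ConstGrp.F k G) α ?_ ?_ V
  · apply ConstGrp.linearMap_ext
    intro g
    simp only [LinearMap.comp_apply]
    change (TensorProduct.mk k k (ConstGrp.F k G)).flip 1 (α (ConstGrp.e k g)) =
      α.rTensor (ConstGrp.F k G) (CoalgebraStruct.comul (R := k) (ConstGrp.e k g))
    rw [ConstGrp.comul_e, map_sum]
    simp only [LinearMap.rTensor_tmul, hαe, LinearMap.flip_apply, TensorProduct.mk_apply]
    rw [← TensorProduct.tmul_sum]
    congr 1
    rw [← ConstGrp.sum_e (R := k) (G := G)]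
    exact (Fintype.sum_equiv (Equiv.mulLeft g⁻¹ |>.trans (Equiv.inv G)) _ _ (fun a => by simp)).symm
  · simp only [α, LinearMap.smul_apply, LinearMap.sum_apply, AlgHom.toLinearMap_apply,
      ConstGrp.ev_apply, ConstGrp.one_apply, smul_eq_mul, Finset.sum_const, Finset.card_univ,
      nsmul_eq_mul, mul_one, c]
    exact inv_mul_cancel₀ hG


end Groth.Agent.S16708
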