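import Groth.Statements.S16709
import Groth.Agent.Lib.Helper22.HomInv

set_option autoImplicit false
universe u v
open HopfRep

namespace Groth.Agent.S16709

open TensorProduct in
/-- The equivalence of complete reducibility of finite-dimensional representations with the
invariant-section criterion. Let k be a field and A a finitely generated commutative Hopf algebra
over k, the coordinate ring of an affine algebraic group G. Then G is linearly reductive (every
finite-dimensional A-comodule is semisimple) if and only if for every finite-dimensional A-comodule
V and every surjective k-linear map π : V → k which is a comodule map to the trivial comodule (that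
is, (π ⊗ id) ∘ ρ_V = (c ↦ c ⊗ 1) ∘ π for the coaction ρ_V) there is a fixed vector v of V with π v ≠
0. (The published fourth condition is phrased with all G-fixed points of the projective space of V
and G-invariant linear forms; it fails for a fixed point on which G acts through a non-trivial
character, for instance the multiplicative group acting on a line with weight one, and this row
states the condition in the form the published proof uses: surjections onto the trivial
one-dimensional comodule.) -/
theorem result (k : Type u) [Field k] (A : Type v)
    [CommRing A] [HopfAlgebra k A] (hA : Algebra.FiniteType k A) :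
    HopfRep.IsLinearlyReductive k A ↔
      ∀ (V : Type v) [AddCommGroup V] [Module k V] [HopfRep.Comod k A V], Module.Finite k V →
        ∀ π : V →ₗ[k] k, Function.Surjective π →
          LinearMap.rTensor A π ∘ₗ HopfRep.Comod.coact (k := k) (A := A) (V := V) =
            (TensorProduct.mk k k A).flip (1 : A) ∘ₗ π →
          ∃ v ∈ HopfRep.fixedPts k A V, π v ≠ 0 := by
  constructor
  · intro hG V _ _ _ hfin π hπ hcomod
    have hssV := Groth.Agent.Lib.helper22.isSemisimpleComod_of_isLinearlyReductive hG V
    obtain ⟨EV, hEV⟩ := Groth.Agent.Lib.helper22.exists_isReynolds (k := k) (A := A) (V := V) hssV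
    let ck : HopfRep.Comod k A k := HopfRep.Comod.trivial k A k
    have hid : @Groth.Agent.Lib.helper22.IsReynolds k _ A _ _ k _ _ ck LinearMap.id := by
      refine ⟨?_, ?_, ?_⟩
      · unfold Hoch.IsComodHom
        rw [LinearMap.rTensor_id, LinearMap.comp_id, LinearMap.id_comp]
      · rfl
      · intro x
        constructor
        · intro _
          change (TensorProduct.mk k k A).flip 1 x = x ⊗ₜ[k] (1 : A)
          rfl
        · intro _; rfl
    have hπc : @Hoch.IsComodHom k _ A _ _ _ V _ _ _ k _ _ ck π := hcomod.symm
    obtain ⟨v₀, hv₀⟩ := hπ 1
    refine ⟨EV v₀, hEV.mem_fixedPts v₀, ?_⟩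
    have := @Groth.Agent.Lib.helper22.IsReynolds.natural k _ A _ _ V _ _ _ k _ _ ck hssV EV LinearMap.id
      hEV hid π hπc v₀
    rw [← this, LinearMap.id_apply, hv₀]
    exact one_ne_zero
  · intro H
    apply Groth.Agent.Lib.helper22.isLinearlyReductive_of_fixedPts_lift
    intro V W _ _ cV _ _ cW φ hφ hsurj hfinV hfinW w hw
    by_cases hw0 : w = 0
    · exact ⟨0, Submodule.zero_mem _, by rw [map_zero, hw0]⟩
    · have hw' : cW.coact w = w ⊗ₜ[k] (1 : A) := hw
      -- the line spanned by `w` is a subcomodule, and so is its preimage
      have hV' : HopfRep.IsSubcomod (k := k) (A := A) ((Submodule.span k {w}).comap φ) := by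
        rw [Groth.Agent.Lib.helper22.isSubcomod_iff]
        intro f v hv
        rw [Submodule.mem_comap] at hv ⊢
        rw [Groth.Agent.Lib.helper22.actDual_comm_of_isComodHom φ hφ]
        obtain ⟨a, ha⟩ := Submodule.mem_span_singleton.mp hv
        rw [← ha, map_smul, Groth.Agent.Lib.helper22.actDual_apply, hw',
          Groth.Agent.Lib.helper22.slice_tmul]
        exact Submodule.smul_mem _ _ (Submodule.smul_mem _ _ (Submodule.mem_span_singleton_self w))
      obtain ⟨V', hV'def⟩ : ∃ V' : Submodule k V, V' = (Submodule.span k {w}).comap φ := ⟨_, rfl⟩
      rw [← hV'def] at hV'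
      let cV' := ComodSub.Comod.restr cV V' hV'
      have hj := ComodSub.isComodHom_subtype cV V' hV'
      obtain ⟨lam, hlam⟩ := (LinearMap.toSpanSingleton k W w).exists_leftInverse_of_injective
        (LinearMap.ker_eq_bot.mpr (fun x y hxy => by
          have hxy' : x • w = y • w := hxy
          exact smul_left_injective k hw0 hxy'))
      have hlamw : lam w = 1 := by
        have := LinearMap.congr_fun hlam 1
        simpa using this
      let π : V' →ₗ[k] k := lam ∘ₗ φ ∘ₗ V'.subtype
      have hπφ : ∀ v : V', φ (v : V) = π v • w := by
        intro v
        have hv : φ (v : V) ∈ Submodule.span k {w} := Submodule.mem_comap.mp (hV'def.le v.2)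
        obtain ⟨a, ha⟩ := Submodule.mem_span_singleton.mp hv
        simp only [π, LinearMap.comp_apply, Submodule.subtype_apply]
        rw [← ha, map_smul, hlamw, smul_eq_mul, mul_one]
      obtain ⟨v₀, hv₀⟩ := hsurj w
      have hv₀mem : v₀ ∈ V' := by
        rw [hV'def, Submodule.mem_comap, hv₀]
        exact Submodule.mem_span_singleton_self w
      have hπsurj : Function.Surjective π := by
        intro a
        refine ⟨a • ⟨v₀, hv₀mem⟩, ?_⟩
        simp only [π, map_smul, LinearMap.comp_apply, Submodule.subtype_apply, hv₀, hlamw,
          smul_eq_mul, mul_one]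
      have hπcomod : LinearMap.rTensor A π ∘ₗ cV'.coact = (TensorProduct.mk k k A).flip (1 : A) ∘ₗ π := by
        apply LinearMap.ext
        intro v
        simp only [LinearMap.comp_apply, LinearMap.flip_apply, TensorProduct.mk_apply]
        have h1 : LinearMap.rTensor A π (cV'.coact v) =
            lam.rTensor A (φ.rTensor A (V'.subtype.rTensor A (cV'.coact v))) := by
          generalize cV'.coact v = z
          induction z using TensorProduct.induction_on with
          | zero => simp
          | tmul x a => simp [π]
          | add z₁ z₂ h₁ h₂ => simp only [map_add, h₁, h₂]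
        rw [h1, ComodSub.restr_coact_coe]
        have h2 := LinearMap.congr_fun hφ (v : V)
        simp only [LinearMap.comp_apply] at h2
        change lam.rTensor A (φ.rTensor A (cV.coact (v : V))) = _
        erw [← h2]
        rw [hπφ v, map_smul]
        erw [hw']
        rw [map_smul, LinearMap.rTensor_tmul, hlamw, TensorProduct.smul_tmul', smul_eq_mul, mul_one]
      have hfinV' : Module.Finite k V' := inferInstance
      obtain ⟨v, hv, hvne⟩ := @H V' _ _ cV' hfinV' π hπsurj hπcomod
      have hvfix : (v : V) ∈ HopfRep.fixedPts k A V :=
        @Groth.Agent.Lib.helper22.map_mem_fixedPts k _ A _ _ V' _ _ cV' V _ _ cV V'.subtype hj v hv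
      refine ⟨(π v)⁻¹ • (v : V), Submodule.smul_mem _ _ hvfix, ?_⟩
      rw [map_smul, hπφ v, smul_smul, inv_mul_cancel₀ hvne, one_smul]

end Groth.Agent.S16709
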