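import Groth.Statements.S17287
import Mathlib
import Groth.Agent.Lib.Helper18.CurveLift
import Groth.Agent.Lib.Helper18.CurveMapFinite
import Groth.Agent.Lib.Lead.CurveEuler

set_option autoImplicit false
universe u
open CategoryTheory CategoryTheory.Limits AlgebraicGeometry TopologicalSpace
open Variety

namespace Groth.Agent.S17287

open Groth.Agent.Lib.Helper18.CurveLift

/-- the hypotheses of `exists_lift` for the support of an integral closed subscheme of dimension one -/
theorem curve_data {X : Scheme.{u}} (C : X.IdealSheafData) [IsIntegral C.subscheme]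
    (hC : topologicalKrullDim (C.support : Set X) = 1) :
    ∃ x : X, IsGenericPoint x (C.support : Set X) ∧
      (∀ p ∈ (C.support : Set X), p ≠ x → IsClosed ({p} : Set X)) ∧
      ∃ p ∈ (C.support : Set X), p ≠ x := by
  set ι := C.subschemeι with hι
  have hrange : Set.range ι = (C.support : Set X) := C.range_subschemeι
  have hdim : topologicalKrullDim C.subscheme = 1 := by
    have e : C.subscheme ≃ₜ ↥(Set.range ι) := ι.isClosedEmbedding.isEmbedding.toHomeomorph
    rw [IsHomeomorph.topologicalKrullDim_eq e e.isHomeomorph, hrange]
    exact hC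
  refine ⟨ι (genericPoint C.subscheme), ?_, ?_, ?_⟩
  · change closure {ι (genericPoint C.subscheme)} = _
    rw [← Set.image_singleton, ι.isClosedEmbedding.closure_image_eq,
      (genericPoint_spec C.subscheme).def, Set.image_univ, hrange]
  · intro p hp hpx
    rw [← hrange] at hp
    obtain ⟨z, rfl⟩ := hp
    have hz : z ≠ genericPoint C.subscheme := fun h => hpx (by rw [h])
    have h1 := Groth.Agent.Lib.Helper18.CurveMapFinite.isClosed_singleton_of_ne_genericPoint
      C.subscheme hdim.le z hz
    have h2 := ι.isClosedEmbedding.isClosedMap _ h1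
    rwa [Set.image_singleton] at h2
  · have h1 := Groth.Agent.Lib.Helper18.CurveMapFinite.not_isClosed_singleton_genericPoint
      C.subscheme hdim
    obtain ⟨z, hz⟩ : ∃ z : C.subscheme, z ≠ genericPoint C.subscheme := by
      by_contra hcon
      push Not at hcon
      apply h1
      have : ({genericPoint C.subscheme} : Set C.subscheme) = Set.univ := by
        ext w
        simp [hcon w]
      rw [this]; exact isClosed_univ
    refine ⟨ι z, by rw [← hrange]; exact ⟨z, rfl⟩, fun h => hz (ι.isClosedEmbedding.injective h)⟩

/-- Let f : Y → X be a surjective k-morphism of proper schemes over a field k and C ⊆ X an integral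
closed subscheme of dimension one. Then there is an integral closed subscheme C' ⊆ Y of dimension
one with f(C') = C as closed subsets. (The source states this for proper algebraic spaces over k;
this is the case of schemes.) -/
theorem result (k : Type u) [Field k] (X Y : Scheme.{u})
    [X.Over (Spec (CommRingCat.of k))] [IsProper (X ↘ (Spec (CommRingCat.of k)))] [Y.Over (Spec (CommRingCat.of k))] [IsProper (Y ↘ (Spec (CommRingCat.of k)))]
    (f : Y ⟶ X) (hf : f ≫ (X ↘ (Spec (CommRingCat.of k))) = Y ↘ (Spec (CommRingCat.of k))) [Surjective f]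
    (C : X.IdealSheafData) [IsIntegral C.subscheme] (hC : topologicalKrullDim (C.support : Set X) = 1) :
    ∃ C' : Y.IdealSheafData, IsIntegral C'.subscheme ∧ topologicalKrullDim (C'.support : Set Y) = 1 ∧
      f.base '' (C'.support : Set Y) = (C.support : Set X) := by
  haveI : IsNoetherian Y := Groth.Agent.Lib.Lead.CurveEuler.isNoetherian k Y
  haveI : IsProper f := by
    haveI : IsProper (f ≫ (X ↘ (Spec (CommRingCat.of k)))) := by rw [hf]; infer_instance
    exact IsProper.of_comp f (X ↘ (Spec (CommRingCat.of k)))
  obtain ⟨x, hx, hD, hD2⟩ := curve_data C hC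
  obtain ⟨T, hTirr, hTD, hTdim⟩ := exists_lift f f.isClosedMap f.surjective hx hD hD2
  refine ⟨redI T, isIntegral_redI T hTirr, ?_, ?_⟩
  · rw [coe_support_redI]; exact hTdim
  · rw [coe_support_redI]; exact hTD

end Groth.Agent.S17287
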