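import Groth.Statements.S16712
import Mathlib
import Groth.Agent.Lib.Helper18.NefPull
import Groth.Agent.S17287

set_option autoImplicit false
universe u
open CategoryTheory CategoryTheory.Limits AlgebraicGeometry TopologicalSpace
open Variety

namespace Groth.Agent.S16712

open Groth.Agent.Lib.Helper18.CurveLift Groth.Agent.Lib.Helper18.NefPull
open Groth.Agent.Lib.helper11.InvMod

/-- set version of `dim_eq_one_of_closed_points` -/
theorem dim_eq_one_of_closed_points_set {X : Type*} [TopologicalSpace X] [QuasiSober X] [T0Space X]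
    (D : Set X) (hDc : IsClosed D) (x : X) (hx : IsGenericPoint x D)
    (hD : ∀ p ∈ D, p ≠ x → IsClosed ({p} : Set X)) (hD2 : ∃ p ∈ D, p ≠ x) :
    topologicalKrullDim ↥D = 1 := by
  have hirr : IsIrreducible D := by
    rw [← hx.def]; exact isIrreducible_singleton.closure
  haveI : QuasiSober ↥D := hDc.isClosedEmbedding_subtypeVal.quasiSober
  haveI : IrreducibleSpace ↥D := Subtype.irreducibleSpace hirr
  have hg : (genericPoint ↥D).1 = x := by
    have h1 : IsGenericPoint (genericPoint ↥D).1 D := by
      change closure {(genericPoint ↥D).1} = D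
      rw [← Set.image_singleton (f := Subtype.val),
        hDc.isClosedEmbedding_subtypeVal.closure_image_eq,
        (genericPoint_spec ↥D).def, Set.image_univ, Subtype.range_coe]
    exact h1.eq hx
  apply dim_eq_one_of_closed_points
  · intro z hz
    have hz1 : z.1 ≠ x := by
      intro h
      apply hz
      apply Subtype.ext
      rw [h, hg]
    have h2 := hD z.1 z.2 hz1
    have h3 : ({z} : Set ↥D) = Subtype.val ⁻¹' {z.1} := by
      ext w
      simp only [Set.mem_singleton_iff, Set.mem_preimage]
      exact ⟨fun h => by rw [h], fun h => Subtype.ext h⟩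
    rw [h3]
    exact h2.preimage continuous_subtype_val
  · obtain ⟨p, hpD, hpx⟩ := hD2
    refine ⟨⟨p, hpD⟩, fun h => hpx ?_⟩
    rw [← hg, ← h]

/-- pullback of a nef module along any morphism is nef (one curve) -/
theorem nefq_pullback_nonneg (k : Type u) [Field k] (X X' : Scheme.{u})
    [X.Over (Spec (CommRingCat.of k))] [IsProper (X ↘ (Spec (CommRingCat.of k)))]
    [X'.Over (Spec (CommRingCat.of k))] [IsProper (X' ↘ (Spec (CommRingCat.of k)))]
    (f : X' ⟶ X) (hf : f ≫ (X ↘ (Spec (CommRingCat.of k))) = X' ↘ (Spec (CommRingCat.of k)))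
    (L : X.Modules) (hL : PicF.IsInvertible L)
    (hnef : ∀ C : X.IdealSheafData, IsIntegral C.subscheme →
        topologicalKrullDim (C.support : Set X) = 1 → 0 ≤ nefq k X C L)
    (C' : X'.IdealSheafData) [IsIntegral C'.subscheme]
    (hC' : topologicalKrullDim (C'.support : Set X') = 1) :
    0 ≤ nefq k X' C' ((Scheme.Modules.pullback f).obj L) := by
  haveI : IsProper f := by
    haveI : IsProper (f ≫ (X ↘ (Spec (CommRingCat.of k)))) := by rw [hf]; infer_instance
    exact IsProper.of_comp f (X ↘ (Spec (CommRingCat.of k)))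
  set ι' := C'.subschemeι with hι'
  have hrange' : Set.range ι' = (C'.support : Set X') := C'.range_subschemeι
  have hdimZ' : topologicalKrullDim C'.subscheme = 1 := by
    have e : C'.subscheme ≃ₜ ↥(Set.range ι') := ι'.isClosedEmbedding.isEmbedding.toHomeomorph
    rw [IsHomeomorph.topologicalKrullDim_eq e e.isHomeomorph, hrange']
    exact hC'
  have hgen' : IsGenericPoint (ι' (genericPoint C'.subscheme)) (C'.support : Set X') := by
    change closure {ι' (genericPoint C'.subscheme)} = _
    rw [← Set.image_singleton, ι'.isClosedEmbedding.closure_image_eq,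
      (genericPoint_spec C'.subscheme).def, Set.image_univ, hrange']
  set y := f (ι' (genericPoint C'.subscheme)) with hy
  set D : Set X := f '' (C'.support : Set X') with hDdef
  have hDc : IsClosed D := f.isClosedMap _ C'.support.isClosed
  have hyD : IsGenericPoint y D := by
    change closure {y} = D
    rw [hy, ← Set.image_singleton, f.isClosedMap.closure_image_eq_of_continuous f.continuous,
      hgen'.def]
  have hL1 : FlatMod.IsFinLocFreeOfRank 1 L :=
    Groth.Agent.Lib.Helper18.EffCartierCurve.isFinLocFreeOfRank_one_of_isInvertible hL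
  have hLf : FlatMod.IsFinLocFree L :=
    Groth.Agent.Lib.helper16.FLF.isFinLocFree_of_isFinLocFreeOfRank hL1
  by_cases hycl : IsClosed ({y} : Set X)
  · -- the curve is contracted
    letI : C'.subscheme.Over (Spec (CommRingCat.of k)) :=
      ⟨ι' ≫ (X' ↘ Spec (CommRingCat.of k))⟩
    rw [nefq_eq_deg k X' C' _ (Groth.Agent.Lib.helper16.FLF.isFinLocFree_pullback f hLf)]
    have hDy : D = {y} := by rw [← hyD.def, hycl.closure_eq]
    obtain ⟨U, hyU, hU⟩ := hL y
    have htop : (ι' ≫ f) ⁻¹ᵁ U = ⊤ := by
      ext z
      simp only [TopologicalSpace.Opens.coe_top, Set.mem_univ, iff_true]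
      change f (ι' z) ∈ U
      have : f (ι' z) ∈ D := ⟨ι' z, by rw [← hrange']; exact ⟨z, rfl⟩, rfl⟩
      rw [hDy, Set.mem_singleton_iff] at this
      rw [this]; exact hyU
    have h1 := IsTrivOn.pullback (ι' ≫ f) (U := U) hU
    rw [htop] at h1
    obtain ⟨e⟩ := isTrivOn_top_iff.mp h1
    have e2 : (Scheme.Modules.pullback ι').obj ((Scheme.Modules.pullback f).obj L) ≅
      (Scheme.Modules.pullback (ι' ≫ f)).obj L := (Scheme.Modules.pullbackComp ι' f).app L
    unfold Curv2.deg
    rw [Groth.Agent.Lib.Lead.CurveEuler.euler_eq_of_iso k C'.subscheme (e2 ≪≫ e)]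
    simp
  · -- the image is a curve
    have hD : ∀ p ∈ D, p ≠ y → IsClosed ({p} : Set X) := by
      rintro _ ⟨w, hw, rfl⟩ hne
      rw [← hrange'] at hw
      obtain ⟨z, rfl⟩ := hw
      have hz : z ≠ genericPoint C'.subscheme := fun h => hne (by rw [h])
      have h1 := Groth.Agent.Lib.Helper18.CurveMapFinite.isClosed_singleton_of_ne_genericPoint
        C'.subscheme hdimZ'.le z hz
      have h2 := f.isClosedMap _ (ι'.isClosedEmbedding.isClosedMap _ h1)
      rwa [Set.image_singleton, Set.image_singleton] at h2
    have hD2 : ∃ p ∈ D, p ≠ y := by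
      by_contra hcon
      push Not at hcon
      apply hycl
      have : D = {y} := Set.Subset.antisymm (fun p hp => hcon p hp)
        (Set.singleton_subset_iff.mpr (by rw [← hyD.def]; exact subset_closure rfl))
      rw [← this]; exact hDc
    have hdimD := dim_eq_one_of_closed_points_set D hDc y hyD hD hD2
    have hirr : IsIrreducible D := by
      rw [← hyD.def]; exact isIrreducible_singleton.closure
    set C := redI (⟨D, hDc⟩ : Closeds X) with hCdef
    haveI : IsIntegral C.subscheme := isIntegral_redI _ hirr
    have hsupp : (C.support : Set X) = D := coe_support_redI _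
    have hC : topologicalKrullDim (C.support : Set X) = 1 := by rw [hsupp]; exact hdimD
    obtain ⟨r, hr, heq⟩ := nefq_pullback k X X' f hf L hL C hC C' hC' (by rw [hsupp])
    rw [heq]
    exact mul_nonneg (Int.natCast_nonneg r) (hnef C inferInstance hC)

/-- Let X and X' be proper schemes over a field k, f : X' → X a surjective k-morphism and L an
invertible O_X-module. Then L is nef, meaning χ(O_C ⊗ L) - χ(O_C) ≥ 0 for every integral closed
subscheme C ⊆ X of dimension one, if and only if the pullback f^*L is nef on X' in the same sense. -/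
theorem result (k : Type u) [Field k] (X X' : Scheme.{u})
    [X.Over (Spec (CommRingCat.of k))] [IsProper (X ↘ (Spec (CommRingCat.of k)))]
    [X'.Over (Spec (CommRingCat.of k))] [IsProper (X' ↘ (Spec (CommRingCat.of k)))]
    (f : X' ⟶ X) (hf : f ≫ (X ↘ (Spec (CommRingCat.of k))) = X' ↘ (Spec (CommRingCat.of k)))
    [Surjective f] (L : X.Modules) (hL : PicF.IsInvertible L) :
    (∀ C : X.IdealSheafData, IsIntegral C.subscheme →
        topologicalKrullDim (C.support : Set X) = 1 →
          0 ≤ Curv2.euler k X (CohB1.tensorMod (ClSub.quotMod C) L) - Curv2.euler k X (ClSub.quotMod C)) ↔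
      (∀ C' : X'.IdealSheafData, IsIntegral C'.subscheme →
        topologicalKrullDim (C'.support : Set X') = 1 →
          0 ≤ Curv2.euler k X' (CohB1.tensorMod (ClSub.quotMod C') ((Scheme.Modules.pullback f).obj L)) -
            Curv2.euler k X' (ClSub.quotMod C')) := by
  constructor
  · intro hnef C' hCi hC'
    haveI := hCi
    exact nefq_pullback_nonneg k X X' f hf L hL hnef C' hC'
  · intro hnef' C hCi hC
    haveI := hCi
    haveI : IsNoetherian X' := Groth.Agent.Lib.Lead.CurveEuler.isNoetherian k X'
    haveI : IsProper f := by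
      haveI : IsProper (f ≫ (X ↘ (Spec (CommRingCat.of k)))) := by rw [hf]; infer_instance
      exact IsProper.of_comp f (X ↘ (Spec (CommRingCat.of k)))
    obtain ⟨x, hx, hD, hD2⟩ := Groth.Agent.S17287.curve_data C hC
    obtain ⟨T, hTirr, hTD, hTdim⟩ := exists_lift f f.isClosedMap f.surjective hx hD hD2
    haveI : IsIntegral (redI T).subscheme := isIntegral_redI T hTirr
    have hsupp : ((redI T).support : Set X') = T := coe_support_redI T
    have hC' : topologicalKrullDim ((redI T).support : Set X') = 1 := by rw [hsupp]; exact hTdim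
    obtain ⟨r, hr, heq⟩ := nefq_pullback k X X' f hf L hL C hC (redI T) hC' (by rw [hsupp]; exact hTD)
    have h1 : 0 ≤ nefq k X' (redI T) ((Scheme.Modules.pullback f).obj L) :=
      hnef' (redI T) inferInstance hC'
    rw [heq] at h1
    have hr' : (0 : ℤ) < (r : ℤ) := by exact_mod_cast hr
    exact nonneg_of_mul_nonneg_right h1 hr'

end Groth.Agent.S16712
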