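import Groth.Statements.S16713
import Mathlib
import Groth.Agent.Lib.Helper17.LciH1c

set_option autoImplicit false
set_option linter.style.haveILetI false
universe u
open CotT

namespace Groth.Agent.S16713

/-- The final assertion, in the case where the base is a field. Let k be a field and A a k-algebra which
is a local complete intersection over k (of finite type, presented by a polynomial algebra in
finitely many variables with Koszul-regular kernel) and generically smooth over k, in the sense that
the localization of A at each of its minimal primes is formally smooth over k. Then H^1 of the naive
cotangent complex L_{A/k} vanishes: for the presentation A = P/I by the polynomial k-algebra P on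
the elements of A, the conormal map I/I² → Ω_{P/k} ⊗_P A is injective, so that L_{A/k} is
quasi-isomorphic to Ω_{A/k}. (The published statement is for a generically smooth syntomic morphism
over an arbitrary base, where it fails when the base has embedded points: over B = k[s,t]/(s², st)
with 2 invertible in k, the algebra B[x]/(x² − t) is a relative complete intersection, free of rank
two and smooth where x is invertible, yet the class of s·x·(x² − t) is a non-zero element of the
kernel of its conormal map. This row states the case of an algebra of finite type over a field.) -/
theorem result (k : Type u) [Field k]
    (A : Type u) [CommRing A] [Algebra k A] (hlci : LCI.IsLCI k A)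
    (hgs : ∀ (p : Ideal A) [p.IsPrime], p ∈ minimalPrimes A → Algebra.FormallySmooth k (Localization.AtPrime p)) :
    Subsingleton (Algebra.H1Cotangent k A) := by
  classical
  obtain ⟨hft, n, f, hf, hK⟩ := hlci
  haveI : IsNoetherianRing A := Algebra.FiniteType.isNoetherianRing k A
  let E : Algebra.Extension k A := Algebra.Extension.ofSurjective f hf
  haveI : Algebra.FormallySmooth k E.Ring :=
    inferInstanceAs (Algebra.FormallySmooth k (MvPolynomial (Fin n) k))
  haveI := Groth.Agent.Lib.helper26.CMCat.isCohenMacaulayRing_field k
  have hPCM : LocCoh.IsCohenMacaulayRing (MvPolynomial (Fin n) k) :=
    Groth.Agent.Lib.helper26.CMPoly.isCohenMacaulayRing_mvPolynomial k n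
  haveI : LocCoh.IsCohenMacaulayRing E.Ring := hPCM
  exact Groth.Agent.Lib.helper17.LciH1.subsingleton_h1Cotangent_of_extension E hK hgs

end Groth.Agent.S16713
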