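import Groth.Statements.S16715
import Groth.Agent.Lib.Helper12.FerrandBC7

set_option autoImplicit false
universe u
open FlatMor

namespace Groth.Agent.S16715

open CategoryTheory CategoryTheory.Limits AlgebraicGeometry in
/-- Base change of pushouts along a closed immersion and an affine morphism. Let i : X₀ → X be a closed
immersion and f₀ : X₀ → Y₀ an affine morphism of schemes, and let Y together with an affine morphism
f : X → Y and a closed immersion j : Y₀ → Y be a pushout of i and f₀ in the category of schemes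
whose square is also cartesian. Let Y be a scheme over S such that X₀ is flat over S, and let S' → S
be any morphism. Then the base-changed square over S' is again a pushout in the category of schemes:
Y ×_S S' is the pushout of X ×_S S' and Y₀ ×_S S' along X₀ ×_S S'. -/
theorem result {X₀ X Y₀ Y S S' : Scheme.{u}}
    (i : X₀ ⟶ X) [IsClosedImmersion i] (f₀ : X₀ ⟶ Y₀) [IsAffineHom f₀] (f : X ⟶ Y) [IsAffineHom f]
    (j : Y₀ ⟶ Y) [IsClosedImmersion j] (hpo : IsPushout i f₀ f j) (hpb : IsPullback i f₀ f j)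
    (q : Y ⟶ S) [Flat ((i ≫ f) ≫ q)] (g : S' ⟶ S) :
    IsPushout
      (pullback.map ((i ≫ f) ≫ q) g (f ≫ q) g i (𝟙 S') (𝟙 S)
        ((Category.comp_id _).trans (Category.assoc i f q))
        ((Category.comp_id g).trans (Category.id_comp g).symm))
      (pullback.map ((i ≫ f) ≫ q) g (j ≫ q) g f₀ (𝟙 S') (𝟙 S)
        ((Category.comp_id _).trans ((congrArg (fun t => t ≫ q) hpo.w).trans (Category.assoc f₀ j q)))
        ((Category.comp_id g).trans (Category.id_comp g).symm))
      (pullback.map (f ≫ q) g q g f (𝟙 S') (𝟙 S)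
        (Category.comp_id _) ((Category.comp_id g).trans (Category.id_comp g).symm))
      (pullback.map (j ≫ q) g q g j (𝟙 S') (𝟙 S)
        (Category.comp_id _) ((Category.comp_id g).trans (Category.id_comp g).symm)) := by
  have hcov : ∀ y : Y₀, ∃ (U : X.Opens) (V : Y₀.Opens), IsAffineOpen U ∧ IsAffineOpen V ∧ y ∈ V ∧
      i ⁻¹ᵁ U = f₀ ⁻¹ᵁ V := by
    intro y
    obtain ⟨O, hO, hyO, -⟩ :=
      exists_isAffineOpen_mem_and_subset (X := Y) (x := j.base y) (U := ⊤) trivial
    refine ⟨f ⁻¹ᵁ O, j ⁻¹ᵁ O, hO.preimage f, hO.preimage j, hyO, ?_⟩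
    rw [← Scheme.Hom.comp_preimage, ← Scheme.Hom.comp_preimage, hpo.w]
  have key := Groth.Agent.Lib.Helper12.FerrandBC7.isPushout_baseChange_of_isPushout i f₀ hcov f j hpo
    q g (f ≫ q) (j ≫ q) ((i ≫ f) ≫ q) rfl rfl (Category.assoc i f q).symm
    ((Category.assoc f₀ j q).symm.trans (congrArg (fun t => t ≫ q) hpo.w.symm)) (Or.inr inferInstance)
  have hZ : i ≫ f ≫ q = (i ≫ f) ≫ q := (Category.assoc i f q).symm
  have hZ' : f₀ ≫ j ≫ q = (i ≫ f) ≫ q :=
    (Category.assoc f₀ j q).symm.trans (congrArg (fun t => t ≫ q) hpo.w.symm)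
  have e1 := Groth.Agent.Lib.Helper12.FerrandBC7.map_eq_over_pullback_map
    ((i ≫ f) ≫ q) (f ≫ q) g i hZ
  have e2 := Groth.Agent.Lib.Helper12.FerrandBC7.map_eq_over_pullback_map
    ((i ≫ f) ≫ q) (j ≫ q) g f₀ hZ'
  have e3 := Groth.Agent.Lib.Helper12.FerrandBC7.map_eq_over_pullback_map
    (f ≫ q) q g f rfl
  have e4 := Groth.Agent.Lib.Helper12.FerrandBC7.map_eq_over_pullback_map
    (j ≫ q) q g j rfl
  rw [e1, e2, e3, e4]
  exact key

end Groth.Agent.S16715
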