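import Groth.Statements.S16718
import Groth.Agent.Lib.Helper22.LinRed

set_option autoImplicit false
universe u v w
open TensorProduct
open GLin

namespace Groth.Agent.S16718

/-- Let k be a field, A a finitely generated commutative Hopf algebra over k (an affine algebraic group
G), R a finitely generated commutative k-algebra carrying an A-comodule structure whose coaction is
an algebra homomorphism (an action of G on X = Spec R), and I an ideal of R which is a subcomodule
(a G-invariant closed subscheme Z of X). Then there is a finite-dimensional subcomodule W of R with
W ⊆ I generating I as an ideal; equivalently there is a G-equivariant morphism f from X to the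
affine space of a finite-dimensional G-representation with f⁻¹(0) = Z as closed subschemes. -/
theorem result (k : Type u) [Field k]
    (A : Type v) [CommRing A] [HopfAlgebra k A] (hA : Algebra.FiniteType k A)
    (R : Type w) [CommRing R] [Algebra k R] [HopfRep.Comod k A R] [GLin.IsCoactAlg k A R]
    (hR : Algebra.FiniteType k R) (I : Ideal R)
    (hI : HopfRep.IsSubcomod (k := k) (A := A) (I.restrictScalars k)) :
    ∃ W : Submodule k R, Module.Finite k W ∧ HopfRep.IsSubcomod (k := k) (A := A) W ∧
      W ≤ I.restrictScalars k ∧ Ideal.span (W : Set R) = I := by
  have hN : IsNoetherianRing R := Algebra.FiniteType.isNoetherianRing k R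
  obtain ⟨t, ht⟩ := (isNoetherianRing_iff_ideal_fg R).mp hN I
  obtain ⟨W, hfg, hsub, htW, hmin⟩ :=
    Groth.Agent.Lib.helper22.exists_fg_subcomod_of_finset (k := k) (C := A) (V := R) t
  have htI : (t : Set R) ⊆ I.restrictScalars k := by
    intro r hr
    have : r ∈ Ideal.span (t : Set R) := Ideal.subset_span hr
    rw [ht] at this
    exact this
  have hWI : W ≤ I.restrictScalars k := hmin _ hI htI
  refine ⟨W, Module.Finite.iff_fg.mpr hfg, hsub, hWI, ?_⟩
  apply le_antisymm
  · rw [Ideal.span_le]
    exact fun w hw => hWI hw
  · rw [← ht]
    exact Ideal.span_mono htW


end Groth.Agent.S16718
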