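import Groth.Statements.S16719
import Groth.Agent.Lib.Helper11.TpProd
import Groth.Agent.Lib.Helper11.GCM6
import Groth.Agent.Lib.Helper11.NegCxRows

set_option autoImplicit false
universe u
open CategoryTheory CategoryTheory.Limits AlgebraicGeometry
open CohIII

namespace Groth.Agent.S16719

/-- The first of its three functors. Let A be a Noetherian ring, X a proper scheme over Spec A and F a
coherent O_X-module flat over A. Then for every p the functor M ↦ H^p(X, F ⊗_A M) from A-modules to
abelian groups (F ⊗_A M = F ⊗_{O_X} f^*M~ for the structure morphism f) commutes with arbitrary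
products: it preserves limits of shape a discrete category, i.e. the canonical map H^p(X, F ⊗_A ∏
M_α) → ∏ H^p(X, F ⊗_A M_α) is an isomorphism. (The published statement is for a flat proper X over
an arbitrary ring A and states the same for two Ext functors; this row assumes A Noetherian, does
not assume X flat over A, and states only the cohomology functor.) -/
theorem result (A : Type u) [CommRing A] [IsNoetherianRing A]
    (X : Scheme.{u}) [X.Over (Spec (CommRingCat.of A))] [IsProper (X ↘ (Spec (CommRingCat.of A)))]
    (F : X.Modules) (hF : Coh.IsCoh F) (hflat : FlatMod.IsFlatOver (X ↘ (Spec (CommRingCat.of A))) F)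
    (p : ℕ) (J : Type u) :
    PreservesLimitsOfShape (Discrete J) (CohIII.tensorAFunctor A F ⋙ CohIII.HAb X p) := by
  obtain ⟨L, hL, -, -, -, -, -, hM⟩ :=
    Groth.Agent.Lib.helper11.GCM.exists_grothendieck_complex_module A X F hF hflat
  obtain ⟨Φ⟩ := hM p
  have hfin : ∀ i, Module.Finite A ((Groth.Agent.Lib.helper11.NegCx.neg L).X i) :=
    fun i => (hL (-i)).1
  have h1 : PreservesLimitsOfShape (Discrete J)
      (CohIII.TFun (Groth.Agent.Lib.helper11.NegCx.neg L) (-(p : ℤ))) :=
    Groth.Agent.Lib.helper11.TpProd.preservesLimitsOfShape_discrete _ hfin _ J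
  have h2 : PreservesLimitsOfShape (Discrete J) (CohIII.TFun L (p : ℤ)) :=
    preservesLimitsOfShape_of_natIso (Groth.Agent.Lib.helper11.NegCx.TFunIso' L (p : ℤ))
  have h3 : PreservesLimitsOfShape (Discrete J)
      (CohIII.TFun L (p : ℤ) ⋙ forget₂ (ModuleCat.{u} A) AddCommGrpCat.{u}) := inferInstance
  exact preservesLimitsOfShape_of_natIso Φ

end Groth.Agent.S16719
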