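import Groth.Statements.S16737
import Mathlib.Algebra.CharP.Invertible
import Mathlib.RingTheory.MvPolynomial.Basic
import Mathlib.Algebra.MvPolynomial.PDeriv

set_option autoImplicit false
universe u v
open DeRham

namespace Groth.Agent.S16737

open MvPolynomial in
theorem D_expand (p : ℕ) [Fact p.Prime] (R : Type u) [CommRing R] [CharP R p] (σ : Type v)
    (g : MvPolynomial σ R) :
    KaehlerDifferential.D R (MvPolynomial σ R) (MvPolynomial.expand p g) = 0 := by
  induction g using MvPolynomial.induction_on with
  | C a => rw [expand_C]; exact (KaehlerDifferential.D R (MvPolynomial σ R)).map_algebraMap a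
  | add q r hq hr => rw [map_add, map_add, hq, hr, add_zero]
  | mul_X q i hq =>
    rw [map_mul, expand_X, Derivation.leibniz, hq, smul_zero, add_zero, Derivation.leibniz_pow,
      ← Nat.cast_smul_eq_nsmul (MvPolynomial σ R), CharP.cast_eq_zero, zero_smul, smul_zero]

open MvPolynomial in
theorem exists_expand_of_pderiv (p : ℕ) [Fact p.Prime] (R : Type u) [CommRing R] [CharP R p]
    (σ : Type v) (f : MvPolynomial σ R) (h : ∀ i, pderiv i f = 0) :
    ∃ g : MvPolynomial σ R, f = expand p g := by
  classical
  have hp : p.Prime := Fact.out
  have hdvd : ∀ n ∈ f.support, ∀ i, p ∣ n i := by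
    intro n hn i
    by_contra hni
    have hpos : n i ≠ 0 := fun h0 => hni (h0 ▸ dvd_zero p)
    have hn' : n = (n - Finsupp.single i 1) + Finsupp.single i 1 := by
      ext j
      by_cases hj : j = i
      · subst hj; simp; omega
      · simp [Finsupp.single_eq_of_ne hj]
    have h1 := coeff_pderiv (i := i) f (n - Finsupp.single i 1)
    rw [h i, coeff_zero, ← hn'] at h1
    have h2 : (((n - Finsupp.single i 1 : σ →₀ ℕ) i : ℕ) : R) + 1 = ((n i : ℕ) : R) := by
      have : (n - Finsupp.single i 1 : σ →₀ ℕ) i + 1 = n i := by simp; omega
      rw [← this]; push_cast; rfl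
    rw [h2] at h1
    have hu : IsUnit ((n i : ℕ) : R) := (CharP.isUnit_natCast_iff hp).mpr hni
    have : coeff n f = 0 := (hu.mul_left_eq_zero).mp h1.symm
    exact (mem_support_iff.mp hn) this
  refine ⟨∑ n ∈ f.support, monomial (n.mapRange (· / p) (by simp)) (coeff n f), ?_⟩
  rw [map_sum]
  conv_lhs => rw [f.as_sum]
  refine Finset.sum_congr rfl fun n hn => ?_
  have hn' : p • (n.mapRange (· / p) (by simp) : σ →₀ ℕ) = n := by
    ext i
    rw [Finsupp.smul_apply, Finsupp.mapRange_apply, smul_eq_mul]
    exact Nat.mul_div_cancel' (hdvd n hn i)
  rw [expand_monomial, hn']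


/-- The case of affine space over an affine base of characteristic p, in degree zero. Let p be a prime
and R a commutative ring with p = 0 in R. For a polynomial f over R in any set of variables t_i, the
Kähler differential df in Ω_{R[t]/R} vanishes if and only if f is a polynomial in the p-th powers of
the variables, f = g(t_i^p). Equivalently, the functions on affine space over R killed by the
differential of the de Rham complex are exactly the functions on its Frobenius twist. (The published
computation is for finitely many variables over a noetherian base of characteristic p; the statement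
here allows any commutative ring with p = 0 and any set of variables.) -/
theorem result (p : ℕ) [Fact p.Prime]
    (R : Type u) [CommRing R] [CharP R p] (σ : Type v) (f : MvPolynomial σ R) :
    KaehlerDifferential.D R (MvPolynomial σ R) f = 0 ↔
      ∃ g : MvPolynomial σ R, f = MvPolynomial.expand p g := by
  constructor
  · intro h
    apply exists_expand_of_pderiv
    intro i
    have := (MvPolynomial.pderiv i : Derivation R (MvPolynomial σ R) (MvPolynomial σ R)).liftKaehlerDifferential_comp_D f
    rw [← this, h, map_zero]
  · rintro ⟨g, rfl⟩
    exact D_expand p R σ g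

end Groth.Agent.S16737
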