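import Groth.Statements.S16742
import Mathlib
import Groth.Agent.Lib.Helper19.PrincFlat
import Groth.Agent.Lib.Helper19.DefCI

set_option autoImplicit false
universe u
open CAlg

namespace Groth.Agent.S16742

open Groth.Agent.Lib.Helper19.PrincFlat Groth.Agent.Lib.Helper19.DefCI
open Groth.Agent.Lib.helper8.LocalFlat
open TensorProduct



/-- The equivalence in affine form, with flatness of the reduction in place of smoothness. Let p be a
prime, A~ a commutative ring flat over Z/p^2 and B~ an A~-algebra such that B~/pB~ is flat over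
A~/pA~. Then B~ is flat over A~ if and only if every element of B~ killed by p is a multiple of p;
equivalently multiplication by p identifies B~/pB~ with pB~. (The published statement assumes the
reduction smooth over A~/pA~ and the schemes noetherian, and phrases (b) as B~ being a lifting, that
is flat over A~; the statement here assumes only that the reduction is flat, where the equivalence
still holds by the local flatness criterion for the square-zero ideal generated by p.) -/
theorem result (p : ℕ) [Fact p.Prime]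
    (Al : Type u) [CommRing Al] [Algebra (ZMod (p ^ 2)) Al] [Module.Flat (ZMod (p ^ 2)) Al]
    (Bl : Type u) [CommRing Bl] [Algebra Al Bl]
    (hB : Module.Flat (Al ⧸ Ideal.span {(p : Al)})
      (Bl ⧸ (Ideal.span {(p : Al)}).map (algebraMap Al Bl))) :
    Module.Flat Al Bl ↔ ∀ b : Bl, (p : Bl) * b = 0 → b ∈ Ideal.span {(p : Bl)} := by
  have hpp0 : (p : ZMod (p ^ 2)) * (p : ZMod (p ^ 2)) = 0 := by
    exact (pow_two _).symm.trans (p_pow_n p 2)
  have hpp : (p : Al) * (p : Al) = 0 := by
    have h := congrArg (algebraMap (ZMod (p ^ 2)) Al) hpp0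
    rwa [map_mul, map_natCast, map_zero] at h
  have hex0 : ∀ c : ZMod (p ^ 2), (p : ZMod (p ^ 2)) * c = 0 → ∃ d, c = (p : ZMod (p ^ 2)) * d := by
    intro c hc
    have := exists_eq_mul_of_pow_mul_eq_zero p 2 1 (by norm_num) c (by rwa [pow_one])
    simpa using this
  have hexA : ∀ c : Al, (p : Al) * c = 0 → ∃ d, c = (p : Al) * d := by
    intro c hc
    have h1 : (p : ZMod (p ^ 2)) • c = 0 := by rw [Algebra.smul_def, map_natCast]; exact hc
    obtain ⟨d, hd⟩ := exists_eq_smul_of_flat _ _ hex0 hpp0 Al c h1
    exact ⟨d, by rw [hd, Algebra.smul_def, map_natCast]⟩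
  have hsm : ∀ b : Bl, (p : Al) • b = (p : Bl) * b := fun b => by
    rw [Algebra.smul_def, map_natCast]
  constructor
  · intro hflat b hb
    have h1 : (p : Al) • b = 0 := by rw [hsm]; exact hb
    obtain ⟨b', hb'⟩ := exists_eq_smul_of_flat _ _ hexA hpp Bl b h1
    rw [Ideal.mem_span_singleton']
    exact ⟨b', by rw [hb', hsm, mul_comm]⟩
  · intro h
    have h' : ∀ m : Bl, (p : Al) • m = 0 → ∃ m' : Bl, m = (p : Al) • m' := by
      intro m hm
      rw [hsm] at hm
      obtain ⟨c, hc⟩ := Ideal.mem_span_singleton'.mp (h m hm)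
      exact ⟨c, by rw [hsm, mul_comm, hc]⟩
    have hnil : IsNilpotent (Ideal.span {(p : Al)}) := by
      refine ⟨2, ?_⟩
      rw [Ideal.span_singleton_pow, pow_two, hpp]
      simp
    have hfm : FlatMod (Ideal.span {(p : Al)}) Bl := by
      refine flatMod_of_surjective (Ideal.span {(p : Al)})
        (Q₀ := Bl ⧸ (Ideal.span {(p : Al)}).map (algebraMap Al Bl))
        ((Ideal.Quotient.mkₐ Al ((Ideal.span {(p : Al)}).map (algebraMap Al Bl))).toLinearMap)
        (Ideal.Quotient.mkₐ_surjective Al _) ?_
      rw [Ideal.smul_top_eq_map (R := Al) (S := Bl)]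
      ext x
      simp only [LinearMap.mem_ker, AlgHom.toLinearMap_apply, Ideal.Quotient.mkₐ_eq_mk,
        Ideal.Quotient.eq_zero_iff_mem, Submodule.restrictScalars_mem]
    haveI : Module.Flat (Al ⧸ Ideal.span {(p : Al)}) ((Al ⧸ Ideal.span {(p : Al)}) ⊗[Al] Bl) := hfm
    exact flat_of_isNilpotent (Ideal.span {(p : Al)}) Bl
      (rTensor_span_singleton_injective _ _ hpp Bl h') hnil

end Groth.Agent.S16742
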