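import Groth.Statements.S16761
import Mathlib
import Groth.Agent.Lib.Helper18.NNPush2
import Groth.Agent.Lib.Lead.GrothVanish

set_option autoImplicit false
universe u
open Coherent

namespace Groth.Agent.S16761

open Groth.Agent.Lib.Helper18.NNLocal Groth.Agent.Lib.Helper18.NNPush2
  Groth.Agent.Lib.helper25.FLFLocus

open AlgebraicGeometry CategoryTheory CategoryTheory.Limits

open AlgebraicGeometry CategoryTheory CategoryTheory.Limits in
/-- Let f : X → S be proper and of finite presentation, F an O_X-module of finite presentation which is
flat over S, and d a natural number with dim X_s ≤ d for all s. Then the set S' of points s with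
H^j(X_s, F_s) = 0 for all j ≥ 1 is open, and over every open U ⊆ S' the sheaves R^j f_* F (j ≥ 1)
restrict to zero, f_* F restricts to a finite locally free module, and the formation of f_* F
commutes with base change: for every cartesian square with base a morphism g : T → S whose image
lies in U, with f' : X ×_S T → T and g' : X ×_S T → X the projections, the base change map g^* f_* F
→ f'_* g'^* F is an isomorphism. (The published statement asks only that f be proper; without finite
presentation the assertions on f_* F fail — for a finite flat morphism which is not of finite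
presentation and F = O_X the direct image f_* O_X need not be finite locally free — and the argument
runs through cohomology and base change for morphisms of finite presentation, so f is taken of
finite presentation here. Higher direct images are right derived functors of f_* on O_X-modules,
with injective resolutions carried as an instance argument.) -/
theorem result {X S : Scheme.{u}} (f : X ⟶ S)
    [IsProper f] [LocallyOfFinitePresentation f] [HasInjectiveResolutions X.Modules]
    (F : X.Modules) (hF : CohB1.IsFP F) (hfl : FlatMod.IsFlatOver f F)
    (d : ℕ) (hd : ∀ s : S, topologicalKrullDim ↥(f.fiber s) ≤ d) :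
    IsOpen {s : S | ∀ j : ℕ, 1 ≤ j → Subsingleton (CohIII.fiberH f F s j)} ∧
      ∀ U : S.Opens, (U : Set S) ⊆ {s : S | ∀ j : ℕ, 1 ≤ j → Subsingleton (CohIII.fiberH f F s j)} →
        (∀ j : ℕ, 1 ≤ j → IsZero (((Coh.Rpush f j).obj F).restrict U.ι)) ∧
          FlatMod.IsFinLocFree (((Coh.push f).obj F).restrict U.ι) ∧
            ∀ (T X' : Scheme.{u}) (g : T ⟶ S) (f' : X' ⟶ T) (g' : X' ⟶ X) (hsq : IsPullback g' f' f g),
              Set.range g.base ⊆ (U : Set S) → IsIso (CohBC.bc0 f g f' g' hsq.w F) := by
  classical
  haveI : F.IsFinitePresentation := hF
  haveI : F.IsQuasicoherent := inferInstance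
  have hvan : ∀ (s : S) (i : ℕ), d < i → Subsingleton (CohIII.fiberH f F s i) := by
    intro s i hi
    haveI : IsProper (f.fiberToSpecResidueField s) :=
      MorphismProperty.of_isPullback (IsPullback.of_hasPullback f (S.fromSpecResidueField s))
        inferInstance
    haveI : CompactSpace (f.fiber s) :=
      QuasiCompact.compactSpace_of_compactSpace (f.fiberToSpecResidueField s)
    haveI : QuasiSeparatedSpace (f.fiber s) :=
      quasiSeparatedSpace_of_quasiSeparated (f.fiberToSpecResidueField s)
    exact Groth.Agent.Lib.Lead.GrothVanish.subsingleton_HH_of_dim_le (f.fiber s) d (hd s) _ i hi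
  constructor
  · have heq : {s : S | ∀ j : ℕ, 1 ≤ j → Subsingleton (CohIII.fiberH f F s j)} =
        ⋂ j ∈ Finset.Icc 1 d, {s : S | Subsingleton (CohIII.fiberH f F s j)} := by
      ext s
      simp only [Set.mem_ofPred_eq, Set.mem_iInter, Finset.mem_Icc]
      constructor
      · intro h j hj
        exact h j hj.1
      · intro h j hj
        by_cases hjd : j ≤ d
        · exact h j ⟨hj, hjd⟩
        · exact hvan s j (by omega)
    rw [heq]
    exact isOpen_biInter_finset (fun j _ => isOpen_vanish f F hF hfl j)
  · intro U hU
    refine ⟨fun j hj => ?_, ?_, ?_⟩
    · haveI : ((Coh.Rpush f j).obj F).IsQuasicoherent := Groth.Agent.S0030.result f F j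
      exact isZero_restrict_of_killAt U
        (fun t ht => killAt_of_vanish f F hF hfl j t (hU ht j hj))
    · apply FLFOn.isFinLocFree_restrict
      intro t ht
      exact freeNear_push_of_vanish_one f F hF hfl t (hU ht 1 le_rfl)
    · intro T X' g f' g' hsq hrange
      exact isIso_bc0_of_vanish_one f F hF hfl g g' f' hsq
        (fun z => hU (hrange ⟨z, rfl⟩) 1 le_rfl)

end Groth.Agent.S16761
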