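import Groth.Statements.S16762
import Mathlib
open scoped TensorProduct

set_option autoImplicit false
universe u
open CAlgX

namespace Groth.Agent.S16762



/-- Let A → A' be faithfully flat and u : M → N a map of A-modules. Then u is universally injective (u ⊗
id_Q injective for every A-module Q) if and only if its base change A' ⊗_A M → A' ⊗_A N is
universally injective as a map of A'-modules. -/
theorem result (A A' : Type u) [CommRing A] [CommRing A']
    [Algebra A A'] [Module.FaithfullyFlat A A'] {M N : Type u} [AddCommGroup M] [Module A M]
    [AddCommGroup N] [Module A N] (u : M →ₗ[A] N) :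
    CAlgX.UniversallyInjective A u ↔ CAlgX.UniversallyInjective A' (u.baseChange A') := by
  constructor
  · intro hu Q' _ _
    rw [← LinearMap.lTensor_inj_iff_rTensor_inj]
    letI : Module A Q' := Module.compHom Q' (algebraMap A A')
    haveI : IsScalarTower A A' Q' := IsScalarTower.of_algebraMap_smul fun r x => rfl
    have hinj : Function.Injective (u.lTensor Q') :=
      (LinearMap.lTensor_inj_iff_rTensor_inj Q' u).2 (hu Q')
    have key : ∀ x : Q' ⊗[A'] (A' ⊗[A] M),
        TensorProduct.AlgebraTensorModule.cancelBaseChange A A' A' Q' N
          ((u.baseChange A').lTensor Q' x) =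
        u.lTensor Q' (TensorProduct.AlgebraTensorModule.cancelBaseChange A A' A' Q' M x) := by
      intro x
      induction x using TensorProduct.induction_on with
      | zero => simp
      | tmul q y =>
        induction y using TensorProduct.induction_on with
        | zero => simp
        | tmul a m => simp
        | add y₁ y₂ h₁ h₂ => simp only [TensorProduct.tmul_add, map_add, h₁, h₂]
      | add x₁ x₂ h₁ h₂ => simp only [map_add, h₁, h₂]
    intro x y hxy
    apply (TensorProduct.AlgebraTensorModule.cancelBaseChange A A' A' Q' M).injective
    apply hinj
    rw [← key, ← key, hxy]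
  · intro hu Q _ _
    rw [← Module.FaithfullyFlat.lTensor_injective_iff_injective A A']
    have hinj := hu (A' ⊗[A] Q)
    have key : ∀ x : A' ⊗[A] (M ⊗[A] Q),
        TensorProduct.AlgebraTensorModule.distribBaseChange A A' N Q ((u.rTensor Q).lTensor A' x) =
        (u.baseChange A').rTensor (A' ⊗[A] Q)
          (TensorProduct.AlgebraTensorModule.distribBaseChange A A' M Q x) := by
      intro x
      induction x using TensorProduct.induction_on with
      | zero => simp
      | tmul a y =>
        induction y using TensorProduct.induction_on with
        | zero => simp
        | tmul m q => simp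
        | add y₁ y₂ h₁ h₂ => simp only [TensorProduct.tmul_add, map_add, h₁, h₂]
      | add x₁ x₂ h₁ h₂ => simp only [map_add, h₁, h₂]
    intro x y hxy
    apply (TensorProduct.AlgebraTensorModule.distribBaseChange A A' M Q).injective
    apply hinj
    rw [← key, ← key, hxy]

end Groth.Agent.S16762
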