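import Groth.Statements.S1677
import Groth.Agent.LibFibStalk29
import Groth.Agent.LibSmoothFibReg29
-- import your own Groth.Agent.* helpers here

set_option autoImplicit false
universe u
open CategoryTheory CategoryTheory.Limits AlgebraicGeometry TopologicalSpace
open SDiv

namespace Groth.Agent.S1677

/-- Let X ⟶ S be smooth, Y ⟶ S flat, locally of finite presentation with complete-intersection fibre
local rings (syntomic), and i : Y ⟶ X a closed immersion over S. Then i is a regular closed
immersion. -/
theorem result {X Y S : Scheme.{u}} (p : X ⟶ S) [Smooth p] (i : Y ⟶ X)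
    [IsClosedImmersion i] (hY : CInt.IsCIMorphism (i ≫ p)) : Mor2.IsRegularClosedImmersion i := by
  obtain ⟨hfl, hfp, hci⟩ := hY
  haveI := hfl
  haveI := hfp
  refine ⟨inferInstance, fun y => ?_⟩
  haveI := Groth.Agent.LibSmoothFibReg29.isRegularLocalRing_fiberStalk_of_smooth p (i y)
  haveI := Groth.Agent.LibFibStalk29.isRegularLocalRing_fibRing p (i y)
  have hX : (p.stalkMap (i y)).hom.Flat := Flat.stalkMap p (i y)
  have hY : ((i ≫ p).stalkMap y).hom.Flat := Flat.stalkMap (i ≫ p) y
  exact Groth.Agent.LibFibStalk29.regAt_of_fibReg i p y hX hY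
    ((Groth.Agent.LibFibStalk29.fibReg_iff_ci i p y).mpr
      ((Groth.Agent.LibFibStalk29.ci_fibRing_iff (i ≫ p) y).mpr (hci y)))

end Groth.Agent.S1677
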