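import Groth.Statements.S16771
import Groth.Agent.Lib.Helper14.WeilClosed3

set_option autoImplicit false
open CategoryTheory MonoidalCategory CartesianMonoidalCategory MonObj GrpObj AlgebraicGeometry
universe u
open SGA3x

namespace Groth.Agent.S16771

/-- Let G be an affine group scheme of finite presentation over a scheme S, Y ⊆ G a closed subscheme
which is finite, flat and of finite presentation over S, and Y' ⊆ G a closed subscheme of finite
presentation over S. Then the transporter of Y into Y' (points g of G such that g y g⁻¹ is a point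
of Y' for every point y of Y after any base change) is representable by a closed subscheme of G of
finite presentation over S. -/
theorem result {S : Scheme.{u}} (G Y Y' : Over S) [GrpObj G]
    (hGa : IsAffineHom G.hom) (hGfp : LocallyOfFinitePresentation G.hom)
    (y : Y ⟶ G) (hy : IsClosedImmersion y.left) (hYf : IsFinite Y.hom) (hYfl : Flat Y.hom)
    (hYfp : LocallyOfFinitePresentation Y.hom)
    (y' : Y' ⟶ G) (hy' : IsClosedImmersion y'.left) (hY'fp : LocallyOfFinitePresentation Y'.hom) :
    ∃ (C : Over S) (c : C ⟶ G), IsClosedImmersion c.left ∧ LocallyOfFinitePresentation C.hom ∧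
      ∀ (X : Over S) (g : X ⟶ G), (∃ z : X ⟶ C, z ≫ c = g) ↔
        ∀ (X' : Over S) (x : X' ⟶ X) (a : X' ⟶ Y), ∃ a' : X' ⟶ Y', (x ≫ g) * (a ≫ y) * (x ≫ g)⁻¹ = a' ≫ y' := by
  haveI := hGa
  haveI := hGfp
  haveI := hYf
  haveI := hYfl
  haveI := hYfp
  haveI := hy'
  haveI := hY'fp
  let cj : Y ⊗ G ⟶ G := snd Y G * (fst Y G ≫ y) * (snd Y G)⁻¹
  have lift_cj : ∀ {T : Over S} (a : T ⟶ Y) (x : T ⟶ G),
      lift a x ≫ cj = x * (a ≫ y) * x⁻¹ := by
    intro T a x
    change lift a x ≫ (snd Y G * (fst Y G ≫ y) * (snd Y G)⁻¹) = _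
    rw [MonObj.comp_mul, MonObj.comp_mul, GrpObj.comp_inv, lift_snd, ← Category.assoc, lift_fst]
  haveI : LocallyOfFinitePresentation y'.left := by
    haveI : LocallyOfFinitePresentation (y'.left ≫ G.hom) := by
      rw [Over.w y']
      infer_instance
    exact Groth.Agent.Lib.Helper14.AbsClosed.locallyOfFinitePresentation_of_comp _ G.hom
  obtain ⟨C, c, hc, hfp, h⟩ :=
    Groth.Agent.Lib.Helper14.WeilClosed.exists_closed_factors cj y'
  refine ⟨C, c, hc, ?_, fun X g => ?_⟩
  · rw [← Over.w c]
    infer_instance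
  · rw [h X g]
    refine forall_congr' fun X' => forall_congr' fun x => forall_congr' fun a => ?_
    rw [lift_cj]
    constructor
    · rintro ⟨e, he⟩
      exact ⟨e, he.symm⟩
    · rintro ⟨e, he⟩
      exact ⟨e, he.symm⟩

end Groth.Agent.S16771
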