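import Groth.Statements.S1678
import Groth.Agent.LibSecRegApp29
import Groth.Agent.LibRegImmCompReg29
-- import your own Groth.Agent.* helpers here

set_option autoImplicit false
universe u
open CategoryTheory CategoryTheory.Limits AlgebraicGeometry TopologicalSpace
open SDiv

namespace Groth.Agent.S1678

/-- Let X ⟶ S be smooth and let i : Y ⟶ X and j : Y ⟶ S be closed immersions with i ≫ (X ⟶ S) = j. If j
is a regular closed immersion then so is i. -/
theorem result {X Y S : Scheme.{u}} (p : X ⟶ S) [Smooth p] (i : Y ⟶ X) (j : Y ⟶ S)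
    [IsClosedImmersion i] [IsClosedImmersion j] (h : i ≫ p = j) (hj : Mor2.IsRegularClosedImmersion j) :
    Mor2.IsRegularClosedImmersion i := by
  have hjreg : RegImm.IsRegularImmersion .regular j := by
    refine ⟨inferInstance, fun z => ?_⟩
    obtain ⟨U, hU, hzU, rs, hrs, hker⟩ := hj.2 z
    refine ⟨⟨U, hU⟩, hzU, inferInstance, rs, hrs, ?_⟩
    rw [← hker]
    exact (Scheme.Hom.ker_apply j ⟨U, hU⟩).symm
  let Γ : Y ⟶ pullback p j := pullback.lift i (𝟙 Y) (by rw [h, Category.id_comp])
  have hΓ : Γ ≫ pullback.snd p j = 𝟙 Y := pullback.lift_snd _ _ _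
  have hΓreg : RegImm.IsRegularImmersion .regular Γ :=
    Groth.Agent.LibSecRegApp29.isRegularImmersion_of_section (pullback.snd p j) Γ hΓ
  have hfst : RegImm.IsRegularImmersion .regular (pullback.fst p j) :=
    Groth.Agent.S8652.of_isPullback .regular j p (pullback.fst p j) (pullback.snd p j)
      (IsPullback.of_hasPullback p j).flip hjreg
  have hi : RegImm.IsRegularImmersion .regular (Γ ≫ pullback.fst p j) :=
    Groth.Agent.LibRegImmCompReg29.comp_regular (pullback.fst p j) Γ hfst hΓreg
  have hΓi : Γ ≫ pullback.fst p j = i := pullback.lift_fst _ _ _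
  rw [hΓi] at hi
  refine ⟨inferInstance, fun z => ?_⟩
  obtain ⟨W, hW1, -, rs, hrs, hker⟩ := hi.2 z
  refine ⟨W.1, W.2, hW1, rs, hrs, ?_⟩
  rw [← hker]
  exact Scheme.Hom.ker_apply i ⟨W.1, W.2⟩

end Groth.Agent.S1678
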