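import Groth.Statements.S16794
import Mathlib

set_option autoImplicit false
universe v u
open PCurv

namespace Groth.Agent.S16794

section aux

open Finset

/-- In a ring with `(p : R) = 0`, `C(p-1, m) = (-1)^m`. -/
lemma choose_pred_cast {R : Type*} [Ring R] (p : ℕ) (hp : p.Prime) (hpR : (p : R) = 0)
    (m : ℕ) (hm : m < p) : ((p - 1).choose m : R) = (-1) ^ m := by
  induction m with
  | zero => simp
  | succ m ih =>
    have hm' : m < p := by omega
    have h1 : (p - 1).choose m + (p - 1).choose (m + 1) = p.choose (m + 1) := by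
      have hpp : p = (p - 1) + 1 := by have := hp.pos; omega
      conv_rhs => rw [hpp]
      rw [Nat.choose_succ_succ]
    have h2 : (p.choose (m + 1) : R) = 0 := by
      obtain ⟨c, hc⟩ := hp.dvd_choose_self (Nat.succ_ne_zero m) hm
      rw [hc, Nat.cast_mul, hpR, zero_mul]
    have h3 : ((p - 1).choose m : R) + ((p - 1).choose (m + 1) : R) = 0 := by
      rw [← Nat.cast_add, h1, h2]
    rw [pow_succ, ← ih hm', mul_neg_one]
    exact eq_neg_of_add_eq_zero_right h3

lemma neg_one_pow_pred {R : Type*} [Ring R] (p : ℕ) (hp : p.Prime) (hpR : (p : R) = 0) :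
    ((-1 : R)) ^ (p - 1) = 1 := by
  rcases hp.eq_two_or_odd' with h2 | hodd
  · subst h2
    have h : (1 : R) + 1 = 0 := by
      have h' : ((2 : ℕ) : R) = 0 := hpR
      rw [Nat.cast_ofNat] at h'
      rw [one_add_one_eq_two]; exact h'
    have h1 : (-1 : R) = 1 := neg_eq_of_add_eq_zero_right h
    simp [h1]
  · have hev : Even (p - 1) := Nat.Odd.sub_odd hodd odd_one
    exact hev.neg_one_pow

/-- `(x - y)^(p-1) = ∑ x^m y^(p-1-m)` for commuting `x, y` when `p = 0`. -/
lemma sub_pow_pred {𝔈 : Type*} [Ring 𝔈] (p : ℕ) (hp : p.Prime) (hp𝔈 : (p : 𝔈) = 0) (x y : 𝔈)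
    (hxy : Commute x y) : (x - y) ^ (p - 1) = ∑ m ∈ range p, x ^ m * y ^ (p - 1 - m) := by
  have hs := neg_one_pow_pred (R := 𝔈) p hp hp𝔈
  have hpp : p - 1 + 1 = p := by have := hp.pos; omega
  rw [sub_eq_add_neg, (hxy.neg_right).add_pow, hpp]
  apply Finset.sum_congr rfl
  intro m hm
  have hm' : m < p := Finset.mem_range.mp hm
  rw [choose_pred_cast p hp hp𝔈 m hm', neg_pow, mul_assoc, mul_assoc]
  congr 1
  have hc : Commute (y ^ (p - 1 - m)) ((-1 : 𝔈) ^ m) := (Commute.neg_one_right _).pow_right m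
  rw [hc.eq, ← mul_assoc, ← pow_add, show p - 1 - m + m = p - 1 by omega, hs, one_mul]

/-- `∑ a^i y a^(p-1-i) = (ad a)^(p-1) y` in characteristic `p`. -/
lemma sum_eq_ad_pow {F : Type*} [Ring F] (p : ℕ) (hp : p.Prime) (hpF : (p : F) = 0) (a y : F) :
    ∑ i ∈ range p, a ^ i * y * a ^ (p - 1 - i) = (fun z => a * z - z * a)^[p - 1] y := by
  have hp𝔈 : ((p : ℕ) : Module.End ℤ F) = 0 := by
    apply LinearMap.ext
    intro z
    rw [Module.End.natCast_apply, LinearMap.zero_apply, nsmul_eq_mul, hpF, zero_mul]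
  have h := sub_pow_pred p hp hp𝔈 (LinearMap.mulLeft ℤ a) (LinearMap.mulRight ℤ a)
    (LinearMap.commute_mulLeft_right a a)
  have h2 := LinearMap.congr_fun h y
  have e : ⇑(LinearMap.mulLeft ℤ a - LinearMap.mulRight ℤ a) = fun z => a * z - z * a := by
    funext z
    simp
  rw [Module.End.pow_apply, e] at h2
  rw [h2, LinearMap.sum_apply]
  apply Finset.sum_congr rfl
  intro i _
  rw [Module.End.mul_apply, LinearMap.pow_mulLeft, LinearMap.pow_mulRight, LinearMap.mulLeft_apply,
    LinearMap.mulRight_apply, mul_assoc]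

/-- `(ad a)^p y = a^p y - y a^p` in characteristic `p`. -/
lemma ad_pow_p {F : Type*} [Ring F] (p : ℕ) (hp : p.Prime) (hpF : (p : F) = 0) (a y : F) :
    (fun z => a * z - z * a)^[p] y = a ^ p * y - y * a ^ p := by
  obtain ⟨q, rfl⟩ : ∃ q, p = q + 1 := ⟨p - 1, by have := hp.pos; omega⟩
  have h := sum_eq_ad_pow (q + 1) hp hpF a y
  rw [Nat.add_sub_cancel] at h
  rw [Function.iterate_succ_apply', ← h]
  show a * (∑ i ∈ range (q + 1), a ^ i * y * a ^ (q - i)) -
    (∑ i ∈ range (q + 1), a ^ i * y * a ^ (q - i)) * a = _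
  rw [Finset.mul_sum, Finset.sum_mul, ← Finset.sum_sub_distrib]
  have e : ∀ i ∈ range (q + 1), a * (a ^ i * y * a ^ (q - i)) - a ^ i * y * a ^ (q - i) * a =
      (fun j => a ^ j * y * a ^ (q + 1 - j)) (i + 1) - (fun j => a ^ j * y * a ^ (q + 1 - j)) i := by
    intro i hi
    have hi' : i ≤ q := by have := Finset.mem_range.mp hi; omega
    have e1 : q + 1 - (i + 1) = q - i := by omega
    have e2 : q + 1 - i = (q - i) + 1 := by omega
    show _ = a ^ (i + 1) * y * a ^ (q + 1 - (i + 1)) - a ^ i * y * a ^ (q + 1 - i)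
    rw [e1, e2, pow_succ' a i, pow_succ a (q - i)]
    simp only [mul_assoc]
  rw [Finset.sum_congr rfl e]
  have hs := Finset.sum_range_sub (fun j => a ^ j * y * a ^ (q + 1 - j)) (q + 1)
  exact hs.trans (by simp)

lemma comm_pow {F : Type*} [Ring F] (x a y : F) (h : x * a = a * x + y) (n : ℕ) :
    x * a ^ n = a ^ n * x + ∑ i ∈ range n, a ^ i * y * a ^ (n - 1 - i) := by
  induction n with
  | zero => simp
  | succ n ih =>
    have e : ∀ i ∈ range n, a ^ i * y * a ^ (n - 1 - i) * a = a ^ i * y * a ^ (n + 1 - 1 - i) := by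
      intro i hi
      have hh : n + 1 - 1 - i = (n - 1 - i) + 1 := by have := Finset.mem_range.mp hi; omega
      rw [hh, pow_succ a (n - 1 - i), mul_assoc]
    have e2 : n + 1 - 1 - n = 0 := by omega
    rw [Finset.sum_range_succ, e2, pow_zero, mul_one, ← Finset.sum_congr rfl e, ← Finset.sum_mul,
      pow_succ, ← mul_assoc, ih, add_mul, mul_assoc (a ^ n) x a, h, mul_add]
    simp only [mul_assoc]
    abel

lemma iter_ad {F : Type*} [Ring F] {B : Type*} (a : F) (ι : B → F) (δ : B → B)
    (h : ∀ b, a * ι b - ι b * a = ι (δ b)) (n : ℕ) (b : B) :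
    (fun z => a * z - z * a)^[n] (ι b) = ι (δ^[n] b) := by
  induction n with
  | zero => rfl
  | succ n ih =>
    rw [Function.iterate_succ_apply', Function.iterate_succ_apply', ih]
    exact h _

lemma eq_zero_of_natCast_mul {B : Type*} [CommRing B] (p : ℕ) (hp : p.Prime) (hpB : (p : B) = 0)
    (j : ℕ) (hj0 : 0 < j) (hjp : j < p) (x : B) (h : (j : B) * x = 0) : x = 0 := by
  have hcop : Nat.Coprime j p :=
    ((Nat.Prime.coprime_iff_not_dvd hp).mpr (Nat.not_dvd_of_pos_of_lt hj0 hjp)).symm
  obtain ⟨m, -, hm⟩ := Nat.exists_mul_mod_eq_one_of_coprime hcop hp.one_lt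
  have h1 : ((j * m : ℕ) : B) = 1 := by
    have h2 := Nat.div_add_mod (j * m) p
    rw [hm] at h2
    rw [← h2, Nat.cast_add, Nat.cast_mul, hpB, zero_mul, zero_add, Nat.cast_one]
  calc x = ((j * m : ℕ) : B) * x := by rw [h1, one_mul]
    _ = (m : B) * ((j : B) * x) := by rw [Nat.cast_mul]; ring
    _ = 0 := by rw [h, mul_zero]

section seqops

variable {B : Type*} [CommRing B]

/-- Multiplication by `f t` on coefficient sequences. -/
def shiftMul (f : B) (c : ℕ → B) : ℕ → B
  | 0 => 0
  | (j + 1) => f * c j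

/-- Coefficientwise application of an additive map. -/
def dOp (δ : B →+ B) : Module.End ℤ (ℕ → B) :=
  (AddMonoidHom.mk' (fun c k => δ (c k)) (fun c c' => by funext k; simp)).toIntLinearMap

/-- Multiplication by `f t`. -/
def mOp (f : B) : Module.End ℤ (ℕ → B) :=
  (AddMonoidHom.mk' (shiftMul f)
    (fun c c' => by funext k; cases k <;> simp [shiftMul, mul_add])).toIntLinearMap

/-- Formal derivative on coefficient sequences. -/
def derOp : Module.End ℤ (ℕ → B) :=
  (AddMonoidHom.mk' (fun c k => ((k + 1 : ℕ) : B) * c (k + 1))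
    (fun c c' => by funext k; simp [mul_add])).toIntLinearMap

/-- Multiplication by a constant. -/
def muOp (b : B) : Module.End ℤ (ℕ → B) :=
  (AddMonoidHom.mk' (fun c k => b * c k) (fun c c' => by funext k; simp [mul_add])).toIntLinearMap

@[simp] lemma dOp_apply (δ : B →+ B) (c : ℕ → B) (k : ℕ) : dOp δ c k = δ (c k) := rfl
@[simp] lemma mOp_apply_zero (f : B) (c : ℕ → B) : mOp f c 0 = 0 := rfl
@[simp] lemma mOp_apply_succ (f : B) (c : ℕ → B) (j : ℕ) : mOp f c (j + 1) = f * c j := rfl
@[simp] lemma derOp_apply (c : ℕ → B) (k : ℕ) :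
    (derOp (B := B) c) k = ((k + 1 : ℕ) : B) * c (k + 1) := rfl
@[simp] lemma muOp_apply (b : B) (c : ℕ → B) (k : ℕ) : muOp b c k = b * c k := rfl

lemma map_natCast_mul' (δ : B →+ B) (n : ℕ) (x : B) : δ ((n : B) * x) = (n : B) * δ x := by
  rw [← nsmul_eq_mul, map_nsmul, nsmul_eq_mul]

lemma derOp_mul_aOp (δ : B →+ B) (f : B) :
    derOp * (dOp δ + mOp f) = (dOp δ + mOp f) * derOp + muOp f := by
  apply LinearMap.ext
  intro c
  funext k
  cases k with
  | zero =>
    simp only [Module.End.mul_apply, LinearMap.add_apply, Pi.add_apply, derOp_apply, dOp_apply,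
      mOp_apply_zero, mOp_apply_succ, muOp_apply]
    rw [map_natCast_mul']
    push_cast
    ring
  | succ j =>
    simp only [Module.End.mul_apply, LinearMap.add_apply, Pi.add_apply, derOp_apply, dOp_apply,
      mOp_apply_zero, mOp_apply_succ, muOp_apply]
    rw [map_natCast_mul']
    push_cast
    ring

lemma aOp_mul_muOp (δ : B →+ B) (hδ : ∀ a b, δ (a * b) = a * δ b + δ a * b) (f b : B) :
    (dOp δ + mOp f) * muOp b = muOp b * (dOp δ + mOp f) + muOp (δ b) := by
  apply LinearMap.ext
  intro c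
  funext k
  cases k with
  | zero =>
    simp only [Module.End.mul_apply, LinearMap.add_apply, Pi.add_apply, dOp_apply,
      mOp_apply_zero, mOp_apply_succ, muOp_apply]
    rw [hδ]
    ring
  | succ j =>
    simp only [Module.End.mul_apply, LinearMap.add_apply, Pi.add_apply, dOp_apply,
      mOp_apply_zero, mOp_apply_succ, muOp_apply]
    rw [hδ]
    ring

end seqops

/-- **Hochschild's formula** `(fD)^p = f^p D^p + (fD)^{p-1}(f) D` in characteristic `p`,
stated for `u = ι f * D` whose commutator with `ι b` is `ι (δ b)`. -/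
lemma hochschild (p : ℕ) (hp : p.Prime) {B : Type*} [CommRing B] (hpB : (p : B) = 0)
    {E : Type*} [Ring E] (ι : B →+* E) (δ : B →+ B) (hδ : ∀ a b, δ (a * b) = a * δ b + δ a * b)
    (D : E) (f : B) (hu : ∀ b, (ι f * D) * ι b = ι b * (ι f * D) + ι (δ b)) :
    (ι f * D) ^ p = ι (f ^ p) * D ^ p + ι (δ^[p - 1] f) * D := by
  classical
  have hp2 : 2 ≤ p := hp.two_le
  obtain ⟨a, ha⟩ : ∃ a : Module.End ℤ (ℕ → B), a = dOp δ + mOp f := ⟨_, rfl⟩
  have ha0 : ∀ c : ℕ → B, (a c) 0 = δ (c 0) := by
    intro c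
    rw [ha]
    simp only [LinearMap.add_apply, Pi.add_apply, dOp_apply, mOp_apply_zero, add_zero]
  have haS : ∀ (c : ℕ → B) (j : ℕ), (a c) (j + 1) = δ (c (j + 1)) + f * c j := by
    intro c j
    rw [ha]
    simp only [LinearMap.add_apply, Pi.add_apply, dOp_apply, mOp_apply_succ]
  obtain ⟨e₀, he0, heS⟩ : ∃ e₀ : ℕ → B, e₀ 0 = 1 ∧ ∀ k, e₀ (k + 1) = 0 :=
    ⟨Pi.single 0 1, by simp, fun k => by simp⟩
  obtain ⟨Aseq, hA0, hAS, hAp⟩ : ∃ Aseq : ℕ → ℕ → B, Aseq 0 = e₀ ∧
      (∀ n, Aseq (n + 1) = a (Aseq n)) ∧ ∀ n, Aseq n = (a ^ n) e₀ :=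
    ⟨fun n => (a ^ n) e₀, by simp, fun n => by simp only [pow_succ', Module.End.mul_apply],
      fun n => rfl⟩
  have hδ1 : δ 1 = 0 := by
    have h := hδ 1 1
    rw [mul_one, one_mul, mul_one] at h
    linear_combination (-1 : B) * h
  -- top coefficients
  have htop : ∀ n, (∀ k, n < k → Aseq n k = 0) ∧ Aseq n n = f ^ n := by
    intro n
    induction n with
    | zero =>
      refine ⟨fun k hk => ?_, ?_⟩
      · obtain ⟨j, rfl⟩ : ∃ j, k = j + 1 := ⟨k - 1, by omega⟩
        rw [hA0, heS]
      · rw [hA0, he0, pow_zero]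
    | succ n ih =>
      refine ⟨fun k hk => ?_, ?_⟩
      · obtain ⟨j, rfl⟩ : ∃ j, k = j + 1 := ⟨k - 1, by omega⟩
        rw [hAS, haS, ih.1 (j + 1) (by omega), ih.1 j (by omega), map_zero, mul_zero, add_zero]
      · rw [hAS, haS, ih.1 (n + 1) (by omega), ih.2, map_zero, zero_add, pow_succ']
  -- bottom coefficients
  have hbot : ∀ n, Aseq (n + 1) 0 = 0 := by
    intro n
    induction n with
    | zero => rw [hAS, ha0, hA0, he0, hδ1]
    | succ n ih => rw [hAS, ha0, ih, map_zero]
  -- derivative identity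
  have hpF : ((p : ℕ) : Module.End ℤ (ℕ → B)) = 0 := by
    apply LinearMap.ext
    intro c
    funext k
    rw [Module.End.natCast_apply]
    simp [hpB]
  have hadmu : ∀ b, a * muOp b - muOp b * a = muOp (δ b) := by
    intro b
    rw [ha, aOp_mul_muOp δ hδ f b]
    abel
  have hmain : derOp * a ^ p = a ^ p * derOp + muOp (δ^[p - 1] f) := by
    rw [comm_pow derOp a (muOp f) (by rw [ha]; exact derOp_mul_aOp δ f) p,
      sum_eq_ad_pow p hp hpF a (muOp f), iter_ad a muOp δ hadmu (p - 1) f]
  have hder0 : derOp (B := B) e₀ = 0 := by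
    funext k
    rw [derOp_apply, heS, mul_zero]
    rfl
  have hder : ∀ k, ((k + 1 : ℕ) : B) * Aseq p (k + 1) = δ^[p - 1] f * e₀ k := by
    intro k
    have h := congrFun (LinearMap.congr_fun hmain e₀) k
    simp only [Module.End.mul_apply, LinearMap.add_apply, Pi.add_apply, derOp_apply,
      muOp_apply] at h
    rw [hder0, map_zero, Pi.zero_apply, zero_add] at h
    rw [hAp p]
    exact h
  have h1 : Aseq p 1 = δ^[p - 1] f := by
    have h := hder 0
    rw [he0, mul_one, zero_add, Nat.cast_one, one_mul] at h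
    exact h
  have hmid : ∀ k, 1 ≤ k → k + 1 < p → Aseq p (k + 1) = 0 := by
    intro k hk1 hkp
    have h := hder k
    obtain ⟨j, rfl⟩ : ∃ j, k = j + 1 := ⟨k - 1, by omega⟩
    rw [heS, mul_zero] at h
    exact eq_zero_of_natCast_mul p hp hpB (j + 1 + 1) (by omega) hkp _ h
  -- powers of `u`
  have hpow : ∀ n, (ι f * D) ^ n = ∑ k ∈ range (n + 1), ι (Aseq n k) * D ^ k := by
    intro n
    induction n with
    | zero => simp [hA0, he0]
    | succ n ih =>
      have step : ∀ k, (ι f * D) * (ι (Aseq n k) * D ^ k) =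
          ι (f * Aseq n k) * D ^ (k + 1) + ι (δ (Aseq n k)) * D ^ k := by
        intro k
        calc (ι f * D) * (ι (Aseq n k) * D ^ k) = ((ι f * D) * ι (Aseq n k)) * D ^ k :=
              (mul_assoc (ι f * D) (ι (Aseq n k)) (D ^ k)).symm
          _ = (ι (Aseq n k) * (ι f * D) + ι (δ (Aseq n k))) * D ^ k := by rw [hu]
          _ = ι (Aseq n k) * ι f * (D * D ^ k) + ι (δ (Aseq n k)) * D ^ k := by
              rw [add_mul]; simp only [mul_assoc]
          _ = ι (f * Aseq n k) * D ^ (k + 1) + ι (δ (Aseq n k)) * D ^ k := by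
              rw [← map_mul, mul_comm (Aseq n k) f, ← pow_succ']
      rw [pow_succ', ih, Finset.mul_sum, Finset.sum_congr rfl (fun k _ => step k),
        Finset.sum_add_distrib, Finset.sum_range_succ' (fun k => ι (δ (Aseq n k)) * D ^ k) n,
        Finset.sum_range_succ' (fun k => ι (Aseq (n + 1) k) * D ^ k) (n + 1)]
      have e1 : ∀ k ∈ range (n + 1), ι (Aseq (n + 1) (k + 1)) * D ^ (k + 1) =
          ι (δ (Aseq n (k + 1))) * D ^ (k + 1) + ι (f * Aseq n k) * D ^ (k + 1) := by
        intro k _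
        rw [hAS, haS, map_add, add_mul]
      rw [Finset.sum_congr rfl e1, Finset.sum_add_distrib,
        Finset.sum_range_succ (fun k => ι (δ (Aseq n (k + 1))) * D ^ (k + 1)) n,
        (htop n).1 (n + 1) (by omega), map_zero, map_zero, zero_mul, add_zero, hAS, ha0]
      abel
  rw [hpow p, Finset.sum_eq_add (1 : ℕ) p (by omega)]
  · rw [h1, (htop p).2, pow_one, add_comm]
  · intro c hc hne
    have hcp : c ≤ p := by have := Finset.mem_range.mp hc; omega
    rcases Nat.eq_zero_or_pos c with h0 | hpos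
    · subst h0
      obtain ⟨q, rfl⟩ : ∃ q, p = q + 1 := ⟨p - 1, by omega⟩
      rw [hbot q, map_zero, zero_mul]
    · obtain ⟨k, rfl⟩ : ∃ k, c = k + 1 := ⟨c - 1, by omega⟩
      have hk1 : 1 ≤ k := by
        rcases Nat.eq_zero_or_pos k with h0 | h
        · exact absurd (by rw [h0]) hne.1
        · exact h
      have hkp : k + 1 < p := lt_of_le_of_ne hcp hne.2
      rw [hmid k hk1 hkp, map_zero, zero_mul]
  · intro h
    exact absurd (Finset.mem_range.mpr (by omega)) h
  · intro h
    exact absurd (Finset.mem_range.mpr (by omega)) h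

section conn

open TensorProduct

variable {A : Type v} {B Ω M : Type u} [CommRing A] [CommRing B] [Algebra A B]
  [AddCommGroup Ω] [Module B Ω] [Module A Ω] [IsScalarTower A B Ω]
  [AddCommGroup M] [Module B M] [Module A M] [IsScalarTower A B M]

lemma along_smul (nabla : M →ₗ[A] M ⊗[B] Ω) (f : B) (φ : Ω →ₗ[B] B) (m : M) :
    Conn.along nabla (f • φ) m = f • Conn.along nabla φ m := by
  rw [Conn.along_apply, Conn.along_apply, TensorProduct.map_smul_right, LinearMap.smul_apply,
    map_smul]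

lemma along_add (nabla : M →ₗ[A] M ⊗[B] Ω) (φ₁ φ₂ : Ω →ₗ[B] B) (m : M) :
    Conn.along nabla (φ₁ + φ₂) m = Conn.along nabla φ₁ m + Conn.along nabla φ₂ m := by
  rw [Conn.along_apply, Conn.along_apply, Conn.along_apply, TensorProduct.map_add_right,
    LinearMap.add_apply, map_add]

lemma along_leibniz (nabla : M →ₗ[A] M ⊗[B] Ω) (δ : Derivation A B Ω)
    (hc : Conn.IsConn δ nabla) (φ : Ω →ₗ[B] B) (b : B) (m : M) :
    Conn.along nabla φ (b • m) = b • Conn.along nabla φ m + φ (δ b) • m := by
  rw [Conn.along_apply, Conn.along_apply, hc b m, map_add, map_add, map_smul, map_smul,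
    TensorProduct.map_tmul, LinearMap.id_apply, TensorProduct.rid_tmul]

end conn

end aux



open TensorProduct in
/-- Let p be a prime number and B a commutative algebra of characteristic p over a commutative ring A
whose module Ω of Kähler differentials over A is free of rank one on a form ω; let θ₀ be the
A-derivation of B dual to ω (its B-linear functional Ω → B takes the value 1 on ω), and let ∇ be a
connection on a finite free B-module M. Then the p-curvature of ∇ vanishes identically — for every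
A-derivation θ of B and every derivation θ' that agrees with the p-fold iterate of θ, the
endomorphism (∇_θ)^p − ∇_{θ'} of M is zero — if and only if it vanishes for the single derivation
θ₀. -/
theorem result {A : Type v} {B M : Type u} [CommRing A] [CommRing B]
    [Algebra A B] (p : ℕ) [Fact p.Prime] [CharP B p]
    [AddCommGroup M] [Module B M] [Module A M] [IsScalarTower A B M] [Module.Finite B M] [Module.Free B M]
    (bΩ : Module.Basis (Fin 1) B (KaehlerDifferential A B)) (θ₀ : Derivation A B B)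
    (hθ₀ : θ₀.liftKaehlerDifferential (bΩ 0) = 1)
    (nabla : M →ₗ[A] M ⊗[B] KaehlerDifferential A B)
    (hc : Conn.IsConn (KaehlerDifferential.D A B) nabla) :
    (∀ θ θp : Derivation A B B, Conn.IsIterPow θ p θp → Conn.pCurv p nabla θ θp = 0) ↔
      (∀ θp : Derivation A B B, Conn.IsIterPow θ₀ p θp → Conn.pCurv p nabla θ₀ θp = 0) := by
  classical
  have hp : p.Prime := Fact.out
  have hpB : ((p : ℕ) : B) = 0 := CharP.cast_eq_zero B p
  constructor
  · intro h θp hθp
    exact h θ₀ θp hθp
  intro h₀ θ θp hθp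
  obtain ⟨f, hf⟩ : ∃ f : B, f = θ.liftKaehlerDifferential (bΩ 0) := ⟨_, rfl⟩
  have hlift : θ.liftKaehlerDifferential = f • θ₀.liftKaehlerDifferential := by
    apply bΩ.ext
    intro i
    have hi : i = 0 := Subsingleton.elim _ _
    rw [hi, LinearMap.smul_apply, hθ₀, smul_eq_mul, mul_one, hf]
  have hθ : ∀ b, θ b = f * θ₀ b := by
    intro b
    rw [← Derivation.liftKaehlerDifferential_comp_D θ b, hlift, LinearMap.smul_apply,
      Derivation.liftKaehlerDifferential_comp_D, smul_eq_mul]
  let ι : B →+* Module.End A M := Module.toModuleEnd A M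
  let D : Module.End A M := Conn.alongDer nabla θ₀
  let δ' : B →+ B := AddMonoidHom.mk' (fun b => f * θ₀ b) (fun a b => by simp [mul_add])
  have hδ'app : ∀ b, δ' b = f * θ₀ b := fun b => rfl
  have hδ' : ∀ a b, δ' (a * b) = a * δ' b + δ' a * b := by
    intro a b
    simp only [hδ'app, Derivation.leibniz, smul_eq_mul]
    ring
  have hθD : Conn.alongDer nabla θ = ι f * D := by
    apply LinearMap.ext
    intro m
    show Conn.along nabla θ.liftKaehlerDifferential m =
      f • Conn.along nabla θ₀.liftKaehlerDifferential m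
    rw [hlift, along_smul]
  have hu : ∀ b, (ι f * D) * ι b = ι b * (ι f * D) + ι (δ' b) := by
    intro b
    apply LinearMap.ext
    intro m
    show f • Conn.along nabla θ₀.liftKaehlerDifferential (b • m) =
      b • (f • Conn.along nabla θ₀.liftKaehlerDifferential m) + (f * θ₀ b) • m
    rw [along_leibniz nabla _ hc, Derivation.liftKaehlerDifferential_comp_D, smul_add, smul_smul,
      smul_smul, smul_smul, mul_comm f b]
  have H := hochschild p hp hpB ι δ' hδ' D f hu
  -- the same in `End_A(B)`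
  let ιB : B →+* Module.End A B := Module.toModuleEnd A B
  let DB : Module.End A B := (θ₀ : B →ₗ[A] B)
  have huB : ∀ b, (ιB f * DB) * ιB b = ιB b * (ιB f * DB) + ιB (δ' b) := by
    intro b
    apply LinearMap.ext
    intro c
    show f • θ₀ (b • c) = b • (f • θ₀ c) + (f * θ₀ b) • c
    simp only [smul_eq_mul, Derivation.leibniz]
    ring
  have HB := hochschild p hp hpB ιB δ' hδ' DB f huB
  -- the `p`-th iterate of `θ₀` is a derivation
  have hDB : ∀ x, DB * ιB x - ιB x * DB = ιB (θ₀ x) := by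
    intro x
    apply LinearMap.ext
    intro c
    show θ₀ (x • c) - x • θ₀ c = θ₀ x • c
    simp only [smul_eq_mul, Derivation.leibniz]
    ring
  have hpEB : ((p : ℕ) : Module.End A B) = 0 := by
    apply LinearMap.ext
    intro c
    rw [Module.End.natCast_apply, LinearMap.zero_apply, nsmul_eq_mul, hpB, zero_mul]
  have hleib : ∀ x c, (DB ^ p) (x * c) = x • (DB ^ p) c + c • (DB ^ p) x := by
    intro x c
    have h1 := ad_pow_p p hp hpEB DB (ιB x)
    rw [iter_ad DB (⇑ιB) (⇑θ₀) hDB p x] at h1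
    have h2 : (⇑θ₀)^[p] x * c = (DB ^ p) (x * c) - x * (DB ^ p) c := LinearMap.congr_fun h1 c
    have h3 : (DB ^ p) x = (⇑θ₀)^[p] x := Module.End.pow_apply DB p x
    rw [h3, smul_eq_mul, smul_eq_mul]
    linear_combination (-1 : B) * h2
  let θ₀p : Derivation A B B := Derivation.mk' (DB ^ p) hleib
  have hθ₀p : Conn.IsIterPow θ₀ p θ₀p := fun b => Module.End.pow_apply DB p b
  have hcurv₀ : Conn.alongDer nabla θ₀ ^ p - Conn.alongDer nabla θ₀p = 0 := h₀ θ₀p hθ₀p
  have hDp : D ^ p = Conn.alongDer nabla θ₀p := sub_eq_zero.mp hcurv₀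
  have hθp' : ∀ b, θp b = f ^ p * θ₀p b + δ'^[p - 1] f * θ₀ b := by
    intro b
    have h1 := LinearMap.congr_fun HB b
    have e : ⇑(ιB f * DB) = ⇑θ := by
      funext c
      exact (hθ c).symm
    rw [Module.End.pow_apply, e, ← hθp b] at h1
    exact h1
  have hliftp : θp.liftKaehlerDifferential =
      f ^ p • θ₀p.liftKaehlerDifferential + δ'^[p - 1] f • θ₀.liftKaehlerDifferential := by
    refine Derivation.liftKaehlerDifferential_unique _ _ (Derivation.ext fun b => ?_)
    show θp.liftKaehlerDifferential (KaehlerDifferential.D A B b) =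
      (f ^ p • θ₀p.liftKaehlerDifferential + δ'^[p - 1] f • θ₀.liftKaehlerDifferential)
        (KaehlerDifferential.D A B b)
    rw [LinearMap.add_apply, LinearMap.smul_apply, LinearMap.smul_apply,
      Derivation.liftKaehlerDifferential_comp_D, Derivation.liftKaehlerDifferential_comp_D,
      Derivation.liftKaehlerDifferential_comp_D, smul_eq_mul, smul_eq_mul]
    exact hθp' b
  have hθpD : Conn.alongDer nabla θp =
      ι (f ^ p) * Conn.alongDer nabla θ₀p + ι (δ'^[p - 1] f) * D := by
    apply LinearMap.ext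
    intro m
    show Conn.along nabla θp.liftKaehlerDifferential m =
      f ^ p • Conn.along nabla θ₀p.liftKaehlerDifferential m +
        δ'^[p - 1] f • Conn.along nabla θ₀.liftKaehlerDifferential m
    rw [hliftp, along_add, along_smul, along_smul]
  show Conn.alongDer nabla θ ^ p - Conn.alongDer nabla θp = 0
  rw [hθD, hθpD, H, ← hDp]
  exact sub_self _


end Groth.Agent.S16794
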