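import Groth.Statements.S1681
import Mathlib
import Groth.Agent.S8851

set_option autoImplicit false
universe u
open CategoryTheory CategoryTheory.Limits AlgebraicGeometry TopologicalSpace
open SDiv

namespace Groth.Agent.S1681


/-- maximal points (no proper generization) -/
def IsMaxPt {T : Type*} [TopologicalSpace T] (x : T) : Prop := ∀ y : T, y ⤳ x → y = x

theorem isMaxPt_iff_of_isOpenEmbedding {S T : Type*} [TopologicalSpace S] [TopologicalSpace T]
    {j : S → T} (hj : Topology.IsOpenEmbedding j) (s : S) : IsMaxPt s ↔ IsMaxPt (j s) := by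
  constructor
  · intro h y hy
    have hy' : y ∈ Set.range j := hy.mem_open hj.isOpen_range ⟨s, rfl⟩
    obtain ⟨s₀, rfl⟩ := hy'
    rw [hj.toIsInducing.specializes_iff] at hy
    rw [h s₀ hy]
  · intro h y hy
    exact hj.injective (h (j y) (hy.map hj.continuous))

theorem isMaxPt_iff_of_isOpenImmersion {S T : Scheme.{u}} (j : S ⟶ T) [IsOpenImmersion j] (s : S) :
    IsMaxPt s ↔ IsMaxPt (j s) :=
  isMaxPt_iff_of_isOpenEmbedding j.isOpenEmbedding s

/-- a nonzerodivisor of an affine open does not vanish at a maximal point -/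
theorem mem_basicOpen_of_isMaxPt {X : Scheme.{u}} {W : X.Opens} (hW : IsAffineOpen W)
    (f : Γ(X, W)) (hf : f ∈ nonZeroDivisors Γ(X, W)) (x : X) (hxW : x ∈ W) (hx : IsMaxPt x) :
    x ∈ X.basicOpen f := by
  set p := hW.primeIdealOf ⟨x, hxW⟩ with hp
  have hpx : hW.fromSpec p = x := hW.fromSpec_primeIdealOf ⟨x, hxW⟩
  obtain ⟨q, hq, hqp⟩ := Ideal.exists_minimalPrimes_le (I := ⊥) (J := p.asIdeal) bot_le
  haveI : q.IsPrime := hq.1.1
  have hspec : (⟨q, inferInstance⟩ : PrimeSpectrum Γ(X, W)) ⤳ p :=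
    (PrimeSpectrum.le_iff_specializes _ _).1 hqp
  have h1 : hW.fromSpec ⟨q, inferInstance⟩ ⤳ hW.fromSpec p := hspec.map hW.fromSpec.continuous
  rw [hpx] at h1
  have h2 := hx _ h1
  rw [← hpx] at h2
  have h3 : (⟨q, inferInstance⟩ : PrimeSpectrum Γ(X, W)) = p :=
    hW.fromSpec.isOpenEmbedding.injective h2
  have hfq : f ∉ q := by
    intro hfq
    have := Ideal.disjoint_nonZeroDivisors_of_mem_minimalPrimes hq
    exact Set.disjoint_left.1 this hfq hf
  have hfp : f ∉ p.asIdeal := by rw [← h3]; exact hfq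
  have h4 : p ∈ hW.fromSpec ⁻¹ᵁ X.basicOpen f := by
    rw [hW.fromSpec_preimage_basicOpen]
    exact hfp
  rw [← hpx]
  exact h4


theorem main {X X' : Scheme.{u}} (𝓘 : X.IdealSheafData) (b : X' ⟶ X) (hb : BlowUp.IsBlowUp b 𝓘) :
    Set.BijOn (fun x' => b x') {x' : ↥X' | ∀ y : ↥X', y ⤳ x' → y = x'}
      {x : ↥X | (∀ y : ↥X, y ⤳ x → y = x) ∧ x ∉ 𝓘.support} := by
  set U : X.Opens := 𝓘.support.compl with hU
  haveI : IsIso (b ∣_ U) := Groth.Agent.S1682.isIso_off_center 𝓘 b hb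
  set V : X'.Opens := b ⁻¹ᵁ U with hV
  have hcomp : (b ∣_ U) ≫ U.ι = V.ι ≫ b := morphismRestrict_ι b U
  haveI : IsOpenImmersion (V.ι ≫ b) := by rw [← hcomp]; infer_instance
  -- maximal points of X' lie in V
  have hmaxV : ∀ x' : X', IsMaxPt x' → x' ∈ V := by
    intro x' hx'
    obtain ⟨W, hxW, f, hf, hI⟩ := hb.1 x'
    have h1 := mem_basicOpen_of_isMaxPt W.2 f hf x' hxW hx'
    have h2 := Groth.Agent.S8851.basicOpen_le_compl_support _ W f hI x' h1
    rw [Scheme.IdealSheafData.support_comap] at h2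
    exact h2
  -- transfer of maximality
  have htrans : ∀ v : V, IsMaxPt (V.ι v) ↔ IsMaxPt (b (V.ι v)) := by
    intro v
    rw [← isMaxPt_iff_of_isOpenImmersion V.ι v, isMaxPt_iff_of_isOpenImmersion (V.ι ≫ b) v,
      Scheme.Hom.comp_apply]
  refine ⟨?_, ?_, ?_⟩
  · intro x' hx'
    have hxV := hmaxV x' hx'
    refine ⟨?_, hxV⟩
    have := (htrans ⟨x', hxV⟩).1 hx'
    exact this
  · intro x₁ hx₁ x₂ hx₂ h
    have h1 := hmaxV x₁ hx₁
    have h2 := hmaxV x₂ hx₂
    have hinj := (V.ι ≫ b).isOpenEmbedding.injective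
    have : (⟨x₁, h1⟩ : V) = ⟨x₂, h2⟩ := by
      apply hinj
      simp only [Scheme.Hom.comp_apply]
      exact h
    exact congrArg Subtype.val this
  · rintro x ⟨hx, hxs⟩
    have hxU : x ∈ U := hxs
    obtain ⟨v, hv⟩ := (b ∣_ U).surjective ⟨x, hxU⟩
    have hbv : b (V.ι v) = x := by
      have := congrArg (fun z => U.ι z) hv
      simp only at this
      rw [← Scheme.Hom.comp_apply, hcomp, Scheme.Hom.comp_apply] at this
      exact this
    refine ⟨V.ι v, ?_, hbv⟩
    have : IsMaxPt (V.ι v) := (htrans v).2 (by rw [hbv]; exact hx)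
    exact this


/-- Let b : X' ⟶ X be a blowing-up of X along the quasi-coherent ideal sheaf 𝓘. Then b restricts to a
bijection from the maximal points of X' (points with no proper generization) onto the maximal points
of X not lying in the support of 𝓘. -/
theorem result {X X' : Scheme.{u}} (𝓘 : X.IdealSheafData) (b : X' ⟶ X) (hb : BlowUp.IsBlowUp b 𝓘) :
    Set.BijOn (fun x' => b x') {x' : ↥X' | ∀ y : ↥X', y ⤳ x' → y = x'}
      {x : ↥X | (∀ y : ↥X, y ⤳ x → y = x) ∧ x ∉ 𝓘.support} := by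
  exact main 𝓘 b hb

end Groth.Agent.S1681
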