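import Groth.Statements.S16836
import Mathlib

set_option autoImplicit false
universe u v
open scoped Classical
open AbVar

namespace Groth.Agent.S16836

section helpers
open Polynomial UniqueFactorizationMonoid

section gen
variable {α β : Type*}

lemma map_sum_map_sum [DecidableEq β] (S : Multiset α) (g : α → Multiset β) (h : β → ℕ) :
    (((S.map g).sum).map h).sum = (S.map (fun P => ((g P).map h).sum)).sum := by
  induction S using Multiset.induction_on with
  | empty => simp
  | cons a s ih =>
    rw [Multiset.map_cons, Multiset.sum_cons, Multiset.map_add, Multiset.sum_add, ih,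
      Multiset.map_cons, Multiset.sum_cons]

lemma count_sum_map [DecidableEq β] (S : Multiset α) (g : α → Multiset β) (Q : β) :
    ((S.map g).sum).count Q = (S.map (fun P => (g P).count Q)).sum := by
  induction S using Multiset.induction_on with
  | empty => simp
  | cons a s ih =>
    rw [Multiset.map_cons, Multiset.sum_cons, Multiset.count_add, ih, Multiset.map_cons,
      Multiset.sum_cons]

lemma sum_map_ite [DecidableEq α] (S : Multiset α) (P : α) :
    (S.map (fun P' => if P' = P then 1 else 0)).sum = S.count P := by
  induction S using Multiset.induction_on with
  | empty => simp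
  | cons a s ih =>
    rw [Multiset.map_cons, Multiset.sum_cons, ih, Multiset.count_cons]
    by_cases h : a = P
    · subst h; simp; ring
    · have h' : ¬ P = a := fun h' => h h'.symm
      simp [h, h']

end gen

variable {K : Type u} {L : Type v} [Field K] [PerfectField K] [Field L] [Algebra K L]

/-- factorization of base change -/
lemma nf_map (f : K[X]) (hf : f ≠ 0) :
    normalizedFactors (f.map (algebraMap K L)) =
      ((normalizedFactors f).map (fun P => normalizedFactors (P.map (algebraMap K L)))).sum := by
  have h1 : Associated (normalizedFactors f).prod f := prod_normalizedFactors hf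
  have h2 : Associated ((normalizedFactors f).prod.map (algebraMap K L)) (f.map (algebraMap K L)) :=
    h1.map (Polynomial.mapRingHom (algebraMap K L))
  rw [← h2.normalizedFactors_eq]
  have h3 : (normalizedFactors f).prod.map (algebraMap K L) =
      ((normalizedFactors f).map (fun P => P.map (algebraMap K L))).prod := by
    have := map_multiset_prod (Polynomial.mapRingHom (algebraMap K L)) (normalizedFactors f)
    simpa using this
  rw [h3, normalizedFactors_multiset_prod, Multiset.map_map]
  · rfl
  · intro h0
    obtain ⟨P, hP, hP0⟩ := Multiset.mem_map.mp h0
    have hirr := irreducible_of_normalized_factor P hP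
    have : P = 0 := by
      rw [← Polynomial.map_eq_zero (algebraMap K L)]; exact hP0
    exact hirr.ne_zero this

lemma count_nf_map (P P' : K[X]) (hP : Irreducible P) (hP' : Irreducible P')
    (hnP : normalize P = P) (hnP' : normalize P' = P') (Q : L[X])
    (hQ : Q ∈ normalizedFactors (P.map (algebraMap K L))) :
    (normalizedFactors (P'.map (algebraMap K L))).count Q = if P' = P then 1 else 0 := by
  by_cases h : P' = P
  · subst h
    rw [if_pos rfl]
    apply Multiset.count_eq_one_of_mem _ hQ
    have hsep : (P'.map (algebraMap K L)).Separable :=
      (PerfectField.separable_of_irreducible hP').map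
    rw [← squarefree_iff_nodup_normalizedFactors]
    · exact hsep.squarefree
    · rw [Ne, Polynomial.map_eq_zero]; exact hP'.ne_zero
  · rw [if_neg h]
    rw [Multiset.count_eq_zero]
    intro hQ'
    have hcop : IsCoprime P P' := by
      rw [hP.coprime_iff_not_dvd]
      intro hdvd
      have hass : Associated P P' := hP.associated_of_dvd hP' hdvd
      have := normalize_eq_normalize_iff.mpr ⟨hass.dvd, hass.symm.dvd⟩
      rw [hnP, hnP'] at this
      exact h this.symm
    have hcopL : IsCoprime (P.map (algebraMap K L)) (P'.map (algebraMap K L)) :=
      hcop.map (Polynomial.mapRingHom (algebraMap K L))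
    have hQ1 : Q ∣ P.map (algebraMap K L) := dvd_of_mem_normalizedFactors hQ
    have hQ2 : Q ∣ P'.map (algebraMap K L) := dvd_of_mem_normalizedFactors hQ'
    have hQirr := irreducible_of_normalized_factor Q hQ
    exact hQirr.not_isUnit (hcopL.isUnit_of_dvd' hQ1 hQ2)

lemma sum_natDegree_nf (g : L[X]) (hg : g ≠ 0) :
    ((normalizedFactors g).map natDegree).sum = g.natDegree := by
  have h1 : Associated (normalizedFactors g).prod g := prod_normalizedFactors hg
  have h2 : (normalizedFactors g).prod.natDegree = g.natDegree := by
    obtain ⟨u, hu⟩ := h1
    symm
    conv_lhs => rw [← hu]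
    obtain ⟨c, hc⟩ : ∃ c : L, (u : L[X]) = C c := by
      have := Polynomial.isUnit_iff.mp u.isUnit
      obtain ⟨c, _, hc⟩ := this
      exact ⟨c, hc.symm⟩
    rw [hc]
    have hc0 : c ≠ 0 := by
      intro h0
      rw [h0, map_zero] at hc
      exact u.ne_zero hc
    rw [Polynomial.natDegree_mul_C hc0]
  rw [← h2, Polynomial.natDegree_multiset_prod]
  intro h0
  exact (irreducible_of_normalized_factor 0 h0).ne_zero rfl

theorem main (K : Type u) (L : Type v) [Field K] [PerfectField K] [Field L] [Algebra K L]
    (f₁ f₂ : K[X]) (h₁ : f₁ ≠ 0) (h₂ : f₂ ≠ 0) :
    ∑ P ∈ (normalizedFactors (f₁.map (algebraMap K L))).toFinset,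
        (normalizedFactors (f₁.map (algebraMap K L))).count P *
          (normalizedFactors (f₂.map (algebraMap K L))).count P * P.natDegree =
      ∑ P ∈ (normalizedFactors f₁).toFinset,
        (normalizedFactors f₁).count P * (normalizedFactors f₂).count P * P.natDegree := by
  have hL : ∑ P ∈ (normalizedFactors (f₁.map (algebraMap K L))).toFinset,
        (normalizedFactors (f₁.map (algebraMap K L))).count P *
          (normalizedFactors (f₂.map (algebraMap K L))).count P * P.natDegree =
      ((normalizedFactors (f₁.map (algebraMap K L))).map (fun Q =>
        (normalizedFactors (f₂.map (algebraMap K L))).count Q * Q.natDegree)).sum := by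
    rw [Finset.sum_multiset_map_count]
    apply Finset.sum_congr rfl
    intro Q _
    rw [smul_eq_mul, mul_assoc]
  have hK : ∑ P ∈ (normalizedFactors f₁).toFinset,
        (normalizedFactors f₁).count P * (normalizedFactors f₂).count P * P.natDegree =
      ((normalizedFactors f₁).map (fun P => (normalizedFactors f₂).count P * P.natDegree)).sum := by
    rw [Finset.sum_multiset_map_count]
    apply Finset.sum_congr rfl
    intro Q _
    rw [smul_eq_mul, mul_assoc]
  rw [hL, hK, nf_map f₁ h₁, map_sum_map_sum]
  apply congrArg
  apply Multiset.map_congr rfl
  intro P hP
  have hPirr := irreducible_of_normalized_factor P hP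
  have hPn := normalize_normalized_factor P hP
  have h3 : ∀ Q ∈ normalizedFactors (P.map (algebraMap K L)),
      (normalizedFactors (f₂.map (algebraMap K L))).count Q * Q.natDegree =
        (normalizedFactors f₂).count P * Q.natDegree := by
    intro Q hQ
    congr 1
    rw [nf_map f₂ h₂, count_sum_map]
    rw [← sum_map_ite (normalizedFactors f₂) P]
    apply congrArg
    apply Multiset.map_congr rfl
    intro P' hP'
    exact count_nf_map P P' hPirr (irreducible_of_normalized_factor P' hP') hPn
      (normalize_normalized_factor P' hP') Q hQ
  rw [Multiset.map_congr rfl h3]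
  have h4 : ((normalizedFactors (P.map (algebraMap K L))).map
      (fun Q => (normalizedFactors f₂).count P * Q.natDegree)).sum =
      (normalizedFactors f₂).count P *
        ((normalizedFactors (P.map (algebraMap K L))).map natDegree).sum := by
    rw [← Multiset.sum_map_mul_left]
  rw [h4, sum_natDegree_nf, Polynomial.natDegree_map]
  rw [Ne, Polynomial.map_eq_zero]
  exact hPirr.ne_zero


end helpers

open Polynomial UniqueFactorizationMonoid in
/-- Let K ⊆ L be a field extension and f₁, f₂ non-zero polynomials in K[t]. For a field F and
polynomials g₁, g₂ over F put r_F(g₁, g₂) = Σ_P mult_P(g₁) · mult_P(g₂) · deg P, the sum running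
over the monic irreducible polynomials P in F[t] (mult_P the multiplicity of P as an irreducible
factor). Assume K is perfect. Then r_K(f₁, f₂) = r_L(f₁, f₂): the number does not depend on the
field over which the factorisations are taken. (Perfectness of K cannot be dropped: for K = F_p(s),
L = K(s^{1/p}) and f₁ = f₂ = t^p − s the number is p over K and p² over L, since the irreducible t^p
− s becomes a p-th power over L; the published statement has no restriction on K, and its proof
requires the relevant K[t]-modules to remain semisimple after base change, which holds when every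
irreducible factor stays squarefree over L, in particular for K perfect.) -/
theorem result (K : Type u) (L : Type v) [Field K] [PerfectField K] [Field L] [Algebra K L]
    (f₁ f₂ : K[X]) (h₁ : f₁ ≠ 0) (h₂ : f₂ ≠ 0) :
    ∑ P ∈ (normalizedFactors (f₁.map (algebraMap K L))).toFinset,
        (normalizedFactors (f₁.map (algebraMap K L))).count P *
          (normalizedFactors (f₂.map (algebraMap K L))).count P * P.natDegree =
      ∑ P ∈ (normalizedFactors f₁).toFinset,
        (normalizedFactors f₁).count P * (normalizedFactors f₂).count P * P.natDegree := by
  exact main K L f₁ f₂ h₁ h₂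

end Groth.Agent.S16836
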