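import Groth.Statements.S1685
import Mathlib
import Groth.Agent.Lib.Helper17.RegNear
import Groth.Agent.Lib.Helper24.HypersurfaceCM
import Groth.Agent.Lib.Helper26.SkLift

set_option autoImplicit false
set_option linter.style.haveILetI false
universe u
open CategoryTheory CategoryTheory.Limits AlgebraicGeometry TopologicalSpace
open SDiv

namespace Groth.Agent.S1685

open IsLocalRing LocCoh Groth.Agent.Lib.helper26.Depth Groth.Agent.Lib.Helper24.FlatDepth
  Groth.Agent.Lib.Helper24.HypersurfaceCM in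
/-- Ring-level statement: quotient by a regular element of the maximal ideal lowers `(S_k)` to
`(S_{k-1})` at the closed point. -/
theorem ring_lemma (A : Type u) [CommRing A] [IsLocalRing A] [IsNoetherianRing A] (g : A)
    (hg : g ∈ maximalIdeal A) (hreg : IsSMulRegular A g) (k : ℕ)
    (B : Type u) [CommRing B] [IsLocalRing B] [IsNoetherianRing B]
    (e : (A ⧸ Ideal.span {g}) ≃+* B)
    (h : min (k : WithBot ℕ∞) (ringKrullDim A) ≤ ((LocCoh.depth A A : ℕ∞) : WithBot ℕ∞)) :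
    min ((k - 1 : ℕ) : WithBot ℕ∞) (ringKrullDim B) ≤
      ((LocCoh.depth B B : ℕ∞) : WithBot ℕ∞) := by
  haveI : IsLocalRing (A ⧸ Ideal.span {g}) :=
    Groth.Agent.Lib.helper26.SerreConv.isLocalRing_quot g hg
  have hdim := ringKrullDim_quotient_span_singleton_succ_eq_ringKrullDim hreg hg
  have hdep := idealDepth_quotSMulTop_add_one (maximalIdeal A) A g hg hreg
  rw [idealDepth_congr (quotSMulTopEquiv A g), idealDepth_quotient_eq] at hdep
  rw [← ringKrullDim_eq_of_ringEquiv e, ← depth_eq_of_ringEquiv e]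
  obtain ⟨d1, hd1⟩ := Groth.Agent.Lib.Helper24.CatEquidim.exists_nat_eq_ringKrullDim
    (A ⧸ Ideal.span {g})
  obtain ⟨e1, he1⟩ := ENat.ne_top_iff_exists.mp
    (depth_ne_top (A := A ⧸ Ideal.span {g}) (A ⧸ Ideal.span {g}))
  obtain ⟨d0, hd0⟩ := Groth.Agent.Lib.Helper24.CatEquidim.exists_nat_eq_ringKrullDim A
  obtain ⟨e0, he0⟩ := ENat.ne_top_iff_exists.mp (depth_ne_top (A := A) A)
  change _ + 1 = depth A A at hdep
  rw [← he1] at hdep ⊢
  rw [← he0] at hdep h
  rw [hd1] at hdim ⊢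
  rw [hd0] at hdim h
  have g1 : d1 + 1 = d0 := by exact_mod_cast hdim
  have g2 : e1 + 1 = e0 := by exact_mod_cast hdep
  rw [min_le_iff] at h ⊢
  rcases h with h | h
  · have g3 : k ≤ e0 := by exact_mod_cast h
    left
    obtain ⟨m, hm⟩ : ∃ m : ℕ, m = k - 1 := ⟨_, rfl⟩
    rw [← hm]
    have : m ≤ e1 := by omega
    exact_mod_cast this
  · have g3 : d0 ≤ e0 := by exact_mod_cast h
    right
    have : d1 ≤ e1 := by omega
    exact_mod_cast this

/-- Let X be a locally Noetherian scheme all of whose local rings satisfy Serre's condition (S_k), and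
let D be the closed subscheme of an effective Cartier divisor. Then all local rings of D satisfy
(S_{k-1}). -/
theorem result (X : Scheme.{u}) [IsLocallyNoetherian X] (k : ℕ)
    (hX : ∀ x : ↥X, min (k : WithBot ℕ∞) (ringKrullDim (X.presheaf.stalk x)) ≤
      ((LocCoh.depth (X.presheaf.stalk x) (X.presheaf.stalk x) : ℕ∞) : WithBot ℕ∞))
    (𝓘 : X.IdealSheafData) (h𝓘 : BlowUp.IsEffCartierIdeal 𝓘) (d : ↥𝓘.subscheme) :
    min ((k - 1 : ℕ) : WithBot ℕ∞) (ringKrullDim (𝓘.subscheme.presheaf.stalk d)) ≤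
      ((LocCoh.depth (𝓘.subscheme.presheaf.stalk d) (𝓘.subscheme.presheaf.stalk d) : ℕ∞) : WithBot ℕ∞) := by
  obtain ⟨U, hxU, f, hf, hI⟩ := h𝓘 (𝓘.subschemeι d)
  haveI : IsLocallyNoetherian 𝓘.subscheme := LocallyOfFiniteType.isLocallyNoetherian 𝓘.subschemeι
  have hk := Groth.Agent.Lib.helper17.RegNear.ker_stalkMap_eq_map 𝓘.subschemeι d U.1 U.2 hxU
  letI := X.presheaf.algebra_section_stalk (⟨𝓘.subschemeι d, hxU⟩ : U.1)
  haveI ip : IsLocalization.AtPrime (X.presheaf.stalk (𝓘.subschemeι d))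
      (U.2.primeIdealOf ⟨𝓘.subschemeι d, hxU⟩).asIdeal := U.2.isLocalization_stalk ⟨_, hxU⟩
  have hker : RingHom.ker (𝓘.subschemeι.stalkMap d).hom =
      Ideal.span {algebraMap Γ(X, U.1) (X.presheaf.stalk (𝓘.subschemeι d)) f} := by
    rw [← hk, 𝓘.ker_subschemeι_app U, hI, Ideal.map_span, Set.image_singleton]
  have hne : RingHom.ker (𝓘.subschemeι.stalkMap d).hom ≠ ⊤ := RingHom.ker_ne_top _
  have hg : algebraMap Γ(X, U.1) (X.presheaf.stalk (𝓘.subschemeι d)) f ∈
      IsLocalRing.maximalIdeal (X.presheaf.stalk (𝓘.subschemeι d)) := by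
    apply IsLocalRing.le_maximalIdeal hne
    rw [hker]
    exact Ideal.subset_span rfl
  haveI : Module.Flat Γ(X, U.1) (X.presheaf.stalk (𝓘.subschemeι d)) :=
    IsLocalization.flat _ (U.2.primeIdealOf ⟨𝓘.subschemeι d, hxU⟩).asIdeal.primeCompl
  have hreg : IsSMulRegular (X.presheaf.stalk (𝓘.subschemeι d))
      (algebraMap Γ(X, U.1) (X.presheaf.stalk (𝓘.subschemeι d)) f) := by
    rw [isSMulRegular_algebraMap_iff]
    exact Module.Flat.isSMulRegular_of_nonZeroDivisors hf
  let e : (X.presheaf.stalk (𝓘.subschemeι d) ⧸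
      Ideal.span {algebraMap Γ(X, U.1) (X.presheaf.stalk (𝓘.subschemeι d)) f}) ≃+*
      𝓘.subscheme.presheaf.stalk d :=
    (Ideal.quotEquivOfEq hker.symm).trans
      (RingHom.quotientKerEquivOfSurjective (𝓘.subschemeι.stalkMap_surjective d))
  exact ring_lemma _ _ hg hreg k _ e (hX (𝓘.subschemeι d))

end Groth.Agent.S1685
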