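import Groth.Statements.S16858
import Groth.Agent.Lib.Helper4.AlgStQAffChart

set_option autoImplicit false
universe u
open CategoryTheory CategoryTheory.Limits AlgebraicGeometry
open AlgSt

namespace Groth.Agent.S16858

/-- Let `S` be an affine scheme and `𝒳` an algebraic stack over `S` for the fppf topology. Then the
diagonal `𝒳 → 𝒳 ×_S 𝒳` is representable by algebraic spaces and quasi-affine if and only if there
are a scheme `U` over `S` and a functor `x : (Sch/U) → 𝒳` over `(Sch/S)`, representable by algebraic
spaces, smooth and surjective, whose restriction to every affine open of `U` is representable by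
algebraic spaces and quasi-affine. (The published statement is over the base `Spec ℤ`, and in place
of the right-hand condition stated here it allows any fpqc covering family of `𝒳` by affine schemes
whose structure functors are quasi-affine; the affine opens of a smooth surjective chart form such a
family, and conversely when the diagonal is quasi-affine every functor from an affine scheme over
the affine base `S` is quasi-affine, so the two conditions stated here are equivalent to the
published ones over an affine base.) -/
theorem result (S : Scheme.{u}) [IsAffine S]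
    (𝒳 : AlgSt.Cat S) (h𝒳 : AlgSt.IsAlgStack Scheme.fppfPrecoverage 𝒳) :
    AlgSt.RepByAlgSpWith AlgSp.IsQuasiAffineMor (FibCat.diag (FibCat.toSelf 𝒳)) ↔
      ∃ (U : Over S) (x : FibCat.overCat U ⥤ᵇ 𝒳),
        AlgSt.RepByAlgSpWith (AlgSp.LocP @Smooth) x ∧ AlgSt.RepByAlgSpWith AlgSp.IsSurjectiveMor x ∧
          ∀ (V : U.left.Opens), IsAffineOpen V →
            AlgSt.RepByAlgSpWith AlgSp.IsQuasiAffineMor
              (BasedFunctor.comp (AlgSt.overMap (Over.homMk V.ι rfl : Over.mk (V.ι ≫ U.hom) ⟶ U)) x) := by
  have h𝒳' : FibCat.IsFibGrpd 𝒳.p := h𝒳.isStack.1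
  constructor
  · intro hΔ
    obtain ⟨U, x, hsm, hsurj⟩ := h𝒳.atlas
    refine ⟨U, x, hsm, hsurj, fun V hV => ?_⟩
    apply Groth.Agent.Lib.helper4.AlgStQAffChart.qaff_of_diag h𝒳' hΔ
    have : IsAffine V.toScheme := hV
    change IsAffineHom (V.ι ≫ U.hom)
    infer_instance
  · rintro ⟨U, x, hsm, hsurj, hx⟩
    exact Groth.Agent.Lib.helper4.AlgStQAffChart.diag_qaff_of_charts h𝒳 x hsm hsurj hx

end Groth.Agent.S16858
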