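import Groth.Statements.S16862
import Groth.Agent.Lib.Helper4.GerbSection
import Groth.Agent.Lib.Helper4.AlgStInertia

set_option autoImplicit false
universe u
open CategoryTheory AlgebraicGeometry
open Gerb

namespace Groth.Agent.S16862

/-- If a morphism f of algebraic stacks makes its source a gerbe over its target, then the relative
inertia of f is flat and locally of finite presentation over the source. -/
theorem result
    (S : Scheme.{u}) (𝒳 𝒴 : AlgSt.Cat S)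
    (h𝒳 : AlgSt.IsAlgStack Scheme.fppfPrecoverage 𝒳) (h𝒴 : AlgSt.IsAlgStack Scheme.fppfPrecoverage 𝒴)
    (f : 𝒳 ⥤ᵇ 𝒴) (hf : Gerb.IsGerbeOver (QuotSh.J Scheme.fppfPrecoverage S) f) :
    AlgSt.LocQ (AlgSp.LocP @Flat) (FibCat.inertiaToBase f) ∧
      AlgSt.LocQ (AlgSp.LocP @LocallyOfFinitePresentation) (FibCat.inertiaToBase f) := by
  obtain ⟨h1, -⟩ := Groth.Agent.Lib.helper4.GerbSection.diag_fppf h𝒳 h𝒴 f hf.2
  have hfp : AlgSt.IsAlgStack Scheme.fppfPrecoverage (FibCat.fp f f) :=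
    Groth.Agent.Lib.helper4.AlgStSelf.isAlgStack_fp' h𝒳 h𝒳 h𝒴 f f
  have hI : AlgSt.IsAlgStack Scheme.fppfPrecoverage (FibCat.inertia f) :=
    (Groth.Agent.Lib.helper4.AlgStEquiv.isAlgStack_iff_of_isEquivOver _
      (Groth.Agent.Lib.helper4.FibInertiaDiag.Φ f) (Groth.Agent.Lib.helper4.FibInertiaDiag.Φ_isEquivOver f)).2
      (Groth.Agent.Lib.helper4.AlgStSelf.isAlgStack_fp' h𝒳 h𝒳 hfp (FibCat.diag f) (FibCat.diag f))
  have hfl := Groth.Agent.Lib.helper4.AlgStInertia.inertiaToBase_of_diag f _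
    (Groth.Agent.Lib.helper4.GerbSection.fppf_flat h1)
  have hlfp := Groth.Agent.Lib.helper4.AlgStInertia.inertiaToBase_of_diag f _
    (Groth.Agent.Lib.helper4.GerbSection.fppf_lfp h1)
  exact ⟨Groth.Agent.Lib.helper4.AlgStLocQ.locQ_locP_of_repByAlgSpWith hI h𝒳 _
      Groth.Agent.Lib.helper5.LocPBC.locPData_flat hfl,
    Groth.Agent.Lib.helper4.AlgStLocQ.locQ_locP_of_repByAlgSpWith hI h𝒳 _
      Groth.Agent.Lib.helper5.LocPBC.locPData_lfp hlfp⟩

end Groth.Agent.S16862
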