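import Groth.Statements.S16863
import Groth.Agent.Lib.Helper4.GerbSection
import Groth.Agent.Lib.Helper4.AlgStMagic

set_option autoImplicit false
universe u
open CategoryTheory AlgebraicGeometry
open Gerb

namespace Groth.Agent.S16863

/-- If f makes 𝒳 a gerbe over 𝒴, then for morphisms x₁ : T₁ → 𝒳, x₂ : T₂ → 𝒳 from algebraic spaces the
comparison morphism T₁ ×_𝒳 T₂ → T₁ ×_𝒴 T₂ (induced by the two projections and the 2-isomorphism
obtained by applying f to the canonical one) is surjective, flat and locally of finite presentation. -/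
theorem result
    (S : Scheme.{u}) (𝒳 𝒴 : AlgSt.Cat S)
    (h𝒳 : AlgSt.IsAlgStack Scheme.fppfPrecoverage 𝒳) (h𝒴 : AlgSt.IsAlgStack Scheme.fppfPrecoverage 𝒴)
    (f : 𝒳 ⥤ᵇ 𝒴) (hf : Gerb.IsGerbeOver (QuotSh.J Scheme.fppfPrecoverage S) f)
    (T₁ T₂ : AlgSp.Space S) (x₁ : AlgSt.ofSp T₁.obj ⥤ᵇ 𝒳) (x₂ : AlgSt.ofSp T₂.obj ⥤ᵇ 𝒳)
    (e : BasedFunctor.comp (FibCat.fpFst x₁ x₂) (BasedFunctor.comp x₁ f) ≅
      BasedFunctor.comp (FibCat.fpSnd x₁ x₂) (BasedFunctor.comp x₂ f))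
    (he : ∀ a, e.hom.toNatTrans.app a = f.map a.obj.iso.hom) :
    AlgSt.IsSurjective (FibCat.fpLift (FibCat.fpFst x₁ x₂) (FibCat.fpSnd x₁ x₂) e) ∧
      AlgSt.LocQ (AlgSp.LocP @Flat) (FibCat.fpLift (FibCat.fpFst x₁ x₂) (FibCat.fpSnd x₁ x₂) e) ∧
      AlgSt.LocQ (AlgSp.LocP @LocallyOfFinitePresentation)
        (FibCat.fpLift (FibCat.fpFst x₁ x₂) (FibCat.fpSnd x₁ x₂) e) := by
  obtain ⟨h1, h2⟩ := Groth.Agent.Lib.helper4.GerbSection.diag_fppf h𝒳 h𝒴 f hf.2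
  have hfp : AlgSt.IsAlgStack Scheme.fppfPrecoverage (FibCat.fp f f) :=
    Groth.Agent.Lib.helper4.AlgStSelf.isAlgStack_fp' h𝒳 h𝒳 h𝒴 f f
  have hT₁ := Groth.Agent.Lib.helper4.AlgStSelf.isAlgStack_ofSp T₁
  have hT₂ := Groth.Agent.Lib.helper4.AlgStSelf.isAlgStack_ofSp T₂
  have hsrc : AlgSt.IsAlgStack Scheme.fppfPrecoverage (FibCat.fp x₁ x₂) :=
    Groth.Agent.Lib.helper4.AlgStSelf.isAlgStack_fp' hT₁ hT₂ h𝒳 x₁ x₂
  have htgt : AlgSt.IsAlgStack Scheme.fppfPrecoverage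
      (FibCat.fp (BasedFunctor.comp x₁ f) (BasedFunctor.comp x₂ f)) :=
    Groth.Agent.Lib.helper4.AlgStSelf.isAlgStack_fp' hT₁ hT₂ h𝒴 _ _
  have hfl := Groth.Agent.Lib.helper4.GerbSection.fppf_flat h1
  have hlfp := Groth.Agent.Lib.helper4.GerbSection.fppf_lfp h1
  have hs : AlgSt.RepByAlgSpWith AlgSp.IsSurjectiveMor (FibCat.diag f) :=
    Groth.Agent.Lib.helper4.AlgStPts.repByAlgSpWith_of_isSurjective h𝒳.isStack.1 hfp.isStack.1 _
      (Groth.Agent.Lib.helper4.AlgStFull.repByAlgSp1_of_with _ _ hfl) h2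
  have c1 := Groth.Agent.Lib.helper4.AlgStMagic.repByAlgSpWith_fpComparison _ x₁ x₂ f e he hfl
  have c2 := Groth.Agent.Lib.helper4.AlgStMagic.repByAlgSpWith_fpComparison _ x₁ x₂ f e he hlfp
  have c3 := Groth.Agent.Lib.helper4.AlgStMagic.repByAlgSpWith_fpComparison _ x₁ x₂ f e he hs
  exact ⟨Groth.Agent.Lib.helper4.AlgStPts.isSurjective_of_repByAlgSpWith htgt.isStack.1 _ c3,
    Groth.Agent.Lib.helper4.AlgStLocQ.locQ_locP_of_repByAlgSpWith hsrc htgt _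
      Groth.Agent.Lib.helper5.LocPBC.locPData_flat c1,
    Groth.Agent.Lib.helper4.AlgStLocQ.locQ_locP_of_repByAlgSpWith hsrc htgt _
      Groth.Agent.Lib.helper5.LocPBC.locPData_lfp c2⟩

end Groth.Agent.S16863
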