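import Groth.Statements.S16877


set_option autoImplicit false
universe u
open CategoryTheory AlgebraicGeometry Opposite
open Gerb

namespace Groth.Agent.S16877

/-- If π : 𝒳 → X makes the algebraic stack 𝒳 a gerbe over the algebraic space X, then X is the fppf
sheafification of the presheaf of isomorphism classes of objects of 𝒳: the map of presheaves sending
the class of an object x to the section π(x) of X is locally surjective and locally injective.
(Consequently the space over which a gerbe lives is determined by the gerbe.) -/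
theorem result
    (S : Scheme.{u}) (𝒳 : AlgSt.Cat S) (h𝒳 : AlgSt.IsAlgStack Scheme.fppfPrecoverage 𝒳)
    [FibCat.IsFibGrpd 𝒳.p]
    (X : AlgSp.Space S) (π : 𝒳 ⥤ᵇ AlgSt.ofSp X.obj)
    (hπ : Gerb.IsGerbeOver (QuotSh.J Scheme.fppfPrecoverage S) π) :
    ∃ c : Gerb.isoClPsh 𝒳 ⟶ X.obj.obj,
      (∀ x : 𝒳.obj, c.app (op (𝒳.p.obj x)) (Quot.mk _ (Gerb.fib x)) =
          X.obj.obj.map (eqToHom (π.w_obj x).symm).op (π.obj x).sec) ∧
      Presheaf.IsLocallySurjective (QuotSh.J Scheme.fppfPrecoverage S) c ∧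
      Presheaf.IsLocallyInjective (QuotSh.J Scheme.fppfPrecoverage S) c := by
  classical
  let P := X.obj.obj
  have comp2 : ∀ {A B B' : Over S} (g : A ⟶ B) (h : B ⟶ B') (s : P.obj (op B')),
      P.map g.op (P.map h.op s) = P.map (g ≫ h).op s := by
    intro A B B' g h s; simp
  have ee : ∀ {A B Z : Over S} (e : A = B) (e' : B = A) (f : A ⟶ Z),
      eqToHom e ≫ eqToHom e' ≫ f = f := by
    intro A B Z e e' f; subst e; simp
  -- the section attached to an object over `U`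
  let sec : ∀ (U : Over S) (a : 𝒳.p.Fiber U), P.obj (op U) := fun U a =>
    P.map (eqToHom ((π.w_obj a.1).trans a.2).symm).op (π.obj a.1).sec
  -- key: compatibility with morphisms of 𝒳
  have key : ∀ {V U : Over S} (f : V ⟶ U) (b : 𝒳.p.Fiber V) (a : 𝒳.p.Fiber U) (ψ : b.1 ⟶ a.1),
      𝒳.p.IsHomLift f ψ → sec V b = P.map f.op (sec U a) := by
    intro V U f b a ψ hψ
    obtain ⟨y, hy⟩ := b
    obtain ⟨x, hx⟩ := a
    subst hy
    subst hx
    have hf : f = 𝒳.p.map ψ := IsHomLift.fac 𝒳.p f ψ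
    subst hf
    have h1 : (AlgSt.ofSp X.obj).p.IsHomLift (𝒳.p.map ψ) (π.map ψ) :=
      BasedFunctor.preserves_isHomLift π (𝒳.p.map ψ) ψ
    have h2 : (AlgSt.ofSp X.obj).p.map (π.map ψ) = eqToHom (π.w_obj y) ≫ 𝒳.p.map ψ ≫ eqToHom (π.w_obj x).symm :=
      IsHomLift.fac' (AlgSt.ofSp X.obj).p (𝒳.p.map ψ) (π.map ψ)
    have h4 : P.map ((AlgSt.ofSp X.obj).p.map (π.map ψ)).op (π.obj x).sec = (π.obj y).sec := (π.map ψ).map_sec
    have h5 : (eqToHom (π.w_obj y).symm : 𝒳.p.obj y ⟶ (AlgSt.ofSp X.obj).p.obj (π.obj y)) ≫ (AlgSt.ofSp X.obj).p.map (π.map ψ) =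
        𝒳.p.map ψ ≫ eqToHom (π.w_obj x).symm := by
      rw [h2, eqToHom_trans_assoc, eqToHom_refl, Category.id_comp]
    calc sec _ ⟨y, rfl⟩ = P.map (eqToHom (π.w_obj y).symm).op (π.obj y).sec := rfl
      _ = P.map (eqToHom (π.w_obj y).symm).op (P.map ((AlgSt.ofSp X.obj).p.map (π.map ψ)).op (π.obj x).sec) := by
          rw [h4]
      _ = P.map (eqToHom (π.w_obj y).symm ≫ (AlgSt.ofSp X.obj).p.map (π.map ψ)).op (π.obj x).sec := comp2 _ _ _
      _ = P.map (𝒳.p.map ψ ≫ eqToHom (π.w_obj x).symm).op (π.obj x).sec := by rw [h5]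
      _ = P.map (𝒳.p.map ψ).op (P.map (eqToHom (π.w_obj x).symm).op (π.obj x).sec) :=
          (comp2 _ _ _).symm
      _ = P.map (𝒳.p.map ψ).op (sec _ ⟨x, rfl⟩) := rfl
  -- well-definedness on classes
  have wd : ∀ (U : Over S) (a a' : 𝒳.p.Fiber U), Gerb.IsoRel 𝒳 U a a' → sec U a = sec U a' := by
    rintro U a a' ⟨φ⟩
    have h := key (𝟙 U) a a' φ.1 φ.2
    rw [h]; simp
  let c : Gerb.isoClPsh 𝒳 ⟶ P :=
    { app := fun U => TypeCat.ofHom (Quot.lift (fun a => sec U.unop a) (wd U.unop))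
      naturality := by
        intro U V f
        ext t
        obtain ⟨a⟩ := t
        obtain ⟨xa, ha⟩ := a
        show sec V.unop (Gerb.pullFib 𝒳 f.unop ⟨xa, ha⟩) = P.map f (sec U.unop ⟨xa, ha⟩)
        have hl : 𝒳.p.IsHomLift f.unop (Gerb.pullHom 𝒳 xa (f.unop ≫ eqToHom ha.symm)) := by
          refine IsHomLift.of_fac' 𝒳.p _ _ (Gerb.pull_over 𝒳 xa _) ha ?_
          rw [Gerb.pullHom_map]
        exact key f.unop (Gerb.pullFib 𝒳 f.unop ⟨xa, ha⟩) ⟨xa, ha⟩ _ hl }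
  refine ⟨c, ?_, ?_, ?_⟩
  · intro x
    rfl
  · -- local surjectivity
    constructor
    intro U s
    obtain ⟨R, hR, hRf⟩ := hπ.1 (⟨U, s⟩ : (AlgSt.ofSp X.obj).obj)
    refine (QuotSh.J Scheme.fppfPrecoverage S).superset_covering ?_ hR
    intro V f hf
    obtain ⟨x, g, hg⟩ := hRf f hf
    have hxV : 𝒳.p.obj x = V := (π.w_obj x).symm.trans (@IsHomLift.domain_eq _ _ _ _ (AlgSt.ofSp X.obj).p _ _ _ _ f g hg)
    refine ⟨Quot.mk _ ⟨x, hxV⟩, ?_⟩
    subst hxV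
    show sec _ ⟨x, rfl⟩ = P.map f.op s
    have h2 : (AlgSt.ofSp X.obj).p.map g = eqToHom (π.w_obj x) ≫ f := by
      have := @IsHomLift.fac' _ _ _ _ (AlgSt.ofSp X.obj).p _ _ _ _ f g hg
      rw [this]
      erw [eqToHom_refl, Category.comp_id]
      rfl
    have h4 : P.map ((AlgSt.ofSp X.obj).p.map g).op s = (π.obj x).sec := g.map_sec
    calc sec _ ⟨x, rfl⟩ = P.map (eqToHom (π.w_obj x).symm).op (π.obj x).sec := rfl
      _ = P.map (eqToHom (π.w_obj x).symm).op (P.map ((AlgSt.ofSp X.obj).p.map g).op s) := by rw [h4]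
      _ = P.map (eqToHom (π.w_obj x).symm ≫ (AlgSt.ofSp X.obj).p.map g).op s := comp2 _ _ _
      _ = P.map f.op s := by
          rw [h2]
          exact congrArg (fun k => P.map k.op s) (ee _ _ f)
  · -- local injectivity
    have inj : ∀ (U : Over S) (a a' : 𝒳.p.Fiber U), sec U a = sec U a' →
        ∃ R ∈ (QuotSh.J Scheme.fppfPrecoverage S) U, ∀ ⦃V : Over S⦄ (f : V ⟶ U), R f →
          Quot.mk (Gerb.IsoRel 𝒳 V) (Gerb.pullFib 𝒳 f a) = Quot.mk _ (Gerb.pullFib 𝒳 f a') := by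
      intro U a a' hs
      obtain ⟨xa, ha⟩ := a
      obtain ⟨xa', ha'⟩ := a'
      subst ha
      have transport : ∀ {A B B' : Over S} (e : A = B) (e' : A = B') (s : P.obj (op B))
          (s' : P.obj (op B')), P.map (eqToHom e).op s = P.map (eqToHom e').op s' →
          P.map (eqToHom (e.symm.trans e')).op s' = s := by
        intro A B B' e e' s s' h; subst e; subst e'; simpa using h.symm
      let b : π.obj xa ⟶ π.obj xa' :=
        ⟨eqToHom ((π.w_obj xa).trans (ha'.symm.trans (π.w_obj xa').symm)),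
          transport (π.w_obj xa).symm ((π.w_obj xa').trans ha').symm _ _ hs⟩
      have hb : (AlgSt.ofSp X.obj).p.IsHomLift (𝟙 (𝒳.p.obj xa)) b := by
        refine IsHomLift.of_fac' (AlgSt.ofSp X.obj).p _ _ (π.w_obj xa) ((π.w_obj xa').trans ha') ?_
        change (eqToHom ((π.w_obj xa).trans (ha'.symm.trans (π.w_obj xa').symm)) :
          (AlgSt.ofSp X.obj).p.obj (π.obj xa) ⟶ (AlgSt.ofSp X.obj).p.obj (π.obj xa')) = _
        rw [Category.id_comp]
        exact (eqToHom_trans _ _).symm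
      obtain ⟨R, hR, hRf⟩ := hπ.2 xa xa' b hb
      refine ⟨R, hR, ?_⟩
      intro V f hf
      obtain ⟨x₀, φ, ψ, hφ, hψ, -⟩ := hRf f hf
      have hx₀ : 𝒳.p.obj x₀ = V := @IsHomLift.domain_eq _ _ _ _ 𝒳.p _ _ _ _ f φ hφ
      have hφ' : 𝒳.p.IsHomLift (f ≫ eqToHom (rfl : 𝒳.p.obj xa = 𝒳.p.obj xa).symm) φ := by
        simpa using hφ
      have hψ' : 𝒳.p.IsHomLift (f ≫ eqToHom ha'.symm) ψ := by
        refine IsHomLift.of_fac' 𝒳.p _ _ hx₀ rfl ?_
        have := @IsHomLift.fac' _ _ _ _ 𝒳.p _ _ _ _ f ψ hψ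
        rw [this]; simp
      obtain ⟨χ, hχ, -⟩ := Gerb.exists_hom_pull 𝒳 xa _ φ hφ'
      obtain ⟨χ', hχ', -⟩ := Gerb.exists_hom_pull 𝒳 xa' _ ψ hψ'
      have e1 : Quot.mk (Gerb.IsoRel 𝒳 V) ⟨x₀, hx₀⟩ = Quot.mk _ (Gerb.pullFib 𝒳 f ⟨xa, rfl⟩) :=
        Quot.sound ⟨⟨χ, hχ⟩⟩
      have e2 : Quot.mk (Gerb.IsoRel 𝒳 V) ⟨x₀, hx₀⟩ = Quot.mk _ (Gerb.pullFib 𝒳 f ⟨xa', ha'⟩) :=
        Quot.sound ⟨⟨χ', hχ'⟩⟩
      exact e1.symm.trans e2
    constructor
    intro U t t' h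
    obtain ⟨a⟩ := t
    obtain ⟨a'⟩ := t'
    obtain ⟨R, hR, hRf⟩ := inj U.unop a a' h
    refine (QuotSh.J Scheme.fppfPrecoverage S).superset_covering ?_ hR
    intro V f hf
    exact hRf f hf

end Groth.Agent.S16877
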