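import Groth.Statements.S16883
import Mathlib
import Groth.Agent.Lib.Helper4.GerbFF

set_option autoImplicit false
open CategoryTheory
universe v u
open Gerb

namespace Groth.Agent.S16883
open Groth.Agent.Lib.helper4.Descent Groth.Agent.Lib.helper4.GerbLocal Groth.Agent.Lib.helper4.GerbFF

/-- Let `𝒳`, `𝒴`, `𝒵` be stacks in groupoids over the site `(C, J)` and `F : 𝒳 ⟶ 𝒴`, `G : 𝒴 ⟶ 𝒵`
functors over `C`. If `𝒳` is a gerbe over `𝒴` along `F` and `𝒴` is a gerbe over `𝒵` along `G`, then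
`𝒳` is a gerbe over `𝒵` along the composite functor. -/
theorem result {C : Type u} [Category.{v} C] (J : GrothendieckTopology C)
    {𝒳 𝒴 𝒵 : BasedCategory.{v, max u v} C}
    (h𝒳 : Stk.IsStack J 𝒳) (h𝒴 : Stk.IsStack J 𝒴) (h𝒵 : Stk.IsStack J 𝒵)
    (F : 𝒳 ⥤ᵇ 𝒴) (G : 𝒴 ⥤ᵇ 𝒵)
    (hF : Gerb.IsGerbeOver J F) (hG : Gerb.IsGerbeOver J G) :
    Gerb.IsGerbeOver J (BasedFunctor.comp F G) := by
  classical
  have hfg𝒳 : FibCat.IsFibGrpd 𝒳.p := h𝒳.1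
  have hfg𝒴 : FibCat.IsFibGrpd 𝒴.p := h𝒴.1
  refine ⟨?_, ?_⟩
  · intro z
    let S : Sieve (𝒵.p.obj z) :=
      { arrows := fun V f => ∃ (x : 𝒳.obj) (t : G.obj (F.obj x) ⟶ z), 𝒵.p.IsHomLift f t
        downward_closed := by
          rintro V W f ⟨x, t, ht⟩ k
          have h0 : 𝒵.p.obj (G.obj (F.obj x)) = V := IsHomLift.domain_eq 𝒵.p f t
          have hV : 𝒳.p.obj x = V := ((BasedFunctor.comp F G).w_obj x).symm.trans h0
          subst hV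
          obtain ⟨x', κ, hκ⟩ := hfg𝒳.exists_lift (x := x) k
          have h1 : 𝒵.p.IsHomLift k (G.map (F.map κ)) := inferInstance
          exact ⟨x', G.map (F.map κ) ≫ t, inferInstance⟩ }
    refine ⟨S, ?_, fun V f hf => hf⟩
    obtain ⟨R₁, hR₁, hloc₁⟩ := hG.1 z
    refine J.transitive hR₁ S (fun V f hf => ?_)
    obtain ⟨y, g, hg⟩ := hloc₁ f hf
    have hyV : 𝒴.p.obj y = V := (G.w_obj y).symm.trans (IsHomLift.domain_eq 𝒵.p f g)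
    obtain ⟨R₂, hR₂, hloc₂⟩ := hF.1 y
    subst hyV
    refine J.superset_covering ?_ hR₂
    intro W k hk
    obtain ⟨x, h, hh⟩ := hloc₂ k hk
    have h1 : 𝒵.p.IsHomLift k (G.map h) := inferInstance
    exact ⟨x, G.map h ≫ g, inferInstance⟩
  · intro x x' c₀ hc₀
    obtain ⟨c, hcc₀⟩ : ∃ c : G.obj (F.obj x) ⟶ G.obj (F.obj x'), c = c₀ := ⟨c₀, rfl⟩
    have hc : 𝒵.p.IsHomLift (𝟙 (𝒳.p.obj x)) c := by rw [hcc₀]; exact hc₀
    clear hc₀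
    subst hcc₀
    have h0 : 𝒵.p.obj (G.obj (F.obj x')) = 𝒳.p.obj x := IsHomLift.codomain_eq 𝒵.p (𝟙 (𝒳.p.obj x)) c
    have e' : 𝒳.p.obj x' = 𝒳.p.obj x := ((BasedFunctor.comp F G).w_obj x').symm.trans h0
    let S : Sieve (𝒳.p.obj x) :=
      { arrows := fun V f => ∃ (x₀ : 𝒳.obj) (a : x₀ ⟶ x) (a' : x₀ ⟶ x'),
          𝒳.p.IsHomLift f a ∧ 𝒳.p.IsHomLift f a' ∧ G.map (F.map a) ≫ c = G.map (F.map a')
        downward_closed := by
          rintro V W f ⟨x₀, a, a', ha, ha', hcc⟩ k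
          have hV : 𝒳.p.obj x₀ = V := IsHomLift.domain_eq 𝒳.p f a
          subst hV
          obtain ⟨x₁, κ, hκ⟩ := hfg𝒳.exists_lift (x := x₀) k
          refine ⟨x₁, κ ≫ a, κ ≫ a', inferInstance, inferInstance, ?_⟩
          rw [F.toFunctor.map_comp, G.toFunctor.map_comp, Category.assoc, hcc, ← G.toFunctor.map_comp,
            ← F.toFunctor.map_comp] }
    refine ⟨S, ?_, fun V f hf => hf⟩
    have hFx : 𝒴.p.obj (F.obj x) = 𝒳.p.obj x := F.w_obj x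
    have hc' : 𝒵.p.IsHomLift (𝟙 (𝒴.p.obj (F.obj x))) c := Groth.Agent.FibEquiv.isHomLift_of_eq 𝒵.p hFx.symm c
    obtain ⟨R₁, hR₁, hloc₁⟩ := hG.2 (F.obj x) (F.obj x') c hc'
    refine J.transitive (J.pullback_stable (eqToHom hFx.symm) hR₁) S (fun V f hf => ?_)
    obtain ⟨y₀, φ, ψ, hφ, hψ, hcomm⟩ := hloc₁ _ hf
    have hφ' : 𝒴.p.IsHomLift f φ := (IsHomLift.lift_comp_eqToHom_iff 𝒴.p f φ hFx.symm).1 hφ
    have hψ' : 𝒴.p.IsHomLift f ψ := (IsHomLift.lift_comp_eqToHom_iff 𝒴.p f ψ hFx.symm).1 hψ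
    obtain ⟨xV, ξ, hξ⟩ := hfg𝒳.exists_lift (x := x) f
    obtain ⟨x'V, ξ', hξ'⟩ := hfg𝒳.exists_lift (x := x') (f ≫ eqToHom e'.symm)
    have hξ'' : 𝒳.p.IsHomLift f ξ' := (IsHomLift.lift_comp_eqToHom_iff 𝒳.p f ξ' e'.symm).1 hξ'
    have hFξ : 𝒴.p.IsHomLift f (F.map ξ) := inferInstance
    have hFξ' : 𝒴.p.IsHomLift f (F.map ξ') := inferInstance
    obtain ⟨ι, hι, hιfac⟩ := exists_factor hfg𝒴 f φ (𝟙 V) f (by simp) (F.map ξ)
    obtain ⟨ι', hι', hι'fac⟩ := exists_factor hfg𝒴 f (F.map ξ') (𝟙 V) f (by simp) ψ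
    have hxV : 𝒳.p.obj xV = V := IsHomLift.domain_eq 𝒳.p f ξ
    have hb : 𝒴.p.IsHomLift (𝟙 (𝒳.p.obj xV)) (ι ≫ ι') := by
      have : 𝒴.p.IsHomLift (𝟙 V ≫ 𝟙 V) (ι ≫ ι') := inferInstance
      rw [Category.id_comp] at this
      exact Groth.Agent.FibEquiv.isHomLift_of_eq 𝒴.p hxV.symm _
    obtain ⟨R₂, hR₂, hloc₂⟩ := hF.2 xV x'V (ι ≫ ι') hb
    refine J.superset_covering ?_ (J.pullback_stable (eqToHom hxV.symm) hR₂)
    intro W k hk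
    obtain ⟨x₀, α, β, hα, hβ, hαβ⟩ := hloc₂ _ hk
    have hα' : 𝒳.p.IsHomLift k α := (IsHomLift.lift_comp_eqToHom_iff 𝒳.p k α hxV.symm).1 hα
    have hβ' : 𝒳.p.IsHomLift k β := (IsHomLift.lift_comp_eqToHom_iff 𝒳.p k β hxV.symm).1 hβ
    refine ⟨x₀, α ≫ ξ, β ≫ ξ', inferInstance, inferInstance, ?_⟩
    have key : F.map (β ≫ ξ') = F.map α ≫ ι ≫ ψ := by
      rw [F.toFunctor.map_comp, ← hαβ, Category.assoc, Category.assoc, hι'fac]
    have key2 : F.map (α ≫ ξ) = F.map α ≫ ι ≫ φ := by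
      rw [F.toFunctor.map_comp, hιfac]
    rw [key, key2, G.toFunctor.map_comp, G.toFunctor.map_comp, G.toFunctor.map_comp, G.toFunctor.map_comp,
      Category.assoc, Category.assoc, hcomm]

end Groth.Agent.S16883
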