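import Groth.Statements.S16885
import Groth.Agent.Lib.Helper4.GerbBasic

set_option autoImplicit false
open CategoryTheory
universe v u
open Gerb

namespace Groth.Agent.S16885

/-- Let `𝒮₁`, `𝒮₂` be categories over `C` and `F : 𝒮₁ ⟶ 𝒮₂` a functor over `C` which is an equivalence
in the 2-category of categories over `C`. Then, for a topology `J` on `C`, `𝒮₁` is a gerbe over the
site `(C, J)` if and only if `𝒮₂` is. -/
theorem result {C : Type u} [Category.{v} C] (J : GrothendieckTopology C)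
    {𝒮₁ 𝒮₂ : BasedCategory.{v, max u v} C} (F : 𝒮₁ ⥤ᵇ 𝒮₂) (hF : FibCat.IsEquivOver F) :
    Gerb.IsGerbe J 𝒮₁ ↔ Gerb.IsGerbe J 𝒮₂ := by
  have key : ∀ {𝒜 ℬ : BasedCategory.{v, max u v} C} (E : 𝒜 ⥤ᵇ ℬ), FibCat.IsEquivOver E →
      Gerb.IsGerbeOver J (FibCat.toSelf ℬ) → Gerb.IsGerbeOver J (FibCat.toSelf 𝒜) := by
    intro 𝒜 ℬ E hE h
    have h1 := Groth.Agent.Lib.helper4.GerbBasic.isGerbeOver_precomp J E hE (FibCat.toSelf ℬ) h
    have e : BasedFunctor.comp E (FibCat.toSelf ℬ) = FibCat.toSelf 𝒜 := by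
      have h2 : (BasedFunctor.comp E (FibCat.toSelf ℬ)).toFunctor = (FibCat.toSelf 𝒜).toFunctor := E.w
      cases hA : BasedFunctor.comp E (FibCat.toSelf ℬ) with
      | mk f1 w1 =>
        cases hB : FibCat.toSelf 𝒜 with
        | mk f2 w2 =>
          rw [hA, hB] at h2
          cases h2
          rfl
    rw [e] at h1
    exact h1
  obtain ⟨G, hG⟩ := Groth.Agent.StkLib.isEquivOver_symm hF
  unfold Gerb.IsGerbe
  rw [Groth.Agent.StkLib.isStack_iff_of_isEquivOver J F hF]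
  exact and_congr_right fun _ => ⟨key G hG, key F hF⟩

end Groth.Agent.S16885
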