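import Groth.Statements.S1690
import Groth.Agent.Lib.Lead.RefHull9
import Groth.Agent.Lib.Helper2.Hartogs6
import Groth.Agent.Lib.Helper2.Hartogs3
-- import your own Groth.Agent.* helpers here

set_option autoImplicit false
set_option backward.isDefEq.respectTransparency false
set_option linter.style.haveILetI false
universe u
open CategoryTheory CategoryTheory.Limits AlgebraicGeometry TopologicalSpace
open SDiv

namespace Groth.Agent.S1690

/-- (1) if and only if (3): let X be an integral locally Noetherian normal scheme and F a coherent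
module. Then F is reflexive (stalkwise) if and only if there is an open subscheme j : U ⟶ X such
that every point outside U has local ring of dimension at least 2, the restriction of F to U is
finite locally free, and the canonical map F ⟶ j_* j^* F is an isomorphism. -/
theorem result (X : Scheme.{u}) [IsIntegral X] [IsLocallyNoetherian X] (hX : Pi1.IsNormalScheme X)
    (F : X.Modules) (hF : Coh.IsCoh F) :
    (∀ x : ↥X, Module.IsReflexive (X.presheaf.stalk x) (F.presheaf.stalk x)) ↔
      ∃ U : X.Opens, (∀ x : ↥X, x ∉ U → (2 : WithBot ℕ∞) ≤ ringKrullDim (X.presheaf.stalk x)) ∧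
        FlatMod.IsFinLocFree (F.restrict U.ι) ∧ IsIso ((Scheme.Modules.restrictAdjunction U.ι).unit.app F) := by
  constructor
  · intro hst
    have hUo := Groth.Agent.Lib.Lead.RH.isOpen_freeLocus F hF
    refine ⟨⟨Groth.Agent.Lib.Lead.RH.freeLocus F, hUo⟩, fun x hx => ?_, ?_, ?_⟩
    · by_contra hcon
      apply hx
      haveI := (hX x).1
      haveI := (hX x).2
      haveI : IsPrincipalIdealRing (X.presheaf.stalk x) :=
        Groth.Agent.Lib.Lead.RH.isPrincipalIdealRing_of_normal_dim_le_one _
          (Groth.Agent.Lib.Lead.RH.withBot_enat_le_one_of_not_two_le _ hcon)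
      haveI := Groth.Agent.Lib.helper16.CohStalk.finite_stalk_of_isCoh F hF x
      haveI : Module.IsReflexive (X.presheaf.stalk x) (F.presheaf.stalk x) := hst x
      haveI : Module.IsTorsionFree (X.presheaf.stalk x) (F.presheaf.stalk x) := inferInstance
      exact Groth.Agent.Lib.Lead.RH.free_of_torsionFree_of_pid (B := X.presheaf.stalk x)
        (F.presheaf.stalk x)
    · exact Groth.Agent.Lib.Lead.RH.isFinLocFree_restrict_of_le_freeLocus F hF _ (fun y hy => hy)
    · refine Groth.Agent.Lib.helper2.Hartogs.isIso_resPushUnit_of_depth F hF _ fun x hx => ?_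
      have hdim : (2 : WithBot ℕ∞) ≤ ringKrullDim (X.presheaf.stalk x) := by
        by_contra hcon
        apply hx
        haveI := (hX x).1
        haveI := (hX x).2
        haveI : IsPrincipalIdealRing (X.presheaf.stalk x) :=
          Groth.Agent.Lib.Lead.RH.isPrincipalIdealRing_of_normal_dim_le_one _
            (Groth.Agent.Lib.Lead.RH.withBot_enat_le_one_of_not_two_le _ hcon)
        haveI := Groth.Agent.Lib.helper16.CohStalk.finite_stalk_of_isCoh F hF x
        haveI : Module.IsReflexive (X.presheaf.stalk x) (F.presheaf.stalk x) := hst x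
        haveI : Module.IsTorsionFree (X.presheaf.stalk x) (F.presheaf.stalk x) := inferInstance
        exact Groth.Agent.Lib.Lead.RH.free_of_torsionFree_of_pid (B := X.presheaf.stalk x)
          (F.presheaf.stalk x)
      haveI := (hX x).1
      haveI := (hX x).2
      haveI : Module.IsReflexive (X.presheaf.stalk x) (F.presheaf.stalk x) := hst x
      haveI := Groth.Agent.Lib.helper16.CohStalk.finite_stalk_of_isCoh F hF x
      have hd : 2 ≤ LocCoh.depth (X.presheaf.stalk x) (X.presheaf.stalk x) := by
        have h1 := Groth.Agent.Lib.Helper24.SerreNormal.sk_two_of_normal (B := X.presheaf.stalk x)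
        rw [min_eq_left hdim] at h1
        exact WithBot.coe_le_coe.1 h1
      exact (Groth.Agent.Lib.helper26.Depth.reflexive_depth_Sk
        (IsLocalRing.maximalIdeal (X.presheaf.stalk x)) (F.presheaf.stalk x)).2.1 hd
  · rintro ⟨U, hdim, hflf, hiso⟩
    refine Groth.Agent.Lib.Lead.RH.isReflexiveAt_of_forall_or_depth F hF fun y => ?_
    by_cases hy : y ∈ U
    · left
      haveI := Groth.Agent.Lib.Lead.RH.free_stalk_of_isFinLocFree_restrict F U hflf y hy
      haveI := Groth.Agent.Lib.helper16.CohStalk.finite_stalk_of_isCoh F hF y
      exact Groth.Agent.Lib.Lead.RH.isReflexiveAt_of_free F y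
    · right
      refine Groth.Agent.Lib.helper2.Hartogs.depth_ge_two_of_bijective_res F hF U (fun V => ?_) y hy
      haveI : IsIso ((ZClos.resPushUnit U).app F) := hiso
      have h := (Groth.Agent.Lib.helper2.ModSec.isIso_iff_bijective_app ((ZClos.resPushUnit U).app F)).mp inferInstance V
      rw [ZClos.resPushUnit_app_app] at h
      exact (Groth.Agent.Lib.helper2.ZClosLib.res_bij_iff_of_eq F (Groth.Agent.Lib.helper2.ZClosLib.image_preimage_eq' U V) _ _).mp h


end Groth.Agent.S1690
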