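import Groth.Statements.S16901
import Groth.Agent.Lib.Helper7.Kodaira

set_option autoImplicit false
universe u
open CategoryTheory CategoryTheory.Limits AlgebraicGeometry
open Vanish

namespace Groth.Agent.S16901

/-- Let k be an algebraically closed field and X an integral proper k-scheme of dimension n with an
ample invertible O_X-module (a projective variety, not assumed non-singular), and let L be an
invertible O_X-module. The Iitaka dimension of L is n, in the growth form the text adopts as its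
working definition (for some ν > 0 there is a constant a > 0 with μ^n ≤ a · dim_k H^0(X, L^⊗νμ) for
all μ ≥ 1), if and only if for some ν > 0 there are an ample invertible module A and a monomorphism
A → L^⊗ν (that is, L^⊗ν(−C) is ample for some effective divisor C). -/
theorem result (k : Type u) [Field k] [IsAlgClosed k]
    (X : Scheme.{u}) [X.Over (Spec (CommRingCat.of k))] [IsIntegral X] [IsProper (X ↘ Spec (CommRingCat.of k))]
    (n : ℕ) (hn : topologicalKrullDim X = n) (H : X.Modules) (hH : CohB1.IsAmple H)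
    (L : X.Modules) (hL : PicF.IsInvertible L) :
    (∃ ν a : ℕ, 0 < ν ∧ 0 < a ∧ ∀ μ : ℕ, 1 ≤ μ →
        μ ^ n ≤ a * Module.finrank k (Coh.HH X (CohB1.tensorPow L (ν * μ)) 0)) ↔
      ∃ (ν : ℕ) (A : X.Modules) (φ : A ⟶ CohB1.tensorPow L ν), 0 < ν ∧ CohB1.IsAmple A ∧ Mono φ := by
  haveI := Groth.Agent.Lib.Lead.CurveEuler.isNoetherian k X
  constructor
  · rintro ⟨ν, a, hν, ha, h⟩
    have hLν : PicF.IsInvertible (CohB1.tensorPow L ν) :=
      Groth.Agent.Lib.helper12.TensorInv.isInvertible_tensorPow hL ν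
    have hfin : ∀ μ : ℕ, Module.finrank k (Coh.HH X (CohB1.tensorPow (CohB1.tensorPow L ν) μ) 0) =
        Module.finrank k (Coh.HH X (CohB1.tensorPow L (ν * μ)) 0) := fun μ =>
      (Groth.Agent.Lib.Helper18.HH.isoEquivOver k
        (Groth.Agent.Lib.helper12.TensorPowAdd.tensorPowMul L ν μ) 0).finrank_eq
    have ha' : (0 : ℝ) < (a : ℝ) := by exact_mod_cast ha
    obtain ⟨m, φ, hm, hφ⟩ := Groth.Agent.Lib.helper7.Kodaira.exists_mono_of_freq_big k X n hn hLν
      ⟨1 / (2 * (a : ℝ)), by positivity, by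
        apply Filter.Eventually.frequently
        filter_upwards [Filter.eventually_ge_atTop 1] with μ hμ
        rw [hfin μ]
        have h1 := h μ hμ
        have h2 : ((μ : ℝ)) ^ n ≤ (a : ℝ) *
            (Module.finrank k (Coh.HH X (CohB1.tensorPow L (ν * μ)) 0) : ℝ) := by
          exact_mod_cast h1
        have h3 : (0 : ℝ) < (μ : ℝ) ^ n := by
          have : (0 : ℝ) < (μ : ℝ) := by exact_mod_cast hμ
          positivity
        rw [div_mul_eq_mul_div, one_mul, div_lt_iff₀ (by positivity)]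
        nlinarith⟩ hH
    haveI := hφ
    refine ⟨ν * m, H, φ ≫ (Groth.Agent.Lib.helper12.TensorPowAdd.tensorPowMul L ν m).hom,
      Nat.mul_pos hν hm, hH, mono_comp _ _⟩
  · rintro ⟨ν, A, φ, hν, hA, hφ⟩
    haveI := hφ
    obtain ⟨C, hC, m₁, h⟩ := Groth.Agent.Lib.helper7.Kodaira.big_of_mono k X n hn hA hL ν hν φ
    obtain ⟨a, ha⟩ := exists_nat_gt (1 / C)
    have ha0 : 0 < a := by
      have : (0 : ℝ) < (a : ℝ) := lt_trans (by positivity) ha
      exact_mod_cast this
    refine ⟨max m₁ 1, a, lt_of_lt_of_le Nat.one_pos (le_max_right _ _), ha0, fun μ hμ => ?_⟩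
    have hge : m₁ ≤ max m₁ 1 * μ :=
      le_trans (le_max_left m₁ 1) (Nat.le_mul_of_pos_right _ hμ)
    have h1 := h (max m₁ 1 * μ) hge
    have h2 : (μ : ℝ) ^ n ≤ ((max m₁ 1 * μ : ℕ) : ℝ) ^ n := by
      apply pow_le_pow_left₀ (by positivity)
      have : μ ≤ max m₁ 1 * μ := Nat.le_mul_of_pos_left _ (lt_of_lt_of_le Nat.one_pos (le_max_right _ _))
      exact_mod_cast this
    have h3 : (μ : ℝ) ^ n ≤ (a : ℝ) *
        (Module.finrank k (Coh.HH X (CohB1.tensorPow L (max m₁ 1 * μ)) 0) : ℝ) := by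
      have h4 : (1 : ℝ) < (a : ℝ) * C := by
        rw [div_lt_iff₀ hC] at ha
        exact ha
      have h5 : (0 : ℝ) ≤ ((max m₁ 1 * μ : ℕ) : ℝ) ^ n := by positivity
      have h6 : (0:ℝ) ≤ (Module.finrank k (Coh.HH X (CohB1.tensorPow L (max m₁ 1 * μ)) 0) : ℝ) := by
        positivity
      have ha' : (0 : ℝ) < (a : ℝ) := by exact_mod_cast ha0
      calc (μ : ℝ) ^ n ≤ ((max m₁ 1 * μ : ℕ) : ℝ) ^ n := h2
        _ ≤ ((a : ℝ) * C) * ((max m₁ 1 * μ : ℕ) : ℝ) ^ n := by nlinarith
        _ = (a : ℝ) * (C * ((max m₁ 1 * μ : ℕ) : ℝ) ^ n) := by ring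
        _ ≤ (a : ℝ) * _ := mul_le_mul_of_nonneg_left h1 ha'.le
    exact_mod_cast h3

end Groth.Agent.S16901
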