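import Groth.Statements.S16909
import Groth.Agent.Lib.Helper11.SerreCrit
import Groth.Agent.Lib.Helper11.InvPullback

set_option autoImplicit false
universe u
open CategoryTheory CategoryTheory.Limits AlgebraicGeometry
open ResProp

namespace Groth.Agent.S16909


open AlgebraicGeometry CategoryTheory CategoryTheory.Limits Opposite
open Scheme.Modules Groth.Agent.Lib.helper7
open Groth.Agent.Lib.helper11.GenLocus Groth.Agent.Lib.helper11.IsoLocus
open Groth.Agent.Lib.helper11.SerreCrit Groth.Agent.Lib.helper11.InvHom
open Groth.Agent.Lib.helper11.InvPullback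

theorem main {X : Scheme.{u}} (x : X) (U : X.affineOpens) (hxU : x ∈ U.1)
    (Z : TopologicalSpace.Closeds X) (hZ : (Z : Set X) = (U.1 : Set X)ᶜ) (ι : Type u)
    (p : (SheafOfModules.free ι : X.Modules) ⟶
      ClSub.idealMod (Scheme.IdealSheafData.vanishingIdeal Z)) [Epi p] :
    ∃ r : Γ(X, ⊤), IsAffineOpen (X.basicOpen r) ∧ x ∈ X.basicOpen r := by
  let I := Scheme.IdealSheafData.vanishingIdeal Z
  let α := ClSub.idealModι I
  let g := X.fromSpecResidueField x
  let c := unitToPush g
  let f : ι → Γ(X, ⊤) := fun i => (α.app ⊤).hom (sec (SheafOfModules.ιFree i ≫ p) ⊤)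
  have hfU : ∀ i, X.basicOpen (f i) ≤ U.1 := fun i z hz => by
    by_contra hzU
    have hzZ : z ∈ Z := by
      show z ∈ (Z : Set X)
      rw [hZ]; exact hzU
    exact not_mem_basicOpen_of_mem Z _ z hzZ hz
  have hex : ∃ i, x ∈ X.basicOpen (f i) := by
    by_contra hcon
    push Not at hcon
    have h0 : ∀ i, (SheafOfModules.ιFree i ≫ p) ≫ α ≫ c = 0 := by
      intro i
      refine (isZeroOn_top_iff _).mp ((isZeroOn_iff_sec _ ⊤).mpr ?_)
      have e : sec ((SheafOfModules.ιFree i ≫ p) ≫ α ≫ c) ⊤ = g.app ⊤ (f i) := rfl
      refine e.trans ?_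
      have hb : (Spec (X.residueField x)).basicOpen (g.app ⊤ (f i)) = ⊥ := by
        rw [← Scheme.preimage_basicOpen]
        ext y
        simp only [TopologicalSpace.Opens.coe_bot, Set.mem_empty_iff_false, iff_false]
        intro hy
        have hy' : g y ∈ X.basicOpen (f i) := hy
        rw [Scheme.fromSpecResidueField_apply] at hy'
        exact hcon i hy'
      exact (AlgebraicGeometry.basicOpen_eq_bot_iff _).mp hb
    have h1 : p ≫ α ≫ c = 0 := by
      refine Cofan.IsColimit.hom_ext (SheafOfModules.isColimitFreeCofan ι) _ _ (fun i => ?_)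
      rw [SheafOfModules.freeCofan_inj]
      exact ((Category.assoc _ _ _).symm.trans (h0 i)).trans comp_zero.symm
    have h2 : α ≫ c = 0 := (cancel_epi p).mp (h1.trans comp_zero.symm)
    obtain ⟨V, hV, hxV, hVU⟩ :=
      TopologicalSpace.Opens.isBasis_iff_nbhd.mp X.isBasis_affineOpens hxU
    obtain ⟨m, hm⟩ := idealModι_app_surjective_of_disjoint Z ⟨V, hV⟩
      (Set.disjoint_left.mpr fun z hzV hzZ => by
        have : z ∈ (U.1 : Set X)ᶜ := hZ ▸ hzZ
        exact this (hVU hzV)) (1 : Γ(X, V))
    have h3 : ((α ≫ c).app V).hom m = g.app V 1 := by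
      show (c.app V).hom ((α.app V).hom m) = _
      rw [hm]
      rfl
    rw [h2] at h3
    have h4 : (1 : Γ(Spec (X.residueField x), g ⁻¹ᵁ V)) = 0 := by
      rw [← map_one (g.app V).hom]
      exact h3.symm
    have h5 : g ⁻¹ᵁ V = ⊥ := by
      rw [← (Spec (X.residueField x)).basicOpen_of_isUnit
        (isUnit_one : IsUnit (1 : Γ(Spec (X.residueField x), g ⁻¹ᵁ V))), h4, Scheme.basicOpen_zero]
    obtain ⟨y⟩ : Nonempty (Spec (X.residueField x)) := inferInstance
    have hy : y ∈ g ⁻¹ᵁ V := by
      show g y ∈ V
      rw [Scheme.fromSpecResidueField_apply]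
      exact hxV
    rw [h5] at hy
    exact hy
  obtain ⟨i, hi⟩ := hex
  refine ⟨f i, ?_, hi⟩
  have := U.2.basicOpen (X.presheaf.map (homOfLE (le_top : U.1 ≤ ⊤)).op (f i))
  rw [Scheme.basicOpen_res, inf_eq_right.mpr (hfU i)] at this
  exact this


/-- Let `X` be a quasi-compact and quasi-separated scheme on which every quasi-coherent module is
globally generated (a quotient of a free module on some index type, i.e. the structure sheaf is a
generating family). Then `X` is quasi-affine. No separatedness hypothesis is made; it follows. (The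
published statement is for an algebraic stack over an algebraic space with affine stabilizer groups
at closed points and concludes that it is representable by a quasi-affine morphism; that general
case rests on results outside this text, and this row is the final step of its proof, the case of a
scheme.) -/
theorem result (X : Scheme.{u}) [CompactSpace X]
    [QuasiSeparatedSpace X] (h : ∀ M : X.Modules, Coh.IsQCoh M → Curv2.IsGloballyGenerated M) :
    X.IsQuasiAffine := by
  refine Scheme.IsQuasiAffine.of_forall_exists_mem_basicOpen X fun x => ?_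
  obtain ⟨U, hxU⟩ := KerSections.exists_affine_mem x
  let Z : TopologicalSpace.Closeds X := ⟨(U.1 : Set X)ᶜ, U.1.isOpen.isClosed_compl⟩
  obtain ⟨ι, p, hp⟩ := h (ClSub.idealMod (Scheme.IdealSheafData.vanishingIdeal Z)) inferInstance
  exact main x U hxU Z rfl ι p

end Groth.Agent.S16909
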