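import Groth.Statements.S16917
import Groth.Agent.Lib.Helper8.UncountableAvoid

set_option autoImplicit false
open CategoryTheory AlgebraicGeometry
universe u
open Variety

namespace Groth.Agent.S16917

open Groth.Agent.Lib.Helper8.UncountableAvoid TopologicalSpace in
theorem exists_ge (k : Type u) [Field k] [Uncountable k] (X : Scheme.{u})
    (sX : X ⟶ Spec (CommRingCat.of k)) [LocallyOfFiniteType sX]
    (T : Closeds X) (hT : IsIrreducible (T : Set X)) (S₂ : Set (Closeds X)) (h2c : S₂.Countable)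
    (h : ∀ x ∈ T, IsClosed ({x} : Set X) → ∃ T' ∈ S₂, x ∈ T') : ∃ T' ∈ S₂, T ≤ T' := by
  by_contra hcon
  push Not at hcon
  rcases S₂.eq_empty_or_nonempty with he | hne
  · obtain ⟨x, hxT, hx, -⟩ := main' k X sX T hT (fun _ => ⊥) (fun n hle => by
      obtain ⟨x₀, hx₀⟩ := hT.nonempty
      exact hle hx₀)
    obtain ⟨T', hT', -⟩ := h x hxT hx
    rw [he] at hT'
    exact hT'
  · obtain ⟨f, hf⟩ := h2c.exists_eq_range hne
    obtain ⟨x, hxT, hx, hxW⟩ := main' k X sX T hT f
      (fun n => hcon (f n) (by rw [hf]; exact ⟨n, rfl⟩))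
    obtain ⟨T', hT', hxT'⟩ := h x hxT hx
    rw [hf] at hT'
    obtain ⟨n, rfl⟩ := hT'
    exact hxW n hxT'

open TopologicalSpace in
theorem sub_of (k : Type u) [Field k] [Uncountable k] (X : Scheme.{u})
    (sX : X ⟶ Spec (CommRingCat.of k)) [LocallyOfFiniteType sX]
    (S₁ S₂ : Set (Closeds X)) (h1c : S₁.Countable) (h2c : S₂.Countable)
    (h1i : ∀ T ∈ S₁, IsIrreducible (T : Set X)) (h2i : ∀ T ∈ S₂, IsIrreducible (T : Set X))
    (h1a : IsAntichain (· ≤ ·) S₁)
    (hpts : ∀ x : X, IsClosed ({x} : Set X) → ((∃ T ∈ S₁, x ∈ T) ↔ ∃ T ∈ S₂, x ∈ T)) :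
    S₁ ⊆ S₂ := by
  intro T hT
  obtain ⟨T', hT', hle⟩ := exists_ge k X sX T (h1i T hT) S₂ h2c
    (fun x hxT hx => (hpts x hx).mp ⟨T, hT, hxT⟩)
  obtain ⟨T'', hT'', hle'⟩ := exists_ge k X sX T' (h2i T' hT') S₁ h1c
    (fun x hxT hx => (hpts x hx).mpr ⟨T', hT', hxT⟩)
  have h1 : T = T'' := by
    by_contra hne
    exact h1a hT hT'' hne (hle.trans hle')
  have h2 : T = T' := le_antisymm hle (h1 ▸ hle')
  rw [h2]
  exact hT'

/-- Let k be an uncountable algebraically closed field, X a k-scheme of finite type and Z₀, Z₁, …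
countably many closed subsets of X. Then the countable union of the Zₙ, read through closed points,
has a unique irredundant decomposition: there is exactly one countable family S of irreducible
closed subsets of X, pairwise not contained in one another, such that a closed point of X lies in
some member of S if and only if it lies in some Zₙ. (The published statement is the existence and
uniqueness of the irredundant decomposition of a countable union of algebraic varieties into
c-components, a variety being read through its closed points; with all points of the scheme the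
uniqueness would not need the uncountable field.) -/
theorem result (k : Type u) [Field k] [IsAlgClosed k]
    [Uncountable k] (X : Scheme.{u}) (sX : X ⟶ Spec (CommRingCat.of k)) [LocallyOfFiniteType sX]
    [QuasiCompact sX] (Z : ℕ → TopologicalSpace.Closeds X) :
    ∃! S : Set (TopologicalSpace.Closeds X), S.Countable ∧ (∀ T ∈ S, IsIrreducible (T : Set X)) ∧
      IsAntichain (· ≤ ·) S ∧
      {x : X | IsClosed ({x} : Set X) ∧ ∃ T ∈ S, x ∈ T} =
        {x : X | IsClosed ({x} : Set X) ∧ ∃ n, x ∈ Z n} := by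
  classical
  haveI : IsLocallyNoetherian X := LocallyOfFiniteType.isLocallyNoetherian sX
  haveI : CompactSpace X := QuasiCompact.compactSpace_of_compactSpace sX
  haveI : IsNoetherian X := {}
  choose Sn hSnf hSni hSn using fun n =>
    TopologicalSpace.NoetherianSpace.exists_finite_set_closeds_irreducible (Z n)
  let C : Set (TopologicalSpace.Closeds X) := ⋃ n, Sn n
  have hCc : C.Countable := Set.countable_iUnion fun n => (hSnf n).countable
  have hCi : ∀ T ∈ C, IsIrreducible (T : Set X) := by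
    intro T hT
    obtain ⟨n, hn⟩ := Set.mem_iUnion.mp hT
    exact hSni n T hn
  let S : Set (TopologicalSpace.Closeds X) := {T | T ∈ C ∧ ∀ T' ∈ C, T ≤ T' → T' = T}
  have hunion : ∀ x : X, (∃ T ∈ S, x ∈ T) ↔ ∃ n, x ∈ Z n := by
    intro x
    constructor
    · rintro ⟨T, ⟨hTC, -⟩, hxT⟩
      obtain ⟨n, hn⟩ := Set.mem_iUnion.mp hTC
      refine ⟨n, ?_⟩
      rw [hSn n]
      exact (le_sSup hn) hxT
    · rintro ⟨n, hx⟩
      rw [hSn n] at hx
      have h2 : IsClosed (⋃₀ ((↑) '' Sn n : Set (Set X))) := by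
        rw [Set.sUnion_image]
        exact (hSnf n).isClosed_biUnion fun T _ => T.isClosed
      have h3 : x ∈ ⋃₀ ((↑) '' Sn n : Set (Set X)) := by
        have h1 : ((sSup (Sn n) : TopologicalSpace.Closeds X) : Set X) =
            closure (⋃₀ ((↑) '' Sn n)) := TopologicalSpace.Closeds.coe_sSup
        rw [h2.closure_eq] at h1
        rw [← h1]
        exact hx
      obtain ⟨_, ⟨T, hT, rfl⟩, hxT⟩ := h3
      obtain ⟨T', hT'C, hTT', hmax⟩ :=
        Groth.Agent.Lib.Helper8.UncountableAvoid.exists_max X C hCi T (Set.mem_iUnion.mpr ⟨n, hT⟩)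
      exact ⟨T', ⟨hT'C, hmax⟩, hTT' hxT⟩
  have hSc : S.Countable := hCc.mono (fun T hT => hT.1)
  have hSi : ∀ T ∈ S, IsIrreducible (T : Set X) := fun T hT => hCi T hT.1
  have hSa : IsAntichain (· ≤ ·) S := by
    intro T hT T' hT' hne hle
    exact hne (hT.2 T' hT'.1 hle).symm
  refine ⟨S, ⟨hSc, hSi, hSa, ?_⟩, ?_⟩
  · ext x
    simp only [Set.mem_ofPred_eq]
    rw [hunion x]
  · rintro S' ⟨hS'c, hS'i, hS'a, hS'eq⟩
    have hpts : ∀ x : X, IsClosed ({x} : Set X) →
        ((∃ T ∈ S', x ∈ T) ↔ ∃ T ∈ S, x ∈ T) := by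
      intro x hx
      rw [hunion x]
      have h1 := Set.ext_iff.mp hS'eq x
      simp only [Set.mem_ofPred_eq] at h1
      constructor
      · intro h
        exact (h1.mp ⟨hx, h⟩).2
      · intro h
        exact (h1.mpr ⟨hx, h⟩).2
    apply Set.Subset.antisymm
    · exact sub_of k X sX S' S hS'c hSc hS'i hSi hS'a hpts
    · exact sub_of k X sX S S' hSc hS'c hSi hS'i hSa (fun x hx => (hpts x hx).symm)

end Groth.Agent.S16917
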