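import Groth.Statements.S16919
import Mathlib


set_option autoImplicit false
universe u
open TensorProduct
open CAlg

namespace Groth.Agent.S16919

set_option linter.style.haveILetI false
open Cardinal

theorem exists_equiv_of_trdeg_eq (A : Type u) [CommRing A] [IsDomain A] (K L : Type u)
    [Field K] [Field L] [Algebra A K] [Algebra A L] [IsAlgClosed K] [IsAlgClosed L]
    [FaithfulSMul A K] [FaithfulSMul A L] (h : Algebra.trdeg A K = Algebra.trdeg A L) :
    ∃ e : K ≃+* L, ∀ a : A, e (algebraMap A K a) = algebraMap A L a := by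
  obtain ⟨s, hs⟩ := exists_isTranscendenceBasis A K
  obtain ⟨t, ht⟩ := exists_isTranscendenceBasis A L
  have hcard : #s = #t := by
    rw [hs.cardinalMk_eq_trdeg, ht.cardinalMk_eq_trdeg, h]
  obtain ⟨e0⟩ := Cardinal.eq.mp hcard
  letI := IsAlgClosed.isAlgClosure_of_transcendence_basis _ hs
  letI := IsAlgClosed.isAlgClosure_of_transcendence_basis _ ht
  let e' : Algebra.adjoin A (Set.range (Subtype.val : s → K)) ≃ₐ[A]
      Algebra.adjoin A (Set.range (Subtype.val : t → L)) :=
    hs.1.aevalEquiv.symm.trans ((MvPolynomial.renameEquiv A e0).trans ht.1.aevalEquiv)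
  refine ⟨IsAlgClosure.equivOfEquiv K L e'.toRingEquiv, fun a => ?_⟩
  rw [IsScalarTower.algebraMap_apply A (Algebra.adjoin A (Set.range (Subtype.val : s → K))) K,
    IsAlgClosure.equivOfEquiv_algebraMap]
  have : e'.toRingEquiv (algebraMap A _ a) = algebraMap A _ a := e'.commutes a
  rw [this, ← IsScalarTower.algebraMap_apply]

theorem aux (k₀ k : Type u)
    [Field k₀] [Field k] [Algebra k₀ k] [IsAlgClosed k] (hinf : ∃ x : ℕ → k, AlgebraicIndependent k₀ x)
    (R₀ : Type u) [CommRing R₀] [Algebra k₀ R₀] [Algebra.FiniteType k₀ R₀] [IsDomain (k ⊗[k₀] R₀)]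
    (ev : k ⊗[k₀] R₀ →ₐ[k] k) (hP : Function.Injective fun r : R₀ => ev (1 ⊗ₜ[k₀] r))
    (Ω : Type u) [Field Ω] [IsAlgClosed Ω] [Algebra (k ⊗[k₀] R₀) Ω] [FaithfulSMul (k ⊗[k₀] R₀) Ω]
    [Algebra.IsAlgebraic (k ⊗[k₀] R₀) Ω] :
    ∃ e : Ω ≃+* k, ∀ r : R₀, e (algebraMap (k ⊗[k₀] R₀) Ω (1 ⊗ₜ[k₀] r)) = ev (1 ⊗ₜ[k₀] r) := by
  classical
  let R := k ⊗[k₀] R₀
  let j : R₀ →ₐ[k₀] R := Algebra.TensorProduct.includeRight
  let φ : R₀ →+* k := ev.toRingHom.comp j.toRingHom
  have hφ : Function.Injective φ := hP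
  have hj : Function.Injective j := fun a b hab =>
    hφ (by simp only [φ, RingHom.comp_apply]; exact congrArg ev hab)
  haveI : IsDomain R₀ := hφ.isDomain φ
  have hRΩ : Function.Injective (algebraMap R Ω) := FaithfulSMul.algebraMap_injective R Ω
  letI algk : Algebra R₀ k := φ.toAlgebra
  letI algΩ : Algebra R₀ Ω := ((algebraMap R Ω).comp j.toRingHom).toAlgebra
  letI algkΩ : Algebra k Ω := ((algebraMap R Ω).comp (algebraMap k R)).toAlgebra
  letI algk₀Ω : Algebra k₀ Ω := ((algebraMap R Ω).comp (algebraMap k₀ R)).toAlgebra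
  haveI t0 : IsScalarTower k R Ω := IsScalarTower.of_algebraMap_eq (fun c => rfl)
  haveI t0' : IsScalarTower k₀ R Ω := IsScalarTower.of_algebraMap_eq (fun c => rfl)
  haveI t1 : IsScalarTower k₀ R₀ k := IsScalarTower.of_algebraMap_eq (fun c => by
    change algebraMap k₀ k c = ev (j (algebraMap k₀ R₀ c))
    rw [AlgHom.commutes, IsScalarTower.algebraMap_apply k₀ k R, AlgHom.commutes]
    rfl)
  haveI t2 : IsScalarTower k₀ R₀ Ω := IsScalarTower.of_algebraMap_eq (fun c => by
    change algebraMap R Ω (algebraMap k₀ R c) = algebraMap R Ω (j (algebraMap k₀ R₀ c))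
    rw [AlgHom.commutes])
  haveI t3 : IsScalarTower k₀ k Ω := IsScalarTower.of_algebraMap_eq (fun c => by
    change algebraMap R Ω (algebraMap k₀ R c) = algebraMap R Ω (algebraMap k R (algebraMap k₀ k c))
    rw [← IsScalarTower.algebraMap_apply k₀ k R])
  haveI fk : FaithfulSMul R₀ k := (faithfulSMul_iff_algebraMap_injective R₀ k).mpr hφ
  haveI fΩ : FaithfulSMul R₀ Ω := (faithfulSMul_iff_algebraMap_injective R₀ Ω).mpr (hRΩ.comp hj)
  haveI fkΩ : FaithfulSMul k Ω := (faithfulSMul_iff_algebraMap_injective k Ω).mpr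
    (algebraMap k Ω).injective
  have hκ : ℵ₀ ≤ Algebra.trdeg k₀ k := by
    obtain ⟨x, hx⟩ := hinf
    have := hx.lift_cardinalMk_le_trdeg
    simpa using this
  have ha : Algebra.trdeg k₀ R₀ < ℵ₀ := trdeg_lt_aleph0_of_finiteType
  have hb : Algebra.trdeg k R < ℵ₀ := trdeg_lt_aleph0_of_finiteType
  have h0 : Algebra.trdeg R Ω = 0 := trdeg_eq_zero
  have e1 : Algebra.trdeg k₀ R₀ + Algebra.trdeg R₀ k = Algebra.trdeg k₀ k :=
    trdeg_add_eq k₀ R₀ (A := k)
  have e2 : Algebra.trdeg k₀ k + Algebra.trdeg k Ω = Algebra.trdeg k₀ Ω :=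
    trdeg_add_eq k₀ k (A := Ω)
  have e3 : Algebra.trdeg k R + Algebra.trdeg R Ω = Algebra.trdeg k Ω :=
    trdeg_add_eq k R (A := Ω)
  have e4 : Algebra.trdeg k₀ R₀ + Algebra.trdeg R₀ Ω = Algebra.trdeg k₀ Ω :=
    trdeg_add_eq k₀ R₀ (A := Ω)
  have hx : Algebra.trdeg R₀ k = Algebra.trdeg k₀ k :=
    Cardinal.eq_of_add_eq_of_aleph0_le e1 (ha.trans_le hκ) hκ
  rw [h0, add_zero] at e3
  have hc : Algebra.trdeg k₀ Ω = Algebra.trdeg k₀ k := by
    rw [← e2, ← e3]
    exact Cardinal.add_eq_left hκ (le_of_lt (hb.trans_le hκ))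
  have hy : Algebra.trdeg R₀ Ω = Algebra.trdeg k₀ Ω :=
    Cardinal.eq_of_add_eq_of_aleph0_le e4 (ha.trans_le (hc ▸ hκ)) (hc ▸ hκ)
  obtain ⟨e, he⟩ := exists_equiv_of_trdeg_eq R₀ Ω k (by rw [hy, hc, hx])
  exact ⟨e, fun r => he r⟩

theorem main (k₀ k : Type u)
    [Field k₀] [Field k] [Algebra k₀ k] [IsAlgClosed k] (hinf : ∃ x : ℕ → k, AlgebraicIndependent k₀ x)
    (R₀ : Type u) [CommRing R₀] [Algebra k₀ R₀] [Algebra.FiniteType k₀ R₀] [IsDomain (k ⊗[k₀] R₀)]
    (ev : k ⊗[k₀] R₀ →ₐ[k] k) (hP : Function.Injective fun r : R₀ => ev (1 ⊗ₜ[k₀] r)) :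
    ∃ e : AlgebraicClosure (FractionRing (k ⊗[k₀] R₀)) ≃+* k,
      ∀ r : R₀, e (algebraMap (k ⊗[k₀] R₀) (AlgebraicClosure (FractionRing (k ⊗[k₀] R₀)))
        (1 ⊗ₜ[k₀] r)) = ev (1 ⊗ₜ[k₀] r) := by
  let R := k ⊗[k₀] R₀
  let F := FractionRing R
  let Lc := AlgebraicClosure F
  haveI : Algebra.IsAlgebraic R F := IsLocalization.isAlgebraic F (nonZeroDivisors R)
  haveI i6 : Algebra.IsAlgebraic R Lc := Algebra.IsAlgebraic.trans R F Lc
  have hRF : Function.Injective (algebraMap R F) := IsFractionRing.injective R F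
  have hRL : Function.Injective (algebraMap R Lc) := by
    rw [IsScalarTower.algebraMap_eq R F Lc]
    exact (algebraMap F Lc).injective.comp hRF
  haveI i5 : FaithfulSMul R Lc := (faithfulSMul_iff_algebraMap_injective R Lc).mpr hRL
  exact aux k₀ k hinf R₀ ev hP Lc



/-- Let k₀ → k be an extension of fields with k algebraically closed and of infinite transcendence
degree over k₀, R₀ a finitely generated k₀-algebra whose base change R = k ⊗ R₀ is an integral
domain (so Spec R is an integral affine k-scheme of finite type with the model Spec R₀ over k₀), and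
P a k-point of Spec R, i.e. a k-algebra homomorphism ev : R → k, lying over the generic point of
Spec R₀, i.e. with ev injective on R₀. Then there is a field isomorphism e from an algebraic closure
of the fraction field of R (the function field of Spec R) onto k such that e(1 ⊗ r) = ev(1 ⊗ r) for
every r in R₀: e extends evaluation at P on R₀. (The published setting has k algebraically closed of
characteristic zero and of infinite transcendence degree over its prime field, and k₀ the subfield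
generated by the coefficients of equations of Spec R, which is finitely generated over the prime
field, so that k has infinite transcendence degree over k₀; only this last property and no
characteristic assumption enter here. The isomorphism is not canonical.) -/
theorem result (k₀ k : Type u)
    [Field k₀] [Field k] [Algebra k₀ k] [IsAlgClosed k] (hinf : ∃ x : ℕ → k, AlgebraicIndependent k₀ x)
    (R₀ : Type u) [CommRing R₀] [Algebra k₀ R₀] [Algebra.FiniteType k₀ R₀] [IsDomain (k ⊗[k₀] R₀)]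
    (ev : k ⊗[k₀] R₀ →ₐ[k] k) (hP : Function.Injective fun r : R₀ => ev (1 ⊗ₜ[k₀] r)) :
    ∃ e : AlgebraicClosure (FractionRing (k ⊗[k₀] R₀)) ≃+* k,
      ∀ r : R₀, e (algebraMap (k ⊗[k₀] R₀) (AlgebraicClosure (FractionRing (k ⊗[k₀] R₀)))
        (1 ⊗ₜ[k₀] r)) = ev (1 ⊗ₜ[k₀] r) := by
  exact main k₀ k hinf R₀ ev hP

end Groth.Agent.S16919
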