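import Groth.Statements.S1692
import Mathlib

set_option autoImplicit false
universe u
open CategoryTheory CategoryTheory.Limits AlgebraicGeometry TopologicalSpace
open SDiv

namespace Groth.Agent.S1692

open AlgebraicGeometry TopologicalSpace Order

/-- In an integral scheme, the points of coheight one in the complement of a nonempty open subset
which lie in a Noetherian open subset are finite in number: they are generic points of the
irreducible components of the complement. -/
theorem finite_coheight_one {X : Scheme.{u}} [IsIntegral X] (W U : X.Opens) [Nonempty W]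
    [hN : NoetherianSpace U] :
    {ξ : X | coheight ξ = 1 ∧ ξ ∉ W ∧ ξ ∈ U}.Finite := by
  classical
  have hN' : NoetherianSpace {x // x ∈ U} := hN
  have : QuasiSober {x // x ∈ U} := U.isOpen.isOpenEmbedding_subtypeVal.quasiSober
  have hZ : IsClosed {z : {x // x ∈ U} | z.1 ∉ W} :=
    (W.isOpen.preimage continuous_subtype_val).isClosed_compl
  obtain ⟨S, hSf, hSc, hSi, hSU⟩ := NoetherianSpace.exists_finite_set_isClosed_irreducible hZ
  have hgen : genericPoint X ∈ W :=
    ((genericPoint_spec X).mem_open_set_iff W.isOpen).mpr (by simpa using ‹Nonempty W›)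
  -- generic points of members of S
  let η : Set {x // x ∈ U} → X := fun t =>
    if h : IsIrreducible t ∧ IsClosed t then ((h.1.genericPoint : {x // x ∈ U}) : X) else genericPoint X
  refine (hSf.image η).subset ?_
  rintro ξ ⟨h1, hξW, hξU⟩
  have hξZ : (⟨ξ, hξU⟩ : {x // x ∈ U}) ∈ {z : {x // x ∈ U} | z.1 ∉ W} := hξW
  rw [hSU] at hξZ
  obtain ⟨t, htS, hξt⟩ := hξZ
  refine ⟨t, htS, ?_⟩
  have ht : IsIrreducible t ∧ IsClosed t := ⟨hSi t htS, hSc t htS⟩
  have hη : η t = ((ht.1.genericPoint : {x // x ∈ U}) : X) := dif_pos ht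
  set y : {x // x ∈ U} := ht.1.genericPoint with hy
  have hyt : IsGenericPoint y t := ht.1.isGenericPoint_genericPoint ht.2
  -- y specializes to ξ
  have hspec : (y : X) ⤳ ξ := by
    have h2 : y ⤳ (⟨ξ, hξU⟩ : {x // x ∈ U}) := by
      rw [specializes_iff_mem_closure, hyt.def]
      exact hξt
    exact h2.map continuous_subtype_val
  -- y is not in W
  have hyW : (y : X) ∉ W := by
    have : y ∈ t := hyt.mem
    have h3 : y ∈ {z : {x // x ∈ U} | z.1 ∉ W} := by
      rw [hSU]
      exact ⟨t, htS, this⟩
    exact h3
  rw [hη]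
  by_contra hne
  -- ξ < y < ⊤
  have hlt1 : ξ < (y : X) := by
    refine lt_of_le_not_ge hspec ?_
    intro h4
    exact hne (Specializes.antisymm h4 hspec).eq.symm
  have hlt2 : (y : X) < (⊤ : X) := by
    refine lt_of_le_not_ge le_top ?_
    intro h4
    have h5 : (⊤ : X) = (y : X) := (Specializes.antisymm (genericPoint_specializes _) h4).eq
    apply hyW
    rw [← h5]
    exact hgen
  have c1 := coheight_add_one_le hlt1
  have c2 := coheight_add_one_le hlt2
  rw [h1] at c1
  have : coheight (y : X) = 0 := by
    have : coheight (y : X) + 1 ≤ 0 + 1 := by simpa using c1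
    exact le_antisymm ((ENat.add_le_add_iff_right (by simp)).mp this) zero_le
  rw [this] at c2
  simp at c2


/-- Let X be a locally Noetherian integral scheme and f a nonzero rational function. Then the closures
of the codimension-one points at which f has nonzero order of vanishing form a locally finite family
of closed subsets of X. -/
theorem result (X : Scheme.{u}) [IsIntegral X] [IsLocallyNoetherian X] (f : ↑X.functionField) (hf : f ≠ 0) :
    LocallyFinite (fun ξ : {ξ : ↥X // Order.coheight ξ = 1 ∧ Scheme.ord f ξ ≠ 0} => closure ({ξ.1} : Set ↥X)) := by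
  classical
  obtain ⟨W, -, f', hWne, hfW, hfu⟩ := exists_isUnit_germ_eq X f hf
  intro x
  obtain ⟨_, ⟨U, hU, rfl⟩, hxU, -⟩ :=
    X.isBasis_affineOpens.exists_subset_of_mem_open (Set.mem_univ x) isOpen_univ
  haveI : IsNoetherianRing Γ(X, U) := IsLocallyNoetherian.component_noetherian ⟨U, hU⟩
  haveI : NoetherianSpace U := noetherianSpace_of_isAffineOpen U hU
  refine ⟨U, U.isOpen.mem_nhds hxU, ?_⟩
  have key := finite_coheight_one W U
  refine (key.preimage Subtype.val_injective.injOn).subset ?_
  rintro ⟨ξ, h1, h2⟩ ⟨y, hy, hyU⟩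
  refine ⟨h1, ?_, ?_⟩
  · intro hξW
    apply h2
    rw [← hfW]
    exact Scheme.ord_of_isUnit hfu hξW
  · have : ξ ⤳ y := specializes_iff_mem_closure.mpr hy
    exact this.mem_open U.isOpen hyU

end Groth.Agent.S1692
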