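import Groth.Statements.S1693
import Mathlib
-- import your own Groth.Agent.* helpers here

set_option autoImplicit false
universe u
open CategoryTheory CategoryTheory.Limits AlgebraicGeometry TopologicalSpace
open SDiv

namespace Groth.Agent.S1693

section helpers
theorem topo {X : Type u} [TopologicalSpace X] (Z : Set X) (U : Set X) (hU : IsOpen U)
    [NoetherianSpace U] :
    {T : ↥(irreducibleComponents ↥Z) | (((↑) '' (T.1 : Set ↥Z) : Set X) ∩ U).Nonempty}.Finite := by
  let V : Set ↥Z := Subtype.val ⁻¹' U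
  have hV : IsOpen V := hU.preimage continuous_subtype_val
  have hf : Topology.IsOpenEmbedding (Subtype.val : V → ↥Z) := hV.isOpenEmbedding_subtypeVal
  -- V is Noetherian
  let g : V → U := fun y => ⟨y.1.1, y.2⟩
  have hg : Topology.IsInducing g := by
    have hcomp : Topology.IsInducing ((Subtype.val : U → X) ∘ g) := by
      have : (Subtype.val : U → X) ∘ g = (Subtype.val : ↥Z → X) ∘ (Subtype.val : V → ↥Z) := rfl
      rw [this]
      exact Topology.IsInducing.subtypeVal.comp Topology.IsInducing.subtypeVal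
    refine Topology.IsInducing.of_comp ?_ continuous_subtype_val hcomp
    exact (continuous_subtype_val.comp continuous_subtype_val).subtype_mk _
  have : NoetherianSpace V := hg.noetherianSpace
  have hfin : (irreducibleComponents V).Finite := NoetherianSpace.finite_irreducibleComponents
  have hfin' : Finite ↥(irreducibleComponents V) := hfin
  -- the map
  have hmeet : ∀ T : ↥(irreducibleComponents ↥Z),
      (((↑) '' (T.1 : Set ↥Z) : Set X) ∩ U).Nonempty →
      ((T.1 : Set ↥Z) ∩ Set.range (Subtype.val : V → ↥Z)).Nonempty := by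
    rintro T ⟨_, ⟨z, hzT, rfl⟩, hzU⟩
    exact ⟨z, hzT, ⟨⟨z, hzU⟩, rfl⟩⟩
  let S := {T : ↥(irreducibleComponents ↥Z) | (((↑) '' (T.1 : Set ↥Z) : Set X) ∩ U).Nonempty}
  let Φ : S → ↥(irreducibleComponents V) := fun T =>
    ⟨(Subtype.val : V → ↥Z) ⁻¹' T.1.1, preimage_mem_irreducibleComponents T.1.2 hf (hmeet T.1 T.2)⟩
  have hΦ : Function.Injective Φ := by
    intro T T' h
    have h' : (Subtype.val : V → ↥Z) ⁻¹' T.1.1 = (Subtype.val : V → ↥Z) ⁻¹' T'.1.1 :=
      congrArg Subtype.val h
    have key : ∀ T : S, closure ((Subtype.val : V → ↥Z) '' ((Subtype.val : V → ↥Z) ⁻¹' T.1.1)) =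
        T.1.1 := by
      intro T
      apply closure_image_preimage_of_isPreirreducible _ hf.isOpenMap
      · obtain ⟨z, hzT, ⟨y, rfl⟩⟩ := hmeet T.1 T.2
        exact ⟨y, hzT⟩
      · exact T.1.2.1.2
      · exact isClosed_of_mem_irreducibleComponents _ T.1.2
    apply Subtype.ext; apply Subtype.ext
    rw [← key T, ← key T', h']
  have : Finite S := Finite.of_injective Φ hΦ
  exact Set.toFinite S

theorem main (X : Scheme.{u}) [IsLocallyNoetherian X] (Z : Set ↥X) :
    LocallyFinite (fun T : ↥(irreducibleComponents ↥Z) => ((↑) '' (T.1 : Set ↥Z) : Set ↥X)) := by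
  intro x
  obtain ⟨_, ⟨U, hU, rfl⟩, hxU, -⟩ := X.isBasis_affineOpens.exists_subset_of_mem_open
    (Set.mem_univ x) isOpen_univ
  have : IsNoetherianRing Γ(X, U) := IsLocallyNoetherian.component_noetherian ⟨U, hU⟩
  have hN : NoetherianSpace U := noetherianSpace_of_isAffineOpen U hU
  have hN' : NoetherianSpace ((U : Set X) : Set X) := hN
  exact ⟨U, U.isOpen.mem_nhds hxU, @topo _ _ Z (U : Set X) U.isOpen hN'⟩
end helpers

/-- Let X be a locally Noetherian scheme and Z a closed subset. Then the irreducible components of Z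
form a locally finite family of subsets of X. -/
theorem result (X : Scheme.{u}) [IsLocallyNoetherian X] (Z : Set ↥X) (hZ : IsClosed Z) :
    LocallyFinite (fun T : ↥(irreducibleComponents ↥Z) => ((↑) '' (T.1 : Set ↥Z) : Set ↥X)) := by
  exact main X Z

end Groth.Agent.S1693
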