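import Groth.Statements.S1695
import Groth.Agent.Lib.Helper16.ReesBlowup2
import Groth.Agent.Lib.Helper16.ReesBlowup3
import Groth.Agent.S17083

set_option autoImplicit false
universe u
open CategoryTheory CategoryTheory.Limits AlgebraicGeometry TopologicalSpace
open SDiv

namespace Groth.Agent.S1695


open Groth.Agent.Lib.helper16.ReesBlowup

theorem result' (A : Type u) [CommRing A] (I : Ideal A) {X' : Scheme.{u}}
    (b : X' ⟶ Spec (CommRingCat.of A)) (hb : BlowUp.IsBlowUp b (idl I)) (x' : ↥X') :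
    ∃ (a : A) (_ : a ∈ I) (V : X'.Opens) (e : (V : Scheme.{u}) ≅ Spec (CommRingCat.of ↥(BlowUp.affineAlgebra A I a))),
      x' ∈ V ∧ e.hom ≫ Spec.map (CommRingCat.ofHom (algebraMap A ↥(BlowUp.affineAlgebra A I a))) = V.ι ≫ b := by
  obtain ⟨φ, hφ, -⟩ := (isBlowUp_bl (I := I)).2 X' b hb.1
  have : IsIso φ := Groth.Agent.S17083.isIso_of_isBlowUp _ _ _ hb isBlowUp_bl φ hφ
  have hx : φ x' ∈ ⨆ i : I, chart I i.1 i.2 := by rw [iSup_chart]; trivial
  obtain ⟨⟨a, ha⟩, hxa⟩ := Opens.mem_iSup.mp hx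
  refine ⟨a, ha, φ ⁻¹ᵁ chart I a ha, ?_, hxa, ?_⟩
  · exact asIso (φ ∣_ chart I a ha) ≪≫
      Proj.basicOpenIsoSpec (Rees.deg (reesAlgebra I)) (F I a ha) (F_mem I a ha) Nat.one_pos ≪≫
      Scheme.Spec.mapIso (chartEquiv I a ha).symm.toCommRingCatIso.op
  · simp only [Iso.trans_hom, asIso_hom, Functor.mapIso_hom, Iso.op_hom, Scheme.Spec_map,
      Quiver.Hom.unop_op, Category.assoc]
    have h2 : CommRingCat.ofHom (algebraMap A ↥(BlowUp.affineAlgebra A I a)) ≫
        (chartEquiv I a ha).symm.toCommRingCatIso.hom = CommRingCat.ofHom (toAway I a ha) := by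
      apply CommRingCat.hom_ext
      apply RingHom.ext
      intro c
      exact chartEquiv_symm_algebraMap I a ha c
    rw [← Spec.map_comp, h2, basicOpenIsoSpec_hom_SpecMap_toAway, morphismRestrict_ι_assoc, hφ]



/-- Let A be a ring, I an ideal, and b : X' ⟶ Spec A a blowing-up of Spec A along the ideal sheaf of I.
Then every point of X' has an open neighbourhood which is isomorphic, over Spec A, to the spectrum
of an affine blow-up algebra A[I/a] for some a ∈ I. -/
theorem result (A : Type u) [CommRing A] (I : Ideal A) {X' : Scheme.{u}}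
    (b : X' ⟶ Spec (CommRingCat.of A)) (hb : BlowUp.IsBlowUp b (Scheme.IdealSheafData.ofIdealTop (I.map (Scheme.ΓSpecIso (CommRingCat.of A)).inv.hom))) (x' : ↥X') :
    ∃ (a : A) (_ : a ∈ I) (V : X'.Opens) (e : (V : Scheme.{u}) ≅ Spec (CommRingCat.of ↥(BlowUp.affineAlgebra A I a))),
      x' ∈ V ∧ e.hom ≫ Spec.map (CommRingCat.ofHom (algebraMap A ↥(BlowUp.affineAlgebra A I a))) = V.ι ≫ b := by
  exact Groth.Agent.S1695.result' A I b hb x'

end Groth.Agent.S1695
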