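import Groth.Statements.S16950
import Groth.Agent.Lib.Helper8.GenBCChart2

set_option autoImplicit false
universe u
open Coherent

namespace Groth.Agent.S16950

open AlgebraicGeometry CategoryTheory Scheme.Modules in
/-- For a single module in place of the complex, let S be a scheme, a : X → S and b : Y → S schemes over
S, f : X → Y a separated quasi-compact morphism with f ≫ b = a, and F a quasi-coherent O_X-module,
flat over S (via a), such that every higher direct image R^n f_* F (the n-th right derived functor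
of direct image on O-modules) is flat over S (via b). For any morphism g : S' → S form the cartesian
squares Y' = Y ×_S S' (projections g_Y : Y' → Y, b' : Y' → S') and X' = X ×_Y Y' (projections g_X :
X' → X, f' : X' → Y'). Then for every n the degree-n base change map g_Y^* R^n f_* F → R^n f'_*
(g_X^* F) is an isomorphism; the map is the pinned one of the structure GenBC, relative to pinned
comparison data for f and f'. -/
theorem result
    {X Y S X' Y' S' : Scheme.{u}} (a : X ⟶ S) (b : Y ⟶ S) (f : X ⟶ Y) (hf : f ≫ b = a)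
    [IsSeparated f] [QuasiCompact f]
    (g : S' ⟶ S) (gY : Y' ⟶ Y) (b' : Y' ⟶ S') (hY : IsPullback gY b' b g)
    (gX : X' ⟶ X) (f' : X' ⟶ Y') (hX : IsPullback gX f' f gY)
    [HasInjectiveResolutions X.Modules] [HasInjectiveResolutions X'.Modules]
    (F : X.Modules) [Coh.IsQCoh F] (hF : FlatMod.IsFlatOver a F)
    (hR : ∀ n : ℕ, FlatMod.IsFlatOver b ((Coh.Rpush f n).obj F))
    {Δ : RDer.DerivedLES (pushforward f)} {Δ' : RDer.DerivedLES (pushforward f')}
    (E : CohCmp.SectCmp f Δ) (E' : CohCmp.SectCmp f' Δ') (B : CohCmp.GenBC f gY f' gX hX.w E E') (n : ℕ) :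
    IsIso (B.bc n F) := by
  subst hf
  haveI : Coh.IsQCoh ((Coh.Rpush f n).obj F) := Groth.Agent.S0030.result f F n
  haveI : IsSeparated f' := MorphismProperty.of_isPullback (P := @IsSeparated) hX inferInstance
  haveI : QuasiCompact f' := MorphismProperty.of_isPullback (P := @QuasiCompact) hX inferInstance
  haveI : Coh.IsQCoh ((Scheme.Modules.pullback gX).obj F) :=
    Groth.Agent.Lib.helper16.QCohPullback.isQuasicoherent_pullback gX F
  haveI : Coh.IsQCoh ((Coh.Rpush f' n).obj ((Scheme.Modules.pullback gX).obj F)) :=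
    Groth.Agent.S0030.result f' _ n
  show IsIso (((pullbackPushforwardAdjunction gY).homEquiv _ _).symm (B.φ n F))
  refine Groth.Agent.Lib.helper8.PullbackUnit.isIso_homEquiv_symm_of_isBC gY (B.φ n F)
    {V' : Y'.Opens | IsAffineOpen V' ∧ ∃ (W : S.Opens) (V : Y.Opens) (W' : S'.Opens),
      IsAffineOpen W ∧ IsAffineOpen V ∧ V ≤ b ⁻¹ᵁ W ∧ IsAffineOpen W' ∧ W' ≤ g ⁻¹ᵁ W ∧
      V' ≤ gY ⁻¹ᵁ V ⊓ b' ⁻¹ᵁ W'} ?_ ?_
  · rw [TopologicalSpace.Opens.isBasis_iff_nbhd]
    intro O y' hy'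
    obtain ⟨W, hW, hyW, -⟩ := TopologicalSpace.Opens.isBasis_iff_nbhd.mp S.isBasis_affineOpens
      (show b (gY y') ∈ (⊤ : S.Opens) from trivial)
    obtain ⟨V, hV, hyV, hVW⟩ := TopologicalSpace.Opens.isBasis_iff_nbhd.mp Y.isBasis_affineOpens
      (show gY y' ∈ b ⁻¹ᵁ W from hyW)
    have hy'W : b' y' ∈ g ⁻¹ᵁ W := by
      show g (b' y') ∈ W
      have : g (b' y') = b (gY y') := by
        rw [← Scheme.Hom.comp_apply, ← Scheme.Hom.comp_apply, hY.w]
      rw [this]
      exact hyW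
    obtain ⟨W', hW', hyW', hW'W⟩ :=
      TopologicalSpace.Opens.isBasis_iff_nbhd.mp S'.isBasis_affineOpens hy'W
    obtain ⟨V', hV', hyV', hV'le⟩ :=
      TopologicalSpace.Opens.isBasis_iff_nbhd.mp Y'.isBasis_affineOpens
        (show y' ∈ (gY ⁻¹ᵁ V ⊓ b' ⁻¹ᵁ W') ⊓ O from ⟨⟨hyV, hyW'⟩, hy'⟩)
    exact ⟨V', ⟨hV', W, V, W', hW, hV, hVW, hW', hW'W, hV'le.trans inf_le_left⟩, hyV',
      hV'le.trans inf_le_right⟩
  · rintro V' ⟨hV', W, V, W', hW, hV, hVW, hW', hW'W, hV'P⟩
    refine ⟨hV', V, hV, hV'P.trans inf_le_left, ?_⟩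
    have hP : IsAffineOpen (gY ⁻¹ᵁ V ⊓ b' ⁻¹ᵁ W') :=
      Groth.Agent.Lib.helper8.GenBCChart.isAffineOpen_inf_preimage hY hW'W hVW hW hW' hV
    have chart := Groth.Agent.Lib.helper8.GenBCChart.isBC_chart b f g gY b' hY gX f' hX F hF hR
      E E' B n hW hV hVW hW' hW'W
    have res := Groth.Agent.H1.ResBC.isBC_res
      ((Coh.Rpush f' n).obj ((Scheme.Modules.pullback gX).obj F)) hP hV' hV'P
    have comp := chart.comp res
    have h1 : (Y'.presheaf.map (homOfLE hV'P).op).hom.comp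
        (gY.appLE V (gY ⁻¹ᵁ V ⊓ b' ⁻¹ᵁ W') inf_le_left).hom =
        (gY.appLE V V' (hV'P.trans inf_le_left)).hom :=
      congrArg CommRingCat.Hom.hom
        (Scheme.Hom.appLE_map gY (inf_le_left : gY ⁻¹ᵁ V ⊓ b' ⁻¹ᵁ W' ≤ gY ⁻¹ᵁ V)
          (homOfLE hV'P).op)
    have h2 : (Groth.Agent.H1.ResBC.res
        ((Coh.Rpush f' n).obj ((Scheme.Modules.pullback gX).obj F)) hV'P).comp
        (Groth.Agent.Lib.helper8.PullbackUnit.ρv gY
          (inf_le_left : gY ⁻¹ᵁ V ⊓ b' ⁻¹ᵁ W' ≤ gY ⁻¹ᵁ V) (B.φ n F)) =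
        Groth.Agent.Lib.helper8.PullbackUnit.ρv gY (hV'P.trans inf_le_left) (B.φ n F) := by
      ext a
      show ((Coh.Rpush f' n).obj ((Scheme.Modules.pullback gX).obj F)).presheaf.map _
        (((Coh.Rpush f' n).obj ((Scheme.Modules.pullback gX).obj F)).presheaf.map _ _) = _
      rw [← ConcreteCategory.comp_apply, ← Functor.map_comp]
      rfl
    rw [h1, h2] at comp
    exact comp

end Groth.Agent.S16950
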