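import Groth.Statements.S16951
import Groth.Agent.Lib.Helper7.SeesawCrit
import Groth.Agent.Lib.Helper7.SteinU2
import Groth.Agent.Lib.Helper11.AmpleAffine
import Groth.Agent.Lib.Helper12.InvDual2
import Groth.Agent.Lib.Helper18.NilThickScheme
import Groth.Agent.Lib.Helper21.Seesaw

set_option autoImplicit false
universe u
open PicF

namespace Groth.Agent.S16951

open AlgebraicGeometry CategoryTheory Scheme.Modules in
/-- Let f : X → S be a proper flat morphism of locally Noetherian schemes whose fibres are geometrically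
integral, and let L be an invertible O_X-module with an inverse M (an isomorphism L ⊗ M ≅ O_X). Then
the following are equivalent: (a) L ≅ f^* L₀ for some invertible O_S-module L₀; (b) for N = L and
for N = M, at every point s of S the space H^0(X_s, N|_{X_s}) of sections over the scheme-theoretic
fibre is nonzero and the degree-0 base change map of the fibre square, κ(s)^* f_* N → (X_s → Spec
κ(s))_* (N|_{X_s}), is an epimorphism. When this holds, dim_{κ(s)} H^0(X_s, N|_{X_s}) = 1 for every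
s and both N, the counit f^* f_* L → L is an isomorphism, and any invertible L₀ with L ≅ f^* L₀ is
isomorphic to f_* L. -/
theorem result
    {X S : Scheme.{u}} (f : X ⟶ S) [IsProper f] [Flat f] [IsLocallyNoetherian X] [IsLocallyNoetherian S]
    [GeometricallyIntegral f] (L M : X.Modules) (hL : PicF.IsInvertible L)
    (hM : Nonempty (CohB1.tensorMod L M ≅ Coh.structureModule X)) :
    ((∃ L₀ : S.Modules, PicF.IsInvertible L₀ ∧ Nonempty (L ≅ (pullback f).obj L₀)) ↔
      ((∀ s : S, Nontrivial (CohIII.fiberH f L s 0)) ∧ (∀ s : S, Nontrivial (CohIII.fiberH f M s 0)) ∧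
        (∀ s : S, Epi (CohBC.bc0 f (S.fromSpecResidueField s) (f.fiberToSpecResidueField s) (f.fiberι s) (f.fiber_fac s) L)) ∧ (∀ s : S, Epi (CohBC.bc0 f (S.fromSpecResidueField s) (f.fiberToSpecResidueField s) (f.fiberι s) (f.fiber_fac s) M)))) ∧
    (((∀ s : S, Nontrivial (CohIII.fiberH f L s 0)) ∧ (∀ s : S, Nontrivial (CohIII.fiberH f M s 0)) ∧
        (∀ s : S, Epi (CohBC.bc0 f (S.fromSpecResidueField s) (f.fiberToSpecResidueField s) (f.fiberι s) (f.fiber_fac s) L)) ∧ (∀ s : S, Epi (CohBC.bc0 f (S.fromSpecResidueField s) (f.fiberToSpecResidueField s) (f.fiberι s) (f.fiber_fac s) M))) →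
      (∀ s : S, CohIII.fiberRank f L 0 s = 1 ∧ CohIII.fiberRank f M 0 s = 1) ∧
      IsIso ((pullbackPushforwardAdjunction f).counit.app L) ∧
      ∀ L₀ : S.Modules, PicF.IsInvertible L₀ → Nonempty (L ≅ (pullback f).obj L₀) →
        Nonempty (L₀ ≅ (pushforward f).obj L)) := by
  classical
  haveI : LocallyOfFinitePresentation f :=
    Groth.Agent.Lib.Helper18.NilThick.locallyOfFinitePresentation_of_isLocallyNoetherian f
  haveI : GeometricallyConnected f :=
    Groth.Agent.Lib.helper21.Seesaw.geometricallyConnected_of_geometricallyIntegral f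
  have hO : ∀ (T : Scheme.{u}) (g : T ⟶ S) (U : T.Opens),
      IsIso ((Limits.pullback.snd f g).app U) := by
    intro T g U
    haveI : GeometricallyConnected (Limits.pullback.snd f g) :=
      MorphismProperty.of_isPullback (P := @GeometricallyConnected)
        (IsPullback.of_hasPullback f g) inferInstance
    haveI : GeometricallyReduced (Limits.pullback.snd f g) :=
      MorphismProperty.of_isPullback (P := @GeometricallyReduced)
        (IsPullback.of_hasPullback f g) inferInstance
    exact Groth.Agent.Lib.helper7.SteinU.isIso_app (Limits.pullback.snd f g) U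
  obtain ⟨eLM⟩ := hM
  have hMinv : PicF.IsInvertible M :=
    Groth.Agent.Lib.helper11.AmpleAffine.isInvertible_of_isInverseOf hL ⟨eLM⟩
  have eML : CohB1.tensorMod M L ≅ Coh.structureModule X :=
    Groth.Agent.Lib.Lead.ModTensor.braid M L ≪≫ eLM
  have hL1 : FlatMod.IsFinLocFreeOfRank 1 L :=
    (Groth.Agent.Lib.helper16.FLF.isInvertible_iff_isFinLocFreeOfRank_one L).mp hL
  have hLflf := Groth.Agent.Lib.helper16.FLF.isFinLocFree_of_isInvertible hL
  have hMflf := Groth.Agent.Lib.helper16.FLF.isFinLocFree_of_isInvertible hMinv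
  haveI := Groth.Agent.Lib.helper16.FLF.isQuasicoherent_of_isFinLocFree _ hLflf
  haveI := Groth.Agent.Lib.helper16.FLF.isQuasicoherent_of_isFinLocFree _ hMflf
  have hLc := Groth.Agent.Lib.helper16.FLF.isFinitePresentation_of_isFinLocFree _ hLflf
  have hMc := Groth.Agent.Lib.helper16.FLF.isFinitePresentation_of_isFinLocFree _ hMflf
  have hLfl := Groth.Agent.Lib.helper21.InvFibre.isFlatOver_of_isFinLocFree f L hLflf
  have hMfl := Groth.Agent.Lib.helper21.InvFibre.isFlatOver_of_isFinLocFree f M hMflf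
  -- triviality on a fibre in terms of sections
  have htrivL : ∀ s : S, Nonempty (CohIII.fiberMod f L s ≅ Coh.structureModule (f.fiber s)) ↔
      Nontrivial (CohIII.fiberH f L s 0) ∧ Nontrivial (CohIII.fiberH f M s 0) := by
    intro s
    rw [Groth.Agent.Lib.helper7.NNPicClosed.fiber_trivial_iff f L M hL hMinv eML s,
      Groth.Agent.Lib.helper7.NNFibreH0.fiberRank_pos_iff f L hLc hLfl s 0,
      Groth.Agent.Lib.helper7.NNFibreH0.fiberRank_pos_iff f M hMc hMfl s 0]
  have htrivM : ∀ s : S, Nonempty (CohIII.fiberMod f M s ≅ Coh.structureModule (f.fiber s)) ↔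
      Nontrivial (CohIII.fiberH f M s 0) ∧ Nontrivial (CohIII.fiberH f L s 0) := by
    intro s
    rw [Groth.Agent.Lib.helper7.NNPicClosed.fiber_trivial_iff f M L hMinv hL eLM s,
      Groth.Agent.Lib.helper7.NNFibreH0.fiberRank_pos_iff f L hLc hLfl s 0,
      Groth.Agent.Lib.helper7.NNFibreH0.fiberRank_pos_iff f M hMc hMfl s 0]
  -- the condition implies everything
  have key : ((∀ s : S, Nontrivial (CohIII.fiberH f L s 0)) ∧ (∀ s : S, Nontrivial (CohIII.fiberH f M s 0)) ∧
        (∀ s : S, Epi (CohBC.bc0 f (S.fromSpecResidueField s) (f.fiberToSpecResidueField s) (f.fiberι s) (f.fiber_fac s) L)) ∧ (∀ s : S, Epi (CohBC.bc0 f (S.fromSpecResidueField s) (f.fiberToSpecResidueField s) (f.fiberι s) (f.fiber_fac s) M))) →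
      (∀ s : S, CohIII.fiberRank f L 0 s = 1 ∧ CohIII.fiberRank f M 0 s = 1) ∧
      Groth.Agent.Lib.Helper18.Strat.UnivFLF f L 1 ∧
      IsIso ((pullbackPushforwardAdjunction f).counit.app L) := by
    rintro ⟨h1, h2, h3, -⟩
    have tL : ∀ s : S, Nonempty (CohIII.fiberMod f L s ≅ Coh.structureModule (f.fiber s)) :=
      fun s => (htrivL s).mpr ⟨h1 s, h2 s⟩
    have tM : ∀ s : S, Nonempty (CohIII.fiberMod f M s ≅ Coh.structureModule (f.fiber s)) :=
      fun s => (htrivM s).mpr ⟨h2 s, h1 s⟩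
    have rL : ∀ s : S, CohIII.fiberRank f L 0 s = 1 := fun s =>
      Groth.Agent.Lib.helper7.SeesawCrit.fiberRank_eq_one f hO L s (tL s).some
    have rM : ∀ s : S, CohIII.fiberRank f M 0 s = 1 := fun s =>
      Groth.Agent.Lib.helper7.SeesawCrit.fiberRank_eq_one f hO M s (tM s).some
    have hU := Groth.Agent.Lib.helper7.UnivEpi.univFLF_of_epi f L hLc hLfl 1 h3 rL
    exact ⟨fun s => ⟨rL s, rM s⟩, hU,
      Groth.Agent.Lib.helper7.SeesawCrit.isIso_counit f hO L hL1 hU tL⟩
  have huniq : ∀ L₀ : S.Modules, PicF.IsInvertible L₀ → Nonempty (L ≅ (pullback f).obj L₀) →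
      Nonempty (L₀ ≅ (pushforward f).obj L) := by
    rintro L₀ hL₀ ⟨e⟩
    exact ⟨Groth.Agent.Lib.helper7.DescBC.pushIso f
      (Groth.Agent.Lib.helper7.SeesawCrit.isIso_app f hO) L₀
      (Groth.Agent.Lib.helper16.FLF.isFinLocFree_of_isInvertible hL₀) L e.symm⟩
  refine ⟨⟨?_, ?_⟩, ?_⟩
  · rintro ⟨L₀, hL₀, ⟨e⟩⟩
    have hL₀flf := Groth.Agent.Lib.helper16.FLF.isFinLocFree_of_isInvertible hL₀
    obtain ⟨M₀, hM₀, hinv₀, -⟩ := Groth.Agent.Lib.helper12.InvDual.exists_inverse hL₀
    have hM₀flf := Groth.Agent.Lib.helper16.FLF.isFinLocFree_of_isInvertible hM₀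
    have hinvp : ClSub.IsInverseOf ((pullback f).obj L₀) ((pullback f).obj M₀) :=
      ⟨(Groth.Agent.Lib.helper12.PullTensor.pullTensorIso f L₀ M₀ hM₀).symm ≪≫
        (pullback f).mapIso hinv₀.some ≪≫ Groth.Agent.Lib.helper11.InvMod.pullbackUnitIso f⟩
    have hinvL : ClSub.IsInverseOf L ((pullback f).obj M₀) :=
      Groth.Agent.Lib.Lead.ModTensor.isInverseOf_of_iso e.symm (Iso.refl _) hinvp
    obtain ⟨eM⟩ := Groth.Agent.Lib.Lead.ModTensor.isInverseOf_unique ⟨eLM⟩ hinvL
    have tL : ∀ s : S, Nonempty (CohIII.fiberMod f L s ≅ Coh.structureModule (f.fiber s)) := by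
      intro s
      obtain ⟨e0⟩ := Groth.Agent.Lib.helper21.PicFibre.nonempty_fiberMod_pullback_iso f L₀ hL₀ s
      exact ⟨(pullback (f.fiberι s)).mapIso e ≪≫ e0⟩
    refine ⟨fun s => ((htrivL s).mp (tL s)).1, fun s => ((htrivL s).mp (tL s)).2,
      fun s => ?_, fun s => ?_⟩
    · haveI := Groth.Agent.Lib.helper7.DescBC.isIso_bc0_of_iso f (S.fromSpecResidueField s)
        (f.fiberToSpecResidueField s) (f.fiberι s) (f.fiber_fac s)
        (Groth.Agent.Lib.helper7.SeesawCrit.isIso_app f hO)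
        (fun W => hO _ (S.fromSpecResidueField s) W) L₀ hL₀flf L e.symm
      infer_instance
    · haveI := Groth.Agent.Lib.helper7.DescBC.isIso_bc0_of_iso f (S.fromSpecResidueField s)
        (f.fiberToSpecResidueField s) (f.fiberι s) (f.fiber_fac s)
        (Groth.Agent.Lib.helper7.SeesawCrit.isIso_app f hO)
        (fun W => hO _ (S.fromSpecResidueField s) W) M₀ hM₀flf M eM.symm
      infer_instance
  · intro hb
    obtain ⟨-, hU, hiso⟩ := key hb
    exact ⟨(pushforward f).obj L,
      (Groth.Agent.Lib.helper16.FLF.isInvertible_iff_isFinLocFreeOfRank_one _).mpr hU.1,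
      ⟨(asIso ((pullbackPushforwardAdjunction f).counit.app L)).symm⟩⟩
  · intro hb
    obtain ⟨hr, hU, hiso⟩ := key hb
    exact ⟨hr, hiso, huniq⟩

end Groth.Agent.S16951
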