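import Groth.Statements.S1696
import Groth.Agent.Lib.Helper25.StalkPull
import Groth.Agent.Lib.Helper16.EffCartier
import Groth.Agent.Lib.Helper16.QCohAss

set_option linter.style.haveILetI false

set_option autoImplicit false
universe u
open CategoryTheory CategoryTheory.Limits AlgebraicGeometry TopologicalSpace
open SDiv

namespace Groth.Agent.S1696

open TensorProduct Opposite

open ChangeOfRings in
/-- multiplication by a nonzerodivisor `τ` of `S` is injective on `S ⊗[R] M` for `M` flat over `R` -/
theorem smul_eq_zero_extendScalars {R S : Type u} [CommRing R] [CommRing S] (φ : R →+* S)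
    (M : ModuleCat.{u} R) [Module.Flat R M] (τ : S) (hτ : τ ∈ nonZeroDivisors S)
    (x : (ModuleCat.extendScalars.{u, u, u} φ).obj M) (hx : τ • x = 0) : x = 0 := by
  let S' : ModuleCat R := (ModuleCat.restrictScalars φ).obj (ModuleCat.of S S)
  let μ : S' →ₗ[R] S' :=
    { toFun := fun a => (show S' from (τ * (show S from a) : S))
      map_add' := fun a b => mul_add τ (show S from a) (show S from b)
      map_smul' := fun r a => by
        show τ * (φ r * (show S from a)) = φ r * (τ * (show S from a))
        ring }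
  have hμ : Function.Injective μ := by
    intro a b hab
    have h1 : τ * (show S from a) = τ * (show S from b) := hab
    have h2 : τ * ((show S from a) - (show S from b)) = 0 := by rw [mul_sub, h1, sub_self]
    have h3 := (mem_nonZeroDivisors_iff.mp hτ).1 _ h2
    exact sub_eq_zero.mp h3
  have hinj : Function.Injective (LinearMap.rTensor M μ) :=
    Module.Flat.rTensor_preserves_injective_linearMap μ hμ
  have key : ∀ y : S' ⊗[R] M, (τ • (show (ModuleCat.extendScalars.{u, u, u} φ).obj M from y) :
      (ModuleCat.extendScalars.{u, u, u} φ).obj M) = LinearMap.rTensor M μ y := by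
    intro y
    induction y using TensorProduct.induction_on with
    | zero =>
      rw [map_zero]
      exact smul_zero (A := ((ModuleCat.extendScalars.{u, u, u} φ).obj M)) τ
    | tmul a m => rfl
    | add a b ha hb =>
      rw [map_add, ← ha, ← hb]
      exact smul_add (A := ((ModuleCat.extendScalars.{u, u, u} φ).obj M)) τ _ _
  have h0 : LinearMap.rTensor M μ x = 0 := by rw [← key x]; exact hx
  exact hinj (h0.trans (map_zero _).symm)

open Groth.Agent.Lib.Helper25.StalkSky in
/-- a nonzerodivisor of `O_{S',x}` acts injectively on the stalk `(b^*F)_x` when `F` is flat at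
`b x` -/
theorem smul_eq_zero_stalk_pullback {S S' : Scheme.{u}} (b : S' ⟶ S) (F : S.Modules) (x : S')
    (hflat : FlatMod.IsFlatAt F (b x))
    (τ : S'.presheaf.stalk x) (hτ : τ ∈ nonZeroDivisors (S'.presheaf.stalk x))
    (n : (DerSch.stalkFunctor S' x).obj ((Scheme.Modules.pullback b).obj F)) (hn : τ • n = 0) :
    n = 0 := by
  let e := (stalkPullbackIso b x).app F
  have h1 : e.hom.hom (τ • n) = τ • e.hom.hom n := map_smul _ _ _
  haveI : Module.Flat (S.presheaf.stalk (b x)) ((DerSch.stalkFunctor S (b x)).obj F) := hflat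
  have h2 : e.hom.hom n = 0 :=
    smul_eq_zero_extendScalars _ _ τ hτ _ (by rw [← h1, hn, map_zero])
  have h3 : e.inv.hom (e.hom.hom n) = n := by
    rw [← ModuleCat.comp_apply, e.hom_inv_id]
    rfl
  rw [← h3, h2, map_zero]

/-- the germ of a nonzerodivisor on an affine open is a nonzerodivisor of the stalk -/
theorem germ_mem_nonZeroDivisors {X : Scheme.{u}} {U : X.Opens} (hU : IsAffineOpen U) (x : X)
    (hx : x ∈ U) (t : Γ(X, U)) (ht : t ∈ nonZeroDivisors Γ(X, U)) :
    (X.presheaf.germ U x hx).hom t ∈ nonZeroDivisors (X.presheaf.stalk x) := by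
  letI := X.presheaf.algebra_section_stalk ⟨x, hx⟩
  haveI := hU.isLocalization_stalk ⟨x, hx⟩
  exact IsLocalization.map_nonZeroDivisors_le (hU.primeIdealOf ⟨x, hx⟩).asIdeal.primeCompl
    (X.presheaf.stalk x) (Submonoid.mem_map_of_mem _ ht)

open Groth.Agent.Lib.helper16.EffCartier Groth.Agent.Lib.helper16.QCohAss in
theorem result' {S S' : Scheme.{u}} (𝓘 : S.IdealSheafData) (b : S' ⟶ S) (hb : BlowUp.IsBlowUp b 𝓘)
    (F : S.Modules) (hF : Coh.IsQCoh F) (hflat : ∀ s : ↥S, s ∈ 𝓘.support → FlatMod.IsFlatAt F s) :
    BlowUp.IsStrictTransform b 𝓘 F ((Scheme.Modules.pullback b).obj F) (𝟙 _) := by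
  refine ⟨inferInstance, fun V m => ?_⟩
  constructor
  · intro hm
    have hm0 : m = 0 := hm
    subst hm0
    exact ⟨0, fun a _ => smul_zero a⟩
  · rintro ⟨n, hn⟩
    show m = 0
    apply section_eq_zero_of_germ_eq_zero
    intro x hxV
    obtain ⟨W, hxW, hle, t, ht, hW⟩ := exists_principal_le hb.1 x V.1 hxV
    -- `t^n` kills `m|_W`
    have hpow : (BlowUp.exceptional b 𝓘 ^ n).ideal W = Ideal.span {t ^ n} := by
      rw [Scheme.IdealSheafData.ideal_pow, Pi.pow_apply]
      show (Scheme.IdealSheafData.ideal (𝓘.comap b) W) ^ n = _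
      rw [hW, Ideal.span_singleton_pow]
    have hmap := (BlowUp.exceptional b 𝓘 ^ n).map_ideal (U := W) (V := V) hle
    have hkill : ∀ c ∈ ((BlowUp.exceptional b 𝓘 ^ n).ideal V).map
        (S'.presheaf.map (homOfLE hle).op).hom,
        c • ((Scheme.Modules.pullback b).obj F).presheaf.map (homOfLE hle).op m = 0 := by
      intro c hc
      refine Submodule.span_induction (p := fun c _ =>
        c • ((Scheme.Modules.pullback b).obj F).presheaf.map (homOfLE hle).op m = 0)
        ?_ ?_ ?_ ?_ hc
      · rintro _ ⟨a, ha, rfl⟩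
        have h1 := Scheme.Modules.map_smul ((Scheme.Modules.pullback b).obj F) (homOfLE hle) a m
        rw [hn a ha, map_zero] at h1
        exact h1.symm
      · exact zero_smul _ _
      · intro c d _ _ hc hd
        rw [add_smul, hc, hd, add_zero]
      · intro r c _ hc
        rw [smul_eq_mul, mul_smul, hc, smul_zero]
    have htn : (t ^ n) • ((Scheme.Modules.pullback b).obj F).presheaf.map (homOfLE hle).op m = 0 := by
      apply hkill
      have h1 : t ^ n ∈ (BlowUp.exceptional b 𝓘 ^ n).ideal W := by
        rw [hpow]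
        exact Ideal.mem_span_singleton_self _
      exact hmap.ge h1
    have hg := congrArg (((Scheme.Modules.pullback b).obj F).presheaf.germ W.1 x hxW).hom htn
    rw [germ_smul', map_zero, map_pow] at hg
    have hres : (((Scheme.Modules.pullback b).obj F).presheaf.germ W.1 x hxW).hom
        (((Scheme.Modules.pullback b).obj F).presheaf.map (homOfLE hle).op m) =
        (((Scheme.Modules.pullback b).obj F).presheaf.germ V.1 x hxV).hom m :=
      TopCat.Presheaf.germ_res_apply _ _ _ _ _
    rw [hres] at hg
    by_cases hxs : x ∈ (𝓘.comap b).support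
    · -- flat case
      have hbx : b x ∈ 𝓘.support := (mem_compl_support_comap 𝓘 b x).mp hxs
      have hτ : ((S'.presheaf.germ W.1 x hxW).hom t) ^ n ∈ nonZeroDivisors (S'.presheaf.stalk x) :=
        pow_mem (germ_mem_nonZeroDivisors W.2 x hxW t ht) n
      exact smul_eq_zero_stalk_pullback b F x (hflat _ hbx) _ hτ
        ((((Scheme.Modules.pullback b).obj F).presheaf.germ V.1 x hxV).hom m) hg
    · -- unit case
      have h1 : x ∉ S'.zeroLocus (U := W.1) ((𝓘.comap b).ideal W) := fun h =>
        hxs ((Scheme.IdealSheafData.mem_support_iff_of_mem hxW).mpr h)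
      rw [hW, Scheme.mem_zeroLocus_iff] at h1
      push Not at h1
      obtain ⟨f, hf, hxf⟩ := h1
      obtain ⟨r, rfl⟩ := Ideal.mem_span_singleton'.mp hf
      rw [Scheme.basicOpen_mul] at hxf
      have hu : IsUnit ((S'.presheaf.germ W.1 x hxW).hom t) :=
        isUnit_germ_of_mem_basicOpen x hxW t hxf.2
      exact (hu.pow n).smul_eq_zero.mp hg

/-- Let b : S' → S be the blowing-up of a scheme S in a quasi-coherent sheaf of ideals 𝓘 and F a
quasi-coherent O_S-module which is flat at every point of V(𝓘), the support of O_S/𝓘. Then the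
pullback b^*F is its own strict transform (via the identity map): no nonzero local section of b^*F
is annihilated by a power of the exceptional ideal. -/
theorem result {S S' : Scheme.{u}} (𝓘 : S.IdealSheafData) (b : S' ⟶ S) (hb : BlowUp.IsBlowUp b 𝓘)
    (F : S.Modules) (hF : Coh.IsQCoh F) (hflat : ∀ s : ↥S, s ∈ 𝓘.support → FlatMod.IsFlatAt F s) :
    BlowUp.IsStrictTransform b 𝓘 F ((Scheme.Modules.pullback b).obj F) (𝟙 _) := by
  exact result' 𝓘 b hb F hF hflat

end Groth.Agent.S1696
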