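import Groth.Statements.S16962
import Groth.Agent.Lib.Helper22.ConstDict

set_option autoImplicit false
universe u
open ConstAct

namespace Groth.Agent.S16962

open TensorProduct in
/-- Let R be a commutative ring, Γ a finite group and B a commutative R-algebra equipped with a comodule
structure over the Hopf algebra of R-valued functions on Γ (the coordinate ring of the constant
group scheme of Γ over Spec R, with basis the indicator functions e_γ) whose coaction B → B ⊗ Fun(Γ,
R) is a homomorphism of algebras, i.e. an action of the constant group scheme on Spec B. Then there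
is exactly one action of Γ on B by R-algebra automorphisms whose associated coaction b ↦ Σ_γ (γ · b)
⊗ e_γ is the given coaction; and for that action the ring of invariants of the comodule algebra (the
b whose coaction is b ⊗ 1) equals the ring of elements fixed by Γ. (That the coaction associated
with an action is a comodule algebra structure is the other direction of the published equivalence
and is a construction here.) -/
theorem result (R : Type u) [CommRing R]
    (B : Type u) [CommRing B] [Algebra R B] (Γ : Type u) [Group Γ] [Fintype Γ] [DecidableEq Γ]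
    [HopfRep.Comod R (ConstGrp.F R Γ) B] [GLin.IsCoactAlg R (ConstGrp.F R Γ) B] :
    ∃! a : MulSemiringAction Γ B, ∃ _ : SMulCommClass Γ R B,
      ConstAct.coactLin R B Γ = HopfRep.Comod.coact (k := R) (A := ConstGrp.F R Γ) (V := B) ∧
        GLin.invariants R (ConstGrp.F R Γ) B = ConstAct.inv R B Γ := by
  classical
  let a₀ : MulSemiringAction Γ B := Groth.Agent.Lib.helper22.ConstDict.actOf R Γ B
  have hsm : ∀ (γ : Γ) (b : B), a₀.smul γ b = Groth.Agent.Lib.helper22.ConstDict.op R Γ B γ b :=
    fun _ _ => rfl
  have hcomm : @SMulCommClass Γ R B a₀.toSMul _ := by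
    refine @SMulCommClass.mk Γ R B a₀.toSMul _ ?_
    intro γ r b
    change Groth.Agent.Lib.helper22.ConstDict.op R Γ B γ (r • b) =
      r • Groth.Agent.Lib.helper22.ConstDict.op R Γ B γ b
    rw [map_smul]
  have hco : @ConstAct.coactLin R _ B _ _ Γ _ _ _ a₀ hcomm =
      HopfRep.Comod.coact (k := R) (A := ConstGrp.F R Γ) (V := B) := by
    apply LinearMap.ext
    intro b
    rw [@ConstAct.coactLin_apply R _ B _ _ Γ _ _ _ a₀ hcomm,
      Groth.Agent.Lib.helper22.ConstDict.coact_eq_sum_op R Γ B b]
    rfl
  refine ⟨a₀, ⟨hcomm, hco, ?_⟩, ?_⟩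
  · -- invariants
    apply SetLike.ext
    intro b
    rw [GLin.mem_invariants_iff]
    change _ ↔ ∀ g : Γ, a₀.smul g b = b
    constructor
    · intro hb g
      rw [hsm, Groth.Agent.Lib.helper22.ConstDict.op_apply, hb,
        Groth.Agent.Lib.helper22.ConstDict.evL_tmul, ConstGrp.one_apply, one_smul]
    · intro hb
      rw [Groth.Agent.Lib.helper22.ConstDict.coact_eq_sum_op R Γ B b]
      have : ∀ g : Γ, Groth.Agent.Lib.helper22.ConstDict.op R Γ B g b = b := fun g => hb g
      simp only [this]
      rw [← TensorProduct.tmul_sum, ConstGrp.sum_e]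
  · -- uniqueness
    rintro a' ⟨hc', hco', -⟩
    apply Groth.Agent.Lib.helper22.ConstDict.mulSemiringAction_ext
    intro g b
    rw [hsm, Groth.Agent.Lib.helper22.ConstDict.op_apply, ← hco',
      @ConstAct.coactLin_apply R _ B _ _ Γ _ _ _ a' hc']
    exact (Groth.Agent.Lib.helper22.ConstDict.evL_sum_tmul_e R Γ B g
      (fun h => @HSMul.hSMul Γ B B (@instHSMul Γ B a'.toSMul) h b)).symm

end Groth.Agent.S16962
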