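import Groth.Statements.S16963
-- import your own Groth.Agent.* helpers here

set_option autoImplicit false
universe u
open scoped BigOperators
open ConstAct

namespace Groth.Agent.S16963

open TensorProduct in
/-- Let R be a commutative ring and Γ a finite group acting on a commutative R-algebra B by R-algebra
automorphisms; regard B as a comodule algebra over the Hopf algebra of R-valued functions on Γ (the
constant group scheme of Γ acting on Spec B) through the coaction b ↦ Σ_γ (γ · b) ⊗ e_γ. Then the
action is tame — there is a comodule map α from the Hopf algebra, with its regular coaction, to B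
with α(1) = 1 (a total integral) — if and only if the trace b ↦ Σ_γ γ · b, which takes values in the
ring of invariants B^Γ, maps B onto B^Γ. -/
theorem result (R : Type u) [CommRing R]
    (B : Type u) [CommRing B] [Algebra R B] (Γ : Type u) [Group Γ] [Fintype Γ] [DecidableEq Γ]
    [MulSemiringAction Γ B] [SMulCommClass Γ R B] :
    letI := ConstAct.comod R B Γ
    (∃ α : ConstGrp.F R Γ →ₗ[R] B, Hoch.IsComodHom (ConstGrp.F R Γ) α ∧ α 1 = 1) ↔
      ∀ c : B, c ∈ ConstAct.inv R B Γ → ∃ b : B, ∑ γ : Γ, γ • b = c := by
  constructor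
  · rintro ⟨α, hα, hα1⟩ c hc
    -- coefficients
    have hcoef : ∀ h : Γ, h • α (ConstGrp.e R 1) = α (ConstGrp.e R h⁻¹) := by
      intro h
      have h0 := LinearMap.congr_fun hα (ConstGrp.e R (1 : Γ))
      simp only [LinearMap.comp_apply] at h0
      change ConstAct.coactLin R B Γ (α (ConstGrp.e R 1)) =
        α.rTensor (ConstGrp.F R Γ) (CoalgebraStruct.comul (R := R) (ConstGrp.e R (1 : Γ))) at h0
      rw [ConstAct.coactLin_apply, ConstGrp.comul_e, map_sum] at h0
      simp only [LinearMap.rTensor_tmul] at h0
      have h1 := congrArg ((TensorProduct.rid R B).toLinearMap ∘ₗ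
        (ConstGrp.ev R h).toLinearMap.lTensor B) h0
      simp only [LinearMap.comp_apply, map_sum, LinearMap.lTensor_tmul, AlgHom.toLinearMap_apply,
        ConstGrp.ev_apply, LinearEquiv.coe_coe, TensorProduct.rid_tmul, ConstGrp.e_apply] at h1
      rw [Finset.sum_eq_single h, Finset.sum_eq_single h⁻¹] at h1
      · simpa using h1
      · intro a _ ha
        rw [if_neg, zero_smul]
        intro hh
        apply ha
        rw [mul_one] at hh
        rw [hh, inv_inv]
      · intro hk; exact absurd (Finset.mem_univ _) hk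
      · intro a _ ha
        rw [if_neg (Ne.symm ha), zero_smul]
      · intro hk; exact absurd (Finset.mem_univ _) hk
    refine ⟨c * α (ConstGrp.e R 1), ?_⟩
    have : ∀ γ : Γ, γ • (c * α (ConstGrp.e R 1)) = c * α (ConstGrp.e R γ⁻¹) := by
      intro γ
      rw [smul_mul', (ConstAct.mem_inv R B Γ c).mp hc γ, hcoef]
    simp only [this]
    rw [← Finset.mul_sum, ← map_sum]
    have : ∑ γ : Γ, ConstGrp.e R γ⁻¹ = (1 : ConstGrp.F R Γ) := by
      rw [← ConstGrp.sum_e (R := R) (G := Γ)]
      exact Fintype.sum_equiv (Equiv.inv Γ) _ _ (fun a => rfl)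
    rw [this, hα1, mul_one]
  · intro htr
    obtain ⟨b, hb⟩ := htr 1 (Subalgebra.one_mem _)
    let α : ConstGrp.F R Γ →ₗ[R] B := (ConstGrp.basis R Γ).constr R fun g => g⁻¹ • b
    have hαe : ∀ g : Γ, α (ConstGrp.e R g) = g⁻¹ • b := by
      intro g
      rw [← ConstGrp.basis_apply]
      exact Module.Basis.constr_basis _ _ _ _
    refine ⟨α, ?_, ?_⟩
    · apply ConstGrp.linearMap_ext
      intro g
      simp only [LinearMap.comp_apply]
      change ConstAct.coactLin R B Γ (α (ConstGrp.e R g)) =
        α.rTensor (ConstGrp.F R Γ) (CoalgebraStruct.comul (R := R) (ConstGrp.e R g))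
      rw [ConstAct.coactLin_apply, ConstGrp.comul_e, map_sum, hαe]
      simp only [LinearMap.rTensor_tmul, hαe]
      refine Fintype.sum_equiv ((Equiv.inv Γ).trans (Equiv.mulLeft g)) _ _ (fun h => ?_)
      simp [mul_smul]
    · rw [← ConstGrp.sum_e (R := R) (G := Γ), map_sum]
      simp only [hαe]
      rw [← hb]
      exact Fintype.sum_equiv (Equiv.inv Γ) _ _ (fun a => rfl)


end Groth.Agent.S16963
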