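import Groth.Statements.S16966
import Mathlib
import Groth.Agent.Lib.Helper18.Clifford
import Groth.Agent.Lib.Lead.VBCurve3

set_option autoImplicit false
universe u
open CategoryTheory CategoryTheory.Limits AlgebraicGeometry Opposite
open Curves

namespace Groth.Agent.S16966



/-- Let X be a smooth projective curve over an algebraically closed field k of characteristic 0 (an
integral scheme, proper over k, of dimension one, with all local rings regular), of genus g ≥ 1, and
L an invertible O_X-module with deg L > 2g. Then the morphism to projective space given by the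
complete linear system of L is linearly stable, stated through the criterion by invertible
subsheaves: for every invertible module M and every monomorphism ι : M ⟶ L that is not an
isomorphism, with dim_k H^0(X, M) ≥ 2, one has deg L · (h^0(M) - 1) < deg M · (h^0(L) - 1), i.e. the
reduced degree deg M / (h^0(M) - 1) of the projection exceeds the reduced degree deg L / (h^0(L) -
1). Degrees are χ(·) - χ(O_X). -/
theorem result (k : Type u) [Field k] [IsAlgClosed k] [CharZero k] (X : Scheme.{u}) [X.Over (Spec (CommRingCat.of k))]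
    [IsIntegral X] [IsProper (X ↘ (Spec (CommRingCat.of k)))] (hdim : topologicalKrullDim X = 1)
    (hreg : ∀ x : X, IsRegularLocalRing (X.presheaf.stalk x))
    (hg : 1 ≤ Curv2.genus k X) (L : X.Modules) (hL : PicF.IsInvertible L)
    (hdeg : 2 * (Curv2.genus k X : ℤ) < Curv2.deg k X L 1)
    (M : X.Modules) (hM : PicF.IsInvertible M) (ι : M ⟶ L) [Mono ι] (hι : ¬ IsIso ι)
    (h2 : 2 ≤ Module.finrank k (Coh.HH X M 0)) :
    Curv2.deg k X L 1 * ((Module.finrank k (Coh.HH X M 0) : ℤ) - 1) <
      Curv2.deg k X M 1 * ((Module.finrank k (Coh.HH X L 0) : ℤ) - 1) := by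
  have h0 : Nontrivial (Coh.HH X M 0) := by
    by_contra h
    rw [not_nontrivial_iff_subsingleton] at h
    have : Module.finrank k (Coh.HH X M 0) = 0 := Module.finrank_zero_of_subsingleton
    omega
  have hι0 : ι ≠ 0 := by
    intro h
    have hz : IsZero M := by
      rw [IsZero.iff_id_eq_zero]
      apply (cancel_mono ι).mp
      rw [h]
      simp
    have := Groth.Agent.Lib.Lead.VBCurve.subsingleton_HH_of_isZero hz 0
    exact not_subsingleton _ this
  have hO := Groth.Agent.Lib.helper9.CurveVanish.finrank_H0_structureModule_eq_one k X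
  have hle := Groth.Agent.Lib.Lead.CurveInv.deg_le k X hdim.le hM hL ι hι0
  have hne : Curv2.deg k X M 1 ≠ Curv2.deg k X L 1 := fun h =>
    hι (Groth.Agent.Lib.Lead.CurveInv.isIso_of_deg_eq k X hdim.le hM hL ι hι0 h)
  have hlt : Curv2.deg k X M 1 < Curv2.deg k X L 1 := lt_of_le_of_ne hle hne
  have hL1 : Subsingleton (Coh.HH X L 1) :=
    Groth.Agent.Lib.helper9.CurveVanish.subsingleton_H1_of_deg_ge k X hdim.le hO hL (by linarith)
  have hLrr := Groth.Agent.Lib.Helper18.Clifford.h0_eq_of_h1_subsingleton k X hdim.le hL hL1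
  have h2' : (2 : ℤ) ≤ (Module.finrank k (Coh.HH X M 0) : ℤ) := by exact_mod_cast h2
  have hg1 : (1 : ℤ) ≤ (Curv2.genus k X : ℤ) := by exact_mod_cast hg
  rw [hLrr]
  by_cases h1 : Nontrivial (Coh.HH X M 1)
  · have hc := Groth.Agent.Lib.Helper18.Clifford.clifford k X hdim.le hM h0 h1
    have hdM : 2 * ((Module.finrank k (Coh.HH X M 0) : ℤ) - 1) ≤ Curv2.deg k X M 1 := by linarith
    nlinarith
  · rw [not_nontrivial_iff_subsingleton] at h1
    have hrr := Groth.Agent.Lib.Helper18.Clifford.h0_eq_of_h1_subsingleton k X hdim.le hM h1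
    rw [hrr]
    nlinarith

end Groth.Agent.S16966
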