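import Groth.Statements.S16979
import Mathlib

set_option autoImplicit false
universe u v
open CAlg

namespace Groth.Agent.S16979

/-- Let R be an integral domain with fraction field K and φ a square matrix over R whose characteristic
polynomial becomes separable in K[T] (equivalently, K[T] modulo the characteristic polynomial is
geometrically reduced over K). Then a polynomial f over R satisfies f(φ) = 0 exactly when the
characteristic polynomial of φ divides f in R[T]: the kernel of evaluation at φ (the minimal ideal
of φ) is the principal ideal generated by the characteristic polynomial. -/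
theorem result
    {R : Type u} [CommRing R] [IsDomain R] {n : Type v} [Fintype n] [DecidableEq n]
    (φ : Matrix n n R)
    (hsep : (φ.charpoly.map (algebraMap R (FractionRing R))).Separable) :
    RingHom.ker (Polynomial.aeval (R := R) φ) = Ideal.span {φ.charpoly} := by
  classical
  let K := FractionRing R
  let L := AlgebraicClosure K
  have hinj : Function.Injective (algebraMap R L) := by
    rw [IsScalarTower.algebraMap_eq R K L]
    exact (algebraMap K L).injective.comp (IsFractionRing.injective R K)
  set χ := φ.charpoly with hχ
  have hχm : χ.Monic := φ.charpoly_monic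
  apply le_antisymm
  · intro f hf
    rw [RingHom.mem_ker] at hf
    rw [Ideal.mem_span_singleton]
    -- base change to L
    let φL : Matrix n n L := φ.map (algebraMap R L)
    have hφL : φL.charpoly = χ.map (algebraMap R L) := Matrix.charpoly_map φ (algebraMap R L)
    have hfL : Polynomial.aeval φL (f.map (algebraMap R L)) = 0 := by
      rw [Polynomial.aeval_map_algebraMap]
      have h1 : φL = (Algebra.ofId R L).mapMatrix φ := rfl
      rw [h1, Polynomial.aeval_algHom_apply]
      have h0 : Polynomial.aeval φ f = 0 := hf
      rw [h0, map_zero]
    set g : Module.End L (n → L) := Matrix.toLinAlgEquiv' φL with hg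
    have hgf : Polynomial.aeval g (f.map (algebraMap R L)) = 0 := by
      rw [hg, Polynomial.aeval_algHom_apply, hfL, map_zero]
    have hgchar : g.charpoly = χ.map (algebraMap R L) := by
      rw [← hφL]; exact Matrix.charpoly_toLin' φL
    have hroot : ∀ x : L, (χ.map (algebraMap R L)).IsRoot x → (f.map (algebraMap R L)).IsRoot x := by
      intro x hx
      rw [← hgchar] at hx
      have h1 : g.HasEigenvalue x := (Module.End.hasEigenvalue_iff_isRoot_charpoly g x).mpr hx
      have h2 : (minpoly L g).IsRoot x := Module.End.isRoot_of_hasEigenvalue h1
      exact h2.dvd (minpoly.dvd L g hgf)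
    have hsepL : (χ.map (algebraMap R L)).Separable := by
      have : χ.map (algebraMap R L) = (χ.map (algebraMap R K)).map (algebraMap K L) := by
        rw [Polynomial.map_map, ← IsScalarTower.algebraMap_eq]
      rw [this]
      exact hsep.map
    -- divisibility over L
    have hdvdL : χ.map (algebraMap R L) ∣ f.map (algebraMap R L) := by
      by_cases hf0 : f.map (algebraMap R L) = 0
      · rw [hf0]; exact dvd_zero _
      have hsplit : (χ.map (algebraMap R L)).Splits := IsAlgClosed.splits _
      rw [hsplit.eq_prod_roots_of_monic (hχm.map _),
        Multiset.prod_X_sub_C_dvd_iff_le_roots hf0,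
        Multiset.le_iff_subset (Polynomial.nodup_roots hsepL)]
      intro x hx
      rw [Polynomial.mem_roots (hχm.map _).ne_zero] at hx
      rw [Polynomial.mem_roots hf0]
      exact hroot x hx
    -- descend
    have hdiv : f %ₘ χ = 0 := by
      have h1 : (f %ₘ χ).map (algebraMap R L) = 0 := by
        rw [Polynomial.map_modByMonic _ hχm]
        exact (Polynomial.modByMonic_eq_zero_iff_dvd (hχm.map _)).mpr hdvdL
      exact (Polynomial.map_eq_zero_iff hinj).mp h1
    exact (Polynomial.modByMonic_eq_zero_iff_dvd hχm).mp hdiv
  · rw [Ideal.span_le]
    intro f hf
    rw [Set.mem_singleton_iff] at hf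
    subst hf
    exact Matrix.aeval_self_charpoly φ

end Groth.Agent.S16979
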