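import Groth.Statements.S16982
import Groth.Agent.Lib.Helper24.PSLift1
import Groth.Agent.S16981

open Groth.Agent.Lib.helper24

set_option autoImplicit false
universe u v w w'
open CAlg

namespace Groth.Agent.S16982

/-- Let R be a commutative ring, A a complete Noetherian local R-algebra written as a quotient of a
power series ring over R in finitely many variables by a surjective R-algebra map π, and f : E → A a
surjective R-algebra map whose kernel has square zero and is finitely generated. Then π lifts along
f to an R-algebra map λ from the power series ring to E with f ∘ λ = π. (The published statement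
takes R Artinian local and asks for a lift that is continuous for the adic topologies; this row
allows any commutative R and asks for any lift.) -/
theorem result
    {R : Type u} [CommRing R] {σ : Type v} [Finite σ]
    {A : Type w} {E : Type w'} [CommRing A] [CommRing E] [Algebra R A] [Algebra R E]
    [IsNoetherianRing A] [IsLocalRing A] [IsAdicComplete (IsLocalRing.maximalIdeal A) A]
    (π : MvPowerSeries σ R →ₐ[R] A) (hπ : Function.Surjective π)
    (f : E →ₐ[R] A) (hf : Function.Surjective f)
    (hsq : RingHom.ker f.toRingHom ^ 2 = ⊥) (hfg : (RingHom.ker f.toRingHom).FG) :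
    ∃ l : MvPowerSeries σ R →ₐ[R] E, f.comp l = π := by
  classical
  haveI : IsAdicComplete ((IsLocalRing.maximalIdeal A).comap f.toRingHom) E :=
    Groth.Agent.S16981.result f.toRingHom hf hsq hfg
  haveI : IsHausdorff (IsLocalRing.maximalIdeal A) A := IsAdicComplete.toIsHausdorff
  -- images of the variables lie in the maximal ideal
  have hX : ∀ i, π (MvPowerSeries.X i) ∈ IsLocalRing.maximalIdeal A := by
    intro i
    by_contra hcon
    have hu : IsUnit (π (MvPowerSeries.X i)) := by
      by_contra h
      exact hcon ((IsLocalRing.mem_maximalIdeal _).2 h)
    obtain ⟨u, hu'⟩ := hu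
    obtain ⟨g, hg⟩ := hπ (-(↑u⁻¹ : A))
    have h1 : IsUnit (1 + MvPowerSeries.X i * g : MvPowerSeries σ R) := by
      rw [MvPowerSeries.isUnit_iff_constantCoeff]
      simp
    have h2 := h1.map π
    rw [map_add, map_one, map_mul, hg, ← hu'] at h2
    simp at h2
  choose e he using fun i => hf (π (MvPowerSeries.X i))
  have heJ : ∀ i, e i ∈ (IsLocalRing.maximalIdeal A).comap f.toRingHom := by
    intro i
    rw [Ideal.mem_comap]
    change f (e i) ∈ _
    rw [he i]
    exact hX i
  exact PSLift1.exists_lift ((IsLocalRing.maximalIdeal A).comap f.toRingHom)
    (IsLocalRing.maximalIdeal A) π f (fun x hx => hx) e heJ he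

end Groth.Agent.S16982
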