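import Groth.Statements.S16983
import Mathlib

set_option autoImplicit false
universe u
open DeformData

namespace Groth.Agent.S16983



/-- Let p be a prime, s ≥ 1, B a finite index set with a subset B₀ of exactly three elements, m_j ≥ 1
integers coprime to p, and σ_{i,j} (i < s, j ∈ B) rational numbers with m_j σ_{i,j} an integer, such
that Σ_j (σ_{i,j} − 1) = −2 for every i, the fractional part of σ_{i,j} equals that of p^i σ_{0,j},
no σ_{i,j} equals 1, and the minimum over i of ⌊σ_{i,j}⌋ is 0 for j ∈ B₀ and 1 for j ∉ B₀. Then for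
every i the fractional parts ⟨σ_{i,j}⟩ sum over j to 1 (purity), and ⌊σ_{i,j}⌋ is 0 on B₀ and 1 off
B₀ for every i. (The hypotheses are exactly the properties of the signature of a special deformation
datum on the projective line: each entry is an integer divided by a stabilizer order m_j in a group
of order prime to p, the degree identity coming from Riemann–Hurwitz, the Frobenius-twist relation
between fractional parts, and the speciality conditions; the statement is given here for any such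
tuple.) -/
theorem result
    {B : Type u} [Fintype B] [DecidableEq B] (B₀ : Finset B) (hB₀ : B₀.card = 3)
    (p : ℕ) (hp : p.Prime) (s : ℕ) (hs : 0 < s)
    (m : B → ℕ) (hm : ∀ j, 0 < m j) (hmp : ∀ j, Nat.Coprime (m j) p)
    (σ : Fin s → B → ℚ) (hint : ∀ i j, ∃ h : ℤ, σ i j = (h : ℚ) / (m j : ℚ))
    (hsum : ∀ i, ∑ j, (σ i j - 1) = -2)
    (hfract : ∀ i j, Int.fract (σ i j) = Int.fract ((p : ℚ) ^ (i : ℕ) * σ ⟨0, hs⟩ j))
    (hne : ∀ i j, σ i j ≠ 1)
    (hB₀min : ∀ j ∈ B₀, (∃ i, ⌊σ i j⌋ = 0) ∧ ∀ i, 0 ≤ ⌊σ i j⌋)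
    (hBmin : ∀ j ∉ B₀, (∃ i, ⌊σ i j⌋ = 1) ∧ ∀ i, 1 ≤ ⌊σ i j⌋) :
    (∀ i, ∑ j, Int.fract (σ i j) = 1) ∧ (∀ i j, ⌊σ i j⌋ = if j ∈ B₀ then 0 else 1) := by
  classical
  obtain ⟨c, hc⟩ : ∃ c : B → ℤ, c = fun j => if j ∈ B₀ then 0 else 1 := ⟨_, rfl⟩
  have hcj : ∀ j, c j = if j ∈ B₀ then 0 else 1 := fun j => by rw [hc]
  have hfl : ∀ i j, c j ≤ ⌊σ i j⌋ := by
    intro i j
    rw [hcj]
    by_cases hj : j ∈ B₀
    · rw [if_pos hj]; exact (hB₀min j hj).2 i
    · rw [if_neg hj]; exact (hBmin j hj).2 i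
  have hcsum : ∑ j, ((c j : ℚ) - 1) = -3 := by
    have : ∀ j, ((c j : ℚ) - 1) = if j ∈ B₀ then (-1 : ℚ) else 0 := by
      intro j
      rw [hcj]
      by_cases hj : j ∈ B₀
      · rw [if_pos hj, if_pos hj]; norm_num
      · rw [if_neg hj, if_neg hj]; norm_num
    rw [Finset.sum_congr rfl (fun j _ => this j), Finset.sum_ite_mem, Finset.univ_inter,
      Finset.sum_const, hB₀]
    norm_num
  obtain ⟨e, he⟩ : ∃ e : Fin s → ℤ, e = fun i => ∑ j, (⌊σ i j⌋ - c j) := ⟨_, rfl⟩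
  have hei : ∀ i, e i = ∑ j, (⌊σ i j⌋ - c j) := fun i => by rw [he]
  have he0 : ∀ i, 0 ≤ e i := fun i => by
    rw [hei]; exact Finset.sum_nonneg (fun j _ => sub_nonneg.mpr (hfl i j))
  have hkey : ∀ i, (e i : ℚ) + ∑ j, Int.fract (σ i j) = 1 := by
    intro i
    have h1 := hsum i
    have h2 : ∀ j, σ i j - 1 =
        ((⌊σ i j⌋ : ℚ) - (c j : ℚ)) + ((c j : ℚ) - 1) + Int.fract (σ i j) := by
      intro j
      have := Int.floor_add_fract (σ i j)
      linarith
    rw [Finset.sum_congr rfl (fun j _ => h2 j), Finset.sum_add_distrib, Finset.sum_add_distrib,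
      hcsum] at h1
    rw [hei, Int.cast_sum]
    simp only [Int.cast_sub]
    linarith
  have hF0 : ∀ i, 0 ≤ ∑ j, Int.fract (σ i j) :=
    fun i => Finset.sum_nonneg (fun j _ => Int.fract_nonneg _)
  have he1 : ∀ i, e i ≤ 1 := by
    intro i
    have h1 := hkey i
    have h2 := hF0 i
    have h3 : (e i : ℚ) ≤ 1 := by linarith
    exact_mod_cast h3
  have hmain : ∀ i, e i = 0 := by
    intro i₁
    by_contra hne0
    have he_1 : e i₁ = 1 := by
      have h1 := he0 i₁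
      have h2 := he1 i₁
      omega
    have hF : ∑ j, Int.fract (σ i₁ j) = 0 := by
      have h1 := hkey i₁
      rw [he_1] at h1
      push_cast at h1
      linarith
    have hfr0 : ∀ j, Int.fract (σ i₁ j) = 0 := by
      intro j
      exact (Finset.sum_eq_zero_iff_of_nonneg (fun j _ => Int.fract_nonneg _)).mp hF j
        (Finset.mem_univ j)
    have hint0 : ∀ j, ∃ z : ℤ, σ ⟨0, hs⟩ j = (z : ℚ) := by
      intro j
      obtain ⟨h, hh⟩ := hint ⟨0, hs⟩ j
      have h1 : Int.fract ((p : ℚ) ^ (i₁ : ℕ) * σ ⟨0, hs⟩ j) = 0 := by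
        rw [← hfract]; exact hfr0 j
      have h2 : (p : ℚ) ^ (i₁ : ℕ) * σ ⟨0, hs⟩ j =
          (⌊(p : ℚ) ^ (i₁ : ℕ) * σ ⟨0, hs⟩ j⌋ : ℚ) := by
        have := Int.floor_add_fract ((p : ℚ) ^ (i₁ : ℕ) * σ ⟨0, hs⟩ j)
        rw [h1, add_zero] at this
        exact this.symm
      obtain ⟨z, hz⟩ : ∃ z : ℤ, z = ⌊(p : ℚ) ^ (i₁ : ℕ) * σ ⟨0, hs⟩ j⌋ := ⟨_, rfl⟩
      rw [← hz, hh] at h2
      have hm0 : (m j : ℚ) ≠ 0 := by exact_mod_cast (hm j).ne'
      rw [← mul_div_assoc, div_eq_iff hm0] at h2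
      have h3 : ((p : ℤ) ^ (i₁ : ℕ) * h : ℤ) = z * (m j : ℤ) := by exact_mod_cast h2
      have hcop : IsCoprime ((m j : ℕ) : ℤ) ((p : ℤ) ^ (i₁ : ℕ)) := by
        have : Nat.Coprime (m j) (p ^ (i₁ : ℕ)) := Nat.Coprime.pow_right _ (hmp j)
        exact_mod_cast Nat.isCoprime_iff_coprime.mpr this
      have hdvd : ((m j : ℕ) : ℤ) ∣ h :=
        hcop.dvd_of_dvd_mul_right ⟨z, by linear_combination h3⟩
      obtain ⟨h', hh'⟩ := hdvd
      refine ⟨h', ?_⟩
      rw [hh, hh']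
      push_cast
      field_simp
    have hall : ∀ i j, σ i j = (⌊σ i j⌋ : ℚ) := by
      intro i j
      obtain ⟨z, hz⟩ := hint0 j
      have h1 : Int.fract (σ i j) = 0 := by
        rw [hfract, hz]
        have : (p : ℚ) ^ (i : ℕ) * (z : ℚ) = (((p : ℤ) ^ (i : ℕ) * z : ℤ) : ℚ) := by
          push_cast; ring
        rw [this, Int.fract_intCast]
      have := Int.floor_add_fract (σ i j)
      rw [h1, add_zero] at this
      exact this.symm
    have hex : ∃ j₀, 0 < ⌊σ i₁ j₀⌋ - c j₀ := by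
      by_contra hcon
      have : e i₁ ≤ 0 := by
        rw [hei]
        apply Finset.sum_nonpos
        intro j _
        exact not_lt.mp (fun h => hcon ⟨j, h⟩)
      omega
    obtain ⟨j₀, hj₀⟩ := hex
    have hle : ⌊σ i₁ j₀⌋ - c j₀ ≤ 1 := by
      rw [← he_1, hei]
      exact Finset.single_le_sum (f := fun j => ⌊σ i₁ j⌋ - c j)
        (fun j _ => sub_nonneg.mpr (hfl i₁ j)) (Finset.mem_univ j₀)
    by_cases hjB : j₀ ∈ B₀
    · have hc0 : c j₀ = 0 := by rw [hcj, if_pos hjB]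
      have h1 : ⌊σ i₁ j₀⌋ = 1 := by omega
      apply hne i₁ j₀
      rw [hall i₁ j₀, h1]
      norm_num
    · obtain ⟨i', hi'⟩ := (hBmin j₀ hjB).1
      apply hne i' j₀
      rw [hall i' j₀, hi']
      norm_num
  refine ⟨fun i => ?_, fun i j => ?_⟩
  · have h1 := hkey i
    rw [hmain i] at h1
    push_cast at h1
    linarith
  · have h0 : ∑ j, (⌊σ i j⌋ - c j) = 0 := by rw [← hei]; exact hmain i
    have h1 := (Finset.sum_eq_zero_iff_of_nonneg (fun j _ => sub_nonneg.mpr (hfl i j))).mp h0 j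
      (Finset.mem_univ j)
    rw [← hcj]
    omega


end Groth.Agent.S16983
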