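import Groth.Statements.S16984
import Mathlib

set_option autoImplicit false
universe u v w
open Hoch

namespace Groth.Agent.S16984

open Hoch TensorProduct

section
variable (k : Type u) [CommRing k] (A : Type v) [CommRing A] [Bialgebra k A] (P : Type w) [AddCommGroup P] [Module k P]

/-- `id_P ⊗ ε : P ⊗ A → P` -/
noncomputable def cP : P ⊗[k] A →ₗ[k] P :=
  (TensorProduct.rid k P).toLinearMap ∘ₗ (Coalgebra.counit (R := k) (A := A)).lTensor P

lemma cP_tmul (p : P) (a : A) : cP k A P (p ⊗ₜ a) = Coalgebra.counit (R := k) a • p := by
  simp [cP]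

/-- `(id_P ⊗ ε) ⊗ id_A : (P ⊗ A) ⊗ A → P ⊗ A` -/
noncomputable def F : (P ⊗[k] A) ⊗[k] A →ₗ[k] P ⊗[k] A := (cP k A P).rTensor A

lemma F_coactAux (x : P ⊗[k] A) : F k A P (Hoch.Ind.coactAux k A P x) = x := by
  induction x using TensorProduct.induction_on with
  | zero => simp
  | add x y hx hy => simp [hx, hy]
  | tmul p a =>
    have h : F k A P ∘ₗ (TensorProduct.assoc k P A A).symm.toLinearMap ∘ₗ
        TensorProduct.mk k P (A ⊗[k] A) p
       = (TensorProduct.mk k P A p) ∘ₗ (TensorProduct.lid k A).toLinearMap ∘ₗ
          (Coalgebra.counit (R := k) (A := A)).rTensor A := by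
      ext x y
      simp [F, cP_tmul, smul_tmul]
    have := LinearMap.congr_fun h (Coalgebra.comul (R := k) a)
    simp only [LinearMap.comp_apply, LinearEquiv.coe_coe, TensorProduct.mk_apply,
      Coalgebra.rTensor_counit_comul, TensorProduct.lid_tmul, one_smul] at this
    rw [Hoch.Ind.coactAux_tmul]
    exact this

end

open TensorProduct in
/-- Let k be a commutative ring, A a commutative k-bialgebra that is flat over k (the coordinate ring of
a flat affine group scheme over Spec k; flatness and commutativity are the standing hypotheses of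
the appendix and are not needed for the assertion) and P a k-module. Then p ↦ p ⊗ 1 is an injection
of P into the induced comodule P ⊗ A (coaction id ⊗ Δ) whose image is exactly the submodule of
invariants, i.e. the elements with coaction x ↦ x ⊗ 1. (The published statement writes the
coordinate-ring factor on the left and calls this module coinduced; this row is its degree-zero
part, the identification of P with the invariants of the coinduced module.) -/
theorem result (k : Type u) [CommRing k] (A : Type v) [CommRing A] [Bialgebra k A]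
    [Module.Flat k A] (P : Type w) [AddCommGroup P] [Module k P] :
    Function.Injective ((Hoch.Ind.equiv k A P).toLinearMap ∘ₗ (TensorProduct.mk k P A).flip (1 : A)) ∧
    LinearMap.range ((Hoch.Ind.equiv k A P).toLinearMap ∘ₗ (TensorProduct.mk k P A).flip (1 : A)) =
      HopfRep.fixedPts k A (Hoch.Ind k A P) := by
  constructor
  · intro p q hpq
    have h1 : ∀ p : P, cP k A P ((Hoch.Ind.equiv k A P).symm
        (((Hoch.Ind.equiv k A P).toLinearMap ∘ₗ (TensorProduct.mk k P A).flip (1 : A)) p)) = p := by
      intro p
      simp [cP_tmul]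
    rw [← h1 p, ← h1 q, hpq]
  · ext x
    constructor
    · rintro ⟨p, rfl⟩
      change HopfRep.Comod.coact (k := k) (A := A) _ = _
      rw [Hoch.Ind.coact_eq]
      simp only [LinearMap.comp_apply, LinearMap.flip_apply, TensorProduct.mk_apply, LinearEquiv.coe_coe]
      change Hoch.Ind.coactAux k A P (p ⊗ₜ 1) = (p ⊗ₜ[k] (1 : A)) ⊗ₜ[k] (1 : A)
      rw [Hoch.Ind.coactAux_tmul]
      simp [Bialgebra.comul_one, Algebra.TensorProduct.one_def]
    · intro hx
      change HopfRep.Comod.coact (k := k) (A := A) x = x ⊗ₜ[k] (1 : A) at hx
      rw [Hoch.Ind.coact_eq] at hx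
      refine ⟨cP k A P ((Hoch.Ind.equiv k A P).symm x), ?_⟩
      have h2 := congrArg (F k A P) hx
      have h3 : F k A P (Hoch.Ind.coactAux k A P x) = x := F_coactAux k A P x
      have h4 := h3.symm.trans h2
      simp only [LinearMap.comp_apply, LinearMap.flip_apply, TensorProduct.mk_apply, LinearEquiv.coe_coe]
      refine Eq.trans ?_ h4.symm
      rfl

end Groth.Agent.S16984
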