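import Groth.Statements.S16985
import Mathlib

set_option autoImplicit false
universe u v
open Hoch

namespace Groth.Agent.S16985

open Hoch TensorProduct

section abstract
variable (k : Type u) [CommRing k] (A : Type v) [CommRing A] [Bialgebra k A]

/-- naturality of `tail` -/
lemma tail_natural (M N : Type v) [AddCommGroup M] [Module k M] [AddCommGroup N] [Module k N]
    (f : M →ₗ[k] N) :
    Hoch.tail k A N ∘ₗ f.rTensor A = (f.rTensor A).rTensor A ∘ₗ Hoch.tail k A M := by
  refine TensorProduct.ext' fun m a => ?_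
  simp only [LinearMap.comp_apply, LinearMap.rTensor_tmul, Hoch.tail_tmul]
  generalize (Coalgebra.comul (R := k) a - a ⊗ₜ[k] (1 : A) - (1 : A) ⊗ₜ[k] a) = t
  induction t using TensorProduct.induction_on with
  | zero => simp
  | add x y hx hy => simp only [tmul_add, map_add, hx, hy]
  | tmul x y => simp

variable (V : Type v) [AddCommGroup V] [Module k V] [HopfRep.Comod k A V]
variable (s0 : V ⊗[k] A →ₗ[k] V)

/-- the contracting homotopy built from `s0` -/
noncomputable def s : (n : ℕ) →
    ((Hoch.cochain k A V (n + 1) : Type v) →ₗ[k] (Hoch.cochain k A V n : Type v))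
  | 0 => s0
  | n + 1 => (s n).rTensor A

lemma homotopy
    (h0 : ((s0 ∘ₗ Hoch.d k A V 0).rTensor A : V ⊗[k] A →ₗ[k] V ⊗[k] A)
      - (s0.rTensor A) ∘ₗ Hoch.tail k A V + (Hoch.d k A V 0) ∘ₗ s0 = LinearMap.id) (n : ℕ) :
    (s k A V s0 (n + 1)) ∘ₗ (Hoch.d k A V (n + 1)) + (Hoch.d k A V n) ∘ₗ (s k A V s0 n)
      = LinearMap.id := by
  induction n with
  | zero =>
    rw [← h0]
    simp only [s, Hoch.d_succ, Hoch.cochain]
    rw [LinearMap.comp_add, LinearMap.comp_smul, ← LinearMap.rTensor_comp]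
    simp only [zero_add, pow_one]
    module
  | succ n ih =>
    have hs1 : s k A V s0 (n + 1 + 1) = (s k A V s0 (n + 1)).rTensor A := rfl
    have hs2 : s k A V s0 (n + 1) = (s k A V s0 n).rTensor A := rfl
    rw [Hoch.d_succ k A V (n + 1), hs1, LinearMap.comp_add, LinearMap.comp_smul,
      ← LinearMap.rTensor_comp]
    have hd : Hoch.d k A V (n + 1) ∘ₗ s k A V s0 (n + 1)
        = ((Hoch.d k A V n) ∘ₗ (s k A V s0 n)).rTensor A
          + ((-1 : k) ^ (n + 1)) • ((s k A V s0 (n + 1)).rTensor A ∘ₗ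
              Hoch.tail k A (Hoch.cochain k A V (n + 1))) := by
      rw [Hoch.d_succ k A V n, LinearMap.add_comp, LinearMap.smul_comp, hs2,
        ← LinearMap.rTensor_comp, tail_natural]
    rw [hd]
    have : ((s k A V s0 (n + 1)) ∘ₗ (Hoch.d k A V (n + 1))).rTensor A
        + ((Hoch.d k A V n) ∘ₗ (s k A V s0 n)).rTensor A = LinearMap.id := by
      rw [← LinearMap.rTensor_add, ih, LinearMap.rTensor_id]
    rw [← this, pow_succ (-1 : k) (n + 1)]
    module

lemma cocycles_le
    (h0 : ((s0 ∘ₗ Hoch.d k A V 0).rTensor A : V ⊗[k] A →ₗ[k] V ⊗[k] A)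
      - (s0.rTensor A) ∘ₗ Hoch.tail k A V + (Hoch.d k A V 0) ∘ₗ s0 = LinearMap.id) (n : ℕ) :
    Hoch.cocycles k A V (n + 1) ≤ Hoch.coboundaries k A V (n + 1) := by
  intro z hz
  have hz' : Hoch.d k A V (n + 1) z = 0 := hz
  have := LinearMap.congr_fun (homotopy k A V s0 h0 n) z
  simp only [LinearMap.add_apply, LinearMap.comp_apply, hz', map_zero, zero_add,
    LinearMap.id_apply] at this
  exact ⟨_, this⟩

end abstract

section concrete
variable (k : Type u) [CommRing k] (A : Type v) [CommRing A] [Bialgebra k A] (P : Type v) [AddCommGroup P] [Module k P]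

/-- `id_P ⊗ ε : P ⊗ A → P` -/
noncomputable def cP : P ⊗[k] A →ₗ[k] P :=
  (TensorProduct.rid k P).toLinearMap ∘ₗ (Coalgebra.counit (R := k) (A := A)).lTensor P

lemma cP_tmul (p : P) (a : A) : cP k A P (p ⊗ₜ a) = Coalgebra.counit (R := k) a • p := by
  simp [cP]

/-- `(id_P ⊗ ε) ⊗ id_A : (P ⊗ A) ⊗ A → P ⊗ A` -/
noncomputable def F : (P ⊗[k] A) ⊗[k] A →ₗ[k] P ⊗[k] A := (cP k A P).rTensor A

lemma F_coactAux (x : P ⊗[k] A) : F k A P (Hoch.Ind.coactAux k A P x) = x := by
  induction x using TensorProduct.induction_on with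
  | zero => simp
  | add x y hx hy => simp [hx, hy]
  | tmul p a =>
    have h : F k A P ∘ₗ (TensorProduct.assoc k P A A).symm.toLinearMap ∘ₗ
        TensorProduct.mk k P (A ⊗[k] A) p
       = (TensorProduct.mk k P A p) ∘ₗ (TensorProduct.lid k A).toLinearMap ∘ₗ
          (Coalgebra.counit (R := k) (A := A)).rTensor A := by
      ext x y
      simp [F, cP_tmul, smul_tmul]
    have := LinearMap.congr_fun h (Coalgebra.comul (R := k) a)
    simp only [LinearMap.comp_apply, LinearEquiv.coe_coe, TensorProduct.mk_apply,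
      Coalgebra.rTensor_counit_comul, TensorProduct.lid_tmul, one_smul] at this
    rw [Hoch.Ind.coactAux_tmul]
    exact this

lemma F_tmul (x : P ⊗[k] A) (b : A) : F k A P (x ⊗ₜ b) = (cP k A P x) ⊗ₜ b := rfl

lemma F_rTensor_assoc (x : P ⊗[k] A) (t : A ⊗[k] A) :
    (F k A P).rTensor A ((TensorProduct.assoc k (P ⊗[k] A) A A).symm (x ⊗ₜ t))
      = (TensorProduct.assoc k P A A).symm (cP k A P x ⊗ₜ t) := by
  induction t using TensorProduct.induction_on with
  | zero => simp
  | add x y hx hy => simp only [tmul_add, map_add, hx, hy]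
  | tmul a b => simp [F_tmul]

/-- the induced comodule structure, on the plain tensor product -/
noncomputable local instance instC : HopfRep.Comod k A (P ⊗[k] A) := Hoch.Ind.comod k A P

lemma coact_eq' : (HopfRep.Comod.coact (k := k) (A := A) (V := P ⊗[k] A)) = Hoch.Ind.coactAux k A P := rfl

lemma h0 : ((((F k A P) ∘ₗ Hoch.d k A (P ⊗[k] A) 0).rTensor A :
      (P ⊗[k] A) ⊗[k] A →ₗ[k] (P ⊗[k] A) ⊗[k] A)
      - ((F k A P).rTensor A) ∘ₗ Hoch.tail k A (P ⊗[k] A)
      + (Hoch.d k A (P ⊗[k] A) 0) ∘ₗ (F k A P) : (P ⊗[k] A) ⊗[k] A →ₗ[k] (P ⊗[k] A) ⊗[k] A) = LinearMap.id := by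
  refine TensorProduct.ext' fun x b => ?_
  have e1 : F k A P (Hoch.d k A (P ⊗[k] A) 0 x) = x - (cP k A P x) ⊗ₜ (1 : A) := by
    rw [Hoch.d_zero_apply, map_sub, coact_eq', F_coactAux, F_tmul]
  have e2 : ((F k A P).rTensor A) (Hoch.tail k A (P ⊗[k] A) (x ⊗ₜ b))
      = (TensorProduct.assoc k P A A).symm
          (cP k A P x ⊗ₜ (Coalgebra.comul (R := k) b - b ⊗ₜ[k] (1 : A) - (1 : A) ⊗ₜ[k] b)) := by
    rw [Hoch.tail_tmul]
    exact F_rTensor_assoc k A P x _
  have e3 : Hoch.d k A (P ⊗[k] A) 0 (F k A P (x ⊗ₜ b))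
      = (TensorProduct.assoc k P A A).symm (cP k A P x ⊗ₜ Coalgebra.comul (R := k) b)
        - (cP k A P x ⊗ₜ b) ⊗ₜ (1 : A) := by
    rw [Hoch.d_zero_apply, F_tmul, coact_eq', Hoch.Ind.coactAux_tmul]
  simp only [LinearMap.add_apply, LinearMap.sub_apply, LinearMap.comp_apply,
    LinearMap.rTensor_tmul, LinearMap.id_apply]
  rw [e2, e3, e1]
  simp only [tmul_sub, map_sub, sub_tmul, TensorProduct.assoc_symm_tmul]
  abel

end concrete

open TensorProduct in
/-- Let k be a commutative ring, A a commutative k-bialgebra flat over k (the coordinate ring of a flat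
affine group scheme over Spec k; flatness and commutativity are the standing hypotheses of the
appendix and are not needed for the assertion) and P a k-module. Then the cochain complex of the
induced comodule P ⊗ A (coaction id ⊗ Δ), with n-cochains (P ⊗ A) ⊗ A ⊗ ⋯ ⊗ A, has every
(n+1)-cocycle an (n+1)-coboundary, for all n. (The published statement is the vanishing of the
higher derived functors of invariants on coinduced modules; this row states the vanishing in
positive degrees of the cohomology of the cochain complex above, which the same appendix identifies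
with those derived functors. P is taken in the universe of A, as the cochain modules require.) -/
theorem result (k : Type u) [CommRing k] (A : Type v) [CommRing A]
    [Bialgebra k A] [Module.Flat k A] (P : Type v) [AddCommGroup P] [Module k P] (n : ℕ) :
    Hoch.cocycles k A (Hoch.Ind k A P) (n + 1) ≤ Hoch.coboundaries k A (Hoch.Ind k A P) (n + 1) := by
  letI : HopfRep.Comod k A (P ⊗[k] A) := Hoch.Ind.comod k A P
  exact cocycles_le k A (P ⊗[k] A) (F k A P) (h0 k A P) n

end Groth.Agent.S16985
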