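import Groth.Statements.S1699
import Mathlib.RingTheory.Ideal.AssociatedPrime.Localization
import Mathlib.AlgebraicGeometry.Noetherian

set_option autoImplicit false
universe u
open CategoryTheory CategoryTheory.Limits AlgebraicGeometry TopologicalSpace
open SDiv

namespace Groth.Agent.S1699

variable {X : Scheme.{u}}

theorem eq_zero_of_germ_eq_zero {V : X.Opens} (s : Γ(X, V))
    (h : ∀ (y : X) (hy : y ∈ V), X.presheaf.germ V y hy s = 0) : s = 0 := by
  refine TopCat.Presheaf.section_ext X.sheaf V s 0 (fun y hy => ?_)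
  exact (h y hy).trans (map_zero (X.presheaf.germ V y hy).hom).symm

/-- Associated points on a Noetherian affine open correspond to associated primes. -/
theorem isAssociatedPrime_stalk_iff {V : X.Opens} (hV : IsAffineOpen V)
    [IsNoetherianRing Γ(X, V)] (x : X) (hx : x ∈ V) :
    IsAssociatedPrime (IsLocalRing.maximalIdeal ↑(X.presheaf.stalk x)) ↑(X.presheaf.stalk x) ↔
      IsAssociatedPrime (hV.primeIdealOf ⟨x, hx⟩).asIdeal Γ(X, V) := by
  letI := X.presheaf.algebra_section_stalk ⟨x, hx⟩
  haveI := hV.isLocalization_stalk ⟨x, hx⟩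
  have hcomap : (IsLocalRing.maximalIdeal ↑(X.presheaf.stalk x)).comap
      (algebraMap Γ(X, V) (X.presheaf.stalk x)) = (hV.primeIdealOf ⟨x, hx⟩).asIdeal :=
    IsLocalization.AtPrime.under_maximalIdeal (X.presheaf.stalk x)
      (hV.primeIdealOf ⟨x, hx⟩).asIdeal
  constructor
  · intro h
    have := Module.associatedPrimes.comap_mem_associatedPrimes_of_mem_associatedPrimes_of_isLocalizedModule_of_fg
      (hV.primeIdealOf ⟨x, hx⟩).asIdeal.primeCompl
      (Algebra.linearMap Γ(X, V) (X.presheaf.stalk x))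
      (IsLocalRing.maximalIdeal ↑(X.presheaf.stalk x)) h
      ((isNoetherianRing_iff_ideal_fg Γ(X, V)).mp inferInstance _)
    rw [hcomap] at this
    exact this
  · intro h
    apply Module.associatedPrimes.mem_associatedPrimes_of_comap_mem_associatedPrimes_of_isLocalizedModule
      (hV.primeIdealOf ⟨x, hx⟩).asIdeal.primeCompl
      (Algebra.linearMap Γ(X, V) (X.presheaf.stalk x))
    rw [hcomap]
    exact h

/-- If the germ of `s` at `y` is nonzero, the annihilator of `s` lies in the prime of `y`. -/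
theorem colon_le_primeIdealOf {V : X.Opens} (hV : IsAffineOpen V) (s : Γ(X, V)) (y : X)
    (hy : y ∈ V) (hs : X.presheaf.germ V y hy s ≠ 0) :
    (⊥ : Submodule Γ(X, V) Γ(X, V)).colon {s} ≤ (hV.primeIdealOf ⟨y, hy⟩).asIdeal := by
  intro a ha
  rw [Submodule.mem_colon_singleton, Submodule.mem_bot, smul_eq_mul] at ha
  by_contra hna
  letI := X.presheaf.algebra_section_stalk ⟨y, hy⟩
  haveI := hV.isLocalization_stalk ⟨y, hy⟩
  have hu : IsUnit (X.presheaf.germ V y hy a) :=
    (IsLocalization.AtPrime.isUnit_to_map_iff (X.presheaf.stalk y)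
      (hV.primeIdealOf ⟨y, hy⟩).asIdeal a).mpr hna
  apply hs
  have h0 : X.presheaf.germ V y hy a * X.presheaf.germ V y hy s = 0 := by
    rw [← map_mul, ha, map_zero]
  exact hu.mul_left_cancel (h0.trans (mul_zero _).symm)

/-- containment of primes gives specialization -/
theorem specializes_of_primeIdealOf_le {V : X.Opens} (hV : IsAffineOpen V) (x y : X)
    (hx : x ∈ V) (hy : y ∈ V)
    (h : (hV.primeIdealOf ⟨x, hx⟩).asIdeal ≤ (hV.primeIdealOf ⟨y, hy⟩).asIdeal) : x ⤳ y := by
  have h1 : hV.primeIdealOf ⟨x, hx⟩ ⤳ hV.primeIdealOf ⟨y, hy⟩ :=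
    (PrimeSpectrum.le_iff_specializes _ _).mp h
  have h2 := h1.map hV.fromSpec.continuous
  rwa [hV.fromSpec_primeIdealOf ⟨x, hx⟩, hV.fromSpec_primeIdealOf ⟨y, hy⟩] at h2

/-- (1) if and only if (3): let X be a locally Noetherian scheme and U an open subscheme. Then U is
scheme-theoretically dense in X if and only if U contains every associated point of X (every point
whose local ring has its maximal ideal as an associated prime). -/
theorem result (X : Scheme.{u}) [IsLocallyNoetherian X] (U : X.Opens) :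
    CInt.IsSchematicallyDense U ↔ ∀ x : ↥X, IsAssociatedPrime (IsLocalRing.maximalIdeal ↑(X.presheaf.stalk x)) ↑(X.presheaf.stalk x) → x ∈ U := by
  constructor
  · intro hdense x hass
    by_contra hxU
    obtain ⟨_, ⟨V, hV, rfl⟩, hxV, -⟩ :=
      X.isBasis_affineOpens.exists_subset_of_mem_open (Set.mem_univ x) isOpen_univ
    haveI : IsNoetherianRing Γ(X, V) := IsLocallyNoetherian.component_noetherian ⟨V, hV⟩
    have h1 := (isAssociatedPrime_stalk_iff hV x hxV).mp hass
    obtain ⟨hprime, s, hs⟩ := isAssociatedPrime_iff.mp h1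
    -- `s` vanishes on `V ⊓ U`
    have hzero : X.presheaf.map (homOfLE (inf_le_left : V ⊓ U ≤ V)).op s = 0 := by
      apply eq_zero_of_germ_eq_zero
      intro y hy
      rw [TopCat.Presheaf.germ_res_apply X.presheaf (homOfLE (inf_le_left : V ⊓ U ≤ V)) y hy s]
      by_contra hne
      have hle := colon_le_primeIdealOf hV s y hy.1 hne
      rw [← hs] at hle
      exact hxU ((specializes_of_primeIdealOf_le hV x y hxV hy.1 hle).mem_open U.2 hy.2)
    have hs0 : s = 0 := by
      apply hdense V
      rw [hzero, map_zero]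
    have : (1 : Γ(X, V)) ∈ (hV.primeIdealOf ⟨x, hxV⟩).asIdeal := by
      rw [hs, hs0, Submodule.mem_colon_singleton]
      simp
    exact hprime.ne_top ((Ideal.eq_top_iff_one _).mpr this)
  · intro hass V
    rw [injective_iff_map_eq_zero]
    intro s hs
    apply eq_zero_of_germ_eq_zero
    intro y hy
    by_contra hne
    obtain ⟨_, ⟨W, hW, rfl⟩, hyW, hWV⟩ :=
      X.isBasis_affineOpens.exists_subset_of_mem_open hy V.2
    haveI : IsNoetherianRing Γ(X, W) := IsLocallyNoetherian.component_noetherian ⟨W, hW⟩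
    set s' := X.presheaf.map (homOfLE hWV).op s with hs'
    have hgerm : X.presheaf.germ W y hyW s' = X.presheaf.germ V y hy s :=
      TopCat.Presheaf.germ_res_apply X.presheaf (homOfLE hWV) y hyW s
    have hs'0 : s' ≠ 0 := by
      intro h0
      apply hne
      rw [← hgerm, h0, map_zero]
    obtain ⟨P, hP, hle⟩ := exists_le_isAssociatedPrime_of_isNoetherianRing Γ(X, W) s' hs'0
    haveI := hP.isPrime
    set x := hW.fromSpec ⟨P, hP.isPrime⟩ with hx
    have hxW : x ∈ W := by
      have : x ∈ Set.range hW.fromSpec := ⟨_, rfl⟩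
      rwa [hW.range_fromSpec] at this
    have hPx : hW.primeIdealOf ⟨x, hxW⟩ = ⟨P, hP.isPrime⟩ := by
      apply hW.fromSpec.isOpenEmbedding.injective
      rw [hW.fromSpec_primeIdealOf ⟨x, hxW⟩]
    have hassx : IsAssociatedPrime (IsLocalRing.maximalIdeal ↑(X.presheaf.stalk x))
        ↑(X.presheaf.stalk x) := by
      rw [isAssociatedPrime_stalk_iff hW x hxW, hPx]
      exact hP
    have hxU : x ∈ U := hass x hassx
    -- the germ of `s'` at `x` vanishes
    have hgx : X.presheaf.germ W x hxW s' = 0 := by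
      have h1 : X.presheaf.germ W x hxW s' = X.presheaf.germ V x (hWV hxW) s :=
        TopCat.Presheaf.germ_res_apply X.presheaf (homOfLE hWV) x hxW s
      have h2 : X.presheaf.germ (V ⊓ U) x ⟨hWV hxW, hxU⟩
          (X.presheaf.map (homOfLE (inf_le_left : V ⊓ U ≤ V)).op s) =
          X.presheaf.germ V x (hWV hxW) s :=
        TopCat.Presheaf.germ_res_apply X.presheaf (homOfLE (inf_le_left : V ⊓ U ≤ V)) x _ s
      rw [h1, ← h2, hs, map_zero]
    by_contra _
    have hle2 := colon_le_primeIdealOf hW s' x hxW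
    -- `s'/1 = 0` in the localization at `P`
    letI := X.presheaf.algebra_section_stalk ⟨x, hxW⟩
    haveI := hW.isLocalization_stalk ⟨x, hxW⟩
    have h3 : algebraMap Γ(X, W) (X.presheaf.stalk x) s' = algebraMap Γ(X, W) (X.presheaf.stalk x) 0 := by
      rw [map_zero]
      exact hgx
    obtain ⟨⟨t, ht⟩, hts⟩ := IsLocalization.exists_of_eq
      (M := (hW.primeIdealOf ⟨x, hxW⟩).asIdeal.primeCompl) (S := X.presheaf.stalk x) h3
    apply ht
    rw [hPx]
    apply hle
    rw [Submodule.mem_colon_singleton, Submodule.mem_bot, smul_eq_mul]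
    simpa using hts

end Groth.Agent.S1699
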