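import Groth.Statements.S16991
import Mathlib

set_option autoImplicit false
universe u v
open QuadGrp

namespace Groth.Agent.S16991

open Matrix

/-- A matrix preserving an invertible "alternating" matrix `B = Nᵀ - N` has determinant one
(doubling trick: `B ⊕ -B` is a split symplectic form). -/
theorem det_eq_one_of_preserves {n : Type*} [Fintype n] [DecidableEq n] {R : Type*} [CommRing R]
    (B N G : Matrix n n R) (hN : B = Nᵀ - N) (hB : IsUnit B.det)
    (hG : Gᵀ * B * G = B) : G.det = 1 := by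
  have hBt : Bᵀ = -B := by
    rw [hN, transpose_sub, transpose_transpose, neg_sub]
  obtain ⟨Bi, hBi⟩ : ∃ Bi : Matrix n n R, Bi = B⁻¹ := ⟨_, rfl⟩
  have hBBi : B * Bi = 1 := by rw [hBi]; exact Matrix.mul_nonsing_inv B hB
  have hBiB : Bi * B = 1 := by rw [hBi]; exact Matrix.nonsing_inv_mul B hB
  have hBit : Biᵀ = -Bi := by
    have h1 : Biᵀ * Bᵀ = 1 := by rw [← transpose_mul, hBBi, transpose_one]
    rw [hBt] at h1
    -- Biᵀ * (-B) = 1 → Biᵀ = -Bi
    have h2 : Biᵀ = Biᵀ * (B * Bi) := by rw [hBBi, Matrix.mul_one]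
    rw [h2, ← Matrix.mul_assoc]
    have h3 : Biᵀ * B = -1 := by
      have := h1
      rw [Matrix.mul_neg] at this
      rw [← this, neg_neg]
    rw [h3, Matrix.neg_mul, Matrix.one_mul]
  obtain ⟨C, hC⟩ : ∃ C : Matrix n n R, C = Bi * N * Bi := ⟨_, rfl⟩
  have hCt : Cᵀ - C = Bi := by
    rw [hC, transpose_mul, transpose_mul, hBit]
    have : -Bi * (Nᵀ * -Bi) - Bi * N * Bi = Bi * (Nᵀ - N) * Bi := by
      noncomm_ring
    rw [this, ← hN, Matrix.mul_assoc, hBBi, Matrix.mul_one]
  obtain ⟨D, hD⟩ : ∃ D : Matrix n n R, D = C + Bi := ⟨_, rfl⟩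
  obtain ⟨P, hP⟩ : ∃ P : Matrix (n ⊕ n) (n ⊕ n) R, P = fromBlocks 1 C 1 D := ⟨_, rfl⟩
  obtain ⟨Ω, hΩ⟩ : ∃ Ω : Matrix (n ⊕ n) (n ⊕ n) R, Ω = fromBlocks B 0 0 (-B) := ⟨_, rfl⟩
  have hPΩ : Pᵀ * Ω * P = J n R := by
    rw [hP, hΩ, fromBlocks_transpose, fromBlocks_multiply, fromBlocks_multiply, J]
    congr 1
    · simp
    · simp only [transpose_one, Matrix.one_mul, Matrix.mul_zero, add_zero, zero_add]
      rw [hD, Matrix.mul_add, Matrix.neg_mul, Matrix.neg_mul, hBBi]
      abel
    · simp only [Matrix.mul_zero, add_zero, zero_add, Matrix.mul_one, Matrix.mul_neg]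
      rw [hD, transpose_add, hBit, Matrix.add_mul, Matrix.neg_mul, hBiB, neg_add, neg_neg,
        ← add_assoc, add_neg_cancel, zero_add]
    · simp only [Matrix.mul_zero, add_zero, zero_add, Matrix.mul_neg, Matrix.neg_mul]
      rw [hD, transpose_add, hBit]
      have e1 : (Cᵀ + -Bi) * B * (C + Bi) = Cᵀ * B * C + (Cᵀ - C - Bi) := by
        rw [Matrix.add_mul, Matrix.add_mul, Matrix.mul_add, Matrix.mul_add, Matrix.neg_mul,
          Matrix.neg_mul, Matrix.neg_mul, hBiB, Matrix.mul_assoc Cᵀ B Bi, hBBi, Matrix.mul_one,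
          Matrix.one_mul, Matrix.one_mul]
        abel
      rw [e1, hCt, sub_self, add_zero, add_neg_cancel]
  obtain ⟨GG, hGG⟩ : ∃ GG : Matrix (n ⊕ n) (n ⊕ n) R, GG = fromBlocks G 0 0 1 := ⟨_, rfl⟩
  have hGΩ : GGᵀ * Ω * GG = Ω := by
    rw [hGG, hΩ, fromBlocks_transpose, fromBlocks_multiply, fromBlocks_multiply]
    simp [hG]
  -- `P` is invertible
  have hPdet : IsUnit P.det := by
    have h := congrArg Matrix.det hPΩ
    rw [det_mul, det_mul, det_transpose] at h
    have hJ := Matrix.J_det_mul_J_det n R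
    rw [← h] at hJ
    exact IsUnit.of_mul_eq_one (Ω.det * P.det * (P.det * Ω.det * P.det)) (by
      rw [← hJ]; ring)
  obtain ⟨Pi, hPi⟩ : ∃ Pi : Matrix (n ⊕ n) (n ⊕ n) R, Pi = P⁻¹ := ⟨_, rfl⟩
  have hPPi : P * Pi = 1 := by rw [hPi]; exact Matrix.mul_nonsing_inv P hPdet
  have hPiP : Pi * P = 1 := by rw [hPi]; exact Matrix.nonsing_inv_mul P hPdet
  have hS : Pi * GG * P ∈ symplecticGroup n R := by
    rw [SymplecticGroup.mem_iff', ← hPΩ]
    have hPit : Piᵀ * Pᵀ = 1 := by rw [← transpose_mul, hPPi, transpose_one]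
    calc (Pi * GG * P)ᵀ * (Pᵀ * Ω * P) * (Pi * GG * P)
        = Pᵀ * (GGᵀ * ((Piᵀ * Pᵀ) * Ω * (P * Pi)) * GG) * P := by
          simp only [transpose_mul, Matrix.mul_assoc]
      _ = Pᵀ * Ω * P := by
          rw [hPit, hPPi, Matrix.one_mul, Matrix.mul_one, hGΩ]
  have hdet := SymplecticGroup.det_eq_one hS
  rw [det_mul, det_mul] at hdet
  have hPP : Pi.det * P.det = 1 := by rw [← det_mul, hPiP, det_one]
  have hGGdet : GG.det = 1 := by
    calc GG.det = (Pi.det * P.det) * GG.det := by rw [hPP, one_mul]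
      _ = Pi.det * GG.det * P.det := by ring
      _ = 1 := hdet
  rw [hGG, det_fromBlocks_zero₁₂, det_one, mul_one] at hGGdet
  exact hGGdet


/-- Over a commutative ring in which 2 = 0, for a quadratic form Q on a finite free module of even rank
2m ≥ 2 whose polar form is a perfect pairing, every isometry of Q has determinant one. (The
published statement is the equality of the naive special orthogonal group with the orthogonal group
on fibres in characteristic 2; its proof gives this equality over every base of characteristic 2,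
which is the form stated.) -/
theorem result {R : Type u} [CommRing R] [CharP R 2]
    {M : Type v} [AddCommGroup M] [Module R M] [Module.Free R M] [Module.Finite R M]
    (m : ℕ) (hm : 1 ≤ m) (hM : Module.finrank R M = 2 * m) (Q : QuadraticForm R M) (hQ : QuadGrp.IsRegular Q) :
    QuadGrp.O Q = QuadGrp.SO' Q := by
  classical
  haveI : Nontrivial R := CharP.nontrivial_of_char_ne_one (R := R) (v := 2) (by norm_num)
  refine le_antisymm ?_ inf_le_left
  intro g hg
  refine ⟨hg, ?_⟩
  change g ∈ (LinearEquiv.det (R := R) (M := M)).ker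
  rw [MonoidHom.mem_ker]
  apply Units.ext
  rw [LinearEquiv.coe_det, Units.val_one]
  let b := Module.finBasisOfFinrankEq R M hM
  rw [← LinearMap.det_toMatrix b]
  obtain ⟨B, hBdef⟩ : ∃ B : Matrix (Fin (2 * m)) (Fin (2 * m)) R,
      B = LinearMap.toMatrix₂ b b (QuadraticMap.polarBilin Q) := ⟨_, rfl⟩
  have hBij : ∀ i j, B i j = QuadraticMap.polar Q (b i) (b j) := by
    intro i j
    rw [hBdef, LinearMap.toMatrix₂_apply]
    rfl
  have hdiag : ∀ i, B i i = 0 := by
    intro i
    rw [hBij, QuadraticMap.polar]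
    have h2 : b i + b i = (2 : R) • b i := (two_smul R (b i)).symm
    rw [h2, QuadraticMap.map_smul, CharTwo.two_eq_zero, zero_mul, zero_smul, zero_sub,
      ← neg_add', neg_eq_zero]
    exact CharTwo.add_self_eq_zero _
  have hsymm : ∀ i j, B j i = B i j := by
    intro i j
    rw [hBij, hBij, QuadraticMap.polar_comm]
  let N : Matrix (Fin (2 * m)) (Fin (2 * m)) R := Matrix.of fun i j => if i < j then B i j else 0
  have hN : B = Nᵀ - N := by
    ext i j
    simp only [Matrix.sub_apply, Matrix.transpose_apply, N, Matrix.of_apply]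
    rcases lt_trichotomy i j with h | h | h
    · rw [if_neg (not_lt.mpr h.le), if_pos h, zero_sub, CharTwo.neg_eq]
    · subst h
      rw [if_neg (lt_irrefl _), sub_zero, hdiag]
    · rw [if_pos h, if_neg (not_lt.mpr h.le), sub_zero, hsymm]
  have hBunit : IsUnit B.det := by
    let e : M ≃ₗ[R] Module.Dual R M := LinearEquiv.ofBijective (QuadraticMap.polarBilin Q) hQ
    have h1 := LinearEquiv.isUnit_det e b b.dualBasis
    have h2 : LinearMap.toMatrix b b.dualBasis (e : M →ₗ[R] Module.Dual R M) = Bᵀ := by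
      ext i j
      rw [LinearMap.toMatrix_apply, Module.Basis.dualBasis_repr, Matrix.transpose_apply, hBij]
      rfl
    rw [h2, Matrix.det_transpose] at h1
    exact h1
  refine det_eq_one_of_preserves B N _ hN hBunit ?_
  have hcomp : (QuadraticMap.polarBilin Q).compl₁₂ (g : M →ₗ[R] M) (g : M →ₗ[R] M) =
      QuadraticMap.polarBilin Q := by
    ext x y
    simp only [LinearMap.compl₁₂_apply, QuadraticMap.polarBilin_apply_apply, LinearEquiv.coe_coe]
    rw [QuadraticMap.polar, QuadraticMap.polar, ← map_add]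
    have hg' : ∀ v, Q (g v) = Q v := hg
    rw [hg', hg', hg']
  have := LinearMap.toMatrix₂_compl₁₂ b b b b (QuadraticMap.polarBilin Q) (g : M →ₗ[R] M)
    (g : M →ₗ[R] M)
  rw [hcomp, ← hBdef] at this
  exact this.symm

end Groth.Agent.S16991
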