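import Groth.Statements.S17004
import Mathlib
import Groth.Agent.Lib.Helper13.QuadCentre
-- import your own Groth.Agent.* helpers here

set_option autoImplicit false
universe u
open scoped TensorProduct
open QuadGrp

namespace Groth.Agent.S17004

open Groth.Agent.Lib.helper13 TensorProduct

theorem polarIdeal_top {R : Type u} [CommRing R] {n : ℕ} (hn : 3 ≤ n)
    (Q : QuadraticForm R (Fin n → R))
    (hQ : QuadGrp.IsNondeg (Pi.basisFun R (Fin n)) (LinearEquiv.refl R R) Q) :
    HalfDisc.polarIdeal Q = ⊤ := by
  rcases Nat.even_or_odd n with he | ho
  · exact HalfDisc.polarIdeal_eq_top_of_surjective (by omega) Q (hQ.1 he).2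
  · exact HalfDisc.polarIdeal_eq_top_of_semiregular (by omega) Q (hQ.2 ho)

/-- Let Q be a non-degenerate quadratic form on R^n, n ≥ 3, over a commutative ring R (perfect polar
pairing for even n, unit half-discriminant in the standard basis for odd n). An isometry g of Q
commutes, after base change to every R-algebra A, with every isometry of Q_A if and only if g is
multiplication by a scalar whose square is one. (Points-level form of: the functorial centre of the
orthogonal group is the central μ₂; the algebras range over the universe of R, which contains the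
coordinate ring of the orthogonal group.) -/
theorem result (R : Type u) [CommRing R] (n : ℕ) (hn : 3 ≤ n)
    (Q : QuadraticForm R (Fin n → R))
    (hQ : QuadGrp.IsNondeg (Pi.basisFun R (Fin n)) (LinearEquiv.refl R R) Q)
    (g : (Fin n → R) ≃ₗ[R] (Fin n → R)) (hg : g ∈ QuadGrp.O Q) :
    (∀ (A : Type u) [CommRing A] [Algebra R A], ∀ h ∈ QuadGrp.orth Q A,
        g.baseChange R A (Fin n → R) (Fin n → R) * h = h * g.baseChange R A (Fin n → R) (Fin n → R)) ↔
      ∃ c : R, c * c = 1 ∧ ∀ v, g v = c • v := by
  constructor
  · intro H
    exact QuadCentre.scalar_of_comm_genRefl Q (by omega) (polarIdeal_top hn Q hQ) g hg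
      (H (QuadCentre.GenA Q) _ (QuadCentre.genRefl_mem_orth Q))
  · rintro ⟨c, hc, hgc⟩ A _ _ h hh
    have hscal : ∀ w : A ⊗[R] (Fin n → R),
        g.baseChange R A (Fin n → R) (Fin n → R) w = algebraMap R A c • w := by
      intro w
      induction w using TensorProduct.induction_on with
      | zero => simp
      | tmul a x =>
        rw [LinearEquiv.baseChange_tmul, hgc, TensorProduct.tmul_smul, algebraMap_smul]
      | add x y hx hy => rw [map_add, hx, hy, smul_add]
    ext w : 1
    rw [LinearEquiv.mul_apply, LinearEquiv.mul_apply, hscal, hscal, map_smul]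

end Groth.Agent.S17004
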