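import Groth.Statements.S17006
import Mathlib
import Groth.Agent.Lib.Helper13.QuadInfinitesimal
-- import your own Groth.Agent.* helpers here

set_option autoImplicit false
universe u
open scoped TensorProduct
open QuadGrp

namespace Groth.Agent.S17006

open Groth.Agent.Lib.helper13 TensorProduct

section
variable {R : Type u} [CommRing R] {n : ℕ} (Q : QuadraticForm R (Fin n → R))
   (A : Type u) [CommRing A] [Algebra R A]

theorem bcf_tmul (a : A) (x : Fin n → R) :
    QuadGrp.baseChangeForm A Q (a ⊗ₜ[R] x) = (a * a) * algebraMap R A (Q x) := by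
  rw [QuadGrp.baseChangeForm, LinearMap.compQuadraticMap_apply, QuadGrp.baseChange_tmul]
  simp [Algebra.smul_def, mul_comm]

theorem polar_bcf (x y : Fin n → R) :
    QuadraticMap.polar (QuadGrp.baseChangeForm A Q) ((1 : A) ⊗ₜ[R] x) ((1 : A) ⊗ₜ[R] y) =
      algebraMap R A (QuadraticMap.polar Q x y) := by
  rw [QuadraticMap.polar, ← TensorProduct.tmul_add, bcf_tmul, bcf_tmul, bcf_tmul,
    QuadraticMap.polar]
  simp

theorem infX_bcf (a b m : Fin n → R) :
    infX (QuadGrp.baseChangeForm A Q) ((1 : A) ⊗ₜ[R] a) ((1 : A) ⊗ₜ[R] b) ((1 : A) ⊗ₜ[R] m) =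
      (1 : A) ⊗ₜ[R] (infX Q a b m) := by
  rw [infX_apply, infX_apply, polar_bcf, polar_bcf, TensorProduct.tmul_sub]
  congr 1
  · rw [algebraMap_smul, TensorProduct.tmul_smul]
  · rw [algebraMap_smul, TensorProduct.tmul_smul]

end

section
variable {R : Type u} [CommRing R] {m : ℕ} (Q : QuadraticForm R (Fin (2 * m) → R))
   (A : Type u) [CommRing A] [Algebra R A]

theorem finrank_bc [Nontrivial A] :
    Module.finrank A (A ⊗[R] (Fin (2 * m) → R)) = 2 * m := by
  rw [Module.finrank_eq_card_basis ((Pi.basisFun R (Fin (2 * m))).baseChange A)]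
  simp

theorem infIso_mem_sorth [Nontrivial A] (ε : A) (hε : ε * ε = 0) (a b : A ⊗[R] (Fin (2 * m) → R)) :
    infIso (QuadGrp.baseChangeForm A Q) ε hε a b ∈ QuadGrp.sorth Q A := by
  unfold QuadGrp.sorth QuadGrp.SO
  rw [if_pos (by rw [finrank_bc]; exact even_two_mul m)]
  have hO : infIso (QuadGrp.baseChangeForm A Q) ε hε a b ∈ QuadGrp.O (QuadGrp.baseChangeForm A Q) :=
    infIso_isometry _ ε hε a b
  refine ⟨hO, ?_⟩
  intro z hz
  have hu : infU (QuadGrp.baseChangeForm A Q) ε a b ∈
      CliffordAlgebra.even (QuadGrp.baseChangeForm A Q) :=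
    infU_mem_even _ ε a b
  have hcomm := (Subalgebra.mem_center_iff.mp hz) ⟨_, hu⟩
  have hcomm' : infU (QuadGrp.baseChangeForm A Q) ε a b * (z : CliffordAlgebra _) =
      (z : CliffordAlgebra _) * infU (QuadGrp.baseChangeForm A Q) ε a b :=
    congrArg Subtype.val hcomm
  exact map_infIsometry_eq_self (QuadGrp.baseChangeForm A Q) ε hε a b z hcomm'

end

section
variable {R : Type u} [CommRing R] {n : ℕ} (Q : QuadraticForm R (Fin n → R))

/-- Extract the `ε`-component of an element of `R[ε] ⊗ M`. -/
noncomputable def epsPart : (DualNumber R) ⊗[R] (Fin n → R) →ₗ[R] (Fin n → R) :=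
  TensorProduct.lift ((LinearMap.lsmul R (Fin n → R)).comp (TrivSqZeroExt.sndHom R R))

theorem epsPart_tmul (a : DualNumber R) (x : Fin n → R) :
    epsPart (n := n) (a ⊗ₜ[R] x) = TrivSqZeroExt.snd a • x := by
  simp [epsPart]

/-- Commuting with all infinitesimal isometries over the dual numbers forces commuting with all `infX`. -/
theorem comm_infX (g : (Fin n → R) ≃ₗ[R] (Fin n → R)) (a b : Fin n → R)
    (hcomm : g.baseChange R (DualNumber R) (Fin n → R) (Fin n → R) *
        infIso (QuadGrp.baseChangeForm (DualNumber R) Q) DualNumber.eps DualNumber.eps_mul_eps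
          ((1 : DualNumber R) ⊗ₜ[R] a) ((1 : DualNumber R) ⊗ₜ[R] b) =
      infIso (QuadGrp.baseChangeForm (DualNumber R) Q) DualNumber.eps DualNumber.eps_mul_eps
          ((1 : DualNumber R) ⊗ₜ[R] a) ((1 : DualNumber R) ⊗ₜ[R] b) *
        g.baseChange R (DualNumber R) (Fin n → R) (Fin n → R)) (x : Fin n → R) :
    g (infX Q a b x) = infX Q a b (g x) := by
  have h := congrArg (fun e => e ((1 : DualNumber R) ⊗ₜ[R] x)) hcomm
  simp only [LinearEquiv.mul_apply, infIso_apply, LinearEquiv.baseChange_tmul, infX_bcf, map_add,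
    map_smul] at h
  have h2 := congrArg (epsPart (n := n)) h
  simp only [map_add, epsPart_tmul, TensorProduct.smul_tmul', smul_eq_mul, mul_one] at h2
  simpa using h2

end

section
variable {R : Type u} [CommRing R] {n : ℕ} (Q : QuadraticForm R (Fin n → R))

/-- The final linear algebra: commuting with all `infX` + perfect polar form + isometry ⇒ scalar. -/
theorem scalar_of_comm (hn : 3 ≤ n) (hsurj : Function.Surjective (QuadraticMap.polarBilin Q))
    (g : (Fin n → R) ≃ₗ[R] (Fin n → R)) (hg : ∀ v, Q (g v) = Q v)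
    (key : ∀ a b x : Fin n → R, g (infX Q a b x) = infX Q a b (g x)) :
    ∃ c : R, c * c = 1 ∧ ∀ v, g v = c • v := by
  classical
  -- dual basis
  have hf : ∀ i : Fin n, ∃ f : Fin n → R, ∀ x, QuadraticMap.polar Q f x = x i := by
    intro i
    obtain ⟨f, hf⟩ := hsurj (LinearMap.proj i)
    exact ⟨f, fun x => by simpa using LinearMap.congr_fun hf x⟩
  choose f hf using hf
  let e : Fin n → (Fin n → R) := fun k => Pi.single k 1
  have hpolar : ∀ x y, QuadraticMap.polar Q (g x) (g y) = QuadraticMap.polar Q x y := by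
    intro x y
    simp only [QuadraticMap.polar, ← map_add, hg]
  have hthird : ∀ j k : Fin n, ∃ i, i ≠ j ∧ i ≠ k := by
    intro j k
    have hcard : ({j, k} : Finset (Fin n)).card < (Finset.univ : Finset (Fin n)).card := by
      calc ({j, k} : Finset (Fin n)).card ≤ 2 := Finset.card_le_two
        _ < n := by omega
        _ = (Finset.univ : Finset (Fin n)).card := by simp
    obtain ⟨i, -, hi⟩ := Finset.exists_mem_notMem_of_card_lt_card hcard
    simp only [Finset.mem_insert, Finset.mem_singleton, not_or] at hi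
    exact ⟨i, hi.1, hi.2⟩
  -- the basic identity
  have star : ∀ i j k : Fin n, g ((e k) j • f i - (e k) i • f j) =
      (g (e k)) j • f i - (g (e k)) i • f j := by
    intro i j k
    have := key (f i) (f j) (e k)
    rw [infX_apply, infX_apply, hf, hf, hf, hf] at this
    exact this
  -- off-diagonal entries vanish
  have hoff : ∀ j k : Fin n, j ≠ k → (g (e k)) j = 0 := by
    intro j k hjk
    obtain ⟨i, hij, hik⟩ := hthird j k
    have h1 := star i j k
    have hkj : (e k) j = 0 := by simp [e, hjk]
    have hki : (e k) i = 0 := by simp [e, hik]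
    rw [hkj, hki, zero_smul, zero_smul, sub_zero, map_zero] at h1
    have h2 := congrArg (fun w => QuadraticMap.polar Q w (e i)) h1
    simp only [QuadraticMap.polar_sub_left, QuadraticMap.polar_smul_left, hf] at h2
    have hii : (e i) i = 1 := by simp [e]
    have hij' : (e i) j = 0 := by simp [e, hij.symm]
    rw [hii, hij'] at h2
    simpa using h2.symm
  let d : Fin n → R := fun k => (g (e k)) k
  have hdiag : ∀ k, g (e k) = d k • e k := by
    intro k
    ext j
    by_cases hjk : j = k
    · subst hjk; simp [d, e]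
    · rw [hoff j k hjk]; simp [e, hjk]
  -- g f_i = d_j f_i for j ≠ i
  have hgf : ∀ i j : Fin n, i ≠ j → g (f i) = d j • f i := by
    intro i j hij
    have h1 := star i j j
    have hjj : (e j) j = 1 := by simp [e]
    have hji : (e j) i = 0 := by simp [e, hij]
    rw [hjj, hji, zero_smul, sub_zero, one_smul, hoff i j hij, zero_smul, sub_zero] at h1
    exact h1
  have hdd : ∀ i j : Fin n, i ≠ j → d j * d i = 1 := by
    intro i j hij
    have h1 := hpolar (f i) (e i)
    rw [hgf i j hij, hdiag i, QuadraticMap.polar_smul_left, QuadraticMap.polar_smul_right,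
      hf] at h1
    have hii : (e i) i = 1 := by simp [e]
    rw [hii] at h1
    simpa using h1
  have hdeq : ∀ j k : Fin n, d j = d k := by
    intro j k
    obtain ⟨i, hij, hik⟩ := hthird j k
    calc d j = d j * (d k * d i) := by rw [hdd i k hik, mul_one]
      _ = d k * (d j * d i) := by ring
      _ = d k := by rw [hdd i j hij, mul_one]
  have h0 : 0 < n := by omega
  have h1 : 1 < n := by omega
  refine ⟨d ⟨0, h0⟩, ?_, ?_⟩
  · have := hdd ⟨0, h0⟩ ⟨1, h1⟩ (by simp [Fin.ext_iff])
    rw [hdeq ⟨1, h1⟩ ⟨0, h0⟩] at this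
    exact this
  · intro v
    have hlin : g.toLinearMap = d ⟨0, h0⟩ • LinearMap.id := by
      apply (Pi.basisFun R (Fin n)).ext
      intro k
      simp only [Pi.basisFun_apply, LinearEquiv.coe_coe, LinearMap.smul_apply, LinearMap.id_coe,
        id_eq]
      rw [show (Pi.single k (1 : R) : Fin n → R) = e k from rfl, hdiag k, hdeq k ⟨0, h0⟩]
    exact LinearMap.congr_fun hlin v

end

/-- Let Q be a quadratic form on R^{2m}, m ≥ 2, over a commutative ring R, whose polar form is a perfect
pairing. An isometry g of Q satisfying the Dickson condition commutes, after base change to every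
R-algebra A, with every isometry of Q_A satisfying the Dickson condition if and only if g is
multiplication by a scalar whose square is one. (Points-level form of: for even rank at least 4 the
functorial centre of the special orthogonal group is the central μ₂ and coincides with that of the
naive one.) -/
theorem result (R : Type u) [CommRing R] (m : ℕ) (hm : 2 ≤ m)
    (Q : QuadraticForm R (Fin (2 * m) → R)) (hQ : QuadGrp.IsRegular Q)
    (g : (Fin (2 * m) → R) ≃ₗ[R] (Fin (2 * m) → R)) (hg : g ∈ QuadGrp.SO Q) :
    (∀ (A : Type u) [CommRing A] [Algebra R A], ∀ h ∈ QuadGrp.sorth Q A,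
        g.baseChange R A (Fin (2 * m) → R) (Fin (2 * m) → R) * h = h * g.baseChange R A (Fin (2 * m) → R) (Fin (2 * m) → R)) ↔
      ∃ c : R, c * c = 1 ∧ ∀ v, g v = c • v := by
  constructor
  · intro H
    by_cases hR : Nontrivial R
    · have hgO : g ∈ QuadGrp.O Q := by
        unfold QuadGrp.SO at hg
        rw [if_pos (by rw [Module.finrank_fin_fun]; exact even_two_mul m)] at hg
        obtain ⟨hgO, -⟩ := hg
        exact hgO
      apply scalar_of_comm Q (by omega) hQ.2 g hgO
      intro a b x
      apply comm_infX Q g a b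
      exact H (DualNumber R) _ (infIso_mem_sorth Q (DualNumber R) _ _ _ _)
    · rw [not_nontrivial_iff_subsingleton] at hR
      exact ⟨1, by simp, fun v => Subsingleton.elim _ _⟩
  · rintro ⟨c, hc, hgc⟩ A _ _ h hh
    have hscal : ∀ w : A ⊗[R] (Fin (2 * m) → R),
        g.baseChange R A (Fin (2 * m) → R) (Fin (2 * m) → R) w = algebraMap R A c • w := by
      intro w
      induction w using TensorProduct.induction_on with
      | zero => simp
      | tmul a x =>
        rw [LinearEquiv.baseChange_tmul, hgc, TensorProduct.tmul_smul, algebraMap_smul]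
      | add x y hx hy => rw [map_add, hx, hy, smul_add]
    ext w : 1
    rw [LinearEquiv.mul_apply, LinearEquiv.mul_apply, hscal, hscal, map_smul]

end Groth.Agent.S17006
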