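import Groth.Statements.S17005
import Mathlib
import Groth.Agent.Lib.Helper13.QuadCentre
import Groth.Agent.Lib.Helper13.QuadDet
import Groth.Agent.S17006
-- import your own Groth.Agent.* helpers here

set_option autoImplicit false
universe u
open scoped TensorProduct
open QuadGrp

namespace Groth.Agent.S17005

open Groth.Agent.Lib.helper13 TensorProduct

theorem polarIdeal_top {R : Type u} [CommRing R] {n : ℕ} (hn : 3 ≤ n)
    (Q : QuadraticForm R (Fin n → R))
    (hQ : QuadGrp.IsNondeg (Pi.basisFun R (Fin n)) (LinearEquiv.refl R R) Q) :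
    HalfDisc.polarIdeal Q = ⊤ := by
  rcases Nat.even_or_odd n with he | ho
  · exact HalfDisc.polarIdeal_eq_top_of_surjective (by omega) Q (hQ.1 he).2
  · exact HalfDisc.polarIdeal_eq_top_of_semiregular (by omega) Q (hQ.2 ho)

section
variable {R : Type u} [CommRing R] {n : ℕ} (Q : QuadraticForm R (Fin n → R))
  (A : Type u) [CommRing A] [Algebra R A]

theorem mem_sorth'_of (h : (A ⊗[R] (Fin n → R)) ≃ₗ[A] (A ⊗[R] (Fin n → R)))
    (hh : ∀ v, QuadGrp.baseChangeForm A Q (h v) = QuadGrp.baseChangeForm A Q v)
    (hdet : LinearMap.det (h : (A ⊗[R] (Fin n → R)) →ₗ[A] (A ⊗[R] (Fin n → R))) = 1) :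
    h ∈ QuadGrp.sorth' Q A := by
  refine ⟨QuadReflect.mem_orth_of_bcf Q A h hh, ?_⟩
  change LinearEquiv.det h = 1
  apply Units.ext
  rw [LinearEquiv.coe_det, hdet]
  rfl

end

section
variable {R : Type u} [CommRing R] {n : ℕ} (Q : QuadraticForm R (Fin n → R))

theorem infIso_mem_sorth' (a b : Fin n → R) :
    infIso (QuadGrp.baseChangeForm (DualNumber R) Q) DualNumber.eps DualNumber.eps_mul_eps
      ((1 : DualNumber R) ⊗ₜ[R] a) ((1 : DualNumber R) ⊗ₜ[R] b) ∈ QuadGrp.sorth' Q (DualNumber R) :=
  mem_sorth'_of Q _ _ (infIso_isometry _ _ _ _ _)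
    (QuadDet.det_infIso _ ((Pi.basisFun R (Fin n)).baseChange (DualNumber R)) _ _ _ _)

/-- Minus the generic reflection. -/
noncomputable def negRefl : (QuadCentre.GenA Q ⊗[R] (Fin n → R)) ≃ₗ[QuadCentre.GenA Q]
    (QuadCentre.GenA Q ⊗[R] (Fin n → R)) :=
  LinearEquiv.neg (QuadCentre.GenA Q) * QuadCentre.genRefl Q

theorem negRefl_apply (v : QuadCentre.GenA Q ⊗[R] (Fin n → R)) :
    negRefl Q v = - QuadCentre.genRefl Q v := rfl

theorem negRefl_mem (ho : Odd n) : negRefl Q ∈ QuadGrp.sorth' Q (QuadCentre.GenA Q) := by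
  apply mem_sorth'_of
  · intro v
    rw [negRefl_apply, QuadraticMap.map_neg, QuadCentre.genRefl, QuadReflect.refl_isometry]
  · have h1 : (negRefl Q).toLinearMap = -(QuadCentre.genRefl Q).toLinearMap := by
      ext v
      rfl
    rw [h1, QuadDet.det_neg_of_basis ((Pi.basisFun R (Fin n)).baseChange (QuadCentre.GenA Q)),
      QuadCentre.genRefl, QuadDet.det_refl _ ((Pi.basisFun R (Fin n)).baseChange (QuadCentre.GenA Q)),
      Fintype.card_fin, ho.neg_one_pow]
    norm_num

end

/-- Let Q be a non-degenerate quadratic form on R^n, n ≥ 3, over a commutative ring R (perfect polar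
pairing for even n, unit half-discriminant in the standard basis for odd n). An isometry g of Q of
determinant one commutes, after base change to every R-algebra A, with every determinant-one
isometry of Q_A if and only if g is multiplication by a scalar whose square is one; for odd n such a
scalar is 1 because the determinant of g is its n-th power. (Points-level form of: the functorial
centre of the naive special orthogonal group is the central μ₂ for even rank and trivial for odd
rank.) -/
theorem result (R : Type u) [CommRing R] (n : ℕ) (hn : 3 ≤ n)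
    (Q : QuadraticForm R (Fin n → R))
    (hQ : QuadGrp.IsNondeg (Pi.basisFun R (Fin n)) (LinearEquiv.refl R R) Q)
    (g : (Fin n → R) ≃ₗ[R] (Fin n → R)) (hg : g ∈ QuadGrp.SO' Q) :
    (∀ (A : Type u) [CommRing A] [Algebra R A], ∀ h ∈ QuadGrp.sorth' Q A,
        g.baseChange R A (Fin n → R) (Fin n → R) * h = h * g.baseChange R A (Fin n → R) (Fin n → R)) ↔
      ∃ c : R, c * c = 1 ∧ ∀ v, g v = c • v := by
  constructor
  · intro H
    have htop := polarIdeal_top hn Q hQ
    rcases Nat.even_or_odd n with he | ho
    · apply Groth.Agent.S17006.scalar_of_comm Q hn (hQ.1 he).2 g hg.1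
      intro a b x
      apply Groth.Agent.S17006.comm_infX Q g a b
      exact H (DualNumber R) _ (infIso_mem_sorth' Q a b)
    · apply QuadCentre.scalar_of_comm_genRefl Q (by omega) htop g hg.1
      have h1 := H (QuadCentre.GenA Q) _ (negRefl_mem Q ho)
      ext v : 1
      have h2 := congrArg (fun e => e v) h1
      simp only [LinearEquiv.mul_apply, negRefl_apply, map_neg] at h2
      rw [LinearEquiv.mul_apply, LinearEquiv.mul_apply]
      exact neg_injective h2
  · rintro ⟨c, hc, hgc⟩ A _ _ h hh
    have hscal : ∀ w : A ⊗[R] (Fin n → R),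
        g.baseChange R A (Fin n → R) (Fin n → R) w = algebraMap R A c • w := by
      intro w
      induction w using TensorProduct.induction_on with
      | zero => simp
      | tmul a x =>
        rw [LinearEquiv.baseChange_tmul, hgc, TensorProduct.tmul_smul, algebraMap_smul]
      | add x y hx hy => rw [map_add, hx, hy, smul_add]
    ext w : 1
    rw [LinearEquiv.mul_apply, LinearEquiv.mul_apply, hscal, hscal, map_smul]

end Groth.Agent.S17005
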