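import Groth.Statements.S1701
import Mathlib
import Groth.Agent.Lib.Helper16.RelCartier
import Groth.Agent.S17386
import Groth.Agent.S8851

set_option autoImplicit false
universe u
open CategoryTheory CategoryTheory.Limits AlgebraicGeometry TopologicalSpace
open SDiv

namespace Groth.Agent.S1701

section helpers
open CategoryTheory CategoryTheory.Limits AlgebraicGeometry

open Groth.Agent.Lib.helper16.RelCartier

/-- ring level: `A → C`, `A → A'` localization at `p`, `C → B` localization at `q`, `σ : A' → B`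
compatible. -/
theorem ring_main {A C A' B : Type u} [CommRing A] [CommRing C] [CommRing A'] [CommRing B]
    (φ : A →+* C) (γ : A →+* A') (δ : C →+* B) (σ : A' →+* B) (hcomm : σ.comp γ = δ.comp φ)
    (p : Ideal A) [p.IsPrime] (hp : letI := γ.toAlgebra; IsLocalization.AtPrime A' p)
    (q : Ideal C) [q.IsPrime] (hq : letI := δ.toAlgebra; IsLocalization.AtPrime B q)
    [IsNoetherianRing B]
    (t : C) (htq : t ∈ q) (ht : t ∈ nonZeroDivisors C)
    (hflat : ((Ideal.Quotient.mk (Ideal.span {t})).comp φ).Flat) : σ.Flat := by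
  algebraize [φ, γ, δ, σ, δ.comp φ]
  have : IsScalarTower A A' B := .of_algebraMap_eq' hcomm.symm
  have : IsLocalization.AtPrime A' p := hp
  have : IsLocalization.AtPrime B q := hq
  have e : φ = algebraMap A C := rfl
  rw [e, flat_comp_mk_iff] at hflat
  have hAB : Module.Flat A B := flat_localization_of_flat_quot (A := A) (C := C) (B := B) q t htq ht
  have : Module.Flat A' B := (Module.flat_iff_of_isLocalization A' p.primeCompl B).2 hAB
  exact this


theorem main {X S : Scheme.{u}} (f : X ⟶ S) (𝓘 : X.IdealSheafData)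
    (hD : (BlowUp.IsEffCartierIdeal 𝓘 ∧ Flat (𝓘.subschemeι ≫ f))) (d : ↥𝓘.subscheme)
    [IsNoetherianRing (X.presheaf.stalk (𝓘.subschemeι d))] :
    (f.stalkMap (𝓘.subschemeι d)).hom.Flat := by
  have := hD.2
  set x := 𝓘.subschemeι d with hx
  have hxs : x ∈ 𝓘.support := by
    have : x ∈ (𝓘.support : Set X) := by
      rw [← 𝓘.range_subschemeι]; exact ⟨d, rfl⟩
    exact this
  obtain ⟨V, hV, hfx, _⟩ := TopologicalSpace.Opens.isBasis_iff_nbhd.mp S.isBasis_affineOpens
      (TopologicalSpace.Opens.mem_top <| f x)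
  obtain ⟨U, hxU, hUV, t, ht, hI⟩ := exists_gen_le 𝓘 hD.1 x (f ⁻¹ᵁ V) hfx
  have hq := flat_quot_of_flat_sub f 𝓘 U ⟨V, hV⟩ hUV
  rw [hI] at hq
  have htq : t ∈ (U.2.primeIdealOf ⟨x, hxU⟩).asIdeal := by
    by_contra hcon
    have hb : x ∈ X.basicOpen t :=
      (Groth.Agent.S17386.mem_basicOpen_iff_notMem_primeIdealOf U.2 x hxU t).2 hcon
    exact Groth.Agent.S8851.basicOpen_le_compl_support 𝓘 U t hI x hb hxs
  have hcomm : (f.stalkMap x).hom.comp (S.presheaf.germ V (f x) hfx).hom =
      (X.presheaf.germ U.1 x hxU).hom.comp (f.appLE V U.1 hUV).hom := by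
    rw [← CommRingCat.hom_comp, ← CommRingCat.hom_comp, Scheme.Hom.germ_stalkMap,
      Scheme.Hom.appLE, Category.assoc, TopCat.Presheaf.germ_res]
  exact ring_main (f.appLE V U.1 hUV).hom (S.presheaf.germ V (f x) hfx).hom
    (X.presheaf.germ U.1 x hxU).hom (f.stalkMap x).hom hcomm
    (hV.primeIdealOf ⟨f x, hfx⟩).asIdeal (hV.isLocalization_stalk ⟨f x, hfx⟩)
    (U.2.primeIdealOf ⟨x, hxU⟩).asIdeal (U.2.isLocalization_stalk ⟨x, hxU⟩) t htq ht hq


end helpers


/-- Let f : X ⟶ S be a morphism, 𝓘 the ideal sheaf of an effective Cartier divisor D ⊂ X such that D ⟶ S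
is flat (a relative effective Cartier divisor), and x a point of D at which the local ring of X is
Noetherian. Then f is flat at x. -/
theorem result {X S : Scheme.{u}} (f : X ⟶ S) (𝓘 : X.IdealSheafData)
    (hD : (BlowUp.IsEffCartierIdeal 𝓘 ∧ Flat (𝓘.subschemeι ≫ f))) (d : ↥𝓘.subscheme) [IsNoetherianRing (X.presheaf.stalk (𝓘.subschemeι d))] :
    (f.stalkMap (𝓘.subschemeι d)).hom.Flat := by
  exact main f 𝓘 hD d

end Groth.Agent.S1701
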