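import Groth.Statements.S17017
import Groth.Agent.Lib.Helper12.Cliff3

set_option autoImplicit false
universe u
open QuadGrp

namespace Groth.Agent.S17017

open CliffordAlgebra Groth.Agent.Lib.helper12.Cliff3 in
/-- the split form in coordinates -/
lemma splitForm_three_apply (k : Type u) [Field k] (x : Fin 3 → k) :
    QuadGrp.splitForm k 3 x = x 1 * x 2 + x 0 * x 0 := by
  simp [QuadGrp.splitForm]

/-- the `2 × 2` matrix `[[x₀, x₁], [x₂, -x₀]]` -/
noncomputable def repFun (k : Type u) [Field k] : (Fin 3 → k) →ₗ[k] Matrix (Fin 2) (Fin 2) k where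
  toFun x := !![x 0, x 1; x 2, -x 0]
  map_add' x y := by
    ext i j
    fin_cases i <;> fin_cases j <;> simp [add_comm]
  map_smul' c x := by
    ext i j
    fin_cases i <;> fin_cases j <;> simp

lemma repFun_sq (k : Type u) [Field k] (x : Fin 3 → k) :
    repFun k x * repFun k x = algebraMap k _ (QuadGrp.splitForm k 3 x) := by
  rw [splitForm_three_apply]
  ext i j
  fin_cases i <;> fin_cases j <;>
    simp [repFun, Matrix.mul_apply, Fin.sum_univ_two, Matrix.algebraMap_matrix_apply] <;> ring

/-- the representation of the Clifford algebra on `k²` -/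
noncomputable def rep (k : Type u) [Field k] :
    CliffordAlgebra (QuadGrp.splitForm k 3) →ₐ[k] Matrix (Fin 2) (Fin 2) k :=
  CliffordAlgebra.lift (QuadGrp.splitForm k 3) ⟨repFun k, repFun_sq k⟩

lemma rep_ι (k : Type u) [Field k] (x : Fin 3 → k) :
    rep k (CliffordAlgebra.ι (QuadGrp.splitForm k 3) x) = repFun k x :=
  CliffordAlgebra.lift_ι_apply _ _ x

lemma trace_rep_ι (k : Type u) [Field k] (x : Fin 3 → k) :
    Matrix.trace (rep k (CliffordAlgebra.ι (QuadGrp.splitForm k 3) x)) = 0 := by
  rw [rep_ι]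
  simp [repFun, Matrix.trace, Fin.sum_univ_two]

open Groth.Agent.Lib.helper12.Cliff3 in
lemma trace_rep_ω (k : Type u) [Field k] :
    Matrix.trace (rep k (ω (QuadGrp.splitForm k 3))) = 1 := by
  rw [ω, e, e, e, map_mul, map_mul, rep_ι, rep_ι, rep_ι]
  simp [repFun, Matrix.trace, Fin.sum_univ_two]

/-- Over a field k, for the standard split quadratic form x₀² + x₁x₂ on k³, every even unit of the
Clifford algebra normalises the subspace k³, i.e. lies in the naive Clifford group; so the even
Clifford group is the whole unit group of the even Clifford algebra. (The published claim is made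
over fields of characteristic different from 2; here it is stated for every field.) -/
theorem result (k : Type u) [Field k] :
    QuadGrp.evenUnits (QuadGrp.splitForm k 3) ≤ QuadGrp.GPin' (QuadGrp.splitForm k 3) := by
  classical
  set Q := QuadGrp.splitForm k 3 with hQ
  -- conjugation by an even unit preserves the vectors
  have key : ∀ u : (CliffordAlgebra Q)ˣ, u ∈ QuadGrp.evenUnits Q → ∀ v : Fin 3 → k,
      (u : CliffordAlgebra Q) * CliffordAlgebra.ι Q v * ↑u⁻¹ ∈
        LinearMap.range (CliffordAlgebra.ι Q) := by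
    intro u hu v
    have hu0 : (u : CliffordAlgebra Q) ∈ CliffordAlgebra.evenOdd Q 0 := hu
    have hu0' : (↑u⁻¹ : CliffordAlgebra Q) ∈ CliffordAlgebra.evenOdd Q 0 :=
      (QuadGrp.evenUnits Q).inv_mem hu
    have hodd : (u : CliffordAlgebra Q) * CliffordAlgebra.ι Q v * ↑u⁻¹ ∈
        CliffordAlgebra.evenOdd Q 1 := by
      have h1 := SetLike.mul_mem_graded (SetLike.mul_mem_graded hu0
        (CliffordAlgebra.ι_mem_evenOdd_one Q v)) hu0'
      simpa using h1
    obtain ⟨w, t, hwt⟩ := Groth.Agent.Lib.helper12.Cliff3.exists_of_odd Q hodd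
    have htr : Matrix.trace (rep k ((u : CliffordAlgebra Q) * CliffordAlgebra.ι Q v * ↑u⁻¹)) =
        0 := by
      rw [map_mul, map_mul, Matrix.trace_mul_cycle, ← map_mul, Units.inv_mul, map_one, one_mul,
        trace_rep_ι]
    rw [hwt, map_add, map_smul, Matrix.trace_add, Matrix.trace_smul, trace_rep_ι, trace_rep_ω,
      zero_add, smul_eq_mul, mul_one] at htr
    rw [hwt, htr, zero_smul, add_zero]
    exact ⟨w, rfl⟩
  intro u hu
  rw [QuadGrp.mem_GPin']
  apply le_antisymm
  · intro x hx
    rw [Submodule.mem_smul_pointwise_iff_exists] at hx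
    obtain ⟨y, ⟨v, rfl⟩, rfl⟩ := hx
    rw [ConjAct.units_smul_def, ConjAct.ofConjAct_toConjAct]
    exact key u hu v
  · rintro x ⟨v, rfl⟩
    rw [Submodule.mem_smul_pointwise_iff_exists]
    refine ⟨(↑u⁻¹ : CliffordAlgebra Q) * CliffordAlgebra.ι Q v * ↑u, ?_, ?_⟩
    · have := key u⁻¹ ((QuadGrp.evenUnits Q).inv_mem hu) v
      rwa [inv_inv] at this
    · rw [ConjAct.units_smul_def, ConjAct.ofConjAct_toConjAct]
      simp only [mul_assoc, Units.mul_inv, mul_one]
      rw [← mul_assoc, Units.mul_inv, one_mul]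

end Groth.Agent.S17017
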