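import Groth.Statements.S17018
import Mathlib
import Groth.Agent.Lib.Helper17.FibreStalk2

set_option autoImplicit false
set_option linter.style.haveILetI false
universe u
open CategoryTheory CategoryTheory.Limits AlgebraicGeometry
open scoped TensorProduct
open Models

namespace Groth.Agent.S17018

/-- Let R be a discrete valuation ring with algebraically closed residue field and f : X → Spec R a
proper flat morphism whose generic fibre (base change to the fraction field of R) is smooth of
relative dimension 1 and connected and whose special fibre (base change to the residue field) is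
connected and reduced; let ξ be the generic point of an irreducible component of the special fibre
and B a discrete valuation ring given with an isomorphism from the local ring of X at ξ under which
R → B is the map induced by f. Then the maximal ideal of B is the extension of the maximal ideal of
R: a uniformizer of R maps to a uniformizer of B. (The published setting takes everything
essentially of finite type over a field of characteristic zero; the printed argument does not use
this and it is not imposed here.) -/
theorem result
    (R : Type u) [CommRing R] [IsDomain R] [IsDiscreteValuationRing R]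
    [IsAlgClosed (IsLocalRing.ResidueField R)]
    (X : Scheme.{u}) (f : X ⟶ Spec (CommRingCat.of R)) [IsProper f] [Flat f]
    (XK : Scheme.{u}) (gK : XK ⟶ X) (fK : XK ⟶ Spec (CommRingCat.of (FractionRing R)))
    (hK : IsPullback gK fK f (Spec.map (CommRingCat.ofHom (algebraMap R (FractionRing R)))))
    [SmoothOfRelativeDimension 1 fK] [ConnectedSpace XK]
    (Xs : Scheme.{u}) (gs : Xs ⟶ X) (fs : Xs ⟶ Spec (CommRingCat.of (IsLocalRing.ResidueField R)))
    (hs : IsPullback gs fs f (Spec.map (CommRingCat.ofHom (IsLocalRing.residue R))))
    [ConnectedSpace Xs] [IsReduced Xs]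
    (ξ : Xs) (hξ : closure ({ξ} : Set Xs) ∈ irreducibleComponents Xs)
    (B : Type u) [CommRing B] [IsDomain B] [IsDiscreteValuationRing B] [Algebra R B]
    (e : X.presheaf.stalk (gs.base ξ) ≅ CommRingCat.of B)
    (he : e.hom.hom.comp ((X.presheaf.germ ⊤ (gs.base ξ) trivial).hom.comp (Coh.toGlobal f)) =
      algebraMap R B) :
    IsLocalRing.maximalIdeal B = Ideal.map (algebraMap R B) (IsLocalRing.maximalIdeal R) := by
  classical
  have hsurj : Function.Surjective
      (Scheme.stalkClosedPointTo (Spec.map (CommRingCat.ofHom (IsLocalRing.residue R)))).hom := by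
    intro c
    obtain ⟨r, rfl⟩ := IsLocalRing.residue_surjective c
    have h1 := Scheme.germ_stalkClosedPointTo_Spec (CommRingCat.ofHom (IsLocalRing.residue R))
    refine ⟨((Spec (CommRingCat.of R)).presheaf.germ ⊤ _ trivial).hom
      ((Scheme.ΓSpecIso (CommRingCat.of R)).inv.hom r), ?_⟩
    have h2 := congrArg (fun m => m.hom ((Scheme.ΓSpecIso (CommRingCat.of R)).inv.hom r)) h1
    simp only [CommRingCat.hom_comp, RingHom.comp_apply] at h2
    rw [h2]
    have h3 : (Scheme.ΓSpecIso (CommRingCat.of R)).hom.hom
        ((Scheme.ΓSpecIso (CommRingCat.of R)).inv.hom r) = r := by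
      have := congrArg (fun m => m.hom r) (Scheme.ΓSpecIso (CommRingCat.of R)).inv_hom_id
      simpa using this
    rw [h3]
    rfl
  have hker := Groth.Agent.Lib.helper17.FibreStalk2.ker_stalkMap_of_isPullback_field f
    (IsLocalRing.ResidueField R) (Spec.map (CommRingCat.ofHom (IsLocalRing.residue R))) gs fs hs hsurj ξ
  -- `gs` is a closed immersion, hence surjective on stalks
  haveI : IsClosedImmersion (Spec.map (CommRingCat.ofHom (IsLocalRing.residue R))) :=
    IsClosedImmersion.spec_of_surjective _ IsLocalRing.residue_surjective
  haveI : IsClosedImmersion gs := MorphismProperty.of_isPullback hs.flip inferInstance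
  have hsurj2 := gs.stalkMap_surjective ξ
  -- the stalk of `Xs` at `ξ` is a field
  have hmax : IsMax ξ := by
    intro b hb
    have hb' : b ⤳ ξ := hb
    have h1 : closure ({ξ} : Set Xs) ≤ closure ({b} : Set Xs) :=
      closure_minimal (Set.singleton_subset_iff.mpr hb'.mem_closure) isClosed_closure
    have h2 := hξ.2 isIrreducible_singleton.closure h1
    have h3 : b ∈ closure ({ξ} : Set Xs) := h2 (subset_closure rfl)
    exact (specializes_iff_mem_closure.2 h3 : ξ ⤳ b)
  have hco : Order.coheight ξ ≤ ((0 : ℕ) : ℕ∞) := by
    rw [Order.coheight_eq_zero.2 hmax]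
    rfl
  haveI : Ring.KrullDimLE 0 (Xs.presheaf.stalk ξ) := krullDimLE_of_coheight_le hco
  have hfield : IsField (Xs.presheaf.stalk ξ) := Ring.KrullDimLE.isField_of_isReduced
  have hkermax : (RingHom.ker (gs.stalkMap ξ).hom).IsMaximal := by
    letI := hfield.toField
    exact RingHom.ker_isMaximal_of_surjective (gs.stalkMap ξ).hom hsurj2
  have hkereq : RingHom.ker (gs.stalkMap ξ).hom =
      IsLocalRing.maximalIdeal (X.presheaf.stalk (gs.base ξ)) :=
    IsLocalRing.eq_maximalIdeal hkermax
  -- the point `f (gs ξ)` is the closed point of `Spec R`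
  have hy : (f.base (gs.base ξ)).asIdeal = IsLocalRing.maximalIdeal R := by
    have h1 : (gs ≫ f).base ξ =
        (fs ≫ Spec.map (CommRingCat.ofHom (IsLocalRing.residue R))).base ξ := by rw [hs.w]
    have h2 : f.base (gs.base ξ) =
        (Spec.map (CommRingCat.ofHom (IsLocalRing.residue R))).base (fs.base ξ) := h1
    rw [h2]
    show Ideal.comap (IsLocalRing.residue R) (fs.base ξ).asIdeal = _
    have h3 : (fs.base ξ).asIdeal = ⊥ := by
      haveI := (fs.base ξ).isPrime
      exact ((Ideal.eq_bot_or_top _).resolve_right (Ideal.IsPrime.ne_top inferInstance))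
    rw [h3]
    exact IsLocalRing.ker_residue
  -- the maximal ideal of the stalk of `Spec R` at that point
  letI alg : Algebra R ((Spec (CommRingCat.of R)).presheaf.stalk (f.base (gs.base ξ))) :=
    StructureSheaf.stalkAlgebra R (f.base (gs.base ξ))
  haveI hloc : IsLocalization.AtPrime
      ((Spec (CommRingCat.of R)).presheaf.stalk (f.base (gs.base ξ)))
      (f.base (gs.base ξ)).asIdeal :=
    StructureSheaf.IsLocalization.to_stalk R (f.base (gs.base ξ))
  have hmY : Ideal.map (algebraMap R ((Spec (CommRingCat.of R)).presheaf.stalk (f.base (gs.base ξ))))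
      (f.base (gs.base ξ)).asIdeal =
      IsLocalRing.maximalIdeal ((Spec (CommRingCat.of R)).presheaf.stalk (f.base (gs.base ξ))) :=
    IsLocalization.AtPrime.map_eq_maximalIdeal _ _
  -- transport to `B`
  have hBmax : IsLocalRing.maximalIdeal B =
      Ideal.map e.hom.hom (IsLocalRing.maximalIdeal (X.presheaf.stalk (gs.base ξ))) := by
    symm
    apply IsLocalRing.eq_maximalIdeal
    exact Ideal.map_isMaximal_of_equiv (e.commRingCatIsoToRingEquiv)
  have hcomp : (e.hom.hom.comp (f.stalkMap (gs.base ξ)).hom).comp
      (algebraMap R ((Spec (CommRingCat.of R)).presheaf.stalk (f.base (gs.base ξ)))) =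
      algebraMap R B := by
    rw [← he]
    ext r
    simp only [RingHom.comp_apply]
    congr 1
    show (f.stalkMap (gs.base ξ)).hom
      (((Spec (CommRingCat.of R)).presheaf.germ ⊤ (f.base (gs.base ξ)) trivial).hom
        ((Scheme.ΓSpecIso (CommRingCat.of R)).inv.hom r)) = _
    have h1 := Scheme.Hom.germ_stalkMap f ⊤ (gs.base ξ) trivial
    have h2 := congrArg (fun m => m.hom ((Scheme.ΓSpecIso (CommRingCat.of R)).inv.hom r)) h1
    simp only [CommRingCat.hom_comp, RingHom.comp_apply] at h2
    rw [h2]
    rfl
  rw [hBmax, ← hkereq, hker, ← hmY, hy, Ideal.map_map, Ideal.map_map, hcomp]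

end Groth.Agent.S17018
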