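import Groth.Statements.S1702
import Mathlib
import Groth.Agent.Lib.Helper16.RelCartier

set_option autoImplicit false
universe u
open CategoryTheory CategoryTheory.Limits AlgebraicGeometry TopologicalSpace
open SDiv

namespace Groth.Agent.S1702

section helpers
open CategoryTheory CategoryTheory.Limits AlgebraicGeometry

open Groth.Agent.Lib.helper16.RelCartier

/-- ring level: extension -/
theorem ring_mul {A B : Type u} [CommRing A] [CommRing B] (φ : A →+* B) (t₁ t₂ : B)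
    (h₁ : t₁ ∈ nonZeroDivisors B)
    (hf₁ : ((Ideal.Quotient.mk (Ideal.span {t₁})).comp φ).Flat)
    (hf₂ : ((Ideal.Quotient.mk (Ideal.span {t₂})).comp φ).Flat) :
    ((Ideal.Quotient.mk (Ideal.span {t₁ * t₂})).comp φ).Flat := by
  algebraize [φ]
  have e : φ = algebraMap A B := rfl
  rw [e, flat_comp_mk_iff] at hf₁ hf₂ ⊢
  exact flat_of_exact (mulQ (A := A) t₁ t₂) (facQ (A := A) t₁ t₂) (mulQ_injective t₁ t₂ h₁)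
    (facQ_surjective t₁ t₂) (exact_mulQ_facQ t₁ t₂)

theorem main {X S : Scheme.{u}} (f : X ⟶ S) (𝓘₁ 𝓘₂ : X.IdealSheafData)
    (h₁ : (BlowUp.IsEffCartierIdeal 𝓘₁ ∧ Flat (𝓘₁.subschemeι ≫ f)))
    (h₂ : (BlowUp.IsEffCartierIdeal 𝓘₂ ∧ Flat (𝓘₂.subschemeι ≫ f))) :
    (BlowUp.IsEffCartierIdeal (𝓘₁ * 𝓘₂) ∧ Flat ((𝓘₁ * 𝓘₂).subschemeι ≫ f)) := by
  refine ⟨Groth.Agent.S1683.isEffCartierIdeal_mul _ _ h₁.1 h₂.1, ?_⟩
  haveI := h₁.2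
  haveI := h₂.2
  apply flat_sub_of_flat_quot
  intro x _
  obtain ⟨V, hV, hfx, _⟩ := Opens.isBasis_iff_nbhd.mp S.isBasis_affineOpens
      (Opens.mem_top <| f x)
  obtain ⟨D₁, hxD₁, hD₁W, t₁, ht₁, hI₁⟩ := exists_gen_le 𝓘₁ h₁.1 x (f ⁻¹ᵁ V) hfx
  obtain ⟨D, hxD, hDD₁, t₂, ht₂, hI₂⟩ := exists_gen_le 𝓘₂ h₂.1 x D₁.1 hxD₁
  obtain ⟨ht₁', hI₁'⟩ := gen_restrict 𝓘₁ D₁ D hDD₁ t₁ ht₁ hI₁
  set t₁' := (X.presheaf.map (homOfLE hDD₁).op).hom t₁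
  have e : D.1 ≤ f ⁻¹ᵁ V := hDD₁.trans hD₁W
  refine ⟨D, ⟨V, hV⟩, hxD, e, ?_⟩
  have hq₁ := flat_quot_of_flat_sub f 𝓘₁ D ⟨V, hV⟩ e
  have hq₂ := flat_quot_of_flat_sub f 𝓘₂ D ⟨V, hV⟩ e
  rw [hI₁'] at hq₁
  rw [hI₂] at hq₂
  have hmul : (𝓘₁ * 𝓘₂).ideal D = Ideal.span {t₁' * t₂} := by
    rw [Scheme.IdealSheafData.ideal_mul, Pi.mul_apply, hI₁', hI₂,
      Ideal.span_singleton_mul_span_singleton]
  rw [hmul]
  exact ring_mul _ t₁' t₂ ht₁' hq₁ hq₂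


end helpers


/-- Let f : X ⟶ S be a morphism and 𝓘₁, 𝓘₂ ideal sheaves of effective Cartier divisors on X whose closed
subschemes are flat over S. Then the product ideal 𝓘₁𝓘₂ (the sum of the divisors) is again the ideal
of an effective Cartier divisor flat over S. -/
theorem result {X S : Scheme.{u}} (f : X ⟶ S) (𝓘₁ 𝓘₂ : X.IdealSheafData)
    (h₁ : (BlowUp.IsEffCartierIdeal 𝓘₁ ∧ Flat (𝓘₁.subschemeι ≫ f))) (h₂ : (BlowUp.IsEffCartierIdeal 𝓘₂ ∧ Flat (𝓘₂.subschemeι ≫ f))) : (BlowUp.IsEffCartierIdeal (𝓘₁ * 𝓘₂) ∧ Flat ((𝓘₁ * 𝓘₂).subschemeι ≫ f)) := by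
  exact main f 𝓘₁ 𝓘₂ h₁ h₂

end Groth.Agent.S1702
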