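import Groth.Statements.S17023
import Mathlib.RingTheory.Unramified.LocalRing
import Mathlib.RingTheory.Smooth.Flat
import Mathlib.RingTheory.Smooth.StandardSmoothOfFree
import Mathlib.RingTheory.RingHom.StandardSmooth
import Mathlib.RingTheory.Etale.Basic
import Mathlib.RingTheory.DiscreteValuationRing.TFAE
import Mathlib.RingTheory.Filtration
import Mathlib.RingTheory.Flat.FaithfullyFlat.Basic
-- import your own Groth.Agent.* helpers here

set_option autoImplicit false
universe u
open FlatMor

namespace Groth.Agent.S17023

open IsLocalRing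

/-- a Noetherian local ring whose maximal ideal is generated by a nonzerodivisor is a domain -/
lemma isDomain_of_maximalIdeal_eq_span {R : Type*} [CommRing R] [IsNoetherianRing R]
    [IsLocalRing R] (ϖ : R) (hϖ : maximalIdeal R = Ideal.span {ϖ})
    (hreg : ∀ x : R, ϖ * x = 0 → x = 0) : IsDomain R := by
  have hpow : ∀ n, maximalIdeal R ^ n = Ideal.span {ϖ ^ n} := fun n => by
    rw [hϖ, Ideal.span_singleton_pow]
  have hpow_reg : ∀ n (x : R), ϖ ^ n * x = 0 → x = 0 := by
    intro n
    induction n with
    | zero => intro x hx; simpa using hx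
    | succ n ih =>
      intro x hx
      rw [pow_succ, mul_assoc] at hx
      exact hreg x (ih _ hx)
  have hfact : ∀ x : R, x ≠ 0 → ∃ (n : ℕ) (u : R), IsUnit u ∧ x = u * ϖ ^ n := by
    intro x hx
    have hinf : (⨅ n, maximalIdeal R ^ n) = ⊥ :=
      Ideal.iInf_pow_eq_bot_of_isLocalRing _ (maximalIdeal.isMaximal R).ne_top
    have hex : ∃ n, x ∉ maximalIdeal R ^ n := by
      by_contra hall
      push Not at hall
      have : x ∈ (⨅ n, maximalIdeal R ^ n) := by
        rw [Ideal.mem_iInf]
        exact hall
      rw [hinf] at this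
      exact hx this
    classical
    let n := Nat.find hex
    have hn : x ∉ maximalIdeal R ^ n := Nat.find_spec hex
    have hn0 : n ≠ 0 := by
      intro h0
      rw [h0, pow_zero, Ideal.one_eq_top] at hn
      exact hn Submodule.mem_top
    obtain ⟨m, hm⟩ := Nat.exists_eq_succ_of_ne_zero hn0
    have hm' : x ∈ maximalIdeal R ^ m := by
      by_contra h
      have := Nat.find_min' hex h
      omega
    rw [hpow, Ideal.mem_span_singleton] at hm'
    obtain ⟨u, hu⟩ := hm'
    refine ⟨m, u, ?_, by rw [hu, mul_comm]⟩
    by_contra hnu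
    have hum : u ∈ maximalIdeal R := hnu
    rw [hϖ, Ideal.mem_span_singleton] at hum
    obtain ⟨v, hv⟩ := hum
    apply hn
    rw [hm, hpow, Ideal.mem_span_singleton]
    exact ⟨v, by rw [hu, hv, pow_succ]; ring⟩
  have : NoZeroDivisors R := by
    refine ⟨fun {a b} hab => ?_⟩
    by_contra hne
    push Not at hne
    obtain ⟨n, u, hu, rfl⟩ := hfact a hne.1
    obtain ⟨m, v, hv, rfl⟩ := hfact b hne.2
    have h1 : ϖ ^ (n + m) * (u * v) = 0 := by
      rw [← hab, pow_add]
      ring
    have h2 := hpow_reg _ _ h1
    exact (hu.mul hv).ne_zero h2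
  exact NoZeroDivisors.to_isDomain R

/-- the local ring of an étale algebra over a DVR at a point of the special fibre with trivial
residue field extension is a DVR, unramified over the base -/
theorem dvr_of_isLocalization (B : Type u) [CommRing B] [IsDomain B] [IsDiscreteValuationRing B]
    (T : Type u) [CommRing T] [Algebra B T] [Algebra.Etale B T] (P : Ideal T) [P.IsPrime]
    (hP : P.comap (algebraMap B T) = maximalIdeal B)
    (hstar : ∀ t : T, ∃ b : B, t - algebraMap B T b ∈ P)
    (B' : Type u) [CommRing B'] [Algebra T B'] [IsLocalization.AtPrime B' P] [IsLocalRing B']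
    [Algebra B B'] [IsScalarTower B T B'] :
    ∃ (_ : IsDomain B'), IsDiscreteValuationRing B' ∧ Function.Injective (algebraMap B B') ∧
      (maximalIdeal B).map (algebraMap B B') = maximalIdeal B' ∧
      Function.Surjective ((residue B').comp (algebraMap B B')) := by
  have : IsNoetherianRing T := Algebra.FiniteType.isNoetherianRing B T
  have : IsNoetherianRing B' := IsLocalization.isNoetherianRing P.primeCompl B' inferInstance
  have : Algebra.FormallyUnramified B B' := by
    have : Algebra.FormallyUnramified T B' :=
      Algebra.FormallyUnramified.of_isLocalization P.primeCompl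
    exact Algebra.FormallyUnramified.comp B T B'
  have : Algebra.EssFiniteType B B' := by
    have : Algebra.EssFiniteType T B' := Algebra.EssFiniteType.of_isLocalization B' P.primeCompl
    exact Algebra.EssFiniteType.comp B T B'
  have hmem : ∀ b : B, b ∈ maximalIdeal B → algebraMap B B' b ∈ maximalIdeal B' := by
    intro b hb
    rw [IsScalarTower.algebraMap_apply B T B', IsLocalization.AtPrime.to_map_mem_maximal_iff B' P]
    have : b ∈ P.comap (algebraMap B T) := hP ▸ hb
    exact this
  have : IsLocalHom (algebraMap B B') := by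
    refine ⟨fun b hb => ?_⟩
    by_contra hnu
    exact (hmem b hnu) hb
  have hmap := Algebra.FormallyUnramified.map_maximalIdeal (R := B) (S := B')
  have : Module.Flat B B' := by
    have : Module.Flat T B' := IsLocalization.flat B' P.primeCompl
    exact Module.Flat.trans B T B'
  have hinj : Function.Injective (algebraMap B B') := by
    rw [injective_iff_map_eq_zero]
    intro b hb
    by_contra hb0
    have hreg : IsSMulRegular B b := (IsRegular.of_ne_zero hb0).left.isSMulRegular
    have hreg' : IsSMulRegular B' (algebraMap B B' b) := IsSMulRegular.of_flat hreg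
    have h10 : (1 : B') = 0 := by
      apply hreg'
      simp [hb]
    exact one_ne_zero h10
  obtain ⟨ϖ, hϖ⟩ := IsDiscreteValuationRing.exists_irreducible B
  have hϖm : maximalIdeal B = Ideal.span {ϖ} := hϖ.maximalIdeal_eq
  have hm' : maximalIdeal B' = Ideal.span {algebraMap B B' ϖ} := by
    rw [← hmap, hϖm, Ideal.map_span, Set.image_singleton]
  have hreg' : IsSMulRegular B' (algebraMap B B' ϖ) :=
    IsSMulRegular.of_flat (IsRegular.of_ne_zero hϖ.ne_zero).left.isSMulRegular
  have hdom : IsDomain B' := isDomain_of_maximalIdeal_eq_span (algebraMap B B' ϖ) hm'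
    (fun x hx => hreg' (by simpa using hx))
  have hnf : ¬ IsField B' := by
    rw [isField_iff_maximalIdeal_eq, hm', Ideal.span_singleton_eq_bot]
    intro h0
    exact hϖ.ne_zero (hinj (h0.trans (map_zero _).symm))
  have hdvr : IsDiscreteValuationRing B' :=
    ((IsDiscreteValuationRing.TFAE B' hnf).out 0 4).mpr
      (⟨⟨algebraMap B B' ϖ, hm'⟩⟩ : (maximalIdeal B').IsPrincipal)
  refine ⟨hdom, hdvr, hinj, hmap, ?_⟩
  intro x
  obtain ⟨y, rfl⟩ := residue_surjective x
  obtain ⟨t, s, rfl⟩ := IsLocalization.exists_mk'_eq P.primeCompl y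
  obtain ⟨bt, hbt⟩ := hstar t
  obtain ⟨bs, hbs⟩ := hstar s
  have hbsu : IsUnit bs := by
    by_contra hnu
    have h1 : bs ∈ P.comap (algebraMap B T) := hP ▸ hnu
    have h2 : (s : T) ∈ P := by
      have := P.add_mem hbs h1
      simpa using this
    exact s.2 h2
  obtain ⟨c, hc⟩ := hbsu.exists_right_inv
  refine ⟨bt * c, ?_⟩
  have hres : ∀ (t : T) (b : B), t - algebraMap B T b ∈ P →
      residue B' (algebraMap T B' t) = residue B' (algebraMap B B' b) := by
    intro t b h
    rw [← sub_eq_zero, ← map_sub, IsScalarTower.algebraMap_apply B T B', ← map_sub,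
      residue_eq_zero_iff, IsLocalization.AtPrime.to_map_mem_maximal_iff B' P]
    exact h
  have h1 : residue B' (IsLocalization.mk' B' t s) * residue B' (algebraMap T B' s) =
      residue B' (algebraMap T B' t) := by
    rw [← map_mul, IsLocalization.mk'_spec]
  rw [hres t bt hbt, hres s bs hbs] at h1
  have h2 : algebraMap B B' bs * algebraMap B B' c = 1 := by
    rw [← map_mul, hc, map_one]
  rw [RingHom.comp_apply, map_mul, map_mul, ← h1, mul_assoc, ← map_mul (residue B'), h2, map_one,
    mul_one]

open TensorProduct MvPolynomial in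
/-- from étale coordinates near a rational point of the special fibre, cut out an étale `B`-algebra
through the point -/
theorem exists_etale_point (B : Type u) [CommRing B] [IsLocalRing B]
    (A : Type u) [CommRing A] [Algebra B A] (Af : Type u) [CommRing Af] [Algebra A Af]
    [Algebra B Af] [IsScalarTower B A Af] (f : A) [IsLocalization.Away f Af]
    (p : Ideal A) [p.IsPrime] (hfp : f ∉ p)
    (hpB : p.comap (algebraMap B A) = maximalIdeal B)
    (hstarA : ∀ a : A, ∃ b : B, a - algebraMap B A b ∈ p)
    (n : ℕ) (g : MvPolynomial (Fin n) B →+* Af) (hgC : g.comp C = algebraMap B Af)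
    (hg : g.Etale) :
    ∃ (T : Type u) (_ : CommRing T) (_ : Algebra B T) (_ : Algebra.Etale B T) (φ : A →+* T)
      (P : Ideal T) (_ : P.IsPrime),
      φ.comp (algebraMap B A) = algebraMap B T ∧ P.comap φ = p ∧
        ∀ t : T, ∃ b : B, t - algebraMap B T b ∈ P := by
  classical
  have hdisj : Disjoint (Submonoid.powers f : Set A) (p : Set A) :=
    (Ideal.disjoint_powers_iff_notMem_of_isPrime f).mpr hfp
  let q : Ideal Af := p.map (algebraMap A Af)
  have hq : q.IsPrime :=
    IsLocalization.isPrime_of_isPrime_disjoint (Submonoid.powers f) Af p inferInstance hdisj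
  have hqc : q.comap (algebraMap A Af) = p :=
    IsLocalization.under_map_of_isPrime_disjoint (Submonoid.powers f) Af inferInstance hdisj
  have hmemq : ∀ a : A, algebraMap A Af a ∈ q ↔ a ∈ p := fun a => by
    rw [← hqc, Ideal.mem_comap]
  -- every element of `Af` is congruent to a constant mod `q`
  have hstarAf : ∀ x : Af, ∃ b : B, x - algebraMap B Af b ∈ q := by
    obtain ⟨bf, hbf⟩ := hstarA f
    have hbfu : IsUnit bf := by
      by_contra hnu
      have h1 : bf ∈ p.comap (algebraMap B A) := hpB ▸ hnu
      have h2 : f ∈ p := by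
        have := p.add_mem hbf h1
        simpa using this
      exact hfp h2
    obtain ⟨c, hc⟩ := hbfu.exists_right_inv
    intro x
    obtain ⟨⟨a, ⟨_, m, rfl⟩⟩, hx⟩ := IsLocalization.surj (Submonoid.powers f) x
    obtain ⟨ba, hba⟩ := hstarA a
    refine ⟨ba * c ^ m, ?_⟩
    have hfm : algebraMap A Af (f ^ m) ∉ q := by
      rw [hmemq]
      exact fun h => hfp (Ideal.IsPrime.mem_of_pow_mem inferInstance m h)
    refine (hq.mem_or_mem (?_ : (x - algebraMap B Af (ba * c ^ m)) * algebraMap A Af (f ^ m) ∈ q)
      ).resolve_right hfm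
    have h1 : (x - algebraMap B Af (ba * c ^ m)) * algebraMap A Af (f ^ m) =
        algebraMap A Af (a - algebraMap B A ba) +
          algebraMap A Af (algebraMap B A (ba * c ^ m) * (algebraMap B A bf ^ m - f ^ m)) := by
      have hx' : x * algebraMap A Af (f ^ m) = algebraMap A Af a := hx
      have h2 : algebraMap B A (ba * c ^ m) * algebraMap B A bf ^ m = algebraMap B A ba := by
        rw [← map_pow, ← map_mul, mul_assoc, ← mul_pow, mul_comm c bf, hc, one_pow, mul_one]
      rw [sub_mul, hx', IsScalarTower.algebraMap_apply B A Af, ← map_mul, ← map_sub, ← map_add]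
      congr 1
      rw [mul_sub, h2]
      ring
    rw [h1]
    refine q.add_mem ((hmemq _).mpr hba) ((hmemq _).mpr (p.mul_mem_left _ ?_))
    have h3 : (algebraMap B A bf - f) ∣ (algebraMap B A bf ^ m - f ^ m) := sub_dvd_pow_sub_pow _ _ m
    obtain ⟨d, hd⟩ := h3
    rw [hd]
    refine p.mul_mem_right _ ?_
    have := p.neg_mem hbf
    simpa using this
  choose b hb using fun i => hstarAf (g (X i))
  -- the algebra structures
  let algAf : Algebra (MvPolynomial (Fin n) B) Af := g.toAlgebra
  let algB : Algebra (MvPolynomial (Fin n) B) B :=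
    (aeval b : MvPolynomial (Fin n) B →ₐ[B] B).toRingHom.toAlgebra
  have : Algebra.Etale (MvPolynomial (Fin n) B) Af := hg
  have halgAf : ∀ r : MvPolynomial (Fin n) B, algebraMap (MvPolynomial (Fin n) B) Af r = g r :=
    fun r => rfl
  have halgB : ∀ r : MvPolynomial (Fin n) B, algebraMap (MvPolynomial (Fin n) B) B r = aeval b r :=
    fun r => rfl
  have hgC' : ∀ c : B, g (C c) = algebraMap B Af c := fun c => RingHom.congr_fun hgC c
  -- the map to `Af ⧸ q`
  have hcomm : ∀ r : MvPolynomial (Fin n) B,
      algebraMap B (Af ⧸ q) (algebraMap (MvPolynomial (Fin n) B) B r) =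
        algebraMap (MvPolynomial (Fin n) B) (Af ⧸ q) r := by
    intro r
    have h : (algebraMap B (Af ⧸ q)).comp (algebraMap (MvPolynomial (Fin n) B) B) =
        algebraMap (MvPolynomial (Fin n) B) (Af ⧸ q) := by
      apply MvPolynomial.ringHom_ext
      · intro c
        rw [RingHom.comp_apply, halgB, aeval_C, Algebra.algebraMap_self, RingHom.id_apply,
          IsScalarTower.algebraMap_apply (MvPolynomial (Fin n) B) Af (Af ⧸ q), halgAf, hgC',
          IsScalarTower.algebraMap_apply B Af (Af ⧸ q)]
      · intro i
        rw [RingHom.comp_apply, halgB, aeval_X,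
          IsScalarTower.algebraMap_apply (MvPolynomial (Fin n) B) Af (Af ⧸ q), halgAf,
          IsScalarTower.algebraMap_apply B Af (Af ⧸ q)]
        symm
        rw [Ideal.Quotient.algebraMap_eq, Ideal.Quotient.eq]
        exact hb i
    exact RingHom.congr_fun h r
  let f₁ : B →ₐ[MvPolynomial (Fin n) B] (Af ⧸ q) :=
    { (algebraMap B (Af ⧸ q)) with commutes' := hcomm }
  let χ : B ⊗[MvPolynomial (Fin n) B] Af →ₐ[MvPolynomial (Fin n) B] (Af ⧸ q) :=
    Algebra.TensorProduct.productMap f₁ (Ideal.Quotient.mkₐ (MvPolynomial (Fin n) B) q)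
  have hχ : ∀ (c : B) (y : Af), χ (c ⊗ₜ y) = algebraMap B (Af ⧸ q) c * Ideal.Quotient.mk q y :=
    fun c y => Algebra.TensorProduct.productMap_apply_tmul _ _ c y
  let φ : A →+* B ⊗[MvPolynomial (Fin n) B] Af :=
    (Algebra.TensorProduct.includeRight :
      Af →ₐ[MvPolynomial (Fin n) B] B ⊗[MvPolynomial (Fin n) B] Af).toRingHom.comp
      (algebraMap A Af)
  have hφ : ∀ a : A, φ a = (1 : B) ⊗ₜ[MvPolynomial (Fin n) B] algebraMap A Af a := fun a => rfl
  refine ⟨B ⊗[MvPolynomial (Fin n) B] Af, inferInstance, inferInstance, inferInstance, φ,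
    RingHom.ker (χ : B ⊗[MvPolynomial (Fin n) B] Af →+* Af ⧸ q), RingHom.ker_isPrime _, ?_, ?_, ?_⟩
  · ext c
    rw [RingHom.comp_apply, hφ, Algebra.TensorProduct.algebraMap_apply, Algebra.algebraMap_self,
      RingHom.id_apply, ← IsScalarTower.algebraMap_apply B A Af]
    have h1 : algebraMap B Af c = (C c : MvPolynomial (Fin n) B) • (1 : Af) := by
      rw [Algebra.smul_def, mul_one, halgAf, hgC']
    have h2 : (C c : MvPolynomial (Fin n) B) • (1 : B) = c := by
      rw [Algebra.smul_def, mul_one, halgB, aeval_C, Algebra.algebraMap_self, RingHom.id_apply]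
    rw [h1, ← TensorProduct.smul_tmul, h2]
  · ext a
    rw [Ideal.mem_comap, RingHom.mem_ker, hφ]
    change χ _ = 0 ↔ _
    rw [hχ, map_one, one_mul, Ideal.Quotient.eq_zero_iff_mem, hmemq]
  · intro t
    obtain ⟨y, hy⟩ := Ideal.Quotient.mk_surjective (χ t)
    obtain ⟨c, hc⟩ := hstarAf y
    refine ⟨c, ?_⟩
    rw [RingHom.mem_ker]
    change χ _ = 0
    rw [map_sub, sub_eq_zero, ← hy, Algebra.TensorProduct.algebraMap_apply,
      Algebra.algebraMap_self, RingHom.id_apply, hχ, map_one, mul_one,
      IsScalarTower.algebraMap_apply B Af (Af ⧸ q), Ideal.Quotient.algebraMap_eq,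
      Ideal.Quotient.eq]
    exact hc


/-- Let B be a discrete valuation ring, A a B-algebra of finite type and p a prime ideal of A which lies
over the maximal ideal of B (a point of the special fibre), at which A is smooth over B (the
localization A_p is formally smooth over B), and such that B maps onto the residue field κ(p). Then
there are a discrete valuation ring B' and a ring map ψ : A → B' pulling the maximal ideal of B'
back to p, such that the composite B → A → B' is injective, the maximal ideal of B generates the
maximal ideal of B', and B maps onto the residue field of B'; in other words Spec B' → Spec A → Spec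
B is surjective and unramified with trivial residue field extension. (The published statement does
not say that the closed point of Spec B' goes to p; it is required here. The published setting takes
A essentially of finite type over a field of characteristic zero; here A is taken of finite type
over B, with no ground field.) -/
theorem result
    (B : Type u) [CommRing B] [IsDomain B] [IsDiscreteValuationRing B]
    (A : Type u) [CommRing A] [Algebra B A] [Algebra.FiniteType B A]
    (p : Ideal A) [p.IsPrime] (hp : p.comap (algebraMap B A) = IsLocalRing.maximalIdeal B)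
    [Algebra.IsSmoothAt B p]
    (hres : Function.Surjective ((algebraMap A p.ResidueField).comp (algebraMap B A))) :
    ∃ (B' : Type u) (_ : CommRing B') (_ : IsDomain B') (_ : IsDiscreteValuationRing B') (ψ : A →+* B'),
      Ideal.comap ψ (IsLocalRing.maximalIdeal B') = p ∧
      Function.Injective (ψ.comp (algebraMap B A)) ∧
      Ideal.map (ψ.comp (algebraMap B A)) (IsLocalRing.maximalIdeal B) = IsLocalRing.maximalIdeal B' ∧
      Function.Surjective ((IsLocalRing.residue B').comp (ψ.comp (algebraMap B A))) := by
  have : Algebra.FinitePresentation B A := Algebra.FinitePresentation.of_finiteType.mp inferInstance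
  have hstarA : ∀ a : A, ∃ b : B, a - algebraMap B A b ∈ p := by
    intro a
    obtain ⟨b, hb⟩ := hres (algebraMap A p.ResidueField a)
    refine ⟨b, ?_⟩
    rw [← Ideal.algebraMap_residueField_eq_zero, map_sub, sub_eq_zero]
    exact hb.symm
  obtain ⟨f, hfp, hstd⟩ := Algebra.IsSmoothAt.exists_notMem_isStandardSmooth B p
  obtain ⟨n, g, hgC, hg⟩ := RingHom.IsStandardSmooth.exists_etale_mvPolynomial
    (f := algebraMap B (Localization.Away f)) (RingHom.isStandardSmooth_algebraMap.mpr hstd)
  obtain ⟨T, _, _, _, φ, P, _, hφB, hPφ, hstarT⟩ :=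
    exists_etale_point B A (Localization.Away f) f p hfp hp hstarA n g hgC hg
  have hPB : P.comap (algebraMap B T) = maximalIdeal B := by
    rw [← hφB, ← Ideal.comap_comap, hPφ, hp]
  obtain ⟨hdom, hdvr, hinj, hmap, hsurj⟩ :=
    dvr_of_isLocalization B T P hPB hstarT (Localization.AtPrime P)
  have hψB : ((algebraMap T (Localization.AtPrime P)).comp φ).comp (algebraMap B A) =
      algebraMap B (Localization.AtPrime P) := by
    rw [RingHom.comp_assoc, hφB, ← IsScalarTower.algebraMap_eq]
  refine ⟨Localization.AtPrime P, inferInstance, hdom, hdvr,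
    (algebraMap T (Localization.AtPrime P)).comp φ, ?_, ?_, ?_, ?_⟩
  · have h1 : Ideal.comap (algebraMap T (Localization.AtPrime P))
        (maximalIdeal (Localization.AtPrime P)) = P :=
      IsLocalization.AtPrime.under_maximalIdeal (Localization.AtPrime P) P
    rw [← Ideal.comap_comap, h1, hPφ]
  · rw [hψB]
    exact hinj
  · rw [hψB]
    exact hmap
  · rw [hψB]
    exact hsurj

end Groth.Agent.S17023
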