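import Groth.Statements.S1703
import Groth.Agent.LibRelH1Reg29
-- import your own Groth.Agent.* helpers here

set_option autoImplicit false
universe u
open CategoryTheory CategoryTheory.Limits AlgebraicGeometry TopologicalSpace
open SDiv

namespace Groth.Agent.S1703

/-- Let f : X ⟶ S be locally of finite presentation and 𝓘 the ideal sheaf of an effective Cartier
divisor D ⊂ X with D ⟶ S flat. Then there is an open subscheme U of X containing D such that U ⟶ S
is flat. -/
theorem result {X S : Scheme.{u}} (f : X ⟶ S) [LocallyOfFinitePresentation f] (𝓘 : X.IdealSheafData)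
    (hD : (BlowUp.IsEffCartierIdeal 𝓘 ∧ Flat (𝓘.subschemeι ≫ f))) : ∃ U : X.Opens, (𝓘.support : Set ↥X) ⊆ U ∧ Flat (U.ι ≫ f) := by
  obtain ⟨hcart, hflat⟩ := hD
  have hi : RegImm.IsRelRegularImmersion RegImm.Kind.h1 f 𝓘.subschemeι := by
    refine ⟨⟨inferInstance, fun z => ?_⟩, hflat⟩
    obtain ⟨U, hxU, t, ht, hI⟩ := hcart (𝓘.subschemeι z)
    refine ⟨U, hxU, inferInstance, [t], ?_, ?_⟩
    · intro a ha
      have h0 : a ⟨0, by simp⟩ * t = 0 := by
        have : (Finset.univ : Finset (Fin [t].length)) = {⟨0, by simp⟩} := by
          ext i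
          simp only [Finset.mem_univ, Finset.mem_singleton, true_iff]
          apply Fin.ext
          have := i.2
          simp only [List.length_singleton] at this
          simp
        rw [this, Finset.sum_singleton] at ha
        simpa using ha
      have h1 : a ⟨0, by simp⟩ = 0 := (mem_nonZeroDivisors_iff_right.mp ht) _ h0
      have ha0 : a = 0 := by
        funext i
        have hi0 : i = ⟨0, by simp⟩ := by
          apply Fin.ext
          have := i.2
          simp only [List.length_singleton] at this
          simp
        rw [hi0, h1]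
        rfl
      rw [ha0]
      exact Submodule.zero_mem _
    · rw [AlgebraicGeometry.Scheme.IdealSheafData.ker_subschemeι_app, hI, Ideal.ofList_singleton]
  obtain ⟨U, hU, hfl⟩ := Groth.Agent.LibRelH1Reg29.exists_flat_nbhd_of_relH1 f _ hi
  refine ⟨U, ?_, hfl⟩
  rw [← 𝓘.range_subschemeι]
  exact hU

end Groth.Agent.S1703
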