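import Groth.Statements.S1704
import Mathlib
import Groth.Agent.Lib.Helper16.QCohAss

set_option autoImplicit false
universe u
open CategoryTheory CategoryTheory.Limits AlgebraicGeometry TopologicalSpace
open SDiv

namespace Groth.Agent.S1704

section helpers
open CategoryTheory CategoryTheory.Limits AlgebraicGeometry TopologicalSpace

open Opposite
open Groth.Agent.Lib.helper16.QCohAss

theorem sections_eq_zero_of_isZero {X : Scheme.{u}} (F : X.Modules) (h : IsZero F) (U : X.Opens)
    (s : Γ(F, U)) : s = 0 := by
  have h1 : (𝟙 F : F ⟶ F) = 0 := h.eq_of_src _ _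
  have h2 : (Scheme.Modules.Hom.app (𝟙 F) U).hom s = (Scheme.Modules.Hom.app (0 : F ⟶ F) U).hom s := by
    rw [h1]
  simpa using h2

theorem isZero_of_sections_eq_zero {X : Scheme.{u}} (F : X.Modules)
    (h : ∀ (U : X.Opens) (s : Γ(F, U)), s = 0) : IsZero F := by
  rw [IsZero.iff_id_eq_zero]
  apply Scheme.Modules.hom_ext
  intro U
  ext s
  rw [h U s]
  simp

theorem main (X : Scheme.{u}) (F : X.Modules) (hF : Coh.IsQCoh F) :
    IsZero F ↔ ∀ x : ↥X, ¬ Curv2.IsAssPoint F x := by
  haveI : F.IsQuasicoherent := hF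
  constructor
  · intro h x hx
    have hsub : Subsingleton (F.presheaf.stalk x) := by
      refine ⟨fun a b => ?_⟩
      obtain ⟨U, hxU, s, rfl⟩ := F.presheaf.exists_germ_eq a
      obtain ⟨V, hxV, t, rfl⟩ := F.presheaf.exists_germ_eq b
      rw [sections_eq_zero_of_isZero F h U s, sections_eq_zero_of_isZero F h V t, map_zero, map_zero]
    exact not_isAssociatedPrime_of_subsingleton hx
  · intro h
    apply isZero_of_sections_eq_zero
    intro U s
    apply section_eq_zero_of_germ_eq_zero F U s
    intro x hx
    by_contra hne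
    obtain ⟨_, ⟨W, hW, rfl⟩, hxW, hWU⟩ :=
      X.isBasis_affineOpens.exists_subset_of_mem_open (show x ∈ (U : Set X) from hx) U.2
    have hWU' : W ≤ U := hWU
    set m := (F.presheaf.map (homOfLE hWU').op).hom s with hm
    have hm0 : (F.presheaf.germ W x hxW).hom m ≠ 0 := by
      rw [hm, TopCat.Presheaf.germ_res_apply F.presheaf (homOfLE hWU') x hxW s]; exact hne
    obtain ⟨y, hyW, -, hy, -⟩ := exists_weakAssPoint_specializes F hW x hxW m hm0
    exact h y ((isAssPoint_iff_isWeakAssPoint F y).2 hy)


end helpers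


/-- Let X be a locally Noetherian scheme and F a quasi-coherent module. Then F is zero if and only if F
has no associated point. -/
theorem result (X : Scheme.{u}) [IsLocallyNoetherian X] (F : X.Modules) (hF : Coh.IsQCoh F) :
    IsZero F ↔ ∀ x : ↥X, ¬ Curv2.IsAssPoint F x := by
  exact main X F hF

end Groth.Agent.S1704
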