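import Groth.Statements.S1706
import Mathlib
import Groth.Agent.Lib.Helper16.QCohAss

set_option autoImplicit false
universe u
open CategoryTheory CategoryTheory.Limits AlgebraicGeometry TopologicalSpace
open SDiv

namespace Groth.Agent.S1706

section helpers
open CategoryTheory CategoryTheory.Limits AlgebraicGeometry TopologicalSpace

open Opposite
open Groth.Agent.Lib.helper16.QCohAss

theorem main (X : Scheme.{u}) (F : X.Modules) (hF : Coh.IsQCoh F)
    (U : X.Opens) (hU : ∀ x : ↥X, Curv2.IsWeakAssPoint F x → x ∈ U) :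
    Function.Injective (F.presheaf.map (homOfLE (le_top : U ≤ ⊤)).op) := by
  haveI : F.IsQuasicoherent := hF
  rw [injective_iff_map_eq_zero]
  intro s hs
  apply section_eq_zero_of_germ_eq_zero F ⊤ s
  intro x hx
  by_contra hne
  -- restrict to an affine neighbourhood
  obtain ⟨_, ⟨W, hW, rfl⟩, hxW, -⟩ :=
    X.isBasis_affineOpens.exists_subset_of_mem_open (Set.mem_univ x) isOpen_univ
  set m := (F.presheaf.map (homOfLE (le_top : W ≤ ⊤)).op).hom s with hm
  have e1 : ∀ (y : X) (hy : y ∈ W), (F.presheaf.germ W y hy).hom m =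
      (F.presheaf.germ ⊤ y trivial).hom s := fun y hy =>
    TopCat.Presheaf.germ_res_apply F.presheaf (homOfLE (le_top : W ≤ ⊤)) y hy s
  have hm0 : (F.presheaf.germ W x hxW).hom m ≠ 0 := by rw [e1]; exact hne
  obtain ⟨y, hyW, -, hy, hym⟩ := exists_weakAssPoint_specializes F hW x hxW m hm0
  have hyU : y ∈ U := hU y hy
  apply hym
  rw [e1]
  have e2 := TopCat.Presheaf.germ_res_apply F.presheaf (homOfLE (le_top : U ≤ ⊤)) y hyU s
  rw [← e2]
  have : (F.presheaf.map (homOfLE (le_top : U ≤ ⊤)).op).hom s = 0 := hs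
  rw [this, map_zero]


end helpers


/-- Let X be a scheme, F a quasi-coherent module and U an open subset containing every weakly associated
point of F. Then the restriction map Γ(X, F) → Γ(U, F) is injective. -/
theorem result (X : Scheme.{u}) (F : X.Modules) (hF : Coh.IsQCoh F)
    (U : X.Opens) (hU : ∀ x : ↥X, Curv2.IsWeakAssPoint F x → x ∈ U) :
    Function.Injective (F.presheaf.map (homOfLE (le_top : U ≤ ⊤)).op) := by
  exact main X F hF U hU

end Groth.Agent.S1706
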