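import Groth.Statements.S17065
import Mathlib

set_option autoImplicit false
universe u
open CAlg

namespace Groth.Agent.S17065



/-- The local algebraic statement its proof establishes: let A be a Noetherian ring, I ≤ J radical
ideals and Â the J-adic completion of A. If J^n Â ⊆ I Â for some n, then the closed set V(J) is open
inside V(I) ⊆ Spec A. (Globally: if X₂ ⊆ X₁ are the completions of a locally Noetherian scheme along
nested closed subsets Z₂ ⊆ Z₁ and the ideal of Z₁ generates an ideal of definition of X₂, then X₂ is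
a union of connected components of X₁.) -/
theorem result (A : Type u) [CommRing A] [IsNoetherianRing A]
    (I J : Ideal A) (hIJ : I ≤ J) (hI : I.IsRadical) (hJ : J.IsRadical) (n : ℕ)
    (h : (J ^ n).map (algebraMap A (AdicCompletion J A)) ≤ I.map (algebraMap A (AdicCompletion J A))) :
    IsOpen ((fun x : PrimeSpectrum.zeroLocus (I : Set A) => (x : PrimeSpectrum A)) ⁻¹'
      PrimeSpectrum.zeroLocus (J : Set A)) := by
  have h1 : ∀ a ∈ J ^ n, ∀ k : ℕ, a ∈ I ⊔ J ^ k := by
    intro a ha k
    have hle : I.map (algebraMap A (AdicCompletion J A)) ≤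
        (I.map (Ideal.Quotient.mk (J ^ k))).comap (AdicCompletion.evalₐ J k) := by
      rw [Ideal.map_le_iff_le_comap]
      intro i hi
      rw [Ideal.mem_comap, Ideal.mem_comap]
      have : (AdicCompletion.evalₐ J k) (algebraMap A (AdicCompletion J A) i)
          = Ideal.Quotient.mk (J ^ k) i :=
        (AdicCompletion.evalₐ J k).commutes i
      rw [this]
      exact Ideal.mem_map_of_mem _ hi
    have h2 := hle (h (Ideal.mem_map_of_mem _ ha))
    rw [Ideal.mem_comap] at h2
    have h3 : (AdicCompletion.evalₐ J k) (algebraMap A (AdicCompletion J A) a)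
        = Ideal.Quotient.mk (J ^ k) a :=
      (AdicCompletion.evalₐ J k).commutes a
    rw [h3] at h2
    obtain ⟨i, hi, hia⟩ := (Ideal.mem_map_iff_of_surjective _ Ideal.Quotient.mk_surjective).mp h2
    have h4 : a - i ∈ J ^ k := by
      rw [← Ideal.Quotient.eq_zero_iff_mem, map_sub, hia, sub_self]
    have : a = i + (a - i) := by ring
    rw [this]
    exact Submodule.add_mem_sup hi h4
  obtain ⟨r, hr1, hr2⟩ : ∃ r : A, r - 1 ∈ J ∧ ∀ b ∈ J ^ n, r * b ∈ I := by
    have hfg : ((J.map (Ideal.Quotient.mk I)) ^ n : Ideal (A ⧸ I)).FG := IsNoetherian.noetherian _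
    have hle : (J.map (Ideal.Quotient.mk I)) ^ n ≤
        (J.map (Ideal.Quotient.mk I)) * ((J.map (Ideal.Quotient.mk I)) ^ n) := by
      rw [← pow_succ', ← Ideal.map_pow, ← Ideal.map_pow]
      intro a' ha'
      obtain ⟨a, ha, rfl⟩ := (Ideal.mem_map_iff_of_surjective _ Ideal.Quotient.mk_surjective).mp ha'
      obtain ⟨i, hi, b, hb, hab⟩ := Submodule.mem_sup.mp (h1 a ha (n+1))
      have : Ideal.Quotient.mk I a = Ideal.Quotient.mk I b := by
        rw [← hab, map_add, Ideal.Quotient.eq_zero_iff_mem.mpr hi, zero_add]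
      rw [this]
      exact Ideal.mem_map_of_mem _ hb
    obtain ⟨r', hr1', hr2'⟩ :=
      Submodule.exists_sub_one_mem_and_smul_eq_zero_of_fg_of_le_smul _ _ hfg hle
    obtain ⟨r, rfl⟩ := Ideal.Quotient.mk_surjective r'
    refine ⟨r, ?_, ?_⟩
    · have : Ideal.Quotient.mk I (r - 1) ∈ J.map (Ideal.Quotient.mk I) := by
        rw [map_sub, map_one]; exact hr1'
      obtain ⟨j, hj, hjr⟩ := (Ideal.mem_map_iff_of_surjective _ Ideal.Quotient.mk_surjective).mp this
      have h5 : r - 1 - j ∈ I := by
        rw [← Ideal.Quotient.eq_zero_iff_mem, map_sub, hjr, sub_self]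
      have : r - 1 = j + (r - 1 - j) := by ring
      rw [this]
      exact J.add_mem hj (hIJ h5)
    · intro b hb
      have h6 := hr2' (Ideal.Quotient.mk I b)
        (by rw [← Ideal.map_pow]; exact Ideal.mem_map_of_mem _ hb)
      rw [smul_eq_mul, ← map_mul] at h6
      exact Ideal.Quotient.eq_zero_iff_mem.mp h6
  have hset : ((fun x : PrimeSpectrum.zeroLocus (I : Set A) => (x : PrimeSpectrum A)) ⁻¹'
      PrimeSpectrum.zeroLocus (J : Set A)) =
      (fun x : PrimeSpectrum.zeroLocus (I : Set A) => (x : PrimeSpectrum A)) ⁻¹'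
        (PrimeSpectrum.basicOpen r : Set (PrimeSpectrum A)) := by
    ext x
    rw [Set.mem_preimage, Set.mem_preimage, PrimeSpectrum.mem_zeroLocus]
    have hx : (I : Set A) ⊆ x.1.asIdeal := (PrimeSpectrum.mem_zeroLocus _ _).mp x.2
    constructor
    · intro hJx
      show r ∉ x.1.asIdeal
      intro hr
      apply x.1.isPrime.ne_top
      rw [Ideal.eq_top_iff_one]
      have : (1:A) = r - (r - 1) := by ring
      rw [this]
      exact Ideal.sub_mem _ hr (hJx hr1)
    · intro hr
      have hr' : r ∉ x.1.asIdeal := hr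
      intro j hj
      have h7 := hx (hr2 (j^n) (Ideal.pow_mem_pow hj n))
      rcases x.1.isPrime.mem_or_mem h7 with h8 | h8
      · exact absurd h8 hr'
      · exact x.1.isPrime.mem_of_pow_mem n h8
  rw [hset]
  exact (PrimeSpectrum.basicOpen r).isOpen.preimage continuous_subtype_val


end Groth.Agent.S17065
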