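import Groth.Statements.S17077
import Groth.Agent.Lib.Helper5.BinaryForms

set_option autoImplicit false
universe u
open RatCurve

namespace Groth.Agent.S17077

open Groth.Agent.Lib.Helper5.BinaryForms

/-- Let k be an algebraically closed field and F_0, …, F_{n-1} homogeneous polynomials in k[u, v] (of
possibly different degrees). Then the F_i have a common factor which is not a unit if and only if
they have a common zero (a, b) ≠ (0, 0) in k², that is, a common zero in the projective line. -/
theorem result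
    {k : Type u} [Field k] [IsAlgClosed k] {n : ℕ} (F : Fin n → MvPolynomial (Fin 2) k)
    (d : Fin n → ℕ) (hF : ∀ i, (F i).IsHomogeneous (d i)) :
    (∃ H : MvPolynomial (Fin 2) k, ¬ IsUnit H ∧ ∀ i, H ∣ F i) ↔
      ∃ a : Fin 2 → k, a ≠ 0 ∧ ∀ i, MvPolynomial.eval a (F i) = 0 := by
  constructor
  · rintro ⟨H, hH, hdvd⟩
    by_contra hcon
    push Not at hcon
    apply hH
    let I : Ideal (MvPolynomial (Fin 2) k) := Ideal.span (Set.range F)
    have hI : ∀ a : Fin 2 → k, (∀ p ∈ I, MvPolynomial.eval a p = 0) → a = 0 := by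
      intro a ha
      by_contra ha0
      obtain ⟨i, hi⟩ := hcon a ha0
      exact hi (ha (F i) (Ideal.subset_span ⟨i, rfl⟩))
    have hIH : I ≤ Ideal.span {H} := by
      rw [Ideal.span_le]
      rintro _ ⟨i, rfl⟩
      exact Ideal.mem_span_singleton.mpr (hdvd i)
    obtain ⟨N, hN⟩ := exists_X_pow_mem I hI 0
    obtain ⟨M, hM⟩ := exists_X_pow_mem I hI 1
    exact isUnit_of_dvd_X_pow (Ideal.mem_span_singleton.mp (hIH hN))
      (Ideal.mem_span_singleton.mp (hIH hM))
  · rintro ⟨a, ha, hzero⟩
    exact ⟨lin a, lin_not_isUnit a, fun i => lin_dvd_of_eval_eq_zero (hF i) a ha (hzero i)⟩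

end Groth.Agent.S17077
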