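import Groth.Statements.S17078
import Groth.Agent.S17077
import Groth.Agent.Lib.Helper5.BinaryForms

set_option autoImplicit false
universe u
open RatCurve

namespace Groth.Agent.S17078

open Groth.Agent.Lib.Helper5.BinaryForms

section aux
open MvPolynomial
attribute [local instance] MvPolynomial.gradedAlgebra

lemma homogeneousComponent_mul_of_isHomogeneous {k : Type u} [CommRing k] {σ : Type*}
    {F G : MvPolynomial σ k} {d j : ℕ} (hF : F.IsHomogeneous d) :
    homogeneousComponent (d + j) (F * G) = F * homogeneousComponent j G := by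
  classical
  have := DirectSum.coe_decompose_mul_add_of_left_mem (homogeneousSubmodule σ k) (i := d) (j := j)
    (a := F) (b := G) ((mem_homogeneousSubmodule d F).mpr hF)
  rw [← decomposition.decompose'_apply, ← decomposition.decompose'_apply]
  exact this

/-- a homogeneous polynomial of degree `m ≥ N + M` lies in any ideal containing `X 0 ^ N`, `X 1 ^ M` -/
lemma mem_of_isHomogeneous_of_le {k : Type u} [CommRing k] (I : Ideal (MvPolynomial (Fin 2) k))
    {N M m : ℕ} (hN : (X 0 : MvPolynomial (Fin 2) k) ^ N ∈ I)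
    (hM : (X 1 : MvPolynomial (Fin 2) k) ^ M ∈ I) (hm : N + M ≤ m)
    {P : MvPolynomial (Fin 2) k} (hP : P.IsHomogeneous m) : P ∈ I := by
  classical
  rw [P.as_sum]
  refine Ideal.sum_mem _ (fun s hs => ?_)
  have hdeg : s 0 + s 1 = m := by
    have h := hP (mem_support_iff.mp hs)
    have h' : s.degree = m := by
      rw [Finsupp.degree_eq_weight_one]
      exact h
    rw [Finsupp.degree_eq_sum, Fin.sum_univ_two] at h'
    exact h'
  rw [monomial_eq, Finsupp.prod_fintype _ _ (fun i => pow_zero _), Fin.prod_univ_two]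
  by_cases h0 : N ≤ s 0
  · have : (X 0 : MvPolynomial (Fin 2) k) ^ s 0 = X 0 ^ N * X 0 ^ (s 0 - N) := by
      rw [← pow_add, Nat.add_sub_cancel' h0]
    rw [this]
    exact I.mul_mem_left _ (I.mul_mem_right _ (I.mul_mem_right _ hN))
  · have h1 : M ≤ s 1 := by omega
    have : (X 1 : MvPolynomial (Fin 2) k) ^ s 1 = X 1 ^ M * X 1 ^ (s 1 - M) := by
      rw [← pow_add, Nat.add_sub_cancel' h1]
    rw [this]
    exact I.mul_mem_left _ (I.mul_mem_left _ (I.mul_mem_right _ hM))

end aux

/-- Let k be an algebraically closed field and F_0, …, F_{n-1} homogeneous polynomials of degree d in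
k[u, v]. Then the F_i have no common factor other than units if and only if there is an integer m ≥
d such that every homogeneous polynomial of degree m can be written Σ_i F_i G_i with each G_i
homogeneous of degree m − d, i.e. the k-linear map (G_i)_i ↦ Σ_i F_i G_i from n copies of k[u,
v]_{m−d} to k[u, v]_m is surjective. -/
theorem result
    {k : Type u} [Field k] [IsAlgClosed k] {n : ℕ} (F : Fin n → MvPolynomial (Fin 2) k)
    (d : ℕ) (hF : ∀ i, (F i).IsHomogeneous d) :
    (¬ ∃ H : MvPolynomial (Fin 2) k, ¬ IsUnit H ∧ ∀ i, H ∣ F i) ↔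
      ∃ m : ℕ, d ≤ m ∧ ∀ P : MvPolynomial (Fin 2) k, P.IsHomogeneous m →
        ∃ G : Fin n → MvPolynomial (Fin 2) k, (∀ i, (G i).IsHomogeneous (m - d)) ∧
          P = ∑ i, F i * G i := by
  have h77 := Groth.Agent.S17077.result F (fun _ => d) hF
  constructor
  · intro hno
    rw [h77] at hno
    push Not at hno
    let I : Ideal (MvPolynomial (Fin 2) k) := Ideal.span (Set.range F)
    have hI : ∀ a : Fin 2 → k, (∀ p ∈ I, MvPolynomial.eval a p = 0) → a = 0 := by
      intro a ha
      by_contra ha0
      obtain ⟨i, hi⟩ := hno a ha0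
      exact hi (ha (F i) (Ideal.subset_span ⟨i, rfl⟩))
    obtain ⟨N, hN⟩ := exists_X_pow_mem I hI 0
    obtain ⟨M, hM⟩ := exists_X_pow_mem I hI 1
    refine ⟨max d (N + M), le_max_left _ _, ?_⟩
    intro P hP
    have hPI : P ∈ I := mem_of_isHomogeneous_of_le I hN hM (le_max_right _ _) hP
    obtain ⟨G', hG'⟩ := (Ideal.mem_span_range_iff_exists_fun).mp hPI
    refine ⟨fun i => MvPolynomial.homogeneousComponent (max d (N + M) - d) (G' i),
      fun i => MvPolynomial.homogeneousComponent_isHomogeneous _ _, ?_⟩
    have h1 : MvPolynomial.homogeneousComponent (max d (N + M)) P = P :=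
      MvPolynomial.homogeneousComponent_of_mem hP |>.trans (if_pos rfl)
    rw [← h1, ← hG', map_sum]
    refine Finset.sum_congr rfl (fun i _ => ?_)
    have h2 : max d (N + M) = d + (max d (N + M) - d) := by
      have := le_max_left d (N + M)
      omega
    rw [mul_comm (G' i) (F i)]
    conv_lhs => rw [h2]
    exact homogeneousComponent_mul_of_isHomogeneous (hF i)
  · rintro ⟨m, hdm, hsurj⟩ hex
    obtain ⟨a, ha, hzero⟩ := h77.mp hex
    obtain ⟨j, hj⟩ : ∃ j, a j ≠ 0 := by
      by_contra hcon
      push Not at hcon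
      exact ha (funext hcon)
    obtain ⟨G, -, hG⟩ := hsurj (MvPolynomial.X j ^ m) (MvPolynomial.isHomogeneous_X_pow j m)
    have := congrArg (MvPolynomial.eval a) hG
    rw [map_sum, map_pow, MvPolynomial.eval_X] at this
    have hz : ∑ i, MvPolynomial.eval a (F i * G i) = 0 :=
      Finset.sum_eq_zero (fun i _ => by rw [map_mul, hzero i, zero_mul])
    rw [hz] at this
    exact pow_ne_zero m hj this

end Groth.Agent.S17078
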