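import Groth.Statements.S17079
import Mathlib

set_option autoImplicit false
universe u
open CategoryTheory CategoryTheory.Limits AlgebraicGeometry
open MorSch

namespace Groth.Agent.S17079

section
set_option linter.unusedSimpArgs false

variable {X Y S S' : Scheme.{u}} (gX : X ⟶ S) (gY : Y ⟶ S) (h : S' ⟶ S)

noncomputable def fwd {T : Scheme.{u}} (t : T ⟶ S') :
    pullback t (pullback.snd gX h) ⟶ pullback (t ≫ h) gX :=
  pullback.lift (pullback.fst _ _) (pullback.snd _ _ ≫ pullback.fst gX h)
    (by
      rw [← Category.assoc, pullback.condition, Category.assoc, Category.assoc,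
        ← pullback.condition (f := gX) (g := h)])

noncomputable def bwd {T : Scheme.{u}} (t : T ⟶ S') :
    pullback (t ≫ h) gX ⟶ pullback t (pullback.snd gX h) :=
  pullback.lift (pullback.fst _ _)
    (pullback.lift (pullback.snd _ _) (pullback.fst _ _ ≫ t)
      (by rw [Category.assoc, pullback.condition]))
    (by rw [pullback.lift_snd])

theorem fwd_bwd {T : Scheme.{u}} (t : T ⟶ S') : fwd gX h t ≫ bwd gX h t = 𝟙 _ := by
  apply pullback.hom_ext
  · simp [fwd, bwd, pullback.lift_fst, pullback.lift_snd, pullback.lift_fst_assoc, pullback.lift_snd_assoc]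
  · apply pullback.hom_ext
    · simp [fwd, bwd, pullback.lift_fst, pullback.lift_snd, pullback.lift_fst_assoc, pullback.lift_snd_assoc]
    · simp [fwd, bwd, pullback.condition, pullback.lift_fst, pullback.lift_snd, pullback.lift_fst_assoc, pullback.lift_snd_assoc]

theorem bwd_fwd {T : Scheme.{u}} (t : T ⟶ S') : bwd gX h t ≫ fwd gX h t = 𝟙 _ := by
  apply pullback.hom_ext <;> simp [fwd, bwd, pullback.lift_fst, pullback.lift_snd, pullback.lift_fst_assoc, pullback.lift_snd_assoc]

/-- the two composite functors -/
noncomputable abbrev PX : Over S ⥤ Over S := Over.pullback gX ⋙ Over.map gX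
noncomputable abbrev PX' : Over S' ⥤ Over S' :=
  Over.pullback (pullback.snd gX h) ⋙ Over.map (pullback.snd gX h)

noncomputable def theta (T' : Over S') :
    (Over.map h).obj ((PX' gX h).obj T') ≅ (PX gX).obj ((Over.map h).obj T') :=
  Over.isoMk ⟨fwd gX h T'.hom, bwd gX h T'.hom, fwd_bwd gX h T'.hom, bwd_fwd gX h T'.hom⟩ (by
    change fwd gX h T'.hom ≫ pullback.snd (T'.hom ≫ h) gX ≫ gX =
      (pullback.snd T'.hom (pullback.snd gX h) ≫ pullback.snd gX h) ≫ h
    rw [fwd, pullback.lift_snd_assoc, Category.assoc, Category.assoc, pullback.condition])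

theorem theta_natural {T'' T' : Over S'} (g : T'' ⟶ T') :
    (theta gX h T'').hom ≫ (PX gX).map ((Over.map h).map g) =
      (Over.map h).map ((PX' gX h).map g) ≫ (theta gX h T').hom := by
  apply Over.OverMorphism.ext
  change fwd gX h T''.hom ≫ pullback.lift (pullback.fst (T''.hom ≫ h) gX ≫ g.left)
      (pullback.snd (T''.hom ≫ h) gX) _ =
    pullback.lift (pullback.fst T''.hom (pullback.snd gX h) ≫ g.left)
      (pullback.snd T''.hom (pullback.snd gX h)) _ ≫ fwd gX h T'.hom
  apply pullback.hom_ext <;>
    simp [fwd, pullback.lift_fst, pullback.lift_snd, pullback.lift_fst_assoc,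
      pullback.lift_snd_assoc]

noncomputable def rep (M : Over S) (e : (Flatn.morS gX gY).RepresentableBy M) :
    (Flatn.morS (pullback.snd gX h) (pullback.snd gY h)).RepresentableBy
      ((Over.pullback h).obj M) where
  homEquiv {T'} :=
    (((Over.mapPullbackAdj h).homEquiv T' M).symm.trans
      (e.homEquiv (X := (Over.map h).obj T'))).trans
    (((theta gX h T').symm.homFromEquiv (Z := Over.mk gY)).trans
      ((Over.mapPullbackAdj h).homEquiv ((PX' gX h).obj T') (Over.mk gY)))
  homEquiv_comp {T'' T'} g x := by
    change (Over.mapPullbackAdj h).homEquiv _ _ ((theta gX h T'').hom ≫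
      e.homEquiv (((Over.mapPullbackAdj h).homEquiv T'' M).symm (g ≫ x))) =
      (PX' gX h).map g ≫ (Over.mapPullbackAdj h).homEquiv _ _ ((theta gX h T').hom ≫
      e.homEquiv (((Over.mapPullbackAdj h).homEquiv T' M).symm x))
    rw [Adjunction.homEquiv_naturality_left_symm, e.homEquiv_comp,
      ← Adjunction.homEquiv_naturality_left]
    congr 1
    let y : (PX gX).obj ((Over.map h).obj T') ⟶ Over.mk gY :=
      e.homEquiv (((Over.mapPullbackAdj h).homEquiv T' M).symm x)
    change (theta gX h T'').hom ≫ (PX gX).map ((Over.map h).map g) ≫ y =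
      (Over.map h).map ((PX' gX h).map g) ≫ (theta gX h T').hom ≫ y
    rw [← Category.assoc, theta_natural, Category.assoc]

end

/-- Let gX : X → S and gY : Y → S be morphisms and suppose the functor Mor_S(X, Y) — sending an S-scheme
T to the set of S-morphisms T ×_S X → Y, with base change as transition maps — is represented by an
S-scheme M. Then for every morphism h : S' → S the functor Mor_{S'}(X ×_S S', Y ×_S S') on
S'-schemes is represented by M ×_S S'. (The published statement assumes X and Y projective over S
with X flat and S, S' locally Noetherian; this row assumes only that the functor is represented by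
M. Only the existence of a representing structure on M ×_S S' is asserted, not its compatibility
with the one on M.) -/
theorem result
    {X Y S S' : Scheme.{u}} (gX : X ⟶ S) (gY : Y ⟶ S) (h : S' ⟶ S)
    (M : Over S) (e : (Flatn.morS gX gY).RepresentableBy M) :
    Nonempty ((Flatn.morS (pullback.snd gX h) (pullback.snd gY h)).RepresentableBy
      (Over.mk (pullback.snd M.hom h))) := by
  exact ⟨rep gX gY h M e⟩

end Groth.Agent.S17079
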