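import Groth.Statements.S17084
import Mathlib

set_option autoImplicit false
universe u
open CategoryTheory CategoryTheory.Limits AlgebraicGeometry
open MorSch

namespace Groth.Agent.S17084

theorem isColimit_pullback_sigma {S : Scheme.{u}} {ι : Type u} [Finite ι] (X : ι → Scheme.{u})
    (g : ∀ i, X i ⟶ S) {T : Scheme.{u}} (t : T ⟶ S) :
    Nonempty (IsColimit (Cofan.mk (pullback t (Sigma.desc g)) (fun i =>
      pullback.map t (g i) t (Sigma.desc g) (𝟙 T) (Sigma.ι X i) (𝟙 S)
          ((Category.comp_id _).trans (Category.id_comp _).symm)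
          ((Category.comp_id _).trans (Sigma.ι_desc g i).symm)))) := by
  have hu : IsUniversalColimit (Cofan.mk (∐ X) (Sigma.ι X)) :=
    FinitaryPreExtensive.isUniversal_finiteCoproducts (coproductIsCoproduct X)
  refine hu _ (Discrete.natTrans fun i => pullback.snd t (g i.as)) (pullback.snd t (Sigma.desc g))
    ?_ (.of_discrete _) ?_
  · ext ⟨i⟩
    dsimp
    exact (pullback.lift_snd _ _ _).symm
  · rintro ⟨i⟩
    dsimp
    refine IsPullback.of_right (h₁₂ := pullback.fst t (Sigma.desc g)) (v₁₃ := t)
      (h₂₂ := Sigma.desc g) ?_ (pullback.lift_snd _ _ _) (IsPullback.of_hasPullback _ _)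
    have e1 : pullback.map t (g i) t (Sigma.desc g) (𝟙 T) (Sigma.ι X i) (𝟙 S)
          ((Category.comp_id _).trans (Category.id_comp _).symm)
          ((Category.comp_id _).trans (Sigma.ι_desc g i).symm) ≫ pullback.fst t (Sigma.desc g) =
        pullback.fst t (g i) := (pullback.lift_fst _ _ _).trans (Category.comp_id _)
    rw [e1, Sigma.ι_desc]
    exact IsPullback.of_hasPullback _ _



/-- Let (X_i)_{i ∈ ι} be a finite family of schemes over S with structure morphisms g_i : X_i → S, let Y
→ S be a scheme over S and T an S-scheme. Then for every family of S-morphisms a_i : T ×_S X_i → Y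
there is a unique S-morphism b : T ×_S (∐_i X_i) → Y whose restriction along each T ×_S X_i → T ×_S
(∐_i X_i) is a_i. In other words the canonical map Mor_S(∐_i X_i, Y) → ∏_i Mor_S(X_i, Y) of functors
on S-schemes is an isomorphism. -/
theorem result
    {S Y : Scheme.{u}} {ι : Type u} [Finite ι] (X : ι → Scheme.{u}) (g : ∀ i, X i ⟶ S)
    (gY : Y ⟶ S) (T : Over S) (a : ∀ i, (Flatn.morS (g i) gY).obj (Opposite.op T)) :
    ∃! b : (Flatn.morS (Sigma.desc g) gY).obj (Opposite.op T),
      ∀ i, pullback.map T.hom (g i) T.hom (Sigma.desc g) (𝟙 T.left) (Sigma.ι X i) (𝟙 S)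
          ((Category.comp_id _).trans (Category.id_comp _).symm)
          ((Category.comp_id _).trans (Sigma.ι_desc g i).symm) ≫ b.left = (a i).left := by
  obtain ⟨hc⟩ := isColimit_pullback_sigma X g T.hom
  have hm : ∀ i, pullback.map T.hom (g i) T.hom (Sigma.desc g) (𝟙 T.left) (Sigma.ι X i) (𝟙 S)
          ((Category.comp_id _).trans (Category.id_comp _).symm)
          ((Category.comp_id _).trans (Sigma.ι_desc g i).symm) ≫ pullback.snd T.hom (Sigma.desc g) =
        pullback.snd T.hom (g i) ≫ Sigma.ι X i := fun i => pullback.lift_snd _ _ _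
  have hfac : ∀ i, pullback.map T.hom (g i) T.hom (Sigma.desc g) (𝟙 T.left) (Sigma.ι X i) (𝟙 S)
          ((Category.comp_id _).trans (Category.id_comp _).symm)
          ((Category.comp_id _).trans (Sigma.ι_desc g i).symm) ≫
          Cofan.IsColimit.desc hc (fun i => (a i).left) = (a i).left :=
    fun i => Cofan.IsColimit.fac hc _ i
  refine ⟨Over.homMk (Cofan.IsColimit.desc hc (fun i => (a i).left)) ?_, ?_, ?_⟩
  · refine Cofan.IsColimit.hom_ext hc _ _ (fun i => ?_)
    have hw := Over.w (a i)
    dsimp [Over.pullback] at hw ⊢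
    rw [reassoc_of% (hfac i)]
    erw [hw]
    rw [reassoc_of% (hm i), Sigma.ι_desc]
  · intro i
    exact hfac i
  · intro b hb
    apply Over.OverMorphism.ext
    refine Cofan.IsColimit.hom_ext hc _ _ (fun i => ?_)
    exact (hb i).trans (hfac i).symm

end Groth.Agent.S17084
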