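import Groth.Statements.S17088
import Mathlib

set_option autoImplicit false
universe u
open CategoryTheory CategoryTheory.Limits AlgebraicGeometry
open MorSch

namespace Groth.Agent.S17088

/-- Let f : X → S be a separated morphism, ι : W → X an immersion and T an S-scheme. For every closed
subscheme V of W ×_S T which is proper and flat over T — a T-point of the Hilbert functor of W over
S — the composite V → W ×_S T → X ×_S T is a closed immersion, and the map sending V to the ideal
sheaf of this composite, from T-points of the Hilbert functor of W to ideal sheaves on X ×_S T, is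
injective: an immersion induces a monomorphism of Hilbert functors. -/
theorem result
    {W X S : Scheme.{u}} (f : X ⟶ S) [IsSeparated f] (ι : W ⟶ X) [IsImmersion ι]
    (T : Over S) :
    (∀ V : FGA.HilbSet (ι ≫ f) T,
      IsClosedImmersion (V.1.subschemeι ≫ pullback.map (ι ≫ f) T.hom f T.hom ι (𝟙 T.left) (𝟙 S)
          (Category.comp_id _) ((Category.comp_id _).trans (Category.id_comp _).symm))) ∧
    Function.Injective (fun V : FGA.HilbSet (ι ≫ f) T =>
      (V.1.subschemeι ≫ pullback.map (ι ≫ f) T.hom f T.hom ι (𝟙 T.left) (𝟙 S)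
          (Category.comp_id _) ((Category.comp_id _).trans (Category.id_comp _).symm)).ker) := by
  set m := pullback.map (ι ≫ f) T.hom f T.hom ι (𝟙 T.left) (𝟙 S)
          (Category.comp_id _) ((Category.comp_id _).trans (Category.id_comp _).symm) with hm
  have hm1 : m ≫ pullback.fst f T.hom = pullback.fst (ι ≫ f) T.hom ≫ ι := pullback.lift_fst _ _ _
  have hm2 : m ≫ pullback.snd f T.hom = pullback.snd (ι ≫ f) T.hom :=
    (pullback.lift_snd _ _ _).trans (Category.comp_id _)
  -- m is a base change of ι
  have hpb : IsPullback m (pullback.fst (ι ≫ f) T.hom) (pullback.fst f T.hom) ι := by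
    refine IsPullback.of_right (h₁₂ := pullback.snd f T.hom) (v₁₃ := T.hom) (h₂₂ := f) ?_ hm1
      (IsPullback.of_hasPullback f T.hom).flip
    rw [hm2]
    exact (IsPullback.of_hasPullback (ι ≫ f) T.hom).flip
  haveI : IsImmersion m := MorphismProperty.of_isPullback hpb.flip inferInstance
  have hcl : ∀ V : FGA.HilbSet (ι ≫ f) T, IsClosedImmersion (V.1.subschemeι ≫ m) := by
    intro V
    obtain ⟨hprop, -⟩ := V.2
    haveI : IsProper ((V.1.subschemeι ≫ m) ≫ pullback.snd f T.hom) := by
      rw [Category.assoc, hm2]; exact hprop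
    haveI : IsProper (V.1.subschemeι ≫ m) := IsProper.of_comp _ (pullback.snd f T.hom)
    haveI : IsPreimmersion (V.1.subschemeι ≫ m) := inferInstance
    exact IsClosedImmersion.of_isPreimmersion _ (Scheme.Hom.isClosedMap _).isClosed_range
  refine ⟨hcl, ?_⟩
  intro V₁ V₂ h
  dsimp only at h
  haveI := hcl V₁
  haveI := hcl V₂
  haveI : Mono m := inferInstance
  have key : ∀ (A B : FGA.HilbSet (ι ≫ f) T) [IsClosedImmersion (A.1.subschemeι ≫ m)]
      [IsClosedImmersion (B.1.subschemeι ≫ m)],
      (A.1.subschemeι ≫ m).ker = (B.1.subschemeι ≫ m).ker → B.1 ≤ A.1 := by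
    intro A B _ _ hAB
    let e := IsClosedImmersion.lift (B.1.subschemeι ≫ m) (A.1.subschemeι ≫ m) hAB.ge
    have he : e ≫ B.1.subschemeι ≫ m = A.1.subschemeι ≫ m := IsClosedImmersion.lift_fac _ _ _
    have he' : e ≫ B.1.subschemeι = A.1.subschemeι := by
      rw [← cancel_mono m, Category.assoc, he]
    have := Scheme.Hom.le_ker_comp e B.1.subschemeι
    rwa [he', Scheme.IdealSheafData.ker_subschemeι, Scheme.IdealSheafData.ker_subschemeι] at this
  exact Subtype.ext (le_antisymm (key V₂ V₁ h.symm) (key V₁ V₂ h))

end Groth.Agent.S17088
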