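import Groth.Statements.S1709
import Mathlib
import Groth.Agent.Lib.Helper16.QCohPush2

set_option autoImplicit false
universe u
open CategoryTheory CategoryTheory.Limits AlgebraicGeometry TopologicalSpace
open SDiv

namespace Groth.Agent.S1709

section helpers
open CategoryTheory CategoryTheory.Limits AlgebraicGeometry TopologicalSpace

open Opposite
open Groth.Agent.Lib.helper16.QCohAss Groth.Agent.Lib.helper16.QCohPush
open Groth.Agent.Lib.helper16.QCohPush2

/-- weakly associated points of an affine pushforward from a locally Noetherian scheme -/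
theorem weak_eq {X S : Scheme.{u}} (f : X ⟶ S) [IsAffineHom f] [IsLocallyNoetherian X]
    (F : X.Modules) [F.IsQuasicoherent] :
    {s : ↥S | Curv2.IsWeakAssPoint (push f F) s} =
      (fun x => f x) '' {x : ↥X | Curv2.IsWeakAssPoint F x} := by
  ext s
  constructor
  · intro hs
    obtain ⟨x, hx, hxF⟩ := exists_weakAss_of_push f F s hs
    exact ⟨x, hxF, hx⟩
  · rintro ⟨x, hxF, rfl⟩
    obtain ⟨_, ⟨V, hV, rfl⟩, hsV, -⟩ :=
      S.isBasis_affineOpens.exists_subset_of_mem_open (Set.mem_univ (f x)) isOpen_univ
    have hU : IsAffineOpen (f ⁻¹ᵁ V) := hV.preimage f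
    haveI : IsNoetherianRing Γ(X, f ⁻¹ᵁ V) :=
      IsLocallyNoetherian.component_noetherian ⟨f ⁻¹ᵁ V, hU⟩
    exact weakAss_push_of_noetherian f F hV hU x hsV hxF

theorem main {X S : Scheme.{u}} (f : X ⟶ S) [IsAffineHom f] [IsLocallyNoetherian X] (F : X.Modules)
    (hF : Coh.IsQCoh F) :
    (fun x => f x) '' {x : ↥X | Curv2.IsAssPoint F x} = {s : ↥S | Curv2.IsAssPoint ((Scheme.Modules.pushforward f).obj F) s} ∧
      {s : ↥S | Curv2.IsAssPoint ((Scheme.Modules.pushforward f).obj F) s} =
        {s : ↥S | Curv2.IsWeakAssPoint ((Scheme.Modules.pushforward f).obj F) s} ∧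
      {s : ↥S | Curv2.IsWeakAssPoint ((Scheme.Modules.pushforward f).obj F) s} =
        (fun x => f x) '' {x : ↥X | Curv2.IsWeakAssPoint F x} := by
  haveI : F.IsQuasicoherent := hF
  have h1 : {x : ↥X | Curv2.IsAssPoint F x} = {x : ↥X | Curv2.IsWeakAssPoint F x} := by
    ext x; exact isAssPoint_iff_isWeakAssPoint F x
  have h2 : {s : ↥S | Curv2.IsAssPoint ((Scheme.Modules.pushforward f).obj F) s} =
      {s : ↥S | Curv2.IsWeakAssPoint ((Scheme.Modules.pushforward f).obj F) s} := by
    ext s; exact isAssPoint_iff_isWeakAssPoint _ s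
  have h3 := weak_eq f F
  refine ⟨?_, h2, h3⟩
  rw [h1, h2]
  exact h3.symm


end helpers


/-- Let f : X ⟶ S be an affine morphism with X locally Noetherian and F a quasi-coherent module on X.
Then the following subsets of S coincide: the image of the associated points of F, the associated
points of f_* F, the weakly associated points of f_* F, and the image of the weakly associated
points of F. -/
theorem result {X S : Scheme.{u}} (f : X ⟶ S) [IsAffineHom f] [IsLocallyNoetherian X] (F : X.Modules)
    (hF : Coh.IsQCoh F) :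
    (fun x => f x) '' {x : ↥X | Curv2.IsAssPoint F x} = {s : ↥S | Curv2.IsAssPoint ((Scheme.Modules.pushforward f).obj F) s} ∧
      {s : ↥S | Curv2.IsAssPoint ((Scheme.Modules.pushforward f).obj F) s} =
        {s : ↥S | Curv2.IsWeakAssPoint ((Scheme.Modules.pushforward f).obj F) s} ∧
      {s : ↥S | Curv2.IsWeakAssPoint ((Scheme.Modules.pushforward f).obj F) s} =
        (fun x => f x) '' {x : ↥X | Curv2.IsWeakAssPoint F x} := by
  exact main f F hF

end Groth.Agent.S1709
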