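import Groth.Statements.S17139
import Groth.Agent.S17141
import Groth.Agent.Lib.Helper24.IsocSlope
-- import your own Groth.Agent.* helpers here

set_option autoImplicit false
universe u v
open Isoc

namespace Groth.Agent.S17139

open Groth.Agent.Lib.helper24.IsocLib

/-- Let k be a perfect field of characteristic p, a ∈ ℤ, and (N, F) a non-zero σ^a-F-isocrystal over k
of height h, with b an L-basis of N indexed by Fin h and d the p-adic order of the determinant
coefficient of F in the basis b. If M is a W(k)-lattice in N and r ∈ ℤ, s > 0 satisfy F^s(M) = p^r ·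
M, then the first Newton slope λ₁(N, F) equals r/s, and r · h = s · d. (The published statement adds
that F^h(M) = p^d · M for the same lattice M; that clause is not established by the published proof
and fails when gcd(r, s) ≠ 1 — for a = 0, N = L², M = W², F with matrix rows (p, 1), (0, p) and p
odd one has F^p(M) = p^p · M, h = d = 2, but F²(M) ≠ p² · M — so it is omitted here; the converse
direction is a separate statement.) -/
theorem result (p : ℕ) [Fact p.Prime] (k : Type u) [Field k] [CharP k p] [PerfectRing k p] (a : ℤ)
    (N : Type v) [AddCommGroup N] [Module (WittVector p k) N] [Module (FractionRing (WittVector p k)) N]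
    [IsScalarTower (WittVector p k) (FractionRing (WittVector p k)) N]
    [Nontrivial N] (F : N →ₛₗ[Isoc.frob p k a] N) (hF : Isoc.IsIsoc F)
    (h : ℕ) (b : Module.Basis (Fin h) (FractionRing (WittVector p k)) N)
    (d : ℤ) (hd : Isoc.IsOrdP (Isoc.detCoeff b F) d)
    (M : Submodule (WittVector p k) N) (hM : M.IsLattice (FractionRing (WittVector p k)))
    (r : ℤ) (s : ℕ) (hs : 0 < s) (hFM : Isoc.latImg F s M = Isoc.pPow r M) :
    Isoc.IsFirstSlope F ((r : ℝ) / s) ∧ r * h = s * d := by
  classical
  constructor
  · obtain ⟨o, ho, lam, hlim⟩ := Groth.Agent.S17141.result p k a N F hF M hM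
    have hne : M ≠ ⊥ := ne_bot_of_span_eq_top hM.span_eq_top
    have hoj : ∀ j : ℕ, 1 ≤ j → o (s * j) = r * j := by
      intro j hj
      have h1 := latImg_mul_of_eq F hFM j
      have hord : Isoc.IsOrd M F (s * j) (r * j) := by
        refine ⟨h1.le, fun hcon => ?_⟩
        rw [h1] at hcon
        have h2 := pPow_mono (p := p) (k := k) (-(r * j)) hcon
        rw [pPow_pPow, pPow_pPow, neg_add_cancel, pPow_zero] at h2
        have e1 : -(r * (j : ℤ)) + (r * j + 1) = 1 := by ring
        rw [e1] at h2
        exact not_le_pPow_one hM.fg hne h2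
      have h3 := ho (s * j) (Nat.mul_pos hs hj)
      exact le_antisymm (le_of_isOrd F hord h3.1) (le_of_isOrd F h3 hord.1)
    have hsub : Filter.Tendsto (fun j : ℕ => s * j) Filter.atTop Filter.atTop :=
      Filter.tendsto_atTop_mono (fun j => Nat.le_mul_of_pos_left j hs) Filter.tendsto_id
    have hlim2 := hlim.comp hsub
    have hspos : (0 : ℝ) < s := by exact_mod_cast hs
    have hconst : Filter.Tendsto (fun j : ℕ => ((o (s * j) : ℤ) : ℝ) / ((s * j : ℕ) : ℝ))
        Filter.atTop (nhds ((r : ℝ) / s)) := by
      apply tendsto_const_nhds.congr'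
      filter_upwards [Filter.eventually_ge_atTop 1] with j hj
      rw [hoj j hj]
      have hjpos : (0 : ℝ) < j := by exact_mod_cast hj
      push_cast
      field_simp
    have hlam : lam = (r : ℝ) / s := tendsto_nhds_unique hlim2 hconst
    exact ⟨M, hM, o, ho, hlam ▸ hlim⟩
  · obtain ⟨d', hd', hsd⟩ := exists_isOrdP_detCoeff_of_latImg_eq b F hM hs hFM
    have hdd : d' = d := isOrdP_unique hd' hd
    rw [hdd] at hsd
    linarith

end Groth.Agent.S17139
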