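import Groth.Statements.S17147
import Groth.Agent.S17145
import Groth.Agent.Lib.Helper24.IsocDet
-- import your own Groth.Agent.* helpers here

set_option autoImplicit false
universe u v
open Isoc

namespace Groth.Agent.S17147

open Groth.Agent.Lib.helper24.IsocLib

/-- Let k be a perfect field of characteristic p, a ∈ ℤ, W = W(k) with fraction field L, and (N, F) a
σ^a-F-isocrystal over k (N finite-dimensional over L, F a bijective σ^a-semilinear endomorphism) of
height h, with b an L-basis of N indexed by Fin h and d the p-adic order of the determinant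
coefficient of F in b. If λ₁(N, F) = d/h, then there exists a W-lattice M in N with F^h(M) = p^d · M
(so (N, F) is isoclinic of slope d/h in the lattice sense). -/
theorem result (p : ℕ) [Fact p.Prime] (k : Type u) [Field k] [CharP k p] [PerfectRing k p] (a : ℤ)
    (N : Type v) [AddCommGroup N] [Module (WittVector p k) N] [Module (FractionRing (WittVector p k)) N]
    [IsScalarTower (WittVector p k) (FractionRing (WittVector p k)) N]
    (F : N →ₛₗ[Isoc.frob p k a] N) (hF : Isoc.IsIsoc F)
    (h : ℕ) (b : Module.Basis (Fin h) (FractionRing (WittVector p k)) N)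
    (d : ℤ) (hd : Isoc.IsOrdP (Isoc.detCoeff b F) d)
    (hlam : Isoc.IsFirstSlope F ((d : ℝ) / h)) :
    ∃ M : Submodule (WittVector p k) N, M.IsLattice (FractionRing (WittVector p k)) ∧ Isoc.latImg F h M = Isoc.pPow d M := by
  classical
  by_cases h0 : h = 0
  · subst h0
    obtain ⟨M, hM, -⟩ := hlam
    have hsub : Subsingleton N := b.repr.toEquiv.subsingleton
    exact ⟨M, hM, Subsingleton.elim _ _⟩
  have hpos : 0 < h := Nat.pos_of_ne_zero h0
  obtain ⟨M, hM, hle⟩ := Groth.Agent.S17145.result p k a N F hF _ hlam d h hpos le_rfl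
  refine ⟨M, hM, le_antisymm hle ?_⟩
  have hst : Isoc.latImg (twIter F (-d) h) 1 M ≤ M := by
    rw [latImg_twIter]
    have h1 := pPow_mono (p := p) (k := k) (-d) hle
    rw [pPow_pPow, neg_add_cancel, pPow_zero] at h1
    simpa using h1
  have hord := isOrdP_detCoeff_twIter b F hd (-d) h
  have h00 : (h : ℤ) * -d + (h : ℤ) * d = 0 := by ring
  rw [h00] at hord
  have h2 := (orddet_nonneg_of_stable b (twIter F (-d) h) hM hst hord).2 rfl
  rw [latImg_twIter] at h2
  have h3 := pPow_mono (p := p) (k := k) d h2
  rw [pPow_pPow] at h3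
  have e1 : d + -d * ((1 : ℕ) : ℤ) = 0 := by push_cast; ring
  rw [e1, pPow_zero, Nat.mul_one] at h3
  exact h3

end Groth.Agent.S17147
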