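import Groth.Statements.S17149
import Groth.Agent.Lib.Helper24.Isoc
-- import your own Groth.Agent.* helpers here

set_option autoImplicit false
universe u v
open Isoc

namespace Groth.Agent.S17149

/-- Let k be a perfect field of characteristic p, a ∈ ℤ, W = W(k) with fraction field L, and (N, F) a
σ^a-F-isocrystal over k (N finite-dimensional over L, F a bijective σ^a-semilinear endomorphism)
that is isoclinic of slope μ (some W-lattice M, r ∈ ℤ, s > 0 with r/s = μ and F^s(M) = p^r · M).
Then for every L-subspace P of N with F(P) ⊆ P, the quotient N/P with the σ^a-semilinear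
endomorphism induced by F is again isoclinic of slope μ. -/
theorem result (p : ℕ) [Fact p.Prime] (k : Type u) [Field k] [CharP k p] [PerfectRing k p] (a : ℤ)
    (N : Type v) [AddCommGroup N] [Module (WittVector p k) N] [Module (FractionRing (WittVector p k)) N]
    [IsScalarTower (WittVector p k) (FractionRing (WittVector p k)) N]
    (F : N →ₛₗ[Isoc.frob p k a] N) (hF : Isoc.IsIsoc F) (μ : ℚ) (hμ : Isoc.IsIsoclinic F μ)
    (P : Submodule (FractionRing (WittVector p k)) N) (hP : P ≤ P.comap F) :
    Isoc.IsIsoclinic (P.mapQ P F hP) μ := by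
  classical
  open Groth.Agent.Lib.helper24.IsocLib in
  obtain ⟨M, hM, r, s, hs, hμ', h1⟩ := hμ
  set q : N →ₗ[WittVector p k] (N ⧸ P) := P.mkQ.restrictScalars (WittVector p k) with hq
  have hqapp : ∀ x, q x = P.mkQ x := fun _ => rfl
  have hiter : ∀ (t : ℕ) (x : N), (⇑(P.mapQ P F hP))^[t] (P.mkQ x) = P.mkQ ((⇑F)^[t] x) := by
    intro t
    induction t with
    | zero => intro x; rfl
    | succ t ih =>
      intro x
      rw [Function.iterate_succ_apply', Function.iterate_succ_apply', ih]
      rfl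
  refine ⟨M.map q, ⟨(Submodule.IsLattice.fg (M := M)).map q, ?_⟩, r, s, hs, hμ', ?_⟩
  · -- spans
    rw [eq_top_iff]
    rintro y -
    obtain ⟨x, rfl⟩ := P.mkQ_surjective y
    have hx : x ∈ Submodule.span (FractionRing (WittVector p k)) (M : Set N) := by
      rw [Submodule.IsLattice.span_eq_top (M := M)]; trivial
    induction hx using Submodule.span_induction with
    | mem x hx => exact Submodule.subset_span ⟨x, hx, rfl⟩
    | zero => simp
    | add x y _ _ ihx ihy => rw [map_add]; exact Submodule.add_mem _ ihx ihy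
    | smul c x _ ihx => rw [map_smul]; exact Submodule.smul_mem _ _ ihx
  · ext y
    rw [mem_latImg, mem_pPow]
    constructor
    · rintro ⟨_, ⟨m, hm, rfl⟩, rfl⟩
      have hm' : (⇑F)^[s] m ∈ Isoc.latImg F s M := (mem_latImg F).mpr ⟨m, hm, rfl⟩
      rw [h1, mem_pPow] at hm'
      obtain ⟨m', hm'M, hm'eq⟩ := hm'
      refine ⟨q m', ⟨m', hm'M, rfl⟩, ?_⟩
      rw [hqapp, hqapp, hiter, ← hm'eq, map_smul]
    · rintro ⟨_, ⟨m, hm, rfl⟩, rfl⟩
      have hm' : ((p : FractionRing (WittVector p k)) ^ r) • m ∈ Isoc.pPow r M :=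
        mem_pPow.mpr ⟨m, hm, rfl⟩
      rw [← h1, mem_latImg] at hm'
      obtain ⟨m', hm'M, hm'eq⟩ := hm'
      refine ⟨q m', ⟨m', hm'M, rfl⟩, ?_⟩
      rw [hqapp, hqapp, hiter, hm'eq, map_smul]

end Groth.Agent.S17149
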