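import Groth.Statements.S17153
import Groth.Agent.S17148
import Groth.Agent.Lib.Helper24.IsocStd
-- import your own Groth.Agent.* helpers here

set_option autoImplicit false
universe u
open Isoc

namespace Groth.Agent.S17153

open Groth.Agent.Lib.helper24.IsocLib

/-- Let k be a perfect field of characteristic p, W = W(k), L its fraction field, a ∈ ℤ, and λ = d/h
with h > 0 and gcd(d, h) = 1. The standard σ^a-F-isocrystal N_λ of slope λ — the space L^h with the
σ^a-semilinear F determined by F e_i = e_{i+1} (i + 1 < h) and F e_{h−1} = p^d · e_0 — is a simple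
isocrystal: an L-subspace of L^h carried into itself by F is either 0 or everything. (The source
introduces N_λ for a ≠ 0 only; the simplicity argument, via sub-isocrystals of an isoclinic
isocrystal having the same slope, does not use that restriction, and the statement is made for all
a.) -/
theorem result (p : ℕ) [Fact p.Prime] (k : Type u) [Field k] [CharP k p] [PerfectRing k p]
    (a : ℤ) (d : ℤ) (h : ℕ) (hh : 0 < h) (hdh : Int.gcd d h = 1)
    (P : Submodule (FractionRing (WittVector p k)) (Fin h → (FractionRing (WittVector p k))))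
    (hP : ∀ x ∈ P, Isoc.stdIsoc (Isoc.frob p k a) d h x ∈ P) : P = ⊥ ∨ P = ⊤ := by
  classical
  have hIsoc := stdIsoc_isIsoc (p := p) (k := k) a d h
  have hiso := stdIsoc_isIsoclinic (p := p) (k := k) a d h hh
  have hres := Groth.Agent.S17148.result p k a _ _ hIsoc _ hiso P hP
  obtain ⟨M', hM', r', s', hs', hrs', heq⟩ := hres
  set h' := Module.finrank (FractionRing (WittVector p k)) P with hh'
  let b' : Module.Basis (Fin h') (FractionRing (WittVector p k)) P :=
    Module.finBasis (FractionRing (WittVector p k)) P
  obtain ⟨d', hd', hsd⟩ := exists_isOrdP_detCoeff_of_latImg_eq b'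
    ((Isoc.stdIsoc (Isoc.frob p k a) d h).restrict hP) hM' hs' heq
  have hs'pos : (0 : ℤ) < s' := by exact_mod_cast hs'
  have hhpos : (0 : ℚ) < h := by exact_mod_cast hh
  have hs'q : (0 : ℚ) < s' := by exact_mod_cast hs'
  have h1 : (r' : ℚ) * h = d * s' := by
    rw [div_eq_div_iff hs'q.ne' hhpos.ne'] at hrs'
    exact hrs'
  have h2 : r' * (h : ℤ) = d * s' := by exact_mod_cast h1
  have h3 : d' * (h : ℤ) = h' * d := by
    apply mul_left_cancel₀ hs'pos.ne'
    linear_combination (h : ℤ) * hsd + (h' : ℤ) * h2
  have hcop : IsCoprime (h : ℤ) d := (Int.isCoprime_iff_gcd_eq_one.2 hdh).symm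
  have h4 : (h : ℤ) ∣ (h' : ℤ) := by
    have h5 : (h : ℤ) ∣ (h' : ℤ) * d := ⟨d', by rw [← h3]; ring⟩
    exact hcop.dvd_of_dvd_mul_right h5
  have h6 : h ∣ h' := Int.natCast_dvd_natCast.1 h4
  have h7 : h' ≤ h := by
    have := Submodule.finrank_le P
    rwa [Module.finrank_fin_fun] at this
  obtain ⟨c, hc⟩ := h6
  rcases Nat.eq_zero_or_pos c with hc0 | hcpos
  · left
    rw [hc0, Nat.mul_zero] at hc
    exact Submodule.finrank_eq_zero.1 hc
  · right
    have h8 : h' = h := by
      apply le_antisymm h7
      rw [hc]
      exact Nat.le_mul_of_pos_right h hcpos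
    apply Submodule.eq_top_of_finrank_eq
    rw [Module.finrank_fin_fun]
    exact h8

end Groth.Agent.S17153
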