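import Groth.Statements.S17157
-- import your own Groth.Agent.* helpers here

set_option autoImplicit false
universe u
open Isoc

namespace Groth.Agent.S17157

open scoped Isocrystal in
theorem natCast_W_ne_zero (p : ℕ) [Fact p.Prime] (k : Type u) [Field k] [CharP k p]
    (n : ℕ) (hn : n ≠ 0) : (n : WittVector p k) ≠ 0 := by
  have hp : p ≠ 1 := (Fact.out : p.Prime).ne_one
  obtain ⟨e, n', hn', rfl⟩ := Nat.exists_eq_pow_mul_and_not_dvd hn p hp
  rw [Nat.cast_mul, Nat.cast_pow]
  apply mul_ne_zero
  · exact pow_ne_zero _ (WittVector.p_nonzero p k)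
  · intro h
    have h2 := congrArg (WittVector.constantCoeff (p := p) (R := k)) h
    rw [map_natCast, map_zero] at h2
    exact hn' ((CharP.cast_eq_zero_iff k p n').1 h2)

theorem frob_pow_algebraMap (p : ℕ) [Fact p.Prime] (k : Type u) [Field k] [CharP k p] [PerfectRing k p]
    (n : ℕ) (w : WittVector p k) :
    ((Isoc.frob p k 1) ^ n) (algebraMap (WittVector p k) (FractionRing (WittVector p k)) w) =
      algebraMap (WittVector p k) (FractionRing (WittVector p k)) (WittVector.frobenius^[n] w) := by
  induction n with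
  | zero => simp
  | succ n ih =>
    rw [pow_succ', RingHom.mul_def, RingHom.comp_apply, ih, Isoc.frob_algebraMap, zpow_one,
      Function.iterate_succ_apply']
    rfl

theorem frob_pow_card (p : ℕ) [Fact p.Prime] (k : Type u) [Field k] [CharP k p] [PerfectRing k p] [Finite k] :
    ∃ m : ℕ, 0 < m ∧ ∀ x : FractionRing (WittVector p k), ((Isoc.frob p k 1) ^ m) x = x := by
  classical
  have : Fintype k := Fintype.ofFinite k
  obtain ⟨m, -, hm⟩ := FiniteField.card k p
  refine ⟨m, m.pos, fun x => ?_⟩
  obtain ⟨a, b, hb, rfl⟩ := IsFractionRing.div_surjective (A := WittVector p k) x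
  have key : ∀ w : WittVector p k, WittVector.frobenius^[(m : ℕ)] w = w := by
    intro w
    ext i
    rw [WittVector.iterate_frobenius_coeff, ← hm, FiniteField.pow_card]
  rw [map_div₀, frob_pow_algebraMap, frob_pow_algebraMap, key, key]

/-- Let k be a finite field of characteristic p, W = W(k), L its fraction field with Frobenius σ, and
let U be the σ-semilinear endomorphism of L² = (Fin 2 → L) determined by U(e₀) = e₀ and U(e₁) = e₀ +
e₁ on the standard basis. Then (L², U) is an F-isocrystal in which the sub-isocrystal L · e₀ admits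
no U-stable complementary L-subspace; in particular the category of F-isocrystals over a finite
field is not semisimple. (Over an algebraically closed field a complement exists.) -/
theorem result
    (p : ℕ) [Fact p.Prime] (k : Type u) [Field k] [CharP k p] [PerfectRing k p] [Finite k]
    (U : (Fin 2 → (FractionRing (WittVector p k))) →ₛₗ[Isoc.frob p k 1] (Fin 2 → (FractionRing (WittVector p k))))
    (hU0 : U (Pi.single 0 1) = Pi.single 0 1)
    (hU1 : U (Pi.single 1 1) = Pi.single 0 1 + Pi.single 1 1)
    (Q : Submodule (FractionRing (WittVector p k)) (Fin 2 → (FractionRing (WittVector p k)))) (hQ : ∀ x ∈ Q, U x ∈ Q) :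
    ¬ IsCompl (Submodule.span (FractionRing (WittVector p k)) {(Pi.single 0 1 : Fin 2 → (FractionRing (WittVector p k)))}) Q := by
  intro hc
  set L := FractionRing (WittVector p k) with hL
  set e0 : Fin 2 → L := Pi.single 0 1 with he0
  set e1 : Fin 2 → L := Pi.single 1 1 with he1
  -- decompose e1
  have htop : e1 ∈ Submodule.span L {e0} ⊔ Q := by rw [hc.sup_eq_top]; trivial
  obtain ⟨y, hy, q, hq, hyq⟩ := Submodule.mem_sup.1 htop
  obtain ⟨a, rfl⟩ := Submodule.mem_span_singleton.1 hy
  have hq' : q = e1 - a • e0 := by rw [← hyq]; abel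
  have hUq : U q = e0 + e1 - (Isoc.frob p k 1 a) • e0 := by
    rw [hq', map_sub, map_smulₛₗ, hU0, hU1]
  have hdiff : U q - q = (1 - Isoc.frob p k 1 a + a) • e0 := by
    rw [hUq, hq', add_smul, sub_smul, one_smul]; abel
  have hmemQ : (1 - Isoc.frob p k 1 a + a) • e0 ∈ Q := by
    rw [← hdiff]; exact Q.sub_mem (hQ q hq) hq
  have hmemS : (1 - Isoc.frob p k 1 a + a) • e0 ∈ Submodule.span L {e0} :=
    Submodule.smul_mem _ _ (Submodule.mem_span_singleton_self _)
  have hzero : (1 - Isoc.frob p k 1 a + a) • e0 = 0 := by
    have := hc.disjoint.le_bot (Submodule.mem_inf.2 ⟨hmemS, hmemQ⟩)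
    simpa using this
  have hcoef : 1 - Isoc.frob p k 1 a + a = 0 := by
    have := congrFun hzero 0
    simpa [he0] using this
  have hσ : Isoc.frob p k 1 a = a + 1 := by
    have : Isoc.frob p k 1 a = Isoc.frob p k 1 a + (1 - Isoc.frob p k 1 a + a) := by rw [hcoef, add_zero]
    rw [this]; ring
  have hiter : ∀ n : ℕ, ((Isoc.frob p k 1) ^ n) a = a + n := by
    intro n
    induction n with
    | zero => simp
    | succ n ih =>
      rw [pow_succ', RingHom.mul_def, RingHom.comp_apply, ih, map_add, map_natCast, hσ]
      push_cast; ring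
  obtain ⟨m, hmpos, hm⟩ := frob_pow_card p k
  have h1 := hiter m
  rw [hm a] at h1
  have h2 : ((m : ℕ) : L) = 0 := by
    have : a + 0 = a + (m : L) := by rw [add_zero]; exact h1
    exact (add_left_cancel this).symm
  have h3 : algebraMap (WittVector p k) L ((m : ℕ) : WittVector p k) = 0 := by
    rw [map_natCast]; exact h2
  have h4 := (IsFractionRing.injective (WittVector p k) L) (h3.trans (map_zero _).symm)
  exact natCast_W_ne_zero p k m hmpos.ne' h4

end Groth.Agent.S17157
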