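import Groth.Statements.S17171
import Mathlib

set_option autoImplicit false
open QSymFn

namespace Groth.Agent.S17171

section aux

theorem finsupp_decomp {α : Type*} [LinearOrder α] (e : α →₀ ℕ) :
    ∃ (ℓ : ℕ) (i₀ : Fin ℓ → α) (a : Fin ℓ → ℕ), StrictMono i₀ ∧ (∀ t, 0 < a t) ∧
      e = ∑ t : Fin ℓ, Finsupp.single (i₀ t) (a t) := by
  refine ⟨e.support.card, e.support.orderEmbOfFin rfl, fun t => e (e.support.orderEmbOfFin rfl t),
    (e.support.orderEmbOfFin rfl).strictMono, ?_, ?_⟩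
  · intro t
    have := Finset.orderEmbOfFin_mem e.support rfl t
    rw [Finsupp.mem_support_iff] at this
    exact Nat.pos_of_ne_zero this
  · have h : ∑ t, Finsupp.single (e.support.orderEmbOfFin rfl t) (e (e.support.orderEmbOfFin rfl t)) =
        ∑ x ∈ Finset.univ.map (e.support.orderEmbOfFin rfl).toEmbedding, Finsupp.single x (e x) := by
      rw [Finset.sum_map]
      rfl
    rw [h, Finset.map_orderEmbOfFin_univ]
    exact (Finsupp.sum_single e).symm

theorem partA (F : MvPowerSeries ℕ ℤ)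
    (hq : ∀ (ℓ : ℕ) (i j : Fin ℓ → ℕ) (a : Fin ℓ → ℕ), StrictMono i → StrictMono j → (∀ t, 0 < a t) →
        MvPowerSeries.coeff (∑ t : Fin ℓ, Finsupp.single (i t) (a t)) F =
          MvPowerSeries.coeff (∑ t : Fin ℓ, Finsupp.single (j t) (a t)) F)
    (n m : ℕ) (φ : Fin n ↪o Fin m) (e : Fin n →₀ ℕ) :
    MvPowerSeries.coeff (Finsupp.mapDomain Fin.val e) F =
      MvPowerSeries.coeff (Finsupp.mapDomain Fin.val (Finsupp.mapDomain φ e)) F := by
  obtain ⟨ℓ, i₀, a, hi, ha, rfl⟩ := finsupp_decomp e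
  simp only [Finsupp.mapDomain_finsetSum, Finsupp.mapDomain_single]
  exact hq ℓ (fun t => (i₀ t : ℕ)) (fun t => (φ (i₀ t) : ℕ)) a (fun s t h => hi h)
    (fun s t h => φ.strictMono (hi h)) ha

/-- a bound for the support. -/
def bd (E : ℕ →₀ ℕ) : ℕ := E.support.sup id + 1

theorem lt_bd (E : ℕ →₀ ℕ) {x : ℕ} (hx : x ∈ E.support) : x < bd E := by
  have := Finset.le_sup (f := id) hx
  simp only [id] at this
  unfold bd
  omega

/-- the restriction of an exponent to `Fin (bd E)`. -/
noncomputable def rs (E : ℕ →₀ ℕ) : Fin (bd E) →₀ ℕ :=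
  E.comapDomain Fin.val (Fin.val_injective.injOn)

theorem map_rs (E : ℕ →₀ ℕ) : Finsupp.mapDomain Fin.val (rs E) = E := by
  apply Finsupp.mapDomain_comapDomain _ Fin.val_injective
  intro x hx
  exact ⟨⟨x, lt_bd E hx⟩, rfl⟩

theorem compat_two (f : (n : ℕ) → MvPolynomial (Fin n) ℤ)
    (hc : ∀ (n m : ℕ) (φ : Fin n ↪o Fin m) (e : Fin n →₀ ℕ),
        MvPolynomial.coeff e (f n) = MvPolynomial.coeff (Finsupp.mapDomain φ e) (f m))
    (n N : ℕ) (e : Fin n →₀ ℕ) (e' : Fin N →₀ ℕ)
    (h : Finsupp.mapDomain Fin.val e = Finsupp.mapDomain Fin.val e') :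
    MvPolynomial.coeff e (f n) = MvPolynomial.coeff e' (f N) := by
  rw [hc n (max n N) (Fin.castLEOrderEmb (le_max_left n N)) e,
    hc N (max n N) (Fin.castLEOrderEmb (le_max_right n N)) e']
  congr 1
  apply Finsupp.mapDomain_injective (Fin.val_injective (n := max n N))
  rw [← Finsupp.mapDomain_comp, ← Finsupp.mapDomain_comp]
  have h1 : (Fin.val ∘ (Fin.castLEOrderEmb (le_max_left n N))) = (Fin.val : Fin n → ℕ) := by
    funext x
    simp
  have h2 : (Fin.val ∘ (Fin.castLEOrderEmb (le_max_right n N))) = (Fin.val : Fin N → ℕ) := by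
    funext x
    simp
  rw [h1, h2, h]

theorem partB (d : ℕ) (f : (n : ℕ) → MvPolynomial (Fin n) ℤ)
    (hf : ∀ n, (f n).IsHomogeneous d)
    (hc : ∀ (n m : ℕ) (φ : Fin n ↪o Fin m) (e : Fin n →₀ ℕ),
        MvPolynomial.coeff e (f n) = MvPolynomial.coeff (Finsupp.mapDomain φ e) (f m)) :
    ∃! F : MvPowerSeries ℕ ℤ,
        (∀ (ℓ : ℕ) (i j : Fin ℓ → ℕ) (a : Fin ℓ → ℕ), StrictMono i → StrictMono j → (∀ t, 0 < a t) →
          MvPowerSeries.coeff (∑ t : Fin ℓ, Finsupp.single (i t) (a t)) F =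
            MvPowerSeries.coeff (∑ t : Fin ℓ, Finsupp.single (j t) (a t)) F) ∧
        (∀ e : ℕ →₀ ℕ, MvPowerSeries.coeff e F ≠ 0 → e.degree = d) ∧
        (∀ (n : ℕ) (e : Fin n →₀ ℕ),
          MvPowerSeries.coeff (Finsupp.mapDomain Fin.val e) F = MvPolynomial.coeff e (f n)) := by
  let F : MvPowerSeries ℕ ℤ := fun E => MvPolynomial.coeff (rs E) (f (bd E))
  have hFc : ∀ E, MvPowerSeries.coeff E F = MvPolynomial.coeff (rs E) (f (bd E)) := fun E => rfl
  have h3 : ∀ (n : ℕ) (e : Fin n →₀ ℕ),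
      MvPowerSeries.coeff (Finsupp.mapDomain Fin.val e) F = MvPolynomial.coeff e (f n) := by
    intro n e
    rw [hFc]
    apply compat_two f hc
    rw [map_rs]
  refine ⟨F, ⟨?_, ?_, h3⟩, ?_⟩
  · intro ℓ i j a hi hj ha
    -- a common bound
    obtain ⟨n, hn⟩ : ∃ n : ℕ, ∀ t, i t < n ∧ j t < n := by
      refine ⟨(Finset.univ.sup i) + (Finset.univ.sup j) + 1, fun t => ?_⟩
      have h1 := Finset.le_sup (f := i) (Finset.mem_univ t)
      have h2 := Finset.le_sup (f := j) (Finset.mem_univ t)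
      omega
    let i' : Fin ℓ ↪o Fin n := OrderEmbedding.ofStrictMono (fun t => ⟨i t, (hn t).1⟩)
      (fun s t h => hi h)
    let j' : Fin ℓ ↪o Fin n := OrderEmbedding.ofStrictMono (fun t => ⟨j t, (hn t).2⟩)
      (fun s t h => hj h)
    let e₀ : Fin ℓ →₀ ℕ := ∑ t : Fin ℓ, Finsupp.single t (a t)
    have hi' : (∑ t : Fin ℓ, Finsupp.single (i t) (a t)) =
        Finsupp.mapDomain Fin.val (Finsupp.mapDomain i' e₀) := by
      simp only [e₀, Finsupp.mapDomain_finsetSum, Finsupp.mapDomain_single]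
      rfl
    have hj' : (∑ t : Fin ℓ, Finsupp.single (j t) (a t)) =
        Finsupp.mapDomain Fin.val (Finsupp.mapDomain j' e₀) := by
      simp only [e₀, Finsupp.mapDomain_finsetSum, Finsupp.mapDomain_single]
      rfl
    rw [hi', hj', h3, h3, ← hc ℓ n i' e₀, ← hc ℓ n j' e₀]
  · intro E hE
    rw [hFc] at hE
    have h1 := hf (bd E) hE
    rw [← map_rs E, Finsupp.degree_mapDomain, Finsupp.degree_eq_weight_one]
    exact h1
  · rintro F' ⟨-, -, h3'⟩
    ext E
    rw [← map_rs E, h3', h3]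

end aux

/-- The ring QSym of quasisymmetric functions over ℤ, with its restriction maps to the polynomial rings
in finitely many ordered variables, is the limit of the diagram S ↦ ℤ[α_s : s ∈ S] over finite
ordered sets S and order-preserving injections (an injection φ : S → T acting by α_t ↦ α_s when t =
φ s and α_t ↦ 0 otherwise), the limit being taken in graded rings. Stated here on degree-d
components, with the variables indexed by ℕ in place of the positive integers and the finite ordered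
sets taken to be the Fin n: (a) if F is a formal power series over ℤ in variables indexed by ℕ which
is quasisymmetric (for strictly increasing i, j : Fin ℓ → ℕ and positive exponents a, the
coefficients of ∏ x_{i t}^{a t} and ∏ x_{j t}^{a t} agree) and all of whose monomials have degree d,
then its restrictions to the initial segments Fin n ⊂ ℕ are compatible with every order embedding
Fin n ↪o Fin m; (b) every family of degree-d homogeneous polynomials f n ∈ ℤ[x_s : s ∈ Fin n],
compatible with all order embeddings Fin n ↪o Fin m in this sense, is the family of restrictions of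
exactly one such quasisymmetric F of degree d. -/
theorem result (d : ℕ) :
    (∀ F : MvPowerSeries ℕ ℤ,
      (∀ (ℓ : ℕ) (i j : Fin ℓ → ℕ) (a : Fin ℓ → ℕ), StrictMono i → StrictMono j → (∀ t, 0 < a t) →
        MvPowerSeries.coeff (∑ t : Fin ℓ, Finsupp.single (i t) (a t)) F =
          MvPowerSeries.coeff (∑ t : Fin ℓ, Finsupp.single (j t) (a t)) F) →
      (∀ e : ℕ →₀ ℕ, MvPowerSeries.coeff e F ≠ 0 → e.degree = d) →
      ∀ (n m : ℕ) (φ : Fin n ↪o Fin m) (e : Fin n →₀ ℕ),
        MvPowerSeries.coeff (Finsupp.mapDomain Fin.val e) F =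
          MvPowerSeries.coeff (Finsupp.mapDomain Fin.val (Finsupp.mapDomain φ e)) F) ∧
    (∀ f : (n : ℕ) → MvPolynomial (Fin n) ℤ,
      (∀ n, (f n).IsHomogeneous d) →
      (∀ (n m : ℕ) (φ : Fin n ↪o Fin m) (e : Fin n →₀ ℕ),
        MvPolynomial.coeff e (f n) = MvPolynomial.coeff (Finsupp.mapDomain φ e) (f m)) →
      ∃! F : MvPowerSeries ℕ ℤ,
        (∀ (ℓ : ℕ) (i j : Fin ℓ → ℕ) (a : Fin ℓ → ℕ), StrictMono i → StrictMono j → (∀ t, 0 < a t) →
          MvPowerSeries.coeff (∑ t : Fin ℓ, Finsupp.single (i t) (a t)) F =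
            MvPowerSeries.coeff (∑ t : Fin ℓ, Finsupp.single (j t) (a t)) F) ∧
        (∀ e : ℕ →₀ ℕ, MvPowerSeries.coeff e F ≠ 0 → e.degree = d) ∧
        (∀ (n : ℕ) (e : Fin n →₀ ℕ),
          MvPowerSeries.coeff (Finsupp.mapDomain Fin.val e) F = MvPolynomial.coeff e (f n))) := by
  refine ⟨?_, ?_⟩
  · intro F hq _ n m φ e
    exact partA F hq n m φ e
  · intro f hf hc
    exact partB d f hf hc

end Groth.Agent.S17171
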