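import Groth.Statements.S17175
import Mathlib

set_option autoImplicit false
universe u
open CAlg

namespace Groth.Agent.S17175

open PowerSeries in
/-- Let k be a field, O₀ = k[[x, y]]/(xy) the complete local ring of a node and Õ₀ = k[[x]] × k[[y]] its
normalization, O₀ being embedded in Õ₀ by h ↦ (h(x, 0), h(0, y)) as the subring of pairs with equal
constant coefficients. Regard Õ₀ as an O₀-module: it is the rank-one torsion-free O₀-module that is
not free. Then every O₀-linear endomorphism of this module is Õ₀-linear, i.e. it is multiplication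
by a unique element of Õ₀; consequently its O₀-endomorphism ring is Õ₀ and its O₀-automorphism group
is the unit group of Õ₀. Here an O₀-linear endomorphism is an additive map of k[[X]] × k[[X]]
commuting with multiplication by every pair whose two constant coefficients agree. (The source works
over an algebraically closed field; only the field structure is used.) -/
theorem result (k : Type u) [Field k]
    (φ : (k⟦X⟧ × k⟦X⟧) →+ (k⟦X⟧ × k⟦X⟧))
    (hφ : ∀ a s : k⟦X⟧ × k⟦X⟧, constantCoeff a.1 = constantCoeff a.2 → φ (a * s) = a * φ s) :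
    ∃! b : k⟦X⟧ × k⟦X⟧, ∀ s : k⟦X⟧ × k⟦X⟧, φ s = b * s := by
  have hX0 : constantCoeff (X : k⟦X⟧) = 0 := by simp
  refine ⟨φ 1, ?_, ?_⟩
  · intro s
    -- first coordinate
    have h1 : φ ((X, 0) * s) = (X, 0) * φ s := hφ (X, 0) s (by simp)
    have h1' : φ ((X, 0) * s) = (X * s.1, 0) * φ 1 := by
      have := hφ (X * s.1, 0) 1 (by simp)
      rw [mul_one] at this
      rw [← this]
      congr 1
      ext <;> simp
    have h2 : φ ((0, X) * s) = (0, X) * φ s := hφ (0, X) s (by simp)
    have h2' : φ ((0, X) * s) = (0, X * s.2) * φ 1 := by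
      have := hφ (0, X * s.2) 1 (by simp)
      rw [mul_one] at this
      rw [← this]
      congr 1
      ext <;> simp
    have e1 : (X : k⟦X⟧) * (φ s).1 = X * (s.1 * (φ 1).1) := by
      have := congrArg Prod.fst (h1.symm.trans h1')
      simpa [mul_assoc] using this
    have e2 : (X : k⟦X⟧) * (φ s).2 = X * (s.2 * (φ 1).2) := by
      have := congrArg Prod.snd (h2.symm.trans h2')
      simpa [mul_assoc] using this
    have hXne : (X : k⟦X⟧) ≠ 0 := X_ne_zero
    ext
    · rw [Prod.fst_mul, mul_left_cancel₀ hXne e1, mul_comm]
    · rw [Prod.snd_mul, mul_left_cancel₀ hXne e2, mul_comm]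
  · intro b hb
    have := hb 1
    rw [mul_one] at this
    exact this.symm

end Groth.Agent.S17175
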