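import Groth.Statements.S17178
import Mathlib
import Groth.Agent.Lib.Helper18.CurveCM
import Groth.Agent.Lib.Helper16.QCohAss
import Groth.Agent.Lib.Helper7.CohKer
import Groth.Agent.Lib.Helper7.RestrictSupport
import Groth.Agent.Lib.Helper2.ModSec
import Groth.Agent.Lib.Helper3.ProperIsolDim

set_option autoImplicit false
universe u
open CategoryTheory CategoryTheory.Limits AlgebraicGeometry
open Curves

namespace Groth.Agent.S17178

open Groth.Agent.Lib.helper16 Groth.Agent.Lib.helper7 in
/-- a quasi-coherent subobject of a coherent module is coherent -/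
theorem isCoh_of_mono' {X : Scheme.{u}} [IsLocallyNoetherian X] {I F : X.Modules} (ι : I ⟶ F)
    [Mono ι] (hI : I.IsQuasicoherent) (hF : Coh.IsCoh F) : Coh.IsCoh I := by
  haveI : F.IsQuasicoherent := hF.1
  have hC : Coh.IsCoh (cokernel ι) :=
    ⟨Groth.Agent.Lib.helper7.CohKer.isQuasicoherent_cokernel ι,
      Groth.Agent.Lib.helper7.CohKer.isFiniteType_of_epi (cokernel.π ι) hF.2⟩
  have hK : Coh.IsCoh (kernel (cokernel.π ι)) :=
    Groth.Agent.Lib.helper7.CohKer.isCoh_kernel hF hC _
  exact Groth.Agent.Lib.helper7.CohKer.isCoh_of_iso (asIso (Abelian.factorThruImage ι)).symm hK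

/-- purity: no nonzero local section supported at a closed point -/
theorem section_eq_zero_of_supported_at {X : Scheme.{u}} [IsNoetherian X] (J : X.Modules)
    (hJc : Coh.IsCoh J) (hJp : ShStab.IsPure X J 1)
    (x : X) (hx : IsClosed ({x} : Set X)) (V : X.Opens) (s : Γ(J, V))
    (hs : ∀ (y : X) (hy : y ∈ V), y ≠ x → (J.presheaf.germ V y hy).hom s = 0) : s = 0 := by
  haveI : J.IsQuasicoherent := hJc.1
  let W : X.Opens := ⟨{x}ᶜ, hx.isOpen_compl⟩
  let η : J ⟶ (Scheme.Modules.pushforward W.ι).obj (J.restrict W.ι) :=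
    (Scheme.Modules.restrictAdjunction W.ι).unit.app J
  have hηapp : ∀ (V' : X.Opens) (σ : Γ(J, V')),
      (η.app V').hom σ = (J.presheaf.map (homOfLE (W.ι.image_preimage_le V')).op).hom σ := by
    intro V' σ
    rfl
  have hK : IsZero (kernel η) := by
    by_contra hK0
    haveI : (J.restrict W.ι).IsQuasicoherent := inferInstance
    haveI : ((Scheme.Modules.pushforward W.ι).obj (J.restrict W.ι)).IsQuasicoherent :=
      Groth.Agent.Lib.helper7.QCohPushQC.isQuasicoherent_pushforward W.ι _
    have hqc : (kernel η).IsQuasicoherent :=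
      Groth.Agent.Lib.helper7.CohKer.isQuasicoherent_kernel η
    have hKc : Coh.IsCoh (kernel η) := isCoh_of_mono' (kernel.ι η) hqc hJc
    have hdim := hJp (kernel η) (kernel.ι η) inferInstance hKc hK0
    have hsupp : CohB1.support (kernel η) ⊆ ((W : X.Opens) : Set X)ᶜ := by
      rw [← Groth.Agent.Lib.helper7.RestrictSupport.subsingleton_sections_iff_support]
      intro V' hV'
      refine ⟨fun a b => ?_⟩
      have hinj := (Groth.Agent.Lib.helper2.ModSec.mono_iff_injective_app (kernel.ι η)).mp
        inferInstance V'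
      apply hinj
      have h0 : ∀ c : Γ(kernel η, V'), ((kernel.ι η).app V').hom c = 0 := by
        intro c
        have h1 : (η.app V').hom (((kernel.ι η).app V').hom c) = 0 := by
          have h2 : ((kernel.ι η ≫ η).app V').hom c = 0 := by rw [kernel.condition]; rfl
          exact h2
        rw [hηapp] at h1
        have heq : W.ι ''ᵁ (W.ι ⁻¹ᵁ V') = V' := by
          apply le_antisymm (W.ι.image_preimage_le V')
          intro z hz
          exact ⟨⟨z, hV' hz⟩, hz, rfl⟩
        exact Groth.Agent.Lib.helper7.map_injective_of_eq J heq.symm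
          (h1.trans (map_zero _).symm)
      exact (h0 a).trans (h0 b).symm
    have hsub : CohB1.support (kernel η) ⊆ {x} := by
      intro y hy
      have := hsupp hy
      simpa [W] using this
    haveI : Subsingleton (CohB1.support (kernel η)) :=
      ⟨fun a b => Subtype.ext ((hsub a.2).trans (hsub b.2).symm)⟩
    have h0 := topologicalKrullDim_zero_of_discreteTopology (CohB1.support (kernel η))
    rw [hdim] at h0
    exact absurd h0 (by norm_num)
  haveI : Mono η := Preadditive.mono_of_kernel_zero (hK.eq_of_src _ _)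
  have hinj := (Groth.Agent.Lib.helper2.ModSec.mono_iff_injective_app η).mp inferInstance V
  apply hinj
  refine (hηapp V s).trans (Eq.trans ?_ (map_zero _).symm)
  apply Groth.Agent.Lib.helper16.QCohAss.section_eq_zero_of_germ_eq_zero
  intro y hy
  have hyV : y ∈ V := W.ι.image_preimage_le V hy
  have hyx : y ≠ x := by
    obtain ⟨⟨z, hz⟩, -, rfl⟩ := hy
    exact hz
  rw [TopCat.Presheaf.germ_res_apply]
  exact hs y hyV hyx


theorem mem_basicOpen_iff' {X : Scheme.{u}} {U : X.Opens} (hU : IsAffineOpen U) (x : X) (hx : x ∈ U)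
    (s : Γ(X, U)) : x ∈ X.basicOpen s ↔ s ∉ (hU.primeIdealOf ⟨x, hx⟩).asIdeal := by
  have h1 : hU.fromSpec (hU.primeIdealOf ⟨x, hx⟩) = x := hU.fromSpec_primeIdealOf ⟨x, hx⟩
  have h2 := hU.fromSpec_preimage_basicOpen s
  have h3 : hU.primeIdealOf ⟨x, hx⟩ ∈ hU.fromSpec ⁻¹ᵁ X.basicOpen s ↔ x ∈ X.basicOpen s := by
    show hU.fromSpec (hU.primeIdealOf ⟨x, hx⟩) ∈ X.basicOpen s ↔ _
    rw [h1]
  rw [← h3, h2]
  rfl

/-- in a Noetherian ring, a nonzero element of a module has a nonzero multiple with prime annihilator -/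
theorem exists_smul_prime_ann {A M : Type*} [CommRing A] [IsNoetherianRing A] [AddCommGroup M]
    [Module A M] (m : M) (hm : m ≠ 0) :
    ∃ (a : A) (P : Ideal A), P.IsPrime ∧ ∀ r : A, r ∈ P ↔ r • (a • m) = 0 := by
  let N : Submodule A M := Submodule.span A {m}
  have hmN : m ∈ N := Submodule.mem_span_singleton_self m
  obtain ⟨P, hP, -⟩ := exists_le_isAssociatedPrime_of_isNoetherianRing A (⟨m, hmN⟩ : N)
    (fun h => hm (congrArg Subtype.val h))
  rw [isAssociatedPrime_iff] at hP
  obtain ⟨hPp, n, hn⟩ := hP
  obtain ⟨a, ha⟩ := Submodule.mem_span_singleton.mp n.2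
  refine ⟨a, P, hPp, fun r => ?_⟩
  rw [hn, Submodule.mem_colon_singleton, Submodule.mem_bot, ha, ← Subtype.coe_inj]
  rfl

/-- the affine-chart statement -/
theorem smul_section_eq_zero {X : Scheme.{u}} [IsNoetherian X] [IsReduced X]
    (hdim : topologicalKrullDim X ≤ 1)
    (J : X.Modules) (hJc : Coh.IsCoh J) (hJp : ShStab.IsPure X J 1)
    (V : X.Opens) (hV : IsAffineOpen V) (g : Γ(X, V))
    (hg : ∀ y : X, y ∈ V → y ∈ CohB1.support J → y ∉ X.basicOpen g) (s : Γ(J, V)) :
    g • s = 0 := by
  haveI : J.IsQuasicoherent := hJc.1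
  haveI : IsNoetherianRing Γ(X, V) := IsLocallyNoetherian.component_noetherian ⟨V, hV⟩
  by_contra hne
  obtain ⟨a, P, hPp, hP⟩ := exists_smul_prime_ann (A := Γ(X, V)) (g • s) hne
  set m' : Γ(J, V) := a • (g • s) with hm'
  have hm'ne : m' ≠ 0 := by
    intro h0
    apply hPp.ne_top
    rw [Ideal.eq_top_iff_one, hP, one_smul]
    exact h0
  set Q : PrimeSpectrum Γ(X, V) := ⟨P, hPp⟩ with hQ
  set y := hV.fromSpec Q with hy_def
  have hyV : y ∈ V := Groth.Agent.Lib.helper16.QCohAss.fromSpec_mem hV Q
  have hQ' : hV.primeIdealOf ⟨y, hyV⟩ = Q :=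
    Groth.Agent.Lib.helper16.QCohAss.primeIdealOf_fromSpec hV Q
  -- germ of m' at y is nonzero
  have hgerm : (J.presheaf.germ V y hyV).hom m' ≠ 0 := by
    intro h0
    obtain ⟨b, hb, hbm⟩ := Groth.Agent.Lib.helper16.QCohAss.ker_germ J hV y hyV m' h0
    apply hb
    rw [hQ']
    exact (hP b).mpr hbm
  have hysupp : y ∈ CohB1.support J := by
    intro hsub
    exact hgerm (Subsingleton.elim _ _)
  have hgP : g ∈ P := by
    have h1 := hg y hyV hysupp
    rw [mem_basicOpen_iff' hV y hyV, hQ'] at h1
    simpa using h1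
  by_cases hycl : IsClosed ({y} : Set X)
  · -- closed point: m' is supported at y
    apply hm'ne
    apply section_eq_zero_of_supported_at J hJc hJp y hycl V m'
    intro z hzV hzy
    have hPmax : P.IsMaximal := by
      have : (Q.asIdeal).IsMaximal := by
        rw [← PrimeSpectrum.isClosed_singleton_iff_isMaximal]
        have : ({Q} : Set (PrimeSpectrum Γ(X, V))) = hV.fromSpec ⁻¹' {y} := by
          ext r
          simp only [Set.mem_singleton_iff]
          constructor
          · rintro rfl; rfl
          · intro h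
            exact hV.fromSpec.isOpenEmbedding.injective h
        rw [this]; exact hycl.preimage hV.fromSpec.continuous
      exact this
    set Qz := hV.primeIdealOf ⟨z, hzV⟩ with hQz
    have hnle : ¬ P ≤ Qz.asIdeal := by
      intro hle
      have heq : P = Qz.asIdeal := hPmax.eq_of_le Qz.2.ne_top hle
      apply hzy
      have h2 : Q = Qz := PrimeSpectrum.ext heq
      have h3 := congrArg hV.fromSpec h2
      rw [hQz, hV.fromSpec_primeIdealOf ⟨z, hzV⟩] at h3
      exact h3.symm
    obtain ⟨b, hbP, hbz⟩ := Set.not_subset.mp hnle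
    have hbm : b • m' = 0 := (hP b).mp hbP
    have h4 := congrArg (J.presheaf.germ V z hzV).hom hbm
    rw [Groth.Agent.Lib.helper16.QCohAss.germ_smul', map_zero] at h4
    have hu : IsUnit ((X.presheaf.germ V z hzV).hom b) :=
      Groth.Agent.Lib.helper16.QCohAss.isUnit_germ_of_mem_basicOpen z hzV b
        ((mem_basicOpen_iff' hV z hzV b).mpr hbz)
    exact (hu.smul_eq_zero).mp h4
  · -- non-closed point: the local ring is a field, so the germ of g vanishes
    have hd0 := Groth.Agent.Lib.Helper18.CurveCM.ringKrullDim_stalk_le_zero_of_not_isClosed hdim y hycl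
    haveI : Ring.KrullDimLE 0 (X.presheaf.stalk y) := by
      rw [Ring.krullDimLE_iff]; exact_mod_cast hd0
    have hmax : IsLocalRing.maximalIdeal (X.presheaf.stalk y) = ⊥ := by
      rw [← IsLocalRing.ringJacobson_eq_maximalIdeal,
        Ring.jacobson_eq_nilradical_of_krullDimLE_zero (X.presheaf.stalk y)]
      exact nilradical_eq_zero _
    have hgy : (X.presheaf.germ V y hyV).hom g = 0 := by
      have h1 : (X.presheaf.germ V y hyV).hom g ∈ IsLocalRing.maximalIdeal (X.presheaf.stalk y) := by
        rw [IsLocalRing.mem_maximalIdeal, mem_nonunits_iff]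
        intro hu
        have : y ∈ X.basicOpen g := by
          rw [Scheme.mem_basicOpen X g y hyV]; exact hu
        rw [mem_basicOpen_iff' hV y hyV, hQ'] at this
        exact this hgP
      rw [hmax] at h1
      exact h1
    letI := X.presheaf.algebra_section_stalk ⟨y, hyV⟩
    haveI hloc : IsLocalization.AtPrime (X.presheaf.stalk y) (hV.primeIdealOf ⟨y, hyV⟩).asIdeal :=
      hV.isLocalization_stalk ⟨y, hyV⟩
    have hgy' : algebraMap Γ(X, V) (X.presheaf.stalk y) g = 0 := hgy
    rw [IsLocalization.map_eq_zero_iff (hV.primeIdealOf ⟨y, hyV⟩).asIdeal.primeCompl] at hgy'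
    obtain ⟨⟨b, hb⟩, hbg⟩ := hgy'
    apply hb
    show b ∈ (hV.primeIdealOf ⟨y, hyV⟩).asIdeal
    rw [hQ']
    apply (hP b).mpr
    show b • a • g • s = 0
    rw [smul_comm b a, ← mul_smul b g, hbg, zero_smul, smul_zero]

/-- Let k be an algebraically closed field and X a nodal curve over k: proper over k, reduced,
connected, every irreducible component of dimension one, with at-worst-nodal singularities. Let J be
a coherent O_X-module which is pure of dimension one (every nonzero coherent submodule has
one-dimensional support), for instance a pure quotient with one-dimensional support of a rank-one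
torsion-free sheaf. Let U be an open subset and f a function on U vanishing at every point of U
lying in the support Y of J. Then f acts as zero on J over U: for every x ∈ U the germ of f at x
annihilates the stalk J_x. In other words the ideal sheaf of the reduced subcurve Y annihilates J,
so J is an O_Y-module; this is the first assertion in the proof that every such quotient q : I → J
of a rank-one torsion-free I factors through the torsion-free restriction of I to Y, the remaining
assertion (that the induced map is an isomorphism) not being part of this row. -/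
theorem result
    (k : Type u) [Field k] [IsAlgClosed k] (X : Scheme.{u}) [X.Over (Spec (CommRingCat.of k))]
    [IsProper (X ↘ Spec (CommRingCat.of k))] [IsReduced X] [ConnectedSpace X]
    (hequi : ∀ Z ∈ irreducibleComponents (X : Type u), topologicalKrullDim Z = 1)
    (hX : Curv2.AtWorstNodal k X)
    (J : X.Modules) (hJc : Coh.IsCoh J) (hJp : ShStab.IsPure X J 1)
    (U : X.Opens) (f : X.presheaf.obj (Opposite.op U))
    (hf : ∀ x : X, x ∈ U → x ∈ CohB1.support J → x ∉ X.basicOpen f)
    (x : X) (hx : x ∈ U) (t : J.presheaf.stalk x) :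
    (X.presheaf.germ U x hx f) • t = 0 := by
  haveI : IsNoetherian X := by
    haveI : IsLocallyNoetherian X :=
      LocallyOfFiniteType.isLocallyNoetherian (X ↘ Spec (CommRingCat.of k))
    haveI : CompactSpace X :=
      QuasiCompact.compactSpace_of_compactSpace (X ↘ Spec (CommRingCat.of k))
    exact {}
  have hdim : topologicalKrullDim X ≤ 1 :=
    Groth.Agent.Lib.helper3.ProperIsolDim.dim_le_of_irreducibleComponents 1
      (fun Z hZ => (hequi Z hZ).le)
  obtain ⟨V0, hxV0, σ, rfl⟩ := J.presheaf.exists_germ_eq t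
  obtain ⟨_, ⟨V, hV, rfl⟩, hxV, hVsub⟩ :=
    X.isBasis_affineOpens.exists_subset_of_mem_open
      (show x ∈ ((U ⊓ V0 : X.Opens) : Set X) from ⟨hx, hxV0⟩) (U ⊓ V0).2
  have hVU : V ≤ U := fun z hz => (hVsub hz).1
  have hVV0 : V ≤ V0 := fun z hz => (hVsub hz).2
  set g : Γ(X, V) := (X.presheaf.map (homOfLE hVU).op).hom f with hg
  set s : Γ(J, V) := (J.presheaf.map (homOfLE hVV0).op).hom σ with hs
  have hgs : g • s = 0 := by
    apply smul_section_eq_zero hdim J hJc hJp V hV g _ s
    intro y hyV hysupp hyg
    apply hf y (hVU hyV) hysupp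
    have : X.basicOpen g = V ⊓ X.basicOpen f := Scheme.basicOpen_res X f (homOfLE hVU).op
    rw [this] at hyg
    exact hyg.2
  have h1 : (X.presheaf.germ V x hxV).hom g = (X.presheaf.germ U x hx).hom f :=
    TopCat.Presheaf.germ_res_apply X.presheaf (homOfLE hVU) x hxV f
  have h2 : (J.presheaf.germ V x hxV).hom s = (J.presheaf.germ V0 x hxV0).hom σ :=
    TopCat.Presheaf.germ_res_apply J.presheaf (homOfLE hVV0) x hxV σ
  have h3 := congrArg (J.presheaf.germ V x hxV).hom hgs
  rw [Groth.Agent.Lib.helper16.QCohAss.germ_smul', map_zero, h1, h2] at h3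
  exact h3

end Groth.Agent.S17178
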