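import Groth.Statements.S17181
import Groth.Agent.Lib.Helper14.GenFibIrr

set_option autoImplicit false
universe u
open CategoryTheory CategoryTheory.Limits AlgebraicGeometry
open FBase

namespace Groth.Agent.S17181

/-- Let k be a field, C an irreducible k-scheme which is geometrically irreducible over k, and f : X → C
a flat k-morphism locally of finite type with X irreducible. If the generic fibre of f is
geometrically irreducible over the residue field of the generic point of C, then X is geometrically
irreducible over k. (The published setting is a regular proper surface mapping onto a smooth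
projective geometrically irreducible curve with smooth projective geometrically irreducible generic
fibre; the printed argument uses only the hypotheses kept here.) -/
theorem result (k : Type u) [Field k]
    (X C : Scheme.{u}) [X.Over (Spec (CommRingCat.of k))] [C.Over (Spec (CommRingCat.of k))]
    (f : X ⟶ C) [f.IsOver (Spec (CommRingCat.of k))] [IrreducibleSpace X] [IrreducibleSpace C]
    [GeometricallyIrreducible (C ↘ Spec (CommRingCat.of k))] [Flat f] [LocallyOfFiniteType f]
    [GeometricallyIrreducible (f.fiberToSpecResidueField (genericPoint C))] :
    GeometricallyIrreducible (X ↘ Spec (CommRingCat.of k)) := by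
  refine ⟨geometrically_iff_of_isClosedUnderIsomorphisms.mpr fun K _ y => ?_⟩
  -- base change of `C`
  haveI hC' : IrreducibleSpace ↥(pullback (C ↘ Spec (CommRingCat.of k)) y) :=
    pullback_of_geometrically
      (inferInstance : GeometricallyIrreducible (C ↘ Spec (CommRingCat.of k))).geometrically_irreducibleSpace
      K y
  haveI : Flat y := inferInstance
  haveI : Flat (pullback.fst (C ↘ Spec (CommRingCat.of k)) y) := inferInstance
  haveI h1 : IrreducibleSpace ↥(pullback f (pullback.fst (C ↘ Spec (CommRingCat.of k)) y)) :=
    Groth.Agent.Lib.Helper14.GenFibIrr.irreducibleSpace_pullback_of_flat f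
      (pullback.fst (C ↘ Spec (CommRingCat.of k)) y)
  have e1 : pullback f (pullback.fst (C ↘ Spec (CommRingCat.of k)) y) ≅
      pullback (f ≫ (C ↘ Spec (CommRingCat.of k))) y :=
    pullbackRightPullbackFstIso (C ↘ Spec (CommRingCat.of k)) y f
  have hover : f ≫ (C ↘ Spec (CommRingCat.of k)) = X ↘ Spec (CommRingCat.of k) :=
    CategoryTheory.comp_over f (Spec (CommRingCat.of k))
  have e2 : pullback (f ≫ (C ↘ Spec (CommRingCat.of k))) y ≅
      pullback (X ↘ Spec (CommRingCat.of k)) y := pullback.congrHom hover rfl
  exact ((e1 ≪≫ e2).hom.homeomorph).irreducibleSpace_iff.mp h1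

end Groth.Agent.S17181
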