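import Groth.Statements.S17246
import Groth.Agent.Lib.Helper15.Wronsk3

set_option linter.style.haveILetI false

set_option autoImplicit false
open W4c4effdivwronsk2

namespace Groth.Agent.S17246

open Polynomial in
/-- Let `k` be a field of characteristic zero and take, on the projective line over `k`, the point `∞`
and `m` further distinct points `r_1, …, r_m` of the affine line, with positive integers `b` (at
`∞`) and `a_1, …, a_m`; put `N = b + ∑ a_j`. The sum of the spaces of differentials with a single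
pole, of order at most `b + 1` at `∞`, resp. at most `a_j + 1` at `r_j`, `V = H⁰(ω((b+1)∞)) + ∑_j
H⁰(ω((a_j+1)r_j)) ⊆ H⁰(ω((b+1)∞ + ∑_j (a_j+1)r_j)) ≅ H⁰(O(d))`, `d = b - 1 + ∑ (a_j+1)`, becomes,
after multiplying by `dX⁻¹ ∏_j (X - r_j)^(a_j+1)`, the subspace of `k[X]_{≤ d}` spanned by
`D·k[X]_{<b}` and the `D_i·k[X]_{<a_i}`, where `D = ∏_j (X - r_j)^(a_j+1)` and `D_i` omits the
`i`-th factor; a member `h` vanishes to order `n` at a point `q` of the affine line when `(X - q)^n
∣ h`, and to order `d - deg h` at `∞`. Let `p` be a further point of the affine line, distinct from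
the `r_j`, and `V₁ = V(-p)` the members divisible by `X - p` (an `(N-1)`-dimensional system in the
line bundle twisted down by `p`, with vanishing orders at the marked points read off as for `V`).
With the weight of `V₁` at a marked point defined as `∑_{n=1}^{d} dim V₁(-n·point) - (N-1 choose
2)`: the weight at `r_i` is `∑_{j≠i} a_j + b - 1 + ε_i` and the weight at `∞` is `∑_j a_j - 1 + ε`,
with all `ε` in `{0, 1}`. (The published statement is over the complex numbers with all points
arbitrary; one marked point is placed at `∞` here and `p` is taken distinct from the marked points.) -/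
theorem result
    (k : Type*) [Field k] [CharZero k] (m : ℕ) (r : Fin m → k) (hr : Function.Injective r)
    (a : Fin m → ℕ) (ha : ∀ j, 1 ≤ a j) (b : ℕ) (hb : 1 ≤ b) (N d : ℕ)
    (hN : N = (∑ j, a j) + b) (hd : d + 1 = (∑ j, (a j + 1)) + b)
    (V : Submodule k (Polynomial k))
    (hV : V = (Polynomial.degreeLT k b).map (LinearMap.mulLeft k (∏ j, (X - C (r j)) ^ (a j + 1))) ⊔
      ⨆ i, (Polynomial.degreeLT k (a i)).map
        (LinearMap.mulLeft k (∏ j ∈ Finset.univ.erase i, (X - C (r j)) ^ (a j + 1))))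
    (p : k) (hp : ∀ j, p ≠ r j) (V₁ : Submodule k (Polynomial k))
    (hV₁ : V₁ = V ⊓ (Ideal.span {X - C p}).restrictScalars k) :
    (∀ i : Fin m, ∃ ε : ℕ, ε ≤ 1 ∧
      (∑ n ∈ Finset.range d, Module.finrank k ↥(V₁ ⊓ (Ideal.span {(X - C (r i)) ^ (n + 1)}).restrictScalars k)) + 1 =
        (N - 1).choose 2 + (N - a i) + ε) ∧
    (∃ ε : ℕ, ε ≤ 1 ∧
      (∑ n ∈ Finset.range d, Module.finrank k ↥(V₁ ⊓ Polynomial.degreeLT k (d - n))) + 1 =
        (N - 1).choose 2 + (N - b) + ε) := by
  have hV' : V = Groth.Agent.Lib.helper15.Wronsk.Vsub r a b := hV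
  have hVW := Groth.Agent.Lib.helper15.Wronsk.Vsub_eq_Wsub r a hN ha hr
  have hV₁' : V₁ = Groth.Agent.Lib.helper15.Wronsk.Wsub r a N ⊓
      (Ideal.span {X - C p}).restrictScalars k := by rw [hV₁, hV', hVW]
  have hV₁W : V₁ ≤ Groth.Agent.Lib.helper15.Wronsk.Wsub r a N := by
    rw [hV₁']; exact inf_le_left
  have hfin : Module.finrank k ↥V₁ + 1 = N := by
    rw [hV₁']; exact Groth.Agent.Lib.helper15.Wronsk.finrank_drop hN hb hp
  have hsum : (∑ j, (a j + 1)) = (∑ j, a j) + m := by
    rw [Finset.sum_add_distrib, Finset.sum_const, Finset.card_univ, Fintype.card_fin,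
      smul_eq_mul, mul_one]
  have hdm : d + 1 = N + m := by omega
  constructor
  · intro i
    refine Groth.Agent.Lib.helper15.Wronsk.exists_eps_marked hr hN hb hV₁W hfin i ?_ hdm
    rw [hV₁']
    exact Groth.Agent.Lib.helper15.Wronsk.not_pair_mem_comap_drop hp
      (Groth.Agent.Lib.helper15.Wronsk.isCoprime_sq_pow (fun h => hp i h.symm) (N - 1))
  · refine Groth.Agent.Lib.helper15.Wronsk.exists_eps_infty_high hN hb hV₁W hfin ?_ hdm
    rw [hV₁']
    have h1 := Groth.Agent.Lib.helper15.Wronsk.not_pair_mem_comap_drop (r := r) (a := a) (N := N) hp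
      (u := 1) isCoprime_one_right
    rwa [one_mul] at h1

end Groth.Agent.S17246
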