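import Groth.Statements.S17247
import Mathlib
import Groth.Agent.Lib.Helper15.FFWeight

set_option autoImplicit false
set_option linter.style.haveILetI false
open FunFld

namespace Groth.Agent.S17247

open Groth.Agent.Lib.helper10 Groth.Agent.Lib.helper15

/-- Let `K/k` be a function field of one variable of genus one over an algebraically closed field `k` of
characteristic zero (an elliptic curve `E`), `A` a place, and `g ≥ 3` an odd integer. Inside
`H⁰(O_E((2g-2)A)) = L((2g-2)A)` consider `V = L(gA)` (dimension `g`) and any hyperplane `V₁` of it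
containing `L((g-2)A)`: `L((g-2)A) ⊆ V₁ ⊆ L(gA)`, `dim V₁ = g - 1`. Vanishing orders are those of
sections of `O_E((2g-2)A)`: a member `f` vanishes to order at least `n` at a place `Q` when `f ∈
L((2g-2)A - nQ)`, and the weight of `V₁` at `Q` is `∑_{n=1}^{2g-2} dim (V₁ ∩ L((2g-2)A - nQ)) - (g-1
choose 2)` (the sum of the `g - 1` vanishing orders minus `0 + 1 + ⋯ + (g-2)`). Then the weight of
`V₁` at every place `Q ≠ A` is at most `2`. (The published statement is for a smooth elliptic curve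
over the complex numbers and allows every odd positive `g`; for `g = 1` the inclusion `O(gA) ⊆
O((2g-2)A)` it uses fails, so `g ≥ 3` here.) -/
theorem result
    (k K : Type*) [Field k] [IsAlgClosed k] [CharZero k] [Field K] [Algebra k K]
    (hK : FunFld.IsFunctionField k K) (hg1 : FunFld.genus k K = 1)
    (g : ℕ) (hodd : Odd g) (h3 : 3 ≤ g) (A : FunFld.Place k K)
    (V₁ : Submodule k K) (hlo : FunFld.L (Finsupp.single A ((g : ℤ) - 2)) ≤ V₁)
    (hhi : V₁ ≤ FunFld.L (Finsupp.single A (g : ℤ))) (hdim : Module.finrank k ↥V₁ + 1 = g)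
    (Q : FunFld.Place k K) (hQ : Q ≠ A) :
    (∑ n ∈ Finset.range (2 * g - 2), Module.finrank k
        ↥(V₁ ⊓ FunFld.L (Finsupp.single A (2 * (g : ℤ) - 2) - Finsupp.single Q ((n : ℤ) + 1)))) ≤
      (g - 1).choose 2 + 2 := by
  classical
  obtain ⟨t, rfl⟩ : ∃ t, g = t + 3 := ⟨g - 3, by omega⟩
  have hg0 : 0 < FunFld.genus k K := by omega
  haveI : FiniteDimensional k V₁ := Module.finite_of_finrank_pos (by omega)
  have hV : Module.finrank k ↥V₁ = t + 2 := by omega
  set D : FunFld.Divisor k K := Finsupp.single A (2 * ((t + 3 : ℕ) : ℤ) - 2) with hD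
  set f : ℕ → ℕ := fun n => Module.finrank k
    ↥(V₁ ⊓ FunFld.L (D - Finsupp.single Q ((n : ℤ) + 1))) with hf
  have hlo' : FunFld.L (Finsupp.single A ((t : ℤ) + 1)) ≤ V₁ := by
    convert hlo using 3
    push_cast
    ring
  have hhi' : V₁ ≤ FunFld.L (Finsupp.single A ((t : ℤ) + 3)) := by
    convert hhi using 3
    push_cast
    ring
  have hdegs : ∀ a m : ℤ, FunFld.Divisor.deg
      (Finsupp.single A a - Finsupp.single Q m : FunFld.Divisor k K) = a - m := by
    intro a m
    rw [FF.deg_sub, FF.deg_single, FF.deg_single, FF.Place.deg_eq_one hK, FF.Place.deg_eq_one hK]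
    simp
  have hU : Module.finrank k ↥(FunFld.L (Finsupp.single A ((t : ℤ) + 1) : FunFld.Divisor k K)) =
      t + 1 := by
    have := FFW.ell_single_genus_one hK hg1 A (t + 1)
    rw [if_neg (by omega)] at this
    push_cast at this
    exact this
  have b1 : ∀ n : ℕ, f n ≤ FunFld.ell (Finsupp.single A ((t : ℤ) + 1) -
      Finsupp.single Q ((n : ℤ) + 1) : FunFld.Divisor k K) + 1 := by
    intro n
    have h1 := FFW.finrank_inf_le_add_one (U := FunFld.L (Finsupp.single A ((t : ℤ) + 1)))
      (V := V₁) (W := FunFld.L (D - Finsupp.single Q ((n : ℤ) + 1))) hlo' (by omega)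
    refine h1.trans (Nat.add_le_add_right ?_ 1)
    haveI := FF.finiteDimensional_L hK (Finsupp.single A ((t : ℤ) + 1) -
      Finsupp.single Q ((n : ℤ) + 1) : FunFld.Divisor k K)
    exact Submodule.finrank_mono (FFW.L_single_inf_le hQ _ _ _)
  have b2 : ∀ n : ℕ, f n ≤ FunFld.ell (Finsupp.single A ((t : ℤ) + 3) -
      Finsupp.single Q ((n : ℤ) + 1) : FunFld.Divisor k K) := by
    intro n
    haveI := FF.finiteDimensional_L hK (Finsupp.single A ((t : ℤ) + 3) -
      Finsupp.single Q ((n : ℤ) + 1) : FunFld.Divisor k K)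
    exact Submodule.finrank_mono
      (le_trans (inf_le_inf_right _ hhi') (FFW.L_single_inf_le hQ _ _ _))
  -- the two possible torsion contributions
  set ε₁ := FunFld.ell (Finsupp.single A ((t : ℤ) + 1) -
      Finsupp.single Q ((t : ℤ) + 1) : FunFld.Divisor k K) with hε₁
  set ε₂ := FunFld.ell (Finsupp.single A ((t : ℤ) + 1 + 2) -
      Finsupp.single Q ((t : ℤ) + 1 + 2) : FunFld.Divisor k K) with hε₂
  have he1 : ε₁ ≤ 1 := FFW.ell_le_one_of_deg_zero hK (by rw [hdegs]; ring)
  have he2 : ε₂ ≤ 1 := FFW.ell_le_one_of_deg_zero hK (by rw [hdegs]; ring)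
  have he12 : ε₁ + ε₂ ≤ 1 := by
    by_contra hcon
    have hoddt : Odd ((t : ℤ) + 1) := by
      obtain ⟨s, hs⟩ := hodd
      exact ⟨(s : ℤ) - 1, by push_cast; omega⟩
    exact FFW.not_both_torsion hK hg0 hQ hoddt (by omega) (by omega)
  -- the individual bounds
  have hA : ∀ n, n < t → f n ≤ (t - n) + 1 := by
    intro n hn
    refine (b1 n).trans (Nat.add_le_add_right ?_ 1)
    have h1 := FF.ell_of_deg_ge hK (D := (Finsupp.single A ((t : ℤ) + 1) -
      Finsupp.single Q ((n : ℤ) + 1) : FunFld.Divisor k K)) (by rw [hdegs, hg1]; push_cast; omega)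
    rw [hdegs, hg1] at h1
    push_cast at h1
    omega
  have hB : f t ≤ ε₁ + 1 := b1 t
  have hC : f (t + 1) ≤ 1 := by
    refine (b1 (t + 1)).trans ?_
    rw [FF.ell_eq_zero_of_deg_neg hK (by rw [hdegs]; push_cast; omega)]
  have hDD : f (t + 1 + 1) ≤ ε₂ := by
    refine (b2 (t + 1 + 1)).trans (le_of_eq ?_)
    rw [hε₂]
    congr 3 <;> push_cast <;> ring
  have hE : ∀ i, f (t + 1 + 1 + 1 + i) = 0 := by
    intro i
    have := b2 (t + 1 + 1 + 1 + i)
    rw [FF.ell_eq_zero_of_deg_neg hK (by rw [hdegs]; push_cast; omega)] at this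
    omega
  change ∑ n ∈ Finset.range (2 * (t + 3) - 2), f n ≤ _
  have hsplit : 2 * (t + 3) - 2 = t + 1 + 1 + 1 + (t + 1) := by omega
  have S1 : ∑ n ∈ Finset.range t, f n ≤ (t + 1).choose 2 + t := by
    refine (Finset.sum_le_sum (fun n hn => hA n (Finset.mem_range.mp hn))).trans (le_of_eq ?_)
    rw [Finset.sum_add_distrib, FFW.tri]
    simp
  have S2 : ∑ i ∈ Finset.range (t + 1), f (t + 1 + 1 + 1 + i) = 0 :=
    Finset.sum_eq_zero (fun i _ => hE i)
  rw [hsplit, Finset.sum_range_add, Finset.sum_range_succ, Finset.sum_range_succ,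
    Finset.sum_range_succ, S2]
  have e2 : t + 3 - 1 = t + 1 + 1 := by omega
  have e3 : (t + 1 + 1).choose 2 = t + 1 + (t + 1).choose 2 := by
    rw [Nat.choose_succ_succ' (t + 1) 1, Nat.choose_one_right]
  rw [e2, e3]
  have hDD' : f (t + 2) ≤ ε₂ := hDD
  omega

end Groth.Agent.S17247
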