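import Groth.Statements.S17248
import Mathlib
import Groth.Agent.Lib.Helper15.FFWeight

set_option autoImplicit false
open FunFld

namespace Groth.Agent.S17248

open Groth.Agent.Lib.helper10 Groth.Agent.Lib.helper15

/-- Let `K/k` be a function field of one variable of genus one over an algebraically closed field `k` of
characteristic zero (an elliptic curve `E`), `A` a place, and `g ≥ 3` an integer. Inside
`H⁰(O_E((2g-2)A)) = L((2g-2)A)` consider `V = L(gA)` (dimension `g`) and any hyperplane `V₁` of it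
containing `L((g-2)A)`: `L((g-2)A) ⊆ V₁ ⊆ L(gA)`, `dim V₁ = g - 1`. Vanishing orders are those of
sections of `O_E((2g-2)A)`: a member `f` vanishes to order at least `n` at a place `Q` when `f ∈
L((2g-2)A - nQ)`, and the weight of `V₁` at `Q` is `∑_{n=1}^{2g-2} dim (V₁ ∩ L((2g-2)A - nQ)) - (g-1
choose 2)` (the sum of the `g - 1` vanishing orders minus `0 + 1 + ⋯ + (g-2)`). Then the weight of
`V₁` at `A` is `(g-1)² + ε` with `ε ∈ {0, 1}`. (The published statement is for a smooth elliptic
curve over the complex numbers and `g` odd positive; `g ≥ 3` here since the ambient inclusion needs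
it; this row does not assume `g` odd.) -/
theorem result
    (k K : Type*) [Field k] [IsAlgClosed k] [CharZero k] [Field K] [Algebra k K]
    (hK : FunFld.IsFunctionField k K) (hg1 : FunFld.genus k K = 1)
    (g : ℕ) (h3 : 3 ≤ g) (A : FunFld.Place k K)
    (V₁ : Submodule k K) (hlo : FunFld.L (Finsupp.single A ((g : ℤ) - 2)) ≤ V₁)
    (hhi : V₁ ≤ FunFld.L (Finsupp.single A (g : ℤ))) (hdim : Module.finrank k ↥V₁ + 1 = g) :
    ∃ ε : ℕ, ε ≤ 1 ∧
      (∑ n ∈ Finset.range (2 * g - 2), Module.finrank k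
        ↥(V₁ ⊓ FunFld.L (Finsupp.single A (2 * (g : ℤ) - 2) - Finsupp.single A ((n : ℤ) + 1)))) =
      (g - 1).choose 2 + (g - 1) ^ 2 + ε := by
  classical
  obtain ⟨t, rfl⟩ : ∃ t, g = t + 3 := ⟨g - 3, by omega⟩
  haveI : FiniteDimensional k V₁ := Module.finite_of_finrank_pos (by omega)
  have hV : Module.finrank k ↥V₁ = t + 2 := by omega
  set f : ℕ → ℕ := fun n => Module.finrank k
    ↥(V₁ ⊓ FunFld.L (Finsupp.single A (2 * ((t + 3 : ℕ) : ℤ) - 2) - Finsupp.single A ((n : ℤ) + 1)))
    with hf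
  have hdiv : ∀ n : ℕ, (Finsupp.single A (2 * ((t + 3 : ℕ) : ℤ) - 2) -
      Finsupp.single A ((n : ℤ) + 1) : FunFld.Divisor k K) =
      Finsupp.single A (2 * (t : ℤ) + 3 - n) := by
    intro n
    rw [← Finsupp.single_sub]
    congr 1
    push_cast
    ring
  have hlo' : FunFld.L (Finsupp.single A ((t : ℤ) + 1)) ≤ V₁ := by
    convert hlo using 3
    push_cast
    ring
  have hhi' : V₁ ≤ FunFld.L (Finsupp.single A ((t : ℤ) + 3)) := by
    convert hhi using 3
    push_cast
    ring
  have hA : ∀ n, n < t + 1 → f n = t + 2 := by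
    intro n hn
    simp only [hf]
    rw [hdiv, inf_eq_left.mpr, hV]
    exact hhi'.trans (FFW.L_single_mono A (by omega))
  have hB : ∀ i, i < t + 2 → f (t + 1 + 1 + i) = if i = t + 1 then 1 else t + 1 - i := by
    intro i hi
    simp only [hf]
    rw [hdiv]
    have e1 : (2 * (t : ℤ) + 3 - ((t + 1 + 1 + i : ℕ) : ℤ)) = ((t + 1 - i : ℕ) : ℤ) := by
      push_cast [Nat.cast_sub (by omega : i ≤ t + 1)]
      ring
    rw [e1, inf_eq_right.mpr, FFW.ell_single_genus_one hK hg1]
    · by_cases h : i = t + 1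
      · rw [if_pos h, if_pos (by omega)]
      · rw [if_neg h, if_neg (by omega)]
    · refine le_trans (FFW.L_single_mono A ?_) hlo'
      push_cast [Nat.cast_sub (by omega : i ≤ t + 1)]
      omega
  have hM1 : t + 1 ≤ f (t + 1) := by
    simp only [hf]
    rw [hdiv]
    have h1 : FunFld.L (Finsupp.single A ((t : ℤ) + 1)) ≤
        V₁ ⊓ FunFld.L (Finsupp.single A (2 * (t : ℤ) + 3 - ((t + 1 : ℕ) : ℤ))) :=
      le_inf hlo' (FFW.L_single_mono A (by push_cast; omega))
    haveI : FiniteDimensional k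
        ↥(V₁ ⊓ FunFld.L (Finsupp.single A (2 * (t : ℤ) + 3 - ((t + 1 : ℕ) : ℤ)))) :=
      Submodule.finiteDimensional_of_le inf_le_left
    have h2 := Submodule.finrank_mono h1
    have h3 := FFW.ell_single_genus_one hK hg1 A (t + 1)
    rw [if_neg (by omega)] at h3
    push_cast at h3
    rw [h3] at h2
    exact h2
  have hM2 : f (t + 1) ≤ t + 2 := by
    simp only [hf]
    rw [← hV]
    exact Submodule.finrank_mono inf_le_left
  obtain ⟨ε, hε⟩ : ∃ ε, f (t + 1) = t + 1 + ε := ⟨f (t + 1) - (t + 1), by omega⟩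
  refine ⟨ε, by omega, ?_⟩
  change ∑ n ∈ Finset.range (2 * (t + 3) - 2), f n = _
  have hsplit : 2 * (t + 3) - 2 = (t + 1) + 1 + (t + 2) := by omega
  have S1 : ∑ n ∈ Finset.range (t + 1), f n = (t + 1) * (t + 2) := by
    rw [Finset.sum_congr rfl (fun n hn => hA n (Finset.mem_range.mp hn))]
    simp only [Finset.sum_const, Finset.card_range, smul_eq_mul]
  have S3 : ∑ i ∈ Finset.range (t + 2), f (t + 1 + 1 + i) = (t + 2).choose 2 + 1 := by
    rw [Finset.sum_congr rfl (fun i hi => hB i (Finset.mem_range.mp hi))]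
    rw [show t + 2 = (t + 1) + 1 from rfl, Finset.sum_range_succ, if_pos rfl]
    have h4 : ∀ i ∈ Finset.range (t + 1), (if i = t + 1 then 1 else t + 1 - i) = t + 1 - i := by
      intro i hi
      rw [if_neg (by have := Finset.mem_range.mp hi; omega)]
    rw [Finset.sum_congr rfl h4, FFW.tri]
  rw [hsplit, Finset.sum_range_add, Finset.sum_range_succ, S1, S3, hε]
  have e2 : t + 3 - 1 = t + 2 := by omega
  rw [e2]
  ring

end Groth.Agent.S17248
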