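import Groth.Statements.S17249
import Mathlib
import Groth.Agent.Lib.Helper15.FFWeight

set_option autoImplicit false
set_option linter.style.haveILetI false
open FunFld

namespace Groth.Agent.S17249

open Groth.Agent.Lib.helper10 Groth.Agent.Lib.helper15

/-- Let `K/k` be a function field of one variable of genus two over an algebraically closed field `k` of
characteristic zero (a smooth curve `X` of genus `2`), `C` a canonical divisor, `A` a place with
`ℓ(2A) = 1` (not a Weierstrass point), and `P`, `Q` places with `Q ≠ A`. Then `ℓ(C + 2A - P - 3Q) =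
1` and `ℓ(C + 2A - P - Q) = 2` do not both hold: the two-dimensional complete system `H⁰(ω_X(2A -
P))` (of degree `3`) has no point `Q ≠ A` of weight three. (The published statement concerns a
general pointed curve `(X, A)` of genus two over the complex numbers and a point `P` of `X`; this
row assumes only `ℓ(2A) = 1`.) -/
theorem result
    (k K : Type*) [Field k] [IsAlgClosed k] [CharZero k] [Field K] [Algebra k K]
    (hK : FunFld.IsFunctionField k K) (hg : FunFld.genus k K = 2)
    (C : FunFld.Divisor k K) (hC : FunFld.IsCanonical k K C)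
    (A P Q : FunFld.Place k K) (hA : Module.finrank k ↥(FunFld.L (Finsupp.single A (2 : ℤ))) = 1) (hQ : Q ≠ A) :
    ¬ (Module.finrank k ↥(FunFld.L (C + Finsupp.single A (2 : ℤ) - Finsupp.single P (1 : ℤ) - Finsupp.single Q (3 : ℤ))) = 1 ∧
       Module.finrank k ↥(FunFld.L (C + Finsupp.single A (2 : ℤ) - Finsupp.single P (1 : ℤ) - Finsupp.single Q (1 : ℤ))) = 2) := by
  classical
  rintro ⟨-, h2⟩
  have hdegP : ∀ P : FunFld.Place k K, P.deg = 1 := FF.Place.deg_eq_one hK
  obtain ⟨hCell, hCdeg⟩ := FF.ell_canonical hK hC
  rw [hg] at hCell hCdeg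
  norm_num at hCdeg
  change FunFld.ell _ = _ at h2 hA
  set E : FunFld.Divisor k K := Finsupp.single P 1 + Finsupp.single Q 1 - Finsupp.single A 2 with hE
  have hE1 : FunFld.ell E = 1 := by
    have hrr := FF.riemann_roch hK hC
      (C + Finsupp.single A 2 - Finsupp.single P 1 - Finsupp.single Q 1)
    have e : C - (C + Finsupp.single A 2 - Finsupp.single P 1 - Finsupp.single Q 1) = E := by
      rw [hE]
      abel
    rw [e, h2, hg, FF.deg_sub, FF.deg_sub, FF.deg_add, FF.deg_single, FF.deg_single, FF.deg_single,
      hdegP, hdegP, hdegP, hCdeg] at hrr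
    push_cast at hrr
    omega
  have hEdeg : E.deg = 0 := by
    rw [hE, FF.deg_sub, FF.deg_add, FF.deg_single, FF.deg_single, FF.deg_single,
      hdegP, hdegP, hdegP]
    norm_num
  obtain ⟨z, hz0, hz⟩ := FFW.exists_div_eq_neg hK hEdeg (by omega)
  have hzi : FunFld.div k z⁻¹ = E := by rw [FF.div_inv hK, hz, neg_neg]
  have hmem : z⁻¹ ∈ FunFld.L (Finsupp.single A 2 : FunFld.Divisor k K) := by
    rw [FF.mem_L_iff_div hK (inv_ne_zero hz0), hzi]
    have : Finsupp.single A 2 + E = Finsupp.single P 1 + Finsupp.single Q 1 := by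
      rw [hE]
      abel
    rw [this]
    exact add_nonneg (FF.single_nonneg' P zero_le_one) (FF.single_nonneg' Q zero_le_one)
  obtain ⟨c, hc⟩ := FFW.exists_const_of_ell_le_one hK (FF.single_nonneg' A zero_le_two)
    (by omega) hmem
  rw [← hc, FF.div_algebraMap hK] at hzi
  have := DFunLike.congr_fun hzi Q
  rw [hE, Finsupp.sub_apply, Finsupp.add_apply, Finsupp.single_eq_same, Finsupp.single_apply,
    Finsupp.single_apply, if_neg (Ne.symm hQ)] at this
  simp only [Finsupp.coe_zero, Pi.zero_apply] at this
  split_ifs at this <;> omega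

end Groth.Agent.S17249
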