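import Groth.Statements.S17250
import Mathlib
import Groth.Agent.Lib.Helper15.FFWeight

set_option autoImplicit false
set_option linter.style.haveILetI false
open FunFld

namespace Groth.Agent.S17250

open Groth.Agent.Lib.helper10 Groth.Agent.Lib.helper15

/-- Let `K/k` be a function field of one variable of genus two over an algebraically closed field `k` of
characteristic zero (a smooth curve `X` of genus `2`), `C` a canonical divisor, `A` a place with
`ℓ(2A) = 1`, and `P`, `Q` places different from `A`. Then `ℓ(C + 3A - P - 4Q) = 1` and `ℓ(C + 3A - P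
- 2Q) = 2` do not both hold (the three-dimensional complete system `H⁰(ω_X(3A - P))`, of degree `4`,
has no point `Q ≠ A` with two independent sections vanishing to order at least `2` there and one
vanishing to order at least `4`). (The published statement concerns a general pointed curve `(X, A)`
of genus two over the complex numbers and a point `P ≠ A`; this row assumes `ℓ(2A) = 1` in place of
generality.) -/
theorem result
    (k K : Type*) [Field k] [IsAlgClosed k] [CharZero k] [Field K] [Algebra k K]
    (hK : FunFld.IsFunctionField k K) (hg : FunFld.genus k K = 2)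
    (C : FunFld.Divisor k K) (hC : FunFld.IsCanonical k K C)
    (A P Q : FunFld.Place k K) (hA : Module.finrank k ↥(FunFld.L (Finsupp.single A (2 : ℤ))) = 1) (hP : P ≠ A) (hQ : Q ≠ A) :
    ¬ (Module.finrank k ↥(FunFld.L (C + Finsupp.single A (3 : ℤ) - Finsupp.single P (1 : ℤ) - Finsupp.single Q (4 : ℤ))) = 1 ∧
       Module.finrank k ↥(FunFld.L (C + Finsupp.single A (3 : ℤ) - Finsupp.single P (1 : ℤ) - Finsupp.single Q (2 : ℤ))) = 2) := by
  classical
  rintro ⟨h1, h2⟩
  have hdegP : ∀ P : FunFld.Place k K, P.deg = 1 := FF.Place.deg_eq_one hK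
  obtain ⟨hCell, hCdeg⟩ := FF.ell_canonical hK hC
  rw [hg] at hCell hCdeg
  norm_num at hCdeg
  change FunFld.ell _ = _ at h1 h2 hA
  -- from h2: 3A - P - 2Q is principal
  set E : FunFld.Divisor k K := Finsupp.single P 1 + Finsupp.single Q 2 - Finsupp.single A 3 with hE
  have hE1 : FunFld.ell E = 1 := by
    have hrr := FF.riemann_roch hK hC
      (C + Finsupp.single A 3 - Finsupp.single P 1 - Finsupp.single Q 2)
    have e : C - (C + Finsupp.single A 3 - Finsupp.single P 1 - Finsupp.single Q 2) = E := by
      rw [hE]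
      abel
    rw [e, h2, hg, FF.deg_sub, FF.deg_sub, FF.deg_add, FF.deg_single, FF.deg_single, FF.deg_single,
      hdegP, hdegP, hdegP, hCdeg] at hrr
    push_cast at hrr
    omega
  have hEdeg : E.deg = 0 := by
    rw [hE, FF.deg_sub, FF.deg_add, FF.deg_single, FF.deg_single, FF.deg_single,
      hdegP, hdegP, hdegP]
    norm_num
  obtain ⟨z, hz0, hz⟩ := FFW.exists_div_eq_neg hK hEdeg (by omega)
  -- from h1
  have hD1deg : FunFld.Divisor.deg
      (C + Finsupp.single A 3 - Finsupp.single P 1 - Finsupp.single Q 4) = 0 := by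
    rw [FF.deg_sub, FF.deg_sub, FF.deg_add, FF.deg_single, FF.deg_single, FF.deg_single,
      hdegP, hdegP, hdegP, hCdeg]
    norm_num
  obtain ⟨w, hw0, hw⟩ := FFW.exists_div_eq_neg hK hD1deg (by omega)
  -- ℓ(3A - P) = ℓ(C) = 2
  have he : FunFld.ell (Finsupp.single A 3 - Finsupp.single P 1 : FunFld.Divisor k K) = 2 := by
    have e1 := FF.ell_add_div hK (Finsupp.single A 3 - Finsupp.single P 1) (inv_ne_zero hw0)
    have hzi : z⁻¹ ≠ 0 := inv_ne_zero hz0
    have e2 := FF.ell_add_div hK (Finsupp.single A 3 - Finsupp.single P 1 + FunFld.div k w⁻¹) hzi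
    have e3 := FF.ell_add_div hK (Finsupp.single A 3 - Finsupp.single P 1 + FunFld.div k w⁻¹ +
      FunFld.div k z⁻¹) hzi
    have e4 : Finsupp.single A 3 - Finsupp.single P 1 + FunFld.div k w⁻¹ +
      FunFld.div k z⁻¹ + FunFld.div k z⁻¹ = C := by
      have : (Finsupp.single Q 4 : FunFld.Divisor k K) =
          Finsupp.single Q 2 + Finsupp.single Q 2 := by
        rw [← Finsupp.single_add]
        norm_num
      rw [FF.div_inv hK, FF.div_inv hK, hw, hz, hE, this]
      abel
    rw [e4] at e3
    rw [← e1, ← e2, ← e3, hCell]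
  have hf : FunFld.ell (Finsupp.single A 3 : FunFld.Divisor k K) = 2 := by
    have h := FF.ell_of_deg_ge hK (D := (Finsupp.single A 3 : FunFld.Divisor k K))
      (by rw [hg, FF.deg_single, hdegP]; norm_num)
    rw [hg, FF.deg_single, hdegP] at h
    push_cast at h
    omega
  have hle : FunFld.L (Finsupp.single A 3 - Finsupp.single P 1 : FunFld.Divisor k K) ≤
      FunFld.L (Finsupp.single A 3) :=
    FF.L_mono (sub_le_self _ (FF.single_nonneg' P zero_le_one))
  haveI := FF.finiteDimensional_L hK (Finsupp.single A 3 : FunFld.Divisor k K)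
  have heq := Submodule.eq_of_le_of_finrank_eq hle (by
    change FunFld.ell _ = FunFld.ell _
    rw [he, hf])
  have h1m : (1 : K) ∈ FunFld.L (Finsupp.single A 3 - Finsupp.single P 1 : FunFld.Divisor k K) := by
    rw [heq, FFW.one_mem_L_iff hK]
    exact FF.single_nonneg' A (by norm_num)
  rw [FFW.one_mem_L_iff hK] at h1m
  have := h1m P
  rw [Finsupp.sub_apply, Finsupp.single_eq_same, Finsupp.single_apply, if_neg (Ne.symm hP)]
    at this
  simp at this

end Groth.Agent.S17250
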