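import Groth.Statements.S17251
import Mathlib
import Groth.Agent.Lib.Helper15.FFWeight

set_option autoImplicit false
set_option linter.style.haveILetI false
open FunFld

namespace Groth.Agent.S17251

open Groth.Agent.Lib.helper10 Groth.Agent.Lib.helper15

/-- Let `K/k` be a function field of one variable of genus two over an algebraically closed field `k` of
characteristic zero (a smooth curve `Y` of genus `2`), `C` a canonical divisor, `B` a place with
`ℓ(2B) = 1` (not a Weierstrass point) and `Q ≠ B` a place. Then `ℓ(C + B - 2Q) = 1` and `ℓ(C + 3B -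
4Q) = 1` do not both hold: the complete systems `H⁰(ω_Y(B))` (dimension `2`, degree `3`) and
`H⁰(ω_Y(3B))` (dimension `4`, degree `5`) have no ramification point in common on `Y` minus `B`.
(The published statement concerns a general pointed curve `(Y, B)` of genus two over the complex
numbers; this row assumes only `ℓ(2B) = 1`.) -/
theorem result
    (k K : Type*) [Field k] [IsAlgClosed k] [CharZero k] [Field K] [Algebra k K]
    (hK : FunFld.IsFunctionField k K) (hg : FunFld.genus k K = 2)
    (C : FunFld.Divisor k K) (hC : FunFld.IsCanonical k K C)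
    (B Q : FunFld.Place k K) (hB : Module.finrank k ↥(FunFld.L (Finsupp.single B (2 : ℤ))) = 1) (hQ : Q ≠ B) :
    ¬ (Module.finrank k ↥(FunFld.L (C + Finsupp.single B (1 : ℤ) - Finsupp.single Q (2 : ℤ))) = 1 ∧
       Module.finrank k ↥(FunFld.L (C + Finsupp.single B (3 : ℤ) - Finsupp.single Q (4 : ℤ))) = 1) := by
  classical
  rintro ⟨h1, h2⟩
  have hdegP : ∀ P : FunFld.Place k K, P.deg = 1 := FF.Place.deg_eq_one hK
  obtain ⟨hCell, hCdeg⟩ := FF.ell_canonical hK hC
  rw [hg] at hCell hCdeg
  norm_num at hCdeg
  change FunFld.ell _ = 1 at h1 h2 hB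
  -- (a) ℓ(2Q - B) = 1
  have ha : FunFld.ell (Finsupp.single Q 2 - Finsupp.single B 1 : FunFld.Divisor k K) = 1 := by
    have hrr := FF.riemann_roch hK hC (C + Finsupp.single B 1 - Finsupp.single Q 2)
    have e : C - (C + Finsupp.single B 1 - Finsupp.single Q 2) =
        Finsupp.single Q 2 - Finsupp.single B 1 := by abel
    rw [e, h1, hg, FF.deg_sub, FF.deg_add, FF.deg_single, FF.deg_single, hdegP, hdegP, hCdeg] at hrr
    push_cast at hrr
    omega
  -- (b) ℓ(2Q) ≥ 2
  have hb : 2 ≤ FunFld.ell (Finsupp.single Q 2 : FunFld.Divisor k K) := by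
    by_contra hlt
    obtain ⟨z, hz0, hz⟩ := FF.exists_ne_zero_mem_L hK (by omega : 0 < FunFld.ell
      (Finsupp.single Q 2 - Finsupp.single B 1 : FunFld.Divisor k K))
    have hz2 : z ∈ FunFld.L (Finsupp.single Q 2 : FunFld.Divisor k K) :=
      FF.L_mono (sub_le_self _ (FF.single_nonneg' B zero_le_one)) hz
    obtain ⟨c, rfl⟩ := FFW.exists_const_of_ell_le_one hK (FF.single_nonneg' Q zero_le_two)
      (by omega) hz2
    rw [FF.mem_L_iff_div hK hz0, FF.div_algebraMap hK, add_zero] at hz
    have := hz B
    rw [Finsupp.sub_apply, Finsupp.single_eq_same, Finsupp.single_apply, if_neg hQ] at this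
    simp at this
  -- (c) C ~ 2Q
  obtain ⟨u, hu0, hu⟩ : ∃ u : K, u ≠ 0 ∧ FunFld.div k u = -(C - Finsupp.single Q 2) := by
    have hdeg0 : FunFld.Divisor.deg (C - Finsupp.single Q 2) = 0 := by
      rw [FF.deg_sub, FF.deg_single, hdegP, hCdeg]
      norm_num
    apply FFW.exists_div_eq_neg hK hdeg0
    have hrr := FF.riemann_roch hK hC (Finsupp.single Q 2)
    rw [hg, FF.deg_single, hdegP] at hrr
    push_cast at hrr
    omega
  -- (d) ℓ(3B - C) = 1
  have hd : FunFld.ell (Finsupp.single B 3 - C : FunFld.Divisor k K) = 1 := by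
    have e1 := FF.ell_add_div hK (C + Finsupp.single B 3 - Finsupp.single Q 4) hu0
    have e2 := FF.ell_add_div hK (C + Finsupp.single B 3 - Finsupp.single Q 4 + FunFld.div k u) hu0
    have e3 : C + Finsupp.single B 3 - Finsupp.single Q 4 + FunFld.div k u + FunFld.div k u =
        Finsupp.single B 3 - C := by
      have : (Finsupp.single Q 4 : FunFld.Divisor k K) =
          Finsupp.single Q 2 + Finsupp.single Q 2 := by
        rw [← Finsupp.single_add]
        norm_num
      rw [hu, this]
      abel
    rw [e3] at e2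
    rw [e2, e1, h2]
  -- (e) 3B - C ~ R
  obtain ⟨R, v, hv0, hv⟩ := FFW.exists_place_of_deg_one hK (D := Finsupp.single B 3 - C)
    (by rw [FF.deg_sub, FF.deg_single, hdegP, hCdeg]; norm_num) (by omega)
  have he : FunFld.ell (Finsupp.single B 3 - Finsupp.single R 1 : FunFld.Divisor k K) = 2 := by
    have e1 := FF.ell_add_div hK C (inv_ne_zero hv0)
    have e2 : C + FunFld.div k v⁻¹ = Finsupp.single B 3 - Finsupp.single R 1 := by
      rw [FF.div_inv hK, ← hv]
      abel
    rw [e2] at e1
    rw [e1, hCell]
  -- (f)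
  have hf : FunFld.ell (Finsupp.single B 3 : FunFld.Divisor k K) = 2 := by
    have h := FF.ell_of_deg_ge hK (D := (Finsupp.single B 3 : FunFld.Divisor k K))
      (by rw [hg, FF.deg_single, hdegP]; norm_num)
    rw [hg, FF.deg_single, hdegP] at h
    push_cast at h
    omega
  have hle : FunFld.L (Finsupp.single B 3 - Finsupp.single R 1 : FunFld.Divisor k K) ≤
      FunFld.L (Finsupp.single B 3) :=
    FF.L_mono (sub_le_self _ (FF.single_nonneg' R zero_le_one))
  haveI := FF.finiteDimensional_L hK (Finsupp.single B 3 : FunFld.Divisor k K)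
  have heq := Submodule.eq_of_le_of_finrank_eq hle (by
    change FunFld.ell _ = FunFld.ell _
    rw [he, hf])
  have h1m : (1 : K) ∈ FunFld.L (Finsupp.single B 3 - Finsupp.single R 1 : FunFld.Divisor k K) := by
    rw [heq, FFW.one_mem_L_iff hK]
    exact FF.single_nonneg' B (by norm_num)
  rw [FFW.one_mem_L_iff hK] at h1m
  have hRB : R = B := by
    by_contra hne
    have := h1m R
    rw [Finsupp.sub_apply, Finsupp.single_eq_same, Finsupp.single_apply, if_neg (Ne.symm hne)]
      at this
    simp at this
  subst hRB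
  have : (Finsupp.single R 3 - Finsupp.single R 1 : FunFld.Divisor k K) = Finsupp.single R 2 := by
    rw [← Finsupp.single_sub]
    norm_num
  rw [this] at he
  omega

end Groth.Agent.S17251
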