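import Groth.Statements.S17254
import Groth.Agent.Lib.Helper7.OverCubeR
import Groth.Agent.Lib.Helper7.AbSchCube
import Groth.Agent.Lib.Helper5.OverField

set_option autoImplicit false
universe u
open CategoryTheory CategoryTheory.Limits MonoidalCategory CartesianMonoidalCategory AlgebraicGeometry
open PicF

namespace Groth.Agent.S17254

/-- Let k be a field and X, Y, Z schemes over k with k-rational points x₀, y₀, z₀; assume X is proper
and geometrically integral over k, Y is proper, geometrically reduced and geometrically connected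
over k, and Z is of finite type and geometrically integral over k. Let L be an invertible module on
X ×_k Y ×_k Z whose pullbacks to the slices {x₀} × Y × Z, X × {y₀} × Z and X × Y × {z₀} are all
trivial. Then L is trivial: isomorphic to the structure sheaf. -/
theorem result (k : Type u) [Field k]
    (X Y Z : Over (Spec (CommRingCat.of k)))
    [IsProper X.hom] [GeometricallyIntegral X.hom]
    [IsProper Y.hom] [GeometricallyReduced Y.hom] [GeometricallyConnected Y.hom]
    [LocallyOfFiniteType Z.hom] [QuasiCompact Z.hom] [GeometricallyIntegral Z.hom]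
    (x₀ : 𝟙_ (Over (Spec (CommRingCat.of k))) ⟶ X) (y₀ : 𝟙_ (Over (Spec (CommRingCat.of k))) ⟶ Y)
    (z₀ : 𝟙_ (Over (Spec (CommRingCat.of k))) ⟶ Z)
    (L : (X ⊗ Y ⊗ Z).left.Modules) (hL : PicF.IsInvertible L)
    (hx : Nonempty ((Scheme.Modules.pullback (lift (toUnit (Y ⊗ Z) ≫ x₀) (𝟙 (Y ⊗ Z))).left).obj L ≅ Coh.structureModule (Y ⊗ Z).left))
    (hy : Nonempty ((Scheme.Modules.pullback (lift (fst X Z) (lift (toUnit (X ⊗ Z) ≫ y₀) (snd X Z))).left).obj L ≅ Coh.structureModule (X ⊗ Z).left))
    (hz : Nonempty ((Scheme.Modules.pullback (lift (fst X Y) (lift (snd X Y) (toUnit (X ⊗ Y) ≫ z₀))).left).obj L ≅ Coh.structureModule (X ⊗ Y).left)) :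
    Nonempty (L ≅ Coh.structureModule (X ⊗ Y ⊗ Z).left) := by
  haveI : Flat X.hom := Groth.Agent.Lib.helper5.OverField.flat_of_field X.hom
  haveI : Flat Y.hom := Groth.Agent.Lib.helper5.OverField.flat_of_field Y.hom
  haveI : LocallyOfFinitePresentation X.hom :=
    LocallyOfFinitePresentation.iff_locallyOfFiniteType.mpr inferInstance
  haveI : LocallyOfFinitePresentation Y.hom :=
    LocallyOfFinitePresentation.iff_locallyOfFiniteType.mpr inferInstance
  haveI : Subsingleton ↥(Spec (CommRingCat.of k)) :=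
    Groth.Agent.Lib.helper5.OverField.subsingleton_spec_field k
  haveI : IsIntegral Z.left := GeometricallyIntegral.isIntegral_of_subsingleton Z.hom
  haveI : ConnectedSpace ↥Z.left := inferInstance
  have key : Groth.Agent.Lib.helper7.AbSchCube.P (Groth.Agent.Lib.helper7.PicGrp.mk L hL)
      (α_ X Y Z).hom = 1 := by
    refine Groth.Agent.Lib.helper7.OverCube.over_cube_R X Y Z x₀ y₀ z₀ _ ?_ ?_ ?_
    · rw [Groth.Agent.Lib.helper7.AbSchCube.map_P, lift_lift_associator_hom, lift_fst_snd,
        Groth.Agent.Lib.helper7.AbSchCube.P, Groth.Agent.Lib.helper7.PicGrp.map_mk,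
        Groth.Agent.Lib.helper7.PicGrp.mk_eq_one_iff]
      exact hx
    · rw [Groth.Agent.Lib.helper7.AbSchCube.map_P, lift_lift_associator_hom,
        Groth.Agent.Lib.helper7.AbSchCube.P, Groth.Agent.Lib.helper7.PicGrp.map_mk,
        Groth.Agent.Lib.helper7.PicGrp.mk_eq_one_iff]
      exact hy
    · have h1 : lift (𝟙 (X ⊗ Y)) (toUnit (X ⊗ Y) ≫ z₀) =
          lift (lift (fst X Y) (snd X Y)) (toUnit (X ⊗ Y) ≫ z₀) := by rw [lift_fst_snd]
      rw [Groth.Agent.Lib.helper7.AbSchCube.map_P, h1, lift_lift_associator_hom,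
        Groth.Agent.Lib.helper7.AbSchCube.P, Groth.Agent.Lib.helper7.PicGrp.map_mk,
        Groth.Agent.Lib.helper7.PicGrp.mk_eq_one_iff]
      exact hz
  have h2 := congrArg (Groth.Agent.Lib.helper7.PicGrp.map (α_ X Y Z).inv.left) key
  rw [Groth.Agent.Lib.helper7.AbSchCube.map_P, Iso.inv_hom_id, map_one,
    Groth.Agent.Lib.helper7.AbSchCube.P] at h2
  rw [Over.id_left, Groth.Agent.Lib.helper7.PicGrp.map_id,
    Groth.Agent.Lib.helper7.PicGrp.mk_eq_one_iff] at h2
  exact h2

end Groth.Agent.S17254
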