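import Groth.Statements.S1726
import Mathlib
import Groth.Agent.Lib.Helper19.CutoffFinite

set_option autoImplicit false
universe u
open LocCoh

namespace Groth.Agent.S1726




/-- Let A → B be a finite homomorphism of Noetherian rings with A universally catenary, I an ideal of A
and M a finite B-module. Then s_{B, IB}(M) = s_{A, I}(M), where M is regarded as an A-module by
restriction of scalars. -/
theorem result (A B : Type u) [CommRing A] [CommRing B] [Algebra A B] [IsNoetherianRing A] [IsNoetherianRing B] [Module.Finite A B] (hA : CAlg.IsUniversallyCatenary A) (I : Ideal A) (M : Type u) [AddCommGroup M] [Module B M] [Module A M] [IsScalarTower A B M] [Module.Finite B M] : Dual2.cutoff B (I.map (algebraMap A B)) M = Dual2.cutoff A I M := by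
  classical
  exact Groth.Agent.Lib.helper19.CutoffFinite.cutoff_eq A B hA I M

end Groth.Agent.S1726
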