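import Groth.Statements.S17264
import Groth.Agent.Lib.Helper4.FibSwap
import Groth.Agent.Lib.Helper4.GraphSq
import Groth.Agent.S12784
import Groth.Agent.S12785
import Groth.Agent.S12786

set_option autoImplicit false
open CategoryTheory
universe v u
open FibCat

namespace Groth.Agent.S17264
open Groth.Agent.Lib.helper4

/-- Let C be a category with fibre products and let f : 𝒳 → 𝒴 and g : 𝒴 → 𝒵 be functors over C between
categories fibred in groupoids over C. If the composite g ∘ f is a representable 1-morphism (its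
2-fibre product with every slice category C/U is equivalent over C to a slice category) and the
diagonal 𝒴 → 𝒴 ×_𝒵 𝒴 of g is a representable 1-morphism, then f is a representable 1-morphism. This
is the case of the source's lemma in which the class of test objects is the class of representable
categories over C. -/
theorem result {C : Type u} [Category.{v} C]
    [Limits.HasPullbacks C] {𝒳 𝒴 𝒵 : BasedCategory.{v, max u v} C}
    (h𝒳 : FibCat.IsFibGrpd 𝒳.p) (h𝒴 : FibCat.IsFibGrpd 𝒴.p) (h𝒵 : FibCat.IsFibGrpd 𝒵.p)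
    (f : 𝒳 ⥤ᵇ 𝒴) (g : 𝒴 ⥤ᵇ 𝒵)
    (hgf : FibCat.IsRepresentable1 (BasedFunctor.comp f g))
    (hΔ : FibCat.IsRepresentable1 (FibCat.diag g)) :
    FibCat.IsRepresentable1 f := by
  let p : 𝒳 ⥤ᵇ 𝒵 := BasedFunctor.comp f g
  let e : BasedFunctor.comp (BasedFunctor.id 𝒳) p ≅ BasedFunctor.comp f g := Iso.refl _
  have hΓ : FibCat.IsRepresentable1 (GraphSq.Γ p g f e) := by
    have h1 : FibCat.IsRepresentable1 (FibCat.fpFst (GraphSq.Φ p g f e) (FibCat.diag g)) :=
      Groth.Agent.S12786.result (FibCat.diag g) (GraphSq.Φ p g f e) hΔ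
    exact (Groth.Agent.S12784.result (FibCat.fpFst (GraphSq.Φ p g f e) (FibCat.diag g))
      (GraphSq.Γ p g f e) (GraphSq.cmp p g f e) (BasedFunctor.id _)
      (GraphSq.cmp_isEquivOver p g f e) (FibSwap.isEquivOver_id' _) (Iso.refl _)).mp h1
  have hsnd : FibCat.IsRepresentable1 (FibCat.fpSnd p g) := by
    have h1 : FibCat.IsRepresentable1 (FibCat.fpFst g p) := Groth.Agent.S12786.result p g hgf
    exact (Groth.Agent.S12784.result (FibCat.fpFst g p) (FibCat.fpSnd p g) (FibSwap.fpSwap p g)
      (BasedFunctor.id _) (FibSwap.fpSwap_isEquivOver p g) (FibSwap.isEquivOver_id' _)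
      (Iso.refl _)).mp h1
  exact Groth.Agent.S12785.result (GraphSq.Γ p g f e) (FibCat.fpSnd p g) hΓ hsnd

end Groth.Agent.S17264
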