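import Groth.Statements.S17266
-- import your own Groth.Agent.* helpers here

set_option autoImplicit false
open CategoryTheory
universe v u
open Stk

namespace Groth.Agent.S17266

section helpers

variable {C : Type u} [Category.{v} C]

/-- the based functor `C/V ⥤ C/U` induced by `h : V ⟶ U` -/
abbrev ovMap {U V : C} (h : V ⟶ U) : FibCat.overCat V ⥤ᵇ FibCat.overCat U :=
  ⟨Over.map h, Over.mapForget_eq h⟩

theorem ovMap_comp {U V W : C} (k : W ⟶ V) (h : V ⟶ U) :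
    ovMap (k ≫ h) = BasedFunctor.comp (ovMap k) (ovMap h) := by
  unfold ovMap
  congr 1
  exact Over.mapComp_eq k h

variable {𝒳 𝒴 𝒵 : BasedCategory.{v, max u v} C}

/-- right whiskering of an iso of based functors -/
def whiskerRightIso' {𝒜 ℬ 𝒞 : BasedCategory.{v, max u v} C} {F G : 𝒜 ⥤ᵇ ℬ} (e : F ≅ G) (H : ℬ ⥤ᵇ 𝒞) :
    BasedFunctor.comp F H ≅ BasedFunctor.comp G H :=
  Bicategory.whiskerRightIso (B := BasedCategory.{v, max u v} C) e H

/-- left whiskering of an iso of based functors -/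
def whiskerLeftIso' {𝒜 ℬ 𝒞 : BasedCategory.{v, max u v} C} (F : 𝒜 ⥤ᵇ ℬ) {G H : ℬ ⥤ᵇ 𝒞} (e : G ≅ H) :
    BasedFunctor.comp F G ≅ BasedFunctor.comp F H :=
  Bicategory.whiskerLeftIso (B := BasedCategory.{v, max u v} C) F e

end helpers

/-- Let C be a category with a Grothendieck topology J and let F : 𝒳 → 𝒴, G : 𝒴 → 𝒵 be functors over C
between categories fibred in groupoids over C. Say that a functor H : 𝒜 → ℬ over C is covering when
for every object U of C and every functor b : C/U → ℬ over C there is a J-covering sieve of U such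
that for each of its arrows h : V → U the composite of C/V → C/U with b is 2-isomorphic over C to H
∘ a for some functor a : C/V → 𝒜 over C (locally on the base every object of ℬ lifts to 𝒜 up to
isomorphism). If F and G are covering, then the composite G ∘ F is covering. -/
theorem result {C : Type u} [Category.{v} C] (J : GrothendieckTopology C)
    {𝒳 𝒴 𝒵 : BasedCategory.{v, max u v} C}
    (h𝒳 : FibCat.IsFibGrpd 𝒳.p) (h𝒴 : FibCat.IsFibGrpd 𝒴.p) (h𝒵 : FibCat.IsFibGrpd 𝒵.p)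
    (F : 𝒳 ⥤ᵇ 𝒴) (G : 𝒴 ⥤ᵇ 𝒵)
    (hF : (∀ (U : C) (y : FibCat.overCat U ⥤ᵇ 𝒴), ∃ R ∈ J U, ∀ ⦃V : C⦄ (h : V ⟶ U), R.arrows h →
        ∃ x : FibCat.overCat V ⥤ᵇ 𝒳,
          Nonempty (BasedFunctor.comp x F ≅ BasedFunctor.comp (⟨Over.map h, Over.mapForget_eq h⟩ : FibCat.overCat V ⥤ᵇ FibCat.overCat U) y)))
    (hG : (∀ (U : C) (y : FibCat.overCat U ⥤ᵇ 𝒵), ∃ R ∈ J U, ∀ ⦃V : C⦄ (h : V ⟶ U), R.arrows h →
        ∃ x : FibCat.overCat V ⥤ᵇ 𝒴,
          Nonempty (BasedFunctor.comp x G ≅ BasedFunctor.comp (⟨Over.map h, Over.mapForget_eq h⟩ : FibCat.overCat V ⥤ᵇ FibCat.overCat U) y))) :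
    (∀ (U : C) (y : FibCat.overCat U ⥤ᵇ 𝒵), ∃ R ∈ J U, ∀ ⦃V : C⦄ (h : V ⟶ U), R.arrows h →
        ∃ x : FibCat.overCat V ⥤ᵇ 𝒳,
          Nonempty (BasedFunctor.comp x (BasedFunctor.comp F G) ≅ BasedFunctor.comp (⟨Over.map h, Over.mapForget_eq h⟩ : FibCat.overCat V ⥤ᵇ FibCat.overCat U) y)) := by
  intro U y
  obtain ⟨R, hR, hRy⟩ := hG U y
  choose xh hxh using hRy
  -- for each arrow in R, a covering sieve of its source
  have hF' : ∀ ⦃V : C⦄ (h : V ⟶ U) (hh : R.arrows h), ∃ R' ∈ J V, ∀ ⦃W : C⦄ (k : W ⟶ V), R'.arrows k →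
      ∃ x : FibCat.overCat W ⥤ᵇ 𝒳,
        Nonempty (BasedFunctor.comp x F ≅ BasedFunctor.comp (ovMap k) (xh h hh)) :=
    fun V h hh => hF V (xh h hh)
  choose R' hR'J hR' using hF'
  refine ⟨Sieve.bind R.arrows (fun V h hh => R' h hh), J.bind_covering hR (fun V h hh => hR'J h hh), ?_⟩
  rintro W l ⟨V, k, h, hh, hk, rfl⟩
  obtain ⟨x, ⟨e⟩⟩ := hR' h hh k hk
  obtain ⟨e'⟩ := hxh h hh
  refine ⟨x, ⟨?_⟩⟩
  have e1 : BasedFunctor.comp x (BasedFunctor.comp F G) ≅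
      BasedFunctor.comp (BasedFunctor.comp (ovMap k) (xh h hh)) G := by
    rw [← BasedFunctor.comp_assoc]
    exact whiskerRightIso' e G
  have e2 : BasedFunctor.comp (BasedFunctor.comp (ovMap k) (xh h hh)) G ≅
      BasedFunctor.comp (ovMap k) (BasedFunctor.comp (ovMap h) y) := by
    rw [BasedFunctor.comp_assoc]
    exact whiskerLeftIso' (ovMap k) e'
  have e3 : BasedFunctor.comp (ovMap k) (BasedFunctor.comp (ovMap h) y) =
      BasedFunctor.comp (ovMap (k ≫ h)) y := by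
    rw [ovMap_comp, BasedFunctor.comp_assoc]
  exact e1 ≪≫ e2 ≪≫ eqToIso e3

end Groth.Agent.S17266
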