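import Groth.Statements.S17271
import Groth.Agent.Lib.Helper4.AlgStDiagBC

set_option autoImplicit false
open CategoryTheory CategoryTheory.Limits AlgebraicGeometry
universe u
open AlgSt

namespace Groth.Agent.S17271

set_option backward.isDefEq.respectTransparency false
set_option backward.isDefEq.respectTransparency.types false

open Groth.Agent.FibEquiv Groth.Agent.Lib.helper4.FibPaste Groth.Agent.Lib.helper4.AlgStRep
open Groth.Agent.Lib.helper4.AlgStEquiv Groth.Agent.Lib.helper4.AlgStDiagBC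
open Groth.Agent.Lib.helper4.DiagBC FibCat

/-- the converse direction, for any property `P` -/
theorem converse {S : Scheme.{u}} {𝒳 𝒴 : AlgSt.Cat S} (P : MorphismProperty (AlgSp.Sp S)) (f : 𝒳 ⥤ᵇ 𝒴)
    (H : ∀ (T : Over S) (y : FibCat.overCat T ⥤ᵇ 𝒴),
      AlgSt.RepByAlgSpWith P (FibCat.diag (FibCat.fpFst y f))) :
    AlgSt.RepByAlgSpWith P (FibCat.diag f) := by
  intro U w
  let x₁ : overCat U ⥤ᵇ 𝒳 := BasedFunctor.comp w (fpFst f f)
  let x₂ : overCat U ⥤ᵇ 𝒳 := BasedFunctor.comp w (fpSnd f f)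
  let σ : BasedFunctor.comp x₁ f ≅ BasedFunctor.comp x₂ f := whiskerLeftIso w (fpIso f f)
  let y : overCat U ⥤ᵇ 𝒴 := BasedFunctor.comp x₁ f
  let s₁ : overCat U ⥤ᵇ fp y f := fpLift (BasedFunctor.id _) x₁ (Iso.refl _)
  let s₂ : overCat U ⥤ᵇ fp y f := fpLift (BasedFunctor.id _) x₂ σ
  let w' : overCat U ⥤ᵇ fp (fpFst y f) (fpFst y f) := fpLift s₁ s₂ (Iso.refl _)
  let θ : BasedFunctor.comp w' (Ψ y f) ≅ w :=
    BasedNatIso.mkNatIso
      (NatIso.ofComponents
        (fun u => fpIsoMk f f (Iso.refl _) (Iso.refl _) (by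
          change f.toFunctor.map (𝟙 _) ≫ (w.toFunctor.obj u).obj.iso.hom =
            (𝟙 _ ≫ y.toFunctor.map (𝟙 _) ≫ (w.toFunctor.obj u).obj.iso.hom) ≫ f.toFunctor.map (𝟙 _)
          simp))
        (fun {u u'} m => by
          apply fp_hom_ext
          · change (w.toFunctor.map m).hom.fst ≫ 𝟙 _ = 𝟙 _ ≫ (w.toFunctor.map m).hom.fst
            simp
          · change (w.toFunctor.map m).hom.snd ≫ 𝟙 _ = 𝟙 _ ≫ (w.toFunctor.map m).hom.snd
            simp))
      (fun u => by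
        apply Groth.Agent.FibFp.lift_to
        change 𝒳.p.IsHomLift (𝟙 ((overCat U).p.obj u)) (𝟙 (x₁.toFunctor.obj u))
        exact IsHomLift.id (x₁.w_obj u))
  have h1 : AlgSt.RepByAlgSpWith P (fpFst (Ψ y f) (FibCat.diag f)) :=
    (repByAlgSpWith_iff_of_square P (fpFst (Ψ y f) (FibCat.diag f)) (FibCat.diag (fpFst y f))
      (cmp y f) (BasedFunctor.id _) (cmp_isEquivOver y f) (isEquivOver_id _) (Iso.refl _)).mpr (H U y)
  have h2 := h1 U w'
  have h3 := (repData_transfer P (pasteL w' (Ψ y f) (FibCat.diag f))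
    (pasteL_isEquivOver w' (Ψ y f) (FibCat.diag f))
    (fpFst w' (fpFst (Ψ y f) (FibCat.diag f))) (fpFst (BasedFunctor.comp w' (Ψ y f)) (FibCat.diag f))
    (Iso.refl _)).mp h2
  exact (repData_transfer P
    (fpMap (BasedFunctor.comp w' (Ψ y f)) w (FibCat.diag f) (FibCat.diag f) (BasedFunctor.id _)
      (BasedFunctor.id _) θ (Iso.refl _))
    (fpMap_isEquivOver (BasedFunctor.comp w' (Ψ y f)) w (FibCat.diag f) (FibCat.diag f)
      (BasedFunctor.id _) (BasedFunctor.id _) θ (Iso.refl _) (isEquivOver_id _) (isEquivOver_id _))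
    (fpFst (BasedFunctor.comp w' (Ψ y f)) (FibCat.diag f)) (fpFst w (FibCat.diag f))
    (Iso.refl _)).mp h3


/-- Let S be a scheme, P a property of morphisms of algebraic spaces over S (fppf sheaves on (Sch/S)
with representable diagonal and an etale surjective map from a scheme) which is stable under base
change (along every pullback square of sheaves whose corners are algebraic spaces) and under
composition, and let 𝒳, 𝒴 be algebraic stacks over (Sch/S) for the etale topology (stacks in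
groupoids with diagonal representable by algebraic spaces and a smooth surjective presentation by a
scheme), with a functor f : 𝒳 → 𝒴 over (Sch/S). Then the diagonal 𝒳 → 𝒳 ×_𝒴 𝒳 of f is representable
by algebraic spaces and has property P if and only if for every scheme T over S and every functor y
: (Sch/T) → 𝒴 over (Sch/S) the diagonal of the base change (Sch/T) ×_𝒴 𝒳 → (Sch/T) (first projection
of the 2-fibre product) is representable by algebraic spaces and has property P. -/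
theorem result (S : Scheme.{u}) (𝒳 𝒴 : AlgSt.Cat S)
    (h𝒳 : AlgSt.IsAlgStack Scheme.etalePrecoverage 𝒳) (h𝒴 : AlgSt.IsAlgStack Scheme.etalePrecoverage 𝒴)
    (P : MorphismProperty (AlgSp.Sp S))
    (hPb : ∀ ⦃X₁ Y₁ X₂ Y₂ : AlgSp.Sp S⦄, AlgSp.IsAlgSpace X₁ → AlgSp.IsAlgSpace Y₁ → AlgSp.IsAlgSpace X₂ →
      AlgSp.IsAlgSpace Y₂ → ∀ (a : X₁ ⟶ Y₁) (b : Y₂ ⟶ Y₁) (a' : X₂ ⟶ Y₂) (b' : X₂ ⟶ X₁),
      IsPullback b' a' a b → P a → P a')
    (hPc : ∀ ⦃X Y Z : AlgSp.Sp S⦄, AlgSp.IsAlgSpace X → AlgSp.IsAlgSpace Y → AlgSp.IsAlgSpace Z →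
      ∀ (a : X ⟶ Y) (b : Y ⟶ Z), P a → P b → P (a ≫ b))
    (f : 𝒳 ⥤ᵇ 𝒴) :
    AlgSt.RepByAlgSpWith P (FibCat.diag f) ↔
      ∀ (T : Over S) (y : FibCat.overCat T ⥤ᵇ 𝒴), AlgSt.RepByAlgSpWith P (FibCat.diag (FibCat.fpFst y f)) := by
  constructor
  · intro hf T y
    exact Groth.Agent.Lib.helper4.AlgStDiagBC.repByAlgSpWith_diag_fpFst P f y hf
  · intro H
    exact converse P f H

end Groth.Agent.S17271
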