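import Groth.Statements.S17276
import Mathlib
import Groth.Agent.Lib.Helper18.DegComponents

set_option autoImplicit false
universe u
open CategoryTheory CategoryTheory.Limits AlgebraicGeometry TopologicalSpace
open Variety

namespace Groth.Agent.S17276

open Groth.Agent.Lib.Helper18.DegComponents Groth.Agent.Lib.Helper18.CompRed
  Groth.Agent.Lib.Helper18.DegTensor Groth.Agent.Lib.Lead.ModTensor

/-- Let X be a proper scheme over a field k of dimension one (possibly reducible or non-reduced) and L
an invertible O_X-module that is nef, meaning χ(O_C ⊗ L) - χ(O_C) ≥ 0 for every integral closed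
subscheme C ⊆ X of dimension one. Then the degree of L on X, namely χ(L) - χ(O_X), is nonnegative. -/
theorem result (k : Type u) [Field k] (X : Scheme.{u})
    [X.Over (Spec (CommRingCat.of k))] [IsProper (X ↘ (Spec (CommRingCat.of k)))]
    (hdim : topologicalKrullDim X = 1) (L : X.Modules) (hL : PicF.IsInvertible L)
    (hnef : ∀ C : X.IdealSheafData, IsIntegral C.subscheme →
      topologicalKrullDim (C.support : Set X) = 1 →
        0 ≤ Curv2.euler k X (CohB1.tensorMod (ClSub.quotMod C) L) - Curv2.euler k X (ClSub.quotMod C)) :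
    0 ≤ Curv2.deg k X L 1 := by
  haveI : IsNoetherian X := Groth.Agent.Lib.Lead.CurveEuler.isNoetherian k X
  have hE : FlatMod.IsFinLocFreeOfRank 1 L :=
    Groth.Agent.Lib.Helper18.EffCartierCurve.isFinLocFreeOfRank_one_of_isInvertible hL
  rw [deg_eq_sum k X hdim.le hE]
  refine finsum_nonneg fun Z => ?_
  split_ifs with hZ
  · refine mul_nonneg (Int.natCast_nonneg _) ?_
    have h1 := hnef (J X Z) (isIntegral_Cr X Z) (by
      have : ((J X Z).support : Set X) = Z.1 := by
        rw [← Scheme.IdealSheafData.range_subschemeι]; exact range_ιr X Z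
      rw [this]; exact hZ)
    letI : (Cr X Z).Over (Spec (CommRingCat.of k)) :=
      ⟨ιr X Z ≫ (X ↘ Spec (CommRingCat.of k))⟩
    have hi : ιr X Z ≫ (X ↘ Spec (CommRingCat.of k)) = (Cr X Z) ↘ Spec (CommRingCat.of k) := rfl
    have hEf := Groth.Agent.Lib.helper16.FLF.isFinLocFree_of_isFinLocFreeOfRank hE
    have T1 := euler_push_tensor k (ιr X Z) hi (Coh.structureModule (Cr X Z)) L hEf
    have T2 := Groth.Agent.Lib.Helper18.PullEuler.euler_push k (ιr X Z) hi
      (Coh.structureModule (Cr X Z))
    have T3 := Groth.Agent.Lib.Lead.CurveEuler.euler_eq_of_iso k (Cr X Z)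
      (leftUnitor ((Scheme.Modules.pullback (ιr X Z)).obj L))
    change 0 ≤ Curv2.euler k (Cr X Z) ((Scheme.Modules.pullback (ιr X Z)).obj L) -
      ((1 : ℕ) : ℤ) * Curv2.euler k (Cr X Z) (Coh.structureModule (Cr X Z))
    rw [T1, T2, T3] at h1
    simpa using h1
  · exact le_rfl

end Groth.Agent.S17276
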