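import Groth.Statements.S17289
import Groth.Agent.Lib.Helper28.ProjBundleQuot
import Groth.Agent.Lib.Helper12.PullAmple
import Groth.Agent.Lib.Helper16.FLF2
import Groth.Agent.Lib.Helper16.QCohEpi
-- import your own Groth.Agent.* helpers here

set_option autoImplicit false
universe u
open CategoryTheory CategoryTheory.Limits AlgebraicGeometry TopologicalSpace
open Variety

namespace Groth.Agent.S17289

/-- Suppose X is a proper scheme over a field k, and E, F are finite locally free O_X-modules with E → F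
surjective. Assume E is ample, meaning that the fundamental module O(1) of the projective bundle
P(E) = Proj(Sym E) → X is ample (for any relative-Proj data of the graded symmetric algebra of E
with its O(1)); then F is ample in the same sense. (The source states this for proper algebraic
spaces over k, together with the analogous assertion for nef modules; this is the ample assertion in
the case of schemes.) -/
theorem result (k : Type u) [Field k] (X : Scheme.{u})
    [X.Over (Spec (CommRingCat.of k))] [IsProper (X ↘ (Spec (CommRingCat.of k)))] (E F : X.Modules)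
    (hE : FlatMod.IsFinLocFree E) (hF : FlatMod.IsFinLocFree F) (φ : E ⟶ F) [Epi φ]
    (hample : ∀ (𝒮 : RelProj.QCGrAlg X) (j : E ⟶ 𝒮.toModule) (P : Scheme.{u}) (p : P ⟶ X)
        (chart : ∀ (U : X.Opens) (hU : IsAffineOpen U),
          (((p ⁻¹ᵁ U : P.Opens) : Scheme.{u}) ≅ Proj (𝒮.deg U hU)))
        (O1 : P.Modules)
        (lam : ∀ (U : X.Opens) (hU : IsAffineOpen U),
          O1 ⟶ (Scheme.Modules.pushforward (RelProj.emb p chart U hU)).obj (GrTwist.twist (𝒮.deg U hU) 1)),
        RelProj.IsGrSymAlg E 𝒮 j → RelProj.IsRelProj 𝒮 p chart → RelProj.IsRelTwist 𝒮 p chart 1 O1 lam →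
        CohB1.IsAmple O1) :
    ∀ (𝒮 : RelProj.QCGrAlg X) (j : F ⟶ 𝒮.toModule) (P : Scheme.{u}) (p : P ⟶ X)
      (chart : ∀ (U : X.Opens) (hU : IsAffineOpen U),
        (((p ⁻¹ᵁ U : P.Opens) : Scheme.{u}) ≅ Proj (𝒮.deg U hU)))
      (O1 : P.Modules)
      (lam : ∀ (U : X.Opens) (hU : IsAffineOpen U),
        O1 ⟶ (Scheme.Modules.pushforward (RelProj.emb p chart U hU)).obj (GrTwist.twist (𝒮.deg U hU) 1)),
      RelProj.IsGrSymAlg F 𝒮 j → RelProj.IsRelProj 𝒮 p chart → RelProj.IsRelTwist 𝒮 p chart 1 O1 lam →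
      CohB1.IsAmple O1 := by
  intro 𝒮 j P p chart O1 lam hS hP hO1
  have hqE : E.IsQuasicoherent := Groth.Agent.Lib.helper16.FLF.isQuasicoherent_of_isFinLocFree E hE
  have hqF : F.IsQuasicoherent := Groth.Agent.Lib.helper16.FLF.isQuasicoherent_of_isFinLocFree F hF
  have hA := Groth.Agent.Lib.helper28.SymAlg.isSymAlg E
  obtain ⟨P', p', chart', hP'⟩ := Groth.Agent.Lib.helper28.RelProjExists.exists_relProj
    (Groth.Agent.Lib.helper28.SymGradedExists.grAlg E _ _ hA)
  obtain ⟨O1', lam', hO1'⟩ := Groth.Agent.Lib.helper28.RelTwistExists.exists_isRelTwist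
    (Groth.Agent.Lib.helper28.SymGradedExists.grAlg E _ _ hA) p' chart' hP' 1
  have hamp' : CohB1.IsAmple O1' := hample _ _ P' p' chart' O1' lam'
    (Groth.Agent.Lib.helper28.SymGradedExists.isGrSymAlg E _ _ hA) hP' hO1'
  have h𝒮 := Groth.Agent.Lib.helper28.ProjBundleQuot.isGenDegOne_of_isGrSymAlg F 𝒮 j hS
  obtain ⟨h, hcl, -, ⟨e2⟩⟩ :=
    Groth.Agent.Lib.helper28.ProjBundleQuot.exists_closedImmersion_pullback_iso 𝒮 h𝒮 E _ _ hA
      (φ ≫ j) (fun U hU x => hS.2 U hU _) (fun U hU s hs => by
        obtain ⟨y, hy⟩ := Groth.Agent.Lib.helper28.ProjBundleQuot.exists_of_mem_deg_one F 𝒮 j hS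
          U hU s hs
        obtain ⟨x, hx⟩ := Groth.Agent.Lib.helper16.QCohEpi.surjective_app_of_epi φ hU y
        refine ⟨x, ?_⟩
        rw [← hy, ← hx]
        rfl) p chart hP O1 lam hO1 p' chart' hP' O1' lam' hO1'
  exact Groth.Agent.Lib.helper12.AmplePow.isAmple_of_iso e2
    (Groth.Agent.Lib.helper12.PullAmple.isAmple_pullback_of_isAffineHom h hamp')

end Groth.Agent.S17289
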