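import Groth.Statements.S1729
import Mathlib
-- import your own Groth.Agent.* helpers here

set_option autoImplicit false
universe u
open Dual2

namespace Groth.Agent.S1729

/-- Over a local ring, every finite module M admits a projective cover: a surjection from a projective
module P onto M such that no proper submodule of P maps onto M. -/
theorem result (R : Type u) [CommRing R] [IsLocalRing R] (M : Type u) [AddCommGroup M] [Module R M] [Module.Finite R M] : ∃ (P : Type u) (_ : AddCommGroup P) (_ : Module R P) (f : P →ₗ[R] M), Dual2.IsProjectiveCover f := by
  classical
  have hsurj := TensorProduct.mk_surjective R M (IsLocalRing.ResidueField R)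
    Ideal.Quotient.mk_surjective
  choose m hm using fun i => hsurj
    (Module.finBasis (IsLocalRing.ResidueField R) (TensorProduct (R := R) (IsLocalRing.ResidueField R) M) i)
  have hspan : Submodule.span R (Set.range m) = ⊤ :=
    IsLocalRing.span_eq_top_of_tmul_eq_basis m _ hm
  have hf : Function.Surjective (Fintype.linearCombination R m) := by
    rw [← LinearMap.range_eq_top, Fintype.range_linearCombination, hspan]
  refine ⟨Fin _ → R, inferInstance, inferInstance, Fintype.linearCombination R m,
    ⟨inferInstance, hf, ?_⟩⟩
  intro N hN
  rw [← IsLocalRing.map_tensorProduct_mk_eq_top]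
  have hFs : Function.Surjective
      ((Fintype.linearCombination R m).baseChange (IsLocalRing.ResidueField R)) := by
    rw [LinearMap.baseChange_eq_ltensor]
    exact LinearMap.lTensor_surjective _ hf
  have hF : Function.Injective
      ((Fintype.linearCombination R m).baseChange (IsLocalRing.ResidueField R)) := by
    rw [LinearMap.injective_iff_surjective_of_finrank_eq_finrank]
    · exact hFs
    · rw [Module.finrank_baseChange, Module.finrank_fin_fun]
  have hcomm : (TensorProduct.mk R (IsLocalRing.ResidueField R) M 1) ∘ₗ
      (Fintype.linearCombination R m) =
      ((Fintype.linearCombination R m).lTensor (IsLocalRing.ResidueField R)) ∘ₗ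
        (TensorProduct.mk R (IsLocalRing.ResidueField R) _ 1) := by
    ext; simp
  have h1 := congrArg (Submodule.map (TensorProduct.mk R (IsLocalRing.ResidueField R) M 1)) hN
  rw [← Submodule.map_comp, hcomm, Submodule.map_comp, Submodule.map_top,
    LinearMap.range_eq_top.mpr hsurj] at h1
  rw [LinearMap.baseChange_eq_ltensor] at hF hFs
  apply Submodule.map_injective_of_injective hF
  rw [h1, Submodule.map_top, eq_comm, LinearMap.range_eq_top]
  exact hFs

end Groth.Agent.S1729
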