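import Groth.Statements.S17306
import Mathlib
import Groth.Agent.Lib.Helper17.EtaleStalk

set_option autoImplicit false
set_option linter.style.haveILetI false
universe u
open CurvSt

namespace Groth.Agent.S17306

open CategoryTheory AlgebraicGeometry in
/-- Let X be a proper scheme of dimension at most 1 over a field k, and Spec k → S a point of the base.
The classifying object of X in the stack of curves over S lies in the Cohen–Macaulay open substack —
by definition of that substack: the morphism of sheaves h_X → h_{Spec k} induced by X → Spec k is,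
in every etale chart diagram, a morphism of schemes flat with Cohen–Macaulay fibre local rings at
every point — if and only if X is Cohen–Macaulay, i.e. all local rings of X are Cohen–Macaulay local
rings. -/
theorem result (S : Scheme.{u}) (k : Type u) [Field k] (t : Spec (CommRingCat.of k) ⟶ S)
    (X : Scheme.{u}) (p : X ⟶ Spec (CommRingCat.of k)) [IsProper p] (hdim : topologicalKrullDim ↥X ≤ 1) :
    AlgSp.LocP (fun _ _ g => ∀ x, MoreMor.IsCMAt g x) ((AlgSp.yon S).map (Over.homMk p rfl : Over.mk (p ≫ t) ⟶ Over.mk t)) ↔
      ∀ x : ↥X, LocCoh.IsCohenMacaulayLocalRing (X.presheaf.stalk x) := by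
  haveI : IsLocallyNoetherian X := LocallyOfFiniteType.isLocallyNoetherian p
  constructor
  · intro h x
    have hp := AlgSp.locP_yon_map h x
    obtain ⟨e⟩ := Groth.Agent.Lib.helper17.EtaleStalk.nonempty_fibre_stalk_equiv_of_isField p x
      (Groth.Agent.Lib.helper17.EtaleStalk.isField_stalk_spec_field k (p x))
    exact @Groth.Agent.S9808.cm_of_ringEquiv _ _ _ _ e hp.2
  · intro h A B a b kk ha hb hsq
    obtain ⟨a0, rfl⟩ := (AlgSp.yon S).map_surjective a
    obtain ⟨b0, rfl⟩ := (AlgSp.yon S).map_surjective b
    have ha0 : Etale a0.left := (AlgSp.repWith_yon_map_iff @Etale a0).1 ha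
    have hb0 : Etale b0.left := (AlgSp.repWith_yon_map_iff @Etale b0).1 hb
    have e : a0 ≫ (Over.homMk p rfl : Over.mk (p ≫ t) ⟶ Over.mk t) = kk ≫ b0 :=
      (AlgSp.yon S).map_injective (by simpa using hsq)
    have e' : kk.left ≫ b0.left = a0.left ≫ p := by
      rw [← Over.comp_left, ← e]; rfl
    haveI : IsLocallyNoetherian (Over.mk (p ≫ t)).left := ‹IsLocallyNoetherian X›
    haveI : IsLocallyNoetherian A.left := LocallyOfFiniteType.isLocallyNoetherian a0.left
    intro u
    have hF : IsField (B.left.presheaf.stalk (kk.left u)) :=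
      Groth.Agent.Lib.helper17.EtaleStalk.isField_stalk_of_etale_field k
        (b0.left : B.left ⟶ Spec (CommRingCat.of k)) _
    refine ⟨Groth.Agent.Lib.helper17.EtaleStalk.flat_stalkMap_of_isField _ _ hF, ?_⟩
    obtain ⟨e2⟩ :=
      Groth.Agent.Lib.helper17.EtaleStalk.nonempty_fibre_stalk_equiv_of_isField kk.left u hF
    haveI : LocCoh.IsCohenMacaulayLocalRing (A.left.presheaf.stalk u) := by
      rw [Groth.Agent.Lib.helper17.EtaleStalk.cm_stalk_iff_of_etale a0.left u]
      exact h _
    exact Groth.Agent.S9808.cm_of_ringEquiv e2.symm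

end Groth.Agent.S17306
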