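import Groth.Statements.S17309
import Mathlib

set_option autoImplicit false
set_option linter.style.haveILetI false
universe u
open CurvSt

namespace Groth.Agent.S17309

open CategoryTheory AlgebraicGeometry in
/-- Let X be a proper scheme of dimension at most 1 over a field k with structure morphism p, and Spec k
→ S a point of the base. The classifying object of X in the stack of curves over S lies in the open
substack of curves with geometrically reduced fibres — by definition: every geometric fibre of the
family h_X → h_{Spec k}, realised as a scheme over an algebraically closed field through a cartesian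
square of sheaves, is reduced — if and only if X is geometrically reduced over k. -/
theorem result (S : Scheme.{u}) (k : Type u) [Field k] (t : Spec (CommRingCat.of k) ⟶ S)
    (X : Scheme.{u}) (p : X ⟶ Spec (CommRingCat.of k)) [IsProper p] (hdim : topologicalKrullDim ↥X ≤ 1) :
    CurvSt.GeomFib (fun _ _ _ X' _ _ => IsReduced X') ((CurvSt.toSpFam S 0).obj ⟨Over.mk t, X, p, Fin.elim0, fun i => i.elim0⟩) ↔ GeometricallyReduced p := by
  constructor
  · intro h
    rw [geometricallyReduced_iff]
    intro K _ y Z fst snd hZ
    let Ω := AlgebraicClosure K
    let j : Spec (CommRingCat.of Ω) ⟶ Spec (CommRingCat.of K) :=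
      Spec.map (CommRingCat.ofHom (algebraMap K Ω))
    have hbig : IsPullback (Limits.pullback.fst snd j ≫ fst) (Limits.pullback.snd snd j) p (j ≫ y) :=
      (((IsPullback.of_hasPullback snd j).flip).paste_vert hZ.flip).flip
    -- the square in `Over S`
    let A : CurvSt.SpFamObj S 0 :=
      (CurvSt.toSpFam S 0).obj ⟨Over.mk t, X, p, Fin.elim0, fun i => i.elim0⟩
    let tt : Spec (CommRingCat.of Ω) ⟶ A.base.left := j ≫ y
    let q := Limits.pullback.snd snd j
    let i0 : A.ptOver (q ≫ tt) ⟶ Over.mk (p ≫ t) :=
      Over.homMk (Limits.pullback.fst snd j ≫ fst) (by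
        simp only [Over.mk_hom, Category.assoc]
        rw [reassoc_of% hbig.w]
        rfl)
    have hO : IsPullback i0 (A.fibHom tt q) (Over.homMk p rfl : Over.mk (p ≫ t) ⟶ Over.mk t)
        (A.ptHom tt) :=
      IsPullback.of_map (Over.forget S) (Over.OverMorphism.ext hbig.w) hbig
    have hP := hO.map (AlgSp.yon S)
    have hred : IsReduced (Limits.pullback snd j) := h Ω tt (Limits.pullback snd j) q _ hP
    -- descend along the flat surjective `pullback snd j ⟶ Z`
    haveI : Surjective j := by
      refine ⟨fun z => ⟨IsLocalRing.closedPoint Ω, Subsingleton.elim _ _⟩⟩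
    haveI : IsDominant j := inferInstance
    haveI : IsSchemeTheoreticallyDominant j := IsSchemeTheoreticallyDominant.of_isDominant j
    haveI : Flat snd := inferInstance
    haveI : IsSchemeTheoreticallyDominant (Limits.pullback.fst snd j) := inferInstance
    exact IsSchemeTheoreticallyDominant.isReduced (Limits.pullback.fst snd j)
  · intro hp Ω _ _ tt X' q i hP
    obtain ⟨i0, rfl⟩ := (AlgSp.yon S).map_surjective i
    have hO : IsPullback i0 (SpFamObj.fibHom _ tt q) (Over.homMk p rfl : Over.mk (p ≫ t) ⟶ Over.mk t)
        (SpFamObj.ptHom _ tt) := by
      refine IsPullback.of_map (AlgSp.yon S) ?_ hP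
      apply (AlgSp.yon S).map_injective
      rw [Functor.map_comp, Functor.map_comp]
      exact hP.w
    have hS := hO.map (Over.forget S)
    exact hp.geometrically_isReduced tt i0.left q hS

end Groth.Agent.S17309
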