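import Groth.Statements.S17310
import Mathlib
import Groth.Agent.S17309
import Groth.Agent.Lib.Helper17.FieldBCDim

set_option autoImplicit false
set_option linter.style.haveILetI false
universe u
open CurvSt

namespace Groth.Agent.S17310

open CategoryTheory AlgebraicGeometry in
/-- evaluate `GeomFib` on a cartesian square of schemes -/
theorem geomFib_apply (S : Scheme.{u}) (k : Type u) [Field k] (t : Spec (CommRingCat.of k) ⟶ S)
    (X : Scheme.{u}) (p : X ⟶ Spec (CommRingCat.of k))
    (P : ∀ (Ω : Type u) [Field Ω] [IsAlgClosed Ω] (X' : Scheme.{u}),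
      (X' ⟶ Spec (CommRingCat.of Ω)) → Prop)
    (h : CurvSt.GeomFib (fun Ω _ _ X' q _ => P Ω X' q)
      ((CurvSt.toSpFam S 0).obj ⟨Over.mk t, X, p, Fin.elim0, fun i => i.elim0⟩))
    (Ω : Type u) [Field Ω] [IsAlgClosed Ω] (tt : Spec (CommRingCat.of Ω) ⟶ Spec (CommRingCat.of k))
    (X' : Scheme.{u}) (a : X' ⟶ X) (q : X' ⟶ Spec (CommRingCat.of Ω))
    (hbig : IsPullback a q p tt) : P Ω X' q := by
  let A : CurvSt.SpFamObj S 0 :=
    (CurvSt.toSpFam S 0).obj ⟨Over.mk t, X, p, Fin.elim0, fun i => i.elim0⟩
  let tt' : Spec (CommRingCat.of Ω) ⟶ A.base.left := tt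
  let i0 : A.ptOver (q ≫ tt') ⟶ Over.mk (p ≫ t) :=
    Over.homMk a (by
      simp only [Over.mk_hom, Category.assoc]
      rw [reassoc_of% hbig.w]
      rfl)
  have hO : IsPullback i0 (A.fibHom tt' q) (Over.homMk p rfl : Over.mk (p ≫ t) ⟶ Over.mk t)
      (A.ptHom tt') :=
    IsPullback.of_map (Over.forget S) (Over.OverMorphism.ext hbig.w) hbig
  have hP := hO.map (AlgSp.yon S)
  exact h Ω tt' X' q _ hP

open CategoryTheory AlgebraicGeometry in
/-- Let X be a proper scheme of dimension at most 1 over a field k with structure morphism p, and Spec k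
→ S a point of the base. The classifying object of X in the stack of curves over S lies in the open
substack of curves with geometrically reduced, connected fibres of dimension 1 — by definition:
every geometric fibre of h_X → h_{Spec k}, realised as a scheme over an algebraically closed field
through a cartesian square of sheaves, is reduced, connected and of Krull dimension 1 — if and only
if X is geometrically reduced and geometrically connected over k and has Krull dimension 1. -/
theorem result (S : Scheme.{u}) (k : Type u) [Field k] (t : Spec (CommRingCat.of k) ⟶ S)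
    (X : Scheme.{u}) (p : X ⟶ Spec (CommRingCat.of k)) [IsProper p] (hdim : topologicalKrullDim ↥X ≤ 1) :
    CurvSt.GeomFib (fun _ _ _ X' _ _ => IsReduced X' ∧ ConnectedSpace ↥X' ∧ topologicalKrullDim ↥X' = 1) ((CurvSt.toSpFam S 0).obj ⟨Over.mk t, X, p, Fin.elim0, fun i => i.elim0⟩) ↔
      GeometricallyReduced p ∧ GeometricallyConnected p ∧ topologicalKrullDim ↥X = 1 := by
  haveI : LocallyOfFiniteType p := inferInstance
  constructor
  · intro h
    refine ⟨?_, ?_, ?_⟩
    · exact (Groth.Agent.S17309.result S k t X p hdim).1
        (fun Ω _ _ tt X' q i hP => (h Ω tt X' q i hP).1)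
    · rw [geometricallyConnected_iff]
      intro K _ y Z fst snd hZ
      let Ω := AlgebraicClosure K
      let j : Spec (CommRingCat.of Ω) ⟶ Spec (CommRingCat.of K) :=
        Spec.map (CommRingCat.ofHom (algebraMap K Ω))
      have hbig : IsPullback (Limits.pullback.fst snd j ≫ fst) (Limits.pullback.snd snd j) p (j ≫ y) :=
        (((IsPullback.of_hasPullback snd j).flip).paste_vert hZ.flip).flip
      have hcon : ConnectedSpace ↥(Limits.pullback snd j) :=
        (geomFib_apply S k t X p _ h Ω (j ≫ y) (Limits.pullback snd j) _ _ hbig).2.1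
      haveI : Surjective j :=
        Groth.Agent.Lib.helper17.FieldBCDim.surjective_specMap_of_isField
          (Field.toIsField K) (CommRingCat.ofHom (algebraMap K Ω))
      haveI : Surjective (Limits.pullback.fst snd j) := inferInstance
      exact (Limits.pullback.fst snd j).surjective.connectedSpace
        (Limits.pullback.fst snd j).continuous
    · let Ω := AlgebraicClosure k
      let j : Spec (CommRingCat.of Ω) ⟶ Spec (CommRingCat.of k) :=
        Spec.map (CommRingCat.ofHom (algebraMap k Ω))
      have hbig : IsPullback (Limits.pullback.fst p j) (Limits.pullback.snd p j) p j :=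
        IsPullback.of_hasPullback p j
      have hd : topologicalKrullDim ↥(Limits.pullback p j) = 1 :=
        (geomFib_apply S k t X p _ h Ω j (Limits.pullback p j) _ _ hbig).2.2
      rw [← hd]
      exact (Groth.Agent.Lib.helper17.FieldBCDim.topologicalKrullDim_eq_of_isPullback
        (Field.toIsField k) (Field.toIsField Ω) (CommRingCat.ofHom (algebraMap k Ω)) p
        (Limits.pullback.snd p j) (Limits.pullback.fst p j) hbig.flip).symm
  · rintro ⟨hred, hcon, hd⟩ Ω _ _ tt X' q i hP
    obtain ⟨i0, rfl⟩ := (AlgSp.yon S).map_surjective i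
    have hO : IsPullback i0 (SpFamObj.fibHom _ tt q) (Over.homMk p rfl : Over.mk (p ≫ t) ⟶ Over.mk t)
        (SpFamObj.ptHom _ tt) := by
      refine IsPullback.of_map (AlgSp.yon S) ?_ hP
      apply (AlgSp.yon S).map_injective
      rw [Functor.map_comp, Functor.map_comp]
      exact hP.w
    have hS : IsPullback i0.left q p tt := hO.map (Over.forget S)
    refine ⟨hred.geometrically_isReduced tt i0.left q hS,
      hcon.geometrically_connectedSpace tt i0.left q hS, ?_⟩
    obtain ⟨φ, hφ⟩ := Spec.map_surjective tt
    rw [← hd]
    have hS' : IsPullback q i0.left (Spec.map φ) p := by rw [hφ]; exact hS.flip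
    exact Groth.Agent.Lib.helper17.FieldBCDim.topologicalKrullDim_eq_of_isPullback
      (Field.toIsField k) (Field.toIsField Ω) φ p q i0.left hS'

end Groth.Agent.S17310
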