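import Groth.Statements.S17311
import Mathlib
import Groth.Agent.S17310
import Groth.Agent.Lib.Helper17.FieldBCDim
import Groth.Agent.Lib.Helper17.EtaleStalk
import Groth.Agent.Lib.Helper18.SmoothDescentScheme

set_option autoImplicit false
set_option linter.style.haveILetI false
universe u
open CurvSt

namespace Groth.Agent.S17311

open CategoryTheory AlgebraicGeometry in
/-- finite closed sets in a Jacobson space consist of closed points -/
theorem isClosed_singleton_of_finite_isClosed {X : Type*} [TopologicalSpace X] [JacobsonSpace X]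
    (F : Set X) (hF : F.Finite) (hcl : IsClosed F) (x : X) (hx : x ∈ F) : IsClosed ({x} : Set X) := by
  have h1 := JacobsonSpace.closure_inter_closedPoints hcl
  have h2 : IsClosed (F ∩ closedPoints X) := by
    have : F ∩ closedPoints X = ⋃ y ∈ F ∩ closedPoints X, ({y} : Set X) := by
      ext z; simp
    rw [this]
    exact Set.Finite.isClosed_biUnion (hF.subset Set.inter_subset_left) (fun y hy => hy.2)
  rw [h2.closure_eq] at h1
  have : x ∈ F ∩ closedPoints X := by rw [h1]; exact hx
  exact this.2

open CategoryTheory AlgebraicGeometry in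
/-- the fibre of a base change of fields over a closed point is finite -/
theorem finite_preimage_singleton_of_isClosed {k Ω : Type u} [Field k] [Field Ω]
    {X X' : Scheme.{u}} (p : X ⟶ Spec (CommRingCat.of k)) [LocallyOfFiniteType p]
    (tt : Spec (CommRingCat.of Ω) ⟶ Spec (CommRingCat.of k))
    (a : X' ⟶ X) (q : X' ⟶ Spec (CommRingCat.of Ω)) (hS : IsPullback a q p tt)
    (x : X) (hx : IsClosed ({x} : Set X)) : (a ⁻¹' {x}).Finite := by
  haveI : JacobsonSpace X := LocallyOfFiniteType.jacobsonSpace p
  let r := X.fromSpecResidueField x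
  haveI : LocallyOfFiniteType r := isClosed_singleton_iff_locallyOfFiniteType.mp hx
  haveI : LocallyOfFiniteType (r ≫ p) := inferInstance
  haveI : IsFinite (r ≫ p) := isFinite_iff_locallyOfFiniteType_of_jacobsonSpace.mpr inferInstance
  have s1 : IsPullback (Limits.pullback.snd a r) (Limits.pullback.fst a r ≫ q) (r ≫ p) tt :=
    (IsPullback.of_hasPullback a r).flip.paste_vert hS
  haveI : IsFinite (Limits.pullback.fst a r ≫ q) :=
    MorphismProperty.of_isPullback (P := @IsFinite) s1 inferInstance
  have h1 := (Limits.pullback.fst a r ≫ q).finite_preimage_singleton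
    (IsLocalRing.closedPoint Ω : PrimeSpectrum Ω)
  haveI : Finite ↥(Limits.pullback a r) := Set.finite_univ_iff.mp (h1.subset (fun z _ => by
    rw [Set.mem_preimage, Set.mem_singleton_iff]
    exact Subsingleton.elim (α := PrimeSpectrum Ω) _ _))
  have h3 : a ⁻¹' {x} = Set.range (Limits.pullback.fst a r) := (a.range_fiberι x).symm
  rw [h3]
  exact Set.finite_range _

open CategoryTheory AlgebraicGeometry in
/-- base change of a smooth neighbourhood -/
theorem exists_smooth_nhd_of_isPullback {X X' T T' : Scheme.{u}} (p : X ⟶ T) (tt : T' ⟶ T)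
    (a : X' ⟶ X) (q : X' ⟶ T') (hS : IsPullback a q p tt) (x' : X')
    (h : ∃ U : X.Opens, a x' ∈ U ∧ Smooth (U.ι ≫ p)) :
    ∃ U : X'.Opens, x' ∈ U ∧ Smooth (U.ι ≫ q) := by
  obtain ⟨U, hxU, hU⟩ := h
  refine ⟨a ⁻¹ᵁ U, hxU, ?_⟩
  have s1 : IsPullback (a ∣_ U) ((a ⁻¹ᵁ U).ι ≫ q) (U.ι ≫ p) tt :=
    (isPullback_morphismRestrict a U).paste_vert hS
  exact MorphismProperty.of_isPullback (P := @Smooth) s1 hU

open CategoryTheory AlgebraicGeometry in
/-- Let X be a proper scheme of dimension at most 1 over a field k with structure morphism p, and Spec k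
→ S a point of the base. The classifying object of X in the stack of curves over S lies in the open
substack of curves with isolated singularities — by definition: every geometric fibre of h_X →
h_{Spec k}, realised as a scheme over an algebraically closed field Ω through a cartesian square of
sheaves, is smooth over Ω outside a finite set of points — if and only if p : X → Spec k is smooth
outside a finite set of points of X. -/
theorem result (S : Scheme.{u}) (k : Type u) [Field k] (t : Spec (CommRingCat.of k) ⟶ S)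
    (X : Scheme.{u}) (p : X ⟶ Spec (CommRingCat.of k)) [IsProper p] (hdim : topologicalKrullDim ↥X ≤ 1) :
    CurvSt.GeomFib (fun _ _ _ X' q _ => Set.Finite {x : ↥X' | ¬ ∃ U : X'.Opens, x ∈ U ∧ Smooth (U.ι ≫ q)}) ((CurvSt.toSpFam S 0).obj ⟨Over.mk t, X, p, Fin.elim0, fun i => i.elim0⟩) ↔
      Set.Finite {x : ↥X | ¬ ∃ U : X.Opens, x ∈ U ∧ Smooth (U.ι ≫ p)} := by
  haveI : LocallyOfFiniteType p := inferInstance
  haveI : LocallyOfFinitePresentation p := inferInstance
  constructor
  · intro h
    let Ω := AlgebraicClosure k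
    let j : Spec (CommRingCat.of Ω) ⟶ Spec (CommRingCat.of k) :=
      Spec.map (CommRingCat.ofHom (algebraMap k Ω))
    have hbig : IsPullback (Limits.pullback.fst p j) (Limits.pullback.snd p j) p j :=
      IsPullback.of_hasPullback p j
    have hfin : Set.Finite {x : ↥(Limits.pullback p j) | ¬ ∃ U : (Limits.pullback p j).Opens,
        x ∈ U ∧ Smooth (U.ι ≫ Limits.pullback.snd p j)} :=
      Groth.Agent.S17310.geomFib_apply S k t X p
        (fun Ω _ _ X' q => Set.Finite {x : ↥X' | ¬ ∃ U : X'.Opens, x ∈ U ∧ Smooth (U.ι ≫ q)})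
        h Ω j (Limits.pullback p j) _ _ hbig
    have hsurj : Surjective (Limits.pullback.fst p j) :=
      Groth.Agent.Lib.helper17.FieldBCDim.surjective_of_isPullback_field
        (Field.toIsField k) (Field.toIsField Ω) (CommRingCat.ofHom (algebraMap k Ω)) p
        (Limits.pullback.snd p j) (Limits.pullback.fst p j) hbig.flip
    refine (hfin.image (Limits.pullback.fst p j)).subset ?_
    intro x hx
    obtain ⟨x', rfl⟩ := hsurj.surj x
    refine ⟨x', ?_, rfl⟩
    intro hsm
    apply hx
    haveI : LocallyOfFinitePresentation (Limits.pullback.snd p j) :=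
      MorphismProperty.pullback_snd _ _ inferInstance
    rw [Groth.Agent.Lib.Helper18.SmoothDescent.exists_smooth_nhd_iff] at hsm ⊢
    refine Groth.Agent.Lib.Helper18.SmoothDescent.formallySmooth_stalk_descent_of_isPullback
      hbig x' ?_ hsm
    exact RingHom.Flat.of_isField (Groth.Agent.Lib.helper17.EtaleStalk.isField_stalk_spec_field k _) _
  · intro hfin Ω _ _ tt X' q i hP
    obtain ⟨i0, rfl⟩ := (AlgSp.yon S).map_surjective i
    have hO : IsPullback i0 (SpFamObj.fibHom _ tt q) (Over.homMk p rfl : Over.mk (p ≫ t) ⟶ Over.mk t)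
        (SpFamObj.ptHom _ tt) := by
      refine IsPullback.of_map (AlgSp.yon S) ?_ hP
      apply (AlgSp.yon S).map_injective
      rw [Functor.map_comp, Functor.map_comp]
      exact hP.w
    have hS : IsPullback i0.left q p tt := hO.map (Over.forget S)
    change Set.Finite {x : ↥X' | ¬ ∃ U : X'.Opens, x ∈ U ∧ Smooth (U.ι ≫ q)}
    have hcl : IsClosed {x : ↥X | ¬ ∃ U : X.Opens, x ∈ U ∧ Smooth (U.ι ≫ p)} := by
      have : {x : ↥X | ¬ ∃ U : X.Opens, x ∈ U ∧ Smooth (U.ι ≫ p)} = (p.smoothLocus : Set X)ᶜ := by
        ext x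
        simp only [Set.mem_ofPred_eq, Set.mem_compl_iff, SetLike.mem_coe,
          Scheme.Hom.mem_smoothLocus,
          Groth.Agent.Lib.Helper18.SmoothDescent.exists_smooth_nhd_iff]
      rw [this]
      exact p.smoothLocus.isOpen.isClosed_compl
    haveI : JacobsonSpace X := LocallyOfFiniteType.jacobsonSpace p
    have hpre : (i0.left ⁻¹' {x : ↥X | ¬ ∃ U : X.Opens, x ∈ U ∧ Smooth (U.ι ≫ p)}).Finite := by
      rw [← Set.biUnion_preimage_singleton]
      refine hfin.biUnion fun x hx => ?_
      exact finite_preimage_singleton_of_isClosed p tt i0.left q hS x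
        (isClosed_singleton_of_finite_isClosed _ hfin hcl x hx)
    refine hpre.subset ?_
    intro x' hx' hsm
    exact hx' (exists_smooth_nhd_of_isPullback p tt i0.left q hS x' hsm)

end Groth.Agent.S17311
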