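import Groth.Statements.S17321
import Groth.Agent.Lib.Helper22.FinEtAC

set_option autoImplicit false
universe u v
open CAlg

namespace Groth.Agent.S17321

/-- Let k be an algebraically closed field and A a commutative k-algebra which is finite-dimensional as
a k-vector space (the coordinate ring of a finite k-scheme). Then the space Der(A) of k-derivations
A → A is zero if and only if A is reduced. -/
theorem result (k : Type u) [Field k] [IsAlgClosed k]
    (A : Type v) [CommRing A] [Algebra k A] [Module.Finite k A] :
    Subsingleton (Derivation k A A) ↔ IsReduced A := by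
  classical
  have hfd : FiniteDimensional k A := inferInstance
  constructor
  · intro hsub
    by_contra hred
    have hart : IsArtinianRing A := IsArtinianRing.of_finite k A
    have hnoeth : IsNoetherianRing A := inferInstance
    have hN : ∃ z : A, z ∈ nilradical A ∧ z ≠ 0 := by
      by_contra hcon
      push Not at hcon
      apply hred
      constructor
      intro z hz
      exact hcon z (mem_nilradical.2 hz)
    let ann : A → Ideal A := fun z => (Submodule.span A ({z} : Set A)).annihilator
    have hann : ∀ z a, a ∈ ann z ↔ a * z = 0 := fun z a => by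
      change a ∈ (Submodule.span A ({z} : Set A)).annihilator ↔ _
      rw [Submodule.mem_annihilator_span_singleton, smul_eq_mul]
    let S : Set (Ideal A) := {I | ∃ z, z ∈ nilradical A ∧ z ≠ 0 ∧ I = ann z}
    have hSne : S.Nonempty := by
      obtain ⟨z, hz, hz0⟩ := hN
      exact ⟨ann z, z, hz, hz0, rfl⟩
    obtain ⟨P, ⟨y, hyN, hy0, rfl⟩, hmax⟩ :=
      (set_has_maximal_iff_noetherian (R := A) (M := A)).2 inferInstance S hSne
    have hprime : (ann y).IsPrime := by
      refine ⟨?_, ?_⟩
      · intro htop
        have : (1 : A) ∈ ann y := by rw [htop]; trivial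
        rw [hann, one_mul] at this
        exact hy0 this
      · intro a b hab
        by_contra hcon
        push Not at hcon
        obtain ⟨ha, hb⟩ := hcon
        have hby0 : b * y ≠ 0 := fun h => hb ((hann y b).2 h)
        have hbyN : b * y ∈ nilradical A := Ideal.mul_mem_left _ _ hyN
        have hle : ann y ≤ ann (b * y) := by
          intro r hr
          rw [hann] at hr ⊢
          rw [mul_left_comm, hr, mul_zero]
        have hnlt := hmax (ann (b * y)) ⟨b * y, hbyN, hby0, rfl⟩
        have heq : ann y = ann (b * y) := by
          by_contra hne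
          exact hnlt (lt_of_le_of_ne hle hne)
        have : a ∈ ann (b * y) := by
          rw [hann, ← mul_assoc]
          exact (hann y (a * b)).1 hab
        rw [← heq] at this
        exact ha this
    have hmaxl : (ann y).IsMaximal := Ideal.IsPrime.isMaximal' hprime
    obtain ⟨χ, hχ⟩ := Groth.Agent.Lib.helper22.FinEtAC.exists_point_of_isMaximal k A (ann y)
    -- (F0) a - χ a ∈ P
    have hsub0 : ∀ a : A, a - algebraMap k A (χ a) ∈ ann y := by
      intro a
      rw [← hχ, map_sub, AlgHom.commutes, Algebra.algebraMap_self_apply, sub_self]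
    -- (F1)
    have hF1 : ∀ a : A, a * y = χ a • y := by
      intro a
      have h1 := (hann y _).1 (hsub0 a)
      rw [sub_mul, sub_eq_zero] at h1
      rw [h1, Algebra.smul_def]
    -- (F2)
    have hF2 : ann y * ann y ≠ ann y := by
      intro hidem
      have hfg : (ann y).FG := IsNoetherian.noetherian _
      obtain ⟨e, he, hPe⟩ := (Ideal.isIdempotentElem_iff_of_fg (ann y) hfg).1 hidem
      have hyP : y ∈ ann y := by
        have : nilradical A ≤ ann y := nilradical_le_prime (ann y)
        exact this hyN
      have heP : e ∈ ann y := by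
        rw [hPe]
        exact Submodule.mem_span_singleton_self e
      rw [hPe] at hyP
      obtain ⟨c, hc⟩ := Submodule.mem_span_singleton.1 hyP
      have h1 : e * y = y := by
        rw [← hc, smul_eq_mul, mul_comm c e, ← mul_assoc, he.eq]
      have h2 : e * y = 0 := (hann y e).1 heP
      exact hy0 (h1.symm.trans h2)
    obtain ⟨x₀, hx₀P, hx₀⟩ : ∃ x₀ ∈ ann y, x₀ ∉ ann y * ann y := by
      have hlt : ann y * ann y < ann y := lt_of_le_of_ne Ideal.mul_le_right hF2
      exact SetLike.exists_of_lt hlt
    have hx₀' : x₀ ∉ ((ann y * ann y).restrictScalars k) := hx₀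
    obtain ⟨f, hfx, hfmap⟩ :=
      Submodule.exists_dual_map_eq_bot_of_notMem hx₀' (Module.Projective.of_free)
    have hfker : ∀ z ∈ ann y * ann y, f z = 0 := by
      intro z hz
      have : f z ∈ ((ann y * ann y).restrictScalars k).map f := ⟨z, hz, rfl⟩
      rw [hfmap] at this
      exact this
    let φ : A →ₗ[k] k := (f x₀)⁻¹ • f - ((f x₀)⁻¹ * f 1) • χ.toLinearMap
    have hφ1 : φ 1 = 0 := by
      simp [φ]
    have hφx : φ x₀ = 1 := by
      have : χ x₀ = 0 := (hχ x₀).2 hx₀P
      simp [φ, this, hfx]
    have hφsq : ∀ z ∈ ann y * ann y, φ z = 0 := by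
      intro z hz
      have h1 : χ z = 0 := (hχ z).2 (Ideal.mul_le_right hz)
      simp [φ, h1, hfker z hz]
    have hF3 : ∀ a b : A, φ (a * b) = χ a * φ b + χ b * φ a := by
      intro a b
      set a₀ : A := a - algebraMap k A (χ a) with ha₀
      set b₀ : A := b - algebraMap k A (χ b) with hb₀
      have h1 : a * b = a₀ * b₀ + (χ a • b + χ b • a - (χ a * χ b) • (1 : A)) := by
        simp only [ha₀, hb₀, Algebra.smul_def, map_mul]
        ring
      have h2 : φ (a₀ * b₀) = 0 := hφsq _ (Ideal.mul_mem_mul (hsub0 a) (hsub0 b))
      rw [h1, map_add, h2, zero_add, map_sub, map_add, map_smul, map_smul, map_smul, hφ1,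
        smul_zero, sub_zero, smul_eq_mul, smul_eq_mul]
    let D : Derivation k A A := Derivation.mk' ((LinearMap.toSpanSingleton k A y) ∘ₗ φ) (by
      intro a b
      simp only [LinearMap.comp_apply, LinearMap.toSpanSingleton_apply, smul_eq_mul]
      rw [hF3, add_smul, mul_smul, mul_smul, Algebra.mul_smul_comm, Algebra.mul_smul_comm, hF1 a,
        hF1 b, smul_comm (φ b) (χ a) y, smul_comm (φ a) (χ b) y])
    have hD : D x₀ = y := by
      change (LinearMap.toSpanSingleton k A y) (φ x₀) = y
      rw [hφx, LinearMap.toSpanSingleton_apply, one_smul]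
    have hD0 : D = 0 := Subsingleton.elim _ _
    rw [hD0, Derivation.zero_apply] at hD
    exact hy0 hD.symm
  · intro hred
    have hidem : ∀ (D : Derivation k A A) (e : A), IsIdempotentElem e → D e = 0 := by
      intro D e he
      have h1 : D e = e • D e + e • D e := by
        conv_lhs => rw [← he.eq]
        exact D.leibniz e e
      have h2 : e • D e = 0 := by
        have := congrArg (fun t => e • t) h1
        simp only [smul_add, smul_smul, he.eq] at this
        exact add_eq_left.1 this.symm
      rw [h1, h2, add_zero]
    have : Fintype (A →ₐ[k] k) := Fintype.ofFinite _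
    let b := Groth.Agent.Lib.helper22.FinEtAC.basis k A
    have hb : ∀ χ : A →ₐ[k] k, IsIdempotentElem (b χ) := by
      intro χ
      apply Groth.Agent.Lib.helper22.FinEtAC.eq_of_forall_point k A
      intro ψ
      have h1 : ψ (b χ) = (b.repr (b χ)) ψ := (Groth.Agent.Lib.helper22.FinEtAC.basis_repr k A (b χ) ψ).symm
      rw [map_mul, h1, Module.Basis.repr_self, Finsupp.single_apply]
      split_ifs <;> simp
    have hzero : ∀ D : Derivation k A A, D = 0 := by
      intro D
      ext a
      rw [← b.sum_repr a, map_sum, Derivation.zero_apply]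
      apply Finset.sum_eq_zero
      intro χ _
      rw [Derivation.map_smul, hidem D _ (hb χ), smul_zero]
    exact ⟨fun D D' => (hzero D).trans (hzero D').symm⟩

end Groth.Agent.S17321
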