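import Groth.Statements.S17323
import Mathlib
import Groth.Agent.Lib.Helper22.FinEtAC

set_option autoImplicit false
universe u v
open CAlg

namespace Groth.Agent.S17323

/-- Let k be an algebraically closed field and A a commutative k-algebra which is finite-dimensional as
a k-vector space. Then A has a largest reduced subalgebra: a k-subalgebra B which is reduced and
contains every reduced k-subalgebra of A; moreover the composite of the inclusion B → A with the
projection A → A/nilradical(A) is bijective. -/
theorem result (k : Type u) [Field k] [IsAlgClosed k]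
    (A : Type v) [CommRing A] [Algebra k A] [Module.Finite k A] :
    ∃ B : Subalgebra k A, IsReduced ↥B ∧ (∀ C : Subalgebra k A, IsReduced ↥C → C ≤ B) ∧
      Function.Bijective ((Ideal.Quotient.mkₐ k (nilradical A)).comp B.val) := by
  classical
  have hred : IsReduced (A ⧸ nilradical A) :=
    (Ideal.isRadical_iff_quotient_reduced _).1 (Ideal.radical_isRadical _)
  have hfinX : Fintype ((A ⧸ nilradical A) →ₐ[k] k) := Fintype.ofFinite _
  let π : A →ₐ[k] A ⧸ nilradical A := Ideal.Quotient.mkₐ k (nilradical A)
  let eb := Groth.Agent.Lib.helper22.FinEtAC.basis k (A ⧸ nilradical A)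
  have hpt : ∀ χ ψ : (A ⧸ nilradical A) →ₐ[k] k, ψ (eb χ) = if χ = ψ then 1 else 0 := by
    intro χ ψ
    rw [← Groth.Agent.Lib.helper22.FinEtAC.basis_repr, Module.Basis.repr_self, Finsupp.single_apply]
  have hcoi : CompleteOrthogonalIdempotents (fun χ => eb χ) := by
    rw [CompleteOrthogonalIdempotents.iff_ortho_complete]
    constructor
    · intro χ ψ hne
      apply Groth.Agent.Lib.helper22.FinEtAC.eq_of_forall_point k
      intro φ
      rw [map_mul, hpt, hpt, map_zero]
      by_cases h1 : χ = φ
      · rw [if_neg (fun h2 : ψ = φ => hne (h1.trans h2.symm)), mul_zero]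
      · rw [if_neg h1, zero_mul]
    · apply Groth.Agent.Lib.helper22.FinEtAC.eq_of_forall_point k
      intro φ
      rw [map_sum, map_one]
      simp [hpt]
  have hker : ∀ x ∈ RingHom.ker (π : A →+* A ⧸ nilradical A), IsNilpotent x := by
    intro x hx
    rw [RingHom.mem_ker] at hx
    exact mem_nilradical.1 (Ideal.Quotient.eq_zero_iff_mem.1 hx)
  obtain ⟨e, he, hfe⟩ := CompleteOrthogonalIdempotents.lift_of_isNilpotent_ker
    (π : A →+* A ⧸ nilradical A) hker hcoi
    (fun i => RingHom.mem_range.2 (Ideal.Quotient.mk_surjective _))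
  have hπe : ∀ χ, π (e χ) = eb χ := fun χ => congrFun hfe χ
  -- the section
  let sLin : (A ⧸ nilradical A) →ₗ[k] A := ∑ χ, LinearMap.smulRight χ.toLinearMap (e χ)
  have hsLin : ∀ a, sLin a = ∑ χ, χ a • e χ := by
    intro a
    simp [sLin, LinearMap.sum_apply]
  have hs1 : sLin 1 = 1 := by
    rw [hsLin]
    simp only [map_one, one_smul]
    exact he.complete
  have hsmul : ∀ a b, sLin (a * b) = sLin a * sLin b := by
    intro a b
    rw [hsLin, hsLin, hsLin, Finset.sum_mul_sum]
    refine Finset.sum_congr rfl (fun χ _ => ?_)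
    rw [Finset.sum_eq_single χ]
    · rw [smul_mul_smul_comm, (he.idem χ).eq, map_mul]
    · intro ψ _ hne
      rw [smul_mul_smul_comm, he.ortho hne.symm, smul_zero]
    · intro h
      exact absurd (Finset.mem_univ χ) h
  let s : (A ⧸ nilradical A) →ₐ[k] A := AlgHom.ofLinearMap sLin hs1 hsmul
  have hπs : ∀ a, π (s a) = a := by
    intro a
    change π (sLin a) = a
    rw [hsLin, map_sum]
    simp only [map_smul, hπe]
    exact eb.sum_repr a
  -- every idempotent of `A` lies in the range of `s`
  have hidem : ∀ g : A, IsIdempotentElem g → g = s (π g) := by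
    intro g hg
    apply eq_of_isNilpotent_sub_of_isIdempotentElem hg ((hg.map π).map s)
    apply hker
    rw [RingHom.mem_ker]
    change π (g - s (π g)) = 0
    rw [map_sub, hπs, sub_self]
  refine ⟨s.range, ?_, ?_, ?_⟩
  · -- reduced
    have hinj : Function.Injective
        ((π.comp s.range.val : s.range →ₐ[k] A ⧸ nilradical A).toRingHom) := by
      intro x y hxy
      obtain ⟨a, ha⟩ := (AlgHom.mem_range s).1 x.2
      obtain ⟨b, hb⟩ := (AlgHom.mem_range s).1 y.2
      apply Subtype.ext
      have h1 : π (x : A) = π (y : A) := hxy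
      rw [← ha, ← hb, hπs, hπs] at h1
      rw [← ha, ← hb, h1]
    exact isReduced_of_injective _ hinj
  · intro C hC
    have hfinC : Module.Finite k C :=
      Module.Finite.of_injective C.val.toLinearMap Subtype.val_injective
    have hfinXC : Fintype (C →ₐ[k] k) := Fintype.ofFinite _
    let fb := Groth.Agent.Lib.helper22.FinEtAC.basis k C
    have hptC : ∀ χ ψ : C →ₐ[k] k, ψ (fb χ) = if χ = ψ then 1 else 0 := by
      intro χ ψ
      rw [← Groth.Agent.Lib.helper22.FinEtAC.basis_repr, Module.Basis.repr_self,
        Finsupp.single_apply]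
    have hfidem : ∀ χ, IsIdempotentElem (fb χ) := by
      intro χ
      apply Groth.Agent.Lib.helper22.FinEtAC.eq_of_forall_point k
      intro φ
      rw [map_mul, hptC]
      split_ifs <;> simp
    intro c hc
    have h1 := fb.sum_repr ⟨c, hc⟩
    have h2 := congrArg (C.val) h1
    rw [map_sum] at h2
    change _ = c at h2
    rw [← h2]
    refine Subalgebra.sum_mem _ (fun χ _ => ?_)
    rw [map_smul]
    refine Subalgebra.smul_mem _ ?_ _
    have h3 : IsIdempotentElem (C.val (fb χ)) := (hfidem χ).map C.val
    rw [hidem _ h3]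
    exact ⟨_, rfl⟩
  · constructor
    · intro x y hxy
      obtain ⟨a, ha⟩ := (AlgHom.mem_range s).1 x.2
      obtain ⟨b, hb⟩ := (AlgHom.mem_range s).1 y.2
      apply Subtype.ext
      have h1 : π (x : A) = π (y : A) := hxy
      rw [← ha, ← hb, hπs, hπs] at h1
      rw [← ha, ← hb, h1]
    · intro a
      exact ⟨⟨s a, ⟨a, rfl⟩⟩, hπs a⟩

end Groth.Agent.S17323
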