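import Groth.Statements.S17324
import Mathlib

set_option autoImplicit false
universe u v
open CAlg

namespace Groth.Agent.S17324

/-- (i) ⟺ (ii): let k be an algebraically closed field, A a commutative k-algebra which is
finite-dimensional as a k-vector space and is a local ring with maximal ideal m, and a_1, …, a_m ∈
m. Then A is generated as a k-algebra by a_1, …, a_m if and only if m is generated as an ideal by
a_1, …, a_m. (The printed lemma has a third equivalent condition, that the images of the a_i span
m/m²; its equivalence with (ii) is Nakayama's lemma.) -/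
theorem result (k : Type u) [Field k] [IsAlgClosed k]
    (A : Type v) [CommRing A] [Algebra k A] [Module.Finite k A] [IsLocalRing A]
    (m : ℕ) (a : Fin m → A) (ha : ∀ i, a i ∈ IsLocalRing.maximalIdeal A) :
    Algebra.adjoin k (Set.range a) = ⊤ ↔ Ideal.span (Set.range a) = IsLocalRing.maximalIdeal A := by
  classical
  set 𝔪 := IsLocalRing.maximalIdeal A with h𝔪
  constructor
  · intro hadj
    apply le_antisymm
    · rw [Ideal.span_le]
      rintro _ ⟨i, rfl⟩
      exact ha i
    · set J := Ideal.span (Set.range a) with hJ
      have hclaim : ∀ x ∈ Algebra.adjoin k (Set.range a), ∃ c : k, x - algebraMap k A c ∈ J := by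
        intro x hx
        induction hx using Algebra.adjoin_induction with
        | mem x hx => exact ⟨0, by rw [map_zero, sub_zero]; exact Ideal.subset_span hx⟩
        | algebraMap r => exact ⟨r, by rw [sub_self]; exact J.zero_mem⟩
        | add x y _ _ hx hy =>
          obtain ⟨c, hc⟩ := hx
          obtain ⟨c', hc'⟩ := hy
          refine ⟨c + c', ?_⟩
          have : x + y - algebraMap k A (c + c') =
              (x - algebraMap k A c) + (y - algebraMap k A c') := by rw [map_add]; ring
          rw [this]
          exact J.add_mem hc hc'
        | mul x y _ _ hx hy =>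
          obtain ⟨c, hc⟩ := hx
          obtain ⟨c', hc'⟩ := hy
          refine ⟨c * c', ?_⟩
          have : x * y - algebraMap k A (c * c') =
              x * (y - algebraMap k A c') + algebraMap k A c' * (x - algebraMap k A c) := by
            rw [map_mul]; ring
          rw [this]
          exact J.add_mem (J.mul_mem_left _ hc') (J.mul_mem_left _ hc)
      intro x hx
      obtain ⟨c, hc⟩ := hclaim x (by rw [hadj]; trivial)
      have hJm : J ≤ 𝔪 := by
        rw [hJ, Ideal.span_le]
        rintro _ ⟨i, rfl⟩
        exact ha i
      have hcm : algebraMap k A c ∈ 𝔪 := by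
        have := 𝔪.sub_mem hx (hJm hc)
        rwa [sub_sub_cancel] at this
      have hc0 : c = 0 := by
        by_contra hne
        have hu : IsUnit (algebraMap k A c) := (IsUnit.mk0 c hne).map (algebraMap k A)
        exact (IsLocalRing.mem_maximalIdeal _).mp hcm hu
      rw [hc0, map_zero, sub_zero] at hc
      exact hc
  · intro hJ
    set B := Algebra.adjoin k (Set.range a) with hB
    have hfinBA : Module.Finite B A := Module.Finite.of_restrictScalars_finite k B A
    have hart : IsArtinianRing A := IsArtinianRing.of_finite k A
    let I : Ideal B := 𝔪.comap (algebraMap B A)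
    have hnil : ∀ x ∈ 𝔪, IsNilpotent x := by
      intro x hx
      obtain ⟨n, hn⟩ := IsArtinianRing.isNilpotent_jacobson_bot (R := A)
      rw [IsLocalRing.jacobson_eq_maximalIdeal ⊥ bot_ne_top] at hn
      refine ⟨n, ?_⟩
      have : x ^ n ∈ 𝔪 ^ n := Ideal.pow_mem_pow hx n
      rw [hn] at this
      exact this
    have hIjac : I ≤ Ideal.jacobson ⊥ := by
      intro x hx
      apply Ideal.radical_le_jacobson
      obtain ⟨n, hn⟩ := hnil (x : A) hx
      refine ⟨n, ?_⟩
      rw [Ideal.mem_bot]
      apply Subtype.ext
      simpa using hn
    have hmulclosed : ∀ y ∈ (I • ⊤ : Submodule B A), ∀ r : A, r * y ∈ (I • ⊤ : Submodule B A) := by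
      intro y hy r
      refine Submodule.smul_induction_on hy ?_ ?_
      · intro i hi z _
        have : r * (i • z) = i • (r * z) := by
          rw [Algebra.smul_def, Algebra.smul_def]; ring
        rw [this]
        exact Submodule.smul_mem_smul hi trivial
      · intro y z hy hz
        rw [mul_add]
        exact Submodule.add_mem _ hy hz
    have hJI : ∀ y ∈ Ideal.span (Set.range a), y ∈ (I • ⊤ : Submodule B A) := by
      intro y hy
      induction hy using Submodule.span_induction with
      | mem x hx =>
        obtain ⟨i, rfl⟩ := hx
        have hmem : a i ∈ B := Algebra.subset_adjoin ⟨i, rfl⟩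
        have hI : (⟨a i, hmem⟩ : B) ∈ I := ha i
        have : a i = (⟨a i, hmem⟩ : B) • (1 : A) := by
          rw [Algebra.smul_def, mul_one]; rfl
        rw [this]
        exact Submodule.smul_mem_smul hI trivial
      | zero => exact Submodule.zero_mem _
      | add x y _ _ hx hy => exact Submodule.add_mem _ hx hy
      | smul r x _ hx => exact hmulclosed x hx r
    have hbij : Function.Bijective (algebraMap k (A ⧸ 𝔪)) :=
      IsAlgClosed.algebraMap_bijective_of_isIntegral
    have key : (⊤ : Submodule B A) ≤ (1 : Submodule B A) ⊔ I • ⊤ := by
      intro x _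
      obtain ⟨c, hc⟩ := hbij.2 (Ideal.Quotient.mk 𝔪 x)
      have hxc : x - algebraMap k A c ∈ 𝔪 := by
        rw [← Ideal.Quotient.eq_zero_iff_mem, map_sub, ← hc]
        exact sub_eq_zero.mpr rfl
      rw [← hJ] at hxc
      have h1 : algebraMap k A c ∈ (1 : Submodule B A) := by
        rw [Submodule.mem_one]
        exact ⟨algebraMap k B c, rfl⟩
      have h2 := hJI _ hxc
      have hx : x = algebraMap k A c + (x - algebraMap k A c) := by ring
      rw [hx]
      exact Submodule.add_mem_sup h1 h2
    have hle := Submodule.le_of_le_smul_of_le_jacobson_bot (Module.Finite.fg_top) hIjac key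
    rw [eq_top_iff]
    intro x _
    have hx1 : x ∈ (1 : Submodule B A) := hle trivial
    rw [Submodule.mem_one] at hx1
    obtain ⟨b, rfl⟩ := hx1
    exact b.2

end Groth.Agent.S17324
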