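import Groth.Statements.S17325
import Mathlib
import Groth.Agent.S3213

set_option autoImplicit false
universe u v
open LieAlg

namespace Groth.Agent.S17325

set_option linter.style.haveILetI false
set_option linter.unusedSectionVars false
set_option linter.unusedVariables false

open Groth.Agent.Lib.helper24.SigmaLinLib Groth.Agent.S3213

theorem main (k : Type u) [Field k] [IsAlgClosed k]
    (p : ℕ) [Fact p.Prime] [CharP k p] (V : Type v) [AddCommGroup V] [Module k V] [FiniteDimensional k V]
    (g : Submodule k (Module.End k V)) (hg : ∀ u ∈ g, u ^ p ∈ g) (hne : g ≠ ⊥) :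
    ∃ u ∈ g, u ≠ 0 ∧ ∃ c : k, u ^ p = c • u := by
  obtain ⟨u₀, hu₀g, hu₀⟩ := Submodule.exists_mem_ne_zero_of_ne_bot hne
  haveI : Nontrivial (Module.End k V) := nontrivial_of_ne u₀ 0 hu₀
  haveI : CharP (Module.End k V) p :=
    charP_of_injective_algebraMap (algebraMap k (Module.End k V)).injective p
  set A := Algebra.adjoin k ({u₀} : Set (Module.End k V)) with hA
  have hcommA : ∀ a ∈ A, ∀ b ∈ A, Commute a b := by
    have hc := Algebra.isMulCommutative_adjoin k (s := ({u₀} : Set (Module.End k V)))
      (by intro a ha b hb; rw [Set.mem_singleton_iff] at ha hb; rw [ha, hb])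
    intro a ha b hb
    have := hc.is_comm.comm (⟨a, ha⟩ : A) ⟨b, hb⟩
    exact congrArg Subtype.val this
  set W : Submodule k (Module.End k V) := g ⊓ Subalgebra.toSubmodule A with hW
  have hu₀W : u₀ ∈ W := ⟨hu₀g, Algebra.subset_adjoin rfl⟩
  have hpowW : ∀ w ∈ W, w ^ p ∈ W := fun w hw => ⟨hg w hw.1, A.pow_mem hw.2 p⟩
  let T : W →ₛₗ[iterateFrobenius k p 1] W :=
    { toFun := fun w => ⟨(w : Module.End k V) ^ p, hpowW w w.2⟩
      map_add' := fun a b => Subtype.ext (by
        change ((a : Module.End k V) + b) ^ p = (a : Module.End k V) ^ p + (b : Module.End k V) ^ p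
        exact add_pow_char_of_commute p (hcommA _ a.2.2 _ b.2.2))
      map_smul' := fun c a => Subtype.ext (by
        change (c • (a : Module.End k V)) ^ p = (iterateFrobenius k p 1 c) • (a : Module.End k V) ^ p
        rw [smul_pow, iterateFrobenius_def, pow_one]) }
  have hTdef : ∀ w : W, ((T w : W) : Module.End k V) = (w : Module.End k V) ^ p := fun w => rfl
  have hσ : Function.Surjective (iterateFrobenius k p 1) := by
    rw [iterateFrobenius_one]
    exact surjective_frobenius k p
  obtain ⟨-, b, hb⟩ := general T hσ (h2_sep k p 1 one_pos) (h3_sep k p 1 one_pos)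
  rcases Nat.eq_zero_or_pos (Module.finrank k ↥(⨅ n : ℕ, imgSpan T n)) with h0 | hpos
  · -- nilpotent case
    have hbot : (⨅ n : ℕ, imgSpan T n) = ⊥ := Submodule.finrank_eq_zero.mp h0
    obtain ⟨m₀, hm₀⟩ := exists_imgSpan_stable T
    rw [iInf_imgSpan_eq T hm₀] at hbot
    have hnil : ∀ w : W, (⇑T)^[m₀] w = 0 := by
      intro w
      have : (⇑T)^[m₀] w ∈ imgSpan T m₀ := Submodule.subset_span ⟨w, rfl⟩
      rw [hbot] at this
      exact (Submodule.mem_bot k).mp this
    set w₀ : W := ⟨u₀, hu₀W⟩ with hw₀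
    have hw₀ne : w₀ ≠ 0 := fun h => hu₀ (congrArg Subtype.val h)
    have hex : ∃ n, (⇑T)^[n] w₀ = 0 := ⟨m₀, hnil w₀⟩
    classical
    set n := Nat.find hex with hn
    have hn0 : n ≠ 0 := by
      intro h
      have := Nat.find_spec hex
      rw [← hn, h] at this
      exact hw₀ne this
    obtain ⟨n', hn'⟩ : ∃ n', n = n' + 1 := ⟨n - 1, by omega⟩
    have h1 : (⇑T)^[n'] w₀ ≠ 0 := Nat.find_min hex (by omega)
    have h2 : T ((⇑T)^[n'] w₀) = 0 := by
      have := Nat.find_spec hex
      rw [← hn, hn', Function.iterate_succ_apply'] at this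
      exact this
    refine ⟨(((⇑T)^[n'] w₀ : W) : Module.End k V), ((⇑T)^[n'] w₀).2.1, ?_, 0, ?_⟩
    · intro h; exact h1 (Subtype.ext h)
    · rw [zero_smul, ← hTdef, h2]; rfl
  · -- a nonzero fixed vector
    have hbne : (b ⟨0, hpos⟩ : ↥(⨅ n : ℕ, imgSpan T n)) ≠ 0 := b.ne_zero _
    set w : W := ((b ⟨0, hpos⟩ : ↥(⨅ n : ℕ, imgSpan T n)) : W) with hw
    have hwne : w ≠ 0 := fun h => hbne (Subtype.ext h)
    have hfix : T w = w := hb ⟨0, hpos⟩
    refine ⟨(w : Module.End k V), w.2.1, fun h => hwne (Subtype.ext h), 1, ?_⟩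
    rw [one_smul, ← hTdef, hfix]



/-- Let k be an algebraically closed field of characteristic p > 0, V a finite-dimensional k-vector
space and g a nonzero k-linear subspace of End_k(V) closed under the p-th power map u ↦ u^p. Then g
contains a nonzero u with u^p = c u for some c ∈ k, i.e. a line k u closed under p-th powers. (The
published lemma concerns an abstract nonzero finite-dimensional restricted Lie algebra; this row
concerns subspaces of End_k(V) closed under p-th powers, a class that contains every restricted Lie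
subalgebra of gl(V).) -/
theorem result (k : Type u) [Field k] [IsAlgClosed k]
    (p : ℕ) [Fact p.Prime] [CharP k p] (V : Type v) [AddCommGroup V] [Module k V] [FiniteDimensional k V]
    (g : Submodule k (Module.End k V)) (hg : ∀ u ∈ g, u ^ p ∈ g) (hne : g ≠ ⊥) :
    ∃ u ∈ g, u ≠ 0 ∧ ∃ c : k, u ^ p = c • u := by
  exact main k p V g hg hne

end Groth.Agent.S17325
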