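import Groth.Statements.S17335
import Mathlib

set_option autoImplicit false
universe u v
open CAlg

namespace Groth.Agent.S17335

/-- Let k be an algebraically closed field and A a commutative k-algebra which is finite-dimensional as
a k-vector space, and let E be the set of k-algebra homomorphisms A → k. Then E is finite, and the
evaluation homomorphism A → O(E) = (E → k), a ↦ (f ↦ f(a)), is surjective with kernel the nilradical
of A; it therefore induces an isomorphism of A_red = A/nilradical(A) onto O(E). -/
theorem result (k : Type u) [Field k]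
    [IsAlgClosed k] (A : Type v) [CommRing A] [Algebra k A] [Module.Finite k A] :
    Finite (A →ₐ[k] k) ∧
      Function.Surjective (AlgHom.pi (R := k) (fun f : A →ₐ[k] k => f)) ∧
      RingHom.ker (AlgHom.pi (R := k) (fun f : A →ₐ[k] k => f)) = nilradical A := by
  classical
  have hli : LinearIndependent k (AlgHom.toLinearMap : (A →ₐ[k] k) → A →ₗ[k] k) :=
    linearIndependent_toLinearMap k A k
  have hfin : Finite (A →ₐ[k] k) := hli.finite
  refine ⟨hfin, ?_, ?_⟩
  · cases nonempty_fintype (A →ₐ[k] k)
    set Φ : A →ₐ[k] ((A →ₐ[k] k) → k) := AlgHom.pi (R := k) (fun f : A →ₐ[k] k => f) with hΦ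
    by_contra hns
    have hrange : LinearMap.range Φ.toLinearMap < ⊤ := by
      rw [lt_top_iff_ne_top]
      intro htop
      apply hns
      intro v
      have : v ∈ LinearMap.range Φ.toLinearMap := by rw [htop]; trivial
      obtain ⟨a, ha⟩ := this
      exact ⟨a, ha⟩
    obtain ⟨ψ, hψ0, hle⟩ := Submodule.exists_le_ker_of_lt_top _ hrange
    set c : (A →ₐ[k] k) → k := fun f => ψ (fun f' => if f = f' then 1 else 0) with hc
    have hψ : ∀ v, ψ v = ∑ f, c f * v f := by
      intro v
      rw [LinearMap.pi_apply_eq_sum_univ ψ v]
      apply Finset.sum_congr rfl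
      intro f _
      rw [smul_eq_mul, mul_comm]
    have hsum : ∑ f : A →ₐ[k] k, c f • f.toLinearMap = 0 := by
      apply LinearMap.ext
      intro a
      have h1 : Φ.toLinearMap a ∈ LinearMap.ker ψ := hle ⟨a, rfl⟩
      rw [LinearMap.mem_ker, hψ] at h1
      rw [LinearMap.sum_apply, LinearMap.zero_apply, ← h1]
      apply Finset.sum_congr rfl
      intro f _
      rfl
    have hc0 := Fintype.linearIndependent_iff.mp hli c hsum
    apply hψ0
    apply LinearMap.ext
    intro v
    rw [hψ, LinearMap.zero_apply]
    apply Finset.sum_eq_zero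
    intro f _
    rw [hc0 f, zero_mul]
  · ext a
    rw [RingHom.mem_ker]
    constructor
    · intro ha
      rw [nilradical_eq_sInf, Ideal.mem_sInf]
      intro P hP
      have hPp : P.IsPrime := hP
      have hint : Algebra.IsIntegral k (A ⧸ P) := inferInstance
      have hbij : Function.Bijective (algebraMap k (A ⧸ P)) :=
        IsAlgClosed.algebraMap_bijective_of_isIntegral
      let e : k ≃ₐ[k] (A ⧸ P) := AlgEquiv.ofBijective (Algebra.ofId k (A ⧸ P)) hbij
      let f : A →ₐ[k] k := (e.symm : (A ⧸ P) →ₐ[k] k).comp (Ideal.Quotient.mkₐ k P)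
      have hfa : f a = 0 := congrFun ha f
      have h1 : e.symm (Ideal.Quotient.mk P a) = 0 := hfa
      have h2 : Ideal.Quotient.mk P a = 0 := by
        have := congrArg e h1
        rwa [AlgEquiv.apply_symm_apply, map_zero] at this
      exact Ideal.Quotient.eq_zero_iff_mem.mp h2
    · intro ha
      funext f
      have h1 : IsNilpotent (f a) := (mem_nilradical.mp ha).map f
      exact h1.eq_zero

end Groth.Agent.S17335
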