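import Groth.Statements.S17326
import Groth.Agent.S17335

set_option autoImplicit false
universe u v
open CAlg

namespace Groth.Agent.S17326

/-- Let k be an algebraically closed field of characteristic p > 0, A a commutative k-algebra which is
finite-dimensional as a k-vector space (a finite k-scheme X), and n ≥ 1. The n-th iterated relative
Frobenius morphism X → X^(p^n) is an isomorphism if and only if X is reduced; on rings: the map a ↦
a^(p^n) of A to itself (which is the ring homomorphism underlying the relative Frobenius, the twist
A^(p^n) having the same underlying ring as A) is bijective if and only if A is reduced. -/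
theorem result (k : Type u) [Field k] [IsAlgClosed k]
    (p : ℕ) [Fact p.Prime] [CharP k p] (A : Type v) [CommRing A] [Algebra k A] [Module.Finite k A]
    (n : ℕ) (hn : 1 ≤ n) :
    Function.Bijective (fun a : A => a ^ p ^ n) ↔ IsReduced A := by
  have hp2 : 2 ≤ p ^ n := by
    have h1 : 2 ≤ p := (Fact.out : p.Prime).two_le
    calc 2 ≤ p := h1
      _ = p ^ 1 := (pow_one p).symm
      _ ≤ p ^ n := Nat.pow_le_pow_right (by omega) hn
  constructor
  · intro hbij
    have hinj := hbij.1
    constructor
    rintro a ⟨m, hm⟩
    have hiter : ∀ j : ℕ, a ^ ((p ^ n) ^ j) = 0 → a = 0 := by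
      intro j
      induction j with
      | zero => intro h; simpa using h
      | succ j ih =>
        intro h
        apply ih
        apply hinj
        show (a ^ (p ^ n) ^ j) ^ p ^ n = (0 : A) ^ p ^ n
        rw [← pow_mul, ← pow_succ, h, zero_pow (by omega)]
    apply hiter m
    exact pow_eq_zero_of_le (Nat.lt_pow_self (by omega)).le hm
  · intro hred
    obtain ⟨hfin, hsurj, hker⟩ := Groth.Agent.S17335.result k A
    set Φ := AlgHom.pi (R := k) (fun f : A →ₐ[k] k => f) with hΦ
    have hΦinj : Function.Injective Φ := by
      rw [injective_iff_map_eq_zero]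
      intro a ha
      have hmem : a ∈ RingHom.ker Φ := ha
      rw [hker, nilradical_eq_zero] at hmem
      exact hmem
    have hk : Function.Bijective (fun c : k => c ^ p ^ n) := bijective_iterateFrobenius k p n
    constructor
    · intro a b hab
      apply hΦinj
      funext f
      apply hk.1
      have h1 := congrArg (fun x => Φ x f) hab
      simp only [map_pow, Pi.pow_apply] at h1
      exact h1
    · intro b
      have hroot : ∀ f : A →ₐ[k] k, ∃ c : k, c ^ p ^ n = Φ b f := fun f => hk.2 (Φ b f)
      choose v hv using hroot
      obtain ⟨a, ha⟩ := hsurj v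
      refine ⟨a, ?_⟩
      apply hΦinj
      funext f
      show Φ (a ^ p ^ n) f = Φ b f
      rw [map_pow, Pi.pow_apply, ha, hv]

end Groth.Agent.S17326
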