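import Groth.Statements.S18472
import Mathlib
import Groth.Agent.Lib.Helper22.ConvPts

set_option autoImplicit false
universe u v
open Hopf

namespace Groth.Agent.S18472

/-- Let R be a commutative ring and A a commutative Hopf algebra over R which is finitely generated and
projective as an R-module (a finite locally free group scheme G = Spec A over Spec R), and let I =
ker ε be its augmentation ideal. Then A is étale over R if and only if I² = I. (The published text
calls G finite flat, meaning that A is finitely generated and projective.) -/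
theorem result
    (R : Type u) [CommRing R] (A : Type v) [CommRing A] [HopfAlgebra R A]
    [Module.Finite R A] [Module.Projective R A] :
    Algebra.Etale R A ↔
      RingHom.ker (Bialgebra.counitAlgHom R A) ^ 2 = RingHom.ker (Bialgebra.counitAlgHom R A) := by
  classical
  set I : Ideal A := RingHom.ker (Bialgebra.counitAlgHom R A) with hI
  have hsub : ∀ a : A, a - algebraMap R A (Bialgebra.counitAlgHom R A a) ∈ I := by
    intro a
    rw [hI, RingHom.mem_ker, map_sub, AlgHom.commutes]
    simp
  constructor
  · intro het
    have hunr : Algebra.FormallyUnramified R A := inferInstance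
    apply le_antisymm (Ideal.pow_le_self (by norm_num))
    -- compare the quotient map and the trivial point on A / I^2
    let N : Ideal (A ⧸ I ^ 2) := I.map (Ideal.Quotient.mk (I ^ 2))
    have hN : N ^ 2 = ⊥ := by
      rw [← Ideal.map_pow, Ideal.map_quotient_self]
    let g₁ : A →ₐ[R] A ⧸ I ^ 2 := Ideal.Quotient.mkₐ R (I ^ 2)
    let g₂ : A →ₐ[R] A ⧸ I ^ 2 := (Algebra.ofId R (A ⧸ I ^ 2)).comp (Bialgebra.counitAlgHom R A)
    have hg : (Ideal.Quotient.mkₐ R N).comp g₁ = (Ideal.Quotient.mkₐ R N).comp g₂ := by
      apply AlgHom.ext
      intro a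
      change Ideal.Quotient.mk N (Ideal.Quotient.mk (I ^ 2) a) =
        Ideal.Quotient.mk N (algebraMap R (A ⧸ I ^ 2) (Bialgebra.counitAlgHom R A a))
      rw [Ideal.Quotient.eq]
      have : Ideal.Quotient.mk (I ^ 2) a - algebraMap R (A ⧸ I ^ 2) (Bialgebra.counitAlgHom R A a) =
          Ideal.Quotient.mk (I ^ 2) (a - algebraMap R A (Bialgebra.counitAlgHom R A a)) := by
        rw [map_sub]; rfl
      rw [this]
      exact Ideal.mem_map_of_mem _ (hsub a)
    have h12 : g₁ = g₂ := Algebra.FormallyUnramified.comp_injective N hN hg
    intro a ha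
    have := AlgHom.congr_fun h12 a
    change Ideal.Quotient.mk (I ^ 2) a = algebraMap R (A ⧸ I ^ 2) (Bialgebra.counitAlgHom R A a) at this
    have ha0 : Bialgebra.counitAlgHom R A a = 0 := by rw [hI, RingHom.mem_ker] at ha; exact ha
    rw [ha0, map_zero] at this
    exact Ideal.Quotient.eq_zero_iff_mem.mp this
  · intro hsq
    have hunr : Algebra.FormallyUnramified R A := by
      rw [Algebra.FormallyUnramified.iff_comp_injective]
      intro C _ _ N hN g₁ g₂ hg
      let q : C →ₐ[R] C ⧸ N := Ideal.Quotient.mkₐ R N
      let x : WithConv (A →ₐ[R] C) := WithConv.toConv g₁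
      let y : WithConv (A →ₐ[R] C) := WithConv.toConv g₂
      let z : WithConv (A →ₐ[R] C) := x * Groth.Agent.Lib.helper22.cinv y
      have hz : q.comp z.ofConv = (1 : WithConv (A →ₐ[R] C ⧸ N)).ofConv := by
        have e1 := AlgHom.comp_convMul_distrib q x (Groth.Agent.Lib.helper22.cinv y)
        have e2 := AlgHom.comp_convMul_distrib q y (Groth.Agent.Lib.helper22.cinv y)
        have hxy : q.comp x.ofConv = q.comp y.ofConv := hg
        rw [hxy, ← e2, Groth.Agent.Lib.helper22.mul_cinv] at e1
        rw [e1]
        rfl
      have hzI : I ≤ N.comap (z.ofConv : A →+* C) := by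
        intro a ha
        rw [Ideal.mem_comap]
        have := AlgHom.congr_fun hz a
        change Ideal.Quotient.mk N (z.ofConv a) = algebraMap R (C ⧸ N) (Coalgebra.counit (R := R) a) at this
        have ha0 : Coalgebra.counit (R := R) a = 0 := by rw [hI, RingHom.mem_ker] at ha; exact ha
        rw [ha0, map_zero] at this
        exact Ideal.Quotient.eq_zero_iff_mem.mp this
      have hzI2 : I ^ 2 ≤ RingHom.ker (z.ofConv : A →+* C) := by
        have h1 : I ^ 2 ≤ (N.comap (z.ofConv : A →+* C)) ^ 2 := Ideal.pow_right_mono hzI 2
        have h2 : (N.comap (z.ofConv : A →+* C)) ^ 2 ≤ (N ^ 2).comap (z.ofConv : A →+* C) :=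
          Ideal.le_comap_pow _ 2
        rw [hN] at h2
        exact h1.trans h2
      rw [hsq] at hzI2
      have hz1 : z = 1 := by
        apply WithConv.ofConv_injective
        apply AlgHom.ext
        intro a
        have := hzI2 (hsub a)
        rw [RingHom.mem_ker] at this
        have h4 : z.ofConv (a - algebraMap R A (Bialgebra.counitAlgHom R A a)) = 0 := this
        rw [map_sub, AlgHom.commutes, sub_eq_zero] at h4
        rw [h4]
        rfl
      have hxy : x = y := by
        calc x = x * (Groth.Agent.Lib.helper22.cinv y * y) := by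
              rw [Groth.Agent.Lib.helper22.cinv_mul, mul_one]
          _ = z * y := by rw [mul_assoc]
          _ = y := by rw [hz1, one_mul]
      exact congrArg WithConv.ofConv hxy
    have hmfp : Module.FinitePresentation R A := Module.finitePresentation_of_projective R A
    have hfp : Algebra.FinitePresentation R A := inferInstance
    exact Algebra.Etale.of_formallyUnramified_of_flat

end Groth.Agent.S18472
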