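import Groth.Statements.S17327
import Mathlib
import Groth.Agent.S18472

set_option autoImplicit false
universe u v
open Hopf

namespace Groth.Agent.S17327

/-- Let k be an algebraically closed field of characteristic p > 0, A a commutative Hopf algebra over k
which is finite-dimensional as a k-vector space (a finite group scheme G = Spec A), I the
augmentation ideal (kernel of the counit) and n ≥ 1. The n-th Frobenius kernel G_n is the closed
subgroup scheme cut out by the ideal generated by the p^n-th powers f^(p^n), f ∈ I; it is trivial,
i.e. that ideal equals I, if and only if G is reduced. -/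
theorem result (k : Type u) [Field k] [IsAlgClosed k]
    (p : ℕ) [Fact p.Prime] [CharP k p] (A : Type v) [CommRing A] [HopfAlgebra k A] [Module.Finite k A]
    (n : ℕ) (hn : 1 ≤ n) :
    Ideal.span ((fun f : A => f ^ p ^ n) '' (RingHom.ker (Bialgebra.counitAlgHom k A) : Set A)) =
      RingHom.ker (Bialgebra.counitAlgHom k A) ↔ IsReduced A := by
  classical
  set I : Ideal A := RingHom.ker (Bialgebra.counitAlgHom k A) with hI
  have hp2 : 2 ≤ p ^ n := by
    have hp : 2 ≤ p := (Fact.out : p.Prime).two_le
    calc 2 ≤ p := hp
      _ = p ^ 1 := (pow_one p).symm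
      _ ≤ p ^ n := Nat.pow_le_pow_right (by omega) hn
  constructor
  · intro h
    have hsq : I ^ 2 = I := by
      apply le_antisymm (Ideal.pow_le_self (by norm_num))
      have h' : Ideal.span ((fun f : A => f ^ p ^ n) '' (I : Set A)) ≤ I ^ 2 := by
        rw [Ideal.span_le]
        rintro _ ⟨f, hf, rfl⟩
        have h1 : f ^ p ^ n ∈ I ^ (p ^ n) := Ideal.pow_mem_pow hf _
        exact Ideal.pow_le_pow_right hp2 h1
      exact h.symm.le.trans h'
    have het : Algebra.Etale k A := (Groth.Agent.S18472.result k A).mpr hsq
    exact Algebra.FormallyUnramified.isReduced_of_field k A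
  · intro hred
    have hart : IsArtinianRing A := IsArtinianRing.of_finite k A
    apply le_antisymm
    · rw [Ideal.span_le]
      rintro _ ⟨f, hf, rfl⟩
      exact Ideal.pow_mem_of_mem _ hf _ (by omega)
    · intro f hf
      obtain ⟨m, y, hy⟩ := IsArtinian.exists_pow_succ_smul_dvd f (1 : A)
      rw [smul_eq_mul, smul_eq_mul, mul_one] at hy
      have hz : f * (1 - f * y) = 0 := by
        apply IsReduced.eq_zero
        refine ⟨m + 1, ?_⟩
        have : (f * (1 - f * y)) ^ (m + 1) = f * (f ^ m - f ^ (m + 1) * y) * (1 - f * y) ^ m := by
          rw [mul_pow, pow_succ (1 - f * y)]; ring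
        rw [this, hy, sub_self, mul_zero, zero_mul]
      have hf2 : f = f * f * y := by
        have : f * (1 - f * y) = f - f * f * y := by ring
        rw [this, sub_eq_zero] at hz
        exact hz
      have hpow : ∀ j : ℕ, f = f ^ (j + 1) * y ^ j := by
        intro j
        induction j with
        | zero => simp
        | succ j ih =>
          have : f ^ (j + 1 + 1) * y ^ (j + 1) = (f ^ (j + 1) * y ^ j) * (f * y) := by ring
          rw [this, ← ih]
          calc f = f * f * y := hf2
            _ = f * (f * y) := by ring
      have hfeq : f = f ^ p ^ n * y ^ (p ^ n - 1) := by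
        have := hpow (p ^ n - 1)
        rwa [Nat.sub_add_cancel (by omega)] at this
      rw [hfeq]
      exact Ideal.mul_mem_right _ _ (Ideal.subset_span ⟨f, hf, rfl⟩)

end Groth.Agent.S17327
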