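import Groth.Statements.S1733
import Mathlib
-- import your own Groth.Agent.* helpers here

set_option autoImplicit false
universe u
open LocCoh

namespace Groth.Agent.S1733

/-- Let f_1, …, f_r and g be elements of a ring (r ≥ 1). If the family f_1, …, f_{r-1}, f_r g is
independent (every linear relation has coefficients in the ideal the family generates), then f_1, …,
f_r is independent. -/
theorem result (A : Type u) [CommRing A] (r : ℕ) (f : Fin (r + 1) → A) (g : A) (h : Dual2.Independent (Function.update f (Fin.last r) (f (Fin.last r) * g))) : Dual2.Independent f := by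
  classical
  intro a ha
  -- abbreviations
  have hJ : Ideal.span (Set.range (Function.update f (Fin.last r) (f (Fin.last r) * g))) ≤
      Ideal.span (Set.range f) := by
    rw [Ideal.span_le]
    rintro _ ⟨i, rfl⟩
    by_cases hi : i = Fin.last r
    · subst hi
      rw [Function.update_self]
      exact Ideal.mul_mem_right _ _ (Ideal.subset_span ⟨_, rfl⟩)
    · rw [Function.update_of_ne hi]
      exact Ideal.subset_span ⟨_, rfl⟩
  have hfmem : ∀ i, f i ∈ Ideal.span (Set.range f) := fun i => Ideal.subset_span ⟨i, rfl⟩
  -- Step 1: a_last ∈ J'
  have h1 : a (Fin.last r) ∈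
      Ideal.span (Set.range (Function.update f (Fin.last r) (f (Fin.last r) * g))) := by
    have := h (fun i => if i = Fin.last r then a i else a i * g) ?_ (Fin.last r)
    · simpa using this
    · have : ∀ i, (if i = Fin.last r then a i else a i * g) *
          (Function.update f (Fin.last r) (f (Fin.last r) * g)) i = g * (a i * f i) := by
        intro i
        by_cases hi : i = Fin.last r
        · subst hi
          rw [if_pos rfl, Function.update_self]; ring
        · rw [if_neg hi, Function.update_of_ne hi]; ring
      simp_rw [this]
      rw [← Finset.mul_sum, ha, mul_zero]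
  obtain ⟨c, hc⟩ := (Ideal.mem_span_range_iff_exists_fun).mp h1
  -- Step 2
  have h2 := h (fun i => if i = Fin.last r then c i * f (Fin.last r) else a i + c i * f (Fin.last r)) ?_
  · intro i
    by_cases hi : i = Fin.last r
    · subst hi
      exact hJ h1
    · have := hJ (h2 i)
      simp only [if_neg hi] at this
      have h3 : c i * f (Fin.last r) ∈ Ideal.span (Set.range f) :=
        Ideal.mul_mem_left _ _ (hfmem _)
      have := Ideal.sub_mem _ this h3
      simpa using this
  · have : ∀ i, (if i = Fin.last r then c i * f (Fin.last r) else a i + c i * f (Fin.last r)) *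
        (Function.update f (Fin.last r) (f (Fin.last r) * g)) i =
        (if i = Fin.last r then 0 else a i * f i) +
          f (Fin.last r) * (c i * (Function.update f (Fin.last r) (f (Fin.last r) * g)) i) := by
      intro i
      by_cases hi : i = Fin.last r
      · subst hi
        rw [if_pos rfl, if_pos rfl, Function.update_self]; ring
      · rw [if_neg hi, if_neg hi, Function.update_of_ne hi]; ring
    simp_rw [this]
    rw [Finset.sum_add_distrib, ← Finset.mul_sum, hc]
    have h4 : ∑ i, (if i = Fin.last r then 0 else a i * f i) =
        ∑ i, a i * f i - a (Fin.last r) * f (Fin.last r) := by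
      rw [Fin.sum_univ_castSucc, Fin.sum_univ_castSucc (f := fun i => a i * f i)]
      simp [Fin.castSucc_ne_last]
    rw [h4, ha]
    ring

end Groth.Agent.S1733
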