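import Groth.Statements.S17332
import Mathlib.Tactic

set_option autoImplicit false
universe u v w
open CAlg

namespace Groth.Agent.S17332

theorem char_eval {k : Type u} [Field k] {F : Type w} [Finite F] (χ : (F → k) →ₐ[k] k) :
    ∃ f₀ : F, (∀ g : F → k, χ g = g f₀) ∧ ∀ f₁ : F, (∀ g : F → k, χ g = g f₁) → f₁ = f₀ := by
  classical
  have := Fintype.ofFinite F
  have hsum : ∑ f : F, χ (Pi.single f 1) = 1 := by
    rw [← map_sum, Finset.univ_sum_single]
    exact map_one χ
  have hex : ∃ f₀ : F, χ (Pi.single f₀ 1) ≠ 0 := by
    by_contra hcon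
    simp only [not_exists, not_not] at hcon
    rw [Finset.sum_eq_zero (fun f _ => hcon f)] at hsum
    exact zero_ne_one hsum
  obtain ⟨f₀, hf₀⟩ := hex
  have hne : ∀ f : F, f ≠ f₀ → χ (Pi.single f 1) = 0 := by
    intro f hf
    have h1 : (Pi.single f (1 : k) : F → k) * Pi.single f₀ 1 = 0 := by
      ext x
      simp only [Pi.mul_apply, Pi.single_apply, Pi.zero_apply]
      split_ifs with h1 h2
      · exact absurd (h1.symm.trans h2) hf
      all_goals simp
    have h2 := congrArg χ h1
    rw [map_mul, map_zero] at h2
    rcases mul_eq_zero.mp h2 with h | h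
    · exact h
    · exact absurd h hf₀
  have hone : χ (Pi.single f₀ 1) = 1 := by
    rw [Finset.sum_eq_single f₀ (fun f _ hf => hne f hf) (fun h => absurd (Finset.mem_univ _) h)] at hsum
    exact hsum
  have hg : ∀ g : F → k, χ g = g f₀ := by
    intro g
    have hdecomp : g = ∑ f : F, g f • (Pi.single f (1 : k) : F → k) := by
      ext x
      simp [Finset.sum_apply, Pi.single_apply]
    conv_lhs => rw [hdecomp]
    rw [map_sum]
    simp only [map_smul, smul_eq_mul]
    rw [Finset.sum_eq_single f₀]
    · rw [hone, mul_one]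
    · intro f _ hf
      rw [hne f hf, mul_zero]
    · intro h; exact absurd (Finset.mem_univ _) h
  refine ⟨f₀, hg, ?_⟩
  intro f₁ h₁
  have := h₁ (Pi.single f₀ 1)
  rw [hone] at this
  by_contra hcon
  rw [Pi.single_apply, if_neg hcon] at this
  exact one_ne_zero this

/-- Let k be a field, E and F finite sets, and O(E), O(F) the k-algebras of k-valued functions with
pointwise operations. Then every k-algebra homomorphism u : O(F) → O(E) is pull-back along a unique
map φ : E → F, i.e. u(g) = g ∘ φ for all g. (In the source k is algebraically closed; the printed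
argument only uses that k is a field.) -/
theorem result (k : Type u) [Field k] (E : Type v) [Finite E]
    (F : Type w) [Finite F] (u : (F → k) →ₐ[k] (E → k)) :
    ∃! φ : E → F, ∀ g : F → k, u g = g ∘ φ := by
  have key : ∀ e : E, ∃ f₀ : F, (∀ g : F → k, u g e = g f₀) ∧
      ∀ f₁ : F, (∀ g : F → k, u g e = g f₁) → f₁ = f₀ := by
    intro e
    exact char_eval ((Pi.evalAlgHom k (fun _ : E => k) e).comp u)
  choose φ hφ hφ' using key
  refine ⟨φ, ?_, ?_⟩
  · intro g
    funext e
    exact hφ e g
  · intro ψ hψ
    funext e
    apply hφ' e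
    intro g
    have := congrFun (hψ g) e
    simpa using this

end Groth.Agent.S17332
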