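import Groth.Statements.S17333
import Mathlib.LinearAlgebra.Prod

set_option autoImplicit false
universe u v w
open CAlg

namespace Groth.Agent.S17333

/-- Let k be a field and A = B × C a decomposable commutative k-algebra. Then the natural map Der(B) ×
Der(C) → Der(A) is bijective: every k-derivation D : A → A is (b, c) ↦ (D₁ b, D₂ c) for a unique
pair of k-derivations D₁ : B → B, D₂ : C → C. Compatibility with brackets is not stated. (The
published statement takes k algebraically closed; this row takes any field.) -/
theorem result (k : Type u) [Field k] (B : Type v) [CommRing B] [Algebra k B]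
    (C : Type w) [CommRing C] [Algebra k C] (D : Derivation k (B × C) (B × C)) :
    ∃! P : Derivation k B B × Derivation k C C, ∀ (b : B) (c : C), D (b, c) = (P.1 b, P.2 c) := by
  -- `D` kills the idempotent `(1, 0)`
  have hleib : ∀ x y : B × C, D (x * y) = x * D y + y * D x := fun x y => by
    have := D.leibniz x y
    simpa [smul_eq_mul] using this
  have he : D ((1, 0) : B × C) = 0 := by
    have h1 := hleib ((1, 0) : B × C) (1, 0)
    have hee : ((1, 0) : B × C) * (1, 0) = (1, 0) := by ext <;> simp
    rw [hee] at h1
    -- `De = 2 e De`, multiply by `e`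
    have h2 : ((1, 0) : B × C) * D (1, 0) = 0 := by
      have h3 := congrArg (fun t => ((1, 0) : B × C) * t) h1
      simp only [mul_add, ← mul_assoc, hee] at h3
      -- h3 : e * De = e * De + e * De
      exact (add_eq_left (a := ((1, 0) : B × C) * D (1, 0))).mp h3.symm
    rw [h1, h2, add_zero]
  have he' : D ((0, 1) : B × C) = 0 := by
    have h1 : ((0, 1) : B × C) = 1 - (1, 0) := by ext <;> simp
    rw [h1, map_sub, he, sub_zero]
    exact D.map_one_eq_zero
  have hB : ∀ b : B, (D ((b, 0) : B × C)).2 = 0 := by
    intro b
    have h1 : ((b, 0) : B × C) = (1, 0) * (b, 0) := by ext <;> simp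
    have h2 := hleib ((1, 0) : B × C) (b, 0)
    rw [← h1, he, mul_zero, add_zero] at h2
    have := congrArg Prod.snd h2
    simpa using this
  have hC : ∀ c : C, (D ((0, c) : B × C)).1 = 0 := by
    intro c
    have h1 : ((0, c) : B × C) = (0, 1) * (0, c) := by ext <;> simp
    have h2 := hleib ((0, 1) : B × C) (0, c)
    rw [← h1, he', mul_zero, add_zero] at h2
    have := congrArg Prod.fst h2
    simpa using this
  let P₁ : Derivation k B B := Derivation.mk'
    ((LinearMap.fst k B C) ∘ₗ D.toLinearMap ∘ₗ (LinearMap.inl k B C)) (by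
      intro a b
      have h := hleib ((a, 0) : B × C) (b, 0)
      have hab : ((a, 0) : B × C) * (b, 0) = (a * b, 0) := by ext <;> simp
      rw [hab] at h
      have := congrArg Prod.fst h
      simpa [smul_eq_mul] using this)
  let P₂ : Derivation k C C := Derivation.mk'
    ((LinearMap.snd k B C) ∘ₗ D.toLinearMap ∘ₗ (LinearMap.inr k B C)) (by
      intro a b
      have h := hleib ((0, a) : B × C) (0, b)
      have hab : ((0, a) : B × C) * (0, b) = (0, a * b) := by ext <;> simp
      rw [hab] at h
      have := congrArg Prod.snd h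
      simpa [smul_eq_mul] using this)
  have hP₁ : ∀ b : B, P₁ b = (D ((b, 0) : B × C)).1 := fun b => rfl
  have hP₂ : ∀ c : C, P₂ c = (D ((0, c) : B × C)).2 := fun c => rfl
  refine ⟨(P₁, P₂), ?_, ?_⟩
  · intro b c
    have hsplit : ((b, c) : B × C) = (b, 0) + (0, c) := by ext <;> simp
    rw [hsplit, map_add]
    ext
    · simp [hP₁, hC]
    · simp [hP₂, hB]
  · rintro ⟨Q₁, Q₂⟩ hQ
    have h1 : Q₁ = P₁ := by
      ext b
      have := congrArg Prod.fst (hQ b 0)
      rw [hP₁]
      exact this.symm
    have h2 : Q₂ = P₂ := by
      ext c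
      have := congrArg Prod.snd (hQ 0 c)
      rw [hP₂]
      exact this.symm
    rw [h1, h2]

end Groth.Agent.S17333
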