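import Groth.Statements.S17334
import Mathlib.RingTheory.Spectrum.Prime.Noetherian
import Mathlib.RingTheory.Spectrum.Prime.Topology
import Mathlib.RingTheory.Artinian.Module
import Mathlib.RingTheory.LocalRing.MaximalIdeal.Basic

set_option autoImplicit false
universe u v
open CAlg

namespace Groth.Agent.S17334

/-- Let k be a field and A a nonzero commutative k-algebra which is finite-dimensional as a k-vector
space. Then A is indecomposable (no decomposition as a product of two nonzero rings, i.e. no
idempotent other than 0 and 1) if and only if A is a local ring. (In the source k is algebraically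
closed and the lemma adds that the maximal ideal is then the nilradical, is nilpotent, and has
residue field k; the equivalence itself uses only that k is a field, and the zero algebra is
excluded here explicitly.) -/
theorem result (k : Type u) [Field k]
    (A : Type v) [CommRing A] [Algebra k A] [Module.Finite k A] [Nontrivial A] :
    (∀ e : A, IsIdempotentElem e → e = 0 ∨ e = 1) ↔ IsLocalRing A := by
  constructor
  · intro h
    haveI : IsArtinianRing A := IsArtinianRing.of_finite k A
    haveI : DiscreteTopology (PrimeSpectrum A) := inferInstance
    have hsub : Subsingleton (PrimeSpectrum A) := by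
      refine ⟨fun p q => ?_⟩
      have hcl : IsClopen ({p} : Set (PrimeSpectrum A)) := isClopen_discrete _
      obtain ⟨e, he, hpe⟩ := PrimeSpectrum.isClopen_iff.mp hcl
      rcases h e he with rfl | rfl
      · have : p ∈ ({p} : Set (PrimeSpectrum A)) := rfl
        rw [hpe] at this
        simp at this
      · have : q ∈ ({p} : Set (PrimeSpectrum A)) := by
          rw [hpe]; simp
        exact (Set.mem_singleton_iff.mp this).symm
    haveI : Subsingleton (MaximalSpectrum A) :=
      ⟨fun m n => MaximalSpectrum.toPrimeSpectrum_injective (Subsingleton.elim _ _)⟩
    exact IsLocalRing.of_singleton_maximalSpectrum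
  · intro hloc e he
    rcases IsLocalRing.isUnit_or_isUnit_one_sub_self e with h | h
    · right
      obtain ⟨u, rfl⟩ := h
      have h1 : (u : A) * u = u := he.eq
      have h2 : (↑u⁻¹ : A) * ((u : A) * u) = ↑u⁻¹ * u := by rw [h1]
      rwa [← mul_assoc, Units.inv_mul, one_mul] at h2
    · left
      obtain ⟨u, hu⟩ := h
      have h1 : (1 - e) * e = 0 := by rw [sub_mul, one_mul, he.eq, sub_self]
      rw [← hu] at h1
      exact (Units.mul_right_eq_zero u).mp h1

end Groth.Agent.S17334
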