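import Groth.Statements.S17337
import Mathlib
import Groth.Agent.Lib.Helper13.RPBW4
-- import your own Groth.Agent.* helpers here

set_option autoImplicit false
universe u v
open PLie

namespace Groth.Agent.S17337

/-- Let k be a field of characteristic p > 0 and (L, x ↦ x^[p]) a finite-dimensional restricted Lie
algebra over k. Then L is isomorphic to a restricted Lie subalgebra of gl_n(k) for some n: there is
an injective k-linear map e : L → M_n(k) with e[x, y] = e(x)e(y) − e(y)e(x) and e(x^[p]) = e(x)^p
for all x, y. (The published statement takes k algebraically closed; this row takes any field of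
characteristic p.) -/
theorem result (k : Type u) [Field k] (p : ℕ) [Fact p.Prime] [CharP k p]
    (L : Type v) [LieRing L] [LieAlgebra k L] [Module.Finite k L] (φ : PLie.PMap k p L) :
    ∃ (n : ℕ) (e : L →ₗ[k] Matrix (Fin n) (Fin n) k), PLie.IsPSubOfAssoc φ e := by
  classical
  let b := Module.finBasis k L
  let y : Fin (Module.finrank k L) → L := fun i => φ (b i)
  have hy : ∀ i, LieAlgebra.ad k L (b i) ^ p = LieAlgebra.ad k L (y i) :=
    fun i => (φ.ad_map (b i)).symm
  have hfin : Module.Finite k (Groth.Agent.Lib.helper13.RPBW.Vres b p y) :=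
    Groth.Agent.Lib.helper13.RPBW.finite_Vres b p y hy
  let bV := Module.finBasis k (Groth.Agent.Lib.helper13.RPBW.Vres b p y)
  let M := LinearMap.toMatrixAlgEquiv bV
  refine ⟨_, M.toLinearMap.comp (Groth.Agent.Lib.helper13.RPBW.eL b p y), ?_, ?_, ?_⟩
  · intro x z h
    have h' : M (Groth.Agent.Lib.helper13.RPBW.eL b p y x) =
        M (Groth.Agent.Lib.helper13.RPBW.eL b p y z) := h
    exact Groth.Agent.Lib.helper13.RPBW.eL_injective b p y hy (M.injective h')
  · intro x z
    change M (Groth.Agent.Lib.helper13.RPBW.eL b p y ⁅x, z⁆) =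
      M (Groth.Agent.Lib.helper13.RPBW.eL b p y x) * M (Groth.Agent.Lib.helper13.RPBW.eL b p y z) -
      M (Groth.Agent.Lib.helper13.RPBW.eL b p y z) * M (Groth.Agent.Lib.helper13.RPBW.eL b p y x)
    rw [Groth.Agent.Lib.helper13.RPBW.eL_lie, map_sub, map_mul, map_mul]
  · intro x
    change M (Groth.Agent.Lib.helper13.RPBW.eL b p y (φ x)) =
      M (Groth.Agent.Lib.helper13.RPBW.eL b p y x) ^ p
    rw [Groth.Agent.Lib.helper13.RPBW.eL_pmap b p y φ (fun i => rfl), map_pow]

end Groth.Agent.S17337
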