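import Groth.Statements.S17338
import Mathlib
import Groth.Agent.Lib.Helper13.HopfPrim
import Groth.Agent.Lib.Helper13.HopfDual2
-- import your own Groth.Agent.* helpers here

set_option autoImplicit false
universe u v
open Hopf

namespace Groth.Agent.S17338

/-- Let k be an algebraically closed field of characteristic p > 0 and (L, x ↦ x^[p]) a
finite-dimensional restricted Lie algebra over k. Then L is the Lie algebra of an infinitesimal
group scheme of height at most one: there are a commutative Hopf algebra A over k,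
finite-dimensional as a k-vector space, with f^p = 0 for every f in the augmentation ideal, and an
injective k-linear map e from L to the k-derivations of A whose image is exactly the set of
left-invariant derivations (those D with Δ ∘ D = (id ⊗ D) ∘ Δ), such that e takes brackets to
commutators of derivations and x^[p] to the p-th power of e(x) as an endomorphism of A. (The
assignment G ↦ Lie(G) is moreover fully faithful on height ≤ 1 groups; that half is not stated
here.) -/
theorem result (k : Type u) [Field k]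
    [IsAlgClosed k] (p : ℕ) [Fact p.Prime] [CharP k p]
    (L : Type u) [LieRing L] [LieAlgebra k L] [Module.Finite k L] (φ : PLie.PMap k p L) :
    ∃ (A : Type u) (_ : CommRing A) (_ : HopfAlgebra k A), Module.Finite k A ∧
      (∀ f : A, Bialgebra.counitAlgHom k A f = 0 → f ^ p = 0) ∧
      ∃ e : L →ₗ[k] Derivation k A A, Function.Injective e ∧
        Set.range e = {D : Derivation k A A | CoalgebraStruct.comul (R := k) (A := A) ∘ₗ D.toLinearMap =
          LinearMap.lTensor A D.toLinearMap ∘ₗ CoalgebraStruct.comul (R := k) (A := A)} ∧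
        (∀ x y : L, e ⁅x, y⁆ = ⁅e x, e y⁆) ∧
        (∀ x : L, (e (φ x)).toLinearMap = (e x).toLinearMap ^ p) := by
  classical
  let b : Module.Basis (Fin (Module.finrank k L)) k L := Module.finBasis k L
  have : Module.Finite k (Groth.Agent.Lib.helper13.HopfRes.uφ b p φ) :=
    Groth.Agent.Lib.helper13.HopfRes.finite_uφ b p φ
  let ρ : L →ₗ[k] Groth.Agent.Lib.helper13.HopfRes.uφ b p φ :=
    Groth.Agent.Lib.helper13.HopfRes.eu b p φ
  have hρ : ∀ a : L, Groth.Agent.Lib.helper13.HopfDual.IsPrim (k := k) (ρ a) :=
    fun a => Groth.Agent.Lib.helper13.HopfRes.comul_eu b p φ a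
  have hρ0 : ∀ a : L, CoalgebraStruct.counit (R := k) (ρ a) = 0 :=
    fun a => Groth.Agent.Lib.helper13.HopfRes.counit_eu b p φ a
  have hgen : Algebra.adjoin k (Set.range ρ) = ⊤ :=
    Groth.Agent.Lib.helper13.HopfRes.adjoin_eu b p φ
  have hinj : Function.Injective ρ := Groth.Agent.Lib.helper13.HopfRes.eu_injective b p φ
  have hlie : ∀ a c : L, ρ ⁅a, c⁆ = ρ a * ρ c - ρ c * ρ a :=
    Groth.Agent.Lib.helper13.HopfRes.eu_lie b p φ
  have hprim : ∀ v : Groth.Agent.Lib.helper13.HopfRes.uφ b p φ,
      Groth.Agent.Lib.helper13.HopfDual.IsPrim (k := k) v → ∃ a, ρ a = v :=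
    fun v hv => Groth.Agent.Lib.helper13.HopfRes.prim_mem_range_eu b p φ hv
  refine ⟨Groth.Agent.Lib.helper13.HopfDual.Dl k (Groth.Agent.Lib.helper13.HopfRes.uφ b p φ),
    inferInstance, inferInstance, Groth.Agent.Lib.helper13.HopfDual.finiteDl, ?_, ?_⟩
  · exact Groth.Agent.Lib.helper13.HopfDual.pow_p_eq_zero p ρ hρ hρ0 hgen
  · refine ⟨Groth.Agent.Lib.helper13.HopfDual.derL ρ hρ,
      Groth.Agent.Lib.helper13.HopfDual.derL_injective ρ hρ hinj,
      Groth.Agent.Lib.helper13.HopfDual.mem_range_derL_iff ρ hρ hprim,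
      Groth.Agent.Lib.helper13.HopfDual.derL_lie ρ hρ hlie, ?_⟩
    intro x
    exact Groth.Agent.Lib.helper13.HopfDual.derL_pmap ρ hρ p x (φ x)
      (Groth.Agent.Lib.helper13.HopfRes.eu_pmap b p φ x)

end Groth.Agent.S17338
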