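import Groth.Statements.S1734
import Mathlib
-- import your own Groth.Agent.* helpers here

set_option autoImplicit false
universe u
open LocCoh

namespace Groth.Agent.S1734


theorem key (A : Type u) [CommRing A] (J' J1 J2 : Ideal A) (x : A) (h1 : J' ≤ J1) (hx : x ∈ J1)
    (h2 : ∀ a ∈ J2, x * a ∈ J') (h3 : ∀ a ∈ J1, ∃ c, a - x * c ∈ J')
    (h4 : ∀ a, x * a ∈ J' → a ∈ J2) :
    Module.length A (A ⧸ J') = Module.length A (A ⧸ J1) + Module.length A (A ⧸ J2) := by
  have hφ : J2 ≤ Submodule.comap (LinearMap.mulLeft A x) J' := by
    intro a ha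
    simpa using h2 a ha
  have hψ : J' ≤ Submodule.comap (LinearMap.id : A →ₗ[A] A) J1 := by
    intro a ha
    simpa using h1 ha
  rw [Module.length_eq_add_of_exact (Submodule.mapQ J2 J' (LinearMap.mulLeft A x) hφ)
    (Submodule.mapQ J' J1 LinearMap.id hψ) ?_ ?_ ?_, add_comm]
  · -- injective
    rw [injective_iff_map_eq_zero]
    intro a ha
    obtain ⟨a, rfl⟩ := Submodule.Quotient.mk_surjective _ a
    rw [Submodule.mapQ_apply, Submodule.Quotient.mk_eq_zero] at ha
    rw [Submodule.Quotient.mk_eq_zero]
    exact h4 a (by simpa using ha)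
  · -- surjective
    intro a
    obtain ⟨a, rfl⟩ := Submodule.Quotient.mk_surjective _ a
    exact ⟨Submodule.Quotient.mk a, by simp⟩
  · -- exact
    intro a
    obtain ⟨a, rfl⟩ := Submodule.Quotient.mk_surjective _ a
    rw [Submodule.mapQ_apply, Submodule.Quotient.mk_eq_zero]
    constructor
    · intro ha
      obtain ⟨c, hc⟩ := h3 a (by simpa using ha)
      refine ⟨Submodule.Quotient.mk c, ?_⟩
      rw [Submodule.mapQ_apply, eq_comm, Submodule.Quotient.eq]
      simpa using hc
    · rintro ⟨c, hc⟩
      obtain ⟨c, rfl⟩ := Submodule.Quotient.mk_surjective _ c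
      rw [Submodule.mapQ_apply, eq_comm, Submodule.Quotient.eq] at hc
      have h5 : x * c ∈ J1 := Ideal.mul_mem_right _ _ hx
      have h6 : a - x * c ∈ J1 := h1 (by simpa using hc)
      have := J1.add_mem h6 h5
      simpa using this

/-- Let f_1, …, f_r, g be elements of a ring A (r ≥ 1) such that f_1, …, f_{r-1}, f_r g is independent
and A/(f_1, …, f_{r-1}, f_r g) has finite length. Then length A/(f_1, …, f_{r-1}, f_r g) = length
A/(f_1, …, f_r) + length A/(f_1, …, f_{r-1}, g). -/
theorem result (A : Type u) [CommRing A] (r : ℕ) (f : Fin (r + 1) → A) (g : A) (h : Dual2.Independent (Function.update f (Fin.last r) (f (Fin.last r) * g))) (hfin : IsFiniteLength A (A ⧸ Ideal.span (Set.range (Function.update f (Fin.last r) (f (Fin.last r) * g))))) : Module.length A (A ⧸ Ideal.span (Set.range (Function.update f (Fin.last r) (f (Fin.last r) * g)))) = Module.length A (A ⧸ Ideal.span (Set.range f)) + Module.length A (A ⧸ Ideal.span (Set.range (Function.update f (Fin.last r) g))) := by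
  classical
  have hne : ∀ i : Fin (r + 1), i ≠ Fin.last r → ∀ y : A, Function.update f (Fin.last r) y i = f i :=
    fun i hi y => Function.update_of_ne hi _ _
  apply key A _ _ _ (f (Fin.last r))
  · -- J' ≤ J1
    rw [Ideal.span_le]
    rintro _ ⟨i, rfl⟩
    by_cases hi : i = Fin.last r
    · subst hi
      rw [Function.update_self]
      exact Ideal.mul_mem_right _ _ (Ideal.subset_span ⟨_, rfl⟩)
    · rw [hne i hi]
      exact Ideal.subset_span ⟨_, rfl⟩
  · exact Ideal.subset_span ⟨_, rfl⟩
  · -- h2
    have : Ideal.span (Set.range (Function.update f (Fin.last r) g)) ≤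
        Submodule.comap (LinearMap.mulLeft A (f (Fin.last r)))
          (Ideal.span (Set.range (Function.update f (Fin.last r) (f (Fin.last r) * g)))) := by
      rw [Ideal.span_le]
      rintro _ ⟨i, rfl⟩
      simp only [Submodule.comap_coe, Set.mem_preimage, LinearMap.mulLeft_apply, SetLike.mem_coe]
      by_cases hi : i = Fin.last r
      · subst hi
        rw [Function.update_self]
        refine Ideal.subset_span ⟨Fin.last r, ?_⟩
        rw [Function.update_self]
      · rw [hne i hi]
        refine Ideal.mul_mem_left _ _ (Ideal.subset_span ⟨i, ?_⟩)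
        rw [hne i hi]
    intro a ha
    simpa using this ha
  · -- h3
    intro a ha
    obtain ⟨c, rfl⟩ := (Ideal.mem_span_range_iff_exists_fun).mp ha
    refine ⟨c (Fin.last r), ?_⟩
    rw [Ideal.mem_span_range_iff_exists_fun]
    refine ⟨fun i => if i = Fin.last r then 0 else c i, ?_⟩
    rw [Fin.sum_univ_castSucc, Fin.sum_univ_castSucc (f := fun i => c i * f i)]
    simp [Fin.castSucc_ne_last]
    ring
  · -- h4
    intro a ha
    obtain ⟨c, hc⟩ := (Ideal.mem_span_range_iff_exists_fun).mp ha
    have hJ2 : Ideal.span (Set.range (Function.update f (Fin.last r) (f (Fin.last r) * g))) ≤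
        Ideal.span (Set.range (Function.update f (Fin.last r) g)) := by
      rw [Ideal.span_le]
      rintro _ ⟨i, rfl⟩
      by_cases hi : i = Fin.last r
      · subst hi
        rw [Function.update_self]
        refine Ideal.mul_mem_left _ _ (Ideal.subset_span ⟨Fin.last r, ?_⟩)
        rw [Function.update_self]
      · rw [hne i hi]
        refine Ideal.subset_span ⟨i, ?_⟩
        rw [hne i hi]
    have h5 := h (fun i => if i = Fin.last r then c i * g - a else c i * g) ?_ (Fin.last r)
    · rw [if_pos rfl] at h5
      have h6 : c (Fin.last r) * g ∈ Ideal.span (Set.range (Function.update f (Fin.last r) g)) := by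
        refine Ideal.mul_mem_left _ _ (Ideal.subset_span ⟨Fin.last r, ?_⟩)
        rw [Function.update_self]
      have := Ideal.sub_mem _ h6 (hJ2 h5)
      simpa using this
    · have : ∀ i, (if i = Fin.last r then c i * g - a else c i * g) *
          (Function.update f (Fin.last r) (f (Fin.last r) * g)) i =
          g * (c i * (Function.update f (Fin.last r) (f (Fin.last r) * g)) i) -
            (if i = Fin.last r then a * f (Fin.last r) * g else 0) := by
        intro i
        by_cases hi : i = Fin.last r
        · subst hi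
          rw [if_pos rfl, if_pos rfl, Function.update_self]; ring
        · rw [if_neg hi, if_neg hi]; ring
      simp_rw [this]
      rw [Finset.sum_sub_distrib, ← Finset.mul_sum, hc]
      simp
      ring

end Groth.Agent.S1734
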