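import Groth.Statements.S1736
import Mathlib
import Groth.Agent.Lib.Helper19.LCBridge
import Groth.Agent.Lib.Helper19.LCZero
import Groth.Agent.Lib.Helper19.LCRes
import Groth.Agent.Lib.Helper19.LCGroth
import Groth.Agent.S11618

set_option autoImplicit false
universe u
open LocCoh

namespace Groth.Agent.S1736

-- MARK
section Aux
open CategoryTheory Groth.Agent.Lib.helper19.LCBridge Groth.Agent.Lib.helper19.LCRes
  Groth.Agent.Lib.helper19.LCZero

variable {A : Type u} [CommRing A]

/-- inverting an element of the Jacobson radical drops the dimension -/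
lemma ringKrullDim_away_lt (d : ℕ) (hd : ringKrullDim A = d) (f : A)
    (hf : f ∈ (⊥ : Ideal A).jacobson) :
    ringKrullDim (Localization (Submonoid.powers f)) < (d : WithBot ℕ∞) := by
  by_contra hcon
  rw [not_lt] at hcon
  obtain ⟨l, hl⟩ := Order.le_krullDim_iff.1 hcon
  have hsm : StrictMono (PrimeSpectrum.comap (algebraMap A (Localization (Submonoid.powers f)))) := by
    intro p q hpq
    refine lt_of_le_of_ne ?_ ?_
    · exact Ideal.comap_mono (le_of_lt hpq)
    · intro h
      exact (ne_of_lt hpq) (PrimeSpectrum.localization_comap_injective _ (Submonoid.powers f) h)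
  let l' : LTSeries (PrimeSpectrum A) := l.map _ hsm
  have hlast : f ∉ l'.last.asIdeal := by
    intro hmem
    have hu : IsUnit (algebraMap A (Localization (Submonoid.powers f)) f) :=
      IsLocalization.map_units _ (⟨f, Submonoid.mem_powers f⟩ : Submonoid.powers f)
    have hmem' : algebraMap A (Localization (Submonoid.powers f)) f ∈ l.last.asIdeal := hmem
    exact l.last.2.ne_top (Ideal.eq_top_of_isUnit_mem _ hmem' hu)
  obtain ⟨m, hm, hle⟩ := Ideal.exists_le_maximal l'.last.asIdeal l'.last.2.ne_top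
  have hfm : f ∈ m := Ideal.mem_sInf.1 hf ⟨bot_le, hm⟩
  have hlt : l'.last < (⟨m, hm.isPrime⟩ : PrimeSpectrum A) := by
    refine lt_of_le_of_ne hle (fun h => hlast ?_)
    rw [h]
    exact hfm
  have h1 := Order.LTSeries.length_le_krullDim (l'.snoc ⟨m, hm.isPrime⟩ hlt)
  rw [RelSeries.snoc_length] at h1
  have h2 : ((l'.length + 1 : ℕ) : WithBot ℕ∞) ≤ (d : WithBot ℕ∞) := by
    rw [← hd]
    exact h1
  have h3 : l'.length = d := hl
  rw [h3] at h2
  have h4 : d + 1 ≤ d := by exact_mod_cast h2
  lia

variable [IsNoetherianRing A]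

/-- top local cohomology is torsion for elements of the Jacobson radical -/
lemma H_pow_torsion (d : ℕ) (hd : ringKrullDim A = d) (a : Ideal A) (f : A)
    (hf : f ∈ (⊥ : Ideal A).jacobson) (M : Type u) [AddCommGroup M] [Module A M]
    (x : ((localCohomology a d).obj (ModuleCat.of A M) : ModuleCat.{u} A)) :
    ∃ N : ℕ, f ^ N • x = 0 := by
  have hsub : Subsingleton (LocalizedModule (Submonoid.powers f)
      ((localCohomology a d).obj (ModuleCat.of A M) : ModuleCat.{u} A)) := by
    obtain ⟨e⟩ := Groth.Agent.S11618.result A a (Submonoid.powers f) M d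
    have hv := Groth.Agent.Lib.helper19.LCGroth.vanish
      (a.map (algebraMap A (Localization (Submonoid.powers f))))
      (LocalizedModule (Submonoid.powers f) M) d
      (lt_of_le_of_lt (Module.supportDim_le_ringKrullDim _ _) (ringKrullDim_away_lt d hd f hf))
    exact e.toEquiv.subsingleton
  obtain ⟨r, hr, hrx⟩ := LocalizedModule.subsingleton_iff.1 hsub x
  obtain ⟨N, rfl⟩ := (Submonoid.mem_powers_iff _ _).1 hr
  exact ⟨N, hrx⟩

/-- if `H^{p+1}_{a+(b)}(M) = 0` and `H^{p+1}_a(M)` is `b`-power torsion then `H^{p+1}_a(M) = 0` -/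
theorem vanish_of_sup_span_of_tors (a : Ideal A) (b : A) (M : Type u) [AddCommGroup M] [Module A M]
    (p : ℕ)
    (h1 : Subsingleton ((localCohomology (a ⊔ Ideal.span {b}) (p + 1)).obj (ModuleCat.of A M) :
      ModuleCat.{u} A))
    (h2 : ∀ x : ((localCohomology a (p + 1)).obj (ModuleCat.of A M) : ModuleCat.{u} A),
      ∃ N : ℕ, b ^ N • x = 0) :
    Subsingleton ((localCohomology a (p + 1)).obj (ModuleCat.of A M) : ModuleCat.{u} A) := by
  apply H_subsingleton_of_coboundary a M p
  intro z hz hdz
  obtain ⟨e⟩ := H_equiv_res a M (p + 1)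
  let zc : ↥(coc a M (p + 1)) := ⟨z, ⟨hz, hdz⟩⟩
  obtain ⟨N, hN⟩ := h2 (e (Submodule.Quotient.mk zc))
  rw [← map_smul, ← Submodule.Quotient.mk_smul] at hN
  have hN' := (Submodule.Quotient.mk_eq_zero _).1 (e.injective (hN.trans (map_zero e).symm))
  rw [Submodule.mem_comap] at hN'
  obtain ⟨y', hy', hy'z⟩ := hN'
  have hy'z' : resD (ModuleCat.of A M) p y' = b ^ N • z := hy'z
  have hinj : Module.Injective A (DRing.torsionSub a (resX (ModuleCat.of A M) p)) :=
    torsionSub_injective a _ (resX_injective (ModuleCat.of A M) p)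
  obtain ⟨w, m, hw⟩ := exists_div_of_injective _ hinj b N
    (⟨y', hy'⟩ : DRing.torsionSub a (resX (ModuleCat.of A M) p))
  have hw' : b ^ m • (b ^ N • (w : resX (ModuleCat.of A M) p) - y') = 0 :=
    congrArg Subtype.val hw
  have hdw : resD (ModuleCat.of A M) p w.1 ∈ DRing.torsionSub a (resX (ModuleCat.of A M) (p + 1)) :=
    Groth.Agent.Lib.helper19.LCAcyclic.map_torsion a _ w.1 w.2
  have hz'a : z - resD (ModuleCat.of A M) p w.1 ∈
      DRing.torsionSub a (resX (ModuleCat.of A M) (p + 1)) := Submodule.sub_mem _ hz hdw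
  have hz'b : b ^ (m + N) • (z - resD (ModuleCat.of A M) p w.1) = 0 := by
    rw [pow_add, mul_smul, smul_sub, ← hy'z', ← map_smul (resD (ModuleCat.of A M) p) (b ^ N),
      ← map_sub, ← map_smul, ← neg_sub, smul_neg, hw', neg_zero, map_zero]
  have hz'ab : z - resD (ModuleCat.of A M) p w.1 ∈
      DRing.torsionSub (a ⊔ Ideal.span {b}) (resX (ModuleCat.of A M) (p + 1)) :=
    (mem_torsionSub_sup_span_iff a b _).2 ⟨hz'a, m + N, hz'b⟩
  have hdz' : resD (ModuleCat.of A M) (p + 1) (z - resD (ModuleCat.of A M) p w.1) = 0 := by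
    rw [map_sub, hdz, resD_comp, sub_zero]
  obtain ⟨u, hu, huz⟩ := cocycle_is_coboundary (a ⊔ Ideal.span {b}) M p h1 _ hz'ab hdz'
  have hua := ((mem_torsionSub_sup_span_iff a b u).1 hu).1
  refine ⟨w.1 + u, Submodule.add_mem _ w.2 hua, ?_⟩
  rw [map_add, huz, add_sub_cancel]

/-- descending induction on generators in the Jacobson radical -/
theorem top_vanish_descend (p : ℕ) (hd : ringKrullDim A = ((p + 1 : ℕ) : WithBot ℕ∞)) (I : Ideal A)
    (s : Finset A) :
    (∀ b ∈ s, b ∈ (⊥ : Ideal A).jacobson) →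
    (∀ (M : Type u) [AddCommGroup M] [Module A M],
      Subsingleton ((localCohomology (I ⊔ Ideal.span (s : Set A)) (p + 1)).obj (ModuleCat.of A M) :
        ModuleCat.{u} A)) →
    ∀ (M : Type u) [AddCommGroup M] [Module A M],
      Subsingleton ((localCohomology I (p + 1)).obj (ModuleCat.of A M) : ModuleCat.{u} A) := by
  classical
  induction s using Finset.induction_on with
  | empty =>
    intro _ h M _ _
    have h0 : I ⊔ Ideal.span ((∅ : Finset A) : Set A) = I := by
      rw [Finset.coe_empty, Ideal.span_empty, sup_bot_eq]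
    have := h M
    rw [h0] at this
    exact this
  | insert b t hb ih =>
    intro hs h
    have h0 : I ⊔ Ideal.span ((insert b t : Finset A) : Set A) =
        (I ⊔ Ideal.span (t : Set A)) ⊔ Ideal.span {b} := by
      rw [Finset.coe_insert, Ideal.span_insert, sup_comm (Ideal.span {b}), sup_assoc]
    refine ih (fun c hc => hs c (Finset.mem_insert_of_mem hc)) ?_
    intro M _ _
    apply vanish_of_sup_span_of_tors (I ⊔ Ideal.span (t : Set A)) b M p
    · have := h M
      rw [h0] at this
      exact this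
    · intro x
      exact H_pow_torsion (p + 1) hd _ b (hs b (Finset.mem_insert_self b t)) M x

end Aux



/-- Let A be a Noetherian ring of finite dimension d and I ⊆ I' ideals with I' contained in the Jacobson
radical of A. If cd(A, I') < d, i.e. H^i_{I'}(M) = 0 for all A-modules M and all i ≥ d, then also
cd(A, I) < d: H^i_I(M) = 0 for all A-modules M and all i ≥ d. -/
theorem result (A : Type u) [CommRing A] [IsNoetherianRing A] (d : ℕ) (hd : ringKrullDim A = d) (I I' : Ideal A) (hII' : I ≤ I') (hJ : I' ≤ (⊥ : Ideal A).jacobson) (h : ∀ (M : Type u) [AddCommGroup M] [Module A M] (i : ℕ), d ≤ i → Subsingleton (LocCoh.H I' i M)) (M : Type u) [AddCommGroup M] [Module A M] (i : ℕ) (hi : d ≤ i) : Subsingleton (LocCoh.H I i M) := by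
  rcases Nat.eq_zero_or_pos d with rfl | hdpos
  · -- dimension zero: the hypothesis forces the ring to be trivial
    have h0 := h (A ⧸ I') 0 le_rfl
    have hbij := Groth.Agent.Lib.helper19.LCZero.gammaToH_bijective I' (ModuleCat.of A (A ⧸ I'))
    have hsub : Subsingleton (DRing.torsionSub I' (A ⧸ I')) := hbij.1.subsingleton
    have h1mem : (Ideal.Quotient.mk I' 1 : A ⧸ I') ∈ DRing.torsionSub I' (A ⧸ I') := by
      refine ⟨1, fun a ha => ?_⟩
      rw [pow_one] at ha
      rw [← Ideal.Quotient.mk_eq_mk, ← Submodule.Quotient.mk_smul, smul_eq_mul, mul_one]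
      exact (Submodule.Quotient.mk_eq_zero _).2 ha
    have h10 : (⟨Ideal.Quotient.mk I' 1, h1mem⟩ : DRing.torsionSub I' (A ⧸ I')) = 0 :=
      hsub.elim _ _
    have h1I : (1 : A) ∈ I' := by
      have := congrArg Subtype.val h10
      exact Ideal.Quotient.eq_zero_iff_mem.1 this
    have hjac : (⊥ : Ideal A).jacobson = ⊤ := (Ideal.eq_top_iff_one _).2 (hJ h1I)
    have hbt : (⊥ : Ideal A) = ⊤ := Ideal.jacobson_eq_top_iff.1 hjac
    have hA : Subsingleton A := by
      refine ⟨fun x y => ?_⟩
      have hx : x ∈ (⊥ : Ideal A) := by rw [hbt]; trivial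
      have hy : y ∈ (⊥ : Ideal A) := by rw [hbt]; trivial
      rw [Ideal.mem_bot] at hx hy
      rw [hx, hy]
    exact Module.subsingleton A _
  · obtain ⟨p, rfl⟩ : ∃ p, d = p + 1 := ⟨d - 1, by lia⟩
    rcases Nat.lt_or_ge (p + 1) i with hlt | hge
    · apply Groth.Agent.Lib.helper19.LCGroth.vanish I M i
      refine lt_of_le_of_lt (Module.supportDim_le_ringKrullDim _ _) ?_
      rw [hd]
      exact_mod_cast hlt
    · obtain rfl : i = p + 1 := by lia
      obtain ⟨s, hs⟩ : ∃ s : Finset A, Ideal.span (s : Set A) = I' := IsNoetherian.noetherian I'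
      have hsup : I ⊔ Ideal.span (s : Set A) = I' := by
        rw [hs]
        exact sup_eq_right.2 hII'
      refine top_vanish_descend p hd I s ?_ ?_ M
      · intro b hb
        apply hJ
        rw [← hs]
        exact Ideal.subset_span hb
      · intro N _ _
        rw [hsup]
        exact h N (p + 1) le_rfl

end Groth.Agent.S1736
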