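import Groth.Statements.S17360
import Mathlib
import Groth.Prelude.Def_AzInv

set_option autoImplicit false
universe u
open scoped TensorProduct
open AzInv

namespace Groth.Agent.S17360

section helpers
open Matrix

/-- the 2×2 field lemma -/
theorem two_by_two {K : Type*} [Field K] (h2 : (2 : K) ≠ 0) (a b : Matrix (Fin 2) (Fin 2) K)
    (h12 : a * Matrix.single (0 : Fin 2) (1 : Fin 2) (1 : K) * b = a * (-(Matrix.single (0 : Fin 2) (1 : Fin 2) (1 : K))) * b)
    (h21 : a * Matrix.single (1 : Fin 2) (0 : Fin 2) (1 : K) * b = a * (-(Matrix.single (1 : Fin 2) (0 : Fin 2) (1 : K))) * b)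
    (h11 : a * Matrix.single (0 : Fin 2) (0 : Fin 2) (1 : K) * b = a * (Matrix.single (1 : Fin 2) (1 : Fin 2) (1 : K)) * b) :
    a = 0 ∨ b = 0 := by
  have e12 : ∀ i j : Fin 2, (a * Matrix.single (0 : Fin 2) (1 : Fin 2) (1 : K) * b) i j = (a * (-(Matrix.single (0 : Fin 2) (1 : Fin 2) (1 : K))) * b) i j :=
    fun i j => by rw [h12]
  have e21 : ∀ i j : Fin 2, (a * Matrix.single (1 : Fin 2) (0 : Fin 2) (1 : K) * b) i j = (a * (-(Matrix.single (1 : Fin 2) (0 : Fin 2) (1 : K))) * b) i j :=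
    fun i j => by rw [h21]
  have e11 : ∀ i j : Fin 2, (a * Matrix.single (0 : Fin 2) (0 : Fin 2) (1 : K) * b) i j = (a * ((Matrix.single (1 : Fin 2) (1 : Fin 2) (1 : K))) * b) i j :=
    fun i j => by rw [h11]
  simp only [Matrix.mul_apply, Fin.sum_univ_two, Matrix.single_apply, Matrix.neg_apply] at e12 e21 e11
  have a1 := e12 0 0
  have a2 := e12 0 1
  have a3 := e12 1 0
  have a4 := e12 1 1
  have b1 := e21 0 0
  have b2 := e21 0 1
  have b3 := e21 1 0
  have b4 := e21 1 1
  have c1 := e11 0 0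
  have c2 := e11 0 1
  have c3 := e11 1 0
  have c4 := e11 1 1
  simp at a1 a2 a3 a4 b1 b2 b3 b4 c1 c2 c3 c4
  have key : ∀ x : K, x = -x → x = 0 := fun x hx => by
    have : 2 * x = 0 := by linear_combination hx
    exact (mul_eq_zero.mp this).resolve_left h2
  have nz : ∀ x y : K, x * y = 0 → y ≠ 0 → x = 0 := fun x y h hy =>
    (mul_eq_zero.mp h).resolve_right hy
  replace a1 := key _ a1
  replace a2 := key _ a2
  replace a3 := key _ a3
  replace a4 := key _ a4
  replace b1 := key _ b1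
  replace b2 := key _ b2
  replace b3 := key _ b3
  replace b4 := key _ b4
  by_cases hb : b = 0
  · exact Or.inr hb
  left
  obtain ⟨k, l, hkl⟩ : ∃ k l, b k l ≠ 0 := by
    by_contra h
    push Not at h
    exact hb (by ext k l; exact h k l)
  have h00 : a 0 0 = 0 ∧ a 0 1 = 0 ∧ a 1 0 = 0 ∧ a 1 1 = 0 := by
    fin_cases k <;> fin_cases l
    · have x01 := nz _ _ b1 hkl
      have x11 := nz _ _ b3 hkl
      rw [x01, zero_mul] at c1
      rw [x11, zero_mul] at c3
      exact ⟨nz _ _ c1 hkl, x01, nz _ _ c3 hkl, x11⟩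
    · have x01 := nz _ _ b2 hkl
      have x11 := nz _ _ b4 hkl
      rw [x01, zero_mul] at c2
      rw [x11, zero_mul] at c4
      exact ⟨nz _ _ c2 hkl, x01, nz _ _ c4 hkl, x11⟩
    · have x00 := nz _ _ a1 hkl
      have x10 := nz _ _ a3 hkl
      rw [x00, zero_mul] at c1
      rw [x10, zero_mul] at c3
      exact ⟨x00, nz _ _ c1.symm hkl, x10, nz _ _ c3.symm hkl⟩
    · have x00 := nz _ _ a2 hkl
      have x10 := nz _ _ a4 hkl
      rw [x00, zero_mul] at c2
      rw [x10, zero_mul] at c4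
      exact ⟨x00, nz _ _ c2.symm hkl, x10, nz _ _ c4.symm hkl⟩
  ext i j
  fin_cases i <;> fin_cases j
  · exact h00.1
  · exact h00.2.1
  · exact h00.2.2.1
  · exact h00.2.2.2

theorem entry {ι A : Type*} [Fintype ι] [DecidableEq ι] [Ring A] (E : Matrix ι ι A) (i k l : ι) (q : A) :
    (E * Matrix.single i i q * E) k l = E k i * q * E i l := by
  rw [Matrix.mul_apply]
  rw [Finset.sum_eq_single i]
  · rw [Matrix.mul_single_apply_same]
  · intro b _ hb
    rw [Matrix.mul_single_apply_of_ne _ _ _ _ _ hb, zero_mul]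
  · intro h; exact absurd (Finset.mem_univ i) h

/-- the block field lemma -/
theorem block_zero {K : Type*} [Field K] (h2 : (2 : K) ≠ 0) {m : ℕ}
    (E : Matrix (Fin m) (Fin m) (Matrix (Fin 2) (Fin 2) K)) (hid : E * E = E)
    (h12 : ∀ i, E * Matrix.single i i (Matrix.single (0 : Fin 2) (1 : Fin 2) (1 : K)) * E
      = E * Matrix.single i i (-(Matrix.single (0 : Fin 2) (1 : Fin 2) (1 : K))) * E)
    (h21 : ∀ i, E * Matrix.single i i (Matrix.single (1 : Fin 2) (0 : Fin 2) (1 : K)) * E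
      = E * Matrix.single i i (-(Matrix.single (1 : Fin 2) (0 : Fin 2) (1 : K))) * E)
    (h11 : ∀ i, E * Matrix.single i i (Matrix.single (0 : Fin 2) (0 : Fin 2) (1 : K)) * E
      = E * Matrix.single i i ((Matrix.single (1 : Fin 2) (1 : Fin 2) (1 : K))) * E) :
    E = 0 := by
  have key : ∀ i k l, E k i = 0 ∨ E i l = 0 := by
    intro i k l
    apply two_by_two h2
    · have := congrFun (congrFun (h12 i) k) l
      rwa [entry, entry] at this
    · have := congrFun (congrFun (h21 i) k) l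
      rwa [entry, entry] at this
    · have := congrFun (congrFun (h11 i) k) l
      rwa [entry, entry] at this
  rw [← hid]
  refine Matrix.ext fun k l => ?_
  rw [Matrix.mul_apply]
  rw [Matrix.zero_apply]
  apply Finset.sum_eq_zero
  intro i _
  rcases key i k l with h | h
  · rw [h, zero_mul]
  · rw [h, mul_zero]

section phi
variable (R : Type u) [CommRing R] (S' : Type u) [CommRing S'] [Algebra R S'] (K : Type u) [CommRing K]
  [Algebra S' K] [Algebra R K] [IsScalarTower R S' K] (m : ℕ)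

/-- evaluation into block matrices over `K` -/
noncomputable def phi : S' ⊗[R] Matrix (Fin m) (Fin m) (Matrix (Fin 2) (Fin 2) R) →ₐ[R]
    Matrix (Fin m) (Fin m) (Matrix (Fin 2) (Fin 2) K) :=
  Algebra.TensorProduct.lift
    ((Algebra.ofId S' (Matrix (Fin m) (Fin m) (Matrix (Fin 2) (Fin 2) K))).restrictScalars R)
    (AlgHom.mapMatrix (AlgHom.mapMatrix (Algebra.ofId R K)))
    (fun x _ => Algebra.commutes x _)

theorem phi_one_tmul (a : Matrix (Fin m) (Fin m) (Matrix (Fin 2) (Fin 2) R)) :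
    phi R S' K m (1 ⊗ₜ a) = a.map (fun q => q.map (algebraMap R K)) := by
  unfold phi
  rw [Algebra.TensorProduct.lift_tmul]
  simp
  rfl

end phi

section symp
variable {R : Type u} [CommRing R]
  (hlam : ∀ r : R, (AlgEquiv.refl : R ≃ₐ[R] R) ((AlgEquiv.refl : R ≃ₐ[R] R) r) = r)
  (J : (Matrix (Fin 2) (Fin 2) R)ˣ) (hJ : (↑J : Matrix (Fin 2) (Fin 2) R) = Matrix.of ![![0, -1], ![1, 0]])
  (hJt : AzInv.LamInv.transpose (AlgEquiv.refl : R ≃ₐ[R] R) (Fin 2) hlam (↑J : Matrix (Fin 2) (Fin 2) R) = (-1 : R) • (↑J : Matrix (Fin 2) (Fin 2) R))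
  (hneg : (AlgEquiv.refl : R ≃ₐ[R] R) (-1) * (-1) = 1)

include hJ in
theorem Jinv : (↑J⁻¹ : Matrix (Fin 2) (Fin 2) R) = !![0, 1; -1, 0] := by
  apply Units.inv_eq_of_mul_eq_one_right
  rw [hJ]
  ext i j
  fin_cases i <;> fin_cases j <;> simp [Matrix.mul_apply, Fin.sum_univ_two]

include hJ in
theorem sig_apply (q : Matrix (Fin 2) (Fin 2) R) :
    ((AzInv.LamInv.transpose (AlgEquiv.refl : R ≃ₐ[R] R) (Fin 2) hlam).conj J (-1) hJt hneg) q
      = !![q 1 1, -q 0 1; -q 1 0, q 0 0] := by
  have ht : (AzInv.LamInv.transpose (AlgEquiv.refl : R ≃ₐ[R] R) (Fin 2) hlam) q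
      = !![q 0 0, q 1 0; q 0 1, q 1 1] := by
    ext i j
    fin_cases i <;> fin_cases j <;> rfl
  rw [LamInv.conj_apply, Jinv J hJ, hJ, ht]
  ext i j
  fin_cases i <;> fin_cases j <;> simp [Matrix.mul_apply, Fin.sum_univ_two]

end symp

section orth
variable {R : Type u} [CommRing R]
  (hlam : ∀ r : R, (AlgEquiv.refl : R ≃ₐ[R] R) ((AlgEquiv.refl : R ≃ₐ[R] R) r) = r)
  (S' : Type u) [CommRing S'] [Algebra R S'] {n : ℕ} (i₀ : Fin n)

theorem orth_cond (x : S' ⊗[R] Matrix (Fin n) (Fin n) R) :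
    ((1 : S') ⊗ₜ[R] (Matrix.single i₀ i₀ (1 : R))) *
      ((AzInv.LamInv.self (AlgEquiv.refl : R ≃ₐ[R] R) hlam).matrix (Fin n)).bc R
        (AlgEquiv.refl : R ≃ₐ[R] R) S' x * ((1 : S') ⊗ₜ[R] (Matrix.single i₀ i₀ (1 : R)))
    = ((1 : S') ⊗ₜ[R] (Matrix.single i₀ i₀ (1 : R))) * x *
        ((1 : S') ⊗ₜ[R] (Matrix.single i₀ i₀ (1 : R))) := by
  induction x using TensorProduct.induction_on with
  | zero => simp
  | add x y hx hy => rw [map_add, mul_add, add_mul, hx, hy, mul_add, add_mul]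
  | tmul s a =>
    rw [LamInv.bc_tmul, Algebra.TensorProduct.tmul_mul_tmul, Algebra.TensorProduct.tmul_mul_tmul,
      Algebra.TensorProduct.tmul_mul_tmul, Algebra.TensorProduct.tmul_mul_tmul,
      Matrix.single_mul_mul_single, Matrix.single_mul_mul_single, LamInv.matrix_apply,
      LamInv.self_apply]
    rfl

theorem orth_gen {C : Type*} [Ring C] (Φ : S' ⊗[R] Matrix (Fin n) (Fin n) R →+* C)
    (h : Φ ((1 : S') ⊗ₜ[R] (Matrix.single i₀ i₀ (1 : R))) = 0) : (1 : C) = 0 := by
  have h1 : (1 : S' ⊗[R] Matrix (Fin n) (Fin n) R)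
      = ∑ i : Fin n, ((1 : S') ⊗ₜ[R] (Matrix.single i i₀ (1 : R))) *
          ((1 : S') ⊗ₜ[R] (Matrix.single i₀ i₀ (1 : R))) *
          ((1 : S') ⊗ₜ[R] (Matrix.single i₀ i (1 : R))) := by
    simp only [Algebra.TensorProduct.tmul_mul_tmul, mul_one, Matrix.single_mul_mul_single]
    rw [← TensorProduct.tmul_sum]
    simp only [Matrix.single_apply_same, mul_one]
    rw [Matrix.sum_single_one, Algebra.TensorProduct.one_def]
  rw [← map_one Φ, h1, map_sum]
  apply Finset.sum_eq_zero
  intro i _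
  rw [map_mul, map_mul, h, mul_zero, zero_mul]

end orth

theorem matrix_single {R A : Type*} [CommRing R] [Ring A] [Algebra R A] {lam : R → R}
    (t : LamInv R A lam) {m : ℕ} (i : Fin m) (q : A) :
    t.matrix (Fin m) (Matrix.single i i q) = Matrix.single i i (t q) := by
  refine Matrix.ext fun k l => ?_
  rw [LamInv.matrix_apply, Matrix.single_apply, Matrix.single_apply]
  by_cases h : i = l ∧ i = k
  · rw [if_pos h, if_pos ⟨h.2, h.1⟩]
  · rw [if_neg h, if_neg (fun h' => h ⟨h'.2, h'.1⟩), LamInv.map_zero]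

theorem map_single_single {R K : Type*} [CommRing R] [CommRing K] (g : R →+* K) {m : ℕ} (i : Fin m)
    (a b : Fin 2) :
    (Matrix.single i i (Matrix.single a b (1 : R))).map (fun q => q.map g)
      = Matrix.single i i (Matrix.single a b (1 : K)) := by
  refine Matrix.ext fun k l => ?_
  rw [Matrix.map_apply, Matrix.single_apply, Matrix.single_apply]
  split_ifs
  · rw [Matrix.map_single, map_one]
  · exact Matrix.map_zero _ (map_zero g)

theorem map_single_neg_single {R K : Type*} [CommRing R] [CommRing K] (g : R →+* K) {m : ℕ} (i : Fin m)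
    (a b : Fin 2) :
    (Matrix.single i i (-(Matrix.single a b (1 : R)))).map (fun q => q.map g)
      = Matrix.single i i (-(Matrix.single a b (1 : K))) := by
  refine Matrix.ext fun k l => ?_
  rw [Matrix.map_apply, Matrix.single_apply, Matrix.single_apply]
  split_ifs
  · rw [Matrix.single_neg, Matrix.single_neg, Matrix.map_single, map_neg, map_one]
  · exact Matrix.map_zero _ (map_zero g)


end helpers

/-- Let `R` be a nontrivial commutative ring in which `2` is a unit, with the trivial involution. This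
row states the second half of the count of types: the identity of `R` (the orthogonal type) and the
standard symplectic involution `x ↦ J xᵀ J⁻¹` of the `2 × 2` matrix algebra, `J` the matrix with
rows `(0, -1)` and `(1, 0)`, do not have the same type, i.e. for no positive sizes do the matrix
algebras over `R` with the transpose and over `M_2(R)` with the involution induced by the symplectic
one become isomorphic as `R`-algebras with involution after an etale faithfully flat base change of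
`R`. (The source states that the monoid of types is isomorphic to the group of global square roots
of `1`, for a locally ringed topos with trivial involution and `2` invertible; the row is the affine
case.) -/
theorem result (R : Type u) [CommRing R] (hlam : ∀ r : R, (AlgEquiv.refl : R ≃ₐ[R] R) ((AlgEquiv.refl : R ≃ₐ[R] R) r) = r)
    [Nontrivial R] (h2 : IsUnit (2 : R))
    (J : (Matrix (Fin 2) (Fin 2) R)ˣ) (hJ : (↑J : Matrix (Fin 2) (Fin 2) R) = Matrix.of ![![0, -1], ![1, 0]])
    (hJt : AzInv.LamInv.transpose (AlgEquiv.refl : R ≃ₐ[R] R) (Fin 2) hlam (↑J : Matrix (Fin 2) (Fin 2) R) = (-1 : R) • (↑J : Matrix (Fin 2) (Fin 2) R))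
    (hneg : (AlgEquiv.refl : R ≃ₐ[R] R) (-1) * (-1) = 1) :
    ¬ AzInv.SameType R (AlgEquiv.refl : R ≃ₐ[R] R) (AzInv.LamInv.self (AlgEquiv.refl : R ≃ₐ[R] R) hlam) ((AzInv.LamInv.transpose (AlgEquiv.refl : R ≃ₐ[R] R) (Fin 2) hlam).conj J (-1) hJt hneg) := by
  rintro ⟨n, m, hn, hm, S', _, _, _, hff, f, -, hf⟩
  have hS' : Nontrivial S' := by
    obtain ⟨p, hp⟩ := Ideal.exists_maximal R
    by_contra hnt
    rw [not_nontrivial_iff_subsingleton] at hnt
    exact hff.submodule_ne_top hp (Subsingleton.elim _ _)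
  obtain ⟨𝔪, h𝔪⟩ := Ideal.exists_maximal S'
  let _ : Field (S' ⧸ 𝔪) := Ideal.Quotient.field 𝔪
  have h2K : (2 : S' ⧸ 𝔪) ≠ 0 := by
    have := h2.map (algebraMap R (S' ⧸ 𝔪))
    rw [map_ofNat] at this
    exact this.ne_zero
  have : Nonempty (Fin m) := ⟨⟨0, hm⟩⟩
  set i₀ : Fin n := ⟨0, hn⟩ with hi₀
  set e : S' ⊗[R] Matrix (Fin n) (Fin n) R := (1 : S') ⊗ₜ[R] (Matrix.single i₀ i₀ (1 : R)) with he
  set φ := phi R S' (S' ⧸ 𝔪) m with hφ
  set E := φ (f e) with hE
  -- idempotent
  have hid : E * E = E := by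
    rw [hE, ← map_mul, ← map_mul, he, Algebra.TensorProduct.tmul_mul_tmul, mul_one,
      Matrix.single_mul_single_same, mul_one]
  -- the condition
  have hcond : ∀ a : Matrix (Fin m) (Fin m) (Matrix (Fin 2) (Fin 2) R),
      E * (a.map (fun q => q.map (algebraMap R (S' ⧸ 𝔪)))) * E
        = E * ((((AzInv.LamInv.transpose (AlgEquiv.refl : R ≃ₐ[R] R) (Fin 2) hlam).conj J (-1)
            hJt hneg).matrix (Fin m) a).map (fun q => q.map (algebraMap R (S' ⧸ 𝔪)))) * E := by
    intro a
    rw [← phi_one_tmul R S' (S' ⧸ 𝔪) m, ← phi_one_tmul R S' (S' ⧸ 𝔪) m, ← LamInv.bc_tmul R (AlgEquiv.refl : R ≃ₐ[R] R) S']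
    obtain ⟨x, hx⟩ := f.surjective ((1 : S') ⊗ₜ[R] a)
    rw [← hx, ← hf, hE, ← hφ, ← map_mul, ← map_mul, ← map_mul, ← map_mul, ← map_mul, ← map_mul,
      ← map_mul, ← map_mul, he, orth_cond]
  have s12 : ((AzInv.LamInv.transpose (AlgEquiv.refl : R ≃ₐ[R] R) (Fin 2) hlam).conj J (-1)
      hJt hneg) (Matrix.single (0 : Fin 2) (1 : Fin 2) (1 : R))
      = -(Matrix.single (0 : Fin 2) (1 : Fin 2) (1 : R)) := by
    rw [sig_apply hlam J hJ hJt hneg]
    ext i j
    fin_cases i <;> fin_cases j <;> simp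
  have s21 : ((AzInv.LamInv.transpose (AlgEquiv.refl : R ≃ₐ[R] R) (Fin 2) hlam).conj J (-1)
      hJt hneg) (Matrix.single (1 : Fin 2) (0 : Fin 2) (1 : R))
      = -(Matrix.single (1 : Fin 2) (0 : Fin 2) (1 : R)) := by
    rw [sig_apply hlam J hJ hJt hneg]
    ext i j
    fin_cases i <;> fin_cases j <;> simp
  have s11 : ((AzInv.LamInv.transpose (AlgEquiv.refl : R ≃ₐ[R] R) (Fin 2) hlam).conj J (-1)
      hJt hneg) (Matrix.single (0 : Fin 2) (0 : Fin 2) (1 : R))
      = (Matrix.single (1 : Fin 2) (1 : Fin 2) (1 : R)) := by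
    rw [sig_apply hlam J hJ hJt hneg]
    ext i j
    fin_cases i <;> fin_cases j <;> simp
  have hE0 : E = 0 := by
    apply block_zero h2K E hid
    · intro i
      have := hcond (Matrix.single i i (Matrix.single (0 : Fin 2) (1 : Fin 2) (1 : R)))
      rwa [matrix_single, s12, map_single_single, map_single_neg_single] at this
    · intro i
      have := hcond (Matrix.single i i (Matrix.single (1 : Fin 2) (0 : Fin 2) (1 : R)))
      rwa [matrix_single, s21, map_single_single, map_single_neg_single] at this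
    · intro i
      have := hcond (Matrix.single i i (Matrix.single (0 : Fin 2) (0 : Fin 2) (1 : R)))
      rwa [matrix_single, s11, map_single_single, map_single_single] at this
  have h10 : (1 : Matrix (Fin m) (Fin m) (Matrix (Fin 2) (Fin 2) (S' ⧸ 𝔪))) = 0 :=
    orth_gen S' i₀ (φ.toRingHom.comp f.toAlgHom.toRingHom) hE0
  exact one_ne_zero h10

end Groth.Agent.S17360
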