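import Groth.Statements.S17363
import Mathlib

set_option autoImplicit false
universe u v
open scoped TensorProduct
open RInv

namespace Groth.Agent.S17363

theorem core {C : Type*} [CommRing C] {F : Type*} [FunLike F C C] [RingHomClass F C C] (Λ : F)
    (H : Matrix (Fin 2) (Fin 2) C)
    (a b0 b1 d σ g e half : C)
    (H00 : H 0 0 = a) (H01 : H 0 1 = b0 + b1) (H10 : H 1 0 = -(b0 - b1)) (H11 : H 1 1 = d)
    (La : Λ a = -a) (Ld : Λ d = -d) (Lb1 : Λ b1 = -b1) (Lσ : Λ σ = σ)
    (Lg : Λ g = g) (Le : Λ e = e) (Lhalf : Λ half = half)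
    (hσ : σ ^ 2 = b0 ^ 2 + a * d) (hg : g * (b0 + σ) = 1) (he : e * (σ ^ 2 - b1 ^ 2) = 1)
    (hhalf : 2 * half = 1) :
    ∃ v : Matrix (Fin 2) (Fin 2) C, IsUnit v ∧
      (v.map Λ).transpose * H * v = !![0, 1; -1, 0] := by
  obtain ⟨w, hw⟩ : ∃ w, w = -a * g := ⟨_, rfl⟩
  obtain ⟨u, hu⟩ : ∃ u, u = (σ - b1) * e := ⟨_, rfl⟩
  obtain ⟨u', hu'⟩ : ∃ u', u' = (σ + b1) * e := ⟨_, rfl⟩
  obtain ⟨z, hz⟩ : ∃ z, z = d * u * u' * half := ⟨_, rfl⟩
  have Lw : Λ w = -w := by rw [hw, map_mul, map_neg, La, Lg]; ring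
  have Lu : Λ u = u' := by rw [hu, hu', map_mul, map_sub, Lσ, Lb1, Le]; ring
  have Lu' : Λ u' = u := by rw [hu, hu', map_mul, map_add, Lσ, Lb1, Le]; ring
  have Lz : Λ z = -z := by rw [hz, map_mul, map_mul, map_mul, Ld, Lu, Lu', Lhalf]; ring
  have k1 : a + 2 * w * b0 - w ^ 2 * d = 0 := by
    rw [hw]; linear_combination (a * g ^ 2) * hσ + (a * (2 * g * b0 - g * (b0 + σ) - 1)) * hg
  have k2 : b0 + b1 - w * d = σ + b1 := by
    rw [hw]; linear_combination (-g) * hσ - (b0 - σ) * hg
  have k3 : b0 - b1 - w * d = σ - b1 := by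
    rw [hw]; linear_combination (-g) * hσ - (b0 - σ) * hg
  have k4 : u * (σ + b1) = 1 := by rw [hu]; linear_combination he
  have k5 : u' * (σ - b1) = 1 := by rw [hu']; linear_combination he
  have k6 : 2 * z = d * u * u' := by rw [hz]; linear_combination (d * u * u') * hhalf
  refine ⟨!![1, z; w, u + z * w], ?_, ?_⟩
  · rw [Matrix.isUnit_iff_isUnit_det, Matrix.det_fin_two_of]
    have : (1 : C) * (u + z * w) - z * w = u := by ring
    rw [this]
    exact IsUnit.of_mul_eq_one _ k4
  · ext i j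
    fin_cases i <;> fin_cases j
    · simp [Matrix.mul_apply, Fin.sum_univ_two, H00, H01, H10, H11, Lw]
      linear_combination k1
    · simp [Matrix.mul_apply, Fin.sum_univ_two, H00, H01, H10, H11, Lw]
      linear_combination z * k1 + u * k2 + k4
    · simp [Matrix.mul_apply, Fin.sum_univ_two, H00, H01, H10, H11, Lw, Lz, Lu]
      linear_combination (-z) * k1 - u' * k3 - k5
    · simp [Matrix.mul_apply, Fin.sum_univ_two, H00, H01, H10, H11, Lw, Lz, Lu]
      linear_combination (-z ^ 2) * k1 - z * u * k2 - z * u' * k3 - z * k4 - z * k5 - k6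

theorem lam_inv_fixed {B : Type u} {A : Type v} [CommRing B] [CommRing A] [Algebra B A]
    (lam : A ≃ₐ[B] A) {x y : A} (hxy : x * y = 1) (hx : lam x = x) : lam y = y := by
  have h1 : x * lam y = 1 := by
    have := congrArg lam hxy
    rwa [map_mul, map_one, hx] at this
  calc lam y = (x * y) * lam y := by rw [hxy, one_mul]
    _ = (x * lam y) * y := by ring
    _ = y := by rw [h1, one_mul]

theorem unit_of_fixed {B : Type u} {A : Type v} [CommRing B] [CommRing A] [Algebra B A]
    (lam : A ≃ₐ[B] A) (hB : RInv.IsFixedRing B A lam.toRingEquiv) (x : B)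
    (hx : IsUnit (algebraMap B A x)) : IsUnit x := by
  obtain ⟨y, hy⟩ := hx.exists_right_inv
  have hly : lam y = y := lam_inv_fixed lam hy (lam.commutes x)
  obtain ⟨y0, hy0⟩ := (hB.2 y).1 hly
  refine IsUnit.of_mul_eq_one y0 (hB.1 ?_)
  rw [map_mul, hy0, hy, map_one]

theorem piece {B : Type u} {A : Type v} [CommRing B] [CommRing A] [Algebra B A] (lam : A ≃ₐ[B] A)
    {Q : Type u} [CommRing Q] [Algebra B Q]
    (h : Matrix (Fin 2) (Fin 2) A) (a b0 b1 d eA half : A) (sB β : B)
    (H00 : h 0 0 = a) (H01 : h 0 1 = b0 + b1) (H10 : h 1 0 = -(b0 - b1)) (H11 : h 1 1 = d)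
    (La : lam a = -a) (Ld : lam d = -d) (Lb1 : lam b1 = -b1)
    (LeA : lam eA = eA) (Lhalf : lam half = half)
    (hsB : algebraMap B A sB = b0 ^ 2 + a * d) (hβ : algebraMap B A β = b0)
    (heA : eA * (b0 ^ 2 + a * d - b1 ^ 2) = 1) (hhalf : 2 * half = 1)
    (f0 sg : Q) (hsg : sg ^ 2 = algebraMap B Q sB) (hf0 : f0 = algebraMap B Q β + sg) :
    ∃ v : Matrix (Fin 2) (Fin 2) (Localization.Away f0 ⊗[B] A), IsUnit v ∧
      (v.map (Algebra.TensorProduct.congr (AlgEquiv.refl : Localization.Away f0 ≃ₐ[Localization.Away f0] Localization.Away f0) lam)).transpose * h.map (Algebra.TensorProduct.includeRight : A →ₐ[B] Localization.Away f0 ⊗[B] A) * v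
        = (Matrix.of ![![(0 : A), 1], ![-1, 0]]).map (Algebra.TensorProduct.includeRight : A →ₐ[B] Localization.Away f0 ⊗[B] A) := by
  have Lι : ∀ x : A, (Algebra.TensorProduct.congr (AlgEquiv.refl : Localization.Away f0 ≃ₐ[Localization.Away f0] Localization.Away f0) lam)
      ((Algebra.TensorProduct.includeRight : A →ₐ[B] Localization.Away f0 ⊗[B] A) x)
      = (Algebra.TensorProduct.includeRight : A →ₐ[B] Localization.Away f0 ⊗[B] A) (lam x) := by
    intro x; simp
  have Lκ : ∀ l : Localization.Away f0, (Algebra.TensorProduct.congr (AlgEquiv.refl : Localization.Away f0 ≃ₐ[Localization.Away f0] Localization.Away f0) lam)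
      (algebraMap (Localization.Away f0) (Localization.Away f0 ⊗[B] A) l) = algebraMap (Localization.Away f0) (Localization.Away f0 ⊗[B] A) l :=
    fun l => AlgEquiv.commutes _ l
  have key1 : ∀ x : B, (Algebra.TensorProduct.includeRight : A →ₐ[B] Localization.Away f0 ⊗[B] A) (algebraMap B A x)
      = algebraMap (Localization.Away f0) (Localization.Away f0 ⊗[B] A) (algebraMap Q (Localization.Away f0) (algebraMap B Q x)) := by
    intro x
    rw [AlgHom.commutes, ← IsScalarTower.algebraMap_apply B Q (Localization.Away f0),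
      ← IsScalarTower.algebraMap_apply B (Localization.Away f0) (Localization.Away f0 ⊗[B] A)]
  obtain ⟨ι, hι⟩ : ∃ ι : A →ₐ[B] Localization.Away f0 ⊗[B] A, ι = Algebra.TensorProduct.includeRight := ⟨_, rfl⟩
  rw [← hι] at Lι key1 ⊢
  obtain ⟨σ, hσdef⟩ : ∃ σ : Localization.Away f0 ⊗[B] A, σ = algebraMap (Localization.Away f0) (Localization.Away f0 ⊗[B] A) (algebraMap Q (Localization.Away f0) sg) := ⟨_, rfl⟩
  obtain ⟨g, hgdef⟩ : ∃ g : Localization.Away f0 ⊗[B] A, g = algebraMap (Localization.Away f0) (Localization.Away f0 ⊗[B] A) (IsLocalization.Away.invSelf f0) := ⟨_, rfl⟩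
  have hσ : σ ^ 2 = (ι b0) ^ 2 + ι a * ι d := by
    rw [hσdef, ← map_pow, ← map_pow, hsg, ← key1, hsB, map_add, map_mul, map_pow]
  have hg : g * (ι b0 + σ) = 1 := by
    rw [hgdef, hσdef, ← hβ, key1, ← map_add, ← map_add, ← hf0, ← map_mul, mul_comm,
      IsLocalization.Away.mul_invSelf, map_one]
  have he : ι eA * (σ ^ 2 - (ι b1) ^ 2) = 1 := by
    rw [hσ, ← map_pow, ← map_pow, ← map_mul, ← map_add, ← map_sub, ← map_mul, heA, map_one]
  obtain ⟨v, hv, hv2⟩ := core (Algebra.TensorProduct.congr (AlgEquiv.refl : Localization.Away f0 ≃ₐ[Localization.Away f0] Localization.Away f0) lam)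
    (h.map ι) (ι a) (ι b0) (ι b1) (ι d) σ g (ι eA) (ι half)
    (by rw [Matrix.map_apply, H00]) (by rw [Matrix.map_apply, H01, map_add])
    (by rw [Matrix.map_apply, H10, map_neg, map_sub]) (by rw [Matrix.map_apply, H11])
    (by rw [Lι, La, map_neg]) (by rw [Lι, Ld, map_neg]) (by rw [Lι, Lb1, map_neg])
    (by rw [hσdef, Lκ]) (by rw [hgdef, Lκ]) (by rw [Lι, LeA]) (by rw [Lι, Lhalf])
    hσ hg he (by rw [← map_ofNat ι 2, ← map_mul, hhalf, map_one])
  refine ⟨v, hv, hv2.trans ?_⟩
  ext i j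
  fin_cases i <;> fin_cases j <;> simp

noncomputable abbrev QI (B : Type u) [CommRing B] (s t : Bˣ) : Ideal (MvPolynomial (Fin 2) B) :=
  Ideal.span ({MvPolynomial.X 0 ^ 2 - MvPolynomial.C (s : B), MvPolynomial.X 1 ^ 2 - MvPolynomial.C (t : B)} : Set (MvPolynomial (Fin 2) B))



/-- Let `A` be a commutative ring with an involution `lam` whose fixed ring `B` is local; assume that
`lam` is the identity modulo the Jacobson radical of `A`, that `2` is a unit of `A`, and that `h` is
an invertible `2 × 2` matrix over `A` with `h = -(lam h)ᵀ` whose entries are congruent modulo the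
Jacobson radical to those of the matrix with rows `(0, 1)`, `(-1, 0)`. Then there are units `s, t`
of `B`, finitely many elements `f_i` of `B' = B[X, Y]/(X² - s, Y² - t)` (`B` with square roots of
`s` and `t` adjoined) that generate the unit ideal, and for every `i` an invertible `2 × 2` matrix
`v` over `B'_{f_i} ⊗_B A` (that is, `A` with the two square roots adjoined, localised at `f_i`;
`lam` extends so as to fix the square roots) such that `(lam v)ᵀ h v` is the matrix with rows `(0,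
1)`, `(-1, 0)`. (The published statement writes the congruence with the plain transpose `vᵀ h v`,
which fails in general: for a field `k` of characteristic not `2`, the ring `A` of formal power
series in `y` over `k`, with `B` its subring of series in `y²`, `lam y = -y` and `h` with rows `(y,
1)`, `(-1, y)`, satisfies every hypothesis, while `vᵀ h v` equal to the matrix with rows `(0, 1)`,
`(-1, 0)` would, added to its transpose, give `2y · vᵀ v = 0` and hence `det v = 0` over a nonzero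
ring in which `y` is not a zero divisor. The proof computes the Gram matrix of the hermitian form
`(a, b) ↦ (lam a)ᵀ h b` in a new basis, which is `(lam v)ᵀ h v`, and that is what is stated here.) -/
theorem result (B : Type u) (A : Type v) [CommRing B] [CommRing A]
    [Algebra B A] (lam : A ≃ₐ[B] A) (hlam : ∀ a, lam (lam a) = a) (hB : RInv.IsFixedRing B A lam.toRingEquiv)
    [IsLocalRing B] (hid : ∀ a : A, lam a - a ∈ Ring.jacobson A) (h2 : IsUnit (2 : A))
    (h : Matrix (Fin 2) (Fin 2) A) (hh : IsUnit h) (herm : -(h.map lam).transpose = h)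
    (hJ : ∀ i j : Fin 2, h i j - Matrix.of ![![(0 : A), 1], ![-1, 0]] i j ∈ Ring.jacobson A) :
    ∃ (s t : Bˣ) (r : ℕ) (f : Fin r → (MvPolynomial (Fin 2) B ⧸ Ideal.span ({MvPolynomial.X 0 ^ 2 - MvPolynomial.C (s : B), MvPolynomial.X 1 ^ 2 - MvPolynomial.C (t : B)} : Set (MvPolynomial (Fin 2) B)))),
      Ideal.span (Set.range f) = ⊤ ∧
      ∀ i : Fin r, ∃ v : Matrix (Fin 2) (Fin 2) (Localization.Away (f i) ⊗[B] A), IsUnit v ∧
        (v.map (Algebra.TensorProduct.congr (AlgEquiv.refl : Localization.Away (f i) ≃ₐ[Localization.Away (f i)] Localization.Away (f i)) lam)).transpose * h.map (Algebra.TensorProduct.includeRight : A →ₐ[B] Localization.Away (f i) ⊗[B] A) * v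
          = (Matrix.of ![![(0 : A), 1], ![-1, 0]]).map (Algebra.TensorProduct.includeRight : A →ₐ[B] Localization.Away (f i) ⊗[B] A) := by
  classical
  have e00 : lam (h 0 0) = - h 0 0 := by
    have := congrFun (congrFun herm 0) 0
    simp only [Matrix.neg_apply, Matrix.transpose_apply, Matrix.map_apply] at this
    linear_combination (-1 : A) * this
  have e11 : lam (h 1 1) = - h 1 1 := by
    have := congrFun (congrFun herm 1) 1
    simp only [Matrix.neg_apply, Matrix.transpose_apply, Matrix.map_apply] at this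
    linear_combination (-1 : A) * this
  have e10 : h 1 0 = - lam (h 0 1) := by
    have := congrFun (congrFun herm 1) 0
    simp only [Matrix.neg_apply, Matrix.transpose_apply, Matrix.map_apply] at this
    exact this.symm
  obtain ⟨half, hhalf⟩ := h2.exists_right_inv
  have Lhalf : lam half = half := lam_inv_fixed lam hhalf (map_ofNat lam 2)
  obtain ⟨a, ha⟩ : ∃ a, a = h 0 0 := ⟨_, rfl⟩
  obtain ⟨b, hb⟩ : ∃ b, b = h 0 1 := ⟨_, rfl⟩
  obtain ⟨d, hd⟩ : ∃ d, d = h 1 1 := ⟨_, rfl⟩
  rw [← ha] at e00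
  rw [← hd] at e11
  rw [← hb] at e10
  obtain ⟨b0, hb0⟩ : ∃ b0, b0 = (b + lam b) * half := ⟨_, rfl⟩
  obtain ⟨b1, hb1⟩ : ∃ b1, b1 = (b - lam b) * half := ⟨_, rfl⟩
  have hbsum : b0 + b1 = b := by rw [hb0, hb1]; linear_combination b * hhalf
  have hbdiff : b0 - b1 = lam b := by rw [hb0, hb1]; linear_combination (lam b) * hhalf
  have Lb0 : lam b0 = b0 := by rw [hb0, map_mul, map_add, hlam, Lhalf]; ring
  have Lb1 : lam b1 = -b1 := by rw [hb1, map_mul, map_sub, hlam, Lhalf]; ring
  have ha_J : a ∈ Ring.jacobson A := by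
    have := hJ 0 0
    rw [← ha] at this
    simpa using this
  have hd_J : d ∈ Ring.jacobson A := by
    have := hJ 1 1
    rw [← hd] at this
    simpa using this
  have hb_J : b - 1 ∈ Ring.jacobson A := by
    have := hJ 0 1
    rw [← hb] at this
    simpa using this
  have hb1_J : b1 ∈ Ring.jacobson A := by
    have h1 : b1 = -(lam b - b) * half := by rw [hb1]; ring
    rw [h1]
    exact Ideal.mul_mem_right _ _ (neg_mem (hid b))
  have hb0_J : b0 - 1 ∈ Ring.jacobson A := by
    have h1 : b0 - 1 = (b - 1) - b1 := by rw [← hbsum]; ring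
    rw [h1]
    exact Ideal.sub_mem _ hb_J hb1_J
  have hs_J : b0 ^ 2 + a * d - 1 ∈ Ring.jacobson A := by
    have h1 : b0 ^ 2 + a * d - 1 = (b0 - 1) * (b0 + 1) + a * d := by ring
    rw [h1]
    exact Ideal.add_mem _ (Ideal.mul_mem_right _ _ hb0_J) (Ideal.mul_mem_right _ _ ha_J)
  have hunit : ∀ x : A, x - 1 ∈ Ring.jacobson A → IsUnit x := by
    intro x hx
    rw [← Ideal.jacobson_bot] at hx
    exact Ideal.isUnit_of_sub_one_mem_jacobson_bot x hx
  obtain ⟨β, hβ⟩ := (hB.2 b0).1 Lb0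
  obtain ⟨c, hc⟩ := (hB.2 (a * d)).1 (by
    show lam (a * d) = a * d
    rw [map_mul, e00, e11]; ring)
  have hsB : algebraMap B A (β ^ 2 + c) = b0 ^ 2 + a * d := by
    rw [map_add, map_pow, hβ, hc]
  have hsunit : IsUnit (β ^ 2 + c) := unit_of_fixed lam hB _ (by rw [hsB]; exact hunit _ hs_J)
  obtain ⟨s, hs⟩ := hsunit
  have h2β : IsUnit (2 * β) := unit_of_fixed lam hB _ (by
    rw [map_mul, hβ, map_ofNat]
    exact h2.mul (hunit _ hb0_J))
  have he_unit : IsUnit (b0 ^ 2 + a * d - b1 ^ 2) := by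
    apply hunit
    have h1 : b0 ^ 2 + a * d - b1 ^ 2 - 1 = (b0 ^ 2 + a * d - 1) - b1 * b1 := by ring
    rw [h1]
    exact Ideal.sub_mem _ hs_J (Ideal.mul_mem_right _ _ hb1_J)
  obtain ⟨eA, heA⟩ := he_unit.exists_right_inv
  have LeA : lam eA = eA := lam_inv_fixed lam heA (by
    rw [map_sub, map_add, map_pow, map_pow, map_mul, Lb0, Lb1, e00, e11]; ring)
  have hXb : (Ideal.Quotient.mk (QI B s 1) (MvPolynomial.X 0)) ^ 2
      = algebraMap B (MvPolynomial (Fin 2) B ⧸ QI B s 1) (β ^ 2 + c) := by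
    rw [← hs, ← sub_eq_zero]
    have : (Ideal.Quotient.mk (QI B s 1) (MvPolynomial.X 0)) ^ 2
        - algebraMap B (MvPolynomial (Fin 2) B ⧸ QI B s 1) (s : B)
        = Ideal.Quotient.mk (QI B s 1) (MvPolynomial.X 0 ^ 2 - MvPolynomial.C (s : B)) := by
      rw [map_sub, map_pow]; rfl
    rw [this, Ideal.Quotient.eq_zero_iff_mem]
    exact Ideal.subset_span (Set.mem_insert _ _)
  refine ⟨s, 1, 2, ![algebraMap B (MvPolynomial (Fin 2) B ⧸ QI B s 1) β + Ideal.Quotient.mk (QI B s 1) (MvPolynomial.X 0),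
    algebraMap B (MvPolynomial (Fin 2) B ⧸ QI B s 1) β - Ideal.Quotient.mk (QI B s 1) (MvPolynomial.X 0)], ?_, ?_⟩
  · apply Ideal.eq_top_of_isUnit_mem _ (x := algebraMap B (MvPolynomial (Fin 2) B ⧸ QI B s 1) (2 * β)) ?_ (h2β.map _)
    have h1 : algebraMap B (MvPolynomial (Fin 2) B ⧸ QI B s 1) (2 * β)
        = (algebraMap B (MvPolynomial (Fin 2) B ⧸ QI B s 1) β + Ideal.Quotient.mk (QI B s 1) (MvPolynomial.X 0))
          + (algebraMap B (MvPolynomial (Fin 2) B ⧸ QI B s 1) β - Ideal.Quotient.mk (QI B s 1) (MvPolynomial.X 0)) := by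
      rw [map_mul, map_ofNat]; ring
    rw [h1]
    exact Ideal.add_mem _ (Ideal.subset_span ⟨0, rfl⟩) (Ideal.subset_span ⟨1, rfl⟩)
  · intro i
    fin_cases i
    · exact piece lam h a b0 b1 d eA half (β ^ 2 + c) β ha.symm (by rw [← hb, hbsum])
        (by rw [e10, hbdiff]) hd.symm e00 e11 Lb1 LeA Lhalf hsB hβ
        (by rw [mul_comm]; exact heA) hhalf _ (Ideal.Quotient.mk (QI B s 1) (MvPolynomial.X 0)) hXb rfl
    · exact piece lam h a b0 b1 d eA half (β ^ 2 + c) β ha.symm (by rw [← hb, hbsum])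
        (by rw [e10, hbdiff]) hd.symm e00 e11 Lb1 LeA Lhalf hsB hβ
        (by rw [mul_comm]; exact heA) hhalf _ (-Ideal.Quotient.mk (QI B s 1) (MvPolynomial.X 0))
        ((neg_sq _).trans hXb) (sub_eq_add_neg _ _)


end Groth.Agent.S17363
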