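import Groth.Statements.S5025
import Groth.Agent.Lib.Helper24.SmoothRegularIff
import Groth.Agent.Lib.Helper24.SmoothStalk
import Groth.Agent.Lib.Helper24.FlatDepth5
-- import your own Groth.Agent.* helpers here

set_option autoImplicit false
universe u
open CategoryTheory CategoryTheory.Limits AlgebraicGeometry TopologicalSpace
open Unram17

namespace Groth.Agent.S5025

open Groth.Agent.Lib.Helper24.FlatDepth in
theorem codepth_eq (A B : Type u) [CommRing A] [CommRing B] [Algebra A B] [Algebra.Smooth A B]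
    [IsNoetherianRing A]
    (q : Ideal B) [q.IsPrime] (p : Ideal A) [p.IsPrime] (hpq : p = q.comap (algebraMap A B)) :
    ringKrullDim (Localization.AtPrime q) +
        ((LocCoh.depth (Localization.AtPrime p) (Localization.AtPrime p) : ℕ∞) : WithBot ℕ∞) =
      ringKrullDim (Localization.AtPrime p) +
        ((LocCoh.depth (Localization.AtPrime q) (Localization.AtPrime q) : ℕ∞) : WithBot ℕ∞) := by
  haveI : q.LiesOver p := ⟨hpq⟩
  haveI : IsNoetherianRing B := Algebra.FiniteType.isNoetherianRing A B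
  haveI : Module.Flat A B := inferInstance
  obtain ⟨h1, h2⟩ := depth_dim_atPrime A B p q
  obtain ⟨q', hq', ⟨e⟩⟩ := exists_fibre_prime_equiv A B p q
  haveI : IsRegularRing p.ResidueField := inferInstance
  haveI : Algebra.Smooth p.ResidueField (p.Fiber B) := inferInstance
  haveI : IsRegularRing (p.Fiber B) :=
    Groth.Agent.Lib.Helper24.SmoothRegular.isRegularRing_of_smooth p.ResidueField (p.Fiber B)
  haveI : IsRegularLocalRing (Localization.AtPrime q') :=
    IsRegularRing.isRegularLocalRing_localization q'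
  have h3 := Groth.Agent.Lib.helper26.Depth.depth_eq_ringKrullDim_of_isRegularLocalRing
    (Localization.AtPrime q')
  rw [ringKrullDim_eq_of_ringEquiv e, ← depth_eq_of_ringEquiv e] at h3
  rw [h1, h2, ← h3]
  push_cast
  abel

/-- Let Y be locally Noetherian and f : X ⟶ Y locally of finite type, smooth on an open neighbourhood of
a point x with image y. Then the local rings of X at x and of Y at y have the same codepth (Krull
dimension minus depth); written without subtraction: dim O_{X,x} + depth O_{Y,y} = dim O_{Y,y} +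
depth O_{X,x}. -/
theorem result {X Y : Scheme.{u}} (f : X ⟶ Y)
    [IsLocallyNoetherian Y] [LocallyOfFiniteType f] (x : ↥X)
    (hx : ∃ U : X.Opens, x ∈ U ∧ Smooth (U.ι ≫ f)) :
    ringKrullDim ↑(X.presheaf.stalk x) +
        ((LocCoh.depth ↑(Y.presheaf.stalk (f.base x)) ↑(Y.presheaf.stalk (f.base x)) : ℕ∞) : WithBot ℕ∞) =
      ringKrullDim ↑(Y.presheaf.stalk (f.base x)) +
        ((LocCoh.depth ↑(X.presheaf.stalk x) ↑(X.presheaf.stalk x) : ℕ∞) : WithBot ℕ∞) := by
  haveI hX : IsLocallyNoetherian X := LocallyOfFiniteType.isLocallyNoetherian f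
  have H := Groth.Agent.Lib.Helper24.SmoothStalk.formallySmooth_stalkMap_of_smooth_nhd f x hx
  obtain ⟨U, hU, V, hV, hVU, hxV, hφ⟩ := exists_smooth_of_formallySmooth_stalk f x H
  algebraize [(f.appLE U V hVU).hom]
  haveI : Algebra.Smooth Γ(Y, U) Γ(X, V) := inferInstance
  haveI : IsNoetherianRing Γ(Y, U) := IsLocallyNoetherian.component_noetherian ⟨U, hU⟩
  let q : Ideal Γ(X, V) := (hV.primeIdealOf ⟨x, hxV⟩).asIdeal
  let p : Ideal Γ(Y, U) := (hU.primeIdealOf ⟨f x, hVU hxV⟩).asIdeal
  have hpq : p = q.comap (algebraMap Γ(Y, U) Γ(X, V)) :=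
    (congrArg PrimeSpectrum.asIdeal
      (IsAffineOpen.comap_primeIdealOf_appLE U hU V hV hVU hxV)).symm
  letI := X.presheaf.algebra_section_stalk (⟨x, hxV⟩ : V)
  letI := Y.presheaf.algebra_section_stalk (⟨f x, hVU hxV⟩ : U)
  haveI iX : IsLocalization.AtPrime (X.presheaf.stalk x) q := hV.isLocalization_stalk ⟨x, hxV⟩
  haveI iY : IsLocalization.AtPrime (Y.presheaf.stalk (f x)) p :=
    hU.isLocalization_stalk ⟨f x, hVU hxV⟩
  let eX : Localization.AtPrime q ≃ₐ[Γ(X, V)] X.presheaf.stalk x :=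
    IsLocalization.algEquiv q.primeCompl _ _
  let eY : Localization.AtPrime p ≃ₐ[Γ(Y, U)] Y.presheaf.stalk (f x) :=
    IsLocalization.algEquiv p.primeCompl _ _
  haveI : IsNoetherianRing Γ(X, V) := Algebra.FiniteType.isNoetherianRing Γ(Y, U) Γ(X, V)
  haveI : IsNoetherianRing (X.presheaf.stalk x) :=
    isNoetherianRing_of_ringEquiv _ eX.toRingEquiv
  haveI : IsNoetherianRing (Y.presheaf.stalk (f x)) :=
    isNoetherianRing_of_ringEquiv _ eY.toRingEquiv
  have h := codepth_eq Γ(Y, U) Γ(X, V) q p hpq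
  rw [ringKrullDim_eq_of_ringEquiv eX.toRingEquiv, ringKrullDim_eq_of_ringEquiv eY.toRingEquiv,
    ← Groth.Agent.Lib.Helper24.FlatDepth.depth_eq_of_ringEquiv eX.toRingEquiv,
    ← Groth.Agent.Lib.Helper24.FlatDepth.depth_eq_of_ringEquiv eY.toRingEquiv] at h
  exact h

end Groth.Agent.S5025
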