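import Groth.Statements.S17365
import Groth.Agent.Lib.Lead.FlatHartogs
import Groth.Agent.S5025
import Groth.Agent.Lib.Helper17.FibreDim
import Groth.Agent.Lib.Helper16.FLF3
-- import your own Groth.Agent.* helpers here

set_option autoImplicit false
set_option backward.isDefEq.respectTransparency false
universe u
open CategoryTheory CategoryTheory.Limits AlgebraicGeometry TopologicalSpace
open CInt

namespace Groth.Agent.S17365

open Groth.Agent.Lib.helper17.FibreDim in
/-- depth of the local ring of the total space of a smooth morphism over a locally Noetherian base is at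
least the dimension of the local ring of the fibre -/
theorem two_le_depth_of_smooth {X S : Scheme.{u}} (f : X ⟶ S) [Smooth f] [IsLocallyNoetherian S]
    (x : X) (h2 : (2 : WithBot ℕ∞) ≤ ringKrullDim ↑(CInt.fiberStalk f x)) :
    (2 : ℕ∞) ≤ LocCoh.depth (X.presheaf.stalk x) (X.presheaf.stalk x) := by
  haveI : LocallyOfFiniteType f := inferInstance
  haveI : IsLocallyNoetherian X := LocallyOfFiniteType.isLocallyNoetherian f
  have hfl : (f.stalkMap x).hom.Flat := Flat.stalkMap f x
  have h5 := Groth.Agent.S5025.result f x ⟨⊤, trivial, inferInstance⟩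
  have hd := dim_stalk_eq f x hfl
  rw [hd] at h5
  -- `dimY` is a natural number
  have hfin : ringKrullDim (S.presheaf.stalk (f.base x)) < ⊤ := ringKrullDim_lt_top
  have hnb : ringKrullDim (S.presheaf.stalk (f.base x)) ≠ ⊥ := ringKrullDim_ne_bot
  obtain ⟨dY, hdY⟩ := WithBot.ne_bot_iff_exists.mp hnb
  have hdYtop : dY ≠ ⊤ := by
    rintro rfl
    rw [← hdY] at hfin
    exact lt_irrefl _ hfin
  have hnbF : ringKrullDim ↑(CInt.fiberStalk f x) ≠ ⊥ := by
    intro h0
    rw [h0] at h2
    exact absurd h2 (by simp)
  obtain ⟨dF, hdF⟩ := WithBot.ne_bot_iff_exists.mp hnbF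
  change ringKrullDim ↑(S.presheaf.stalk (f.base x)) +
      ringKrullDim ↑(CInt.fiberStalk f x) + _ = _ at h5
  rw [← hdY, ← hdF, ← WithBot.coe_add, ← WithBot.coe_add, ← WithBot.coe_add, WithBot.coe_inj,
    add_assoc] at h5
  have h5' := ENat.add_right_injective_of_ne_top hdYtop h5
  rw [← hdF] at h2
  have h2' : (2 : ℕ∞) ≤ dF := WithBot.coe_le_coe.mp h2
  rw [← h5']
  exact le_trans h2' le_self_add


/-- Let k be an algebraically closed field, X a smooth proper k-scheme admitting an ample invertible
sheaf, and S a locally Noetherian k-scheme. Let E be a finite locally free module on S ×_k X and Z a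
closed subset of S ×_k X whose intersection with every fibre {s} × X has codimension at least 2
there, i.e. at every point of Z the local ring of the fibre of the projection S ×_k X ⟶ S has Krull
dimension at least 2. Then, with j the inclusion of the complement of Z, the natural map E ⟶ j_*
(E|_{S × X ∖ Z}) is an isomorphism. -/
theorem result
    (k : Type u) [Field k] [IsAlgClosed k] (S X : Scheme.{u})
    (b : S ⟶ Spec (CommRingCat.of k)) (a : X ⟶ Spec (CommRingCat.of k))
    [IsLocallyNoetherian S] [Smooth a] [IsProper a]
    (hproj : ∃ H : X.Modules, CohB1.IsAmple H)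
    (E : (pullback b a).Modules) (hE : FlatMod.IsFinLocFree E)
    (Z : Closeds ↥(pullback b a))
    (hZ : ∀ x : ↥(pullback b a), x ∈ Z →
      (2 : WithBot ℕ∞) ≤ ringKrullDim ↑(CInt.fiberStalk (pullback.fst b a) x)) :
    IsIso ((Scheme.Modules.restrictAdjunction (Scheme.Opens.ι (Z.compl : (pullback b a).Opens))).unit.app E) := by
  haveI : Smooth (pullback.fst b a) := inferInstance
  haveI : LocallyOfFiniteType (pullback.fst b a) := inferInstance
  haveI : IsLocallyNoetherian (pullback b a) :=
    LocallyOfFiniteType.isLocallyNoetherian (pullback.fst b a)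
  haveI : E.IsQuasicoherent := Groth.Agent.Lib.helper16.FLF.isQuasicoherent_of_isFinLocFree E hE
  refine Groth.Agent.Lib.Lead.FlatHartogs.isIso_resPushUnit_of_flat E
    (Groth.Agent.Lib.helper16.FLF.isFlat_of_isFinLocFree E hE) _ (fun x hx => ?_)
  have hxZ : x ∈ Z := by
    by_contra hcon
    exact hx hcon
  exact two_le_depth_of_smooth (pullback.fst b a) x (hZ x hxZ)

end Groth.Agent.S17365
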