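import Groth.Statements.S1737
import Mathlib
import Groth.Agent.Lib.Helper26.CM3

set_option autoImplicit false
universe u
open LocCoh

namespace Groth.Agent.S1737

/-- the submodule of elements supported in `T` -/
def gam (A : Type u) [CommRing A] (T : Set (PrimeSpectrum A)) (M : Type u) [AddCommGroup M]
    [Module A M] : Submodule A M where
  carrier := {m | ∀ q : PrimeSpectrum A, q ∉ T → ∃ u : A, u ∉ q.asIdeal ∧ u • m = 0}
  add_mem' := by
    intro a b ha hb q hq
    obtain ⟨u, hu, hua⟩ := ha q hq
    obtain ⟨v, hv, hvb⟩ := hb q hq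
    refine ⟨u * v, fun h => ?_, ?_⟩
    · rcases q.2.mem_or_mem h with h | h
      · exact hu h
      · exact hv h
    · rw [smul_add, mul_smul u v b, hvb, smul_zero, mul_comm, mul_smul, hua, smul_zero, add_zero]
  zero_mem' := fun q _ => ⟨1, fun h => q.2.ne_top ((Ideal.eq_top_iff_one _).mpr h), smul_zero _⟩
  smul_mem' := by
    intro c a ha q hq
    obtain ⟨u, hu, hua⟩ := ha q hq
    exact ⟨u, hu, by rw [smul_comm, hua, smul_zero]⟩

lemma mk_zero_iff {A : Type u} [CommRing A] {S : Submonoid A} {M : Type u} [AddCommGroup M]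
    [Module A M] (m : M) (s : S) :
    LocalizedModule.mk m s = 0 ↔ ∃ u : A, u ∈ S ∧ u • m = 0 := by
  rw [← LocalizedModule.zero_mk s, LocalizedModule.mk_eq]
  constructor
  · rintro ⟨u, hu⟩
    refine ⟨(u : A) * (s : A), S.mul_mem u.2 s.2, ?_⟩
    rw [mul_smul]
    simpa [Submonoid.smul_def] using hu
  · rintro ⟨u, hu, h⟩
    refine ⟨⟨u, hu⟩, ?_⟩
    simp only [Submonoid.smul_def, smul_zero]
    rw [smul_comm, h, smul_zero]


/-- Let A be a Noetherian ring, T ⊆ Spec A stable under specialization and M a finite A-module. There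
are a finite A-module M' and a surjection M → M' which is bijective after localizing at every prime
outside T and such that M'_p has depth ≥ 1 over A_p for every p in T. (The source states this for
coherent modules on a Noetherian scheme, with uniqueness.) -/
theorem result (A : Type u) [CommRing A] [IsNoetherianRing A] (T : Set (PrimeSpectrum A)) (hT : StableUnderSpecialization T) (M : Type u) [AddCommGroup M] [Module A M] [Module.Finite A M] : ∃ (M' : Type u) (_ : AddCommGroup M') (_ : Module A M') (_ : Module.Finite A M') (f : M →ₗ[A] M'), Function.Surjective f ∧ (∀ p : PrimeSpectrum A, p ∉ T → Function.Bijective (LocalizedModule.map p.asIdeal.primeCompl f)) ∧ ∀ p : PrimeSpectrum A, p ∈ T → 1 ≤ LocCoh.depth (Localization.AtPrime p.asIdeal) (LocalizedModule p.asIdeal.primeCompl M') := by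
  classical
  refine ⟨M ⧸ gam A T M, inferInstance, inferInstance, inferInstance, (gam A T M).mkQ,
    Submodule.mkQ_surjective _, ?_, ?_⟩
  · intro p hp
    refine ⟨?_, LocalizedModule.map_surjective _ _ (Submodule.mkQ_surjective _)⟩
    rw [injective_iff_map_eq_zero]
    intro x hx
    induction x using LocalizedModule.induction_on with
    | h m s =>
      rw [LocalizedModule.map_mk, mk_zero_iff] at hx
      obtain ⟨u, hu, hum⟩ := hx
      rw [Submodule.mkQ_apply, ← Submodule.Quotient.mk_smul, Submodule.Quotient.mk_eq_zero] at hum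
      obtain ⟨v, hv, hvm⟩ := hum p hp
      rw [mk_zero_iff]
      refine ⟨v * u, p.asIdeal.primeCompl.mul_mem hv hu, ?_⟩
      rw [mul_smul, hvm]
  · intro p hp
    by_contra hlt
    have h0 : LocCoh.idealDepth (IsLocalRing.maximalIdeal (Localization.AtPrime p.asIdeal))
        (LocalizedModule p.asIdeal.primeCompl (M ⧸ gam A T M)) = 0 := by
      have : LocCoh.depth (Localization.AtPrime p.asIdeal)
          (LocalizedModule p.asIdeal.primeCompl (M ⧸ gam A T M)) < 1 := not_le.mp hlt
      exact Order.lt_one_iff.mp this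
    obtain ⟨Q, hQ, hle⟩ :=
      Groth.Agent.Lib.helper26.Depth.exists_associatedPrime_ge_of_idealDepth_eq_zero _ _ h0
    have hQprime : Q.IsPrime := hQ.isPrime
    have hQeq : Q = IsLocalRing.maximalIdeal (Localization.AtPrime p.asIdeal) :=
      ((IsLocalRing.maximalIdeal.isMaximal _).eq_of_le hQprime.ne_top hle).symm
    rw [hQeq] at hQ
    have hass := Module.associatedPrimes.comap_mem_associatedPrimes_of_mem_associatedPrimes_of_isLocalizedModule_of_fg
      p.asIdeal.primeCompl (LocalizedModule.mkLinearMap p.asIdeal.primeCompl (M ⧸ gam A T M)) _ hQ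
      ((isNoetherianRing_iff_ideal_fg A).mp inferInstance _)
    have h5 : (IsLocalRing.maximalIdeal (Localization.AtPrime p.asIdeal)).comap
        (algebraMap A (Localization.AtPrime p.asIdeal)) = p.asIdeal :=
      IsLocalization.AtPrime.under_maximalIdeal (Localization.AtPrime p.asIdeal) p.asIdeal
    rw [h5, AssociatedPrimes.mem_iff, isAssociatedPrime_iff] at hass
    obtain ⟨-, c, hc⟩ := hass
    obtain ⟨m, rfl⟩ := Submodule.Quotient.mk_surjective _ c
    have hmem : ∀ a : A, a ∈ p.asIdeal ↔ a • m ∈ gam A T M := by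
      intro a
      rw [hc, Submodule.mem_colon_singleton, Submodule.mem_bot, ← Submodule.Quotient.mk_smul,
        Submodule.Quotient.mk_eq_zero]
    have hm : m ∈ gam A T M := by
      intro q hq
      have hnle : ¬ p.asIdeal ≤ q.asIdeal := by
        intro hle'
        apply hq
        exact hT ((PrimeSpectrum.le_iff_specializes p q).mp hle') hp
      obtain ⟨a, hap, haq⟩ := Set.not_subset.mp hnle
      obtain ⟨u, hu, hum⟩ := (hmem a).mp hap q hq
      refine ⟨u * a, fun h => ?_, by rw [mul_smul, hum]⟩
      rcases q.2.mem_or_mem h with h | h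
      · exact hu h
      · exact haq h
    have h1 : (1 : A) ∈ p.asIdeal := by
      rw [hmem, one_smul]
      exact hm
    exact p.2.ne_top ((Ideal.eq_top_iff_one _).mpr h1)


end Groth.Agent.S1737
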