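import Groth.Statements.S17376
import Mathlib
import Groth.Agent.Lib.Helper6.NormBC2

set_option autoImplicit false
universe u
open scoped TensorProduct
open CAlg

namespace Groth.Agent.S17376

section aux

open TensorProduct Groth.Agent.Lib.helper6

variable (k A K L R : Type u) [Field k]
    [CommRing A] [IsDomain A] [IsIntegrallyClosed A] [Algebra k A]
    [Field K] [Algebra A K] [IsFractionRing A K] [Algebra k K] [IsScalarTower k A K]
    [Field L] [Algebra K L] [FiniteDimensional K L] [Algebra A L] [IsScalarTower A K L]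
    [Algebra k L] [IsScalarTower k K L] [IsScalarTower k A L]
    [CommRing R] [Algebra k R]

/-- The algebra structure of the statement. -/
@[reducible] def algKL : Algebra (K ⊗[k] R) (L ⊗[k] R) :=
  (Algebra.TensorProduct.map (IsScalarTower.toAlgHom k K L) (AlgHom.id k R)).toRingHom.toAlgebra

attribute [local instance 10] algKL

/-- `(K ⊗[k] R) ⊗[K] L ≃ L ⊗[k] R` as `K`-algebras. -/
noncomputable def e₀ : (K ⊗[k] R) ⊗[K] L ≃ₐ[K] L ⊗[k] R :=
  (Algebra.TensorProduct.comm K (K ⊗[k] R) L).trans
    (Algebra.TensorProduct.cancelBaseChange k K K L R)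

theorem e₀_tmul (a : K) (r : R) (l : L) :
    e₀ k K L R ((a ⊗ₜ[k] r) ⊗ₜ[K] l) = (a • l) ⊗ₜ[k] r := by
  simp [e₀]

theorem e₀_algebraMap (c : K ⊗[k] R) :
    e₀ k K L R (c ⊗ₜ[K] (1 : L)) = algebraMap (K ⊗[k] R) (L ⊗[k] R) c := by
  induction c using TensorProduct.induction_on with
  | zero => rw [TensorProduct.zero_tmul, map_zero, map_zero]
  | tmul a r =>
    rw [e₀_tmul]
    show _ = Algebra.TensorProduct.map (IsScalarTower.toAlgHom k K L) (AlgHom.id k R) (a ⊗ₜ r)
    rw [Algebra.TensorProduct.map_tmul, IsScalarTower.coe_toAlgHom', AlgHom.coe_id, id,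
      Algebra.algebraMap_eq_smul_one]
  | add x y hx hy => rw [TensorProduct.add_tmul, map_add, map_add, hx, hy]

/-- `(K ⊗[k] R) ⊗[K] L ≃ L ⊗[k] R` as `K ⊗[k] R`-algebras. -/
noncomputable def e : (K ⊗[k] R) ⊗[K] L ≃ₐ[K ⊗[k] R] L ⊗[k] R :=
  AlgEquiv.ofRingEquiv (f := (e₀ k K L R).toRingEquiv) (fun c => by
    rw [Algebra.TensorProduct.algebraMap_apply]
    exact e₀_algebraMap k K L R c)

theorem e_tmul (a : K) (r : R) (l : L) :
    e k K L R ((a ⊗ₜ[k] r) ⊗ₜ[K] l) = (a • l) ⊗ₜ[k] r :=
  e₀_tmul k K L R a r l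

theorem exists_sum_tmul {M N : Type*} [AddCommGroup M] [Module k M] [AddCommGroup N] [Module k N]
    (β : M ⊗[k] N) : ∃ (m : ℕ) (x : Fin m → M) (r : Fin m → N), β = ∑ j, x j ⊗ₜ[k] r j := by
  induction β using TensorProduct.induction_on with
  | zero => exact ⟨0, Fin.elim0, Fin.elim0, by simp⟩
  | tmul x r => exact ⟨1, fun _ => x, fun _ => r, by simp⟩
  | add y z hy hz =>
    obtain ⟨m₁, x₁, r₁, rfl⟩ := hy
    obtain ⟨m₂, x₂, r₂, rfl⟩ := hz
    refine ⟨m₁ + m₂, Fin.append x₁ x₂, Fin.append r₁ r₂, ?_⟩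
    rw [Fin.sum_univ_add]
    simp only [Fin.append_left, Fin.append_right]

theorem norm_mem (β : (integralClosure A L) ⊗[k] R) :
    Algebra.norm (K ⊗[k] R)
        (Algebra.TensorProduct.map ((integralClosure A L).val.restrictScalars k)
          (AlgHom.id k R) β) ∈
      Set.range (Algebra.TensorProduct.map (IsScalarTower.toAlgHom k A K) (AlgHom.id k R)) := by
  classical
  obtain ⟨m, x, r, rfl⟩ := exists_sum_tmul k β
  have h1 : Algebra.TensorProduct.map ((integralClosure A L).val.restrictScalars k)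
      (AlgHom.id k R) (∑ j, x j ⊗ₜ[k] r j) =
      e k K L R (Algebra.TensorProduct.map
        (MvPolynomial.aeval (fun j => (1 : K) ⊗ₜ[k] r j) : MvPolynomial (Fin m) K →ₐ[K] K ⊗[k] R)
        (AlgHom.id K L)
        (∑ j, (MvPolynomial.X j : MvPolynomial (Fin m) K) ⊗ₜ[K] (x j : L))) := by
    rw [map_sum, map_sum, map_sum]
    refine Finset.sum_congr rfl (fun j _ => ?_)
    rw [Algebra.TensorProduct.map_tmul, Algebra.TensorProduct.map_tmul, MvPolynomial.aeval_X,
      AlgHom.id_apply, AlgHom.id_apply, e_tmul, one_smul]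
    rfl
  rw [h1, Algebra.norm_eq_of_algEquiv, NormBC.norm_map (Module.finBasis K L)]
  obtain ⟨P₀, hP₀⟩ := NormBC.norm_sum_X_tmul_mem_range A K L m (fun j => (x j : L))
    (fun j => (x j).2)
  rw [← hP₀]
  refine ⟨MvPolynomial.eval₂Hom (Algebra.TensorProduct.includeLeftRingHom : A →+* A ⊗[k] R)
    (fun j => (1 : A) ⊗ₜ[k] r j) P₀, ?_⟩
  have hcomp : ((Algebra.TensorProduct.map (IsScalarTower.toAlgHom k A K)
      (AlgHom.id k R)).toRingHom).comp
      (MvPolynomial.eval₂Hom (Algebra.TensorProduct.includeLeftRingHom : A →+* A ⊗[k] R)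
        (fun j => (1 : A) ⊗ₜ[k] r j)) =
      ((MvPolynomial.aeval (fun j => (1 : K) ⊗ₜ[k] r j) :
        MvPolynomial (Fin m) K →ₐ[K] K ⊗[k] R).toRingHom).comp
        (MvPolynomial.map (algebraMap A K)) := by
    apply MvPolynomial.ringHom_ext
    · intro a
      simp [Algebra.TensorProduct.algebraMap_apply]
    · intro j
      simp
  exact RingHom.congr_fun hcomp P₀

theorem iota_injective : Function.Injective
    (Algebra.TensorProduct.map ((integralClosure A L).val.restrictScalars k) (AlgHom.id k R)) := by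
  have h := Module.Flat.rTensor_preserves_injective_linearMap (M := R)
    (((integralClosure A L).val.restrictScalars k).toLinearMap) Subtype.val_injective
  have hcoe : ∀ w, LinearMap.rTensor R (((integralClosure A L).val.restrictScalars k).toLinearMap) w =
      Algebra.TensorProduct.map ((integralClosure A L).val.restrictScalars k) (AlgHom.id k R) w := by
    intro w
    induction w using TensorProduct.induction_on with
    | zero => simp
    | tmul x r => simp
    | add y z hy hz => rw [map_add, map_add, hy, hz]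
  intro y z hyz
  apply h
  rw [hcoe, hcoe]
  exact hyz

theorem exists_denominator (hL : Algebra.IsAlgebraic A L) (γ' : L ⊗[k] R) :
    ∃ a : A, a ≠ 0 ∧ ∃ γ : (integralClosure A L) ⊗[k] R,
      Algebra.TensorProduct.map ((integralClosure A L).val.restrictScalars k) (AlgHom.id k R) γ =
        ((algebraMap A L a) ⊗ₜ[k] (1 : R)) * γ' := by
  induction γ' using TensorProduct.induction_on with
  | zero => exact ⟨1, one_ne_zero, 0, by rw [map_zero, mul_zero]⟩
  | tmul l r =>
    have hl : IsAlgebraic A l := hL.isAlgebraic l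
    obtain ⟨y, hy, hint⟩ := hl.exists_integral_multiple
    refine ⟨y, hy, (⟨y • l, hint⟩ : integralClosure A L) ⊗ₜ[k] r, ?_⟩
    rw [Algebra.TensorProduct.map_tmul, Algebra.TensorProduct.tmul_mul_tmul, one_mul,
      ← Algebra.smul_def]
    rfl
  | add y z hy hz =>
    obtain ⟨a₁, ha₁, γ₁, h₁⟩ := hy
    obtain ⟨a₂, ha₂, γ₂, h₂⟩ := hz
    refine ⟨a₁ * a₂, mul_ne_zero ha₁ ha₂,
      ((algebraMap A (integralClosure A L) a₂) ⊗ₜ[k] (1 : R)) * γ₁ +
        ((algebraMap A (integralClosure A L) a₁) ⊗ₜ[k] (1 : R)) * γ₂, ?_⟩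
    have hc : ∀ a : A, Algebra.TensorProduct.map ((integralClosure A L).val.restrictScalars k)
        (AlgHom.id k R) ((algebraMap A (integralClosure A L) a) ⊗ₜ[k] (1 : R)) =
        (algebraMap A L a) ⊗ₜ[k] (1 : R) := by
      intro a
      rw [Algebra.TensorProduct.map_tmul]
      rfl
    have hm : (algebraMap A L (a₁ * a₂)) ⊗ₜ[k] (1 : R) =
        ((algebraMap A L a₁) ⊗ₜ[k] (1 : R)) * ((algebraMap A L a₂) ⊗ₜ[k] (1 : R)) := by
      rw [Algebra.TensorProduct.tmul_mul_tmul, mul_one, map_mul]
    rw [map_add, map_mul, map_mul, hc, hc, h₁, h₂, hm]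
    ring

theorem main :
    Module.Free (K ⊗[k] R) (L ⊗[k] R) ∧ Module.Finite (K ⊗[k] R) (L ⊗[k] R) ∧
      ∀ b : (integralClosure A L) ⊗[k] R,
        Algebra.norm (K ⊗[k] R)
            (Algebra.TensorProduct.map ((integralClosure A L).val.restrictScalars k) (AlgHom.id k R) b) ∈
          Set.range (Algebra.TensorProduct.map (IsScalarTower.toAlgHom k A K) (AlgHom.id k R)) ∧
        (IsRegular b ↔ IsRegular (Algebra.norm (K ⊗[k] R)
            (Algebra.TensorProduct.map ((integralClosure A L).val.restrictScalars k) (AlgHom.id k R) b))) := by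
  classical
  let 𝔟 : Module.Basis (Fin (Module.finrank K L)) (K ⊗[k] R) (L ⊗[k] R) :=
    (Algebra.TensorProduct.basis (K ⊗[k] R) (Module.finBasis K L)).map (e k K L R).toLinearEquiv
  refine ⟨Module.Free.of_basis 𝔟, Module.Finite.of_basis 𝔟, fun β => ⟨norm_mem k A K L R β, ?_⟩⟩
  obtain ⟨ιβ, hιβ⟩ : ∃ y, y = Algebra.TensorProduct.map
    ((integralClosure A L).val.restrictScalars k) (AlgHom.id k R) β := ⟨_, rfl⟩
  rw [← hιβ]
  constructor
  · intro hβ
    rw [← isLeftRegular_iff_isRegular, isLeftRegular_iff_right_eq_zero_of_mul]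
    intro c hc
    refine NormBC.eq_zero_of_mul_det_eq_zero 𝔟 (Algebra.lmul (K ⊗[k] R) (L ⊗[k] R) ιβ) ?_ c ?_
    · rw [injective_iff_map_eq_zero]
      intro γ' hγ'
      have hγ'' : ιβ * γ' = 0 := hγ'
      have hL : Algebra.IsAlgebraic A L :=
        (IsFractionRing.comap_isAlgebraic_iff (A := A) (K := K) (C := L)).mpr inferInstance
      obtain ⟨a, ha, γ, hγ⟩ := exists_denominator k A L R hL γ'
      have h1 : Algebra.TensorProduct.map ((integralClosure A L).val.restrictScalars k)
          (AlgHom.id k R) (β * γ) = 0 := by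
        rw [map_mul, hγ, ← hιβ, mul_left_comm, hγ'', mul_zero]
      have h2 : β * γ = 0 := iota_injective k A L R (by rw [h1, map_zero])
      have h3 : γ = 0 := (isLeftRegular_iff_right_eq_zero_of_mul.mp hβ.left) γ h2
      rw [h3, map_zero] at hγ
      have hα : algebraMap A L a ≠ 0 := by
        rw [IsScalarTower.algebraMap_apply A K L]
        exact (map_ne_zero_iff _ (algebraMap K L).injective).mpr
          ((map_ne_zero_iff _ (IsFractionRing.injective A K)).mpr ha)
      calc γ' = (((algebraMap A L a)⁻¹ ⊗ₜ[k] (1 : R)) * ((algebraMap A L a) ⊗ₜ[k] (1 : R))) * γ' := by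
            rw [Algebra.TensorProduct.tmul_mul_tmul, inv_mul_cancel₀ hα, mul_one,
              ← Algebra.TensorProduct.one_def, one_mul]
        _ = 0 := by rw [mul_assoc, ← hγ, mul_zero]
    · rw [mul_comm]
      exact hc
  · intro hN
    rw [← isLeftRegular_iff_isRegular, isLeftRegular_iff_right_eq_zero_of_mul]
    intro γ hγ
    apply iota_injective k A L R
    rw [map_zero]
    have h1 : (Algebra.lmul (K ⊗[k] R) (L ⊗[k] R) ιβ)
        (Algebra.TensorProduct.map ((integralClosure A L).val.restrictScalars k)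
          (AlgHom.id k R) γ) = 0 := by
      show ιβ * _ = 0
      rw [hιβ, ← map_mul, hγ, map_zero]
    have h2 := NormBC.det_smul_eq_zero_of_apply_eq_zero 𝔟 _ _ h1
    apply 𝔟.repr.injective
    rw [map_zero]
    ext i
    have h3 : (Algebra.norm (K ⊗[k] R) ιβ) * 𝔟.repr (Algebra.TensorProduct.map
        ((integralClosure A L).val.restrictScalars k) (AlgHom.id k R) γ) i = 0 := by
      have h4 : 𝔟.repr (LinearMap.det (Algebra.lmul (K ⊗[k] R) (L ⊗[k] R) ιβ) •
          (Algebra.TensorProduct.map ((integralClosure A L).val.restrictScalars k)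
            (AlgHom.id k R) γ)) i = (𝔟.repr 0) i := by rw [h2]
      rw [map_smul, map_zero, Finsupp.smul_apply, Finsupp.zero_apply, smul_eq_mul] at h4
      exact h4
    exact (isLeftRegular_iff_right_eq_zero_of_mul.mp hN.left) _ h3

end aux



/-- Let k be a field, A an integrally closed domain over k with fraction field K, L a finite extension
of K, B the integral closure of A in L, and R an arbitrary commutative k-algebra; view L ⊗_k R as an
algebra over K ⊗_k R through K → L. Then L ⊗_k R is finite free over K ⊗_k R, so the norm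
(determinant of multiplication) L ⊗_k R → K ⊗_k R is defined; the norm of any element β of B ⊗_k R
(mapped into L ⊗_k R) lies in the image of A ⊗_k R; and β is a nonzerodivisor in B ⊗_k R if and only
if its norm is a nonzerodivisor in K ⊗_k R. (Nonzerodivisors of A ⊗_k R are exactly its elements
that are nonzerodivisors in K ⊗_k R, the latter being a localisation of the former at
nonzerodivisors, so this is the source's formulation with the norm regarded in A ⊗_k R.) -/
theorem result (k A K L R : Type u) [Field k]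
    [CommRing A] [IsDomain A] [IsIntegrallyClosed A] [Algebra k A]
    [Field K] [Algebra A K] [IsFractionRing A K] [Algebra k K] [IsScalarTower k A K]
    [Field L] [Algebra K L] [FiniteDimensional K L] [Algebra A L] [IsScalarTower A K L]
    [Algebra k L] [IsScalarTower k K L] [IsScalarTower k A L]
    [CommRing R] [Algebra k R] :
    letI : Algebra (K ⊗[k] R) (L ⊗[k] R) :=
      (Algebra.TensorProduct.map (IsScalarTower.toAlgHom k K L) (AlgHom.id k R)).toRingHom.toAlgebra
    Module.Free (K ⊗[k] R) (L ⊗[k] R) ∧ Module.Finite (K ⊗[k] R) (L ⊗[k] R) ∧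
      ∀ b : (integralClosure A L) ⊗[k] R,
        Algebra.norm (K ⊗[k] R)
            (Algebra.TensorProduct.map ((integralClosure A L).val.restrictScalars k) (AlgHom.id k R) b) ∈
          Set.range (Algebra.TensorProduct.map (IsScalarTower.toAlgHom k A K) (AlgHom.id k R)) ∧
        (IsRegular b ↔ IsRegular (Algebra.norm (K ⊗[k] R)
            (Algebra.TensorProduct.map ((integralClosure A L).val.restrictScalars k) (AlgHom.id k R) b))) := by
  exact main k A K L R


end Groth.Agent.S17376
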