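import Groth.Statements.S17385
import Groth.Agent.Lib.Helper16.StrictClosed

set_option autoImplicit false
universe u
open BlowUp

namespace Groth.Agent.S17385

section helpers
open CategoryTheory CategoryTheory.Limits AlgebraicGeometry TopologicalSpace
open Groth.Agent.Lib.helper16.StrictClosed Groth.Agent.Lib.helper16.LocPrincipal
  Groth.Agent.Lib.helper16.EffCartier

theorem isAffineHom_ι_of_eq {X : Scheme.{u}} (W W' : X.Opens) (h : W = W')
    (hW' : IsAffineHom W'.ι) : IsAffineHom W.ι := by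
  subst h; exact hW'

theorem result'
    {X X' Z' : Scheme.{u}} (𝓘 𝓙 : X.IdealSheafData) (b : X' ⟶ X) (hb : BlowUp.IsBlowUp b 𝓘)
    (b' : Z' ⟶ 𝓙.subscheme) (hb' : BlowUp.IsBlowUp b' (𝓘.comap 𝓙.subschemeι))
    (k : Z' ⟶ X') (hk : k ≫ b = b' ≫ 𝓙.subschemeι) :
    IsClosedImmersion k ∧
      IsAffineHom ((k ⁻¹ᵁ (b ⁻¹ᵁ 𝓘.support.compl)).ι ≫ k) ∧
      ((k ⁻¹ᵁ (b ⁻¹ᵁ 𝓘.support.compl)).ι ≫ k).ker = k.ker := by
  -- `k` is a closed immersion
  obtain ⟨φ, hφ⟩ := exists_iso_of_isBlowUp _ b' (strictToZ 𝓘 𝓙 b) hb' (isBlowUp_strictToZ hb)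
  have hK : BlowUp.IsEffCartierIdeal (𝓘.comap (k ≫ b)) := by
    rw [hk, Scheme.IdealSheafData.comap_comp]; exact hb'.1
  have hkeq : k = φ.hom ≫ (torsionIdeal (excOnPullback 𝓘 𝓙 b)).subschemeι ≫
      pullback.snd 𝓙.subschemeι b := by
    refine (hb.2 Z' (k ≫ b) hK).unique rfl ?_
    rw [Category.assoc, Category.assoc, ← pullback.condition, hk, ← hφ]
    simp only [Category.assoc]
  have hcl : IsClosedImmersion k := by
    rw [hkeq]; infer_instance
  refine ⟨hcl, ?_⟩
  -- the open `W`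
  have hWeq : k ⁻¹ᵁ (b ⁻¹ᵁ 𝓘.support.compl) = ModPair.interior (𝓘.comap (k ≫ b)) := by
    ext x
    show _ ↔ x ∉ (𝓘.comap (k ≫ b)).support
    rw [Scheme.IdealSheafData.support_comap]
    rfl
  have haff : IsAffineHom (k ⁻¹ᵁ (b ⁻¹ᵁ 𝓘.support.compl)).ι :=
    isAffineHom_ι_of_eq _ _ hWeq
      (Groth.Agent.Lib.helper16.LocPrincipal.isAffineHom_interior_ι _ (isLocPrincipal_of_isEffCartier hK))
  refine ⟨inferInstance, ?_⟩
  rw [Scheme.Hom.ker_comp, ker_ι_eq_bot_of_isEffCartier _ hK _ (fun x hx => by rw [hWeq]; exact hx),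
    Scheme.IdealSheafData.map_bot]

end helpers


open AlgebraicGeometry CategoryTheory Limits TopologicalSpace in
/-- Let X be any scheme, I and J quasi-coherent ideals on X, b : X' → X a blowing up of X in I, Z ⊆ X
the closed subscheme of J, b' : Z' → Z a blowing up of Z in the inverse image ideal I·O_Z, and k :
Z' → X' the morphism with k ≫ b = b' ≫ (Z → X) (it exists and is unique by the universal property).
Then k is a closed immersion (its image is the strict transform of Z); writing U for the open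
complement of the support of I and W ⊆ Z' for the preimage of U, the restriction W → X' of k is an
affine morphism, and its scheme-theoretic image is the whole image of k: the kernel ideal sheaf of W
→ X' equals that of k. No Noetherian or finite-type hypothesis is needed. -/
theorem result
    {X X' Z' : Scheme.{u}} (𝓘 𝓙 : X.IdealSheafData) (b : X' ⟶ X) (hb : BlowUp.IsBlowUp b 𝓘)
    (b' : Z' ⟶ 𝓙.subscheme) (hb' : BlowUp.IsBlowUp b' (𝓘.comap 𝓙.subschemeι))
    (k : Z' ⟶ X') (hk : k ≫ b = b' ≫ 𝓙.subschemeι) :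
    IsClosedImmersion k ∧
      IsAffineHom ((k ⁻¹ᵁ (b ⁻¹ᵁ 𝓘.support.compl)).ι ≫ k) ∧
      ((k ⁻¹ᵁ (b ⁻¹ᵁ 𝓘.support.compl)).ι ≫ k).ker = k.ker := by
  exact result' 𝓘 𝓙 b hb b' hb' k hk

end Groth.Agent.S17385
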