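import Groth.Statements.S17392
import Groth.Agent.Lib.Helper16.FTIdeal

set_option autoImplicit false
universe u
open BlowUp

namespace Groth.Agent.S17392


section helpers
open CategoryTheory CategoryTheory.Limits AlgebraicGeometry TopologicalSpace
open Groth.Agent.Lib.helper16.FTIdeal Groth.Agent.Lib.helper16.BlowSep

theorem main
    {X₁ X₂ : Scheme.{u}} [CompactSpace X₁] [QuasiSeparatedSpace X₁] [CompactSpace X₂] [QuasiSeparatedSpace X₂]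
    (q : X₂ ⟶ X₁)
    (V₁ : X₁.Opens) (hV₁ : IsCompact (V₁ : Set X₁))
    (U : X₂.Opens) (hU : U ≤ q ⁻¹ᵁ V₁)
    (Z₁ : Set X₁) (hZ₁ : IsClosed Z₁) (hZ₁c : IsCompact Z₁ᶜ)
    (Z₂ : Set X₂) (hZ₂ : IsClosed Z₂) (hZ₂c : IsCompact Z₂ᶜ)
    (hYZ : (fun x => q x) ⁻¹' (Z₁ ∩ (V₁ : Set X₁)) ⊆ Z₂) :
    ∃ 𝓔 : X₁.IdealSheafData, BlowUp.IsFiniteTypeIdeal 𝓔 ∧ (𝓔.support : Set X₁) ⊆ Z₁ \ (V₁ : Set X₁) ∧
      ∀ (X₁' : Scheme.{u}) (c : X₁' ⟶ X₁), BlowUp.IsBlowUp c 𝓔 →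
        (fun z => (pullback.snd q c) z) ⁻¹' closure ((fun x => c x) ⁻¹' (Z₁ ∩ (V₁ : Set X₁))) ∩
            closure ((fun z => (pullback.fst q c) z) ⁻¹' (U : Set X₂)) ⊆
          (fun z => (pullback.fst q c) z) ⁻¹' Z₂ := by
  let O₁ : X₁.Opens := ⟨Z₁ᶜ, hZ₁.isOpen_compl⟩
  let W₂ : X₂.Opens := ⟨Z₂ᶜ, hZ₂.isOpen_compl⟩
  obtain ⟨𝓐, h𝓐ft, h𝓐s⟩ := exists_ft_ideal_support O₁ hZ₁c
  obtain ⟨𝓑, h𝓑ft, h𝓑s⟩ := exists_ft_ideal_support V₁ hV₁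
  have h𝓐s' : (𝓐.support : Set X₁) = Z₁ := by
    rw [h𝓐s]
    exact compl_compl Z₁
  let p : (W₂ : Scheme.{u}) ⟶ X₁ := W₂.ι ≫ q
  haveI : CompactSpace (W₂ : Scheme.{u}) := isCompact_iff_compactSpace.mp hZ₂c
  obtain ⟨n, hn⟩ := exists_pow_comap_le p 𝓐 𝓑 h𝓑ft (by
    intro z hz
    show p z ∈ (𝓑.support : Set X₁)
    rw [h𝓑s]
    intro hV
    have hz' : p z ∈ (𝓐.support : Set X₁) := hz
    rw [h𝓐s'] at hz'
    have h1 : W₂.ι z ∈ Z₂ := hYZ ⟨hz', hV⟩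
    exact z.2 h1)
  have hpow : 𝓑 ^ (n + 1) ≤ 𝓑 ^ n := by
    rw [Scheme.IdealSheafData.le_def]
    intro T
    rw [Scheme.IdealSheafData.ideal_pow, Scheme.IdealSheafData.ideal_pow, Pi.pow_apply,
      Pi.pow_apply]
    exact Ideal.pow_le_pow_right (Nat.le_succ n)
  have hsE : ((𝓐 ⊔ 𝓑 ^ (n + 1)).support : Set X₁) = Z₁ ∩ (V₁ : Set X₁)ᶜ := by
    rw [Scheme.IdealSheafData.support_sup, Scheme.IdealSheafData.support_pow_succ,
      TopologicalSpace.Closeds.coe_inf, h𝓐s', h𝓑s]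
  refine ⟨𝓐 ⊔ 𝓑 ^ (n + 1), ?_, ?_, ?_⟩
  · intro T
    rw [Scheme.IdealSheafData.ideal_sup, Pi.sup_apply, Scheme.IdealSheafData.ideal_pow,
      Pi.pow_apply]
    exact Submodule.FG.sup (h𝓐ft T) (Ideal.FG.pow (h𝓑ft T))
  · rw [hsE]
    exact fun x hx => ⟨hx.1, hx.2⟩
  · intro X₁' c hc z' hz'
    obtain ⟨hzA, hzB⟩ := hz'
    by_contra hz
    let Z' : (pullback q c).Opens := (pullback.fst q c) ⁻¹ᵁ W₂
    have hz'Z' : z' ∈ Z' := hz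
    let π' : (Z' : Scheme.{u}) ⟶ (W₂ : Scheme.{u}) := (pullback.fst q c) ∣_ W₂
    let p' : (Z' : Scheme.{u}) ⟶ X₁' := Z'.ι ≫ pullback.snd q c
    have hπ' : π' ≫ W₂.ι = Z'.ι ≫ pullback.fst q c := morphismRestrict_ι _ _
    have comm : π' ≫ p = p' ≫ c := by
      show π' ≫ W₂.ι ≫ q = (Z'.ι ≫ pullback.snd q c) ≫ c
      rw [← Category.assoc, hπ', Category.assoc, Category.assoc, pullback.condition]
    have hle : (𝓐 ⊔ 𝓑 ^ (n + 1)).comap p ≤ 𝓐.comap p ⊔ ⊥ := by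
      rw [Scheme.IdealSheafData.comap_sup]
      exact sup_le le_sup_left
        (((Scheme.IdealSheafData.comap_mono p hpow).trans hn).trans le_sup_left)
    have hoff : ∀ x : X₁, x ∈ V₁ → x ∉ (𝓐 ⊔ 𝓑 ^ (n + 1)).support := by
      intro x hx h
      have : x ∈ ((𝓐 ⊔ 𝓑 ^ (n + 1)).support : Set X₁) := h
      rw [hsE] at this
      exact this.2 hx
    have hptπ : ∀ w : (Z' : Scheme.{u}), W₂.ι (π' w) = pullback.fst q c (Z'.ι w) := fun w => by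
      have := congrArg (fun f : (Z' : Scheme.{u}) ⟶ X₂ => f w) hπ'
      simpa using this
    have hsep := sep c p π' p' comm (𝓐 ⊔ 𝓑 ^ (n + 1)) 𝓐 ⊥ hc.1 le_sup_left hle
      ((fun x => c x) ⁻¹' (Z₁ ∩ (V₁ : Set X₁)))
      (fun y hy => by
        show c y ∈ (𝓐.support : Set X₁)
        rw [h𝓐s']
        exact hy.1)
      (fun y hy => hoff _ hy.2)
      (Z'.ι ⁻¹' ((fun z => (pullback.fst q c) z) ⁻¹' (U : Set X₂)))
      (fun w _ => by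
        rw [Scheme.IdealSheafData.support_bot]
        trivial)
      (fun w hw => by
        apply hoff
        show q (W₂.ι (π' w)) ∈ V₁
        rw [hptπ]
        exact hU hw)
    let w : (Z' : Scheme.{u}) := ⟨z', hz'Z'⟩
    have hw : w ∈ p' ⁻¹' closure ((fun x => c x) ⁻¹' (Z₁ ∩ (V₁ : Set X₁))) ∩
        closure (Z'.ι ⁻¹' ((fun z => (pullback.fst q c) z) ⁻¹' (U : Set X₂))) := by
      refine ⟨hzA, ?_⟩
      rw [← Z'.ι.isOpenEmbedding.isOpenMap.preimage_closure_eq_closure_preimage Z'.ι.continuous]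
      exact hzB
    rw [hsep] at hw
    exact hw

end helpers



open AlgebraicGeometry CategoryTheory Limits in
/-- Let X₁ and X₂ be quasi-compact quasi-separated schemes, q : X₂ → X₁ a quasi-compact separated
morphism, V₁ ⊆ X₁ a quasi-compact open subscheme and U ⊆ q⁻¹(V₁) an open subscheme of X₂ on which q
restricts to an open immersion (so U is identified with an open of V₁). Let Z₁ ⊆ X₁ be a closed
subset whose open complement is quasi-compact, put Y₁ = Z₁ ∩ V₁, and let Z₂ ⊆ X₂ be a closed subset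
whose open complement is also quasi-compact, with q⁻¹(Y₁) ⊆ Z₂. Then there is a quasi-coherent ideal
E of finite type on X₁ with support contained in Z₁ ∖ V₁ (so that blowing up E is V₁-admissible)
such that, for every blowing up c : X₁' → X₁ of X₁ in E with base change q' : X₂' = X₂ ×_{X₁} X₁' →
X₁' and c₂ : X₂' → X₂, one has q'⁻¹(closure of c⁻¹(Y₁)) ∩ closure(c₂⁻¹(U)) ⊆ c₂⁻¹(Z₂) as subsets of
X₂'. -/
theorem result
    {X₁ X₂ : Scheme.{u}} [CompactSpace X₁] [QuasiSeparatedSpace X₁] [CompactSpace X₂] [QuasiSeparatedSpace X₂]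
    (q : X₂ ⟶ X₁) [QuasiCompact q] [IsSeparated q]
    (V₁ : X₁.Opens) (hV₁ : IsCompact (V₁ : Set X₁))
    (U : X₂.Opens) (hU : U ≤ q ⁻¹ᵁ V₁) [IsOpenImmersion (U.ι ≫ q)]
    (Z₁ : Set X₁) (hZ₁ : IsClosed Z₁) (hZ₁c : IsCompact Z₁ᶜ)
    (Z₂ : Set X₂) (hZ₂ : IsClosed Z₂) (hZ₂c : IsCompact Z₂ᶜ)
    (hYZ : (fun x => q x) ⁻¹' (Z₁ ∩ (V₁ : Set X₁)) ⊆ Z₂) :
    ∃ 𝓔 : X₁.IdealSheafData, BlowUp.IsFiniteTypeIdeal 𝓔 ∧ (𝓔.support : Set X₁) ⊆ Z₁ \ (V₁ : Set X₁) ∧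
      ∀ (X₁' : Scheme.{u}) (c : X₁' ⟶ X₁), BlowUp.IsBlowUp c 𝓔 →
        (fun z => (pullback.snd q c) z) ⁻¹' closure ((fun x => c x) ⁻¹' (Z₁ ∩ (V₁ : Set X₁))) ∩
            closure ((fun z => (pullback.fst q c) z) ⁻¹' (U : Set X₂)) ⊆
          (fun z => (pullback.fst q c) z) ⁻¹' Z₂ := by
  exact main q V₁ hV₁ U hU Z₁ hZ₁ hZ₁c Z₂ hZ₂ hZ₂c hYZ

end Groth.Agent.S17392
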