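import Groth.Statements.S17396
import Mathlib
import Groth.Agent.Lib.Helper8.CycEt3
-- import your own Groth.Agent.* helpers here

set_option autoImplicit false
universe u
open CycCov

namespace Groth.Agent.S17396

open CategoryTheory AlgebraicGeometry Groth.Agent.Lib.helper8.CycEt
open Groth.Agent.Lib.Helper12.NormSec

theorem main {k : Type u} [Field k] {X Y : Scheme.{u}}
    (f : X ⟶ Spec (CommRingCat.of k)) [Smooth f] [IsIntegral X]
    (L : X.Modules) (hL : PicF.IsInvertible L) (N : ℕ) (hN : 0 < N) (hNk : (N : k) ≠ 0)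
    {r : ℕ} (D : Fin r → X.IdealSheafData) (α : Fin r → ℕ)
    (s : Coh.structureModule X ⟶ CohB1.tensorPow L N)
    (hs : CycCov.IsZeroDiv (CohB1.tensorPow L N) s (CycCov.divIdeal D α))
    (π : Y ⟶ X) (R : CycCov.Root L N s π) (hR : CycCov.IsCover R)
    (W : X.Opens) (hW : ∀ j : Fin r, 0 < α j → Disjoint (W : Set X) ((D j).support : Set X)) :
    Etale (π ∣_ W) := by
  obtain ⟨hfin, hY, W₀, hW₀, hpre, hch⟩ := hR
  haveI := hfin
  have hX := isNormal_of_smooth_field f
  apply etale_restrict_of_cover
  intro x hxW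
  obtain ⟨U₀, hxU₀, hT⟩ := hL x
  obtain ⟨U, hU, hxU, hUle⟩ := exists_isAffineOpen_mem_and_subset (x := x) (U := U₀ ⊓ W)
    ⟨hxU₀, hxW⟩
  obtain ⟨e, hgen⟩ := exists_isGen_of_isTrivOn hT (hUle.trans inf_le_left)
  have he : Function.Bijective (fun a : Γ(X, U) => a • e) := by
    have := hgen U le_rfl
    rw [rs_self] at this
    exact this
  have hI := ideal_divIdeal_eq_top D α ⟨U, hU⟩
    (fun j hj => (hW j hj).mono_left (hUle.trans inf_le_right))
  obtain ⟨f', hfu, hf'⟩ := exists_isUnit_of_isZeroDiv hL s _ hs ⟨U, hU⟩ e he hI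
  haveI : Nonempty U := ⟨⟨x, hxU⟩⟩
  refine ⟨U, hxU, hUle.trans inf_le_right, etale_restrict_of_app π U hU ?_⟩
  exact etale_app R hN W₀ hch ⟨U, hU⟩ e hgen he f' hf' hX hY hW₀ hpre hfu
    (isUnit_natCast_of_field f N hNk U)


open CategoryTheory AlgebraicGeometry in
/-- For X integral and smooth over an algebraically closed field k, L an invertible module, N ≥ 1
invertible in k, D_1, …, D_r a strict normal crossing divisor on X with multiplicities α_j, s a
global section of the N-th tensor power of L whose divisor of zeros is D = Σ α_j D_j, and π : Y → X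
with its root datum the normalised cyclic N-th-root cover of X defined by s, the morphism π is étale
over every open W of X disjoint from the components D_j with α_j > 0. (The published claim allows
any effective divisor on a manifold; it is stated here for components forming a strict normal
crossing divisor.) -/
theorem result {k : Type u} [Field k] [IsAlgClosed k] {X Y : Scheme.{u}}
    (f : X ⟶ Spec (CommRingCat.of k)) [Smooth f] [IsIntegral X]
    (L : X.Modules) (hL : PicF.IsInvertible L) (N : ℕ) (hN : 0 < N) (hNk : (N : k) ≠ 0)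
    {r : ℕ} (D : Fin r → X.IdealSheafData) (α : Fin r → ℕ) (hD : LogNCD.IsNCD D f)
    (s : Coh.structureModule X ⟶ CohB1.tensorPow L N) (hs : CycCov.IsZeroDiv (CohB1.tensorPow L N) s (CycCov.divIdeal D α))
    (π : Y ⟶ X) (R : CycCov.Root L N s π) (hR : CycCov.IsCover R)
    (W : X.Opens) (hW : ∀ j : Fin r, 0 < α j → Disjoint (W : Set X) ((D j).support : Set X)) :
    Etale (π ∣_ W) := by
  exact main f L hL N hN hNk D α s hs π R hR W hW

end Groth.Agent.S17396
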