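import Groth.Statements.S17397
import Mathlib
import Groth.Agent.S17396
import Groth.Agent.Lib.Helper8.CycSm3
-- import your own Groth.Agent.* helpers here

set_option autoImplicit false
universe u
open CycCov

namespace Groth.Agent.S17397

open CategoryTheory AlgebraicGeometry Groth.Agent.Lib.helper8.CycEt
open Groth.Agent.Lib.Helper12.NormSec

theorem main {k : Type u} [Field k] [IsAlgClosed k] {X Y : Scheme.{u}}
    (f : X ⟶ Spec (CommRingCat.of k)) [Smooth f] [IsIntegral X]
    (L : X.Modules) (hL : PicF.IsInvertible L) (N : ℕ) (hN : 0 < N) (hNk : (N : k) ≠ 0)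
    {r : ℕ} (D : Fin r → X.IdealSheafData) (α : Fin r → ℕ) (hD : LogNCD.IsNCD D f)
    (s : Coh.structureModule X ⟶ CohB1.tensorPow L N) (hs : CycCov.IsZeroDiv (CohB1.tensorPow L N) s (CycCov.divIdeal D α))
    (π : Y ⟶ X) (R : CycCov.Root L N s π) (hR : CycCov.IsCover R)
    (W : X.Opens) (hW : ∀ x ∈ W, ∀ j j' : Fin r, 0 < α j → 0 < α j' → x ∈ (D j).support → x ∈ (D j').support → j = j') :
    Smooth ((π ⁻¹ᵁ W).ι ≫ π ≫ f) := by
  haveI : IsFinite π := hR.1
  apply smooth_ι_comp_of_cover
  intro y hy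
  have hxW : π y ∈ W := hy
  by_cases hcase : ∃ j, 0 < α j ∧ π y ∈ (D j).support
  · -- case B
    obtain ⟨j, hαj, hxj⟩ := hcase
    obtain ⟨W₁, hxW₁, n, v, e', hinj, hEt, hDi, hDo⟩ := hD (π y) ⟨⟨j, hxj⟩⟩
    obtain ⟨U₀, hxU₀, hT⟩ := hL (π y)
    obtain ⟨U, hU, hxU, hUle⟩ := exists_isAffineOpen_mem_and_subset (x := π y)
      (U := U₀ ⊓ W ⊓ W₁) ⟨⟨hxU₀, hxW⟩, hxW₁⟩
    obtain ⟨e, hgen⟩ := exists_isGen_of_isTrivOn hT (hUle.trans (inf_le_left.trans inf_le_left))
    haveI : Nonempty U := ⟨⟨π y, hxU⟩⟩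
    haveI := hEt
    have hUW₁ : U ≤ W₁ := hUle.trans inf_le_right
    have hUW : U ≤ W := hUle.trans (inf_le_left.trans inf_le_right)
    have key := smooth_app_of_one_component f hL hN hNk D α hs R hR W₁ (ULift (Fin n)) v ⟨U, hU⟩
      hUW₁ j (ULift.up (e' ⟨j, hxj⟩)) hαj (hDi ⟨j, hxj⟩ ⟨U, hU⟩ hUW₁) ?_ e hgen
    · refine ⟨π ⁻¹ᵁ U, hxU, ?_, ?_⟩
      · exact fun z hz => hUW hz
      · apply smooth_ι_comp_of_appLE (π ≫ f) (π ⁻¹ᵁ U) (hU.preimage π) (fun _ _ => trivial)
        have h1 : (π ≫ f).appLE ⊤ (π ⁻¹ᵁ U) (fun _ _ => trivial) =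
            f.appLE ⊤ U (fun _ _ => trivial) ≫ π.app U := by
          rw [Scheme.Hom.app_eq_appLE, Scheme.Hom.appLE_comp_appLE]
        rw [h1]
        exact key
    · intro i hij hαi
      apply hDo i _ ⟨U, hU⟩ hUW₁
      intro hxi
      exact hij (hW (π y) hxW i j hαi hαj hxi hxj)
  · -- case A
    push Not at hcase
    have hZ : IsClosed (⋃ j ∈ {j : Fin r | 0 < α j}, ((D j).support : Set X)) :=
      Set.Finite.isClosed_biUnion (Set.toFinite _) (fun j _ => (D j).support.isClosed)
    let W' : X.Opens := W ⊓ ⟨_, hZ.isOpen_compl⟩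
    have hxW' : π y ∈ W' := by
      refine ⟨hxW, ?_⟩
      change π y ∉ _
      simp only [Set.mem_iUnion, not_exists]
      intro j hj hx
      exact hcase j hj hx
    have hW'd : ∀ j : Fin r, 0 < α j → Disjoint (W' : Set X) ((D j).support : Set X) := by
      intro j hj
      rw [Set.disjoint_left]
      intro x hx hxs
      exact hx.2 (Set.mem_biUnion (show j ∈ {j : Fin r | 0 < α j} from hj) hxs)
    haveI hE : Etale (π ∣_ W') :=
      Groth.Agent.S17396.result f L hL N hN hNk D α hD s hs π R hR W' hW'd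
    refine ⟨π ⁻¹ᵁ W', hxW', ?_, ?_⟩
    · exact fun z hz => (inf_le_left : W' ≤ W) hz
    · rw [← Category.assoc, ← morphismRestrict_ι, Category.assoc]
      infer_instance


open CategoryTheory AlgebraicGeometry in
/-- For X integral and smooth over an algebraically closed field k, L an invertible module, N ≥ 1
invertible in k, D_1, …, D_r a strict normal crossing divisor on X with multiplicities α_j, s a
global section of the N-th tensor power of L whose divisor of zeros is D = Σ α_j D_j, and π : Y → X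
with its root datum the normalised cyclic N-th-root cover of X defined by s, the open π⁻¹W of Y is
smooth over k (Y is non-singular there) for every open W of X through each point of which at most
one of the components D_j with α_j > 0 passes, that is, W avoids the singular points of the reduced
divisor of D. (The published claim allows any effective divisor on a manifold; it is stated here for
components forming a strict normal crossing divisor.) -/
theorem result {k : Type u} [Field k] [IsAlgClosed k] {X Y : Scheme.{u}}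
    (f : X ⟶ Spec (CommRingCat.of k)) [Smooth f] [IsIntegral X]
    (L : X.Modules) (hL : PicF.IsInvertible L) (N : ℕ) (hN : 0 < N) (hNk : (N : k) ≠ 0)
    {r : ℕ} (D : Fin r → X.IdealSheafData) (α : Fin r → ℕ) (hD : LogNCD.IsNCD D f)
    (s : Coh.structureModule X ⟶ CohB1.tensorPow L N) (hs : CycCov.IsZeroDiv (CohB1.tensorPow L N) s (CycCov.divIdeal D α))
    (π : Y ⟶ X) (R : CycCov.Root L N s π) (hR : CycCov.IsCover R)
    (W : X.Opens) (hW : ∀ x ∈ W, ∀ j j' : Fin r, 0 < α j → 0 < α j' → x ∈ (D j).support → x ∈ (D j').support → j = j') :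
    Smooth ((π ⁻¹ᵁ W).ι ≫ π ≫ f) := by
  exact main f L hL N hN hNk D α hD s hs π R hR W hW

end Groth.Agent.S17397
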