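import Groth.Statements.S17399
import Mathlib
import Groth.Agent.Lib.Helper8.CycRad2
import Groth.Agent.Lib.Helper16.IdealComapPow
-- import your own Groth.Agent.* helpers here

set_option autoImplicit false
universe u
open CycCov

namespace Groth.Agent.S17399

open CategoryTheory AlgebraicGeometry Groth.Agent.Lib.helper8.CycEt

/-- pull-back of ideal sheaves as a monoid homomorphism -/
noncomputable def comapHom {X Y : Scheme.{u}} (π : Y ⟶ X) : X.IdealSheafData →* Y.IdealSheafData where
  toFun I := I.comap π
  map_one' := Groth.Agent.Lib.helper16.IdealComapPow.comap_one π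
  map_mul' I J := Groth.Agent.Lib.helper16.IdealComapPow.comap_mul π I J

theorem main {k : Type u} [Field k] {X Y : Scheme.{u}}
    (f : X ⟶ Spec (CommRingCat.of k)) [Smooth f] [IsIntegral X]
    (L : X.Modules) (hL : PicF.IsInvertible L) (N : ℕ) (hN : 0 < N) (hNk : (N : k) ≠ 0)
    {r : ℕ} (D : Fin r → X.IdealSheafData) (α : Fin r → ℕ) (hD : LogNCD.IsNCD D f)
    (s : Coh.structureModule X ⟶ CohB1.tensorPow L N) (hs : CycCov.IsZeroDiv (CohB1.tensorPow L N) s (CycCov.divIdeal D α))
    (π : Y ⟶ X) (R : CycCov.Root L N s π) (hR : CycCov.IsCover R)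
    (W : X.Opens) (hW : ∀ x ∈ W, ∀ j j' : Fin r, x ∈ (D j).support → x ∈ (D j').support → j = j')
    (V : Y.affineOpens) (hV : V.1 ≤ π ⁻¹ᵁ W) :
    ((CycCov.divIdeal D α).comap π).ideal V = (∏ j : Fin r, ((D j).comap π).radical ^ (N * α j / Nat.gcd N (α j))).ideal V := by
  have hcomap : (CycCov.divIdeal D α).comap π = ∏ j : Fin r, ((D j).comap π) ^ α j := by
    unfold CycCov.divIdeal
    change comapHom π (∏ j, D j ^ α j) = _
    rw [map_prod]
    apply Finset.prod_congr rfl
    intro j _
    rw [map_pow]
    rfl
  rw [hcomap]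
  change idealHom V (∏ j : Fin r, ((D j).comap π) ^ α j) =
    idealHom V (∏ j : Fin r, ((D j).comap π).radical ^ (N * α j / Nat.gcd N (α j)))
  rw [map_prod, map_prod]
  apply Finset.prod_congr rfl
  intro j _
  rw [map_pow, map_pow]
  change (((D j).comap π).ideal V) ^ α j =
    (((D j).comap π).radical.ideal V) ^ (N * α j / Nat.gcd N (α j))
  rw [ramification f hL hN hNk D α hs R hR hD W hW j V hV]
  change ((((D j).comap π).radical.ideal V) ^ (N / Nat.gcd N (α j))) ^ α j = _
  rw [← pow_mul]
  congr 1
  rw [mul_comm N (α j), Nat.mul_div_assoc _ (Nat.gcd_dvd_left N (α j)), mul_comm]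


open CategoryTheory AlgebraicGeometry in
/-- For X integral and smooth over an algebraically closed field k, L an invertible module, N ≥ 1
invertible in k, D_1, …, D_r a strict normal crossing divisor on X with multiplicities α_j, s a
global section of the N-th tensor power of L whose divisor of zeros is D = Σ α_j D_j, and π : Y → X
with its root datum the normalised cyclic N-th-root cover of X defined by s, write Δ_j for the
reduced preimage of D_j. Then π^*D = Σ_j (N·α_j / gcd(N, α_j)) Δ_j. This is an equality of divisors
on the normal scheme Y; it is stated here as an equality of ideals over the affine opens V of Y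
lying over an open W of X through each point of which at most one component D_j passes (there Y is
regular and Δ_j is Cartier): the pull-back of ∏ 𝓘_{D_j}^{α_j} agrees on V with ∏_j
rad(π^*𝓘_{D_j})^{N α_j / gcd(N, α_j)}. (Where two components meet the ideal-theoretic equality fails
although the divisors agree.) (The published claim allows any effective divisor on a manifold; it is
stated here for components forming a strict normal crossing divisor.) -/
theorem result {k : Type u} [Field k] [IsAlgClosed k] {X Y : Scheme.{u}}
    (f : X ⟶ Spec (CommRingCat.of k)) [Smooth f] [IsIntegral X]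
    (L : X.Modules) (hL : PicF.IsInvertible L) (N : ℕ) (hN : 0 < N) (hNk : (N : k) ≠ 0)
    {r : ℕ} (D : Fin r → X.IdealSheafData) (α : Fin r → ℕ) (hD : LogNCD.IsNCD D f)
    (s : Coh.structureModule X ⟶ CohB1.tensorPow L N) (hs : CycCov.IsZeroDiv (CohB1.tensorPow L N) s (CycCov.divIdeal D α))
    (π : Y ⟶ X) (R : CycCov.Root L N s π) (hR : CycCov.IsCover R)
    (W : X.Opens) (hW : ∀ x ∈ W, ∀ j j' : Fin r, x ∈ (D j).support → x ∈ (D j').support → j = j')
    (V : Y.affineOpens) (hV : V.1 ≤ π ⁻¹ᵁ W) :
    ((CycCov.divIdeal D α).comap π).ideal V = (∏ j : Fin r, ((D j).comap π).radical ^ (N * α j / Nat.gcd N (α j))).ideal V := by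
  exact main f L hL N hN hNk D α hD s hs π R hR W hW V hV

end Groth.Agent.S17399
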