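import Groth.Statements.S1740
import Groth.Agent.Lib.Helper7.TorAPI5
import Groth.Agent.Lib.Helper7.FactorFree

set_option autoImplicit false
universe u
open CategoryTheory
attribute [local instance] HasDerivedCategory.standard
open LocCoh

namespace Groth.Agent.S1740


open Groth.Agent.Lib.helper7 CategoryTheory

/-- Let α : M → M' be a map of R-modules with M finitely presented such that the induced map Tor_1(M, N)
→ Tor_1(M', N) is zero for every R-module N. Then α is the composite of a map from M into a free
R-module and a map from that free module to M'. -/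
theorem result (R : Type u) [CommRing R] (M M' : Type u) [AddCommGroup M] [Module R M] [Module.FinitePresentation R M] [AddCommGroup M'] [Module R M'] (α : M →ₗ[R] M') (h : ∀ (N : Type u) [AddCommGroup N] [Module R N], ((CategoryTheory.Tor (ModuleCat.{u} R) 1).map (ModuleCat.ofHom α)).app (ModuleCat.of R N) = 0) : ∃ (ι : Type u) (g : M →ₗ[R] (ι →₀ R)) (h : (ι →₀ R) →ₗ[R] M'), α = h ∘ₗ g := by
  classical
  obtain ⟨n, K, e, hKfg⟩ := Module.FinitePresentation.exists_fin R M
  obtain ⟨m, k, hk⟩ := Submodule.fg_iff_exists_fin_generating_family.1 hKfg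
  -- the presentation π : Rⁿ → M
  let π : (Fin n → R) →ₗ[R] M := e.symm.toLinearMap ∘ₗ K.mkQ
  have hπ : Function.Surjective π := e.symm.surjective.comp (Submodule.mkQ_surjective K)
  have hKer : LinearMap.ker π = Submodule.span R (Set.range k) := by
    rw [hk]
    ext v
    rw [LinearMap.mem_ker]
    change e.symm (K.mkQ v) = 0 ↔ _
    rw [LinearEquiv.map_eq_zero_iff, Submodule.mkQ_apply, Submodule.Quotient.mk_eq_zero]
  have hkπ : ∀ i, π (k i) = 0 := by
    intro i
    have : k i ∈ LinearMap.ker π := by
      rw [hKer]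
      exact Submodule.subset_span ⟨i, rfl⟩
    exact this
  -- the test module
  have hex : Function.Exact (LinearMap.range (FactorFree.B k)).subtype
      (LinearMap.range (FactorFree.B k)).mkQ := LinearMap.exact_subtype_mkQ _
  have hS := ModSES.mkSES_shortExact _ _ hex (Submodule.injective_subtype _)
    (Submodule.mkQ_surjective _)
  haveI : Projective (ModSES.mkSES _ _ hex).X₂ := by
    change Projective (ModuleCat.of R (Fin m → R))
    exact ModuleCat.projective_of_free (Pi.basisFun R (Fin m))
  obtain ⟨d, d', hd, hdr, hd', hdr', hnat⟩ :=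
    TorAPI.exists_linearMap_tor_one_natural hS (ModuleCat.ofHom α)
      (TorAPI.isZero_T_projective _ _ 0) (TorAPI.isZero_T_projective _ _ 0)
  have hξ : FactorFree.ξ k π ∈ LinearMap.range d := by
    rw [hdr]
    exact FactorFree.lTensor_ξ k π hkπ
  obtain ⟨t, ht⟩ := hξ
  have h0 := h ((Fin m → R) ⧸ LinearMap.range (FactorFree.B k))
  have h1 := hnat t
  have h2 : (TorAPI.T₁map 1 (ModuleCat.ofHom α) (ModSES.mkSES _ _ hex).X₃).hom t = 0 := by
    have : TorAPI.T₁map 1 (ModuleCat.ofHom α) (ModSES.mkSES _ _ hex).X₃ = 0 := h0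
    rw [this]
    rfl
  rw [h2, map_zero, ht] at h1
  exact FactorFree.exists_factor k π α hπ hKer h1.symm

end Groth.Agent.S1740
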