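import Groth.Statements.S17403
import Mathlib
import Groth.Agent.Lib.Helper8.CycIrr3
-- import your own Groth.Agent.* helpers here

set_option autoImplicit false
universe u
open CycCov

namespace Groth.Agent.S17403

open CategoryTheory AlgebraicGeometry Opposite TopologicalSpace
open Groth.Agent.Lib.helper8.CycEt Groth.Agent.Lib.helper8.CycIrr Groth.Agent.Lib.Helper12.NormSec
open Groth.Agent.Lib.helper12.TwistExtend Groth.Agent.Lib.helper12.AmpleBasis

theorem main {k : Type u} [Field k] [IsAlgClosed k] {X Y : Scheme.{u}}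
    (f : X ⟶ Spec (CommRingCat.of k)) [Smooth f] [IsIntegral X]
    (L : X.Modules) (hL : PicF.IsInvertible L) (N : ℕ) (hN : 0 < N)
    (s : Coh.structureModule X ⟶ CohB1.tensorPow L N)
    (π : Y ⟶ X) (R : CycCov.Root L N s π) (hR : CycCov.IsCover R) :
    ¬ IrreducibleSpace Y ↔
      ∃ μ : ℕ, 1 < μ ∧ μ ∣ N ∧ ∃ s' : Coh.structureModule X ⟶ CohB1.tensorPow L (N / μ),
        ∀ (U : X.affineOpens) (e : L.val.obj (op U.1)), CycCov.IsGen L U.1 e →
          ∀ a b : Γ(X, U.1), SecTwist.val s U.1 = a • CycCov.lpow L U.1 e N →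
            SecTwist.val s' U.1 = b • CycCov.lpow L U.1 e (N / μ) → a = b ^ μ := by
  have hX := isNormal_of_smooth_field f
  constructor
  · intro hirr
    have hneg : ∀ U : X.Opens, ∃ i : Γ(X, U), i ^ 2 = -1 := by
      intro U
      let φ : k →+* Γ(X, U) := (X.presheaf.map (homOfLE (le_top : U ≤ ⊤)).op).hom.comp
        (f.appTop.hom.comp (Scheme.ΓSpecIso (CommRingCat.of k)).inv.hom)
      obtain ⟨z, hz⟩ := IsAlgClosed.exists_pow_nat_eq (-1 : k) (n := 2) (by norm_num)
      exact ⟨φ z, by rw [← map_pow, hz, map_neg, map_one]⟩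
    obtain ⟨p, U₀, e₀, a₀, c₀, hp, hpN, hne₀, hgen₀, ha₀, hc₀⟩ :=
      exists_prime_root hL hN R hR hX hneg hirr
    obtain ⟨d, hd⟩ := hpN
    have hNpd : N = d * p := by rw [hd, mul_comm]
    have hdiv : N / p = d := by
      rw [hd]
      exact Nat.mul_div_cancel_left d hp.pos
    obtain ⟨T, hT⟩ := exists_global_root hL hX hp.pos hNpd U₀ e₀ a₀ c₀ hne₀ ha₀ hc₀
    refine ⟨p, hp.one_lt, ⟨d, hd⟩, ?_⟩
    rw [hdiv]
    refine ⟨homOfSec (CohB1.tensorPow L d) T, ?_⟩
    intro U e he a b hsU hs'U
    by_cases hne : (U.1 : Set X).Nonempty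
    · obtain ⟨x, hxU⟩ := hne
      obtain ⟨V, ε, hxV, hVU, hgenε⟩ := exists_frame hL x U.1 hxU
      haveI : Nonempty V.1 := ⟨⟨x, hxV⟩⟩
      haveI : Nonempty U.1 := ⟨⟨x, hxU⟩⟩
      obtain ⟨g, hg⟩ := (isGen_self hgenε).2 (rs L hVU e)
      have hg' : g • ε = rs L hVU e := hg
      have hg0 : g ≠ 0 := by
        rintro rfl
        rw [zero_smul] at hg'
        have he0 : e = 0 := rs_injective hL hVU ⟨x, hxV⟩ e 0 (hg'.symm.trans (rs_zero L hVU).symm)
        have : (1 : Γ(X, U.1)) = 0 := by
          apply he.1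
          change (1 : Γ(X, U.1)) • e = (0 : Γ(X, U.1)) • e
          rw [he0, smul_zero, smul_zero]
        exact one_ne_zero this
      obtain ⟨aV, haV⟩ := exists_coeff hL V ε (isGen_self hgenε) N s
      obtain ⟨cV, hcV, hTV⟩ := hT V ε hgenε aV ⟨x, hxV⟩ haV
      have h1 : SecTwist.val s V.1 = rf hVU a • lpow L (rs L hVU e) N :=
        val_res hVU e a N s hsU
      have h2 : SecTwist.val (homOfSec (CohB1.tensorPow L d) T) V.1 =
          rf hVU b • lpow L (rs L hVU e) d := val_res hVU e b d _ hs'U
      have hl : ∀ n : ℕ, lpow L (rs L hVU e) n = g ^ n • lpow L ε n := by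
        intro n
        rw [← hg']
        exact lpow_smul L g ε n
      have hbN := bijective_smul_lpow hL V.2 ε (isGen_self hgenε) N
      have hbd := bijective_smul_lpow hL V.2 ε (isGen_self hgenε) d
      have e1 : aV = rf hVU a * g ^ N := by
        apply hbN.1
        change aV • lpow L ε N = (rf hVU a * g ^ N) • lpow L ε N
        rw [mul_smul, ← hl, ← h1, haV, lpow_eq]
        rfl
      have e2 : cV = rf hVU b * g ^ d := by
        apply hbd.1
        change cV • lpow L ε d = (rf hVU b * g ^ d) • lpow L ε d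
        rw [mul_smul, ← hl, ← h2, val_homOfSec, hTV]
      have e3 : rf hVU a * g ^ N = rf hVU (b ^ p) * g ^ N := by
        rw [← e1, ← hcV, e2, mul_pow, ← pow_mul, ← hNpd, rf_pow]
      have e4 : rf hVU a = rf hVU (b ^ p) := mul_right_cancel₀ (pow_ne_zero N hg0) e3
      exact map_injective_of_isIntegral X (homOfLE hVU) e4
    · haveI := subsingleton_of_not_nonempty U.1 hne
      exact Subsingleton.elim _ _
  · rintro ⟨μ, hμ, hμN, s', hs'⟩
    apply not_irreducibleSpace_of_pow hL hN R hR μ hμ hμN
    intro U e hgen a ha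
    obtain ⟨b, hb⟩ := exists_coeff hL U e (isGen_self hgen) (N / μ) s'
    exact ⟨b, hs' U e (isGen_self hgen) a b ha hb⟩


open CategoryTheory AlgebraicGeometry Opposite in
/-- For X integral and smooth over an algebraically closed field k, L an invertible module, N ≥ 1
invertible in k, D_1, …, D_r a strict normal crossing divisor on X with multiplicities α_j, s a
global section of the N-th tensor power of L whose divisor of zeros is D = Σ α_j D_j, and π : Y → X
with its root datum the normalised cyclic N-th-root cover of X defined by s, the scheme Y fails to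
be irreducible exactly when, for some divisor μ > 1 of N, s is the μ-th power of a global section s'
of the (N/μ)-th tensor power of L; the power relation is stated frame by frame: on every affine open
with a frame e of L, if s = a · e^{⊗N} and s' = b · e^{⊗(N/μ)} then a = b^μ. (The published claim
allows any effective divisor on a manifold; it is stated here for components forming a strict normal
crossing divisor.) -/
theorem result {k : Type u} [Field k] [IsAlgClosed k] {X Y : Scheme.{u}}
    (f : X ⟶ Spec (CommRingCat.of k)) [Smooth f] [IsIntegral X]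
    (L : X.Modules) (hL : PicF.IsInvertible L) (N : ℕ) (hN : 0 < N) (hNk : (N : k) ≠ 0)
    {r : ℕ} (D : Fin r → X.IdealSheafData) (α : Fin r → ℕ) (hD : LogNCD.IsNCD D f)
    (s : Coh.structureModule X ⟶ CohB1.tensorPow L N) (hs : CycCov.IsZeroDiv (CohB1.tensorPow L N) s (CycCov.divIdeal D α))
    (π : Y ⟶ X) (R : CycCov.Root L N s π) (hR : CycCov.IsCover R) :
    ¬ IrreducibleSpace Y ↔
      ∃ μ : ℕ, 1 < μ ∧ μ ∣ N ∧ ∃ s' : Coh.structureModule X ⟶ CohB1.tensorPow L (N / μ),
        ∀ (U : X.affineOpens) (e : L.val.obj (op U.1)), CycCov.IsGen L U.1 e →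
          ∀ a b : Γ(X, U.1), SecTwist.val s U.1 = a • CycCov.lpow L U.1 e N →
            SecTwist.val s' U.1 = b • CycCov.lpow L U.1 e (N / μ) → a = b ^ μ := by
  exact main f L hL N hN s π R hR

end Groth.Agent.S17403
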