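import Groth.Statements.S17407
import Mathlib
import Groth.Agent.Lib.Helper8.CycNcd4
-- import your own Groth.Agent.* helpers here

set_option autoImplicit false
universe u
open CycCov

namespace Groth.Agent.S17407

open CategoryTheory AlgebraicGeometry Opposite TopologicalSpace
open Groth.Agent.Lib.helper8.CycEt Groth.Agent.Lib.helper8.CycNcd Groth.Agent.Lib.Helper12.NormSec

theorem main {k : Type u} [Field k] {X Y : Scheme.{u}}
    (f : X ⟶ Spec (CommRingCat.of k)) [Smooth f] [IsIntegral X]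
    (L : X.Modules) (hL : PicF.IsInvertible L) (N : ℕ) (hN : 0 < N) (hNk : (N : k) ≠ 0)
    {r : ℕ} (D : Fin r → X.IdealSheafData) (α : Fin r → ℕ) (hD : LogNCD.IsNCD D f)
    (s : Coh.structureModule X ⟶ CohB1.tensorPow L N)
    (hs : CycCov.IsZeroDiv (CohB1.tensorPow L N) s (CycCov.divIdeal D α))
    (π : Y ⟶ X) (R : CycCov.Root L N s π) (hR : CycCov.IsCover R)
    (hdisj : ∀ (x : X) (j j' : Fin r), 0 < α j → 0 < α j' → x ∈ (D j).support →
      x ∈ (D j').support → j = j') :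
    LogNCD.IsNCD (fun j : Fin r => ((D j).comap π).radical) (π ≫ f) := by
  classical
  haveI : IsFinite π := hR.1
  intro y hyne
  have hsupp : ∀ i : Fin r, y ∈ (((D i).comap π).radical).support ↔ π y ∈ (D i).support := by
    intro i
    rw [Scheme.IdealSheafData.support_radical, Scheme.IdealSheafData.support_comap]
    rfl
  obtain ⟨⟨i₀, hi₀⟩⟩ := hyne
  have hx₀ : π y ∈ (D i₀).support := (hsupp i₀).mp hi₀
  obtain ⟨W₁, hxW₁, n, v, e', hinj, hEt, hDi, hDo⟩ := hD (π y) ⟨⟨i₀, hx₀⟩⟩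
  obtain ⟨U₀, hxU₀, hT⟩ := hL (π y)
  obtain ⟨U, hU, hxU, hUle⟩ := exists_isAffineOpen_mem_and_subset (x := π y)
    (U := U₀ ⊓ W₁) ⟨hxU₀, hxW₁⟩
  obtain ⟨e, hgen⟩ := exists_isGen_of_isTrivOn hT (hUle.trans inf_le_left)
  haveI : Nonempty U := ⟨⟨π y, hxU⟩⟩
  haveI := hEt
  have hUW₁ : U ≤ W₁ := hUle.trans inf_le_right
  by_cases hpos : ∃ j, 0 < α j ∧ π y ∈ (D j).support
  · obtain ⟨j, hαj, hxj⟩ := hpos
    have hj := hDi ⟨j, hxj⟩ ⟨U, hU⟩ hUW₁
    have hi : ∀ i, i ≠ j → 0 < α i → (D i).ideal ⟨U, hU⟩ = ⊤ := fun i hij hαi =>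
      hDo i (fun hxi => hij (hdisj (π y) i j hαi hαj hxi hxj)) ⟨U, hU⟩ hUW₁
    have hyv : y ∉ Y.basicOpen ((π.app U).hom
        (LogNCD.sectOn W₁ hUW₁ (v (ULift.up (e' ⟨j, hxj⟩))))) := by
      rw [← Scheme.preimage_basicOpen]
      intro hcon
      have hcon' : π y ∈ X.basicOpen (LogNCD.sectOn W₁ hUW₁ (v (ULift.up (e' ⟨j, hxj⟩)))) := hcon
      have h1 := (Scheme.IdealSheafData.mem_support_iff_of_mem (I := D j) (U := ⟨U, hU⟩) hxU).mp hxj
      rw [Scheme.mem_zeroLocus_iff] at h1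
      refine h1 _ ?_ hcon'
      rw [SetLike.mem_coe, hj]
      exact Ideal.subset_span rfl
    obtain ⟨WY, hyW, hWY, z, c, m, hm, hc, hvz, hEtY⟩ :=
      one_component_chart f hL hN hNk D α hs R hR W₁ (ULift.{u} (Fin n)) v ⟨U, hU⟩ hUW₁ j
        (ULift.up (e' ⟨j, hxj⟩)) hαj hj hi e hgen y hxU hyv
    refine isNCD_at_of_chart f π D y W₁ n v e' hinj ⟨U, hU⟩ hUW₁
      (fun i => hDi i ⟨U, hU⟩ hUW₁) (fun i hi => hDo i hi ⟨U, hU⟩ hUW₁) WY hyW hWY
      (fun j' => if j' = ULift.up (e' ⟨j, hxj⟩) then z else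
        (π.appLE U WY.1 hWY).hom (LogNCD.sectOn W₁ hUW₁ (v j'))) hEtY ?_
    intro i
    by_cases hij : i = ⟨j, hxj⟩
    · subst hij
      refine ⟨m, c, hm, hc, ?_⟩
      rw [if_pos rfl]
      exact hvz
    · refine ⟨1, 1, one_pos, isUnit_one, ?_⟩
      have hne : (ULift.up (e' i) : ULift.{u} (Fin n)) ≠ ULift.up (e' ⟨j, hxj⟩) := by
        intro h
        exact hij (hinj (ULift.up_injective h))
      rw [if_neg hne, pow_one, one_mul]
  · have hI : (CycCov.divIdeal D α).ideal ⟨U, hU⟩ = ⊤ := by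
      apply ideal_divIdeal_eq_top'
      intro j hαj
      exact hDo j (fun hxj => hpos ⟨j, hαj, hxj⟩) ⟨U, hU⟩ hUW₁
    have hEtY := zero_component_chart f hL hN hNk D α hs R hR W₁ (ULift.{u} (Fin n)) v ⟨U, hU⟩
      hUW₁ hI e hgen
    refine isNCD_at_of_chart f π D y W₁ n v e' hinj ⟨U, hU⟩ hUW₁
      (fun i => hDi i ⟨U, hU⟩ hUW₁) (fun i hi => hDo i hi ⟨U, hU⟩ hUW₁)
      ⟨π ⁻¹ᵁ U, hU.preimage π⟩ hxU le_rfl
      (fun j' => (π.appLE U (π ⁻¹ᵁ U) le_rfl).hom (LogNCD.sectOn W₁ hUW₁ (v j'))) hEtY ?_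
    intro i
    exact ⟨1, 1, one_pos, isUnit_one, by rw [pow_one, one_mul]⟩


open CategoryTheory AlgebraicGeometry in
/-- For X integral and smooth over an algebraically closed field k, L an invertible module, N ≥ 1
invertible in k, D_1, …, D_r a strict normal crossing divisor on X with multiplicities α_j, s a
global section of the N-th tensor power of L whose divisor of zeros is D = Σ α_j D_j, and π : Y → X
with its root datum the normalised cyclic N-th-root cover of X defined by s, assume that the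
components D_j with α_j > 0 are pairwise disjoint (the reduced divisor of D is non-singular; the D_j
with α_j = 0 form an auxiliary reduced divisor Γ, D + Γ a normal crossing divisor). Then the reduced
preimages (π^*D_j)_red, j = 1, …, r, form a strict normal crossing divisor on Y over k. (The
published claim is the local statement over an affine open where D has one component; normal
crossings being a local property, it is stated here on all of Y.) -/
theorem result {k : Type u} [Field k] [IsAlgClosed k] {X Y : Scheme.{u}}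
    (f : X ⟶ Spec (CommRingCat.of k)) [Smooth f] [IsIntegral X]
    (L : X.Modules) (hL : PicF.IsInvertible L) (N : ℕ) (hN : 0 < N) (hNk : (N : k) ≠ 0)
    {r : ℕ} (D : Fin r → X.IdealSheafData) (α : Fin r → ℕ) (hD : LogNCD.IsNCD D f)
    (s : Coh.structureModule X ⟶ CohB1.tensorPow L N) (hs : CycCov.IsZeroDiv (CohB1.tensorPow L N) s (CycCov.divIdeal D α))
    (π : Y ⟶ X) (R : CycCov.Root L N s π) (hR : CycCov.IsCover R)
    (hdisj : ∀ (x : X) (j j' : Fin r), 0 < α j → 0 < α j' → x ∈ (D j).support → x ∈ (D j').support → j = j') :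
    LogNCD.IsNCD (fun j : Fin r => ((D j).comap π).radical) (π ≫ f) := by
  exact main f L hL N hN hNk D α hD s hs π R hR hdisj

end Groth.Agent.S17407
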