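import Mathlib
import Groth.Statements.S17409

set_option autoImplicit false
universe u
open Prym5

namespace Groth.Agent.S17409

open MvPolynomial in
/-- Over a perfect field K of characteristic different from 2 and 3, let G₂, G₃, G₄ be polynomials in
two variables x, y and consider G₂ z² + 2 G₃ z + G₄ as a polynomial in the three variables x, y, z.
If it lies in the square of the ideal (x, y, z) — the surface it defines has a double point at the
origin — then the discriminant G₃² − G₂ G₄ lies in the square of the ideal (x, y) of K[x, y], so the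
plane curve G₃² − G₂ G₄ = 0 is singular at the origin. (This is the affine-local form used in the
published proof: the surface is a quartic with a node at the centre of projection placed at infinity
on the z-axis, and the curve is the branch sextic of that projection.) -/
theorem result (K : Type u) [Field K] [PerfectField K]
    (h2 : (2 : K) ≠ 0) (h3 : (3 : K) ≠ 0) (G₂ G₃ G₄ : MvPolynomial (Fin 2) K)
    (h : MvPolynomial.rename (Fin.castSucc : Fin 2 → Fin 3) G₂ * MvPolynomial.X (2 : Fin 3) ^ 2
        + 2 * MvPolynomial.rename (Fin.castSucc : Fin 2 → Fin 3) G₃ * MvPolynomial.X (2 : Fin 3)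
        + MvPolynomial.rename (Fin.castSucc : Fin 2 → Fin 3) G₄
        ∈ (Ideal.span (Set.range (MvPolynomial.X : Fin 3 → MvPolynomial (Fin 3) K))) ^ 2) :
    G₃ ^ 2 - G₂ * G₄ ∈ (Ideal.span (Set.range (MvPolynomial.X : Fin 2 → MvPolynomial (Fin 2) K))) ^ 2 := by
  classical
  have key := (MvPolynomial.mem_pow_idealOfVars_iff' 2 _).mp h
  have hinj : Function.Injective (Fin.castSucc : Fin 2 → Fin 3) := Fin.castSucc_injective 2
  have hnot : ∀ u : Fin 2 →₀ ℕ, (u.mapDomain (Fin.castSucc : Fin 2 → Fin 3)) 2 = 0 := by
    intro u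
    apply Finsupp.mapDomain_of_notMem_range
    rintro ⟨i, hi⟩
    exact absurd hi (by fin_cases i <;> decide)
  -- G₄ ∈ I²
  have h4 : G₄ ∈ (Ideal.span (Set.range (MvPolynomial.X : Fin 2 → MvPolynomial (Fin 2) K))) ^ 2 := by
    rw [MvPolynomial.mem_pow_idealOfVars_iff']
    intro m hm
    have hdeg : Finsupp.degree (m.mapDomain (Fin.castSucc : Fin 2 → Fin 3)) < 2 := by
      rw [Finsupp.degree_mapDomain]
      exact hm
    have := key _ hdeg
    have hs : (2 : Fin 3) ∉ (m.mapDomain (Fin.castSucc : Fin 2 → Fin 3)).support := by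
      rw [Finsupp.mem_support_iff, not_not]
      exact hnot m
    rw [MvPolynomial.coeff_add, MvPolynomial.coeff_add, pow_two, ← mul_assoc,
      MvPolynomial.coeff_rename_mapDomain _ hinj] at this
    simp only [MvPolynomial.coeff_mul_X', hs, if_false, zero_add] at this
    exact this
  -- G₃ ∈ I
  have h3' : G₃ ∈ (Ideal.span (Set.range (MvPolynomial.X : Fin 2 → MvPolynomial (Fin 2) K))) := by
    rw [← pow_one (Ideal.span _), MvPolynomial.mem_pow_idealOfVars_iff']
    intro m hm
    have hm0 : m = 0 := by
      rw [Nat.lt_one_iff] at hm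
      exact (Finsupp.degree_eq_zero_iff m).mp hm
    subst hm0
    have hdeg : Finsupp.degree (Finsupp.single (2 : Fin 3) 1) < 2 := by
      simp
    have := key _ hdeg
    have hz : MvPolynomial.coeff (Finsupp.single (2 : Fin 3) 1)
        (MvPolynomial.rename (Fin.castSucc : Fin 2 → Fin 3) G₄) = 0 := by
      apply MvPolynomial.coeff_rename_eq_zero
      intro u hu
      have := hnot u
      rw [hu] at this
      simp at this
    have h20 : (2 : MvPolynomial (Fin 3) K) = MvPolynomial.C 2 := (map_ofNat MvPolynomial.C 2).symm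
    rw [MvPolynomial.coeff_add, MvPolynomial.coeff_add, hz, pow_two, ← mul_assoc, h20,
      mul_assoc (MvPolynomial.C 2)] at this
    simp only [MvPolynomial.coeff_mul_X', MvPolynomial.coeff_C_mul, Finsupp.mem_support_iff,
      Finsupp.single_eq_same, ne_eq, one_ne_zero,
      not_false_eq_true, if_true, tsub_self, Finsupp.coe_zero, Pi.zero_apply, not_true_eq_false,
      if_false, zero_add, add_zero] at this
    have h0 : (0 : Fin 3 →₀ ℕ) = (0 : Fin 2 →₀ ℕ).mapDomain (Fin.castSucc : Fin 2 → Fin 3) := by
      simp
    rw [h0, MvPolynomial.coeff_rename_mapDomain _ hinj] at this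
    exact (mul_eq_zero.mp this).resolve_left h2
  refine Ideal.sub_mem _ (Ideal.pow_mem_pow h3' 2) (Ideal.mul_mem_left _ _ h4)

end Groth.Agent.S17409
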