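import Groth.Statements.S17410
import Mathlib

set_option autoImplicit false
universe u
open Prym5

namespace Groth.Agent.S17410

open Polynomial TensorProduct

section Aux

variable {K : Type u} [Field K]

local notation "PP" => MvPolynomial (Fin 2) K

/-- integrality direction -/
theorem integral_of_unit (h : Polynomial (MvPolynomial (Fin 2) K))
    (S : Submonoid (MvPolynomial (Fin 2) K))
    (hu : IsUnit (algebraMap (MvPolynomial (Fin 2) K) (Localization S) h.leadingCoeff)) :
    Algebra.IsIntegral (Localization S)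
      (Localization (Algebra.algebraMapSubmonoid (AdjoinRoot h) S)) := by
  set L := Localization S with hL
  set A := AdjoinRoot h with hA
  set B := Localization (Algebra.algebraMapSubmonoid (AdjoinRoot h) S) with hB
  -- the root
  obtain ⟨zb, hzb⟩ : ∃ zb : B, zb = algebraMap A B (AdjoinRoot.root h) := ⟨_, rfl⟩
  have h1 : aeval zb h = 0 := by
    rw [hzb]
    have hcomm : aeval (algebraMap A B (AdjoinRoot.root h)) h =
        algebraMap A B (aeval (AdjoinRoot.root h) h) :=
      aeval_algHom_apply (IsScalarTower.toAlgHom PP A B) (AdjoinRoot.root h) h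
    rw [hcomm, AdjoinRoot.aeval_eq, AdjoinRoot.mk_self, map_zero]
  have h2 : IsIntegral PP (h.leadingCoeff • zb) := isIntegral_leadingCoeff_smul h zb h1
  have h3 : IsIntegral L (h.leadingCoeff • zb) := h2.tower_top
  obtain ⟨u, hu'⟩ := hu
  have h4 : zb = algebraMap L B (↑u⁻¹ : L) * (h.leadingCoeff • zb) := by
    rw [← algebraMap_smul L h.leadingCoeff zb, Algebra.smul_def, ← mul_assoc, ← map_mul, ← hu',
      Units.inv_mul, map_one, one_mul]
  have hz : IsIntegral L zb := by
    rw [h4]
    exact IsIntegral.mul isIntegral_algebraMap h3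
  have hAB : ∀ x : A, IsIntegral L (algebraMap A B x) := by
    intro x
    obtain ⟨p, rfl⟩ := AdjoinRoot.mk_surjective x
    rw [← AdjoinRoot.aeval_eq]
    have hcomm : aeval (algebraMap A B (AdjoinRoot.root h)) p =
        algebraMap A B (aeval (AdjoinRoot.root h) p) :=
      aeval_algHom_apply (IsScalarTower.toAlgHom PP A B) (AdjoinRoot.root h) p
    rw [← hcomm, ← hzb, aeval_eq_sum_range]
    refine IsIntegral.sum _ (fun i _ => ?_)
    rw [← algebraMap_smul L (p.coeff i) (zb ^ i), Algebra.smul_def]
    exact IsIntegral.mul isIntegral_algebraMap (hz.pow i)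
  refine ⟨fun y => ?_⟩
  obtain ⟨x, t, rfl⟩ := IsLocalization.exists_mk'_eq (Algebra.algebraMapSubmonoid A S) y
  obtain ⟨s, hsS, hst⟩ : ∃ s ∈ S, algebraMap PP A s = (t : A) := t.2
  obtain ⟨v, hv⟩ := IsLocalization.map_units L (⟨s, hsS⟩ : S)
  have h5 : algebraMap A B (t : A) = algebraMap L B (v : L) := by
    rw [← hst, hv, ← IsScalarTower.algebraMap_apply, ← IsScalarTower.algebraMap_apply]
  have h6 : IsLocalization.mk' B x t = algebraMap A B x * algebraMap L B (↑v⁻¹ : L) := by
    have h7 := IsLocalization.mk'_spec B x t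
    rw [← h7, h5, mul_assoc, ← map_mul, Units.mul_inv, map_one, mul_one]
  rw [h6]
  exact IsIntegral.mul (hAB x) isIntegral_algebraMap

theorem unit_of_integral (h : Polynomial (MvPolynomial (Fin 2) K))
    (S : Submonoid (MvPolynomial (Fin 2) K))
    (hint : Algebra.IsIntegral (Localization S)
      (Localization (Algebra.algebraMapSubmonoid (AdjoinRoot h) S))) :
    IsUnit (algebraMap (MvPolynomial (Fin 2) K) (Localization S) h.leadingCoeff) := by
  by_cases h0 : (0 : PP) ∈ S
  · have : Subsingleton (Localization S) := IsLocalization.subsingleton (M := S) h0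
    exact isUnit_of_subsingleton _
  · set L := Localization S with hL
    set A := AdjoinRoot h with hA
    set B := Localization (Algebra.algebraMapSubmonoid (AdjoinRoot h) S) with hB
    have hinj : Function.Injective (algebraMap PP L) :=
      IsLocalization.injective L (le_nonZeroDivisors_of_noZeroDivisors h0)
    obtain ⟨zb, hzb⟩ : ∃ zb : B, zb = algebraMap A B (AdjoinRoot.root h) := ⟨_, rfl⟩
    obtain ⟨g, hgm, hg⟩ := hint.isIntegral zb
    obtain ⟨s, hs, hG⟩ := IsLocalization.integerNormalization_spec S g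
    obtain ⟨G, hGdef⟩ : ∃ G : PP[X], G = IsLocalization.integerNormalization S g := ⟨_, rfl⟩
    rw [← hGdef] at hG
    have hsg : s • g = C (algebraMap PP L s) * g := by
      rw [Algebra.smul_def, Polynomial.algebraMap_apply]
    have e1 : algebraMap A B (aeval (AdjoinRoot.root h) G) = 0 := by
      have h7 : aeval (algebraMap A B (AdjoinRoot.root h)) G =
          algebraMap A B (aeval (AdjoinRoot.root h) G) :=
        aeval_algHom_apply (IsScalarTower.toAlgHom PP A B) (AdjoinRoot.root h) G
      rw [← h7, ← hzb]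
      have h8 : aeval zb G = eval₂ (algebraMap L B) zb (G.map (algebraMap PP L)) := by
        rw [Polynomial.eval₂_map, aeval_def, IsScalarTower.algebraMap_eq PP L B]
      rw [h8, hG, hsg, eval₂_mul, hg, mul_zero]
    obtain ⟨⟨t', ht'⟩, ht⟩ :=
      (IsLocalization.map_eq_zero_iff (Algebra.algebraMapSubmonoid A S) B _).1 e1
    obtain ⟨t, htS, rfl⟩ := ht'
    have e2 : h ∣ C t * G := by
      rw [← AdjoinRoot.mk_eq_zero, map_mul, AdjoinRoot.mk_C, ← AdjoinRoot.aeval_eq]
      exact ht
    obtain ⟨q, hq⟩ := e2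
    have e3 : t * G.leadingCoeff = h.leadingCoeff * q.leadingCoeff := by
      have h9 := congrArg leadingCoeff hq
      rwa [leadingCoeff_mul, leadingCoeff_C, leadingCoeff_mul] at h9
    have e4 : algebraMap PP L G.leadingCoeff = algebraMap PP L s := by
      rw [← Polynomial.leadingCoeff_map_of_injective hinj, hG, hsg, leadingCoeff_mul_monic hgm,
        leadingCoeff_C]
    have e5 : algebraMap PP L h.leadingCoeff * algebraMap PP L q.leadingCoeff =
        algebraMap PP L t * algebraMap PP L s := by
      rw [← map_mul, ← e3, map_mul, e4]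
    have hu : IsUnit (algebraMap PP L t * algebraMap PP L s) :=
      (IsLocalization.map_units L (⟨t, htS⟩ : S)).mul (IsLocalization.map_units L (⟨s, hs⟩ : S))
    rw [← e5] at hu
    exact isUnit_of_mul_isUnit_left hu

theorem finrank_two (h : Polynomial (MvPolynomial (Fin 2) K)) (hdeg : h.natDegree = 2) :
    Module.finrank (FractionRing (MvPolynomial (Fin 2) K))
      (TensorProduct (MvPolynomial (Fin 2) K) (FractionRing (MvPolynomial (Fin 2) K))
        (AdjoinRoot h)) = 2 := by
  set F := FractionRing PP with hF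
  set A := AdjoinRoot h with hA
  have hh0 : h ≠ 0 := by
    intro h0
    rw [h0, natDegree_zero] at hdeg
    exact absurd hdeg (by norm_num)
  have ha0 : h.leadingCoeff ≠ 0 := leadingCoeff_ne_zero.2 hh0
  have hFinj : Function.Injective (algebraMap PP F) := IsFractionRing.injective PP F
  have haF : algebraMap PP F h.leadingCoeff ≠ 0 := fun h1 =>
    ha0 (hFinj (h1.trans (map_zero _).symm))
  have hlc : h.leadingCoeff = h.coeff 2 := by rw [leadingCoeff, hdeg]
  -- the relation
  have hrel : h.coeff 2 • (AdjoinRoot.root h) ^ 2 + h.coeff 1 • (AdjoinRoot.root h) +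
      h.coeff 0 • (1 : A) = 0 := by
    have h1 : aeval (AdjoinRoot.root h) h = 0 := by rw [AdjoinRoot.aeval_eq, AdjoinRoot.mk_self]
    rw [aeval_eq_sum_range, hdeg] at h1
    simp only [Finset.sum_range_succ, Finset.sum_range_zero, zero_add, pow_zero, pow_one] at h1
    rw [← h1]
    ring
  obtain ⟨e0, he0⟩ : ∃ e0 : F ⊗[PP] A, e0 = (1 : F) ⊗ₜ[PP] (1 : A) := ⟨_, rfl⟩
  obtain ⟨e1, he1⟩ : ∃ e1 : F ⊗[PP] A, e1 = (1 : F) ⊗ₜ[PP] (AdjoinRoot.root h) := ⟨_, rfl⟩
  obtain ⟨W, hW⟩ : ∃ W : Submodule F (F ⊗[PP] A), W = Submodule.span F {e0, e1} := ⟨_, rfl⟩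
  have hsm : ∀ (r : PP) (w : F ⊗[PP] A), w ∈ W → r • w ∈ W := by
    intro r w hw
    rw [← algebraMap_smul F r w]
    exact W.smul_mem _ hw
  have hpow : ∀ i : ℕ, ((1 : F) ⊗ₜ[PP] ((AdjoinRoot.root h) ^ i) ∈ W) ∧
      ((1 : F) ⊗ₜ[PP] ((AdjoinRoot.root h) ^ (i + 1)) ∈ W) := by
    intro i
    induction i with
    | zero =>
      constructor
      · rw [pow_zero, ← he0, hW]
        exact Submodule.subset_span (by simp)
      · rw [zero_add, pow_one, ← he1, hW]
        exact Submodule.subset_span (by simp)
    | succ i ih =>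
      refine ⟨ih.2, ?_⟩
      have h1 : h.coeff 2 • (AdjoinRoot.root h) ^ (i + 1 + 1) =
          -(h.coeff 1 • (AdjoinRoot.root h) ^ (i + 1)) - h.coeff 0 • (AdjoinRoot.root h) ^ i := by
        have h2 := congrArg (fun x => x * (AdjoinRoot.root h) ^ i) hrel
        simp only [zero_mul, add_mul, smul_mul_assoc, one_mul] at h2
        rw [← pow_add, ← pow_succ'] at h2
        have h3 : (2 + i) = i + 1 + 1 := by ring
        rw [h3] at h2
        rw [eq_sub_iff_add_eq, eq_neg_iff_add_eq_zero]
        rw [← h2]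
        ring
      have h4 : algebraMap PP F (h.coeff 2) • ((1 : F) ⊗ₜ[PP] ((AdjoinRoot.root h) ^ (i + 1 + 1))) ∈ W := by
        rw [algebraMap_smul, ← TensorProduct.tmul_smul, h1, TensorProduct.tmul_sub,
          TensorProduct.tmul_neg, TensorProduct.tmul_smul, TensorProduct.tmul_smul]
        exact W.sub_mem (W.neg_mem (hsm _ _ ih.2)) (hsm _ _ ih.1)
      have h5 := W.smul_mem (algebraMap PP F (h.coeff 2))⁻¹ h4
      rw [smul_smul, inv_mul_cancel₀ (by rw [← hlc]; exact haF), one_smul] at h5
      exact h5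
  have hall : ∀ x : A, (1 : F) ⊗ₜ[PP] x ∈ W := by
    intro x
    obtain ⟨p, rfl⟩ := AdjoinRoot.mk_surjective x
    rw [← AdjoinRoot.aeval_eq, aeval_eq_sum_range, TensorProduct.tmul_sum]
    refine W.sum_mem (fun i _ => ?_)
    rw [TensorProduct.tmul_smul]
    exact hsm _ _ (hpow i).1
  have htop : W = ⊤ := by
    rw [eq_top_iff]
    rintro w -
    induction w using TensorProduct.induction_on with
    | zero => exact W.zero_mem
    | tmul f x =>
      have h1 : f ⊗ₜ[PP] x = f • ((1 : F) ⊗ₜ[PP] x) := by
        rw [TensorProduct.smul_tmul', smul_eq_mul, mul_one]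
      rw [h1]
      exact W.smul_mem _ (hall x)
    | add a b ha hb => exact W.add_mem ha hb
  have hfin : Module.Finite F (F ⊗[PP] A) := by
    rw [Module.finite_def, ← htop, hW]
    exact Submodule.fg_span (Set.toFinite _)
  have hle : Module.finrank F (F ⊗[PP] A) ≤ 2 := by
    classical
    have h1 : Module.finrank F (⊤ : Submodule F (F ⊗[PP] A)) ≤ 2 := by
      rw [← htop, hW]
      have h2 : ({e0, e1} : Set (F ⊗[PP] A)) = ((({e0, e1} : Finset (F ⊗[PP] A)) : Set (F ⊗[PP] A))) := by
        simp
      rw [h2]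
      exact (finrank_span_finset_le_card _).trans Finset.card_le_two
    rwa [finrank_top] at h1
  -- lower bound
  obtain ⟨hFp, hFpdef⟩ : ∃ hFp : F[X], hFp = h.map (algebraMap PP F) := ⟨_, rfl⟩
  have hFdeg : hFp.natDegree = 2 := by
    rw [hFpdef, Polynomial.natDegree_map_eq_of_injective hFinj, hdeg]
  have hFne : hFp ≠ 0 := by
    intro h0
    rw [h0, natDegree_zero] at hFdeg
    exact absurd hFdeg (by norm_num)
  have hEfr : Module.finrank F (AdjoinRoot hFp) = 2 := by
    rw [(AdjoinRoot.powerBasis hFne).finrank, AdjoinRoot.powerBasis_dim, hFdeg]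
  have hroot : eval₂ (↑(Algebra.ofId PP (AdjoinRoot hFp)) : PP →+* AdjoinRoot hFp)
      (AdjoinRoot.root hFp) h = 0 := by
    have h1 : ((Algebra.ofId PP (AdjoinRoot hFp) : PP →ₐ[PP] AdjoinRoot hFp) : PP →+* AdjoinRoot hFp) =
        (AdjoinRoot.of hFp).comp (algebraMap PP F) := rfl
    rw [h1, ← Polynomial.eval₂_map, ← hFpdef]
    exact AdjoinRoot.eval₂_root hFp
  let ψ : A →ₐ[PP] AdjoinRoot hFp :=
    AdjoinRoot.liftAlgHom h (Algebra.ofId PP (AdjoinRoot hFp)) (AdjoinRoot.root hFp) hroot
  let Φ : F ⊗[PP] A →ₐ[F] AdjoinRoot hFp :=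
    Algebra.TensorProduct.lift (Algebra.ofId F (AdjoinRoot hFp)) ψ (fun _ _ => Commute.all _ _)
  have hΦroot : Φ ((1 : F) ⊗ₜ[PP] (AdjoinRoot.root h)) = AdjoinRoot.root hFp := by
    show Algebra.TensorProduct.lift _ _ _ _ = _
    rw [Algebra.TensorProduct.lift_tmul, map_one, one_mul]
    exact AdjoinRoot.liftAlgHom_root _ _ _ _
  have hsurj : Function.Surjective Φ := by
    rw [← AlgHom.range_eq_top, eq_top_iff, ← AdjoinRoot.adjoinRoot_eq_top]
    refine Algebra.adjoin_le ?_
    intro x hx
    rw [Set.mem_singleton_iff] at hx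
    rw [hx]
    exact ⟨_, hΦroot⟩
  have hge : 2 ≤ Module.finrank F (F ⊗[PP] A) := by
    have h1 := LinearMap.finrank_range_add_finrank_ker Φ.toLinearMap
    have h2 : LinearMap.range Φ.toLinearMap = ⊤ := LinearMap.range_eq_top.2 hsurj
    rw [h2, finrank_top, hEfr] at h1
    omega
  exact le_antisymm hle hge

end Aux


/-- Over a perfect field K of characteristic different from 2 and 3, let h be an irreducible polynomial
of degree 2 in the variable z with coefficients in K[x, y] and A = K[x, y][z]/(h). For every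
multiplicative subset S of K[x, y], the localisation S⁻¹A is integral over S⁻¹K[x, y] if and only if
the leading coefficient of h is invertible in S⁻¹K[x, y]; and K(x, y) ⊗ A is a K(x, y)-vector space
of dimension 2. (Geometrically: for a quartic surface with an ordinary double point, written u₂ x₃²
+ 2 u₃ x₃ + u₄ = 0 with the node at (0:0:0:1), the projection from the node restricted to a standard
affine chart of the plane is given by such an algebra A with leading coefficient the dehomogenised
u₂, so the projection is finite of degree two exactly over the locus u₂ ≠ 0. Stated for any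
irreducible h of degree 2, which is all the argument uses.) -/
theorem result (K : Type u) [Field K]
    [PerfectField K] (h2 : (2 : K) ≠ 0) (h3 : (3 : K) ≠ 0)
    (h : Polynomial (MvPolynomial (Fin 2) K)) (hirr : Irreducible h) (hdeg : h.natDegree = 2)
    (S : Submonoid (MvPolynomial (Fin 2) K)) :
    (Algebra.IsIntegral (Localization S) (Localization (Algebra.algebraMapSubmonoid (AdjoinRoot h) S))
        ↔ IsUnit (algebraMap (MvPolynomial (Fin 2) K) (Localization S) h.leadingCoeff))
      ∧ Module.finrank (FractionRing (MvPolynomial (Fin 2) K))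
          (TensorProduct (MvPolynomial (Fin 2) K) (FractionRing (MvPolynomial (Fin 2) K)) (AdjoinRoot h)) = 2 := by
  exact ⟨⟨fun hint => unit_of_integral h S hint, fun hu => integral_of_unit h S hu⟩,
    finrank_two h hdeg⟩


end Groth.Agent.S17410
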