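import Groth.Statements.S17414
import Mathlib

set_option autoImplicit false
universe u
open Prym5

namespace Groth.Agent.S17414


open MvPolynomial

section
variable {K : Type u} [Field K]

lemma mem_m_iff {σ : Type*} (p : MvPolynomial σ K) :
    p ∈ Ideal.span (Set.range (X : σ → MvPolynomial σ K)) ↔ constantCoeff p = 0 := by
  have h := mem_pow_idealOfVars_iff' (σ := σ) (R := K) 1 p
  rw [pow_one] at h
  rw [h]
  constructor
  · intro hx
    exact hx 0 (by simp)
  · intro h0 x hx
    have h1 : x.degree = 0 := by omega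
    have h2 : x = 0 := (Finsupp.degree_eq_zero_iff x).mp h1
    rw [h2]
    exact h0

lemma claimA {σ : Type*} (G₂ G₄ : MvPolynomial σ K)
    (h4 : G₄ ∈ Ideal.span (Set.range (X : σ → MvPolynomial σ K))) :
    G₂ * G₄ ∈ (Ideal.span (Set.range (X : σ → MvPolynomial σ K))) ^ 2 ↔
      (G₂ ∈ Ideal.span (Set.range (X : σ → MvPolynomial σ K)) ∨
        G₄ ∈ (Ideal.span (Set.range (X : σ → MvPolynomial σ K))) ^ 2) := by
  constructor
  · intro h
    by_cases h2 : G₂ ∈ Ideal.span (Set.range (X : σ → MvPolynomial σ K))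
    · exact Or.inl h2
    · right
      have ha : constantCoeff G₂ ≠ 0 := fun h0 => h2 ((mem_m_iff G₂).mpr h0)
      have h5 : G₂ - C (constantCoeff G₂) ∈ Ideal.span (Set.range (X : σ → MvPolynomial σ K)) := by
        rw [mem_m_iff]
        simp
      have h6 : (G₂ - C (constantCoeff G₂)) * G₄ ∈
          (Ideal.span (Set.range (X : σ → MvPolynomial σ K))) ^ 2 := by
        rw [pow_two]
        exact Ideal.mul_mem_mul h5 h4
      have h7 : C (constantCoeff G₂) * G₄ ∈
          (Ideal.span (Set.range (X : σ → MvPolynomial σ K))) ^ 2 := by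
        have h8 := Ideal.sub_mem _ h h6
        have e : G₂ * G₄ - (G₂ - C (constantCoeff G₂)) * G₄ = C (constantCoeff G₂) * G₄ := by ring
        rwa [e] at h8
      have h9 := Ideal.mul_mem_left _ (C (constantCoeff G₂)⁻¹) h7
      have e : C (constantCoeff G₂)⁻¹ * (C (constantCoeff G₂) * G₄) = G₄ := by
        rw [← mul_assoc, ← C_mul, inv_mul_cancel₀ ha, C_1, one_mul]
      rwa [e] at h9
  · rintro (h | h)
    · rw [pow_two]
      exact Ideal.mul_mem_mul h h4
    · exact Ideal.mul_mem_left _ _ h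

lemma rename_mem_sq_iff (p : MvPolynomial (Fin 2) K) :
    rename (Fin.castSucc : Fin 2 → Fin 3) p ∈
      (Ideal.span (Set.range (X : Fin 3 → MvPolynomial (Fin 3) K))) ^ 2 ↔
    p ∈ (Ideal.span (Set.range (X : Fin 2 → MvPolynomial (Fin 2) K))) ^ 2 := by
  constructor
  · intro h
    let ρ : MvPolynomial (Fin 3) K →ₐ[K] MvPolynomial (Fin 2) K :=
      aeval (Fin.snoc (α := fun _ => MvPolynomial (Fin 2) K) (fun i : Fin 2 => X i) 0)
    have hρ : ρ (rename (Fin.castSucc : Fin 2 → Fin 3) p) = p := by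
      show aeval _ (rename _ p) = p
      rw [aeval_rename]
      have e : (Fin.snoc (α := fun _ => MvPolynomial (Fin 2) K) (fun i : Fin 2 => X i) 0 :
          Fin 3 → MvPolynomial (Fin 2) K) ∘ (Fin.castSucc : Fin 2 → Fin 3) = X := by
        funext i
        simp [Fin.snoc_castSucc]
      rw [e, aeval_X_left]
      rfl
    have hmap : Ideal.map ρ (Ideal.span (Set.range (X : Fin 3 → MvPolynomial (Fin 3) K))) ≤
        Ideal.span (Set.range (X : Fin 2 → MvPolynomial (Fin 2) K)) := by
      rw [Ideal.map_span, Ideal.span_le]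
      rintro _ ⟨_, ⟨i, rfl⟩, rfl⟩
      show aeval _ (X i) ∈ _
      rw [aeval_X]
      refine Fin.lastCases ?_ (fun j => ?_) i
      · rw [Fin.snoc_last]
        exact Ideal.zero_mem _
      · rw [Fin.snoc_castSucc]
        exact Ideal.subset_span ⟨j, rfl⟩
    have h1 := Ideal.mem_map_of_mem ρ h
    rw [Ideal.map_pow, hρ] at h1
    exact Ideal.pow_right_mono hmap 2 h1
  · intro h
    have hmap : Ideal.map (rename (Fin.castSucc : Fin 2 → Fin 3) :
          MvPolynomial (Fin 2) K →ₐ[K] MvPolynomial (Fin 3) K)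
        (Ideal.span (Set.range (X : Fin 2 → MvPolynomial (Fin 2) K))) ≤
        Ideal.span (Set.range (X : Fin 3 → MvPolynomial (Fin 3) K)) := by
      rw [Ideal.map_span, Ideal.span_le]
      rintro _ ⟨_, ⟨i, rfl⟩, rfl⟩
      rw [rename_X]
      exact Ideal.subset_span ⟨_, rfl⟩
    have h1 := Ideal.mem_map_of_mem (rename (Fin.castSucc : Fin 2 → Fin 3) :
          MvPolynomial (Fin 2) K →ₐ[K] MvPolynomial (Fin 3) K) h
    rw [Ideal.map_pow] at h1
    exact Ideal.pow_right_mono hmap 2 h1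

end


/-- Over a perfect field K of characteristic different from 2 and 3, let G₂, G₃, G₄ be polynomials in x,
y, let h = G₂ z² + 2 G₃ z + G₄ in K[x, y, z] and D = G₃² − G₂ G₄ in K[x, y]. Suppose h ∈ (x, y, z) —
the origin Q lies on the surface h = 0 — and D ∈ (x, y) — the image of Q under (x, y, z) ↦ (x, y)
lies on the discriminant curve D = 0. Then D ∈ (x, y)², i.e. the image point is singular on the
discriminant curve, if and only if either h ∈ (x, y, z)², i.e. Q is a singular point of the surface,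
or G₂, G₃, G₄ ∈ (x, y), i.e. Q lies on all three cones G₂ = G₃ = G₄ = 0. (Affine-local form, in a
chart where the node projected from sits at infinity on the z-axis and Q at the origin, of the
published claim: for a point Q ≠ P of the nodal quartic whose projection lies on the branch sextic,
the projection is singular on the sextic exactly when Q is singular on the quartic or lies on the
cones u₂ = u₃ = u₄ = 0.) -/
theorem result (K : Type u) [Field K] [PerfectField K]
    (h2 : (2 : K) ≠ 0) (h3 : (3 : K) ≠ 0) (G₂ G₃ G₄ : MvPolynomial (Fin 2) K)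
    (hQ : MvPolynomial.rename (Fin.castSucc : Fin 2 → Fin 3) G₂ * MvPolynomial.X (2 : Fin 3) ^ 2
        + 2 * MvPolynomial.rename (Fin.castSucc : Fin 2 → Fin 3) G₃ * MvPolynomial.X (2 : Fin 3)
        + MvPolynomial.rename (Fin.castSucc : Fin 2 → Fin 3) G₄
        ∈ Ideal.span (Set.range (MvPolynomial.X : Fin 3 → MvPolynomial (Fin 3) K)))
    (hD : G₃ ^ 2 - G₂ * G₄ ∈ Ideal.span (Set.range (MvPolynomial.X : Fin 2 → MvPolynomial (Fin 2) K))) :
    G₃ ^ 2 - G₂ * G₄ ∈ (Ideal.span (Set.range (MvPolynomial.X : Fin 2 → MvPolynomial (Fin 2) K))) ^ 2 ↔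
      (MvPolynomial.rename (Fin.castSucc : Fin 2 → Fin 3) G₂ * MvPolynomial.X (2 : Fin 3) ^ 2
          + 2 * MvPolynomial.rename (Fin.castSucc : Fin 2 → Fin 3) G₃ * MvPolynomial.X (2 : Fin 3)
          + MvPolynomial.rename (Fin.castSucc : Fin 2 → Fin 3) G₄
          ∈ (Ideal.span (Set.range (MvPolynomial.X : Fin 3 → MvPolynomial (Fin 3) K))) ^ 2 ∨
        (G₂ ∈ Ideal.span (Set.range (MvPolynomial.X : Fin 2 → MvPolynomial (Fin 2) K)) ∧
          G₃ ∈ Ideal.span (Set.range (MvPolynomial.X : Fin 2 → MvPolynomial (Fin 2) K)) ∧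
          G₄ ∈ Ideal.span (Set.range (MvPolynomial.X : Fin 2 → MvPolynomial (Fin 2) K)))) := by
  have c4 : constantCoeff G₄ = 0 := by
    have h := (mem_m_iff _).mp hQ
    simpa [constantCoeff_rename] using h
  have c3 : constantCoeff G₃ = 0 := by
    have h := (mem_m_iff _).mp hD
    simp only [map_sub, map_pow, map_mul, c4, mul_zero, sub_zero] at h
    exact pow_eq_zero_iff (two_ne_zero) |>.mp h
  have m4 : G₄ ∈ Ideal.span (Set.range (X : Fin 2 → MvPolynomial (Fin 2) K)) :=
    (mem_m_iff _).mpr c4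
  have m3 : G₃ ∈ Ideal.span (Set.range (X : Fin 2 → MvPolynomial (Fin 2) K)) :=
    (mem_m_iff _).mpr c3
  have hZ : (X (2 : Fin 3) : MvPolynomial (Fin 3) K) ∈
      Ideal.span (Set.range (X : Fin 3 → MvPolynomial (Fin 3) K)) := Ideal.subset_span ⟨2, rfl⟩
  have m3' : rename (Fin.castSucc : Fin 2 → Fin 3) G₃ ∈
      Ideal.span (Set.range (X : Fin 3 → MvPolynomial (Fin 3) K)) := by
    rw [mem_m_iff, constantCoeff_rename, c3]
  -- LHS
  have hL : G₃ ^ 2 - G₂ * G₄ ∈ (Ideal.span (Set.range (X : Fin 2 → MvPolynomial (Fin 2) K))) ^ 2 ↔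
      G₂ * G₄ ∈ (Ideal.span (Set.range (X : Fin 2 → MvPolynomial (Fin 2) K))) ^ 2 := by
    have h33 : G₃ ^ 2 ∈ (Ideal.span (Set.range (X : Fin 2 → MvPolynomial (Fin 2) K))) ^ 2 :=
      Ideal.pow_mem_pow m3 2
    constructor
    · intro h
      have h1 := Ideal.sub_mem _ h33 h
      have e : G₃ ^ 2 - (G₃ ^ 2 - G₂ * G₄) = G₂ * G₄ := by ring
      rwa [e] at h1
    · intro h
      exact Ideal.sub_mem _ h33 h
  -- RHS first disjunct
  have hR : (rename (Fin.castSucc : Fin 2 → Fin 3) G₂ * X (2 : Fin 3) ^ 2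
          + 2 * rename (Fin.castSucc : Fin 2 → Fin 3) G₃ * X (2 : Fin 3)
          + rename (Fin.castSucc : Fin 2 → Fin 3) G₄
          ∈ (Ideal.span (Set.range (X : Fin 3 → MvPolynomial (Fin 3) K))) ^ 2) ↔
      G₄ ∈ (Ideal.span (Set.range (X : Fin 2 → MvPolynomial (Fin 2) K))) ^ 2 := by
    rw [← rename_mem_sq_iff]
    have h1 : rename (Fin.castSucc : Fin 2 → Fin 3) G₂ * X (2 : Fin 3) ^ 2
          + 2 * rename (Fin.castSucc : Fin 2 → Fin 3) G₃ * X (2 : Fin 3) ∈
        (Ideal.span (Set.range (X : Fin 3 → MvPolynomial (Fin 3) K))) ^ 2 := by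
      refine Ideal.add_mem _ (Ideal.mul_mem_left _ _ (Ideal.pow_mem_pow hZ 2)) ?_
      rw [mul_assoc, pow_two]
      exact Ideal.mul_mem_left _ _ (Ideal.mul_mem_mul m3' hZ)
    constructor
    · intro h
      have h2 := Ideal.sub_mem _ h h1
      simpa using h2
    · intro h
      exact Ideal.add_mem _ h1 h
  rw [hL, hR, claimA G₂ G₄ m4]
  constructor
  · rintro (h | h)
    · exact Or.inr ⟨h, m3, m4⟩
    · exact Or.inl h
  · rintro (h | ⟨h, _, _⟩)
    · exact Or.inr h
    · exact Or.inl h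


end Groth.Agent.S17414
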