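import Groth.Statements.S17430
import Mathlib
import Groth.Agent.Lib.Helper6.AdjVar4

set_option autoImplicit false
universe u v w
open LieAlgebra LieModule
open AdjVar

namespace Groth.Agent.S17430

open Groth.Agent.Lib.Helper6.AdjVar in


/-- Let L be a finite-dimensional simple Lie algebra over an algebraically closed field K of
characteristic zero, H a Cartan subalgebra and b a basis of (L, H) in Mathlib's sense (Chevalley
generators h_i, e_i, f_i indexed by a finite type, with simple roots α_i = b.baseSupp i and upper
Borel subalgebra 𝔟 = H + the Lie subalgebra generated by the e_i). Let ρ be the highest root: a root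
of H on L whose root space is nonzero and such that no ρ + α_i is a root (the root space of ρ + α_i
is zero for every i). Assume that exactly one simple root α_j is not orthogonal to ρ (ρ(h_i) ≠ 0 if
and only if i = j) and that ρ(h_j) = 1; for simple L these two conditions say precisely that L is
not of type A_r or C_r (r ≥ 1), the case excluded in the source. Then a two-dimensional linear
subspace W of L is stable under 𝔟 (bracketing with any element of 𝔟 maps W into W) if and only if W
is the sum of the root spaces of ρ and of ρ − α_j. Equivalently, the projective line spanned by the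
root vectors of ρ and ρ − α_j is the only line of P(L) stable under the Borel subgroup (over the
complex numbers, stability under the connected group B is the same as stability under its Lie
algebra 𝔟, which is the form stated here). -/
theorem result {ι : Type u} {K : Type v} {L : Type w} [Fintype ι] [Field K] [CharZero K]
    [IsAlgClosed K] [LieRing L] [LieAlgebra K L] [FiniteDimensional K L] [LieAlgebra.IsSimple K L]
    (H : LieSubalgebra K L) [H.IsCartanSubalgebra] (b : LieAlgebra.Basis ι H)
    (ρ : Module.Dual K H) (hρ : rootSpace H ρ ≠ ⊥) (htop : ∀ i, rootSpace H (ρ + b.baseSupp i) = ⊥)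
    (j : ι) (hN : ∀ i, ρ (b.h' i) ≠ 0 ↔ i = j) (hj : ρ (b.h' j) = 1)
    (W : Submodule K L) :
    (Module.finrank K W = 2 ∧
        ∀ x ∈ H.toSubmodule ⊔ (b.borelUpper : Submodule K L), ∀ w ∈ W, ⁅x, w⁆ ∈ W) ↔
      W = (rootSpace H ρ : Submodule K L) ⊔ (rootSpace H (ρ - b.baseSupp j) : Submodule K L) := by
  constructor
  · rintro ⟨h2, hst⟩
    have hH := stab_H b hst
    have he := stab_e b hst
    have hW0 : W ≠ ⊥ := by
      intro h; rw [h, finrank_bot] at h2; omega
    have h1 := top_le b ρ hρ htop (rho_ne b ρ j hj) W hH he hW0
    have hnot : ¬ W ≤ (rootSpace H ρ : Submodule K L) := by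
      intro hle
      have := Submodule.finrank_mono hle
      rw [h2, finrank_rs (rho_ne b ρ j hj) hρ] at this
      omega
    have h3 := pen_le b ρ hρ htop j hN hj W hH he hnot
    symm
    apply Submodule.eq_of_le_of_finrank_eq (sup_le h1 h3)
    rw [finrank_U b ρ hρ htop j hj, h2]
  · rintro rfl
    exact ⟨finrank_U b ρ hρ htop j hj, U_stable b ρ hρ htop j hN hj⟩


end Groth.Agent.S17430
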