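import Groth.Statements.S17432
import Mathlib
import Groth.Agent.Lib.Helper6.AdjVar4

set_option autoImplicit false
universe u v w
open LieAlgebra LieModule
open AdjVar

namespace Groth.Agent.S17432

open Groth.Agent.Lib.Helper6.AdjVar in


/-- Let L be a finite-dimensional simple Lie algebra over an algebraically closed field K of
characteristic zero, H a Cartan subalgebra and b a basis of (L, H) in Mathlib's sense (Chevalley
generators h_i, e_i, f_i indexed by a finite type, with simple roots α_i = b.baseSupp i and upper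
Borel subalgebra 𝔟 = H + the Lie subalgebra generated by the e_i). Let ρ be the highest root: a root
of H on L whose root space is nonzero and such that no ρ + α_i is a root (the root space of ρ + α_i
is zero for every i). Assume that exactly one simple root α_j is not orthogonal to ρ (ρ(h_i) ≠ 0 if
and only if i = j) and that ρ(h_j) = 1; for simple L these two conditions say precisely that L is
not of type A_r or C_r (r ≥ 1), the case excluded in the source. Let W be a three-dimensional linear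
subspace of L stable under 𝔟 and q a quadratic form on W which is semi-invariant under 𝔟: for every
x in 𝔟 there is a scalar c with polar_q([x, w], w) = c q(w) for all w in W (this is the
infinitesimal condition for the line spanned by q, equivalently the conic q = 0 of the plane P(W),
to be stable under the Borel subgroup). Then q is a scalar multiple of the square of a linear form
on W. In the source's words: P(L) contains no Borel-stable conic which is smooth or reducible (a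
pair of distinct lines); only double lines occur. (Over the complex numbers a conic of rank at least
two is Borel-stable exactly when its plane is 𝔟-stable and its equation is 𝔟-semi-invariant, which
is the form stated here.) -/
theorem result {ι : Type u} {K : Type v} {L : Type w} [Fintype ι] [Field K] [CharZero K]
    [IsAlgClosed K] [LieRing L] [LieAlgebra K L] [FiniteDimensional K L] [LieAlgebra.IsSimple K L]
    (H : LieSubalgebra K L) [H.IsCartanSubalgebra] (b : LieAlgebra.Basis ι H)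
    (ρ : Module.Dual K H) (hρ : rootSpace H ρ ≠ ⊥) (htop : ∀ i, rootSpace H (ρ + b.baseSupp i) = ⊥)
    (j : ι) (hN : ∀ i, ρ (b.h' i) ≠ 0 ↔ i = j) (hj : ρ (b.h' j) = 1)
    (W : Submodule K L) (hW : Module.finrank K W = 3)
    (hst : ∀ x ∈ H.toSubmodule ⊔ (b.borelUpper : Submodule K L), ∀ w ∈ W, ⁅x, w⁆ ∈ W)
    (q : QuadraticForm K W)
    (hq : ∀ (x : L) (hx : x ∈ H.toSubmodule ⊔ (b.borelUpper : Submodule K L)), ∃ c : K, ∀ w : W,
      QuadraticMap.polar q ⟨⁅x, (w : L)⁆, hst x hx w w.property⟩ w = c * q w) :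
    ∃ (ℓ : Module.Dual K W) (c : K), ∀ w : W, q w = c * ℓ w ^ 2 := by
  have hH := stab_H b hst
  have he := stab_e b hst
  obtain ⟨a, haj, hA, hWeq, x2, hx2W, hx2m, hx1ne⟩ :=
    three_dim_structure b ρ hρ htop j hN hj W hW hH he
  obtain ⟨x1, hx1⟩ : ∃ x1, x1 = ⁅b.e a, x2⁆ := ⟨_, rfl⟩
  obtain ⟨x0, hx0⟩ : ∃ x0, x0 = ⁅b.e j, x1⁆ := ⟨_, rfl⟩
  have hx1m : x1 ∈ rootSpace H (ρ - b.baseSupp j) := by
    rw [hx1]
    exact lie_mem_rs (fun h => by simp only [Pi.sub_apply]; ring) (e_mem_rs b a) hx2m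
  have hx1n : x1 ≠ 0 := by rw [hx1]; exact hx1ne
  have hx0m : x0 ∈ rootSpace H ρ := by
    rw [hx0]
    exact lie_mem_rs (fun h => by simp only [Pi.sub_apply]; ring) (e_mem_rs b j) hx1m
  have hx0n : x0 ≠ 0 := by rw [hx0]; exact e_j_pen_ne_zero b ρ hρ htop j hj hx1m hx1n
  have hx2n : x2 ≠ 0 := fun h => hx1ne (by rw [h, lie_zero])
  have hx1W : x1 ∈ W := by rw [hx1]; exact he a x2 hx2W
  have hx0W : x0 ∈ W := by rw [hx0]; exact he j x1 hx1W
  have r1 : ⁅b.e j, x0⁆ = 0 := e_top_zero b ρ htop hx0m j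
  have r3 : ⁅b.e a, x1⁆ = 0 :=
    eq_zero_of_rs_eq_bot (no_sub_add b ρ htop j hj haj)
      (lie_mem_rs (fun h => by simp only [Pi.sub_apply]; ring) (e_mem_rs b a) hx1m)
  have r4 : ⁅b.e j, x2⁆ = 0 :=
    eq_zero_of_rs_eq_bot (no_sub_of_ne b ρ hρ htop j hN haj)
      (lie_mem_rs (fun h => by simp only [Pi.sub_apply]; ring) (e_mem_rs b j) hx2m)
  have hxj : b.e j ∈ H.toSubmodule ⊔ (b.borelUpper : Submodule K L) :=
    Submodule.mem_sup_right (e_mem_borel b j)
  have hxa : b.e a ∈ H.toSubmodule ⊔ (b.borelUpper : Submodule K L) :=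
    Submodule.mem_sup_right (e_mem_borel b a)
  obtain ⟨cj, hcj⟩ := hq (b.e j) hxj
  obtain ⟨ca, hca⟩ := hq (b.e a) hxa
  obtain ⟨X0, hX0⟩ : ∃ X0 : W, (X0 : L) = x0 := ⟨⟨x0, hx0W⟩, rfl⟩
  obtain ⟨X1, hX1⟩ : ∃ X1 : W, (X1 : L) = x1 := ⟨⟨x1, hx1W⟩, rfl⟩
  obtain ⟨X2, hX2⟩ : ∃ X2 : W, (X2 : L) = x2 := ⟨⟨x2, hx2W⟩, rfl⟩
  have hquad := quad_aux q X0 X1 X2
    (fun w => ⟨⁅b.e j, (w : L)⁆, hst _ hxj w w.property⟩)
    (fun w => ⟨⁅b.e a, (w : L)⁆, hst _ hxa w w.property⟩)
    (Subtype.ext (by show ⁅b.e j, (X0 : L)⁆ = 0; rw [hX0, r1]))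
    (Subtype.ext (by show ⁅b.e j, (X1 : L)⁆ = (X0 : L); rw [hX1, hX0, hx0]))
    (Subtype.ext (by show ⁅b.e j, (X2 : L)⁆ = 0; rw [hX2, r4]))
    (Subtype.ext (by
      show ⁅b.e j, (X0 : L) + (X2 : L)⁆ = 0
      rw [hX0, hX2, lie_add, r1, r4, add_zero]))
    (Subtype.ext (by
      show ⁅b.e j, (X0 : L) + (X1 : L)⁆ = (X0 : L)
      rw [hX0, hX1, lie_add, r1, zero_add, ← hx0]))
    (Subtype.ext (by
      show ⁅b.e j, (X1 : L) + (X2 : L)⁆ = (X0 : L)
      rw [hX0, hX1, hX2, lie_add, r4, add_zero, ← hx0]))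
    (Subtype.ext (by show ⁅b.e a, (X1 : L)⁆ = 0; rw [hX1, r3]))
    (Subtype.ext (by show ⁅b.e a, (X2 : L)⁆ = (X1 : L); rw [hX2, hX1, hx1]))
    (Subtype.ext (by
      show ⁅b.e a, (X1 : L) + (X2 : L)⁆ = (X1 : L)
      rw [hX1, hX2, lie_add, r3, zero_add, ← hx1]))
    cj hcj ca hca
  obtain ⟨h00, h11, h01, h02, h12⟩ := hquad
  refine ⟨(2 * q X2)⁻¹ • (QuadraticMap.polarBilin q X2), q X2, fun w => ?_⟩
  have hne3 : ∃ h, ((ρ : H → K) - (b.baseSupp j : H → K) - (b.baseSupp a : H → K)) h ≠ 0 := by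
    obtain ⟨h, hh⟩ := third_ne b ρ hρ htop j hN haj
    exact ⟨h, hh⟩
  have hle : W ≤ _ := le_of_eq hWeq
  obtain ⟨u, hu, w2, hw2, huw⟩ := Submodule.mem_sup.mp (hle w.property)
  obtain ⟨w0, hw0, w1, hw1, rfl⟩ := Submodule.mem_sup.mp hu
  obtain ⟨c0, rfl⟩ := rs_one_dim (rho_ne b ρ j hj) hx0m hx0n hw0
  obtain ⟨c1, rfl⟩ := rs_one_dim (pen_ne b ρ j hj) hx1m hx1n hw1
  obtain ⟨c2, rfl⟩ := rs_one_dim hne3 hx2m hx2n hw2
  have hwX : w = c0 • X0 + c1 • X1 + c2 • X2 := by
    apply Subtype.ext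
    show (w : L) = c0 • (X0 : L) + c1 • (X1 : L) + c2 • (X2 : L)
    rw [hX0, hX1, hX2, huw]
  obtain ⟨e1, e2⟩ := quad_final q X0 X1 X2 h00 h11 h01 h02 h12 c0 c1 c2
  rw [hwX, e1]
  simp only [LinearMap.smul_apply, QuadraticMap.polarBilin_apply_apply, e2, smul_eq_mul]
  by_cases h22 : q X2 = 0
  · rw [h22]; ring
  · have h3 : (2 * q X2)⁻¹ * (2 * c2 * q X2) = c2 := by field_simp
    rw [h3]; ring


end Groth.Agent.S17432
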