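import Groth.Statements.S17433
import Mathlib
import Groth.Agent.Lib.Helper6.AdjVar5

set_option autoImplicit false
universe u v w
open LieAlgebra LieModule
open AdjVar

namespace Groth.Agent.S17433

open Groth.Agent.Lib.Helper6.AdjVar in


/-- Let L be a finite-dimensional simple Lie algebra over an algebraically closed field K of
characteristic zero, H a Cartan subalgebra and b a basis of (L, H) in Mathlib's sense (Chevalley
generators h_i, e_i, f_i indexed by a finite type, with simple roots α_i = b.baseSupp i and upper
Borel subalgebra 𝔟 = H + the Lie subalgebra generated by the e_i). Let ρ be the highest root: a root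
of H on L whose root space is nonzero and such that no ρ + α_i is a root (the root space of ρ + α_i
is zero for every i). Assume that exactly one simple root α_j is not orthogonal to ρ (ρ(h_i) ≠ 0 if
and only if i = j) and that ρ(h_j) = 1; for simple L these two conditions say precisely that L is
not of type A_r or C_r (r ≥ 1), the case excluded in the source. Let A be the Lie subalgebra of L
generated by the root spaces of ρ, of −ρ and of ρ − α_j; this is the smallest Lie subalgebra whose
projectivisation contains both the standard twistor conic (which spans the plane on E_ρ, H_ρ,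
E_{−ρ}) and the Borel-stable line (through E_ρ and E_{ρ−α_j}). Then A has dimension 5, its solvable
radical has dimension 2, and the image of that radical in L is the sum of the root spaces of ρ − α_j
and of −α_j (the two-dimensional ideal which the source's proof displays as the unipotent radical of
A; the solvable radical and the unipotent radical agree here because the quotient of A by this ideal
is sl_2). The published statement also says that the sl_2-subalgebra spanned by the root spaces of ρ
and −ρ is a maximal reductive subalgebra of A; that clause is not stated here. The source states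
this for an arbitrary point x of the adjoint variety, a twistor conic C and a line through x, and
reduces to the present configuration by homogeneity; only this base configuration, which its proof
computes, is stated here. -/
theorem result {ι : Type u} {K : Type v} {L : Type w} [Fintype ι] [Field K] [CharZero K]
    [IsAlgClosed K] [LieRing L] [LieAlgebra K L] [FiniteDimensional K L] [LieAlgebra.IsSimple K L]
    (H : LieSubalgebra K L) [H.IsCartanSubalgebra] (b : LieAlgebra.Basis ι H)
    (ρ : Module.Dual K H) (hρ : rootSpace H ρ ≠ ⊥) (htop : ∀ i, rootSpace H (ρ + b.baseSupp i) = ⊥)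
    (j : ι) (hN : ∀ i, ρ (b.h' i) ≠ 0 ↔ i = j) (hj : ρ (b.h' j) = 1)
    (A : LieSubalgebra K L)
    (hA : A = LieSubalgebra.lieSpan K L
      ((rootSpace H ρ : Set L) ∪ (rootSpace H (-ρ) : Set L) ∪ (rootSpace H (ρ - b.baseSupp j) : Set L))) :
    Module.finrank K A = 5 ∧ Module.finrank K (LieAlgebra.radical K A) = 2 ∧
      (LieAlgebra.radical K A).toSubmodule.map (A.incl : A →ₗ⁅K⁆ L).toLinearMap =
        (rootSpace H (ρ - b.baseSupp j) : Submodule K L) ⊔ (rootSpace H (-b.baseSupp j) : Submodule K L) := by
  classical
  obtain ⟨Hr, E, F, x, y, t, hE, hF, hx, hy⟩ := five_exists b ρ hρ htop j hj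
  have hρ0 := rho_ne b ρ j hj
  have hpen0 := pen_ne b ρ j hj
  have hnegρ0 : ∃ h, (fun h => - ρ h) h ≠ 0 := by
    obtain ⟨h, hh⟩ := hρ0
    exact ⟨h, neg_ne_zero.mpr hh⟩
  have hnegj0 : ∃ h, (fun h => - b.baseSupp j h) h ≠ 0 := by
    refine ⟨b.h' j, ?_⟩
    show - b.baseSupp j (b.h' j) ≠ 0
    rw [b.baseSupp_apply_h', A_diag]
    norm_num
  have enegρ : rootSpace H (fun h => - ρ h) = rootSpace H (-ρ) := rs_congr fun h => rfl
  have enegj : rootSpace H (fun h => - b.baseSupp j h) = rootSpace H (-b.baseSupp j) :=
    rs_congr fun h => rfl
  let Bs : LieSubalgebra K L :=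
    { toSubmodule := Submodule.span K (Set.range ![E, F, (Hr : L), x, y])
      lie_mem' := fun {u w} hu hw => five_closed t u hu w hw }
  have hEA : E ∈ A := by
    rw [hA]
    exact LieSubalgebra.subset_lieSpan (Or.inl (Or.inl hE))
  have hFA : F ∈ A := by
    rw [hA]
    refine LieSubalgebra.subset_lieSpan (Or.inl (Or.inr ?_))
    rw [← enegρ]
    exact hF
  have hxA : x ∈ A := by
    rw [hA]
    exact LieSubalgebra.subset_lieSpan (Or.inr hx)
  have hHA : (Hr : L) ∈ A := by
    rw [← t.EF]
    exact A.lie_mem hEA hFA
  have hyA : y ∈ A := by
    rw [← t.Fx]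
    exact A.lie_mem hFA hxA
  have hAB : A.toSubmodule = Submodule.span K (Set.range ![E, F, (Hr : L), x, y]) := by
    apply le_antisymm
    · have hle : A ≤ Bs := by
        rw [hA, LieSubalgebra.lieSpan_le]
        rintro u ((hu | hu) | hu)
        · obtain ⟨c, rfl⟩ := rs_one_dim hρ0 hE t.E0 hu
          show c • E ∈ Submodule.span K (Set.range ![E, F, (Hr : L), x, y])
          exact Submodule.smul_mem _ c (Submodule.subset_span ⟨0, rfl⟩)
        · have hu' : u ∈ rootSpace H (fun h => - ρ h) := by
            rw [enegρ]
            exact hu
          obtain ⟨c, rfl⟩ := rs_one_dim hnegρ0 hF t.F0 hu'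
          show c • F ∈ Submodule.span K (Set.range ![E, F, (Hr : L), x, y])
          exact Submodule.smul_mem _ c (Submodule.subset_span ⟨1, rfl⟩)
        · obtain ⟨c, rfl⟩ := rs_one_dim hpen0 hx t.x0 hu
          show c • x ∈ Submodule.span K (Set.range ![E, F, (Hr : L), x, y])
          exact Submodule.smul_mem _ c (Submodule.subset_span ⟨3, rfl⟩)
      exact fun u hu => hle hu
    · rw [Submodule.span_le]
      rintro _ ⟨i, rfl⟩
      fin_cases i
      · exact hEA
      · exact hFA
      · exact hHA
      · exact hxA
      · exact hyA
  obtain ⟨h5, h2, hmap⟩ := five_main t A hAB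
  refine ⟨h5, h2, ?_⟩
  rw [hmap]
  have e1 : (rootSpace H (ρ - b.baseSupp j) : Submodule K L) = Submodule.span K {x} := by
    apply le_antisymm
    · exact rs_le_of_mem hpen0 hx t.x0 (Submodule.mem_span_singleton_self x)
    · rw [Submodule.span_le, Set.singleton_subset_iff]
      exact hx
  have e2 : (rootSpace H (-b.baseSupp j) : Submodule K L) = Submodule.span K {y} := by
    rw [← enegj]
    apply le_antisymm
    · exact rs_le_of_mem hnegj0 hy t.y0 (Submodule.mem_span_singleton_self y)
    · rw [Submodule.span_le, Set.singleton_subset_iff]
      exact hy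
  rw [e1, e2, Submodule.span_insert]


end Groth.Agent.S17433
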