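import Groth.Statements.S17439
import Mathlib
import Groth.Agent.Lib.Helper15.TensorMapLin

set_option autoImplicit false
set_option linter.style.haveILetI false
universe u
open CategoryTheory AlgebraicGeometry
open DefoSh

namespace Groth.Agent.S17439

open CategoryTheory.Limits Opposite Groth.Agent.Lib.helper15.TensorMapLin

section aux

variable {k : Type u} [Field k] {X : Scheme.{u}} [X.Over (Spec (CommRingCat.of k))]
  {Ω' : X.Modules} (E : X.Modules)
  (nabla : Coh.toAb E ⟶ Coh.toAb (CohB1.tensorMod E Ω'))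

theorem total_app (U : X.Opens) (e : (E ⊞ E).val.obj (op U)) :
    (biprod.inl : E ⟶ E ⊞ E).app U ((biprod.fst : E ⊞ E ⟶ E).app U e) +
      (biprod.inr : E ⟶ E ⊞ E).app U ((biprod.snd : E ⊞ E ⟶ E).app U e) = e := by
  have h := congrArg (fun φ : E ⊞ E ⟶ E ⊞ E => (Scheme.Modules.Hom.app φ U).hom e)
    (biprod.total (X := E) (Y := E))
  exact h

/-- the connection `∇ ⊕ ∇` on `E ⊞ E` -/
noncomputable def trivConn : Coh.toAb (E ⊞ E) ⟶ Coh.toAb (CohB1.tensorMod (E ⊞ E) Ω') :=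
  (SheafOfModules.toSheaf X.ringCatSheaf).map (biprod.fst : E ⊞ E ⟶ E) ≫ nabla ≫
      (SheafOfModules.toSheaf X.ringCatSheaf).map
        (KoszTw.tensorMap (biprod.inl : E ⟶ E ⊞ E) (𝟙 Ω')) +
    (SheafOfModules.toSheaf X.ringCatSheaf).map (biprod.snd : E ⊞ E ⟶ E) ≫ nabla ≫
      (SheafOfModules.toSheaf X.ringCatSheaf).map
        (KoszTw.tensorMap (biprod.inr : E ⟶ E ⊞ E) (𝟙 Ω'))

/-- `f ⊗ 1` on the underlying abelian sheaves -/
noncomputable abbrev tm {M M' : X.Modules} (ι : M ⟶ M') :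
    Coh.toAb (CohB1.tensorMod M Ω') ⟶ Coh.toAb (CohB1.tensorMod M' Ω') :=
  (SheafOfModules.toSheaf X.ringCatSheaf).map (KoszTw.tensorMap ι (𝟙 Ω'))

theorem tm_apply {M M' : X.Modules} (ι : M ⟶ M') (U : X.Opens)
    (w : (CohB1.tensorMod M Ω').val.obj (op U)) :
    ConnSh.secApp (tm (Ω' := Ω') ι) U w = (KoszTw.tensorMap ι (𝟙 Ω')).app U w := rfl

theorem tm_smul {M M' : X.Modules} (ι : M ⟶ M') (U : X.Opens) (t : Γ(X, U))
    (w : (CohB1.tensorMod M Ω').val.obj (op U)) :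
    ConnSh.secApp (tm (Ω' := Ω') ι) U (t • w) = t • ConnSh.secApp (tm (Ω' := Ω') ι) U w :=
  Scheme.Modules.Hom.app_smul (KoszTw.tensorMap ι (𝟙 Ω')) t w

theorem tm_tmul {M M' : X.Modules} (ι : M ⟶ M') (U : X.Opens) (a : M.val.obj (op U))
    (b : Ω'.val.obj (op U)) :
    ConnSh.secApp (tm (Ω' := Ω') ι) U (SecTwist.tmul M Ω' U a b) =
      SecTwist.tmul M' Ω' U (ι.app U a) b :=
  KoszTw.tensorMap_tmul ι (𝟙 Ω') U a b

theorem tm_comp_apply {M M' M'' : X.Modules} (ι : M ⟶ M') (π : M' ⟶ M'') (U : X.Opens)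
    (w : (CohB1.tensorMod M Ω').val.obj (op U)) :
    ConnSh.secApp (tm (Ω' := Ω') π) U (ConnSh.secApp (tm (Ω' := Ω') ι) U w) =
      ConnSh.secApp (tm (Ω' := Ω') (ι ≫ π)) U w := by
  have h : KoszTw.tensorMap (ι ≫ π) (𝟙 Ω') =
      KoszTw.tensorMap ι (𝟙 Ω') ≫ KoszTw.tensorMap π (𝟙 Ω') := by
    have := KoszTw.tensorMap_comp ι π (𝟙 Ω') (𝟙 Ω')
    rwa [Category.comp_id] at this
  unfold tm
  rw [h]
  rfl

theorem tm_id_apply {M : X.Modules} (U : X.Opens) (w : (CohB1.tensorMod M Ω').val.obj (op U)) :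
    ConnSh.secApp (tm (Ω' := Ω') (𝟙 M)) U w = w := by
  unfold tm
  rw [KoszTw.tensorMap_id]
  rfl

theorem tm_zero_apply {M M' : X.Modules} (U : X.Opens)
    (w : (CohB1.tensorMod M Ω').val.obj (op U)) :
    ConnSh.secApp (tm (Ω' := Ω') (0 : M ⟶ M')) U w = 0 := by
  unfold tm
  rw [tensorMap_zero_left]
  rfl

theorem tm_add_apply {M M' : X.Modules} (f g : M ⟶ M') (U : X.Opens)
    (w : (CohB1.tensorMod M Ω').val.obj (op U)) :
    ConnSh.secApp (tm (Ω' := Ω') (f + g)) U w =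
      ConnSh.secApp (tm (Ω' := Ω') f) U w + ConnSh.secApp (tm (Ω' := Ω') g) U w := by
  unfold tm
  rw [tensorMap_add_left]
  rfl

theorem tm_smulHom_apply {M M' : X.Modules} (c : k) (f : M ⟶ M') (U : X.Opens)
    (w : (CohB1.tensorMod M Ω').val.obj (op U)) :
    ConnSh.secApp (tm (Ω' := Ω') (c • f)) U w =
      cRes k U c • ConnSh.secApp (tm (Ω' := Ω') f) U w := by
  unfold tm
  rw [tensorMap_smul_left]
  exact KLin.smul_app_apply c (KoszTw.tensorMap f (𝟙 Ω')) U w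

theorem trivConn_apply (U : X.Opens) (e : (E ⊞ E).val.obj (op U)) (a b : E.val.obj (op U))
    (ha : (biprod.fst : E ⊞ E ⟶ E).app U e = a) (hb : (biprod.snd : E ⊞ E ⟶ E).app U e = b) :
    ConnSh.secApp (trivConn E nabla) U e =
      ConnSh.secApp (tm (biprod.inl : E ⟶ E ⊞ E)) U (ConnSh.secApp nabla U a) +
        ConnSh.secApp (tm (biprod.inr : E ⟶ E ⊞ E)) U (ConnSh.secApp nabla U b) := by
  subst ha hb
  rfl

theorem isConn_trivConn (δ : OmegaSh.Der (X ↘ Spec (CommRingCat.of k)) Ω')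
    (hn : ConnSh.IsConn δ E nabla) : ConnSh.IsConn δ (E ⊞ E) (trivConn E nabla) := by
  intro U t e
  obtain ⟨a, ha⟩ : ∃ a : E.val.obj (op U), (biprod.fst : E ⊞ E ⟶ E).app U e = a := ⟨_, rfl⟩
  obtain ⟨b, hb⟩ : ∃ b : E.val.obj (op U), (biprod.snd : E ⊞ E ⟶ E).app U e = b := ⟨_, rfl⟩
  have h1 : (biprod.fst : E ⊞ E ⟶ E).app U (t • e) = t • a := by
    rw [← ha]
    exact Scheme.Modules.Hom.app_smul (biprod.fst : E ⊞ E ⟶ E) t e
  have h2 : (biprod.snd : E ⊞ E ⟶ E).app U (t • e) = t • b := by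
    rw [← hb]
    exact Scheme.Modules.Hom.app_smul (biprod.snd : E ⊞ E ⟶ E) t e
  have key : ∀ (ι : E ⟶ E ⊞ E) (a : E.val.obj (op U)),
      ConnSh.secApp (tm ι) U (ConnSh.secApp nabla U (t • a)) =
        t • ConnSh.secApp (tm ι) U (ConnSh.secApp nabla U a) +
          SecTwist.tmul (E ⊞ E) Ω' U (ι.app U a) (δ.app U t) := by
    intro ι a
    rw [hn U t a, map_add, tm_smul]
    congr 1
    exact tm_tmul ι U a (δ.app U t)
  rw [trivConn_apply E nabla U (t • e) (t • a) (t • b) h1 h2, trivConn_apply E nabla U e a b ha hb,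
    key, key]
  have h4 : (biprod.inl : E ⟶ E ⊞ E).app U a + (biprod.inr : E ⟶ E ⊞ E).app U b = e := by
    rw [← ha, ← hb]
    exact total_app E U e
  have h3 : SecTwist.tmul (E ⊞ E) Ω' U e (δ.app U t) =
      SecTwist.tmul (E ⊞ E) Ω' U ((biprod.inl : E ⟶ E ⊞ E).app U a) (δ.app U t) +
        SecTwist.tmul (E ⊞ E) Ω' U ((biprod.inr : E ⟶ E ⊞ E).app U b) (δ.app U t) :=
    (congrArg (fun z => SecTwist.tmul (E ⊞ E) Ω' U z (δ.app U t)) h4.symm).trans
      (tmul_add_left (E ⊞ E) Ω' U ((biprod.inl : E ⟶ E ⊞ E).app U a)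
        ((biprod.inr : E ⟶ E ⊞ E).app U b) (δ.app U t))
  rw [h3, smul_add]
  abel

theorem horizontal_fst :
    ConnSh.IsHorizontal (trivConn E nabla) nabla (biprod.fst : E ⊞ E ⟶ E) := by
  intro U e
  obtain ⟨a, ha⟩ : ∃ a : E.val.obj (op U), (biprod.fst : E ⊞ E ⟶ E).app U e = a := ⟨_, rfl⟩
  obtain ⟨b, hb⟩ : ∃ b : E.val.obj (op U), (biprod.snd : E ⊞ E ⟶ E).app U e = b := ⟨_, rfl⟩
  rw [trivConn_apply E nabla U e a b ha hb, ha]
  change _ = ConnSh.secApp (tm (biprod.fst : E ⊞ E ⟶ E)) U _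
  rw [map_add, tm_comp_apply, tm_comp_apply, biprod.inl_fst, biprod.inr_fst, tm_id_apply,
    tm_zero_apply, add_zero]

theorem nabla_scalar (δ : OmegaSh.Der (X ↘ Spec (CommRingCat.of k)) Ω')
    (hn : ConnSh.IsConn δ E nabla) (U : X.Opens) (c : k) (a : E.val.obj (op U)) :
    ConnSh.secApp nabla U (cRes k U c • a) = cRes k U c • ConnSh.secApp nabla U a := by
  have h2 : SecTwist.tmul E Ω' U a (δ.app U (cRes k U c)) = 0 :=
    (congrArg (SecTwist.tmul E Ω' U a) (der_cRes k δ U c)).trans (tmul_zero_right E Ω' U a)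
  rw [hn U (cRes k U c) a, h2, add_zero]

theorem act_fst (z : DualNumber k) :
    (dualAct k E z : E ⊞ E ⟶ E ⊞ E) ≫ biprod.fst = z.fst • (biprod.fst : E ⊞ E ⟶ E) := by
  rw [dualAct_hom]
  change (z.fst • 𝟙 (E ⊞ E) + z.snd • ((biprod.fst : E ⊞ E ⟶ E) ≫ biprod.inr)) ≫ biprod.fst = _
  simp [Preadditive.add_comp, Linear.smul_comp, Linear.comp_smul]

theorem act_snd (z : DualNumber k) :
    (dualAct k E z : E ⊞ E ⟶ E ⊞ E) ≫ biprod.snd =
      z.fst • (biprod.snd : E ⊞ E ⟶ E) + z.snd • (biprod.fst : E ⊞ E ⟶ E) := by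
  rw [dualAct_hom]
  change (z.fst • 𝟙 (E ⊞ E) + z.snd • ((biprod.fst : E ⊞ E ⟶ E) ≫ biprod.inr)) ≫ biprod.snd = _
  simp [Preadditive.add_comp, Linear.smul_comp, Linear.comp_smul]

theorem inl_act (z : DualNumber k) :
    (biprod.inl : E ⟶ E ⊞ E) ≫ (dualAct k E z : E ⊞ E ⟶ E ⊞ E) =
      z.fst • (biprod.inl : E ⟶ E ⊞ E) + z.snd • (biprod.inr : E ⟶ E ⊞ E) := by
  rw [dualAct_hom]
  change (biprod.inl : E ⟶ E ⊞ E) ≫ (z.fst • 𝟙 (E ⊞ E) + z.snd • ((biprod.fst : E ⊞ E ⟶ E) ≫ biprod.inr)) = _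
  simp [Preadditive.comp_add, Linear.smul_comp, Linear.comp_smul]

theorem inr_act (z : DualNumber k) :
    (biprod.inr : E ⟶ E ⊞ E) ≫ (dualAct k E z : E ⊞ E ⟶ E ⊞ E) =
      z.fst • (biprod.inr : E ⟶ E ⊞ E) := by
  rw [dualAct_hom]
  change (biprod.inr : E ⟶ E ⊞ E) ≫ (z.fst • 𝟙 (E ⊞ E) + z.snd • ((biprod.fst : E ⊞ E ⟶ E) ≫ biprod.inr)) = _
  simp [Preadditive.comp_add, Linear.smul_comp, Linear.comp_smul]

theorem horizontal_act (δ : OmegaSh.Der (X ↘ Spec (CommRingCat.of k)) Ω')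
    (hn : ConnSh.IsConn δ E nabla) (z : DualNumber k) :
    ConnSh.IsHorizontal (trivConn E nabla) (trivConn E nabla)
      (dualAct k E z : E ⊞ E ⟶ E ⊞ E) := by
  intro U e
  obtain ⟨a, ha⟩ : ∃ a : E.val.obj (op U), (biprod.fst : E ⊞ E ⟶ E).app U e = a := ⟨_, rfl⟩
  obtain ⟨b, hb⟩ : ∃ b : E.val.obj (op U), (biprod.snd : E ⊞ E ⟶ E).app U e = b := ⟨_, rfl⟩
  have ha' : (biprod.fst : E ⊞ E ⟶ E).app U ((dualAct k E z : E ⊞ E ⟶ E ⊞ E).app U e) =
      cRes k U z.fst • a :=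
    (congrArg (fun ψ : E ⊞ E ⟶ E => (Scheme.Modules.Hom.app ψ U).hom e) (act_fst E z)).trans
      ((KLin.smul_app_apply z.fst (biprod.fst : E ⊞ E ⟶ E) U e).trans
        (congrArg (fun v : E.val.obj (op U) => cRes k U z.fst • v) ha))
  have hb' : (biprod.snd : E ⊞ E ⟶ E).app U ((dualAct k E z : E ⊞ E ⟶ E ⊞ E).app U e) =
      cRes k U z.fst • b + cRes k U z.snd • a :=
    (congrArg (fun ψ : E ⊞ E ⟶ E => (Scheme.Modules.Hom.app ψ U).hom e) (act_snd E z)).trans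
      (congrArg₂ (fun v w : E.val.obj (op U) => v + w)
        ((KLin.smul_app_apply z.fst (biprod.snd : E ⊞ E ⟶ E) U e).trans
          (congrArg (fun v : E.val.obj (op U) => cRes k U z.fst • v) hb))
        ((KLin.smul_app_apply z.snd (biprod.fst : E ⊞ E ⟶ E) U e).trans
          (congrArg (fun v : E.val.obj (op U) => cRes k U z.snd • v) ha)))
  rw [trivConn_apply E nabla U _ _ _ ha' hb', trivConn_apply E nabla U e a b ha hb]
  change _ = ConnSh.secApp (tm (dualAct k E z : E ⊞ E ⟶ E ⊞ E)) U _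
  rw [map_add (ConnSh.secApp (tm (dualAct k E z : E ⊞ E ⟶ E ⊞ E)) U), tm_comp_apply,
    tm_comp_apply, inl_act, inr_act, tm_add_apply, tm_smulHom_apply, tm_smulHom_apply,
    tm_smulHom_apply, map_add (ConnSh.secApp nabla U), nabla_scalar E nabla δ hn,
    nabla_scalar E nabla δ hn, nabla_scalar E nabla δ hn, map_add, tm_smul, tm_smul, tm_smul]
  abel

end aux

/-- Let k be a field, X a scheme over k with a receptacle of differentials (Ω′, δ) over k, Ω′
quasi-coherent, and E a finite locally free O_X-module with a connection ∇ : E → E ⊗ Ω′. Then ∇ has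
at least one deformation over the trivial first-order deformation E ⊕ εE of E (a connection on E ⊕
εE commuting with k[ε] and reducing to ∇), so the set of deformations of ∇ over the trivial
deformation (the set that corresponds to H⁰(End(E) ⊗ Ω′)) is not empty. The published statement is
for a curve with its sheaf of differentials; this row takes any scheme over k with any
quasi-coherent receptacle of differentials, which the printed computation does not use. -/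
theorem result (k : Type u) [Field k] (X : Scheme.{u})
    [X.Over (Spec (CommRingCat.of k))] (Ω' : X.Modules) (δ : OmegaSh.Der (X ↘ Spec (CommRingCat.of k)) Ω')
    (hΩ' : Coh.IsQCoh Ω') (E : X.Modules) (hE : FlatMod.IsFinLocFree E)
    (nabla : Coh.toAb E ⟶ Coh.toAb (CohB1.tensorMod E Ω')) (hn : ConnSh.IsConn δ E nabla) :
    Nonempty (DefoSh.DefoConn δ nabla (DefoSh.Defo.trivDual k E)) := by
  exact ⟨{ conn := trivConn E nabla
           isConn := isConn_trivConn E nabla δ hn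
           act_horizontal := fun a => horizontal_act E nabla δ hn a
           π_horizontal := horizontal_fst E nabla }⟩

end Groth.Agent.S17439
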