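import Groth.Statements.S17441
import Mathlib
import Groth.Agent.Lib.Helper15.NilFlat
import Groth.Agent.Lib.Helper11.IsoLocus

set_option autoImplicit false
set_option linter.style.haveILetI false
universe u
open CategoryTheory AlgebraicGeometry
open DefoSh

namespace Groth.Agent.S17441

/-- Let k be a field, X a scheme over k, E an O_X-module and A a local Artinian k-algebra with residue
field k. If D and D′ are deformations of E over A (O_X-modules with an action of A, flat over A
stalkwise, with reductions π, π′ to E whose stalkwise kernels are m_A times the stalk), then every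
O_X-linear map φ : D.sheaf → D′.sheaf that commutes with the actions of A and satisfies φ ≫ π′ = π
is an isomorphism. The printed remark is the first-order case A = k[ε]; this row states it for every
local Artinian k-algebra A with residue field k. -/
theorem result (k : Type u) [Field k] (X : Scheme.{u})
    [X.Over (Spec (CommRingCat.of k))] (E : X.Modules) (A : ArtFun.Art k k)
    (D D' : DefoSh.Defo E A) (φ : D.sheaf ⟶ D'.sheaf)
    (hact : ∀ a : A, D.act a ≫ φ = φ ≫ D'.act a) (hπ : φ ≫ D'.π = D.π) :
    IsIso φ := by
  rw [Groth.Agent.Lib.helper11.IsoLocus.isIso_iff_stalk]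
  intro p
  letI := D.stalkMod p
  letI := D'.stalkMod p
  haveI : Module.Flat A ↑(D'.sheaf.presheaf.stalk p) := D'.flat p
  let f : ↑(D.sheaf.presheaf.stalk p) →ₗ[A] ↑(D'.sheaf.presheaf.stalk p) :=
    { toFun := RefHull.stalkMapₗ φ p
      map_add' := map_add _
      map_smul' := fun a v => by
        change RefHull.stalkMapₗ φ p (RefHull.stalkMapₗ (D.act a) p v) =
          RefHull.stalkMapₗ (D'.act a) p (RefHull.stalkMapₗ φ p v)
        rw [← DefoSh.stalkMapₗ_comp_apply, ← DefoSh.stalkMapₗ_comp_apply, hact] }
  have hnil : IsNilpotent (IsLocalRing.maximalIdeal A) := by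
    have h := IsArtinianRing.isNilpotent_jacobson_bot (R := A)
    rwa [IsLocalRing.jacobson_eq_maximalIdeal ⊥ bot_ne_top] at h
  obtain ⟨n, hn⟩ := hnil
  have hbij := Groth.Agent.Lib.helper15.NilFlat.bijective_of_flat_of_nilpotent
    (IsLocalRing.maximalIdeal A) n hn f
    (RefHull.stalkMapₗ D.π p).toAddMonoidHom (RefHull.stalkMapₗ D'.π p).toAddMonoidHom
    (fun v => by
      change RefHull.stalkMapₗ D'.π p (RefHull.stalkMapₗ φ p v) = RefHull.stalkMapₗ D.π p v
      rw [← DefoSh.stalkMapₗ_comp_apply, hπ])
    (D.surj p) (D.ker_le p) (D'.ker_le p)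
  rw [ConcreteCategory.isIso_iff_bijective]
  exact hbij

end Groth.Agent.S17441
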