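import Groth.Statements.S17444
import Mathlib.Algebra.Ring.GeomSum

set_option autoImplicit false
universe u v
open SSRed

namespace Groth.Agent.S17444

/-- Let K be a field of characteristic zero, V a K-vector space and g a K-linear endomorphism of V such
that g - 1 is nilpotent (a unipotent automorphism). Then for every integer n > 0 the endomorphisms
gⁿ - 1 and g - 1 have the same kernel: a vector fixed by gⁿ is fixed by g. (The published statement
assumes V finite-dimensional; this row allows any V.) -/
theorem result (K : Type u) (V : Type v) [Field K] [CharZero K]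
    [AddCommGroup V] [Module K V] (g : Module.End K V) (hg : IsNilpotent (g - 1)) (n : ℕ) (hn : 0 < n) :
    LinearMap.ker (g ^ n - 1) = LinearMap.ker (g - 1) := by
  set S : Module.End K V := ∑ i ∈ Finset.range n, g ^ i with hS
  have h1 : S * (g - 1) = g ^ n - 1 := geom_sum_mul g n
  have hgg : ∀ i j : ℕ, Commute (g ^ i) (g ^ j) := fun i j =>
    ((Commute.refl g).pow_left i).pow_right j
  have hcomm : ∀ i : ℕ, Commute (g - 1) (g ^ i) := fun i =>
    ((Commute.refl g).sub_left (Commute.one_left g)).pow_right i
  have hnil_i : ∀ i : ℕ, IsNilpotent (g ^ i - 1) := by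
    intro i
    rw [← mul_geom_sum g i]
    exact Commute.isNilpotent_mul_right (Commute.sum_right _ _ _ (fun j _ => hcomm j)) hg
  have hSn : IsNilpotent (S - (n : Module.End K V)) := by
    have : S - (n : Module.End K V) = ∑ i ∈ Finset.range n, (g ^ i - 1) := by
      rw [Finset.sum_sub_distrib]; simp [hS]
    rw [this]
    refine Commute.isNilpotent_sum (fun i _ => hnil_i i) (fun i j _ _ => ?_)
    exact ((hgg i j).sub_left (Commute.one_left _)).sub_right (Commute.one_right _)
  have hnunit : IsUnit (n : Module.End K V) := by
    have h0 : IsUnit (n : K) := by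
      rw [isUnit_iff_ne_zero]
      exact_mod_cast hn.ne'
    have := h0.map (algebraMap K (Module.End K V))
    rwa [map_natCast] at this
  have hSunit : IsUnit S := by
    have := hSn.isUnit_add_left_of_commute hnunit (Nat.cast_commute n _).symm
    rwa [add_sub_cancel] at this
  ext v
  simp only [LinearMap.mem_ker]
  rw [← h1, Module.End.mul_apply]
  constructor
  · intro h
    obtain ⟨u, hu⟩ := hSunit
    have : (↑u⁻¹ : Module.End K V) (S ((g - 1) v)) = 0 := by rw [h, map_zero]
    rwa [← hu, ← Module.End.mul_apply, Units.inv_mul, Module.End.one_apply] at this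
  · intro h
    rw [h, map_zero]

end Groth.Agent.S17444
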