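import Groth.Statements.S17445
import Mathlib
-- import your own Groth.Agent.* helpers here

set_option autoImplicit false
open Finset
open SSRed

namespace Groth.Agent.S17445

lemma pow_sub_one_ne_zero (ℓ a : ℕ) (hℓ : 2 ≤ ℓ) (ha : 1 ≤ a) : ℓ ^ (2 * a) - 1 ≠ 0 := by
  have : 1 < ℓ ^ (2 * a) := Nat.one_lt_pow (by omega) (by omega)
  omega

lemma fact_prod (g ℓ p : ℕ) (hℓ : 2 ≤ ℓ) :
    (∏ a ∈ Finset.Icc 1 g, (ℓ ^ (2 * a) - 1)).factorization p
      = ∑ a ∈ Finset.Icc 1 g, (ℓ ^ (2 * a) - 1).factorization p := by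
  rw [Nat.factorization_prod]
  · simp [Finsupp.finset_sum_apply]
  · intro a ha
    exact pow_sub_one_ne_zero ℓ a hℓ (Finset.mem_Icc.1 ha).1

lemma prod_ne_zero' (g ℓ : ℕ) (hℓ : 2 ≤ ℓ) : (∏ a ∈ Finset.Icc 1 g, (ℓ ^ (2 * a) - 1)) ≠ 0 := by
  rw [Finset.prod_ne_zero_iff]
  intro a ha
  exact pow_sub_one_ne_zero ℓ a hℓ (Finset.mem_Icc.1 ha).1

/-- Sum over multiples of `h`. -/
lemma sum_multiples (g h : ℕ) (hh : 0 < h) (F : ℕ → ℕ) :
    ∑ a ∈ (Finset.Icc 1 g).filter (fun a => h ∣ a), F (a / h) = ∑ i ∈ Finset.Icc 1 (g / h), F i := by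
  refine Finset.sum_nbij' (fun a => a / h) (fun i => h * i) ?_ ?_ ?_ ?_ ?_
  · intro a ha
    simp only [Finset.mem_filter, Finset.mem_Icc] at ha ⊢
    obtain ⟨⟨h1, h2⟩, k, rfl⟩ := ha
    rw [Nat.mul_div_cancel_left _ hh]
    constructor
    · rcases Nat.eq_zero_or_pos k with hk | hk
      · subst hk; omega
      · exact hk
    · rw [Nat.le_div_iff_mul_le hh, mul_comm]; exact h2
  · intro i hi
    simp only [Finset.mem_filter, Finset.mem_Icc] at hi ⊢
    refine ⟨⟨?_, ?_⟩, dvd_mul_right _ _⟩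
    · exact Nat.one_le_iff_ne_zero.2 (Nat.mul_ne_zero hh.ne' (by omega))
    · have := (Nat.le_div_iff_mul_le hh).1 hi.2
      rw [mul_comm]; exact this
  · intro a ha
    simp only [Finset.mem_filter, Finset.mem_Icc] at ha
    exact Nat.mul_div_cancel' ha.2
  · intro i _
    exact Nat.mul_div_cancel_left _ hh
  · intro a _
    rfl

/-- The valuation of a factorial as a sum. -/
lemma sum_padicValNat_Icc (p : ℕ) [Fact p.Prime] (g : ℕ) :
    ∑ a ∈ Finset.Icc 1 g, padicValNat p a = padicValNat p g.factorial := by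
  induction g with
  | zero => simp
  | succ g ih =>
    rw [Finset.sum_Icc_succ_top (by omega), ih, Nat.factorial_succ,
      padicValNat.mul (by omega) (Nat.factorial_ne_zero g)]
    ring

/-- Fermat: `p ∣ ℓ^(p-1) - 1`. -/
lemma dvd_pow_pred_sub_one (p : ℕ) (hp : p.Prime) (ℓ : ℕ) (hpl : ¬ p ∣ ℓ) : p ∣ ℓ ^ (p - 1) - 1 := by
  haveI := Fact.mk hp
  have h1 : ((ℓ : ZMod p)) ≠ 0 := by
    rw [Ne, ZMod.natCast_eq_zero_iff]; exact hpl
  have h2 := ZMod.pow_card_sub_one_eq_one h1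
  rw [← ZMod.natCast_eq_zero_iff, Nat.cast_sub (Nat.one_le_pow _ _ (Nat.pos_of_ne_zero (by
    rintro rfl; exact hpl (dvd_zero p))))]
  push_cast
  rw [h2, sub_self]

/-- LTE for odd `p`. -/
lemma odd_val (p : ℕ) (hp : p.Prime) (hodd : Odd p) (ℓ : ℕ) (hℓ : 2 ≤ ℓ) (hpl : ¬ p ∣ ℓ)
    (h : ℕ) (hh : p - 1 = 2 * h) (m : ℕ) (hm : m ≠ 0) :
    (ℓ ^ (2 * (h * m)) - 1).factorization p
      = (ℓ ^ (2 * h) - 1).factorization p + m.factorization p := by
  haveI := Fact.mk hp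
  rw [Nat.factorization_def _ hp, Nat.factorization_def _ hp, Nat.factorization_def _ hp]
  have hh0 : h ≠ 0 := by
    rintro rfl
    have := hp.two_le
    have : p ≠ 2 := fun h2 => by subst h2; exact (Nat.not_even_iff_odd.2 hodd) even_two
    omega
  have hx1 : 1 < ℓ ^ (2 * h) := Nat.one_lt_pow (by omega) (by omega)
  have hdvd : p ∣ ℓ ^ (2 * h) - 1 := by
    rw [← hh]; exact dvd_pow_pred_sub_one p hp ℓ hpl
  have hndvd : ¬ p ∣ ℓ ^ (2 * h) := fun hd => hpl (hp.dvd_of_dvd_pow hd)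
  have := padicValNat.pow_sub_pow hodd hx1 hdvd hndvd hm
  rw [one_pow] at this
  rw [← mul_assoc, pow_mul, this]

/-- LTE for `p = 2`. -/
lemma two_val (ℓ : ℕ) (hℓ : 2 ≤ ℓ) (hodd : ¬ 2 ∣ ℓ) (a : ℕ) (ha : a ≠ 0) :
    (ℓ ^ (2 * a) - 1).factorization 2
      = (padicValNat 2 (ℓ + 1) + padicValNat 2 (ℓ - 1)) + a.factorization 2 := by
  haveI := Fact.mk Nat.prime_two
  rw [Nat.factorization_def _ Nat.prime_two, Nat.factorization_def _ Nat.prime_two]
  have h1 := padicValNat.pow_two_sub_one (x := ℓ) (n := 2 * a) (by omega) hodd (by omega)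
    (even_two_mul a)
  rw [padicValNat.mul (by norm_num) ha, padicValNat_self] at h1
  omega

/-- `q ∣ ℓ^n - 1` iff `ℓ^n = 1` in `ZMod q`. -/
lemma dvd_pow_sub_one_iff (q ℓ n : ℕ) (hℓ : 1 ≤ ℓ) : q ∣ ℓ ^ n - 1 ↔ ((ℓ : ZMod q)) ^ n = 1 := by
  rw [← ZMod.natCast_eq_zero_iff, Nat.cast_sub (Nat.one_le_pow _ _ hℓ)]
  push_cast
  rw [sub_eq_zero]

lemma odd_h_pos (p : ℕ) (hp : p.Prime) (hodd : Odd p) (h : ℕ) (hh : p - 1 = 2 * h) : 0 < h := by
  rcases Nat.eq_zero_or_pos h with rfl | h0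
  · have := hp.two_le
    have : p ≠ 2 := fun h2 => by subst h2; exact (Nat.not_even_iff_odd.2 hodd) even_two
    omega
  · exact h0

/-- sum over multiples of `h` for odd `p`. -/
lemma odd_sum_multiples (p : ℕ) (hp : p.Prime) (hodd : Odd p) (ℓ : ℕ) (hℓ : 2 ≤ ℓ) (hpl : ¬ p ∣ ℓ)
    (h : ℕ) (hh : p - 1 = 2 * h) (g : ℕ) :
    ∑ a ∈ (Finset.Icc 1 g).filter (fun a => h ∣ a), (ℓ ^ (2 * a) - 1).factorization p
      = (g / h) * (ℓ ^ (2 * h) - 1).factorization p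
        + ∑ i ∈ Finset.Icc 1 (g / h), padicValNat p i := by
  have hh0 : 0 < h := odd_h_pos p hp hodd h hh
  have key : ∀ a ∈ (Finset.Icc 1 g).filter (fun a => h ∣ a),
      (ℓ ^ (2 * a) - 1).factorization p
        = (fun i => (ℓ ^ (2 * h) - 1).factorization p + padicValNat p i) (a / h) := by
    intro a ha
    simp only [Finset.mem_filter, Finset.mem_Icc] at ha
    obtain ⟨⟨h1, h2⟩, k, rfl⟩ := ha
    rw [Nat.mul_div_cancel_left _ hh0]
    have hk : k ≠ 0 := by rintro rfl; omega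
    rw [odd_val p hp hodd ℓ hℓ hpl h hh k hk, Nat.factorization_def k hp]
  rw [Finset.sum_congr rfl key]
  refine (sum_multiples g h hh0
    (fun i => (ℓ ^ (2 * h) - 1).factorization p + padicValNat p i)).trans ?_
  rw [Finset.sum_add_distrib, Finset.sum_const, Nat.card_Icc]
  simp

lemma odd_c_pos (p : ℕ) (hp : p.Prime) (ℓ : ℕ) (hℓ : 2 ≤ ℓ) (hpl : ¬ p ∣ ℓ)
    (h : ℕ) (hh0 : 0 < h) (hh : p - 1 = 2 * h) : 1 ≤ (ℓ ^ (2 * h) - 1).factorization p := by
  have hdvd : p ∣ ℓ ^ (2 * h) - 1 := by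
    rw [← hh]; exact dvd_pow_pred_sub_one p hp ℓ hpl
  exact Nat.Prime.factorization_pos_of_dvd hp (pow_sub_one_ne_zero ℓ h hℓ hh0) hdvd

lemma odd_lower (p : ℕ) (hp : p.Prime) (hodd : Odd p) (ℓ : ℕ) (hℓ : 2 ≤ ℓ) (hpl : ¬ p ∣ ℓ)
    (h : ℕ) (hh : p - 1 = 2 * h) (g : ℕ) :
    (g / h) + ∑ i ∈ Finset.Icc 1 (g / h), padicValNat p i
      ≤ (∏ a ∈ Finset.Icc 1 g, (ℓ ^ (2 * a) - 1)).factorization p := by
  rw [fact_prod g ℓ p hℓ]
  have hh0 : 0 < h := odd_h_pos p hp hodd h hh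
  have hc := odd_c_pos p hp ℓ hℓ hpl h hh0 hh
  calc (g / h) + ∑ i ∈ Finset.Icc 1 (g / h), padicValNat p i
      ≤ (g / h) * (ℓ ^ (2 * h) - 1).factorization p
        + ∑ i ∈ Finset.Icc 1 (g / h), padicValNat p i := by
        gcongr
        exact Nat.le_mul_of_pos_right _ hc
    _ = ∑ a ∈ (Finset.Icc 1 g).filter (fun a => h ∣ a), (ℓ ^ (2 * a) - 1).factorization p :=
        (odd_sum_multiples p hp hodd ℓ hℓ hpl h hh g).symm
    _ ≤ _ := Finset.sum_le_sum_of_subset (Finset.filter_subset _ _)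

lemma exists_good_prime_odd (p : ℕ) (hp : p.Prime) (hodd : Odd p) (B : ℕ) :
    ∃ ℓ : ℕ, ℓ.Prime ∧ B < ℓ ∧ ¬ p ∣ ℓ ∧ (∀ n, (p ^ 2 ∣ ℓ ^ n - 1) → p * (p - 1) ∣ n) := by
  haveI := Fact.mk hp
  have hp2 : p ≠ 2 := fun h2 => by subst h2; exact (Nat.not_even_iff_odd.2 hodd) even_two
  haveI : IsCyclic (ZMod (p ^ 2))ˣ := ZMod.isCyclic_units_of_prime_pow p hp hp2 2
  obtain ⟨u, hu⟩ := IsCyclic.exists_generator (α := (ZMod (p ^ 2))ˣ)
  haveI : NeZero (p ^ 2) := ⟨pow_ne_zero 2 hp.ne_zero⟩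
  have hord : orderOf u = p * (p - 1) := by
    rw [orderOf_eq_card_of_forall_mem_zpowers hu, Nat.card_eq_fintype_card,
      ZMod.card_units_eq_totient, Nat.totient_prime_pow hp (by norm_num)]
    simp
  obtain ⟨ℓ, hgt, hprime, hmod⟩ := Nat.forall_exists_prime_gt_and_eq_mod (q := p ^ 2) u.isUnit B
  refine ⟨ℓ, hprime, hgt, ?_, ?_⟩
  · have h1 : IsUnit ((ℓ : ℕ) : ZMod (p ^ 2)) := by rw [hmod]; exact u.isUnit
    rw [ZMod.isUnit_iff_coprime, Nat.coprime_pow_right_iff (by norm_num)] at h1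
    exact (Nat.Prime.coprime_iff_not_dvd hp).1 h1.symm
  · intro n hn
    rw [dvd_pow_sub_one_iff _ _ _ hprime.one_le, hmod] at hn
    rw [← hord]
    apply orderOf_dvd_of_pow_eq_one
    ext
    push_cast
    exact hn

/-- `p ∣ ℓ^m - 1` implies `p^2 ∣ ℓ^(m p) - 1`. -/
lemma sq_dvd_of_dvd (p : ℕ) (hp : p.Prime) (ℓ m : ℕ) (hℓ : 1 ≤ ℓ) (hd : p ∣ ℓ ^ m - 1) :
    p ^ 2 ∣ ℓ ^ (m * p) - 1 := by
  rw [dvd_pow_sub_one_iff _ _ _ hℓ]
  obtain ⟨k, hk⟩ := hd
  have h1 : ℓ ^ m = p * k + 1 := by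
    have := Nat.one_le_pow m ℓ hℓ
    omega
  have h2 : ((p : ℕ) : ZMod (p ^ 2)) ∣ ((ℓ : ZMod (p ^ 2)) ^ m - 1) := by
    refine ⟨(k : ZMod (p ^ 2)), ?_⟩
    have := congrArg (Nat.cast : ℕ → ZMod (p ^ 2)) h1
    push_cast at this
    rw [this]; ring
  have h3 := dvd_sub_pow_of_dvd_sub h2 1
  have h4 : ((p : ℕ) : ZMod (p ^ 2)) ^ (1 + 1) = 0 := by
    have := ZMod.natCast_self (p ^ 2)
    push_cast at this
    exact this
  rw [h4, zero_dvd_iff, one_pow, pow_one, sub_eq_zero, ← pow_mul] at h3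
  exact h3

lemma odd_upper (p : ℕ) (hp : p.Prime) (hodd : Odd p) (g B : ℕ) :
    ∃ ℓ : ℕ, ℓ.Prime ∧ B < ℓ ∧
      (∏ a ∈ Finset.Icc 1 g, (ℓ ^ (2 * a) - 1)).factorization p
        = (2 * g) / (p - 1) + ∑ i ∈ Finset.Icc 1 ((2 * g) / (p - 1)), padicValNat p i := by
  obtain ⟨ℓ, hprime, hgt, hpl, hn⟩ := exists_good_prime_odd p hp hodd B
  refine ⟨ℓ, hprime, hgt, ?_⟩
  have hℓ : 2 ≤ ℓ := hprime.two_le
  obtain ⟨h, hh⟩ : ∃ h, p - 1 = 2 * h := by
    obtain ⟨k, hk⟩ := hodd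
    exact ⟨k, by omega⟩
  have hh0 : 0 < h := odd_h_pos p hp hodd h hh
  have hdiv : (2 * g) / (p - 1) = g / h := by
    rw [hh, Nat.mul_div_mul_left g h two_pos]
  rw [hdiv, fact_prod g ℓ p hℓ,
    ← Finset.sum_filter_add_sum_filter_not (Finset.Icc 1 g) (fun a => h ∣ a),
    odd_sum_multiples p hp hodd ℓ hℓ hpl h hh g]
  have hc : (ℓ ^ (2 * h) - 1).factorization p = 1 := by
    apply le_antisymm _ (odd_c_pos p hp ℓ hℓ hpl h hh0 hh)
    by_contra hlt
    push_neg at hlt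
    have h2 : p ^ 2 ∣ ℓ ^ (2 * h) - 1 :=
      (Nat.Prime.pow_dvd_iff_le_factorization hp (pow_sub_one_ne_zero ℓ h hℓ hh0)).2 hlt
    have h3 := hn _ h2
    rw [← hh] at h3
    have h4 := Nat.le_of_dvd (by have := hp.two_le; omega) h3
    have := hp.two_le
    nlinarith
  have hz : ∑ a ∈ (Finset.Icc 1 g).filter (fun a => ¬ h ∣ a),
      (ℓ ^ (2 * a) - 1).factorization p = 0 := by
    apply Finset.sum_eq_zero
    intro a ha
    simp only [Finset.mem_filter, Finset.mem_Icc] at ha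
    apply Nat.factorization_eq_zero_of_not_dvd
    intro hd
    have h2 := sq_dvd_of_dvd p hp ℓ (2 * a) hprime.one_le hd
    have h3 := hn _ h2
    rw [mul_comm (2 * a) p] at h3
    have h4 : (p - 1) ∣ 2 * a := Nat.dvd_of_mul_dvd_mul_left hp.pos h3
    rw [hh] at h4
    exact ha.2 (Nat.dvd_of_mul_dvd_mul_left two_pos h4)
  rw [hc, hz]
  simp

/-- total 2-adic valuation. -/
lemma two_total (ℓ : ℕ) (hℓ : 2 ≤ ℓ) (hodd : ¬ 2 ∣ ℓ) (g : ℕ) :
    (∏ a ∈ Finset.Icc 1 g, (ℓ ^ (2 * a) - 1)).factorization 2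
      = g * (padicValNat 2 (ℓ + 1) + padicValNat 2 (ℓ - 1)) + padicValNat 2 g.factorial := by
  haveI := Fact.mk Nat.prime_two
  rw [fact_prod g ℓ 2 hℓ, ← sum_padicValNat_Icc 2 g]
  have key : ∀ a ∈ Finset.Icc 1 g, (ℓ ^ (2 * a) - 1).factorization 2
      = (padicValNat 2 (ℓ + 1) + padicValNat 2 (ℓ - 1)) + padicValNat 2 a := by
    intro a ha
    have ha1 := (Finset.mem_Icc.1 ha).1
    rw [two_val ℓ hℓ hodd a (by omega), Nat.factorization_def _ Nat.prime_two]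
  rw [Finset.sum_congr rfl key, Finset.sum_add_distrib, Finset.sum_const, Nat.card_Icc]
  simp

lemma two_lower (ℓ : ℕ) (hℓ : 2 ≤ ℓ) (hodd : ¬ 2 ∣ ℓ) :
    3 ≤ padicValNat 2 (ℓ + 1) + padicValNat 2 (ℓ - 1) := by
  haveI := Fact.mk Nat.prime_two
  have h8 : 8 ∣ ℓ ^ 2 - 1 := Nat.eight_dvd_sq_sub_one_of_odd (Nat.odd_iff.2 (by omega))
  have he : ℓ ^ 2 - 1 = (ℓ + 1) * (ℓ - 1) := by
    obtain ⟨k, rfl⟩ : ∃ k, ℓ = k + 1 := ⟨ℓ - 1, by omega⟩
    simp only [Nat.add_sub_cancel]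
    have : (k + 1) ^ 2 = (k + 1 + 1) * k + 1 := by ring
    omega
  rw [he] at h8
  rw [← padicValNat.mul (by omega) (by omega)]
  have : (2 : ℕ) ^ 3 ∣ (ℓ + 1) * (ℓ - 1) := by norm_num; exact h8
  exact (padicValNat_dvd_iff_le (Nat.mul_ne_zero (by omega) (by omega))).1 this

lemma two_upper (B : ℕ) : ∃ ℓ : ℕ, ℓ.Prime ∧ B < ℓ ∧ ¬ 2 ∣ ℓ ∧
    padicValNat 2 (ℓ + 1) + padicValNat 2 (ℓ - 1) = 3 := by
  haveI := Fact.mk Nat.prime_two
  have hu : IsUnit ((3 : ℕ) : ZMod 8) := (ZMod.isUnit_iff_coprime 3 8).2 (by norm_num)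
  obtain ⟨ℓ, hgt, hprime, hmod⟩ := Nat.forall_exists_prime_gt_and_eq_mod (q := 8) hu B
  rw [ZMod.natCast_eq_natCast_iff'] at hmod
  norm_num at hmod
  obtain ⟨k, rfl⟩ : ∃ k, ℓ = 8 * k + 3 := ⟨ℓ / 8, by omega⟩
  refine ⟨_, hprime, hgt, by omega, ?_⟩
  have e1 : 8 * k + 3 + 1 = 2 ^ 2 * (2 * k + 1) := by ring
  have e2 : 8 * k + 3 - 1 = 2 ^ 1 * (4 * k + 1) := by omega
  rw [e1, e2, padicValNat.mul (by norm_num) (by omega), padicValNat.mul (by norm_num) (by omega),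
    padicValNat.prime_pow, padicValNat.prime_pow,
    padicValNat.eq_zero_of_not_dvd (by omega), padicValNat.eq_zero_of_not_dvd (by omega)]

/-- the exponent at an odd prime -/
def E (g p : ℕ) : ℕ :=
  (2 * g) / (p - 1) + ∑ i ∈ Finset.Icc 1 ((2 * g) / (p - 1)), padicValNat p i

def NN (g : ℕ) : ℕ :=
  2 ^ (3 * g + padicValNat 2 g.factorial) *
    ∏ p ∈ (Finset.Icc 3 (2 * g + 1)).filter Nat.Prime, p ^ (E g p)

lemma prodS_ne_zero (g : ℕ) :
    (∏ p ∈ (Finset.Icc 3 (2 * g + 1)).filter Nat.Prime, p ^ (E g p)) ≠ 0 := by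
  rw [Finset.prod_ne_zero_iff]
  intro p hp
  exact pow_ne_zero _ (Finset.mem_filter.1 hp).2.ne_zero

lemma NN_ne_zero (g : ℕ) : NN g ≠ 0 :=
  Nat.mul_ne_zero (pow_ne_zero _ two_ne_zero) (prodS_ne_zero g)

lemma N_fact (g q : ℕ) : (NN g).factorization q
    = (if q = 2 then 3 * g + padicValNat 2 g.factorial else 0)
      + (if q ∈ (Finset.Icc 3 (2 * g + 1)).filter Nat.Prime then E g q else 0) := by
  unfold NN
  rw [Nat.factorization_mul (pow_ne_zero _ two_ne_zero) (prodS_ne_zero g),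
    Nat.factorization_prod (fun p hp => pow_ne_zero _ (Finset.mem_filter.1 hp).2.ne_zero),
    Finsupp.add_apply, Finsupp.finset_sum_apply, Nat.Prime.factorization_pow Nat.prime_two]
  have key : ∀ p ∈ (Finset.Icc 3 (2 * g + 1)).filter Nat.Prime,
      (p ^ E g p).factorization q = if p = q then E g p else 0 := by
    intro p hp
    rw [Nat.Prime.factorization_pow (Finset.mem_filter.1 hp).2, Finsupp.single_apply]
  rw [Finset.sum_congr rfl key, Finset.sum_ite_eq', Finsupp.single_apply]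
  congr 1
  by_cases h : q = 2
  · subst h; simp
  · rw [if_neg h, if_neg (fun h' => h h'.symm)]

lemma two_not_mem (g : ℕ) : 2 ∉ (Finset.Icc 3 (2 * g + 1)).filter Nat.Prime := by
  simp

lemma E_eq_zero (g q : ℕ) (hq : 2 * g + 1 < q) : E g q = 0 := by
  unfold E
  have : (2 * g) / (q - 1) = 0 := Nat.div_eq_of_lt (by omega)
  rw [this]; simp

lemma N_dvd (g B : ℕ) (hB : 2 * g + 1 ≤ B) (hg : 0 < g) (ℓ : ℕ) (hprime : ℓ.Prime) (hgt : B < ℓ) :
    NN g ∣ ∏ a ∈ Finset.Icc 1 g, (ℓ ^ (2 * a) - 1) := by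
  have hℓ : 2 ≤ ℓ := hprime.two_le
  rw [← Nat.factorization_prime_le_iff_dvd (NN_ne_zero g) (prod_ne_zero' g ℓ hℓ)]
  intro q hq
  rw [N_fact]
  by_cases h2 : q = 2
  · subst h2
    have hodd : ¬ 2 ∣ ℓ := by
      intro hd
      have := (Nat.prime_dvd_prime_iff_eq Nat.prime_two hprime).1 hd
      omega
    rw [if_pos rfl, if_neg (two_not_mem g), two_total ℓ hℓ hodd g]
    have := two_lower ℓ hℓ hodd
    nlinarith
  · rw [if_neg h2, zero_add]
    split_ifs with hS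
    · have hodd : Odd q := hq.odd_of_ne_two h2
      obtain ⟨h, hh⟩ : ∃ h, q - 1 = 2 * h := by
        obtain ⟨k, hk⟩ := hodd
        exact ⟨k, by omega⟩
      have hql : ¬ q ∣ ℓ := by
        intro hd
        have := (Nat.prime_dvd_prime_iff_eq hq hprime).1 hd
        simp only [Finset.mem_filter, Finset.mem_Icc] at hS
        omega
      have := odd_lower q hq hodd ℓ hℓ hql h hh g
      have hdiv : (2 * g) / (q - 1) = g / h := by
        rw [hh, Nat.mul_div_mul_left g h two_pos]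
      unfold E
      rw [hdiv]
      exact this
    · exact Nat.zero_le _


/-- For natural numbers g and B with B ≥ 2g + 1, a natural number d divides ∏_{a=1}^{g} (ℓ^{2a} - 1) for
every prime ℓ > B if and only if d divides N(g) = 2^{3g + v₂(g!)} · ∏_{3 ≤ p ≤ 2g+1, p prime}
p^{[2g/(p-1)] + Σ_{1 ≤ i ≤ [2g/(p-1)]} v_p(i)}. In words: N(g) is the greatest common divisor of
these products as ℓ runs through the primes beyond any bound that is at least 2g + 1; its prime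
factors are the primes p ≤ 2g + 1. (This is the number N(g) of the published result, which bounds
the degree of the field of semistable reduction of a g-dimensional abelian variety over a strictly
henselian discretely valued field; the printed phrase is the greatest common divisor over all large
primes, made precise here by the bound 2g + 1, below which a prime ℓ ≤ 2g + 1 divides N(g) but not
its own product.) -/
theorem result (g B d : ℕ) (hB : 2 * g + 1 ≤ B) :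
    (∀ ℓ : ℕ, ℓ.Prime → B < ℓ → d ∣ ∏ a ∈ Icc 1 g, (ℓ ^ (2 * a) - 1)) ↔
      d ∣ 2 ^ (3 * g + padicValNat 2 g.factorial) *
        ∏ p ∈ (Icc 3 (2 * g + 1)).filter Nat.Prime,
          p ^ ((2 * g) / (p - 1) + ∑ i ∈ Icc 1 ((2 * g) / (p - 1)), padicValNat p i) := by
  rcases Nat.eq_zero_or_pos g with rfl | hg
  · constructor
    · intro H
      obtain ⟨ℓ, hgt, hprime⟩ := Nat.exists_infinite_primes (B + 1)
      have := H ℓ hprime (by omega)
      simpa using this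
    · intro H ℓ _ _
      simpa using H
  · change _ ↔ d ∣ NN g
    constructor
    · intro H
      obtain ⟨ℓ0, hgt0, hprime0⟩ := Nat.exists_infinite_primes (B + 1)
      have hd0 : d ≠ 0 := by
        rintro rfl
        have := H ℓ0 hprime0 (by omega)
        rw [zero_dvd_iff] at this
        exact prod_ne_zero' g ℓ0 hprime0.two_le this
      rw [← Nat.factorization_prime_le_iff_dvd hd0 (NN_ne_zero g)]
      intro q hq
      by_cases h2 : q = 2
      · subst h2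
        obtain ⟨ℓ, hprime, hgt, hodd, h3⟩ := two_upper B
        have := (Nat.factorization_le_iff_dvd hd0 (prod_ne_zero' g ℓ hprime.two_le)).2
          (H ℓ hprime hgt) 2
        rw [two_total ℓ hprime.two_le hodd g, h3] at this
        rw [N_fact, if_pos rfl, if_neg (two_not_mem g)]
        omega
      · have hodd := hq.odd_of_ne_two h2
        obtain ⟨ℓ, hprime, hgt, heq⟩ := odd_upper q hq hodd g B
        have := (Nat.factorization_le_iff_dvd hd0 (prod_ne_zero' g ℓ hprime.two_le)).2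
          (H ℓ hprime hgt) q
        rw [heq] at this
        rw [N_fact, if_neg h2, zero_add]
        split_ifs with hS
        · exact this
        · have h3 : 3 ≤ q := by
            have := hq.two_le
            omega
          have hq' : 2 * g + 1 < q := by
            by_contra hle
            exact hS (Finset.mem_filter.2 ⟨Finset.mem_Icc.2 ⟨h3, by omega⟩, hq⟩)
          have hE := E_eq_zero g q hq'
          unfold E at hE
          omega
    · intro H ℓ hprime hgt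
      exact H.trans (N_dvd g B hB hg ℓ hprime hgt)

end Groth.Agent.S17445
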