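import Groth.Statements.S17446
import Mathlib

set_option autoImplicit false
universe u v
open SSRed

namespace Groth.Agent.S17446


variable {K : Type u} {V : Type v} [Field K] [AddCommGroup V] [Module K V]

/-- augmentation: span of `(h-1) w`. -/
def aug (H : Subgroup (V ≃ₗ[K] V)) (W : Submodule K V) : Submodule K V :=
  Submodule.span K {v | ∃ h ∈ H, ∃ w ∈ W, v = h w - w}

lemma sub_mem_aug {H : Subgroup (V ≃ₗ[K] V)} {W : Submodule K V} {h : V ≃ₗ[K] V} (hh : h ∈ H)
    {w : V} (hw : w ∈ W) : h w - w ∈ aug H W :=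
  Submodule.subset_span ⟨h, hh, w, hw, rfl⟩

lemma aug_le {H : Subgroup (V ≃ₗ[K] V)} {W U : Submodule K V}
    (hU : ∀ h ∈ H, ∀ w ∈ W, h w - w ∈ U) : aug H W ≤ U := by
  refine Submodule.span_le.mpr ?_
  rintro _ ⟨h, hh, w, hw, rfl⟩
  exact hU h hh w hw

lemma aug_mono (H : Subgroup (V ≃ₗ[K] V)) : Monotone (aug (K := K) (V := V) H) := by
  intro W W' hWW'
  exact aug_le fun h hh w hw => sub_mem_aug hh (hWW' hw)

def Stab (H : Subgroup (V ≃ₗ[K] V)) (W : Submodule K V) : Prop := ∀ h ∈ H, ∀ w ∈ W, h w ∈ W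

lemma aug_le_of_stab {H : Subgroup (V ≃ₗ[K] V)} {W : Submodule K V} (hs : Stab H W) :
    aug H W ≤ W :=
  aug_le fun h hh w hw => W.sub_mem (hs h hh w hw) hw

lemma map_mem_of_mem_aug {H : Subgroup (V ≃ₗ[K] V)} {W U : Submodule K V} (x : V ≃ₗ[K] V)
    (hx : ∀ h ∈ H, ∀ w ∈ W, x (h w - w) ∈ U) {u : V} (hu : u ∈ aug H W) : x u ∈ U := by
  have h1 : aug H W ≤ U.comap x.toLinearMap := aug_le fun h hh w hw => by
    rw [Submodule.mem_comap]
    exact hx h hh w hw
  exact h1 hu

lemma stab_aug_self (H : Subgroup (V ≃ₗ[K] V)) (W : Submodule K V) : Stab H (aug H W) := by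
  intro h hh u hu
  refine map_mem_of_mem_aug h (fun h' hh' w hw => ?_) hu
  have e : h (h' w - w) = ((h * h') w - w) - (h w - w) := by
    rw [LinearEquiv.mul_apply, map_sub]
    abel
  rw [e]
  exact Submodule.sub_mem _ (sub_mem_aug (H.mul_mem hh hh') hw) (sub_mem_aug hh hw)

lemma stab_aug_of_norm {H₁ H₂ : Subgroup (V ≃ₗ[K] V)}
    (hnorm : ∀ g ∈ H₂, ∀ h ∈ H₁, g * h * g⁻¹ ∈ H₁) {W : Submodule K V} (hs : Stab H₂ W) :
    Stab H₂ (aug H₁ W) := by
  intro g hg u hu
  refine map_mem_of_mem_aug g (fun h hh w hw => ?_) hu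
  have e1 : (g * h * g⁻¹) (g w) = g (h w) := by
    rw [← LinearEquiv.mul_apply, inv_mul_cancel_right, LinearEquiv.mul_apply]
  have e : g (h w - w) = (g * h * g⁻¹) (g w) - g w := by
    rw [e1, map_sub]
  rw [e]
  exact sub_mem_aug (hnorm g hg h hh) (hs g hg w hw)

/-- the set of values of `n`-fold products. -/
def P (H : Subgroup (V ≃ₗ[K] V)) (k : ℕ) : Set V :=
  {v | ∃ f : Fin k → ↥H, ∃ w : V,
    v = (List.ofFn fun i => (((f i : ↥H) : V ≃ₗ[K] V) : Module.End K V) - 1).prod w}

lemma iter_le_span_P (H : Subgroup (V ≃ₗ[K] V)) (k : ℕ) :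
    (aug H)^[k] ⊤ ≤ Submodule.span K (P H k) := by
  induction k with
  | zero =>
    intro v _
    exact Submodule.subset_span ⟨Fin.elim0, v, by simp⟩
  | succ k ih =>
    rw [Function.iterate_succ_apply']
    refine (aug_mono H ih).trans ?_
    refine aug_le fun h hh u hu => ?_
    have h1 : Submodule.span K (P H k) ≤
        (Submodule.span K (P H (k + 1))).comap (((h : V ≃ₗ[K] V) : Module.End K V) - 1) := by
      refine Submodule.span_le.mpr ?_
      rintro _ ⟨f, w, rfl⟩
      rw [SetLike.mem_coe, Submodule.mem_comap]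
      refine Submodule.subset_span ⟨Fin.cons ⟨h, hh⟩ f, w, ?_⟩
      rw [List.ofFn_succ, List.prod_cons]
      simp [Module.End.mul_apply]
    have h2 := h1 hu
    rw [Submodule.mem_comap] at h2
    simpa using h2

lemma iter_eq_bot_of_unip (H : Subgroup (V ≃ₗ[K] V)) (n : ℕ)
    (hn : ∀ f : Fin n → ↥H,
      (List.ofFn fun i => (((f i : ↥H) : V ≃ₗ[K] V) : Module.End K V) - 1).prod = 0) :
    (aug H)^[n] ⊤ = ⊥ := by
  rw [eq_bot_iff]
  refine (iter_le_span_P H n).trans (Submodule.span_le.mpr ?_)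
  rintro _ ⟨f, w, rfl⟩
  rw [hn f]
  simp

lemma prod_mem_flag (G : Subgroup (V ≃ₗ[K] V)) (F : ℕ → Submodule K V)
    (hF : ∀ x ∈ G, ∀ k, ∀ w ∈ F k, x w - w ∈ F (k + 1)) :
    ∀ (m : ℕ) (f : Fin m → ↥G) (k : ℕ) (w : V), w ∈ F k →
      (List.ofFn fun i => (((f i : ↥G) : V ≃ₗ[K] V) : Module.End K V) - 1).prod w ∈ F (k + m) := by
  intro m
  induction m with
  | zero =>
    intro f k w hw
    simpa using hw
  | succ m ih =>
    intro f k w hw
    rw [List.ofFn_succ, List.prod_cons, Module.End.mul_apply]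
    have h1 := ih (fun i => f i.succ) k w hw
    have h2 := hF (f 0) (f 0).2 (k + m) _ h1
    rw [LinearMap.sub_apply, Module.End.one_apply, LinearEquiv.coe_coe, ← add_assoc]
    exact h2

lemma stab_A {H₁ H₂ : Subgroup (V ≃ₗ[K] V)}
    (hnorm : ∀ g ∈ H₂, ∀ h ∈ H₁, g * h * g⁻¹ ∈ H₁) {W : Submodule K V}
    (hs₂ : Stab H₂ W) :
    Stab H₁ (aug H₁ W ⊔ aug H₂ W) ∧ Stab H₂ (aug H₁ W ⊔ aug H₂ W) := by
  constructor
  · intro h hh u hu
    obtain ⟨a, ha, b, hb, rfl⟩ := Submodule.mem_sup.mp hu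
    rw [map_add]
    have hb' : b ∈ W := aug_le_of_stab hs₂ hb
    have e : h b = (h b - b) + b := by abel
    rw [e, ← add_assoc]
    exact Submodule.add_mem _ (Submodule.mem_sup_left (Submodule.add_mem _
      (stab_aug_self H₁ W h hh a ha) (sub_mem_aug hh hb'))) (Submodule.mem_sup_right hb)
  · intro g hg u hu
    obtain ⟨a, ha, b, hb, rfl⟩ := Submodule.mem_sup.mp hu
    rw [map_add]
    exact Submodule.add_mem _ (Submodule.mem_sup_left (stab_aug_of_norm hnorm hs₂ g hg a ha))
      (Submodule.mem_sup_right (stab_aug_self H₂ W g hg b hb))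

lemma eq_bot_of_le_A {H₁ H₂ : Subgroup (V ≃ₗ[K] V)}
    (hnorm : ∀ g ∈ H₂, ∀ h ∈ H₁, g * h * g⁻¹ ∈ H₁) {n₁ n₂ : ℕ}
    (e₁ : (aug H₁)^[n₁] (⊤ : Submodule K V) = ⊥) (e₂ : (aug H₂)^[n₂] (⊤ : Submodule K V) = ⊥)
    {W : Submodule K V} (hs₂ : Stab H₂ W) (hle : W ≤ aug H₁ W ⊔ aug H₂ W) : W = ⊥ := by
  have hs₂' : Stab H₂ (aug H₁ W) := stab_aug_of_norm hnorm hs₂
  have step : ∀ j, W ≤ aug H₁ W ⊔ (aug H₂)^[j] W := by
    intro j
    induction j with
    | zero => exact le_sup_right
    | succ j ih =>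
      refine hle.trans (sup_le le_sup_left ?_)
      refine (aug_mono H₂ ih).trans ?_
      rw [Function.iterate_succ_apply']
      refine aug_le fun g hg u hu => ?_
      obtain ⟨a, ha, b, hb, rfl⟩ := Submodule.mem_sup.mp hu
      have e : g (a + b) - (a + b) = (g a - a) + (g b - b) := by
        rw [map_add]
        abel
      rw [e]
      exact Submodule.add_mem _ (Submodule.mem_sup_left (Submodule.sub_mem _ (hs₂' g hg a ha) ha))
        (Submodule.mem_sup_right (sub_mem_aug hg hb))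
  have h1 : W ≤ aug H₁ W := by
    have h0 := (aug_mono H₂).iterate n₂ (le_top : W ≤ ⊤)
    rw [e₂] at h0
    exact (step n₂).trans (sup_le le_rfl (h0.trans bot_le))
  have h2 : ∀ j, W ≤ (aug H₁)^[j] W := by
    intro j
    induction j with
    | zero => exact le_rfl
    | succ j ih =>
      rw [Function.iterate_succ_apply']
      exact h1.trans (aug_mono H₁ ih)
  have h3 := (aug_mono H₁).iterate n₁ (le_top : W ≤ ⊤)
  rw [e₁] at h3
  exact eq_bot_iff.mpr ((h2 n₁).trans h3)


/-- Let K be a field, V a finite-dimensional K-vector space and H₁, H₂ subgroups of the group of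
K-linear automorphisms of V such that H₂ normalizes H₁. Call the action of a subgroup H unipotent
when, for some n, every product (h₁ - 1)(h₂ - 1)⋯(hₙ - 1) with all hᵢ in H is the zero endomorphism
(equivalently, V has an H-stable flag on whose successive quotients H acts trivially). If H₁ and H₂
act unipotently, then the subgroup generated by H₁ and H₂ acts unipotently. (In the published result
H₁ and H₂ are the absolute Galois groups of two finite Galois extensions of a strictly henselian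
discretely valued field over which an abelian variety becomes semistable, acting on its rational
ℓ-adic Tate module, and the conclusion is semistability over the intersection of the two fields; the
printed argument uses only that H₂ normalizes H₁.) -/
theorem result (K : Type u) (V : Type v) [Field K]
    [AddCommGroup V] [Module K V] [FiniteDimensional K V]
    (H₁ H₂ : Subgroup (V ≃ₗ[K] V)) (hnorm : ∀ g ∈ H₂, ∀ h ∈ H₁, g * h * g⁻¹ ∈ H₁)
    (h₁ : ∃ n : ℕ, ∀ f : Fin n → ↥H₁,
      (List.ofFn fun i => (((f i : ↥H₁) : V ≃ₗ[K] V) : Module.End K V) - 1).prod = 0)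
    (h₂ : ∃ n : ℕ, ∀ f : Fin n → ↥H₂,
      (List.ofFn fun i => (((f i : ↥H₂) : V ≃ₗ[K] V) : Module.End K V) - 1).prod = 0) :
    ∃ n : ℕ, ∀ f : Fin n → ↥(H₁ ⊔ H₂),
      (List.ofFn fun i => (((f i : ↥(H₁ ⊔ H₂)) : V ≃ₗ[K] V) : Module.End K V) - 1).prod = 0 := by
  classical
  obtain ⟨n₁, hn₁⟩ := h₁
  obtain ⟨n₂, hn₂⟩ := h₂
  have e₁ := iter_eq_bot_of_unip H₁ n₁ hn₁
  have e₂ := iter_eq_bot_of_unip H₂ n₂ hn₂
  let A : Submodule K V → Submodule K V := fun W => aug H₁ W ⊔ aug H₂ W
  have hstab : ∀ k, Stab H₁ (A^[k] ⊤) ∧ Stab H₂ (A^[k] ⊤) := by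
    intro k
    induction k with
    | zero => exact ⟨fun _ _ _ _ => Submodule.mem_top, fun _ _ _ _ => Submodule.mem_top⟩
    | succ k ih =>
      rw [Function.iterate_succ_apply']
      exact stab_A hnorm ih.2
  have hdec : ∀ k, A^[k+1] ⊤ ≤ A^[k] ⊤ := by
    intro k
    rw [Function.iterate_succ_apply']
    exact sup_le (aug_le_of_stab (hstab k).1) (aug_le_of_stab (hstab k).2)
  have hdim : ∀ k, Module.finrank K ↥(A^[k] ⊤) + k ≤ Module.finrank K V ∨ A^[k] ⊤ = ⊥ := by
    intro k
    induction k with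
    | zero =>
      left
      show Module.finrank K ↥(⊤ : Submodule K V) + 0 ≤ _
      rw [finrank_top]
      exact le_rfl
    | succ k ih =>
      by_cases hbot : A^[k+1] ⊤ = ⊥
      · right
        exact hbot
      · left
        rcases ih with ih | ih
        · have hlt : A^[k+1] ⊤ < A^[k] ⊤ := by
            refine lt_of_le_of_ne (hdec k) ?_
            intro heq
            apply hbot
            rw [heq]
            refine eq_bot_of_le_A hnorm e₁ e₂ (hstab k).2 ?_
            have h5 := heq.ge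
            rwa [Function.iterate_succ_apply'] at h5
          have h6 := Submodule.finrank_lt_finrank_of_lt hlt
          omega
        · exfalso
          apply hbot
          have h7 := hdec k
          rw [ih] at h7
          exact eq_bot_iff.mpr h7
  have hbotN : A^[Module.finrank K V + 1] ⊤ = ⊥ := by
    rcases hdim (Module.finrank K V + 1) with h | h
    · omega
    · exact h
  refine ⟨Module.finrank K V + 1, fun f => ?_⟩
  have hLE : H₂ ≤ Subgroup.normalizer H₁ := by
    intro g hg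
    rw [Subgroup.mem_normalizer_iff]
    intro h
    constructor
    · exact hnorm g hg h
    · intro hc
      have h8 := hnorm g⁻¹ (H₂.inv_mem hg) _ hc
      have e : g⁻¹ * (g * h * g⁻¹) * g⁻¹⁻¹ = h := by group
      rwa [e] at h8
  have hF : ∀ x ∈ H₁ ⊔ H₂, ∀ k, ∀ w ∈ A^[k] ⊤, x w - w ∈ A^[k+1] ⊤ := by
    intro x hx k w hw
    have hx' : x ∈ ((H₁ ⊔ H₂ : Subgroup _) : Set _) := hx
    rw [Subgroup.coe_mul_of_right_le_normalizer_left H₁ H₂ hLE] at hx'
    obtain ⟨h, hh, g, hg, rfl⟩ := Set.mem_mul.mp hx'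
    have hst := (hstab (k+1)).1
    rw [Function.iterate_succ_apply'] at hst ⊢
    have e : (h * g) w - w = h (g w - w) + (h w - w) := by
      rw [LinearEquiv.mul_apply, map_sub]
      abel
    rw [e]
    have hgw : g w - w ∈ A (A^[k] ⊤) := Submodule.mem_sup_right (sub_mem_aug hg hw)
    exact Submodule.add_mem _ (hst h hh _ hgw) (Submodule.mem_sup_left (sub_mem_aug hh hw))
  have hmem := prod_mem_flag (H₁ ⊔ H₂) (fun k => A^[k] ⊤) hF _ f 0
  apply LinearMap.ext
  intro w
  have h9 : _ ∈ A^[0 + (Module.finrank K V + 1)] ⊤ := hmem w Submodule.mem_top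
  rw [zero_add, hbotN] at h9
  simpa using h9


end Groth.Agent.S17446
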