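import Groth.Statements.S17449
-- import your own Groth.Agent.* helpers here
import Groth.Agent.Lib.Helper9.SemiCont3
import Groth.Agent.Lib.Helper9.NGeom16

set_option autoImplicit false
universe u
open CategoryTheory CategoryTheory.Limits AlgebraicGeometry
open Stein

namespace Groth.Agent.S17449

/-- Let S be a Noetherian scheme and f : X → S a proper, flat and surjective morphism. Suppose that for
every generic point η of an irreducible component of S the fibre of f at η is geometrically
connected and smooth over the residue field κ(η). Then every fibre of f is geometrically connected. -/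
theorem result {X S : Scheme.{u}}
    (f : X ⟶ S) [IsProper f] [Flat f] [Surjective f] [IsNoetherian S]
    (h : ∀ (Z : Set ↑S) (η : ↑S), Z ∈ irreducibleComponents ↑S → IsGenericPoint η Z →
      GeometricallyConnected (f.fiberToSpecResidueField η) ∧ Smooth (f.fiberToSpecResidueField η)) :
    GeometricallyConnected f := by
  have : LocallyOfFinitePresentation f :=
    LocallyOfFinitePresentation.iff_locallyOfFiniteType.mpr inferInstance
  rw [Groth.Agent.Lib.helper9.NGeom.geometricallyConnected_iff]
  intro s
  obtain ⟨V, hV, hV'⟩ := Groth.Agent.Lib.helper9.SemiCont.exists_nhds_le_of_flat f s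
  have hZ : irreducibleComponent s ∈ irreducibleComponents ↑S :=
    irreducibleComponent_mem_irreducibleComponents s
  obtain ⟨η, hη⟩ := QuasiSober.sober hZ.1 (isClosed_of_mem_irreducibleComponents _ hZ)
  have hηs : η ⤳ s := by
    rw [specializes_iff_mem_closure, hη.def]
    exact mem_irreducibleComponent
  have hηV : η ∈ V := mem_of_mem_nhds (hηs hV)
  have h1 : MoreMor.nGeomConnComp f η = 1 :=
    (Groth.Agent.Lib.helper9.NGeom.geometricallyConnected_fiber_iff f η).mp (h _ η hZ hη).1
  have hle : MoreMor.nGeomConnComp f s ≤ 1 := h1 ▸ hV' η hηV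
  have hne : MoreMor.nGeomConnComp f s ≠ 0 := by
    unfold MoreMor.nGeomConnComp
    rw [Ne, ENat.card_eq_zero_iff_empty, not_isEmpty_iff]
    obtain ⟨x, hx⟩ := f.surjective s
    let a : ↑(f.fiber s) := (f.fiberHomeo s).symm ⟨x, hx⟩
    let b : ↑(Spec (CommRingCat.of (SeparableClosure (S.residueField s)))) :=
      IsLocalRing.closedPoint _
    obtain ⟨w, -, -⟩ := AlgebraicGeometry.Scheme.Pullback.exists_preimage_pullback
      (f := f.fiberToSpecResidueField s)
      (g := Spec.map (CommRingCat.ofHom
        (algebraMap (S.residueField s) (SeparableClosure (S.residueField s))))) a b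
      (Subsingleton.elim _ _)
    exact ⟨ConnectedComponents.mk w⟩
  exact le_antisymm hle (Order.one_le_iff_ne_zero.mpr hne)

end Groth.Agent.S17449
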