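import Groth.Statements.S17451
import Groth.Agent.Lib.Helper14.SemiAbComm
import Groth.Agent.Lib.Helper14.TorusAffComm
import Groth.Agent.Lib.Helper14.AbVarComm

set_option autoImplicit false
universe u
open CategoryTheory MonoidalCategory CartesianMonoidalCategory MonObj GrpObj AlgebraicGeometry CategoryTheory.Limits
open AlgGrp

namespace Groth.Agent.S17451

/-- Let k be a field with algebraic closure K and G a smooth connected k-group scheme of finite type,
not assumed commutative, whose base change G_K has a torus as a subgroup with an abelian variety as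
the quotient: there are a closed subgroup scheme T of G_K which is a torus and a flat surjective
homomorphism from G_K onto a proper smooth connected K-group scheme with kernel T. Then G is
commutative. (The published result also asserts that G then has, over k itself, a unique torus
subgroup with abelian-variety quotient of this kind; only commutativity is stated here.) -/
theorem result (k : Type u) [Field k]
    (G : Over (Spec (CommRingCat.of k))) [GrpObj G] [Smooth G.hom] [QuasiCompact G.hom] [ConnectedSpace ↥G.left]
    (hK : (∃ (T : Over (Spec (CommRingCat.of (AlgebraicClosure k)))) (_ : GrpObj T) (i : T ⟶ Red.bc (Spec.map (CommRingCat.ofHom (algebraMap k (AlgebraicClosure k)))) G) (A : Over (Spec (CommRingCat.of (AlgebraicClosure k)))) (_ : GrpObj A) (q : Red.bc (Spec.map (CommRingCat.ofHom (algebraMap k (AlgebraicClosure k)))) G ⟶ A),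
        IsMonHom i ∧ IsClosedImmersion i.left ∧ Red.IsTorus T ∧ IsMonHom q ∧ Surjective q.left ∧ Flat q.left ∧
        AlgGrp.IsKernel i q ∧ IsProper A.hom ∧ Smooth A.hom ∧ ConnectedSpace ↥A.left)) :
    IsCommMonObj G := by
  obtain ⟨T, hGT, i, A, hGA, q, hi, hci, hT, hq, hsq, hfq, hker, hpA, hsA, hcA⟩ := hK
  letI := hGT
  letI := hGA
  haveI := hi
  haveI := hci
  haveI := hq
  haveI := hsq
  haveI := hfq
  haveI := hpA
  haveI := hsA
  haveI := hcA
  have hcomm' : IsCommMonObj (Red.bc (Spec.map (CommRingCat.ofHom
      (algebraMap k (AlgebraicClosure k)))) G) := by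
    haveI : IsAffine T.left := Groth.Agent.Lib.Helper14.TorusAffComm.isAffine_of_isTorus T hT
    haveI : IsCommMonObj T := Groth.Agent.Lib.Helper14.TorusAffComm.isCommMonObj_of_isTorus T hT
    haveI : Mono i.left := inferInstance
    haveI : Mono i := Over.mono_of_mono_left i
    haveI : QuasiCompact (Red.bc (Spec.map (CommRingCat.ofHom
        (algebraMap k (AlgebraicClosure k)))) G).hom := by
      show QuasiCompact (pullback.snd _ _)
      infer_instance
    haveI : QuasiCompact (q.left ≫ A.hom) := by
      rw [Over.w q]; infer_instance
    haveI : QuasiCompact q.left := QuasiCompact.of_comp q.left A.hom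
    haveI : IsIso A.hom.appTop := Groth.Agent.Lib.Helper14.AbVarComm.isIso_appTop A η[A]
    haveI : IsCommMonObj A := Groth.Agent.Lib.Helper14.AbVarComm.isCommMonObj A
    haveI : CompactSpace A.left := (quasiCompact_iff_compactSpace A.hom).mp inferInstance
    haveI : QuasiSeparatedSpace A.left :=
      (quasiSeparated_iff_quasiSeparatedSpace A.hom).mp inferInstance
    haveI : CompactSpace (Red.bc (Spec.map (CommRingCat.ofHom
        (algebraMap k (AlgebraicClosure k)))) G).left :=
      (quasiCompact_iff_compactSpace (Red.bc (Spec.map (CommRingCat.ofHom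
        (algebraMap k (AlgebraicClosure k)))) G).hom).mp inferInstance
    haveI : Smooth (Red.bc (Spec.map (CommRingCat.ofHom
        (algebraMap k (AlgebraicClosure k)))) G).hom := by
      show Smooth (pullback.snd _ _)
      infer_instance
    haveI : IsLocallyNoetherian (Red.bc (Spec.map (CommRingCat.ofHom
        (algebraMap k (AlgebraicClosure k)))) G).left :=
      LocallyOfFiniteType.isLocallyNoetherian (Red.bc (Spec.map (CommRingCat.ofHom
        (algebraMap k (AlgebraicClosure k)))) G).hom
    haveI : QuasiSeparatedSpace (Red.bc (Spec.map (CommRingCat.ofHom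
        (algebraMap k (AlgebraicClosure k)))) G).left := inferInstance
    exact Groth.Agent.Lib.Helper14.SemiAbComm.isCommMonObj i q hker
  rw [isCommMonObj_iff_commutator_eq_toUnit_η] at hcomm' ⊢
  apply (Over.pullback (Spec.map (CommRingCat.ofHom
    (algebraMap k (AlgebraicClosure k))))).map_injective
  rw [← cancel_epi (Functor.Monoidal.μIso (Over.pullback (Spec.map (CommRingCat.ofHom
    (algebraMap k (AlgebraicClosure k))))) G G).hom]
  dsimp [GrpObj.commutator] at hcomm' ⊢
  simpa only [Functor.Monoidal.μIso_hom, Functor.map_mul, one_eq_one, comp_one, Functor.map_one, Functor.map_inv',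
    comp_mul, GrpObj.comp_inv, Functor.Monoidal.μ_fst, Functor.Monoidal.μ_snd] using hcomm'

end Groth.Agent.S17451
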