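import Groth.Statements.S17463
import Mathlib.GroupTheory.Index
import Mathlib.RingTheory.Nilpotent.Basic
import Mathlib.Algebra.Polynomial.AlgebraMap
import Mathlib.Algebra.Ring.GeomSum
import Mathlib.Algebra.Polynomial.Div
import Mathlib.Algebra.Polynomial.FieldDivision

set_option autoImplicit false
universe u v w
open SSRed

namespace Groth.Agent.S17463

/-- Let K be a field of characteristic zero, V a K-vector space, G a group with a K-linear action ρ : G
→ GL(V) such that every ρ(g) is unipotent (ρ(g) - 1 is nilpotent), and H a subgroup of G of finite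
index. Then the H-invariants equal the G-invariants: a vector fixed by every element of H is fixed
by every element of G. (In the source G and H are the absolute Galois groups of K and of a finite
extension K', acting unipotently on the rational ℓ-adic Tate module of an abelian variety.) -/
theorem result (K : Type u) (V : Type v) (G : Type w) [Field K] [CharZero K]
    [AddCommGroup V] [Module K V] [Group G] (ρ : G →* (V ≃ₗ[K] V))
    (hunip : ∀ g : G, IsNilpotent (((ρ g : V ≃ₗ[K] V) : Module.End K V) - 1))
    (H : Subgroup G) [H.FiniteIndex] (v : V) (hv : ∀ h ∈ H, ρ h v = v) (g : G) :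
    ρ g v = v := by
  obtain ⟨m, hm0, -, hgm⟩ := Subgroup.exists_pow_mem_of_index_ne_zero
    (Subgroup.FiniteIndex.index_ne_zero (H := H)) g
  set u : Module.End K V := ((ρ g : V ≃ₗ[K] V) : Module.End K V) with hu
  have hum : (u ^ m) v = v := by
    have h1 := hv (g ^ m) hgm
    rw [map_pow] at h1
    have h2 : ∀ (k : ℕ) (w : V), (u ^ k) w = ((ρ g) ^ k) w := by
      intro k
      induction k with
      | zero => intro w; simp
      | succ k ih =>
        intro w
        rw [pow_succ, pow_succ, Module.End.mul_apply, ih]
        rfl
    rw [h2]; exact h1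
  let φ : Polynomial K →ₐ[K] Module.End K V := Polynomial.aeval u
  have hN : u - 1 = φ (Polynomial.X - 1) := by simp [φ]
  let q : Polynomial K := ∑ i ∈ Finset.range m, Polynomial.X ^ i
  have hq : (Polynomial.X - 1) * q = Polynomial.X ^ m - 1 := mul_geom_sum _ _
  have hroot : Polynomial.IsRoot (q - Polynomial.C (m : K)) 1 := by
    simp [q, Polynomial.eval_finsetSum]
  obtain ⟨w, hw⟩ := Polynomial.dvd_iff_isRoot.mpr hroot
  have hq' : q = Polynomial.C (m : K) + (Polynomial.X - 1) * w := by
    rw [Polynomial.C_1] at hw
    rw [← hw]; ring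
  have hnil : IsNilpotent (φ ((Polynomial.X - 1) * w)) := by
    rw [map_mul]
    have hc : Commute (φ (Polynomial.X - 1)) (φ w) :=
      (Commute.all (Polynomial.X - 1 : Polynomial K) w).map φ
    refine hc.isNilpotent_mul_right ?_
    rw [← hN]
    exact hunip g
  have hunit : IsUnit (φ q) := by
    rw [hq', map_add]
    refine hnil.isUnit_add_left_of_commute ?_ ((Commute.all _ _).map φ)
    have : IsUnit (Polynomial.C (m : K)) := by
      rw [Polynomial.isUnit_C]
      exact (Nat.cast_ne_zero.mpr hm0.ne').isUnit
    exact this.map φ
  have hzero : (φ q) ((u - 1) v) = 0 := by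
    rw [hN, ← Module.End.mul_apply, ← map_mul, mul_comm, hq]
    simp [φ, hum]
  obtain ⟨S', hS'⟩ := hunit.exists_left_inv
  have hNv : (u - 1) v = 0 := by
    have h1 : (S' * φ q) ((u - 1) v) = (u - 1) v := by rw [hS']; rfl
    rw [Module.End.mul_apply, hzero, map_zero] at h1
    exact h1.symm
  have h3 : u v - v = 0 := by simpa using hNv
  exact sub_eq_zero.mp h3

end Groth.Agent.S17463
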