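import Groth.Statements.S17464
import Groth.Agent.Lib.Helper14.GaTorus

set_option autoImplicit false
universe u
open CategoryTheory MonoidalCategory CartesianMonoidalCategory MonObj GrpObj AlgebraicGeometry CategoryTheory.Limits
open AlgGrp

namespace Groth.Agent.S17464

/-- Let k be an algebraically closed field, T a k-torus and U a smooth connected affine k-group scheme
of finite type with a composition series whose successive quotients are additive groups: closed
subgroup schemes U_0 → U_1 → … → U_n = U (homomorphisms which are closed immersions, U_i ↦ U_{i+1}),
with U_0 the trivial group, U_n identified with U by an isomorphism of group schemes, and each U_i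
the kernel of a flat surjective homomorphism from U_{i+1} onto the additive group. Then every
homomorphism from U to T is the trivial one. (The published statement is over an arbitrary field for
a torus and a smooth connected unipotent group, unipotent meaning that such a composition series
exists over an algebraic closure; this row states the case of an algebraically closed base field.
The companion assertion, that homomorphisms from T to U are trivial, is an existing statement about
groups of multiplicative type.) -/
theorem result (k : Type u) [Field k] [IsAlgClosed k]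
    (T U : Over (Spec (CommRingCat.of k))) [GrpObj T] [GrpObj U] (hT : Red.IsTorus T)
    [Smooth U.hom] [QuasiCompact U.hom] [ConnectedSpace ↥U.left] [IsAffine U.left]
    (n : ℕ) (Us : Fin (n + 1) → Over (Spec (CommRingCat.of k))) [∀ i, GrpObj (Us i)]
    (h0 : Red.IsTrivialGrp (Us 0))
    (e : Us (Fin.last n) ≅ U) [IsMonHom e.hom]
    (incl : ∀ i : Fin n, Us i.castSucc ⟶ Us i.succ) [∀ i, IsMonHom (incl i)]
    [∀ i, IsClosedImmersion (incl i).left]
    (quot : ∀ i : Fin n, Us i.succ ⟶ Red.Ga (Spec (CommRingCat.of k))) [∀ i, IsMonHom (quot i)]
    [∀ i, Surjective (quot i).left] [∀ i, Flat (quot i).left]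
    (hker : ∀ i : Fin n, AlgGrp.IsKernel (incl i) (quot i))
    (f : U ⟶ T) [IsMonHom f] :
    f = 1 := by
  classical
  -- all the terms of the series are affine
  have haff : ∀ i : Fin (n + 1), IsAffine (Us i).left := by
    intro i
    induction i using Fin.reverseInduction with
    | last =>
      haveI : IsIso e.hom.left := (Over.forget _).map_isIso e.hom
      exact IsAffine.of_isIso e.hom.left
    | cast i ih =>
      haveI := ih
      exact isAffine_of_isAffineHom (incl i).left
  have key : ∀ i : Fin (n + 1), ∀ g : Us i ⟶ T, IsMonHom g → g = 1 := by
    intro i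
    induction i using Fin.induction with
    | zero =>
      intro g hg
      haveI := hg
      haveI : IsIso (Us 0).hom := h0
      have h1 : 𝟙 (Us 0) = toUnit (Us 0) ≫ η[Us 0] := by
        apply Over.OverMorphism.ext
        rw [← cancel_mono (Us 0).hom]
        exact (Over.w (𝟙 (Us 0))).trans (Over.w (toUnit (Us 0) ≫ η[Us 0])).symm
      calc g = 𝟙 (Us 0) ≫ g := (Category.id_comp g).symm
        _ = toUnit (Us 0) ≫ η[Us 0] ≫ g := by rw [h1, Category.assoc]
        _ = toUnit (Us 0) ≫ η[T] := by rw [IsMonHom.one_hom g]
        _ = 1 := (Hom.one_def).symm
    | succ i ih =>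
      intro g hg
      haveI := hg
      have h1 : incl i ≫ g = 1 := ih (incl i ≫ g) inferInstance
      haveI := haff i.succ
      haveI : IsAffine (Red.Ga (Spec (CommRingCat.of k))).left := by
        show IsAffine (Limits.pullback (Red.GaZ).hom
          (Limits.IsTerminal.from specULiftZIsTerminal (Spec (CommRingCat.of k))))
        haveI : IsAffine (Red.GaZ).left :=
          inferInstanceAs (IsAffine (Spec (CommRingCat.of
            (SymmetricAlgebra (ULift.{u} ℤ) (ULift.{u} ℤ)))))
        infer_instance
      haveI : QuasiCompact (quot i).left := inferInstance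
      obtain ⟨v, hv, hvg⟩ :=
        Groth.Agent.Lib.Helper14.QuotHom.exists_hom_desc (incl i) (quot i) (hker i) g h1
      haveI := hv
      have hv1 : v = 1 := Groth.Agent.Lib.Helper14.GaTorus.hom_Ga_torus_eq_one k T hT v
      rw [← hvg, hv1, MonObj.comp_one]
  have h := key (Fin.last n) (e.hom ≫ f) inferInstance
  calc f = e.inv ≫ e.hom ≫ f := by rw [Iso.inv_hom_id_assoc]
    _ = e.inv ≫ 1 := by rw [h]
    _ = 1 := MonObj.comp_one _

end Groth.Agent.S17464
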