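import Groth.Statements.S17466
import Mathlib

set_option autoImplicit false
universe u v
open BigOperators
open NRGIT

namespace Groth.Agent.S17466


lemma mk_eq {A : Type v} [CommRing A] (τ : A) (a : A) (m : ℕ)
    (h : τ ^ m ∈ Submonoid.powers τ) :
    (Localization.mk a ⟨τ ^ m, h⟩ : Localization (Submonoid.powers τ)) =
      algebraMap A _ a * (Localization.mk 1 ⟨τ, Submonoid.mem_powers τ⟩) ^ m := by
  rw [Localization.mk_pow, ← Localization.mk_one_eq_algebraMap, Localization.mk_mul]
  congr 1
  · simp
  · exact Subtype.ext (by simp)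

lemma tau_mul_t {A : Type v} [CommRing A] (τ : A) :
    algebraMap A (Localization (Submonoid.powers τ)) τ *
      Localization.mk 1 ⟨τ, Submonoid.mem_powers τ⟩ = 1 := by
  rw [← Localization.mk_one_eq_algebraMap, Localization.mk_mul]
  have h := Localization.mk_self (⟨τ, Submonoid.mem_powers τ⟩ : Submonoid.powers τ)
  simpa using h


/-- Let A be a commutative algebra graded by the natural numbers, let σ_1, …, σ_n be homogeneous
elements of degree 1 and let s ≥ 1 be an integer such that, for every i, the degree-zero homogeneous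
localisation of A away from σ_i is generated over A_0 by the fractions f / σ_i ^ s with f
homogeneous of degree s. Then for every exponent vector K = (k_1, …, k_n) with k_1 + ⋯ + k_n = s,
the degree-zero homogeneous localisation of A away from the monomial σ^K = ∏ σ_i ^ (k_i) is
generated over A_0 by the fractions f / σ^K with f homogeneous of degree s. (Equivalently: the
natural map from the degree-zero localisation of the symmetric algebra on A_s, taken away from σ^K
viewed as an element of degree one, to the degree-zero localisation of A away from σ^K is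
surjective. The published lemma concerns the algebra of invariant sections of the powers of a
linearised line bundle on an irreducible projective scheme over a field, with the σ_i a basis of a
weight space of sections, and concludes a closed immersion of a quotient into an open piece of a
projective space; this row keeps only the graded-algebra step, for any commutative graded algebra,
with the base field replaced by A_0, which generates nothing new since a / 1 = a σ^s / σ^s for a of
degree zero.) -/
theorem result
    {R : Type u} {A : Type v} [CommRing R] [CommRing A] [Algebra R A]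
    (𝒜 : ℕ → Submodule R A) [GradedAlgebra 𝒜]
    {n : ℕ} (σ : Fin n → A) (hσ : ∀ i, σ i ∈ 𝒜 1) {s : ℕ} (hs : 0 < s)
    (hgen : ∀ i, Algebra.adjoin (𝒜 0)
      {z : HomogeneousLocalization.Away 𝒜 (σ i) |
        ∃ f ∈ 𝒜 s, z.val = Localization.mk f ⟨σ i ^ s, Submonoid.pow_mem _ (Submonoid.mem_powers (σ i)) s⟩} = ⊤)
    (K : Fin n → ℕ) (hK : ∑ i, K i = s) :
    Algebra.adjoin (𝒜 0)
      {z : HomogeneousLocalization.Away 𝒜 (∏ i, σ i ^ K i) |
        ∃ f ∈ 𝒜 s, z.val = Localization.mk f ⟨∏ i, σ i ^ K i, Submonoid.mem_powers _⟩} = ⊤ := by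
  classical
  obtain ⟨i₀, hi₀⟩ : ∃ i₀, 0 < K i₀ := by
    by_contra hcon
    push Not at hcon
    have h0 : ∑ i, K i = 0 := Finset.sum_eq_zero (fun i _ => Nat.le_zero.mp (hcon i))
    omega
  set τ : A := ∏ i, σ i ^ K i with hτdef
  have hτ : τ ∈ 𝒜 s := by
    have h1 := SetLike.prod_pow_mem_graded 𝒜 (fun _ : Fin n => 1) σ K (F := Finset.univ)
      (fun k _ => hσ k)
    simpa [hK] using h1
  set g : A := σ i₀ ^ (K i₀ - 1) * ∏ j ∈ Finset.univ.erase i₀, σ j ^ K j with hgdef
  have hτg : τ = σ i₀ * g := by
    rw [hτdef, hgdef, ← Finset.mul_prod_erase Finset.univ _ (Finset.mem_univ i₀), ← mul_assoc,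
      ← pow_succ', Nat.sub_add_cancel hi₀]
  have hg : g ∈ 𝒜 (s - 1) := by
    have h1 : ∏ j ∈ Finset.univ.erase i₀, σ j ^ K j ∈
        𝒜 (∑ j ∈ Finset.univ.erase i₀, K j • 1) :=
      SetLike.prod_pow_mem_graded 𝒜 (fun _ => 1) σ K (fun k _ => hσ k)
    have h2 : σ i₀ ^ (K i₀ - 1) ∈ 𝒜 ((K i₀ - 1) • 1) := SetLike.pow_mem_graded _ (hσ i₀)
    have h3 := SetLike.GradedMul.mul_mem h2 h1
    have h4 : (K i₀ - 1) • 1 + ∑ j ∈ Finset.univ.erase i₀, K j • 1 = s - 1 := by
      have h5 := Finset.add_sum_erase Finset.univ K (Finset.mem_univ i₀)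
      simp only [smul_eq_mul, mul_one]
      omega
    rwa [h4] at h3
  set t : Localization (Submonoid.powers τ) :=
    Localization.mk 1 ⟨τ, Submonoid.mem_powers τ⟩ with ht
  have hτt : algebraMap A (Localization (Submonoid.powers τ)) τ * t = 1 := tau_mul_t τ
  set B := Algebra.adjoin (𝒜 0) {z : HomogeneousLocalization.Away 𝒜 τ |
    ∃ f ∈ 𝒜 s, z.val = Localization.mk f ⟨τ, Submonoid.mem_powers _⟩} with hB
  have hF : ∀ (f : A) (hf : f ∈ 𝒜 (1 • s)), HomogeneousLocalization.Away.mk 𝒜 hτ 1 f hf ∈ B := by
    intro f hf
    apply Algebra.subset_adjoin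
    refine ⟨f, by simpa using hf, ?_⟩
    rw [HomogeneousLocalization.Away.val_mk]
    congr 1
    exact Subtype.ext (pow_one τ)
  have hmem : ∀ j, σ j * g ∈ 𝒜 (1 • s) := by
    intro j
    have h1 := SetLike.GradedMul.mul_mem (hσ j) hg
    have h2 : 1 + (s - 1) = 1 • s := by
      simp only [smul_eq_mul, one_mul]
      omega
    rwa [h2] at h1
  set φ : HomogeneousLocalization.Away 𝒜 (σ i₀) →ₐ[𝒜 0] HomogeneousLocalization.Away 𝒜 τ :=
    HomogeneousLocalization.awayMapₐ 𝒜 hg hτg with hφ
  have hprod : ∏ j, (algebraMap A (Localization (Submonoid.powers τ)) (σ j * g) * t ^ 1) ^ K j =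
      algebraMap A (Localization (Submonoid.powers τ)) τ *
        algebraMap A (Localization (Submonoid.powers τ)) g ^ s * t ^ s := by
    have e := map_prod (algebraMap A (Localization (Submonoid.powers τ)))
      (fun j => σ j ^ K j) Finset.univ
    simp only [map_pow] at e
    rw [e]
    simp only [map_mul, pow_one, mul_pow, Finset.prod_mul_distrib,
      Finset.prod_pow_eq_pow_sum, hK]
  have hφB : ∀ w : HomogeneousLocalization.Away 𝒜 (σ i₀), φ w ∈ B := by
    have h1 : (⊤ : Subalgebra (𝒜 0) (HomogeneousLocalization.Away 𝒜 (σ i₀))).map φ ≤ B := by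
      rw [← hgen i₀, AlgHom.map_adjoin]
      apply Algebra.adjoin_le
      rintro _ ⟨z, ⟨f, hf, hz⟩, rfl⟩
      have hf' : f ∈ 𝒜 (s • 1) := by simpa using hf
      have hz' : z = HomogeneousLocalization.Away.mk 𝒜 (hσ i₀) s f hf' :=
        HomogeneousLocalization.val_injective _
          (hz.trans (HomogeneousLocalization.Away.val_mk 𝒜 s (hσ i₀) f hf').symm)
      have hf1 : f ∈ 𝒜 (1 • s) := by simpa using hf
      have key : φ z = HomogeneousLocalization.Away.mk 𝒜 hτ 1 f hf1 *
          ∏ j, (HomogeneousLocalization.Away.mk 𝒜 hτ 1 (σ j * g) (hmem j)) ^ K j := by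
        apply HomogeneousLocalization.val_injective
        rw [hz', hφ, HomogeneousLocalization.awayMapₐ_apply, HomogeneousLocalization.awayMap_mk,
          HomogeneousLocalization.Away.val_mk, mk_eq]
        simp only [← HomogeneousLocalization.algebraMap_apply, map_mul, map_prod, map_pow]
        simp only [HomogeneousLocalization.algebraMap_apply,
          HomogeneousLocalization.Away.val_mk, mk_eq]
        rw [hprod]
        simp only [map_mul, map_pow, pow_one]
        linear_combination (-(algebraMap A (Localization (Submonoid.powers τ)) f *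
          algebraMap A (Localization (Submonoid.powers τ)) g ^ s * t ^ s)) * hτt
      rw [SetLike.mem_coe, key]
      exact B.mul_mem (hF f hf1) (Subalgebra.prod_mem _ (fun j _ => B.pow_mem (hF _ (hmem j)) _))
    intro w
    exact h1 (Subalgebra.mem_map.mpr ⟨w, Algebra.mem_top, rfl⟩)
  rw [eq_top_iff]
  intro z _
  obtain ⟨m, a, ha, rfl⟩ := HomogeneousLocalization.Away.mk_surjective 𝒜 hτ z
  have ha' : a ∈ 𝒜 ((m * s) • 1) := by simpa [smul_eq_mul] using ha
  have hc1 : σ i₀ ^ s ∈ 𝒜 (1 • s) := by
    have h1 := SetLike.pow_mem_graded s (hσ i₀)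
    simpa using h1
  have key : HomogeneousLocalization.Away.mk 𝒜 hτ m a ha =
      φ (HomogeneousLocalization.Away.mk 𝒜 (hσ i₀) (m * s) a ha') *
        (HomogeneousLocalization.Away.mk 𝒜 hτ 1 (σ i₀ ^ s) hc1) ^ m := by
    apply HomogeneousLocalization.val_injective
    rw [HomogeneousLocalization.val_mul, HomogeneousLocalization.val_pow, hφ,
      HomogeneousLocalization.awayMapₐ_apply, HomogeneousLocalization.awayMap_mk,
      HomogeneousLocalization.Away.val_mk, HomogeneousLocalization.Away.val_mk,
      HomogeneousLocalization.Away.val_mk, mk_eq, mk_eq, mk_eq]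
    have e1 : algebraMap A (Localization (Submonoid.powers τ)) g *
        algebraMap A (Localization (Submonoid.powers τ)) (σ i₀) * t = 1 := by
      rw [← map_mul, mul_comm g, ← hτg]
      exact hτt
    simp only [map_mul, map_pow, pow_one]
    calc algebraMap A (Localization (Submonoid.powers τ)) a * t ^ m
        = algebraMap A (Localization (Submonoid.powers τ)) a * t ^ m *
          (algebraMap A (Localization (Submonoid.powers τ)) g *
            algebraMap A (Localization (Submonoid.powers τ)) (σ i₀) * t) ^ (m * s) := by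
          rw [e1, one_pow, mul_one]
      _ = _ := by ring
  rw [key]
  exact B.mul_mem (hφB _) (B.pow_mem (hF _ hc1) m)


end Groth.Agent.S17466
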