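import Groth.Statements.S17468
import Mathlib

set_option autoImplicit false
universe u v w
open LieRep

namespace Groth.Agent.S17468

open LieModule

-- arithmetic
theorem sum_sq_aux (a : ℤ) (m : ℕ) :
    3 * ∑ j ∈ Finset.range m, (a - 2 * (j : ℤ)) ^ 2 =
      3 * m * a ^ 2 - 6 * a * m * (m - 1) + 2 * (m - 1) * m * (2 * m - 1) := by
  induction m with
  | zero => simp
  | succ m ih =>
    rw [Finset.sum_range_succ, mul_add, ih]
    push_cast
    ring

theorem six_choose (n : ℕ) : 6 * (n + 2).choose 3 = n * (n + 1) * (n + 2) := by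
  have := Nat.descFactorial_eq_factorial_mul_choose (n + 2) 3
  simp [Nat.descFactorial, Nat.factorial] at this
  rw [← this]
  ring

theorem sum_sq_eq (k : Type*) [Field k] [CharZero k] (n : ℕ) :
    ∑ j : Fin (n + 1), ((n : k) - 2 * (j : ℕ)) ^ 2 = 2 * (((n + 2).choose 3 : ℕ) : k) := by
  have h1 := sum_sq_aux (n : ℤ) (n + 1)
  have h2 := six_choose n
  have h3 : (3 : ℤ) * ∑ j ∈ Finset.range (n + 1), ((n : ℤ) - 2 * (j : ℤ)) ^ 2 =
      6 * (((n + 2).choose 3 : ℕ) : ℤ) := by
    rw [h1]
    have : ((6 * (n + 2).choose 3 : ℕ) : ℤ) = ((n * (n + 1) * (n + 2) : ℕ) : ℤ) := by rw [h2]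
    push_cast at this
    rw [this]
    push_cast
    ring
  have h4 : (∑ j ∈ Finset.range (n + 1), ((n : ℤ) - 2 * (j : ℤ)) ^ 2) =
      2 * (((n + 2).choose 3 : ℕ) : ℤ) := by linarith
  rw [Fin.sum_univ_eq_sum_range (fun j : ℕ => ((n : k) - 2 * (j : k)) ^ 2) (n + 1)]
  have := congrArg (Int.cast : ℤ → k) h4
  push_cast at this
  exact this

theorem trace_sq_irreducible
    (k : Type u) [Field k] [IsAlgClosed k] [CharZero k]
    (L : Type v) [LieRing L] [LieAlgebra k L]
    (h e f : L) (t : IsSl2Triple h e f) (hspan : t.toLieSubalgebra k = ⊤)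
    (M : Type w) [AddCommGroup M] [Module k M] [LieRingModule L M] [LieModule k L M]
    [FiniteDimensional k M] [LieModule.IsIrreducible k L M] :
    LinearMap.trace k M ((LieModule.toEnd k L M h) ^ 2) =
      2 * (((Module.finrank k M + 1).choose 3 : ℕ) : k) := by
  have hnt : Nontrivial M := (LieSubmodule.nontrivial_iff k L M).mp inferInstance
  obtain ⟨μ, m, hm, P⟩ := t.exists_hasPrimitiveVectorWith (R := k) (M := M)
  obtain ⟨n, hn⟩ := P.exists_nat
  set ψ : ℕ → M := fun j => ((toEnd k L M f) ^ j) m with hψ
  have hf : ∀ j, ⁅f, ψ j⁆ = ψ (j + 1) := fun j => P.lie_f_pow_toEnd_f j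
  have hh : ∀ j, ⁅h, ψ j⁆ = (μ - 2 * j) • ψ j := fun j => P.lie_h_pow_toEnd_f j
  have he : ∀ j, ⁅e, ψ (j + 1)⁆ = ((j + 1) * (μ - j)) • ψ j := fun j => P.lie_e_pow_succ_toEnd_f j
  have he0 : ⁅e, ψ 0⁆ = 0 := by simpa [hψ] using P.lie_e
  have hz : ∀ j, n + 1 ≤ j → ψ j = 0 := by
    intro j hj
    induction j, hj using Nat.le_induction with
    | base => exact P.pow_toEnd_f_eq_zero_of_eq_nat hn
    | succ j hj ih => rw [← hf, ih, lie_zero]
  have hnz : ∀ j, j ≤ n → ψ j ≠ 0 := fun j hj => P.pow_toEnd_f_ne_zero_of_eq_nat hn hj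
  -- the span of the ψ j is a Lie submodule
  let N : LieSubmodule k L M :=
    { Submodule.span k (Set.range ψ) with
      lie_mem := by
        intro x y hy
        have hx : x ∈ t.toLieSubalgebra k := by rw [hspan]; trivial
        obtain ⟨c₁, c₂, c₃, rfl⟩ := IsSl2Triple.mem_toLieSubalgebra_iff.mp hx
        simp only [Submodule.carrier_eq_coe, SetLike.mem_coe] at hy ⊢
        have key : ∀ z ∈ ({e, f, h} : Set L), ∀ y ∈ Submodule.span k (Set.range ψ),
            ⁅z, y⁆ ∈ Submodule.span k (Set.range ψ) := by
          intro z hz y hy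
          induction hy using Submodule.span_induction with
          | zero => simp
          | add u v _ _ hu hv => rw [lie_add]; exact add_mem hu hv
          | smul c u _ hu => rw [lie_smul]; exact Submodule.smul_mem _ _ hu
          | mem u hu =>
            obtain ⟨j, rfl⟩ := hu
            rcases hz with rfl | rfl | rfl
            · cases j with
              | zero => rw [he0]; exact zero_mem _
              | succ j => rw [he]; exact Submodule.smul_mem _ _ (Submodule.subset_span ⟨j, rfl⟩)
            · rw [hf]; exact Submodule.subset_span ⟨j + 1, rfl⟩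
            · rw [hh]; exact Submodule.smul_mem _ _ (Submodule.subset_span ⟨j, rfl⟩)
        rw [t.lie_e_f, add_lie, add_lie, smul_lie, smul_lie, smul_lie]
        exact add_mem (add_mem (Submodule.smul_mem _ _ (key e (by simp) y hy))
          (Submodule.smul_mem _ _ (key f (by simp) y hy)))
          (Submodule.smul_mem _ _ (key h (by simp) y hy)) }
  have hNtop : N = ⊤ := by
    refine (IsSimpleOrder.eq_bot_or_eq_top N).resolve_left ?_
    intro hbot
    have : m ∈ N := Submodule.subset_span ⟨0, by simp [hψ]⟩
    rw [hbot, LieSubmodule.mem_bot] at this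
    exact hm this
  set v : Fin (n + 1) → M := fun j => ψ j with hv
  have hli : LinearIndependent k v := by
    refine Module.End.eigenvectors_linearIndependent' (toEnd k L M h)
      (fun j : Fin (n + 1) => μ - 2 * ((j : ℕ) : k)) ?_ v ?_
    · intro a b hab
      simp only [sub_right_inj, mul_eq_mul_left_iff, Nat.cast_inj, OfNat.ofNat_ne_zero,
        or_false] at hab
      exact Fin.ext hab
    · intro j
      refine ⟨?_, hnz j (Nat.lt_succ_iff.mp j.2)⟩
      rw [Module.End.mem_eigenspace_iff, toEnd_apply_apply]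
      exact hh j
  have hsp : ⊤ ≤ Submodule.span k (Set.range v) := by
    intro x _
    have hx : x ∈ N := by rw [hNtop]; trivial
    have hx' : x ∈ Submodule.span k (Set.range ψ) := hx
    refine (Submodule.span_le.mpr ?_) hx'
    rintro _ ⟨j, rfl⟩
    by_cases hj : j ≤ n
    · exact Submodule.subset_span ⟨⟨j, Nat.lt_succ_iff.mpr hj⟩, rfl⟩
    · rw [SetLike.mem_coe, hz j (by omega)]; exact zero_mem _
  let b : Module.Basis (Fin (n + 1)) k M := Module.Basis.mk hli hsp
  have hb : ∀ j, b j = ψ j := fun j => by simp [b, hv]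
  have hfr : Module.finrank k M = n + 1 := by
    rw [Module.finrank_eq_card_basis b, Fintype.card_fin]
  have hsq : ∀ j : Fin (n + 1), ((toEnd k L M h) ^ 2) (b j) = ((n : k) - 2 * ((j : ℕ) : k)) ^ 2 • b j := by
    intro j
    rw [hb, pow_two, Module.End.mul_apply, toEnd_apply_apply, toEnd_apply_apply, hh, lie_smul, hh,
      smul_smul, hn, pow_two]
  rw [LinearMap.trace_eq_matrix_trace k b, Matrix.trace, hfr, ← sum_sq_eq k n]
  refine Finset.sum_congr rfl fun j _ => ?_
  rw [Matrix.diag_apply, LinearMap.toMatrix_apply, hsq]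
  simp


/-- Let k be an algebraically closed field of characteristic zero, L a Lie algebra over k spanned by an
sl_2-triple (h, e, f), and V a finite-dimensional L-module written as an internal direct sum of
finitely many irreducible Lie submodules V_i. Then the trace on V of the square of the action of h
is 2 Σ_i C(dim V_i + 1, 3). (The published statement concerns a finite-dimensional representation V
of a simple Lie algebra restricted to the copy of sl_2 attached to the highest root θ, with h the
coroot θ^∨; there Σ_i C(dim V_i + 1, 3) is the index of V, and the trace is the sum over the weights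
λ of V, with multiplicity, of ⟨λ, θ^∨⟩².) -/
theorem result
    (k : Type u) [Field k] [IsAlgClosed k] [CharZero k]
    (L : Type v) [LieRing L] [LieAlgebra k L]
    (h e f : L) (t : IsSl2Triple h e f) (hspan : t.toLieSubalgebra k = ⊤)
    (V : Type w) [AddCommGroup V] [Module k V] [LieRingModule L V] [LieModule k L V]
    [FiniteDimensional k V]
    (ι : Type) [Fintype ι] [DecidableEq ι] (W : ι → LieSubmodule k L V)
    (hW : DirectSum.IsInternal fun i => (W i).toSubmodule)
    (hirr : ∀ i, LieModule.IsIrreducible k L (W i)) :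
    LinearMap.trace k V ((LieModule.toEnd k L V h) ^ 2) =
      2 * ∑ i, (((Module.finrank k (W i) + 1).choose 3 : ℕ) : k) := by
  have hmaps : ∀ i, Set.MapsTo ((LieModule.toEnd k L V h) ^ 2 : Module.End k V) ((W i).toSubmodule : Set V) ((W i).toSubmodule : Set V) := by
    intro i x hx
    rw [pow_two, Module.End.mul_apply, toEnd_apply_apply, toEnd_apply_apply]
    exact (W i).lie_mem ((W i).lie_mem hx)
  rw [LinearMap.trace_eq_sum_trace_restrict hW hmaps, Finset.mul_sum]
  refine Finset.sum_congr rfl fun i _ => ?_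
  have := hirr i
  have hres : ((LieModule.toEnd k L V h) ^ 2).restrict (hmaps i) =
      (LieModule.toEnd k L (W i) h) ^ 2 := by
    ext x
    simp [pow_two]
    rfl
  rw [hres]
  exact trace_sq_irreducible k L h e f t hspan (W i)


end Groth.Agent.S17468
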