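import Groth.Statements.S17469
import Mathlib
import Groth.Agent.Lib.Helper13.Normal9
-- import your own Groth.Agent.* helpers here

set_option autoImplicit false
universe u
open CategoryTheory AlgebraicGeometry
open Variety

namespace Groth.Agent.S17469

/-- Let X be a locally Noetherian integral scheme all of whose local rings are integrally closed domains
and U an open subset of X. A section of O_X over U that is integral over the ring of global sections
of X, the latter acting through restriction, is itself the restriction of a global section. (The
published lemma is stated for an irreducible normal variety and for the graded ring of sections over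
U of all non-negative powers of a line bundle, integral over the corresponding ring of sections over
X; for the trivial line bundle its homogeneous components are the present statement, which is made
here for any locally Noetherian normal integral scheme.) -/
theorem result
    (X : Scheme.{u}) [AlgebraicGeometry.IsIntegral X] [IsLocallyNoetherian X]
    (hX : Pi1.IsNormalScheme X) (U : X.Opens) (b : Γ(X, U))
    (hb : (X.presheaf.map (homOfLE le_top : U ⟶ ⊤).op).hom.IsIntegralElem b) :
    b ∈ Set.range (X.presheaf.map (homOfLE le_top : U ⟶ ⊤).op).hom := by
  by_cases hne : Nonempty U
  · have hη : genericPoint X ∈ U :=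
      ((genericPoint_spec X).mem_open_set_iff U.isOpen).mpr (by simpa using hne)
    haveI : Nonempty (⊤ : X.Opens) := ⟨⟨genericPoint X, trivial⟩⟩
    -- the restriction map is compatible with the maps to the function field
    have hres : ∀ a : Γ(X, ⊤), X.germToFunctionField U
        ((X.presheaf.map (homOfLE le_top : U ⟶ ⊤).op).hom a) = X.germToFunctionField ⊤ a :=
      fun a => X.presheaf.germ_res_apply (homOfLE le_top : U ⟶ ⊤) _ hη a
    obtain ⟨p, hp, hpe⟩ := hb
    have hmem : ∀ x ∈ (⊤ : X.Opens), X.germToFunctionField U b ∈
        Set.range (algebraMap (X.presheaf.stalk x) X.functionField) := by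
      intro x _
      obtain ⟨hdom, hic⟩ :=
        (Groth.Agent.Lib.helper13.Normal.isNormalScheme_iff X).mp hX x
      have hint : IsIntegral (X.presheaf.stalk x) (X.germToFunctionField U b) := by
        refine ⟨p.map (X.presheaf.germ ⊤ x trivial).hom, hp.map _, ?_⟩
        rw [Polynomial.eval₂_map]
        have hcomp : (algebraMap (X.presheaf.stalk x) X.functionField).comp
            (X.presheaf.germ ⊤ x trivial).hom =
            (X.germToFunctionField U).hom.comp
              (X.presheaf.map (homOfLE le_top : U ⟶ ⊤).op).hom := by
          ext a
          show algebraMap (X.presheaf.stalk x) X.functionField (X.presheaf.germ ⊤ x trivial a) = _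
          rw [Scheme.algebraMap_germ_eq_germToFunctionField]
          exact (hres a).symm
        rw [hcomp, ← Polynomial.hom_eval₂, hpe, map_zero]
      obtain ⟨y, hy⟩ := IsIntegrallyClosed.algebraMap_eq_of_integral hint
      exact ⟨y, hy⟩
    obtain ⟨s, hs⟩ := Groth.Agent.Lib.helper13.Normal.exists_section_of_forall_mem_range
      (⊤ : X.Opens) (X.germToFunctionField U b) hmem
    refine ⟨s, ?_⟩
    apply germ_injective_of_isIntegral X (genericPoint X) hη
    exact (hres s).trans hs
  · have hU : U = ⊥ := by
      ext p
      simp only [TopologicalSpace.Opens.coe_bot, Set.mem_empty_iff_false, iff_false]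
      exact fun hp => hne ⟨⟨p, hp⟩⟩
    subst hU
    exact ⟨0, Subsingleton.elim _ _⟩

end Groth.Agent.S17469
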