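import Groth.Statements.S17471
import Mathlib

set_option autoImplicit false
universe u v w x
open RootCh

namespace Groth.Agent.S17471

/-- Let Φ be a finite, reduced, crystallographic, irreducible root system with a base, and θ a positive
root such that θ + β is a root for no positive root β (so θ is the highest root). Then Σ_{β>0} ⟨β,
θ^∨⟩² = 2 + Σ_{β>0} ⟨β, θ^∨⟩ = 2(1 + ⟨ρ, θ^∨⟩), ρ being half the sum of the positive roots; in the
source the left side is the index of the adjoint representation obtained from its formal character,
and 1 + ⟨ρ, θ^∨⟩ is the dual Coxeter number. -/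
theorem result
    {ι : Type u} {R : Type v} {M : Type w} {N : Type x}
    [Field R] [LinearOrder R] [IsStrictOrderedRing R]
    [AddCommGroup M] [Module R M] [AddCommGroup N] [Module R N] [Fintype ι]
    (P : RootPairing ι R M N) [P.IsRootSystem] [P.IsCrystallographic] [P.IsReduced]
    [P.IsIrreducible] (b : P.Base) (θ : ι) (hθ : b.IsPos θ)
    (hmax : ∀ i : ι, b.IsPos i → P.root θ + P.root i ∉ Set.range P.root) :
    ∑ i ∈ Finset.univ.filter (fun i => 0 < b.height i), P.pairing i θ ^ 2 =
      2 + ∑ i ∈ Finset.univ.filter (fun i => 0 < b.height i), P.pairing i θ := by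
  classical
  letI := P.indexNeg
  -- key claim
  have key : ∀ i : ι, b.IsPos i → i ≠ θ → P.pairing i θ = 0 ∨ P.pairing i θ = 1 := by
    intro i hi hiθ
    have hcast : (algebraMap ℤ R) (P.pairingIn ℤ i θ) = P.pairing i θ := P.algebraMap_pairingIn ℤ i θ
    have hne : P.root i ≠ -P.root θ := by
      intro h
      rw [P.root_eq_neg_iff] at h
      have h1 : b.IsPos (-θ) := by
        have : (-θ : ι) = P.reflectionPerm θ θ := rfl
        rw [this, ← h]; exact hi
      exact (RootPairing.Base.IsPos.neg_iff_not b θ).mp h1 hθ
    -- nonneg
    have h0 : 0 ≤ P.pairingIn ℤ i θ := by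
      by_contra hneg
      push_neg at hneg
      have := P.root_add_root_mem_of_pairingIn_neg hneg hne
      rw [add_comm] at this
      exact hmax i hi this
    -- ≤ 1
    have h1 : P.pairingIn ℤ i θ ≤ 1 := by
      by_contra hgt
      push_neg at hgt
      have hpos : 0 < P.pairingIn ℤ i θ := by omega
      obtain ⟨k, hk⟩ := P.root_sub_root_mem_of_pairingIn_pos hpos hiθ
      rcases RootPairing.Base.IsPos.or_neg b k with hkpos | hkneg
      · apply hmax k hkpos
        rw [hk]
        exact ⟨i, by abel⟩
      · -- k' = -k positive with root θ - root i
        have hk' : P.root (-k) = P.root θ - P.root i := by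
          have : P.root (-k) = -P.root k := by
            change P.root (P.reflectionPerm k k) = _
            rw [P.root_reflectionPerm, P.reflection_apply_self]
          rw [this, hk]; abel
        -- 2θ - i is a root
        have h2 : P.root θ + P.root (-k) ∈ Set.range P.root := by
          by_cases h3 : P.pairingIn ℤ i θ = 2
          · -- reflection
            have hp2 : P.pairing i θ = 2 := by rw [← hcast, h3]; simp
            have hr : P.root (P.reflectionPerm θ i) = P.root i - (2 : R) • P.root θ := by
              rw [P.root_reflectionPerm, P.reflection_apply_root, hp2]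
            have : P.root θ + P.root (-k) = -P.root (P.reflectionPerm θ i) := by
              rw [hr, hk', two_smul]; abel
            rw [this]
            exact P.neg_root_mem _
          · have hge3 : 3 ≤ P.pairingIn ℤ i θ := by omega
            have hpk : P.pairing (-k) θ = 2 - P.pairing i θ := by
              rw [← P.root_coroot_eq_pairing, hk', map_sub, LinearMap.sub_apply,
                P.root_coroot_eq_pairing, P.root_coroot_eq_pairing, P.pairing_same]
            have hpkZ : P.pairingIn ℤ (-k) θ = 2 - P.pairingIn ℤ i θ := by
              apply FaithfulSMul.algebraMap_injective ℤ R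
              rw [P.algebraMap_pairingIn ℤ, hpk, map_sub, hcast]
              simp
            have hneg : P.pairingIn ℤ (-k) θ < 0 := by rw [hpkZ]; omega
            have hne' : P.root (-k) ≠ -P.root θ := by
              intro h
              rw [P.root_eq_neg_iff] at h
              have h1 : b.IsPos (-θ) := by
                have : (-θ : ι) = P.reflectionPerm θ θ := rfl
                rw [this, ← h]; exact hkneg
              exact (RootPairing.Base.IsPos.neg_iff_not b θ).mp h1 hθ
            have := P.root_add_root_mem_of_pairingIn_neg hneg hne'
            rw [add_comm] at this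
            exact this
        exact hmax (-k) hkneg h2
    have h2 : P.pairingIn ℤ i θ = 0 ∨ P.pairingIn ℤ i θ = 1 := by omega
    rcases h2 with h2 | h2
    · left; rw [← hcast, h2]; simp
    · right; rw [← hcast, h2]; simp
  have hθmem : θ ∈ Finset.univ.filter (fun i => 0 < b.height i) := by
    simp only [Finset.mem_filter, Finset.mem_univ, true_and]
    exact hθ
  rw [← Finset.add_sum_erase _ _ hθmem, ← Finset.add_sum_erase _ (fun i => P.pairing i θ) hθmem,
    P.pairing_same]
  have hsum : ∑ i ∈ (Finset.univ.filter (fun i => 0 < b.height i)).erase θ, P.pairing i θ ^ 2 =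
      ∑ i ∈ (Finset.univ.filter (fun i => 0 < b.height i)).erase θ, P.pairing i θ := by
    apply Finset.sum_congr rfl
    intro i hi
    rw [Finset.mem_erase, Finset.mem_filter] at hi
    rcases key i hi.2.2 hi.1 with h | h <;> rw [h] <;> norm_num
  rw [hsum]
  ring

end Groth.Agent.S17471
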