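import Groth.Statements.S17472
import Mathlib
import Groth.Agent.Lib.Helper15.HopfPtsSch
import Groth.Agent.Lib.Helper15.Cartier
import Groth.Agent.Lib.Helper15.HopfSub
import Groth.Agent.Lib.Helper3.GrpConn3
import Groth.Agent.Lib.Helper3.GeomConn

set_option autoImplicit false
universe u
open HopfAlg

namespace Groth.Agent.S17472


open CategoryTheory AlgebraicGeometry in
/-- the spectrum of a connected Hopf algebra over a field is irreducible. -/
theorem isPrime_nilradical (k : Type u) [Field k] (A : Type u) [CommRing A] [HopfAlgebra k A]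
    (hconn : ∀ e : A, IsIdempotentElem e → e = 0 ∨ e = 1) : (nilradical A).IsPrime := by
  have hnt : Nontrivial A := by
    refine ⟨⟨0, 1, fun h => ?_⟩⟩
    have := congrArg (Coalgebra.counit (R := k)) h
    simp at this
  have hconnS : ConnectedSpace (PrimeSpectrum A) :=
    Groth.Agent.Lib.helper3.GeomConn.connectedSpace_iff_idempotent.mpr ⟨hnt, hconn⟩
  rw [← PrimeSpectrum.irreducibleSpace_iff_isPrime_nilradical]
  let G : Over (Spec (CommRingCat.of k)) := Groth.Agent.Lib.helper15.HopfDict.GA k A
  have h1 := Groth.Agent.Lib.helper3.GrpConn.isIrreducible_connectedComponent_unit G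
  have hc : ConnectedSpace ↥G.left := hconnS
  rw [PreconnectedSpace.connectedComponent_eq_univ] at h1
  have h2 : IrreducibleSpace ↥G.left := by
    have h3 : PreirreducibleSpace ↥G.left := ⟨h1.2⟩
    exact { toPreirreducibleSpace := h3, toNonempty := inferInstance }
  exact h2

section Transl

variable {k : Type u} [Field k] {A : Type u} [CommRing A] [HopfAlgebra k A]

/-- the inverse point -/
noncomputable def invPt (g : A →ₐ[k] k) : A →ₐ[k] k := g.comp (HopfAlgebra.antipodeAlgHom k A)

theorem invPt_invPt (g : A →ₐ[k] k) : invPt (invPt g) = g := by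
  ext a
  change g (HopfAlgebra.antipode k (HopfAlgebra.antipode k a)) = g a
  rw [Groth.Agent.Lib.helper15.HopfSub.antipode_antipode]

open Groth.Agent.Lib.helper15.Cartier in
theorem transl_invPt_transl (g : A →ₐ[k] k) (a : A) : transl (invPt g) (transl g a) = a :=
  congrArg (fun f : A →ₐ[k] A => f a) (transl_inv_comp g)

open Groth.Agent.Lib.helper15.Cartier in
theorem transl_transl_invPt (g : A →ₐ[k] k) (a : A) : transl g (transl (invPt g) a) = a := by
  have := transl_invPt_transl (invPt g) a
  rwa [invPt_invPt] at this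

open Groth.Agent.Lib.helper15.Cartier in
theorem counit_transl (g : A →ₐ[k] k) (a : A) : Coalgebra.counit (R := k) (transl g a) = g a :=
  congrArg (fun f : A →ₐ[k] k => f a) (counit_comp_transl g)

open Groth.Agent.Lib.helper15.Cartier in
theorem apply_transl_invPt (g : A →ₐ[k] k) (a : A) :
    g (transl (invPt g) a) = Coalgebra.counit (R := k) a :=
  congrArg (fun f : A →ₐ[k] k => f a) (comp_transl_inv g)

end Transl

/-- the elements killed by a non-nilpotent element -/
def I0 (A : Type u) [CommRing A] : Set A := {x | ∃ s : A, ¬ IsNilpotent s ∧ s * x = 0}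

theorem map_mem_I0 {A : Type u} [CommRing A] (T : A →+* A) (hT : Function.Injective T) {x : A}
    (hx : x ∈ I0 A) : T x ∈ I0 A := by
  obtain ⟨s, hs, hsx⟩ := hx
  refine ⟨T s, fun hn => hs ?_, by rw [← map_mul, hsx, map_zero]⟩
  obtain ⟨n, hn⟩ := hn
  exact ⟨n, hT (by rw [map_pow, hn, map_zero])⟩

/-- Let k be an algebraically closed field and A a commutative Hopf algebra over k, finitely generated
as a k-algebra, whose only idempotents are 0 and 1 (so that Spec A is a connected affine algebraic
group over k, possibly non-reduced). Let m be the kernel of the counit, the ideal of the neutral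
element. Then the intersection of the powers m^n, n ≥ 0, is the zero ideal; equivalently the
infinitesimal neighbourhoods Spec (A/m^n) of the neutral element are jointly schematically dense.
(The published statement assumes the group smooth, that is, a connected linear algebraic group; the
statement here allows any connected affine algebraic group, possibly non-reduced, a case the
published argument also treats.) -/
theorem result (k : Type u) [Field k] [IsAlgClosed k]
    (A : Type u) [CommRing A] [HopfAlgebra k A] [Algebra.FiniteType k A]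
    (hconn : ∀ e : A, IsIdempotentElem e → e = 0 ∨ e = 1) :
    (⨅ n : ℕ, RingHom.ker (Bialgebra.counitAlgHom k A) ^ n) = ⊥ := by
  classical
  have hprime : (nilradical A).IsPrime := isPrime_nilradical k A hconn
  have hnoeth : IsNoetherianRing A := Algebra.FiniteType.isNoetherianRing k A
  -- the ideal `I` of elements killed by a non-nilpotent element
  let I : Ideal A :=
    { carrier := I0 A
      zero_mem' := ⟨1, fun h => by
        have := hprime.ne_top
        exact this ((Ideal.eq_top_iff_one _).mpr (mem_nilradical.mpr h)), by simp⟩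
      add_mem' := by
        rintro x y ⟨s, hs, hsx⟩ ⟨t, ht, hty⟩
        refine ⟨s * t, fun h => ?_, ?_⟩
        · rcases hprime.mem_or_mem (mem_nilradical.mpr h) with h1 | h1
          · exact hs (mem_nilradical.mp h1)
          · exact ht (mem_nilradical.mp h1)
        · rw [mul_add, mul_assoc, mul_comm t x, ← mul_assoc, hsx, zero_mul, mul_assoc, hty,
            mul_zero, add_zero]
      smul_mem' := by
        rintro c x ⟨s, hs, hsx⟩
        exact ⟨s, hs, by rw [smul_eq_mul, mul_left_comm, hsx, mul_zero]⟩ }
  have hI : ∀ x, x ∈ I ↔ x ∈ I0 A := fun x => Iff.rfl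
  -- a non-nilpotent element killing `I`
  obtain ⟨s₀, hs₀, hs₀I⟩ : ∃ s₀ : A, ¬ IsNilpotent s₀ ∧ ∀ x ∈ I, s₀ * x = 0 := by
    obtain ⟨S, hS⟩ := (isNoetherianRing_iff_ideal_fg A).mp hnoeth I
    have hSI : ∀ y ∈ S, y ∈ I0 A := fun y hy => by
      have : y ∈ I := hS ▸ Ideal.subset_span hy
      exact this
    choose! σ hσ using hSI
    refine ⟨∏ y ∈ S, σ y, fun h => ?_, ?_⟩
    · have h1 : ∏ y ∈ S, σ y ∈ nilradical A := mem_nilradical.mpr h
      rw [hprime.prod_mem_iff] at h1
      obtain ⟨y, hy, hy'⟩ := h1
      exact (hσ y hy).1 (mem_nilradical.mp hy')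
    · intro x hx
      rw [← hS] at hx
      refine Submodule.span_induction (p := fun x _ => (∏ y ∈ S, σ y) * x = 0) ?_ ?_ ?_ ?_ hx
      · intro y hy
        rw [← Finset.mul_prod_erase S σ hy, mul_right_comm, (hσ y hy).2, zero_mul]
      · simp
      · intro a b _ _ ha hb
        rw [mul_add, ha, hb, add_zero]
      · intro c a _ ha
        rw [smul_eq_mul, mul_left_comm, ha, mul_zero]
  -- the annihilator of `I`
  let 𝔞 : Ideal A := Submodule.annihilator I
  have h𝔞 : ∀ a, a ∈ 𝔞 ↔ ∀ x ∈ I, a * x = 0 := fun a => by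
    change a ∈ Submodule.annihilator I ↔ _
    rw [Submodule.mem_annihilator]
    rfl
  have hs₀𝔞 : s₀ ∈ 𝔞 := (h𝔞 s₀).mpr hs₀I
  -- stability under translations
  have hstab : ∀ (g : A →ₐ[k] k) (a : A), a ∈ 𝔞 →
      Groth.Agent.Lib.helper15.Cartier.transl g a ∈ 𝔞 := by
    intro g a ha
    rw [h𝔞] at ha ⊢
    intro x hx
    have hinj : Function.Injective (Groth.Agent.Lib.helper15.Cartier.transl (invPt g)) := by
      intro u v huv
      have := congrArg (Groth.Agent.Lib.helper15.Cartier.transl g) huv
      rwa [transl_transl_invPt, transl_transl_invPt] at this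
    have hx' : Groth.Agent.Lib.helper15.Cartier.transl (invPt g) x ∈ I :=
      map_mem_I0 ((Groth.Agent.Lib.helper15.Cartier.transl (invPt g) : A →ₐ[k] A) : A →+* A) hinj hx
    have h1 := ha _ hx'
    have h2 := congrArg (Groth.Agent.Lib.helper15.Cartier.transl g) h1
    rwa [map_mul, transl_transl_invPt, map_zero] at h2
  -- `𝔞 = ⊤`
  have htop : 𝔞 = ⊤ := by
    by_contra hne
    have hnt : Nontrivial (A ⧸ 𝔞) := Ideal.Quotient.nontrivial_iff.mpr hne
    have hft : Algebra.FiniteType k (A ⧸ 𝔞) :=
      Algebra.FiniteType.of_surjective (Ideal.Quotient.mkₐ k 𝔞) (Ideal.Quotient.mkₐ_surjective k 𝔞)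
    obtain ⟨zbar⟩ := Groth.Agent.Lib.helper15.HopfPts.exists_point_of_finiteType k (A ⧸ 𝔞)
    let z : A →ₐ[k] k := zbar.comp (Ideal.Quotient.mkₐ k 𝔞)
    have hz : ∀ a ∈ 𝔞, z a = 0 := by
      intro a ha
      change zbar (Ideal.Quotient.mk 𝔞 a) = 0
      rw [Ideal.Quotient.eq_zero_iff_mem.mpr ha, map_zero]
    have hall : ∀ g : A →ₐ[k] k, g s₀ = 0 := by
      intro g
      have h1 : Groth.Agent.Lib.helper15.Cartier.transl (invPt z)
          (Groth.Agent.Lib.helper15.Cartier.transl g s₀) ∈ 𝔞 := hstab _ _ (hstab _ _ hs₀𝔞)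
      have h2 := hz _ h1
      rw [apply_transl_invPt, counit_transl] at h2
      exact h2
    exact hs₀ (Groth.Agent.Lib.helper15.HopfPtsSch.isNilpotent_of_forall_point k A s₀ hall)
  have hI0 : ∀ x ∈ I, x = 0 := by
    intro x hx
    have h1 : (1 : A) ∈ 𝔞 := htop ▸ Submodule.mem_top
    have := (h𝔞 1).mp h1 x hx
    rwa [one_mul] at this
  -- Krull
  rw [eq_bot_iff]
  intro x hx
  set m : Ideal A := RingHom.ker (Bialgebra.counitAlgHom k A) with hm
  have hx' : x ∈ (⨅ i : ℕ, m ^ i • ⊤ : Submodule A A) := by
    have : (⨅ i : ℕ, m ^ i • ⊤ : Submodule A A) = ⨅ i : ℕ, m ^ i := by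
      congr 1
      ext i
      rw [smul_eq_mul, ← Ideal.one_eq_top, mul_one]
    rw [this]
    exact hx
  obtain ⟨r, hr⟩ := (Ideal.mem_iInf_smul_pow_eq_bot_iff m x).mp hx'
  have hmem : x ∈ I := by
    refine ⟨1 - (r : A), fun hn => ?_, ?_⟩
    · have h1 : (1 - (r : A)) ∈ m := by
        have h2 : nilradical A ≤ m := by
          have hmp : m.IsPrime := RingHom.ker_isPrime _
          exact nilradical_le_prime m
        exact h2 (mem_nilradical.mpr hn)
      have h3 : (1 : A) ∈ m := by
        have := m.add_mem h1 r.2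
        simpa using this
      have hmne : m ≠ ⊤ := RingHom.ker_ne_top _
      exact hmne ((Ideal.eq_top_iff_one m).mpr h3)
    · rw [sub_mul, one_mul]
      have : (r : A) * x = x := hr
      rw [this, sub_self]
  exact (Submodule.mem_bot A).mpr (hI0 x hmem)

end Groth.Agent.S17472
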