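import Groth.Statements.S1750
import Mathlib
import Groth.Agent.Lib.Helper19.MatlisLen
import Groth.Agent.S5155
import Groth.Agent.S0311
import Groth.Agent.S8925

set_option autoImplicit false
universe u
open InjHull

namespace Groth.Agent.S1750

-- MARK
section Aux
open IsLocalRing Groth.Agent.Lib.helper19.MatlisLen

variable {A : Type u} [CommRing A] [IsLocalRing A] {E : Type u} [AddCommGroup E] [Module A E]

/-- the map out of the residue field attached to a socle element -/
noncomputable def ofSocle (x : E) (hx : ∀ a ∈ maximalIdeal A, a • x = 0) :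
    ResidueField A →ₗ[A] E :=
  Submodule.liftQ (maximalIdeal A) (LinearMap.toSpanSingleton A E x) (by
    intro b hb
    rw [LinearMap.mem_ker, LinearMap.toSpanSingleton_apply]
    exact hx b hb)

theorem ofSocle_one (x : E) (hx : ∀ a ∈ maximalIdeal A, a • x = 0) : ofSocle x hx 1 = x := by
  show LinearMap.toSpanSingleton A E x 1 = x
  simp

theorem smul_apply_one (g : ResidueField A →ₗ[A] E) (a : A) (ha : a ∈ maximalIdeal A) :
    a • g 1 = 0 := by
  rw [← map_smul, ← residue_eq_smul_one, (residue_eq_zero_iff a).mpr ha, map_zero]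

theorem ext_one {g h : ResidueField A →ₗ[A] E} (h1 : g 1 = h 1) : g = h := by
  refine LinearMap.ext fun z => ?_
  obtain ⟨a, rfl⟩ := residue_surjective z
  rw [residue_eq_smul_one, map_smul, map_smul, h1]

end Aux

open IsLocalRing Groth.Agent.Lib.helper19.MatlisLen in


/-- Let R → S be a flat local homomorphism of Noetherian local rings with m_R S = m_S inducing a
bijection on residue fields. If κ_S → E is an injective hull of the residue field of S over S, then
E regarded as an R-module is an injective hull of the residue field of R (for a suitable R-linear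
map κ_R → E). -/
theorem result (R S : Type u) [CommRing R] [CommRing S] [IsLocalRing R] [IsLocalRing S] [IsNoetherianRing R] [IsNoetherianRing S] [Algebra R S] [IsLocalHom (algebraMap R S)] [Module.Flat R S] (hm : (IsLocalRing.maximalIdeal R).map (algebraMap R S) = IsLocalRing.maximalIdeal S) (hk : Function.Bijective (IsLocalRing.ResidueField.map (algebraMap R S))) (E : Type u) [AddCommGroup E] [Module S E] [Module R E] [IsScalarTower R S E] (f : IsLocalRing.ResidueField S →ₗ[S] E) (hf : InjHull.IsInjectiveHull f) : ∃ g : IsLocalRing.ResidueField R →ₗ[R] E, InjHull.IsInjectiveHull g := by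
  classical
  haveI : Module.Injective S E := hf.isInjective
  have hinj : Module.Injective R E := Groth.Agent.S8925.result R S E
  have htorsS := Groth.Agent.S0311.result S E f hf
  have hmem : ∀ a ∈ maximalIdeal R, algebraMap R S a ∈ maximalIdeal S := fun a ha => by
    rw [← hm]; exact Ideal.mem_map_of_mem _ ha
  have htors : LocCoh.IsPowerTorsion (maximalIdeal R) E := by
    intro x
    obtain ⟨n, hn⟩ := htorsS x
    refine ⟨n, fun a ha => ?_⟩
    rw [← algebraMap_smul S a x]
    apply hn
    rw [← hm, ← Ideal.map_pow]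
    exact Ideal.mem_map_of_mem _ ha
  -- socle comparison
  have hsoc : ∀ x : E, (∀ a ∈ maximalIdeal R, a • x = 0) → ∀ b ∈ maximalIdeal S, b • x = 0 := by
    intro x hx b hb
    rw [← hm] at hb
    refine Submodule.span_induction (p := fun b _ => b • x = 0) ?_ ?_ ?_ ?_ hb
    · rintro _ ⟨a, ha, rfl⟩
      rw [algebraMap_smul]; exact hx a ha
    · exact zero_smul _ _
    · intro b c _ _ hb hc; rw [add_smul, hb, hc, add_zero]
    · intro s b _ hb; rw [smul_eq_mul, mul_smul, hb, smul_zero]
  set x₀ := f 1 with hx₀
  have hx₀S : ∀ b ∈ maximalIdeal S, b • x₀ = 0 := fun b hb => smul_apply_one f b hb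
  have hx₀R : ∀ a ∈ maximalIdeal R, a • x₀ = 0 := fun a ha => by
    rw [← algebraMap_smul S a x₀]; exact hx₀S _ (hmem a ha)
  have hx₀ne : x₀ ≠ 0 := by
    intro h
    have := hf.injective (h.trans (map_zero f).symm)
    exact one_ne_zero this
  -- every socle element is a multiple of x₀
  have hgen : ∀ y : E, (∀ a ∈ maximalIdeal R, a • y = 0) → ∃ r : R, y = r • x₀ := by
    intro y hy
    obtain ⟨c, hc⟩ := exists_eq_mul f hf (ofSocle y (hsoc y hy))
    have h1 := hc 1
    rw [ofSocle_one, mul_one] at h1
    obtain ⟨d, rfl⟩ := hk.2 c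
    obtain ⟨r, rfl⟩ := residue_surjective d
    refine ⟨r, ?_⟩
    rw [h1, ResidueField.map_residue, residue_eq_smul_one, map_smul, algebraMap_smul]
  refine (Groth.Agent.S5155.result R E).mpr ⟨hinj, htors, ?_⟩
  rw [isSimpleModule_iff_toSpanSingleton_surjective]
  refine ⟨⟨ofSocle x₀ hx₀R, 0, ?_⟩, ?_⟩
  · intro h
    have := congrArg (fun g => g 1) h
    simp only [ofSocle_one, LinearMap.zero_apply] at this
    exact hx₀ne this
  · intro g hg h
    obtain ⟨r, hr⟩ := hgen (g 1) (smul_apply_one g)
    obtain ⟨r', hr'⟩ := hgen (h 1) (smul_apply_one h)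
    have hru : IsUnit r := by
      by_contra hnu
      have : r ∈ maximalIdeal R := (mem_maximalIdeal r).mpr hnu
      apply hg
      apply ext_one
      rw [hr, hx₀R r this, LinearMap.zero_apply]
    obtain ⟨u, rfl⟩ := hru
    refine ⟨r' * ↑u⁻¹, ?_⟩
    apply ext_one
    rw [LinearMap.toSpanSingleton_apply, LinearMap.smul_apply, hr, hr', smul_smul, mul_assoc,
      Units.inv_mul, mul_one]

end Groth.Agent.S1750
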