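import Groth.Statements.S17507
import Mathlib
import Groth.Agent.Lib.Helper12.ThetaRep
set_option linter.style.haveILetI false
set_option linter.unusedSectionVars false

set_option autoImplicit false
universe u
open CategoryTheory
open ThetaRep

namespace Groth.Agent.S17507

open Representation
open scoped commutatorElement
open Groth.Agent.Lib.helper12.ThetaRep


section level

variable {k : Type u} [Field k] [IsAlgClosed k] {Γ : Type u} [Group Γ] {ι : kˣ →* Γ}

/-- the subgroup generated by `H` and an element commuting with `H`. -/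
def adjoinComm (H : Subgroup Γ) (x : Γ) (hx : ∀ h ∈ H, h * x = x * h) : Subgroup Γ where
  carrier := {g | ∃ h ∈ H, ∃ i : ℤ, g = h * x ^ i}
  mul_mem' := by
    rintro _ _ ⟨h₁, hh₁, i, rfl⟩ ⟨h₂, hh₂, j, rfl⟩
    refine ⟨h₁ * h₂, H.mul_mem hh₁ hh₂, i + j, ?_⟩
    have hc : Commute (x ^ i) h₂ := (Commute.zpow_right (hx h₂ hh₂ : Commute h₂ x) i).symm
    rw [zpow_add, mul_assoc, ← mul_assoc (x ^ i), hc.eq, mul_assoc, mul_assoc]
  one_mem' := ⟨1, H.one_mem, 0, by simp⟩
  inv_mem' := by
    rintro _ ⟨h, hh, i, rfl⟩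
    refine ⟨h⁻¹, H.inv_mem hh, -i, ?_⟩
    have hc : Commute (x ^ i) h := (Commute.zpow_right (hx h hh : Commute h x) i).symm
    rw [mul_inv_rev, zpow_neg, ← hc.inv_inv.eq]

theorem centralizer_le (hcent : ι.range = Subgroup.center Γ)
    [Finite (Γ ⧸ ι.range)] (H : Subgroup Γ) (hH : H ⊓ ι.range = ⊥)
    (hmax : ∀ H' : Subgroup Γ, H' ⊓ ι.range = ⊥ → H ≤ H' → H' = H)
    (x : Γ) (hx : ∀ h ∈ H, h * x = x * h) : ∃ h ∈ H, ∃ z : kˣ, x = h * ι z := by
  haveI hN : ι.range.Normal := by rw [hcent]; infer_instance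
  have hmemHZ : ∀ g : Γ, g ∈ H ⊔ ι.range ↔ ∃ h ∈ H, ∃ z : kˣ, g = h * ι z := by
    intro g
    rw [Subgroup.mem_sup_of_normal_right]
    constructor
    · rintro ⟨y, hy, _, ⟨z, rfl⟩, rfl⟩
      exact ⟨y, hy, z, rfl⟩
    · rintro ⟨h, hh, z, rfl⟩
      exact ⟨h, hh, ι z, ⟨z, rfl⟩, rfl⟩
  -- the exponents `i` with `x ^ i ∈ H Z`
  let A : AddSubgroup ℤ :=
    { carrier := {i | x ^ i ∈ H ⊔ ι.range}
      zero_mem' := by simp [one_mem]
      add_mem' := fun {i j} hi hj => by
        change x ^ (i + j) ∈ H ⊔ ι.range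
        rw [zpow_add]
        exact Subgroup.mul_mem _ hi hj
      neg_mem' := fun {i} hi => by
        change x ^ (-i) ∈ H ⊔ ι.range
        rw [zpow_neg]
        exact Subgroup.inv_mem _ hi }
  obtain ⟨a, ha⟩ := Int.subgroup_cyclic A
  have hAmem : ∀ i : ℤ, i ∈ A ↔ ∃ q : ℤ, q * a = i := by
    intro i
    rw [ha, AddSubgroup.mem_closure_singleton]
    simp only [smul_eq_mul]
  -- `N ∈ A`
  have hNA : ((Nat.card (Γ ⧸ ι.range) : ℕ) : ℤ) ∈ A := by
    change x ^ ((Nat.card (Γ ⧸ ι.range) : ℕ) : ℤ) ∈ H ⊔ ι.range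
    rw [zpow_natCast]
    apply Subgroup.mem_sup_right
    rw [← QuotientGroup.eq_one_iff, QuotientGroup.mk_pow]
    exact pow_card_eq_one'
  have ha0 : a ≠ 0 := by
    intro h0
    obtain ⟨q, hq⟩ := (hAmem _).mp hNA
    rw [h0, mul_zero] at hq
    have : (Nat.card (Γ ⧸ ι.range)) = 0 := by exact_mod_cast hq.symm
    exact Nat.card_pos.ne' this
  set n : ℕ := a.natAbs with hn
  have hnpos : 0 < n := Int.natAbs_pos.mpr ha0
  have hnA : (n : ℤ) ∈ A := by
    rw [hAmem]
    rcases Int.natAbs_eq a with h | h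
    · exact ⟨1, by rw [one_mul, hn]; exact h⟩
    · exact ⟨-1, by rw [hn]; omega⟩
  have hdvd : ∀ i : ℤ, i ∈ A → (n : ℤ) ∣ i := by
    intro i hi
    obtain ⟨q, rfl⟩ := (hAmem i).mp hi
    rw [hn, Int.natAbs_dvd]
    exact Dvd.intro_left q rfl
  -- `x ^ n = h₀ * ι c`
  obtain ⟨h₀, hh₀, c, hc⟩ := (hmemHZ _).mp (show x ^ (n : ℤ) ∈ H ⊔ ι.range from hnA)
  rw [zpow_natCast] at hc
  obtain ⟨z₀, hz₀⟩ := IsAlgClosed.exists_pow_nat_eq ((c⁻¹ : kˣ) : k) hnpos
  have hz₀ne : z₀ ≠ 0 := by
    intro h
    rw [h, zero_pow hnpos.ne'] at hz₀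
    exact Units.ne_zero _ hz₀.symm
  let z : kˣ := Units.mk0 z₀ hz₀ne
  have hz : z ^ n = c⁻¹ := Units.ext (by simpa [z] using hz₀)
  set x' : Γ := x * ι z with hx'def
  have hcomm_xz : Commute x (ι z) := (iota_comm hcent z x).symm
  have hx'n : x' ^ n = h₀ := by
    rw [hx'def, hcomm_xz.mul_pow, hc, ← map_pow, hz, mul_assoc, ← map_mul, mul_inv_cancel, map_one,
      mul_one]
  have hx'comm : ∀ h ∈ H, h * x' = x' * h := by
    intro h hh
    rw [hx'def, ← mul_assoc, hx h hh, mul_assoc, mul_assoc, iota_comm hcent]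
  have hx'i : ∀ i : ℤ, x' ^ i = x ^ i * ι (z ^ i) := by
    intro i
    rw [hx'def, hcomm_xz.mul_zpow, map_zpow]
  -- the bigger subgroup is still level
  have hlevel : adjoinComm H x' hx'comm ⊓ ι.range = ⊥ := by
    rw [Subgroup.eq_bot_iff_forall]
    rintro g ⟨⟨h, hh, i, rfl⟩, hgZ⟩
    have hxi : x ^ i ∈ H ⊔ ι.range := by
      have h1 : x ^ i = h⁻¹ * (h * x' ^ i) * ι (z ^ i)⁻¹ := by
        rw [hx'i, map_inv]; group
      rw [h1]
      refine Subgroup.mul_mem _ (Subgroup.mul_mem _ (Subgroup.mem_sup_left (H.inv_mem hh))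
        (Subgroup.mem_sup_right hgZ)) (Subgroup.mem_sup_right ⟨_, rfl⟩)
    obtain ⟨q, hq⟩ := hdvd i hxi
    have h2 : x' ^ i = h₀ ^ q := by
      rw [hq, zpow_mul, zpow_natCast, hx'n]
    have h3 : h * x' ^ i ∈ H ⊓ ι.range := by
      refine ⟨?_, hgZ⟩
      rw [h2]
      exact H.mul_mem hh (H.zpow_mem hh₀ q)
    rw [hH] at h3
    exact h3
  have hle : H ≤ adjoinComm H x' hx'comm := by
    intro h hh
    exact ⟨h, hh, 0, by simp⟩
  have hEq := hmax _ hlevel hle
  have hx'H : x' ∈ H := by
    rw [← hEq]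
    exact ⟨1, H.one_mem, 1, by simp⟩
  refine ⟨x', hx'H, z⁻¹, ?_⟩
  rw [hx'def, mul_assoc, ← map_mul, mul_inv_cancel, map_one, mul_one]

end level



section semis

variable {k : Type u} [Field k] {Γ : Type u} [Group Γ] {ι : kˣ →* Γ}
  {W : Type u} [AddCommGroup W] [Module k W] (ρ : Representation k Γ W)
  (hw : ∀ (z : kˣ) (w : W), ρ (ι z) w = (z : k) • w)

include hw in
theorem isSemisimple [Finite (Γ ⧸ ι.range)] (hN : (Nat.card (Γ ⧸ ι.range) : k) ≠ 0) :
    IsSemisimpleRepresentation ρ := by
  classical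
  haveI : Fintype (Γ ⧸ ι.range) := Fintype.ofFinite _
  refine ⟨fun S => ?_⟩
  obtain ⟨C, hC⟩ := Submodule.exists_isCompl S.toSubmodule
  let π₀ : W →ₗ[k] W := S.toSubmodule.subtype ∘ₗ Submodule.projectionOnto _ _ hC
  have hπ₀mem : ∀ w, π₀ w ∈ S.toSubmodule := fun w => Submodule.coe_mem _
  have hπ₀id : ∀ s ∈ S.toSubmodule, π₀ s = s := fun s hs => by
    change ((Submodule.projectionOnto _ _ hC s : S.toSubmodule) : W) = s
    rw [Submodule.projectionOnto_apply_of_mem_left hC hs]
  set E : Module.End k (W →ₗ[k] W) := ∑ x : Γ ⧸ ι.range, linHom ρ ρ (Quotient.out x) with hE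
  let π₁ : W →ₗ[k] W := E π₀
  have hπ₁ : ∀ w, π₁ w = ∑ x : Γ ⧸ ι.range,
      ρ (Quotient.out x) (π₀ (ρ (Quotient.out x)⁻¹ w)) := by
    intro w
    simp only [π₁, hE, LinearMap.sum_apply, linHom_apply, LinearMap.comp_apply]
  have hπ₁mem : ∀ w, π₁ w ∈ S.toSubmodule := by
    intro w
    rw [hπ₁]
    exact Submodule.sum_mem _ fun x _ => S.apply_mem_toSubmodule _ (hπ₀mem _)
  have hπ₁id : ∀ s ∈ S.toSubmodule, π₁ s = (Nat.card (Γ ⧸ ι.range) : k) • s := by
    intro s hs
    rw [hπ₁]
    have : ∀ x : Γ ⧸ ι.range, ρ (Quotient.out x) (π₀ (ρ (Quotient.out x)⁻¹ s)) = s := by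
      intro x
      rw [hπ₀id _ (S.apply_mem_toSubmodule _ hs), ← Module.End.mul_apply, ← map_mul,
        mul_inv_cancel, map_one, Module.End.one_apply]
    simp_rw [this]
    rw [Finset.sum_const, Finset.card_univ, Nat.card_eq_fintype_card, Nat.cast_smul_eq_nsmul]
  have hπ₁comm : ∀ (h : Γ) (w : W), π₁ (ρ h w) = ρ h (π₁ w) := by
    intro h w
    have h1 := linHom_mul_sum ρ hw ρ hw h
    rw [← hE] at h1
    have h2 : linHom ρ ρ h π₁ = π₁ := LinearMap.congr_fun h1 π₀
    rw [linHom_apply] at h2
    have h3 := LinearMap.congr_fun h2 (ρ h w)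
    simp only [LinearMap.comp_apply] at h3
    rw [← Module.End.mul_apply (ρ h⁻¹), ← map_mul, inv_mul_cancel, map_one,
      Module.End.one_apply] at h3
    exact h3.symm
  let S' : Subrepresentation ρ :=
    { toSubmodule := LinearMap.ker π₁
      apply_mem_toSubmodule := fun g v hv => by
        rw [LinearMap.mem_ker] at hv ⊢
        rw [hπ₁comm, hv, map_zero] }
  refine ⟨S', ?_⟩
  rw [isCompl_iff, disjoint_iff, codisjoint_iff]
  constructor
  · apply Subrepresentation.toSubmodule_injective
    change S.toSubmodule ⊓ LinearMap.ker π₁ = ⊥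
    rw [eq_bot_iff]
    rintro w ⟨hwS, hwK⟩
    rw [SetLike.mem_coe, LinearMap.mem_ker, hπ₁id w hwS] at hwK
    exact (Submodule.mem_bot k).mpr ((smul_eq_zero.mp hwK).resolve_left hN)
  · apply Subrepresentation.toSubmodule_injective
    change S.toSubmodule ⊔ LinearMap.ker π₁ = ⊤
    rw [eq_top_iff]
    intro w _
    rw [Submodule.mem_sup]
    refine ⟨(Nat.card (Γ ⧸ ι.range) : k)⁻¹ • π₁ w, S.toSubmodule.smul_mem _ (hπ₁mem w),
      w - (Nat.card (Γ ⧸ ι.range) : k)⁻¹ • π₁ w, ?_, by abel⟩
    rw [LinearMap.mem_ker, map_sub, map_smul, hπ₁id _ (hπ₁mem w), smul_smul,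
      inv_mul_cancel₀ hN, one_smul, sub_self]

end semis



section inv

variable {k : Type u} [Field k] {Γ : Type u} [Group Γ] {ι : kˣ →* Γ}

theorem finite_of_level [Finite (Γ ⧸ ι.range)] (H : Subgroup Γ) (hH : H ⊓ ι.range = ⊥) :
    Finite H := by
  refine Finite.of_injective (fun h : H => (QuotientGroup.mk (h : Γ) : Γ ⧸ ι.range)) ?_
  intro h₁ h₂ h12
  simp only at h12
  rw [QuotientGroup.eq] at h12
  have : (h₁ : Γ)⁻¹ * h₂ ∈ H ⊓ ι.range := ⟨H.mul_mem (H.inv_mem h₁.2) h₂.2, h12⟩
  rw [hH, Subgroup.mem_bot, inv_mul_eq_one] at this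
  exact Subtype.ext this

theorem notMem_range_of_level (H : Subgroup Γ) (hH : H ⊓ ι.range = ⊥) (h : H) (hne : h ≠ 1) :
    (h : Γ) ∉ ι.range := by
  intro hmem
  have : (h : Γ) ∈ H ⊓ ι.range := ⟨h.2, hmem⟩
  rw [hH, Subgroup.mem_bot] at this
  exact hne (Subtype.ext this)

end inv

section invariants

variable {k : Type u} [Field k] [IsAlgClosed k] {Γ : Type u} [Group Γ] {ι : kˣ →* Γ}
  (hι : Function.Injective ι) (hcent : ι.range = Subgroup.center Γ)
  (hcomm : commutator Γ ≤ ι.range)
  {V : Type u} [AddCommGroup V] [Module k V] (ρ : Representation k Γ V)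
  (hw : ∀ (z : kˣ) (v : V), ρ (ι z) v = (z : k) • v)

include hι hcent hcomm hw in
theorem finrank_invariants_eq_one [FiniteDimensional k V] [IsIrreducible ρ]
    [Finite (Γ ⧸ ι.range)] (hN : (Nat.card (Γ ⧸ ι.range) : k) ≠ 0)
    (H : Subgroup Γ) (hH : H ⊓ ι.range = ⊥)
    (hC : ∀ x : Γ, (∀ h ∈ H, h * x = x * h) → ∃ h ∈ H, ∃ z : kˣ, x = h * ι z) :
    Module.finrank k (invariants (ρ.comp H.subtype)) = 1 := by
  classical
  haveI := finite_of_level H hH
  haveI : Fintype H := Fintype.ofFinite _
  have hd := finrank_sq hι hcent hcomm ρ hw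
  have hd0 : (Module.finrank k V : k) ≠ 0 := by
    intro h0
    apply hN
    rw [← hd, Nat.cast_pow, h0, zero_pow two_ne_zero]
  set P : Module.End k V := ∑ h : H, ρ (h : Γ) with hP
  have hP1 : ∀ h' : H, ρ (h' : Γ) * P = P := by
    intro h'
    rw [hP, Finset.mul_sum]
    simp_rw [← map_mul]
    exact Fintype.sum_equiv (Equiv.mulLeft h') _ _ (fun h => rfl)
  have hP1' : ∀ h' : H, P * ρ (h' : Γ) = P := by
    intro h'
    rw [hP, Finset.sum_mul]
    simp_rw [← map_mul]
    exact Fintype.sum_equiv (Equiv.mulRight h') _ _ (fun h => rfl)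
  have htr : LinearMap.trace k V P = (Module.finrank k V : k) := by
    rw [hP, map_sum, Finset.sum_eq_single (1 : H)]
    · simp
    · intro h _ hne
      exact character_eq_zero hι hcent hcomm ρ hw _ (notMem_range_of_level H hH h hne)
    · intro h
      exact absurd (Finset.mem_univ _) h
  have hPP : P * P = (Fintype.card H : k) • P := by
    have h1 : P * P = ∑ h : H, ρ (h : Γ) * P := by
      nth_rewrite 1 [hP]
      rw [Finset.sum_mul]
    rw [h1]
    simp_rw [hP1]
    rw [Finset.sum_const, Finset.card_univ, Nat.cast_smul_eq_nsmul]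
  have hH0 : (Fintype.card H : k) ≠ 0 := by
    intro h0
    rw [h0, zero_smul] at hPP
    have hnil : IsNilpotent P := ⟨2, by rw [sq, hPP]⟩
    have := (LinearMap.isNilpotent_trace_of_isNilpotent hnil).eq_zero
    rw [htr] at this
    exact hd0 this
  have hP0 : P ≠ 0 := by
    intro h0
    rw [h0, map_zero] at htr
    exact hd0 htr.symm
  -- `P ρ(g) P ∈ k P`
  have hP3 : ∀ g : Γ, ∃ b : k, P * ρ g * P = b • P := by
    intro g
    have h1 : P * ρ g = ∑ h : H, (cHom hι hcent hcomm g (h : Γ)) • (ρ g * ρ (h : Γ)) := by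
      rw [hP, Finset.sum_mul]
      exact Finset.sum_congr rfl fun h _ => rho_conj hι hcent hcomm ρ hw g h
    have h2 : P * ρ g * P = (∑ h : H, cHom hι hcent hcomm g (h : Γ)) • (ρ g * P) := by
      rw [h1, Finset.sum_mul, Finset.sum_smul]
      refine Finset.sum_congr rfl fun h _ => ?_
      rw [smul_mul_assoc, mul_assoc, hP1]
    by_cases hs : (∑ h : H, cHom hι hcent hcomm g (h : Γ)) = 0
    · exact ⟨0, by rw [h2, hs, zero_smul, zero_smul]⟩
    · have hone : ∀ h₁ : H, cHom hι hcent hcomm g (h₁ : Γ) = 1 := by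
        intro h₁
        have h3 : (∑ h : H, cHom hι hcent hcomm g (h : Γ)) =
            cHom hι hcent hcomm g (h₁ : Γ) * ∑ h : H, cHom hι hcent hcomm g (h : Γ) := by
          rw [Finset.mul_sum]
          simp_rw [← map_mul]
          exact (Fintype.sum_equiv (Equiv.mulLeft h₁) _ _ (fun h => rfl)).symm
        have h4 : (cHom hι hcent hcomm g (h₁ : Γ) - 1) *
            ∑ h : H, cHom hι hcent hcomm g (h : Γ) = 0 := by
          linear_combination -h3
        exact sub_eq_zero.mp ((mul_eq_zero.mp h4).resolve_right hs)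
      have hcommg : ∀ h ∈ H, h * g = g * h := by
        intro h hh
        have h5 : cfun hcomm g h = 1 := Units.ext (hone ⟨h, hh⟩)
        have := mul_eq_cfun hcomm g h
        rwa [h5, map_one, one_mul] at this
      obtain ⟨h₀, hh₀, z, hz⟩ := hC g hcommg
      refine ⟨(∑ h : H, cHom hι hcent hcomm g (h : Γ)) * (z : k), ?_⟩
      rw [h2, hz, map_mul, rho_iota ρ hw, mul_smul_comm, mul_one, smul_mul_assoc,
        hP1 ⟨h₀, hh₀⟩, smul_smul]
  have hP4 : ∀ A : Module.End k V, ∃ b : k, P * A * P = b • P := by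
    intro A
    have hA := burnside ρ A
    induction hA using Submodule.span_induction with
    | mem A hA =>
      obtain ⟨g, rfl⟩ := hA
      exact hP3 g
    | zero => exact ⟨0, by simp⟩
    | add A B _ _ hA hB =>
      obtain ⟨a, ha⟩ := hA
      obtain ⟨b, hb⟩ := hB
      exact ⟨a + b, by rw [mul_add, add_mul, ha, hb, add_smul]⟩
    | smul c A _ hA =>
      obtain ⟨a, ha⟩ := hA
      exact ⟨c * a, by rw [mul_smul_comm, smul_mul_assoc, ha, smul_smul]⟩
  -- invariants = range P
  have hinvP : ∀ v : V, v ∈ invariants (ρ.comp H.subtype) → P v = (Fintype.card H : k) • v := by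
    intro v hv
    rw [mem_invariants] at hv
    rw [hP, LinearMap.sum_apply]
    have : ∀ h : H, ρ (h : Γ) v = v := fun h => hv h
    simp_rw [this]
    rw [Finset.sum_const, Finset.card_univ, Nat.cast_smul_eq_nsmul]
  have hPinv : ∀ v : V, P v ∈ invariants (ρ.comp H.subtype) := by
    intro v
    rw [mem_invariants]
    intro h
    change ρ (h : Γ) (P v) = P v
    rw [← Module.End.mul_apply, hP1]
  obtain ⟨v₁, hv₁⟩ : ∃ v₁, P v₁ ≠ 0 := by
    by_contra hcon
    push Not at hcon
    exact hP0 (LinearMap.ext hcon)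
  rw [finrank_eq_one_iff']
  refine ⟨⟨P v₁, hPinv v₁⟩, fun h => hv₁ (congrArg Subtype.val h), ?_⟩
  rintro ⟨w, hwI⟩
  -- a functional with `φ (P v₁) ≠ 0`
  obtain ⟨φ, hφ⟩ : ∃ φ : Module.Dual k V, φ (P v₁) ≠ 0 := by
    by_contra hcon
    push Not at hcon
    exact hv₁ ((Module.forall_dual_apply_eq_zero_iff k _).mp hcon)
  let w' : V := (Fintype.card H : k)⁻¹ • w
  let A : Module.End k V := (φ (P v₁))⁻¹ • φ.smulRight w'
  have hA : A (P v₁) = w' := by
    simp only [A, LinearMap.smul_apply, LinearMap.smulRight_apply]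
    rw [smul_smul, inv_mul_cancel₀ hφ, one_smul]
  obtain ⟨b, hb⟩ := hP4 A
  refine ⟨b, Subtype.ext ?_⟩
  change b • P v₁ = w
  have h1 := LinearMap.congr_fun hb v₁
  simp only [Module.End.mul_apply, LinearMap.smul_apply] at h1
  rw [← h1, hA]
  simp only [w']
  rw [map_smul, hinvP w hwI, smul_smul, inv_mul_cancel₀ hH0, one_smul]

end invariants



section minsub

variable {k : Type u} [Field k] {Γ : Type u} [Group Γ]

/-- a nonzero subrepresentation of a finite-dimensional representation contains an irreducible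
one. -/
theorem exists_irreducible_le {W : Type u} [AddCommGroup W] [Module k W]
    [FiniteDimensional k W] (ρ : Representation k Γ W) (S : Subrepresentation ρ) (hS : S ≠ ⊥) :
    ∃ T : Subrepresentation ρ, T ≤ S ∧ T ≠ ⊥ ∧ IsIrreducible T.toRepresentation := by
  classical
  let P : ℕ → Prop := fun n =>
    ∃ T : Subrepresentation ρ, T ≤ S ∧ T ≠ ⊥ ∧ Module.finrank k T.toSubmodule = n
  have hP : ∃ n, P n := ⟨_, S, le_rfl, hS, rfl⟩
  obtain ⟨S₀, hS₀le, hS₀, hfin⟩ := Nat.find_spec hP
  have hmin : ∀ T : Subrepresentation ρ, T ≤ S → T ≠ ⊥ →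
      Module.finrank k S₀.toSubmodule ≤ Module.finrank k T.toSubmodule := fun T hTS hT => by
    rw [hfin]
    exact Nat.find_min' hP ⟨T, hTS, hT, rfl⟩
  refine ⟨S₀, hS₀le, hS₀, ?_⟩
  have hS₀' : S₀.toSubmodule ≠ ⊥ := fun h => hS₀ (Subrepresentation.toSubmodule_injective h)
  refine { exists_pair_ne := ⟨⊥, ⊤, ?_⟩, eq_bot_or_eq_top := ?_ }
  · intro h
    have h1 : (⊥ : Submodule k S₀.toSubmodule) = ⊤ := congrArg Subrepresentation.toSubmodule h
    apply hS₀'
    rw [Submodule.eq_bot_iff]
    intro v hv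
    have : (⟨v, hv⟩ : S₀.toSubmodule) ∈ (⊥ : Submodule k S₀.toSubmodule) := by
      rw [h1]; exact Submodule.mem_top
    rw [Submodule.mem_bot] at this
    exact congrArg Subtype.val this
  · intro τ
    let up : Subrepresentation ρ :=
      { toSubmodule := τ.toSubmodule.map S₀.toSubmodule.subtype
        apply_mem_toSubmodule := by
          rintro g _ ⟨w, hw, rfl⟩
          exact ⟨S₀.toRepresentation g w, τ.apply_mem_toSubmodule g hw, rfl⟩ }
    have hupS₀ : up.toSubmodule ≤ S₀.toSubmodule := Submodule.map_subtype_le _ _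
    by_cases hup : up = ⊥
    · left
      apply Subrepresentation.toSubmodule_injective
      have h1 : τ.toSubmodule.map S₀.toSubmodule.subtype = ⊥ :=
        congrArg Subrepresentation.toSubmodule hup
      exact Submodule.map_injective_of_injective S₀.toSubmodule.injective_subtype
        (h1.trans (Submodule.map_bot _).symm)
    · right
      apply Subrepresentation.toSubmodule_injective
      have h1 := hmin up (le_trans (show up ≤ S₀ from hupS₀) hS₀le) hup
      have h3 : up.toSubmodule = S₀.toSubmodule := Submodule.eq_of_le_of_finrank_le hupS₀ h1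
      have h4 : τ.toSubmodule.map S₀.toSubmodule.subtype =
          (⊤ : Submodule k S₀.toSubmodule).map S₀.toSubmodule.subtype := by
        rw [Submodule.map_subtype_top]
        exact h3
      exact Submodule.map_injective_of_injective S₀.toSubmodule.injective_subtype h4

end minsub

section count

variable {k : Type u} [Field k] [IsAlgClosed k] {Γ : Type u} [Group Γ] {ι : kˣ →* Γ}
  (hι : Function.Injective ι) (hcent : ι.range = Subgroup.center Γ)
  (hcomm : commutator Γ ≤ ι.range)
  {W : Type u} [AddCommGroup W] [Module k W] (ρ : Representation k Γ W)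
  (hw : ∀ (z : kˣ) (w : W), ρ (ι z) w = (z : k) • w)

include hι hcent hcomm hw in
theorem finrank_eq_mul [FiniteDimensional k W] [Finite (Γ ⧸ ι.range)]
    (hss : IsSemisimpleRepresentation ρ) (H : Subgroup Γ)
    (d : ℕ) (hd : d ^ 2 = Nat.card (Γ ⧸ ι.range))
    (hinv1 : ∀ T : Subrepresentation ρ, IsIrreducible T.toRepresentation →
      Module.finrank k (invariants (T.toRepresentation.comp H.subtype)) = 1) :
    Module.finrank k W = Module.finrank k (invariants (ρ.comp H.subtype)) * d := by
  classical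
  set I : Submodule k W := invariants (ρ.comp H.subtype) with hI
  have hdpos : 0 < d := by
    rcases Nat.eq_zero_or_pos d with h | h
    · rw [h] at hd
      exact absurd hd.symm (Nat.card_pos.ne')
    · exact h
  have key : ∀ n : ℕ, ∀ S : Subrepresentation ρ, Module.finrank k S.toSubmodule = n →
      Module.finrank k S.toSubmodule = Module.finrank k ↥(S.toSubmodule ⊓ I) * d := by
    intro n
    induction n using Nat.strong_induction_on with
    | _ n ih =>
      intro S hSn
      by_cases hS : S = ⊥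
      · have h1 : S.toSubmodule = ⊥ := congrArg Subrepresentation.toSubmodule hS
        rw [h1, bot_inf_eq, finrank_bot, zero_mul]
      · obtain ⟨T, hTS, hT, hTirr⟩ := exists_irreducible_le ρ S hS
        haveI := hTirr
        have hTw : ∀ (z : kˣ) (v : T.toSubmodule), T.toRepresentation (ι z) v = (z : k) • v :=
          fun z v => Subtype.ext (hw z v)
        -- dimension of `T`
        have hTd : Module.finrank k T.toSubmodule = d := by
          have := finrank_sq hι hcent hcomm T.toRepresentation hTw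
          exact Nat.pow_left_injective (n := 2) (by norm_num) (this.trans hd.symm)
        -- invariants of `T`
        have hTI : Module.finrank k ↥(T.toSubmodule ⊓ I) = 1 := by
          have hset : T.toSubmodule ⊓ I =
              (invariants (T.toRepresentation.comp H.subtype)).map T.toSubmodule.subtype := by
            ext w
            simp only [Submodule.mem_inf, Submodule.mem_map, hI, mem_invariants]
            constructor
            · rintro ⟨hwT, hwI⟩
              exact ⟨⟨w, hwT⟩, fun h => Subtype.ext (hwI h), rfl⟩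
            · rintro ⟨v, hv, rfl⟩
              exact ⟨v.2, fun h => congrArg Subtype.val (hv h)⟩
          rw [hset, Submodule.finrank_map_subtype_eq, hinv1 T hTirr]
        -- complement
        obtain ⟨T', hT'⟩ := hss.exists_isCompl T
        have hTT'bot : T.toSubmodule ⊓ T'.toSubmodule = ⊥ :=
          congrArg Subrepresentation.toSubmodule (disjoint_iff.mp hT'.disjoint)
        have hTT'top : T.toSubmodule ⊔ T'.toSubmodule = ⊤ :=
          congrArg Subrepresentation.toSubmodule (codisjoint_iff.mp hT'.codisjoint)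
        let S' : Subrepresentation ρ := T' ⊓ S
        have hsup : T.toSubmodule ⊔ S'.toSubmodule = S.toSubmodule := by
          change T.toSubmodule ⊔ T'.toSubmodule ⊓ S.toSubmodule = S.toSubmodule
          rw [← sup_inf_assoc_of_le _ (show T.toSubmodule ≤ S.toSubmodule from hTS), hTT'top,
            top_inf_eq]
        have hinf : T.toSubmodule ⊓ S'.toSubmodule = ⊥ := by
          change T.toSubmodule ⊓ (T'.toSubmodule ⊓ S.toSubmodule) = ⊥
          rw [← inf_assoc, hTT'bot, bot_inf_eq]
        have hdim : Module.finrank k S.toSubmodule =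
            d + Module.finrank k S'.toSubmodule := by
          have := Submodule.finrank_sup_add_finrank_inf_eq T.toSubmodule S'.toSubmodule
          rw [hsup, hinf, finrank_bot, add_zero, hTd] at this
          exact this
        have hlt : Module.finrank k S'.toSubmodule < n := by
          rw [← hSn, hdim]
          omega
        have hIH := ih _ hlt S' rfl
        -- invariants split
        have hsupI : (T.toSubmodule ⊓ I) ⊔ (S'.toSubmodule ⊓ I) = S.toSubmodule ⊓ I := by
          apply le_antisymm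
          · refine sup_le (inf_le_inf_right _ hTS) (inf_le_inf_right _ ?_)
            exact (inf_le_right : T'.toSubmodule ⊓ S.toSubmodule ≤ S.toSubmodule)
          · rintro w ⟨hwS, hwI⟩
            rw [← hsup] at hwS
            obtain ⟨t, ht, s', hs', rfl⟩ := Submodule.mem_sup.mp hwS
            have hboth : ∀ h : H, ρ (h : Γ) t = t ∧ ρ (h : Γ) s' = s' := by
              intro h
              have h1 : ρ (h : Γ) (t + s') = t + s' := (mem_invariants _ _).mp hwI h
              rw [map_add] at h1
              have h2 : ρ (h : Γ) t - t = s' - ρ (h : Γ) s' := by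
                rw [sub_eq_sub_iff_add_eq_add]
                rw [h1, add_comm]
              have h3 : ρ (h : Γ) t - t ∈ T.toSubmodule ⊓ S'.toSubmodule := by
                refine ⟨T.toSubmodule.sub_mem (T.apply_mem_toSubmodule _ ht) ht, ?_⟩
                rw [h2]
                exact S'.toSubmodule.sub_mem hs' (S'.apply_mem_toSubmodule _ hs')
              rw [hinf, Submodule.mem_bot] at h3
              refine ⟨sub_eq_zero.mp h3, ?_⟩
              rw [h3] at h2
              exact (sub_eq_zero.mp h2.symm).symm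
            refine Submodule.mem_sup.mpr ⟨t, ⟨ht, ?_⟩, s', ⟨hs', ?_⟩, rfl⟩
            · exact (mem_invariants _ _).mpr fun h => (hboth h).1
            · exact (mem_invariants _ _).mpr fun h => (hboth h).2
        have hinfI : (T.toSubmodule ⊓ I) ⊓ (S'.toSubmodule ⊓ I) = ⊥ := by
          rw [eq_bot_iff, ← hinf]
          exact inf_le_inf inf_le_left inf_le_left
        have hdimI : Module.finrank k ↥(S.toSubmodule ⊓ I) =
            1 + Module.finrank k ↥(S'.toSubmodule ⊓ I) := by
          have := Submodule.finrank_sup_add_finrank_inf_eq (T.toSubmodule ⊓ I)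
            (S'.toSubmodule ⊓ I)
          rw [hsupI, hinfI, finrank_bot, add_zero, hTI] at this
          exact this
        rw [hdim, hdimI, hIH]
        ring
  have := key _ ⊤ rfl
  have htop : (⊤ : Subrepresentation ρ).toSubmodule = ⊤ := rfl
  rw [htop, top_inf_eq, finrank_top] at this
  exact this

end count



/-- Let k be an algebraically closed field and Γ a group given with an injective homomorphism ι from the
multiplicative group kˣ onto the centre of Γ, such that the quotient K = Γ/ι(kˣ) is a finite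
commutative group (every commutator lies in ι(kˣ)) whose order is prime to the characteristic
exponent of k — the group of k-points of a non-degenerate theta group 1 → G_m → G → K → 1 with
rank(K) prime to char(k), non-degeneracy of the commutator pairing being the condition that ι(kˣ) is
the whole centre. A finite-dimensional representation of Γ over k has weight 1 when ι(z) acts as
multiplication by z for every z. Let V be an irreducible finite-dimensional representation of weight
1, W any finite-dimensional representation of weight 1, and H a maximal level subgroup of Γ: a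
subgroup with H ∩ ι(kˣ) = 1 which is maximal among subgroups with this property. Then W is
semisimple (completely reducible) and dim_k W = dim_k(W^H) · dim_k V, where W^H is the subspace of
H-invariants; together with the uniqueness of the irreducible weight-1 representation this says that
W is a direct sum of dim_k(W^H) copies of V. (Rendered for the group of k-points of the theta group
scheme, as in the preceding row.) -/
theorem result (k : Type u) [Field k] [IsAlgClosed k]
    (Γ : Type u) [Group Γ] (ι : kˣ →* Γ) (hι : Function.Injective ι)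
    (hcent : ι.range = Subgroup.center Γ) (hcomm : commutator Γ ≤ ι.range)
    [Finite (Γ ⧸ ι.range)] (hcop : (Nat.card (Γ ⧸ ι.range)).Coprime (ringExpChar k))
    (V : FDRep k Γ) (hV : Representation.IsIrreducible V.ρ) (hV1 : ∀ (z : kˣ) (v : V), V.ρ (ι z) v = (z : k) • v)
    (W : FDRep k Γ) (hW1 : ∀ (z : kˣ) (w : W), W.ρ (ι z) w = (z : k) • w)
    (H : Subgroup Γ) (hH : H ⊓ ι.range = ⊥) (hmax : ∀ H' : Subgroup Γ, H' ⊓ ι.range = ⊥ → H ≤ H' → H' = H) :
    Representation.IsSemisimpleRepresentation W.ρ ∧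
      Module.finrank k W =
        Module.finrank k (Representation.invariants (W.ρ.comp H.subtype)) * Module.finrank k V := by
  have hN : (Nat.card (Γ ⧸ ι.range) : k) ≠ 0 :=
    natCard_ne_zero_of_coprime _ Nat.card_pos hcop
  have hss := isSemisimple W.ρ hW1 hN
  have hC := centralizer_le hcent H hH hmax
  refine ⟨hss, ?_⟩
  haveI := hV
  have hd := finrank_sq hι hcent hcomm V.ρ hV1
  exact finrank_eq_mul hι hcent hcomm W.ρ hW1 hss H (Module.finrank k V) hd (fun T hT => by
    haveI := hT
    exact finrank_invariants_eq_one hι hcent hcomm T.toRepresentation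
      (fun z v => Subtype.ext (hW1 z v)) hN H hH hC)

end Groth.Agent.S17507
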