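import Groth.Statements.S17512
import Mathlib

set_option autoImplicit false
universe u
open ThetaRep

namespace Groth.Agent.S17512

set_option linter.style.haveILetI false


open Subgroup
open scoped commutatorElement

lemma neZero_of_coprime (k : Type u) [Field k] (n m : ℕ) (hn : n ≠ 0) (hdvd : n ∣ m)
    (hcop : m.Coprime (ringExpChar k)) : NeZero (n : k) := by
  constructor
  intro h0
  generalize hq : ringExpChar k = q at hcop
  have hE : ExpChar k q := ringExpChar.of_eq hq
  cases hE with
  | zero => exact hn (by exact_mod_cast h0)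
  | prime hp =>
    have h1 : q ∣ n := (CharP.cast_eq_zero_iff k q n).1 h0
    have h2 : q ∣ m := h1.trans hdvd
    have h3 : q ∣ 1 := by
      have := Nat.dvd_gcd h2 (dvd_refl q)
      rwa [hcop] at this
    exact hp.one_lt.ne' (Nat.dvd_one.1 h3)

section general

variable {Γ : Type u} [Group Γ]

/-- self-centralizing iff maximal commutative -/
lemma maximal_iff_self_centralizer (H : Subgroup Γ) :
    (IsMulCommutative H ∧ ∀ H' : Subgroup Γ, IsMulCommutative H' → H ≤ H' → H' = H) ↔
      H = Subgroup.centralizer (H : Set Γ) := by
  constructor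
  · rintro ⟨hc, hmax⟩
    apply le_antisymm (le_centralizer_iff_isMulCommutative.2 hc)
    intro g hg
    let S : Set Γ := insert g (H : Set Γ)
    have hS : ∀ x ∈ S, ∀ y ∈ S, x * y = y * x := by
      intro x hx y hy
      rcases hx with rfl | hx <;> rcases hy with rfl | hy
      · rfl
      · exact (mem_centralizer_iff.1 hg y hy).symm
      · exact (mem_centralizer_iff.1 hg x hx)
      · exact mul_comm_of_mem_isMulCommutative H hx hy
    have h1 : IsMulCommutative (closure S) := isMulCommutative_closure hS
    have h2 : H ≤ closure S := fun x hx => subset_closure (Set.mem_insert_of_mem _ hx)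
    have h3 := hmax _ h1 h2
    rw [← h3]
    exact subset_closure (Set.mem_insert _ _)
  · intro h
    have hc : IsMulCommutative H := le_centralizer_iff_isMulCommutative.1 h.le
    refine ⟨hc, fun H' hH' hle => le_antisymm ?_ hle⟩
    intro x hx
    rw [h]
    rw [mem_centralizer_iff]
    intro y hy
    exact mul_comm_of_mem_isMulCommutative H' (hle hy) hx

end general

section key

variable (k : Type u) [Field k] [IsAlgClosed k]
    (Γ : Type u) [Group Γ] (ι : kˣ →* Γ) (hι : Function.Injective ι)
    (hcent : ι.range = Subgroup.center Γ) (hcomm : commutator Γ ≤ ι.range)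

include hι hcent hcomm in
theorem key [Finite (Γ ⧸ ι.range)] (hcop : (Nat.card (Γ ⧸ ι.range)).Coprime (ringExpChar k))
    (H : Subgroup Γ) (hH : ι.range ≤ H) :
    ι.range.relIndex (centralizer (H : Set Γ)) * ι.range.relIndex H = ι.range.index := by
  classical
  set Z : Subgroup Γ := ι.range with hZ
  haveI hZn : Z.Normal := by rw [hcent]; infer_instance
  -- commutators lie in Z
  have hcm : ∀ g h : Γ, ⁅g, h⁆ ∈ Z := fun g h =>
    hcomm (by rw [_root_.commutator_def]; exact commutator_mem_commutator (mem_top g) (mem_top h))
  have hmemZ : ∀ g : Γ, g ∈ Z ↔ ∀ x : Γ, x * g = g * x := fun g => by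
    rw [hcent, mem_center_iff]
  have hcentral : ∀ z ∈ Z, ∀ g : Γ, g * z = z * g := fun z hz g => (hmemZ z).1 hz g
  -- the pairing
  have hex : ∀ g h : Γ, ∃ u : kˣ, ι u = ⁅g, h⁆ := fun g h => hcm g h
  choose c hc using hex
  have hmul_r : ∀ g h h' : Γ, c g (h * h') = c g h * c g h' := by
    intro g h h'
    apply hι
    rw [map_mul, hc, hc, hc]
    have h1 : ⁅g, h * h'⁆ = ⁅g, h⁆ * (h * ⁅g, h'⁆ * h⁻¹) := by
      simp only [commutatorElement_def]; group
    rw [h1, hcentral _ (hcm g h') h]
    group
  have hmul_l : ∀ g g' h : Γ, c (g * g') h = c g h * c g' h := by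
    intro g g' h
    apply hι
    rw [map_mul, hc, hc, hc]
    have h1 : ⁅g * g', h⁆ = (g * ⁅g', h⁆ * g⁻¹) * ⁅g, h⁆ := by
      simp only [commutatorElement_def]; group
    rw [h1, hcentral _ (hcm g' h) g]
    have h2 := hcentral _ (hcm g' h) ⁅g, h⁆
    rw [mul_inv_cancel_right, ← h2]
  have hone_r : ∀ g : Γ, c g 1 = 1 := by
    intro g
    apply hι
    rw [hc, map_one, commutatorElement_one_right]
  have hc_one : ∀ g h : Γ, c g h = 1 ↔ g * h = h * g := by
    intro g h
    rw [← commutatorElement_eq_one_iff_mul_comm, ← hc, ← map_one ι]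
    exact ⟨fun h => by rw [h], fun h => hι h⟩
  have hZ_r : ∀ g : Γ, ∀ z ∈ Z, c g z = 1 := by
    intro g z hz
    rw [hc_one]
    exact hcentral z hz g
  let ψ : Γ → (Γ →* kˣ) := fun g =>
    { toFun := c g, map_one' := hone_r g, map_mul' := hmul_r g }
  let K := Γ ⧸ Z
  letI instK : CommGroup K :=
    { (inferInstance : Group K) with
      mul_comm := by
        intro a b
        induction a using QuotientGroup.induction_on with | _ a => ?_
        induction b using QuotientGroup.induction_on with | _ b => ?_
        rw [← QuotientGroup.mk_mul, ← QuotientGroup.mk_mul, QuotientGroup.eq]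
        have : (a * b)⁻¹ * (b * a) = ⁅b⁻¹, a⁻¹⁆ := by
          simp only [commutatorElement_def]; group
        rw [this]
        exact hcm _ _ }
  let Ψ : Γ →* (K →* kˣ) :=
    { toFun := fun g => QuotientGroup.lift Z (ψ g) (fun z hz => hZ_r g z hz)
      map_one' := by
        apply QuotientGroup.monoidHom_ext
        ext x
        change ((c 1 x : kˣ) : k) = ((1 : kˣ) : k)
        rw [(hc_one 1 x).2 (by simp)]
      map_mul' := by
        intro g g'
        apply QuotientGroup.monoidHom_ext
        ext x
        change ((c (g * g') x : kˣ) : k) = ((c g x * c g' x : kˣ) : k)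
        rw [hmul_l] }
  have hΨ : ∀ g x, Ψ g (QuotientGroup.mk x) = c g x := fun g x => rfl
  have hkerΨ : Ψ.ker = Z := by
    ext g
    rw [MonoidHom.mem_ker, hmemZ]
    constructor
    · intro h x
      have := DFunLike.congr_fun h (QuotientGroup.mk x)
      rw [hΨ, MonoidHom.one_apply, hc_one] at this
      exact this.symm
    · intro h
      apply QuotientGroup.monoidHom_ext
      ext x
      change ((c g x : kˣ) : k) = ((1 : kˣ) : k)
      rw [(hc_one g x).2 (h x).symm]
  -- enough roots of unity
  haveI hne : NeZero ((Monoid.exponent K : ℕ) : k) :=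
    neZero_of_coprime k _ _ (Monoid.exponent_ne_zero_of_finite) Group.exponent_dvd_nat_card hcop
  haveI hroots : HasEnoughRootsOfUnity k (Monoid.exponent K) := inferInstance
  -- Ψ surjective
  have hcardK : Nat.card (K →* kˣ) = Nat.card K :=
    CommGroup.card_monoidHom_of_hasEnoughRootsOfUnity K k
  have hΨsurj : Function.Surjective Ψ := by
    rw [← MonoidHom.range_eq_top]
    apply Subgroup.eq_top_of_card_eq
    rw [← Subgroup.index_ker, hkerΨ, hcardK]
    rfl
  -- restriction to the image of H
  let Hb : Subgroup K := H.map (QuotientGroup.mk' Z)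
  have hR : Function.Surjective (MonoidHom.domRestrictHom Hb kˣ) :=
    MonoidHom.domRestrict_surjective k Hb
  let Θ : Γ →* (Hb →* kˣ) := (MonoidHom.domRestrictHom Hb kˣ).comp Ψ
  have hΘsurj : Function.Surjective Θ := hR.comp hΨsurj
  have hkerΘ : Θ.ker = centralizer (H : Set Γ) := by
    ext g
    rw [MonoidHom.mem_ker, mem_centralizer_iff]
    constructor
    · intro h x hx
      have hxb : (QuotientGroup.mk x : K) ∈ Hb := ⟨x, hx, rfl⟩
      have := DFunLike.congr_fun h ⟨_, hxb⟩
      change Ψ g (QuotientGroup.mk x) = 1 at this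
      rw [hΨ, hc_one] at this
      exact this.symm
    · intro h
      ext ⟨x, hx⟩
      obtain ⟨y, hy, rfl⟩ := hx
      change ((Ψ g (QuotientGroup.mk y) : kˣ) : k) = ((1 : kˣ) : k)
      rw [hΨ, (hc_one g y).2 (h y hy).symm]
  haveI hroots' : HasEnoughRootsOfUnity k (Monoid.exponent Hb) :=
    hroots.of_dvd k (Monoid.exponent_submonoid_dvd Hb.toSubmonoid)
  have hcardHb : Nat.card (Hb →* kˣ) = Nat.card Hb :=
    CommGroup.card_monoidHom_of_hasEnoughRootsOfUnity Hb k
  have hidx : (centralizer (H : Set Γ)).index = Z.relIndex H := by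
    rw [← hkerΘ, Subgroup.index_ker, MonoidHom.range_eq_top.2 hΘsurj, Subgroup.card_top, hcardHb]
    have := Subgroup.relIndex_ker (K := H) (QuotientGroup.mk' Z)
    rw [QuotientGroup.ker_mk'] at this
    exact this.symm
  have hZle : Z ≤ centralizer (H : Set Γ) := by
    rw [hcent]; exact center_le_centralizer _
  rw [← hidx]
  exact Subgroup.relIndex_mul_index hZle

include hι hcent hcomm in
theorem main [Finite (Γ ⧸ ι.range)] (hcop : (Nat.card (Γ ⧸ ι.range)).Coprime (ringExpChar k))
    (H : Subgroup Γ) (hH : ι.range ≤ H) :
    List.TFAE [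
      IsMulCommutative H ∧ ∀ H' : Subgroup Γ, IsMulCommutative H' → H ≤ H' → H' = H,
      IsMulCommutative H ∧ (ι.range.relIndex H) ^ 2 = ι.range.index,
      H = Subgroup.centralizer (H : Set Γ)] := by
  have hkey := key k Γ ι hι hcent hcomm hcop H hH
  have h13 := maximal_iff_self_centralizer H
  have h23 : (IsMulCommutative H ∧ (ι.range.relIndex H) ^ 2 = ι.range.index) ↔
      H = Subgroup.centralizer (H : Set Γ) := by
    constructor
    · rintro ⟨hc, hsq⟩
      have hle : H ≤ centralizer (H : Set Γ) := le_centralizer_iff_isMulCommutative.2 hc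
      have hidx : ι.range.index ≠ 0 := Subgroup.index_ne_zero_of_finite
      have hne : ι.range.relIndex H ≠ 0 := by
        intro h0
        rw [h0] at hsq
        exact hidx (by rw [← hsq]; simp)
      have h1 : ι.range.relIndex (centralizer (H : Set Γ)) = ι.range.relIndex H := by
        have : ι.range.relIndex (centralizer (H : Set Γ)) * ι.range.relIndex H =
            ι.range.relIndex H * ι.range.relIndex H := by rw [hkey, ← hsq, sq]
        exact Nat.eq_of_mul_eq_mul_right (Nat.pos_of_ne_zero hne) this
      have h2 := relIndex_mul_relIndex _ _ _ hH hle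
      rw [h1] at h2
      have h3 : H.relIndex (centralizer (H : Set Γ)) = 1 := by
        have : ι.range.relIndex H * H.relIndex (centralizer (H : Set Γ)) =
            ι.range.relIndex H * 1 := by rw [h2, mul_one]
        exact Nat.eq_of_mul_eq_mul_left (Nat.pos_of_ne_zero hne) this
      exact le_antisymm hle (relIndex_eq_one.1 h3)
    · intro h
      have hc : IsMulCommutative H := le_centralizer_iff_isMulCommutative.1 h.le
      refine ⟨hc, ?_⟩
      rw [← h] at hkey
      rw [sq]; exact hkey
  tfae_have 1 ↔ 3 := h13
  tfae_have 2 ↔ 3 := h23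
  tfae_finish

end key



/-- For the group of k-points of a non-degenerate theta group with constant K, let k be an algebraically
closed field and Γ a group given with an injective homomorphism ι from kˣ onto the centre of Γ such
that K = Γ/ι(kˣ) is finite and commutative (all commutators lie in ι(kˣ)) of order prime to the
characteristic exponent of k — the group of k-points of a non-degenerate theta group 1 → G_m → G → K
→ 1 with rank(K) prime to char(k). Subgroups of K correspond to subgroups H of Γ containing ι(kˣ);
such an H is totally isotropic for the commutator pairing exactly when it is commutative, and its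
orthogonal corresponds to the centralizer of H. For a subgroup H ⊇ ι(kˣ) the following are
equivalent: (i) H is commutative and maximal among commutative subgroups of Γ; (ii) H is commutative
and [H : ι(kˣ)]² = [Γ : ι(kˣ)]; (iii) H is its own centralizer. (The published lemma is for an
arbitrary non-degenerate theta group scheme, where (iii) ⇔ (ii) ⇒ (i) always and (i) ⇒ (iii) needs k
algebraically closed; this row is the case of the group of k-points with K constant.) -/
theorem result
    (k : Type u) [Field k] [IsAlgClosed k]
    (Γ : Type u) [Group Γ] (ι : kˣ →* Γ) (hι : Function.Injective ι)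
    (hcent : ι.range = Subgroup.center Γ) (hcomm : commutator Γ ≤ ι.range)
    [Finite (Γ ⧸ ι.range)] (hcop : (Nat.card (Γ ⧸ ι.range)).Coprime (ringExpChar k))
    (H : Subgroup Γ) (hH : ι.range ≤ H) :
    List.TFAE [
      IsMulCommutative H ∧ ∀ H' : Subgroup Γ, IsMulCommutative H' → H ≤ H' → H' = H,
      IsMulCommutative H ∧ (ι.range.relIndex H) ^ 2 = ι.range.index,
      H = Subgroup.centralizer (H : Set Γ)] := by
  exact main k Γ ι hι hcent hcomm hcop H hH

end Groth.Agent.S17512
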