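import Groth.Statements.S17517
import Mathlib

set_option autoImplicit false
universe u
open GIT

namespace Groth.Agent.S17517

open Topology Filter

section
variable {E : Type u} [NormedAddCommGroup E] [InnerProductSpace ℝ E]

theorem mn_smul (S : Finset (Module.Dual ℝ E)) (hS : S.Nonempty) (s : ℝ) (hs : 0 ≤ s) (v : E) :
    S.inf' hS (fun f => f (s • v)) = s * S.inf' hS (fun f => f v) := by
  obtain ⟨i, hi, hie⟩ := Finset.exists_mem_eq_inf' hS (fun f : Module.Dual ℝ E => f v)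
  have hie' : S.inf' hS (fun f => f v) = i v := hie
  apply le_antisymm
  · calc S.inf' hS (fun f => f (s • v)) ≤ i (s • v) := Finset.inf'_le _ hi
      _ = s * i v := by rw [map_smul, smul_eq_mul]
      _ = s * S.inf' hS (fun f => f v) := by rw [hie']
  · rw [Finset.le_inf'_iff]
    intro b hb
    show s * S.inf' hS (fun f => f v) ≤ b (s • v)
    rw [map_smul, smul_eq_mul]
    exact mul_le_mul_of_nonneg_left (Finset.inf'_le _ hb) hs

theorem mn_add (S : Finset (Module.Dual ℝ E)) (hS : S.Nonempty) (v w : E) :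
    S.inf' hS (fun f => f v) + S.inf' hS (fun f => f w) ≤ S.inf' hS (fun f => f (v + w)) := by
  rw [Finset.le_inf'_iff]
  intro b hb
  show S.inf' hS (fun f => f v) + S.inf' hS (fun f => f w) ≤ b (v + w)
  rw [map_add]
  exact add_le_add (Finset.inf'_le _ hb) (Finset.inf'_le _ hb)

theorem mn_zero (S : Finset (Module.Dual ℝ E)) (hS : S.Nonempty) :
    S.inf' hS (fun f => f (0:E)) = 0 := by
  have := mn_smul S hS 0 le_rfl (0:E)
  rw [zero_smul, zero_mul] at this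
  exact this

theorem mn_neg_lt (S : Finset (Module.Dual ℝ E)) (hS : S.Nonempty) (v : E)
    (h : 0 < S.inf' hS (fun f => f v)) : S.inf' hS (fun f => f (-v)) < 0 := by
  obtain ⟨i, hi⟩ := id hS
  have h1 : S.inf' hS (fun f => f (-v)) ≤ i (-v) := Finset.inf'_le _ hi
  have h2 : S.inf' hS (fun f => f v) ≤ i v := Finset.inf'_le _ hi
  rw [map_neg] at h1
  linarith

theorem mn_cont [FiniteDimensional ℝ E] (S : Finset (Module.Dual ℝ E)) (hS : S.Nonempty) :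
    Continuous (fun v : E => S.inf' hS (fun f => f v)) :=
  Continuous.finset_inf'_apply (f := fun (φ : Module.Dual ℝ E) (v : E) => φ v) hS
    (fun f _ => LinearMap.continuous_of_finiteDimensional f)

theorem norm_inv_smul (v : E) (hv : v ≠ 0) : ‖(‖v‖⁻¹ : ℝ) • v‖ = 1 := by
  rw [norm_smul, norm_inv, norm_norm, inv_mul_cancel₀ (norm_ne_zero_iff.mpr hv)]

theorem exists_max [FiniteDimensional ℝ E] (F G : Finset (Module.Dual ℝ E))
    (hF : F.Nonempty) (hG : G.Nonempty)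
    (hpos : ∃ v : E, 0 ≤ F.inf' hF (fun f => f v) ∧ 0 < G.inf' hG (fun g => g v)) :
    ∃ u₀ : E, ‖u₀‖ = 1 ∧ 0 ≤ F.inf' hF (fun f => f u₀) ∧ 0 < G.inf' hG (fun g => g u₀) ∧
      ∀ v : E, v ≠ 0 → 0 ≤ F.inf' hF (fun f => f v) →
        G.inf' hG (fun g => g v) ≤ G.inf' hG (fun g => g u₀) * ‖v‖ := by
  obtain ⟨v, hv1, hv2⟩ := hpos
  have hv0 : v ≠ 0 := by
    rintro rfl
    rw [mn_zero] at hv2
    exact lt_irrefl _ hv2
  obtain ⟨S, hSdef⟩ : ∃ S : Set E, S = Metric.sphere (0:E) 1 ∩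
      (fun u => F.inf' hF (fun f => f u)) ⁻¹' Set.Ici 0 := ⟨_, rfl⟩
  have hmem : ∀ u, u ∈ S ↔ (‖u‖ = 1 ∧ 0 ≤ F.inf' hF (fun f => f u)) := fun u => by
    rw [hSdef]
    simp only [Set.mem_inter_iff, mem_sphere_zero_iff_norm, Set.mem_preimage, Set.mem_Ici]
  have hSc : IsCompact S := by
    rw [hSdef]
    exact (isCompact_sphere 0 1).inter_right (isClosed_Ici.preimage (mn_cont F hF))
  have hnorm : ∀ w : E, w ≠ 0 → 0 ≤ F.inf' hF (fun f => f w) → (‖w‖⁻¹ : ℝ) • w ∈ S := by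
    intro w hw hwf
    rw [hmem]
    refine ⟨norm_inv_smul w hw, ?_⟩
    rw [mn_smul F hF _ (inv_nonneg.mpr (norm_nonneg w))]
    exact mul_nonneg (inv_nonneg.mpr (norm_nonneg w)) hwf
  obtain ⟨u₀, hu₀S, hmax⟩ := hSc.exists_isMaxOn ⟨_, hnorm v hv0 hv1⟩
    (mn_cont G hG).continuousOn
  have hmax' := isMaxOn_iff.mp hmax
  have hu₀ := (hmem u₀).mp hu₀S
  refine ⟨u₀, hu₀.1, hu₀.2, ?_, ?_⟩
  · have h1 := hmax' _ (hnorm v hv0 hv1)
    have h2 : G.inf' hG (fun g => g ((‖v‖⁻¹ : ℝ) • v)) = ‖v‖⁻¹ * G.inf' hG (fun g => g v) :=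
      mn_smul G hG _ (inv_nonneg.mpr (norm_nonneg v)) v
    have h3 : 0 < ‖v‖⁻¹ * G.inf' hG (fun g => g v) :=
      mul_pos (inv_pos.mpr (norm_pos_iff.mpr hv0)) hv2
    have h1' : G.inf' hG (fun g => g ((‖v‖⁻¹ : ℝ) • v)) ≤ G.inf' hG (fun g => g u₀) := h1
    linarith
  · intro w hw hwf
    have h1 : G.inf' hG (fun g => g ((‖w‖⁻¹ : ℝ) • w)) ≤ G.inf' hG (fun g => g u₀) :=
      hmax' _ (hnorm w hw hwf)
    rw [mn_smul G hG _ (inv_nonneg.mpr (norm_nonneg w))] at h1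
    have hn : 0 < ‖w‖ := norm_pos_iff.mpr hw
    calc G.inf' hG (fun g => g w) = ‖w‖ * (‖w‖⁻¹ * G.inf' hG (fun g => g w)) := by
          rw [mul_inv_cancel_left₀ hn.ne']
      _ ≤ ‖w‖ * G.inf' hG (fun g => g u₀) := mul_le_mul_of_nonneg_left h1 hn.le
      _ = G.inf' hG (fun g => g u₀) * ‖w‖ := mul_comm _ _

theorem unit_unique (F G : Finset (Module.Dual ℝ E)) (hF : F.Nonempty) (hG : G.Nonempty)
    (u₀ u₁ : E) (M : ℝ) (hM : 0 < M)
    (h0n : ‖u₀‖ = 1) (h0f : 0 ≤ F.inf' hF (fun f => f u₀)) (h0g : G.inf' hG (fun g => g u₀) = M)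
    (h1n : ‖u₁‖ = 1) (h1f : 0 ≤ F.inf' hF (fun f => f u₁)) (h1g : G.inf' hG (fun g => g u₁) = M)
    (hmax : ∀ v : E, v ≠ 0 → 0 ≤ F.inf' hF (fun f => f v) →
        G.inf' hG (fun g => g v) ≤ M * ‖v‖) : u₁ = u₀ := by
  have hf := mn_add F hF u₀ u₁
  have hg := mn_add G hG u₀ u₁
  rw [h0g, h1g] at hg
  have hw0 : u₀ + u₁ ≠ 0 := by
    intro h
    rw [h, mn_zero] at hg
    linarith
  have h2 := hmax _ hw0 (by linarith)
  have h3 : 2 ≤ ‖u₀ + u₁‖ := by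
    by_contra hc
    push_neg at hc
    have := mul_lt_mul_of_pos_left hc hM
    linarith
  have hp := parallelogram_law_with_norm ℝ u₀ u₁
  rw [h0n, h1n] at hp
  have h4 : (2:ℝ) * 2 ≤ ‖u₀ + u₁‖ * ‖u₀ + u₁‖ := mul_self_le_mul_self (by norm_num) h3
  have h5 : ‖u₀ - u₁‖ * ‖u₀ - u₁‖ = 0 :=
    le_antisymm (by linarith) (mul_self_nonneg _)
  have h6 : ‖u₀ - u₁‖ = 0 := mul_self_eq_zero.mp h5
  exact (sub_eq_zero.mp (norm_eq_zero.mp h6)).symm

theorem kkt (K : Finset (Module.Dual ℝ E × ℝ)) (w₀ : E)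
    (hw : ∀ p ∈ K, p.2 ≤ p.1 w₀)
    (hmin : ∀ v : E, (∀ p ∈ K, p.2 ≤ p.1 v) → ‖w₀‖ ≤ ‖v‖)
    (y : E) (hy : ∀ p ∈ K, p.1 w₀ = p.2 → p.1 y = 0) : inner ℝ w₀ y = 0 := by
  have key : ∀ y : E, (∀ p ∈ K, p.1 w₀ = p.2 → p.1 y = 0) → 0 ≤ inner ℝ w₀ y := by
    intro y hy
    by_contra hc
    push_neg at hc
    have hev : ∀ᶠ s in 𝓝 (0:ℝ), ∀ p ∈ K, p.2 ≤ p.1 (w₀ + s • y) := by
      rw [Filter.eventually_all_finset]
      intro p hp
      by_cases hact : p.1 w₀ = p.2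
      · refine Filter.Eventually.of_forall fun s => ?_
        rw [map_add, map_smul, hy p hp hact, smul_zero, add_zero, hact]
      · have hlt : p.2 < p.1 w₀ := lt_of_le_of_ne (hw p hp) (Ne.symm hact)
        have hfe : (fun s : ℝ => p.1 (w₀ + s • y)) = fun s => p.1 w₀ + s * p.1 y := by
          funext s
          rw [map_add, map_smul, smul_eq_mul]
        have hcont : Continuous fun s : ℝ => p.1 (w₀ + s • y) := by
          rw [hfe]
          exact continuous_const.add (continuous_id.mul continuous_const)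
        have ht : Tendsto (fun s : ℝ => p.1 (w₀ + s • y)) (𝓝 0) (𝓝 (p.1 w₀)) := by
          have h := hcont.tendsto 0
          rw [zero_smul, add_zero] at h
          exact h
        exact (ht.eventually_const_lt hlt).mono fun s hs => hs.le
    have hev2 : ∀ᶠ s in 𝓝 (0:ℝ), 0 ≤ 2 * s * inner ℝ w₀ y + s^2 * ‖y‖^2 := by
      filter_upwards [hev] with s hs
      have h1 := hmin _ hs
      have h2 : ‖w₀ + s • y‖^2 = ‖w₀‖^2 + 2 * s * inner ℝ w₀ y + s^2 * ‖y‖^2 := by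
        rw [norm_add_sq_real, inner_smul_right, norm_smul, mul_pow, Real.norm_eq_abs, sq_abs]
        ring
      have h3 : ‖w₀‖^2 ≤ ‖w₀ + s • y‖^2 := pow_le_pow_left₀ (norm_nonneg _) h1 2
      linarith
    have h2 : ∀ᶠ s in 𝓝 (0:ℝ), 2 * inner ℝ w₀ y + s * ‖y‖^2 < 0 := by
      have hc2 : Continuous fun s : ℝ => 2 * inner ℝ w₀ y + s * ‖y‖^2 :=
        continuous_const.add (continuous_id.mul continuous_const)
      have ht : Tendsto (fun s : ℝ => 2 * inner ℝ w₀ y + s * ‖y‖^2) (𝓝 0)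
          (𝓝 (2 * inner ℝ w₀ y)) := by
        have h := hc2.tendsto 0
        rw [zero_mul, add_zero] at h
        exact h
      exact ht.eventually_lt_const (by linarith)
    have h3 : ∀ᶠ s in 𝓝[>] (0:ℝ), (0:ℝ) < s := eventually_mem_nhdsWithin
    obtain ⟨s, ⟨hs1, hs2⟩, hs3⟩ :=
      (((hev2.and h2).filter_mono nhdsWithin_le_nhds).and h3).exists
    have h5 : s * (2 * inner ℝ w₀ y + s * ‖y‖^2) < 0 := mul_neg_of_pos_of_neg hs3 hs2
    have h6 : s * (2 * inner ℝ w₀ y + s * ‖y‖^2) = 2 * s * inner ℝ w₀ y + s^2 * ‖y‖^2 := by ring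
    linarith
  have h1 := key y hy
  have h2 := key (-y) (fun p hp ha => by rw [map_neg, hy p hp ha, neg_zero])
  rw [inner_neg_right] at h2
  linarith

noncomputable def innL (a : E) : Module.Dual ℝ E :=
  { toFun := fun v => inner ℝ a v
    map_add' := fun x y => inner_add_right a x y
    map_smul' := fun c x => by simp [inner_smul_right] }

theorem innL_apply (a v : E) : innL a v = inner ℝ a v := rfl

theorem rational_of_lagrange {ι κ : Type*} [Fintype ι] [Fintype κ] (e : Module.Basis ι ℝ E)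
    (hQ : ∀ i j, ∃ n : ℤ, inner ℝ (e i) (e j) = (n:ℝ))
    (ℓ : κ → Module.Dual ℝ E) (hℓ : ∀ k i, ∃ n : ℤ, ℓ k (e i) = (n:ℝ))
    (t : κ → ℝ) (w₀ : E) (hw : ∀ k, ∃ n : ℤ, ℓ k w₀ = (n : ℝ))
    (hL : ∀ y, inner ℝ w₀ y = ∑ k, t k * ℓ k y) :
    ∃ q : ι → ℚ, w₀ = ∑ i, ((q i : ℚ) : ℝ) • e i := by
  classical
  let incl : ℚ →ₗ[ℚ] ℝ :=
    { toFun := fun q => (q:ℝ)
      map_add' := fun a b => Rat.cast_add a b
      map_smul' := fun m x => by simp [Rat.smul_def] }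
  have hinj : LinearMap.ker incl = ⊥ :=
    LinearMap.ker_eq_bot.mpr (fun a b h => Rat.cast_injective h)
  obtain ⟨r, hr0⟩ := incl.exists_leftInverse_of_injective hinj
  have hr : ∀ q : ℚ, r (q:ℝ) = q := fun q => LinearMap.congr_fun hr0 q
  have hrn : ∀ (x : ℝ) (n : ℤ), r (x * (n:ℝ)) = r x * (n:ℚ) := by
    intro x n
    have h1 : x * (n:ℝ) = (n:ℚ) • x := by
      rw [Rat.smul_def, Rat.cast_intCast, mul_comm]
    rw [h1, map_smul, smul_eq_mul, mul_comm]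
  have hrz : ∀ n : ℤ, r (n:ℝ) = (n:ℚ) := by
    intro n
    have := hr (n:ℚ)
    rwa [Rat.cast_intCast] at this
  obtain ⟨q, hq⟩ : ∃ q : ι → ℚ, ∀ i, q i = r (e.repr w₀ i) := ⟨_, fun _ => rfl⟩
  obtain ⟨w₁, hw₁⟩ : ∃ w₁ : E, w₁ = ∑ i, ((q i : ℚ) : ℝ) • e i := ⟨_, rfl⟩
  have hcast : ∀ m : Module.Dual ℝ E, (∀ i, ∃ n : ℤ, m (e i) = (n:ℝ)) →
      m w₁ = ((r (m w₀) : ℚ) : ℝ) := by
    intro m hm
    choose n hn using hm
    have h0 : m w₀ = ∑ i, e.repr w₀ i * (n i : ℝ) := by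
      conv_lhs => rw [← e.sum_repr w₀]
      rw [map_sum]
      refine Finset.sum_congr rfl fun i _ => ?_
      rw [map_smul, smul_eq_mul, hn]
    have h1 : m w₁ = ∑ i, ((q i : ℚ) : ℝ) * (n i : ℝ) := by
      rw [hw₁, map_sum]
      refine Finset.sum_congr rfl fun i _ => ?_
      rw [map_smul, smul_eq_mul, hn]
    rw [h1, h0, map_sum, Rat.cast_sum]
    refine Finset.sum_congr rfl fun i _ => ?_
    rw [hrn, Rat.cast_mul, Rat.cast_intCast, hq]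
  have hℓ1 : ∀ k, ℓ k w₁ = ℓ k w₀ := by
    intro k
    obtain ⟨n, hn⟩ := hw k
    rw [hcast (ℓ k) (hℓ k), hn, hrz, Rat.cast_intCast]
  have hL1 : ∀ j, inner ℝ w₁ (e j) = ∑ k, ((r (t k) : ℚ) : ℝ) * ℓ k (e j) := by
    intro j
    have h1 := hcast (innL (e j)) (fun i => hQ j i)
    have h2 : innL (e j) w₀ = ∑ k, t k * ℓ k (e j) := by
      rw [innL_apply, real_inner_comm, hL]
    have h3 : inner ℝ w₁ (e j) = innL (e j) w₁ := by
      rw [innL_apply, real_inner_comm]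
    rw [h3, h1, h2, map_sum, Rat.cast_sum]
    refine Finset.sum_congr rfl fun k _ => ?_
    obtain ⟨n, hn⟩ := hℓ k j
    rw [hn, hrn, Rat.cast_mul, Rat.cast_intCast]
  have hL1' : ∀ y, inner ℝ w₁ y = ∑ k, ((r (t k) : ℚ) : ℝ) * ℓ k y := by
    intro y
    have hfe : innL w₁ = ∑ k, ((r (t k) : ℚ) : ℝ) • ℓ k := by
      apply e.ext
      intro j
      rw [LinearMap.sum_apply, innL_apply, hL1 j]
      refine Finset.sum_congr rfl fun k _ => ?_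
      rw [LinearMap.smul_apply, smul_eq_mul]
    have h := LinearMap.congr_fun hfe y
    rw [LinearMap.sum_apply, innL_apply] at h
    rw [h]
    refine Finset.sum_congr rfl fun k _ => ?_
    rw [LinearMap.smul_apply, smul_eq_mul]
  have hd : w₁ - w₀ = 0 := by
    have h1 : ∀ k, ℓ k (w₁ - w₀) = 0 := fun k => by rw [map_sub, hℓ1 k, sub_self]
    have h2 : inner ℝ (w₁ - w₀) (w₁ - w₀) = 0 := by
      rw [inner_sub_left, hL1', hL]
      simp only [h1, mul_zero, Finset.sum_const_zero, sub_self]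
    exact inner_self_eq_zero.mp h2
  exact ⟨q, (sub_eq_zero.mp hd).symm.trans hw₁⟩

theorem exists_nat_smul_mem (L : Submodule ℤ E) {ι : Type*} [Fintype ι] (e : ι → E)
    (he : ∀ i, e i ∈ L) (q : ι → ℚ) :
    ∃ N : ℕ, 0 < N ∧ (N : ℝ) • (∑ i, ((q i : ℚ) : ℝ) • e i) ∈ L := by
  classical
  refine ⟨∏ i, (q i).den, Finset.prod_pos (fun i _ => (q i).den_pos), ?_⟩
  rw [Finset.smul_sum]
  refine Submodule.sum_mem _ fun i _ => ?_
  obtain ⟨m, hm⟩ : (q i).den ∣ ∏ j, (q j).den := Finset.dvd_prod_of_mem _ (Finset.mem_univ i)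
  have h3 : ((q i).den : ℝ) ≠ 0 := by exact_mod_cast (q i).den_ne_zero
  have h1 : ((∏ j, (q j).den : ℕ) : ℝ) • (((q i : ℚ) : ℝ) • e i)
      = ((m : ℤ) * (q i).num : ℤ) • e i := by
    rw [smul_smul, ← Int.cast_smul_eq_zsmul ℝ]
    congr 1
    rw [hm, Rat.cast_def (q i)]
    push_cast
    field_simp
  rw [h1]
  exact L.smul_mem _ (he i)

theorem exists_generator (L : Submodule ℤ E) (u₀ : E) (g : Module.Dual ℝ E)
    (hg : 0 < g u₀) (hgi : ∀ x ∈ L, ∃ n : ℤ, g x = (n:ℝ))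
    (hex : ∃ s : ℝ, 0 < s ∧ s • u₀ ∈ L) :
    ∃ s₀ : ℝ, 0 < s₀ ∧ s₀ • u₀ ∈ L ∧
      ∀ s : ℝ, 0 < s → s • u₀ ∈ L → ∃ n : ℤ, s • u₀ = n • (s₀ • u₀) := by
  classical
  have hex' : ∃ m : ℕ, ∃ s : ℝ, 0 < s ∧ s • u₀ ∈ L ∧ g (s • u₀) = (m:ℝ) := by
    obtain ⟨s, hs, hsL⟩ := hex
    obtain ⟨n, hn⟩ := hgi _ hsL
    have hpos : 0 < (n:ℝ) := by
      rw [← hn, map_smul, smul_eq_mul]
      exact mul_pos hs hg
    have hn0 : 0 < n := by exact_mod_cast hpos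
    refine ⟨n.toNat, s, hs, hsL, ?_⟩
    rw [hn, ← Int.cast_natCast, Int.toNat_of_nonneg hn0.le]
  obtain ⟨s₀, hs₀, hs₀L, hgs₀⟩ := Nat.find_spec hex'
  refine ⟨s₀, hs₀, hs₀L, ?_⟩
  intro s hs hsL
  obtain ⟨n, hn⟩ : ∃ n : ℤ, n = ⌊s / s₀⌋ := ⟨_, rfl⟩
  have h1 : 0 ≤ s - n * s₀ := by
    have h := Int.floor_le (s / s₀)
    rw [← hn] at h
    have h' := (le_div_iff₀ hs₀).mp h
    linarith
  have h2 : s - n * s₀ < s₀ := by
    have h := Int.lt_floor_add_one (s / s₀)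
    rw [← hn] at h
    have h' := (div_lt_iff₀ hs₀).mp h
    linarith
  have h3 : (s - n * s₀) • u₀ ∈ L := by
    have h : (s - n * s₀) • u₀ = s • u₀ - n • (s₀ • u₀) := by
      rw [sub_smul, mul_smul, Int.cast_smul_eq_zsmul]
    rw [h]
    exact L.sub_mem hsL (L.smul_mem n hs₀L)
  rcases h1.eq_or_lt with h0 | hpos
  · refine ⟨n, ?_⟩
    have h : s = n * s₀ := by linarith
    rw [← Int.cast_smul_eq_zsmul ℝ, smul_smul, ← h]
  · exfalso
    obtain ⟨k, hk⟩ := hgi _ h3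
    have hkpos : 0 < (k:ℝ) := by
      rw [← hk, map_smul, smul_eq_mul]
      exact mul_pos hpos hg
    have hk0 : 0 < k := by exact_mod_cast hkpos
    have hkk : ((k.toNat : ℕ) : ℝ) = (k : ℝ) := by
      rw [← Int.cast_natCast, Int.toNat_of_nonneg hk0.le]
    have hlt : (k:ℝ) < (Nat.find hex' : ℝ) := by
      rw [← hk, ← hgs₀, map_smul, map_smul, smul_eq_mul, smul_eq_mul]
      exact mul_lt_mul_of_pos_right h2 hg
    have hlt' : k.toNat < Nat.find hex' := by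
      rw [← hkk] at hlt
      exact_mod_cast hlt
    exact Nat.find_min hex' hlt' ⟨_, hpos, h3, by rw [hk, hkk]⟩

end



/-- Let `E` be a finite-dimensional real inner product space and `L` a full lattice in `E` (a discrete
subgroup spanning `E`) on which the inner product is integer valued; let `F` and `G` be nonempty
finite sets of real linear functionals on `E` taking integer values on `L`, with `f_min v = min_{f ∈
F} f v` and `g_min v = min_{g ∈ G} g v`. If some vector `v` has `f_min v ≥ 0` and `g_min v > 0`,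
then on the set `C_F` of nonzero `v` with `f_min v ≥ 0` the function `v ↦ g_min v / ‖v‖` attains a
greatest value `M`, and there is exactly one lattice vector `v₀ ∈ C_F` with `g_min v₀ / ‖v₀‖ = M` of
which every lattice vector `v ∈ C_F` with `g_min v / ‖v‖ = M` is an integer multiple. -/
theorem result
    (E : Type u) [NormedAddCommGroup E] [InnerProductSpace ℝ E] [FiniteDimensional ℝ E]
    (L : Submodule ℤ E) [DiscreteTopology L] [IsZLattice ℝ L]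
    (hint : ∀ x ∈ L, ∀ y ∈ L, ∃ n : ℤ, inner ℝ x y = (n : ℝ))
    (F G : Finset (Module.Dual ℝ E)) (hF : F.Nonempty) (hG : G.Nonempty)
    (hFi : ∀ f ∈ F, ∀ x ∈ L, ∃ n : ℤ, f x = (n : ℝ)) (hGi : ∀ g ∈ G, ∀ x ∈ L, ∃ n : ℤ, g x = (n : ℝ))
    (hpos : ∃ v : E, 0 ≤ F.inf' hF (fun f => f v) ∧ 0 < G.inf' hG (fun g => g v)) :
    ∃ M : ℝ, IsGreatest ((fun v => G.inf' hG (fun g => g v) / ‖v‖) ''
        {v : E | v ≠ 0 ∧ 0 ≤ F.inf' hF (fun f => f v)}) M ∧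
      ∃! v₀ : E, v₀ ∈ L ∧ v₀ ≠ 0 ∧ 0 ≤ F.inf' hF (fun f => f v₀) ∧
        G.inf' hG (fun g => g v₀) / ‖v₀‖ = M ∧
        ∀ v ∈ L, v ≠ 0 → 0 ≤ F.inf' hF (fun f => f v) → G.inf' hG (fun g => g v) / ‖v‖ = M →
          ∃ n : ℤ, v = n • v₀ := by
  classical
  obtain ⟨u₀, hu1, hu0f, hu0g, hmax⟩ := exists_max F G hF hG hpos
  obtain ⟨M, hMdef⟩ : ∃ M : ℝ, M = G.inf' hG (fun g => g u₀) := ⟨_, rfl⟩
  rw [← hMdef] at hu0g hmax
  have hM : 0 < M := hu0g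
  have hu₀ne : u₀ ≠ 0 := by
    intro h
    rw [h, norm_zero] at hu1
    exact zero_ne_one hu1
  have hconv : ∀ s : ℝ, 0 < s → s • u₀ ≠ 0 ∧ 0 ≤ F.inf' hF (fun f => f (s • u₀)) ∧
      G.inf' hG (fun g => g (s • u₀)) / ‖s • u₀‖ = M := by
    intro s hs
    refine ⟨smul_ne_zero hs.ne' hu₀ne, ?_, ?_⟩
    · rw [mn_smul F hF s hs.le]
      exact mul_nonneg hs.le hu0f
    · rw [mn_smul G hG s hs.le, ← hMdef, norm_smul, hu1, mul_one, Real.norm_of_nonneg hs.le,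
        mul_div_cancel_left₀ _ hs.ne']
  have hray : ∀ v : E, v ≠ 0 → 0 ≤ F.inf' hF (fun f => f v) →
      G.inf' hG (fun g => g v) / ‖v‖ = M → v = ‖v‖ • u₀ := by
    intro v hv hvf hvg
    have hn : 0 < ‖v‖ := norm_pos_iff.mpr hv
    have h1 : (‖v‖⁻¹ : ℝ) • v = u₀ := by
      refine unit_unique F G hF hG u₀ _ M hM hu1 hu0f hMdef.symm (norm_inv_smul v hv) ?_ ?_ hmax
      · rw [mn_smul F hF _ (inv_nonneg.mpr hn.le)]
        exact mul_nonneg (inv_nonneg.mpr hn.le) hvf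
      · rw [mn_smul G hG _ (inv_nonneg.mpr hn.le), ← hvg, div_eq_inv_mul]
    rw [← h1, smul_inv_smul₀ hn.ne']
  have hgpos : ∀ v : E, v ≠ 0 → G.inf' hG (fun g => g v) / ‖v‖ = M →
      0 < G.inf' hG (fun g => g v) := by
    intro v hv h
    have hn : 0 < ‖v‖ := norm_pos_iff.mpr hv
    rw [(div_eq_iff hn.ne').mp h]
    exact mul_pos hM hn
  -- the closest point of the polyhedron
  obtain ⟨w₀, hw₀⟩ : ∃ w₀ : E, w₀ = M⁻¹ • u₀ := ⟨_, rfl⟩
  have hMi : 0 < M⁻¹ := inv_pos.mpr hM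
  have hw0f : 0 ≤ F.inf' hF (fun f => f w₀) := by
    rw [hw₀, mn_smul F hF _ hMi.le]
    exact mul_nonneg hMi.le hu0f
  have hw0g : G.inf' hG (fun g => g w₀) = 1 := by
    rw [hw₀, mn_smul G hG _ hMi.le, ← hMdef, inv_mul_cancel₀ hM.ne']
  have hw0n : ‖w₀‖ = M⁻¹ := by
    rw [hw₀, norm_smul, hu1, mul_one, Real.norm_of_nonneg hMi.le]
  obtain ⟨K, hK⟩ : ∃ K : Finset (Module.Dual ℝ E × ℝ),
      K = F.image (fun f => (f, (0:ℝ))) ∪ G.image (fun g => (g, (1:ℝ))) := ⟨_, rfl⟩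
  have hKmem : ∀ p, p ∈ K ↔ (∃ f ∈ F, (f, (0:ℝ)) = p) ∨ (∃ g ∈ G, (g, (1:ℝ)) = p) := by
    intro p
    rw [hK, Finset.mem_union, Finset.mem_image, Finset.mem_image]
  have hKw : ∀ p ∈ K, p.2 ≤ p.1 w₀ := by
    intro p hp
    rcases (hKmem p).mp hp with ⟨f, hf, rfl⟩ | ⟨g, hg, rfl⟩
    · exact (Finset.le_inf'_iff hF _).mp hw0f f hf
    · have h := Finset.inf'_le (fun g : Module.Dual ℝ E => g w₀) hg
      show (1:ℝ) ≤ g w₀
      rw [← hw0g]
      exact h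
  have hKmin : ∀ v : E, (∀ p ∈ K, p.2 ≤ p.1 v) → ‖w₀‖ ≤ ‖v‖ := by
    intro v hv
    have hvf : 0 ≤ F.inf' hF (fun f => f v) := by
      rw [Finset.le_inf'_iff]
      intro f hf
      exact hv (f, 0) ((hKmem _).mpr (Or.inl ⟨f, hf, rfl⟩))
    have hvg : 1 ≤ G.inf' hG (fun g => g v) := by
      rw [Finset.le_inf'_iff]
      intro g hg
      exact hv (g, 1) ((hKmem _).mpr (Or.inr ⟨g, hg, rfl⟩))
    have hv0 : v ≠ 0 := by
      rintro rfl
      rw [mn_zero] at hvg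
      linarith
    have h1 := hmax v hv0 hvf
    rw [hw0n]
    have h2 : 1 ≤ M * ‖v‖ := le_trans hvg h1
    calc M⁻¹ = M⁻¹ * 1 := (mul_one _).symm
      _ ≤ M⁻¹ * (M * ‖v‖) := mul_le_mul_of_nonneg_left h2 hMi.le
      _ = ‖v‖ := inv_mul_cancel_left₀ hM.ne' _
  have hKint : ∀ p ∈ K, (∀ x ∈ L, ∃ n : ℤ, p.1 x = (n:ℝ)) ∧ ∃ n : ℤ, p.2 = (n:ℝ) := by
    intro p hp
    rcases (hKmem p).mp hp with ⟨f, hf, rfl⟩ | ⟨g, hg, rfl⟩
    · exact ⟨hFi f hf, 0, by simp⟩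
    · exact ⟨hGi g hg, 1, by simp⟩
  -- active constraints and Lagrange multipliers
  obtain ⟨A, hA⟩ : ∃ A : Finset (Module.Dual ℝ E × ℝ),
      A = K.filter (fun p => p.1 w₀ = p.2) := ⟨_, rfl⟩
  have hAmem : ∀ p, p ∈ A ↔ p ∈ K ∧ p.1 w₀ = p.2 := by
    intro p
    rw [hA, Finset.mem_filter]
  obtain ⟨ℓ, hℓdef⟩ : ∃ ℓ : A → Module.Dual ℝ E, ∀ k, ℓ k = k.1.1 :=
    ⟨fun k => k.1.1, fun _ => rfl⟩
  have hker : (⨅ k : A, LinearMap.ker (ℓ k)) ≤ LinearMap.ker (innL w₀) := by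
    intro y hy
    rw [Submodule.mem_iInf] at hy
    rw [LinearMap.mem_ker, innL_apply]
    apply kkt K w₀ hKw hKmin y
    intro p hp hact
    have h := LinearMap.mem_ker.mp (hy ⟨p, (hAmem p).mpr ⟨hp, hact⟩⟩)
    rw [hℓdef] at h
    exact h
  have hspan := mem_span_of_iInf_ker_le_ker hker
  obtain ⟨t, ht⟩ := (Submodule.mem_span_range_iff_exists_fun ℝ).mp hspan
  have hL : ∀ y, inner ℝ w₀ y = ∑ k : A, t k * ℓ k y := by
    intro y
    have h := LinearMap.congr_fun ht y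
    rw [LinearMap.sum_apply, innL_apply] at h
    rw [← h]
    refine Finset.sum_congr rfl fun k _ => ?_
    rw [LinearMap.smul_apply, smul_eq_mul]
  -- a basis of `E` made of lattice vectors
  haveI : Module.Free ℤ L := ZLattice.module_free ℝ L
  haveI : Module.Finite ℤ L := ZLattice.module_finite ℝ L
  obtain ⟨e, he⟩ : ∃ e : Module.Basis (Module.Free.ChooseBasisIndex ℤ L) ℝ E, ∀ i, e i ∈ L := by
    refine ⟨(Module.Free.chooseBasis ℤ L).ofZLatticeBasis ℝ L, fun i => ?_⟩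
    rw [Module.Basis.ofZLatticeBasis_apply]
    exact (Module.Free.chooseBasis ℤ L i).2
  obtain ⟨q, hq⟩ := rational_of_lagrange e (fun i j => hint _ (he i) _ (he j)) ℓ
    (fun k i => by
      rw [hℓdef]
      exact (hKint k.1 ((hAmem _).mp k.2).1).1 _ (he i))
    t w₀ (fun k => by
      obtain ⟨n, hn⟩ := (hKint k.1 ((hAmem _).mp k.2).1).2
      exact ⟨n, by rw [hℓdef, ((hAmem _).mp k.2).2, hn]⟩) hL
  obtain ⟨N, hN, hNL⟩ := exists_nat_smul_mem L (⇑e) he q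
  rw [← hq] at hNL
  have hex : ∃ s : ℝ, 0 < s ∧ s • u₀ ∈ L := by
    refine ⟨(N:ℝ) * M⁻¹, mul_pos (Nat.cast_pos.mpr hN) hMi, ?_⟩
    rw [mul_smul, ← hw₀]
    exact hNL
  obtain ⟨g₁, hg₁⟩ := id hG
  have hg₁pos : 0 < g₁ u₀ :=
    lt_of_lt_of_le hM (by rw [hMdef]; exact Finset.inf'_le _ hg₁)
  obtain ⟨s₀, hs₀, hs₀L, hgen⟩ := exists_generator L u₀ g₁ hg₁pos (hGi g₁ hg₁) hex
  refine ⟨M, ⟨⟨u₀, ⟨hu₀ne, hu0f⟩, ?_⟩, ?_⟩, ?_⟩
  · show G.inf' hG (fun g => g u₀) / ‖u₀‖ = M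
    rw [hu1, div_one, hMdef]
  · rintro _ ⟨v, ⟨hv0, hvf⟩, rfl⟩
    show G.inf' hG (fun g => g v) / ‖v‖ ≤ M
    rw [div_le_iff₀ (norm_pos_iff.mpr hv0)]
    exact hmax v hv0 hvf
  · obtain ⟨hc1, hc2, hc3⟩ := hconv s₀ hs₀
    obtain ⟨v₀, hv₀⟩ : ∃ v₀ : E, v₀ = s₀ • u₀ := ⟨_, rfl⟩
    rw [← hv₀] at hc1 hc2 hc3 hs₀L
    have hmult : ∀ v ∈ L, v ≠ 0 → 0 ≤ F.inf' hF (fun f => f v) →
        G.inf' hG (fun g => g v) / ‖v‖ = M → ∃ n : ℤ, v = n • v₀ := by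
      intro v hvL hv0 hvf hvg
      have h1 := hray v hv0 hvf hvg
      have h2' : ‖v‖ • u₀ ∈ L := by
        rw [← h1]
        exact hvL
      have h2 := hgen ‖v‖ (norm_pos_iff.mpr hv0) h2'
      rw [← h1, ← hv₀] at h2
      exact h2
    refine ⟨v₀, ⟨hs₀L, hc1, hc2, hc3, hmult⟩, ?_⟩
    rintro v₁ ⟨h1L, h1ne, h1f, h1g, h1m⟩
    obtain ⟨n, hn⟩ := hmult v₁ h1L h1ne h1f h1g
    obtain ⟨m, hm⟩ := h1m v₀ hs₀L hc1 hc2 hc3
    have h3 : ((m:ℝ) * (n:ℝ)) • v₀ = (1:ℝ) • v₀ := by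
      rw [one_smul, mul_smul, Int.cast_smul_eq_zsmul, Int.cast_smul_eq_zsmul, ← hn, ← hm]
    have h4 : (m:ℝ) * (n:ℝ) = 1 := smul_left_injective ℝ hc1 h3
    have h5 : m * n = 1 := by exact_mod_cast h4
    rcases Int.eq_one_or_neg_one_of_mul_eq_one' h5 with ⟨_, h7⟩ | ⟨_, h7⟩
    · rw [hn, h7, one_smul]
    · exfalso
      rw [h7, neg_smul, one_smul] at hn
      have h8 := hgpos v₀ hc1 hc3
      have h9 := mn_neg_lt G hG v₀ h8
      have h10 := hgpos v₁ h1ne h1g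
      rw [hn] at h10
      linarith


end Groth.Agent.S17517
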