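import Groth.Statements.S17526
import Groth.Agent.Lib.Helper22.Reynolds
import Groth.Agent.S12556

set_option autoImplicit false
universe u
open GLin

namespace Groth.Agent.S17526

/-- Let `k` be a field, `H` a commutative Hopf algebra of finite type over `k` which is linearly
reductive (every finite-dimensional comodule is semisimple; `G = Spec H` is a linearly reductive
affine group), and `A` a Noetherian commutative `k`-algebra with a coaction of `H` that is an
algebra map (an action of `G` on `Spec A`). Then the ring of invariants `A^G` is Noetherian. (The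
published corollary is stated over an algebraically closed field; it is the affine case of a
statement about good moduli spaces valid over any field, and is stated here over any field.) -/
theorem result
    (k : Type u) [Field k] (H : Type u) [CommRing H] [HopfAlgebra k H] [Algebra.FiniteType k H]
    (hG : HopfRep.IsLinearlyReductive k H)
    (A : Type u) [CommRing A] [Algebra k A] [IsNoetherianRing A]
    [HopfRep.Comod k H A] [GLin.IsCoactAlg k H A] :
    IsNoetherianRing ↥(GLin.invariants k H A) := by
  have hss := Groth.Agent.Lib.helper22.isSemisimpleComod_of_isLinearlyReductive hG A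
  obtain ⟨E, hE⟩ := Groth.Agent.Lib.helper22.exists_isReynolds (k := k) (A := H) (V := A) hss
  have hmul : ∀ (x y : A), y ∈ GLin.invariants k H A → E (x * y) = E x * y := fun x y hy =>
    Groth.Agent.S12556.result k H hG A E hE.comod hE.idem hE.fix x y hy
  set f := algebraMap (GLin.invariants k H A) A with hf
  have hcm : ∀ J : Ideal (GLin.invariants k H A), (J.map f).comap f = J := by
    intro J
    refine le_antisymm ?_ Ideal.le_comap_map
    intro x hx
    rw [Ideal.mem_comap] at hx
    have key : ∀ y ∈ J.map f, ∀ b : A, ∃ c₀ ∈ J, E (b * y) = (c₀ : A) := by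
      intro y hy
      induction hy using Submodule.span_induction with
      | mem y hy =>
        obtain ⟨c₀, hc₀, rfl⟩ := hy
        intro b
        refine ⟨⟨E b, hE.mem_fixedPts b⟩ * c₀, J.mul_mem_left _ hc₀, ?_⟩
        exact hmul b c₀.1 c₀.2
      | zero => intro b; exact ⟨0, J.zero_mem, by simp⟩
      | add y z _ _ hy hz =>
        intro b
        obtain ⟨c₁, h₁, e₁⟩ := hy b
        obtain ⟨c₂, h₂, e₂⟩ := hz b
        exact ⟨c₁ + c₂, J.add_mem h₁ h₂, by rw [mul_add, map_add, e₁, e₂]; rfl⟩
      | smul a y _ hy =>
        intro b
        obtain ⟨c₁, h₁, e₁⟩ := hy (b * a)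
        exact ⟨c₁, h₁, by rw [smul_eq_mul, ← mul_assoc]; exact e₁⟩
    obtain ⟨c₀, hc₀, e⟩ := key _ hx 1
    rw [one_mul] at e
    have e' : E (f x) = f x := (hE.fix _).mpr x.2
    have : x = c₀ := Subtype.ext (e'.symm.trans e)
    rwa [this]
  let emb : Ideal (GLin.invariants k H A) ↪o Ideal A :=
    OrderEmbedding.ofMapLEIff (fun J => J.map f) (fun J J' =>
      ⟨fun h => by rw [← hcm J, ← hcm J']; exact Ideal.comap_mono h, fun h => Ideal.map_mono h⟩)
  have hwf : WellFoundedGT (Ideal A) := (isNoetherian_iff'.mp (isNoetherianRing_iff.mp inferInstance))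
  have : WellFoundedGT (Ideal (GLin.invariants k H A)) := emb.wellFoundedGT
  exact isNoetherianRing_iff.mpr (isNoetherian_iff'.mpr this)


end Groth.Agent.S17526
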