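import Groth.Statements.S17530
import Groth.Agent.Lib.Helper22.Reynolds

set_option autoImplicit false
universe u
open GLin

namespace Groth.Agent.S17530

/-- Let `k` be a field, `H` a commutative Hopf algebra of finite type over `k` which is linearly
reductive (every finite-dimensional comodule semisimple; `G = Spec H`), `A` a commutative
`k`-algebra of finite type with a coaction of `H` that is an algebra map (an action of `G` on `Spec
A`), and `M` a finitely generated `A`-module with an `H`-coaction compatible with the module
structure and with the coaction on `A` (a `G`-equivariant coherent module on `Spec A`). Then the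
invariants `M^G` form a finitely generated module over the ring of invariants `A^G`. (The published
corollary is stated over an algebraically closed field; it is the affine case of a statement about
good moduli spaces valid over any Noetherian base, and is stated here over any field.) -/
theorem result
    (k : Type u) [Field k] (H : Type u) [CommRing H] [HopfAlgebra k H] [Algebra.FiniteType k H]
    (hG : HopfRep.IsLinearlyReductive k H)
    (A : Type u) [CommRing A] [Algebra k A] [Algebra.FiniteType k A]
    [HopfRep.Comod k H A] [GLin.IsCoactAlg k H A]
    (M : Type u) [AddCommGroup M] [Module k M] [Module A M] [IsScalarTower k A M] [Module.Finite A M]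
    [HopfRep.Comod k H M] [TameAct.IsHopfMod k H A M] :
    ∃ s : Finset M, (↑s : Set M) ⊆ ↑(HopfRep.fixedPts k H M) ∧
      (↑(HopfRep.fixedPts k H M) : Set M) ⊆
        ↑(Submodule.span ↥(GLin.invariants k H A) (↑s : Set M)) := by
  classical
  have hssA : HopfRep.IsSemisimpleComod k H A :=
    Groth.Agent.Lib.helper22.isSemisimpleComod_of_isLinearlyReductive hG A
  have hssM : HopfRep.IsSemisimpleComod k H M :=
    Groth.Agent.Lib.helper22.isSemisimpleComod_of_isLinearlyReductive hG M
  obtain ⟨EA, hEA⟩ := Groth.Agent.Lib.helper22.exists_isReynolds (k := k) (A := H) (V := A) hssA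
  obtain ⟨EM, hEM⟩ := Groth.Agent.Lib.helper22.exists_isReynolds (k := k) (A := H) (V := M) hssM
  have hNA : IsNoetherianRing A := Algebra.FiniteType.isNoetherianRing k A
  have hNM : IsNoetherian A M := isNoetherian_of_isNoetherianRing_of_finite A M
  have hfg : (Submodule.span A (HopfRep.fixedPts k H M : Set M)).FG := IsNoetherian.noetherian _
  obtain ⟨s, hs, hspan⟩ := (Submodule.fg_span_iff_fg_span_finset_subset _).mp hfg
  refine ⟨s, hs, ?_⟩
  intro m hm
  have hm' : m ∈ Submodule.span A (s : Set M) := by
    rw [← hspan]; exact Submodule.subset_span hm
  obtain ⟨c, -, hc⟩ := Submodule.mem_span_finset.mp hm'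
  -- the orbit maps of invariant vectors are comodule maps
  have hφ : ∀ x ∈ HopfRep.fixedPts k H M,
      Hoch.IsComodHom H ((LinearMap.lsmul A M).flip x |>.restrictScalars k) := by
    intro x hx
    have hx' : HopfRep.Comod.coact (k := k) (A := H) x = x ⊗ₜ[k] (1 : H) := hx
    apply LinearMap.ext
    intro a
    simp only [LinearMap.comp_apply, LinearMap.coe_restrictScalars, LinearMap.flip_apply,
      LinearMap.lsmul_apply]
    rw [TameAct.IsHopfMod.coact_smul (k := k) (A := H), hx']
    generalize HopfRep.Comod.coact (k := k) (A := H) a = t
    induction t using TensorProduct.induction_on with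
    | zero => simp
    | tmul b h => simp
    | add t₁ t₂ h₁ h₂ => simp only [map_add, LinearMap.add_apply, h₁, h₂]
  have hEm : EM m = m := (hEM.fix m).mpr hm
  have key : m = ∑ x ∈ s, EA (c x) • x := by
    rw [← hEm]
    conv_lhs => rw [← hc]
    rw [map_sum]
    refine Finset.sum_congr rfl fun x hx => ?_
    have := Groth.Agent.Lib.helper22.IsReynolds.natural hssA hEA hEM _ (hφ x (hs hx)) (c x)
    simpa using this
  rw [key]
  refine Submodule.sum_mem _ fun x hx => ?_
  have hinv : EA (c x) ∈ GLin.invariants k H A := hEA.mem_fixedPts (c x)
  have : EA (c x) • x = (⟨EA (c x), hinv⟩ : GLin.invariants k H A) • x := rfl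
  rw [this]
  exact Submodule.smul_mem _ _ (Submodule.subset_span hx)

end Groth.Agent.S17530
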