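import Groth.Statements.S17536
import Mathlib
-- import your own Groth.Agent.* helpers here

set_option autoImplicit false
universe u v w
open W4c5adicflatcompl
open CAlg

namespace Groth.Agent.S17536

/-- If the A-module M is I-adically separated then so is the module of I-adically decaying functions
from a set Z to M. -/
theorem result {A : Type u} [CommRing A] (I : Ideal A) (Z : Type v)
    (M : Type w) [AddCommGroup M] [Module A M] [IsHausdorff I M] :
    IsHausdorff I (decaying I Z M) := by
  constructor
  intro f hf
  have key : ∀ (n : ℕ) (g : decaying I Z M), g ∈ (I ^ n • ⊤ : Submodule A (decaying I Z M)) →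
      ∀ z, (g : Z → M) z ∈ (I ^ n • ⊤ : Submodule A M) := by
    intro n g hg z
    refine Submodule.smul_induction_on hg ?_ ?_
    · intro r hr x _
      exact Submodule.smul_mem_smul hr (Submodule.mem_top (x := (x : Z → M) z))
    · intro x y hx hy
      exact Submodule.add_mem _ hx hy
  apply Subtype.ext
  funext z
  apply IsHausdorff.haus' (I := I)
  intro n
  rw [SModEq.zero]
  exact key n f (SModEq.zero.mp (hf n)) z

end Groth.Agent.S17536
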