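import Groth.Statements.S17538
import Mathlib
-- import your own Groth.Agent.* helpers here

set_option autoImplicit false
universe u v
open CAlg

namespace Groth.Agent.S17538

open Submodule in
/-- the map `M^/Iⁿ M^ → M/Iⁿ M` induced by evaluation. -/
noncomputable def g {A : Type u} [CommRing A] (I : Ideal A)
    (M : Type v) [AddCommGroup M] [Module A M] (n : ℕ) :
    (AdicCompletion I M ⧸ (I ^ n • ⊤ : Submodule A (AdicCompletion I M))) →ₗ[A]
      M ⧸ (I ^ n • ⊤ : Submodule A M) :=
  (I ^ n • ⊤ : Submodule A (AdicCompletion I M)).liftQ (AdicCompletion.eval I M n) (by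
    rw [Submodule.smul_le]
    intro r hr x _
    rw [LinearMap.mem_ker, map_smul]
    obtain ⟨y, hy⟩ := Submodule.Quotient.mk_surjective _ (AdicCompletion.eval I M n x)
    rw [← hy, ← Submodule.Quotient.mk_smul, Submodule.Quotient.mk_eq_zero]
    exact Submodule.smul_mem_smul hr trivial)

lemma g_mk {A : Type u} [CommRing A] (I : Ideal A)
    (M : Type v) [AddCommGroup M] [Module A M] (n : ℕ) (y : AdicCompletion I M) :
    g I M n (Submodule.Quotient.mk y) = y.val n := rfl

/-- For a commutative ring A, an ideal I and an A-module M, the canonical map from the I-adic completion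
M^ to the I-adic completion of M^ admits an A-linear retraction (it is a split injection). (That M^
is I-adically separated is standard.) -/
theorem result {A : Type u} [CommRing A] (I : Ideal A)
    (M : Type v) [AddCommGroup M] [Module A M] :
    ∃ ψ : AdicCompletion I (AdicCompletion I M) →ₗ[A] AdicCompletion I M,
      ψ ∘ₗ AdicCompletion.of I (AdicCompletion I M) = LinearMap.id := by
  refine ⟨AdicCompletion.lift I
    (fun n => g I M n ∘ₗ AdicCompletion.eval I (AdicCompletion I M) n) ?_, ?_⟩
  · intro m n hle
    apply LinearMap.ext
    intro x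
    simp only [LinearMap.comp_apply, AdicCompletion.eval_apply]
    obtain ⟨y, hy⟩ := Submodule.Quotient.mk_surjective _ (x.val n)
    have hx : x.val m = AdicCompletion.transitionMap I (AdicCompletion I M) hle (x.val n) :=
      (x.2 hle).symm
    rw [hx, ← hy]
    change AdicCompletion.transitionMap I M hle (g I M n (Submodule.Quotient.mk y)) =
      g I M m (Submodule.Quotient.mk y)
    rw [g_mk, g_mk]
    exact y.2 hle
  · apply LinearMap.ext
    intro y
    apply AdicCompletion.ext
    intro n
    rfl

end Groth.Agent.S17538
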