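import Groth.Statements.S17539
import Mathlib

set_option autoImplicit false
universe u v w
open W4c5adicflatcompl
open CAlg

namespace Groth.Agent.S17539

theorem map_mem_smul_top' {A : Type u} [CommRing A] {M : Type v} {N : Type w} [AddCommGroup M]
    [Module A M] [AddCommGroup N]
    [Module A N] (K : Ideal A) (φ : M →ₗ[A] N) (x : M) (hx : x ∈ (K • ⊤ : Submodule A M)) :
    φ x ∈ (K • ⊤ : Submodule A N) := by
  refine Submodule.smul_induction_on hx (fun a ha y _ => ?_) (fun y y' hy hy' => ?_)
  · rw [map_smul]; exact Submodule.smul_mem_smul ha Submodule.mem_top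
  · rw [map_add]; exact Submodule.add_mem _ hy hy'

theorem mem_smul_top_finsupp' {A : Type u} [CommRing A] (K : Ideal A) {Z : Type v} {M : Type w}
    [AddCommGroup M] [Module A M] (y : Z →₀ M) :
    y ∈ (K • ⊤ : Submodule A (Z →₀ M)) ↔ ∀ t, y t ∈ (K • ⊤ : Submodule A M) := by
  classical
  constructor
  · intro hy t
    exact map_mem_smul_top' K (Finsupp.lapply t) y hy
  · intro h
    have e := Finsupp.sum_single y
    rw [Finsupp.sum] at e
    rw [← e]
    refine Submodule.sum_mem _ (fun t _ => ?_)
    exact map_mem_smul_top' K (Finsupp.lsingle t) (y t) (h t)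

theorem ker_eval_le {A : Type u} [CommRing A] (I : Ideal A) (M : Type w) [AddCommGroup M]
    [Module A M] [IsPrecomplete I (AdicCompletion I M)] (n : ℕ) (x : AdicCompletion I M)
    (hx : x.val n = 0) :
    x ∈ (I ^ n • ⊤ : Submodule A (AdicCompletion I M)) := by
  obtain ⟨a, rfl⟩ := AdicCompletion.mk_surjective I M x
  have han : ∀ k, n ≤ k → a k ∈ (I ^ n • ⊤ : Submodule A M) := by
    intro k hk
    have h1 : a n ≡ a k [SMOD (I ^ n • ⊤ : Submodule A M)] := a.property hk
    have h2 : a n ∈ (I ^ n • ⊤ : Submodule A M) := by
      rw [← Submodule.Quotient.mk_eq_zero]; exact hx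
    rw [SModEq.sub_mem] at h1
    have h3 : a k = a n - (a n - a k) := by abel
    rw [h3]; exact Submodule.sub_mem _ h2 h1
  have hcau : ∀ {k l : ℕ}, k ≤ l → AdicCompletion.of I M (a (k + n)) ≡
      AdicCompletion.of I M (a (l + n)) [SMOD (I ^ k • ⊤ : Submodule A (AdicCompletion I M))] := by
    intro k l hkl
    rw [SModEq.sub_mem, ← map_sub]
    apply map_mem_smul_top' (I ^ k) (AdicCompletion.of I M)
    have h1 : a (k + n) ≡ a (l + n) [SMOD (I ^ (k + n) • ⊤ : Submodule A M)] :=
      a.property (by omega)
    rw [SModEq.sub_mem] at h1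
    exact Submodule.smul_mono_left (Ideal.pow_le_pow_right (by omega)) h1
  obtain ⟨L, hL⟩ := IsPrecomplete.prec' (I := I)
    (fun k => AdicCompletion.of I M (a (k + n))) hcau
  have hxL : AdicCompletion.mk I M a = L := by
    apply AdicCompletion.ext
    intro k
    have h1 := hL k
    rw [SModEq.sub_mem] at h1
    have h2 := AdicCompletion.pow_smul_top_le_ker_eval I k h1
    rw [LinearMap.mem_ker, map_sub, sub_eq_zero, AdicCompletion.eval_apply,
      AdicCompletion.eval_apply, AdicCompletion.of_apply] at h2
    rw [← h2]
    show Submodule.Quotient.mk (a k) = Submodule.Quotient.mk (a (k + n))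
    exact a.property (Nat.le_add_right k n)
  rw [hxL]
  have h1 := hL n
  rw [SModEq.sub_mem] at h1
  have h2 : AdicCompletion.of I M (a (n + n)) ∈
      (I ^ n • ⊤ : Submodule A (AdicCompletion I M)) :=
    map_mem_smul_top' (I ^ n) (AdicCompletion.of I M) _ (han _ (by omega))
  have h3 : L = AdicCompletion.of I M (a (n + n)) -
      (AdicCompletion.of I M (a (n + n)) - L) := by abel
  rw [h3]; exact Submodule.sub_mem _ h2 h1



/-- For a commutative ring A, an ideal I, a set Z and an A-module M whose I-adic completion M^ is itself
I-adically complete, the canonical map from the I-adic completion of Z →₀ M to the functions Z → M^,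
whose z-th coordinate is the completion of evaluation at z, is injective with image the I-adically
decaying functions Z → M^. (The source states bijectivity of the inverse map, from decaying
functions to the limit of the finitely supported functions Z → M/I^n M, induced by the projections
M^ → M/I^n M; the two formulations are equivalent.) -/
theorem result {A : Type u} [CommRing A] (I : Ideal A) (Z : Type v)
    (M : Type w) [AddCommGroup M] [Module A M] [IsAdicComplete I (AdicCompletion I M)] :
    Function.Injective
        (LinearMap.pi fun z : Z =>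
          (AdicCompletion.map I (Finsupp.lapply (M := M) (R := A) z)).restrictScalars A) ∧
      LinearMap.range
        (LinearMap.pi fun z : Z =>
          (AdicCompletion.map I (Finsupp.lapply (M := M) (R := A) z)).restrictScalars A) =
        decaying I Z (AdicCompletion I M) := by
  classical
  have hval : ∀ (a : AdicCompletion.AdicCauchySequence I (Z →₀ M)) (z : Z) (n : ℕ),
      ((LinearMap.pi fun z : Z =>
        (AdicCompletion.map I (Finsupp.lapply (M := M) (R := A) z)).restrictScalars A)
          (AdicCompletion.mk I (Z →₀ M) a) z).val n =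
        Submodule.Quotient.mk (p := (I ^ n • ⊤ : Submodule A M)) (a n z) := fun a z n => rfl
  refine ⟨?_, ?_⟩
  · rw [injective_iff_map_eq_zero]
    intro x hx
    obtain ⟨a, rfl⟩ := AdicCompletion.mk_surjective I (Z →₀ M) x
    apply AdicCompletion.ext
    intro n
    show Submodule.Quotient.mk (p := (I ^ n • ⊤ : Submodule A (Z →₀ M))) (a n) = 0
    rw [Submodule.Quotient.mk_eq_zero, mem_smul_top_finsupp']
    intro z
    have h1 := hval a z n
    rw [hx] at h1
    have h2 : Submodule.Quotient.mk (p := (I ^ n • ⊤ : Submodule A M)) (a n z) = 0 := h1.symm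
    rw [Submodule.Quotient.mk_eq_zero] at h2
    exact h2
  · apply le_antisymm
    · rintro _ ⟨x, rfl⟩
      obtain ⟨a, rfl⟩ := AdicCompletion.mk_surjective I (Z →₀ M) x
      intro n
      refine (a n).support.finite_toSet.subset ?_
      intro z hz
      by_contra hzs
      apply hz
      apply ker_eval_le I M n
      have h1 := hval a z n
      rw [Finsupp.notMem_support_iff.mp hzs] at h1
      rw [h1]
      rfl
    · intro f hf
      obtain ⟨rep, hrep, hrep0⟩ : ∃ rep : ∀ n : ℕ, (M ⧸ (I ^ n • ⊤ : Submodule A M)) → M,
          (∀ n q, Submodule.Quotient.mk (rep n q) = q) ∧ ∀ n, rep n 0 = 0 := by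
        refine ⟨fun n q => if q = 0 then 0 else Quotient.out q, fun n q => ?_, fun n => if_pos rfl⟩
        show Submodule.Quotient.mk (if q = 0 then 0 else Quotient.out q) = q
        by_cases hq : q = 0
        · rw [if_pos hq, hq]; rfl
        · rw [if_neg hq]; exact Submodule.Quotient.mk_out q
      have hfin : ∀ n, (Function.support fun z => rep n ((f z).val n)).Finite := by
        intro n
        refine (hf n).subset ?_
        intro z hz hmem
        apply hz
        have h1 := AdicCompletion.pow_smul_top_le_ker_eval I n hmem
        rw [LinearMap.mem_ker, AdicCompletion.eval_apply] at h1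
        show rep n ((f z).val n) = 0
        rw [h1, hrep0]
      obtain ⟨g, hg⟩ : ∃ g : ℕ → (Z →₀ M), ∀ n z, g n z = rep n ((f z).val n) :=
        ⟨fun n => Finsupp.ofSupportFinite _ (hfin n), fun n z => rfl⟩
      have hcau : AdicCompletion.IsAdicCauchy I (Z →₀ M) g := by
        intro k n hkn
        rw [SModEq.sub_mem, mem_smul_top_finsupp']
        intro z
        rw [Finsupp.sub_apply, hg, hg, ← SModEq.sub_mem, SModEq.def,
          hrep, ← Submodule.mkQ_apply,
          ← Submodule.factor_mk (Submodule.smul_mono_left (Ideal.pow_le_pow_right hkn))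
            (rep n ((f z).val n)),
          Submodule.mkQ_apply, hrep]
        exact ((f z).property hkn).symm
      refine ⟨AdicCompletion.mk I (Z →₀ M) ⟨g, hcau⟩, ?_⟩
      funext z
      apply AdicCompletion.ext
      intro n
      rw [hval]
      show Submodule.Quotient.mk (g n z) = (f z).val n
      rw [hg, hrep]


end Groth.Agent.S17539
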