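import Groth.Statements.S17540
import Mathlib.RingTheory.AdicCompletion.Basic
import Mathlib.Tactic.Abel
import Mathlib.LinearAlgebra.Finsupp.LinearCombination

set_option autoImplicit false
universe u v w
open W4c5adicflatcompl
open CAlg

namespace Groth.Agent.S17540

section
variable {A : Type u} [CommRing A] (I : Ideal A) {M : Type v} [AddCommGroup M] [Module A M]
  {Z : Type w} (m : Z → M)

lemma step (H : Submodule.span A (Set.range m) ⊔ I • ⊤ = ⊤) (n : ℕ) (y : M)
    (hy : y ∈ (I ^ n • ⊤ : Submodule A M)) :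
    ∃ c : Z →₀ A, (∀ z, c z ∈ I ^ n) ∧
      y - Finsupp.linearCombination A m c ∈ (I ^ (n + 1) • ⊤ : Submodule A M) := by
  classical
  refine Submodule.smul_induction_on hy ?_ ?_
  · intro a ha x' _
    have hx' : x' ∈ Submodule.span A (Set.range m) ⊔ I • ⊤ := by rw [H]; trivial
    obtain ⟨u, hu, w, hw, rfl⟩ := Submodule.mem_sup.1 hx'
    obtain ⟨b, rfl⟩ := (Finsupp.mem_span_range_iff_exists_finsupp).1 hu
    refine ⟨a • b, fun z => ?_, ?_⟩
    · rw [Finsupp.smul_apply, smul_eq_mul]
      exact Ideal.mul_mem_right _ _ ha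
    · rw [map_smul, Finsupp.linearCombination_apply, smul_add, add_sub_cancel_left, pow_succ, mul_smul]
      exact Submodule.smul_mem_smul ha hw
  · intro y₁ y₂ ⟨c₁, h₁, h₁'⟩ ⟨c₂, h₂, h₂'⟩
    refine ⟨c₁ + c₂, fun z => ?_, ?_⟩
    · rw [Finsupp.add_apply]; exact Ideal.add_mem _ (h₁ z) (h₂ z)
    · rw [map_add]
      have e : y₁ + y₂ - (Finsupp.linearCombination A m c₁ + Finsupp.linearCombination A m c₂) =
          (y₁ - Finsupp.linearCombination A m c₁) + (y₂ - Finsupp.linearCombination A m c₂) := by abel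
      rw [e]
      exact add_mem h₁' h₂'


lemma fwd [IsAdicComplete I A] [IsAdicComplete I M]
    (H : Submodule.span A (Set.range m) ⊔ I • ⊤ = ⊤) (x : M) :
    ∃ g : Z → A, g ∈ decaying I Z A ∧
        ∀ n : ℕ, ∃ S : Finset Z,
          (∀ z, z ∉ S → g z • m z ∈ (I ^ n • ⊤ : Submodule A M)) ∧
          x - (∑ z ∈ S, g z • m z) ∈ (I ^ n • ⊤ : Submodule A M) := by
  classical
  have htop : ∀ n : ℕ, (I ^ n • ⊤ : Submodule A A) = I ^ n := fun n => by
    rw [smul_eq_mul, Ideal.mul_top]
  choose c hc1 hc2 using step I m H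
  let X : (n : ℕ) → {y : M // y ∈ (I ^ n • ⊤ : Submodule A M)} := fun n =>
    Nat.rec (motive := fun n => {y : M // y ∈ (I ^ n • ⊤ : Submodule A M)}) ⟨x, by simp⟩
      (fun n p => ⟨p.1 - Finsupp.linearCombination A m (c n p.1 p.2), hc2 n p.1 p.2⟩) n
  let C : ℕ → (Z →₀ A) := fun n => c n (X n).1 (X n).2
  have hC : ∀ n z, C n z ∈ I ^ n := fun n z => hc1 n _ _ z
  have hX0 : ((X 0).1 : M) = x := rfl
  have hX : ∀ n, ((X (n + 1)).1 : M) = (X n).1 - Finsupp.linearCombination A m (C n) := fun n => rfl
  have hsumX : ∀ n, ∑ k ∈ Finset.range n, Finsupp.linearCombination A m (C k) = x - (X n).1 := by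
    intro n
    induction n with
    | zero => simp [hX0]
    | succ n ih => rw [Finset.sum_range_succ, ih, hX]; abel
  let G : ℕ → Z → A := fun n z => ∑ k ∈ Finset.range n, C k z
  have hG : ∀ z, ∀ {a b : ℕ}, a ≤ b → G a z ≡ G b z [SMOD (I ^ a • ⊤ : Submodule A A)] := by
    intro z a b hab
    obtain ⟨d, rfl⟩ := Nat.exists_eq_add_of_le hab
    rw [SModEq.sub_mem, htop]
    simp only [G]
    rw [Finset.sum_range_add, sub_add_cancel_left]
    apply neg_mem
    refine Submodule.sum_mem _ fun k _ => ?_
    exact Ideal.pow_le_pow_right (Nat.le_add_right _ _) (hC (a + k) z)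
  choose g hg using fun z => IsPrecomplete.prec' (I := I) (fun n => G n z) (hG z)
  have hg' : ∀ n z, G n z - g z ∈ I ^ n := by
    intro n z
    have := SModEq.sub_mem.1 (hg z n)
    rwa [htop] at this
  let S : ℕ → Finset Z := fun n => (Finset.range n).biUnion (fun k => (C k).support)
  have hGS : ∀ n z, z ∉ S n → G n z = 0 := by
    intro n z hz
    apply Finset.sum_eq_zero
    intro k hk
    by_contra hne
    apply hz
    exact Finset.mem_biUnion.2 ⟨k, hk, Finsupp.mem_support_iff.2 hne⟩
  have hgS : ∀ n z, z ∉ S n → g z ∈ I ^ n := by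
    intro n z hz
    have := hg' n z
    rw [hGS n z hz, zero_sub] at this
    simpa using neg_mem this
  refine ⟨g, ?_, fun n => ⟨S n, fun z hz => Submodule.smul_mem_smul (hgS n z hz) trivial, ?_⟩⟩
  · rw [mem_decaying_iff]
    intro n
    refine (S n).finite_toSet.subset ?_
    intro z hz
    by_contra hcon
    apply hz
    rw [htop]
    exact hgS n z hcon
  · have h1 : ∑ z ∈ S n, G n z • m z = x - (X n).1 := by
      rw [← hsumX n]
      simp only [G, Finset.sum_smul]
      rw [Finset.sum_comm]
      apply Finset.sum_congr rfl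
      intro k hk
      rw [Finsupp.linearCombination_apply, Finsupp.sum]
      symm
      apply Finset.sum_subset
      · intro z hz
        exact Finset.mem_biUnion.2 ⟨k, hk, hz⟩
      · intro z _ hz
        rw [Finsupp.notMem_support_iff.1 hz, zero_smul]
    have e : x - ∑ z ∈ S n, g z • m z = (X n).1 + ∑ z ∈ S n, (G n z - g z) • m z := by
      simp only [sub_smul, Finset.sum_sub_distrib, h1]
      abel
    rw [e]
    refine add_mem (X n).2 (Submodule.sum_mem _ fun z _ => ?_)
    exact Submodule.smul_mem_smul (hg' n z) trivial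

end


/-- Let A be I-adically complete, M an I-adically complete A-module and m : Z → M a family. The images
of the m z generate M/IM (the span of the family together with IM is all of M) if and only if the
family I-adically generates M: every x in M is the I-adically convergent sum of g z • m z for some
I-adically decaying function g : Z → A. -/
theorem result {A : Type u} [CommRing A] (I : Ideal A) [IsAdicComplete I A]
    (M : Type v) [AddCommGroup M] [Module A M] [IsAdicComplete I M] (Z : Type w) (m : Z → M) :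
    Submodule.span A (Set.range m) ⊔ I • ⊤ = ⊤ ↔
      ∀ x : M, ∃ g : Z → A, g ∈ decaying I Z A ∧
        ∀ n : ℕ, ∃ S : Finset Z,
          (∀ z, z ∉ S → g z • m z ∈ (I ^ n • ⊤ : Submodule A M)) ∧
          x - (∑ z ∈ S, g z • m z) ∈ (I ^ n • ⊤ : Submodule A M) := by
  constructor
  · intro H x
    exact fwd I m H x
  · intro H
    rw [eq_top_iff]
    intro x _
    obtain ⟨g, _, hg⟩ := H x
    obtain ⟨S, _, hS⟩ := hg 1
    rw [pow_one] at hS
    have : x = ∑ z ∈ S, g z • m z + (x - ∑ z ∈ S, g z • m z) := by abel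
    rw [this]
    refine Submodule.add_mem_sup (Submodule.sum_mem _ fun z _ => ?_) hS
    exact Submodule.smul_mem _ _ (Submodule.subset_span ⟨z, rfl⟩)

end Groth.Agent.S17540
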