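import Groth.Statements.S17541
import Mathlib.RingTheory.Filtration

set_option autoImplicit false
universe u v w
open W4c5adicflatcompl
open CAlg

namespace Groth.Agent.S17541

/-- Artin–Rees consequence: elements of `N` lying deep in `M` lie deep in `N`. -/
lemma AR {A : Type u} [CommRing A] [IsNoetherianRing A] (I : Ideal A)
    (M : Type w) [AddCommGroup M] [Module A M] [Module.Finite A M] (N : Submodule A M) :
    ∃ k : ℕ, ∀ (n : ℕ) (x : N), (x : M) ∈ (I ^ (n + k) • ⊤ : Submodule A M) →
      x ∈ (I ^ n • ⊤ : Submodule A N) := by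
  obtain ⟨k, hk⟩ := Ideal.exists_pow_inf_eq_pow_smul I N
  refine ⟨k, fun n x hx => ?_⟩
  have h1 : (x : M) ∈ I ^ (n + k) • (⊤ : Submodule A M) ⊓ N := ⟨hx, x.2⟩
  rw [hk (n + k) (Nat.le_add_left _ _), Nat.add_sub_cancel] at h1
  have h2 : I ^ n • (I ^ k • (⊤ : Submodule A M) ⊓ N) ≤ (I ^ n • (⊤ : Submodule A N)).map N.subtype := by
    rw [Submodule.map_smul'', Submodule.map_top, Submodule.range_subtype]
    exact Submodule.smul_mono le_rfl inf_le_right
  obtain ⟨y, hy, hyx⟩ := h2 h1
  have : y = x := Subtype.ext hyx
  rwa [← this]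

lemma easy {A : Type u} [CommRing A] (I : Ideal A)
    (M : Type w) [AddCommGroup M] [Module A M] (N : Submodule A M) (n : ℕ) (x : N)
    (hx : x ∈ (I ^ n • ⊤ : Submodule A N)) : (x : M) ∈ (I ^ n • ⊤ : Submodule A M) := by
  have : (I ^ n • (⊤ : Submodule A N)).map N.subtype ≤ I ^ n • ⊤ := by
    rw [Submodule.map_smul'']
    exact Submodule.smul_mono le_rfl le_top
  exact this ⟨x, hx, rfl⟩


/-- Over a Noetherian ring A which is I-adically complete, for a finitely generated A-module M, a
submodule N and a set Z, a function Z → N decays I-adically in N exactly when it decays I-adically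
in M (decaying functions into N are the decaying functions into M with values in N). -/
theorem result {A : Type u} [CommRing A] [IsNoetherianRing A] (I : Ideal A)
    [IsAdicComplete I A] (Z : Type v) (M : Type w) [AddCommGroup M] [Module A M]
    [Module.Finite A M] (N : Submodule A M) (f : Z → N) :
    f ∈ decaying I Z N ↔ (fun z => (f z : M)) ∈ decaying I Z M := by
  rw [mem_decaying_iff, mem_decaying_iff]
  constructor
  · intro h n
    refine (h n).subset ?_
    intro z hz hz'
    exact hz (easy I M N n (f z) hz')
  · intro h n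
    obtain ⟨k, hk⟩ := AR I M N
    refine (h (n + k)).subset ?_
    intro z hz hz'
    exact hz (hk n (f z) hz')

end Groth.Agent.S17541
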