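import Groth.Statements.S17542
import Mathlib.RingTheory.Filtration

set_option autoImplicit false
universe u v w
open W4c5adicflatcompl
open CAlg

namespace Groth.Agent.S17542

lemma lift_one {A : Type u} [CommRing A] [IsNoetherianRing A] (I : Ideal A)
    [IsAdicComplete I A] {M : Type w} {M'' : Type w} [AddCommGroup M] [Module A M]
    [Module.Finite A M] [AddCommGroup M''] [Module A M''] (φ : M →ₗ[A] M'')
    (hφ : Function.Surjective φ) (y : M'') :
    ∃ m : M, φ m = y ∧ ∀ n : ℕ, y ∈ (I ^ n • ⊤ : Submodule A M'') → m ∈ (I ^ n • ⊤ : Submodule A M) := by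
  classical
  haveI : Module.Finite A M'' := Module.Finite.of_surjective φ hφ
  have hK : (⨅ i : ℕ, I ^ i • ⊤ : Submodule A M'') = ⊥ :=
    Ideal.iInf_pow_smul_eq_bot_of_le_jacobson I (IsAdicComplete.le_jacobson_bot I)
  by_cases hy : y = 0
  · exact ⟨0, by rw [map_zero, hy], fun n _ => zero_mem _⟩
  · have h1 : ∃ n₁ : ℕ, y ∉ (I ^ n₁ • ⊤ : Submodule A M'') := by
      by_contra hcon
      push Not at hcon
      apply hy
      have : y ∈ (⨅ i : ℕ, I ^ i • ⊤ : Submodule A M'') := by
        rw [Submodule.mem_iInf]; exact hcon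
      rw [hK] at this
      exact (Submodule.mem_bot A).1 this
    obtain ⟨n₁, hn₁⟩ := h1
    set n₀ := Nat.findGreatest (fun n => y ∈ (I ^ n • ⊤ : Submodule A M'')) n₁ with hn₀
    have hy0 : y ∈ (I ^ n₀ • ⊤ : Submodule A M'') := by
      have := Nat.findGreatest_spec (P := fun n => y ∈ (I ^ n • ⊤ : Submodule A M'')) (m := 0)
        (n := n₁) (Nat.zero_le _) (by simp)
      exact this
    have hmap : (I ^ n₀ • ⊤ : Submodule A M'') = (I ^ n₀ • ⊤ : Submodule A M).map φ := by
      rw [Submodule.map_smul'', Submodule.map_top, LinearMap.range_eq_top.2 hφ]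
    rw [hmap] at hy0
    obtain ⟨m, hm, hmy⟩ := hy0
    refine ⟨m, hmy, fun n hn => ?_⟩
    have hlt : n ≤ n₁ := by
      by_contra hcon
      push Not at hcon
      apply hn₁
      exact Submodule.smul_mono (Ideal.pow_le_pow_right hcon.le) le_rfl hn
    have hle : n ≤ n₀ := Nat.le_findGreatest hlt hn
    exact Submodule.smul_mono (Ideal.pow_le_pow_right hle) le_rfl hm


/-- Over a Noetherian ring A which is I-adically complete, for a surjection φ : M → M'' of A-modules
with M finitely generated and a set Z, every I-adically decaying function Z → M'' is the composite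
of φ with an I-adically decaying function Z → M. (This is the right exactness of the
decaying-functions functor on finitely generated modules; left exactness is the statement about
submodules.) -/
theorem result {A : Type u} [CommRing A] [IsNoetherianRing A] (I : Ideal A)
    [IsAdicComplete I A] (Z : Type v) {M : Type w} {M'' : Type w} [AddCommGroup M] [Module A M]
    [Module.Finite A M] [AddCommGroup M''] [Module A M''] (φ : M →ₗ[A] M'')
    (hφ : Function.Surjective φ) (g : Z → M'') (hg : g ∈ decaying I Z M'') :
    ∃ f : Z → M, f ∈ decaying I Z M ∧ ∀ z, φ (f z) = g z := by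
  choose f hf1 hf2 using fun z => lift_one I φ hφ (g z)
  refine ⟨f, ?_, hf1⟩
  rw [mem_decaying_iff] at hg ⊢
  intro n
  refine (hg n).subset ?_
  intro z hz hz'
  exact hz (hf2 z n hz')

end Groth.Agent.S17542
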