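import Groth.Statements.S17543
import Groth.Agent.S17541
import Mathlib.RingTheory.Filtration

set_option autoImplicit false
universe u v w
open W4c5adicflatcompl
open CAlg

namespace Groth.Agent.S17543

open TensorProduct

section
variable {A : Type u} [CommRing A] (I : Ideal A)

/-- universe-general version of `S17542.lift_one`. -/
lemma lift_one' [IsNoetherianRing A] [IsAdicComplete I A] {N : Type*} {N'' : Type*}
    [AddCommGroup N] [Module A N]
    [Module.Finite A N] [AddCommGroup N''] [Module A N''] (φ : N →ₗ[A] N'')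
    (hφ : Function.Surjective φ) (y : N'') :
    ∃ m : N, φ m = y ∧ ∀ n : ℕ, y ∈ (I ^ n • ⊤ : Submodule A N'') → m ∈ (I ^ n • ⊤ : Submodule A N) := by
  classical
  have : Module.Finite A N'' := Module.Finite.of_surjective φ hφ
  have hK : (⨅ i : ℕ, I ^ i • ⊤ : Submodule A N'') = ⊥ :=
    Ideal.iInf_pow_smul_eq_bot_of_le_jacobson I (IsAdicComplete.le_jacobson_bot I)
  by_cases hy : y = 0
  · exact ⟨0, by rw [map_zero, hy], fun n _ => zero_mem _⟩
  · have h1 : ∃ n₁ : ℕ, y ∉ (I ^ n₁ • ⊤ : Submodule A N'') := by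
      by_contra hcon
      push Not at hcon
      apply hy
      have : y ∈ (⨅ i : ℕ, I ^ i • ⊤ : Submodule A N'') := by
        rw [Submodule.mem_iInf]; exact hcon
      rw [hK] at this
      exact (Submodule.mem_bot A).1 this
    obtain ⟨n₁, hn₁⟩ := h1
    set n₀ := Nat.findGreatest (fun n => y ∈ (I ^ n • ⊤ : Submodule A N'')) n₁ with hn₀
    have hy0 : y ∈ (I ^ n₀ • ⊤ : Submodule A N'') := by
      have := Nat.findGreatest_spec (P := fun n => y ∈ (I ^ n • ⊤ : Submodule A N'')) (m := 0)
        (n := n₁) (Nat.zero_le _) (by simp)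
      exact this
    have hmap : (I ^ n₀ • ⊤ : Submodule A N'') = (I ^ n₀ • ⊤ : Submodule A N).map φ := by
      rw [Submodule.map_smul'', Submodule.map_top, LinearMap.range_eq_top.2 hφ]
    rw [hmap] at hy0
    obtain ⟨m, hm, hmy⟩ := hy0
    refine ⟨m, hmy, fun n hn => ?_⟩
    have hlt : n ≤ n₁ := by
      by_contra hcon
      push Not at hcon
      apply hn₁
      exact Submodule.smul_mono (Ideal.pow_le_pow_right hcon.le) le_rfl hn
    have hle : n ≤ n₀ := Nat.le_findGreatest hlt hn
    exact Submodule.smul_mono (Ideal.pow_le_pow_right hle) le_rfl hm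

lemma lift_dec [IsNoetherianRing A] [IsAdicComplete I A] (Z : Type v) {N : Type*} {N'' : Type*}
    [AddCommGroup N] [Module A N]
    [Module.Finite A N] [AddCommGroup N''] [Module A N''] (φ : N →ₗ[A] N'')
    (hφ : Function.Surjective φ) (g : Z → N'') (hg : g ∈ decaying I Z N'') :
    ∃ f : Z → N, f ∈ decaying I Z N ∧ ∀ z, φ (f z) = g z := by
  choose f hf1 hf2 using fun z => lift_one' I φ hφ (g z)
  refine ⟨f, ?_, hf1⟩
  rw [mem_decaying_iff] at hg ⊢
  intro n
  refine (hg n).subset ?_
  intro z hz hz'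
  exact hz (hf2 z n hz')

lemma comp_dec (Z : Type v) {r : ℕ} (F : Z → (Fin r → A)) (hF : F ∈ decaying I Z (Fin r → A))
    (j : Fin r) : (fun z => F z j) ∈ decaying I Z A := by
  rw [mem_decaying_iff] at hF ⊢
  intro m
  refine (hF m).subset ?_
  intro z hz hz'
  apply hz
  have hle : (I ^ m • (⊤ : Submodule A (Fin r → A))).map (LinearMap.proj (R := A) (φ := fun _ => A) j)
      ≤ I ^ m • ⊤ := by
    rw [Submodule.map_smul'']
    exact Submodule.smul_mono le_rfl le_top
  exact hle ⟨F z, hz', rfl⟩

lemma dec_of_comp (Z : Type v) {r : ℕ} (F : Z → (Fin r → A))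
    (hF : ∀ j, (fun z => F z j) ∈ decaying I Z A) : F ∈ decaying I Z (Fin r → A) := by
  classical
  rw [mem_decaying_iff]
  intro n
  have hfin : (⋃ j : Fin r, {z | F z j ∉ (I ^ n • ⊤ : Submodule A A)}).Finite :=
    Set.finite_iUnion fun j => (mem_decaying_iff _).1 (hF j) n
  refine hfin.subset ?_
  intro z hz
  by_contra hcon
  apply hz
  have h2 : F z = ∑ j, (F z j) • (Pi.single j (1 : A) : Fin r → A) := by
    funext i
    simp [Finset.sum_apply, Pi.single_apply]
  rw [h2]
  refine Submodule.sum_mem _ fun j _ => ?_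
  have hj : F z j ∈ (I ^ n • ⊤ : Submodule A A) := by
    by_contra h'
    exact hcon (Set.mem_iUnion.2 ⟨j, h'⟩)
  rw [smul_eq_mul, Ideal.mul_top] at hj
  exact Submodule.smul_mem_smul hj trivial

lemma repr {N'' : Type*} [AddCommGroup N''] [Module A N''] {r : ℕ} (φ : (Fin r → A) →ₗ[A] N'')
    (c : Fin r → A) : φ c = ∑ j, c j • φ (Pi.single j 1) := by
  classical
  have h2 : c = ∑ j, (c j) • (Pi.single j (1 : A) : Fin r → A) := by
    funext i
    simp [Finset.sum_apply, Pi.single_apply]
  conv_lhs => rw [h2]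
  rw [map_sum]
  simp only [map_smul]


section
variable [IsNoetherianRing A] [IsAdicComplete I A] (Z : Type v) (M : Type w) [AddCommGroup M] [Module A M]
    [Module.Finite A M]

/-- the canonical map. -/
noncomputable abbrev Psi : M ⊗[A] (decaying I Z A) →ₗ[A] (Z → M) :=
  (TensorProduct.piScalarRightHom A A M Z) ∘ₗ ((decaying I Z A).subtype.lTensor M)

omit [IsNoetherianRing A] [IsAdicComplete I A] [Module.Finite A M] in
lemma Psi_tmul (x : M) (g : decaying I Z A) (z : Z) :
    Psi I Z M (x ⊗ₜ g) z = (g : Z → A) z • x := by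
  simp [Psi]

omit [IsNoetherianRing A] [IsAdicComplete I A] [Module.Finite A M] in
lemma range_le : LinearMap.range (Psi I Z M) ≤ decaying I Z M := by
  rintro _ ⟨t, rfl⟩
  induction t using TensorProduct.induction_on with
  | zero => rw [map_zero]; exact zero_mem _
  | add x y hx hy => rw [map_add]; exact add_mem hx hy
  | tmul x g =>
    rw [mem_decaying_iff]
    intro n
    refine ((mem_decaying_iff _).1 g.2 n).subset ?_
    intro z hz hz'
    apply hz
    rw [Psi_tmul]
    rw [smul_eq_mul, Ideal.mul_top] at hz'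
    exact Submodule.smul_mem_smul hz' trivial

lemma le_range : decaying I Z M ≤ LinearMap.range (Psi I Z M) := by
  classical
  intro h hh
  obtain ⟨r, φ, hφ⟩ := Module.Finite.exists_fin' A M
  obtain ⟨H, hH, hHφ⟩ := lift_dec I Z φ hφ h hh
  refine ⟨∑ j, φ (Pi.single j 1) ⊗ₜ (⟨fun z => H z j, comp_dec I Z H hH j⟩ : decaying I Z A), ?_⟩
  funext z
  rw [map_sum, Finset.sum_apply]
  simp only [Psi_tmul]
  rw [← hHφ z, repr φ (H z)]

omit [IsNoetherianRing A] [IsAdicComplete I A] [Module.Finite A M] in
lemma exists_repr {r : ℕ} (φ : (Fin r → A) →ₗ[A] M) (hφ : Function.Surjective φ)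
    (t : M ⊗[A] (decaying I Z A)) :
    ∃ g : Fin r → decaying I Z A, t = ∑ j, φ (Pi.single j 1) ⊗ₜ g j := by
  classical
  induction t using TensorProduct.induction_on with
  | zero => exact ⟨0, by simp⟩
  | add x y hx hy =>
    obtain ⟨g, rfl⟩ := hx
    obtain ⟨g', rfl⟩ := hy
    refine ⟨g + g', ?_⟩
    simp only [Pi.add_apply, TensorProduct.tmul_add, Finset.sum_add_distrib]
  | tmul x d =>
    obtain ⟨c, rfl⟩ := hφ x
    refine ⟨fun j => c j • d, ?_⟩
    rw [repr φ c, TensorProduct.sum_tmul]
    apply Finset.sum_congr rfl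
    intro j _
    rw [TensorProduct.smul_tmul]

lemma inj : Function.Injective (Psi I Z M) := by
  classical
  rw [injective_iff_map_eq_zero]
  intro t ht
  obtain ⟨r, φ, hφ⟩ := Module.Finite.exists_fin' A M
  obtain ⟨g, rfl⟩ := exists_repr I Z M φ hφ t
  let G : Z → (Fin r → A) := fun z j => (g j : Z → A) z
  have hG : G ∈ decaying I Z (Fin r → A) := dec_of_comp I Z G fun j => (g j).2
  have hGφ : ∀ z, φ (G z) = 0 := by
    intro z
    have := congrFun ht z
    rw [map_sum, Finset.sum_apply] at this
    simp only [Psi_tmul] at this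
    rw [repr φ (G z)]
    exact this
  let K : Submodule A (Fin r → A) := LinearMap.ker φ
  let GK : Z → K := fun z => ⟨G z, hGφ z⟩
  have hGK : GK ∈ decaying I Z K := (Groth.Agent.S17541.result I Z (Fin r → A) K GK).2 hG
  obtain ⟨s, ψ, hψ⟩ := Module.Finite.exists_fin' A K
  obtain ⟨U, hU, hUψ⟩ := lift_dec I Z ψ hψ GK hGK
  let u : Fin s → decaying I Z A := fun i => ⟨fun z => U z i, comp_dec I Z U hU i⟩
  let k : Fin s → (Fin r → A) := fun i => (ψ (Pi.single i 1) : K)
  have hk : ∀ i, φ (k i) = 0 := fun i => (ψ (Pi.single i 1)).2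
  have hg : ∀ j, g j = ∑ i, k i j • u i := by
    intro j
    apply Subtype.ext
    funext z
    have h1 : G z = ((ψ (U z) : K) : Fin r → A) := by rw [hUψ z]
    have h2 : (g j : Z → A) z = G z j := rfl
    rw [h2, h1, repr ψ (U z)]
    simp only [Submodule.coe_sum, Submodule.coe_smul, Finset.sum_apply, Pi.smul_apply, smul_eq_mul]
    apply Finset.sum_congr rfl
    intro i _
    simp only [u, k]
    rw [mul_comm]
  have : ∑ j, φ (Pi.single j 1) ⊗ₜ[A] g j = ∑ i, (φ (k i)) ⊗ₜ[A] u i := by
    simp_rw [hg, TensorProduct.tmul_sum]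
    rw [Finset.sum_comm]
    apply Finset.sum_congr rfl
    intro i _
    rw [repr φ (k i), TensorProduct.sum_tmul]
    apply Finset.sum_congr rfl
    intro j _
    rw [TensorProduct.smul_tmul]
  rw [this]
  simp [hk]

end

end


/-- Over a Noetherian ring A which is I-adically complete, for a finitely generated A-module M and a set
Z, the canonical map from M ⊗ (decaying functions Z → A) to functions Z → M is injective and its
image is the module of decaying functions Z → M. -/
theorem result {A : Type u} [CommRing A] [IsNoetherianRing A] (I : Ideal A)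
    [IsAdicComplete I A] (Z : Type v) (M : Type w) [AddCommGroup M] [Module A M]
    [Module.Finite A M] :
    Function.Injective
        ((TensorProduct.piScalarRightHom A A M Z) ∘ₗ ((decaying I Z A).subtype.lTensor M)) ∧
      LinearMap.range
        ((TensorProduct.piScalarRightHom A A M Z) ∘ₗ ((decaying I Z A).subtype.lTensor M)) =
        decaying I Z M := by
  exact ⟨inj I Z M, le_antisymm (range_le I Z M) (le_range I Z M)⟩

end Groth.Agent.S17543
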