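import Groth.Statements.S17544
import Groth.Agent.S17541
import Groth.Agent.S17542

set_option autoImplicit false
universe u v w
open W4c5adicflatcompl
open CAlg

namespace Groth.Agent.S17544

lemma part1 {A : Type u} [CommRing A] (I : Ideal A) (Z : Type v) (n : ℕ) (g : Z →₀ A ⧸ I ^ n) :
    ∃ f : decaying I Z A, ∀ z, Ideal.Quotient.mk (I ^ n) ((f : Z → A) z) = g z := by
  classical
  choose ℓ hℓ using (Ideal.Quotient.mk_surjective (I := I ^ n))
  refine ⟨⟨fun z => if g z = 0 then 0 else ℓ (g z), ?_⟩, ?_⟩
  · rw [mem_decaying_iff]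
    intro m
    refine g.support.finite_toSet.subset ?_
    intro z hz
    simp only [Finset.mem_coe, Finsupp.mem_support_iff]
    intro h0
    apply hz
    simp [h0]
  · intro z
    by_cases h0 : g z = 0
    · simp [h0]
    · simp [h0, hℓ]

lemma part2a {A : Type u} [CommRing A] (I : Ideal A) (Z : Type v) (n : ℕ) (f : decaying I Z A)
    (hf : f ∈ (I ^ n • ⊤ : Submodule A (decaying I Z A))) (z : Z) : (f : Z → A) z ∈ I ^ n := by
  refine Submodule.smul_induction_on hf ?_ ?_
  · intro r hr h _
    change r • (h : Z → A) z ∈ I ^ n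
    rw [smul_eq_mul]
    exact Ideal.mul_mem_right _ _ hr
  · intro x y hx hy
    exact Ideal.add_mem _ hx hy

lemma part2b {A : Type u} [CommRing A] [IsNoetherianRing A]
    (I : Ideal A) [IsAdicComplete I A] (Z : Type v) (n : ℕ) (f : decaying I Z A)
    (hf : ∀ z, (f : Z → A) z ∈ I ^ n) : f ∈ (I ^ n • ⊤ : Submodule A (decaying I Z A)) := by
  classical
  let N : Submodule A A := I ^ n
  let fN : Z → N := fun z => ⟨(f : Z → A) z, hf z⟩
  have hfN : fN ∈ decaying I Z N := (Groth.Agent.S17541.result I Z A N fN).2 f.2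
  obtain ⟨r, φ, hφ⟩ := Module.Finite.exists_fin' A N
  obtain ⟨F, hF, hFφ⟩ := Groth.Agent.S17542.result I Z φ hφ fN hfN
  have hh : ∀ j : Fin r, (fun z => F z j) ∈ decaying I Z A := by
    intro j
    rw [mem_decaying_iff] at hF ⊢
    intro m
    refine (hF m).subset ?_
    intro z hz hz'
    apply hz
    have hle : (I ^ m • (⊤ : Submodule A (Fin r → A))).map (LinearMap.proj (R := A) (φ := fun _ => A) j)
        ≤ I ^ m • ⊤ := by
      rw [Submodule.map_smul'']
      exact Submodule.smul_mono le_rfl le_top
    exact hle ⟨F z, hz', rfl⟩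
  have hsum : f = ∑ j : Fin r, ((φ (Pi.single j 1) : N) : A) • (⟨fun z => F z j, hh j⟩ : decaying I Z A) := by
    apply Subtype.ext
    funext z
    have h1 : (f : Z → A) z = ((φ (F z) : N) : A) := by rw [hFφ z]
    have h2 : F z = ∑ j, (F z j) • (Pi.single j (1 : A) : Fin r → A) := by
      funext i
      simp [Finset.sum_apply, Pi.single_apply]
    rw [h1, h2, map_sum]
    simp only [map_smul, Submodule.coe_sum, Submodule.coe_smul, smul_eq_mul]
    rw [Finset.sum_apply]
    apply Finset.sum_congr rfl
    intro j _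
    simp only [Pi.smul_apply, smul_eq_mul]
    rw [mul_comm]
  rw [hsum]
  apply Submodule.sum_mem
  intro j _
  exact Submodule.smul_mem_smul (φ (Pi.single j 1)).2 trivial


/-- For a Noetherian ring A which is I-adically complete, a set Z and n ≥ 0, reduction modulo I^n maps
the decaying functions Z → A onto the finitely supported functions Z → A/I^n, and its kernel, the
decaying functions with all values in I^n, equals I^n times the module of decaying functions; so
(A/I^n) ⊗ F_dec(Z, A) → F_fin(Z, A/I^n) is bijective. -/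
theorem result {A : Type u} [CommRing A] [IsNoetherianRing A]
    (I : Ideal A) [IsAdicComplete I A] (Z : Type v) (n : ℕ) :
    (∀ g : Z →₀ A ⧸ I ^ n, ∃ f : decaying I Z A,
        ∀ z, Ideal.Quotient.mk (I ^ n) ((f : Z → A) z) = g z) ∧
      ∀ f : decaying I Z A,
        f ∈ (I ^ n • ⊤ : Submodule A (decaying I Z A)) ↔ ∀ z, (f : Z → A) z ∈ I ^ n := by
  refine ⟨fun g => part1 I Z n g, fun f => ⟨fun h z => part2a I Z n f h z, fun h => part2b I Z n f h⟩⟩

end Groth.Agent.S17544
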