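import Groth.Statements.S17545
import Groth.Agent.S17543
import Mathlib.RingTheory.Flat.Tensor

set_option autoImplicit false
universe u v w
open W4c5adicflatcompl
open CAlg

namespace Groth.Agent.S17545
open TensorProduct

/-- For a Noetherian ring A which is I-adically complete and any set Z, the A-module of I-adically
decaying functions Z → A is flat. -/
theorem result {A : Type u} [CommRing A] [IsNoetherianRing A]
    (I : Ideal A) [IsAdicComplete I A] (Z : Type v) :
    Module.Flat A (decaying I Z A) := by
  rw [Module.Flat.iff_lift_lsmul_comp_subtype_injective]
  intro J hJ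
  haveI : Module.Finite A J := Module.Finite.iff_fg.2 hJ
  have hinj := (Groth.Agent.S17543.result I Z J).1
  rw [injective_iff_map_eq_zero]
  intro t ht
  apply (injective_iff_map_eq_zero _).1 hinj
  have key : ∀ t : (J : Type u) ⊗[A] (decaying I Z A), ∀ z,
      (((TensorProduct.piScalarRightHom A A J Z) ∘ₗ ((decaying I Z A).subtype.lTensor J)) t z : A) =
        ((TensorProduct.lift ((LinearMap.lsmul A (decaying I Z A)).comp J.subtype) t : decaying I Z A) : Z → A) z := by
    intro t z
    induction t using TensorProduct.induction_on with
    | zero => simp
    | add x y hx hy =>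
      rw [map_add, map_add, Pi.add_apply, Submodule.coe_add, hx, hy]
      rfl
    | tmul j d =>
      simp [mul_comm]
  funext z
  apply Subtype.ext
  rw [key t z, ht]
  rfl

end Groth.Agent.S17545
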