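import Groth.Statements.S17546
import Groth.Agent.S17544
import Groth.Agent.S17536

set_option autoImplicit false
universe u v w
open W4c5adicflatcompl
open CAlg

namespace Groth.Agent.S17546

/-- For a Noetherian ring A which is I-adically complete and any set Z, the A-module of I-adically
decaying functions Z → A is I-adically complete. -/
theorem result {A : Type u} [CommRing A] [IsNoetherianRing A]
    (I : Ideal A) [IsAdicComplete I A] (Z : Type v) :
    IsAdicComplete I (decaying I Z A) := by
  haveI : IsHausdorff I (decaying I Z A) := Groth.Agent.S17536.result I Z A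
  haveI : IsPrecomplete I (decaying I Z A) := by
    constructor
    intro F hF
    have hval : ∀ (n : ℕ) (g : decaying I Z A), g ∈ (I ^ n • ⊤ : Submodule A (decaying I Z A)) ↔
        ∀ z, (g : Z → A) z ∈ I ^ n := fun n g => (Groth.Agent.S17544.result I Z n).2 g
    have htop : ∀ n : ℕ, (I ^ n • ⊤ : Submodule A A) = I ^ n := fun n => by
      rw [smul_eq_mul, Ideal.mul_top]
    have hC : ∀ z : Z, ∀ {m n : ℕ}, m ≤ n →
        (F m : Z → A) z ≡ (F n : Z → A) z [SMOD (I ^ m • ⊤ : Submodule A A)] := by
      intro z m n hmn
      rw [SModEq.sub_mem, htop]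
      have := (hval m (F m - F n)).1 (SModEq.sub_mem.1 (hF hmn)) z
      exact this
    choose L hL using fun z => IsPrecomplete.prec' (I := I) (fun k => (F k : Z → A) z) (hC z)
    have hLmem : ∀ n z, (F n : Z → A) z - L z ∈ I ^ n := by
      intro n z
      have := SModEq.sub_mem.1 (hL z n)
      rwa [htop] at this
    have hLdec : L ∈ decaying I Z A := by
      rw [mem_decaying_iff]
      intro n
      refine ((mem_decaying_iff _).1 (F n).2 n).subset ?_
      intro z hz hz'
      apply hz
      rw [htop] at hz' ⊢
      have := Ideal.sub_mem _ hz' (hLmem n z)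
      simpa using this
    refine ⟨⟨L, hLdec⟩, fun n => ?_⟩
    rw [SModEq.sub_mem, hval]
    intro z
    exact hLmem n z
  exact ⟨⟩

end Groth.Agent.S17546
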