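import Groth.Statements.S17547
import Mathlib
import Groth.Agent.S17539

set_option autoImplicit false
universe u v w
open W4c5adicflatcompl
open CAlg

namespace Groth.Agent.S17547

theorem map_mem_smul_top' {A : Type u} [CommRing A] {M : Type v} {N : Type w} [AddCommGroup M]
    [Module A M] [AddCommGroup N]
    [Module A N] (K : Ideal A) (φ : M →ₗ[A] N) (x : M) (hx : x ∈ (K • ⊤ : Submodule A M)) :
    φ x ∈ (K • ⊤ : Submodule A N) := by
  refine Submodule.smul_induction_on hx (fun a ha y _ => ?_) (fun y y' hy hy' => ?_)
  · rw [map_smul]; exact Submodule.smul_mem_smul ha Submodule.mem_top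
  · rw [map_add]; exact Submodule.add_mem _ hy hy'

theorem isAdicComplete_of_equiv {A : Type u} [CommRing A] (I : Ideal A) {N : Type v}
    {N' : Type w} [AddCommGroup N] [Module A N] [AddCommGroup N'] [Module A N']
    (e : N ≃ₗ[A] N') [IsAdicComplete I N] : IsAdicComplete I N' :=
  { toIsHausdorff := ⟨fun x hx => by
      have h0 : e.symm x = 0 := IsHausdorff.haus' (I := I) (e.symm x) (fun n => by
        rw [SModEq.zero]
        exact map_mem_smul_top' (I ^ n) e.symm.toLinearMap x (SModEq.zero.mp (hx n)))
      rw [← e.apply_symm_apply x, h0, map_zero]⟩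
    toIsPrecomplete := ⟨fun f hf => by
      obtain ⟨L, hL⟩ := IsPrecomplete.prec' (I := I) (fun n => e.symm (f n))
        (fun {m n} hmn => by
          rw [SModEq.sub_mem, ← map_sub]
          exact map_mem_smul_top' (I ^ m) e.symm.toLinearMap _ (SModEq.sub_mem.mp (hf hmn)))
      refine ⟨e L, fun n => ?_⟩
      rw [SModEq.sub_mem]
      have h1 := SModEq.sub_mem.mp (hL n)
      have h2 := map_mem_smul_top' (I ^ n) e.toLinearMap _ h1
      rw [map_sub] at h2
      have h3 : e.toLinearMap (e.symm (f n)) = f n := e.apply_symm_apply (f n)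
      rw [h3] at h2
      exact h2⟩ }



/-- For a Noetherian ring A, an ideal I, any A-module M and any set Z, the A-module of I-adically
decaying functions from Z to the I-adic completion of M is I-adically complete. -/
theorem result {A : Type u} [CommRing A] [IsNoetherianRing A]
    (I : Ideal A) (Z : Type v) (M : Type w) [AddCommGroup M] [Module A M] :
    IsAdicComplete I (decaying I Z (AdicCompletion I M)) := by
  have hIfg : I.FG := (isNoetherianRing_iff_ideal_fg A).mp inferInstance I
  haveI : IsAdicComplete I (AdicCompletion I M) := AdicCompletion.isAdicComplete hIfg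
  haveI : IsAdicComplete I (AdicCompletion I (Z →₀ M)) := AdicCompletion.isAdicComplete hIfg
  obtain ⟨hinj, hrange⟩ := Groth.Agent.S17539.result I Z M
  exact isAdicComplete_of_equiv I
    ((LinearEquiv.ofInjective _ hinj).trans (LinearEquiv.ofEq _ _ hrange))


end Groth.Agent.S17547
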