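import Groth.Statements.S17548
import Mathlib
import Groth.Agent.S17539

set_option autoImplicit false
universe u v w
open W4c5adicflatcompl
open CAlg

namespace Groth.Agent.S17548

section Decay

variable {A : Type u} [CommRing A] (I : Ideal A)

theorem map_mem_smul_top' {M : Type v} {N : Type w} [AddCommGroup M]
    [Module A M] [AddCommGroup N]
    [Module A N] (K : Ideal A) (φ : M →ₗ[A] N) (x : M) (hx : x ∈ (K • ⊤ : Submodule A M)) :
    φ x ∈ (K • ⊤ : Submodule A N) := by
  refine Submodule.smul_induction_on hx (fun a ha y _ => ?_) (fun y y' hy hy' => ?_)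
  · rw [map_smul]; exact Submodule.smul_mem_smul ha Submodule.mem_top
  · rw [map_add]; exact Submodule.add_mem _ hy hy'

theorem exists_sum_of_mem_span_smul {M : Type w} [AddCommGroup M] [Module A M] (s : Finset A)
    (N' : Submodule A M) (x : M) (hx : x ∈ (Ideal.span (s : Set A)) • N') :
    ∃ c : A → M, (∀ a, c a ∈ N') ∧ x = ∑ a ∈ s, a • c a := by
  refine Submodule.smul_induction_on hx (fun r hr y hy => ?_) ?_
  · obtain ⟨t, -, ht⟩ := Submodule.mem_span_finset.mp hr
    refine ⟨fun a => t a • y, fun a => Submodule.smul_mem _ _ hy, ?_⟩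
    rw [← ht, Finset.sum_smul]
    refine Finset.sum_congr rfl fun a _ => ?_
    rw [smul_eq_mul, mul_comm, mul_smul]
  · rintro y y' ⟨c, hc, hy⟩ ⟨c', hc', hy'⟩
    refine ⟨fun a => c a + c' a, fun a => Submodule.add_mem _ (hc a) (hc' a), ?_⟩
    rw [hy, hy', ← Finset.sum_add_distrib]
    refine Finset.sum_congr rfl fun a _ => ?_
    rw [smul_add]

theorem exists_div {M : Type w} [AddCommGroup M] [Module A M] [IsHausdorff I M] (s : Finset A)
    (n : ℕ) (hs : Ideal.span (s : Set A) = I ^ n) (x : M)
    (hx : x ∈ (I ^ n • ⊤ : Submodule A M)) :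
    ∃ c : A → M, x = ∑ a ∈ s, a • c a ∧
      ∀ m, x ∈ (I ^ (n + m) • ⊤ : Submodule A M) → ∀ a, c a ∈ (I ^ m • ⊤ : Submodule A M) := by
  classical
  by_cases h0 : x = 0
  · refine ⟨fun _ => 0, ?_, fun m _ a => Submodule.zero_mem _⟩
    rw [h0]
    simp
  · have hex : ∃ N, x ∉ (I ^ N • ⊤ : Submodule A M) := by
      by_contra hcon
      push_neg at hcon
      exact h0 (IsHausdorff.haus' (I := I) x fun N => SModEq.zero.mpr (hcon N))
    obtain ⟨N₀, hN₀, hmin⟩ : ∃ N₀, x ∉ (I ^ N₀ • ⊤ : Submodule A M) ∧
        ∀ k < N₀, x ∈ (I ^ k • ⊤ : Submodule A M) :=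
      ⟨Nat.find hex, Nat.find_spec hex, fun k hk => not_not.mp (Nat.find_min hex hk)⟩
    have hanti : ∀ {k l : ℕ}, k ≤ l → x ∈ (I ^ l • ⊤ : Submodule A M) →
        x ∈ (I ^ k • ⊤ : Submodule A M) :=
      fun hkl h => Submodule.smul_mono_left (Ideal.pow_le_pow_right hkl) h
    have hnN : n < N₀ := by
      by_contra hle
      exact hN₀ (hanti (not_lt.mp hle) hx)
    obtain ⟨m₀, hm₀⟩ : ∃ m₀, N₀ = n + m₀ + 1 := ⟨N₀ - n - 1, by omega⟩
    have hx' : x ∈ (I ^ (n + m₀) • ⊤ : Submodule A M) := hmin _ (by omega)
    rw [pow_add, Submodule.mul_smul, ← hs] at hx'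
    obtain ⟨c, hc, hsum⟩ := exists_sum_of_mem_span_smul s _ x hx'
    refine ⟨c, hsum, fun m hm a => ?_⟩
    have hmm : m ≤ m₀ := by
      by_contra hlt
      exact hN₀ (hanti (by omega) hm)
    exact Submodule.smul_mono_left (Ideal.pow_le_pow_right hmm) (hc a)

theorem mem_smul_top_decaying [IsNoetherianRing A] (Z : Type v) (n : ℕ)
    (f : decaying I Z (AdicCompletion I A))
    (hf : ∀ z, (f : Z → AdicCompletion I A) z ∈
      (I ^ n • ⊤ : Submodule A (AdicCompletion I A))) :
    f ∈ (I ^ n • ⊤ : Submodule A (decaying I Z (AdicCompletion I A))) := by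
  classical
  obtain ⟨s, hs⟩ : (I ^ n).FG := (isNoetherianRing_iff_ideal_fg A).mp inferInstance _
  choose c hsum hdec using fun z =>
    exists_div I s n hs ((f : Z → AdicCompletion I A) z) (hf z)
  have hmem : ∀ a, (fun z => c z a) ∈ decaying I Z (AdicCompletion I A) := by
    intro a
    rw [mem_decaying_iff]
    intro m
    refine ((mem_decaying_iff _).mp f.2 (n + m)).subset ?_
    intro z hz hin
    exact hz (hdec z m hin a)
  have hfe : f = ∑ a ∈ s, a • (⟨fun z => c z a, hmem a⟩ :
      decaying I Z (AdicCompletion I A)) := by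
    apply Subtype.ext
    funext z
    rw [Submodule.coe_sum, Finset.sum_apply]
    exact hsum z
  rw [hfe]
  refine Submodule.sum_mem _ fun a ha => Submodule.smul_mem_smul ?_ Submodule.mem_top
  rw [← hs]
  exact Ideal.subset_span ha

theorem mk_smul_one {R : Type u} [CommRing R] (K : Submodule R R) (b : R) :
    b • (Submodule.Quotient.mk (1 : R) : R ⧸ K) = Submodule.Quotient.mk b := by
  rw [← Submodule.Quotient.mk_smul]
  exact congrArg _ (mul_one b)

theorem single_mem_span_sup [IsNoetherianRing A] (Z : Type v) [DecidableEq Z] (n : ℕ) (z : Z)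
    (c : AdicCompletion I A) :
    single I z c ∈ Submodule.span A (Set.range fun z => single I z (1 : AdicCompletion I A)) ⊔
      (I ^ n • ⊤ : Submodule A (decaying I Z (AdicCompletion I A))) := by
  have hIfg : I.FG := (isNoetherianRing_iff_ideal_fg A).mp inferInstance I
  obtain ⟨a, ha⟩ := Submodule.Quotient.mk_surjective _ (AdicCompletion.eval I A n c)
  have h1 : a • (1 : A ⧸ (I ^ n • ⊤ : Submodule A A)) = Submodule.Quotient.mk a :=
    mk_smul_one _ a
  have hc' : c - a • (1 : AdicCompletion I A) ∈
      (I ^ n • ⊤ : Submodule A (AdicCompletion I A)) := by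
    rw [AdicCompletion.pow_smul_top_eq_ker_eval hIfg, LinearMap.mem_ker, map_sub, map_smul,
      ← ha, AdicCompletion.eval_apply, AdicCompletion.val_one, h1, sub_self]
  have hdecomp : single I z c = a • single I z (1 : AdicCompletion I A) +
      single I z (c - a • (1 : AdicCompletion I A)) := by
    apply Subtype.ext
    funext z'
    rw [Submodule.coe_add, Submodule.coe_smul, Pi.add_apply, Pi.smul_apply, coe_single,
      coe_single, coe_single]
    by_cases hz : z' = z
    · rw [hz, Pi.single_eq_same, Pi.single_eq_same, Pi.single_eq_same, add_sub_cancel]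
    · rw [Pi.single_eq_of_ne hz, Pi.single_eq_of_ne hz, Pi.single_eq_of_ne hz, smul_zero,
        add_zero]
  rw [hdecomp]
  refine Submodule.add_mem _ (Submodule.mem_sup_left ?_) (Submodule.mem_sup_right ?_)
  · exact Submodule.smul_mem _ _ (Submodule.subset_span ⟨z, rfl⟩)
  · apply mem_smul_top_decaying
    intro z'
    rw [coe_single]
    by_cases hz : z' = z
    · rw [hz, Pi.single_eq_same]; exact hc'
    · rw [Pi.single_eq_of_ne hz]; exact Submodule.zero_mem _

theorem mem_span_single_sup [IsNoetherianRing A] (Z : Type v) [DecidableEq Z] (n : ℕ)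
    (f : decaying I Z (AdicCompletion I A)) :
    f ∈ Submodule.span A (Set.range fun z => single I z (1 : AdicCompletion I A)) ⊔
      (I ^ n • ⊤ : Submodule A (decaying I Z (AdicCompletion I A))) := by
  have key : ∀ (t : Finset Z) (f : decaying I Z (AdicCompletion I A)),
      (∀ z, z ∉ t → (f : Z → AdicCompletion I A) z ∈
        (I ^ n • ⊤ : Submodule A (AdicCompletion I A))) →
      f ∈ Submodule.span A (Set.range fun z => single I z (1 : AdicCompletion I A)) ⊔
        (I ^ n • ⊤ : Submodule A (decaying I Z (AdicCompletion I A))) := by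
    intro t
    induction t using Finset.induction_on with
    | empty =>
      intro f hf
      exact Submodule.mem_sup_right
        (mem_smul_top_decaying I Z n f fun z => hf z (Finset.notMem_empty z))
    | insert z₀ t hz₀ ih =>
      intro f hf
      have h1 := ih (f - single I z₀ ((f : Z → AdicCompletion I A) z₀)) (by
        intro z hz
        rw [Submodule.coe_sub, Pi.sub_apply, coe_single]
        by_cases hzz : z = z₀
        · rw [hzz, Pi.single_eq_same, sub_self]; exact Submodule.zero_mem _
        · rw [Pi.single_eq_of_ne hzz, sub_zero]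
          exact hf z (fun hmem => (Finset.mem_insert.mp hmem).elim hzz hz))
      have h2 := single_mem_span_sup I Z n z₀ ((f : Z → AdicCompletion I A) z₀)
      have h3 := Submodule.add_mem _ h1 h2
      rwa [sub_add_cancel] at h3
  refine key ((mem_decaying_iff _).mp f.2 n).toFinset f ?_
  intro z hz
  by_contra hcon
  exact hz ((Set.Finite.mem_toFinset _).mpr hcon)

theorem ext_of_single [IsNoetherianRing A] (Z : Type v) [DecidableEq Z] (M : Type w)
    [AddCommGroup M] [Module A M] [IsHausdorff I M]
    (φ₁ φ₂ : decaying I Z (AdicCompletion I A) →ₗ[A] M)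
    (h : ∀ z, φ₁ (single I z (1 : AdicCompletion I A)) = φ₂ (single I z 1)) : φ₁ = φ₂ := by
  apply LinearMap.ext
  intro d
  rw [← sub_eq_zero]
  apply IsHausdorff.haus' (I := I)
  intro n
  rw [SModEq.zero]
  obtain ⟨u, hu, w, hw, rfl⟩ := Submodule.mem_sup.mp (mem_span_single_sup I Z n d)
  have h1 : φ₁ u = φ₂ u := by
    refine LinearMap.eqOn_span (s := Set.range fun z => single I z (1 : AdicCompletion I A))
      ?_ hu
    rintro _ ⟨z, rfl⟩
    exact h z
  have h2 : φ₁ (u + w) - φ₂ (u + w) = φ₁ w - φ₂ w := by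
    rw [map_add, map_add, h1]; abel
  rw [h2]
  exact Submodule.sub_mem _ (map_mem_smul_top' (I ^ n) φ₁ w hw)
    (map_mem_smul_top' (I ^ n) φ₂ w hw)

end Decay



/-- For a Noetherian ring A with I-adic completion Â, a set Z, an I-adically complete A-module M and any
function f : Z → M, there is a unique A-linear map from the module of I-adically decaying functions
Z → Â to M taking, for every z, the function supported at z with value 1 to f z. -/
theorem result {A : Type u} [CommRing A] [IsNoetherianRing A]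
    (I : Ideal A) (Z : Type v) [DecidableEq Z] (M : Type w) [AddCommGroup M] [Module A M]
    [IsAdicComplete I M] (f : Z → M) :
    ∃! φ : decaying I Z (AdicCompletion I A) →ₗ[A] M,
      ∀ z, φ (single I z (1 : AdicCompletion I A)) = f z := by
  have hIfg : I.FG := (isNoetherianRing_iff_ideal_fg A).mp inferInstance I
  haveI : IsAdicComplete I (AdicCompletion I A) := AdicCompletion.isAdicComplete hIfg
  obtain ⟨hinj, hrange⟩ := Groth.Agent.S17539.result I Z A
  obtain ⟨Θ, hΘ⟩ : ∃ Θ : AdicCompletion I (Z →₀ A) ≃ₗ[A] decaying I Z (AdicCompletion I A),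
      ∀ x z, ((Θ x : decaying I Z (AdicCompletion I A)) : Z → AdicCompletion I A) z =
        (AdicCompletion.map I (Finsupp.lapply (M := A) (R := A) z)) x :=
    ⟨(LinearEquiv.ofInjective _ hinj).trans (LinearEquiv.ofEq _ _ hrange), fun x z => rfl⟩
  have hΘsingle : ∀ z, Θ (AdicCompletion.of I (Z →₀ A) (Finsupp.single z 1)) =
      single I z 1 := by
    intro z
    apply Subtype.ext
    funext z'
    rw [hΘ, AdicCompletion.map_of, Finsupp.lapply_apply, Finsupp.single_apply, coe_single]
    by_cases hz : z = z'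
    · rw [if_pos hz, hz, Pi.single_eq_same]
      apply AdicCompletion.ext
      intro n
      rfl
    · rw [if_neg hz, Pi.single_eq_of_ne (Ne.symm hz), map_zero]
  obtain ⟨φ, hφ⟩ : ∃ φ : decaying I Z (AdicCompletion I A) →ₗ[A] M,
      ∀ d, φ d = (AdicCompletion.ofLinearEquiv I M).symm
        ((AdicCompletion.map I (Finsupp.linearCombination A f)) (Θ.symm d)) :=
    ⟨(AdicCompletion.ofLinearEquiv I M).symm.toLinearMap ∘ₗ
      ((AdicCompletion.map I (Finsupp.linearCombination A f)).restrictScalars A) ∘ₗ
        Θ.symm.toLinearMap, fun d => rfl⟩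
  have hφs : ∀ z, φ (single I z (1 : AdicCompletion I A)) = f z := by
    intro z
    rw [hφ, ← hΘsingle z, Θ.symm_apply_apply, AdicCompletion.map_of,
      Finsupp.linearCombination_single, one_smul, AdicCompletion.ofLinearEquiv_symm_of]
  refine ⟨φ, hφs, ?_⟩
  intro φ' hφ'
  apply ext_of_single I Z M
  intro z
  rw [hφ', hφs]


end Groth.Agent.S17548
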