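import Groth.Statements.S17549
import Mathlib
import Groth.Agent.S17547
import Groth.Agent.S17548

set_option autoImplicit false
universe u
open W4c5adicflatcompl
open CAlg

namespace Groth.Agent.S17549

theorem isAdicComplete_of_retract {A : Type u} [CommRing A] (I : Ideal A) {P D : Type u}
    [AddCommGroup P] [Module A P] [AddCommGroup D] [Module A D] [IsAdicComplete I D]
    (i : P →ₗ[A] D) (r : D →ₗ[A] P) (hri : r ∘ₗ i = LinearMap.id) : IsAdicComplete I P :=
  have hri' : ∀ x, r (i x) = x := fun x => LinearMap.congr_fun hri x
  { toIsHausdorff := ⟨fun x hx => by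
      have h0 : i x = 0 := IsHausdorff.haus' (I := I) (i x) (fun n => by
        rw [SModEq.zero]
        exact Groth.Agent.S17547.map_mem_smul_top' (I ^ n) i x (SModEq.zero.mp (hx n)))
      rw [← hri' x, h0, map_zero]⟩
    toIsPrecomplete := ⟨fun f hf => by
      obtain ⟨L, hL⟩ := IsPrecomplete.prec' (I := I) (fun n => i (f n))
        (fun {m n} hmn => by
          rw [SModEq.sub_mem, ← map_sub]
          exact Groth.Agent.S17547.map_mem_smul_top' (I ^ m) i _ (SModEq.sub_mem.mp (hf hmn)))
      refine ⟨r L, fun n => ?_⟩
      rw [SModEq.sub_mem]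
      have h1 := SModEq.sub_mem.mp (hL n)
      have h2 := Groth.Agent.S17547.map_mem_smul_top' (I ^ n) r _ h1
      rw [map_sub, hri'] at h2
      exact h2⟩ }



/-- Over a Noetherian ring A with I-adic completion Â, an A-module P is I-adically projective
(I-adically complete, and every A-linear map from P to the target of a surjection between I-adically
complete modules lifts along that surjection) exactly when P is a retract of some module of
I-adically decaying functions Z → Â: there are a set Z, an A-linear map i from P to the decaying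
functions Z → Â and an A-linear map r back with r ∘ i the identity of P. Test modules, P and Z live
in the universe of A. -/
theorem result {A : Type u} [CommRing A] [IsNoetherianRing A]
    (I : Ideal A) (P : Type u) [AddCommGroup P] [Module A P] :
    IsAdicProjective I P ↔
      ∃ (Z : Type u) (i : P →ₗ[A] decaying I Z (AdicCompletion I A))
        (r : decaying I Z (AdicCompletion I A) →ₗ[A] P), r ∘ₗ i = LinearMap.id := by
  classical
  constructor
  · rintro ⟨hPc, hlift⟩
    haveI := hPc
    obtain ⟨r, hr, -⟩ := Groth.Agent.S17548.result I P P (fun p => p)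
    have hDc : IsAdicComplete I (decaying I P (AdicCompletion I A)) :=
      Groth.Agent.S17547.result I P A
    have hsurj : Function.Surjective r := fun p => ⟨single I p 1, hr p⟩
    obtain ⟨χ, hχ⟩ := hlift (decaying I P (AdicCompletion I A)) P hDc hPc r hsurj LinearMap.id
    exact ⟨P, χ, r, hχ⟩
  · rintro ⟨Z, i, r, hri⟩
    haveI hDc : IsAdicComplete I (decaying I Z (AdicCompletion I A)) :=
      Groth.Agent.S17547.result I Z A
    refine ⟨isAdicComplete_of_retract I i r hri, ?_⟩
    intro M N _ _ _ _ hM hN φ hφ ψ
    haveI := hM
    haveI := hN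
    choose m hm using fun z : Z => hφ (ψ (r (single I z 1)))
    obtain ⟨χ₀, hχ₀, -⟩ := Groth.Agent.S17548.result I Z M m
    have heq : φ ∘ₗ χ₀ = ψ ∘ₗ r := by
      apply Groth.Agent.S17548.ext_of_single I Z N
      intro z
      rw [LinearMap.comp_apply, LinearMap.comp_apply, hχ₀, hm]
    refine ⟨χ₀ ∘ₗ i, ?_⟩
    rw [← LinearMap.comp_assoc, heq, LinearMap.comp_assoc, hri, LinearMap.comp_id]


end Groth.Agent.S17549
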