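import Groth.Statements.S17550
import Mathlib

set_option autoImplicit false
universe u
open W4c5adicflatcompl
open scoped TensorProduct
open CAlg

namespace Groth.Agent.S17550

section General

theorem mem_smul_top_finsupp {R : Type u} [CommRing R] (J : Ideal R) {α : Type u} (y : α →₀ R) :
    y ∈ (J • ⊤ : Submodule R (α →₀ R)) ↔ ∀ t, y t ∈ J := by
  classical
  constructor
  · intro hy
    refine Submodule.smul_induction_on hy (fun r hr z _ t => ?_) (fun y z hy hz t => ?_)
    · rw [Finsupp.smul_apply, smul_eq_mul]; exact J.mul_mem_right _ hr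
    · rw [Finsupp.add_apply]; exact J.add_mem (hy t) (hz t)
  · intro h
    have e := Finsupp.sum_single y
    rw [Finsupp.sum] at e
    rw [← e]
    refine Submodule.sum_mem _ (fun t _ => ?_)
    have e2 : Finsupp.single t (y t) = (y t) • Finsupp.single t (1 : R) := by
      rw [Finsupp.smul_single, smul_eq_mul, mul_one]
    rw [e2]
    exact Submodule.smul_mem_smul (h t) Submodule.mem_top

theorem smul_top_self {R : Type u} [CommRing R] (J : Ideal R) :
    (J • ⊤ : Submodule R R) = J := by
  rw [Ideal.smul_eq_mul, Ideal.mul_top]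

theorem mk_smul_one {R : Type u} [CommRing R] (K : Submodule R R) (b : R) :
    b • (Submodule.Quotient.mk (1 : R) : R ⧸ K) = Submodule.Quotient.mk b := by
  rw [← Submodule.Quotient.mk_smul]
  exact congrArg _ (mul_one b)

theorem map_bijective_of_levelwise {R : Type u} [CommRing R] (I : Ideal R) {M N : Type u}
    [AddCommGroup M] [Module R M] [AddCommGroup N] [Module R N] (ψ : M →ₗ[R] N)
    (hinj : ∀ (n : ℕ) (m : M), ψ m ∈ (I ^ n • ⊤ : Submodule R N) →
      m ∈ (I ^ n • ⊤ : Submodule R M))
    (hsurj : ∀ (n : ℕ) (y : N), ∃ m : M, y - ψ m ∈ (I ^ n • ⊤ : Submodule R N)) :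
    Function.Bijective (AdicCompletion.map I ψ) := by
  constructor
  · rw [injective_iff_map_eq_zero]
    intro x hx
    obtain ⟨a, rfl⟩ := AdicCompletion.mk_surjective I M x
    apply AdicCompletion.ext
    intro n
    have h1 : (AdicCompletion.map I ψ (AdicCompletion.mk I M a)).val n = 0 := by
      rw [hx]; rfl
    have h2 : Submodule.Quotient.mk (p := (I ^ n • ⊤ : Submodule R N)) (ψ (a n)) = 0 := h1
    rw [Submodule.Quotient.mk_eq_zero] at h2
    show Submodule.Quotient.mk (p := (I ^ n • ⊤ : Submodule R M)) (a n) = 0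
    rw [Submodule.Quotient.mk_eq_zero]
    exact hinj n _ h2
  · intro y
    obtain ⟨c, rfl⟩ := AdicCompletion.mk_surjective I N y
    choose m hm using fun n => hsurj n (c n)
    have hcau : AdicCompletion.IsAdicCauchy I M m := by
      intro k n hkn
      rw [SModEq.sub_mem]
      apply hinj k
      rw [map_sub]
      have h1 : c k - c n ∈ (I ^ k • ⊤ : Submodule R N) := by
        rw [← SModEq.sub_mem]; exact c.property hkn
      have h2 := hm k
      have h3 : c n - ψ (m n) ∈ (I ^ k • ⊤ : Submodule R N) :=
        Submodule.smul_mono_left (Ideal.pow_le_pow_right hkn) (hm n)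
      have h4 : ψ (m k) - ψ (m n) = (c k - c n) - (c k - ψ (m k)) + (c n - ψ (m n)) := by abel
      rw [h4]
      exact Submodule.add_mem _ (Submodule.sub_mem _ h1 h2) h3
    refine ⟨AdicCompletion.mk I M ⟨m, hcau⟩, ?_⟩
    apply AdicCompletion.ext
    intro n
    show Submodule.Quotient.mk (p := (I ^ n • ⊤ : Submodule R N)) (ψ (m n)) =
      Submodule.Quotient.mk (p := (I ^ n • ⊤ : Submodule R N)) (c n)
    rw [Submodule.Quotient.eq]
    have h5 := hm n
    rw [← neg_sub]
    exact Submodule.neg_mem _ h5

theorem coord_bij {B : Type u} [CommRing B] [IsNoetherianRing B] (J : Ideal B) (Z : Type u) :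
    Function.Injective (LinearMap.pi fun z : Z =>
        (AdicCompletion.map J (Finsupp.lapply (M := B) (R := B) z)).restrictScalars B) ∧
    LinearMap.range (LinearMap.pi fun z : Z =>
        (AdicCompletion.map J (Finsupp.lapply (M := B) (R := B) z)).restrictScalars B) =
      decaying J Z (AdicCompletion J B) := by
  classical
  have hJfg : J.FG := (isNoetherianRing_iff_ideal_fg B).mp inferInstance J
  have hval : ∀ (a : AdicCompletion.AdicCauchySequence J (Z →₀ B)) (z : Z) (n : ℕ),
      ((LinearMap.pi fun z : Z =>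
        (AdicCompletion.map J (Finsupp.lapply (M := B) (R := B) z)).restrictScalars B)
          (AdicCompletion.mk J (Z →₀ B) a) z).val n =
        Submodule.Quotient.mk (p := (J ^ n • ⊤ : Submodule B B)) (a n z) := fun a z n => rfl
  refine ⟨?_, ?_⟩
  · rw [injective_iff_map_eq_zero]
    intro x hx
    obtain ⟨a, rfl⟩ := AdicCompletion.mk_surjective J (Z →₀ B) x
    apply AdicCompletion.ext
    intro n
    show Submodule.Quotient.mk (p := (J ^ n • ⊤ : Submodule B (Z →₀ B))) (a n) = 0
    rw [Submodule.Quotient.mk_eq_zero, mem_smul_top_finsupp]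
    intro z
    have h1 := hval a z n
    rw [hx] at h1
    have h2 : Submodule.Quotient.mk (p := (J ^ n • ⊤ : Submodule B B)) (a n z) = 0 := h1.symm
    rw [Submodule.Quotient.mk_eq_zero, smul_top_self] at h2
    exact h2
  · apply le_antisymm
    · rintro _ ⟨x, rfl⟩
      obtain ⟨a, rfl⟩ := AdicCompletion.mk_surjective J (Z →₀ B) x
      intro n
      refine (a n).support.finite_toSet.subset ?_
      intro z hz
      by_contra hzs
      apply hz
      rw [AdicCompletion.pow_smul_top_eq_ker_eval hJfg, LinearMap.mem_ker,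
        AdicCompletion.eval_apply]
      have h1 := hval a z n
      rw [Finsupp.notMem_support_iff.mp hzs] at h1
      rw [h1]
      rfl
    · intro f hf
      obtain ⟨rep, hrep, hrep0⟩ : ∃ rep : ∀ n : ℕ, (B ⧸ (J ^ n • ⊤ : Submodule B B)) → B,
          (∀ n q, Submodule.Quotient.mk (rep n q) = q) ∧ ∀ n, rep n 0 = 0 := by
        refine ⟨fun n q => if q = 0 then 0 else Quotient.out q, fun n q => ?_, fun n => if_pos rfl⟩
        show Submodule.Quotient.mk (if q = 0 then 0 else Quotient.out q) = q
        by_cases hq : q = 0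
        · rw [if_pos hq, hq]; rfl
        · rw [if_neg hq]; exact Submodule.Quotient.mk_out q
      have hfin : ∀ n, (Function.support fun z => rep n ((f z).val n)).Finite := by
        intro n
        refine (hf n).subset ?_
        intro z hz hmem
        apply hz
        have h1 := AdicCompletion.pow_smul_top_le_ker_eval J n hmem
        rw [LinearMap.mem_ker, AdicCompletion.eval_apply] at h1
        show rep n ((f z).val n) = 0
        rw [h1, hrep0]
      obtain ⟨g, hg⟩ : ∃ g : ℕ → (Z →₀ B), ∀ n z, g n z = rep n ((f z).val n) :=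
        ⟨fun n => Finsupp.ofSupportFinite _ (hfin n), fun n z => rfl⟩
      have hcau : AdicCompletion.IsAdicCauchy J (Z →₀ B) g := by
        intro k n hkn
        rw [SModEq.sub_mem, mem_smul_top_finsupp]
        intro z
        rw [Finsupp.sub_apply, hg, hg, ← smul_top_self (J ^ k), ← SModEq.sub_mem, SModEq.def,
          hrep, ← Submodule.mkQ_apply,
          ← Submodule.factor_mk (Submodule.smul_mono_left (Ideal.pow_le_pow_right hkn))
            (rep n ((f z).val n)),
          Submodule.mkQ_apply, hrep]
        exact ((f z).property hkn).symm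
      refine ⟨AdicCompletion.mk J (Z →₀ B) ⟨g, hcau⟩, ?_⟩
      funext z
      apply AdicCompletion.ext
      intro n
      rw [hval]
      show Submodule.Quotient.mk (g n z) = (f z).val n
      rw [hg, hrep]

end General

section Decay

variable {A : Type u} [CommRing A] (I : Ideal A)

theorem exists_sum_of_mem_span_smul {M : Type u} [AddCommGroup M] [Module A M] (s : Finset A)
    (N' : Submodule A M) (x : M) (hx : x ∈ (Ideal.span (s : Set A)) • N') :
    ∃ c : A → M, (∀ a, c a ∈ N') ∧ x = ∑ a ∈ s, a • c a := by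
  refine Submodule.smul_induction_on hx (fun r hr y hy => ?_) ?_
  · obtain ⟨t, -, ht⟩ := Submodule.mem_span_finset.mp hr
    refine ⟨fun a => t a • y, fun a => Submodule.smul_mem _ _ hy, ?_⟩
    rw [← ht, Finset.sum_smul]
    refine Finset.sum_congr rfl fun a _ => ?_
    rw [smul_eq_mul, mul_comm, mul_smul]
  · rintro y y' ⟨c, hc, hy⟩ ⟨c', hc', hy'⟩
    refine ⟨fun a => c a + c' a, fun a => Submodule.add_mem _ (hc a) (hc' a), ?_⟩
    rw [hy, hy', ← Finset.sum_add_distrib]
    refine Finset.sum_congr rfl fun a _ => ?_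
    rw [smul_add]

theorem exists_div {M : Type u} [AddCommGroup M] [Module A M] [IsHausdorff I M] (s : Finset A)
    (n : ℕ) (hs : Ideal.span (s : Set A) = I ^ n) (x : M)
    (hx : x ∈ (I ^ n • ⊤ : Submodule A M)) :
    ∃ c : A → M, x = ∑ a ∈ s, a • c a ∧
      ∀ m, x ∈ (I ^ (n + m) • ⊤ : Submodule A M) → ∀ a, c a ∈ (I ^ m • ⊤ : Submodule A M) := by
  classical
  by_cases h0 : x = 0
  · refine ⟨fun _ => 0, ?_, fun m _ a => Submodule.zero_mem _⟩
    rw [h0]
    simp
  · have hex : ∃ N, x ∉ (I ^ N • ⊤ : Submodule A M) := by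
      by_contra hcon
      push_neg at hcon
      exact h0 (IsHausdorff.haus' (I := I) x fun N => SModEq.zero.mpr (hcon N))
    obtain ⟨N₀, hN₀, hmin⟩ : ∃ N₀, x ∉ (I ^ N₀ • ⊤ : Submodule A M) ∧
        ∀ k < N₀, x ∈ (I ^ k • ⊤ : Submodule A M) :=
      ⟨Nat.find hex, Nat.find_spec hex, fun k hk => not_not.mp (Nat.find_min hex hk)⟩
    have hanti : ∀ {k l : ℕ}, k ≤ l → x ∈ (I ^ l • ⊤ : Submodule A M) →
        x ∈ (I ^ k • ⊤ : Submodule A M) :=
      fun hkl h => Submodule.smul_mono_left (Ideal.pow_le_pow_right hkl) h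
    have hnN : n < N₀ := by
      by_contra hle
      exact hN₀ (hanti (not_lt.mp hle) hx)
    obtain ⟨m₀, hm₀⟩ : ∃ m₀, N₀ = n + m₀ + 1 := ⟨N₀ - n - 1, by omega⟩
    have hx' : x ∈ (I ^ (n + m₀) • ⊤ : Submodule A M) := hmin _ (by omega)
    rw [pow_add, Submodule.mul_smul, ← hs] at hx'
    obtain ⟨c, hc, hsum⟩ := exists_sum_of_mem_span_smul s _ x hx'
    refine ⟨c, hsum, fun m hm a => ?_⟩
    have hmm : m ≤ m₀ := by
      by_contra hlt
      exact hN₀ (hanti (by omega) hm)
    exact Submodule.smul_mono_left (Ideal.pow_le_pow_right hmm) (hc a)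

theorem mem_smul_top_decaying [IsNoetherianRing A] (Z : Type u) (n : ℕ)
    (f : decaying I Z (AdicCompletion I A))
    (hf : ∀ z, (f : Z → AdicCompletion I A) z ∈
      (I ^ n • ⊤ : Submodule A (AdicCompletion I A))) :
    f ∈ (I ^ n • ⊤ : Submodule A (decaying I Z (AdicCompletion I A))) := by
  classical
  obtain ⟨s, hs⟩ : (I ^ n).FG := (isNoetherianRing_iff_ideal_fg A).mp inferInstance _
  choose c hsum hdec using fun z =>
    exists_div I s n hs ((f : Z → AdicCompletion I A) z) (hf z)
  have hmem : ∀ a, (fun z => c z a) ∈ decaying I Z (AdicCompletion I A) := by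
    intro a
    rw [mem_decaying_iff]
    intro m
    refine ((mem_decaying_iff _).mp f.2 (n + m)).subset ?_
    intro z hz hin
    exact hz (hdec z m hin a)
  have hfe : f = ∑ a ∈ s, a • (⟨fun z => c z a, hmem a⟩ :
      decaying I Z (AdicCompletion I A)) := by
    apply Subtype.ext
    funext z
    rw [Submodule.coe_sum, Finset.sum_apply]
    exact hsum z
  rw [hfe]
  refine Submodule.sum_mem _ fun a ha => Submodule.smul_mem_smul ?_ Submodule.mem_top
  rw [← hs]
  exact Ideal.subset_span ha

theorem single_mem_span_sup [IsNoetherianRing A] (Z : Type u) [DecidableEq Z] (n : ℕ) (z : Z)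
    (c : AdicCompletion I A) :
    single I z c ∈ Submodule.span A (Set.range fun z => single I z (1 : AdicCompletion I A)) ⊔
      (I ^ n • ⊤ : Submodule A (decaying I Z (AdicCompletion I A))) := by
  have hIfg : I.FG := (isNoetherianRing_iff_ideal_fg A).mp inferInstance I
  obtain ⟨a, ha⟩ := Submodule.Quotient.mk_surjective _ (AdicCompletion.eval I A n c)
  have h1 : a • (1 : A ⧸ (I ^ n • ⊤ : Submodule A A)) = Submodule.Quotient.mk a :=
    mk_smul_one _ a
  have hc' : c - a • (1 : AdicCompletion I A) ∈
      (I ^ n • ⊤ : Submodule A (AdicCompletion I A)) := by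
    rw [AdicCompletion.pow_smul_top_eq_ker_eval hIfg, LinearMap.mem_ker, map_sub, map_smul,
      ← ha, AdicCompletion.eval_apply, AdicCompletion.val_one, h1, sub_self]
  have hdecomp : single I z c = a • single I z (1 : AdicCompletion I A) +
      single I z (c - a • (1 : AdicCompletion I A)) := by
    apply Subtype.ext
    funext z'
    rw [Submodule.coe_add, Submodule.coe_smul, Pi.add_apply, Pi.smul_apply, coe_single,
      coe_single, coe_single]
    by_cases hz : z' = z
    · rw [hz, Pi.single_eq_same, Pi.single_eq_same, Pi.single_eq_same, add_sub_cancel]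
    · rw [Pi.single_eq_of_ne hz, Pi.single_eq_of_ne hz, Pi.single_eq_of_ne hz, smul_zero,
        add_zero]
  rw [hdecomp]
  refine Submodule.add_mem _ (Submodule.mem_sup_left ?_) (Submodule.mem_sup_right ?_)
  · exact Submodule.smul_mem _ _ (Submodule.subset_span ⟨z, rfl⟩)
  · apply mem_smul_top_decaying
    intro z'
    rw [coe_single]
    by_cases hz : z' = z
    · rw [hz, Pi.single_eq_same]; exact hc'
    · rw [Pi.single_eq_of_ne hz]; exact Submodule.zero_mem _

theorem mem_span_single_sup [IsNoetherianRing A] (Z : Type u) [DecidableEq Z] (n : ℕ)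
    (f : decaying I Z (AdicCompletion I A)) :
    f ∈ Submodule.span A (Set.range fun z => single I z (1 : AdicCompletion I A)) ⊔
      (I ^ n • ⊤ : Submodule A (decaying I Z (AdicCompletion I A))) := by
  have key : ∀ (t : Finset Z) (f : decaying I Z (AdicCompletion I A)),
      (∀ z, z ∉ t → (f : Z → AdicCompletion I A) z ∈
        (I ^ n • ⊤ : Submodule A (AdicCompletion I A))) →
      f ∈ Submodule.span A (Set.range fun z => single I z (1 : AdicCompletion I A)) ⊔
        (I ^ n • ⊤ : Submodule A (decaying I Z (AdicCompletion I A))) := by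
    intro t
    induction t using Finset.induction_on with
    | empty =>
      intro f hf
      exact Submodule.mem_sup_right
        (mem_smul_top_decaying I Z n f fun z => hf z (Finset.notMem_empty z))
    | insert z₀ t hz₀ ih =>
      intro f hf
      have h1 := ih (f - single I z₀ ((f : Z → AdicCompletion I A) z₀)) (by
        intro z hz
        rw [Submodule.coe_sub, Pi.sub_apply, coe_single]
        by_cases hzz : z = z₀
        · rw [hzz, Pi.single_eq_same, sub_self]; exact Submodule.zero_mem _
        · rw [Pi.single_eq_of_ne hzz, sub_zero]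
          exact hf z (fun hmem => (Finset.mem_insert.mp hmem).elim hzz hz))
      have h2 := single_mem_span_sup I Z n z₀ ((f : Z → AdicCompletion I A) z₀)
      have h3 := Submodule.add_mem _ h1 h2
      rwa [sub_add_cancel] at h3
  refine key ((mem_decaying_iff _).mp f.2 n).toFinset f ?_
  intro z hz
  by_contra hcon
  exact hz ((Set.Finite.mem_toFinset _).mpr hcon)

theorem map_mem_smul_top {M N : Type u} [AddCommGroup M] [Module A M] [AddCommGroup N]
    [Module A N] (K : Ideal A) (φ : M →ₗ[A] N) (x : M) (hx : x ∈ (K • ⊤ : Submodule A M)) :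
    φ x ∈ (K • ⊤ : Submodule A N) := by
  refine Submodule.smul_induction_on hx (fun a ha y _ => ?_) (fun y y' hy hy' => ?_)
  · rw [map_smul]; exact Submodule.smul_mem_smul ha Submodule.mem_top
  · rw [map_add]; exact Submodule.add_mem _ hy hy'

end Decay

section Main

variable {A B : Type u} [CommRing A] [CommRing B] [Algebra A B]
  (I : Ideal A) (J : Ideal B)

theorem algebraMap_mem_pow (hIJ : I.map (algebraMap A B) ≤ J) (n : ℕ) {a : A} (ha : a ∈ I ^ n) :
    algebraMap A B a ∈ J ^ n := by
  have h1 : algebraMap A B a ∈ (I ^ n).map (algebraMap A B) := Ideal.mem_map_of_mem _ ha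
  rw [Ideal.map_pow] at h1
  exact Ideal.pow_right_mono hIJ n h1

theorem tmul_mem_smul_top (hIJ : I.map (algebraMap A B) ≤ J) (P : Type u) [AddCommGroup P]
    [Module A P] (n : ℕ) (b : B) (w : P) (hw : w ∈ (I ^ n • ⊤ : Submodule A P)) :
    b ⊗ₜ[A] w ∈ (J ^ n • ⊤ : Submodule B (B ⊗[A] P)) := by
  refine Submodule.smul_induction_on hw (fun a ha y _ => ?_) (fun y y' hy hy' => ?_)
  · rw [TensorProduct.tmul_smul, ← algebraMap_smul B a (b ⊗ₜ[A] y)]
    exact Submodule.smul_mem_smul (algebraMap_mem_pow I J hIJ n ha) Submodule.mem_top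
  · rw [TensorProduct.tmul_add]; exact Submodule.add_mem _ hy hy'

theorem main [IsNoetherianRing A] [IsNoetherianRing B] (hIJ : I.map (algebraMap A B) ≤ J)
    (P : Type u) [AddCommGroup P] [Module A P] (Z : Type u)
    (e : P ≃ₗ[A] decaying I Z (AdicCompletion I A)) :
    Nonempty (AdicCompletion J (B ⊗[A] P) ≃ₗ[B] decaying J Z (AdicCompletion J B)) := by
  classical
  obtain ⟨ez, hez⟩ : ∃ ez : Z → P, ∀ z, e (ez z) = single I z 1 :=
    ⟨fun z => e.symm (single I z 1), fun z => e.apply_symm_apply _⟩
  obtain ⟨ψ, hψ⟩ : ∃ ψ : (Z →₀ B) →ₗ[B] B ⊗[A] P,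
      ∀ z b, ψ (Finsupp.single z b) = b ⊗ₜ[A] ez z := by
    refine ⟨Finsupp.linearCombination B (fun z => (1 : B) ⊗ₜ[A] ez z), fun z b => ?_⟩
    rw [Finsupp.linearCombination_single, TensorProduct.smul_tmul', smul_eq_mul, mul_one]
  have hsurj : ∀ (n : ℕ) (y : B ⊗[A] P), ∃ g : Z →₀ B,
      y - ψ g ∈ (J ^ n • ⊤ : Submodule B (B ⊗[A] P)) := by
    intro n y
    have key : ∀ y, y ∈ LinearMap.range ψ ⊔ (J ^ n • ⊤ : Submodule B (B ⊗[A] P)) := by
      intro y
      induction y using TensorProduct.induction_on with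
      | zero => exact Submodule.zero_mem _
      | add y y' hy hy' => exact Submodule.add_mem _ hy hy'
      | tmul b p =>
        obtain ⟨u, hu, w, hw, huw⟩ := Submodule.mem_sup.mp (mem_span_single_sup I Z n (e p))
        have hp : p = e.symm u + e.symm w := by
          rw [← map_add, huw, e.symm_apply_apply]
        rw [hp, TensorProduct.tmul_add]
        refine Submodule.add_mem _ (Submodule.mem_sup_left ?_) (Submodule.mem_sup_right ?_)
        · refine Submodule.span_induction
            (p := fun u _ => b ⊗ₜ[A] e.symm u ∈ LinearMap.range ψ) ?_ ?_ ?_ ?_ hu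
          · rintro _ ⟨z, rfl⟩
            refine ⟨Finsupp.single z b, ?_⟩
            show ψ (Finsupp.single z b) = b ⊗ₜ[A] e.symm (single I z 1)
            rw [hψ, ← hez, e.symm_apply_apply]
          · rw [map_zero, TensorProduct.tmul_zero]; exact Submodule.zero_mem _
          · intro x x' _ _ hx hx'
            rw [map_add, TensorProduct.tmul_add]; exact Submodule.add_mem _ hx hx'
          · intro a x _ hx
            rw [map_smul, TensorProduct.tmul_smul, ← algebraMap_smul B a (b ⊗ₜ[A] e.symm x)]
            exact Submodule.smul_mem _ _ hx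
        · exact tmul_mem_smul_top I J hIJ P n b _
            (map_mem_smul_top (I ^ n) e.symm.toLinearMap w hw)
    obtain ⟨y1, ⟨g, rfl⟩, y2, hy2, rfl⟩ := Submodule.mem_sup.mp (key y)
    exact ⟨g, by rw [add_sub_cancel_left]; exact hy2⟩
  have hinj : ∀ (n : ℕ) (g : Z →₀ B), ψ g ∈ (J ^ n • ⊤ : Submodule B (B ⊗[A] P)) →
      g ∈ (J ^ n • ⊤ : Submodule B (Z →₀ B)) := by
    intro n g hg
    have hsupp : ∀ f : decaying I Z (AdicCompletion I A),
        (Function.support fun z => AdicCompletion.eval I A n
          ((f : Z → AdicCompletion I A) z)).Finite := by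
      intro f
      refine ((mem_decaying_iff _).mp f.2 n).subset ?_
      intro z hz hmem
      exact hz (LinearMap.mem_ker.mp (AdicCompletion.pow_smul_top_le_ker_eval I n hmem))
    obtain ⟨rn, hrn⟩ : ∃ rn : decaying I Z (AdicCompletion I A) →ₗ[A]
        (Z →₀ A ⧸ (I ^ n • ⊤ : Submodule A A)),
        ∀ f z, rn f z = AdicCompletion.eval I A n ((f : Z → AdicCompletion I A) z) := by
      refine ⟨{ toFun := fun f => Finsupp.ofSupportFinite _ (hsupp f),
                map_add' := ?_, map_smul' := ?_ }, fun f z => rfl⟩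
      · intro f f'
        ext z
        show AdicCompletion.eval I A n
            (((f + f' : decaying I Z (AdicCompletion I A)) : Z → AdicCompletion I A) z) =
          AdicCompletion.eval I A n ((f : Z → AdicCompletion I A) z) +
            AdicCompletion.eval I A n ((f' : Z → AdicCompletion I A) z)
        rw [Submodule.coe_add, Pi.add_apply, map_add]
      · intro a f
        ext z
        show AdicCompletion.eval I A n
            (((a • f : decaying I Z (AdicCompletion I A)) : Z → AdicCompletion I A) z) =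
          a • AdicCompletion.eval I A n ((f : Z → AdicCompletion I A) z)
        rw [Submodule.coe_smul, Pi.smul_apply, map_smul]
    obtain ⟨κ, hκ⟩ : ∃ κ : (A ⧸ (I ^ n • ⊤ : Submodule A A)) →ₗ[A]
        (B ⧸ (J ^ n • ⊤ : Submodule B B)),
        ∀ a : A, κ (Submodule.Quotient.mk a) = Submodule.Quotient.mk (algebraMap A B a) := by
      refine ⟨Submodule.liftQ _ (((J ^ n • ⊤ : Submodule B B).mkQ.restrictScalars A).comp
        (Algebra.linearMap A B)) ?_, fun a => rfl⟩
      intro a ha
      rw [smul_top_self] at ha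
      rw [LinearMap.mem_ker]
      show Submodule.Quotient.mk (algebraMap A B a) = 0
      rw [Submodule.Quotient.mk_eq_zero, smul_top_self]
      exact algebraMap_mem_pow I J hIJ n ha
    obtain ⟨ρ, hρ⟩ : ∃ ρ : B ⊗[A] P →ₗ[B] (Z →₀ B ⧸ (J ^ n • ⊤ : Submodule B B)),
        ∀ b p, ρ (b ⊗ₜ[A] p) = b • Finsupp.mapRange κ (map_zero κ) (rn (e p)) := by
      refine ⟨LinearMap.liftBaseChange B
        ((Finsupp.mapRange.linearMap κ).comp (rn.comp e.toLinearMap)), fun b p => ?_⟩
      rw [LinearMap.liftBaseChange_tmul]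
      rfl
    have hrn1 : ∀ z, rn (single I z 1) =
        Finsupp.single z (Submodule.Quotient.mk (1 : A)) := by
      intro z
      ext z'
      rw [hrn, coe_single, Finsupp.single_apply]
      by_cases hz : z = z'
      · rw [if_pos hz, hz, Pi.single_eq_same, AdicCompletion.eval_apply,
          AdicCompletion.val_one]
        rfl
      · rw [if_neg hz, Pi.single_eq_of_ne (Ne.symm hz), map_zero]
    have hcomp : ∀ g : Z →₀ B, ρ (ψ g) =
        Finsupp.mapRange.linearMap (J ^ n • ⊤ : Submodule B B).mkQ g := by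
      intro g
      rw [← LinearMap.comp_apply]
      congr 1
      apply Finsupp.lhom_ext
      intro z b
      rw [LinearMap.comp_apply, hψ, hρ, hez, hrn1, Finsupp.mapRange_single, hκ, map_one,
        Finsupp.smul_single, Finsupp.mapRange.linearMap_apply, Finsupp.mapRange_single,
        Submodule.mkQ_apply, mk_smul_one]
    have hρ0 : ∀ w ∈ (J ^ n • ⊤ : Submodule B (B ⊗[A] P)), ρ w = 0 := by
      intro w hw
      refine Submodule.smul_induction_on hw (fun j hj t _ => ?_)
        (fun t t' ht ht' => by rw [map_add, ht, ht', add_zero])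
      rw [map_smul]
      ext z
      rw [Finsupp.smul_apply, Finsupp.zero_apply]
      obtain ⟨b', hb'⟩ := Submodule.Quotient.mk_surjective _ (ρ t z)
      rw [← hb', ← Submodule.Quotient.mk_smul, Submodule.Quotient.mk_eq_zero]
      exact Submodule.smul_mem_smul hj Submodule.mem_top
    have h1 : Finsupp.mapRange.linearMap (J ^ n • ⊤ : Submodule B B).mkQ g = 0 := by
      rw [← hcomp]; exact hρ0 _ hg
    rw [mem_smul_top_finsupp]
    intro t
    have h2 := DFunLike.congr_fun h1 t
    rw [Finsupp.mapRange.linearMap_apply, Finsupp.mapRange_apply, Finsupp.zero_apply,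
      Submodule.mkQ_apply, Submodule.Quotient.mk_eq_zero, smul_top_self] at h2
    exact h2
  have hbij := map_bijective_of_levelwise J ψ hinj hsurj
  obtain ⟨hΘinj, hΘrange⟩ := coord_bij J Z
  exact ⟨(LinearEquiv.ofBijective ((AdicCompletion.map J ψ).restrictScalars B) hbij).symm.trans
    ((LinearEquiv.ofInjective _ hΘinj).trans (LinearEquiv.ofEq _ _ hΘrange))⟩

end Main



/-- For Noetherian rings A and B with B an A-algebra, ideals I of A and J of B with I B contained in J,
and an I-adically free A-module P, the J-adic completion of B ⊗ P is a J-adically free B-module (the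
completed base change of an adically free module is adically free). -/
theorem result {A B : Type u} [CommRing A] [CommRing B] [Algebra A B]
    [IsNoetherianRing A] [IsNoetherianRing B] (I : Ideal A) (J : Ideal B)
    (hIJ : I.map (algebraMap A B) ≤ J) (P : Type u) [AddCommGroup P] [Module A P]
    (hP : IsAdicFree I P) :
    IsAdicFree J (AdicCompletion J (B ⊗[A] P)) := by
  obtain ⟨Z, ⟨e⟩⟩ := hP
  exact ⟨Z, main I J hIJ P Z e⟩


end Groth.Agent.S17550
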