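import Groth.Statements.S17551
import Mathlib
import Groth.Agent.S17547
import Groth.Agent.S17548

set_option autoImplicit false
universe u
open W4c5adicflatcompl
open CAlg

namespace Groth.Agent.S17551

section Sys

variable {A : Type u} [CommRing A]

theorem exists_compatible : ∀ (n : ℕ) (M : ℕ → Type u) [∀ n, AddCommGroup (M n)]
    [∀ n, Module A (M n)] (ψ : ∀ n, M (n + 1) →ₗ[A] M n)
    (_ : ∀ n, Function.Surjective (ψ n)) (m : M n),
    ∃ x : ∀ k, M k, (∀ k, ψ k (x (k + 1)) = x k) ∧ x n = m := by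
  intro n
  induction n with
  | zero =>
    intro M _ _ ψ hψ m
    refine ⟨fun k => Nat.rec (motive := fun k => M k) m
      (fun k y => Classical.choose (hψ k y)) k, fun k => ?_, rfl⟩
    exact Classical.choose_spec (hψ k (Nat.rec (motive := fun k => M k) m
      (fun k y => Classical.choose (hψ k y)) k))
  | succ n ih =>
    intro M _ _ ψ hψ m
    obtain ⟨x', hx', hm⟩ := ih (fun k => M (k + 1)) (fun k => ψ (k + 1))
      (fun k => hψ (k + 1)) m
    refine ⟨fun j => Nat.rec (motive := fun j => M j) (ψ 0 (x' 0)) (fun k _ => x' k) j,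
      fun k => ?_, hm⟩
    cases k with
    | zero => rfl
    | succ k => exact hx' k

theorem sysProj_surjective (M : ℕ → Type u) [∀ n, AddCommGroup (M n)]
    [∀ n, Module A (M n)] (ψ : ∀ n, M (n + 1) →ₗ[A] M n)
    (hψ : ∀ n, Function.Surjective (ψ n)) (n : ℕ) :
    Function.Surjective (sysProj M ψ n) := by
  intro m
  obtain ⟨x, hx, hm⟩ := exists_compatible n M ψ hψ m
  exact ⟨⟨x, hx⟩, hm⟩

theorem smul_eq_zero_of_mem {J : Ideal A} {N : Type u} [AddCommGroup N] [Module A N]
    [Module (A ⧸ J) N] [IsScalarTower A (A ⧸ J) N] (a : A) (ha : a ∈ J) (m : N) :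
    a • m = 0 := by
  rw [← algebraMap_smul (A ⧸ J) a m, Ideal.Quotient.algebraMap_eq,
    Ideal.Quotient.eq_zero_iff_mem.mpr ha, zero_smul]

variable (I : Ideal A) (M : ℕ → Type u) [∀ n, AddCommGroup (M n)] [∀ n, Module A (M n)]
    [∀ n, Module (A ⧸ I ^ (n + 1)) (M n)] [∀ n, IsScalarTower A (A ⧸ I ^ (n + 1)) (M n)]
    (ψ : ∀ n, M (n + 1) →ₗ[A] M n)

theorem smul_top_le_ker (n : ℕ) :
    (I ^ (n + 1) • ⊤ : Submodule A (sysLim M ψ)) ≤ LinearMap.ker (sysProj M ψ n) := by
  rw [Submodule.smul_le]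
  intro a ha x _
  rw [LinearMap.mem_ker, map_smul]
  exact smul_eq_zero_of_mem a ha _

omit [∀ n, Module (A ⧸ I ^ (n + 1)) (M n)] [∀ n, IsScalarTower A (A ⧸ I ^ (n + 1)) (M n)] in
theorem ker_anti (k : ℕ) :
    LinearMap.ker (sysProj M ψ (k + 1)) ≤ LinearMap.ker (sysProj M ψ k) := by
  intro x hx
  have hx2 : ∀ k, ψ k ((x : ∀ k, M k) (k + 1)) = (x : ∀ k, M k) k := x.2
  rw [LinearMap.mem_ker, sysProj_apply] at hx ⊢
  rw [← hx2 k, hx, map_zero]

omit [∀ n, Module (A ⧸ I ^ (n + 1)) (M n)] [∀ n, IsScalarTower A (A ⧸ I ^ (n + 1)) (M n)] in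
theorem ker_anti' {k k' : ℕ} (h : k ≤ k') :
    LinearMap.ker (sysProj M ψ k') ≤ LinearMap.ker (sysProj M ψ k) := by
  induction k', h using Nat.le_induction with
  | base => exact le_rfl
  | succ k' _ ih => exact (ker_anti M ψ k').trans ih

omit [∀ n, Module (A ⧸ I ^ (n + 1)) (M n)] [∀ n, IsScalarTower A (A ⧸ I ^ (n + 1)) (M n)] in
theorem ker_le_sup (hψ : ∀ n, Function.Surjective (ψ n))
    (hker : ∀ n, LinearMap.ker (ψ n) = (I ^ (n + 1) • ⊤ : Submodule A (M (n + 1)))) (k : ℕ) :
    LinearMap.ker (sysProj M ψ k) ≤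
      (I ^ (k + 1) • ⊤ : Submodule A (sysLim M ψ)) ⊔ LinearMap.ker (sysProj M ψ (k + 1)) := by
  intro x hx
  have hx2 : ∀ k, ψ k ((x : ∀ k, M k) (k + 1)) = (x : ∀ k, M k) k := x.2
  have h1 : (x : ∀ k, M k) (k + 1) ∈ (I ^ (k + 1) • ⊤ : Submodule A (M (k + 1))) := by
    rw [← hker k, LinearMap.mem_ker, hx2]
    exact LinearMap.mem_ker.mp hx
  have h2 : (I ^ (k + 1) • ⊤ : Submodule A (M (k + 1))) =
      Submodule.map (sysProj M ψ (k + 1)) (I ^ (k + 1) • ⊤) := by
    rw [Submodule.map_smul'', Submodule.map_top,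
      LinearMap.range_eq_top.mpr (sysProj_surjective M ψ hψ (k + 1))]
  rw [h2] at h1
  obtain ⟨y, hy, hyx⟩ := h1
  rw [Submodule.mem_sup]
  refine ⟨y, hy, x - y, ?_, add_sub_cancel y x⟩
  rw [LinearMap.mem_ker, map_sub, hyx]
  exact sub_self _

theorem ker_le (hψ : ∀ n, Function.Surjective (ψ n))
    (hker : ∀ n, LinearMap.ker (ψ n) = (I ^ (n + 1) • ⊤ : Submodule A (M (n + 1)))) (n : ℕ)
    (s : Finset A) (hs : Ideal.span (s : Set A) = I ^ (n + 1)) :
    LinearMap.ker (sysProj M ψ n) ≤ (I ^ (n + 1) • ⊤ : Submodule A (sysLim M ψ)) := by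
  intro x hx
  have hstep : ∀ (k : ℕ) (r : sysLim M ψ), ∃ r' : sysLim M ψ, sysProj M ψ k r = 0 →
      (sysProj M ψ (k + 1) r' = 0 ∧
        r - r' ∈ (I ^ (k + 1) • ⊤ : Submodule A (sysLim M ψ))) := by
    intro k r
    by_cases hr : sysProj M ψ k r = 0
    · obtain ⟨y, hy, z, hz, hyz⟩ := Submodule.mem_sup.mp
        (ker_le_sup I M ψ hψ hker k (LinearMap.mem_ker.mpr hr))
      refine ⟨z, fun _ => ⟨LinearMap.mem_ker.mp hz, ?_⟩⟩
      have h1 : r - z = y := by rw [← hyz]; exact add_sub_cancel_right y z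
      rw [h1]; exact hy
    · exact ⟨0, fun h => absurd h hr⟩
  choose g hg using hstep
  obtain ⟨r, hr0, hrs⟩ : ∃ r : ℕ → sysLim M ψ, r 0 = x ∧ ∀ m, r (m + 1) = g (n + m) (r m) :=
    ⟨fun m => Nat.rec x (fun m rm => g (n + m) rm) m, rfl, fun m => rfl⟩
  have hrker : ∀ m, sysProj M ψ (n + m) (r m) = 0 := by
    intro m
    induction m with
    | zero => rw [hr0]; exact LinearMap.mem_ker.mp hx
    | succ m ih => rw [hrs m]; exact (hg (n + m) (r m) ih).1
  have hrdiff : ∀ m, r m - r (m + 1) ∈ (I ^ (n + m + 1) • ⊤ : Submodule A (sysLim M ψ)) := by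
    intro m
    rw [hrs m]; exact (hg (n + m) (r m) (hrker m)).2
  have hdec : ∀ m, ∃ c : A → sysLim M ψ,
      (∀ a, c a ∈ (I ^ m • ⊤ : Submodule A (sysLim M ψ))) ∧
      r m - r (m + 1) = ∑ a ∈ s, a • c a := by
    intro m
    apply Groth.Agent.S17548.exists_sum_of_mem_span_smul s (I ^ m • ⊤) (r m - r (m + 1))
    rw [hs, ← Submodule.mul_smul, ← pow_add]
    have h1 : n + 1 + m = n + m + 1 := by omega
    rw [h1]; exact hrdiff m
  choose c hc hcsum using hdec
  have hvan : ∀ j a k, k < j → sysProj M ψ k (c j a) = 0 := by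
    intro j a k hkj
    have h1 : c j a ∈ (I ^ (k + 1) • ⊤ : Submodule A (sysLim M ψ)) :=
      Submodule.smul_mono_left (Ideal.pow_le_pow_right hkj) (hc j a)
    exact LinearMap.mem_ker.mp (smul_top_le_ker I M ψ k h1)
  have hcompat : ∀ j a k, ψ k (sysProj M ψ (k + 1) (c j a)) = sysProj M ψ k (c j a) := by
    intro j a k
    exact (c j a).2 k
  obtain ⟨Y, hY⟩ : ∃ Y : A → sysLim M ψ, ∀ a k, sysProj M ψ k (Y a) =
      ∑ j ∈ Finset.range (k + 1), sysProj M ψ k (c j a) := by
    refine ⟨fun a => ⟨fun k => ∑ j ∈ Finset.range (k + 1), sysProj M ψ k (c j a), ?_⟩,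
      fun a k => rfl⟩
    intro k
    show ψ k (∑ j ∈ Finset.range (k + 1 + 1), sysProj M ψ (k + 1) (c j a)) =
      ∑ j ∈ Finset.range (k + 1), sysProj M ψ k (c j a)
    rw [map_sum, Finset.sum_congr rfl (fun j _ => hcompat j a k), Finset.sum_range_succ,
      hvan (k + 1) a k (Nat.lt_succ_self k), add_zero]
  have hk : ∀ k, sysProj M ψ k x = sysProj M ψ k (∑ a ∈ s, a • Y a) := by
    intro k
    have htel : ∑ j ∈ Finset.range (k + 1), (r j - r (j + 1)) = x - r (k + 1) := by
      rw [Finset.sum_range_sub', hr0]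
    have hrk : sysProj M ψ k (r (k + 1)) = 0 :=
      LinearMap.mem_ker.mp (ker_anti' M ψ (by omega : k ≤ n + (k + 1))
        (LinearMap.mem_ker.mpr (hrker (k + 1))))
    have h1 : sysProj M ψ k x =
        ∑ j ∈ Finset.range (k + 1), sysProj M ψ k (r j - r (j + 1)) := by
      rw [← map_sum, htel, map_sub, hrk, sub_zero]
    rw [h1, map_sum]
    have h2 : ∀ a, sysProj M ψ k (a • Y a) =
        ∑ j ∈ Finset.range (k + 1), a • sysProj M ψ k (c j a) := by
      intro a
      rw [map_smul, hY a k, Finset.smul_sum]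
    rw [Finset.sum_congr rfl (fun a _ => h2 a), Finset.sum_comm]
    refine Finset.sum_congr rfl fun j _ => ?_
    rw [hcsum j, map_sum]
    refine Finset.sum_congr rfl fun a _ => ?_
    rw [map_smul]
  have hx_eq : x = ∑ a ∈ s, a • Y a := by
    apply Subtype.ext
    funext k
    exact hk k
  rw [hx_eq]
  refine Submodule.sum_mem _ fun a ha => Submodule.smul_mem_smul ?_ Submodule.mem_top
  rw [← hs]; exact Ideal.subset_span ha

omit [∀ n, Module (A ⧸ I ^ (n + 1)) (M n)] [∀ n, IsScalarTower A (A ⧸ I ^ (n + 1)) (M n)] in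
theorem isAdicComplete_sysLim
    (hkereq : ∀ n, LinearMap.ker (sysProj M ψ n) =
      (I ^ (n + 1) • ⊤ : Submodule A (sysLim M ψ))) :
    IsAdicComplete I (sysLim M ψ) := by
  haveI h1 : IsHausdorff I (sysLim M ψ) := by
    refine ⟨fun x hx => ?_⟩
    apply Subtype.ext
    funext k
    have h1 : x ∈ (I ^ (k + 1) • ⊤ : Submodule A (sysLim M ψ)) := by
      have h2 := hx (k + 1)
      rwa [SModEq.zero] at h2
    rw [← hkereq k] at h1
    exact LinearMap.mem_ker.mp h1
  haveI h2 : IsPrecomplete I (sysLim M ψ) := by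
    refine ⟨fun f hf => ?_⟩
    have hfk : ∀ k, sysProj M ψ k (f (k + 1 + 1)) = sysProj M ψ k (f (k + 1)) := by
      intro k
      have h1 : f (k + 1) - f (k + 1 + 1) ∈ (I ^ (k + 1) • ⊤ : Submodule A (sysLim M ψ)) :=
        SModEq.sub_mem.mp (hf (Nat.le_succ (k + 1)))
      rw [← hkereq k, LinearMap.mem_ker, map_sub, sub_eq_zero] at h1
      exact h1.symm
    refine ⟨⟨fun k => sysProj M ψ k (f (k + 1)), fun k => ?_⟩, fun n => ?_⟩
    · show ψ k (sysProj M ψ (k + 1) (f (k + 1 + 1))) = sysProj M ψ k (f (k + 1))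
      have h3 : ψ k (sysProj M ψ (k + 1) (f (k + 1 + 1))) = sysProj M ψ k (f (k + 1 + 1)) :=
        (f (k + 1 + 1)).2 k
      rw [h3]; exact hfk k
    · cases n with
      | zero => rw [pow_zero, Ideal.one_eq_top, Submodule.top_smul]; exact SModEq.top
      | succ n =>
        rw [SModEq.sub_mem, ← hkereq n, LinearMap.mem_ker, map_sub, sub_eq_zero]
        rfl
  exact ⟨⟩

end Sys

section Free

variable {A : Type u} [CommRing A] [IsNoetherianRing A] (I : Ideal A) [I.IsMaximal]

theorem free_of_levels (L : Type u) [AddCommGroup L] [Module A L] [IsAdicComplete I L]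
    (N : ℕ → Type u) [∀ n, AddCommGroup (N n)] [∀ n, Module A (N n)]
    [∀ n, Module (A ⧸ I ^ (n + 1)) (N n)] [∀ n, IsScalarTower A (A ⧸ I ^ (n + 1)) (N n)]
    [∀ n, Module.Flat (A ⧸ I ^ (n + 1)) (N n)]
    (p : ∀ n, L →ₗ[A] N n) (hp : ∀ n, Function.Surjective (p n))
    (hpk : ∀ n, LinearMap.ker (p n) = (I ^ (n + 1) • ⊤ : Submodule A L)) :
    IsAdicFree I L := by
  classical
  letI : Field (A ⧸ I) := Ideal.Quotient.field _
  obtain ⟨b, -⟩ : ∃ b : Module.Basis
      (Module.Basis.ofVectorSpaceIndex (A ⧸ I) (L ⧸ (I • ⊤ : Submodule A L)))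
      (A ⧸ I) (L ⧸ (I • ⊤ : Submodule A L)), True :=
    ⟨Module.Basis.ofVectorSpace _ _, trivial⟩
  choose x hx using fun z => Submodule.Quotient.mk_surjective
    (I • ⊤ : Submodule A L) (b z)
  obtain ⟨φ, hφ, -⟩ := Groth.Agent.S17548.result I _ L x
  haveI hDc := Groth.Agent.S17547.result I
    (Module.Basis.ofVectorSpaceIndex (A ⧸ I) (L ⧸ (I • ⊤ : Submodule A L))) A
  -- surjectivity
  have hsurj : Function.Surjective φ := by
    apply surjective_of_mkQ_comp_surjective (I := I)
    intro v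
    have hv : v ∈ Submodule.span (A ⧸ I) (Set.range b) := by
      rw [b.span_eq]; exact Submodule.mem_top
    refine Submodule.span_induction (p := fun v _ => ∃ d,
      ((I • ⊤ : Submodule A L).mkQ ∘ₗ φ) d = v) ?_ ?_ ?_ ?_ hv
    · rintro _ ⟨z, rfl⟩
      refine ⟨single I z 1, ?_⟩
      rw [LinearMap.comp_apply, hφ, Submodule.mkQ_apply, hx]
    · exact ⟨0, map_zero _⟩
    · rintro v v' _ _ ⟨d, hd⟩ ⟨d', hd'⟩
      exact ⟨d + d', by rw [map_add, hd, hd']⟩
    · rintro c v _ ⟨d, hd⟩
      obtain ⟨a, rfl⟩ := Ideal.Quotient.mk_surjective c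
      refine ⟨a • d, ?_⟩
      rw [map_smul, hd]
      obtain ⟨m, rfl⟩ := Submodule.Quotient.mk_surjective _ v
      rfl
  -- preimage of I • ⊤ inside I • ⊤
  have hker1 : ∀ d, φ d ∈ (I • ⊤ : Submodule A L) → d ∈ (I • ⊤ :
      Submodule A (decaying I _ (AdicCompletion I A))) := by
    intro d hd
    have hsup := Groth.Agent.S17548.mem_span_single_sup I _ 1 d
    rw [pow_one] at hsup
    obtain ⟨u, hu, w, hw, rfl⟩ := Submodule.mem_sup.mp hsup
    obtain ⟨c, rfl⟩ := Finsupp.mem_span_range_iff_exists_finsupp.mp hu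
    have hφu : φ (c.sum fun z a => a • single I z
        (1 : AdicCompletion I A)) =
        Finsupp.linearCombination A x c := by
      rw [map_finsuppSum, Finsupp.linearCombination_apply]
      refine Finsupp.sum_congr fun z _ => ?_
      rw [map_smul, hφ]
    have hmem : Finsupp.linearCombination A x c ∈ (I • ⊤ : Submodule A L) := by
      rw [map_add, hφu] at hd
      have h1 := Submodule.sub_mem _ hd
        (Groth.Agent.S17547.map_mem_smul_top' I φ w hw)
      rwa [add_sub_cancel_right] at h1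
    have hkey : ∀ c : _ →₀ A, Finsupp.linearCombination (A ⧸ I) b
        (Finsupp.mapRange (Ideal.Quotient.mk I) (map_zero _) c) =
        Submodule.Quotient.mk (Finsupp.linearCombination A x c) := by
      intro c
      induction c using Finsupp.induction_linear with
      | zero =>
        rw [Finsupp.mapRange_zero, map_zero, map_zero]
        rfl
      | add f g hf hg =>
        rw [Finsupp.mapRange_add (fun _ _ => map_add _ _ _), map_add, map_add, hf, hg]
        rfl
      | single z a =>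
        rw [Finsupp.mapRange_single, Finsupp.linearCombination_single,
          Finsupp.linearCombination_single, ← hx]
        rfl
    have hc0 : Finsupp.mapRange (Ideal.Quotient.mk I) (map_zero _) c = 0 := by
      apply (linearIndependent_iff.mp b.linearIndependent)
      rw [hkey, Submodule.Quotient.mk_eq_zero]
      exact hmem
    have hcm : ∀ z, c z ∈ I := by
      intro z
      have h1 := DFunLike.congr_fun hc0 z
      rw [Finsupp.mapRange_apply, Finsupp.zero_apply, Ideal.Quotient.eq_zero_iff_mem] at h1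
      exact h1
    refine Submodule.add_mem _ ?_ hw
    rw [Finsupp.sum]
    exact Submodule.sum_mem _ fun z _ => Submodule.smul_mem_smul (hcm z) Submodule.mem_top
  -- flatness step
  have hsurj2 : ∀ (n : ℕ) (m : N n), ∃ d, p n (φ d) = m := by
    intro n m
    obtain ⟨l, hl⟩ := hp n m
    obtain ⟨d, hd⟩ := hsurj l
    exact ⟨d, by rw [hd, hl]⟩
  have hker2 : ∀ (n : ℕ) (d : decaying I _ (AdicCompletion I A)),
      φ d ∈ (I ^ (n + 1) • ⊤ : Submodule A L) →
      d ∈ (I • ⊤ : Submodule A (decaying I _ (AdicCompletion I A))) →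
      d ∈ I • Submodule.comap φ (I ^ (n + 1) • ⊤ : Submodule A L) ⊔
        (I ^ (n + 1) • ⊤ : Submodule A (decaying I _ (AdicCompletion I A))) := by
    intro n d hd hdm
    obtain ⟨s, hs⟩ : I.FG := (isNoetherianRing_iff_ideal_fg A).mp inferInstance _
    have hdm' : d ∈ (Ideal.span (s : Set A) • ⊤ :
        Submodule A (decaying I _ (AdicCompletion I A))) := by
      rw [hs]; exact hdm
    obtain ⟨c, -, hsum⟩ := Groth.Agent.S17548.exists_sum_of_mem_span_smul s ⊤ d hdm'
    have hpd : p n (φ d) = 0 := by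
      rw [← LinearMap.mem_ker, hpk n]; exact hd
    have h0 : ∑ i : s, (Ideal.Quotient.mk (I ^ (n + 1)) (i : A)) • p n (φ (c i)) = 0 := by
      have h1 : ∀ i : s, (Ideal.Quotient.mk (I ^ (n + 1)) (i : A)) • p n (φ (c i)) =
          p n (φ ((i : A) • c i)) := by
        intro i
        rw [map_smul, map_smul]
        exact algebraMap_smul (A ⧸ I ^ (n + 1)) (i : A) (p n (φ (c i)))
      rw [Finset.sum_congr rfl fun i _ => h1 i,
        Finset.sum_coe_sort s (fun a => p n (φ (a • c a))), ← map_sum, ← map_sum, ← hsum, hpd]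
    obtain ⟨κ, α, y, hy1, hy2⟩ := Module.Flat.isTrivialRelation_of_sum_smul_eq_zero h0
    choose α' hα' using fun i j => Ideal.Quotient.mk_surjective (α i j)
    choose d' hd' using fun j => hsurj2 n (y j)
    have hy1' : ∀ i : s, p n (φ (c i)) = ∑ j, α i j • y j := hy1
    have hy2' : ∀ j, ∑ i : s, Ideal.Quotient.mk (I ^ (n + 1)) (i : A) * α i j = 0 := hy2
    have hmemK : ∀ i : s, c i - ∑ j, α' i j • d' j ∈
        Submodule.comap φ (I ^ (n + 1) • ⊤ : Submodule A L) := by
      intro i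
      rw [Submodule.mem_comap, ← hpk n, LinearMap.mem_ker, map_sub, map_sub, map_sum, map_sum,
        hy1' i, sub_eq_zero]
      refine Finset.sum_congr rfl fun j _ => ?_
      rw [map_smul, map_smul, hd', ← hα' i j]
      exact algebraMap_smul (A ⧸ I ^ (n + 1)) (α' i j) (y j)
    have hβ : ∀ j, ∑ i : s, (i : A) * α' i j ∈ I ^ (n + 1) := by
      intro j
      have h1 : Ideal.Quotient.mk (I ^ (n + 1)) (∑ i : s, (i : A) * α' i j) =
          ∑ i : s, Ideal.Quotient.mk (I ^ (n + 1)) (i : A) * α i j := by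
        rw [map_sum]
        refine Finset.sum_congr rfl fun i _ => ?_
        rw [map_mul, hα' i j]
      rw [← Ideal.Quotient.eq_zero_iff_mem, h1]
      exact hy2' j
    have hd_eq : d = ∑ i : s, (i : A) • (c i - ∑ j, α' i j • d' j) +
        ∑ j, (∑ i : s, (i : A) * α' i j) • d' j := by
      have h1 : ∀ i : s, (i : A) • ∑ j, α' i j • d' j = ∑ j, ((i : A) * α' i j) • d' j := by
        intro i
        rw [Finset.smul_sum]
        refine Finset.sum_congr rfl fun j _ => ?_
        rw [mul_smul]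
      have h2 : ∑ i : s, (i : A) • (c i - ∑ j, α' i j • d' j) =
          ∑ i : s, (i : A) • c i - ∑ i : s, (i : A) • ∑ j, α' i j • d' j := by
        rw [← Finset.sum_sub_distrib]
        refine Finset.sum_congr rfl fun i _ => ?_
        rw [smul_sub]
      have h3 : ∑ i : s, (i : A) • ∑ j, α' i j • d' j =
          ∑ j, (∑ i : s, (i : A) * α' i j) • d' j := by
        rw [Finset.sum_congr rfl fun i _ => h1 i, Finset.sum_comm]
        refine Finset.sum_congr rfl fun j _ => ?_
        rw [Finset.sum_smul]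
      rw [h2, h3, sub_add_cancel, Finset.sum_coe_sort s (fun a => a • c a)]
      exact hsum
    rw [hd_eq]
    refine Submodule.add_mem _ (Submodule.mem_sup_left ?_) (Submodule.mem_sup_right ?_)
    · refine Submodule.sum_mem _ fun i _ => Submodule.smul_mem_smul ?_ (hmemK i)
      have hi : (i : A) ∈ Ideal.span (s : Set A) := Ideal.subset_span i.2
      rw [hs] at hi
      exact hi
    · exact Submodule.sum_mem _ fun j _ => Submodule.smul_mem_smul (hβ j) Submodule.mem_top
  have hKn : ∀ (n k : ℕ), k ≤ n + 1 →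
      Submodule.comap φ (I ^ (n + 1) • ⊤ : Submodule A L) ≤
        (I ^ k • ⊤ : Submodule A (decaying I _ (AdicCompletion I A))) := by
    intro n k
    induction k with
    | zero =>
      intro _
      rw [pow_zero, Ideal.one_eq_top, Submodule.top_smul]; exact le_top
    | succ k ih =>
      intro hk d hd
      have hd1 : φ d ∈ (I ^ (n + 1) • ⊤ : Submodule A L) := hd
      have hd2 : φ d ∈ (I • ⊤ : Submodule A L) :=
        Submodule.smul_mono_left (Ideal.pow_le_self (Nat.succ_ne_zero n)) hd1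
      have h3 := hker2 n d hd1 (hker1 d hd2)
      obtain ⟨u, hu, w, hw, huw⟩ := Submodule.mem_sup.mp h3
      rw [← huw]
      refine Submodule.add_mem _ ?_ ?_
      · have h4 : I • Submodule.comap φ (I ^ (n + 1) • ⊤ : Submodule A L) ≤
            I • (I ^ k • ⊤ : Submodule A (decaying I _ (AdicCompletion I A))) :=
          Submodule.smul_mono le_rfl (ih (by omega))
        have h5 := h4 hu
        rw [← Submodule.mul_smul, ← pow_succ'] at h5
        exact h5
      · exact Submodule.smul_mono_left (Ideal.pow_le_pow_right hk) hw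
  have hinj : Function.Injective φ := by
    rw [injective_iff_map_eq_zero]
    intro d hd
    apply IsHausdorff.haus' (I := I)
    intro n
    rw [SModEq.zero]
    refine Submodule.smul_mono_left (Ideal.pow_le_pow_right (Nat.le_succ n))
      (hKn n (n + 1) le_rfl ?_)
    show φ d ∈ (I ^ (n + 1) • ⊤ : Submodule A L)
    rw [hd]; exact Submodule.zero_mem _
  exact ⟨_, ⟨(LinearEquiv.ofBijective φ ⟨hinj, hsurj⟩).symm⟩⟩

end Free



/-- For a complete Noetherian local ring A (maximal ideal m, m-adic completion Â) and an m-adic system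
(M n, ψ n : M (n+1) → M n) of A-modules, meaning that each M n is a module over A/m^(n+1) and each ψ
n is surjective with kernel m^(n+1) M (n+1), if every M n is flat over A/m^(n+1) then the inverse
limit of the system is m-adically free (isomorphic to the m-adically decaying functions Z → Â for
some set Z), and for every n its projection to M n is surjective with kernel m^(n+1) times the
limit. A, the M n and Z share one universe. -/
theorem result {A : Type u} [CommRing A] [IsNoetherianRing A] [IsLocalRing A]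
    [IsAdicComplete (IsLocalRing.maximalIdeal A) A]
    (M : ℕ → Type u) [∀ n, AddCommGroup (M n)] [∀ n, Module A (M n)]
    [∀ n, Module (A ⧸ IsLocalRing.maximalIdeal A ^ (n + 1)) (M n)]
    [∀ n, IsScalarTower A (A ⧸ IsLocalRing.maximalIdeal A ^ (n + 1)) (M n)]
    [∀ n, Module.Flat (A ⧸ IsLocalRing.maximalIdeal A ^ (n + 1)) (M n)]
    (ψ : ∀ n, M (n + 1) →ₗ[A] M n) (hψ : ∀ n, Function.Surjective (ψ n))
    (hker : ∀ n, LinearMap.ker (ψ n) =
      (IsLocalRing.maximalIdeal A ^ (n + 1) • ⊤ : Submodule A (M (n + 1)))) :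
    IsAdicFree (IsLocalRing.maximalIdeal A) (sysLim M ψ) ∧
      ∀ n, Function.Surjective (sysProj M ψ n) ∧
        LinearMap.ker (sysProj M ψ n) =
          (IsLocalRing.maximalIdeal A ^ (n + 1) • ⊤ : Submodule A (sysLim M ψ)) := by
  have hfg : ∀ n : ℕ, ∃ s : Finset A, Ideal.span (s : Set A) =
      IsLocalRing.maximalIdeal A ^ (n + 1) :=
    fun n => (isNoetherianRing_iff_ideal_fg A).mp inferInstance _
  have hkereq : ∀ n, LinearMap.ker (sysProj M ψ n) =
      (IsLocalRing.maximalIdeal A ^ (n + 1) • ⊤ : Submodule A (sysLim M ψ)) := by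
    intro n
    obtain ⟨s, hs⟩ := hfg n
    exact le_antisymm (ker_le (IsLocalRing.maximalIdeal A) M ψ hψ hker n s hs)
      (smul_top_le_ker (IsLocalRing.maximalIdeal A) M ψ n)
  have hsurj := sysProj_surjective M ψ hψ
  haveI := isAdicComplete_sysLim (IsLocalRing.maximalIdeal A) M ψ hkereq
  exact ⟨free_of_levels (IsLocalRing.maximalIdeal A) (sysLim M ψ) M (sysProj M ψ) hsurj hkereq,
    fun n => ⟨hsurj n, hkereq n⟩⟩


end Groth.Agent.S17551
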