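import Groth.Statements.S17552
import Mathlib
import Groth.Agent.S17547
import Groth.Agent.S17548
import Groth.Agent.S17545

set_option autoImplicit false
universe u
open W4c5adicflatcompl
open CAlg

namespace Groth.Agent.S17552

section

variable {A : Type u} [CommRing A] (I : Ideal A)

noncomputable def decMap (Z : Type u) {N N' : Type u} [AddCommGroup N] [Module A N]
    [AddCommGroup N'] [Module A N'] (β : N →ₗ[A] N') :
    decaying I Z N →ₗ[A] decaying I Z N' where
  toFun f := ⟨fun z => β ((f : Z → N) z), by
    rw [mem_decaying_iff]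
    intro n
    refine ((mem_decaying_iff _).mp f.2 n).subset ?_
    intro z hz hin
    exact hz (Groth.Agent.S17547.map_mem_smul_top' (I ^ n) β _ hin)⟩
  map_add' f g := by
    apply Subtype.ext
    funext z
    show β (((f + g : decaying I Z N) : Z → N) z) = β ((f : Z → N) z) + β ((g : Z → N) z)
    rw [Submodule.coe_add, Pi.add_apply, map_add]
  map_smul' a f := by
    apply Subtype.ext
    funext z
    show β (((a • f : decaying I Z N) : Z → N) z) = a • β ((f : Z → N) z)
    rw [Submodule.coe_smul, Pi.smul_apply, map_smul]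

noncomputable def decCongr (Z : Type u) {N N' : Type u} [AddCommGroup N] [Module A N]
    [AddCommGroup N'] [Module A N'] (α : N ≃ₗ[A] N') :
    decaying I Z N ≃ₗ[A] decaying I Z N' :=
  LinearEquiv.ofLinearMap (decMap I Z α.toLinearMap) (decMap I Z α.symm.toLinearMap)
    (by
      apply LinearMap.ext
      intro f
      apply Subtype.ext
      funext z
      exact α.apply_symm_apply _)
    (by
      apply LinearMap.ext
      intro f
      apply Subtype.ext
      funext z
      exact α.symm_apply_apply _)

end

section Local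

variable {A : Type u} [CommRing A] [IsNoetherianRing A] [IsLocalRing A]

theorem free_of_flat_complete (M : Type u) [AddCommGroup M] [Module A M] [Module.Flat A M]
    [IsAdicComplete (IsLocalRing.maximalIdeal A) M] :
    IsAdicFree (IsLocalRing.maximalIdeal A) M := by
  classical
  letI : Field (A ⧸ IsLocalRing.maximalIdeal A) := Ideal.Quotient.field _
  obtain ⟨b, -⟩ : ∃ b : Module.Basis
      (Module.Basis.ofVectorSpaceIndex (A ⧸ IsLocalRing.maximalIdeal A)
        (M ⧸ (IsLocalRing.maximalIdeal A • ⊤ : Submodule A M)))
      (A ⧸ IsLocalRing.maximalIdeal A)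
      (M ⧸ (IsLocalRing.maximalIdeal A • ⊤ : Submodule A M)), True :=
    ⟨Module.Basis.ofVectorSpace _ _, trivial⟩
  choose x hx using fun z => Submodule.Quotient.mk_surjective
    (IsLocalRing.maximalIdeal A • ⊤ : Submodule A M) (b z)
  obtain ⟨φ, hφ, -⟩ := Groth.Agent.S17548.result (IsLocalRing.maximalIdeal A) _ M x
  haveI hDc := Groth.Agent.S17547.result (IsLocalRing.maximalIdeal A)
    (Module.Basis.ofVectorSpaceIndex (A ⧸ IsLocalRing.maximalIdeal A)
        (M ⧸ (IsLocalRing.maximalIdeal A • ⊤ : Submodule A M))) A
  -- surjectivity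
  have hsurj : Function.Surjective φ := by
    apply surjective_of_mkQ_comp_surjective (I := IsLocalRing.maximalIdeal A)
    intro v
    have hv : v ∈ Submodule.span (A ⧸ IsLocalRing.maximalIdeal A) (Set.range b) := by
      rw [b.span_eq]; exact Submodule.mem_top
    refine Submodule.span_induction (p := fun v _ => ∃ d,
      ((IsLocalRing.maximalIdeal A • ⊤ : Submodule A M).mkQ ∘ₗ φ) d = v) ?_ ?_ ?_ ?_ hv
    · rintro _ ⟨z, rfl⟩
      refine ⟨single (IsLocalRing.maximalIdeal A) z 1, ?_⟩
      rw [LinearMap.comp_apply, hφ, Submodule.mkQ_apply, hx]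
    · exact ⟨0, map_zero _⟩
    · rintro v v' _ _ ⟨d, hd⟩ ⟨d', hd'⟩
      exact ⟨d + d', by rw [map_add, hd, hd']⟩
    · rintro c v _ ⟨d, hd⟩
      obtain ⟨a, rfl⟩ := Ideal.Quotient.mk_surjective c
      refine ⟨a • d, ?_⟩
      rw [map_smul, hd]
      obtain ⟨m, rfl⟩ := Submodule.Quotient.mk_surjective _ v
      rfl
  -- kernel inside 𝔪 • ⊤
  have hker1 : ∀ d, φ d = 0 → d ∈ (IsLocalRing.maximalIdeal A • ⊤ :
      Submodule A (decaying (IsLocalRing.maximalIdeal A) _ (AdicCompletion
        (IsLocalRing.maximalIdeal A) A))) := by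
    intro d hd
    have hsup := Groth.Agent.S17548.mem_span_single_sup (IsLocalRing.maximalIdeal A) _ 1 d
    rw [pow_one] at hsup
    obtain ⟨u, hu, w, hw, rfl⟩ := Submodule.mem_sup.mp hsup
    obtain ⟨c, rfl⟩ := Finsupp.mem_span_range_iff_exists_finsupp.mp hu
    have hφu : φ (c.sum fun z a => a • single (IsLocalRing.maximalIdeal A) z
        (1 : AdicCompletion (IsLocalRing.maximalIdeal A) A)) =
        Finsupp.linearCombination A x c := by
      rw [map_finsuppSum, Finsupp.linearCombination_apply]
      refine Finsupp.sum_congr fun z _ => ?_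
      rw [map_smul, hφ]
    have hmem : Finsupp.linearCombination A x c ∈
        (IsLocalRing.maximalIdeal A • ⊤ : Submodule A M) := by
      rw [map_add, hφu] at hd
      have h1 : Finsupp.linearCombination A x c = -φ w := eq_neg_of_add_eq_zero_left hd
      rw [h1]
      exact Submodule.neg_mem _
        (Groth.Agent.S17547.map_mem_smul_top' (IsLocalRing.maximalIdeal A) φ w hw)
    have hkey : ∀ c : _ →₀ A, Finsupp.linearCombination (A ⧸ IsLocalRing.maximalIdeal A) b
        (Finsupp.mapRange (Ideal.Quotient.mk (IsLocalRing.maximalIdeal A)) (map_zero _) c) =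
        Submodule.Quotient.mk (Finsupp.linearCombination A x c) := by
      intro c
      induction c using Finsupp.induction_linear with
      | zero =>
        rw [Finsupp.mapRange_zero, map_zero, map_zero]
        rfl
      | add f g hf hg =>
        rw [Finsupp.mapRange_add (fun _ _ => map_add _ _ _), map_add, map_add, hf, hg]
        rfl
      | single z a =>
        rw [Finsupp.mapRange_single, Finsupp.linearCombination_single,
          Finsupp.linearCombination_single, ← hx]
        rfl
    have hc0 : Finsupp.mapRange (Ideal.Quotient.mk (IsLocalRing.maximalIdeal A)) (map_zero _) c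
        = 0 := by
      apply (linearIndependent_iff.mp b.linearIndependent)
      rw [hkey, Submodule.Quotient.mk_eq_zero]
      exact hmem
    have hcm : ∀ z, c z ∈ IsLocalRing.maximalIdeal A := by
      intro z
      have h1 := DFunLike.congr_fun hc0 z
      rw [Finsupp.mapRange_apply, Finsupp.zero_apply, Ideal.Quotient.eq_zero_iff_mem] at h1
      exact h1
    refine Submodule.add_mem _ ?_ hw
    rw [Finsupp.sum]
    exact Submodule.sum_mem _ fun z _ => Submodule.smul_mem_smul (hcm z) Submodule.mem_top
  -- flatness step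
  have hker2 : ∀ d, φ d = 0 → d ∈ (IsLocalRing.maximalIdeal A • ⊤ :
      Submodule A (decaying (IsLocalRing.maximalIdeal A) _ (AdicCompletion
        (IsLocalRing.maximalIdeal A) A))) →
      d ∈ IsLocalRing.maximalIdeal A • LinearMap.ker φ := by
    intro d hd hdm
    obtain ⟨s, hs⟩ : (IsLocalRing.maximalIdeal A).FG :=
      (isNoetherianRing_iff_ideal_fg A).mp inferInstance _
    have hdm' : d ∈ (Ideal.span (s : Set A) • ⊤ : Submodule A (decaying
        (IsLocalRing.maximalIdeal A) _ (AdicCompletion (IsLocalRing.maximalIdeal A) A))) := by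
      rw [hs]; exact hdm
    obtain ⟨c, -, hsum⟩ := Groth.Agent.S17548.exists_sum_of_mem_span_smul s ⊤ d hdm'
    have h0 : ∑ i : s, (i : A) • φ (c i) = 0 := by
      rw [Finset.sum_coe_sort s (fun a => a • φ (c a)), ← hd, hsum, map_sum]
      refine Finset.sum_congr rfl fun a _ => ?_
      rw [map_smul]
    obtain ⟨κ, α, y, hy1, hy2⟩ := Module.Flat.isTrivialRelation_of_sum_smul_eq_zero h0
    choose d' hd' using fun j => hsurj (y j)
    have hmemK : ∀ i : s, c i - ∑ j, α i j • d' j ∈ LinearMap.ker φ := by
      intro i
      have hy1' : φ (c i) = ∑ j, α i j • y j := hy1 i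
      rw [LinearMap.mem_ker, map_sub, map_sum, hy1', sub_eq_zero]
      refine Finset.sum_congr rfl fun j _ => ?_
      rw [map_smul, hd']
    have hzero : ∑ i : s, (i : A) • ∑ j, α i j • d' j = 0 := by
      have h1 : ∀ i : s, (i : A) • ∑ j, α i j • d' j = ∑ j, ((i : A) * α i j) • d' j := by
        intro i
        rw [Finset.smul_sum]
        refine Finset.sum_congr rfl fun j _ => ?_
        rw [mul_smul]
      rw [Finset.sum_congr rfl fun i _ => h1 i, Finset.sum_comm]
      refine Finset.sum_eq_zero fun j _ => ?_
      rw [← Finset.sum_smul, hy2 j, zero_smul]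
    have hd_eq : d = ∑ i : s, (i : A) • (c i - ∑ j, α i j • d' j) := by
      have h2 : ∑ i : s, (i : A) • (c i - ∑ j, α i j • d' j) =
          ∑ i : s, (i : A) • c i - ∑ i : s, (i : A) • ∑ j, α i j • d' j := by
        rw [← Finset.sum_sub_distrib]
        refine Finset.sum_congr rfl fun i _ => ?_
        rw [smul_sub]
      rw [h2, hzero, sub_zero, Finset.sum_coe_sort s (fun a => a • c a)]
      exact hsum
    rw [hd_eq]
    refine Submodule.sum_mem _ fun i _ => Submodule.smul_mem_smul ?_ (hmemK i)
    have hi : (i : A) ∈ Ideal.span (s : Set A) := Ideal.subset_span i.2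
    rw [hs] at hi
    exact hi
  have hK : LinearMap.ker φ ≤ IsLocalRing.maximalIdeal A • LinearMap.ker φ := by
    intro d hd
    exact hker2 d (LinearMap.mem_ker.mp hd) (hker1 d (LinearMap.mem_ker.mp hd))
  have hKn : ∀ n : ℕ, LinearMap.ker φ ≤ (IsLocalRing.maximalIdeal A ^ n • ⊤ :
      Submodule A (decaying (IsLocalRing.maximalIdeal A) _ (AdicCompletion
        (IsLocalRing.maximalIdeal A) A))) := by
    intro n
    induction n with
    | zero => rw [pow_zero, Ideal.one_eq_top, Submodule.top_smul]; exact le_top
    | succ n ih =>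
      refine hK.trans ?_
      rw [pow_succ', Submodule.mul_smul]
      exact Submodule.smul_mono le_rfl ih
  have hinj : Function.Injective φ := by
    rw [injective_iff_map_eq_zero]
    intro d hd
    apply IsHausdorff.haus' (I := IsLocalRing.maximalIdeal A)
    intro n
    rw [SModEq.zero]
    exact hKn n (LinearMap.mem_ker.mpr hd)
  exact ⟨_, ⟨(LinearEquiv.ofBijective φ ⟨hinj, hsurj⟩).symm⟩⟩

end Local



/-- For a complete Noetherian local ring A (maximal ideal m, m-adic completion Â), an A-module M is
isomorphic to the module of m-adically decaying functions Z → Â for some set Z (m-adically free)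
exactly when M is flat and m-adically complete. M and Z live in the universe of A. -/
theorem result {A : Type u} [CommRing A] [IsNoetherianRing A] [IsLocalRing A]
    [IsAdicComplete (IsLocalRing.maximalIdeal A) A]
    (M : Type u) [AddCommGroup M] [Module A M] :
    IsAdicFree (IsLocalRing.maximalIdeal A) M ↔
      Module.Flat A M ∧ IsAdicComplete (IsLocalRing.maximalIdeal A) M := by
  constructor
  · rintro ⟨Z, ⟨e⟩⟩
    haveI hDc : IsAdicComplete (IsLocalRing.maximalIdeal A)
        (decaying (IsLocalRing.maximalIdeal A) Z (AdicCompletion (IsLocalRing.maximalIdeal A) A)) :=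
      Groth.Agent.S17547.result (IsLocalRing.maximalIdeal A) Z A
    refine ⟨?_, Groth.Agent.S17547.isAdicComplete_of_equiv (IsLocalRing.maximalIdeal A) e.symm⟩
    haveI : Module.Flat A (decaying (IsLocalRing.maximalIdeal A) Z A) :=
      Groth.Agent.S17545.result (IsLocalRing.maximalIdeal A) Z
    haveI : Module.Flat A (decaying (IsLocalRing.maximalIdeal A) Z
        (AdicCompletion (IsLocalRing.maximalIdeal A) A)) :=
      Module.Flat.of_linearEquiv (decCongr (IsLocalRing.maximalIdeal A) Z
        (AdicCompletion.ofLinearEquiv (IsLocalRing.maximalIdeal A) A)).symm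
    exact Module.Flat.of_linearEquiv e
  · rintro ⟨hflat, hcomp⟩
    exact free_of_flat_complete M


end Groth.Agent.S17552
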