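import Groth.Statements.S17553
import Mathlib.RingTheory.AdicCompletion.Basic
import Mathlib.Tactic.Abel

set_option autoImplicit false
universe u v w
open W4c5adicflatcompl
open CAlg

namespace Groth.Agent.S17553

section
variable {A : Type u} [CommRing A] (I : Ideal A) {Z : Type v} {M : Type w} [AddCommGroup M] [Module A M]
  (f : Z → M)

/-- `L` is the `I`-adic (unconditional) sum of the `g z • f z`. -/
def IsSum (g : Z → A) (L : M) : Prop :=
  ∀ n : ℕ, ∃ S₀ : Finset Z, ∀ S : Finset Z, S₀ ⊆ S →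
    L - ∑ z ∈ S, g z • f z ∈ (I ^ n • ⊤ : Submodule A M)

lemma IsSum.add {g h : Z → A} {L L' : M} (hg : IsSum I f g L) (hh : IsSum I f h L') :
    IsSum I f (g + h) (L + L') := by
  classical
  intro n
  obtain ⟨S₁, h₁⟩ := hg n
  obtain ⟨S₂, h₂⟩ := hh n
  refine ⟨S₁ ∪ S₂, fun S hS => ?_⟩
  have e : L + L' - ∑ z ∈ S, (g + h) z • f z =
      (L - ∑ z ∈ S, g z • f z) + (L' - ∑ z ∈ S, h z • f z) := by
    simp only [Pi.add_apply, add_smul, Finset.sum_add_distrib]
    abel
  rw [e]
  exact add_mem (h₁ S (Finset.union_subset_left hS)) (h₂ S (Finset.union_subset_right hS))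

lemma IsSum.smul {g : Z → A} {L : M} (a : A) (hg : IsSum I f g L) :
    IsSum I f (a • g) (a • L) := by
  intro n
  obtain ⟨S₁, h₁⟩ := hg n
  refine ⟨S₁, fun S hS => ?_⟩
  have e : a • L - ∑ z ∈ S, (a • g) z • f z = a • (L - ∑ z ∈ S, g z • f z) := by
    simp only [Pi.smul_apply, smul_eq_mul, mul_smul, smul_sub, Finset.smul_sum]
  rw [e]
  exact Submodule.smul_mem _ _ (h₁ S hS)

lemma IsSum.unique [IsHausdorff I M] {g : Z → A} {L L' : M} (hg : IsSum I f g L)
    (hg' : IsSum I f g L') : L = L' := by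
  classical
  rw [← sub_eq_zero]
  apply IsHausdorff.haus' (I := I)
  intro n
  rw [SModEq.zero]
  obtain ⟨S₁, h₁⟩ := hg n
  obtain ⟨S₂, h₂⟩ := hg' n
  have := sub_mem (h₁ (S₁ ∪ S₂) Finset.subset_union_left) (h₂ (S₁ ∪ S₂) Finset.subset_union_right)
  simpa using this

lemma sum_diff_mem {g : Z → A} (n : ℕ) (S T : Finset Z) (hST : T ⊆ S)
    (hT : ∀ z, z ∉ T → g z ∈ I ^ n) :
    ∑ z ∈ S, g z • f z - ∑ z ∈ T, g z • f z ∈ (I ^ n • ⊤ : Submodule A M) := by
  classical
  rw [← Finset.sum_sdiff hST, add_sub_cancel_right]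
  apply Submodule.sum_mem
  intro z hz
  exact Submodule.smul_mem_smul (hT z (Finset.mem_sdiff.1 hz).2) trivial

lemma exists_isSum [IsPrecomplete I M] (g : Z → A) (hg : g ∈ decaying I Z A) :
    ∃ L, IsSum I f g L := by
  classical
  have htop : ∀ n : ℕ, (I ^ n • ⊤ : Submodule A A) = I ^ n := fun n => by
    rw [smul_eq_mul, Ideal.mul_top]
  let T : ℕ → Finset Z := fun n => ((mem_decaying_iff g).1 hg n).toFinset
  have hT : ∀ n z, z ∉ T n → g z ∈ I ^ n := by
    intro n z hz
    simp only [T, Set.Finite.mem_toFinset, Set.mem_ofPred_eq, not_not, htop] at hz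
    exact hz
  have hTmono : ∀ {m n}, m ≤ n → T m ⊆ T n := by
    intro m n hmn z hz
    by_contra hcon
    have h1 := hT n z hcon
    simp only [T, Set.Finite.mem_toFinset, Set.mem_ofPred_eq, htop] at hz
    exact hz (Ideal.pow_le_pow_right hmn h1)
  let s : ℕ → M := fun n => ∑ z ∈ T n, g z • f z
  obtain ⟨L, hL⟩ := IsPrecomplete.prec' (I := I) s (by
    intro m n hmn
    rw [SModEq.sub_mem]
    have := sum_diff_mem I f m (T n) (T m) (hTmono hmn) (hT m)
    rw [← neg_sub]
    exact neg_mem this)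
  refine ⟨L, fun n => ⟨T n, fun S hS => ?_⟩⟩
  have h1 := SModEq.sub_mem.1 (hL n)
  have h2 := sum_diff_mem I f n S (T n) hS (hT n)
  have e : L - ∑ z ∈ S, g z • f z = -(s n - L) - (∑ z ∈ S, g z • f z - ∑ z ∈ T n, g z • f z) := by
    simp only [s]; abel
  rw [e]
  exact sub_mem (neg_mem h1) h2

end


/-- Let A be I-adically complete, M an I-adically complete A-module, Z a set and f : Z → M a function.
There is an A-linear map from the I-adically decaying functions Z → A to M whose value on g is the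
I-adically convergent sum of the g z • f z. -/
theorem result {A : Type u} [CommRing A] (I : Ideal A) [IsAdicComplete I A]
    (Z : Type v) (M : Type w) [AddCommGroup M] [Module A M] [IsAdicComplete I M] (f : Z → M) :
    ∃ φ : decaying I Z A →ₗ[A] M, ∀ (g : decaying I Z A) (n : ℕ), ∃ S : Finset Z,
      (∀ z, z ∉ S → (g : Z → A) z • f z ∈ (I ^ n • ⊤ : Submodule A M)) ∧
      φ g - (∑ z ∈ S, (g : Z → A) z • f z) ∈ (I ^ n • ⊤ : Submodule A M) := by
  classical
  have hex : ∀ g : decaying I Z A, ∃ L, IsSum I f (g : Z → A) L := fun g => exists_isSum I f g g.2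
  choose φ hφ using hex
  let Φ : decaying I Z A →ₗ[A] M :=
    { toFun := φ
      map_add' := fun g h => IsSum.unique I f (hφ (g + h)) ((hφ g).add I f (hφ h))
      map_smul' := fun a g => IsSum.unique I f (hφ (a • g)) ((hφ g).smul I f a) }
  refine ⟨Φ, fun g n => ?_⟩
  have htop : (I ^ n • ⊤ : Submodule A A) = I ^ n := by
    rw [smul_eq_mul, Ideal.mul_top]
  obtain ⟨S₀, hS₀⟩ := hφ g n
  let T : Finset Z := ((mem_decaying_iff (g : Z → A)).1 g.2 n).toFinset
  refine ⟨S₀ ∪ T, fun z hz => ?_, hS₀ _ Finset.subset_union_left⟩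
  have hz' : z ∉ T := fun h => hz (Finset.mem_union_right _ h)
  simp only [T, Set.Finite.mem_toFinset, Set.mem_ofPred_eq, not_not, htop] at hz'
  exact Submodule.smul_mem_smul hz' trivial

end Groth.Agent.S17553
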