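import Groth.Statements.S17569
import Groth.Agent.Lib.Helper2.PPush6
import Groth.Agent.Lib.Helper2.PPush7

set_option autoImplicit false
universe u
open CategoryTheory AlgebraicGeometry
open Bivar

namespace Groth.Agent.S17569

/-- Let f : X → Y be proper and g : Y → Z locally of finite type, with δX induced from δY along f and δY
induced from δZ along g, and let c ∈ A^p(X → Z) be a bivariant class for the composite X → Z. Then α
↦ f'_*(c ∩ α) is a bivariant class f_* ∘ c ∈ A^p(Y → Z): there is c' ∈ A^p(Y → Z) such that on every
cartesian square (Z' → Z, Y' = Z' ×_Z Y) and every fibre product X' = Y' ×_Y X (a square over X → Z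
by pasting), for every k-cycle α on Z' and every cycle β on X' representing c ∩ [α], the class c' ∩
[α] is the class of the pushforward of β along X' → Y' (the binder Bivar.IsProperPushClass, which
also records properness of f and the compatibility of δX). Here a pair (X, δ) with Cyc.IsSetup plays
the role of a scheme locally of finite type over the base (S, δ) (X locally Noetherian with
universally catenary local rings, δ a dimension function), Cyc.DeltaCompat records that a dimension
function is the induced one, and bivariant classes are taken in the operational sense of the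
prelude: additive operations on the Chow groups CH_k (k-cycles modulo rational equivalence) of all
test schemes, compatible with proper pushforward, flat pullback and the Gysin maps of zero schemes
of sections of invertible modules in representative form (Bivar.Cl for A^p(X → Y), Bivar.OpCl for
A^p(X)). -/
theorem result (X Y Z : Scheme.{u}) (δX : X → ℤ) (δY : Y → ℤ) (δZ : Z → ℤ) (hX : Cyc.IsSetup X δX) (hY : Cyc.IsSetup Y δY) (hZ : Cyc.IsSetup Z δZ) (f : X ⟶ Y) [IsProper f] (g : Y ⟶ Z) [LocallyOfFiniteType g] (hδf : Cyc.DeltaCompat f δX δY) (hδg : Cyc.DeltaCompat g δY δZ) (p : ℤ) (c : Bivar.Cl p (f ≫ g) δX δZ) : ∃ c' : Bivar.Cl p g δY δZ, Bivar.IsProperPushClass f g c c' := by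
    classical
  let c' : Bivar.Cl p g δY δZ :=
    { op := fun s k => Groth.Agent.Lib.helper2.PPush.pushOp f g hX hY hδf c s k
      push := fun s t h _ h' _ w1 w2 w3 k =>
        Groth.Agent.Lib.helper2.PPush.pushOK_pushOp f g hX hY hδf c s t h h' w1 w2 w3 k
      pull := fun s t h _ h' _ r hr hr' w1 w2 w3 k =>
        Groth.Agent.Lib.helper2.PPush.pullOK_pushOp f g hX hY hδf c s t h h' r hr hr' w1 w2 w3 k
      gysin := fun s t i _ j _ w1 w2 w3 L hL σ hσ τ hτ k =>
        Groth.Agent.Lib.helper2.PPush.gysinOK_pushOp f g hX hY hδf c s t i j w1 w2 w3 L hL σ hσ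
          τ hτ k }
  refine ⟨c', inferInstance, hδf, ?_⟩
  intro s X' f' _ gX hp δX' hX' k α hα β hβ h
  exact Groth.Agent.Lib.helper2.PPush.pushOp_eq f g hX hY hδf c s ⟨X', f', gX, hp, δX', hX'⟩ k α hα
    β hβ h

end Groth.Agent.S17569
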