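import Groth.Statements.S1757
import Mathlib
import Groth.Agent.S1734

set_option autoImplicit false
universe u
open LocCoh

namespace Groth.Agent.S1757

theorem sum_ite_ne {A : Type u} [CommRing A] {r : ℕ} (j : Fin r) (t : Fin r → A) :
    ∑ i, (if i = j then 0 else t i) = ∑ i, t i - t j := by
  have h1 : ∀ i, (if i = j then 0 else t i) = t i - (if i = j then t j else 0) := by
    intro i
    by_cases hi : i = j
    · subst hi
      rw [if_pos rfl, if_pos rfl, sub_self]
    · rw [if_neg hi, if_neg hi, sub_zero]
  simp_rw [h1]
  rw [Finset.sum_sub_distrib, Finset.sum_ite_eq' Finset.univ j, if_pos (Finset.mem_univ j)]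

/-- `S1733` at an arbitrary index -/
theorem indep_of_mul (A : Type u) [CommRing A] (r : ℕ) (f : Fin r → A) (j : Fin r) (g : A)
    (h : Dual2.Independent (Function.update f j (f j * g))) : Dual2.Independent f := by
  classical
  intro a ha
  have hJ : Ideal.span (Set.range (Function.update f j (f j * g))) ≤
      Ideal.span (Set.range f) := by
    rw [Ideal.span_le]
    rintro _ ⟨i, rfl⟩
    by_cases hi : i = j
    · subst hi
      rw [Function.update_self]
      exact Ideal.mul_mem_right _ _ (Ideal.subset_span ⟨_, rfl⟩)
    · rw [Function.update_of_ne hi]
      exact Ideal.subset_span ⟨_, rfl⟩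
  have hfmem : ∀ i, f i ∈ Ideal.span (Set.range f) := fun i => Ideal.subset_span ⟨i, rfl⟩
  have h1 : a j ∈ Ideal.span (Set.range (Function.update f j (f j * g))) := by
    have := h (fun i => if i = j then a i else a i * g) ?_ j
    · simpa using this
    · have : ∀ i, (if i = j then a i else a i * g) *
          (Function.update f j (f j * g)) i = g * (a i * f i) := by
        intro i
        by_cases hi : i = j
        · subst hi
          rw [if_pos rfl, Function.update_self]; ring
        · rw [if_neg hi, Function.update_of_ne hi]; ring
      simp_rw [this]
      rw [← Finset.mul_sum, ha, mul_zero]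
  obtain ⟨c, hc⟩ := (Ideal.mem_span_range_iff_exists_fun).mp h1
  have h2 := h (fun i => if i = j then c i * f j else a i + c i * f j) ?_
  · intro i
    by_cases hi : i = j
    · subst hi
      exact hJ h1
    · have := hJ (h2 i)
      simp only [if_neg hi] at this
      have h3 : c i * f j ∈ Ideal.span (Set.range f) :=
        Ideal.mul_mem_left _ _ (hfmem _)
      have := Ideal.sub_mem _ this h3
      simpa using this
  · have : ∀ i, (if i = j then c i * f j else a i + c i * f j) *
        (Function.update f j (f j * g)) i =
        (if i = j then 0 else a i * f i) +
          f j * (c i * (Function.update f j (f j * g)) i) := by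
      intro i
      by_cases hi : i = j
      · subst hi
        rw [if_pos rfl, if_pos rfl, Function.update_self]; ring
      · rw [if_neg hi, if_neg hi, Function.update_of_ne hi]; ring
    simp_rw [this]
    rw [Finset.sum_add_distrib, ← Finset.mul_sum, hc, sum_ite_ne j (fun i => a i * f i), ha]
    ring

/-- `S1734` at an arbitrary index (finiteness of the length is not needed) -/
theorem length_add (A : Type u) [CommRing A] (r : ℕ) (f : Fin r → A) (j : Fin r) (g : A)
    (h : Dual2.Independent (Function.update f j (f j * g))) :
    Module.length A (A ⧸ Ideal.span (Set.range (Function.update f j (f j * g)))) =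
      Module.length A (A ⧸ Ideal.span (Set.range f)) +
        Module.length A (A ⧸ Ideal.span (Set.range (Function.update f j g))) := by
  classical
  have hne : ∀ i : Fin r, i ≠ j → ∀ y : A, Function.update f j y i = f i :=
    fun i hi y => Function.update_of_ne hi _ _
  apply Groth.Agent.S1734.key A _ _ _ (f j)
  · rw [Ideal.span_le]
    rintro _ ⟨i, rfl⟩
    by_cases hi : i = j
    · subst hi
      rw [Function.update_self]
      exact Ideal.mul_mem_right _ _ (Ideal.subset_span ⟨_, rfl⟩)
    · rw [hne i hi]
      exact Ideal.subset_span ⟨_, rfl⟩
  · exact Ideal.subset_span ⟨_, rfl⟩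
  · have : Ideal.span (Set.range (Function.update f j g)) ≤
        Submodule.comap (LinearMap.mulLeft A (f j))
          (Ideal.span (Set.range (Function.update f j (f j * g)))) := by
      rw [Ideal.span_le]
      rintro _ ⟨i, rfl⟩
      simp only [Submodule.comap_coe, Set.mem_preimage, LinearMap.mulLeft_apply, SetLike.mem_coe]
      by_cases hi : i = j
      · subst hi
        rw [Function.update_self]
        refine Ideal.subset_span ⟨i, ?_⟩
        rw [Function.update_self]
      · rw [hne i hi]
        refine Ideal.mul_mem_left _ _ (Ideal.subset_span ⟨i, ?_⟩)
        rw [hne i hi]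
    intro a ha
    simpa using this ha
  · intro a ha
    obtain ⟨c, rfl⟩ := (Ideal.mem_span_range_iff_exists_fun).mp ha
    refine ⟨c j, ?_⟩
    rw [Ideal.mem_span_range_iff_exists_fun]
    refine ⟨fun i => if i = j then 0 else c i, ?_⟩
    have h1 : ∀ i, (if i = j then 0 else c i) * Function.update f j (f j * g) i =
        if i = j then 0 else c i * f i := by
      intro i
      by_cases hi : i = j
      · subst hi
        rw [if_pos rfl, if_pos rfl, zero_mul]
      · rw [if_neg hi, if_neg hi, hne i hi]
    simp_rw [h1]
    rw [sum_ite_ne j (fun i => c i * f i)]
    ring
  · intro a ha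
    obtain ⟨c, hc⟩ := (Ideal.mem_span_range_iff_exists_fun).mp ha
    have hJ2 : Ideal.span (Set.range (Function.update f j (f j * g))) ≤
        Ideal.span (Set.range (Function.update f j g)) := by
      rw [Ideal.span_le]
      rintro _ ⟨i, rfl⟩
      by_cases hi : i = j
      · subst hi
        rw [Function.update_self]
        refine Ideal.mul_mem_left _ _ (Ideal.subset_span ⟨i, ?_⟩)
        rw [Function.update_self]
      · rw [hne i hi]
        refine Ideal.subset_span ⟨i, ?_⟩
        rw [hne i hi]
    have h5 := h (fun i => if i = j then c i * g - a else c i * g) ?_ j
    · rw [if_pos rfl] at h5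
      have h6 : c j * g ∈ Ideal.span (Set.range (Function.update f j g)) := by
        refine Ideal.mul_mem_left _ _ (Ideal.subset_span ⟨j, ?_⟩)
        rw [Function.update_self]
      have := Ideal.sub_mem _ h6 (hJ2 h5)
      simpa using this
    · have : ∀ i, (if i = j then c i * g - a else c i * g) *
          (Function.update f j (f j * g)) i =
          g * (c i * (Function.update f j (f j * g)) i) -
            (if i = j then a * f j * g else 0) := by
        intro i
        by_cases hi : i = j
        · subst hi
          rw [if_pos rfl, if_pos rfl, Function.update_self]; ring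
        · rw [if_neg hi, if_neg hi]; ring
      simp_rw [this]
      rw [Finset.sum_sub_distrib, ← Finset.mul_sum, hc]
      simp
      ring

theorem main (A : Type u) [CommRing A] [IsLocalRing A] (r : ℕ) (x : Fin r → A)
    (hx : Ideal.span (Set.range x) = IsLocalRing.maximalIdeal A) :
    ∀ n : ℕ, ∀ e : Fin r → ℕ, (∀ i, 0 < e i) → ∑ i, e i = n →
      Dual2.Independent (fun i => x i ^ e i) →
      Module.length A (A ⧸ Ideal.span (Set.range (fun i => x i ^ e i))) = ∏ i, (e i : ℕ∞) := by
  intro n
  induction n using Nat.strong_induction_on with
  | _ n ih =>
    intro e he hsum hind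
    classical
    by_cases hall : ∀ i, e i = 1
    · have h1 : (fun i => x i ^ e i) = x := by
        funext i
        rw [hall i, pow_one]
      rw [h1, hx]
      have h2 : ∏ i, (e i : ℕ∞) = 1 := by
        apply Finset.prod_eq_one
        intro i _
        rw [hall i]
        rfl
      rw [h2, Module.length_eq_one_iff, isSimpleModule_iff_isCoatom]
      exact Ideal.isMaximal_def.mp (IsLocalRing.maximalIdeal.isMaximal A)
    · push Not at hall
      obtain ⟨j, hj⟩ := hall
      have hj2 : 2 ≤ e j := by
        have := he j
        omega
      let f : Fin r → A := fun i => x i ^ (Function.update e j (e j - 1) i)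
      let f'' : Fin r → A := fun i => x i ^ (Function.update e j 1 i)
      have hf1 : Function.update f j (f j * x j) = fun i => x i ^ e i := by
        funext i
        by_cases hi : i = j
        · subst hi
          rw [Function.update_self]
          change x i ^ (Function.update e i (e i - 1) i) * x i = _
          rw [Function.update_self, ← pow_succ, Nat.sub_add_cancel (by omega)]
        · rw [Function.update_of_ne hi]
          change x i ^ (Function.update e j (e j - 1) i) = _
          rw [Function.update_of_ne hi]
      have hf2 : Function.update f j (x j) = f'' := by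
        funext i
        by_cases hi : i = j
        · subst hi
          rw [Function.update_self]
          change _ = x i ^ (Function.update e i 1 i)
          rw [Function.update_self, pow_one]
        · rw [Function.update_of_ne hi]
          change x i ^ (Function.update e j (e j - 1) i) = x i ^ (Function.update e j 1 i)
          rw [Function.update_of_ne hi, Function.update_of_ne hi]
      have hf3 : Function.update f'' j (f'' j * x j ^ (e j - 1)) = fun i => x i ^ e i := by
        funext i
        by_cases hi : i = j
        · subst hi
          rw [Function.update_self]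
          change x i ^ (Function.update e i 1 i) * x i ^ (e i - 1) = _
          rw [Function.update_self, ← pow_add, Nat.add_sub_cancel' (by omega)]
        · rw [Function.update_of_ne hi]
          change x i ^ (Function.update e j 1 i) = _
          rw [Function.update_of_ne hi]
      have hind' : Dual2.Independent (Function.update f j (f j * x j)) := by
        rw [hf1]
        exact hind
      have hind3 : Dual2.Independent (Function.update f'' j (f'' j * x j ^ (e j - 1))) := by
        rw [hf3]
        exact hind
      have h3 := length_add A r f j (x j) hind'
      rw [hf1, hf2] at h3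
      have hindf : Dual2.Independent f := indep_of_mul A r f j (x j) hind'
      have hindf'' : Dual2.Independent f'' := indep_of_mul A r f'' j (x j ^ (e j - 1)) hind3
      have hse : ∑ i, e i = e j + ∑ i ∈ Finset.univ \ {j}, e i := by
        rw [← Finset.sum_update_of_mem (Finset.mem_univ j) e (e j), Function.update_eq_self]
      have hpe : ∏ i, e i = e j * ∏ i ∈ Finset.univ \ {j}, e i := by
        rw [← Finset.prod_update_of_mem (Finset.mem_univ j) e (e j), Function.update_eq_self]
      have hs' : ∑ i, Function.update e j (e j - 1) i < n := by
        rw [Finset.sum_update_of_mem (Finset.mem_univ j), ← hsum, hse]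
        omega
      have hs'' : ∑ i, Function.update e j 1 i < n := by
        rw [Finset.sum_update_of_mem (Finset.mem_univ j), ← hsum, hse]
        omega
      have he' : ∀ i, 0 < Function.update e j (e j - 1) i := by
        intro i
        by_cases hi : i = j
        · subst hi
          rw [Function.update_self]
          omega
        · rw [Function.update_of_ne hi]
          exact he i
      have he'' : ∀ i, 0 < Function.update e j 1 i := by
        intro i
        by_cases hi : i = j
        · subst hi
          rw [Function.update_self]
          exact Nat.one_pos
        · rw [Function.update_of_ne hi]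
          exact he i
      rw [h3, ih _ hs' (Function.update e j (e j - 1)) he' rfl hindf,
        ih _ hs'' (Function.update e j 1) he'' rfl hindf'']
      simp only [← Nat.cast_prod]
      rw [← Nat.cast_add, Finset.prod_update_of_mem (Finset.mem_univ j),
        Finset.prod_update_of_mem (Finset.mem_univ j), hpe]
      congr 1
      obtain ⟨q, hq⟩ : ∃ q, e j = q + 1 := ⟨e j - 1, by omega⟩
      rw [hq, Nat.add_sub_cancel]
      ring

/-- Let A be a local ring whose maximal ideal is generated by x_1, …, x_r, and let e_1, …, e_r be
positive integers such that x_1^{e_1}, …, x_r^{e_r} are independent. Then the length of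
A/(x_1^{e_1}, …, x_r^{e_r}) equals the product e_1 ⋯ e_r. -/
theorem result (A : Type u) [CommRing A] [IsLocalRing A] (r : ℕ) (x : Fin r → A) (hx : Ideal.span (Set.range x) = IsLocalRing.maximalIdeal A) (e : Fin r → ℕ) (he : ∀ i, 0 < e i) (hind : Dual2.Independent (fun i => x i ^ e i)) : Module.length A (A ⧸ Ideal.span (Set.range (fun i => x i ^ e i))) = ∏ i, (e i : ℕ∞) := by
  exact main A r x hx _ e he rfl hind

end Groth.Agent.S1757
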