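import Groth.Statements.S6482


set_option autoImplicit false
universe u
open CategoryTheory AlgebraicGeometry
open CategoryTheory.Limits
open Cyc

namespace Groth.Agent.S6482


theorem td_zero_of_surjective {K L : Type u} [Field K] [Field L] (φ : K →+* L)
    (hφ : Function.Surjective φ) :
    (letI := φ.toAlgebra; Algebra.trdeg K L) = 0 ∧ (letI := φ.toAlgebra; Module.finrank K L) = 1 := by
  letI := φ.toAlgebra
  have hsurj : Function.Surjective (algebraMap K L) := hφ
  constructor
  · haveI : Algebra.IsIntegral K L := Algebra.isIntegral_of_surjective hsurj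
    exact trdeg_eq_zero
  · have hbij : Function.Bijective (Algebra.linearMap K L) := ⟨(algebraMap K L).injective, hsurj⟩
    rw [← (LinearEquiv.ofBijective (Algebra.linearMap K L) hbij).finrank_eq, Module.finrank_self]


/-- Let f : Y → X be an envelope. Then f_* : Z_k(Y) → Z_k(X) is surjective, hence so is f_* : CH_k(Y) →
CH_k(X). An envelope is a proper, completely decomposed morphism (every point of the target has a
point over it with trivial residue field extension; this prelude's Cyc.IsCompletelyDecomposed). Here
a pair (X, δ) with Cyc.IsSetup plays the role of a scheme locally of finite type over the base (S,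
δ) (X locally Noetherian with universally catenary local rings, δ a dimension function), and
Cyc.DeltaCompat records that the dimension function upstairs is the induced one. -/
theorem result (X Y : Scheme.{u}) (δ : X → ℤ) (δY : Y → ℤ) (hX : Cyc.IsSetup X δ) (hY : Cyc.IsSetup Y δY) (f : Y ⟶ X) [IsProper f] (hcd : Cyc.IsCompletelyDecomposed f) (hδ : Cyc.DeltaCompat f δY δ) (k : ℤ) (α : AlgebraicCycle X ℤ) (hα : α ∈ Cyc.Zk X δ k) : ∃ β : AlgebraicCycle Y ℤ, β ∈ Cyc.Zk Y δY k ∧ AlgebraicCycle.map f δY δ β = α := by
  classical
  choose σ hσ1 hσ2 using hcd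
  -- dimension and degree at the chosen points
  have hkey : ∀ x : X, δY (σ x) = δ x ∧ f.residueDegree (σ x) = 1 := by
    intro x
    obtain ⟨n, hn, hδn⟩ := hδ (σ x)
    obtain ⟨h1, h2⟩ := td_zero_of_surjective (f.residueFieldMap (σ x)).hom (hσ2 x)
    have hn0 : n = 0 := by
      have : (n : Cardinal.{u}) = 0 := hn.symm.trans h1
      exact_mod_cast this
    subst hn0
    refine ⟨by rw [hδn, hσ1 x]; simp, h2⟩
  let β : AlgebraicCycle Y ℤ :=
    { toFun := fun y => if y = σ (f y) then α (f y) else 0
      supportWithinDomain' := by simp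
      supportLocallyFiniteWithinDomain' := by
        intro y _
        obtain ⟨t, ht, hfin⟩ := α.supportLocallyFiniteWithinDomain' (f y) trivial
        refine ⟨f ⁻¹' t, f.continuous.continuousAt.preimage_mem_nhds ht, ?_⟩
        refine (hfin.image σ).subset ?_
        rintro y' ⟨hy't, hy's⟩
        have hy'0 : (if y' = σ (f y') then α (f y') else 0) ≠ 0 := hy's
        by_cases he : y' = σ (f y')
        · rw [if_pos he] at hy'0
          exact ⟨f y', ⟨hy't, hy'0⟩, he.symm⟩
        · rw [if_neg he] at hy'0
          exact absurd rfl hy'0 }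
  have hβ : ∀ y, β y = if y = σ (f y) then α (f y) else 0 := fun _ => rfl
  refine ⟨β, ?_, ?_⟩
  · intro y hy
    rw [hβ]
    by_cases he : y = σ (f y)
    · rw [if_pos he]
      apply hα
      rw [← (hkey (f y)).1, ← he]
      exact hy
    · rw [if_neg he]
  · ext x
    unfold AlgebraicCycle.map
    rw [Function.locallyFinsupp.map_apply, finsum_mem_def]
    rw [finsum_eq_single _ (σ x)]
    · have hmem : σ x ∈ (⇑f) ⁻¹' {x} := hσ1 x
      rw [Set.indicator_of_mem hmem, hβ, hσ1 x, if_pos rfl]
      unfold AlgebraicCycle.mapCoeff
      change α x * ((if δY (σ x) = δ (f (σ x)) then f.residueDegree (σ x) else 0 : ℕ) : ℤ) = α x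
      rw [hσ1 x, if_pos (hkey x).1, (hkey x).2]
      simp
    · intro y hy
      by_cases hmem : y ∈ (⇑f) ⁻¹' {x}
      · rw [Set.indicator_of_mem hmem, hβ]
        have hfy : f y = x := hmem
        rw [hfy, if_neg hy, zero_mul]
      · rw [Set.indicator_of_notMem hmem]
end Groth.Agent.S6482
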