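import Groth.Statements.S6484
import Mathlib
-- import your own Groth.Agent.* helpers here

set_option autoImplicit false
universe u
open CategoryTheory AlgebraicGeometry
open CategoryTheory.Limits
open Cyc

namespace Groth.Agent.S6484

/-- If f : Y → X is completely decomposed (this prelude's Cyc.IsCompletelyDecomposed: over every point
of X lies a point of Y with trivial residue field extension) and g : X' → X is any morphism of
schemes, then the base change Y ×_X X' → X' is completely decomposed. Consequently the base change
of an envelope (a proper completely decomposed morphism) is an envelope, properness being preserved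
by base change. (The published envelope statement takes X′ → X between schemes locally of finite
type over a base; this row allows any g.) -/
theorem result (X X' Y : Scheme.{u}) (f : Y ⟶ X) (g : X' ⟶ X) (hcd : Cyc.IsCompletelyDecomposed f) : Cyc.IsCompletelyDecomposed (pullback.snd f g) := by
  intro x'
  obtain ⟨y, hy, hsurj⟩ := hcd (g x')
  let K : Type u := X'.residueField x'
  have hbij : Function.Bijective (f.residueFieldMap y).hom :=
    ⟨(f.residueFieldMap y).hom.injective, hsurj⟩
  haveI : IsIso (f.residueFieldMap y) :=
    (ConcreteCategory.isIso_iff_bijective _).mpr hbij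
  let φ : Y.residueField y ⟶ X'.residueField x' :=
    inv (f.residueFieldMap y) ≫ (X.residueFieldCongr hy).hom ≫ g.residueFieldMap x'
  let a : Spec (.of K) ⟶ Y := Spec.map φ ≫ Y.fromSpecResidueField y
  let b : Spec (.of K) ⟶ X' := X'.fromSpecResidueField x'
  have hab : a ≫ f = b ≫ g := by
    simp only [a, b, φ, Category.assoc]
    rw [← Scheme.Hom.SpecMap_residueFieldMap_fromSpecResidueField,
      ← Scheme.Hom.SpecMap_residueFieldMap_fromSpecResidueField,
      ← X.residueFieldCongr_fromSpecResidueField hy]
    simp only [← Spec.map_comp_assoc, IsIso.hom_inv_id_assoc]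
  let s : Spec (.of K) ⟶ pullback f g := pullback.lift a b hab
  let z : ↥(pullback f g) := s (IsLocalRing.closedPoint K)
  have hs : s ≫ pullback.snd f g = b := pullback.lift_snd _ _ _
  have hz : (pullback.snd f g) z = x' := by
    change (s ≫ pullback.snd f g) (IsLocalRing.closedPoint K) = x'
    rw [hs]
    exact X'.fromSpecResidueField_apply x' _
  refine ⟨z, hz, ?_⟩
  let ψ : (pullback f g).residueField z ⟶ .of K :=
    Scheme.descResidueField (Scheme.stalkClosedPointTo s)
  have hcomp : Scheme.descResidueField (Scheme.stalkClosedPointTo (s ≫ pullback.snd f g)) =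
      (pullback.snd f g).residueFieldMap z ≫ ψ :=
    Scheme.descResidueField_stalkClosedPointTo_comp (pullback.snd f g) s
  have hb : b = (Scheme.SpecToEquivOfField K X').symm ⟨x', 𝟙 _⟩ := by
    change X'.fromSpecResidueField x' = Spec.map (𝟙 _) ≫ X'.fromSpecResidueField x'
    rw [Spec.map_id]
    exact (Category.id_comp _).symm
  have h1 : Scheme.SpecToEquivOfField K X' (s ≫ pullback.snd f g) = ⟨x', 𝟙 _⟩ := by
    rw [hs, hb, Equiv.apply_symm_apply]
  rw [Scheme.SpecToEquivOfField_eq_iff] at h1
  obtain ⟨e, he⟩ := h1
  simp only [Scheme.SpecToEquivOfField_apply_snd, Category.comp_id] at he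
  rw [hcomp] at he
  intro t
  let w := (X'.residueFieldCongr e).inv.hom (ψ.hom t)
  refine ⟨w, ?_⟩
  apply ψ.hom.injective
  have h2 : ψ.hom (((pullback.snd f g).residueFieldMap z).hom w) =
      (X'.residueFieldCongr e).hom.hom w := congrArg (fun q => q.hom w) he
  refine h2.trans ?_
  change ((X'.residueFieldCongr e).inv ≫ (X'.residueFieldCongr e).hom).hom (ψ.hom t) = _
  rw [Iso.inv_hom_id]
  rfl

end Groth.Agent.S6484
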