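import Groth.Statements.S17576
import Groth.Agent.Lib.Helper2.BivarPush
import Groth.Agent.S6482
import Groth.Agent.S6484

set_option autoImplicit false
universe u
open CategoryTheory AlgebraicGeometry
open Bivar

namespace Groth.Agent.S17576

/-- Let f : X → Y be locally of finite type, g : Y' → Y an envelope (a proper, completely decomposed
morphism: over every point of Y lies a point of Y' with trivial residue field extension) and X' = Y'
×_Y X. Then a bivariant class c ∈ A^p(X → Y) is determined by its restriction res(c) ∈ A^p(X' → Y'):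
two classes with the same restriction along the square (g, X') are equal. (The existence part — a
class c' on X' → Y' whose two restrictions to X' ×_X X' → Y' ×_Y Y' agree descends — is not stated
here.) Here a pair (X, δ) with Cyc.IsSetup plays the role of a scheme locally of finite type over
the base (S, δ) (X locally Noetherian with universally catenary local rings, δ a dimension
function), Cyc.DeltaCompat records that a dimension function is the induced one, and bivariant
classes are taken in the operational sense of the prelude: additive operations on the Chow groups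
CH_k (k-cycles modulo rational equivalence) of all test schemes, compatible with proper pushforward,
flat pullback and the Gysin maps of zero schemes of sections of invertible modules in representative
form (Bivar.Cl for A^p(X → Y), Bivar.OpCl for A^p(X)). -/
theorem result (X Y : Scheme.{u}) (δX : X → ℤ) (δY : Y → ℤ) (hX : Cyc.IsSetup X δX) (hY : Cyc.IsSetup Y δY) (f : X ⟶ Y) [LocallyOfFiniteType f] (hδ : Cyc.DeltaCompat f δX δY) (p : ℤ) (s₀ : Bivar.Sq f δX δY) [IsProper s₀.g] (hcd : Cyc.IsCompletelyDecomposed s₀.g) (c₁ c₂ : Bivar.Cl p f δX δY) (heq : c₁.res s₀ = c₂.res s₀) : c₁ = c₂ := by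
  classical
  apply Bivar.Cl.ext
  funext s k
  apply AddMonoidHom.ext
  intro a
  obtain ⟨α, hα, rfl⟩ := Bivar.exists_rep a
  haveI := s.lft
  haveI := s₀.lft
  -- the base change of the envelope to the test scheme
  obtain ⟨δT, hδT⟩ := Groth.Agent.Lib.helper2.BivarPush.exists_deltaCompat
    (Limits.pullback.fst s₀.g s.g) s₀.δY'
  haveI hlft2 : LocallyOfFiniteType (Limits.pullback.snd (Limits.pullback.fst s₀.g s.g) s₀.f') :=
    inferInstance
  obtain ⟨δT', hδT'⟩ := Groth.Agent.Lib.helper2.BivarPush.exists_deltaCompat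
    (Limits.pullback.snd (Limits.pullback.fst s₀.g s.g) s₀.f') s₀.δX'
  let t' : Bivar.Sq s₀.f' s₀.δX' s₀.δY' :=
    { Y' := Limits.pullback s₀.g s.g
      X' := Limits.pullback (Limits.pullback.fst s₀.g s.g) s₀.f'
      g := Limits.pullback.fst s₀.g s.g
      f' := Limits.pullback.fst (Limits.pullback.fst s₀.g s.g) s₀.f'
      g' := Limits.pullback.snd (Limits.pullback.fst s₀.g s.g) s₀.f'
      isPullback := IsPullback.of_hasPullback _ _
      lft := inferInstance
      δY' := δT
      δX' := δT'
      compatY := hδT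
      compatX := hδT' }
  let t : Bivar.Sq f δX δY := s₀.paste t'
  let h : t.Y' ⟶ s.Y' := Limits.pullback.snd s₀.g s.g
  haveI : IsProper h := inferInstanceAs (IsProper (Limits.pullback.snd s₀.g s.g))
  have w1 : h ≫ s.g = t.g := (Limits.pullback.condition (f := s₀.g) (g := s.g)).symm
  have hcomm : (t.f' ≫ h) ≫ s.g = t.g' ≫ f := by
    rw [Category.assoc, w1]
    exact t.isPullback.w
  let h' : t.X' ⟶ s.X' := s.isPullback.lift (t.f' ≫ h) t.g' hcomm
  have w2 : h' ≫ s.f' = t.f' ≫ h := s.isPullback.lift_fst _ _ _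
  have w3 : h' ≫ s.g' = t.g' := s.isPullback.lift_snd _ _ _
  have hsq : IsPullback h' t.f' s.f' h := by
    refine IsPullback.of_right ?_ w2 s.isPullback.flip
    rw [w3, w1]
    exact t.isPullback.flip
  haveI : IsProper h' :=
    MorphismProperty.of_isPullback (P := @IsProper) hsq.flip (inferInstance : IsProper h)
  -- setups
  have hsY : Cyc.IsSetup s.Y' s.δY' := Groth.Agent.Lib.helper2.BivarPush.Sq.isSetup_Y' hY s
  have hsX : Cyc.IsSetup s.X' s.δX' := Groth.Agent.Lib.helper2.BivarPush.Sq.isSetup_X' hX s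
  have htY : Cyc.IsSetup t.Y' t.δY' := Groth.Agent.Lib.helper2.BivarPush.Sq.isSetup_Y' hY t
  have htX : Cyc.IsSetup t.X' t.δX' := Groth.Agent.Lib.helper2.BivarPush.Sq.isSetup_X' hX t
  have hδh : Cyc.DeltaCompat h t.δY' s.δY' := by
    refine Groth.Agent.Lib.helper2.BivarPush.deltaCompat_cancel h s.g t.δY' s.δY' δY ?_ s.compatY
    rw [w1]
    exact t.compatY
  have hδh' : Cyc.DeltaCompat h' t.δX' s.δX' := by
    refine Groth.Agent.Lib.helper2.BivarPush.deltaCompat_cancel h' s.g' t.δX' s.δX' δX ?_ s.compatX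
    rw [w3]
    exact t.compatX
  -- lift the cycle
  have hcdh : Cyc.IsCompletelyDecomposed h := Groth.Agent.S6484.result _ _ _ s₀.g s.g hcd
  obtain ⟨α'', hα'', hmap⟩ := Groth.Agent.S6482.result s.Y' t.Y' s.δY' t.δY' hsY htY h hcdh hδh k α hα
  obtain ⟨β₁, hβ₁, e₁, e₁'⟩ := c₁.push s t h h' w1 w2 w3 k α'' hα''
  obtain ⟨β₂, hβ₂, e₂, e₂'⟩ := c₂.push s t h h' w1 w2 w3 k α'' hα''
  have hop : c₁.op t k = c₂.op t k := congrArg (fun c => c.op t' k) heq
  have hβ : ChowOps.cl β₁ hβ₁ = ChowOps.cl β₂ hβ₂ := by
    rw [← e₁, ← e₂, hop]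
  have hpush := Groth.Agent.Lib.helper2.BivarPush.cl_map_eq_of_cl_eq t.δX' s.δX' htX hsX h' hδh'
    (k - p) hβ₁ hβ₂ hβ
  have hcl : ChowOps.cl α hα = ChowOps.cl (AlgebraicCycle.map h t.δY' s.δY' α'')
      (Bivar.cycMap_mem_Zk h t.δY' s.δY' k hα'') := Bivar.cl_congr hmap.symm _ _
  rw [hcl, e₁', e₂', hpush]

end Groth.Agent.S17576
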