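import Groth.Statements.S17580
import Mathlib
import Groth.Agent.Lib.Helper12.TensorPowAdd
-- import your own Groth.Agent.* helpers here

set_option autoImplicit false
open CategoryTheory CategoryTheory.Limits AlgebraicGeometry
open PosLin

namespace Groth.Agent.S17580

section helpers
open Groth.Agent.Lib.helper12.TensorPowAdd TopologicalSpace

/-- On a Noetherian space, some base locus `Bs(L^{n₀})`, `n₀ ≥ 1`, is contained in all the others. -/
theorem exists_min {X : Scheme.{0}} [NoetherianSpace X] (L : X.Modules)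
    (hL : PicF.IsInvertible L) :
    ∃ n₀ : ℕ, 0 < n₀ ∧ ∀ m : ℕ, 0 < m →
      baseLocus (CohB1.tensorPow L n₀) ⊆ baseLocus (CohB1.tensorPow L m) := by
  let B : ℕ → Closeds X := fun m => ⟨baseLocus (CohB1.tensorPow L m), isClosed_baseLocus _⟩
  let S : Set (Closeds X) := {C | ∃ m : ℕ, 0 < m ∧ C = B m}
  have hS : S.Nonempty := ⟨B 1, 1, Nat.one_pos, rfl⟩
  obtain ⟨C, ⟨n₀, hn₀, rfl⟩, hmin⟩ := wellFounded_lt.has_min S hS
  refine ⟨n₀, hn₀, fun m hm => ?_⟩
  have h1 : B (n₀ * m) ≤ B n₀ := baseLocus_mul_subset hL n₀ m hm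
  have h2 : B (n₀ * m) ≤ B m := baseLocus_mul_subset' hL m n₀ hn₀
  have h3 : ¬ B (n₀ * m) < B n₀ := hmin _ ⟨n₀ * m, Nat.mul_pos hn₀ hm, rfl⟩
  have h4 : B (n₀ * m) = B n₀ := by
    by_contra hne
    exact h3 (lt_of_le_of_ne h1 hne)
  have h5 : B n₀ ≤ B m := h4 ▸ h2
  exact h5

theorem noetherianSpace_of_proper (X : Scheme.{0}) [X.Over (Spec (CommRingCat.of ℂ))]
    [IsProper (X ↘ Spec (CommRingCat.of ℂ))] : NoetherianSpace X := by
  have h1 : IsLocallyNoetherian X :=
    LocallyOfFiniteType.isLocallyNoetherian (X ↘ Spec (CommRingCat.of ℂ))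
  have h2 : CompactSpace X :=
    (quasiCompact_iff_compactSpace (f := X ↘ Spec (CommRingCat.of ℂ))).mp inferInstance
  have : IsNoetherian X := {}
  infer_instance

theorem main (X : Scheme.{0}) [NoetherianSpace X] (L : X.Modules) (hL : PicF.IsInvertible L) :
    ∃ n₀ : ℕ, 0 < n₀ ∧ ∀ k : ℕ, 0 < k →
      {x : X | ∀ m : ℕ, 0 < m → x ∈ baseLocus (CohB1.tensorPow L m)} =
        baseLocus (CohB1.tensorPow L (k * n₀)) := by
  obtain ⟨n₀, hn₀, hmin⟩ := exists_min L hL
  refine ⟨n₀, hn₀, fun k hk => ?_⟩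
  apply Set.Subset.antisymm
  · intro x hx
    exact hx (k * n₀) (Nat.mul_pos hk hn₀)
  · intro x hx m hm
    exact hmin m hm (baseLocus_mul_subset' hL n₀ k hk hx)

end helpers

/-- Let X be a projective variety over the complex numbers (an integral scheme, proper over ℂ, with an
ample invertible module) and L an invertible O_X-module. For m ≥ 1 let Bs(L^⊗m) ⊆ X be the base
locus of the complete linear series of L^⊗m, the set of points x lying in no open X_s over which a
global section s : O_X → L^⊗m is an isomorphism, and let B(L) = ⋂_{m ≥ 1} Bs(L^⊗m) be the stable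
base locus (an intersection of closed subsets, scheme structures disregarded). Then there is an
integer n₀ > 0 such that B(L) = Bs(L^⊗kn₀) for every k ≥ 1. -/
theorem result (X : Scheme.{0}) [X.Over (Spec (CommRingCat.of ℂ))] [IsIntegral X]
    [IsProper (X ↘ Spec (CommRingCat.of ℂ))] (H : X.Modules) (hH : CohB1.IsAmple H)
    (L : X.Modules) (hL : PicF.IsInvertible L) :
    ∃ n₀ : ℕ, 0 < n₀ ∧ ∀ k : ℕ, 0 < k →
      {x : X | ∀ m : ℕ, 0 < m → ∀ s : Coh.structureModule X ⟶ CohB1.tensorPow L m, x ∉ CohB1.genLocus (CohB1.tensorPow L m) s} =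
        {x : X | ∀ s : Coh.structureModule X ⟶ CohB1.tensorPow L (k * n₀), x ∉ CohB1.genLocus (CohB1.tensorPow L (k * n₀)) s} := by
  have := noetherianSpace_of_proper X
  exact main X L hL

end Groth.Agent.S17580
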