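import Groth.Statements.S17581
import Mathlib
import Groth.Agent.S17580
-- import your own Groth.Agent.* helpers here

set_option autoImplicit false
open CategoryTheory CategoryTheory.Limits AlgebraicGeometry
open PosLin

namespace Groth.Agent.S17581

section helpers
open Groth.Agent.Lib.helper12.TensorPowAdd TopologicalSpace

theorem main (X : Scheme.{0}) [NoetherianSpace X] (L : X.Modules) (hL : PicF.IsInvertible L) :
    (∃ m : ℕ, 0 < m ∧ baseLocus (CohB1.tensorPow L m) =
        {x : X | ∀ m : ℕ, 0 < m → x ∈ baseLocus (CohB1.tensorPow L m)}) ∧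
    ∀ m : ℕ, 0 < m →
      ((∀ m' : ℕ, 0 < m' →
          baseLocus (CohB1.tensorPow L m') ⊆ baseLocus (CohB1.tensorPow L m) →
          baseLocus (CohB1.tensorPow L m') = baseLocus (CohB1.tensorPow L m)) ↔
        baseLocus (CohB1.tensorPow L m) =
          {x : X | ∀ m : ℕ, 0 < m → x ∈ baseLocus (CohB1.tensorPow L m)}) := by
  obtain ⟨n₀, hn₀, hmin⟩ := Groth.Agent.S17580.exists_min L hL
  have hB : baseLocus (CohB1.tensorPow L n₀) =
      {x : X | ∀ m : ℕ, 0 < m → x ∈ baseLocus (CohB1.tensorPow L m)} := by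
    apply Set.Subset.antisymm
    · intro x hx m hm
      exact hmin m hm hx
    · intro x hx
      exact hx n₀ hn₀
  refine ⟨⟨n₀, hn₀, hB⟩, fun m hm => ⟨fun h => ?_, fun h m' hm' hsub => ?_⟩⟩
  · rw [← h n₀ hn₀ (hmin m hm)]
    exact hB
  · apply Set.Subset.antisymm hsub
    rw [h]
    intro x hx
    exact hx m' hm'

end helpers

/-- Let X be a projective variety over the complex numbers (an integral scheme, proper over ℂ, with an
ample invertible module) and L an invertible O_X-module; for m ≥ 1 let Bs(L^⊗m) be the base locus of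
L^⊗m (the points lying in no open X_s over which a global section s : O_X → L^⊗m is an isomorphism)
and B(L) = ⋂_{m ≥ 1} Bs(L^⊗m) the stable base locus. Then, among the closed sets Bs(L^⊗m) with m ≥
1, B(L) occurs and is the only minimal one: B(L) = Bs(L^⊗m) for some m ≥ 1, and for each m ≥ 1,
Bs(L^⊗m) is minimal in this family if and only if it coincides with B(L). -/
theorem result (X : Scheme.{0}) [X.Over (Spec (CommRingCat.of ℂ))] [IsIntegral X]
    [IsProper (X ↘ Spec (CommRingCat.of ℂ))] (H : X.Modules) (hH : CohB1.IsAmple H)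
    (L : X.Modules) (hL : PicF.IsInvertible L) :
    (∃ m : ℕ, 0 < m ∧ {x : X | ∀ s : Coh.structureModule X ⟶ CohB1.tensorPow L m, x ∉ CohB1.genLocus (CohB1.tensorPow L m) s} = {x : X | ∀ m : ℕ, 0 < m → ∀ s : Coh.structureModule X ⟶ CohB1.tensorPow L m, x ∉ CohB1.genLocus (CohB1.tensorPow L m) s}) ∧
    ∀ m : ℕ, 0 < m →
      ((∀ m' : ℕ, 0 < m' →
          {x : X | ∀ s : Coh.structureModule X ⟶ CohB1.tensorPow L m', x ∉ CohB1.genLocus (CohB1.tensorPow L m') s} ⊆ {x : X | ∀ s : Coh.structureModule X ⟶ CohB1.tensorPow L m, x ∉ CohB1.genLocus (CohB1.tensorPow L m) s} →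
          {x : X | ∀ s : Coh.structureModule X ⟶ CohB1.tensorPow L m', x ∉ CohB1.genLocus (CohB1.tensorPow L m') s} = {x : X | ∀ s : Coh.structureModule X ⟶ CohB1.tensorPow L m, x ∉ CohB1.genLocus (CohB1.tensorPow L m) s}) ↔
        {x : X | ∀ s : Coh.structureModule X ⟶ CohB1.tensorPow L m, x ∉ CohB1.genLocus (CohB1.tensorPow L m) s} = {x : X | ∀ m : ℕ, 0 < m → ∀ s : Coh.structureModule X ⟶ CohB1.tensorPow L m, x ∉ CohB1.genLocus (CohB1.tensorPow L m) s}) := by
  have := Groth.Agent.S17580.noetherianSpace_of_proper X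
  exact main X L hL

end Groth.Agent.S17581
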