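import Groth.Statements.S17584
import Mathlib
import Groth.Agent.S2102
import Groth.Agent.S9821
-- import your own Groth.Agent.* helpers here

set_option autoImplicit false
open CategoryTheory CategoryTheory.Limits AlgebraicGeometry
open PosLin

namespace Groth.Agent.S17584

/-- Let X and Y each be a projective variety over the complex numbers (an integral scheme, proper over
ℂ, with an ample invertible module), and f : X → Y an algebraic fibre space (a surjective morphism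
over ℂ with O_Y → f_*O_X an isomorphism). If X is normal, then Y is normal. -/
theorem result (X : Scheme.{0}) [X.Over (Spec (CommRingCat.of ℂ))] [IsIntegral X] [IsProper (X ↘ Spec (CommRingCat.of ℂ))]
    (HX : X.Modules) (hHX : CohB1.IsAmple HX)
    (Y : Scheme.{0}) [Y.Over (Spec (CommRingCat.of ℂ))] [IsIntegral Y] [IsProper (Y ↘ Spec (CommRingCat.of ℂ))]
    (HY : Y.Modules) (hHY : CohB1.IsAmple HY)
    (f : X ⟶ Y) (hf : f ≫ (Y ↘ Spec (CommRingCat.of ℂ)) = X ↘ Spec (CommRingCat.of ℂ)) [Surjective f]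
    (hfs : IsIso (ClSub.unitToPush f))
    (hX : Pi1.IsNormalScheme X) : Pi1.IsNormalScheme Y := by
  have hb : ∀ U : Y.Opens, Function.Bijective (f.app U) := by
    intro U
    have h1 : IsIso ((ClSub.unitToPush f).app U) := inferInstance
    have h2 := (ConcreteCategory.isIso_iff_bijective _).mp h1
    exact h2
  rw [Groth.Agent.S9821.result]
  intro U hne hU
  obtain ⟨⟨y, hy⟩⟩ := hne
  obtain ⟨x, rfl⟩ := f.surjective y
  haveI hV : Nonempty (f ⁻¹ᵁ U) := ⟨⟨x, hy⟩⟩
  have hn : Pi1.IsNormalScheme (f ⁻¹ᵁ U).toScheme := by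
    intro z
    have e : (f ⁻¹ᵁ U).toScheme.presheaf.stalk z ≃+* X.presheaf.stalk ((f ⁻¹ᵁ U).ι z) :=
      (asIso ((f ⁻¹ᵁ U).ι.stalkMap z)).commRingCatIsoToRingEquiv.symm
    obtain ⟨h1, h2⟩ := hX ((f ⁻¹ᵁ U).ι z)
    exact ⟨e.toMulEquiv.isDomain _, IsIntegrallyClosed.of_equiv e.symm⟩
  have h1 := Groth.Agent.S2102.result _ hn
  have e1 : Γ((f ⁻¹ᵁ U).toScheme, ⊤) ≃+* Γ(X, f ⁻¹ᵁ U) :=
    (f ⁻¹ᵁ U).topIso.commRingCatIsoToRingEquiv
  have e2 : Γ(Y, U) ≃+* Γ(X, f ⁻¹ᵁ U) := RingEquiv.ofBijective (f.app U).hom (hb U)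
  exact IsIntegrallyClosed.of_equiv (e1.trans e2.symm)

end Groth.Agent.S17584
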