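import Groth.Statements.S17592
import Mathlib
import Groth.Agent.Lib.Helper26.HenselPairIdem

set_option autoImplicit false
universe u
open Hensel

namespace Groth.Agent.S17592

open Groth.Agent.Lib.helper26.HenselPair TensorProduct


/-- Let R → S be an étale ring map and I an ideal of R such that the induced map R/I → S/IS is
bijective. Then a Henselization of the pair (S, IS), regarded as an R-algebra, is a Henselization of
the pair (R, I). -/
theorem result (R : Type u) [CommRing R] (I : Ideal R)
    (S : Type u) [CommRing S] [Algebra R S] [Algebra.Etale R S]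
    (hq : Function.Bijective
      (Ideal.quotientMap (I.map (algebraMap R S)) (algebraMap R S) Ideal.le_comap_map))
    (H : Type u) [CommRing H] [Algebra S H] [Algebra R H] [IsScalarTower R S H]
    (hH : Hens2.IsPairHenselization S (I.map (algebraMap R S)) H) :
    Hens2.IsPairHenselization R I H := by
  have hmapH : (I.map (algebraMap R S)).map (algebraMap S H) = I.map (algebraMap R H) := by
    rw [Ideal.map_map, ← IsScalarTower.algebraMap_eq]
  refine ⟨hmapH ▸ hH.1, ?_⟩
  intro C _ J f hC hIJ
  let _ : Algebra R C := f.toAlgebra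
  have hfalg : ∀ r, algebraMap R C r = f r := fun _ => rfl
  -- elements of `S` are congruent to elements of `R` modulo `IS`
  have hsurj : ∀ s : S, ∃ r : R, s - algebraMap R S r ∈ I.map (algebraMap R S) := by
    intro s
    obtain ⟨x, hx⟩ := hq.2 (Ideal.Quotient.mk _ s)
    obtain ⟨r, rfl⟩ := Ideal.Quotient.mk_surjective x
    refine ⟨r, ?_⟩
    rw [← Ideal.Quotient.eq]
    exact hx.symm
  -- ideal condition for `R`-algebra maps `S → C`
  have hcond : ∀ t : S →ₐ[R] C, (I.map (algebraMap R S)).map t.toRingHom ≤ J := by
    intro t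
    rw [Ideal.map_map]
    have : t.toRingHom.comp (algebraMap R S) = f := by
      ext r
      change t (algebraMap R S r) = f r
      rw [t.commutes]
      rfl
    rw [this]
    exact hIJ
  -- uniqueness of `R`-algebra maps `S → C`
  have huniqS : ∀ t₁ t₂ : S →ₐ[R] C, t₁ = t₂ := by
    intro t₁ t₂
    refine algHom_eq_of_sub_mem J hC.jac t₁ t₂ fun s => ?_
    obtain ⟨r, hr⟩ := hsurj s
    have h1 : t₁ (s - algebraMap R S r) ∈ J := hcond t₁ (Ideal.mem_map_of_mem _ hr)
    have h2 : t₂ (s - algebraMap R S r) ∈ J := hcond t₂ (Ideal.mem_map_of_mem _ hr)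
    have : t₁ s - t₂ s = t₁ (s - algebraMap R S r) - t₂ (s - algebraMap R S r) := by
      rw [map_sub, map_sub, t₁.commutes, t₂.commutes]; ring
    rw [this]
    exact J.sub_mem h1 h2
  -- existence of an `R`-algebra map `S → C`
  have hexS : ∃ t : S →ₐ[R] C, True := by
    let ι : (R ⧸ I) ≃+* (S ⧸ I.map (algebraMap R S)) := RingEquiv.ofBijective _ hq
    have hIJ' : I ≤ J.comap f := Ideal.map_le_iff_le_comap.mp hIJ
    let fb : R ⧸ I →+* C ⧸ J := Ideal.quotientMap J f hIJ'
    let ρb : S →ₐ[R] C ⧸ J :=
      { toRingHom := fb.comp (ι.symm.toRingHom.comp (Ideal.Quotient.mk (I.map (algebraMap R S))))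
        commutes' := by
          intro r
          have h1 : ι.symm (Ideal.Quotient.mk (I.map (algebraMap R S)) (algebraMap R S r)) =
              Ideal.Quotient.mk I r := by
            rw [RingEquiv.symm_apply_eq]
            rfl
          simp only [RingHom.toMonoidHom_eq_coe, RingEquiv.toRingHom_eq_coe, OneHom.toFun_eq_coe,
            MonoidHom.toOneHom_coe, MonoidHom.coe_coe, RingHom.coe_comp, RingHom.coe_coe,
            Function.comp_apply]
          rw [h1]
          rfl }
    let σ : C ⊗[R] S →ₐ[C] C ⧸ J :=
      Algebra.TensorProduct.lift (Algebra.ofId C (C ⧸ J)) ρb (fun _ _ => Commute.all _ _)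
    obtain ⟨τ, -⟩ := exists_lift_of_henselianRing hC (C ⊗[R] S) σ
    exact ⟨(τ.restrictScalars R).comp Algebra.TensorProduct.includeRight, trivial⟩
  obtain ⟨t, -⟩ := hexS
  obtain ⟨g, hg, hguniq⟩ := hH.2 C J t.toRingHom hC (hcond t)
  refine ⟨g, ?_, ?_⟩
  · ext r
    change g (algebraMap R H r) = f r
    rw [IsScalarTower.algebraMap_apply R S H]
    have := congrArg (fun φ : S →+* C => φ (algebraMap R S r)) hg
    change g (algebraMap S H (algebraMap R S r)) = t (algebraMap R S r) at this
    rw [this, t.commutes]
    rfl
  · intro g' hg'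
    apply hguniq
    let t' : S →ₐ[R] C :=
      { toRingHom := g'.comp (algebraMap S H)
        commutes' := by
          intro r
          change g' (algebraMap S H (algebraMap R S r)) = f r
          rw [← IsScalarTower.algebraMap_apply R S H]
          exact congrArg (fun φ : R →+* C => φ r) hg' }
    have := huniqS t' t
    exact congrArg (fun φ : S →ₐ[R] C => φ.toRingHom) this


end Groth.Agent.S17592
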