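import Groth.Statements.S17593
import Mathlib
import Groth.Agent.Lib.Helper26.AwayNbhd
import Groth.Agent.Lib.Helper3.FlatDescP

set_option autoImplicit false
universe u
open Hensel

namespace Groth.Agent.S17593

/-- Suppose (A, I) is a Henselian pair, and R is an A-algebra of finite presentation for which A → R is
flat at each prime of R that contains IR. Then there is an étale R-algebra R' such that R/IR →
R'/IR' is bijective and A → R' is flat. -/
theorem result (A : Type u) [CommRing A] (I : Ideal A) [HenselianRing A I]
    (R : Type u) [CommRing R] [Algebra A R] [Algebra.FinitePresentation A R]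
    (h : ∀ (p : Ideal R) [p.IsPrime], I.map (algebraMap A R) ≤ p → Module.Flat A (Localization.AtPrime p))
    : ∃ (R' : Type u) (_ : CommRing R') (_ : Algebra R R') (_ : Algebra A R') (_ : IsScalarTower A R R'),
      Algebra.Etale R R' ∧
      Function.Bijective (Ideal.quotientMap ((I.map (algebraMap A R)).map (algebraMap R R'))
        (algebraMap R R') Ideal.le_comap_map) ∧ Module.Flat A R' := by
  open Groth.Agent.Lib.helper3.FlatDesc in
  set J := I.map (algebraMap A R) with hJ
  -- comparison of the two models of the localization
  have hcmp : ∀ (p : Ideal R) [p.IsPrime], Module.Flat A (Localization.AtPrime p) ↔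
      Module.Flat A (LocalizedModule p.primeCompl R) := by
    intro p _
    have e : LocalizedModule p.primeCompl R ≃ₗ[A] Localization.AtPrime p :=
      (IsLocalizedModule.iso p.primeCompl
        (Algebra.linearMap R (Localization.AtPrime p))).restrictScalars A
    exact ⟨fun h => Module.Flat.of_linearEquiv e, fun h => Module.Flat.of_linearEquiv e.symm⟩
  have hopen : IsOpen {q : PrimeSpectrum R |
      Module.Flat A (LocalizedModule q.asIdeal.primeCompl R)} :=
    isOpen_flatLocus_of_finitePresentation (R := A) (S := R) (M := R)
  have hsub : PrimeSpectrum.zeroLocus (J : Set R) ⊆ {q : PrimeSpectrum R |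
      Module.Flat A (LocalizedModule q.asIdeal.primeCompl R)} := by
    intro p hp
    exact (hcmp p.asIdeal).1 (h p.asIdeal hp)
  obtain ⟨g, hg, hgU⟩ := Groth.Agent.Lib.helper26.AwayNbhd.exists_away_of_isOpen J _ hopen hsub
  refine ⟨Localization.Away g, inferInstance, inferInstance, inferInstance, inferInstance,
    inferInstance, Groth.Agent.Lib.helper26.AwayNbhd.bijective_quotientMap_away J g hg, ?_⟩
  have hfl : Module.Flat A (LocalizedModule (Submonoid.powers g) R) := by
    apply flat_localizedModule_powers_of_forall_prime
    intro q hq hgq
    exact hgU (show (⟨q, hq⟩ : PrimeSpectrum R) ∈ (PrimeSpectrum.basicOpen g : Set _) from hgq)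
  have e : Localization.Away g ≃ₗ[A] LocalizedModule (Submonoid.powers g) R :=
    ((IsLocalizedModule.iso (Submonoid.powers g)
      (Algebra.linearMap R (Localization.Away g))).restrictScalars A).symm
  exact Module.Flat.of_linearEquiv e

end Groth.Agent.S17593
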