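import Groth.Statements.S17595
import Mathlib
import Groth.Agent.Lib.Helper26.AwayNbhd

set_option autoImplicit false
universe u
open Hensel

namespace Groth.Agent.S17595

/-- Suppose (A, I) is a Henselian pair, and R is an A-algebra of finite presentation for which A → R is
quasi-finite at each prime of R that contains IR. Then there is an étale R-algebra R' such that R/IR
→ R'/IR' is bijective and A → R' is quasi-finite. -/
theorem result (A : Type u) [CommRing A] (I : Ideal A) [HenselianRing A I]
    (R : Type u) [CommRing R] [Algebra A R] [Algebra.FinitePresentation A R]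
    (h : ∀ (p : Ideal R) [p.IsPrime], I.map (algebraMap A R) ≤ p → Algebra.QuasiFiniteAt A p)
    : ∃ (R' : Type u) (_ : CommRing R') (_ : Algebra R R') (_ : Algebra A R') (_ : IsScalarTower A R R'),
      Algebra.Etale R R' ∧
      Function.Bijective (Ideal.quotientMap ((I.map (algebraMap A R)).map (algebraMap R R'))
        (algebraMap R R') Ideal.le_comap_map) ∧ Algebra.QuasiFinite A R' := by
  classical
  set J := I.map (algebraMap A R) with hJ
  have hft : Algebra.FiniteType A R := inferInstance
  -- step 1: quasi-finite principal opens around each point of `V(J)`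
  have key : ∀ p : PrimeSpectrum R, p ∈ PrimeSpectrum.zeroLocus (J : Set R) →
      ∃ r : R, r ∉ p.asIdeal ∧ Algebra.QuasiFinite A (Localization.Away r) := by
    intro p hp
    have := h p.asIdeal hp
    obtain ⟨S', hS', r, hrp, H⟩ :=
      Algebra.QuasiFiniteAt.exists_fg_and_exists_notMem_and_awayMap_bijective (R := A) p.asIdeal
    have : Module.Finite A S' := ⟨(Submodule.fg_top _).mpr hS'⟩
    have : Algebra.QuasiFinite A (Localization.Away r) := .trans _ S' _
    exact ⟨r.1, hrp, .of_surjective_algHom (Localization.awayMapₐ S'.val r) H.2⟩
  choose! r hrp hrqf using key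
  set U : Set (PrimeSpectrum R) :=
    ⋃ p ∈ PrimeSpectrum.zeroLocus (J : Set R), (PrimeSpectrum.basicOpen (r p) : Set _) with hU
  have hUopen : IsOpen U :=
    isOpen_biUnion fun p _ => (PrimeSpectrum.basicOpen (r p)).isOpen
  have hJU : PrimeSpectrum.zeroLocus (J : Set R) ⊆ U := fun p hp =>
    Set.mem_biUnion hp (hrp p hp)
  obtain ⟨g, hg, hgU⟩ := Groth.Agent.Lib.helper26.AwayNbhd.exists_away_of_isOpen J U hUopen hJU
  refine ⟨Localization.Away g, inferInstance, inferInstance, inferInstance, inferInstance,
    inferInstance, Groth.Agent.Lib.helper26.AwayNbhd.bijective_quotientMap_away J g hg, ?_⟩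
  rw [← RingHom.quasiFinite_algebraMap]
  refine RingHom.QuasiFinite.ofLocalizationSpanTarget (algebraMap A (Localization.Away g))
    ((fun p => algebraMap R (Localization.Away g) (r p)) '' PrimeSpectrum.zeroLocus (J : Set R))
    ?_ ?_
  · by_contra hne
    obtain ⟨m, hm, hle⟩ := Ideal.exists_le_maximal _ hne
    have hmp : m.IsPrime := hm.isPrime
    set q : PrimeSpectrum R := ⟨m.comap (algebraMap R (Localization.Away g)), inferInstance⟩ with hq
    have hgq : q ∈ (PrimeSpectrum.basicOpen g : Set (PrimeSpectrum R)) := by
      intro hgm
      have : algebraMap R (Localization.Away g) g ∈ m := hgm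
      exact hm.ne_top (Ideal.eq_top_of_isUnit_mem _ this (IsLocalization.Away.algebraMap_isUnit g))
    obtain ⟨p, hp, hpq⟩ := Set.mem_iUnion₂.mp (hgU hgq)
    apply hpq
    change algebraMap R (Localization.Away g) (r p) ∈ m
    exact hle (Ideal.subset_span ⟨p, hp, rfl⟩)
  · rintro ⟨_, p, hp, rfl⟩
    have hqf := hrqf p hp
    have h1 : IsLocalization.Away (r p * g)
        (Localization.Away (algebraMap R (Localization.Away g) (r p))) := inferInstance
    have h2 : IsLocalization.Away (r p * g)
        (Localization.Away (algebraMap R (Localization.Away (r p)) g)) :=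
      mul_comm g (r p) ▸ inferInstance
    let e : Localization.Away (algebraMap R (Localization.Away (r p)) g) ≃ₐ[R]
        Localization.Away (algebraMap R (Localization.Away g) (r p)) :=
      IsLocalization.algEquiv (Submonoid.powers (r p * g)) _ _
    have h3 : Algebra.QuasiFinite A
        (Localization.Away (algebraMap R (Localization.Away (r p)) g)) := inferInstance
    have h4 : Algebra.QuasiFinite A
        (Localization.Away (algebraMap R (Localization.Away g) (r p))) :=
      (Algebra.QuasiFinite.iff_of_algEquiv (e.restrictScalars A)).mp h3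
    have h5 : (algebraMap (Localization.Away g)
        (Localization.Away (algebraMap R (Localization.Away g) (r p)))).comp
        (algebraMap A (Localization.Away g)) =
        algebraMap A (Localization.Away (algebraMap R (Localization.Away g) (r p))) := by
      rw [← IsScalarTower.algebraMap_eq]
    rw [h5, RingHom.quasiFinite_algebraMap]
    exact h4


end Groth.Agent.S17595
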