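import Groth.Statements.S17596
import Groth.Agent.Lib.Helper26.PairHensFinite

set_option autoImplicit false
universe u
open Hensel

namespace Groth.Agent.S17596

/-- Let (A, I) be a Henselian pair and let B be a Henselization of the pair (R, IR) for a finitely
presented A-algebra R (that is, A → B is a Henselian finitely presented map of Henselian pairs). If
the induced map A/I → B/IB is module-finite, then B is module-finite and finitely presented over A. -/
theorem result (A : Type u) [CommRing A] (I : Ideal A)
    [HenselianRing A I] (R : Type u) [CommRing R] [Algebra A R] [Algebra.FinitePresentation A R]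
    (B : Type u) [CommRing B] [Algebra R B] [Algebra A B] [IsScalarTower A R B]
    (hB : Hens2.IsPairHenselization R (I.map (algebraMap A R)) B)
    (hfin : (Ideal.quotientMap (I.map (algebraMap A B)) (algebraMap A B) Ideal.le_comap_map).Finite) :
    Module.Finite A B ∧ Algebra.FinitePresentation A B := by
  have hfinA : Module.Finite A (B ⧸ I.map (algebraMap A B)) := by
    have h1 := hfin.comp (RingHom.Finite.of_surjective (Ideal.Quotient.mk I)
      Ideal.Quotient.mk_surjective)
    have h2 : (Ideal.quotientMap (I.map (algebraMap A B)) (algebraMap A B)
        Ideal.le_comap_map).comp (Ideal.Quotient.mk I) =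
        algebraMap A (B ⧸ I.map (algebraMap A B)) := by
      ext a
      rw [RingHom.comp_apply, Ideal.quotientMap_mk,
        IsScalarTower.algebraMap_apply A B (B ⧸ _), Ideal.Quotient.algebraMap_eq]
    rw [h2] at h1
    exact RingHom.finite_algebraMap.mp h1
  have hft : Algebra.FiniteType A R := inferInstance
  obtain ⟨h1, h2⟩ := Groth.Agent.Lib.helper26.PairHens.finite_of_finite_quotient' I
    (inferInstance : HenselianRing A I) R B hB hfinA
  have h3 : Algebra.FinitePresentation R B := inferInstance
  exact ⟨h1, Algebra.FinitePresentation.trans A R B⟩


end Groth.Agent.S17596
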