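import Groth.Statements.S17597
import Groth.Agent.Lib.Helper26.PairHensFinite

set_option autoImplicit false
universe u
open Hensel

namespace Groth.Agent.S17597

/-- Let (A, I) be a Henselian pair and let B be a Henselization of the pair (R, IR) for a finitely
presented A-algebra R (so A → B is Henselian finitely presented). If the induced map A/I → B/IB is
surjective, then A → B is surjective. -/
theorem result (A : Type u) [CommRing A] (I : Ideal A)
    [HenselianRing A I] (R : Type u) [CommRing R] [Algebra A R] [Algebra.FinitePresentation A R]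
    (B : Type u) [CommRing B] [Algebra R B] [Algebra A B] [IsScalarTower A R B]
    (hB : Hens2.IsPairHenselization R (I.map (algebraMap A R)) B)
    (hsurj : Function.Surjective
      (Ideal.quotientMap (I.map (algebraMap A B)) (algebraMap A B) Ideal.le_comap_map)) :
    Function.Surjective (algebraMap A B) := by
  have hH : HenselianRing A I := inferInstance
  -- every element of `B` is congruent to an element of `A` modulo `IB`
  have hcong : ∀ b : B, ∃ a : A, algebraMap A B a - b ∈ I.map (algebraMap A B) := by
    intro b
    obtain ⟨y, hy⟩ := hsurj (Ideal.Quotient.mk _ b)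
    obtain ⟨a, rfl⟩ := Ideal.Quotient.mk_surjective y
    rw [Ideal.quotientMap_mk, Ideal.Quotient.eq] at hy
    exact ⟨a, hy⟩
  have hfinA : Module.Finite A (B ⧸ I.map (algebraMap A B)) := by
    apply Module.Finite.of_surjective (Algebra.linearMap A (B ⧸ I.map (algebraMap A B)))
    intro y
    obtain ⟨b, rfl⟩ := Ideal.Quotient.mk_surjective y
    obtain ⟨a, ha⟩ := hcong b
    refine ⟨a, ?_⟩
    rw [Algebra.linearMap_apply, IsScalarTower.algebraMap_apply A B (B ⧸ _),
      Ideal.Quotient.algebraMap_eq, Ideal.Quotient.eq]
    exact ha
  have hft : Algebra.FiniteType A R := inferInstance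
  obtain ⟨h1, -⟩ := Groth.Agent.Lib.helper26.PairHens.finite_of_finite_quotient' I hH R B hB hfinA
  -- Nakayama
  have hle : (⊤ : Submodule A B) ≤ LinearMap.range (Algebra.linearMap A B) := by
    apply Submodule.le_of_le_smul_of_le_jacobson_bot (I := I) h1.fg_top hH.jac
    intro b _
    obtain ⟨a, ha⟩ := hcong b
    rw [Ideal.smul_top_eq_map]
    have hb : b = algebraMap A B a + (b - algebraMap A B a) := by ring
    rw [hb]
    refine Submodule.add_mem_sup ⟨a, rfl⟩ ?_
    show b - algebraMap A B a ∈ I.map (algebraMap A B)
    have := neg_mem ha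
    rwa [neg_sub] at this
  intro b
  obtain ⟨a, ha⟩ := hle (Submodule.mem_top (x := b))
  exact ⟨a, ha⟩


end Groth.Agent.S17597
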