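import Groth.Statements.S1760
import Mathlib
import Groth.Agent.Lib.Helper17.GorFieldRing

set_option autoImplicit false
set_option linter.style.haveILetI false
universe u
open scoped TensorProduct
open Goren

namespace Groth.Agent.S1760

/-- First assertion, written for the local ring B = O_{X,x}. Let k'/k be a finitely generated field
extension, B a Noetherian local k-algebra, and q a prime of B ⊗_k k' lying over the maximal ideal of
B. Then B is Gorenstein if and only if the localization of B ⊗_k k' at q is Gorenstein. -/
theorem result (k k' : Type u) [Field k] [Field k'] [Algebra k k'] (hfg : ∃ s : Finset k', IntermediateField.adjoin k (s : Set k') = ⊤) (B : Type u) [CommRing B] [IsLocalRing B] [IsNoetherianRing B] [Algebra k B] (q : PrimeSpectrum (B ⊗[k] k')) (hq : q.asIdeal.comap (algebraMap B (B ⊗[k] k')) = IsLocalRing.maximalIdeal B) : LocCoh.IsGorensteinLocalRing B ↔ LocCoh.IsGorensteinLocalRing (Localization.AtPrime q.asIdeal) := by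
  haveI : Algebra.EssFiniteType k k' := IntermediateField.fg_top_iff.mp hfg
  haveI : IsNoetherianRing (B ⊗[k] k') := Algebra.EssFiniteType.isNoetherianRing B _
  haveI := q.isPrime
  have h1 := Groth.Agent.Lib.helper17.GorFieldRing.gor_baseChange_iff k B k' (Or.inr inferInstance) q.asIdeal
  rw [← h1]
  have h2 := Groth.Agent.Lib.helper17.GorFieldRing.gor_localization_maximalIdeal_iff B
  rw [← h2]
  have e : Localization.AtPrime (IsLocalRing.maximalIdeal B) ≃+*
      Localization.AtPrime (q.asIdeal.comap (algebraMap B (B ⊗[k] k'))) :=
    IsLocalization.ringEquivOfRingEquiv (M := (IsLocalRing.maximalIdeal B).primeCompl)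
      (T := (q.asIdeal.comap (algebraMap B (B ⊗[k] k'))).primeCompl)
      (Localization.AtPrime (IsLocalRing.maximalIdeal B))
      (Localization.AtPrime (q.asIdeal.comap (algebraMap B (B ⊗[k] k')))) (RingEquiv.refl B)
      (by
        ext x
        have hx : x ∈ q.asIdeal.comap (algebraMap B (B ⊗[k] k')) ↔
            x ∈ IsLocalRing.maximalIdeal B := by rw [hq]
        simp only [Submonoid.mem_map, Ideal.mem_primeCompl_iff]
        constructor
        · rintro ⟨y, hy, rfl⟩
          exact fun h => hy (hx.mp h)
        · intro h
          exact ⟨x, fun h' => h (hx.mpr h'), rfl⟩)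
  exact Groth.Agent.Lib.helper17.GorIso.isGorensteinLocalRing_iff_of_ringEquiv e

end Groth.Agent.S1760
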