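import Groth.Statements.S17604
import Mathlib
import Groth.Agent.Lib.Helper26.HenselPairIdem

set_option autoImplicit false
universe u
open Hensel

namespace Groth.Agent.S17604

open Groth.Agent.Lib.helper26.HenselPair TensorProduct

theorem henselianRing_bot' (C : Type*) [CommRing C] : HenselianRing C (⊥ : Ideal C) :=
  ⟨bot_le, fun f _ a₀ h0 _ => ⟨a₀, (Ideal.mem_bot.mp h0), by simp⟩⟩


/-- Let (A, I) be a Henselian pair, R and R' étale A-algebras, and B, B' Henselizations of the pairs (R,
IR), (R', IR') with their induced A-algebra structures (so B and B' are h-étale over A). Then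
reduction modulo I is a bijection from A-algebra maps B → B' to A-algebra maps B/IB → B'/IB': two
A-algebra maps B → B' that agree modulo IB' are equal, and every A-algebra map B/IB → B'/IB' is
induced by an A-algebra map B → B'. -/
theorem result (A : Type u) [CommRing A]
    (I : Ideal A) [HenselianRing A I]
    (R : Type u) [CommRing R] [Algebra A R] [Algebra.Etale A R]
    (B : Type u) [CommRing B] [Algebra R B] [Algebra A B] [IsScalarTower A R B]
    (hB : Hens2.IsPairHenselization R (I.map (algebraMap A R)) B)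
    (R' : Type u) [CommRing R'] [Algebra A R'] [Algebra.Etale A R']
    (B' : Type u) [CommRing B'] [Algebra R' B'] [Algebra A B'] [IsScalarTower A R' B']
    (hB' : Hens2.IsPairHenselization R' (I.map (algebraMap A R')) B') :
    (∀ φ ψ : B →ₐ[A] B', (∀ b : B, φ b - ψ b ∈ I.map (algebraMap A B')) → φ = ψ) ∧
    ∀ χ : (B ⧸ I.map (algebraMap A B)) →ₐ[A] (B' ⧸ I.map (algebraMap A B')),
      ∃ φ : B →ₐ[A] B', ∀ b : B,
        Ideal.Quotient.mk (I.map (algebraMap A B')) (φ b) = χ (Ideal.Quotient.mk (I.map (algebraMap A B)) b) := by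
  have hH' : HenselianRing B' (I.map (algebraMap A B')) := by
    have := hB'.1
    rwa [Ideal.map_map, ← IsScalarTower.algebraMap_eq] at this
  set K' := I.map (algebraMap A B') with hK'
  -- the ideal condition for an `A`-algebra map `R → C`
  have hcond : ∀ (C : Type u) [CommRing C] [Algebra A C] (f : R →ₐ[A] C),
      (I.map (algebraMap A R)).map f.toRingHom ≤ I.map (algebraMap A C) := by
    intro C _ _ f
    rw [Ideal.map_map]
    have : f.toRingHom.comp (algebraMap A R) = algebraMap A C := by
      ext a; simp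
    rw [this]
  constructor
  · intro φ ψ h
    have hR : φ.comp (IsScalarTower.toAlgHom A R B) = ψ.comp (IsScalarTower.toAlgHom A R B) :=
      algHom_eq_of_sub_mem K' hH'.jac _ _ fun r => h (algebraMap R B r)
    obtain ⟨g, -, hguniq⟩ := hB.2 B' K' (φ.comp (IsScalarTower.toAlgHom A R B)).toRingHom hH'
      (hcond B' _)
    have h1 : φ.toRingHom = g := hguniq _ (by ext r; rfl)
    have h2 : ψ.toRingHom = g := hguniq _ (by
      ext r
      have := congrArg (fun f : R →ₐ[A] B' => f r) hR
      exact this.symm)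
    ext b
    have := congrArg (fun f : B →+* B' => f b) (h1.trans h2.symm)
    exact this
  · intro χ
    let ρb : R →ₐ[A] B' ⧸ K' :=
      (χ.comp (Ideal.Quotient.mkₐ A _)).comp (IsScalarTower.toAlgHom A R B)
    let σ : B' ⊗[A] R →ₐ[B'] B' ⧸ K' :=
      Algebra.TensorProduct.lift (Algebra.ofId B' (B' ⧸ K')) ρb (fun _ _ => Commute.all _ _)
    obtain ⟨τ, hτ⟩ := exists_lift_of_henselianRing hH' (B' ⊗[A] R) σ
    let ρ : R →ₐ[A] B' := (τ.restrictScalars A).comp Algebra.TensorProduct.includeRight
    have hρ : ∀ r, Ideal.Quotient.mk K' (ρ r) = ρb r := by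
      intro r
      have := congrArg (fun f : B' ⊗[A] R →ₐ[B'] B' ⧸ K' => f (1 ⊗ₜ r)) hτ
      have h2 : σ (1 ⊗ₜ r) = ρb r := by simp [σ]
      rw [← h2, ← this]
      rfl
    obtain ⟨g, hg, -⟩ := hB.2 B' K' ρ.toRingHom hH' (hcond B' ρ)
    have hgR : ∀ r, g (algebraMap R B r) = ρ r := fun r =>
      congrArg (fun f : R →+* B' => f r) hg
    let φ : B →ₐ[A] B' :=
      { g with
        commutes' := by
          intro a
          change g (algebraMap A B a) = algebraMap A B' a
          rw [IsScalarTower.algebraMap_apply A R B, hgR, AlgHom.commutes] }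
    refine ⟨φ, ?_⟩
    -- uniqueness of maps into the pair `(B'/IB', 0)`
    have hbot : (I.map (algebraMap A R)).map ρb.toRingHom ≤ (⊥ : Ideal (B' ⧸ K')) := by
      refine (hcond (B' ⧸ K') ρb).trans ?_
      rw [Ideal.map_le_iff_le_comap]
      intro i hi
      rw [Ideal.mem_comap, Ideal.mem_bot, IsScalarTower.algebraMap_apply A B' (B' ⧸ K')]
      exact Ideal.Quotient.eq_zero_iff_mem.mpr (Ideal.mem_map_of_mem _ hi)
    obtain ⟨g₀, -, hg₀uniq⟩ := hB.2 (B' ⧸ K') ⊥ ρb.toRingHom (henselianRing_bot' _) hbot
    have e1 : (Ideal.Quotient.mk K').comp g = g₀ := hg₀uniq _ (by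
      ext r
      change Ideal.Quotient.mk K' (g (algebraMap R B r)) = ρb r
      rw [hgR, hρ])
    have e2 : χ.toRingHom.comp (Ideal.Quotient.mk (I.map (algebraMap A B))) = g₀ :=
      hg₀uniq _ (by ext r; rfl)
    intro b
    have := congrArg (fun f : B →+* B' ⧸ K' => f b) (e1.trans e2.symm)
    exact this


end Groth.Agent.S17604
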