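import Groth.Statements.S17605
import Mathlib.RingTheory.Localization.Away.Basic
import Mathlib.RingTheory.Jacobson.Ideal
import Mathlib.RingTheory.Spectrum.Prime.Topology

set_option autoImplicit false
universe u
open Hensel

namespace Groth.Agent.S17605

/-- Let A be a ring with an ideal I and let f₁, f₂ be elements of A such that D(f₂) ∩ V(I) ⊆ D(f₁) ∩
V(I) in Spec A. If H₁ is a Henselization of the pair (A_{f₁}, IA_{f₁}) and H₂ a Henselization of the
pair (A_{f₂}, IA_{f₂}), with their induced A-algebra structures, then there is exactly one A-algebra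
map H₁ → H₂. -/
theorem result (A : Type u) [CommRing A]
    (I : Ideal A) (f₁ f₂ : A)
    (h : (PrimeSpectrum.basicOpen f₂ : Set (PrimeSpectrum A)) ∩ PrimeSpectrum.zeroLocus (I : Set A) ⊆
      (PrimeSpectrum.basicOpen f₁ : Set (PrimeSpectrum A)) ∩ PrimeSpectrum.zeroLocus (I : Set A))
    (H₁ : Type u) [CommRing H₁] [Algebra (Localization.Away f₁) H₁] [Algebra A H₁]
    [IsScalarTower A (Localization.Away f₁) H₁]
    (hH₁ : Hens2.IsPairHenselization (Localization.Away f₁)
      (I.map (algebraMap A (Localization.Away f₁))) H₁)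
    (H₂ : Type u) [CommRing H₂] [Algebra (Localization.Away f₂) H₂] [Algebra A H₂]
    [IsScalarTower A (Localization.Away f₂) H₂]
    (hH₂ : Hens2.IsPairHenselization (Localization.Away f₂)
      (I.map (algebraMap A (Localization.Away f₂))) H₂) :
    Nonempty (H₁ →ₐ[A] H₂) ∧ Subsingleton (H₁ →ₐ[A] H₂) := by
  classical
  -- `f₁` is a unit modulo `I B` in `B = A_{f₂}`
  have hunit : ∃ b : Localization.Away f₂,
      algebraMap A (Localization.Away f₂) f₁ * b - 1 ∈ I.map (algebraMap A (Localization.Away f₂)) := by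
    by_contra hcon
    have hne : Ideal.span {algebraMap A (Localization.Away f₂) f₁} ⊔
        I.map (algebraMap A (Localization.Away f₂)) ≠ ⊤ := by
      intro htop
      have h1 : (1 : Localization.Away f₂) ∈ Ideal.span {algebraMap A (Localization.Away f₂) f₁} ⊔
          I.map (algebraMap A (Localization.Away f₂)) := by rw [htop]; trivial
      obtain ⟨y, hy, z, hz, hyz⟩ := Submodule.mem_sup.mp h1
      obtain ⟨b, rfl⟩ := Ideal.mem_span_singleton'.mp hy
      apply hcon
      refine ⟨b, ?_⟩
      have : algebraMap A (Localization.Away f₂) f₁ * b - 1 = -z := by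
        rw [← hyz]; ring
      rw [this]
      exact neg_mem hz
    obtain ⟨𝔮, h𝔮max, h𝔮le⟩ := Ideal.exists_le_maximal _ hne
    have h𝔮 : 𝔮.IsPrime := h𝔮max.isPrime
    let 𝔭 : PrimeSpectrum A := ⟨𝔮.comap (algebraMap A (Localization.Away f₂)), inferInstance⟩
    have hp2 : 𝔭 ∈ (PrimeSpectrum.basicOpen f₂ : Set (PrimeSpectrum A)) := by
      show f₂ ∉ 𝔭.asIdeal
      intro hmem
      have hmem' : algebraMap A (Localization.Away f₂) f₂ ∈ 𝔮 := hmem
      exact h𝔮.ne_top (Ideal.eq_top_of_isUnit_mem _ hmem'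
        (IsLocalization.Away.algebraMap_isUnit f₂))
    have hpI : 𝔭 ∈ PrimeSpectrum.zeroLocus (I : Set A) := by
      intro a ha
      show algebraMap A (Localization.Away f₂) a ∈ 𝔮
      exact h𝔮le (Ideal.mem_sup_right (Ideal.mem_map_of_mem _ ha))
    have hp1 := (h ⟨hp2, hpI⟩).1
    apply hp1
    show algebraMap A (Localization.Away f₂) f₁ ∈ 𝔮
    exact h𝔮le (Ideal.mem_sup_left (Ideal.subset_span rfl))
  obtain ⟨b, hb⟩ := hunit
  have hJ : ((I.map (algebraMap A (Localization.Away f₂))).map
      (algebraMap (Localization.Away f₂) H₂)) ≤ Ideal.jacobson ⊥ := hH₂.1.jac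
  have hu : IsUnit (algebraMap A H₂ f₁) := by
    have hmem : algebraMap (Localization.Away f₂) H₂
        (algebraMap A (Localization.Away f₂) f₁ * b - 1) ∈ Ideal.jacobson (⊥ : Ideal H₂) :=
      hJ (Ideal.mem_map_of_mem _ hb)
    have h1 := Ideal.mem_jacobson_bot.mp hmem 1
    rw [mul_one, map_sub, map_one, sub_add_cancel, map_mul,
      ← IsScalarTower.algebraMap_apply] at h1
    exact isUnit_of_mul_isUnit_left h1
  let l : Localization.Away f₁ →+* H₂ := IsLocalization.Away.lift f₁ (g := algebraMap A H₂) hu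
  have hl : l.comp (algebraMap A (Localization.Away f₁)) = algebraMap A H₂ :=
    IsLocalization.Away.lift_comp f₁ hu
  have hle : (I.map (algebraMap A (Localization.Away f₁))).map l ≤
      (I.map (algebraMap A (Localization.Away f₂))).map (algebraMap (Localization.Away f₂) H₂) := by
    rw [Ideal.map_map, Ideal.map_map, hl, ← IsScalarTower.algebraMap_eq]
  obtain ⟨g, hg, hguniq⟩ := hH₁.2 H₂ _ l hH₂.1 hle
  have hext : ∀ φ : H₁ →ₐ[A] H₂, (φ : H₁ →+* H₂) = g := by
    intro φ
    apply hguniq
    apply IsLocalization.ringHom_ext (Submonoid.powers f₁)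
    rw [RingHom.comp_assoc, ← IsScalarTower.algebraMap_eq, hl]
    exact φ.comp_algebraMap
  constructor
  · refine ⟨{ g with commutes' := fun a => ?_ }⟩
    show g (algebraMap A H₁ a) = algebraMap A H₂ a
    rw [IsScalarTower.algebraMap_apply A (Localization.Away f₁) H₁, ← RingHom.comp_apply, hg,
      ← RingHom.comp_apply, hl]
  · constructor
    intro φ ψ
    apply AlgHom.coe_ringHom_injective
    rw [hext φ, hext ψ]

end Groth.Agent.S17605
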