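import Groth.Statements.S17607
import Groth.Agent.Lib.Helper26.PairHensCalc

set_option autoImplicit false
universe u
open Hensel

namespace Groth.Agent.S17607

open Groth.Agent.Lib.helper26.PairHens Groth.Agent.Lib.helper26.PairNbhd in
theorem forward_aux (A : Type u) [CommRing A] (I : Ideal A) (B : Type u) [CommRing B] [Algebra A B]
    (Pol : Type u) [CommRing Pol] [Algebra A Pol] [Algebra.FinitePresentation A Pol]
    (P : Type u) [CommRing P] [Algebra Pol P] [Algebra A P] [IsScalarTower A Pol P]
    (hP : Hens2.IsPairHenselization Pol (I.map (algebraMap A Pol)) P)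
    (φ : P →ₐ[A] B) (hφ : Function.Surjective φ)
    (C' : Type u) [CommRing C'] [Algebra Pol C'] [Algebra A C'] [IsScalarTower A Pol C']
    [Algebra.Etale Pol C'] (hnb : IsNbhd (I.map (algebraMap A Pol)) C')
    (ψ : C' →ₐ[Pol] P) {l : ℕ} (s : Fin l → P) (hs : Submodule.span P (Set.range s) = RingHom.ker φ)
    (y : Fin l → C') (hy : ∀ i, ψ (y i) = s i) :
    ∃ (R : Type u) (_ : CommRing R) (_ : Algebra A R) (_ : Algebra R B) (_ : IsScalarTower A R B),
      Algebra.FinitePresentation A R ∧ Hens2.IsPairHenselization R (I.map (algebraMap A R)) B := by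
  let _ : Algebra C' P := ψ.toRingHom.toAlgebra
  have htower : IsScalarTower Pol C' P := IsScalarTower.of_algHom ψ
  have hP' := isPairHenselization_of_tower hP C' hnb
  set K : Ideal C' := Ideal.span (Set.range y) with hK
  have hKφ : ∀ c ∈ K, (φ.toRingHom.comp ψ.toRingHom) c = 0 := by
    intro c hc
    have hle : K ≤ RingHom.ker (φ.toRingHom.comp ψ.toRingHom) := by
      rw [hK, Ideal.span_le]
      rintro _ ⟨i, rfl⟩
      show φ (ψ (y i)) = 0
      rw [hy]
      have : s i ∈ RingHom.ker φ := by
        rw [← hs]; exact Submodule.subset_span ⟨i, rfl⟩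
      exact this
    exact hle hc
  let ρ : C' ⧸ K →+* B := Ideal.Quotient.lift K (φ.toRingHom.comp ψ.toRingHom) hKφ
  let _ : Algebra (C' ⧸ K) B := ρ.toAlgebra
  have hAkC : ∀ a : A, ψ (algebraMap A C' a) = algebraMap A P a := by
    intro a
    rw [IsScalarTower.algebraMap_apply A Pol C', ψ.commutes,
      ← IsScalarTower.algebraMap_apply]
  have htower2 : IsScalarTower A (C' ⧸ K) B := by
    refine IsScalarTower.of_algebraMap_eq (R := A) (S := C' ⧸ K) (A := B) ?_
    intro a
    show algebraMap A B a = ρ (algebraMap A (C' ⧸ K) a)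
    rw [IsScalarTower.algebraMap_apply A C' (C' ⧸ K), Ideal.Quotient.algebraMap_eq,
      Ideal.Quotient.lift_mk]
    show algebraMap A B a = φ (ψ (algebraMap A C' a))
    rw [hAkC, φ.commutes]
  have hfp1 : Algebra.FinitePresentation Pol C' := inferInstance
  have hfp2 : Algebra.FinitePresentation A C' :=
    Algebra.FinitePresentation.trans A Pol C'
  have hfp3 : Algebra.FinitePresentation A (C' ⧸ K) :=
    Algebra.FinitePresentation.quotient (Submodule.fg_span (Set.finite_range y))
  refine ⟨C' ⧸ K, inferInstance, inferInstance, inferInstance, htower2, hfp3, ?_⟩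
  have hker : RingHom.ker φ.toRingHom =
      (RingHom.ker (Ideal.Quotient.mk K)).map (algebraMap C' P) := by
    rw [Ideal.mk_ker, hK, Ideal.map_span]
    have : (algebraMap C' P) '' Set.range y = Set.range s := by
      ext z
      constructor
      · rintro ⟨_, ⟨i, rfl⟩, rfl⟩
        exact ⟨i, (hy i).symm⟩
      · rintro ⟨i, rfl⟩
        exact ⟨y i, ⟨i, rfl⟩, hy i⟩
    rw [this]
    exact hs.symm
  have key := isPairHenselization_of_surjective hP' (Ideal.Quotient.mk K)
    Ideal.Quotient.mk_surjective φ.toRingHom hφ hker (fun c => rfl)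
  have hideal : ((I.map (algebraMap A Pol)).map
      (algebraMap Pol C')).map (Ideal.Quotient.mk K) =
      I.map (algebraMap A (C' ⧸ K)) := by
    rw [Ideal.map_map, Ideal.map_map]
    congr 1
    ext a
    simp only [RingHom.comp_apply]
    rw [← IsScalarTower.algebraMap_apply A Pol C',
      IsScalarTower.algebraMap_apply A C' (C' ⧸ K), Ideal.Quotient.algebraMap_eq]
  rw [hideal] at key
  exact key

open Groth.Agent.Lib.helper26.PairHens Groth.Agent.Lib.helper26.PairNbhd in
theorem forward (A : Type u) [CommRing A] (I : Ideal A) (B : Type u) [CommRing B] [Algebra A B]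
    (n : ℕ) (P : Type u) [CommRing P] [Algebra (MvPolynomial (Fin n) A) P] [Algebra A P]
    [IsScalarTower A (MvPolynomial (Fin n) A) P]
    (hP : Hens2.IsPairHenselization (MvPolynomial (Fin n) A)
      (I.map (algebraMap A (MvPolynomial (Fin n) A))) P)
    (φ : P →ₐ[A] B) (hφ : Function.Surjective φ) (hfg : (RingHom.ker φ).FG) :
    ∃ (R : Type u) (_ : CommRing R) (_ : Algebra A R) (_ : Algebra R B) (_ : IsScalarTower A R B),
      Algebra.FinitePresentation A R ∧ Hens2.IsPairHenselization R (I.map (algebraMap A R)) B := by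
  obtain ⟨l, s, hs⟩ := Submodule.fg_iff_exists_fin_generating_family.mp hfg
  obtain ⟨k, ψ, y, hy⟩ := exists_stage_fin hP s
  have := k.etale
  exact forward_aux A I B (MvPolynomial (Fin n) A) P hP φ hφ k.C k.isNbhd ψ s hs y hy

open Groth.Agent.Lib.helper26.PairHens Groth.Agent.Lib.helper26.PairNbhd in
theorem backward (A : Type u) [CommRing A] (I : Ideal A) (B : Type u) [CommRing B] [Algebra A B]
    (R : Type u) [CommRing R] [Algebra A R] [Algebra R B] [IsScalarTower A R B]
    [Algebra.FinitePresentation A R]
    (hB : Hens2.IsPairHenselization R (I.map (algebraMap A R)) B) :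
    ∃ (n : ℕ) (P : Type u) (_ : CommRing P) (_ : Algebra (MvPolynomial (Fin n) A) P) (_ : Algebra A P)
        (_ : IsScalarTower A (MvPolynomial (Fin n) A) P),
        Hens2.IsPairHenselization (MvPolynomial (Fin n) A)
          (I.map (algebraMap A (MvPolynomial (Fin n) A))) P ∧
        ∃ φ : P →ₐ[A] B, Function.Surjective φ ∧ (RingHom.ker φ).FG := by
  obtain ⟨n, f, hf, hfg⟩ := Algebra.FinitePresentation.out (R := A) (A := R)
  set IP := I.map (algebraMap A (MvPolynomial (Fin n) A)) with hIP
  let P := H (MvPolynomial (Fin n) A) IP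
  have hP : Hens2.IsPairHenselization (MvPolynomial (Fin n) A) IP P := isPairHenselization_H
  let _ : Algebra A P := ((algebraMap (MvPolynomial (Fin n) A) P).comp
    (algebraMap A (MvPolynomial (Fin n) A))).toAlgebra
  have htower : IsScalarTower A (MvPolynomial (Fin n) A) P :=
    IsScalarTower.of_algebraMap_eq fun _ => rfl
  have hIPf : IP.map f.toRingHom = I.map (algebraMap A R) := by
    rw [hIP, Ideal.map_map]
    congr 1
    exact f.comp_algebraMap
  have hB' : Hens2.IsPairHenselization R (IP.map f.toRingHom) B := by rw [hIPf]; exact hB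
  have hJ : IP.map ((algebraMap R B).comp f.toRingHom) ≤ (IP.map f.toRingHom).map (algebraMap R B) :=
    (Ideal.map_map f.toRingHom (algebraMap R B)).ge
  obtain ⟨φ₀, hφ₀, -⟩ := hP.2 B _ ((algebraMap R B).comp f.toRingHom) hB'.1 hJ
  have hφ₀' : ∀ p, φ₀ (algebraMap (MvPolynomial (Fin n) A) P p) = algebraMap R B (f.toRingHom p) :=
    fun p => RingHom.congr_fun hφ₀ p
  obtain ⟨hsurj, hker⟩ := surjective_and_ker_of_isPairHenselization hP f.toRingHom hf hB' φ₀ hφ₀'
  let φ : P →ₐ[A] B :=
    { φ₀ with
      commutes' := fun a => by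
        show φ₀ (algebraMap (MvPolynomial (Fin n) A) P (algebraMap A _ a)) = algebraMap A B a
        rw [hφ₀']
        show algebraMap R B (f (algebraMap A _ a)) = _
        rw [f.commutes, ← IsScalarTower.algebraMap_apply] }
  refine ⟨n, P, inferInstance, inferInstance, inferInstance, htower, hP, φ, hsurj, ?_⟩
  have : RingHom.ker φ = RingHom.ker φ₀ := rfl
  rw [this, hker]
  exact Ideal.FG.map hfg _


/-- Let (A, I) and (B, IB) be Henselian pairs with B an A-algebra. Then the following are equivalent:
(i) A → B is Henselian finitely presented, i.e. there are n, a Henselization P of the pair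
(A[X₁,…,Xₙ], I·A[X₁,…,Xₙ]) (a Henselized polynomial ring) and a surjective A-algebra map P → B with
finitely generated kernel; (ii) there are a finitely presented A-algebra R and an R-algebra
structure on B compatible with that of A for which B is a Henselization of the pair (R, IR). -/
theorem result (A : Type u) [CommRing A] (I : Ideal A)
    [HenselianRing A I] (B : Type u) [CommRing B] [Algebra A B]
    [HenselianRing B (I.map (algebraMap A B))] :
    (∃ (n : ℕ) (P : Type u) (_ : CommRing P) (_ : Algebra (MvPolynomial (Fin n) A) P) (_ : Algebra A P)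
        (_ : IsScalarTower A (MvPolynomial (Fin n) A) P),
        Hens2.IsPairHenselization (MvPolynomial (Fin n) A)
          (I.map (algebraMap A (MvPolynomial (Fin n) A))) P ∧
        ∃ φ : P →ₐ[A] B, Function.Surjective φ ∧ (RingHom.ker φ).FG) ↔
    ∃ (R : Type u) (_ : CommRing R) (_ : Algebra A R) (_ : Algebra R B) (_ : IsScalarTower A R B),
      Algebra.FinitePresentation A R ∧ Hens2.IsPairHenselization R (I.map (algebraMap A R)) B := by
  constructor
  · rintro ⟨n, P, _, _, _, _, hP, φ, hφ, hfg⟩
    exact forward A I B n P hP φ hφ hfg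
  · rintro ⟨R, _, _, _, _, hfp, hB⟩
    exact backward A I B R hB


end Groth.Agent.S17607
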