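import Groth.Statements.S17608
import Groth.Agent.Lib.Helper26.PairHensFP

set_option autoImplicit false
universe u
open Hensel

namespace Groth.Agent.S17608

open Groth.Agent.Lib.helper26.PairHens Groth.Agent.Lib.helper26.PairNbhd in
theorem aux (A : Type u) [CommRing A] (I : Ideal A)
    (R : Type u) [CommRing R] [Algebra A R] [Algebra.FinitePresentation A R]
    (B : Type u) [CommRing B] [Algebra R B] [Algebra A B] [IsScalarTower A R B]
    (hB : Hens2.IsPairHenselization R (I.map (algebraMap A R)) B)
    (S : Type u) [CommRing S] [Algebra B S] [Algebra A S] [IsScalarTower A B S]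
    (C : Type u) [CommRing C] [Algebra S C] [Algebra A C] [IsScalarTower A S C]
    (hC : Hens2.IsPairHenselization S (I.map (algebraMap A S)) C)
    (n : ℕ) (f : MvPolynomial (Fin n) B →ₐ[B] S) (hf : Function.Surjective f)
    (hfg : (RingHom.ker f.toRingHom).FG) :
    ∃ (T : Type u) (_ : CommRing T) (_ : Algebra A T) (_ : Algebra T C) (_ : IsScalarTower A T C),
      Algebra.FinitePresentation A T ∧ Hens2.IsPairHenselization T (I.map (algebraMap A T)) C := by
  set IR := I.map (algebraMap A R) with hIR
  set IPol := I.map (algebraMap A (MvPolynomial (Fin n) R)) with hIPol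
  let P := H (MvPolynomial (Fin n) R) IPol
  have hP : Hens2.IsPairHenselization (MvPolynomial (Fin n) R) IPol P := isPairHenselization_H
  let _ : Algebra A P := ((algebraMap (MvPolynomial (Fin n) R) P).comp
    (algebraMap A (MvPolynomial (Fin n) R))).toAlgebra
  have htowerP : IsScalarTower A (MvPolynomial (Fin n) R) P :=
    IsScalarTower.of_algebraMap_eq fun _ => rfl
  have hIRPol : IR.map (algebraMap R (MvPolynomial (Fin n) R)) = IPol := by
    rw [hIR, hIPol, Ideal.map_map, ← IsScalarTower.algebraMap_eq]
  have hP' : Hens2.IsPairHenselization (MvPolynomial (Fin n) R)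
      (IR.map (algebraMap R (MvPolynomial (Fin n) R))) P := by rw [hIRPol]; exact hP
  -- the map `B → P`
  have hIRP : IR.map ((algebraMap (MvPolynomial (Fin n) R) P).comp
      (algebraMap R (MvPolynomial (Fin n) R))) ≤ IPol.map (algebraMap (MvPolynomial (Fin n) R) P) := by
    rw [← Ideal.map_map, hIRPol]
  obtain ⟨β, hβ, -⟩ := hB.2 P _ _ hP.1 hIRP
  have hβ' : ∀ r : R, β (algebraMap R B r) =
      algebraMap (MvPolynomial (Fin n) R) P (MvPolynomial.C r) := fun r => RingHom.congr_fun hβ r
  let i₂ : MvPolynomial (Fin n) R →+* MvPolynomial (Fin n) B := MvPolynomial.map (algebraMap R B)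
  let αT : MvPolynomial (Fin n) B →+* P :=
    MvPolynomial.eval₂Hom β (fun i => algebraMap (MvPolynomial (Fin n) R) P (MvPolynomial.X i))
  let _ : Algebra (MvPolynomial (Fin n) B) P := αT.toAlgebra
  have hcompat : ∀ p : MvPolynomial (Fin n) R,
      algebraMap (MvPolynomial (Fin n) B) P (i₂ p) = algebraMap (MvPolynomial (Fin n) R) P p := by
    intro p
    have : αT.comp i₂ = algebraMap (MvPolynomial (Fin n) R) P := by
      apply MvPolynomial.ringHom_ext
      · intro r
        show αT (MvPolynomial.map (algebraMap R B) (MvPolynomial.C r)) = _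
        rw [MvPolynomial.map_C]
        show MvPolynomial.eval₂Hom β _ (MvPolynomial.C _) = _
        rw [MvPolynomial.eval₂Hom_C, hβ']
      · intro i
        show αT (MvPolynomial.map (algebraMap R B) (MvPolynomial.X i)) = _
        rw [MvPolynomial.map_X]
        show MvPolynomial.eval₂Hom β _ (MvPolynomial.X i) = _
        rw [MvPolynomial.eval₂Hom_X']
    exact RingHom.congr_fun this p
  have hPT := isPairHenselization_of_jointly_epi hB (MvPolynomial (Fin n) R) P hP'
    (MvPolynomial (Fin n) B) (MvPolynomial.C) i₂
    (fun r => by show MvPolynomial.C (algebraMap R B r) = MvPolynomial.map _ (MvPolynomial.C r)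
                 rw [MvPolynomial.map_C]) hcompat
    (fun D _ g₁ g₂ h1 h2 => by
      apply MvPolynomial.ringHom_ext
      · intro b
        exact RingHom.congr_fun h1 b
      · intro i
        have := RingHom.congr_fun h2 (MvPolynomial.X i)
        simpa [i₂] using this)
  -- the composite `A → S`
  have hAS : ∀ a : A, f (i₂ (algebraMap R (MvPolynomial (Fin n) R) (algebraMap A R a))) =
      algebraMap A S a := by
    intro a
    show f (MvPolynomial.map (algebraMap R B) (MvPolynomial.C (algebraMap A R a))) = _
    rw [MvPolynomial.map_C, ← MvPolynomial.algebraMap_eq, f.commutes,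
      ← IsScalarTower.algebraMap_apply A R B, ← IsScalarTower.algebraMap_apply A B S]
  have hideal : (IR.map (i₂.comp (algebraMap R (MvPolynomial (Fin n) R)))).map f.toRingHom =
      I.map (algebraMap A S) := by
    rw [hIR, Ideal.map_map, Ideal.map_map]
    congr 1
    ext a
    exact hAS a
  have hC' : Hens2.IsPairHenselization S
      ((IR.map (i₂.comp (algebraMap R (MvPolynomial (Fin n) R)))).map f.toRingHom) C := by
    rw [hideal]; exact hC
  have hJ : (IR.map (i₂.comp (algebraMap R (MvPolynomial (Fin n) R)))).map
      ((algebraMap S C).comp f.toRingHom) ≤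
      ((IR.map (i₂.comp (algebraMap R (MvPolynomial (Fin n) R)))).map f.toRingHom).map
        (algebraMap S C) := (Ideal.map_map _ _).ge
  obtain ⟨φ₀, hφ₀, -⟩ := hPT.2 C _ ((algebraMap S C).comp f.toRingHom) hC'.1 hJ
  have hφ₀' : ∀ t, φ₀ (algebraMap (MvPolynomial (Fin n) B) P t) = algebraMap S C (f.toRingHom t) :=
    fun t => RingHom.congr_fun hφ₀ t
  obtain ⟨hsurj, hker⟩ := surjective_and_ker_of_isPairHenselization hPT f.toRingHom hf hC' φ₀ hφ₀'
  let φ : P →ₐ[A] C :=
    { φ₀ with
      commutes' := fun a => by
        show φ₀ (algebraMap (MvPolynomial (Fin n) R) P (algebraMap A _ a)) = algebraMap A C a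
        rw [IsScalarTower.algebraMap_apply A R (MvPolynomial (Fin n) R), ← hcompat, hφ₀']
        show algebraMap S C (f _) = _
        rw [hAS, ← IsScalarTower.algebraMap_apply] }
  have hfp : Algebra.FinitePresentation A (MvPolynomial (Fin n) R) :=
    Algebra.FinitePresentation.trans A R (MvPolynomial (Fin n) R)
  have hkerφ : (RingHom.ker φ).FG := by
    have : RingHom.ker φ = RingHom.ker φ₀ := rfl
    rw [this, hker]
    exact Ideal.FG.map hfg _
  exact exists_fp_of_surjective A I C (MvPolynomial (Fin n) R) P hP φ hsurj hkerφ


/-- Let (A, I) be a Henselian pair, let B be a Henselization of the pair (R, IR) for a finitely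
presented A-algebra R, and let C be a Henselization of the pair (S, IS) for a finitely presented
B-algebra S, all algebra structures being compatible (so A → B and B → C are Henselian finitely
presented maps of Henselian pairs). Then the composite A → C is Henselian finitely presented: there
are a finitely presented A-algebra T and a T-algebra structure on C compatible with that of A for
which C is a Henselization of the pair (T, IT). -/
theorem result (A : Type u) [CommRing A] (I : Ideal A) [HenselianRing A I]
    (R : Type u) [CommRing R] [Algebra A R] [Algebra.FinitePresentation A R]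
    (B : Type u) [CommRing B] [Algebra R B] [Algebra A B] [IsScalarTower A R B]
    (hB : Hens2.IsPairHenselization R (I.map (algebraMap A R)) B)
    (S : Type u) [CommRing S] [Algebra B S] [Algebra A S] [IsScalarTower A B S] [Algebra.FinitePresentation B S]
    (C : Type u) [CommRing C] [Algebra S C] [Algebra B C] [Algebra A C] [IsScalarTower B S C]
    [IsScalarTower A B C]
    (hC : Hens2.IsPairHenselization S (I.map (algebraMap A S)) C) :
    ∃ (T : Type u) (_ : CommRing T) (_ : Algebra A T) (_ : Algebra T C) (_ : IsScalarTower A T C),
      Algebra.FinitePresentation A T ∧ Hens2.IsPairHenselization T (I.map (algebraMap A T)) C := by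
  obtain ⟨n, f, hf, hfg⟩ := Algebra.FinitePresentation.out (R := B) (A := S)
  have htower : IsScalarTower A S C := by
    apply IsScalarTower.of_algebraMap_eq
    intro a
    rw [IsScalarTower.algebraMap_apply A B C, IsScalarTower.algebraMap_apply B S C,
      ← IsScalarTower.algebraMap_apply A B S]
  exact aux A I R B hB S C hC n f hf hfg


end Groth.Agent.S17608
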