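import Groth.Statements.S17610
import Groth.Agent.Lib.Helper26.TruncLift
import Groth.Agent.Lib.Helper26.PairHensTrunc

set_option autoImplicit false
universe u
open Hensel

namespace Groth.Agent.S17610

theorem map_quotient_eq_bot {A : Type u} [CommRing A] (J : Ideal A) (D : Type u) [CommRing D]
    [Algebra A D] (K : Ideal D) (h : J.map (algebraMap A D) = ⊥) :
    J.map (algebraMap A (D ⧸ K)) = ⊥ := by
  rw [IsScalarTower.algebraMap_eq A D (D ⧸ K), ← Ideal.map_map, h, Ideal.map_bot]

theorem ker_mkₐ {A : Type u} [CommRing A] (D : Type u) [CommRing D] [Algebra A D] (K : Ideal D) :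
    RingHom.ker (Ideal.Quotient.mkₐ A K) = K := by
  ext x
  rw [RingHom.mem_ker, Ideal.Quotient.mkₐ_eq_mk, Ideal.Quotient.eq_zero_iff_mem]

theorem finitePresentation_trunc (A : Type u) [CommRing A] (I : Ideal A)
    (R₀ : Type u) [CommRing R₀] [Algebra A R₀] [Algebra.FinitePresentation A R₀]
    (B : Type u) [CommRing B] [Algebra R₀ B] [Algebra A B] [IsScalarTower A R₀ B]
    (hB : Hens2.IsPairHenselization R₀ (I.map (algebraMap A R₀)) B) (r : ℕ) :
    Algebra.FinitePresentation (A ⧸ I ^ r) (B ⧸ (I ^ r).map (algebraMap A B)) := by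
  obtain ⟨e⟩ := Groth.Agent.Lib.helper26.PairHens.nonempty_tensor_algEquiv_quotient_pow I R₀ B hB r
  exact Algebra.FinitePresentation.equiv e


/-- Let (A, I) be a Henselian pair and let B be a Henselization of the pair (R₀, IR₀) for a finitely
presented A-algebra R₀ (so A → B is a Henselian finitely presented map of Henselian pairs). Then A →
B is h-formally étale, meaning that for all A-algebras E and C annihilated by some power I^N (N ≥
1), every surjective A-algebra map p : E → C with nilpotent kernel and every A-algebra map u : B →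
C, there is exactly one A-algebra map v : B → E with p ∘ v = u, if and only if A/I^r → B/I^rB is
étale for every r ≥ 1. (Test algebras E, C are taken in the universe of A.) -/
theorem result (A : Type u) [CommRing A] (I : Ideal A)
    [HenselianRing A I] (R₀ : Type u) [CommRing R₀] [Algebra A R₀] [Algebra.FinitePresentation A R₀]
    (B : Type u) [CommRing B] [Algebra R₀ B] [Algebra A B] [IsScalarTower A R₀ B]
    (hB : Hens2.IsPairHenselization R₀ (I.map (algebraMap A R₀)) B) :
    (∀ (E C : Type u) [CommRing E] [CommRing C] [Algebra A E] [Algebra A C] (N : ℕ), 1 ≤ N →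
        (I ^ N).map (algebraMap A E) = ⊥ → (I ^ N).map (algebraMap A C) = ⊥ →
        ∀ (p : E →ₐ[A] C), Function.Surjective p → (∃ M : ℕ, 1 ≤ M ∧ RingHom.ker p ^ M = ⊥) →
        ∀ u : B →ₐ[A] C, ∃! v : B →ₐ[A] E, p.comp v = u) ↔
    ∀ r : ℕ, 1 ≤ r → Algebra.Etale (A ⧸ I ^ r) (B ⧸ (I ^ r).map (algebraMap A B)) := by
  constructor
  · intro h r hr
    have hS : Algebra.FormallySmooth (A ⧸ I ^ r) (B ⧸ (I ^ r).map (algebraMap A B)) := by
      apply Groth.Agent.Lib.helper26.TruncLift.formallySmooth_of_lifting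
      intro D _ _ K hJD hK u
      obtain ⟨v, hv, -⟩ := h D (D ⧸ K) r hr hJD (map_quotient_eq_bot _ D K hJD)
        (Ideal.Quotient.mkₐ A K) (Ideal.Quotient.mkₐ_surjective A K)
        ⟨2, by norm_num, by rw [ker_mkₐ]; exact hK⟩ u
      exact ⟨v, hv⟩
    have hU : Algebra.FormallyUnramified (A ⧸ I ^ r) (B ⧸ (I ^ r).map (algebraMap A B)) := by
      apply Groth.Agent.Lib.helper26.TruncLift.formallyUnramified_of_lifting_unique
      intro D _ _ K hJD hK v₁ v₂ hv
      obtain ⟨v, -, huniq⟩ := h D (D ⧸ K) r hr hJD (map_quotient_eq_bot _ D K hJD)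
        (Ideal.Quotient.mkₐ A K) (Ideal.Quotient.mkₐ_surjective A K)
        ⟨2, by norm_num, by rw [ker_mkₐ]; exact hK⟩ ((Ideal.Quotient.mkₐ A K).comp v₂)
      rw [huniq v₁ hv, huniq v₂ rfl]
    have hE : Algebra.FormallyEtale (A ⧸ I ^ r) (B ⧸ (I ^ r).map (algebraMap A B)) :=
      Algebra.FormallyEtale.of_formallyUnramified_and_formallySmooth
    exact ⟨hE, finitePresentation_trunc A I R₀ B hB r⟩
  · intro h E C _ _ _ _ N hN hE hC p hp hM u
    obtain ⟨M, -, hker⟩ := hM
    have hEt := (h N hN).formallyEtale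
    have hS : Algebra.FormallySmooth (A ⧸ I ^ N) (B ⧸ (I ^ N).map (algebraMap A B)) :=
      inferInstance
    have hU : Algebra.FormallyUnramified (A ⧸ I ^ N) (B ⧸ (I ^ N).map (algebraMap A B)) :=
      inferInstance
    obtain ⟨v, hv⟩ := Groth.Agent.Lib.helper26.TruncLift.exists_lift_of_formallySmooth E C hE hC
      p hp ⟨M, hker⟩ u
    refine ⟨v, hv, fun v' hv' => ?_⟩
    exact Groth.Agent.Lib.helper26.TruncLift.lift_unique_of_formallyUnramified E C hE p
      ⟨M, hker⟩ v' v (hv'.trans hv.symm)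


end Groth.Agent.S17610
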