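import Groth.Statements.S17613
import Groth.Agent.Lib.Helper26.DirLimHens
import Groth.Agent.Lib.Helper26.PairHensUniv

set_option autoImplicit false
universe u
open Hensel

namespace Groth.Agent.S17613

/-- Let (A, I) be a Henselian pair and let B be a Henselization of the pair (R₀, IR₀) for a finitely
presented A-algebra R₀ (so A → B is Henselian finitely presented). Let (R_a) be a directed system of
A-algebras with A-compatible transition maps such that each (R_a, IR_a) is a Henselian pair, and let
L be its direct limit with the induced A-algebra structure. Then the canonical map from the colimit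
of the Hom_A(B, R_a) to Hom_A(B, L) is bijective: every A-algebra map B → L factors through some
R_a, and two A-algebra maps B → R_a whose composites with R_a → L agree become equal after passing
to some R_b. (Index set in the universe of the rings.) -/
theorem result (A : Type u) [CommRing A] (I : Ideal A)
    [HenselianRing A I] (R₀ : Type u) [CommRing R₀] [Algebra A R₀] [Algebra.FinitePresentation A R₀]
    (B : Type u) [CommRing B] [Algebra R₀ B] [Algebra A B] [IsScalarTower A R₀ B]
    (hB : Hens2.IsPairHenselization R₀ (I.map (algebraMap A R₀)) B)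
    {κ : Type u} [Preorder κ] [IsDirectedOrder κ] [Nonempty κ]
    (Ra : κ → Type u) [∀ a, CommRing (Ra a)] [∀ a, Algebra A (Ra a)]
    [∀ a, HenselianRing (Ra a) (I.map (algebraMap A (Ra a)))]
    (t : ∀ a b : κ, a ≤ b → (Ra a →+* Ra b)) [DirectedSystem Ra (fun a b h => t a b h)]
    (ht : ∀ (a b : κ) (h : a ≤ b), (t a b h).comp (algebraMap A (Ra a)) = algebraMap A (Ra b))
    [Algebra A (DirectLimit Ra t)]
    (halg : ∀ (a : κ) (x : A), algebraMap A (DirectLimit Ra t) x =
      DirectLimit.Ring.of Ra t a (algebraMap A (Ra a) x)) :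
    (∀ χ : B →ₐ[A] DirectLimit Ra t, ∃ (a : κ) (φ : B →ₐ[A] Ra a),
        ∀ x : B, DirectLimit.Ring.of Ra t a (φ x) = χ x) ∧
    ∀ (a : κ) (φ ψ : B →ₐ[A] Ra a),
      (∀ x : B, DirectLimit.Ring.of Ra t a (φ x) = DirectLimit.Ring.of Ra t a (ψ x)) →
      ∃ (b : κ) (h : a ≤ b), ∀ x : B, t a b h (φ x) = t a b h (ψ x) := by
  have hL : HenselianRing (DirectLimit Ra t) (I.map (algebraMap A (DirectLimit Ra t))) :=
    Groth.Agent.Lib.helper26.DirLim.henselianRing I Ra t ht halg (fun a => inferInstance)
  have hofalg : ∀ a, (DirectLimit.Ring.of Ra t a).comp (algebraMap A (Ra a)) =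
      algebraMap A (DirectLimit Ra t) := by
    intro a; ext x; exact (halg a x).symm
  constructor
  · intro χ
    let γ : R₀ →ₐ[A] DirectLimit Ra t := χ.comp (IsScalarTower.toAlgHom A R₀ B)
    obtain ⟨a, γa, hγa⟩ :=
      Groth.Agent.Lib.helper26.DirLim.exists_algHom_of_finitePresentation Ra t ht halg R₀ γ
    have hle : (I.map (algebraMap A R₀)).map γa.toRingHom ≤ I.map (algebraMap A (Ra a)) := by
      rw [Ideal.map_map]
      apply le_of_eq
      congr 1
      exact γa.comp_algebraMap
    obtain ⟨φ₁, hφ₁, -⟩ := hB.2 (Ra a) _ γa.toRingHom inferInstance hle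
    have hφ₁' : ∀ r, φ₁ (algebraMap R₀ B r) = γa r := fun r => RingHom.congr_fun hφ₁ r
    let φ : B →ₐ[A] Ra a :=
      { φ₁ with
        commutes' := fun x => by
          show φ₁ (algebraMap A B x) = _
          rw [IsScalarTower.algebraMap_apply A R₀ B, hφ₁', γa.commutes] }
    refine ⟨a, φ, ?_⟩
    have hle' : (I.map (algebraMap A R₀)).map γ.toRingHom ≤
        I.map (algebraMap A (DirectLimit Ra t)) := by
      rw [Ideal.map_map]
      apply le_of_eq
      congr 1
      exact γ.comp_algebraMap
    obtain ⟨w, -, hw⟩ := hB.2 (DirectLimit Ra t) _ γ.toRingHom hL hle'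
    have h1 : (DirectLimit.Ring.of Ra t a).comp φ₁ = w := by
      apply hw
      ext r
      show DirectLimit.Ring.of Ra t a (φ₁ (algebraMap R₀ B r)) = γ r
      rw [hφ₁', hγa]
    have h2 : (χ : B →+* DirectLimit Ra t) = w := by
      apply hw
      ext r
      rfl
    intro x
    have := RingHom.congr_fun (h1.trans h2.symm) x
    exact this
  · intro a φ ψ h
    let φ₀ : R₀ →ₐ[A] Ra a := φ.comp (IsScalarTower.toAlgHom A R₀ B)
    let ψ₀ : R₀ →ₐ[A] Ra a := ψ.comp (IsScalarTower.toAlgHom A R₀ B)
    have hft : Algebra.FiniteType A R₀ := inferInstance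
    obtain ⟨b, hab, hb⟩ := Groth.Agent.Lib.helper26.DirLim.exists_eq_of_finiteType Ra t ht R₀
      φ₀ ψ₀ (fun r => h _)
    refine ⟨b, hab, ?_⟩
    set f₀ : R₀ →+* Ra b := (t a b hab).comp φ₀.toRingHom with hf₀
    have hle : (I.map (algebraMap A R₀)).map f₀ ≤ I.map (algebraMap A (Ra b)) := by
      rw [Ideal.map_map]
      apply le_of_eq
      congr 1
      ext x
      show t a b hab (φ₀ (algebraMap A R₀ x)) = _
      rw [φ₀.commutes]
      exact RingHom.congr_fun (ht a b hab) x
    obtain ⟨w, -, hw⟩ := hB.2 (Ra b) _ f₀ inferInstance hle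
    have h1 : (t a b hab).comp (φ : B →+* Ra a) = w := by
      apply hw
      ext r
      rfl
    have h2 : (t a b hab).comp (ψ : B →+* Ra a) = w := by
      apply hw
      ext r
      exact (hb r).symm
    intro x
    have := RingHom.congr_fun (h1.trans h2.symm) x
    exact this


end Groth.Agent.S17613
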