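import Groth.Statements.S17614
import Groth.Agent.S0670
import Groth.Agent.S0623
import Groth.Agent.Lib.Helper1.MVDeg0

set_option autoImplicit false
open CategoryTheory CategoryTheory.Limits AlgebraicGeometry Opposite
universe u
open EtZar

namespace Groth.Agent.S17614

section Abstract

open Abelian

universe w v' u'

variable {C : Type u'} [Category.{v'} C] [Abelian C] [HasExt.{w} C]
  {S : ShortComplex C} (hS : S.ShortExact) (X : C)

include hS in
theorem subsingleton_ext_succ_of_injective [Injective S.X₂] (n : ℕ)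
    (h3 : Subsingleton (Ext X S.X₃ n)) : Subsingleton (Ext X S.X₁ (n + 1)) := by
  refine ⟨fun a b => ?_⟩
  have key : ∀ x₁ : Ext X S.X₁ (n + 1), x₁ = 0 := by
    intro x₁
    obtain ⟨x₃, hx₃⟩ := Ext.covariant_sequence_exact₁ X hS x₁ (Ext.eq_zero_of_injective _) rfl
    rw [← hx₃, Subsingleton.elim x₃ 0, Ext.zero_comp]
  rw [key a, key b]

include hS in
theorem subsingleton_ext_one_of_lift [Injective S.X₂]
    (h : ∀ φ : X ⟶ S.X₃, ∃ ψ : X ⟶ S.X₂, ψ ≫ S.g = φ) : Subsingleton (Ext X S.X₁ 1) := by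
  refine ⟨fun a b => ?_⟩
  have key : ∀ x₁ : Ext X S.X₁ 1, x₁ = 0 := by
    intro x₁
    obtain ⟨x₃, hx₃⟩ := Ext.covariant_sequence_exact₁ X hS x₁ (Ext.eq_zero_of_injective _)
      (zero_add 1)
    obtain ⟨φ, rfl⟩ := (Ext.mk₀_bijective _ _).2 x₃
    obtain ⟨ψ, rfl⟩ := h φ
    rw [← hx₃, ← Ext.mk₀_comp_mk₀, Ext.comp_assoc_of_second_deg_zero,
      ShortComplex.ShortExact.comp_extClass, Ext.comp_zero]
  rw [key a, key b]

include hS in
theorem subsingleton_ext_of_injective [Injective S.X₂] (n : ℕ) (hn : 1 ≤ n)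
    (h1 : Subsingleton (Ext X S.X₁ (n + 1))) : Subsingleton (Ext X S.X₃ n) := by
  refine ⟨fun a b => ?_⟩
  have key : ∀ x₃ : Ext X S.X₃ n, x₃ = 0 := by
    intro x₃
    obtain ⟨x₂, hx₂⟩ := Ext.covariant_sequence_exact₃ X hS x₃ rfl (Subsingleton.elim _ _)
    obtain ⟨m, rfl⟩ : ∃ m, n = m + 1 := ⟨n - 1, by omega⟩
    rw [← hx₂, Ext.eq_zero_of_injective x₂, Ext.zero_comp]
  rw [key a, key b]

include hS in
theorem exists_lift_of_subsingleton_ext_one (h1 : Subsingleton (Ext X S.X₁ 1)) (φ : X ⟶ S.X₃) :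
    ∃ ψ : X ⟶ S.X₂, ψ ≫ S.g = φ := by
  obtain ⟨x₂, hx₂⟩ := Ext.covariant_sequence_exact₃ X hS (Ext.mk₀ φ) (zero_add 1)
    (Subsingleton.elim _ _)
  obtain ⟨ψ, rfl⟩ := (Ext.mk₀_bijective _ _).2 x₂
  rw [Ext.mk₀_comp_mk₀] at hx₂
  exact ⟨ψ, (Ext.mk₀_bijective _ _).1 hx₂⟩

end Abstract

section Theta

variable {S : Scheme.{u}} (T : S.Etale)

/-- `T` as the image of the top of its own small etale site -/
noncomputable def topIso : (EtShriek.compEtale T.hom).obj (EtCoh.top T.left) ≅ T :=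
  MorphismProperty.Over.isoMk (Iso.refl _) rfl

/-- sections of `F` over `T` from global sections of the pullback of `F` to `T` -/
noncomputable def θ (F : EtCoh.Ab S) (x : EtCoh.const T.left ℤ ⟶ (EtCoh.pull T.hom).obj F) :
    F.obj.obj (op T) :=
  F.obj.map (topIso T).inv.op
    (((Groth.Agent.H1.EtStalkPull.restrIsoPull T.hom).inv.app F).hom.app (op (EtCoh.top T.left))
      (Groth.Agent.H1.MVDeg0.ev T.left _ x))

theorem θ_surjective (F : EtCoh.Ab S) : Function.Surjective (θ T F) := by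
  intro s
  let s1 : ((EtShriek.restrAlong T.hom).obj F).obj.obj (op (EtCoh.top T.left)) :=
    F.obj.map (topIso T).hom.op s
  let s2 := ((Groth.Agent.H1.EtStalkPull.restrIsoPull T.hom).hom.app F).hom.app
    (op (EtCoh.top T.left)) s1
  refine ⟨(Groth.Agent.H1.MVDeg0.ev T.left _).symm s2, ?_⟩
  unfold θ
  rw [AddEquiv.apply_symm_apply]
  have h1 : ((Groth.Agent.H1.EtStalkPull.restrIsoPull T.hom).inv.app F).hom.app
      (op (EtCoh.top T.left)) s2 = s1 := by
    have := congrArg (fun m => m.hom.app (op (EtCoh.top T.left)) s1)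
      ((Groth.Agent.H1.EtStalkPull.restrIsoPull T.hom).hom_inv_id_app F)
    exact this
  rw [h1]
  change F.obj.map (topIso T).inv.op (F.obj.map (topIso T).hom.op s) = s
  rw [Groth.Agent.S0728.map_map, Iso.inv_hom_id]
  simp

theorem θ_naturality {F F' : EtCoh.Ab S} (φ : F ⟶ F')
    (x : EtCoh.const T.left ℤ ⟶ (EtCoh.pull T.hom).obj F) :
    θ T F' (x ≫ (EtCoh.pull T.hom).map φ) = φ.hom.app (op T) (θ T F x) := by
  unfold θ
  rw [Groth.Agent.H1.MVDeg0.ev_naturality]
  have h1 := (Groth.Agent.H1.EtStalkPull.restrIsoPull T.hom).inv.naturality φ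
  have h2 := congrArg (fun m => m.hom.app (op (EtCoh.top T.left))
    (Groth.Agent.H1.MVDeg0.ev T.left _ x)) h1
  refine (congrArg (F'.obj.map (topIso T).inv.op) h2).trans ?_
  exact (Groth.Agent.H1.MVDeg0.hom_naturality_apply φ (topIso T).inv _).symm

end Theta

section Sections

variable {S : Scheme.{u}}

theorem pull_shortExact (T : S.Etale) {Sc : ShortComplex (EtCoh.Ab S)} (hSc : Sc.ShortExact) :
    (Sc.map (EtCoh.pull T.hom)).ShortExact := by
  have h1 : PreservesFiniteLimits (EtCoh.pull (Y := S) T.hom) := Groth.Agent.S0101.result T.hom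
  have h2 : PreservesFiniteColimits (EtCoh.pull (Y := S) T.hom) := by
    have : PreservesColimitsOfSize.{0, 0} (EtCoh.pull (Y := S) T.hom) :=
      (EtCoh.pullPushAdj T.hom).leftAdjoint_preservesColimits
    exact PreservesColimitsOfSize.preservesFiniteColimits _
  have h3 : (EtCoh.pull (Y := S) T.hom).Additive :=
    (EtCoh.pullPushAdj (Y := S) T.hom).left_adjoint_additive
  exact hSc.map_of_exact (EtCoh.pull (Y := S) T.hom)

/-- **L1**: sections over `T` of a quotient lift when `H^1(T, -)` of the kernel vanishes -/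
theorem sections_surjective (T : S.Etale) {Sc : ShortComplex (EtCoh.Ab S)} (hSc : Sc.ShortExact)
    (h1 : Subsingleton (EtCoh.H T.left ((EtCoh.pull T.hom).obj Sc.X₁) 1)) :
    Function.Surjective (Sc.g.hom.app (op T)) := by
  intro q
  obtain ⟨x, rfl⟩ := θ_surjective T Sc.X₃ q
  obtain ⟨y, hy⟩ := exists_lift_of_subsingleton_ext_one (pull_shortExact T hSc)
    (EtCoh.const T.left ℤ) h1 x
  refine ⟨θ T Sc.X₂ y, ?_⟩
  rw [← θ_naturality, ← hy]
  rfl

end Sections

section Acyc

variable {S : Scheme.{u}}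

/-- acyclicity on all affine etale `S`-schemes -/
def Acyc (G : EtCoh.Ab S) : Prop :=
  ∀ (T : S.Etale), IsAffine T.left → ∀ i : ℕ, 1 ≤ i →
    Subsingleton (EtCoh.H T.left ((EtCoh.pull T.hom).obj G) i)

theorem acyc_quotient {Sc : ShortComplex (EtCoh.Ab S)} (hSc : Sc.ShortExact) [Injective Sc.X₂]
    (h : Acyc Sc.X₁) : Acyc Sc.X₃ := by
  intro T hT i hi
  have hE : Etale (T.hom : T.left ⟶ S) := T.prop
  have hinj : Injective ((Sc.map (EtCoh.pull (Y := S) T.hom)).X₂) :=
    Groth.Agent.S0623.injective_pull_of_etale (Y := S) T.hom Sc.X₂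
  exact subsingleton_ext_of_injective (pull_shortExact T hSc) (EtCoh.const T.left ℤ) i hi
    (h T hT (i + 1) (by omega))

end Acyc

section Zar

variable {S : Scheme.{u}} [EtZar.ZarCont S]

omit [EtZar.ZarCont S] in
theorem isAffine_zarToEt (V : S.Opens) (hV : IsAffineOpen V) :
    IsAffine ((EtZar.zarToEt S).obj V).left := hV

theorem resZar_shortExact {Sc : ShortComplex (EtCoh.Ab S)} (hSc : Sc.ShortExact)
    (h : Acyc Sc.X₁) : (Sc.map (EtZar.resZar S)).ShortExact := by
  have i4 := Groth.Agent.S0670.preservesFiniteLimits_resZar S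
  have hmono : Mono (Sc.map (EtZar.resZar S)).f := by
    have := hSc.mono_f
    exact inferInstanceAs (Mono ((EtZar.resZar S).map Sc.f))
  have hex : (Sc.map (EtZar.resZar S)).Exact :=
    hSc.exact.map_of_mono_of_preservesKernel (EtZar.resZar S) hSc.mono_f inferInstance
  have hls : Sheaf.IsLocallySurjective ((EtZar.resZar S).map Sc.g) := by
    refine ⟨fun {U} s => ?_⟩
    intro x hx
    obtain ⟨_, ⟨V, hV, rfl⟩, hxV, hVU⟩ :=
      S.isBasis_affineOpens.exists_subset_of_mem_open hx U.2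
    have hsurj := sections_surjective ((EtZar.zarToEt S).obj V) hSc
      (h _ (isAffine_zarToEt V hV) 1 le_rfl)
    obtain ⟨t, ht⟩ := hsurj (Sc.X₃.obj.map ((EtZar.zarToEt S).map (homOfLE hVU)).op s)
    exact ⟨V, homOfLE hVU, ⟨t, ht⟩, hxV⟩
  have hepi : Epi (Sc.map (EtZar.resZar S)).g := by
    have : Epi ((EtZar.resZar S).map Sc.g) := inferInstance
    exact this
  exact ShortComplex.ShortExact.mk hex

end Zar

section ZarMain

variable {S : Scheme.{u}} [EtZar.ZarCont S]

/-- the constant Zariski sheaf `ℤ` -/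
noncomputable abbrev constZ (S : Scheme.{u}) : EtZar.Ab S :=
  (constantSheaf (Opens.grothendieckTopology S) AddCommGrpCat.{u + 1}).obj
    (AddCommGrpCat.of (ULift.{u + 1} ℤ))

omit [EtZar.ZarCont S] in
theorem exists_lift_constZ {F F' : EtZar.Ab S} (g : F ⟶ F')
    (hg : Function.Surjective (g.hom.app (op (⊤ : S.Opens)))) (φ : constZ S ⟶ F') :
    ∃ ψ : constZ S ⟶ F, ψ ≫ g = φ := by
  let adj := constantSheafAdj (Opens.grothendieckTopology S) AddCommGrpCat.{u + 1}
    (isTerminalTop : IsTerminal (⊤ : S.Opens))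
  let φ' : AddCommGrpCat.of (ULift.{u + 1} ℤ) ⟶ F'.obj.obj (op ⊤) := adj.homEquiv _ _ φ
  obtain ⟨a, ha⟩ := hg (φ'.hom ⟨1⟩)
  let ψ' : AddCommGrpCat.of (ULift.{u + 1} ℤ) ⟶ F.obj.obj (op ⊤) :=
    AddCommGrpCat.ofHom ((zmultiplesHom _ a).comp AddEquiv.ulift.toAddMonoidHom)
  refine ⟨(adj.homEquiv _ _).symm ψ', ?_⟩
  apply (adj.homEquiv _ _).injective
  rw [Adjunction.homEquiv_naturality_right, Equiv.apply_symm_apply]
  apply AddCommGrpCat.hom_ext
  have key : ∀ (f h : ULift.{u + 1} ℤ →+ F'.obj.obj (op ⊤)), f ⟨1⟩ = h ⟨1⟩ → f = h := by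
    intro f h hfh
    have : f.comp (AddEquiv.ulift (α := ℤ)).symm.toAddMonoidHom =
        h.comp (AddEquiv.ulift (α := ℤ)).symm.toAddMonoidHom := by
      apply AddMonoidHom.ext_int
      exact hfh
    ext ⟨n⟩
    exact DFunLike.congr_fun this n
  apply key
  change g.hom.app (op ⊤) (ψ'.hom ⟨1⟩) = φ'.hom ⟨1⟩
  rw [← ha]
  have h1 : ψ'.hom ⟨1⟩ = a := by
    change (AddEquiv.ulift (⟨1⟩ : ULift.{u + 1} ℤ)) • a = a
    exact one_smul ℤ a
  rw [h1]

theorem injective_resZar (I : EtCoh.Ab S) [Injective I] : Injective ((EtZar.resZar S).obj I) := by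
  have := Groth.Agent.S0670.preservesFiniteLimits_sheafPullback S
  exact Injective.injective_of_adjoint (Groth.Agent.S0670.zarAdj S) I

theorem key [IsAffine S] (n : ℕ) : ∀ (G : EtCoh.Ab S), Acyc G →
    Subsingleton (EtZar.H ((EtZar.resZar S).obj G) (n + 1)) := by
  induction n with
  | zero =>
    intro G hG
    let Sc : ShortComplex (EtCoh.Ab S) :=
      ShortComplex.mk (Injective.ι G) (cokernel.π (Injective.ι G)) (cokernel.condition _)
    have hSc : Sc.ShortExact :=
      { exact := ShortComplex.exact_cokernel (Injective.ι G)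
        mono_f := inferInstanceAs (Mono (Injective.ι G))
        epi_g := inferInstanceAs (Epi (cokernel.π (Injective.ι G))) }
    have hZ := resZar_shortExact hSc hG
    have : Injective (Sc.map (EtZar.resZar S)).X₂ := injective_resZar (Injective.under G)
    have hTop : IsAffine ((EtZar.zarToEt S).obj (⊤ : S.Opens)).left :=
      isAffine_zarToEt ⊤ (isAffineOpen_top S)
    have hsurj := sections_surjective ((EtZar.zarToEt S).obj ⊤) hSc (hG _ hTop 1 le_rfl)
    exact subsingleton_ext_one_of_lift hZ (constZ S) (fun φ =>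
      exists_lift_constZ ((EtZar.resZar S).map Sc.g) hsurj φ)
  | succ n ih =>
    intro G hG
    let Sc : ShortComplex (EtCoh.Ab S) :=
      ShortComplex.mk (Injective.ι G) (cokernel.π (Injective.ι G)) (cokernel.condition _)
    have hSc : Sc.ShortExact :=
      { exact := ShortComplex.exact_cokernel (Injective.ι G)
        mono_f := inferInstanceAs (Mono (Injective.ι G))
        epi_g := inferInstanceAs (Epi (cokernel.π (Injective.ι G))) }
    have hZ := resZar_shortExact hSc hG
    have : Injective (Sc.map (EtZar.resZar S)).X₂ := injective_resZar (Injective.under G)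
    have : Injective Sc.X₂ := inferInstanceAs (Injective (Injective.under G))
    have hQ : Acyc Sc.X₃ := acyc_quotient hSc hG
    exact subsingleton_ext_succ_of_injective hZ (constZ S) (n + 1) (ih Sc.X₃ hQ)

theorem main (S : Scheme.{u}) [IsAffine S]
    [EtZar.ZarCont S] (G : EtCoh.Ab S)
    (hG : ∀ (T : S.Etale), IsAffine T.left → ∀ i : ℕ, 1 ≤ i →
      Subsingleton (EtCoh.H T.left ((EtCoh.pull T.hom).obj G) i))
    (i : ℕ) (hi : 1 ≤ i) :
    Subsingleton (EtZar.H ((EtZar.resZar S).obj G) i) := by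
  obtain ⟨n, rfl⟩ : ∃ n, i = n + 1 := ⟨i - 1, by omega⟩
  exact key n G hG

end ZarMain

/-- Suppose S is an affine scheme, and G denotes a sheaf of abelian groups on the small étale site of S.
If for every affine scheme T étale over S and every i ≥ 1 the étale cohomology group H^i(T, G|_T)
vanishes, then the Zariski cohomology groups H^i(S, G|_{S_Zar}) of the restriction of G to the site
of opens of S vanish for every i ≥ 1. (Continuity of the opens-to-étale-schemes functor is carried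
as an instance binder.) -/
theorem result (S : Scheme.{u}) [IsAffine S]
    [EtZar.ZarCont S] (G : EtCoh.Ab S)
    (hG : ∀ (T : S.Etale), IsAffine T.left → ∀ i : ℕ, 1 ≤ i →
      Subsingleton (EtCoh.H T.left ((EtCoh.pull T.hom).obj G) i))
    (i : ℕ) (hi : 1 ≤ i) :
    Subsingleton (EtZar.H ((EtZar.resZar S).obj G) i) := by
  exact main S G hG i hi

end Groth.Agent.S17614
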