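import Groth.Statements.S17616
import Groth.Agent.Lib.Helper26.AwayNbhd

set_option autoImplicit false
universe u
open Hensel

namespace Groth.Agent.S17616

/-- Let P be a property of ring maps (between rings in a fixed universe), and say that f : B → B' has P
at a prime q of B' if the composite B → B' → B'_g has P for some g ∉ q. Assume (i) for every
finitely presented f : B → B' the set of primes of B' at which f has P is ind-constructible in Spec
B', and f has P as soon as it has P at every prime; (ii) every étale ring map has P; (iii) for g : C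
→ C' and h : C' → C'', if h has P at a prime q of C'' and g has P at the inverse image of q in C',
then h ∘ g has P at q. Now suppose (A, I) is a Henselian pair, and take an A-algebra R of finite
presentation for which A → R has P at each prime of R that contains IR. Then there is an étale
R-algebra R' with R/IR → R'/IR' bijective such that A → R' has P. -/
theorem result
    (P : ∀ ⦃B B' : Type u⦄ [CommRing B] [CommRing B'], (B →+* B') → Prop)
    (PAt : ∀ ⦃B B' : Type u⦄ [CommRing B] [CommRing B'], (B →+* B') → Ideal B' → Prop)
    (hPAt : ∀ ⦃B B' : Type u⦄ [CommRing B] [CommRing B'] (f : B →+* B') (q : Ideal B'),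
      PAt f q ↔ ∃ g : B', g ∉ q ∧ P ((algebraMap B' (Localization.Away g)).comp f))
    (h₁ : ∀ ⦃B B' : Type u⦄ [CommRing B] [CommRing B'] (f : B →+* B'), f.FinitePresentation →
      ProCons.IsIndConstructible {q : PrimeSpectrum B' | PAt f q.asIdeal} ∧
        ((∀ q : PrimeSpectrum B', PAt f q.asIdeal) → P f))
    (h₂ : ∀ ⦃B B' : Type u⦄ [CommRing B] [CommRing B'] (f : B →+* B'), f.Etale → P f)
    (h₃ : ∀ ⦃C C' C'' : Type u⦄ [CommRing C] [CommRing C'] [CommRing C''] (g : C →+* C')
      (h : C' →+* C'') (q : Ideal C'') [q.IsPrime],
      PAt h q → PAt g (q.comap h) → PAt (h.comp g) q)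
    (A : Type u) [CommRing A] (I : Ideal A) [HenselianRing A I]
    (R : Type u) [CommRing R] [Algebra A R] [Algebra.FinitePresentation A R]
    (hR : ∀ (p : Ideal R) [p.IsPrime], I.map (algebraMap A R) ≤ p → PAt (algebraMap A R) p) :
    ∃ (R' : Type u) (_ : CommRing R') (_ : Algebra R R') (_ : Algebra A R') (_ : IsScalarTower A R R'),
      Algebra.Etale R R' ∧
      Function.Bijective (Ideal.quotientMap ((I.map (algebraMap A R)).map (algebraMap R R'))
        (algebraMap R R') Ideal.le_comap_map) ∧ P (algebraMap A R') := by
  classical
  set IR := I.map (algebraMap A R) with hIR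
  -- the set of good elements
  set G : Set R := {g | P ((algebraMap R (Localization.Away g)).comp (algebraMap A R))} with hG
  have htop : IR ⊔ Ideal.span G = ⊤ := by
    by_contra hne
    obtain ⟨m, hm, hle⟩ := Ideal.exists_le_maximal _ hne
    have hmp : m.IsPrime := hm.isPrime
    obtain ⟨g, hgm, hgP⟩ := (hPAt _ _).mp (hR m (le_sup_left.trans hle))
    exact hgm (hle (Ideal.mem_sup_right (Ideal.subset_span hgP)))
  have h1 : (1 : R) ∈ IR ⊔ Ideal.span G := by rw [htop]; trivial
  obtain ⟨i, hi, g, hg, hig⟩ := Submodule.mem_sup.mp h1
  have hg1 : 1 - g ∈ IR := by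
    have : 1 - g = i := by rw [← hig]; ring
    rw [this]; exact hi
  let R' := Localization.Away g
  have htower : IsScalarTower A R R' := inferInstance
  refine ⟨R', inferInstance, inferInstance, inferInstance, htower, inferInstance,
    Groth.Agent.Lib.helper26.AwayNbhd.bijective_quotientMap_away IR g hg1, ?_⟩
  have hfp : (algebraMap A R').FinitePresentation := by
    rw [RingHom.finitePresentation_algebraMap]
    exact Algebra.FinitePresentation.trans A R R'
  refine (h₁ (algebraMap A R') hfp).2 (fun q => ?_)
  have hq : q.asIdeal.IsPrime := q.isPrime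
  have key := h₃ (algebraMap A R) (algebraMap R R') q.asIdeal ?_ ?_
  · rw [IsScalarTower.algebraMap_eq A R R']
    exact key
  · -- `R → R'` has `P` at `q`
    rw [hPAt]
    refine ⟨1, ?_, ?_⟩
    · intro h
      exact hq.ne_top ((Ideal.eq_top_iff_one _).mpr h)
    · apply h₂
      have h2 : (algebraMap R' (Localization.Away (1 : R'))).comp (algebraMap R R') =
          algebraMap R (Localization.Away (1 : R')) := by
        rw [← IsScalarTower.algebraMap_eq]
      rw [h2, RingHom.etale_algebraMap]
      have : Algebra.Etale R R' := inferInstance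
      have : Algebra.Etale R' (Localization.Away (1 : R')) := inferInstance
      exact Algebra.Etale.comp R R' (Localization.Away (1 : R'))
  · -- `A → R` has `P` at the preimage of `q`
    rw [hPAt]
    have hgq : g ∉ q.asIdeal.comap (algebraMap R R') := by
      intro h
      rw [Ideal.mem_comap] at h
      have hu : IsUnit (algebraMap R R' g) := IsLocalization.Away.algebraMap_isUnit g
      exact hq.ne_top (Ideal.eq_top_of_isUnit_mem _ h hu)
    have : ¬ (G ⊆ (q.asIdeal.comap (algebraMap R R') : Set R)) := by
      intro hsub
      exact hgq ((Ideal.span_le.mpr hsub) hg)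
    obtain ⟨g', hg'G, hg'q⟩ := Set.not_subset.mp this
    exact ⟨g', hg'q, hg'G⟩


end Groth.Agent.S17616
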