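import Groth.Statements.S17617
import Groth.Agent.Lib.Helper26.PairHensFlat

set_option autoImplicit false
universe u
open Hensel

namespace Groth.Agent.S17617

open Groth.Agent.Lib.helper26.PairHens TensorProduct in
/-- For a maximal ideal `m ⊇ I` and a henselization `H` of `(A_m, IA_m)`, `mH ≠ H`. -/
theorem map_ne_top (A : Type u) [CommRing A] (I : Ideal A) (m : Ideal A) [hm : m.IsMaximal]
    (hIm : I ≤ m) (H : Type u) [CommRing H] [Algebra (Localization.AtPrime m) H] [Algebra A H]
    [IsScalarTower A (Localization.AtPrime m) H]
    (hH : Hens2.IsPairHenselization (Localization.AtPrime m)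
      (I.map (algebraMap A (Localization.AtPrime m))) H) :
    m.map (algebraMap A H) ≠ ⊤ := by
  set Am := Localization.AtPrime m
  set κ := IsLocalRing.ResidueField Am
  have hκ : HenselianRing κ ⊥ :=
    Groth.Agent.Lib.helper2.henselianRing_of_locally_nilpotent ⊥ (fun x hx => by
      rw [Ideal.mem_bot] at hx; rw [hx]; exact IsNilpotent.zero)
  have hle : (I.map (algebraMap A Am)).map (IsLocalRing.residue Am) ≤ ⊥ := by
    rw [Ideal.map_map, Ideal.map_le_iff_le_comap]
    intro a ha
    rw [Ideal.mem_comap, Ideal.mem_bot, RingHom.comp_apply, IsLocalRing.residue_eq_zero_iff]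
    exact (IsLocalization.AtPrime.to_map_mem_maximal_iff Am m a).mpr (hIm ha)
  obtain ⟨χ, hχ, -⟩ := hH.2 κ ⊥ (IsLocalRing.residue Am) hκ hle
  intro htop
  have h1 : m.map (algebraMap A H) ≤ RingHom.ker χ := by
    rw [Ideal.map_le_iff_le_comap]
    intro a ha
    rw [Ideal.mem_comap, RingHom.mem_ker, IsScalarTower.algebraMap_apply A Am H]
    have := RingHom.congr_fun hχ (algebraMap A Am a)
    rw [RingHom.comp_apply] at this
    rw [this, IsLocalRing.residue_eq_zero_iff]
    exact (IsLocalization.AtPrime.to_map_mem_maximal_iff Am m a).mpr ha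
  rw [htop] at h1
  have h2 : (1 : H) ∈ RingHom.ker χ := h1 trivial
  rw [RingHom.mem_ker, map_one] at h2
  exact one_ne_zero h2

open TensorProduct in
/-- If `1 ⊗ y = 0` in `H ⊗ Q` for a flat `A`-algebra `H`, then `1 ∈ Ann(y) H`. -/
theorem one_mem_map_of_tmul_eq_zero (A : Type u) [CommRing A] (H : Type u) [CommRing H] [Algebra A H]
    [Module.Flat A H] (Q : Type u) [AddCommGroup Q] [Module A Q] (y : Q)
    (h : (1 : H) ⊗ₜ[A] y = 0) :
    (1 : H) ∈ Ideal.map (algebraMap A H) (LinearMap.ker (LinearMap.toSpanSingleton A Q y)) := by
  have h' : y ⊗ₜ[A] (1 : H) = 0 := by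
    have := congrArg (TensorProduct.comm A H Q) h
    simpa using this
  have hsum : ∑ i : Unit, (fun _ => y) i ⊗ₜ[A] (fun _ => (1 : H)) i = (0 : Q ⊗[A] H) := by
    rw [Fintype.sum_unique]; exact h'
  have hinj : Function.Injective (LinearMap.rTensor H
      (Submodule.span A (Set.range (fun _ : Unit => y))).subtype) :=
    Module.Flat.rTensor_preserves_injective_linearMap _ (Submodule.injective_subtype _)
  obtain ⟨k, a, z, h1, h2⟩ :=
    TensorProduct.vanishesTrivially_of_sum_tmul_eq_zero_of_rTensor_injective A hinj hsum
  have h1' : (1 : H) = ∑ j, a () j • z j := h1 ()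
  have h2' : ∀ j, a () j • y = 0 := by
    intro j
    have := h2 j
    rwa [Fintype.sum_unique] at this
  rw [h1']
  refine Ideal.sum_mem _ fun j _ => ?_
  rw [Algebra.smul_def]
  apply Ideal.mul_mem_right
  apply Ideal.mem_map_of_mem
  rw [LinearMap.mem_ker, LinearMap.toSpanSingleton_apply]
  exact h2' j


/-- Let (A, I) be a Henselian pair and let M' → M → M'' be A-linear maps with zero composite. Then M' →
M → M'' is exact if and only if for every prime ideal p of A containing I and every Henselization H
of the pair (A_p, IA_p), the sequence H ⊗_A M' → H ⊗_A M → H ⊗_A M'' is exact. (The modules H ⊗_A M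
are the stalks at p of the sheaf associated to M on the affine Henselian scheme of (A, I), and
exactness of a sequence of such sheaves is exactness at every stalk, so this is the statement that
the sequence of modules is exact exactly when the associated sequence of sheaves is.) -/
theorem result (A : Type u) [CommRing A]
    (I : Ideal A) [HenselianRing A I]
    (M' M M'' : Type u) [AddCommGroup M'] [Module A M'] [AddCommGroup M] [Module A M]
    [AddCommGroup M''] [Module A M''] (f : M' →ₗ[A] M) (g : M →ₗ[A] M'') (hfg : g.comp f = 0) :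
    Function.Exact f g ↔
    ∀ (p : Ideal A) [p.IsPrime], I ≤ p →
      ∀ (H : Type u) [CommRing H] [Algebra (Localization.AtPrime p) H] [Algebra A H]
        [IsScalarTower A (Localization.AtPrime p) H],
        Hens2.IsPairHenselization (Localization.AtPrime p)
          (I.map (algebraMap A (Localization.AtPrime p))) H →
        Function.Exact (f.baseChange H) (g.baseChange H) := by
  constructor
  · intro hex p _ hIp H _ _ _ _ hH
    have hflat1 : Module.Flat (Localization.AtPrime p) H :=
      Groth.Agent.Lib.helper26.PairHens.flat_of_isPairHenselization hH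
    have hflat : Module.Flat A H := Module.Flat.trans A (Localization.AtPrime p) H
    have := Module.Flat.lTensor_exact H hex
    rw [LinearMap.baseChange_eq_ltensor, LinearMap.baseChange_eq_ltensor]
    exact this
  · intro hall
    rw [LinearMap.exact_iff]
    apply le_antisymm
    · -- the hard inclusion
      intro y hy
      rw [LinearMap.mem_ker] at hy
      set Q := M ⧸ LinearMap.range f
      set ybar : Q := Submodule.Quotient.mk y with hybar
      by_contra hyr
      have hne : ybar ≠ 0 := by
        rw [hybar, Ne, Submodule.Quotient.mk_eq_zero]; exact hyr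
      set 𝔞 : Ideal A := LinearMap.ker (LinearMap.toSpanSingleton A Q ybar) with h𝔞
      have h𝔞ne : 𝔞 ≠ ⊤ := by
        intro htop
        have h1 : (1 : A) ∈ 𝔞 := by rw [htop]; trivial
        rw [h𝔞, LinearMap.mem_ker, LinearMap.toSpanSingleton_apply, one_smul] at h1
        exact hne h1
      obtain ⟨m, hm, h𝔞m⟩ := Ideal.exists_le_maximal 𝔞 h𝔞ne
      have hHA : HenselianRing A I := inferInstance
      have hIm : I ≤ m := hHA.jac.trans (sInf_le ⟨bot_le, hm⟩)
      have hmp : m.IsPrime := hm.isPrime
      obtain ⟨H, _, _, hH⟩ := Groth.Agent.Lib.helper26.PairHens.exists_isPairHenselization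
        (Localization.AtPrime m) (I.map (algebraMap A (Localization.AtPrime m)))
      let _ : Algebra A H := ((algebraMap (Localization.AtPrime m) H).comp
        (algebraMap A (Localization.AtPrime m))).toAlgebra
      have htower : IsScalarTower A (Localization.AtPrime m) H :=
        IsScalarTower.of_algebraMap_eq fun _ => rfl
      have hex := hall m hIm H hH
      have hflat1 : Module.Flat (Localization.AtPrime m) H :=
        Groth.Agent.Lib.helper26.PairHens.flat_of_isPairHenselization hH
      have hflat : Module.Flat A H := Module.Flat.trans A (Localization.AtPrime m) H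
      -- `1 ⊗ y` is in the image of `f.baseChange H`
      have h1 : g.baseChange H ((1 : H) ⊗ₜ[A] y) = 0 := by
        rw [LinearMap.baseChange_tmul, hy, TensorProduct.tmul_zero]
      obtain ⟨ξ, hξ⟩ := (hex _).mp h1
      have h2 : (1 : H) ⊗ₜ[A] ybar = 0 := by
        have h3 : (LinearMap.range f).mkQ.baseChange H ((1 : H) ⊗ₜ[A] y) = (1 : H) ⊗ₜ[A] ybar := by
          rw [LinearMap.baseChange_tmul]; rfl
        rw [← h3, ← hξ, ← LinearMap.comp_apply, ← LinearMap.baseChange_comp]
        have h4 : (LinearMap.range f).mkQ.comp f = 0 := by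
          ext x
          simp
        rw [h4, LinearMap.baseChange_zero, LinearMap.zero_apply]
      have h5 := one_mem_map_of_tmul_eq_zero A H Q ybar h2
      have h6 : (1 : H) ∈ m.map (algebraMap A H) := Ideal.map_mono h𝔞m h5
      exact map_ne_top A I m hIm H hH ((Ideal.eq_top_iff_one _).mpr h6)
    · rintro _ ⟨x, rfl⟩
      rw [LinearMap.mem_ker]
      exact LinearMap.congr_fun hfg x


end Groth.Agent.S17617
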