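import Groth.Statements.S17620
import Groth.Agent.Lib.Helper11.PairHens
import Mathlib.FieldTheory.SeparableDegree

set_option autoImplicit false
universe u
open Hensel

namespace Groth.Agent.S17620

/-- Let R be a local ring and J an ideal of R contained in the maximal ideal, let H be a Henselization
of the pair (R, J) which is a local ring with local structure map R → H, and let S be a strict
Henselization of the local ring H. Then S, with its composite R-algebra structure, is a strict
Henselization of the local ring R. (This is the identification of the strict Henselization of the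
local ring of a scheme at a point with that of the local ring of its Henselization along a closed
subscheme through the point.) -/
theorem result
    (R : Type u) [CommRing R] [IsLocalRing R] (J : Ideal R) (hJ : J ≤ IsLocalRing.maximalIdeal R)
    (H : Type u) [CommRing H] [IsLocalRing H] [Algebra R H] [IsLocalHom (algebraMap R H)]
    (hH : Hens2.IsPairHenselization R J H)
    (S : Type u) [CommRing S] [IsLocalRing S] [Algebra H S] [IsLocalHom (algebraMap H S)]
    [Hensel.IsStrictHenselization H S]
    [Algebra R S] [IsScalarTower R H S] [IsLocalHom (algebraMap R S)] :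
    Hensel.IsStrictHenselization R S := by
  have hS := ‹Hensel.IsStrictHenselization H S›
  have hdec := Groth.Agent.Lib.helper11.exists_sub_mem_of_isPairHenselization J hH
  have hJm : J.map (algebraMap R H) ≤ IsLocalRing.maximalIdeal H := by
    rw [Ideal.map_le_iff_le_comap]
    intro x hx
    have hx' : x ∈ IsLocalRing.maximalIdeal R := hJ hx
    rw [Ideal.mem_comap, IsLocalRing.mem_maximalIdeal, mem_nonunits_iff]
    intro hu
    exact (IsLocalRing.mem_maximalIdeal _).mp hx' (isUnit_of_map_unit (algebraMap R H) x hu)
  have hres : ∀ y : H, ∃ r : R, IsLocalRing.residue H y = IsLocalRing.residue H (algebraMap R H r) := by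
    intro y
    obtain ⟨r, hr⟩ := hdec y
    refine ⟨r, ?_⟩
    rw [← sub_eq_zero, ← map_sub]
    exact (IsLocalRing.residue_eq_zero_iff _).mpr (hJm hr)
  have hsurj : Function.Surjective (algebraMap (IsLocalRing.ResidueField R) (IsLocalRing.ResidueField H)) := by
    intro y
    obtain ⟨y, rfl⟩ := IsLocalRing.residue_surjective y
    obtain ⟨r, hr⟩ := hres y
    exact ⟨IsLocalRing.residue R r, by rw [hr]; rfl⟩
  have hsep1 : Algebra.IsSeparable (IsLocalRing.ResidueField R) (IsLocalRing.ResidueField H) := by
    constructor
    intro y
    obtain ⟨x, rfl⟩ := hsurj y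
    exact isSeparable_algebraMap x
  have hsep2 : Algebra.IsSeparable (IsLocalRing.ResidueField H) (IsLocalRing.ResidueField S) :=
    hS.isSepClosure.separable
  refine { henselian := hS.henselian, isSepClosure := ⟨hS.isSepClosure.sep_closed, ?_⟩, universal := ?_ }
  · exact Algebra.IsSeparable.trans (IsLocalRing.ResidueField R) (IsLocalRing.ResidueField H)
      (IsLocalRing.ResidueField S)
  · intro T _ _ f hf τ hτ
    have hJT : J.map f ≤ IsLocalRing.maximalIdeal T := by
      rw [Ideal.map_le_iff_le_comap]
      intro x hx
      have hx' : x ∈ IsLocalRing.maximalIdeal R := hJ hx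
      rw [Ideal.mem_comap, IsLocalRing.mem_maximalIdeal, mem_nonunits_iff]
      intro hu
      exact (IsLocalRing.mem_maximalIdeal _).mp hx' (isUnit_of_map_unit f x hu)
    obtain ⟨h, hh, hhuniq⟩ := hH.2 T (IsLocalRing.maximalIdeal T) f inferInstance hJT
    have hhJ : ∀ j ∈ J.map (algebraMap R H), h j ∈ IsLocalRing.maximalIdeal T := by
      intro j hj
      have : (J.map (algebraMap R H)).map h ≤ IsLocalRing.maximalIdeal T := by
        rw [Ideal.map_map, hh]; exact hJT
      exact this (Ideal.mem_map_of_mem _ hj)
    have hloc : IsLocalHom h := by
      constructor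
      intro x hx
      obtain ⟨r, hr⟩ := hdec x
      have h1 : h x = f r + h (x - algebraMap R H r) := by
        rw [map_sub, ← hh]; simp
      have h2 : IsUnit (f r) := by
        by_contra hnu
        have hfr : f r ∈ IsLocalRing.maximalIdeal T := (IsLocalRing.mem_maximalIdeal _).mpr hnu
        have : h x ∈ IsLocalRing.maximalIdeal T := by
          rw [h1]; exact add_mem hfr (hhJ _ hr)
        exact (IsLocalRing.mem_maximalIdeal _).mp this hx
      have h3 : IsUnit (algebraMap R H r) := (isUnit_of_map_unit f r h2).map _
      by_contra hnu
      have hxm : x ∈ IsLocalRing.maximalIdeal H := (IsLocalRing.mem_maximalIdeal _).mpr hnu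
      have : algebraMap R H r ∈ IsLocalRing.maximalIdeal H := by
        have e : algebraMap R H r = x - (x - algebraMap R H r) := by ring
        rw [e]; exact sub_mem hxm (hJm hr)
      exact (IsLocalRing.mem_maximalIdeal _).mp this h3
    have hτ' : τ.comp (IsLocalRing.ResidueField.map (algebraMap H S)) =
        IsLocalRing.ResidueField.map h := by
      ext y
      obtain ⟨y, rfl⟩ := IsLocalRing.residue_surjective y
      obtain ⟨r, hr⟩ := hres y
      have e1 := congr($hτ (IsLocalRing.residue R r))
      simp only [RingHom.comp_apply, IsLocalRing.ResidueField.map_residue] at e1 ⊢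
      have e2 : IsLocalRing.residue S (algebraMap H S y) = IsLocalRing.residue S (algebraMap R S r) := by
        have := congr_arg (IsLocalRing.ResidueField.map (algebraMap H S)) hr
        simp only [IsLocalRing.ResidueField.map_residue] at this
        rw [this, ← IsScalarTower.algebraMap_apply]
      have e3 : IsLocalRing.residue T (h y) = IsLocalRing.residue T (f r) := by
        have := congr_arg (IsLocalRing.ResidueField.map h) hr
        simp only [IsLocalRing.ResidueField.map_residue] at this
        rw [this, ← hh]
        rfl
      rw [e2, e1, e3]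
    obtain ⟨g, ⟨hg1, hg2⟩, hguniq⟩ := hS.universal T h τ hτ'
    refine ⟨g, ⟨?_, hg2⟩, ?_⟩
    · rw [IsScalarTower.algebraMap_eq R H S, ← RingHom.comp_assoc, hg1, hh]
    · rintro g' ⟨hg'1, hg'2⟩
      apply hguniq
      refine ⟨hhuniq _ ?_, hg'2⟩
      show (g'.comp (algebraMap H S)).comp (algebraMap R H) = f
      rw [RingHom.comp_assoc, ← IsScalarTower.algebraMap_eq, hg'1]

end Groth.Agent.S17620
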