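import Groth.Statements.S17630
import Mathlib
import Groth.Agent.Lib.Helper18.HHConseq
import Groth.Agent.S0002

set_option autoImplicit false
universe u
open CategoryTheory CategoryTheory.Limits AlgebraicGeometry
open Coherent

namespace Groth.Agent.S17630

open Groth.Agent.Lib.Helper18

section linalg

variable {k V₁ V₂ V₃ : Type*} [Field k] [AddCommGroup V₁] [AddCommGroup V₂] [AddCommGroup V₃]
  [Module k V₁] [Module k V₂] [Module k V₃]

lemma finrank_le_of_exact (f : V₁ →ₗ[k] V₂) (g : V₂ →ₗ[k] V₃) (h : Function.Exact f g)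
    [Module.Finite k V₁] [Module.Finite k V₃] :
    Module.Finite k V₂ ∧ Module.finrank k V₂ ≤ Module.finrank k V₁ + Module.finrank k V₃ := by
  haveI : Module.Finite k V₂ := Module.Finite.of_exact_of_isNoetherianRing f g h
  refine ⟨inferInstance, ?_⟩
  have h1 := LinearMap.finrank_range_add_finrank_ker g
  have h2 : Module.finrank k (LinearMap.range g) ≤ Module.finrank k V₃ :=
    Submodule.finrank_le _
  have h3 : LinearMap.ker g = LinearMap.range f := (LinearMap.exact_iff.mp h)
  have h4 : Module.finrank k (LinearMap.range f) ≤ Module.finrank k V₁ :=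
    LinearMap.finrank_range_le f
  rw [h3] at h1
  omega

lemma finrank_le_of_injective (f : V₁ →ₗ[k] V₂) (h : Function.Injective f)
    [Module.Finite k V₂] :
    Module.Finite k V₁ ∧ Module.finrank k V₁ ≤ Module.finrank k V₂ := by
  haveI : Module.Finite k V₁ := Module.Finite.of_injective f h
  exact ⟨inferInstance, LinearMap.finrank_le_finrank_of_injective h⟩

end linalg

section ses

variable {X : Scheme.{u}} (C : ℕ → X.Modules) (d : ∀ j, C j ⟶ C (j + 1))
  (hd : ∀ j, d j ≫ d (j + 1) = 0)
  (hex : ∀ j, (ShortComplex.mk (d j) (d (j + 1)) (hd j)).Exact)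

/-- the short complex `0 → ker d_j → C_j → ker d_{j+1} → 0` -/
noncomputable def T (j : ℕ) : ShortComplex X.Modules :=
  ShortComplex.mk (kernel.ι (d j)) (kernel.lift (d (j + 1)) (d j) (hd j))
    (by
      rw [← cancel_mono (kernel.ι (d (j + 1))), Category.assoc, kernel.lift_ι, kernel.condition,
        zero_comp])

include hex in
lemma T_shortExact (j : ℕ) : (T C d hd j).ShortExact := by
  have hepi : Epi (kernel.lift (d (j + 1)) (d j) (hd j)) :=
    (ShortComplex.exact_iff_epi_kernel_lift _).mp (hex j)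
  have hex' : (T C d hd j).Exact := by
    let φ : T C d hd j ⟶ ShortComplex.mk (kernel.ι (d j)) (d j) (kernel.condition (d j)) :=
      { τ₁ := 𝟙 _
        τ₂ := 𝟙 _
        τ₃ := kernel.ι (d (j + 1))
        comm₁₂ := by simp [T]
        comm₂₃ := by simp [T] }
    have h1 : Epi φ.τ₁ := (inferInstance : Epi (𝟙 (T C d hd j).X₁))
    have h2 : IsIso φ.τ₂ := (inferInstance : IsIso (𝟙 (T C d hd j).X₂))
    have h3 : Mono φ.τ₃ := (inferInstance : Mono (kernel.ι (d (j + 1))))
    exact (ShortComplex.exact_iff_of_epi_of_isIso_of_mono φ).mpr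
      (ShortComplex.exact_kernel (d j))
  exact { exact := hex', mono_f := (inferInstance : Mono (kernel.ι (d j))), epi_g := hepi }

/-- the short complex `0 → C_0 → C_1 → ker d_2 → 0` -/
noncomputable def T' : ShortComplex X.Modules :=
  ShortComplex.mk (d 0) (kernel.lift (d 2) (d 1) (hd 1))
    (by
      rw [← cancel_mono (kernel.ι (d 2)), Category.assoc, kernel.lift_ι, hd 0, zero_comp])

include hex in
lemma T'_shortExact [Mono (d 0)] : (T' C d hd).ShortExact := by
  have hepi : Epi (kernel.lift (d 2) (d 1) (hd 1)) :=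
    (ShortComplex.exact_iff_epi_kernel_lift _).mp (hex 1)
  have hex' : (T' C d hd).Exact := by
    let φ : T' C d hd ⟶ ShortComplex.mk (d 0) (d 1) (hd 0) :=
      { τ₁ := 𝟙 _
        τ₂ := 𝟙 _
        τ₃ := kernel.ι (d 2)
        comm₁₂ := by simp [T']
        comm₂₃ := by simp [T'] }
    have h1 : Epi φ.τ₁ := (inferInstance : Epi (𝟙 (T' C d hd).X₁))
    have h2 : IsIso φ.τ₂ := (inferInstance : IsIso (𝟙 (T' C d hd).X₂))
    have h3 : Mono φ.τ₃ := (inferInstance : Mono (kernel.ι (d 2)))
    exact (ShortComplex.exact_iff_of_epi_of_isIso_of_mono φ).mpr (hex 0)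
  exact { exact := hex', mono_f := (inferInstance : Mono (d 0)), epi_g := hepi }

end ses

section main

variable (k : Type u) [Field k] {X : Scheme.{u}}
    [X.Over (Spec (CommRingCat.of k))] [IsProper (X ↘ Spec (CommRingCat.of k))]
    (C : ℕ → X.Modules) (hC : ∀ j, Coh.IsCoh (C j)) (d : ∀ j, C j ⟶ C (j + 1))
    (hd : ∀ j, d j ≫ d (j + 1) = 0)
    (hex : ∀ j, (ShortComplex.mk (d j) (d (j + 1)) (hd j)).Exact)

/-- the bound `Σ_{t=0}^m h^{m-t}(C_{j+t})` -/
noncomputable def B (m j : ℕ) : ℕ :=
  (Finset.range (m + 1)).sum (fun t => Module.finrank k (Coh.HH X (C (j + t)) (m - t)))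

omit [IsProper (X ↘ Spec (CommRingCat.of k))] in
lemma B_zero (j : ℕ) : B k C 0 j = Module.finrank k (Coh.HH X (C j) 0) := by
  simp [B]

omit [IsProper (X ↘ Spec (CommRingCat.of k))] in
lemma B_succ (m j : ℕ) :
    B k C (m + 1) j = Module.finrank k (Coh.HH X (C j) (m + 1)) + B k C m (j + 1) := by
  unfold B
  rw [Finset.sum_range_succ']
  simp only [Nat.add_zero, Nat.sub_zero]
  rw [add_comm]
  congr 1
  apply Finset.sum_congr rfl
  intro t _
  have h1 : j + (t + 1) = j + 1 + t := by omega
  rw [h1, Nat.add_sub_add_right]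

include hC hex in
lemma kernel_bound (m : ℕ) : ∀ j, Module.Finite k (Coh.HH X (kernel (d j)) m) ∧
    Module.finrank k (Coh.HH X (kernel (d j)) m) ≤ B k C m j := by
  induction m with
  | zero =>
    intro j
    have hfin : Module.Finite k (Coh.HH X (T C d hd j).X₂ 0) :=
      Groth.Agent.S0002.result k X (C j) (hC j) 0
    have hinj := HH.injective_mapOver_f_zero (T_shortExact C d hd hex j) k
    have h := finrank_le_of_injective (HH.mapOver k (T C d hd j).f 0) hinj
    refine ⟨h.1, h.2.trans ?_⟩
    rw [B_zero]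
    exact le_rfl
  | succ m ih =>
    intro j
    have hfin : Module.Finite k (Coh.HH X (T C d hd j).X₂ (m + 1)) :=
      Groth.Agent.S0002.result k X (C j) (hC j) (m + 1)
    have hfin' : Module.Finite k (Coh.HH X (T C d hd j).X₃ m) := (ih (j + 1)).1
    have h := finrank_le_of_exact _ _ (HH.exactOver₁ (T_shortExact C d hd hex j) k m)
    refine ⟨h.1, h.2.trans ?_⟩
    rw [B_succ]
    have h2 : Module.finrank k (Coh.HH X (T C d hd j).X₃ m) ≤ B k C m (j + 1) := (ih (j + 1)).2
    have h3 : Module.finrank k (Coh.HH X (T C d hd j).X₂ (m + 1)) =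
      Module.finrank k (Coh.HH X (C j) (m + 1)) := rfl
    omega

end main

lemma sum_Icc_one (n : ℕ) (f : ℕ → ℤ) :
    (Finset.Icc 1 n).sum f = (Finset.range n).sum (fun t => f (t + 1)) := by
  induction n with
  | zero => simp
  | succ n ih => rw [Finset.sum_Icc_succ_top (by omega), ih, Finset.sum_range_succ]

/-- Let X be a scheme proper over a field k and 0 → C_0 → C_1 → C_2 → ⋯ an exact sequence of coherent
O_X-modules: the composite of consecutive maps is zero, the sequence is exact at every C_j with j ≥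
1, and C_0 → C_1 is a monomorphism (the source numbers the sequence from C_{−1}; its argument and
its application use that the first map is injective). Then for every i ≥ 0, |dim_k H^i(X, C_0) −
dim_k H^i(X, C_1)| ≤ Σ_{j=1}^{i+1} dim_k H^{i+1−j}(X, C_{j+1}) + Σ_{j=1}^{i} dim_k H^{i−j}(X,
C_{j+1}). (The published bound is 2 · Σ_{j=1}^{i+1} dim_k H^{i+1−j}(X, C_{j+1}); the argument given
yields the two sums here, and the published form fails for the sequence 0 → O(−3) → O(−1) → O_Z → 0
on the projective line, Z a subscheme of length 2, with i = 1: the left side is 2 and the published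
right side is 0.) -/
theorem result (k : Type u) [Field k] (X : Scheme.{u})
    [X.Over (Spec (CommRingCat.of k))] [IsProper (X ↘ Spec (CommRingCat.of k))]
    (C : ℕ → X.Modules) (hC : ∀ j, Coh.IsCoh (C j)) (d : ∀ j, C j ⟶ C (j + 1))
    (hd : ∀ j, d j ≫ d (j + 1) = 0) [Mono (d 0)]
    (hex : ∀ j, (ShortComplex.mk (d j) (d (j + 1)) (hd j)).Exact) (i : ℕ) :
    |(Module.finrank k (Coh.HH X (C 0) i) : ℤ) - (Module.finrank k (Coh.HH X (C 1) i) : ℤ)| ≤
      (Finset.Icc 1 (i + 1)).sum (fun j => ((Module.finrank k (Coh.HH X (C (j + 1)) (i + 1 - j))) : ℤ)) +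
        (Finset.Icc 1 i).sum (fun j => ((Module.finrank k (Coh.HH X (C (j + 1)) (i - j))) : ℤ)) := by
  have hT' := T'_shortExact C d hd hex
  have hf0 : Module.Finite k (Coh.HH X (T' C d hd).X₁ i) :=
    Groth.Agent.S0002.result k X (C 0) (hC 0) i
  have hf1 : Module.Finite k (Coh.HH X (T' C d hd).X₂ i) :=
    Groth.Agent.S0002.result k X (C 1) (hC 1) i
  have hS1 : (Finset.Icc 1 (i + 1)).sum
      (fun j => ((Module.finrank k (Coh.HH X (C (j + 1)) (i + 1 - j))) : ℤ)) =
      (B k C i 2 : ℤ) := by
    rw [sum_Icc_one]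
    unfold B
    push_cast
    apply Finset.sum_congr rfl
    intro t _
    have h1 : t + 1 + 1 = 2 + t := by omega
    have h2 : i + 1 - (t + 1) = i - t := by omega
    rw [h1, h2]
  -- first bound
  have hK : Module.Finite k (Coh.HH X (T' C d hd).X₃ i) := (kernel_bound k C hC d hd hex i 2).1
  have hb1 := (finrank_le_of_exact _ _ (HH.exactOver₂ hT' k i)).2
  have hb1' : Module.finrank k (Coh.HH X (T' C d hd).X₃ i) ≤ B k C i 2 :=
    (kernel_bound k C hC d hd hex i 2).2
  have e0 : Module.finrank k (Coh.HH X (T' C d hd).X₁ i) =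
    Module.finrank k (Coh.HH X (C 0) i) := rfl
  have e1 : Module.finrank k (Coh.HH X (T' C d hd).X₂ i) =
    Module.finrank k (Coh.HH X (C 1) i) := rfl
  rw [hS1]
  cases i with
  | zero =>
    have hb2 := (finrank_le_of_injective (HH.mapOver k (T' C d hd).f 0)
      (HH.injective_mapOver_f_zero hT' k)).2
    rw [abs_le]
    have : (Finset.Icc 1 0).sum
      (fun j => ((Module.finrank k (Coh.HH X (C (j + 1)) (0 - j))) : ℤ)) = 0 := by simp
    rw [this]
    constructor <;> omega
  | succ m =>
    have hS2 : (Finset.Icc 1 (m + 1)).sum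
        (fun j => ((Module.finrank k (Coh.HH X (C (j + 1)) (m + 1 - j))) : ℤ)) =
        (B k C m 2 : ℤ) := by
      rw [sum_Icc_one]
      unfold B
      push_cast
      apply Finset.sum_congr rfl
      intro t _
      have h1 : t + 1 + 1 = 2 + t := by omega
      have h2 : m + 1 - (t + 1) = m - t := by omega
      rw [h1, h2]
    rw [hS2]
    have hK' : Module.Finite k (Coh.HH X (T' C d hd).X₃ m) :=
      (kernel_bound k C hC d hd hex m 2).1
    have hb2 := (finrank_le_of_exact _ _ (HH.exactOver₁ hT' k m)).2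
    have hb2' : Module.finrank k (Coh.HH X (T' C d hd).X₃ m) ≤ B k C m 2 :=
      (kernel_bound k C hC d hd hex m 2).2
    rw [abs_le]
    constructor <;> omega

end Groth.Agent.S17630
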