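import Groth.Statements.S17635
import Mathlib

set_option autoImplicit false
open Finset
open Variety

namespace Groth.Agent.S17635

section aux
variable {r : ℕ}

/-- sup norm of a rational vector, as a real number -/
noncomputable def Nrm (v : Fin r → ℚ) : ℝ := ‖(fun j => ((v j : ℚ) : ℝ))‖

lemma Nrm_nonneg (v : Fin r → ℚ) : 0 ≤ Nrm v := norm_nonneg _

lemma abs_le_Nrm (v : Fin r → ℚ) (j : Fin r) : |((v j : ℚ) : ℝ)| ≤ Nrm v := by
  have := norm_le_pi_norm (fun j => ((v j : ℚ) : ℝ)) j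
  rwa [Real.norm_eq_abs] at this

lemma Nrm_le (v : Fin r → ℚ) (c : ℝ) (hc : 0 ≤ c) (h : ∀ j, |((v j : ℚ) : ℝ)| ≤ c) : Nrm v ≤ c := by
  unfold Nrm
  rw [pi_norm_le_iff_of_nonneg hc]
  intro j
  rw [Real.norm_eq_abs]
  exact h j

lemma Nrm_smul (m : ℕ) (v : Fin r → ℚ) : Nrm ((m : ℚ) • v) = (m : ℝ) * Nrm v := by
  unfold Nrm
  have : (fun j => (((((m : ℚ) • v) j : ℚ)) : ℝ)) = (m : ℝ) • (fun j => ((v j : ℚ) : ℝ)) := by
    funext j
    simp
  rw [this, norm_smul, Real.norm_eq_abs, abs_of_nonneg (Nat.cast_nonneg m)]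

/-- the comparison sum -/
noncomputable def Sm (n : ℕ) (M D : ℝ) : ℝ := (Finset.Icc 1 n).sum (fun q => M ^ (n - q) * D ^ q)

lemma Sm_nonneg (n : ℕ) {M D : ℝ} (hM : 0 ≤ M) (hD : 0 ≤ D) : 0 ≤ Sm n M D :=
  Finset.sum_nonneg (fun q _ => mul_nonneg (pow_nonneg hM _) (pow_nonneg hD _))

lemma Sm_mono (n : ℕ) {M D M' D' : ℝ} (hM : 0 ≤ M) (hD : 0 ≤ D) (hMM : M ≤ M') (hDD : D ≤ D') :
    Sm n M D ≤ Sm n M' D' :=
  Finset.sum_le_sum (fun q _ => mul_le_mul (pow_le_pow_left₀ hM hMM _) (pow_le_pow_left₀ hD hDD _)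
    (pow_nonneg hD _) (pow_nonneg (hM.trans hMM) _))

lemma Sm_smul (n : ℕ) (m M D : ℝ) : Sm n (m * M) (m * D) = m ^ n * Sm n M D := by
  unfold Sm
  rw [Finset.mul_sum]
  apply Finset.sum_congr rfl
  intro q hq
  rw [Finset.mem_Icc] at hq
  have : m ^ n = m ^ (n - q) * m ^ q := by rw [← pow_add, Nat.sub_add_cancel hq.2]
  rw [this, mul_pow, mul_pow]
  ring

end aux

section aux2
variable {r : ℕ}

/-- intermediate points of the telescoping path from `v` to `w` -/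
def U (v w : Fin r → ℚ) (k : ℕ) : Fin r → ℚ := fun j => if (j : ℕ) < k then w j else v j

lemma U_zero (v w : Fin r → ℚ) : U v w 0 = v := by
  funext j; simp [U]

lemma U_top (v w : Fin r → ℚ) : U v w r = w := by
  funext j; simp [U, j.2]

lemma Nrm_U_le (v w : Fin r → ℚ) (k : ℕ) : Nrm (U v w k) ≤ max (Nrm v) (Nrm w) := by
  apply Nrm_le _ _ (le_max_of_le_left (Nrm_nonneg v))
  intro j
  unfold U
  split_ifs
  · exact (abs_le_Nrm w j).trans (le_max_right _ _)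
  · exact (abs_le_Nrm v j).trans (le_max_left _ _)

lemma U_succ (v w : Fin r → ℚ) (k : Fin r) :
    U v w ((k : ℕ) + 1) = U v w k - (v k - w k) • Pi.single k 1 := by
  classical
  funext j
  simp only [U, Pi.sub_apply, Pi.smul_apply, smul_eq_mul]
  by_cases hjk : j = k
  · subst hjk
    simp
  · have h1 : (j : ℕ) ≠ (k : ℕ) := fun h => hjk (Fin.ext h)
    rw [Pi.single_eq_of_ne hjk, mul_zero, sub_zero]
    by_cases h2 : (j : ℕ) < k
    · rw [if_pos h2, if_pos (by omega)]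
    · rw [if_neg h2, if_neg (by omega)]

lemma step (f : (Fin r → ℚ) → ℝ) (n : ℕ) (C : Fin r → ℝ)
    (hC : ∀ (i : Fin r) (v : Fin r → ℚ) (b : ℕ), 1 ≤ b →
      |f (v - (b : ℚ) • Pi.single i 1) - f v| ≤ C i * Sm n (Nrm v) (b : ℝ))
    (v w : Fin r → ℚ) (hz : ∀ j, ∃ z : ℤ, v j - w j = z) (k : Fin r) :
    |f (U v w k) - f (U v w ((k : ℕ) + 1))| ≤
      |C k| * Sm n (max (Nrm v) (Nrm w)) (Nrm (v - w)) := by
  have hM : 0 ≤ max (Nrm v) (Nrm w) := le_max_of_le_left (Nrm_nonneg v)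
  have hD : 0 ≤ Nrm (v - w) := Nrm_nonneg _
  have hS : 0 ≤ Sm n (max (Nrm v) (Nrm w)) (Nrm (v - w)) := Sm_nonneg n hM hD
  obtain ⟨z, hzk⟩ := hz k
  have habs : |((z : ℤ) : ℝ)| ≤ Nrm (v - w) := by
    have h1 := abs_le_Nrm (v - w) k
    rw [Pi.sub_apply, hzk] at h1
    simpa using h1
  -- general bound from a point `x` with norm ≤ M and `b = |z|`
  have key : ∀ (x : Fin r → ℚ) (b : ℕ), 1 ≤ b → (b : ℝ) ≤ Nrm (v - w) →
      Nrm x ≤ max (Nrm v) (Nrm w) →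
      |f (x - (b : ℚ) • Pi.single k 1) - f x| ≤ |C k| * Sm n (max (Nrm v) (Nrm w)) (Nrm (v - w)) := by
    intro x b hb hbD hx
    refine (hC k x b hb).trans ?_
    have h1 : Sm n (Nrm x) (b : ℝ) ≤ Sm n (max (Nrm v) (Nrm w)) (Nrm (v - w)) :=
      Sm_mono n (Nrm_nonneg x) (Nat.cast_nonneg b) hx hbD
    have h2 : 0 ≤ Sm n (Nrm x) (b : ℝ) := Sm_nonneg n (Nrm_nonneg x) (Nat.cast_nonneg b)
    calc C k * Sm n (Nrm x) (b : ℝ) ≤ |C k| * Sm n (Nrm x) (b : ℝ) :=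
          mul_le_mul_of_nonneg_right (le_abs_self _) h2
      _ ≤ |C k| * Sm n (max (Nrm v) (Nrm w)) (Nrm (v - w)) :=
          mul_le_mul_of_nonneg_left h1 (abs_nonneg _)
  rcases lt_trichotomy z 0 with hneg | hzero | hpos
  · -- z < 0
    obtain ⟨b, hb⟩ : ∃ b : ℕ, (b : ℤ) = -z := ⟨(-z).toNat, Int.toNat_of_nonneg (by omega)⟩
    have hb1 : 1 ≤ b := by omega
    have hbz : (b : ℚ) = -(z : ℚ) := by exact_mod_cast congrArg (Int.cast (R := ℚ)) hb
    have hbD : (b : ℝ) ≤ Nrm (v - w) := by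
      have : (b : ℝ) = |((z : ℤ) : ℝ)| := by
        rw [abs_of_neg (by exact_mod_cast hneg)]
        exact_mod_cast congrArg (Int.cast (R := ℝ)) hb
      rw [this]; exact habs
    have h1 : U v w k = U v w ((k : ℕ) + 1) - (b : ℚ) • Pi.single k 1 := by
      rw [U_succ, hzk, hbz]
      simp
    have h2 := key (U v w ((k : ℕ) + 1)) b hb1 hbD (Nrm_U_le v w _)
    rw [← h1] at h2
    exact h2
  · -- z = 0
    subst hzero
    have h1 : U v w ((k : ℕ) + 1) = U v w k := by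
      rw [U_succ, hzk]
      simp
    rw [h1, sub_self, abs_zero]
    exact mul_nonneg (abs_nonneg _) hS
  · -- z > 0
    obtain ⟨b, hb⟩ : ∃ b : ℕ, (b : ℤ) = z := ⟨z.toNat, Int.toNat_of_nonneg (by omega)⟩
    have hb1 : 1 ≤ b := by omega
    have hbz : (b : ℚ) = (z : ℚ) := by exact_mod_cast congrArg (Int.cast (R := ℚ)) hb
    have hbD : (b : ℝ) ≤ Nrm (v - w) := by
      have : (b : ℝ) = |((z : ℤ) : ℝ)| := by
        rw [abs_of_pos (by exact_mod_cast hpos)]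
        exact_mod_cast congrArg (Int.cast (R := ℝ)) hb
      rw [this]; exact habs
    have h1 : U v w ((k : ℕ) + 1) = U v w k - (b : ℚ) • Pi.single k 1 := by
      rw [U_succ, hzk, hbz]
    have h2 := key (U v w k) b hb1 hbD (Nrm_U_le v w _)
    rw [← h1, abs_sub_comm] at h2
    exact h2

lemma telescope (f : (Fin r → ℚ) → ℝ) (v w : Fin r → ℚ) (B : ℝ)
    (h : ∀ k : Fin r, |f (U v w k) - f (U v w ((k : ℕ) + 1))| ≤ B) :
    |f v - f w| ≤ (r : ℝ) * B := by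
  have key : ∀ K : ℕ, K ≤ r → |f (U v w 0) - f (U v w K)| ≤ (K : ℝ) * B := by
    intro K
    induction K with
    | zero => intro _; simp
    | succ K ih =>
      intro hK
      have h1 := ih (by omega)
      have h2 := h ⟨K, by omega⟩
      simp only at h2
      calc |f (U v w 0) - f (U v w (K + 1))|
          ≤ |f (U v w 0) - f (U v w K)| + |f (U v w K) - f (U v w (K + 1))| := abs_sub_le _ _ _
        _ ≤ (K : ℝ) * B + B := add_le_add h1 h2
        _ = ((K + 1 : ℕ) : ℝ) * B := by push_cast; ring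
  have := key r le_rfl
  rwa [U_zero, U_top] at this

end aux2


/-- Let r and n be natural numbers and f : ℚ^r → ℝ a nonnegative function which is homogeneous of degree
n for positive rational scalars, f(q · v) = q^n · f(v) for q > 0; give ℚ^r the maximum norm ‖v‖ =
max_j |v_j| of its standard basis. Suppose that for every standard basis vector e_i there is a
constant C_i with |f(v − b · e_i) − f(v)| ≤ C_i · Σ_{q=1}^{n} ‖v‖^{n−q} · b^q for all v ∈ ℚ^r and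
all integers b ≥ 1. Then there is a constant C > 0 such that |f(v) − f(w)| ≤ C · Σ_{q=1}^{n}
max(‖v‖, ‖w‖)^{n−q} · ‖v − w‖^q for all v, w ∈ ℚ^r. (The source allows any norm on an r-dimensional
rational vector space with a chosen basis and argues with the maximum norm of that basis, which is
the case stated here.) -/
theorem result (r n : ℕ) (f : (Fin r → ℚ) → ℝ)
    (hf0 : ∀ v, 0 ≤ f v)
    (hhom : ∀ (q : ℚ) (v : Fin r → ℚ), 0 < q → f (q • v) = (q : ℝ) ^ n * f v)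
    (hdir : ∀ i : Fin r, ∃ Ci : ℝ, ∀ (v : Fin r → ℚ) (b : ℕ), 1 ≤ b →
      |f (v - (b : ℚ) • Pi.single i 1) - f v| ≤
        Ci * (Finset.Icc 1 n).sum (fun q => ‖(fun j => ((v j : ℚ) : ℝ))‖ ^ (n - q) * (b : ℝ) ^ q)) :
    ∃ C : ℝ, 0 < C ∧ ∀ v w : Fin r → ℚ,
      |f v - f w| ≤ C * (Finset.Icc 1 n).sum (fun q =>
        (max ‖(fun j => ((v j : ℚ) : ℝ))‖ ‖(fun j => ((w j : ℚ) : ℝ))‖) ^ (n - q) *
          ‖(fun j => ((v j - w j : ℚ) : ℝ))‖ ^ q) := by
  classical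
  choose C hC using hdir
  have hC' : ∀ (i : Fin r) (v : Fin r → ℚ) (b : ℕ), 1 ≤ b →
      |f (v - (b : ℚ) • Pi.single i 1) - f v| ≤ C i * Sm n (Nrm v) (b : ℝ) :=
    fun i v b hb => hC i v b hb
  set Ctot : ℝ := ∑ i : Fin r, |C i| with hCtot
  have hCtot0 : 0 ≤ Ctot := Finset.sum_nonneg (fun i _ => abs_nonneg _)
  have hCk : ∀ k : Fin r, |C k| ≤ Ctot := fun k =>
    Finset.single_le_sum (f := fun i => |C i|) (fun i _ => abs_nonneg _) (Finset.mem_univ k)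
  -- integral case
  have hint : ∀ v w : Fin r → ℚ, (∀ j, ∃ z : ℤ, v j - w j = z) →
      |f v - f w| ≤ (r : ℝ) * (Ctot * Sm n (max (Nrm v) (Nrm w)) (Nrm (v - w))) := by
    intro v w hz
    apply telescope f v w
    intro k
    refine (step f n C hC' v w hz k).trans ?_
    exact mul_le_mul_of_nonneg_right (hCk k)
      (Sm_nonneg n (le_max_of_le_left (Nrm_nonneg v)) (Nrm_nonneg _))
  refine ⟨(r : ℝ) * Ctot + 1, by positivity, ?_⟩
  intro v w
  show |f v - f w| ≤ ((r : ℝ) * Ctot + 1) * Sm n (max (Nrm v) (Nrm w)) (Nrm (v - w))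
  have hS : 0 ≤ Sm n (max (Nrm v) (Nrm w)) (Nrm (v - w)) :=
    Sm_nonneg n (le_max_of_le_left (Nrm_nonneg v)) (Nrm_nonneg _)
  -- common denominator
  set m : ℕ := ∏ j : Fin r, (v j - w j).den with hm
  have hmpos : 0 < m := Finset.prod_pos (fun j _ => Rat.den_pos _)
  have hmq : (0 : ℚ) < (m : ℚ) := by exact_mod_cast hmpos
  have hmr : (0 : ℝ) < (m : ℝ) := by exact_mod_cast hmpos
  have hz : ∀ j, ∃ z : ℤ, ((m : ℚ) • v) j - ((m : ℚ) • w) j = z := by
    intro j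
    obtain ⟨t, ht⟩ : (v j - w j).den ∣ m := Finset.dvd_prod_of_mem _ (Finset.mem_univ j)
    refine ⟨(v j - w j).num * t, ?_⟩
    simp only [Pi.smul_apply, smul_eq_mul]
    rw [← mul_sub, ht]
    push_cast
    rw [← Rat.mul_den_eq_num]
    ring
  have h1 := hint ((m : ℚ) • v) ((m : ℚ) • w) hz
  rw [hhom _ v hmq, hhom _ w hmq, ← smul_sub, Nrm_smul, Nrm_smul, Nrm_smul,
    ← mul_max_of_nonneg _ _ hmr.le, Sm_smul, ← mul_sub, abs_mul] at h1
  have h2 : |((m : ℚ) : ℝ) ^ n| = (m : ℝ) ^ n := by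
    rw [abs_of_nonneg]
    · norm_cast
    · positivity
  rw [h2] at h1
  have h3 : (m : ℝ) ^ n * |f v - f w| ≤
      (m : ℝ) ^ n * ((r : ℝ) * (Ctot * Sm n (max (Nrm v) (Nrm w)) (Nrm (v - w)))) := by
    calc (m : ℝ) ^ n * |f v - f w| ≤ _ := h1
      _ = _ := by ring
  have h4 := le_of_mul_le_mul_left h3 (pow_pos hmr n)
  calc |f v - f w| ≤ (r : ℝ) * (Ctot * Sm n (max (Nrm v) (Nrm w)) (Nrm (v - w))) := h4
    _ ≤ ((r : ℝ) * Ctot + 1) * Sm n (max (Nrm v) (Nrm w)) (Nrm (v - w)) := by nlinarith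

end Groth.Agent.S17635
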