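import Groth.Statements.S17642
import Mathlib
import Groth.Agent.Lib.Helper12.Chow5
import Groth.Agent.Lib.Helper8.PnSmooth
import Groth.Agent.Lib.Helper19.ProjSpaceProper
-- import your own Groth.Agent.* helpers here

set_option autoImplicit false
universe u
open CategoryTheory AlgebraicGeometry
open DerSch

namespace Groth.Agent.S17642

/-- Consider Noetherian schemes X and Y together with a morphism f : X ⟶ Y that is locally of finite
type. Given affine open subsets U ⊆ X and V ⊆ Y such that f(U) ⊆ V, the restriction of f to U can be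
written as a composite U ⟶ W ⟶ P ⟶ Y in which the first map U ⟶ W is an open immersion, the middle
map W ⟶ P is a closed immersion, and the last map P ⟶ Y is both smooth and proper. In the published
section every morphism is taken to be separated as a standing convention; since the printed proof
never uses this, no separatedness hypothesis appears here. -/
theorem result {X Y : Scheme.{u}}
    [IsNoetherian X] [IsNoetherian Y] (f : X ⟶ Y) [LocallyOfFiniteType f]
    (U : X.Opens) (hU : IsAffineOpen U) (V : Y.Opens) (hV : IsAffineOpen V) (hUV : U ≤ f ⁻¹ᵁ V) :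
    ∃ (W P : Scheme.{u}) (g : (U : Scheme.{u}) ⟶ W) (h : W ⟶ P) (k : P ⟶ Y),
      IsOpenImmersion g ∧ IsClosedImmersion h ∧ Smooth k ∧ IsProper k ∧ g ≫ h ≫ k = U.ι ≫ f := by
  classical
  obtain ⟨n, φ, hφ, hφf⟩ :=
    Groth.Agent.Lib.helper12.Chow5.exists_immersion_of_isAffineOpen f U hU
  haveI : IsImmersion φ := hφ
  haveI : IsAffine (U : Scheme.{u}) := hU
  haveI : Smooth (CohB1.ProjSpaceOver.toBase n Y) := by
    unfold CohB1.ProjSpaceOver.toBase
    exact MorphismProperty.pullback_snd (P := @Smooth) _ _
      (Groth.Agent.Lib.helper8.PnSmooth.smooth_toSpec n (ULift.{u} ℤ))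
  haveI : IsProper (CohB1.ProjSpaceOver.toBase n Y) := inferInstance
  haveI : QuasiSeparatedSpace (CohB1.ProjSpaceOver n Y) :=
    quasiSeparatedSpace_of_quasiSeparated (CohB1.ProjSpaceOver.toBase n Y)
  haveI : QuasiCompact φ := inferInstance
  obtain ⟨Z, g₁, g₂, h1, h2, h3⟩ := (IsImmersion.isImmersion_iff_exists_of_quasiCompact).1 hφ
  exact ⟨Z, CohB1.ProjSpaceOver n Y, g₁, g₂, CohB1.ProjSpaceOver.toBase n Y, h1, h2, inferInstance,
    inferInstance, by rw [← Category.assoc, h3, hφf]⟩

end Groth.Agent.S17642
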