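import Groth.Statements.S17643
import Mathlib
import Groth.Agent.Lib.Helper13.TDSm4
import Groth.Agent.Lib.Helper13.TDSm5
import Groth.Agent.Lib.Helper13.StalkD2
import Groth.Agent.S6187
-- import your own Groth.Agent.* helpers here

set_option autoImplicit false
universe u
open CategoryTheory AlgebraicGeometry
attribute [local instance] HasDerivedCategory.standard
open DerSch

namespace Groth.Agent.S17643

open Groth.Agent.Lib.helper23.TA Groth.Agent.Lib.helper13.TDSm in
/-- normalization of the tor dimension of a morphism -/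
lemma hasTorDimLE_of_hasTorAmplitude {X Y : Scheme.{u}} (f : X ⟶ Y) (a b : ℤ)
    (h : DerSch.HasTorAmplitude f a b (DerSch.unitCx X)) : DerSch.HasTorDimLE f (-a).toNat := by
  intro x
  have h2 := hasTorAmplitudeIn_of_iso (stalkCxOverSingleIso f x (Coh.structureModule X)) (h x)
  have h3 := hasTorAmplitudeIn_single_normalize _ a b h2 (-a).toNat
    (by have := Int.self_le_toNat (-a); omega)
  exact hasTorAmplitudeIn_of_iso (stalkCxOverSingleIso f x (Coh.structureModule X)).symm h3


/-- Let f : X ⟶ Y be a morphism of finite type between Noetherian schemes which is of finite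
Tor-dimension (the structure sheaf of X, placed in degree 0, has finite tor amplitude stalkwise over
the local rings of Y), U ⊆ X an affine open subset and V ⊆ Y an affine open subset with f(U) ⊆ V.
Then the restriction of f to U factors as U ⟶ W ⟶ Y with U ⟶ W a closed immersion of finite
Tor-dimension and W ⟶ Y smooth. The published section's standing conventions also take all morphisms
separated; the printed argument does not use this, so separatedness is not assumed here. -/
theorem result {X Y : Scheme.{u}}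
    [IsNoetherian X] [IsNoetherian Y] (f : X ⟶ Y) [LocallyOfFiniteType f] (hf : DerSch.HasFiniteTorDim f)
    (U : X.Opens) (hU : IsAffineOpen U) (V : Y.Opens) (hV : IsAffineOpen V) (hUV : U ≤ f ⁻¹ᵁ V) :
    ∃ (W : Scheme.{u}) (g : (U : Scheme.{u}) ⟶ W) (h : W ⟶ Y),
      IsClosedImmersion g ∧ DerSch.HasFiniteTorDim g ∧ Smooth h ∧ g ≫ h = U.ι ≫ f := by
  obtain ⟨a, b, hab⟩ := hf
  have hm := hasTorDimLE_of_hasTorAmplitude f a b hab
  have hj := Groth.Agent.Lib.helper13.StalkD.hasTorDimLE_zero_of_flat (U.ι)
  have hUf := Groth.Agent.S6187.result U.ι f (U.ι ≫ f) rfl (-a).toNat hm (DerSch.unitCx U) _ _ hj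
  -- the chart
  have hft := LocallyOfFiniteType.finiteType_appLE f hV hU hUV
  letI alg : Algebra Γ(Y, V) Γ(X, U) := (f.appLE V U hUV).hom.toAlgebra
  haveI : Algebra.FiniteType Γ(Y, V) Γ(X, U) := hft
  obtain ⟨n, ψ, hψ⟩ := Algebra.FiniteType.iff_quotient_mvPolynomial''.mp
    (inferInstance : Algebra.FiniteType Γ(Y, V) Γ(X, U))
  let P := MvPolynomial (Fin n) Γ(Y, V)
  let g : (U : Scheme.{u}) ⟶ Spec (CommRingCat.of P) :=
    hU.isoSpec.hom ≫ Spec.map (CommRingCat.ofHom ψ.toRingHom)
  let h : Spec (CommRingCat.of P) ⟶ Y :=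
    Spec.map (CommRingCat.ofHom (algebraMap Γ(Y, V) P)) ≫ hV.fromSpec
  have hgh : g ≫ h = U.ι ≫ f := by
    have e1 : CommRingCat.ofHom (algebraMap Γ(Y, V) P) ≫ CommRingCat.ofHom ψ.toRingHom =
        f.appLE V U hUV := by
      ext r
      exact ψ.commutes r
    simp only [g, h, Category.assoc]
    rw [← Spec.map_comp_assoc, e1, IsAffineOpen.SpecMap_appLE_fromSpec f hV hU hUV,
      ← Category.assoc, IsAffineOpen.isoSpec_hom_fromSpec]
  haveI : IsClosedImmersion (Spec.map (CommRingCat.ofHom ψ.toRingHom)) :=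
    IsClosedImmersion.spec_of_surjective _ hψ
  haveI hsm : SmoothOfRelativeDimension (n + 0) h := inferInstance
  refine ⟨Spec (CommRingCat.of P), g, h, inferInstance, ?_, hsm.smooth, hgh⟩
  refine ⟨-((((-a).toNat + (n + 0) : ℕ)) : ℤ), 0, fun u => ?_⟩
  obtain ⟨U', hU', V', hV', hx, e, hst⟩ :=
    SmoothOfRelativeDimension.exists_isStandardSmoothOfRelativeDimension (n := n + 0) (f := h)
      (g.base u)
  have h0 : DerSch.HasTorAmplitudeAt (g ≫ h) (-(((-a).toNat : ℕ) : ℤ)) 0
      ((HomologicalComplex.single (U : Scheme.{u}).Modules (ComplexShape.up ℤ) 0).obj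
        (Coh.structureModule U)) u := by
    rw [hgh]
    have := hUf u
    simpa using this
  exact Groth.Agent.Lib.helper13.TDSm.hasTorAmplitudeAt_of_comp_smooth g h u
    (Coh.structureModule U) U' hU' V' hV' hx e (n + 0) hst (-a).toNat h0

end Groth.Agent.S17643
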