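import Groth.Statements.S17646
import Mathlib
import Groth.Agent.Lib.Helper13.GD8
-- import your own Groth.Agent.* helpers here

set_option autoImplicit false
universe w v u
open CategoryTheory CategoryTheory.Limits
open GabLoc

namespace Groth.Agent.S17646

/-- Let C be a Grothendieck abelian category, E an indecomposable injective object of C (E is nonzero
and whenever E ≅ A ⊞ B one of A, B is zero) and S₁, S₂ localizing classes of objects (Serre classes
closed under coproducts). If there are an object of S₁ with a nonzero morphism to E and an object of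
S₂ with a nonzero morphism to E, then there is an object belonging to both S₁ and S₂ with a nonzero
morphism to E. Thus, on the set of isomorphism classes of indecomposable injectives, the subsets of
those having S-torsion, S localizing, are closed under finite intersections (they are also closed
under unions, and form a topology). The published definition of the injective spectrum says
injective objects without the word indecomposable; the published proof of this step uses that each
point of the spectrum is uniform, which is the indecomposable reading taken here. -/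
theorem result {C : Type u} [Category.{v} C] [Abelian C]
    [IsGrothendieckAbelian.{w} C] (E : C) [Injective E] (hE : ¬ IsZero E)
    (hind : ∀ (A B : C), Nonempty (E ≅ A ⊞ B) → IsZero A ∨ IsZero B)
    (S₁ S₂ : ObjectProperty C) (h₁ : GabLoc.IsLocalizing.{w} S₁) (h₂ : GabLoc.IsLocalizing.{w} S₂)
    (ht₁ : GabLoc.HasTorsion S₁ E) (ht₂ : GabLoc.HasTorsion S₂ E) :
    GabLoc.HasTorsion (S₁ ⊓ S₂) E := by
  obtain ⟨Y₁, hY₁, f₁, hf₁⟩ := ht₁
  obtain ⟨Y₂, hY₂, f₂, hf₂⟩ := ht₂
  haveI := h₁.isSerreClass
  haveI := h₂.isSerreClass
  have hI₁ : S₁ (Abelian.image f₁) := S₁.prop_of_epi (Abelian.factorThruImage f₁) hY₁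
  have hI₂ : S₂ (Abelian.image f₂) := S₂.prop_of_epi (Abelian.factorThruImage f₂) hY₂
  have hn₁ : ¬ IsZero (Abelian.image f₁) := fun hz => hf₁ (by
    rw [← Abelian.image.fac f₁, hz.eq_of_tgt (Abelian.factorThruImage f₁) 0, zero_comp])
  have hn₂ : ¬ IsZero (Abelian.image f₂) := fun hz => hf₂ (by
    rw [← Abelian.image.fac f₂, hz.eq_of_tgt (Abelian.factorThruImage f₂) 0, zero_comp])
  have hP := Groth.Agent.Lib.helper13.GD.not_isZero_pullback_of_indec.{w} hind
    (Abelian.image.ι f₁) (Abelian.image.ι f₂) hn₁ hn₂
  refine ⟨pullback (Abelian.image.ι f₁) (Abelian.image.ι f₂),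
    ⟨S₁.prop_of_mono (pullback.fst _ _) hI₁, S₂.prop_of_mono (pullback.snd _ _) hI₂⟩,
    pullback.fst _ _ ≫ Abelian.image.ι f₁, ?_⟩
  intro h0
  haveI : Mono (pullback.fst (Abelian.image.ι f₁) (Abelian.image.ι f₂) ≫ Abelian.image.ι f₁) :=
    mono_comp _ _
  exact hP (Groth.Agent.Lib.helper13.GD.isZero_of_mono_eq_zero _ h0)

end Groth.Agent.S17646
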