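import Groth.Statements.S17647
import Groth.Agent.Lib.Helper7.RestrictSupport

set_option autoImplicit false
universe u
open CategoryTheory CategoryTheory.Limits AlgebraicGeometry
open QCohCat

namespace Groth.Agent.S17647

/-- Let X be a scheme and U ⊆ X an open subset whose inclusion U ⟶ X is quasi-compact, Z = X ∖ U. Then
the restriction functor QCoh(X) ⥤ QCoh(U) between the categories of quasi-coherent modules is a
localization functor for the class of morphisms of quasi-coherent O_X-modules whose kernel and
cokernel (computed in O_X-modules) have support contained in Z: the category QCoh(U) is the quotient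
of QCoh(X) by the localizing subcategory of quasi-coherent modules supported in Z, the direct image
along U ⟶ X being the fully faithful right adjoint. No hypothesis is made on X beyond the
quasi-compactness of U ⟶ X. -/
theorem result (X : Scheme.{u})
    (U : X.Opens) [QuasiCompact U.ι] :
    (ObjectProperty.lift (QCohCat.isQCoh (↑U : Scheme.{u}))
        (ObjectProperty.ι (QCohCat.isQCoh X) ⋙ Scheme.Modules.restrictFunctor U.ι)
        (fun M => @Scheme.Modules.isQuasicoherent_restrictFunctor (↑U : Scheme.{u}) X U.ι
          inferInstance M.obj M.property)).IsLocalization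
      (fun (A B : QCohCat.QCoh X) (f : A ⟶ B) =>
        CohB1.support (kernel f.hom) ⊆ (↑U : Set X)ᶜ ∧
          CohB1.support (cokernel f.hom) ⊆ (↑U : Set X)ᶜ) := by
  have hqs : QuasiSeparated U.ι := inferInstance
  let R : QCoh (↑U : Scheme.{u}) ⥤ QCoh X :=
    (isQCoh X).lift ((isQCoh (↑U : Scheme.{u})).ι ⋙ Scheme.Modules.pushforward U.ι) (fun M => by
      have : M.obj.IsQuasicoherent := M.property
      exact Groth.Agent.Lib.helper7.QCohPushQC.isQuasicoherent_pushforward U.ι M.obj)
  let adj := (Scheme.Modules.restrictAdjunction U.ι).restrictFullyFaithful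
    (isQCoh X).fullyFaithfulι (isQCoh (↑U : Scheme.{u})).fullyFaithfulι
    (L := ObjectProperty.lift (QCohCat.isQCoh (↑U : Scheme.{u}))
        (ObjectProperty.ι (QCohCat.isQCoh X) ⋙ Scheme.Modules.restrictFunctor U.ι)
        (fun M => @Scheme.Modules.isQuasicoherent_restrictFunctor (↑U : Scheme.{u}) X U.ι
          inferInstance M.obj M.property)) (R := R)
    (Iso.refl _) (Iso.refl _)
  have hR1 : R.Full := inferInstance
  have hR2 : R.Faithful := inferInstance
  have key := adj.isLocalization
  have hW : (fun (A B : QCohCat.QCoh X) (f : A ⟶ B) =>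
        CohB1.support (kernel f.hom) ⊆ (↑U : Set X)ᶜ ∧
          CohB1.support (cokernel f.hom) ⊆ (↑U : Set X)ᶜ) =
      (MorphismProperty.isomorphisms _).inverseImage (ObjectProperty.lift (QCohCat.isQCoh (↑U : Scheme.{u}))
        (ObjectProperty.ι (QCohCat.isQCoh X) ⋙ Scheme.Modules.restrictFunctor U.ι)
        (fun M => @Scheme.Modules.isQuasicoherent_restrictFunctor (↑U : Scheme.{u}) X U.ι
          inferInstance M.obj M.property)) := by
    ext A B f
    rw [← Groth.Agent.Lib.helper7.RestrictSupport.isIso_restrict_map_iff]
    change _ ↔ IsIso _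
    rw [← isIso_iff_of_reflects_iso _ (isQCoh (↑U : Scheme.{u})).ι]
    rfl
  rw [hW]
  exact key

end Groth.Agent.S17647
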