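import Groth.Statements.S17649
import Groth.Agent.Lib.Helper7.RestrictSupport

set_option autoImplicit false
universe u
open CategoryTheory CategoryTheory.Limits AlgebraicGeometry
open QCohCat

namespace Groth.Agent.S17649

/-- Suppose the scheme X is quasi-compact and quasi-separated, and take two quasi-compact opens U, V ⊆
X. Given a quasi-compact open W, denote by S_W the class of quasi-coherent O_X-modules that restrict
to zero on W. Then S_{U ∩ V} is the smallest localizing subcategory of Qcoh(X) that contains both
S_U and S_V; concretely (this is the inclusion that is not formal): any quasi-coherent O_X-module F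
satisfying F|_{U ∩ V} = 0 arises as an extension of a quasi-coherent module that is zero on V by a
quasi-coherent submodule that is zero on U — one can find a monomorphism A ⟶ F where A is
quasi-coherent, A|_U = 0 and (F/A)|_V = 0. -/
theorem result {X : Scheme.{u}}
    [CompactSpace X] [QuasiSeparatedSpace X] (U V : X.Opens) [QuasiCompact U.ι] [QuasiCompact V.ι]
    (F : X.Modules) (hF : Coh.IsQCoh F) (h : IsZero ((Scheme.Modules.restrictFunctor (U ⊓ V).ι).obj F)) :
    ∃ (A : X.Modules) (i : A ⟶ F), Mono i ∧ Coh.IsQCoh A ∧
      IsZero ((Scheme.Modules.restrictFunctor U.ι).obj A) ∧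
      IsZero ((Scheme.Modules.restrictFunctor V.ι).obj (cokernel i)) := by
  have h0 : F.IsQuasicoherent := hF
  let G := (Scheme.Modules.pushforward U.ι).obj ((Scheme.Modules.restrictFunctor U.ι).obj F)
  let u : F ⟶ G := (Scheme.Modules.restrictAdjunction U.ι).unit.app F
  have h1 : ((Scheme.Modules.restrictFunctor U.ι).obj F).IsQuasicoherent := by
    change (F.restrict U.ι).IsQuasicoherent
    infer_instance
  have h2 : G.IsQuasicoherent := Groth.Agent.Lib.helper7.QCohPushQC.isQuasicoherent_pushforward U.ι _
  refine ⟨kernel u, kernel.ι u, inferInstance, Groth.Agent.Lib.helper7.CohKer.isQuasicoherent_kernel u, ?_, ?_⟩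
  · -- restriction of the unit is an iso
    have hiso : IsIso ((Scheme.Modules.restrictFunctor U.ι).map u) := by
      have tri := (Scheme.Modules.restrictAdjunction U.ι).left_triangle_components F
      have : IsIso ((Scheme.Modules.restrictAdjunction U.ι).counit.app ((Scheme.Modules.restrictFunctor U.ι).obj F)) :=
        inferInstance
      exact IsIso.of_isIso_fac_right tri
    have hm : Mono ((Scheme.Modules.restrictFunctor U.ι).map u) := inferInstance
    rw [Preadditive.mono_iff_isZero_kernel] at hm
    exact (PreservesKernel.iso (Scheme.Modules.restrictFunctor U.ι) u).isZero_iff.mpr hm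
  · -- cokernel embeds into G, and G restricts to zero on V
    have hG : IsZero ((Scheme.Modules.restrictFunctor V.ι).obj G) := by
      rw [Groth.Agent.Lib.helper7.RestrictSupport.isZero_restrict_iff]
      intro W hW
      have hsub := (Groth.Agent.Lib.helper7.RestrictSupport.isZero_restrict_iff F (U ⊓ V)).mp h (U.ι ''ᵁ (U.ι ⁻¹ᵁ W)) (by
        rw [Scheme.Hom.image_preimage_eq_opensRange_inf, Scheme.Opens.opensRange_ι]
        exact inf_le_inf_left U hW)
      exact hsub
    let m : cokernel (kernel.ι u) ⟶ G := Abelian.factorThruCoimage u
    have hmono : Mono m := inferInstance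
    have : Mono ((Scheme.Modules.restrictFunctor V.ι).map m) := inferInstance
    exact IsZero.of_mono ((Scheme.Modules.restrictFunctor V.ι).map m) hG

end Groth.Agent.S17649
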