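import Groth.Statements.S17658
import Mathlib

set_option autoImplicit false
universe u
open Surf

namespace Groth.Agent.S17658


open scoped MonomialOrder

theorem supp_of_mem {σ : Type*} {k : Type*} [Field k] (cond1 cond2 : (σ →₀ ℕ) → Prop)
    {f : MvPolynomial σ k}
    (hf : f ∈ Submodule.span k {f : MvPolynomial σ k |
      ∃ e : σ →₀ ℕ, cond1 e ∧ cond2 e ∧ f = MvPolynomial.monomial e 1}) :
    ∀ e ∈ f.support, cond1 e ∧ cond2 e := by
  classical
  induction hf using Submodule.span_induction with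
  | mem x h =>
    obtain ⟨e, he1, he2, rfl⟩ := h
    intro e' he'
    have := MvPolynomial.support_monomial_subset he'
    rw [Finset.mem_singleton] at this
    rw [this]; exact ⟨he1, he2⟩
  | zero => intro e he; simp at he
  | add x y _ _ ihx ihy =>
    intro e he
    rcases Finset.mem_union.1 (MvPolynomial.support_add he) with h | h
    · exact ihx e h
    · exact ihy e h
  | smul r x _ ih =>
    intro e he
    exact ih e (MvPolynomial.support_smul he)

theorem span_le_of_leading {σ : Type*} {k : Type*} [Field k] (mo : MonomialOrder σ)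
    (cond1 cond2 : (σ →₀ ℕ) → Prop) (W' : Submodule k (MvPolynomial σ k))
    (hW' : W' ≤ Submodule.span k {f : MvPolynomial σ k |
      ∃ e : σ →₀ ℕ, cond1 e ∧ cond2 e ∧ f = MvPolynomial.monomial e 1})
    (hlead : ∀ e, cond1 e → cond2 e → ∃ w ∈ W', w ≠ 0 ∧ mo.degree w = e) :
    Submodule.span k {f : MvPolynomial σ k |
      ∃ e : σ →₀ ℕ, cond1 e ∧ cond2 e ∧ f = MvPolynomial.monomial e 1} ≤ W' := by
  classical
  have key : ∀ x : mo.syn, ∀ f : MvPolynomial σ k, mo.toSyn (mo.degree f) = x →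
      f ∈ Submodule.span k {f : MvPolynomial σ k |
        ∃ e : σ →₀ ℕ, cond1 e ∧ cond2 e ∧ f = MvPolynomial.monomial e 1} → f ∈ W' := by
    intro x
    refine WellFoundedLT.induction (motive := fun x => ∀ f : MvPolynomial σ k,
      mo.toSyn (mo.degree f) = x →
      f ∈ Submodule.span k {f : MvPolynomial σ k |
        ∃ e : σ →₀ ℕ, cond1 e ∧ cond2 e ∧ f = MvPolynomial.monomial e 1} → f ∈ W') x ?_
    intro x ih f hx hf
    by_cases hf0 : f = 0
    · rw [hf0]; exact W'.zero_mem
    have hdeg_mem : mo.degree f ∈ f.support := mo.degree_mem_support hf0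
    obtain ⟨hc1, hc2⟩ := supp_of_mem cond1 cond2 hf _ hdeg_mem
    obtain ⟨w, hwW, hw0, hwdeg⟩ := hlead _ hc1 hc2
    have hwc : w.coeff (mo.degree f) ≠ 0 := by
      rw [← hwdeg]; exact mo.coeff_degree_ne_zero_iff.2 hw0
    obtain ⟨r, hr⟩ : ∃ r : k, r = f.coeff (mo.degree f) / w.coeff (mo.degree f) := ⟨_, rfl⟩
    have hg : f - r • w ∈ Submodule.span k {f : MvPolynomial σ k |
        ∃ e : σ →₀ ℕ, cond1 e ∧ cond2 e ∧ f = MvPolynomial.monomial e 1} :=
      Submodule.sub_mem _ hf (Submodule.smul_mem _ _ (hW' hwW))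
    have hgW : f - r • w ∈ W' := by
      by_cases hg0 : f - r • w = 0
      · rw [hg0]; exact W'.zero_mem
      · refine ih (mo.toSyn (mo.degree (f - r • w))) ?_ _ rfl hg
        rw [← hx]
        have hle : mo.toSyn (mo.degree (f - r • w)) ≤ mo.toSyn (mo.degree f) := by
          refine le_trans mo.degree_sub_le (sup_le le_rfl ?_)
          refine le_trans mo.degree_smul_le ?_
          rw [hwdeg]
        refine lt_of_le_of_ne hle (fun heq => ?_)
        have heq' : mo.degree (f - r • w) = mo.degree f := mo.toSyn.injective heq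
        have h1 : (f - r • w).coeff (mo.degree (f - r • w)) ≠ 0 :=
          mo.coeff_degree_ne_zero_iff.2 hg0
        rw [heq', MvPolynomial.coeff_sub, MvPolynomial.coeff_smul, smul_eq_mul, hr,
          div_mul_cancel₀ _ hwc, sub_self] at h1
        exact h1 rfl
    have : f = (f - r • w) + r • w := by abel
    rw [this]; exact W'.add_mem hgW (W'.smul_mem _ hwW)
  intro f hf
  exact key _ f rfl hf

theorem deg_eq (e : Fin 4 →₀ ℕ) (A B C D E F : ℕ) (h0 : A + E = e 0) (h1 : B + F = e 1)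
    (h2 : C = e 2) (h3 : D = e 3) :
    (Finsupp.single (0 : Fin 4) A + Finsupp.single 1 B + Finsupp.single 2 C +
      Finsupp.single 3 D) + (Finsupp.single 0 E + Finsupp.single 1 F) = e := by
  ext t
  fin_cases t <;> simp <;> omega

theorem deg_eq2 (e : Fin 4 →₀ ℕ) (B C D E F : ℕ) (h0 : E = e 0) (h1 : B + F = e 1)
    (h2 : C = e 2) (h3 : D = e 3) :
    (Finsupp.single (1 : Fin 4) B + Finsupp.single 2 C +
      Finsupp.single 3 D) + (Finsupp.single 0 E + Finsupp.single 1 F) = e := by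
  ext t
  fin_cases t <;> simp <;> omega

theorem main (k : Type u) [Field k]
    (mo : MonomialOrder (Fin 4)) (a b c : ℕ) (W : Submodule k (MvPolynomial (Fin 4) k))
    (hW : W ≤ Submodule.span k {f : MvPolynomial (Fin 4) k | ∃ e : Fin 4 →₀ ℕ, e 2 + e 3 = a ∧ e 0 + e 1 = b + e 2 ∧ f = MvPolynomial.monomial e 1})
    (h₁ : ∀ i j : ℕ, i ≤ a → j * (c + 1) < b + i → ∃ w ∈ W, w ≠ 0 ∧
      mo.degree w = Finsupp.single 0 (b + i - j * (c + 1)) + Finsupp.single 1 (j * (c + 1)) +
        Finsupp.single 2 i + Finsupp.single 3 (a - i))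
    (h₂ : ∀ i : ℕ, i ≤ a → ∃ w ∈ W, w ≠ 0 ∧
      mo.degree w = Finsupp.single 1 (b + i) + Finsupp.single 2 i + Finsupp.single 3 (a - i)) :
    W * Submodule.span k {f : MvPolynomial (Fin 4) k | ∃ e : Fin 4 →₀ ℕ, e 2 + e 3 = 0 ∧ e 0 + e 1 = c + e 2 ∧ f = MvPolynomial.monomial e 1} =
      Submodule.span k {f : MvPolynomial (Fin 4) k | ∃ e : Fin 4 →₀ ℕ, e 2 + e 3 = a ∧ e 0 + e 1 = (b + c) + e 2 ∧ f = MvPolynomial.monomial e 1} := by
  classical
  have hsub : W * Submodule.span k {f : MvPolynomial (Fin 4) k | ∃ e : Fin 4 →₀ ℕ, e 2 + e 3 = 0 ∧ e 0 + e 1 = c + e 2 ∧ f = MvPolynomial.monomial e 1} ≤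
      Submodule.span k {f : MvPolynomial (Fin 4) k | ∃ e : Fin 4 →₀ ℕ, e 2 + e 3 = a ∧ e 0 + e 1 = (b + c) + e 2 ∧ f = MvPolynomial.monomial e 1} := by
    refine le_trans (mul_le_mul' hW le_rfl) ?_
    rw [Submodule.span_mul_span]
    refine Submodule.span_mono ?_
    rintro _ ⟨x, ⟨e, h1, h2, rfl⟩, y, ⟨e', h1', h2', rfl⟩, rfl⟩
    refine ⟨e + e', ?_, ?_, ?_⟩
    · simp only [Finsupp.add_apply]; omega
    · simp only [Finsupp.add_apply]; omega
    · show MvPolynomial.monomial e (1 : k) * MvPolynomial.monomial e' 1 = _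
      rw [MvPolynomial.monomial_mul, one_mul]
  refine le_antisymm hsub ?_
  refine span_le_of_leading mo (fun e => e 2 + e 3 = a) (fun e => e 0 + e 1 = (b + c) + e 2)
    _ hsub ?_
  intro e he1' he2'
  have he1 : e 2 + e 3 = a := he1'
  have he2 : e 0 + e 1 = (b + c) + e 2 := he2'
  have hn : ∀ E F : ℕ, E + F = c →
      MvPolynomial.monomial (Finsupp.single (0 : Fin 4) E + Finsupp.single 1 F) (1 : k) ∈
      Submodule.span k {f : MvPolynomial (Fin 4) k | ∃ e : Fin 4 →₀ ℕ, e 2 + e 3 = 0 ∧ e 0 + e 1 = c + e 2 ∧ f = MvPolynomial.monomial e 1} := by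
    intro E F hEF
    refine Submodule.subset_span ⟨_, ?_, ?_, rfl⟩
    · simp
    · simp [hEF]
  have hprod : ∀ (w : MvPolynomial (Fin 4) k) (E F : ℕ), w ∈ W → w ≠ 0 → E + F = c →
      mo.degree w + (Finsupp.single (0 : Fin 4) E + Finsupp.single 1 F) = e →
      ∃ w' ∈ W * Submodule.span k {f : MvPolynomial (Fin 4) k | ∃ e : Fin 4 →₀ ℕ, e 2 + e 3 = 0 ∧ e 0 + e 1 = c + e 2 ∧ f = MvPolynomial.monomial e 1}, w' ≠ 0 ∧ mo.degree w' = e := by
    intro w E F hwW hw0 hEF hdeg
    have hn0 : MvPolynomial.monomial (Finsupp.single (0 : Fin 4) E + Finsupp.single 1 F)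
        (1 : k) ≠ 0 := by
      rw [Ne, MvPolynomial.monomial_eq_zero]; exact one_ne_zero
    refine ⟨w * MvPolynomial.monomial (Finsupp.single (0 : Fin 4) E + Finsupp.single 1 F) (1 : k),
      Submodule.mul_mem_mul hwW (hn E F hEF), mul_ne_zero hw0 hn0, ?_⟩
    rw [mo.degree_mul hw0 hn0, mo.degree_monomial, if_neg one_ne_zero, hdeg]
  obtain ⟨q, hq⟩ : ∃ q, q = (e 1 / (c + 1)) * (c + 1) := ⟨_, rfl⟩
  have hmod : e 1 = q + e 1 % (c + 1) := by rw [hq]; exact (Nat.div_add_mod' _ _).symm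
  have hlt : e 1 % (c + 1) < c + 1 := Nat.mod_lt _ (Nat.succ_pos c)
  by_cases hcase : q < b + e 2
  · obtain ⟨w, hwW, hw0, hwdeg⟩ := h₁ (e 2) (e 1 / (c + 1)) (by omega)
      (by rw [← hq]; exact hcase)
    refine hprod w (c - e 1 % (c + 1)) (e 1 % (c + 1)) hwW hw0 (by omega) ?_
    rw [hwdeg, ← hq]
    exact deg_eq e _ _ _ _ _ _ (by omega) (by omega) rfl (by omega)
  · obtain ⟨w, hwW, hw0, hwdeg⟩ := h₂ (e 2) (by omega)
    refine hprod w (c - (e 1 - (b + e 2))) (e 1 - (b + e 2)) hwW hw0 (by omega) ?_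
    rw [hwdeg]
    exact deg_eq2 e _ _ _ _ _ (by omega) (by omega) rfl (by omega)


/-- In the polynomial ring k[T₀,T₁,U,V] over a field k, bigraded by deg T₀ = deg T₁ = (0,1), deg U =
(1,−1), deg V = (1,0) (the Cox ring of the Hirzebruch surface F₁; its piece of bidegree (a,b) is the
space of sections of O(a(E+F)+bF)), let S_(a,b) denote the k-span of the monomials of bidegree
(a,b), so that S_(0,c) is the space of forms of degree c in T₀, T₁. A subspace W ⊆ S_(a,b) is called
c-generating when W·S_(0,c) = S_(a,b+c). Fix a monomial order and natural numbers a, b, c, and let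
W₀(a,b,c) be the set of monomials U^i V^(a−i) T₀^(b+i−j(c+1)) T₁^(j(c+1)) with 0 ≤ i ≤ a, j ≥ 0 and
j(c+1) < b+i, together with the monomials U^i V^(a−i) T₁^(b+i) with 0 ≤ i ≤ a. If every monomial of
W₀(a,b,c) is the leading monomial of some nonzero element of W, then W is c-generating. (The source
fixes the graded lexicographic order with U > V > T₀ > T₁ and works over the complex numbers; its
argument uses only that leading monomials are multiplicative and that W₀(a,b,c)·S_(0,c) contains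
every monomial of S_(a,b+c), so any monomial order and any field are allowed here. The printed index
j runs from 1; with that range the statement fails already for a = 0, b = c = 1 and W spanned by T₁,
and the range from 0 used here is the one matching the accompanying dimension count.) Variables are
indexed T₀ = 0, T₁ = 1, U = 2, V = 3. -/
theorem result (k : Type u) [Field k]
    (mo : MonomialOrder (Fin 4)) (a b c : ℕ) (W : Submodule k (MvPolynomial (Fin 4) k))
    (hW : W ≤ Submodule.span k {f : MvPolynomial (Fin 4) k | ∃ e : Fin 4 →₀ ℕ, e 2 + e 3 = a ∧ e 0 + e 1 = b + e 2 ∧ f = MvPolynomial.monomial e 1})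
    (h₁ : ∀ i j : ℕ, i ≤ a → j * (c + 1) < b + i → ∃ w ∈ W, w ≠ 0 ∧
      mo.degree w = Finsupp.single 0 (b + i - j * (c + 1)) + Finsupp.single 1 (j * (c + 1)) +
        Finsupp.single 2 i + Finsupp.single 3 (a - i))
    (h₂ : ∀ i : ℕ, i ≤ a → ∃ w ∈ W, w ≠ 0 ∧
      mo.degree w = Finsupp.single 1 (b + i) + Finsupp.single 2 i + Finsupp.single 3 (a - i)) :
    W * Submodule.span k {f : MvPolynomial (Fin 4) k | ∃ e : Fin 4 →₀ ℕ, e 2 + e 3 = 0 ∧ e 0 + e 1 = c + e 2 ∧ f = MvPolynomial.monomial e 1} =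
      Submodule.span k {f : MvPolynomial (Fin 4) k | ∃ e : Fin 4 →₀ ℕ, e 2 + e 3 = a ∧ e 0 + e 1 = (b + c) + e 2 ∧ f = MvPolynomial.monomial e 1} := by
  exact main k mo a b c W hW h₁ h₂


end Groth.Agent.S17658
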