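import Groth.Statements.S17661
import Groth.Agent.Lib.Helper7.InfLiftMain

set_option autoImplicit false
universe u
open CategoryTheory CategoryTheory.Limits AlgebraicGeometry
open Ribbon

namespace Groth.Agent.S17661

/-- Let k be a field, C a scheme locally of finite type over k and I ⊂ O_C a quasi-coherent ideal with
I² = 0, with closed subscheme D ⊂ C; suppose D is affine, connected and smooth over k and that I,
regarded as an O_D-module, is invertible (so C is a ribbon on the smooth affine scheme D, and D is
the reduced scheme underlying C). Then the ribbon is split: the inclusion D → C admits a retraction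
C → D over k. -/
theorem result (k : Type u) [Field k] (C : Scheme.{u}) [C.Over (Spec (CommRingCat.of k))]
    [LocallyOfFiniteType (C ↘ (Spec (CommRingCat.of k)))]
    (I : C.IdealSheafData) (hI : I ^ 2 = ⊥) [IsAffine I.subscheme] [ConnectedSpace I.subscheme]
    [Smooth (I.subschemeι ≫ (C ↘ (Spec (CommRingCat.of k))))]
    (hconormal : PicF.IsInvertible ((Scheme.Modules.pullback I.subschemeι).obj (ClSub.idealMod I))) :
    ∃ r : C ⟶ I.subscheme, I.subschemeι ≫ r = 𝟙 I.subscheme ∧
      r ≫ I.subschemeι ≫ (C ↘ (Spec (CommRingCat.of k))) = C ↘ (Spec (CommRingCat.of k)) := by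
  have hsq : ∀ (U : C.affineOpens) (x y : Γ(C, U.1)),
      x ∈ RingHom.ker (I.subschemeι.app U.1).hom → y ∈ RingHom.ker (I.subschemeι.app U.1).hom →
        x * y = 0 := by
    intro U x y hx hy
    have h1 : RingHom.ker (I.subschemeι.app U.1).hom = I.ideal U := by
      rw [← Scheme.Hom.ker_apply, Scheme.IdealSheafData.ker_subschemeι]
    rw [h1] at hx hy
    have h2 : x * y ∈ (I ^ 2).ideal U := by
      rw [Scheme.IdealSheafData.ideal_pow, Pi.pow_apply, pow_two]
      exact Ideal.mul_mem_mul hx hy
    rw [hI] at h2
    exact h2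
  have hi := Groth.Agent.Lib.helper7.InfLiftSch.thickening_of_sq I.subschemeι hsq
  obtain ⟨r, hr1, hr2⟩ := Groth.Agent.Lib.helper7.InfLiftMain.exists_lift_of_smooth
    (I.subschemeι ≫ (C ↘ (Spec (CommRingCat.of k)))) I.subschemeι hi
    (C ↘ (Spec (CommRingCat.of k))) (𝟙 _) (Category.id_comp _)
  exact ⟨r, hr2, hr1⟩

end Groth.Agent.S17661
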