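import Groth.Statements.S17662
import Mathlib
import Groth.Agent.Lib.Helper22.CauchyBinet

set_option autoImplicit false
universe u
open CIDisc

namespace Groth.Agent.S17662

section aux
open Groth.Agent.Lib.helper22.WeakCB Groth.Agent.Lib.helper22.CauchyBinet

lemma cb {R : Type u} [CommRing R] (e r n : ℕ) (M : Matrix (Fin r) (Fin n) R)
    (B : Matrix (Fin e) (Fin r) R) (T : {s : Finset (Fin n) // s.card = e}) :
    ((B * M).submatrix id (T.1.orderEmbOfFin T.2)).det
      = ∑ L' : {s : Finset (Fin r) // s.card = e},
          (B.submatrix id (L'.1.orderEmbOfFin L'.2)).det *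
            (M.submatrix (L'.1.orderEmbOfFin L'.2) (T.1.orderEmbOfFin T.2)).det := by
  rw [submatrix_mul_eq, Matrix.submatrix_id_id, det_mul_eq_sum_subsets]
  rfl

end aux

/-- Let R be a commutative ring, M an r × n matrix over R and e ≥ 0; for each e-element set L of row
indices let A_L be an e × r matrix over R, and form the square matrix, indexed by the e-element sets
of row indices, whose (L, L') entry is the e × e minor of A_L on the columns L'. If the determinant
of that square matrix is a unit, then the sum over L of the ideals generated by the e × e minors of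
the products A_L · M is the ideal generated by all e × e minors of M. (In the source R is the
coordinate ring of an affine scheme X of codimension e cut out by f_1, …, f_r in affine n-space, M
is the image of the Jacobian matrix of the f_j, the A_L have entries in the ground field and cut out
complete intersections Z_L = V(A_L · f), so that the two sides are Σ_L Jac(Z_L) and Jac(X); the
source states the equality for general A_L and establishes it under the present invertibility
condition, which it shows to be generic.) -/
theorem result {R : Type u} [CommRing R] (e r n : ℕ)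
    (M : Matrix (Fin r) (Fin n) R)
    (A : {s : Finset (Fin r) // s.card = e} → Matrix (Fin e) (Fin r) R)
    (hA : IsUnit (Matrix.det (Matrix.of fun i j : {s : Finset (Fin r) // s.card = e} =>
      ((A i).submatrix id (j.1.orderEmbOfFin j.2)).det))) :
    (⨆ i, Ideal.span (Set.range fun t : {s : Finset (Fin n) // s.card = e} =>
        ((A i * M).submatrix id (t.1.orderEmbOfFin t.2)).det)) =
      Ideal.span (Set.range fun p : {s : Finset (Fin r) // s.card = e} × {s : Finset (Fin n) // s.card = e} =>
        (M.submatrix (p.1.1.orderEmbOfFin p.1.2) (p.2.1.orderEmbOfFin p.2.2)).det) := by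
  classical
  set C := (Matrix.of fun i j : {s : Finset (Fin r) // s.card = e} =>
      ((A i).submatrix id (j.1.orderEmbOfFin j.2)).det) with hC
  apply le_antisymm
  · apply iSup_le
    intro L
    rw [Ideal.span_le]
    rintro _ ⟨T, rfl⟩
    show ((A L * M).submatrix id (T.1.orderEmbOfFin T.2)).det ∈ _
    rw [cb]
    apply Ideal.sum_mem
    intro L' _
    exact Ideal.mul_mem_left _ _ (Ideal.subset_span ⟨(L', T), rfl⟩)
  · rw [Ideal.span_le]
    rintro _ ⟨⟨L', T⟩, rfl⟩
    show (M.submatrix (L'.1.orderEmbOfFin L'.2) (T.1.orderEmbOfFin T.2)).det ∈ _
    have hinv : C⁻¹ * C = 1 := Matrix.nonsing_inv_mul C hA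
    have hp : (fun L : {s : Finset (Fin r) // s.card = e} =>
        ((A L * M).submatrix id (T.1.orderEmbOfFin T.2)).det)
        = C.mulVec (fun L'' : {s : Finset (Fin r) // s.card = e} =>
          (M.submatrix (L''.1.orderEmbOfFin L''.2) (T.1.orderEmbOfFin T.2)).det) := by
      funext L
      rw [cb]
      rfl
    have hm : (fun L'' : {s : Finset (Fin r) // s.card = e} =>
          (M.submatrix (L''.1.orderEmbOfFin L''.2) (T.1.orderEmbOfFin T.2)).det)
        = C⁻¹.mulVec (fun L : {s : Finset (Fin r) // s.card = e} =>
          ((A L * M).submatrix id (T.1.orderEmbOfFin T.2)).det) := by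
      rw [hp, Matrix.mulVec_mulVec, hinv, Matrix.one_mulVec]
    have := congrFun hm L'
    rw [this]
    simp only [Matrix.mulVec, dotProduct]
    apply Ideal.sum_mem
    intro L _
    apply Ideal.mul_mem_left
    exact Ideal.mem_iSup_of_mem L (Ideal.subset_span ⟨T, rfl⟩)

end Groth.Agent.S17662
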