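import Groth.Statements.S1767
import Groth.Agent.Lib.Helper25.HomVanApps
import Groth.Agent.Lib.Helper25.RpushQC
import Groth.Agent.Lib.Helper13.CurveDual1

set_option autoImplicit false
universe u
open CategoryTheory CategoryTheory.Limits AlgebraicGeometry
attribute [local instance] HasDerivedCategory.standard
open Dual

namespace Groth.Agent.S1767

/-- Let f : X → Y be a morphism between quasi-compact quasi-separated schemes. Assume the derived direct
image Rf_* exists and preserves quasi-coherence of cohomology sheaves (both known results), so that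
it restricts to a functor D_QCoh(O_X) → D_QCoh(O_Y), and let a : D_QCoh(O_Y) → D_QCoh(O_X) be a
right adjoint of this restricted functor. Then there is an integer N ≥ 0 such that for every K in
D_QCoh(O_Y) and every integer c, if H^i(K) = 0 for all i ≤ c then H^i(a(K)) = 0 for all i ≤ c − N;
in particular a sends bounded-below objects to bounded-below objects. -/
theorem result (X Y : Scheme.{u}) [CompactSpace X] [QuasiSeparatedSpace X] [CompactSpace Y] [QuasiSeparatedSpace Y] (f : X ⟶ Y) [DCoh.HasRpush f] (h : ∀ K : DCoh.D X, DCoh.IsQCohD K → DCoh.IsQCohD ((DCoh.Rpush f).obj K)) (a : DCoh.DQCoh Y ⥤ DCoh.DQCoh X) (adj : (ObjectProperty.lift DCoh.IsQCohD (ObjectProperty.ι DCoh.IsQCohD ⋙ DCoh.Rpush f) (fun K => h K.obj K.property)) ⊣ a) : ∃ N : ℕ, ∀ (K : DCoh.DQCoh Y) (c : ℤ), (∀ i : ℤ, i ≤ c → IsZero (DCoh.HD K.obj i)) → ∀ i : ℤ, i ≤ c - N → IsZero (DCoh.HD (a.obj K).obj i) := by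
  haveI : QuasiCompact f := inferInstance
  haveI : QuasiSeparated f := inferInstance
  obtain ⟨N, hN, -⟩ := Groth.Agent.Lib.Helper25.RpushQC.main_compact f
  refine ⟨N, fun K c hK i hi => ?_⟩
  let t : Triangulated.TStructure (DCoh.D X) := DerivedCategory.TStructure.t
  let tY : Triangulated.TStructure (DCoh.D Y) := DerivedCategory.TStructure.t
  let A : DCoh.DQCoh X := a.obj K
  let n : ℤ := c - N
  let M : DCoh.D X := (t.truncLE n).obj A.obj
  have hMq : DCoh.IsQCohD M :=
    Groth.Agent.Lib.Helper25.HomVanApps.isQCohD_truncLE A.obj A.property n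
  let M' : DCoh.DQCoh X := ⟨M, hMq⟩
  have hMLE : M.IsLE n := by
    change t.IsLE ((t.truncLE n).obj A.obj) n
    infer_instance
  have hR : tY.IsLE ((DCoh.Rpush f).obj M) c := by
    have h1 := Groth.Agent.Lib.helper13.CurveDual.isLE_Rpush_of_bound f N hN M hMq n hMLE
    have h2 : n + (N : ℤ) = c := by simp only [n]; omega
    rw [h2] at h1
    exact h1
  have hKGE : tY.IsGE K.obj (c + 1) := by
    change K.obj.IsGE (c + 1)
    rw [DerivedCategory.isGE_iff]
    intro j hj
    exact hK j (by omega)
  have hsub : Subsingleton (M' ⟶ A) := by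
    refine (adj.homEquiv M' K).subsingleton_congr.1 ⟨fun φ ψ => ?_⟩
    apply ObjectProperty.hom_ext
    have h1 : φ.hom = 0 := tY.zero_of_isLE_of_isGE φ.hom c (c + 1) (by omega) hR hKGE
    have h2 : ψ.hom = 0 := tY.zero_of_isLE_of_isGE ψ.hom c (c + 1) (by omega) hR hKGE
    rw [h1, h2]
  have hι : (t.truncLEι n).app A.obj = 0 := by
    have h1 : (ObjectProperty.homMk ((t.truncLEι n).app A.obj) : M' ⟶ A) = 0 :=
      Subsingleton.elim _ _
    have h2 := congrArg (fun g : M' ⟶ A => g.hom) h1
    exact h2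
  have hiso := Groth.Agent.H1.WayOutCoh.isIso_homology_truncLEι A.obj n i hi
  have hz : (DerivedCategory.homologyFunctor X.Modules i).map ((t.truncLEι n).app A.obj) = 0 := by
    rw [hι]
    exact Functor.map_zero _ _ _
  have key : ∀ {P Q : X.Modules} (g : P ⟶ Q) [IsIso g], g = 0 → IsZero Q := by
    intro P Q g _ hg
    rw [IsZero.iff_id_eq_zero]
    have h5 : inv g ≫ g = inv g ≫ 0 := congrArg (fun k => inv g ≫ k) hg
    rw [IsIso.inv_hom_id, comp_zero] at h5
    exact h5
  have h3 : IsZero ((DerivedCategory.homologyFunctor X.Modules i).obj A.obj) := key _ hz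
  exact h3

end Groth.Agent.S1767
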