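import Groth.Statements.S17677
-- import your own Groth.Agent.* helpers here

set_option autoImplicit false
universe u
open Hoch

namespace Groth.Agent.S17677

open TensorProduct

/-- coefficient at `0` -/
noncomputable def e₀ (k : Type u) [CommRing k] (M : Type u) [AddCommMonoid M] :
    AddMonoidAlgebra k M →ₗ[k] k :=
  (Finsupp.lapply 0) ∘ₗ (AddMonoidAlgebra.coeffLinearEquiv k).toLinearMap

theorem e₀_single (k : Type u) [CommRing k] (M : Type u) [AddCommMonoid M] [DecidableEq M]
    (m : M) (r : k) : e₀ k M (AddMonoidAlgebra.single m r) = if m = 0 then r else 0 := by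
  simp [e₀, Finsupp.single_apply]

theorem e₀_one (k : Type u) [CommRing k] (M : Type u) [AddCommMonoid M] :
    e₀ k M 1 = 1 := by
  classical
  rw [AddMonoidAlgebra.one_def, e₀_single]
  simp

theorem lemmaA (k : Type u) [CommRing k] (M : Type u) [AddCommMonoid M] :
    (TensorProduct.rid k (AddMonoidAlgebra k M)).toLinearMap ∘ₗ
      ((e₀ k M).lTensor (AddMonoidAlgebra k M)) ∘ₗ (Coalgebra.comul (R := k)) =
      (LinearMap.toSpanSingleton k (AddMonoidAlgebra k M) 1) ∘ₗ (e₀ k M) := by
  classical
  apply AddMonoidAlgebra.lhom_ext'
  intro m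
  apply LinearMap.ext
  intro r
  simp only [LinearMap.comp_apply, AddMonoidAlgebra.lsingle_apply, LinearEquiv.coe_coe,
    AddMonoidAlgebra.comul_single, LinearMap.toSpanSingleton_apply]
  simp only [CommSemiring.comul_apply, TensorProduct.map_tmul, AddMonoidAlgebra.lsingle_apply,
    LinearMap.lTensor_tmul, TensorProduct.rid_tmul, e₀_single]
  by_cases hm : m = 0
  · subst hm
    simp [AddMonoidAlgebra.one_def]
  · simp [hm]

/-- Let k be a commutative ring, M a commutative monoid and V a right comodule over the monoid bialgebra
k[M] (a quasi-coherent module with an action of the diagonalizable monoid scheme Spec k[M]). Then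
every 1-cocycle of the Hochschild complex of V is a 1-coboundary, i.e. the first Hochschild
cohomology module of the diagonalizable monoid with coefficients in V is zero. (The source works
over an algebraic space with M finitely generated and cancellative, hypotheses it uses only to
identify modules under the monoid with comodules; the cocycle computation, which is the affine
statement given here, uses neither.) -/
theorem result (k : Type u) [CommRing k] (M : Type u)
    [AddCommMonoid M] (V : Type u) [AddCommGroup V] [Module k V]
    [HopfRep.Comod k (AddMonoidAlgebra k M) V] :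
    Hoch.cocycles k (AddMonoidAlgebra k M) V 1 ≤ Hoch.coboundaries k (AddMonoidAlgebra k M) V 1 := by
  classical
  let A := AddMonoidAlgebra k M
  let T : (V ⊗[k] A) ⊗[k] A →ₗ[k] V ⊗[k] A :=
    (TensorProduct.rid k (V ⊗[k] A)).toLinearMap ∘ₗ ((e₀ k M).lTensor (V ⊗[k] A))
  let W : V ⊗[k] A →ₗ[k] V := (TensorProduct.rid k V).toLinearMap ∘ₗ ((e₀ k M).lTensor V)
  have key : T ∘ₗ (Hoch.d k A V 1) = (Hoch.d k A V 0) ∘ₗ W + LinearMap.id := by
    apply TensorProduct.ext'
    intro v a
    have hA := LinearMap.congr_fun (lemmaA k M) a
    simp only [LinearMap.comp_apply, LinearEquiv.coe_coe, LinearMap.toSpanSingleton_apply] at hA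
    -- T ∘ assoc.symm ∘ (v ⊗ ·) = (v ⊗ ·) ∘ rid ∘ lTensor e₀
    have hT : ∀ x : A ⊗[k] A, T ((TensorProduct.assoc k V A A).symm (v ⊗ₜ x)) =
        v ⊗ₜ ((TensorProduct.rid k A) (((e₀ k M).lTensor A) x)) := by
      intro x
      induction x using TensorProduct.induction_on with
      | zero => simp
      | tmul a₁ a₂ =>
        simp [T, TensorProduct.smul_tmul']
      | add x y hx hy =>
        rw [TensorProduct.tmul_add, map_add, map_add, hx, hy, map_add, map_add,
          TensorProduct.tmul_add]
    rw [LinearMap.comp_apply, Hoch.d_succ, Hoch.d_zero]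
    simp only [LinearMap.add_apply, LinearMap.smul_apply, LinearMap.rTensor_tmul,
      LinearMap.sub_apply, LinearMap.flip_apply, TensorProduct.mk_apply, Hoch.tail_tmul,
      LinearMap.comp_apply, LinearMap.id_apply, map_add, map_sub, map_smul, TensorProduct.tmul_sub,
      hT, hA]
    simp only [T, W, LinearMap.comp_apply, LinearMap.lTensor_tmul, LinearEquiv.coe_coe,
      TensorProduct.rid_tmul, e₀_one, map_smul, LinearMap.sub_apply, LinearMap.flip_apply,
      TensorProduct.mk_apply, TensorProduct.sub_tmul, map_sub, TensorProduct.smul_tmul',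
      TensorProduct.tmul_smul]
    simp only [zero_add, pow_one, neg_smul, one_smul]
    have hA' : (TensorProduct.rid k A) ((LinearMap.lTensor A (e₀ k M)) (CoalgebraStruct.comul a)) =
        (e₀ k M) a • (1 : A) := hA
    rw [hA', TensorProduct.tmul_smul, TensorProduct.smul_tmul']
    abel
  intro c hc
  have hc' : Hoch.d k A V 1 c = 0 := hc
  have h := LinearMap.congr_fun key c
  simp only [LinearMap.comp_apply, hc', map_zero, LinearMap.add_apply, LinearMap.id_apply] at h
  change c ∈ LinearMap.range (Hoch.d k A V 0)
  refine ⟨-(W c), ?_⟩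
  rw [map_neg]
  exact (eq_neg_of_add_eq_zero_right h.symm).symm

end Groth.Agent.S17677
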