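import Groth.Statements.S17679
import Mathlib.LinearAlgebra.Dimension.OrzechProperty
import Mathlib.LinearAlgebra.Dimension.Free
import Mathlib.LinearAlgebra.FreeModule.Finite.Basic
import Mathlib.LinearAlgebra.Dimension.Constructions
import Mathlib.Algebra.Group.Submonoid.Finsupp
import Mathlib.RingTheory.Noetherian.Orzech
import Mathlib.RingTheory.FiniteType
-- import your own Groth.Agent.* helpers here

set_option autoImplicit false
open DiagMon

namespace Groth.Agent.S17679

theorem part_a (n : ℕ) (hn : 1 ≤ n) :
    ∃ s : Finset (Fin n → ℤ), s.card = n + 1 ∧ AddSubmonoid.closure (s : Set (Fin n → ℤ)) = ⊤ := by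
  classical
  let w : Fin n → ℤ := fun _ => -1
  let E : Finset (Fin n → ℤ) := Finset.univ.image (fun i : Fin n => (Pi.single i 1 : Fin n → ℤ))
  have hinj : Function.Injective (fun i : Fin n => (Pi.single i 1 : Fin n → ℤ)) := by
    intro i j hij
    by_contra hne
    have := congrFun hij i
    simp [hne] at this
  have hw : w ∉ E := by
    intro h
    obtain ⟨i, -, hi⟩ := Finset.mem_image.mp h
    have := congrFun hi i
    simp [w] at this
  refine ⟨insert w E, ?_, ?_⟩
  · rw [Finset.card_insert_of_notMem hw, Finset.card_image_of_injective _ hinj]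
    simp
  · rw [eq_top_iff]
    intro v _
    let N : ℕ := ∑ i, (v i).natAbs
    have hN : ∀ i, 0 ≤ v i + N := by
      intro i
      have h1 : (v i).natAbs ≤ N :=
        Finset.single_le_sum (f := fun i => (v i).natAbs) (fun _ _ => Nat.zero_le _) (Finset.mem_univ i)
      have h2 : -((v i).natAbs : ℤ) ≤ v i := by
        omega
      have h3 : ((v i).natAbs : ℤ) ≤ (N : ℤ) := by exact_mod_cast h1
      omega
    have hv : v = ∑ i, (v i + N).toNat • (Pi.single i 1 : Fin n → ℤ) + N • w := by
      funext j
      simp only [Pi.add_apply, Finset.sum_apply, Pi.smul_apply, Pi.single_apply, w]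
      rw [Finset.sum_eq_single j]
      · simp only [if_true, nsmul_eq_mul, mul_one, mul_neg]
        rw [Int.toNat_of_nonneg (hN j)]
        ring
      · intro i _ hij
        simp [Ne.symm hij]
      · intro h; exact absurd (Finset.mem_univ j) h
    rw [hv]
    refine add_mem (sum_mem fun i _ => nsmul_mem (AddSubmonoid.subset_closure ?_) _)
      (nsmul_mem (AddSubmonoid.subset_closure ?_) _)
    · simp only [Finset.coe_insert, Set.mem_insert_iff, Finset.mem_coe]
      right
      exact Finset.mem_image.mpr ⟨i, Finset.mem_univ _, rfl⟩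
    · simp

theorem part_b (n : ℕ) (hn : 1 ≤ n) (s : Finset (Fin n → ℤ))
    (hs : AddSubmonoid.closure (s : Set (Fin n → ℤ)) = ⊤) : n + 1 ≤ s.card := by
  classical
  by_contra hlt
  have hcard : s.card ≤ n := by omega
  -- s spans
  have hspan : ⊤ ≤ Submodule.span ℤ (Set.range (Subtype.val : s → (Fin n → ℤ))) := by
    intro v _
    have hv : v ∈ AddSubmonoid.closure (s : Set (Fin n → ℤ)) := by rw [hs]; trivial
    have hle : AddSubmonoid.closure (s : Set (Fin n → ℤ)) ≤
        (Submodule.span ℤ (Set.range (Subtype.val : s → (Fin n → ℤ)))).toAddSubmonoid := by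
      rw [AddSubmonoid.closure_le]
      intro x hx
      exact Submodule.subset_span ⟨⟨x, hx⟩, rfl⟩
    exact hle hv
  have hli : LinearIndependent ℤ (Subtype.val : s → (Fin n → ℤ)) := by
    apply linearIndependent_of_top_le_span_of_card_le_finrank hspan
    simp [hcard]
  rw [Fintype.linearIndependent_iff] at hli
  -- the element -(sum of s)
  have hmem : -(∑ i : s, i.1) ∈ AddSubmonoid.closure (s : Set (Fin n → ℤ)) := by rw [hs]; trivial
  obtain ⟨c, hc⟩ := AddSubmonoid.mem_closure_finset'.mp hmem
  have hzero : ∑ i : s, ((c i : ℤ) + 1) • i.1 = 0 := by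
    simp only [add_smul, one_smul, Finset.sum_add_distrib]
    have : ∑ i : s, (c i : ℤ) • i.1 = ∑ i : s, c i • i.1 := by
      refine Finset.sum_congr rfl fun i _ => ?_
      rw [natCast_zsmul]
    rw [this, ← hc]
    simp
  have hall := hli (fun i => (c i : ℤ) + 1) hzero
  -- s is nonempty
  have hne : s.Nonempty := by
    by_contra hemp
    rw [Finset.not_nonempty_iff_eq_empty] at hemp
    subst hemp
    simp only [Finset.coe_empty, AddSubmonoid.closure_empty] at hs
    have h0 : (Pi.single (⟨0, by omega⟩ : Fin n) 1 : Fin n → ℤ) ∈ (⊥ : AddSubmonoid (Fin n → ℤ)) := by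
      rw [hs]; trivial
    rw [AddSubmonoid.mem_bot] at h0
    have := congrFun h0 ⟨0, by omega⟩
    simp at this
  obtain ⟨t, ht⟩ := hne
  have := hall ⟨t, ht⟩
  omega

/-- For n ≥ 1 the minimal number of generators of ℤ^n as an additive monoid is n + 1: some n + 1
elements generate ℤ^n as a monoid, and every finite set generating ℤ^n as a monoid has at least n +
1 elements. (For n = 0 the empty set generates the zero monoid, so the count n + 1 is stated for n ≥
1 only.) -/
theorem result (n : ℕ) (hn : 1 ≤ n) :
    (∃ s : Finset (Fin n → ℤ), s.card = n + 1 ∧ AddSubmonoid.closure (s : Set (Fin n → ℤ)) = ⊤) ∧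
    ∀ s : Finset (Fin n → ℤ), AddSubmonoid.closure (s : Set (Fin n → ℤ)) = ⊤ → n + 1 ≤ s.card := by
  exact ⟨part_a n hn, fun s hs => part_b n hn s hs⟩

end Groth.Agent.S17679
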