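import Groth.Statements.S17681
import Groth.Agent.Lib.Helper14.EtaleFixed
import Groth.Agent.Lib.Helper14.ActPts
import Groth.Agent.S2502

set_option autoImplicit false
universe u
open CategoryTheory MonoidalCategory CartesianMonoidalCategory MonObj GrpObj AlgebraicGeometry
open AlgGrp

namespace Groth.Agent.S17681

/-- Let S be a scheme, G a flat S-group scheme of finite presentation with connected fibres, X and Y
S-schemes locally of finite presentation with actions of G, and f : X → Y an étale G-equivariant
S-morphism; assume that S is locally Noetherian or that X and Y are quasi-separated over S. Then f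
reflects fixed points: a T-point x of X whose image in Y is fixed by G after every base change T' →
T is itself fixed by G after every base change, so that the fixed-point subfunctor of X is the
preimage of that of Y. (The source allows X and Y to be algebraic spaces over S; this row is the
case of schemes.) -/
theorem result (S : Scheme.{u})
    (G : Over S) [GrpObj G] [Flat G.hom] [LocallyOfFinitePresentation G.hom] [QuasiCompact G.hom]
    [QuasiSeparated G.hom] (hconn : ∀ s : S, ConnectedSpace (G.hom.fiber s))
    (X Y : Over S) [LocallyOfFinitePresentation X.hom] [LocallyOfFinitePresentation Y.hom]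
    (hS : IsLocallyNoetherian S ∨ (QuasiSeparated X.hom ∧ QuasiSeparated Y.hom))
    (a : AlgGrp.Action G X) (b : AlgGrp.Action G Y) (f : X ⟶ Y) [Etale f.left]
    (hf : a.act ≫ f = (G ◁ f) ≫ b.act) (T : Over S) (x : T ⟶ X)
    (hx : ∀ (T' : Over S) (t : T' ⟶ T) (g : T' ⟶ G), lift g (t ≫ x ≫ f) ≫ b.act = t ≫ x ≫ f)
    (T' : Over S) (t : T' ⟶ T) (g : T' ⟶ G) : lift g (t ≫ x) ≫ a.act = t ≫ x := by
  -- geometric connectedness of `G → S`
  have hid : ∀ Z : Scheme.{u}, GeometricallyConnected (𝟙 Z) := by
    intro Z
    refine ⟨fun K _ y W fst snd h => ?_⟩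
    haveI : IsIso snd := h.isIso_snd_of_isIso
    show ConnectedSpace W
    rw [snd.homeomorph.connectedSpace_iff]
    infer_instance
  have hGC : GeometricallyConnected G.hom := by
    rw [GeometricallyConnected.iff_geometricallyConnected_fiber]
    intro s
    haveI := hconn s
    let g0 : Spec (S.residueField s) ⟶ G.hom.fiber s :=
      Limits.pullback.lift (S.fromSpecResidueField s ≫ η[G].left) (𝟙 _) (by
        rw [Category.assoc, Over.w η[G]]
        simp)
    have hg0 : g0 ≫ G.hom.fiberToSpecResidueField s = 𝟙 _ := Limits.pullback.lift_snd _ _ _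
    haveI : GeometricallyConnected (g0 ≫ G.hom.fiberToSpecResidueField s) := by
      rw [hg0]; exact hid _
    exact Groth.Agent.S2502.result (k := S.residueField s) g0 (G.hom.fiberToSpecResidueField s)
  have key : ∀ (T : Over S) (x : T ⟶ X),
      (∀ (T' : Over S) (t : T' ⟶ T) (g : T' ⟶ G), lift g (t ≫ x ≫ f) ≫ b.act = t ≫ x ≫ f) →
      (G ◁ x) ≫ a.act = snd G T ≫ x := by
    intro T x hx
    have e1 : ((G ◁ x) ≫ a.act) ≫ f = snd G T ≫ x ≫ f := by
      rw [Category.assoc, hf, ← Category.assoc, ← MonoidalCategory.whiskerLeft_comp]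
      have : G ◁ (x ≫ f) = lift (fst G T) (snd G T ≫ x ≫ f) := by
        apply CartesianMonoidalCategory.hom_ext <;> simp
      rw [this]
      have := hx (G ⊗ T) (snd G T) (fst G T)
      exact this
    have e2 : lift (toUnit T ≫ η[G]) (𝟙 T) ≫ (G ◁ x) ≫ a.act = x := by
      have : lift (toUnit T ≫ η[G]) (𝟙 T) ≫ (G ◁ x) = lift (toUnit T ≫ η[G]) x := by
        apply CartesianMonoidalCategory.hom_ext <;> simp
      rw [← Category.assoc, this]
      exact Groth.Agent.Lib.Helper14.ActPts.act_one_pt a x
    have e3 : lift (toUnit T ≫ η[G]) (𝟙 T) ≫ snd G T = 𝟙 T := lift_snd _ _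
    haveI : GeometricallyConnected (snd G T).left :=
      inferInstanceAs (GeometricallyConnected (Limits.pullback.snd G.hom T.hom))
    have main := Groth.Agent.Lib.Helper14.EtaleFixed.eq_of_connected_fibres f.left (snd G T).left
      (lift (toUnit T ≫ η[G]) (𝟙 T)).left
      (by rw [← Over.comp_left, e3, Over.id_left]) x.left ((G ◁ x) ≫ a.act).left
      (by rw [← Over.comp_left, ← Over.comp_left, ← Over.comp_left, e1])
      (by rw [← Over.comp_left, e2])
      (fun τ => ConnectedSpace.toPreconnectedSpace)
    apply Over.OverMorphism.ext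
    rw [main, Over.comp_left]
  have hx' : ∀ (T'' : Over S) (t' : T'' ⟶ T') (g' : T'' ⟶ G),
      lift g' (t' ≫ (t ≫ x) ≫ f) ≫ b.act = t' ≫ (t ≫ x) ≫ f := by
    intro T'' t' g'
    have := hx T'' (t' ≫ t) g'
    simpa only [Category.assoc] using this
  have h1 := key T' (t ≫ x) hx'
  have h2 : lift g (t ≫ x) = lift g (𝟙 T') ≫ (G ◁ (t ≫ x)) := by
    apply CartesianMonoidalCategory.hom_ext <;> simp
  rw [h2, Category.assoc, h1, lift_snd_assoc, Category.id_comp]

end Groth.Agent.S17681
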