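import Groth.Statements.S17683
import Mathlib
-- import your own Groth.Agent.* helpers here

set_option autoImplicit false
universe u
open DiagMon

namespace Groth.Agent.S17683

/-- Let N be a commutative monoid and F a submonoid of N. The additive projection ℤ[N] → ℤ[F] of monoid
algebras keeping the monomials with exponent in F and killing the others is multiplicative, i.e. F
is a face of N, if and only if for all x, y in N the sum x + y lies in F exactly when both x and y
do. -/
theorem result {N : Type u} [AddCommMonoid N] (F : AddSubmonoid N) :
    (∀ a b : AddMonoidAlgebra ℤ N,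
        AddMonoidAlgebra.comapDomain ((↑) : F → N) Subtype.val_injective (a * b) =
          AddMonoidAlgebra.comapDomain ((↑) : F → N) Subtype.val_injective a *
            AddMonoidAlgebra.comapDomain ((↑) : F → N) Subtype.val_injective b) ↔
      ∀ x y : N, x + y ∈ F ↔ (x ∈ F ∧ y ∈ F) := by
  classical
  have hsingle : ∀ (n : N) (r : ℤ) (hn : n ∈ F),
      AddMonoidAlgebra.comapDomain ((↑) : F → N) Subtype.val_injective (AddMonoidAlgebra.single n r) =
        AddMonoidAlgebra.single (⟨n, hn⟩ : F) r := fun n r hn =>
    AddMonoidAlgebra.comapDomain_single_map ((↑) : F → N) Subtype.val_injective ⟨n, hn⟩ r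
  have hsingle0 : ∀ (n : N) (r : ℤ) (hn : n ∉ F),
      AddMonoidAlgebra.comapDomain ((↑) : F → N) Subtype.val_injective (AddMonoidAlgebra.single n r) =
        0 := by
    intro n r hn
    ext m
    have hne : n ≠ (m : N) := fun h => hn (h ▸ m.2)
    simp [hne]
  constructor
  · intro h x y
    constructor
    · intro hxy
      have := h (AddMonoidAlgebra.single x 1) (AddMonoidAlgebra.single y 1)
      rw [AddMonoidAlgebra.single_mul_single, hsingle _ _ hxy] at this
      have hne : AddMonoidAlgebra.single (⟨x + y, hxy⟩ : F) ((1 : ℤ) * 1) ≠ 0 := by
        simp
      constructor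
      · by_contra hx
        rw [hsingle0 x 1 hx, zero_mul] at this
        exact hne this
      · by_contra hy
        rw [hsingle0 y 1 hy, mul_zero] at this
        exact hne this
    · rintro ⟨hx, hy⟩
      exact F.add_mem hx hy
  · intro hface a b
    induction a using AddMonoidAlgebra.induction_linear with
    | zero => simp [AddMonoidAlgebra.comapDomain_zero]
    | add a a' ha ha' =>
      rw [add_mul, AddMonoidAlgebra.comapDomain_add, AddMonoidAlgebra.comapDomain_add, add_mul, ha, ha']
    | single x r =>
      induction b using AddMonoidAlgebra.induction_linear with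
      | zero => simp [AddMonoidAlgebra.comapDomain_zero]
      | add b b' hb hb' =>
        rw [mul_add, AddMonoidAlgebra.comapDomain_add, AddMonoidAlgebra.comapDomain_add, mul_add, hb, hb']
      | single y s =>
        rw [AddMonoidAlgebra.single_mul_single]
        by_cases hx : x ∈ F
        · by_cases hy : y ∈ F
          · rw [hsingle _ _ hx, hsingle _ _ hy, hsingle _ _ (F.add_mem hx hy),
              AddMonoidAlgebra.single_mul_single]
            rfl
          · rw [hsingle0 y s hy, mul_zero, hsingle0 _ _ (fun h => hy ((hface x y).1 h).2)]
        · rw [hsingle0 x r hx, zero_mul, hsingle0 _ _ (fun h => hx ((hface x y).1 h).1)]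

end Groth.Agent.S17683
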