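import Groth.Statements.S17687
import Mathlib

set_option autoImplicit false
universe u v w
open DiagMon

namespace Groth.Agent.S17687

theorem key (R : Type u) [CommRing R] (A : Type v) [CommRing A]
    [Algebra R A] (M : Type w) [AddCommMonoid M] [DecidableEq M]
    (𝒜 : M → Submodule R A) [GradedAlgebra 𝒜] (T : Set (M × A))
    (hT : ∀ x ∈ T, x.2 ∈ 𝒜 x.1) (hgen : Algebra.adjoin R (Prod.snd '' T) = ⊤)
    (N : AddSubmonoid M) :
    Ideal.span {a : A | ∃ m : M, m ∉ N ∧ a ∈ 𝒜 m} =
      Ideal.span (Prod.snd '' {x ∈ T | x.1 ∉ N}) := by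
  apply le_antisymm
  · rw [Ideal.span_le]
    rintro a ⟨m, hm, ha⟩
    obtain ⟨K, hK⟩ : ∃ K : Ideal A, K = Ideal.span (Prod.snd '' {x ∈ T | x.1 ∉ N}) := ⟨_, rfl⟩
    rw [← hK]
    show a ∈ K
    have hP : ∀ w ∈ Submonoid.closure (Prod.snd '' T), ∃ m', w ∈ 𝒜 m' ∧ (m' ∉ N → w ∈ K) := by
      intro w hw
      induction hw using Submonoid.closure_induction with
      | mem w hw =>
        obtain ⟨x, hx, rfl⟩ := hw
        refine ⟨x.1, hT x hx, fun hxN => ?_⟩
        rw [hK]
        exact Ideal.subset_span ⟨x, ⟨hx, hxN⟩, rfl⟩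
      | one =>
        exact ⟨0, SetLike.one_mem_graded 𝒜, fun h0 => absurd N.zero_mem h0⟩
      | mul w1 w2 _ _ h1 h2 =>
        obtain ⟨m1, hw1, hk1⟩ := h1
        obtain ⟨m2, hw2, hk2⟩ := h2
        refine ⟨m1 + m2, SetLike.mul_mem_graded hw1 hw2, fun h12 => ?_⟩
        by_cases hm1 : m1 ∈ N
        · have hm2 : m2 ∉ N := fun hm2 => h12 (N.add_mem hm1 hm2)
          exact K.mul_mem_left _ (hk2 hm2)
        · exact K.mul_mem_right _ (hk1 hm1)
    have hQ : ∀ b ∈ Submodule.span R (Submonoid.closure (Prod.snd '' T) : Set A),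
        GradedAlgebra.proj 𝒜 m b ∈ K := by
      intro b hb
      induction hb using Submodule.span_induction with
      | mem w hw =>
        obtain ⟨m', hw', hk'⟩ := hP w hw
        rw [GradedAlgebra.proj_apply]
        by_cases hmm : m' = m
        · subst hmm
          rw [DirectSum.decompose_of_mem_same 𝒜 hw']
          exact hk' hm
        · rw [DirectSum.decompose_of_mem_ne 𝒜 hw' hmm]
          exact K.zero_mem
      | zero => rw [map_zero]; exact K.zero_mem
      | add b1 b2 _ _ h1 h2 => rw [map_add]; exact K.add_mem h1 h2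
      | smul c b _ h1 =>
        rw [map_smul, Algebra.smul_def]
        exact K.mul_mem_left _ h1
    have ha' : a ∈ Submodule.span R (Submonoid.closure (Prod.snd '' T) : Set A) := by
      rw [← Algebra.adjoin_eq_span, hgen, Algebra.top_toSubmodule]
      exact Submodule.mem_top
    have h3 := hQ a ha'
    rw [GradedAlgebra.proj_apply, DirectSum.decompose_of_mem_same 𝒜 ha] at h3
    exact h3
  · apply Ideal.span_mono
    rintro _ ⟨x, ⟨hx, hxN⟩, rfl⟩
    exact ⟨x.1, hxN, hT x hx⟩


/-- Let R be a commutative ring and A a commutative R-algebra of finite type graded by a commutative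
monoid M. Then the set of ideals J_N, N running over all submonoids of M, where J_N is generated by
the homogeneous elements of degree not in N (the ideal of the attractor of Spec A for the magnet N),
is finite: Spec A has finitely many attractors and hence finitely many pure magnets. (The source
assumes Spec A of finite presentation over the base; its proof uses only a finite set of homogeneous
algebra generators, so finite type is assumed here.) -/
theorem result (R : Type u) [CommRing R] (A : Type v) [CommRing A]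
    [Algebra R A] [Algebra.FiniteType R A] (M : Type w) [AddCommMonoid M] [DecidableEq M]
    (𝒜 : M → Submodule R A) [GradedAlgebra 𝒜] :
    (Set.range fun N : AddSubmonoid M => Ideal.span {a : A | ∃ m : M, m ∉ N ∧ a ∈ 𝒜 m}).Finite := by
  classical
  obtain ⟨S, hS⟩ := (Algebra.FiniteType.out : (⊤ : Subalgebra R A).FG)
  obtain ⟨T, hTdef⟩ : ∃ T : Finset (M × A), T = S.biUnion (fun s =>
      (DirectSum.decompose 𝒜 s).support.image
        (fun m => (m, ((DirectSum.decompose 𝒜 s) m : A)))) := ⟨_, rfl⟩
  have hT : ∀ x ∈ (T : Set (M × A)), x.2 ∈ 𝒜 x.1 := by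
    intro x hx
    rw [Finset.mem_coe, hTdef, Finset.mem_biUnion] at hx
    obtain ⟨s, _, hx⟩ := hx
    rw [Finset.mem_image] at hx
    obtain ⟨m, _, rfl⟩ := hx
    exact SetLike.coe_mem _
  have hgen : Algebra.adjoin R (Prod.snd '' (T : Set (M × A))) = ⊤ := by
    rw [eq_top_iff, ← hS]
    apply Algebra.adjoin_le
    intro s hs
    have hsum := DirectSum.sum_support_decompose 𝒜 s
    rw [← hsum]
    apply Subalgebra.sum_mem
    intro m hm
    apply Algebra.subset_adjoin
    refine ⟨(m, ((DirectSum.decompose 𝒜 s) m : A)), ?_, rfl⟩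
    rw [Finset.mem_coe, hTdef, Finset.mem_biUnion]
    exact ⟨s, Finset.mem_coe.mp hs, Finset.mem_image.mpr ⟨m, hm, rfl⟩⟩
  apply Set.Finite.subset (Set.Finite.image
    (fun U : Finset (M × A) => Ideal.span (Prod.snd '' (U : Set (M × A))))
    (Finset.finite_toSet T.powerset))
  rintro _ ⟨N, rfl⟩
  refine ⟨T.filter (fun x => x.1 ∉ N), ?_, ?_⟩
  · rw [Finset.mem_coe, Finset.mem_powerset]; exact Finset.filter_subset _ _
  · show Ideal.span (Prod.snd '' ((T.filter (fun x => x.1 ∉ N) : Finset (M × A)) : Set (M × A))) =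
      Ideal.span {a : A | ∃ m : M, m ∉ N ∧ a ∈ 𝒜 m}
    rw [key R A M 𝒜 (T : Set (M × A)) hT hgen N, Finset.coe_filter]
    rfl


end Groth.Agent.S17687
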