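import Groth.Statements.S4622
import Mathlib.AlgebraicGeometry.Morphisms.UniversallyInjective
import Mathlib.AlgebraicGeometry.Morphisms.Integral
import Mathlib.FieldTheory.PurelyInseparable.Basic
-- import your own Groth.Agent.* helpers here

set_option autoImplicit false
open CategoryTheory AlgebraicGeometry
universe u
open FBase

namespace Groth.Agent.S4622

open CategoryTheory CategoryTheory.Limits AlgebraicGeometry in
/-- integral + universally injective + surjective ⟹ universal homeomorphism -/
lemma isUnivHomeo_of_integral {X Y : Scheme.{u}} (f : X ⟶ Y) [IsIntegralHom f]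
    [UniversallyInjective f] [Surjective f] : FlatMor.IsUnivHomeo f := by
  intro X' Y' i₁ i₂ f' h
  have h1 : IsIntegralHom f' := MorphismProperty.of_isPullback h.flip ‹_›
  have h2 : UniversallyInjective f' := MorphismProperty.of_isPullback h.flip ‹_›
  have h3 : Surjective f' := MorphismProperty.of_isPullback h.flip ‹_›
  exact isHomeomorph_iff_continuous_isClosedMap_bijective.2
    ⟨f'.continuous, f'.isClosedMap, f'.injective, f'.surjective⟩

open CategoryTheory CategoryTheory.Limits AlgebraicGeometry in
lemma isUnivHomeo_spec_of_purelyInseparable (k k' : Type u) [Field k] [Field k'] [Algebra k k']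
    [IsPurelyInseparable k k'] :
    FlatMor.IsUnivHomeo (Spec.map (CommRingCat.ofHom (algebraMap k k'))) := by
  have h1 : IsIntegralHom (Spec.map (CommRingCat.ofHom (algebraMap k k'))) := by
    rw [IsIntegralHom.SpecMap_iff]
    exact algebraMap_isIntegral_iff.mpr inferInstance
  have h2 : UniversallyInjective (Spec.map (CommRingCat.ofHom (algebraMap k k'))) := by
    refine ((tfae_universallyInjective _).out 0 1).2 ?_
    intro K _ g₁ g₂ hg
    obtain ⟨φ₁, rfl⟩ := Spec.map_surjective g₁
    obtain ⟨φ₂, rfl⟩ := Spec.map_surjective g₂
    dsimp only at hg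
    rw [← Spec.map_comp, ← Spec.map_comp] at hg
    have := Spec.map_injective hg
    have h3 : φ₁.hom.comp (algebraMap k k') = φ₂.hom.comp (algebraMap k k') := by
      have := congrArg CommRingCat.Hom.hom this
      simpa using this
    have h4 := IsPurelyInseparable.injective_comp_algebraMap k k' K h3
    congr 1
    exact CommRingCat.hom_ext h4
  have h3 : Surjective (Spec.map (CommRingCat.ofHom (algebraMap k k'))) := by
    refine ⟨fun x => ?_⟩
    have : Nonempty (PrimeSpectrum k') := inferInstance
    obtain ⟨y⟩ := this
    have hsub : Subsingleton (PrimeSpectrum k) := inferInstance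
    exact ⟨y, hsub.elim _ _⟩
  exact isUnivHomeo_of_integral _

/-- Let k be a separably closed field, k' an algebraic closure of k and X a scheme over k. Then the
projection X ⊗_k k' → X is a universal homeomorphism. -/
theorem result {k k' : Type u} [Field k] [IsSepClosed k] [Field k'] [Algebra k k']
    [IsAlgClosure k k'] {X : Scheme.{u}} (f : X ⟶ Spec (CommRingCat.of k)) :
    FlatMor.IsUnivHomeo (FBase.bcπ f k') := by
  have : Algebra.IsAlgebraic k k' := IsAlgClosure.isAlgebraic
  have : IsPurelyInseparable k k' := inferInstance
  have h := isUnivHomeo_spec_of_purelyInseparable k k'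
  have hst : (FlatMor.IsUnivHomeo : MorphismProperty Scheme.{u}).IsStableUnderBaseChange := by
    unfold FlatMor.IsUnivHomeo; infer_instance
  exact MorphismProperty.pullback_fst (P := FlatMor.IsUnivHomeo) f _ h

end Groth.Agent.S4622
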