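import Groth.Statements.S17689
import Groth.Agent.S4622
import Mathlib.Algebra.CharP.Reduced
import Mathlib.RingTheory.IntegralClosure.IntegrallyClosed
import Mathlib.RingTheory.DedekindDomain.Dvr
-- import your own Groth.Agent.* helpers here

set_option autoImplicit false
universe u
open CategoryTheory AlgebraicGeometry
open Neron

namespace Groth.Agent.S17689

section Helpers
open CategoryTheory CategoryTheory.Limits AlgebraicGeometry

/-- An injective integral ring map `R → S` such that every element of `S` has a `q^n`-th power in
`R` (with `q = 1` or `q` prime and zero in `R`) induces a universal homeomorphism on spectra. -/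
lemma isUnivHomeo_of_pow_mem {R S : Type u} [CommRing R] [CommRing S] [Algebra R S]
    [Algebra.IsIntegral R S] [FaithfulSMul R S] (q : ℕ)
    (hq : q = 1 ∨ (q.Prime ∧ (q : R) = 0))
    (hpow : ∀ s : S, ∃ (n : ℕ) (r : R), s ^ (q ^ n) = algebraMap R S r) :
    FlatMor.IsUnivHomeo (Spec.map (CommRingCat.ofHom (algebraMap R S))) := by
  have h1 : IsIntegralHom (Spec.map (CommRingCat.ofHom (algebraMap R S))) := by
    rw [IsIntegralHom.SpecMap_iff]
    exact algebraMap_isIntegral_iff.mpr inferInstance
  have h2 : UniversallyInjective (Spec.map (CommRingCat.ofHom (algebraMap R S))) := by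
    refine ((tfae_universallyInjective _).out 0 1).2 ?_
    intro F _ g₁ g₂ hg
    obtain ⟨φ₁, rfl⟩ := Spec.map_surjective g₁
    obtain ⟨φ₂, rfl⟩ := Spec.map_surjective g₂
    dsimp only at hg
    rw [← Spec.map_comp, ← Spec.map_comp] at hg
    have := Spec.map_injective hg
    have h3 : φ₁.hom.comp (algebraMap R S) = φ₂.hom.comp (algebraMap R S) := by
      have := congrArg CommRingCat.Hom.hom this
      simpa using this
    congr 1
    refine CommRingCat.hom_ext (RingHom.ext fun s => ?_)
    obtain ⟨n, r, hr⟩ := hpow s
    have h4 : φ₁.hom s ^ (q ^ n) = φ₂.hom s ^ (q ^ n) := by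
      rw [← map_pow, ← map_pow, hr]
      exact congrArg (fun ψ : R →+* F => ψ r) h3
    rcases hq with rfl | ⟨hprime, hzero⟩
    · simpa using h4
    · have hF : (q : F) = 0 := by
        have : (q : F) = (φ₁.hom.comp (algebraMap R S)) (q : R) := by simp
        rw [this, hzero, map_zero]
      have : CharP F q := (CharP.charP_iff_prime_eq_zero hprime).2 hF
      have : ExpChar F q := ExpChar.prime hprime
      exact iterateFrobenius_inj F q n h4
  have h3 : Surjective (Spec.map (CommRingCat.ofHom (algebraMap R S))) := by
    refine ⟨fun x => ?_⟩
    obtain ⟨y, hy⟩ := Algebra.IsIntegral.comap_surjective R S x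
    exact ⟨y, hy⟩
  exact Groth.Agent.S4622.isUnivHomeo_of_integral _

end Helpers

/-- Let R ⊆ S be a finite extension of discrete valuation rings (the structure map R → S is injective
and S is a finite R-module) such that the induced extension K ⊆ L of fraction fields is purely
inseparable. Then the morphism Spec S → Spec R is a universal homeomorphism: every base change of it
is a homeomorphism on underlying spaces. (No excellence hypothesis is needed here.) -/
theorem result
    (R S K L : Type u) [CommRing R] [IsDomain R] [IsDiscreteValuationRing R]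
    [CommRing S] [IsDomain S] [IsDiscreteValuationRing S] [Algebra R S] [Module.Finite R S] [FaithfulSMul R S]
    [Field K] [Field L] [Algebra R K] [IsFractionRing R K] [Algebra S L] [IsFractionRing S L]
    [Algebra K L] [Algebra R L] [IsScalarTower R S L] [IsScalarTower R K L] [IsPurelyInseparable K L] :
    FlatMor.IsUnivHomeo (Spec.map (CommRingCat.ofHom (algebraMap R S))) := by
  have hint : Algebra.IsIntegral R S := inferInstance
  have hexp : ExpChar K (ringExpChar K) := inferInstance
  refine isUnivHomeo_of_pow_mem (ringExpChar K) ?_ ?_
  · generalize ringExpChar K = q at hexp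
    cases hexp with
    | zero => exact Or.inl rfl
    | prime hprime =>
      refine Or.inr ⟨hprime, ?_⟩
      apply IsFractionRing.injective R K
      rw [map_natCast, map_zero]
      exact CharP.cast_eq_zero K q
  · intro s
    obtain ⟨n, y, hy⟩ := IsPurelyInseparable.pow_mem K (ringExpChar K) (algebraMap S L s)
    have h1 : IsIntegral R (s ^ (ringExpChar K) ^ n) := Algebra.IsIntegral.isIntegral _
    have h2 : IsIntegral R (algebraMap S L (s ^ (ringExpChar K) ^ n)) :=
      h1.map (IsScalarTower.toAlgHom R S L)
    have h3 : IsIntegral R (algebraMap K L y) := by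
      rw [hy, ← map_pow]; exact h2
    have h4 : IsIntegral R y := (isIntegral_algebraMap_iff (algebraMap K L).injective).1 h3
    obtain ⟨r, hr⟩ := IsIntegrallyClosed.isIntegral_iff.1 h4
    refine ⟨n, r, ?_⟩
    apply IsFractionRing.injective S L
    rw [map_pow, ← hy, ← hr, ← IsScalarTower.algebraMap_apply R K L,
      ← IsScalarTower.algebraMap_apply R S L]

end Groth.Agent.S17689
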