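import Groth.Statements.S17690
import Mathlib
import Groth.Agent.S2654
import Groth.Agent.Lib.Helper24.NagFT2
import Groth.Agent.Lib.Helper13.PIns2

set_option autoImplicit false
set_option linter.style.haveILetI false
universe u
open Neron

namespace Groth.Agent.S17690

/-- Let R be an excellent discrete valuation ring (Noetherian, universally catenary, G-ring, J-2) with
fraction field K, and let L be a finite purely inseparable field extension of K. Then the integral
closure S of R in L is a discrete valuation ring, and S is a finite R-module. -/
theorem result
    (R K L : Type u) [CommRing R] [IsDomain R] [IsDiscreteValuationRing R] (hR : EGA4.IsExcellent R)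
    [Field K] [Algebra R K] [IsFractionRing R K] [Field L] [Algebra K L] [FiniteDimensional K L]
    [IsPurelyInseparable K L] [Algebra R L] [IsScalarTower R K L] :
    IsDiscreteValuationRing ↥(integralClosure R L) ∧ Module.Finite R ↥(integralClosure R L) := by
  classical
  have hNag : CAlg.IsNagata R := Groth.Agent.S2654.result R ⟨hR.1, hR.2.2.1, hR.2.2.2⟩
  have hN2 : CAlg.IsN2 R := Groth.Agent.Lib.Helper24.NagFT.isN2_of_isNagata hNag
  have hfin : Module.Finite R (integralClosure R L) :=
    Groth.Agent.Lib.helper13.PIns.IsN2.finite_integralClosure hN2 K L
  refine ⟨?_, hfin⟩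
  haveI := hfin
  haveI : IsNoetherianRing (integralClosure R L) :=
    IsNoetherianRing.of_finite R (integralClosure R L)
  haveI : IsIntegrallyClosed (integralClosure R L) :=
    integralClosure.isIntegrallyClosedOfFiniteExtension K
  haveI : Ring.DimensionLEOne (integralClosure R L) := inferInstance
  haveI : IsDedekindDomain (integralClosure R L) := { }
  -- exponential characteristic
  obtain ⟨q, hq⟩ := ExpChar.exists K
  haveI := hq
  haveI : ExpChar L q := expChar_of_injective_algebraMap (algebraMap K L).injective q
  haveI : ExpChar (integralClosure R L) q :=
    RingHom.expChar (algebraMap (integralClosure R L) L) Subtype.val_injective q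
  have hq0 : ∀ n : ℕ, q ^ n ≠ 0 := fun n => pow_ne_zero n (expChar_pos K q).ne'
  have hkey : ∀ x : integralClosure R L, ∃ (n : ℕ) (r : R),
      x ^ q ^ n = algebraMap R (integralClosure R L) r := by
    intro x
    obtain ⟨n, k, hk⟩ := IsPurelyInseparable.pow_mem K q (x : L)
    have hint : IsIntegral R (algebraMap K L k) := by
      rw [hk]
      exact x.2.pow _
    have hintk : IsIntegral R k :=
      (isIntegral_algebraMap_iff (algebraMap K L).injective).1 hint
    obtain ⟨r, hr⟩ := IsIntegrallyClosed.isIntegral_iff.1 hintk
    refine ⟨n, r, Subtype.ext ?_⟩
    show ((x : L)) ^ q ^ n = algebraMap R L r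
    rw [← hk, ← hr, ← IsScalarTower.algebraMap_apply]
  haveI : IsLocalRing (integralClosure R L) := by
    refine IsLocalRing.of_isUnit_or_isUnit_one_sub_self fun x => ?_
    obtain ⟨n, r, hr⟩ := hkey x
    by_cases hu : IsUnit r
    · left
      have : IsUnit (x ^ q ^ n) := by
        rw [hr]
        exact hu.map _
      exact (isUnit_pow_iff (hq0 n)).1 this
    · right
      have hu' : IsUnit (1 - r) := (IsLocalRing.isUnit_or_isUnit_one_sub_self r).resolve_left hu
      have : IsUnit ((1 - x) ^ q ^ n) := by
        rw [sub_pow_expChar_pow, one_pow, hr, ← map_one (algebraMap R (integralClosure R L)),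
          ← map_sub]
        exact hu'.map _
      exact (isUnit_pow_iff (hq0 n)).1 this
  have hinj : Function.Injective (algebraMap R (integralClosure R L)) := by
    intro a b hab
    have h1 : algebraMap R L a = algebraMap R L b := congrArg Subtype.val hab
    rw [IsScalarTower.algebraMap_apply R K L, IsScalarTower.algebraMap_apply R K L] at h1
    exact IsFractionRing.injective R K ((algebraMap K L).injective h1)
  have hnf : ¬ IsField (integralClosure R L) := fun h =>
    IsDiscreteValuationRing.not_isField R
      (isField_of_isIntegral_of_isField (R := R) (S := integralClosure R L) hinj h)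
  have hD : IsDedekindDomain (integralClosure R L) := inferInstance
  exact ((IsDiscreteValuationRing.TFAE (integralClosure R L) hnf).out 0 2).2 hD

end Groth.Agent.S17690
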