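import Groth.Statements.S4700
import Groth.Agent.Lib.Helper24.NagataReg
import Groth.Agent.Lib.Helper24.NagataCrit
-- import your own Groth.Agent.* helpers here

set_option autoImplicit false
universe u
open EGA4

namespace Groth.Agent.S4700

/-- Nagata's criterion: reduction to quotient domains. -/
theorem main (A : Type u) [CommRing A] [IsNoetherianRing A]
    (h : ∀ p : PrimeSpectrum A, p ∈ EGA4.regLocus A →
      ∃ U : Set (PrimeSpectrum (A ⧸ p.asIdeal)), IsOpen U ∧ U.Nonempty ∧
        U ⊆ EGA4.regLocus (A ⧸ p.asIdeal)) :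
    IsOpen (EGA4.regLocus A) := by
  refine Groth.Agent.Lib.Helper24.NagataCrit.isOpen_of_nagata (EGA4.regLocus A)
    (Groth.Agent.Lib.Helper24.NagataCrit.stableUnderGeneralization_regLocus A) ?_
  intro p hp
  obtain ⟨U', hU'open, hU'ne, hU'sub⟩ := h p hp
  haveI hpreg : IsRegularLocalRing (Localization.AtPrime p.asIdeal) := hp
  obtain ⟨f, hfp, hf⟩ := Groth.Agent.Lib.Helper24.NagataReg.exists_notMem_regular A p.asIdeal
  let c : PrimeSpectrum (A ⧸ p.asIdeal) → PrimeSpectrum A :=
    PrimeSpectrum.comap (Ideal.Quotient.mk p.asIdeal)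
  have hemb : Topology.IsClosedEmbedding c :=
    PrimeSpectrum.isClosedEmbedding_comap_of_surjective _ _ Ideal.Quotient.mk_surjective
  have hrange : Set.range c = PrimeSpectrum.zeroLocus (p.asIdeal : Set A) := by
    have := _root_.range_comap_of_surjective _ (Ideal.Quotient.mk p.asIdeal)
      Ideal.Quotient.mk_surjective
    rw [Ideal.mk_ker] at this
    exact this
  obtain ⟨W, hWopen, hW⟩ := hemb.isInducing.isOpen_iff.1 hU'open
  refine ⟨W ∩ (PrimeSpectrum.basicOpen f : Set (PrimeSpectrum A)),
    hWopen.inter (PrimeSpectrum.basicOpen f).isOpen, ?_, ?_⟩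
  · -- nonempty: contains p
    refine ⟨p, ⟨?_, hfp⟩, subset_closure rfl⟩
    -- generic point of Spec (A/p)
    let y0 : PrimeSpectrum (A ⧸ p.asIdeal) := ⟨⊥, Ideal.isPrime_bot⟩
    obtain ⟨y, hy⟩ := hU'ne
    have hspec : y0 ⤳ y := by
      rw [← PrimeSpectrum.le_iff_specializes]
      exact bot_le (a := y.asIdeal)
    have hy0 : y0 ∈ U' := hspec.mem_open hU'open hy
    have hc : c y0 = p := by
      apply PrimeSpectrum.ext
      show Ideal.comap (Ideal.Quotient.mk p.asIdeal) ⊥ = p.asIdeal
      rw [← RingHom.ker_eq_comap_bot, Ideal.mk_ker]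
    rw [← hW] at hy0
    rw [← hc]
    exact hy0
  · rintro x ⟨⟨hxW, hxf⟩, hxcl⟩
    rw [PrimeSpectrum.closure_singleton, ← hrange] at hxcl
    obtain ⟨y, rfl⟩ := hxcl
    have hy : y ∈ U' := by rw [← hW]; exact hxW
    have hyreg : IsRegularLocalRing (Localization.AtPrime y.asIdeal) := hU'sub hy
    exact hf y.asIdeal hxf hyreg


/-- Let A be a Noetherian ring. Suppose that for every prime p of A such that A_p is regular, the
regular locus of the domain A/p contains a nonempty open subset of Spec(A/p) (equivalently, is a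
neighbourhood of the generic point). Then the regular locus of A is open in Spec A. -/
theorem result (A : Type u) [CommRing A] [IsNoetherianRing A]
    (h : ∀ p : PrimeSpectrum A, p ∈ EGA4.regLocus A →
      ∃ U : Set (PrimeSpectrum (A ⧸ p.asIdeal)), IsOpen U ∧ U.Nonempty ∧ U ⊆ EGA4.regLocus (A ⧸ p.asIdeal)) :
    IsOpen (EGA4.regLocus A) := by
  exact main A h

end Groth.Agent.S4700
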