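import Groth.Statements.S17703
import Mathlib
import Groth.Agent.Lib.Helper24.DedekindExc
import Groth.Agent.Lib.Helper24.CplRegIso
import Groth.Agent.Lib.Helper24.GeomReducedFinite
import Groth.Agent.Lib.Helper24.FormalFibreDescent
import Groth.Agent.S2653
import Groth.Agent.S2620
import Groth.Agent.S0549

set_option autoImplicit false
set_option linter.style.haveILetI false
universe u
open Neron

namespace Groth.Agent.S17703

open IsLocalRing TensorProduct

/-- A reduced Artinian ring is a regular ring. -/
theorem isRegularRing_of_artinian_reduced (T : Type u) [CommRing T] [IsArtinianRing T]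
    [IsReduced T] : IsRegularRing T := by
  haveI : IsNoetherianRing T := inferInstance
  rw [isRegularRing_iff]
  intro p hp
  haveI : IsArtinianRing (Localization.AtPrime p) := inferInstance
  haveI : IsReduced (Localization.AtPrime p) := inferInstance
  have hf : IsField (Localization.AtPrime p) :=
    IsArtinianRing.isField_of_isReduced_of_isLocalRing _
  letI := hf.toField
  infer_instance

/-- The generic formal fibre of a discrete valuation ring is an Artinian ring. -/
theorem isArtinianRing_fiber_bot (R : Type u) [CommRing R] [IsDomain R]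
    [IsDiscreteValuationRing R] :
    IsArtinianRing ((⊥ : Ideal R).Fiber (AdicCompletion (maximalIdeal R) R)) := by
  haveI hNc : IsNoetherianRing (AdicCompletion (maximalIdeal R) R) :=
    Groth.Agent.S0542.result R (maximalIdeal R) (IsNoetherian.noetherian _)
  haveI hF : IsNoetherianRing ((⊥ : Ideal R).Fiber (AdicCompletion (maximalIdeal R) R)) :=
    Groth.Agent.Lib.Helper24.HensFibre.isNoetherianRing_fibre R _ ⊥
  obtain ⟨hdom, hdvr⟩ := (Groth.Agent.S0549.result R).1 ⟨inferInstance, inferInstance⟩
  haveI := hdom
  haveI := hdvr
  -- only the zero ideal of the completion lies over the zero ideal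
  have hsub : Subsingleton ((⊥ : Ideal R).primesOver (AdicCompletion (maximalIdeal R) R)) := by
    have hkey : ∀ Q : (⊥ : Ideal R).primesOver (AdicCompletion (maximalIdeal R) R),
        Q.1 = ⊥ := by
      rintro ⟨Q, hQp, hQo⟩
      by_contra hne
      haveI := hQp
      have hmax : Q.IsMaximal := hQp.isMaximal hne
      have hQm : Q = maximalIdeal (AdicCompletion (maximalIdeal R) R) :=
        IsLocalRing.eq_maximalIdeal hmax
      have h1 : Q.under R = maximalIdeal R := by
        rw [hQm]
        exact IsLocalRing.maximalIdeal_comap (algebraMap R (AdicCompletion (maximalIdeal R) R))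
      have h2 : Q.under R = ⊥ := hQo.over.symm
      have h3 : maximalIdeal R = ⊥ := h1.symm.trans h2
      exact IsDiscreteValuationRing.not_isField R (IsLocalRing.isField_iff_maximalIdeal_eq.2 h3)
    refine ⟨fun a b => Subtype.ext ?_⟩
    rw [hkey a, hkey b]
  haveI hsubF : Subsingleton
      (PrimeSpectrum ((⊥ : Ideal R).Fiber (AdicCompletion (maximalIdeal R) R))) :=
    (PrimeSpectrum.primesOverOrderIsoFiber R (AdicCompletion (maximalIdeal R) R)
      (⊥ : Ideal R)).symm.toEquiv.subsingleton
  rw [isArtinianRing_iff_isNoetherianRing_krullDimLE_zero]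
  refine ⟨hF, ?_⟩
  rw [Ring.krullDimLE_zero_iff]
  intro I hI
  obtain ⟨M, hM, hIM⟩ := Ideal.exists_le_maximal I hI.ne_top
  have : (⟨I, hI⟩ : PrimeSpectrum _) = ⟨M, hM.isPrime⟩ := Subsingleton.elim _ _
  have hIM' : I = M := congrArg PrimeSpectrum.asIdeal this
  exact hIM' ▸ hM

/-- A geometrically reduced Artinian algebra over a field is geometrically regular. -/
theorem isGeometricallyRegular_of_artinian (k F : Type u) [Field k] [CommRing F] [Algebra k F]
    [IsArtinianRing F] [Algebra.IsGeometricallyReduced k F] :
    CAlg.IsGeometricallyRegular k F := by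
  intro k' _ _ hfin
  haveI := hfin
  haveI : IsReduced (k' ⊗[k] F) := inferInstance
  haveI : Module.Finite F (F ⊗[k] k') := Module.Finite.base_change k F k'
  haveI : IsArtinianRing (F ⊗[k] k') := IsArtinianRing.of_finite F (F ⊗[k] k')
  haveI : IsArtinianRing (k' ⊗[k] F) :=
    (Algebra.TensorProduct.comm k F k').toRingEquiv.isArtinianRing
  exact isRegularRing_of_artinian_reduced _

/-- Let R be a discrete valuation ring with fraction field K, R̂ its completion and K̂ = Frac R̂. Then R
is excellent (Noetherian, universally catenary, G-ring and J-2) if and only if K̂ is geometrically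
reduced over K, i.e. K ⊆ K̂ is separable; here K̂ is written as the generic formal fibre κ(0) ⊗_R R̂
of R, which is R̂ with the uniformizer inverted. -/
theorem result
    (R : Type u) [CommRing R] [IsDomain R] [IsDiscreteValuationRing R] :
    EGA4.IsExcellent R ↔
      Algebra.IsGeometricallyReduced (⊥ : Ideal R).ResidueField (EGA4.formalFibre R (⊥ : Ideal R)) := by
  classical
  haveI hNc : IsNoetherianRing (AdicCompletion (maximalIdeal R) R) :=
    Groth.Agent.S0542.result R (maximalIdeal R) (IsNoetherian.noetherian _)
  have hunits : (maximalIdeal R).primeCompl ≤ IsUnit.submonoid R :=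
    fun x ↦ by simpa using! fun a ↦ a
  let e : R ≃ₐ[R] Localization.AtPrime (maximalIdeal R) :=
    IsLocalization.atUnits R (maximalIdeal R).primeCompl hunits
  constructor
  · rintro ⟨-, -, hG, -⟩
    have h1 := hG.2 (maximalIdeal R)
    haveI : IsNoetherianRing (Localization.AtPrime (maximalIdeal R)) := inferInstance
    have h2 : CAlg.IsRegularHom R (AdicCompletion (maximalIdeal R) R) :=
      Groth.Agent.Lib.Helper24.CplRegIso.isRegularHom_cpl_of_ringEquiv e.toRingEquiv.symm h1
    have h3 := (h2.2 (⊥ : Ideal R)).2
    apply Groth.Agent.Lib.Helper24.GeomReducedFinite.isGeometricallyReduced_of_forall_finite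
    intro K _ _ hfin
    haveI := h3 K hfin
    exact Groth.Agent.Lib.Helper24.FormalFibreDescent.isReduced_of_isRegularRing _
  · intro hgr
    haveI : Algebra.IsGeometricallyReduced (⊥ : Ideal R).ResidueField
        ((⊥ : Ideal R).Fiber (AdicCompletion (maximalIdeal R) R)) := hgr
    haveI := isArtinianRing_fiber_bot R
    -- the completion map of `R` is regular
    have hprime : ∀ q : Ideal R, q.IsPrime → q ≠ ⊥ → q = maximalIdeal R := by
      intro q hq h0
      haveI : q.IsMaximal := hq.isMaximal h0
      exact IsLocalRing.eq_maximalIdeal inferInstance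
    have hRH : CAlg.IsRegularHom R (AdicCompletion (maximalIdeal R) R) := by
      refine ⟨inferInstance, fun q hq => ?_⟩
      haveI hF : IsNoetherianRing (q.Fiber (AdicCompletion (maximalIdeal R) R)) :=
        Groth.Agent.Lib.Helper24.HensFibre.isNoetherianRing_fibre R _ q
      refine ⟨hF, ?_⟩
      by_cases h0 : q = ⊥
      · subst h0
        exact isGeometricallyRegular_of_artinian _ _
      · have h1 := hprime q hq h0
        subst h1
        exact Groth.Agent.Lib.Helper24.DedekindExc.isGeometricallyRegular_closedFibre R
    refine ⟨inferInstance, Groth.Agent.S2653.isUniversallyCatenary R, ⟨inferInstance, ?_⟩, ?_⟩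
    · intro p hp
      by_cases h0 : p = ⊥
      · subst h0
        -- the local ring at the zero ideal has zero maximal ideal
        have hm : maximalIdeal (Localization.AtPrime (⊥ : Ideal R)) = ⊥ := by
          rw [← Localization.AtPrime.map_eq_maximalIdeal, Ideal.map_bot]
        haveI hNc' : IsNoetherianRing (AdicCompletion
            (maximalIdeal (Localization.AtPrime (⊥ : Ideal R))) (Localization.AtPrime (⊥ : Ideal R))) :=
          Groth.Agent.S0542.result _ _ (IsNoetherian.noetherian _)
        refine ⟨inferInstance, fun q hq => ?_⟩
        haveI hF : IsNoetherianRing (q.Fiber (AdicCompletion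
            (maximalIdeal (Localization.AtPrime (⊥ : Ideal R))) (Localization.AtPrime (⊥ : Ideal R)))) :=
          Groth.Agent.Lib.Helper24.HensFibre.isNoetherianRing_fibre _ _ q
        refine ⟨hF, ?_⟩
        have hq' : q = maximalIdeal (Localization.AtPrime (⊥ : Ideal R)) := by
          rw [hm]
          exact le_bot_iff.1 (hm ▸ IsLocalRing.le_maximalIdeal hq.ne_top)
        subst hq'
        exact Groth.Agent.Lib.Helper24.DedekindExc.isGeometricallyRegular_closedFibre _
      · have h1 := hprime p hp h0
        subst h1
        exact Groth.Agent.Lib.Helper24.CplRegIso.isRegularHom_cpl_of_ringEquiv e.toRingEquiv hRH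
    · apply Groth.Agent.S2620.result R
      · have : {I : Ideal R | I.IsMaximal} = {maximalIdeal R} := by
          ext I
          simp only [Set.mem_ofPred_eq, Set.mem_singleton_iff]
          exact ⟨fun h => IsLocalRing.eq_maximalIdeal h, fun h => h ▸ inferInstance⟩
        rw [this]
        exact Set.finite_singleton _
      · exact (IsPrincipalIdealRing.ringKrullDim_eq_one R
          (IsDiscreteValuationRing.not_isField R)).le

end Groth.Agent.S17703
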