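import Groth.Statements.S17713
import Mathlib.NumberTheory.Bernoulli
import Mathlib.RingTheory.PowerSeries.Inverse
import Mathlib.RingTheory.PowerSeries.Exp
import Mathlib.Tactic.Ring
import Mathlib.Tactic.Linarith
import Mathlib.Tactic.NormNum

set_option autoImplicit false
open MoretBailly

namespace Groth.Agent.S17713

open PowerSeries in
/-- `B'(-x) e^x = B'(x)`. -/
theorem key : rescale (-1 : ℚ) (bernoulli'PowerSeries ℚ) * exp ℚ = bernoulli'PowerSeries ℚ := by
  set B := bernoulli'PowerSeries ℚ with hB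
  set E := exp ℚ with hE
  have h1 : B * (E - 1) = X * E := bernoulli'PowerSeries_mul_exp_sub_one ℚ
  have hEE : E * rescale (-1 : ℚ) E = 1 := exp_mul_exp_neg_eq_one
  have h2 : rescale (-1 : ℚ) B * (rescale (-1 : ℚ) E - 1) = -X * rescale (-1 : ℚ) E := by
    have := congrArg (rescale (-1 : ℚ)) h1
    rw [map_mul, map_mul, map_sub, map_one, rescale_neg_one_X] at this
    exact this
  have h3 : rescale (-1 : ℚ) B * (E - 1) = X := by
    have h4 : rescale (-1 : ℚ) B * (E - 1) =
        -(rescale (-1 : ℚ) B * (rescale (-1 : ℚ) E - 1)) * E := by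
      have : rescale (-1 : ℚ) B * (E - 1) = rescale (-1 : ℚ) B * (E - E * rescale (-1 : ℚ) E) := by
        rw [hEE]
      rw [this]; ring
    rw [h4, h2]
    have : -(-X * rescale (-1 : ℚ) E) * E = X * (E * rescale (-1 : ℚ) E) := by ring
    rw [this, hEE, mul_one]
  have hne : E - 1 ≠ 0 := by
    intro h
    have := congrArg (coeff 1) h
    simp [hE] at this
  have h5 : (rescale (-1 : ℚ) B * E) * (E - 1) = B * (E - 1) := by
    rw [h1, mul_right_comm, h3]
  exact mul_right_cancel₀ hne h5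

open PowerSeries in
theorem key_u (u : ℚ) : rescale (-u) (bernoulli'PowerSeries ℚ) * rescale u (exp ℚ) =
    rescale u (bernoulli'PowerSeries ℚ) := by
  have := congrArg (rescale u) key
  rw [map_mul, rescale_rescale] at this
  simpa using this

open PowerSeries in
theorem prod_eq (A C : ℚ⟦X⟧) (u c : ℚ) :
    A * rescale (-u) (bernoulli'PowerSeries ℚ) * C * rescale (u + c) (exp ℚ) =
      rescale u (bernoulli'PowerSeries ℚ) * (A * C * rescale c (exp ℚ)) := by
  rw [← exp_mul_exp_eq_exp_add, ← key_u u]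
  ring

open PowerSeries in
theorem coeff_prod_eq (Q : ℚ⟦X⟧) (u : ℚ) (n : ℕ) :
    coeff n (rescale u (bernoulli'PowerSeries ℚ) * Q) =
      ∑ j ∈ Finset.range (n + 1), u ^ j * (bernoulli' j / (j.factorial : ℚ)) * coeff (n - j) Q := by
  rw [coeff_mul]
  rw [Finset.Nat.sum_antidiagonal_eq_sum_range_succ
    (fun i j => coeff i (rescale u (bernoulli'PowerSeries ℚ)) * coeff j Q)]
  refine Finset.sum_congr rfl fun j _ => ?_
  rw [coeff_rescale, bernoulli'PowerSeries, coeff_mk]
  simp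

open PowerSeries in
theorem c0mul (f g : ℚ⟦X⟧) :
    coeff 0 (f * g) = coeff 0 f * coeff 0 g := by
  rw [PowerSeries.coeff_mul]
  simp

open PowerSeries in
theorem c1mul (f g : ℚ⟦X⟧) :
    coeff 1 (f * g) = coeff 0 f * coeff 1 g + coeff 1 f * coeff 0 g := by
  rw [PowerSeries.coeff_mul]
  simp [Finset.Nat.antidiagonal_succ]

open PowerSeries in
theorem B0 : coeff 0 (bernoulli'PowerSeries ℚ) = 1 := by
  simp [bernoulli'PowerSeries]

open PowerSeries in
theorem B1 : coeff 1 (bernoulli'PowerSeries ℚ) = 1 / 2 := by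
  simp [bernoulli'PowerSeries]

open PowerSeries in
theorem Q01 (n d : ℕ) (c : ℚ) :
    coeff 0 ((rescale (-(d : ℚ)) (bernoulli'PowerSeries ℚ))⁻¹ * bernoulli'PowerSeries ℚ ^ (n + 1) *
      rescale c (exp ℚ)) = 1 ∧
    coeff 1 ((rescale (-(d : ℚ)) (bernoulli'PowerSeries ℚ))⁻¹ * bernoulli'PowerSeries ℚ ^ (n + 1) *
      rescale c (exp ℚ)) = (d : ℚ) / 2 + ((n : ℚ) + 1) / 2 + c := by
  set B := bernoulli'PowerSeries ℚ with hB
  set f := rescale (-(d : ℚ)) B with hf
  have hf0 : coeff 0 f = 1 := by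
    rw [hf, coeff_rescale, B0]; simp
  have hf1 : coeff 1 f = -(d : ℚ) / 2 := by
    rw [hf, coeff_rescale, B1]; ring
  have hfc : constantCoeff f ≠ 0 := by
    rw [← coeff_zero_eq_constantCoeff_apply, hf0]; exact one_ne_zero
  have hinv : f * f⁻¹ = 1 := PowerSeries.mul_inv_cancel f hfc
  have hi0 : coeff 0 f⁻¹ = 1 := by
    have := congrArg (coeff 0) hinv
    rw [c0mul, hf0, one_mul] at this
    simpa using this
  have hi1 : coeff 1 f⁻¹ = (d : ℚ) / 2 := by
    have := congrArg (coeff 1) hinv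
    rw [c1mul, hf0, hf1, hi0] at this
    simp at this
    linarith
  have hBc : constantCoeff B = 1 := by
    rw [← coeff_zero_eq_constantCoeff_apply]; exact B0
  have hb0 : coeff 0 (B ^ (n + 1)) = 1 := by
    rw [coeff_zero_eq_constantCoeff_apply, map_pow, hBc, one_pow]
  have hb1 : coeff 1 (B ^ (n + 1)) = ((n : ℚ) + 1) / 2 := by
    rw [coeff_one_pow, hBc, one_pow, mul_one]
    have : coeff 1 B = 1 / 2 := B1
    rw [this]; push_cast; ring
  have he0 : coeff 0 (rescale c (exp ℚ)) = 1 := by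
    rw [coeff_rescale]; simp
  have he1 : coeff 1 (rescale c (exp ℚ)) = c := by
    rw [coeff_rescale]; simp
  refine ⟨?_, ?_⟩
  · simp only [c0mul, hi0, hb0, he0]; norm_num
  · simp only [c0mul, c1mul, hi0, hi1, hb0, hb1, he0, he1]; ring



/-- Let n ≥ 2 and d ≥ 1 be natural numbers and s an integer, and write B(x) = x/(1 - e^(-x)) for the
exponential generating series of the Bernoulli numbers B'_i (convention B'_1 = 1/2). For a natural
number p consider the product B(-dx)^(-1) B(-dpx) B(x)^(n+1) e^((dp-d-n-1+s)x) in ℚ[[x]] (the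
Todd-class integrand of a Hirzebruch–Riemann–Roch computation) and let λ_n(p) be its coefficient of
x^n. Then λ_n(p) is a polynomial in p whose two top terms are B'_n (dp)^n/n! and ((2s-d-n-1)/2)
B'_(n-1) (dp)^(n-1)/(n-1)!: there is a polynomial P over ℚ of degree at most n - 2 with λ_n(p) equal
to the sum of these two terms and P(p), for every p. -/
theorem result (n d : ℕ) (s : ℤ) (hn : 2 ≤ n) (hd : 1 ≤ d) :
    ∃ P : Polynomial ℚ, P.natDegree ≤ n - 2 ∧ ∀ p : ℕ,
      PowerSeries.coeff n ((PowerSeries.rescale (-(d : ℚ)) (bernoulli'PowerSeries ℚ))⁻¹ * PowerSeries.rescale (-((d : ℚ) * p)) (bernoulli'PowerSeries ℚ) * bernoulli'PowerSeries ℚ ^ (n + 1) * PowerSeries.rescale ((d : ℚ) * p - d - n - 1 + s) (PowerSeries.exp ℚ)) =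
        bernoulli' n * ((d : ℚ) * p) ^ n / (Nat.factorial n : ℚ) +
          (2 * (s : ℚ) - d - n - 1) / 2 * bernoulli' (n - 1) * ((d : ℚ) * p) ^ (n - 1) / (Nat.factorial (n - 1) : ℚ) +
          P.eval (p : ℚ) := by
  obtain ⟨m, rfl⟩ : ∃ m : ℕ, n = m + 2 := ⟨n - 2, by omega⟩
  set c : ℚ := -(d : ℚ) - ((m + 2 : ℕ) : ℚ) - 1 + s with hc
  set Q := (PowerSeries.rescale (-(d : ℚ)) (bernoulli'PowerSeries ℚ))⁻¹ *
      bernoulli'PowerSeries ℚ ^ (m + 2 + 1) * PowerSeries.rescale c (PowerSeries.exp ℚ) with hQ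
  obtain ⟨hQ0, hQ1⟩ := Q01 (m + 2) d c
  rw [← hQ] at hQ0 hQ1
  refine ⟨∑ j ∈ Finset.range (m + 1), Polynomial.C ((d : ℚ) ^ j * (bernoulli' j / (j.factorial : ℚ)) *
      PowerSeries.coeff (m + 2 - j) Q) * Polynomial.X ^ j, ?_, ?_⟩
  · refine Polynomial.natDegree_sum_le_of_forall_le _ _ fun j hj => ?_
    refine (Polynomial.natDegree_C_mul_X_pow_le _ _).trans ?_
    have := Finset.mem_range.1 hj
    omega
  · intro p
    have hexp : (d : ℚ) * p - d - ((m + 2 : ℕ) : ℚ) - 1 + s = (d : ℚ) * p + c := by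
      rw [hc]; ring
    rw [hexp, prod_eq, ← hQ, coeff_prod_eq, Finset.sum_range_succ, Finset.sum_range_succ]
    rw [Nat.sub_self, hQ0, show m + 2 - (m + 1) = 1 by omega, hQ1]
    rw [Polynomial.eval_finsetSum]
    simp only [Polynomial.eval_mul, Polynomial.eval_C, Polynomial.eval_pow, Polynomial.eval_X]
    have hsum : ∑ j ∈ Finset.range (m + 1), ((d : ℚ) * p) ^ j * (bernoulli' j / (j.factorial : ℚ)) *
        PowerSeries.coeff (m + 2 - j) Q = ∑ j ∈ Finset.range (m + 1),
        (d : ℚ) ^ j * (bernoulli' j / (j.factorial : ℚ)) * PowerSeries.coeff (m + 2 - j) Q * (p : ℚ) ^ j := by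
      refine Finset.sum_congr rfl fun j _ => ?_
      rw [mul_pow]; ring
    rw [hsum, show m + 2 - 1 = m + 1 by omega, hc]
    push_cast
    ring

end Groth.Agent.S17713
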