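import Groth.Statements.S17714
import Groth.Agent.S17713
import Mathlib.NumberTheory.ZetaValues
import Mathlib.Analysis.Polynomial.Basic

set_option autoImplicit false
open MoretBailly

namespace Groth.Agent.S17714

open Real in
/-- Sign of the even Bernoulli numbers, from the values of `ζ(2k)`. -/
theorem bernoulli_sign (k : ℕ) (hk : k ≠ 0) : 0 < (-1 : ℚ) ^ (k + 1) * bernoulli (2 * k) := by
  have h := hasSum_zeta_nat hk
  have h1 : (1 : ℝ) ≤ (-1 : ℝ) ^ (k + 1) * (2 : ℝ) ^ (2 * k - 1) * π ^ (2 * k) *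
      bernoulli (2 * k) / ((2 * k).factorial : ℝ) := by
    have := sum_le_hasSum {1} (fun i _ => by positivity) h
    simpa using this
  have hpos : (0 : ℝ) < (2 : ℝ) ^ (2 * k - 1) * π ^ (2 * k) / ((2 * k).factorial : ℝ) := by
    positivity
  have hre : (-1 : ℝ) ^ (k + 1) * (2 : ℝ) ^ (2 * k - 1) * π ^ (2 * k) * bernoulli (2 * k) /
      ((2 * k).factorial : ℝ) = ((-1 : ℝ) ^ (k + 1) * bernoulli (2 * k)) *
      ((2 : ℝ) ^ (2 * k - 1) * π ^ (2 * k) / ((2 * k).factorial : ℝ)) := by ring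
  rw [hre] at h1
  have : (0 : ℝ) < (((-1 : ℚ) ^ (k + 1) * bernoulli (2 * k) : ℚ) : ℝ) := by
    push_cast
    by_contra hcon
    push Not at hcon
    nlinarith
  exact_mod_cast this

theorem bernoulli'_neg_of_four_dvd (t : ℕ) (ht : t ≠ 0) : bernoulli' (4 * t) < 0 := by
  have h := bernoulli_sign (2 * t) (by omega)
  rw [show 2 * (2 * t) = 4 * t by ring, bernoulli_eq_bernoulli'_of_ne_one (by omega),
    show 2 * t + 1 = 2 * t + 1 from rfl, pow_succ, pow_mul] at h
  simp at h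
  linarith

theorem bernoulli'_pos_of_four_dvd_add_two (t : ℕ) : 0 < bernoulli' (4 * t + 2) := by
  have h := bernoulli_sign (2 * t + 1) (by omega)
  rw [show 2 * (2 * t + 1) = 4 * t + 2 by ring, bernoulli_eq_bernoulli'_of_ne_one (by omega),
    show 2 * t + 1 + 1 = 2 * (t + 1) by ring, pow_mul] at h
  simpa using h

open Polynomial in
theorem ev_neg (F : ℚ[X]) (k : ℕ) (hk : 0 < k) (hdeg : F.natDegree ≤ k) (hc : F.coeff k < 0) :
    ∃ N : ℕ, ∀ p : ℕ, N ≤ p → F.eval (p : ℚ) < 0 := by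
  have hnat : F.natDegree = k := natDegree_eq_of_le_of_coeff_ne_zero hdeg hc.ne
  have hlead : F.leadingCoeff ≤ 0 := by
    rw [leadingCoeff, hnat]; exact hc.le
  have hd : 0 < F.degree := by
    rw [← natDegree_pos_iff_degree_pos, hnat]; exact hk
  have ht := tendsto_atBot_of_leadingCoeff_nonpos F hd hlead
  have hev := (Filter.tendsto_atBot.1 ht) (-1)
  obtain ⟨a, ha⟩ := Filter.eventually_atTop.1 hev
  refine ⟨⌈a⌉₊, fun p hp => ?_⟩
  have : a ≤ (p : ℚ) := (Nat.le_ceil a).trans (by exact_mod_cast hp)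
  have := ha _ this
  linarith

open Polynomial in
theorem ev_neg_main (n : ℕ) (hn : 2 ≤ n) (a b : ℚ) (P : ℚ[X]) (hP : P.natDegree ≤ n - 2)
    (h : a < 0 ∨ (a = 0 ∧ b < 0)) :
    ∃ N : ℕ, ∀ p : ℕ, N ≤ p → a * (p : ℚ) ^ n + b * (p : ℚ) ^ (n - 1) + P.eval (p : ℚ) < 0 := by
  obtain ⟨m, rfl⟩ : ∃ m : ℕ, n = m + 2 := ⟨n - 2, by omega⟩
  simp only [show m + 2 - 2 = m by omega, show m + 2 - 1 = m + 1 by omega] at hP ⊢
  have hev : ∀ p : ℕ, a * (p : ℚ) ^ (m + 2) + b * (p : ℚ) ^ (m + 1) + P.eval (p : ℚ) =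
      (C a * X ^ (m + 2) + C b * X ^ (m + 1) + P).eval (p : ℚ) := by
    intro p; simp
  simp only [hev]
  have hPc1 : P.coeff (m + 1) = 0 := coeff_eq_zero_of_natDegree_lt (by omega)
  have hPc2 : P.coeff (m + 2) = 0 := coeff_eq_zero_of_natDegree_lt (by omega)
  rcases h with ha | ⟨ha, hb⟩
  · apply ev_neg _ (m + 2) (by omega)
    · refine natDegree_add_le_of_degree_le (natDegree_add_le_of_degree_le
        (natDegree_C_mul_X_pow_le _ _) ((natDegree_C_mul_X_pow_le _ _).trans (by omega)))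
        (hP.trans (by omega))
    · simp [hPc2, coeff_X_pow]
      exact ha
  · subst ha
    apply ev_neg _ (m + 1) (by omega)
    · simp only [map_zero, zero_mul, zero_add]
      exact natDegree_add_le_of_degree_le (natDegree_C_mul_X_pow_le _ _) (hP.trans (by omega))
    · simp [hPc1, coeff_X_pow]
      exact hb



/-- Let n ≥ 2 and d ≥ 1 be natural numbers with n congruent to 0 or 1 modulo 4, and s an integer with 2s
> n + d + 1. Write B(x) = x/(1 - e^(-x)) for the exponential generating series of the Bernoulli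
numbers (B'_1 = 1/2). Then for all sufficiently large natural numbers p the coefficient of x^n in
B(-dx)^(-1) B(-dpx) B(x)^(n+1) e^((dp-d-n-1+s)x) is strictly negative. (The published statement
asserts this for every n ≥ 2 not congruent to 2 modulo 4. For n congruent to 3 modulo 4 the
coefficient is a polynomial in p of degree n - 1 with leading coefficient (2s-d-n-1) B'_(n-1)
d^(n-1)/(2 (n-1)!) > 0, so it is eventually positive: for n = 3, d = 1, s = 3 it equals (p^2 -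
1)/24. The residues 0 and 1 are exactly the ones the leading-term argument gives.) -/
theorem result (n d : ℕ) (s : ℤ) (hn : 2 ≤ n)
    (hmod : n % 4 = 0 ∨ n % 4 = 1) (hd : 1 ≤ d) (hs : (n : ℤ) + d + 1 < 2 * s) :
    ∃ P : ℕ, ∀ p : ℕ, P ≤ p →
      PowerSeries.coeff n ((PowerSeries.rescale (-(d : ℚ)) (bernoulli'PowerSeries ℚ))⁻¹ * PowerSeries.rescale (-((d : ℚ) * p)) (bernoulli'PowerSeries ℚ) * bernoulli'PowerSeries ℚ ^ (n + 1) * PowerSeries.rescale ((d : ℚ) * p - d - n - 1 + s) (PowerSeries.exp ℚ)) < 0 := by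
  obtain ⟨P, hdeg, hP⟩ := Groth.Agent.S17713.result n d s hn hd
  have hdpos : (0 : ℚ) < d := by exact_mod_cast hd
  have hspos : (0 : ℚ) < 2 * (s : ℚ) - d - n - 1 := by
    have : ((n : ℤ) : ℚ) + d + 1 < 2 * s := by exact_mod_cast hs
    push_cast at this
    linarith
  have key : ∃ N : ℕ, ∀ p : ℕ, N ≤ p →
      (bernoulli' n * (d : ℚ) ^ n / (n.factorial : ℚ)) * (p : ℚ) ^ n +
      ((2 * (s : ℚ) - d - n - 1) / 2 * bernoulli' (n - 1) * (d : ℚ) ^ (n - 1) /
        ((n - 1).factorial : ℚ)) * (p : ℚ) ^ (n - 1) + P.eval (p : ℚ) < 0 := by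
    apply ev_neg_main n hn _ _ P hdeg
    rcases hmod with h0 | h1
    · left
      obtain ⟨t, rfl⟩ : ∃ t : ℕ, n = 4 * t := ⟨n / 4, by omega⟩
      have hb := bernoulli'_neg_of_four_dvd t (by omega)
      have : (0 : ℚ) < (d : ℚ) ^ (4 * t) / ((4 * t).factorial : ℚ) := by positivity
      have h2 : bernoulli' (4 * t) * (d : ℚ) ^ (4 * t) / ((4 * t).factorial : ℚ) =
          bernoulli' (4 * t) * ((d : ℚ) ^ (4 * t) / ((4 * t).factorial : ℚ)) := by ring
      rw [h2]
      exact mul_neg_of_neg_of_pos hb this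
    · right
      obtain ⟨t, rfl⟩ : ∃ t : ℕ, n = 4 * t + 1 := ⟨n / 4, by omega⟩
      refine ⟨?_, ?_⟩
      · rw [bernoulli'_eq_zero_of_odd ⟨2 * t, by ring⟩ (by omega)]; simp
      · rw [show 4 * t + 1 - 1 = 4 * t by omega]
        have hb := bernoulli'_neg_of_four_dvd t (by omega)
        have : (0 : ℚ) < (2 * (s : ℚ) - d - ((4 * t + 1 : ℕ) : ℚ) - 1) / 2 *
            ((d : ℚ) ^ (4 * t) / ((4 * t).factorial : ℚ)) := by positivity
        have h2 : (2 * (s : ℚ) - d - ((4 * t + 1 : ℕ) : ℚ) - 1) / 2 * bernoulli' (4 * t) *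
            (d : ℚ) ^ (4 * t) / ((4 * t).factorial : ℚ) = bernoulli' (4 * t) *
            ((2 * (s : ℚ) - d - ((4 * t + 1 : ℕ) : ℚ) - 1) / 2 *
            ((d : ℚ) ^ (4 * t) / ((4 * t).factorial : ℚ))) := by ring
        rw [h2]
        exact mul_neg_of_neg_of_pos hb this
  obtain ⟨N, hN⟩ := key
  refine ⟨N, fun p hp => ?_⟩
  rw [hP p]
  have := hN p hp
  rw [mul_pow, mul_pow]
  convert this using 1
  ring

end Groth.Agent.S17714
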