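import Groth.Statements.S17715
import Groth.Agent.S17716

set_option autoImplicit false
open MoretBailly

namespace Groth.Agent.S17715

open Groth.Agent.S17716


/-- Write B(x) = x/(1 - e^(-x)) for the exponential generating series of the Bernoulli numbers (B'_1 =
1/2). For all natural numbers d and p the coefficient of x^3 in B(-dx)^(-1) B(-dpx) B(x)^4
e^((dp-d-3)x), i.e. the case n = 3, s = 1 of the Todd-class integrand, equals
-d(d+2)(p-1)(dp-d-2)/24 = -(d^3+2d^2) p^2/24 + (d^3+3d^2+2d) p/12 - (d^3+4d^2+4d)/24. (The published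
closed form has the same p^2 and p coefficients but constant term -(d^3+2d^2+2d)/24; direct
expansion gives the value stated here, which vanishes at p = 1.) -/
theorem result (d p : ℕ) :
    PowerSeries.coeff 3 ((PowerSeries.rescale (-(d : ℚ)) (bernoulli'PowerSeries ℚ))⁻¹ * PowerSeries.rescale (-((d : ℚ) * p)) (bernoulli'PowerSeries ℚ) * bernoulli'PowerSeries ℚ ^ (4) * PowerSeries.rescale ((d : ℚ) * p - d - 3) (PowerSeries.exp ℚ)) =
      -((d : ℚ) * (d + 2) * (p - 1) * (d * p - d - 2)) / 24 := by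
  set B := bernoulli'PowerSeries ℚ with hB
  set f := PowerSeries.rescale (-(d : ℚ)) B with hf
  have hf0 : PowerSeries.coeff 0 f = 1 := by
    rw [hf, PowerSeries.coeff_rescale, B0]; simp
  have hf1 : PowerSeries.coeff 1 f = -(d : ℚ) / 2 := by
    rw [hf, PowerSeries.coeff_rescale, B1]; ring
  have hf2 : PowerSeries.coeff 2 f = (d : ℚ) ^ 2 / 12 := by
    rw [hf, PowerSeries.coeff_rescale, B2]; ring
  have hf3 : PowerSeries.coeff 3 f = 0 := by
    rw [hf, PowerSeries.coeff_rescale, B3]; ring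
  have hfc : PowerSeries.constantCoeff f ≠ 0 := by
    rw [← PowerSeries.coeff_zero_eq_constantCoeff_apply, hf0]; exact one_ne_zero
  have hinv : f * f⁻¹ = 1 := PowerSeries.mul_inv_cancel f hfc
  have hi0 : PowerSeries.coeff 0 f⁻¹ = 1 := by
    have := congrArg (PowerSeries.coeff 0) hinv
    rw [c0mul, hf0, one_mul] at this
    simpa using this
  have hi1 : PowerSeries.coeff 1 f⁻¹ = (d : ℚ) / 2 := by
    have := congrArg (PowerSeries.coeff 1) hinv
    rw [c1mul, hf0, hf1, hi0] at this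
    simp at this
    linarith
  have hi2 : PowerSeries.coeff 2 f⁻¹ = (d : ℚ) ^ 2 / 6 := by
    have := congrArg (PowerSeries.coeff 2) hinv
    rw [c2mul, hf0, hf1, hf2, hi0, hi1] at this
    simp at this
    linarith
  have hi3 : PowerSeries.coeff 3 f⁻¹ = (d : ℚ) ^ 3 / 24 := by
    have := congrArg (PowerSeries.coeff 3) hinv
    rw [c3mul, hf0, hf1, hf2, hf3, hi0, hi1, hi2] at this
    simp at this
    linarith
  have hg0 : PowerSeries.coeff 0 (PowerSeries.rescale (-((d : ℚ) * p)) B) = 1 := by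
    rw [PowerSeries.coeff_rescale, B0]; simp
  have hg1 : PowerSeries.coeff 1 (PowerSeries.rescale (-((d : ℚ) * p)) B) = -((d : ℚ) * p) / 2 := by
    rw [PowerSeries.coeff_rescale, B1]; ring
  have hg2 : PowerSeries.coeff 2 (PowerSeries.rescale (-((d : ℚ) * p)) B) = ((d : ℚ) * p) ^ 2 / 12 := by
    rw [PowerSeries.coeff_rescale, B2]; ring
  have hg3 : PowerSeries.coeff 3 (PowerSeries.rescale (-((d : ℚ) * p)) B) = 0 := by
    rw [PowerSeries.coeff_rescale, B3]; ring
  have hB4 : B ^ 4 = (B * B) * (B * B) := by ring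
  have hB0 : PowerSeries.coeff 0 B = 1 := B0
  have hB1 : PowerSeries.coeff 1 B = 1 / 2 := B1
  have hB2 : PowerSeries.coeff 2 B = 1 / 12 := B2
  have hB3 : PowerSeries.coeff 3 B = 0 := B3
  have hb0 : PowerSeries.coeff 0 (B ^ 4) = 1 := by
    rw [hB4]; simp only [c0mul, hB0]; norm_num
  have hb1 : PowerSeries.coeff 1 (B ^ 4) = 2 := by
    rw [hB4]; simp only [c0mul, c1mul, hB0, hB1]; norm_num
  have hb2 : PowerSeries.coeff 2 (B ^ 4) = 11 / 6 := by
    rw [hB4]; simp only [c0mul, c1mul, c2mul, hB0, hB1, hB2]; norm_num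
  have hb3 : PowerSeries.coeff 3 (B ^ 4) = 1 := by
    rw [hB4]; simp only [c0mul, c1mul, c2mul, c3mul, hB0, hB1, hB2, hB3]; norm_num
  set c : ℚ := (d : ℚ) * p - d - 3 with hc
  have he0 : PowerSeries.coeff 0 (PowerSeries.rescale c (PowerSeries.exp ℚ)) = 1 := by
    rw [PowerSeries.coeff_rescale]; simp
  have he1 : PowerSeries.coeff 1 (PowerSeries.rescale c (PowerSeries.exp ℚ)) = c := by
    rw [PowerSeries.coeff_rescale]; simp
  have he2 : PowerSeries.coeff 2 (PowerSeries.rescale c (PowerSeries.exp ℚ)) = c ^ 2 / 2 := by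
    rw [PowerSeries.coeff_rescale]; simp [Nat.factorial]; ring
  have he3 : PowerSeries.coeff 3 (PowerSeries.rescale c (PowerSeries.exp ℚ)) = c ^ 3 / 6 := by
    rw [PowerSeries.coeff_rescale]; simp [Nat.factorial]; ring
  simp only [c0mul, c1mul, c2mul, c3mul, hi0, hi1, hi2, hi3, hg0, hg1, hg2, hg3, hb0, hb1, hb2, hb3,
    he0, he1, he2, he3]
  rw [hc]
  ring

end Groth.Agent.S17715
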