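import Groth.Statements.S17717
import Mathlib.Tactic.Ring
import Mathlib.Tactic.Linarith
import Mathlib.Tactic.NormNum

set_option autoImplicit false
open MoretBailly

namespace Groth.Agent.S17717


open PowerSeries in
theorem coeff_one_mul {R : Type*} [CommRing R] (f g : R⟦X⟧) :
    coeff 1 (f * g) = coeff 0 f * coeff 1 g + coeff 1 f * coeff 0 g := by
  rw [PowerSeries.coeff_mul]
  simp [Finset.Nat.antidiagonal_succ]

open PowerSeries in
theorem coeff_zero_mul' {R : Type*} [CommRing R] (f g : R⟦X⟧) :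
    coeff 0 (f * g) = coeff 0 f * coeff 0 g := by
  rw [PowerSeries.coeff_mul]
  simp

open PowerSeries in
theorem B0 : coeff 0 (bernoulli'PowerSeries ℚ) = 1 := by
  simp [bernoulli'PowerSeries]

open PowerSeries in
theorem B1 : coeff 1 (bernoulli'PowerSeries ℚ) = 1 / 2 := by
  simp [bernoulli'PowerSeries]


/-- Write B(x) = x/(1 - e^(-x)) for the exponential generating series of the Bernoulli numbers (B'_1 =
1/2). For all natural numbers d, p and every integer s the coefficient of x in B(-dx)^(-1) B(-dpx)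
B(x)^2 e^((dp-d-2+s)x), i.e. the case n = 1 of the Todd-class integrand, equals d(p-1)/2 + s - 1. -/
theorem result (d p : ℕ) (s : ℤ) :
    PowerSeries.coeff 1 ((PowerSeries.rescale (-(d : ℚ)) (bernoulli'PowerSeries ℚ))⁻¹ * PowerSeries.rescale (-((d : ℚ) * p)) (bernoulli'PowerSeries ℚ) * bernoulli'PowerSeries ℚ ^ (2) * PowerSeries.rescale ((d : ℚ) * p - d - 2 + s) (PowerSeries.exp ℚ)) =
      (d : ℚ) * (p - 1) / 2 + s - 1 := by
  set B := bernoulli'PowerSeries ℚ with hB
  set f := PowerSeries.rescale (-(d : ℚ)) B with hf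
  have hf0 : PowerSeries.coeff 0 f = 1 := by
    rw [hf, PowerSeries.coeff_rescale, B0]; simp
  have hf1 : PowerSeries.coeff 1 f = -(d : ℚ) / 2 := by
    rw [hf, PowerSeries.coeff_rescale, B1]; ring
  have hfc : PowerSeries.constantCoeff f ≠ 0 := by
    rw [← PowerSeries.coeff_zero_eq_constantCoeff_apply, hf0]; exact one_ne_zero
  have hinv : f * f⁻¹ = 1 := PowerSeries.mul_inv_cancel f hfc
  have hi0 : PowerSeries.coeff 0 f⁻¹ = 1 := by
    have := congrArg (PowerSeries.coeff 0) hinv
    rw [coeff_zero_mul', hf0, one_mul] at this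
    simpa using this
  have hi1 : PowerSeries.coeff 1 f⁻¹ = (d : ℚ) / 2 := by
    have := congrArg (PowerSeries.coeff 1) hinv
    rw [coeff_one_mul, hf0, hf1, hi0] at this
    simp at this
    linarith
  have hg0 : PowerSeries.coeff 0 (PowerSeries.rescale (-((d : ℚ) * p)) B) = 1 := by
    rw [PowerSeries.coeff_rescale, B0]; simp
  have hg1 : PowerSeries.coeff 1 (PowerSeries.rescale (-((d : ℚ) * p)) B) = -((d : ℚ) * p) / 2 := by
    rw [PowerSeries.coeff_rescale, B1]; ring
  have hB20 : PowerSeries.coeff 0 (B ^ 2) = 1 := by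
    rw [pow_two, coeff_zero_mul', B0]; norm_num
  have hB21 : PowerSeries.coeff 1 (B ^ 2) = 1 := by
    rw [pow_two, coeff_one_mul, B0, B1]; norm_num
  have he0 : PowerSeries.coeff 0 (PowerSeries.rescale ((d : ℚ) * p - d - 2 + s) (PowerSeries.exp ℚ)) = 1 := by
    rw [PowerSeries.coeff_rescale]; simp
  have he1 : PowerSeries.coeff 1 (PowerSeries.rescale ((d : ℚ) * p - d - 2 + s) (PowerSeries.exp ℚ)) =
      (d : ℚ) * p - d - 2 + s := by
    rw [PowerSeries.coeff_rescale]; simp
  simp only [coeff_one_mul, coeff_zero_mul', hi0, hi1, hg0, hg1, hB20, hB21, he0, he1]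
  ring

end Groth.Agent.S17717
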