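import Groth.Statements.S17718
import Groth.Agent.S17714

set_option autoImplicit false
open MoretBailly

namespace Groth.Agent.S17718

/-- Let n ≥ 2 and d ≥ 1 be natural numbers with n not congruent to 2 modulo 4, and write B(x) = x/(1 -
e^(-x)) for the exponential generating series of the Bernoulli numbers (B'_1 = 1/2). Then there is
an integer s ≥ 1 such that for all sufficiently large natural numbers p the coefficient of x^n in
B(-dx)^(-1) B(-dpx) B(x)^(n+1) e^((dp-d-n-1+s)x) is strictly negative. (The published argument fixes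
any s with 2s > n + d + 1, which gives the sign only for n congruent to 0 or 1 modulo 4; for n
congruent to 3 modulo 4 the choice s = 1 makes the leading coefficient (2s-d-n-1) B'_(n-1)
d^(n-1)/(2 (n-1)!) negative instead.) -/
theorem result (n d : ℕ) (hn : 2 ≤ n)
    (hmod : n % 4 ≠ 2) (hd : 1 ≤ d) :
    ∃ s : ℤ, 1 ≤ s ∧ ∃ P : ℕ, ∀ p : ℕ, P ≤ p →
      PowerSeries.coeff n ((PowerSeries.rescale (-(d : ℚ)) (bernoulli'PowerSeries ℚ))⁻¹ * PowerSeries.rescale (-((d : ℚ) * p)) (bernoulli'PowerSeries ℚ) * bernoulli'PowerSeries ℚ ^ (n + 1) * PowerSeries.rescale ((d : ℚ) * p - d - n - 1 + s) (PowerSeries.exp ℚ)) < 0 := by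
  have hcases : n % 4 = 0 ∨ n % 4 = 1 ∨ n % 4 = 3 := by omega
  rcases hcases with h0 | h1 | h3
  · refine ⟨(n : ℤ) + d + 1, by omega, ?_⟩
    exact Groth.Agent.S17714.result n d _ hn (Or.inl h0) hd (by omega)
  · refine ⟨(n : ℤ) + d + 1, by omega, ?_⟩
    exact Groth.Agent.S17714.result n d _ hn (Or.inr h1) hd (by omega)
  · refine ⟨1, le_refl _, ?_⟩
    obtain ⟨P, hdeg, hP⟩ := Groth.Agent.S17713.result n d 1 hn hd
    have hdpos : (0 : ℚ) < d := by exact_mod_cast hd
    have key : ∃ N : ℕ, ∀ p : ℕ, N ≤ p →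
        (bernoulli' n * (d : ℚ) ^ n / (n.factorial : ℚ)) * (p : ℚ) ^ n +
        ((2 * ((1 : ℤ) : ℚ) - d - n - 1) / 2 * bernoulli' (n - 1) * (d : ℚ) ^ (n - 1) /
          ((n - 1).factorial : ℚ)) * (p : ℚ) ^ (n - 1) + P.eval (p : ℚ) < 0 := by
      apply Groth.Agent.S17714.ev_neg_main n hn _ _ P hdeg
      right
      obtain ⟨t, rfl⟩ : ∃ t : ℕ, n = 4 * t + 3 := ⟨n / 4, by omega⟩
      refine ⟨?_, ?_⟩
      · rw [bernoulli'_eq_zero_of_odd ⟨2 * t + 1, by ring⟩ (by omega)]; simp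
      · rw [show 4 * t + 3 - 1 = 4 * t + 2 by omega]
        have hb := Groth.Agent.S17714.bernoulli'_pos_of_four_dvd_add_two t
        have hneg : (2 * ((1 : ℤ) : ℚ) - d - ((4 * t + 3 : ℕ) : ℚ) - 1) / 2 < 0 := by
          push_cast
          have : (0 : ℚ) ≤ t := Nat.cast_nonneg t
          linarith
        have hpos : (0 : ℚ) < bernoulli' (4 * t + 2) *
            ((d : ℚ) ^ (4 * t + 2) / ((4 * t + 2).factorial : ℚ)) := by positivity
        have h2 : (2 * ((1 : ℤ) : ℚ) - d - ((4 * t + 3 : ℕ) : ℚ) - 1) / 2 * bernoulli' (4 * t + 2) *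
            (d : ℚ) ^ (4 * t + 2) / ((4 * t + 2).factorial : ℚ) =
            (2 * ((1 : ℤ) : ℚ) - d - ((4 * t + 3 : ℕ) : ℚ) - 1) / 2 * (bernoulli' (4 * t + 2) *
            ((d : ℚ) ^ (4 * t + 2) / ((4 * t + 2).factorial : ℚ))) := by ring
        rw [h2]
        exact mul_neg_of_neg_of_pos hneg hpos
    obtain ⟨N, hN⟩ := key
    refine ⟨N, fun p hp => ?_⟩
    rw [hP p]
    have := hN p hp
    rw [mul_pow, mul_pow]
    convert this using 1
    ring

end Groth.Agent.S17718
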