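import Groth.Statements.S17720
import Mathlib

set_option autoImplicit false
universe u
open CAlg

namespace Groth.Agent.S17720

namespace NodeDer

open MvPowerSeries

variable {A : Type u} [CommRing A]

/-- weight `i - j` of the exponent `(i, j)` -/
def wt (n : Fin 2 →₀ ℕ) : ℤ := (n 0 : ℤ) - (n 1 : ℤ)

lemma wt_add (p q : Fin 2 →₀ ℕ) : wt (p + q) = wt p + wt q := by
  simp only [wt, Finsupp.coe_add, Pi.add_apply, Nat.cast_add]; ring

/-- The Euler-type operator `x ∂_x - y ∂_y`, coefficientwise. -/
noncomputable def eulerLin : MvPowerSeries (Fin 2) A →ₗ[A] MvPowerSeries (Fin 2) A where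
  toFun f := fun n => wt n • coeff n f
  map_add' f g := by
    ext n
    show wt n • coeff n (f + g) = wt n • coeff n f + wt n • coeff n g
    rw [map_add, smul_add]
  map_smul' a f := by
    ext n
    show wt n • coeff n (a • f) = a • (wt n • coeff n f)
    rw [map_smul, smul_comm]

lemma coeff_eulerLin (f : MvPowerSeries (Fin 2) A) (n : Fin 2 →₀ ℕ) :
    coeff n (eulerLin f) = wt n • coeff n f := rfl

lemma eulerLin_mul (f g : MvPowerSeries (Fin 2) A) :
    eulerLin (f * g) = f • eulerLin g + g • eulerLin f := by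
  classical
  ext n
  rw [coeff_eulerLin, smul_eq_mul, smul_eq_mul, map_add, mul_comm g (eulerLin f), coeff_mul,
    coeff_mul, coeff_mul, Finset.smul_sum, ← Finset.sum_add_distrib]
  refine Finset.sum_congr rfl fun p hp => ?_
  have hp := Finset.HasAntidiagonal.mem_antidiagonal.mp hp
  rw [coeff_eulerLin, coeff_eulerLin, ← hp, wt_add, add_smul, smul_mul_assoc, mul_smul_comm,
    add_comm]

/-- The derivation `x ∂_x - y ∂_y` of `A[[x,y]]`. -/
noncomputable def euler : Derivation A (MvPowerSeries (Fin 2) A) (MvPowerSeries (Fin 2) A) :=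
  Derivation.mk' eulerLin eulerLin_mul

lemma euler_apply (f : MvPowerSeries (Fin 2) A) : euler f = eulerLin f := rfl

lemma euler_X0 : euler (X 0 : MvPowerSeries (Fin 2) A) = X 0 := by
  classical
  ext n
  rw [euler_apply, coeff_eulerLin, coeff_X]
  split_ifs with h
  · subst h
    simp [wt]
  · simp

lemma euler_X1 : euler (X 1 : MvPowerSeries (Fin 2) A) = - X 1 := by
  classical
  ext n
  rw [euler_apply, coeff_eulerLin, map_neg, coeff_X]
  split_ifs with h
  · subst h
    simp [wt]
  · simp

lemma euler_gen (α : A) : euler (X 0 * X 1 - C α : MvPowerSeries (Fin 2) A) = 0 := by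
  rw [map_sub, Derivation.leibniz, euler_X0, euler_X1, c_eq_algebraMap,
    Derivation.map_algebraMap, sub_zero, smul_eq_mul, smul_eq_mul]
  ring

/-- the generator `xy - α` -/
noncomputable abbrev gen (α : A) : MvPowerSeries (Fin 2) A := X 0 * X 1 - C α

/-- The node algebra `A[[x,y]]/(xy - α)`. -/
abbrev Node (α : A) := MvPowerSeries (Fin 2) A ⧸ Ideal.span {gen α}

noncomputable abbrev mkN (α : A) : MvPowerSeries (Fin 2) A →ₐ[A] Node α :=
  Ideal.Quotient.mkₐ A (Ideal.span {gen α})

lemma mkN_surj (α : A) : Function.Surjective (mkN α) := Ideal.Quotient.mkₐ_surjective A _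

lemma mkN_eq_zero_iff (α : A) (F : MvPowerSeries (Fin 2) A) :
    mkN α F = 0 ↔ F ∈ Ideal.span {gen α} := Ideal.Quotient.eq_zero_iff_mem

lemma euler_kills (α : A) (F : MvPowerSeries (Fin 2) A) (h : mkN α F = 0) :
    mkN α (euler F) = 0 := by
  rw [mkN_eq_zero_iff] at h ⊢
  obtain ⟨G, rfl⟩ := Ideal.mem_span_singleton'.mp h
  rw [Derivation.leibniz, euler_gen, smul_zero, zero_add, smul_eq_mul]
  exact Ideal.mul_mem_right _ _ (Ideal.subset_span rfl)

/-- the derivation `x ∂_x - y ∂_y` on the node algebra -/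
noncomputable def eulerN (α : A) : Derivation A (Node α) (Node α) :=
  Derivation.liftOfSurjective (f := mkN α) (mkN_surj α) (d := euler) (euler_kills α)

lemma eulerN_mk (α : A) (F : MvPowerSeries (Fin 2) A) :
    eulerN α (mkN α F) = mkN α (euler F) :=
  Derivation.liftOfSurjective_apply (f := mkN α) (mkN_surj α) (euler_kills α) F

/-- The ideal generated by the values of all `A`-derivations of `B` into itself. -/
def derIdeal (A : Type u) [CommRing A] (B : Type u) [CommRing B] [Algebra A B] : Ideal B :=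
  Ideal.span {b | ∃ (D : Derivation A B B) (f : B), D f = b}

lemma derIdeal_map {B B' : Type u} [CommRing B] [CommRing B'] [Algebra A B] [Algebra A B']
    (φ : B ≃ₐ[A] B') {x : B} (hx : x ∈ derIdeal A B) : φ x ∈ derIdeal A B' := by
  have : derIdeal A B ≤ (derIdeal A B').comap (φ : B →+* B') := by
    refine Ideal.span_le.mpr ?_
    rintro b ⟨D, f, rfl⟩
    show φ (D f) ∈ derIdeal A B'
    have hri : Function.RightInverse φ.symm (φ : B →ₐ[A] B') := fun y => φ.apply_symm_apply y
    have hd : ∀ x, (φ : B →ₐ[A] B') x = 0 → (φ : B →ₐ[A] B') (D x) = 0 := by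
      intro x hx
      have : x = 0 := by
        have h := congrArg φ.symm hx
        simpa using h
      rw [this, map_zero, map_zero]
    refine Ideal.subset_span ⟨Derivation.liftOfRightInverse hri hd, φ f, ?_⟩
    exact Derivation.liftOfRightInverse_apply hri hd f
  exact this hx

lemma derIdeal_iff {B B' : Type u} [CommRing B] [CommRing B'] [Algebra A B] [Algebra A B']
    (φ : B ≃ₐ[A] B') (x : B) : φ x ∈ derIdeal A B' ↔ x ∈ derIdeal A B := by
  refine ⟨fun h => ?_, derIdeal_map φ⟩
  have := derIdeal_map φ.symm h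
  simpa using this

/-! ### Power series bookkeeping -/

/-- coefficients shifted by one in direction `s` -/
noncomputable def shift (s : Fin 2) (F : MvPowerSeries (Fin 2) A) : MvPowerSeries (Fin 2) A :=
  fun n => coeff (n + Finsupp.single s 1) F

/-- the part of `F` not involving the variable `s` -/
noncomputable def rest (s : Fin 2) (F : MvPowerSeries (Fin 2) A) : MvPowerSeries (Fin 2) A :=
  fun n => if n s = 0 then coeff n F else 0

lemma coeff_shift (s : Fin 2) (F : MvPowerSeries (Fin 2) A) (n : Fin 2 →₀ ℕ) :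
    coeff n (shift s F) = coeff (n + Finsupp.single s 1) F := rfl

lemma coeff_rest (s : Fin 2) (F : MvPowerSeries (Fin 2) A) (n : Fin 2 →₀ ℕ) :
    coeff n (rest s F) = if n s = 0 then coeff n F else 0 := rfl

lemma coeff_X_mul_of_zero (s : Fin 2) (Y : MvPowerSeries (Fin 2) A) (m : Fin 2 →₀ ℕ)
    (hm : m s = 0) : coeff m (X s * Y) = 0 := by
  rw [X_def, coeff_monomial_mul, if_neg]
  rw [Finsupp.single_le_iff, hm]
  omega

lemma coeff_X_mul_of_pos (s : Fin 2) (Y : MvPowerSeries (Fin 2) A) (m : Fin 2 →₀ ℕ)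
    (hm : 1 ≤ m s) : coeff m (X s * Y) = coeff (m - Finsupp.single s 1) Y := by
  rw [X_def, coeff_monomial_mul, if_pos, one_mul]
  rwa [Finsupp.single_le_iff]

lemma decomp (s : Fin 2) (F : MvPowerSeries (Fin 2) A) :
    F = X s * shift s F + rest s F := by
  ext m
  rw [map_add, coeff_rest]
  by_cases hm : m s = 0
  · rw [coeff_X_mul_of_zero s _ m hm, if_pos hm, zero_add]
  · have h1 : 1 ≤ m s := Nat.one_le_iff_ne_zero.mpr hm
    rw [coeff_X_mul_of_pos s _ m h1, if_neg hm, add_zero, coeff_shift,
      tsub_add_cancel_of_le (Finsupp.single_le_iff.mpr h1)]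

lemma rest_rest (F : MvPowerSeries (Fin 2) A) :
    rest 1 (rest 0 F) = C (constantCoeff F) := by
  classical
  ext n
  rw [coeff_rest, coeff_rest, coeff_C]
  by_cases h : n = 0
  · subst h
    simp [coeff_zero_eq_constantCoeff_apply]
  · rw [if_neg h]
    have : ¬ (n 1 = 0 ∧ n 0 = 0) := by
      rintro ⟨h1, h0⟩
      apply h
      ext i
      fin_cases i
      · simpa using h0
      · simpa using h1
    by_cases h1 : n 1 = 0
    · rw [if_pos h1, if_neg (fun h0 => this ⟨h1, h0⟩)]
    · rw [if_neg h1]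

/-- the ideal `(x, y)` of the node algebra -/
noncomputable def J (α : A) : Ideal (Node α) := Ideal.span {mkN α (X 0), mkN α (X 1)}

lemma mkX_mem_J (α : A) (s : Fin 2) : mkN α (X s) ∈ J α := by
  fin_cases s
  · exact Ideal.subset_span (Set.mem_insert _ _)
  · exact Ideal.subset_span (Set.mem_insert_of_mem _ rfl)

lemma mk_C_eq (α : A) : mkN α (C α) = mkN α (X 0) * mkN α (X 1) := by
  rw [← map_mul, eq_comm, ← sub_eq_zero, ← map_sub, mkN_eq_zero_iff]
  exact Ideal.subset_span rfl

lemma mk_C_mem_J (α : A) : mkN α (C α) ∈ J α := by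
  rw [mk_C_eq]
  exact Ideal.mul_mem_right _ _ (mkX_mem_J α 0)

lemma mem_J_of_coeff (α : A) (s : Fin 2) (F : MvPowerSeries (Fin 2) A)
    (h : ∀ n, n s = 0 → coeff n F ∈ Ideal.span {α}) : mkN α F ∈ J α := by
  rw [decomp s F, map_add, map_mul]
  refine Ideal.add_mem _ (Ideal.mul_mem_right _ _ (mkX_mem_J α s)) ?_
  have h' : ∀ n, ∃ a, a * α = coeff n (rest s F) := by
    intro n
    rw [coeff_rest]
    split_ifs with hn
    · exact Ideal.mem_span_singleton'.mp (h n hn)
    · exact ⟨0, zero_mul _⟩
  choose G hG using h'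
  have : rest s F = (C α : MvPowerSeries (Fin 2) A) * (show MvPowerSeries (Fin 2) A from fun n => G n) := by
    ext n
    rw [coeff_C_mul, ← hG n, mul_comm]
    rfl
  rw [this, map_mul]
  exact Ideal.mul_mem_right _ _ (mk_C_mem_J α)

lemma key (α : A) (s t : Fin 2) (hst : s ≠ t) (a b : MvPowerSeries (Fin 2) A)
    (h : X s * b + X t * a ∈ Ideal.span {gen α}) :
    ∀ n, n s = 0 → coeff n a ∈ Ideal.span {α} := by
  intro n hn
  obtain ⟨w, hw⟩ := Ideal.mem_span_singleton'.mp h
  have hXX : (X 0 * X 1 : MvPowerSeries (Fin 2) A) = X s * X t := by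
    fin_cases s <;> fin_cases t
    · exact absurd rfl hst
    · rfl
    · exact mul_comm _ _
    · exact absurd rfl hst
  have e : X t * a = X s * (w * X t) - w * C α - X s * b := by
    have : w * gen α = X s * (w * X t) - w * C α := by
      rw [gen, hXX]; ring
    rw [← this, hw]; ring
  set m := Finsupp.single t 1 + n with hm
  have hms : m s = 0 := by
    rw [hm, Finsupp.add_apply, Finsupp.single_apply, if_neg (Ne.symm hst), hn]
  have e1 : coeff m (X t * a) = coeff n a := by
    rw [X_def, hm, coeff_add_monomial_mul, one_mul]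
  have e2 := congrArg (coeff m) e
  rw [e1, map_sub, map_sub, coeff_X_mul_of_zero s _ m hms, coeff_X_mul_of_zero s _ m hms,
    coeff_mul_C, zero_sub, sub_zero] at e2
  rw [e2]
  exact (Ideal.neg_mem_iff _).mpr (Ideal.mul_mem_left _ _ (Ideal.subset_span rfl))

lemma mk_XX (α : A) (s t : Fin 2) (hst : s ≠ t) :
    mkN α (X s) * mkN α (X t) = algebraMap A (Node α) α := by
  have hXX : mkN α (X s) * mkN α (X t) = mkN α (X 0) * mkN α (X 1) := by
    fin_cases s <;> fin_cases t
    · exact absurd rfl hst
    · rfl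
    · exact mul_comm _ _
    · exact absurd rfl hst
  rw [hXX, ← mk_C_eq, c_eq_algebraMap, AlgHom.commutes]

lemma der_X_mem_J (α : A) (D : Derivation A (Node α) (Node α)) (s : Fin 2) :
    D (mkN α (X s)) ∈ J α := by
  obtain ⟨t, hst⟩ : ∃ t : Fin 2, s ≠ t := by
    fin_cases s
    · exact ⟨1, by decide⟩
    · exact ⟨0, by decide⟩
  obtain ⟨a, ha⟩ := mkN_surj α (D (mkN α (X s)))
  obtain ⟨b, hb⟩ := mkN_surj α (D (mkN α (X t)))
  have h0 : mkN α (X s * b + X t * a) = 0 := by
    have hD : D (mkN α (X s) * mkN α (X t)) = 0 := by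
      rw [mk_XX α s t hst, Derivation.map_algebraMap]
    rw [Derivation.leibniz, smul_eq_mul, smul_eq_mul] at hD
    rw [map_add, map_mul, map_mul, ha, hb]
    exact hD
  rw [mkN_eq_zero_iff] at h0
  rw [← ha]
  exact mem_J_of_coeff α s a (key α s t hst a b h0)

lemma der_mem_J (α : A) (D : Derivation A (Node α) (Node α)) (f : Node α) : D f ∈ J α := by
  obtain ⟨F, rfl⟩ := mkN_surj α f
  have e : F = X 0 * shift 0 F + (X 1 * shift 1 (rest 0 F) + C (constantCoeff F)) := by
    conv_lhs => rw [decomp 0 F, decomp 1 (rest 0 F), rest_rest]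
  rw [e, map_add (mkN α), map_add (mkN α), map_mul (mkN α), map_mul (mkN α), map_add D, map_add D,
    Derivation.leibniz, Derivation.leibniz, c_eq_algebraMap, AlgHom.commutes,
    Derivation.map_algebraMap, add_zero, smul_eq_mul, smul_eq_mul, smul_eq_mul, smul_eq_mul]
  refine Ideal.add_mem _ (Ideal.add_mem _ ?_ ?_) (Ideal.add_mem _ ?_ ?_)
  · exact Ideal.mul_mem_right _ _ (mkX_mem_J α 0)
  · exact Ideal.mul_mem_left _ _ (der_X_mem_J α D 0)
  · exact Ideal.mul_mem_right _ _ (mkX_mem_J α 1)
  · exact Ideal.mul_mem_left _ _ (der_X_mem_J α D 1)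

lemma derIdeal_node (α : A) : derIdeal A (Node α) = J α := by
  apply le_antisymm
  · refine Ideal.span_le.mpr ?_
    rintro b ⟨D, f, rfl⟩
    exact der_mem_J α D f
  · refine Ideal.span_le.mpr ?_
    rintro b hb
    rcases hb with rfl | hb
    · refine Ideal.subset_span ⟨eulerN α, mkN α (X 0), ?_⟩
      rw [eulerN_mk, euler_X0]
    · have hb : b = mkN α (X 1) := hb
      subst hb
      have : mkN α (X 1) = - (eulerN α (mkN α (X 1))) := by
        rw [eulerN_mk, euler_X1, map_neg, neg_neg]
      rw [this]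
      exact (Ideal.neg_mem_iff _).mpr (Ideal.subset_span ⟨eulerN α, mkN α (X 1), rfl⟩)

lemma algebraMap_mem_J_iff (α a : A) :
    algebraMap A (Node α) a ∈ J α ↔ a ∈ Ideal.span {α} := by
  constructor
  · intro h
    obtain ⟨u, v, huv⟩ := Ideal.mem_span_pair.mp h
    obtain ⟨U, rfl⟩ := mkN_surj α u
    obtain ⟨V, rfl⟩ := mkN_surj α v
    have h0 : mkN α (U * X 0 + V * X 1 - C a) = 0 := by
      rw [map_sub, map_add, map_mul, map_mul, huv, c_eq_algebraMap, AlgHom.commutes, sub_self]
    rw [mkN_eq_zero_iff] at h0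
    obtain ⟨w, hw⟩ := Ideal.mem_span_singleton'.mp h0
    have h1 := congrArg (constantCoeff (σ := Fin 2) (R := A)) hw
    simp only [gen, map_mul, map_sub, map_add, constantCoeff_X, constantCoeff_C, mul_zero,
      zero_mul, add_zero, zero_sub] at h1
    rw [Ideal.mem_span_singleton']
    refine ⟨constantCoeff w, ?_⟩
    linear_combination (-1 : A) * h1
  · intro h
    obtain ⟨c, rfl⟩ := Ideal.mem_span_singleton'.mp h
    rw [map_mul]
    refine Ideal.mul_mem_left _ _ ?_
    rw [← mk_XX α 0 1 (by decide)]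
    exact Ideal.mul_mem_right _ _ (mkX_mem_J α 0)

theorem span_eq_of_node_equiv (α β : A) (φ : Node α ≃ₐ[A] Node β) :
    Ideal.span {α} = Ideal.span {β} := by
  ext a
  rw [← algebraMap_mem_J_iff α a, ← algebraMap_mem_J_iff β a, ← derIdeal_node, ← derIdeal_node,
    ← derIdeal_iff φ, AlgEquiv.commutes]

end NodeDer


open MvPowerSeries IsLocalRing in
/-- Let A be a Noetherian local ring and α, β two elements of its maximal ideal. If the quotient of the
power series ring in two variables over A by xy − α is isomorphic, as an A-algebra, to the quotient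
by xy − β, then αA = βA. (The published statement allows any local ring A; it is taken Noetherian
here, the case in which an algebra isomorphism between these complete local rings is continuous for
their adic topologies.) -/
theorem result
    (A : Type u) [CommRing A] [IsLocalRing A] [IsNoetherianRing A]
    (α β : A) (hα : α ∈ maximalIdeal A) (hβ : β ∈ maximalIdeal A)
    (φ : (MvPowerSeries (Fin 2) A ⧸ Ideal.span {(X 0 * X 1 - C α : MvPowerSeries (Fin 2) A)}) ≃ₐ[A] (MvPowerSeries (Fin 2) A ⧸ Ideal.span {(X 0 * X 1 - C β : MvPowerSeries (Fin 2) A)})) :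
    Ideal.span {α} = Ideal.span {β} :=
  NodeDer.span_eq_of_node_equiv α β φ

end Groth.Agent.S17720
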