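import Mathlib
import Groth.Statements.S17721

set_option autoImplicit false
universe u
open CAlg

namespace Groth.Agent.S17721

section aux

open PowerSeries in
/-- If `π` is a prime element of a domain `R` and `f'` is a power series whose constant coefficient is
divisible by `π` but which is nonzero modulo `π`, then `g * f'` is never a nonzero constant of the
form `u * π ^ m`. -/
theorem no_const_multiple {R : Type u} [CommRing R] [IsDomain R] (π : R) (hπ : Prime π)
    (f' : PowerSeries R) (h0 : π ∣ PowerSeries.coeff 0 f')
    (hi : ∃ i, ¬ π ∣ PowerSeries.coeff i f') :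
    ∀ (m : ℕ) (u : Rˣ) (g : PowerSeries R), g * f' ≠ PowerSeries.C ((u : R) * π ^ m) := by
  intro m
  induction m with
  | zero =>
    intro u g h
    have h1 := congrArg (PowerSeries.constantCoeff) h
    rw [map_mul, pow_zero, mul_one, PowerSeries.constantCoeff_C] at h1
    have h2 : π ∣ (u : R) := by
      rw [← h1]
      refine Dvd.dvd.mul_left ?_ _
      rwa [← PowerSeries.coeff_zero_eq_constantCoeff_apply]
    exact hπ.not_isUnit (isUnit_of_dvd_unit h2 u.isUnit)
  | succ m ih =>
    intro u g h
    haveI : (Ideal.span {π}).IsPrime := (Ideal.span_singleton_prime hπ.ne_zero).mpr hπ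
    let q := Ideal.Quotient.mk (Ideal.span {π})
    have hq : ∀ x : R, q x = 0 ↔ π ∣ x := fun x => by
      rw [Ideal.Quotient.eq_zero_iff_mem, Ideal.mem_span_singleton]
    have h1 : PowerSeries.map q g * PowerSeries.map q f' = 0 := by
      rw [← map_mul, h, PowerSeries.map_C]
      have : q ((u : R) * π ^ (m + 1)) = 0 := by
        rw [hq, pow_succ, ← mul_assoc]
        exact Dvd.intro_left _ rfl
      rw [this, map_zero]
    have h2 : PowerSeries.map q f' ≠ 0 := by
      obtain ⟨i, hi⟩ := hi
      intro h3
      have := congrArg (PowerSeries.coeff i) h3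
      rw [PowerSeries.coeff_map, map_zero, hq] at this
      exact hi this
    have h3 : PowerSeries.map q g = 0 := (mul_eq_zero.mp h1).resolve_right h2
    have h4 : ∀ j, π ∣ PowerSeries.coeff j g := by
      intro j
      rw [← hq, ← PowerSeries.coeff_map, h3, map_zero]
    choose g₁ hg₁ using h4
    have h5 : g = PowerSeries.C π * PowerSeries.mk g₁ := by
      ext j
      rw [PowerSeries.coeff_C_mul, PowerSeries.coeff_mk, hg₁ j]
    have hCπ : (PowerSeries.C π : PowerSeries R) ≠ 0 := by
      intro h6
      have := congrArg (PowerSeries.coeff 0) h6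
      rw [PowerSeries.coeff_zero_C, map_zero] at this
      exact hπ.ne_zero this
    apply ih u (PowerSeries.mk g₁)
    apply mul_left_cancel₀ hCπ
    rw [← mul_assoc, ← h5, h, ← map_mul]
    congr 1
    ring

end aux

open Polynomial IsLocalRing in
/-- Let R be a complete discrete valuation ring with fraction field K, and f a polynomial over R with
non-zero constant term a₀ such that a₀ does not divide some coefficient of f of positive degree
(equivalently, the Newton polygon of f has a side of negative slope). Let b be the power series over
K with b · f = a₀, the expansion of the geometric series in 1 − f/a₀. Then the valuations of the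
coefficients b_j are not bounded below: for every non-zero c in R there is an index j with c · b_j
outside R. -/
theorem result
    (R : Type u) [CommRing R] [IsDomain R] [IsDiscreteValuationRing R]
    [IsAdicComplete (maximalIdeal R) R]
    (K : Type u) [Field K] [Algebra R K] [IsFractionRing R K]
    (f : R[X]) (h0 : f.coeff 0 ≠ 0) (hslope : ∃ i : ℕ, 0 < i ∧ ¬ (f.coeff 0 ∣ f.coeff i))
    (b : PowerSeries K)
    (hb : b * ((f.map (algebraMap R K) : K[X]) : PowerSeries K) = PowerSeries.C (algebraMap R K (f.coeff 0))) :
    ∀ c : R, c ≠ 0 → ∃ j : ℕ, algebraMap R K c * PowerSeries.coeff j b ∉ (algebraMap R K).range := by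
  classical
  intro c hc
  by_contra hcon
  push Not at hcon
  choose gc hgc using hcon
  have hinjK : Function.Injective (algebraMap R K) := IsFractionRing.injective R K
  have hgf : PowerSeries.mk gc * (f : PowerSeries R) = PowerSeries.C (c * f.coeff 0) := by
    have hmapinj : Function.Injective (PowerSeries.map (algebraMap R K)) := by
      intro x y hxy
      ext n
      apply hinjK
      have := congrArg (PowerSeries.coeff n) hxy
      simpa [PowerSeries.coeff_map] using this
    apply hmapinj
    have h1 : PowerSeries.map (algebraMap R K) (PowerSeries.mk gc) =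
        PowerSeries.C (algebraMap R K c) * b := by
      ext j
      rw [PowerSeries.coeff_map, PowerSeries.coeff_mk, PowerSeries.coeff_C_mul, hgc]
    rw [map_mul, PowerSeries.map_C, ← Polynomial.polynomial_map_coe, h1, mul_assoc, hb,
      ← map_mul, ← map_mul]
  haveI : NormalizedGCDMonoid R := Classical.choice inferInstance
  obtain ⟨π, hπirr⟩ := IsDiscreteValuationRing.exists_irreducible R
  have hπ : Prime π := hπirr.prime
  have hf : f = C f.content * f.primPart := f.eq_C_content_mul_primPart
  have hprim : f.primPart.IsPrimitive := f.isPrimitive_primPart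
  have hcoeff : ∀ i, f.coeff i = f.content * f.primPart.coeff i := by
    intro i
    conv_lhs => rw [hf]
    rw [Polynomial.coeff_C_mul]
  have h0' : π ∣ f.primPart.coeff 0 := by
    by_contra hnd
    have hunit : IsUnit (f.primPart.coeff 0) := by
      have hmax := (IsDiscreteValuationRing.irreducible_iff_uniformizer π).mp hπirr
      rw [← IsLocalRing.notMem_maximalIdeal, hmax, Ideal.mem_span_singleton]
      exact hnd
    obtain ⟨i, -, hi⟩ := hslope
    apply hi
    rw [hcoeff 0, hcoeff i]
    exact mul_dvd_mul_left _ hunit.dvd
  have hi' : ∃ i, ¬ π ∣ f.primPart.coeff i := by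
    by_contra hall
    push Not at hall
    have : C π ∣ f.primPart := (Polynomial.C_dvd_iff_dvd_coeff π _).mpr hall
    exact hπ.not_isUnit (hprim π this)
  have hcont0 : f.content ≠ 0 := by
    intro h
    apply h0
    rw [hcoeff 0, h, zero_mul]
  have hg' : PowerSeries.mk gc * (f.primPart : PowerSeries R) =
      PowerSeries.C (c * f.primPart.coeff 0) := by
    have hC : (PowerSeries.C f.content : PowerSeries R) ≠ 0 := by
      intro h6
      have := congrArg (PowerSeries.coeff 0) h6
      rw [PowerSeries.coeff_zero_C, map_zero] at this
      exact hcont0 this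
    apply mul_left_cancel₀ hC
    have h2 : (f : PowerSeries R) = PowerSeries.C f.content * (f.primPart : PowerSeries R) := by
      conv_lhs => rw [hf]
      rw [Polynomial.coe_mul, Polynomial.coe_C]
    rw [mul_left_comm, ← h2, hgf, ← map_mul, hcoeff 0]
    congr 1
    ring
  have he' : c * f.primPart.coeff 0 ≠ 0 := by
    refine mul_ne_zero hc ?_
    intro h
    apply h0
    rw [hcoeff 0, h, mul_zero]
  obtain ⟨m, hm⟩ := IsDiscreteValuationRing.associated_pow_irreducible he' hπirr
  obtain ⟨u, hu⟩ := hm.symm
  obtain ⟨i, hi⟩ := hi'
  refine no_const_multiple π hπ (f.primPart : PowerSeries R) ?_ ⟨i, ?_⟩ m u (PowerSeries.mk gc) ?_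
  · rwa [Polynomial.coeff_coe]
  · rwa [Polynomial.coeff_coe]
  · rw [hg', ← hu, mul_comm]

end Groth.Agent.S17721
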