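import Groth.Statements.S17722
import Mathlib

set_option autoImplicit false
universe u
open CAlg

namespace Groth.Agent.S17722

/-- Let R → R' be a faithfully flat ring map between Noetherian integrally closed local domains, and p
an ideal of R. If the ideal pR' generated by the image of p is principal, then p is principal. (The
second assertion of the published lemma, descent of unique factorization, is not part of this row.) -/
theorem result
    (R R' : Type u) [CommRing R] [CommRing R'] [IsDomain R] [IsDomain R']
    [IsNoetherianRing R] [IsNoetherianRing R'] [IsLocalRing R] [IsLocalRing R']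
    [IsIntegrallyClosed R] [IsIntegrallyClosed R']
    [Algebra R R'] [Module.FaithfullyFlat R R']
    (p : Ideal R) (hp : (p.map (algebraMap R R')).IsPrincipal) :
    p.IsPrincipal := by
  classical
  obtain ⟨x', hx'⟩ := hp
  -- x' ∈ map p
  have hxmem : x' ∈ p.map (algebraMap R R') := by
    rw [hx']; exact Submodule.mem_span_singleton_self x'
  by_cases hx0 : x' = 0
  · -- then map p = ⊥, so p = ⊥
    have hbot : p.map (algebraMap R R') = ⊥ := by
      rw [hx', hx0]; simp
    have : p = ⊥ := by
      rw [← Ideal.comap_map_eq_self_of_faithfullyFlat (B := R') p, hbot]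
      rw [← RingHom.ker_eq_comap_bot]
      exact (RingHom.injective_iff_ker_eq_bot _).1 (FaithfulSMul.algebraMap_injective R R')
    rw [this]; exact bot_isPrincipal
  · -- write x' = Σ b_i a_i
    have hxmem' : x' ∈ Submodule.span R' ((algebraMap R R') '' (p : Set R)) := hxmem
    obtain ⟨t, ht, c, hc⟩ := (Submodule.mem_span_image_iff_exists_fun R').1 hxmem'
    -- each algebraMap a_i = d_i * x'
    have hd : ∀ i : t, ∃ d : R', algebraMap R R' (i : R) = d * x' := by
      intro i
      have : algebraMap R R' (i : R) ∈ p.map (algebraMap R R') :=
        Ideal.mem_map_of_mem _ (ht i.2)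
      rw [hx'] at this
      obtain ⟨d, hd⟩ := Submodule.mem_span_singleton.1 this
      exact ⟨d, hd.symm⟩
    choose d hd using hd
    have hsum : (∑ i, c i * d i) * x' = 1 * x' := by
      rw [Finset.sum_mul, one_mul]
      refine Eq.trans ?_ hc
      refine Finset.sum_congr rfl fun i _ => ?_
      rw [smul_eq_mul, hd i, mul_assoc]
    have hone : ∑ i, c i * d i = 1 := mul_right_cancel₀ hx0 hsum
    -- some c i * d i is a unit
    have hex : ∃ i : t, IsUnit (c i * d i) := by
      by_contra hcon
      push Not at hcon
      have : (∑ i, c i * d i) ∈ IsLocalRing.maximalIdeal R' :=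
        Ideal.sum_mem _ fun i _ => (IsLocalRing.mem_maximalIdeal _).2 (hcon i)
      rw [hone] at this
      exact (IsLocalRing.mem_maximalIdeal _).1 this isUnit_one
    obtain ⟨i, hi⟩ := hex
    have hdi : IsUnit (d i) := isUnit_of_mul_isUnit_right hi
    -- map p = span {algebraMap a_i}
    have hmap : p.map (algebraMap R R') = (Ideal.span {(i : R)}).map (algebraMap R R') := by
      rw [Ideal.map_span, Set.image_singleton, hx']
      apply le_antisymm
      · rw [Ideal.span_le, Set.singleton_subset_iff]
        obtain ⟨e, he⟩ := hdi
        have : x' = (↑e⁻¹ : R') * algebraMap R R' (i : R) := by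
          rw [hd i, ← he, ← mul_assoc, Units.inv_mul, one_mul]
        rw [this]
        exact Ideal.mul_mem_left _ _ (Ideal.subset_span rfl)
      · rw [Ideal.span_le, Set.singleton_subset_iff, hd i]
        exact Ideal.mul_mem_left _ _ (Ideal.subset_span rfl)
    refine ⟨⟨(i : R), ?_⟩⟩
    rw [← Ideal.comap_map_eq_self_of_faithfullyFlat (B := R') p, hmap,
      Ideal.comap_map_eq_self_of_faithfullyFlat]

end Groth.Agent.S17722
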