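import Groth.Statements.S17723
import Mathlib
-- import your own Groth.Agent.* helpers here

set_option autoImplicit false
universe u
open LabGraph

namespace Groth.Agent.S17723

section aux
variable {V E : Type u}

/-- the generating set of elementary-Cartier functions -/
def El (ends : E → V × V) (l : E → ℕ) : Set (V → ℤ) :=
  {g | ∃ n : ℕ, 0 < n ∧ (∀ v, (n : ℤ) ∣ g v) ∧ ∀ e, ¬ (l e ∣ n) → g (ends e).1 = g (ends e).2}

lemma cartier_of_mem_span (ends : E → V × V) (l : E → ℕ) {g : V → ℤ}
    (hg : g ∈ Submodule.span ℤ (El ends l)) : LabGraph.IsCartier ends l g := by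
  induction hg using Submodule.span_induction with
  | mem g hg =>
    obtain ⟨n, hn, h1, h2⟩ := hg
    intro e
    by_cases h : l e ∣ n
    · have : (l e : ℤ) ∣ (n : ℤ) := Int.natCast_dvd_natCast.2 h
      exact dvd_sub (this.trans (h1 _)) (this.trans (h1 _))
    · rw [h2 e h, sub_self]; exact dvd_zero _
  | zero => intro e; simp
  | add x y _ _ hx hy =>
    intro e
    have := dvd_add (hx e) (hy e)
    show _ ∣ x _ + y _ - (x _ + y _)
    rw [add_sub_add_comm]; exact this
  | smul a x _ hx =>
    intro e
    have := (hx e).mul_left a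
    show _ ∣ a * x _ - a * x _
    rw [← mul_sub]; exact this

lemma scale (ends : E → V × V) (l l' : E → ℕ) (c : ℕ) (hc : 0 < c) (h : ∀ e, l e ∣ c * l' e)
    {g : V → ℤ} (hg : g ∈ Submodule.span ℤ (El ends l')) :
    (c : ℤ) • g ∈ Submodule.span ℤ (El ends l) := by
  induction hg using Submodule.span_induction with
  | mem g hg =>
    obtain ⟨n, hn, h1, h2⟩ := hg
    apply Submodule.subset_span
    refine ⟨c * n, Nat.mul_pos hc hn, ?_, ?_⟩
    · intro v
      simp only [Pi.smul_apply, smul_eq_mul, Nat.cast_mul]
      exact mul_dvd_mul_left _ (h1 v)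
    · intro e he
      have : ¬ l' e ∣ n := fun h' => he ((h e).trans (Nat.mul_dvd_mul_left c h'))
      simp only [Pi.smul_apply, smul_eq_mul]
      rw [h2 e this]
  | zero => simp
  | add x y _ _ hx hy => rw [smul_add]; exact Submodule.add_mem _ hx hy
  | smul a x _ hx => rw [smul_comm]; exact Submodule.smul_mem _ _ hx

lemma prime_pow (ends : E → V × V) (p : ℕ) (hp : p.Prime) :
    ∀ (k : ℕ) (l : E → ℕ) (_ : ∀ e, l e ∣ p ^ k) (f : V → ℤ)
      (_ : LabGraph.IsCartier ends l f), f ∈ Submodule.span ℤ (El ends l) := by
  intro k
  induction k with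
  | zero =>
    intro l hl f hf
    apply Submodule.subset_span
    refine ⟨1, one_pos, fun v => by simp, fun e he => absurd (by simpa using hl e) he⟩
  | succ k ih =>
    intro l hl f hf
    set d : V → ℤ := fun v => f v % (p : ℤ) with hd
    have hd_mem : d ∈ Submodule.span ℤ (El ends l) := by
      apply Submodule.subset_span
      refine ⟨1, one_pos, fun v => by simp, fun e he => ?_⟩
      have hpl : p ∣ l e := by
        obtain ⟨j, hj, hje⟩ := (Nat.dvd_prime_pow hp).1 (hl e)
        rw [hje] at he ⊢
        cases j with
        | zero => simp at he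
        | succ j => exact dvd_pow_self p (Nat.succ_ne_zero j)
      have h1 : (p : ℤ) ∣ f (ends e).1 - f (ends e).2 :=
        (Int.natCast_dvd_natCast.2 hpl).trans (hf e)
      exact (Int.emod_emod_of_dvd _ (dvd_refl _)).symm.trans
        ((Int.emod_emod_of_dvd _ (dvd_refl _)).trans (Int.emod_eq_emod_iff_emod_sub_eq_zero.2
          (Int.emod_eq_zero_of_dvd h1)))
    set f1 : V → ℤ := fun v => f v / (p : ℤ) with hf1d
    have hf_eq : f = d + (p : ℤ) • f1 := by
      funext v
      simp only [hd, hf1d, Pi.add_apply, Pi.smul_apply, smul_eq_mul]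
      exact (Int.emod_add_mul_ediv (f v) p).symm
    set l' : E → ℕ := fun e => if p ∣ l e then l e / p else l e with hl'd
    have hl' : ∀ e, l' e ∣ p ^ k := by
      intro e
      obtain ⟨j, hj, hje⟩ := (Nat.dvd_prime_pow hp).1 (hl e)
      simp only [hl'd]
      split_ifs with hpl
      · rw [hje] at hpl ⊢
        cases j with
        | zero => simp at hpl; exact absurd hpl hp.one_lt.ne'
        | succ j =>
          rw [pow_succ, Nat.mul_div_cancel _ hp.pos]
          exact pow_dvd_pow p (by omega)
      · rw [hje] at hpl ⊢
        cases j with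
        | zero => simp
        | succ j => exact absurd (dvd_pow_self p (Nat.succ_ne_zero j)) hpl
    have hll' : ∀ e, l e ∣ p * l' e := by
      intro e
      simp only [hl'd]
      split_ifs with hpl
      · rw [Nat.mul_div_cancel' hpl]
      · exact Dvd.intro_left _ rfl
    have hf1 : LabGraph.IsCartier ends l' f1 := by
      intro e
      have h1 := cartier_of_mem_span ends l hd_mem e
      have h2 : (l e : ℤ) ∣ p * (f1 (ends e).1 - f1 (ends e).2) := by
        have := dvd_sub (hf e) h1
        have ha := congrFun hf_eq (ends e).1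
        have hb := congrFun hf_eq (ends e).2
        simp only [Pi.add_apply, Pi.smul_apply, smul_eq_mul] at ha hb
        have heq : (p : ℤ) * (f1 (ends e).1 - f1 (ends e).2) =
            f (ends e).1 - f (ends e).2 - (d (ends e).1 - d (ends e).2) := by
          rw [ha, hb]; ring
        rw [heq]; exact this
      by_cases hpl : p ∣ l e
      · have h3 : l e = p * l' e := by simp [hl'd, hpl, Nat.mul_div_cancel' hpl]
        rw [h3] at h2
        push_cast at h2
        exact (mul_dvd_mul_iff_left (by exact_mod_cast hp.ne_zero)).1 h2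
      · have h3 : l' e = l e := by simp [hl'd, hpl]
        rw [h3]
        have hcop : IsCoprime (l e : ℤ) (p : ℤ) :=
          Nat.isCoprime_iff_coprime.2 ((Nat.Prime.coprime_iff_not_dvd hp).2 hpl).symm
        exact hcop.dvd_of_dvd_mul_left h2
    rw [hf_eq]
    exact Submodule.add_mem _ hd_mem (scale ends l l' p hp.pos hll' (ih l' hl' f1 hf1))

lemma main (ends : E → V × V) : ∀ N : ℕ, 0 < N → ∀ (l : E → ℕ) (_ : ∀ e, l e ∣ N) (f : V → ℤ)
    (_ : LabGraph.IsCartier ends l f), f ∈ Submodule.span ℤ (El ends l) := by
  intro N
  induction N using Nat.recOnPosPrimePosCoprime with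
  | prime_pow p n hp hn => intro _ l hl f hf; exact prime_pow ends p hp n l hl f hf
  | zero => intro h; exact absurd h (lt_irrefl 0)
  | one =>
    intro _ l hl f hf
    exact prime_pow ends 2 Nat.prime_two 0 l (by simpa using hl) f hf
  | coprime a b ha hb hab iha ihb =>
    intro _ l hl f hf
    set la : E → ℕ := fun e => Nat.gcd (l e) a with hla
    set lb : E → ℕ := fun e => Nat.gcd (l e) b with hlb
    have hfa : LabGraph.IsCartier ends la f := fun e =>
      (Int.natCast_dvd_natCast.2 (Nat.gcd_dvd_left _ _)).trans (hf e)
    have hfb : LabGraph.IsCartier ends lb f := fun e =>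
      (Int.natCast_dvd_natCast.2 (Nat.gcd_dvd_left _ _)).trans (hf e)
    have h1 := iha (by omega) la (fun e => Nat.gcd_dvd_right _ _) f hfa
    have h2 := ihb (by omega) lb (fun e => Nat.gcd_dvd_right _ _) f hfb
    have key : ∀ e, l e ∣ Nat.gcd (l e) a * Nat.gcd (l e) b := by
      intro e
      exact Nat.dvd_gcd_mul_gcd_iff_dvd_mul.2 (hl e)
    have s1 := scale ends l la b (by omega)
      (fun e => (key e).trans (by rw [mul_comm]; exact Nat.mul_dvd_mul_right (Nat.gcd_dvd_right _ _) _)) h1
    have s2 := scale ends l lb a (by omega)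
      (fun e => (key e).trans (Nat.mul_dvd_mul_right (Nat.gcd_dvd_right _ _) _)) h2
    have hbez : (1 : ℤ) = a * Nat.gcdA a b + b * Nat.gcdB a b := by
      have := Nat.gcd_eq_gcd_ab a b
      rw [hab] at this
      exact_mod_cast this
    have hfe : f = (Nat.gcdA a b) • ((a : ℤ) • f) + (Nat.gcdB a b) • ((b : ℤ) • f) := by
      funext v
      simp only [Pi.add_apply, Pi.smul_apply, smul_eq_mul]
      linear_combination (f v) * hbez
    rw [hfe]
    exact Submodule.add_mem _ (Submodule.smul_mem _ _ s2) (Submodule.smul_mem _ _ s1)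

end aux

/-- Let G be a finite connected multigraph with endpoint map ends and edge labels l taking positive
integer values. We say g : V → ℤ is elementary-Cartier if, for some integer n ≥ 1, all values of g
are multiples of n and, for each edge whose label fails to divide n, g agrees at its two endpoints
(equivalently, once the edges with label dividing n are removed, g takes a single value on each
connected piece of what remains). Then every Cartier function f (for each edge, the label divides
the difference of the values of f at its endpoints) lies in the ℤ-span of the elementary-Cartier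
functions. -/
theorem result
    {V E : Type u} [Fintype V] [Fintype E] [DecidableEq V] [DecidableEq E]
    (ends : E → V × V) (l : E → ℕ) (hl : ∀ e, 0 < l e) (hconn : LabGraph.Connected ends)
    (f : V → ℤ) (hf : LabGraph.IsCartier ends l f) :
    f ∈ Submodule.span ℤ {g : V → ℤ | ∃ n : ℕ, 0 < n ∧ (∀ v, (n : ℤ) ∣ g v) ∧
      ∀ e, ¬ (l e ∣ n) → g (ends e).1 = g (ends e).2} := by
  have hN : 0 < ∏ e, l e := Finset.prod_pos (fun e _ => hl e)
  exact main ends (∏ e, l e) hN l (fun e => Finset.dvd_prod_of_mem l (Finset.mem_univ e)) f hf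

end Groth.Agent.S17723
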