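import Groth.Statements.S17724
import Mathlib
import Groth.Agent.Lib.Helper28.GraphJoin
-- import your own Groth.Agent.* helpers here

set_option autoImplicit false
universe u v
open LabGraph

namespace Groth.Agent.S17724

section aux
open Groth.Agent.Lib.helper28.GJ
variable {V E : Type u} [Fintype V] [Fintype E] [DecidableEq V] [DecidableEq E] {L : Type v}

open Classical in
lemma key (ends : E → V × V) (lab : E → L)
    (hcirc : ∀ C : Finset E, LabGraph.IsCircuit ends C → ∀ e ∈ C, ∀ e' ∈ C, lab e = lab e')
    (f g : V → ℤ) (lam : L) {S : Finset E} {e0 : E} (he0 : e0 ∉ S)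
    (hc : SConn ends S (ends e0).1 (ends e0).2)
    (hg : ∀ e ∈ S, g (ends e).1 - g (ends e).2 =
      if lab e = lam then f (ends e).1 - f (ends e).2 else 0) :
    g (ends e0).1 - g (ends e0).2 = if lab e0 = lam then f (ends e0).1 - f (ends e0).2 else 0 := by
  by_cases hab : (ends e0).1 = (ends e0).2
  · rw [hab]; simp
  · obtain ⟨P0, hP0S, hP0⟩ := exists_join ends hc
    let J : Finset (Finset E) :=
      S.powerset.filter (fun Q => IsJoin ends Q (ends e0).1 (ends e0).2)
    have hJ : J.Nonempty := ⟨P0, by simp [J, hP0S, hP0]⟩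
    obtain ⟨P, hPJ, hPmin⟩ := Finset.exists_min_image J Finset.card hJ
    have hPS : P ⊆ S := Finset.mem_powerset.1 (Finset.mem_filter.1 hPJ).1
    have hP : IsJoin ends P (ends e0).1 (ends e0).2 := (Finset.mem_filter.1 hPJ).2
    have hcircuit := circuit_of_min_join ends he0 hPS hP
      (fun Q hQS hQ => hPmin Q (by simp [J, hQS, hQ]))
    have hlab : ∀ e ∈ P, lab e = lab e0 := fun e he =>
      hcirc _ hcircuit e (Finset.mem_insert_of_mem he) e0 (Finset.mem_insert_self _ _)
    have hconnP := conn_of_join ends hab hP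
    by_cases hl : lab e0 = lam
    · rw [if_pos hl]
      have h1 : g (ends e0).1 - f (ends e0).1 = g (ends e0).2 - f (ends e0).2 :=
        const_of_conn ends (h := fun v => g v - f v) (P := P) (fun e he => by
          have h2 := hg e (hPS he)
          rw [if_pos ((hlab e he).trans hl)] at h2
          show g _ - f _ = g _ - f _
          linarith) hconnP
      linarith
    · rw [if_neg hl]
      have h1 := const_of_conn ends (h := g) (P := P) (fun e he => by
        have h2 := hg e (hPS he)
        rw [if_neg (fun h => hl ((hlab e he).symm.trans h))] at h2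
        linarith) hconnP
      linarith

open Classical in
lemma exists_g (ends : E → V × V) (lab : E → L)
    (hcirc : ∀ C : Finset E, LabGraph.IsCircuit ends C → ∀ e ∈ C, ∀ e' ∈ C, lab e = lab e')
    (f : V → ℤ) (lam : L) : ∀ S : Finset E, ∃ g : V → ℤ, ∀ e ∈ S,
      g (ends e).1 - g (ends e).2 = if lab e = lam then f (ends e).1 - f (ends e).2 else 0 := by
  intro S
  induction S using Finset.induction_on with
  | empty => exact ⟨0, fun e he => absurd he (Finset.notMem_empty e)⟩
  | insert e0 S he0 ih =>
    obtain ⟨g, hg⟩ := ih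
    by_cases hc : SConn ends S (ends e0).1 (ends e0).2
    · refine ⟨g, fun e he => ?_⟩
      rcases Finset.mem_insert.1 he with h0 | h
      · rw [h0]; exact key ends lab hcirc f g lam he0 hc hg
      · exact hg e h
    · refine ⟨fun v => g v + if SConn ends S (ends e0).2 v then
        (g (ends e0).1 - g (ends e0).2 -
          (if lab e0 = lam then f (ends e0).1 - f (ends e0).2 else 0)) else 0, fun e he => ?_⟩
      rcases Finset.mem_insert.1 he with h0 | h
      · rw [h0]
        have h1 : ¬ SConn ends S (ends e0).2 (ends e0).1 := fun h => hc (sConn_symm ends S h)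
        have h2 : SConn ends S (ends e0).2 (ends e0).2 := Relation.ReflTransGen.refl
        simp only [if_neg h1, if_pos h2]
        ring
      · have hiff := sConn_iff_edge ends S h (ends e0).2
        by_cases h1 : SConn ends S (ends e0).2 (ends e).1
        · simp only [if_pos h1, if_pos (hiff.1 h1)]
          rw [← hg e h]; ring
        · simp only [if_neg h1, if_neg (fun h' => h1 (hiff.2 h'))]
          rw [← hg e h]; ring

open Classical in
lemma decomp (ends : E → V × V) (lab : E → L) (n : E → ℕ)
    (hcirc : ∀ C : Finset E, LabGraph.IsCircuit ends C → ∀ e ∈ C, ∀ e' ∈ C, lab e = lab e')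
    (f : V → ℤ) (hf : LabGraph.IsCartier ends n f) (v0 : V) :
    ∃ (Λ : Finset L) (G : L → V → ℤ) (r : V → ℤ), f = r + ∑ lam ∈ Λ, G lam ∧ r v0 = f v0 ∧
      (∀ e, r (ends e).1 = r (ends e).2) ∧
      ∀ lam ∈ Λ, (LabGraph.IsCartier ends n (G lam) ∧
        (∃ B : Finset E, (∀ e ∈ B, ∀ e' ∈ B, lab e = lab e') ∧
          ∀ e, e ∉ B → G lam (ends e).1 = G lam (ends e).2) ∧ G lam v0 = 0) := by
  choose g0 hg0 using fun lam => exists_g ends lab hcirc f lam Finset.univ
  set G : L → V → ℤ := fun lam v => g0 lam v - g0 lam v0 with hG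
  have hGinc : ∀ lam e, G lam (ends e).1 - G lam (ends e).2 =
      if lab e = lam then f (ends e).1 - f (ends e).2 else 0 := by
    intro lam e
    rw [← hg0 lam e (Finset.mem_univ e)]
    simp only [hG]; ring
  set Λ : Finset L := Finset.univ.image lab with hΛ
  refine ⟨Λ, G, f - ∑ lam ∈ Λ, G lam, (sub_add_cancel _ _).symm, ?_, ?_, ?_⟩
  · simp only [Pi.sub_apply, Finset.sum_apply, hG, sub_self, Finset.sum_const_zero, sub_zero]
  · intro e
    have h1 : ∑ lam ∈ Λ, (G lam (ends e).1 - G lam (ends e).2) = f (ends e).1 - f (ends e).2 := by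
      simp only [hGinc]
      rw [Finset.sum_ite_eq Λ (lab e) (fun _ => f (ends e).1 - f (ends e).2)]
      rw [if_pos (by simp [hΛ])]
    rw [Finset.sum_sub_distrib] at h1
    simp only [Pi.sub_apply, Finset.sum_apply]
    linarith
  · intro lam _
    refine ⟨fun e => ?_, ⟨Finset.univ.filter (fun e => lab e = lam), ?_, ?_⟩, ?_⟩
    · rw [hGinc]
      split_ifs
      · exact hf e
      · exact dvd_zero _
    · intro e he e' he'
      rw [(Finset.mem_filter.1 he).2, (Finset.mem_filter.1 he').2]
    · intro e he
      have h1 : ¬ lab e = lam := fun h => he (by simp [h])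
      have h2 := hGinc lam e
      rw [if_neg h1] at h2
      linarith
    · simp only [hG, sub_self]

end aux

/-- Let G be a finite connected multigraph with endpoint map ends, whose edges carry labels lab in a set
L and positive integer labels n, and suppose the L-labels are constant along every circuit. Say g :
V → ℤ is pre-achievable when for some finite set B of edges all carrying the same L-label, g takes
equal values at the two endpoints of every edge outside B (so g is constant on the connected
components of the graph with B deleted); say g is Cartier when for every edge e the integer n(e)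
divides the difference of the values of g at its endpoints. Then every Cartier function f is a
finite sum of functions each of which is Cartier and pre-achievable, and when f vanishes at a vertex
v₀ the summands can all be taken to vanish at v₀. -/
theorem result
    {V E : Type u} [Fintype V] [Fintype E] [DecidableEq V] [DecidableEq E] {L : Type v}
    (ends : E → V × V) (lab : E → L) (n : E → ℕ) (hn : ∀ e, 0 < n e)
    (hconn : LabGraph.Connected ends)
    (hcirc : ∀ C : Finset E, LabGraph.IsCircuit ends C → ∀ e ∈ C, ∀ e' ∈ C, lab e = lab e')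
    (f : V → ℤ) (hf : LabGraph.IsCartier ends n f) :
    f ∈ AddSubmonoid.closure {g : V → ℤ | LabGraph.IsCartier ends n g ∧ (∃ B : Finset E, (∀ e ∈ B, ∀ e' ∈ B, lab e = lab e') ∧ ∀ e, e ∉ B → g (ends e).1 = g (ends e).2)} ∧
    ∀ v₀ : V, f v₀ = 0 →
      f ∈ AddSubmonoid.closure {g : V → ℤ | LabGraph.IsCartier ends n g ∧ (∃ B : Finset E, (∀ e ∈ B, ∀ e' ∈ B, lab e = lab e') ∧ ∀ e, e ∉ B → g (ends e).1 = g (ends e).2) ∧ g v₀ = 0} := by
  obtain ⟨v1⟩ := hconn.1
  have mk : ∀ v0 : V, f v0 = 0 →
      f ∈ AddSubmonoid.closure {g : V → ℤ | LabGraph.IsCartier ends n g ∧ (∃ B : Finset E, (∀ e ∈ B, ∀ e' ∈ B, lab e = lab e') ∧ ∀ e, e ∉ B → g (ends e).1 = g (ends e).2) ∧ g v0 = 0} := by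
    intro v0 hv0
    obtain ⟨Λ, G, r, hfe, hr0, hre, hGm⟩ := decomp ends lab n hcirc f hf v0
    rw [hfe]
    refine AddSubmonoid.add_mem _ (AddSubmonoid.subset_closure ?_)
      (AddSubmonoid.sum_mem _ (fun lam hlam => AddSubmonoid.subset_closure (hGm lam hlam)))
    refine ⟨fun e => ?_, ⟨∅, fun e he => absurd he (Finset.notMem_empty e), fun e _ => hre e⟩, ?_⟩
    · rw [hre e, sub_self]; exact dvd_zero _
    · rw [hr0, hv0]
  refine ⟨?_, mk⟩
  obtain ⟨Λ, G, r, hfe, hr0, hre, hGm⟩ := decomp ends lab n hcirc f hf v1
  rw [hfe]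
  refine AddSubmonoid.add_mem _ (AddSubmonoid.subset_closure ?_)
    (AddSubmonoid.sum_mem _ (fun lam hlam => AddSubmonoid.subset_closure
      ⟨(hGm lam hlam).1, (hGm lam hlam).2.1⟩))
  refine ⟨fun e => ?_, ⟨∅, fun e he => absurd he (Finset.notMem_empty e), fun e _ => hre e⟩⟩
  rw [hre e, sub_self]; exact dvd_zero _

end Groth.Agent.S17724
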