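import Groth.Statements.S17725
-- import your own Groth.Agent.* helpers here

set_option autoImplicit false
universe u
open SpecSp

namespace Groth.Agent.S17725

/-- In a quasi-sober space with finitely many irreducible components, a set saturated for the
equivalence relation generated by specialization is closed. -/
theorem isClosed_of_saturated {X : Type u} [TopologicalSpace X] [QuasiSober X]
    (hfin : (irreducibleComponents X).Finite) (T : Set X)
    (hT : ∀ x y : X, x ∈ T → Relation.EqvGen (fun x y : X => x ⤳ y) x y → y ∈ T) :
    IsClosed T := by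
  have : T = ⋃ Z ∈ {Z ∈ irreducibleComponents X | (Z ∩ T).Nonempty}, Z := by
    ext x
    simp only [Set.mem_iUnion, Set.mem_sep_iff, exists_prop]
    constructor
    · intro hx
      exact ⟨irreducibleComponent x, ⟨irreducibleComponent_mem_irreducibleComponents x,
        ⟨x, mem_irreducibleComponent, hx⟩⟩, mem_irreducibleComponent⟩
    · rintro ⟨Z, ⟨hZ, ⟨z, hzZ, hzT⟩⟩, hxZ⟩
      obtain ⟨η, hη⟩ := QuasiSober.sober hZ.1 (isClosed_of_mem_irreducibleComponents Z hZ)
      have h1 : η ⤳ z := specializes_iff_mem_closure.mpr (hη.def ▸ hzZ)
      have h2 : η ⤳ x := specializes_iff_mem_closure.mpr (hη.def ▸ hxZ)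
      exact hT z x hzT
        (Relation.EqvGen.trans _ _ _ (Relation.EqvGen.symm _ _ (Relation.EqvGen.rel _ _ h1))
          (Relation.EqvGen.rel _ _ h2))
  rw [this]
  exact (hfin.subset (Set.sep_subset _ _)).isClosed_biUnion fun Z hZ =>
    isClosed_of_mem_irreducibleComponents Z hZ.1

theorem eqvGen_specializes_of_noetherian {X : Type u} [TopologicalSpace X] [QuasiSober X]
    [TopologicalSpace.NoetherianSpace X] [PreconnectedSpace X] (p q : X) :
    Relation.EqvGen (fun x y : X => x ⤳ y) p q := by
  have hfin := TopologicalSpace.NoetherianSpace.finite_irreducibleComponents (α := X)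
  let S : Set X := {x | Relation.EqvGen (fun x y : X => x ⤳ y) p x}
  have hS1 : IsClosed S := isClosed_of_saturated hfin S fun x y hx hxy =>
    Relation.EqvGen.trans _ _ _ hx hxy
  have hS2 : IsClosed Sᶜ := isClosed_of_saturated hfin Sᶜ fun x y hx hxy hy =>
    hx (Relation.EqvGen.trans _ _ _ hy (Relation.EqvGen.symm _ _ hxy))
  have hclopen : IsClopen S := ⟨hS1, isClosed_compl_iff.mp hS2⟩
  have := hclopen.eq_univ ⟨p, Relation.EqvGen.refl p⟩
  exact (this ▸ Set.mem_univ q : q ∈ S)

open AlgebraicGeometry in
/-- In a connected Noetherian scheme any two points p, q are linked by a finite chain of points p = x₁,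
…, xₙ = q such that for each i one of x_i, x_{i+1} is a specialization of the other; equivalently, p
and q are related by the equivalence relation generated by the specialization relation. -/
theorem result
    (X : Scheme.{u}) [IsNoetherian X] [ConnectedSpace X] (p q : X) :
    Relation.EqvGen (fun x y : X => x ⤳ y) p q := by
  exact eqvGen_specializes_of_noetherian (X := ↥X) p q

end Groth.Agent.S17725
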