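import Groth.Statements.S17726
import Mathlib.RingTheory.Ideal.Operations
import Mathlib.Algebra.Ring.NonZeroDivisors
import Mathlib.Tactic.Ring
import Mathlib.Tactic.Linarith

set_option autoImplicit false
universe u
open CAlg

namespace Groth.Agent.S17726

lemma pow_inj_of_span {A : Type*} [CommRing A] (f : A) (hf : f ∈ nonZeroDivisors A)
    (hu : ¬ IsUnit f) (a b : ℕ) (h : Ideal.span {f ^ a} = Ideal.span {f ^ b}) : a = b := by
  wlog hab : a ≤ b generalizing a b
  · exact (this b a h.symm (le_of_not_ge hab)).symm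
  by_contra hne
  have hlt : a < b := lt_of_le_of_ne hab hne
  have h1 : f ^ a ∈ Ideal.span {f ^ b} := h ▸ Ideal.subset_span (Set.mem_singleton _)
  obtain ⟨u, hu'⟩ := Ideal.mem_span_singleton'.mp h1
  have hb : b = a + (b - a) := by omega
  have h2 : f ^ a * (u * f ^ (b - a)) = f ^ a * 1 := by
    rw [mul_one]
    conv_rhs => rw [← hu', hb, pow_add]
    ring
  have hfa : f ^ a ∈ nonZeroDivisors A := pow_mem hf a
  have h3 : u * f ^ (b - a) = 1 := (mul_cancel_left_mem_nonZeroDivisors hfa).mp h2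
  have h4 : IsUnit (f ^ (b - a)) := IsUnit.of_mul_eq_one u (by rw [mul_comm]; exact h3)
  exact hu ((isUnit_pow_iff (by omega)).mp h4)

/-- Let f and g be non-zero-divisors of a commutative ring A, not both units; think of them as local
equations, at a point of the union of the supports, of two effective Cartier divisors E and D. If
the ideals generated by g^{m₁} and f^{n₁} coincide, and likewise for g^{m₂} and f^{n₂}, then m₁ n₂ =
m₂ n₁. So all pairs (m, n) with m D = n E locally at the point are proportional, and the saturation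
of the monoid they form is generated by a single element. -/
theorem result
    (A : Type u) [CommRing A] (f g : A)
    (hf : f ∈ nonZeroDivisors A) (hg : g ∈ nonZeroDivisors A) (hfg : ¬ (IsUnit f ∧ IsUnit g))
    (m₁ n₁ m₂ n₂ : ℕ)
    (h₁ : Ideal.span {g ^ m₁} = Ideal.span {f ^ n₁})
    (h₂ : Ideal.span {g ^ m₂} = Ideal.span {f ^ n₂}) :
    m₁ * n₂ = m₂ * n₁ := by
  have key : ∀ (x y : A) (a b c : ℕ), Ideal.span {x ^ a} = Ideal.span {y ^ b} →
      Ideal.span {x ^ (a * c)} = Ideal.span {y ^ (b * c)} := by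
    intro x y a b c h
    rw [pow_mul, pow_mul, ← Ideal.span_singleton_pow (x ^ a) c,
      ← Ideal.span_singleton_pow (y ^ b) c, h]
  have e1 : Ideal.span {g ^ (m₁ * n₂)} = Ideal.span {f ^ (n₁ * n₂)} := key g f m₁ n₁ n₂ h₁
  have e2 : Ideal.span {g ^ (m₂ * n₁)} = Ideal.span {f ^ (n₁ * n₂)} := by
    rw [mul_comm n₁ n₂]; exact key g f m₂ n₂ n₁ h₂
  have e3 : Ideal.span {g ^ (m₁ * m₂)} = Ideal.span {f ^ (n₁ * m₂)} := key g f m₁ n₁ m₂ h₁
  have e4 : Ideal.span {g ^ (m₁ * m₂)} = Ideal.span {f ^ (n₂ * m₁)} := by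
    rw [mul_comm m₁ m₂]; exact key g f m₂ n₂ m₁ h₂
  by_cases hgu : IsUnit g
  · have hfu : ¬ IsUnit f := fun h => hfg ⟨h, hgu⟩
    have := pow_inj_of_span f hf hfu _ _ (e3.symm.trans e4)
    calc m₁ * n₂ = n₂ * m₁ := mul_comm _ _
      _ = n₁ * m₂ := this.symm
      _ = m₂ * n₁ := mul_comm _ _
  · exact pow_inj_of_span g hg hgu _ _ (e1.trans e2.symm)

end Groth.Agent.S17726
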