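import Groth.Statements.S17727
import Mathlib

set_option autoImplicit false
universe u
open Neron

namespace Groth.Agent.S17727

open CategoryTheory CategoryTheory.Limits AlgebraicGeometry

section Aux

variable {E S : Scheme.{u}} (f : E ⟶ S) (U : S.Opens)
  (hiso : IsIso (morphismRestrict f U)) (σ : S ⟶ E) (hσ : σ ≫ f = 𝟙 S)

include hiso hσ in
/-- over `f⁻¹ U` the composite `f ≫ σ` is the identity -/
theorem ι_comp_f_comp_σ : (f ⁻¹ᵁ U).ι ≫ f ≫ σ = (f ⁻¹ᵁ U).ι := by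
  have hrange : Set.range (((f ⁻¹ᵁ U).ι ≫ f ≫ σ)) ⊆ Set.range ((f ⁻¹ᵁ U).ι) := by
    rintro _ ⟨y, rfl⟩
    rw [Scheme.Opens.range_ι]
    show f (((f ⁻¹ᵁ U).ι ≫ f ≫ σ) y) ∈ U
    have h1 : f (((f ⁻¹ᵁ U).ι ≫ f ≫ σ) y) = (((f ⁻¹ᵁ U).ι ≫ f) ≫ (σ ≫ f)) y := by
      simp only [Scheme.Hom.comp_apply, Category.assoc]
    rw [h1, hσ, Category.comp_id]
    exact y.2
  let ρ : (f ⁻¹ᵁ U : Scheme.{u}) ⟶ (f ⁻¹ᵁ U : Scheme.{u}) :=
    IsOpenImmersion.lift (f ⁻¹ᵁ U).ι ((f ⁻¹ᵁ U).ι ≫ f ≫ σ) hrange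
  have hρ : ρ ≫ (f ⁻¹ᵁ U).ι = (f ⁻¹ᵁ U).ι ≫ f ≫ σ := IsOpenImmersion.lift_fac _ _ _
  have h2 : ρ ≫ (f ∣_ U) = f ∣_ U := by
    rw [← cancel_mono U.ι, Category.assoc, morphismRestrict_ι, ← Category.assoc, hρ]
    simp only [Category.assoc]
    rw [hσ, Category.comp_id]
  have h3 : ρ = 𝟙 _ := by
    haveI := hiso
    rw [← cancel_mono (f ∣_ U), h2, Category.id_comp]
  rw [← hρ, h3, Category.id_comp]

include hiso hσ in
theorem appLE_injective (hdense : CInt.IsSchematicallyDense (f ⁻¹ᵁ U))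
    (W : E.Opens) (V : S.Opens) (e₁ : V ≤ σ ⁻¹ᵁ W) (e₂ : W ≤ f ⁻¹ᵁ V) :
    Function.Injective (σ.appLE W V e₁) := by
  rw [injective_iff_map_eq_zero]
  intro b hb
  apply (injective_iff_map_eq_zero _).mp (hdense W)
  set ι := (f ⁻¹ᵁ U).ι with hι
  -- `ι.appLE W (ι⁻¹W) b = 0`
  have key : ∀ (h : (f ⁻¹ᵁ U : Scheme.{u}) ⟶ E) (_ : h = ι ≫ f ≫ σ) (e3 : ι ⁻¹ᵁ W ≤ h ⁻¹ᵁ W),
      h.appLE W (ι ⁻¹ᵁ W) e3 b = 0 := by
    rintro _ rfl e3
    have e4 : ι ⁻¹ᵁ W ≤ ι ⁻¹ᵁ W := le_rfl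
    have e5 : W ≤ (f ≫ σ) ⁻¹ᵁ W := fun x hx => e₁ (e₂ hx)
    have h1 : (ι ≫ f ≫ σ).appLE W (ι ⁻¹ᵁ W) e3 =
        (f ≫ σ).appLE W W e5 ≫ ι.appLE W (ι ⁻¹ᵁ W) e4 := by
      rw [Scheme.Hom.appLE_comp_appLE]
    have h2 : (f ≫ σ).appLE W W e5 = σ.appLE W V e₁ ≫ f.appLE V W e₂ := by
      rw [Scheme.Hom.appLE_comp_appLE]
    rw [h1, h2]
    simp only [CommRingCat.comp_apply]
    rw [hb, map_zero, map_zero]
  have h0 := key ι (ι_comp_f_comp_σ f U hiso σ hσ).symm le_rfl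
  rw [Scheme.Opens.ι_appLE] at h0
  have h4 : W ⊓ f ⁻¹ᵁ U ≤ ι ''ᵁ ι ⁻¹ᵁ W := by
    intro x hx
    exact ⟨⟨x, hx.2⟩, hx.1, rfl⟩
  have h5 : E.presheaf.map (homOfLE (inf_le_left : W ⊓ f ⁻¹ᵁ U ≤ W)).op =
      E.presheaf.map (homOfLE (x := ι ''ᵁ ι ⁻¹ᵁ W) (Set.image_subset_iff.mpr le_rfl)).op ≫
        E.presheaf.map (homOfLE h4).op := by
    rw [← Functor.map_comp]; rfl
  rw [h5, CommRingCat.comp_apply]
  exact Eq.trans (congrArg (fun z => (ConcreteCategory.hom (E.presheaf.map (homOfLE h4).op)) z) h0)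
    (map_zero _)

end Aux


open CategoryTheory AlgebraicGeometry in
/-- Let f : E → S be a morphism of schemes and U ⊆ S a schematically dense open subscheme such that f
restricts to an isomorphism over U and the preimage of U is schematically dense in E. Then for every
section σ of f and every point s of S there is an open neighbourhood W of σ(s) in E on which f
restricts to an open immersion. (The published statements conclude that the section lands in the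
étale locus of f, in one published form for an algebraic space E, in another for f locally of finite
type over a Noetherian base; the affine-local argument gives the sharper conclusion recorded here,
for schemes.) -/
theorem result
    {E S : Scheme.{u}} (f : E ⟶ S) (U : S.Opens) (hU : CInt.IsSchematicallyDense U)
    (hiso : IsIso (morphismRestrict f U)) (hdense : CInt.IsSchematicallyDense (f ⁻¹ᵁ U))
    (σ : S ⟶ E) (hσ : σ ≫ f = 𝟙 S) (s : S) :
    ∃ W : E.Opens, σ.base s ∈ W ∧ IsOpenImmersion (W.ι ≫ f) := by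
  -- affine opens
  obtain ⟨_, ⟨V, hV, rfl⟩, hsV, -⟩ := S.isBasis_affineOpens.exists_subset_of_mem_open
    (Set.mem_univ s) isOpen_univ
  have hfs : f (σ s) = s := by
    have := congrArg (fun h : S ⟶ S => h s) hσ
    simpa using this
  have hmem : σ s ∈ f ⁻¹ᵁ V := by
    show f (σ s) ∈ V
    rw [hfs]; exact hsV
  obtain ⟨_, ⟨W', hW', rfl⟩, hsW', hW'V⟩ := E.isBasis_affineOpens.exists_subset_of_mem_open
    hmem (f ⁻¹ᵁ V).2
  have hW'V' : W' ≤ f ⁻¹ᵁ V := hW'V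
  obtain ⟨a, ha1, ha2⟩ := hV.exists_basicOpen_le (V := V ⊓ σ ⁻¹ᵁ W') ⟨s, hsV, hsW'⟩ hsV
  set V'' : S.Opens := S.basicOpen a with hV''
  have hV''aff : IsAffineOpen V'' := hV.basicOpen a
  set W : E.Opens := E.basicOpen (E.presheaf.map (homOfLE hW'V').op (f.app V a)) with hWdef
  have hWaff : IsAffineOpen W := hW'.basicOpen _
  have hWeq : W = W' ⊓ f ⁻¹ᵁ V'' := by
    rw [hWdef, Scheme.basicOpen_res, Scheme.preimage_basicOpen]
  have hsW : σ s ∈ W := by
    rw [hWeq]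
    refine ⟨hsW', ?_⟩
    show f (σ s) ∈ V''
    rw [hfs]; exact ha2
  have e₂ : W ≤ f ⁻¹ᵁ V'' := by rw [hWeq]; exact inf_le_right
  have e₁ : V'' ≤ σ ⁻¹ᵁ W := by
    intro v hv
    show σ v ∈ W
    rw [hWeq]
    refine ⟨(ha1 hv).2, ?_⟩
    show f (σ v) ∈ V''
    have : f (σ v) = v := by
      have := congrArg (fun h : S ⟶ S => h v) hσ
      simpa using this
    rw [this]; exact hv
  haveI : IsAffine (W : Scheme.{u}) := hWaff
  haveI : IsAffine (V'' : Scheme.{u}) := hV''aff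
  let fW : (W : Scheme.{u}) ⟶ (V'' : Scheme.{u}) := f.resLE V'' W e₂
  let σW : (V'' : Scheme.{u}) ⟶ (W : Scheme.{u}) := σ.resLE W V'' e₁
  have hcomp : σW ≫ fW = 𝟙 _ := by
    rw [← cancel_mono V''.ι, Category.assoc, Scheme.Hom.resLE_comp_ι, Scheme.Hom.resLE_comp_ι_assoc,
      hσ, Category.comp_id, Category.id_comp]
  haveI : IsSeparated fW := inferInstance
  haveI : IsClosedImmersion (σW ≫ fW) := by rw [hcomp]; infer_instance
  haveI : IsClosedImmersion σW := IsClosedImmersion.of_comp σW fW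
  have hinj := appLE_injective f U hiso σ hσ hdense W V'' e₁ e₂
  have hker : σW.ker = ⊥ := by
    apply Scheme.IdealSheafData.ext_of_isAffine
    rw [Scheme.Hom.ker_apply, Scheme.IdealSheafData.ideal_bot, Pi.bot_apply, ← le_bot_iff]
    intro x hx
    rw [RingHom.mem_ker] at hx
    have h1 : (σW.app ⊤) = W.topIso.hom ≫ σ.appLE W V'' e₁ ≫ V''.topIso.inv :=
      Scheme.Hom.resLE_app_top σ e₁
    have h2 : (σW.app ⊤).hom x = 0 := hx
    rw [h1] at h2
    have h2' : V''.topIso.inv.hom ((σ.appLE W V'' e₁).hom (W.topIso.hom.hom x)) = 0 := h2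
    have h3 : (σ.appLE W V'' e₁).hom (W.topIso.hom.hom x) = 0 :=
      (ConcreteCategory.bijective_of_isIso V''.topIso.inv).1 (by
        show V''.topIso.inv.hom _ = V''.topIso.inv.hom 0
        rw [h2', map_zero])
    have h4 : W.topIso.hom.hom x = 0 := hinj (by
      show (σ.appLE W V'' e₁).hom _ = (σ.appLE W V'' e₁).hom 0
      rw [h3, map_zero])
    exact (ConcreteCategory.bijective_of_isIso W.topIso.hom).1 (by
      show W.topIso.hom.hom x = W.topIso.hom.hom 0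
      rw [h4, map_zero])
  haveI : IsIso σW := IsClosedImmersion.isIso_iff_ker_eq_bot.mpr hker
  haveI : IsIso fW := by
    have : fW = inv σW := by
      rw [← cancel_epi σW, hcomp, IsIso.hom_inv_id]
    rw [this]; infer_instance
  refine ⟨W, hsW, ?_⟩
  rw [← Scheme.Hom.resLE_comp_ι f e₂]
  infer_instance

end Groth.Agent.S17727
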