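import Groth.Statements.S17730
-- import your own Groth.Agent.* helpers here
import Groth.Agent.Lib.Helper9.SmBranch3
import Groth.Agent.Lib.Helper17.GorStrictHens
import Groth.Agent.Lib.Helper22.StrictHensTensor
import Groth.Agent.Lib.Helper24.SmoothReduced
import Groth.Agent.Lib.Helper24.HensReduced
import Groth.Agent.Lib.Helper24.FixedFieldHensel
import Groth.Agent.Lib.Helper12.HenselUniv

set_option backward.isDefEq.respectTransparency false
set_option linter.style.haveILetI false

set_option autoImplicit false
universe u
open Hensel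

namespace Groth.Agent.S17730

open IsLocalRing in
/-- Let R be a Noetherian local ring which is strictly henselian (henselian with separably closed
residue field), Δ a prime element of R, R' a smooth R-algebra, q a prime ideal of R' containing the
image of the maximal ideal of R, and T a strict henselization of the localization R'_q. Then the
image of Δ in T is a prime element of T. (This is the published statement, that a prime element of
the étale local ring of the base at a geometric point remains prime in the étale local ring of a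
smooth scheme over it at a geometric point above, written for the base the spectrum of R; the
published hypothesis that the base be smooth-factorial, meaning that all its smooth schemes are
locally factorial, is not used by the argument and is omitted; R is taken Noetherian, which the
published statement does not state and the argument requires.) -/
theorem result
    (R R' T : Type u) [CommRing R] [IsNoetherianRing R] [HenselianLocalRing R]
    [IsSepClosed (ResidueField R)]
    [CommRing R'] [Algebra R R'] [Algebra.Smooth R R']
    (q : Ideal R') [q.IsPrime] (hq : (maximalIdeal R).map (algebraMap R R') ≤ q)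
    [CommRing T] [IsLocalRing T] [Algebra (Localization.AtPrime q) T]
    [IsLocalHom (algebraMap (Localization.AtPrime q) T)]
    [Hensel.IsStrictHenselization (Localization.AtPrime q) T]
    (Δ : R) (hΔ : Prime Δ) :
    Prime (algebraMap (Localization.AtPrime q) T
      (algebraMap R' (Localization.AtPrime q) (algebraMap R R' Δ))) := by
  classical
  have hΔm : Δ ∈ maximalIdeal R := (IsLocalRing.mem_maximalIdeal _).2 hΔ.not_isUnit
  obtain ⟨I₀, hI₀⟩ : ∃ I₀ : Ideal R, I₀ = Ideal.span {Δ} := ⟨_, rfl⟩
  haveI hI₀p : I₀.IsPrime := hI₀ ▸ (Ideal.span_singleton_prime hΔ.ne_zero).2 hΔ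
  have hI₀le : I₀ ≤ maximalIdeal R := hI₀ ▸ (Ideal.span_singleton_le_iff_mem _).2 hΔm
  -- Step 1: the quotient `R ⧸ I₀` is a strictly henselian local domain
  haveI : IsDomain (R ⧸ I₀) := Ideal.Quotient.isDomain I₀
  haveI : IsLocalRing (R ⧸ I₀) :=
    IsLocalRing.of_surjective' (Ideal.Quotient.mk I₀) Ideal.Quotient.mk_surjective
  haveI hhens : HenselianLocalRing (R ⧸ I₀) :=
    Groth.Agent.Lib.helper12.henselianLocalRing_of_surjective (Ideal.Quotient.mk I₀)
      Ideal.Quotient.mk_surjective
  haveI hlmk : IsLocalHom (Ideal.Quotient.mk I₀) :=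
    IsLocalHom.of_surjective _ Ideal.Quotient.mk_surjective
  have hρ : Function.Bijective (ResidueField.map (Ideal.Quotient.mk I₀)) := by
    refine ⟨RingHom.injective _, fun x => ?_⟩
    obtain ⟨y, rfl⟩ := IsLocalRing.residue_surjective x
    obtain ⟨z, rfl⟩ := Ideal.Quotient.mk_surjective y
    exact ⟨residue R z, rfl⟩
  haveI : IsSepClosed (ResidueField (R ⧸ I₀)) :=
    Groth.Agent.Lib.Helper24.FixedFieldHensel.isSepClosed_of_ringEquiv
      (RingEquiv.ofBijective _ hρ)
  -- Step 2: it has one geometric branch
  have hnb : Brnch.numGeomBranches (R ⧸ I₀) = 1 := by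
    have h1 := @Groth.Agent.S9238.result (R ⧸ I₀) (R ⧸ I₀) _ _ _ _ (Algebra.id _)
      ⟨fun _ ha => ha⟩
      (Groth.Agent.Lib.Helper22.StrictHensTensor.isStrictHenselization_self (R ⧸ I₀))
    rw [← h1]
    show (minimalPrimes (R ⧸ I₀)).encard = 1
    rw [IsDomain.minimalPrimes_eq_singleton_bot, Set.encard_singleton]
  -- Step 3: the smooth quotient algebra
  obtain ⟨J, hJ⟩ : ∃ J : Ideal R', J = I₀.map (algebraMap R R') := ⟨_, rfl⟩
  subst hJ
  have hJq : I₀.map (algebraMap R R') ≤ q :=
    (Ideal.map_mono hI₀le).trans hq
  haveI hsm : Algebra.Smooth (R ⧸ I₀) (R' ⧸ I₀.map (algebraMap R R')) :=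
    .of_equiv (Algebra.TensorProduct.quotIdealMapEquivQuotTensor R' I₀).symm
  haveI hred : IsReduced (R' ⧸ I₀.map (algebraMap R R')) :=
    Groth.Agent.Lib.Helper24.SmoothReduced.isReduced_of_smooth (R ⧸ I₀) _
  obtain ⟨qb, hqb⟩ : ∃ qb : Ideal (R' ⧸ I₀.map (algebraMap R R')),
      qb = q.map (Ideal.Quotient.mk (I₀.map (algebraMap R R'))) := ⟨_, rfl⟩
  haveI hqbp : qb.IsPrime := by
    rw [hqb]
    exact Ideal.map_isPrime_of_surjective Ideal.Quotient.mk_surjective
      (by rw [Ideal.mk_ker]; exact hJq)
  have hmemqb : ∀ x : R', Ideal.Quotient.mk (I₀.map (algebraMap R R')) x ∈ qb ↔ x ∈ q := by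
    intro x
    rw [hqb]
    constructor
    · intro hx
      rw [Ideal.mem_map_iff_of_surjective _ Ideal.Quotient.mk_surjective] at hx
      obtain ⟨y, hy, hxy⟩ := hx
      have h1 : x - y ∈ I₀.map (algebraMap R R') := by
        rw [← Ideal.Quotient.eq]; exact hxy.symm
      have h2 : x = (x - y) + y := by ring
      rw [h2]
      exact q.add_mem (hJq h1) hy
    · intro hx
      exact Ideal.mem_map_of_mem _ hx
  have hunder : qb.under (R ⧸ I₀) = maximalIdeal (R ⧸ I₀) := by
    refine le_antisymm (IsLocalRing.le_maximalIdeal (Ideal.IsPrime.ne_top inferInstance)) ?_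
    intro x hx
    obtain ⟨r, rfl⟩ := Ideal.Quotient.mk_surjective x
    have hr : r ∈ maximalIdeal R := by
      rw [IsLocalRing.mem_maximalIdeal] at hx ⊢
      intro hu
      exact hx (hu.map _)
    show algebraMap (R ⧸ I₀) (R' ⧸ I₀.map (algebraMap R R')) (Ideal.Quotient.mk I₀ r) ∈ qb
    have h1 : algebraMap (R ⧸ I₀) (R' ⧸ I₀.map (algebraMap R R')) (Ideal.Quotient.mk I₀ r) =
        Ideal.Quotient.mk (I₀.map (algebraMap R R')) (algebraMap R R' r) := rfl
    rw [h1, hmemqb]
    exact hq (Ideal.mem_map_of_mem _ hr)
  have hnb2 : Brnch.numGeomBranches (Localization.AtPrime qb) = 1 := by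
    rw [Groth.Agent.Lib.helper9.SmBranch.numGeomBranches_localization_eq_of_smooth
      (R := R ⧸ I₀) (S := R' ⧸ I₀.map (algebraMap R R')) qb, ← hnb]
    let e₂ : (R ⧸ I₀) ≃ₐ[R ⧸ I₀] Localization.AtPrime (qb.under (R ⧸ I₀)) :=
      IsLocalization.atUnits (R ⧸ I₀) (qb.under (R ⧸ I₀)).primeCompl
        (fun x hx => by
          by_contra hnu
          apply hx
          show x ∈ qb.under (R ⧸ I₀)
          rw [hunder]
          exact (IsLocalRing.mem_maximalIdeal x).2 hnu)
    exact (Groth.Agent.Lib.helper9.SmBranch.numGeomBranches_eq_of_ringEquiv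
      e₂.toRingEquiv).symm
  -- Step 4: the quotient of the localization
  obtain ⟨I, hI⟩ : ∃ I : Ideal (Localization.AtPrime q),
      I = (I₀.map (algebraMap R R')).map (algebraMap R' (Localization.AtPrime q)) := ⟨_, rfl⟩
  subst hI
  have hM : Algebra.algebraMapSubmonoid (R' ⧸ I₀.map (algebraMap R R')) q.primeCompl =
      qb.primeCompl := by
    ext x
    constructor
    · rintro ⟨y, hy, rfl⟩
      show ¬ (algebraMap R' (R' ⧸ I₀.map (algebraMap R R')) y ∈ qb)
      intro h1
      exact hy ((hmemqb y).1 h1)
    · intro hx
      obtain ⟨y, rfl⟩ := Ideal.Quotient.mk_surjective x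
      refine ⟨y, ?_, rfl⟩
      intro hy
      exact hx ((hmemqb y).2 hy)
  haveI hlocq : IsLocalization qb.primeCompl (Localization.AtPrime q ⧸
      (I₀.map (algebraMap R R')).map (algebraMap R' (Localization.AtPrime q))) :=
    hM ▸ inferInstance
  let e₃ : Localization.AtPrime qb ≃+* (Localization.AtPrime q ⧸
      (I₀.map (algebraMap R R')).map (algebraMap R' (Localization.AtPrime q))) :=
    (IsLocalization.algEquiv qb.primeCompl (Localization.AtPrime qb) (Localization.AtPrime q ⧸
      (I₀.map (algebraMap R R')).map (algebraMap R' (Localization.AtPrime q)))).toRingEquiv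
  have hIle : (I₀.map (algebraMap R R')).map (algebraMap R' (Localization.AtPrime q)) ≤
      maximalIdeal (Localization.AtPrime q) := by
    rw [Ideal.map_le_iff_le_comap]
    intro x hx
    rw [Ideal.mem_comap]
    exact (IsLocalization.AtPrime.to_map_mem_maximal_iff (Localization.AtPrime q) q x).2 (hJq hx)
  have hIne : (I₀.map (algebraMap R R')).map (algebraMap R' (Localization.AtPrime q)) ≠ ⊤ := by
    intro htop
    rw [htop] at hIle
    exact (IsLocalRing.maximalIdeal.isMaximal _).ne_top (top_le_iff.1 hIle)
  haveI : Nontrivial (Localization.AtPrime q ⧸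
      (I₀.map (algebraMap R R')).map (algebraMap R' (Localization.AtPrime q))) :=
    Ideal.Quotient.nontrivial_iff.2 hIne
  haveI : IsLocalRing (Localization.AtPrime q ⧸
      (I₀.map (algebraMap R R')).map (algebraMap R' (Localization.AtPrime q))) :=
    IsLocalRing.of_surjective' (Ideal.Quotient.mk _) Ideal.Quotient.mk_surjective
  have hnb3 : Brnch.numGeomBranches (Localization.AtPrime q ⧸
      (I₀.map (algebraMap R R')).map (algebraMap R' (Localization.AtPrime q))) = 1 := by
    rw [← Groth.Agent.Lib.helper9.SmBranch.numGeomBranches_eq_of_ringEquiv e₃, hnb2]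
  haveI hred3 : IsReduced (Localization.AtPrime q ⧸
      (I₀.map (algebraMap R R')).map (algebraMap R' (Localization.AtPrime q))) :=
    isReduced_of_injective e₃.symm.toRingHom e₃.symm.injective
  -- Step 5: its strict henselization is a domain
  let T' := Groth.Agent.Lib.Helper24.StrictHens.SH (Localization.AtPrime q ⧸
      (I₀.map (algebraMap R R')).map (algebraMap R' (Localization.AtPrime q)))
  have hcard := Groth.Agent.S9238.result (Localization.AtPrime q ⧸
      (I₀.map (algebraMap R R')).map (algebraMap R' (Localization.AtPrime q))) T'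
  rw [hnb3] at hcard
  haveI hredT' : IsReduced T' :=
    (Groth.Agent.Lib.Helper24.HensReduced.isReduced_iff_of_isStrictHenselization _ T').2 hred3
  have hdomT' : IsDomain T' := by
    have h1 : (minimalPrimes T').encard = 1 := hcard
    obtain ⟨P, hP⟩ := Set.encard_eq_one.1 h1
    have hPmem : P ∈ minimalPrimes T' := hP ▸ Set.mem_singleton P
    haveI : P.IsPrime := hPmem.1.1
    have h2 : nilradical T' = P := by
      rw [nilradical_eq_sInf]
      apply le_antisymm
      · exact sInf_le hPmem.1.1
      · refine le_sInf fun Q hQ => ?_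
        haveI : Q.IsPrime := hQ
        obtain ⟨Q', hQ', hle⟩ := Ideal.exists_minimalPrimes_le (bot_le : (⊥ : Ideal T') ≤ Q)
        have : Q' = P := by
          have : Q' ∈ ({P} : Set (Ideal T')) := hP ▸ hQ'
          exact this
        exact this ▸ hle
    have h3 : (⊥ : Ideal T').IsPrime := by
      rw [← nilradical_eq_bot_iff.2 hredT', h2]
      infer_instance
    exact @IsDomain.of_bot_isPrime T' _ h3
  obtain ⟨e₄⟩ := Groth.Agent.Lib.helper17.GorStrictHens.nonempty_quot_equiv
    (Localization.AtPrime q) T
    ((I₀.map (algebraMap R R')).map (algebraMap R' (Localization.AtPrime q))) hIne T'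
  have hdomQ : IsDomain (T ⧸ ((I₀.map (algebraMap R R')).map
      (algebraMap R' (Localization.AtPrime q))).map (algebraMap (Localization.AtPrime q) T)) :=
    MulEquiv.isDomain T' e₄.toMulEquiv
  have hKprime : (((I₀.map (algebraMap R R')).map
      (algebraMap R' (Localization.AtPrime q))).map (algebraMap (Localization.AtPrime q) T)).IsPrime :=
    (Ideal.Quotient.isDomain_iff_prime _).1 hdomQ
  -- Step 6: conclusion
  have hK : ((I₀.map (algebraMap R R')).map
      (algebraMap R' (Localization.AtPrime q))).map (algebraMap (Localization.AtPrime q) T) =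
      Ideal.span {algebraMap (Localization.AtPrime q) T
        (algebraMap R' (Localization.AtPrime q) (algebraMap R R' Δ))} := by
    rw [hI₀, Ideal.map_span, Ideal.map_span, Ideal.map_span, Set.image_singleton,
      Set.image_singleton, Set.image_singleton]
  rw [hK] at hKprime
  have hne : algebraMap (Localization.AtPrime q) T
      (algebraMap R' (Localization.AtPrime q) (algebraMap R R' Δ)) ≠ 0 := by
    haveI := Groth.Agent.Lib.Helper24.StrictHens.faithfullyFlat_of_isStrictHenselization
      (Localization.AtPrime q) T
    have hinjT : Function.Injective (algebraMap (Localization.AtPrime q) T) :=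
      FaithfulSMul.algebraMap_injective _ _
    haveI : Module.Flat R (Localization.AtPrime q) := Module.Flat.trans R R' _
    haveI : IsLocalHom (algebraMap R (Localization.AtPrime q)) := by
      constructor
      intro a ha
      by_contra hnu
      have ham : a ∈ maximalIdeal R := (IsLocalRing.mem_maximalIdeal a).2 hnu
      have h1 : algebraMap R R' a ∈ q := hq (Ideal.mem_map_of_mem _ ham)
      rw [IsScalarTower.algebraMap_apply R R' (Localization.AtPrime q),
        IsLocalization.AtPrime.isUnit_to_map_iff (Localization.AtPrime q) q] at ha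
      exact ha h1
    haveI : Module.FaithfullyFlat R (Localization.AtPrime q) :=
      Module.FaithfullyFlat.of_flat_of_isLocalHom
    have hinjB : Function.Injective (algebraMap R (Localization.AtPrime q)) :=
      FaithfulSMul.algebraMap_injective _ _
    intro h0
    rw [← IsScalarTower.algebraMap_apply R R' (Localization.AtPrime q)] at h0
    have h1 := hinjT (h0.trans (map_zero _).symm)
    have h2 := hinjB (h1.trans (map_zero _).symm)
    exact hΔ.ne_zero h2
  exact (Ideal.span_singleton_prime hne).1 hKprime

end Groth.Agent.S17730
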