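import Groth.Statements.S17731
import Mathlib

set_option autoImplicit false
universe u
open Neron

namespace Groth.Agent.S17731

section
open CategoryTheory CategoryTheory.Limits AlgebraicGeometry TopologicalSpace

theorem pb_map_left_fst {X Y : Scheme.{u}} (f : X ⟶ Y) {A B : Over Y} (k : A ⟶ B) :
    ((Over.pullback f).map k).left ≫ pullback.fst B.hom f = pullback.fst A.hom f ≫ k.left := by
  exact pullback.lift_fst _ _ _

theorem pb_map_left_snd {X Y : Scheme.{u}} (f : X ⟶ Y) {A B : Over Y} (k : A ⟶ B) :
    ((Over.pullback f).map k).left ≫ pullback.snd B.hom f = pullback.snd A.hom f := by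
  exact pullback.lift_snd _ _ _


end


open CategoryTheory AlgebraicGeometry in
/-- Let S be a scheme, U ⊆ S a schematically dense open subscheme and N → S a smooth S-scheme having
uniqueness in the Néron mapping property with respect to U: for every smooth S-scheme Y, restriction
to U is injective on S-morphisms Y → N. Then for every smooth morphism g : S' → S the base change N
×_S S' → S' has uniqueness in the Néron mapping property with respect to g⁻¹(U): for every smooth
S'-scheme Y', restriction to g⁻¹(U) is injective on S'-morphisms Y' → N ×_S S'. (The published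
statement is for models which are algebraic spaces, tested against smooth algebraic spaces; this row
states the case of a scheme model tested against smooth schemes. The companion assertion that Néron
models are preserved by smooth base change is not restated here.) -/
theorem result
    {S S' : Scheme.{u}} (g : S' ⟶ S) [Smooth g]
    (U : S.Opens) (hU : CInt.IsSchematicallyDense U) (N : Over S) [Smooth N.hom]
    (hN : ∀ Y : Over S, Smooth Y.hom →
      Function.Injective (fun f : Y ⟶ N => (Over.pullback U.ι).map f))
    (Y' : Over S') [Smooth Y'.hom] :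
    Function.Injective (fun f : Y' ⟶ (Over.pullback g).obj N => (Over.pullback (g ⁻¹ᵁ U).ι).map f) := by
  intro f₁ f₂ h
  dsimp only at h
  -- the S-morphisms
  let φ : (Y' ⟶ (Over.pullback g).obj N) → ((Over.map g).obj Y' ⟶ N) := fun f =>
    Over.homMk (f.left ≫ Limits.pullback.fst N.hom g) (by
      have := Over.w f
      dsimp at this ⊢
      rw [Category.assoc, Limits.pullback.condition, ← Category.assoc, this])
  have hφ : ∀ f, (φ f).left = f.left ≫ Limits.pullback.fst N.hom g := fun f => rfl
  have key : φ f₁ = φ f₂ := by
    apply hN ((Over.map g).obj Y') (by dsimp; infer_instance)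
    dsimp only
    ext
    apply Limits.pullback.hom_ext
    · erw [pb_map_left_fst, pb_map_left_fst]
      rw [hφ, hφ]
      -- factor fst through the S'-pullback
      have hrange : Set.range (Limits.pullback.fst (Y'.hom ≫ g) U.ι ≫ Y'.hom).base ⊆
          Set.range (g ⁻¹ᵁ U).ι.base := by
        rintro _ ⟨p, rfl⟩
        rw [Scheme.Opens.range_ι]
        show g.base ((Limits.pullback.fst (Y'.hom ≫ g) U.ι ≫ Y'.hom).base p) ∈ U
        have e : (Limits.pullback.fst (Y'.hom ≫ g) U.ι ≫ Y'.hom) ≫ g = Limits.pullback.snd (Y'.hom ≫ g) U.ι ≫ U.ι := by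
          rw [Category.assoc]; exact Limits.pullback.condition
        have e2 := congr($e p)
        simp only [Scheme.Hom.comp_apply] at e2 ⊢
        rw [e2]
        exact (Limits.pullback.snd (Y'.hom ≫ g) U.ι p).2
      let θ : Limits.pullback (Y'.hom ≫ g) U.ι ⟶ Limits.pullback Y'.hom (g ⁻¹ᵁ U).ι :=
        Limits.pullback.lift (Limits.pullback.fst _ _)
          (IsOpenImmersion.lift (g ⁻¹ᵁ U).ι (Limits.pullback.fst (Y'.hom ≫ g) U.ι ≫ Y'.hom) hrange)
          (by rw [IsOpenImmersion.lift_fac])
      have hθ : θ ≫ Limits.pullback.fst Y'.hom (g ⁻¹ᵁ U).ι = Limits.pullback.fst (Y'.hom ≫ g) U.ι :=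
        Limits.pullback.lift_fst _ _ _
      have h' := congr($(h).left ≫ Limits.pullback.fst _ _)
      erw [pb_map_left_fst, pb_map_left_fst] at h'
      have hθ' : θ ≫ Limits.pullback.fst Y'.hom (g ⁻¹ᵁ U).ι = Limits.pullback.fst ((Over.map g).obj Y').hom U.ι := hθ
      rw [← hθ', Category.assoc, Category.assoc, ← Category.assoc _ f₁.left, h', Category.assoc]
    · erw [pb_map_left_snd, pb_map_left_snd]
  ext
  apply Limits.pullback.hom_ext
  · have := congr($(key).left)
    rwa [hφ, hφ] at this
  · have h1 := Over.w f₁
    have h2 := Over.w f₂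
    dsimp [Over.pullback] at h1 h2
    rw [h1, h2]

end Groth.Agent.S17731
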