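import Groth.Statements.S17737
import Mathlib
import Groth.Agent.Lib.Helper10.NodeThick2

set_option autoImplicit false
universe u
open DualGr

namespace Groth.Agent.S17737

set_option linter.style.haveILetI false
set_option linter.unusedSectionVars false

open IsLocalRing MvPowerSeries Groth.Agent.Lib.helper10.NodeThick

lemma half (R A : Type u) [CommRing R] [IsLocalRing R] [IsNoetherianRing R] [CommRing A]
    [IsLocalRing A]
    (φ : R →+* A) (a b : R) (ha : a ∈ maximalIdeal R) (hb : b ∈ maximalIdeal R)
    (h₁ : DualGr.IsThickNode φ a) (h₂ : DualGr.IsThickNode φ b) :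
    algebraMap R (Curv2.cpl R) a ∈ Ideal.span {algebraMap R (Curv2.cpl R) b} := by
  obtain ⟨e₁, he₁⟩ := h₁
  obtain ⟨e₂, he₂⟩ := h₂
  set S := Curv2.cpl R with hS
  have hmax : maximalIdeal S = (maximalIdeal R).map (algebraMap R S) :=
    AdicCompletion.maximalIdeal_eq_map
  let ψ : B (algebraMap R S a) ≃+* B (algebraMap R S b) := e₁.symm.trans e₂
  apply core (algebraMap R S a) (algebraMap R S b) ?_ ?_ (Set.range (algebraMap R S)) ⟨a, rfl⟩
    ?_ ?_ ψ ?_
  · rw [hmax]; exact Ideal.mem_map_of_mem _ ha
  · rw [hmax]; exact Ideal.mem_map_of_mem _ hb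
  · rw [hmax, Ideal.map]
    apply Ideal.span_mono
    rintro _ ⟨r, hr, rfl⟩
    refine ⟨⟨r, rfl⟩, ?_⟩
    show algebraMap R S r ∈ (maximalIdeal R).map (algebraMap R S)
    exact Ideal.mem_map_of_mem _ hr
  · intro s
    rcases Ideal.Quotient.mk_surjective (s.1 1) with ⟨z, hz⟩
    refine ⟨algebraMap R S z, ⟨z, rfl⟩, ?_⟩
    rw [AdicCompletion.mem_maximalIdeal_iff_eval_one_eq_zero]
    have h2 : (algebraMap R S z).1 1 = s.1 1 := by
      rw [← hz]; rfl
    show (s - algebraMap R S z).1 1 = 0
    rw [AdicCompletion.val_sub_apply, h2, sub_self]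
  · rintro _ ⟨r, rfl⟩
    show e₂ (e₁.symm _) = _
    have h1 : e₁.symm (Ideal.Quotient.mk _ (C (algebraMap R S r))) =
        algebraMap A (Curv2.cpl A) (φ r) := by
      rw [RingEquiv.symm_apply_eq]
      exact (he₁ r).symm
    rw [h1]
    exact he₂ r


theorem main (R A : Type u) [CommRing R] [IsLocalRing R] [IsNoetherianRing R] [CommRing A]
    [IsLocalRing A]
    (φ : R →+* A) (a b : R) (ha : a ∈ maximalIdeal R) (hb : b ∈ maximalIdeal R)
    (h₁ : DualGr.IsThickNode φ a) (h₂ : DualGr.IsThickNode φ b) :
    Ideal.span {a} = Ideal.span {b} := by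
  have h1 := half R A φ a b ha hb h₁ h₂
  have h2 := half R A φ b a hb ha h₂ h₁
  have hff : Module.FaithfullyFlat R (Curv2.cpl R) := Module.FaithfullyFlat.of_flat_of_isLocalHom
  have hmap : (Ideal.span {a}).map (algebraMap R (Curv2.cpl R)) =
      (Ideal.span {b}).map (algebraMap R (Curv2.cpl R)) := by
    rw [Ideal.map_span, Ideal.map_span, Set.image_singleton, Set.image_singleton]
    apply le_antisymm
    · rw [Ideal.span_singleton_le_iff_mem]; exact h1
    · rw [Ideal.span_singleton_le_iff_mem]; exact h2
  rw [← Ideal.comap_map_eq_self_of_faithfullyFlat (B := Curv2.cpl R) (Ideal.span {a}), hmap,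
    Ideal.comap_map_eq_self_of_faithfullyFlat]



open IsLocalRing in
/-- Let R be a Noetherian local ring, A a local ring with a ring map φ : R → A, and a, b two elements of
the maximal ideal of R such that A is formally a node over R both of thickness (a) and of thickness
(b): the completion of A is isomorphic, compatibly with R, to R̂[[x,y]]/(xy − a) and also to
R̂[[x,y]]/(xy − b). Then aR = bR. (This is the uniqueness assertion: the element in a node
presentation is not unique but the principal ideal it generates is; it is stated for presentations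
with the element taken in R, whose ideal in R is then determined.) -/
theorem result
    (R A : Type u) [CommRing R] [IsLocalRing R] [IsNoetherianRing R] [CommRing A] [IsLocalRing A]
    (φ : R →+* A) (a b : R) (ha : a ∈ maximalIdeal R) (hb : b ∈ maximalIdeal R)
    (h₁ : DualGr.IsThickNode φ a) (h₂ : DualGr.IsThickNode φ b) :
    Ideal.span {a} = Ideal.span {b} := by
  exact main R A φ a b ha hb h₁ h₂

end Groth.Agent.S17737
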