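import Groth.Statements.S17745
import Mathlib


set_option autoImplicit false
universe u
open CategoryTheory AlgebraicGeometry
open QsChow

namespace Groth.Agent.S17745

set_option linter.style.haveILetI false
set_option linter.unusedSectionVars false
open CategoryTheory AlgebraicGeometry

section Sect
variable {X Y : Scheme.{u}} (π : Y ⟶ X) (s : X ⟶ Y) (hs : s ≫ π = 𝟙 X)
include hs

lemma pi_s (x : X) : π (s x) = x := by
  have := congrArg (fun f : X ⟶ X => f x) hs
  simpa using this

lemma residueDegree_section (x : X) : π.residueDegree (s x) = 1 := by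
  have hiso : ∀ (h : X ⟶ X), h = 𝟙 X → Function.Bijective (h.residueFieldMap x).hom := by
    rintro _ rfl
    rw [Scheme.residueFieldMap_id]
    exact Function.bijective_id
  have h1 := hiso (s ≫ π) hs
  rw [Scheme.residueFieldMap_comp] at h1
  set a := π.residueFieldMap (s x) with ha
  set b := s.residueFieldMap x with hb
  have hba : Function.Bijective (b.hom ∘ a.hom) := by
    exact h1
  have hbinj : Function.Injective b.hom := b.hom.injective
  have hbsurj : Function.Surjective b.hom := hba.2.of_comp
  have habij : Function.Bijective a.hom := by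
    refine ⟨hba.1.of_comp, ?_⟩
    intro y
    obtain ⟨z, hz⟩ := hba.2 (b.hom y)
    exact ⟨z, hbinj hz⟩
  unfold Scheme.Hom.residueDegree
  letI := (π.residueFieldMap (s x)).hom.toAlgebra
  have := Algebra.finrank_eq_of_equiv_equiv (R₀ := X.residueField (π (s x)))
    (S₀ := Y.residueField (s x)) (R₁ := Y.residueField (s x)) (S₁ := Y.residueField (s x))
    (RingEquiv.ofBijective a.hom habij) (RingEquiv.refl _) (by ext z; rfl)
  rw [this]
  exact Module.finrank_self _

variable [QuasiCompact π] (δ : X → ℤ) (a : AlgebraicCycle X ℤ)

omit hs in
open Classical in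
/-- push a cycle forward along the section, by hand. -/
noncomputable def sectCycle : AlgebraicCycle Y ℤ where
  toFun y := if y = s (π y) then a (π y) else 0
  supportWithinDomain' := fun _ _ => Set.mem_univ _
  supportLocallyFiniteWithinDomain' := by
    intro y _
    obtain ⟨V, hV, hfin⟩ := a.supportLocallyFiniteWithinDomain' (π y) (Set.mem_univ _)
    refine ⟨π ⁻¹' V, π.continuous.continuousAt hV, ?_⟩
    refine (hfin.image s).subset ?_
    rintro y' ⟨hy'V, hy'⟩
    simp only [Function.mem_support, ne_eq, ite_eq_right_iff, Classical.not_imp] at hy'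
    exact ⟨π y', ⟨hy'V, hy'.2⟩, hy'.1.symm⟩

omit hs in
open Classical in
lemma sectCycle_apply (y : Y) :
    sectCycle π s a y = if y = s (π y) then a (π y) else 0 := by
  classical
  rfl

lemma map_sectCycle :
    AlgebraicCycle.map π (δ ∘ ⇑π) δ (sectCycle π s a) = a := by
  classical
  ext x
  unfold AlgebraicCycle.map
  rw [Function.locallyFinsupp.map_apply, finsum_mem_def, finsum_eq_single _ (s x)]
  · rw [Set.indicator_of_mem (by simp [pi_s π s hs]), sectCycle_apply, pi_s π s hs, if_pos rfl]
    unfold AlgebraicCycle.mapCoeff
    rw [if_pos (by rfl), residueDegree_section π s hs]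
    simp
  · intro y hy
    by_cases hyx : y ∈ π ⁻¹' {x}
    · rw [Set.indicator_of_mem hyx, sectCycle_apply]
      have : π y = x := hyx
      rw [this, if_neg hy, zero_mul]
    · exact Set.indicator_of_notMem hyx _

omit hs in
lemma sectCycle_mem_Zk (j : ℤ) (ha : a ∈ Cyc.Zk X δ j) :
    sectCycle π s a ∈ Cyc.Zk Y (δ ∘ ⇑π) j := by
  intro y hy
  rw [sectCycle_apply]
  split_ifs
  · exact ha _ hy
  · rfl

end Sect

theorem main
    (k : Type u) [Field k] (K : Type u) [Field K] [Algebra k K] [Algebra.IsSeparable k K]
    (F : IntermediateField k K) [FiniteDimensional k F] (hF : F ≠ ⊥)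
    (X : Scheme.{u}) [X.Over (Spec (CommRingCat.of k))] (g : X ⟶ Spec (CommRingCat.of F))
    (hg : g ≫ Spec.map (CommRingCat.ofHom (algebraMap k F)) = X ↘ Spec (CommRingCat.of k))
    (δ : X → ℤ) (j : ℤ) :
    QsChow.normSubgroup k K X δ j = ⊤ := by
  rw [eq_top_iff]
  intro c _
  obtain ⟨a, rfl⟩ := QuotientAddGroup.mk_surjective c
  unfold QsChow.normSubgroup
  apply AddSubgroup.subset_closure
  let s : X ⟶ Curv2.bc k X F := Limits.pullback.lift (𝟙 X) g (by rw [Category.id_comp, hg])
  have hs : s ≫ Curv2.bcFst k X F = 𝟙 X := Limits.pullback.lift_fst _ _ _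
  have hmap := map_sectCycle (Curv2.bcFst k X F) s hs δ a.1
  refine ⟨F, inferInstance, hF, sectCycle (Curv2.bcFst k X F) s a.1,
    sectCycle_mem_Zk (Curv2.bcFst k X F) s δ a.1 j a.2, ?_, ?_⟩
  · rw [hmap]; exact a.2
  · unfold ChowOps.cl ChowOps.clHom
    simp only [hmap]
    rfl



/-- For a field extension K of k (separable algebraic) and a k-scheme X with weight function δ, call
norm subgroup of CH_j(X) the subgroup generated by the classes of the push-forwards to X of j-cycles
on the base changes X_F, over the intermediate fields F of K over k that are finite over k and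
different from k (the quotient by it is the degree-j part of the conormed Chow group of X relative
to K over k). Let F be an intermediate field of K over k, finite over k and different from k, and
let X be a smooth variety over F (a scheme with a smooth, separated and quasi-compact morphism g to
Spec F), regarded as a k-scheme by composing g with Spec F → Spec k. Then for every weight function
δ on X (a dimension function induced from weight 0 on Spec k) and every integer j the norm subgroup
of CH_j(X) relative to K over k is the whole Chow group: all conormed Chow groups of X vanish. (The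
source's F is tacitly different from k; for F = k the assertion fails, e.g. with K = k.) -/
theorem result
    (k : Type u) [Field k] (K : Type u) [Field K] [Algebra k K] [Algebra.IsSeparable k K]
    (F : IntermediateField k K) [FiniteDimensional k F] (hF : F ≠ ⊥)
    (X : Scheme.{u}) [X.Over (Spec (CommRingCat.of k))] (g : X ⟶ Spec (CommRingCat.of F))
    (hg : g ≫ Spec.map (CommRingCat.ofHom (algebraMap k F)) = X ↘ Spec (CommRingCat.of k))
    (hsm : Smooth g) [IsSeparated g] [QuasiCompact g]
    (δ : X → ℤ) (hδ : Cyc.IsSetup X δ)
    (hcompat : Cyc.DeltaCompat (X ↘ Spec (CommRingCat.of k)) δ (fun _ => 0)) (j : ℤ) :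
    QsChow.normSubgroup k K X δ j = ⊤ := by
  exact main k K F hF X g hg δ j

end Groth.Agent.S17745
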