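import Groth.Statements.S17746
import Mathlib
import Groth.Agent.S17745
import Groth.Agent.Lib.Helper10.GalIdem
import Groth.Agent.Lib.Helper13.Normal11

set_option autoImplicit false
universe u
open CategoryTheory AlgebraicGeometry
open QsChow

namespace Groth.Agent.S17746

set_option linter.style.haveILetI false
set_option linter.unusedSectionVars false

open CategoryTheory AlgebraicGeometry Limits TensorProduct

section BC
variable (k : Type u) [Field k] (K : Type u) [Field K] [Algebra k K]
  (X : Scheme.{u}) (iX : X ⟶ Spec (CommRingCat.of k))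

/-- the structure map `A → Γ(X, ⊤)` (as in helper16's `S1536.glob`) -/
noncomputable def glob {A : Type u} [CommRing A] {X : Scheme.{u}}
    (f : X ⟶ Spec (CommRingCat.of A)) : CommRingCat.of A ⟶ Γ(X, ⊤) :=
  (Scheme.ΓSpecIso (CommRingCat.of A)).inv ≫ f.appTop

lemma toSpecΓ_glob {A : Type u} [CommRing A] {X : Scheme.{u}}
    (f : X ⟶ Spec (CommRingCat.of A)) : X.toSpecΓ ≫ Spec.map (glob f) = f := by
  rw [glob, Spec.map_comp, ← Scheme.toSpecΓ_naturality_assoc, toSpecΓ_SpecMap_ΓSpecIso_inv,
    Category.comp_id]

variable [QuasiCompact iX] [QuasiSeparated iX]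

/-- flat base change of global sections, as a pushout square of rings
(same proof as helper16's `S1536.isPushout_glob`). -/
theorem isPushout_glob :
    IsPushout (glob iX) (CommRingCat.ofHom (algebraMap k K))
      (pullback.fst iX (Spec.map (CommRingCat.ofHom (algebraMap k K)))).appTop
      (glob (pullback.snd iX (Spec.map (CommRingCat.ofHom (algebraMap k K))))) := by
  set f := Spec.map (CommRingCat.ofHom (algebraMap k K)) with hf
  have H : IsPullback (pullback.fst iX f) (pullback.snd iX f) iX f := IsPullback.of_hasPullback iX f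
  haveI : Flat f := by
    rw [hf, Flat.SpecMap_iff]
    exact RingHom.Flat.of_isField (Field.toIsField k) _
  haveI : CompactSpace X := (quasiCompact_iff_compactSpace iX).mp inferInstance
  haveI : QuasiSeparatedSpace X := (quasiSeparated_iff_quasiSeparatedSpace iX).mp inferInstance
  have hiso := isIso_pushoutSection_of_isQuasiSeparated_of_flat_right H
    (US := ⊤) (UT := ⊤) (UX := ⊤) (UY := ⊤) le_top le_top (by simp)
    (isAffineOpen_top _) (isAffineOpen_top _) (isCompact_univ) (isQuasiSeparated_univ)
  have hpo := (isIso_pushoutSection_iff H (US := ⊤) (UT := ⊤) (UX := ⊤) (UY := ⊤)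
    le_top le_top (by simp)).mp hiso
  have happ : ∀ {P Q : Scheme.{u}} (h : P ⟶ Q) (e : (⊤ : P.Opens) ≤ h ⁻¹ᵁ ⊤),
      h.appLE ⊤ ⊤ e = h.appTop := by
    intro P Q h e
    exact (Scheme.Hom.app_eq_appLE h).symm
  refine hpo.of_iso (Scheme.ΓSpecIso (CommRingCat.of k)) (Iso.refl _)
    (Scheme.ΓSpecIso (CommRingCat.of K)) (Iso.refl _) ?_ ?_ ?_ ?_
  · rw [happ, glob, Iso.hom_inv_id_assoc]; simp
  · rw [happ, hf]; exact Scheme.ΓSpecIso_naturality _
  · rw [happ]; simp
  · rw [happ, glob, Iso.hom_inv_id_assoc]; simp

/-- flat base change of global sections, ring isomorphism version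
(as helper16's `GeomConn.exists_ringEquiv`) -/
theorem exists_ringEquiv :
    letI : Algebra k Γ(X, ⊤) := (glob iX).hom.toAlgebra
    Nonempty (K ⊗[k] Γ(X, ⊤) ≃+*
      Γ(pullback iX (Spec.map (CommRingCat.ofHom (algebraMap k K))), ⊤)) := by
  have hpo := isPushout_glob k K X iX
  letI : Algebra k Γ(X, ⊤) := (glob iX).hom.toAlgebra
  letI : Algebra K Γ(pullback iX (Spec.map (CommRingCat.ofHom (algebraMap k K))), ⊤) :=
      (glob (pullback.snd iX (Spec.map (CommRingCat.ofHom (algebraMap k K))))).hom.toAlgebra
  letI : Algebra Γ(X, ⊤) Γ(pullback iX (Spec.map (CommRingCat.ofHom (algebraMap k K))), ⊤) :=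
    (pullback.fst iX (Spec.map (CommRingCat.ofHom (algebraMap k K)))).appTop.hom.toAlgebra
  letI : Algebra k Γ(pullback iX (Spec.map (CommRingCat.ofHom (algebraMap k K))), ⊤) :=
    ((algebraMap K Γ(pullback iX (Spec.map (CommRingCat.ofHom (algebraMap k K))), ⊤)).comp
      (algebraMap k K)).toAlgebra
  haveI : IsScalarTower k K Γ(pullback iX (Spec.map (CommRingCat.ofHom (algebraMap k K))), ⊤) :=
    IsScalarTower.of_algebraMap_eq (fun _ => rfl)
  haveI : IsScalarTower k Γ(X, ⊤)
      Γ(pullback iX (Spec.map (CommRingCat.ofHom (algebraMap k K))), ⊤) :=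
    IsScalarTower.of_algebraMap_eq (fun x => by
      have := congrArg (fun φ => φ.hom x) hpo.w
      exact this.symm)
  have hP : Algebra.IsPushout k Γ(X, ⊤) K
      Γ(pullback iX (Spec.map (CommRingCat.ofHom (algebraMap k K))), ⊤) :=
    CommRingCat.isPushout_iff_isPushout.mp hpo
  haveI := hP.symm
  exact ⟨(Algebra.IsPushout.equiv k K Γ(X, ⊤)
    Γ(pullback iX (Spec.map (CommRingCat.ofHom (algebraMap k K))), ⊤)).toRingEquiv⟩

end BC

section Geom
variable (k : Type u) [Field k] (L : Type u) [Field L] [Algebra k L]
  [FiniteDimensional k L] [IsGalois k L]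
  (X : Scheme.{u}) (iX : X ⟶ Spec (CommRingCat.of k)) [QuasiCompact iX] [QuasiSeparated iX]

open Groth.Agent.Lib.helper10.GalIdem in
/-- If `X` is connected and `X_L` is not, for `L/k` finite Galois, then `X` maps to `Spec F` over
`k` for some intermediate field `F ≠ k` of `L/k`. -/
theorem exists_intermediateField_hom [ConnectedSpace X]
    (hdisc : ¬ ConnectedSpace ↥(pullback iX (Spec.map (CommRingCat.ofHom (algebraMap k L))))) :
    ∃ (F : IntermediateField k L) (_ : F ≠ ⊥) (g : X ⟶ Spec (CommRingCat.of F)),
      g ≫ Spec.map (CommRingCat.ofHom (algebraMap k F)) = iX := by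
  letI : Algebra k Γ(X, ⊤) := (glob iX).hom.toAlgebra
  obtain ⟨φ⟩ := exists_ringEquiv k L X iX
  -- `Γ(X, ⊤)` is nontrivial with only trivial idempotents
  haveI : Nonempty (⊤ : X.Opens) := by
    obtain ⟨y⟩ := (inferInstance : Nonempty ↥X)
    exact ⟨⟨y, trivial⟩⟩
  haveI hnt : Nontrivial Γ(X, ⊤) := Scheme.component_nontrivial _ ⊤
  have hA : ∀ a : Γ(X, ⊤), IsIdempotentElem a → a = 0 ∨ a = 1 := fun e he =>
    Groth.Agent.Lib.helper13.Normal.idempotent_eq_zero_or_one_of_isPreconnected
        (⊤ : X.Opens) (by simpa using isPreconnected_univ) e he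
  -- the swapped iso
  let ψ : Γ(X, ⊤) ⊗[k] L ≃+*
      Γ(pullback iX (Spec.map (CommRingCat.ofHom (algebraMap k L))), ⊤) :=
    (Algebra.TensorProduct.comm k Γ(X, ⊤) L).toRingEquiv.trans φ
  haveI hnt2 : Nontrivial (Γ(X, ⊤) ⊗[k] L) :=
    (tmul_one_injective (k := k) (A := Γ(X, ⊤)) (L := L)).nontrivial
  haveI hnt3 : Nontrivial Γ(pullback iX (Spec.map (CommRingCat.ofHom (algebraMap k L))), ⊤) :=
    ψ.injective.nontrivial
  -- nontrivial idempotent upstairs
  have hex : ∃ e : Γ(pullback iX (Spec.map (CommRingCat.ofHom (algebraMap k L))), ⊤),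
      IsIdempotentElem e ∧ e ≠ 0 ∧ e ≠ 1 := by
    by_contra hcon
    apply hdisc
    apply Groth.Agent.Lib.helper13.Normal.connectedSpace_of_idempotents
    intro e he
    by_contra h
    push Not at h
    exact hcon ⟨e, he, h.1, h.2⟩
  obtain ⟨e, he, he0, he1⟩ := hex
  have he' : IsIdempotentElem (ψ.symm e) := by
    show _ * _ = _
    rw [← map_mul, he.eq]
  have he0' : ψ.symm e ≠ 0 := by
    intro h; apply he0; simpa using congrArg ψ h
  have he1' : ψ.symm e ≠ 1 := by
    intro h; apply he1; simpa using congrArg ψ h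
  obtain ⟨F, hF, ⟨f⟩⟩ := exists_intermediateField_algHom hA he' he0' he1'
  refine ⟨F, hF, X.toSpecΓ ≫ Spec.map (CommRingCat.ofHom f.toRingHom), ?_⟩
  rw [Category.assoc, ← Spec.map_comp]
  have : CommRingCat.ofHom (algebraMap k F) ≫ CommRingCat.ofHom f.toRingHom = glob iX := by
    ext x
    exact f.commutes x
  rw [this, toSpecΓ_glob]

end Geom

theorem main
    (k : Type u) [Field k] (K : Type u) [Field K] [Algebra k K] [Algebra.IsSeparable k K]
    (L : IntermediateField k K) [FiniteDimensional k L] [IsGalois k L]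
    (X : Scheme.{u}) [X.Over (Spec (CommRingCat.of k))]
    [IsSeparated (X ↘ Spec (CommRingCat.of k))]
    [QuasiCompact (X ↘ Spec (CommRingCat.of k))]
    [ConnectedSpace X] (hdisc : ¬ ConnectedSpace ↥(Curv2.bc k X L))
    (δ : X → ℤ) (j : ℤ) :
    QsChow.normSubgroup k K X δ j = ⊤ := by
  obtain ⟨F', hF', g, hg⟩ := exists_intermediateField_hom k L X (X ↘ Spec (CommRingCat.of k)) hdisc
  -- lift `F'` to an intermediate field of `K/k`
  let F : IntermediateField k K := IntermediateField.lift F'
  let eF : F' ≃ₐ[k] F := IntermediateField.liftAlgEquiv F'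
  haveI : FiniteDimensional k F' := inferInstance
  haveI : FiniteDimensional k F := LinearEquiv.finiteDimensional eF.toLinearEquiv
  have hF : F ≠ ⊥ := by
    intro h
    apply hF'
    apply IntermediateField.lift_injective L
    rw [IntermediateField.lift_bot]
    exact h
  let g' : X ⟶ Spec (CommRingCat.of F) := g ≫ Spec.map (CommRingCat.ofHom eF.symm.toAlgHom.toRingHom)
  have hg' : g' ≫ Spec.map (CommRingCat.ofHom (algebraMap k F)) = X ↘ Spec (CommRingCat.of k) := by
    rw [← hg, Category.assoc, ← Spec.map_comp]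
    congr 2
  exact Groth.Agent.S17745.main k K F hF X g' hg' δ j



/-- For a field extension K of k (separable algebraic) and a k-scheme X with weight function δ, call
norm subgroup of CH_j(X) the subgroup generated by the classes of the push-forwards to X of j-cycles
on the base changes X_F, over the intermediate fields F of K over k that are finite over k and
different from k (the quotient by it is the degree-j part of the conormed Chow group of X relative
to K over k). Let L be an intermediate field of K over k that is finite Galois over k, and let X be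
a smooth variety over k (smooth, separated and quasi-compact structure morphism) that is connected
and whose base change X_L is not connected. Then for every weight function δ on X (a dimension
function induced from weight 0 on Spec k) and every integer j the norm subgroup of CH_j(X) relative
to K over k is the whole Chow group: all conormed Chow groups of X vanish. -/
theorem result
    (k : Type u) [Field k] (K : Type u) [Field K] [Algebra k K] [Algebra.IsSeparable k K]
    (L : IntermediateField k K) [FiniteDimensional k L] [IsGalois k L]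
    (X : Scheme.{u}) [X.Over (Spec (CommRingCat.of k))]
    (hsm : Smooth (X ↘ Spec (CommRingCat.of k))) [IsSeparated (X ↘ Spec (CommRingCat.of k))]
    [QuasiCompact (X ↘ Spec (CommRingCat.of k))]
    [ConnectedSpace X] (hdisc : ¬ ConnectedSpace ↥(Curv2.bc k X L))
    (δ : X → ℤ) (hδ : Cyc.IsSetup X δ)
    (hcompat : Cyc.DeltaCompat (X ↘ Spec (CommRingCat.of k)) δ (fun _ => 0)) (j : ℤ) :
    QsChow.normSubgroup k K X δ j = ⊤ := by
  exact main k K L X hdisc δ j

end Groth.Agent.S17746
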