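import Groth.Statements.S17738
import Mathlib
import Groth.Agent.S17746
import Groth.Agent.Lib.Helper13.Normal11

set_option autoImplicit false
universe u
open CategoryTheory AlgebraicGeometry
open QsChow

namespace Groth.Agent.S17738

set_option linter.style.haveILetI false
set_option linter.unusedSectionVars false

open CategoryTheory AlgebraicGeometry Limits

theorem etale_specMap_of_finite_separable (k k' : Type u) [Field k] [Field k'] [Algebra k k']
    [FiniteDimensional k k'] [Algebra.IsSeparable k k'] :
    Etale (Spec.map (CommRingCat.ofHom (algebraMap k k'))) := by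
  rw [HasRingHomProperty.Spec_iff (P := @Etale)]
  change (algebraMap k k').Etale
  rw [RingHom.etale_algebraMap]
  haveI : Algebra.FormallyEtale k k' := Algebra.FormallyEtale.of_isSeparable k k'
  haveI : Algebra.FinitePresentation k k' := by
    haveI : Algebra.FiniteType k k' := inferInstance
    exact Algebra.FinitePresentation.of_finiteType.mp inferInstance
  exact ⟨inferInstance, inferInstance⟩

theorem main
    (k : Type u) [Field k] (X : Scheme.{u}) [X.Over (Spec (CommRingCat.of k))]
    [IrreducibleSpace X] (hX : Pi1.IsNormalScheme X)
    [IsSeparated (X ↘ Spec (CommRingCat.of k))] [LocallyOfFiniteType (X ↘ Spec (CommRingCat.of k))]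
    [QuasiCompact (X ↘ Spec (CommRingCat.of k))]
    (L : Type u) [Field L] [Algebra k L] [FiniteDimensional k L] [IsGalois k L]
    (hred : ¬ IrreducibleSpace ↥(Curv2.bc k X L)) :
    ∃ F : IntermediateField k L, F ≠ ⊥ ∧
      ∃ g : X ⟶ Spec (CommRingCat.of F),
        g ≫ Spec.map (CommRingCat.ofHom (algebraMap k F)) = X ↘ Spec (CommRingCat.of k) := by
  have hdisc : ¬ ConnectedSpace ↥(Curv2.bc k X L) := by
    intro hconn
    apply hred
    haveI := etale_specMap_of_finite_separable k L
    -- `X_L` is normal
    have hN : Pi1.IsNormalScheme (Curv2.bc k X L) :=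
      Groth.Agent.Lib.helper13.Normal.of_etale (Curv2.bcFst k X L) hX
    -- `X_L` is locally Noetherian
    haveI : LocallyOfFiniteType (Curv2.bcSnd k X L) := by
      unfold Curv2.bcSnd; infer_instance
    haveI : IsLocallyNoetherian (Curv2.bc k X L) :=
      LocallyOfFiniteType.isLocallyNoetherian (Curv2.bcSnd k X L)
    haveI : IsIntegral (Curv2.bc k X L) :=
      Groth.Agent.Lib.helper13.Normal.isIntegral_of_connected hN
        (Groth.Agent.Lib.helper13.Normal.finite_irreducibleComponents_of_isLocallyNoetherian _)
    infer_instance
  obtain ⟨F, hF, g, hg⟩ := Groth.Agent.S17746.exists_intermediateField_hom k L X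
    (X ↘ Spec (CommRingCat.of k)) hdisc
  exact ⟨F, hF, g, hg⟩



/-- Take a field k and an irreducible normal k-variety X (a separated scheme of finite type over k all
of whose local rings are integrally closed domains) and let L be a finite Galois extension of k. If
the base change of X to L is not irreducible, then there is an intermediate field F of L over k,
different from k, such that the structure morphism of X factors through a k-morphism from X to Spec
F. -/
theorem result
    (k : Type u) [Field k] (X : Scheme.{u}) [X.Over (Spec (CommRingCat.of k))]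
    [IrreducibleSpace X] (hX : Pi1.IsNormalScheme X)
    [IsSeparated (X ↘ Spec (CommRingCat.of k))] [LocallyOfFiniteType (X ↘ Spec (CommRingCat.of k))]
    [QuasiCompact (X ↘ Spec (CommRingCat.of k))]
    (L : Type u) [Field L] [Algebra k L] [FiniteDimensional k L] [IsGalois k L]
    (hred : ¬ IrreducibleSpace ↥(Curv2.bc k X L)) :
    ∃ F : IntermediateField k L, F ≠ ⊥ ∧
      ∃ g : X ⟶ Spec (CommRingCat.of F),
        g ≫ Spec.map (CommRingCat.ofHom (algebraMap k F)) = X ↘ Spec (CommRingCat.of k) := by
  exact main k X hX L hred

end Groth.Agent.S17738
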