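import Groth.Statements.S17751
import Mathlib.RingTheory.Ideal.MinimalPrime.Noetherian
import Mathlib.RingTheory.Ideal.Height

set_option autoImplicit false
universe u
open LocCoh

namespace Groth.Agent.S17751

theorem key (R : Type u) [CommRing R] [IsNoetherianRing R] (I : Ideal R) (r : ℕ) :
    ∃ f : Fin r → R, (∀ i, f i ∈ I) ∧ ∀ (p : Ideal R) [p.IsPrime],
      Ideal.span (Set.range f) ≤ p → ¬ I ≤ p → (r : ℕ∞) ≤ p.height := by
  classical
  induction r with
  | zero => exact ⟨Fin.elim0, fun i => i.elim0, fun p _ _ _ => by simp⟩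
  | succ r ih =>
    obtain ⟨f, hfI, hf⟩ := ih
    set J := Ideal.span (Set.range f) with hJ
    have hfin : (J.minimalPrimes).Finite := J.finite_minimalPrimes_of_isNoetherianRing R
    let T : Finset (Ideal R) := hfin.toFinset.filter (fun P => ¬ I ≤ P)
    have hT : ∀ P ∈ T, P.IsPrime := by
      intro P hP
      simp only [T, Finset.mem_filter, Set.Finite.mem_toFinset] at hP
      exact hP.1.1.1
    obtain ⟨x, hxI, hx⟩ : ∃ x ∈ I, ∀ P ∈ T, x ∉ P := by
      by_contra hcon
      push Not at hcon
      have hsub : (I : Set R) ⊆ ⋃ P ∈ (↑T : Set (Ideal R)), (P : Set R) := by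
        intro x hx
        obtain ⟨P, hP, hxP⟩ := hcon x hx
        exact Set.mem_biUnion (by exact_mod_cast hP) hxP
      have h2 := (Ideal.subset_union_prime (s := T) (f := fun P => P) ⊥ ⊥
        (fun P hP _ _ => hT P hP)).mp hsub
      obtain ⟨P, hP, hIP⟩ := h2
      simp only [T, Finset.mem_filter] at hP
      exact hP.2 hIP
    refine ⟨Fin.snoc f x, ?_, ?_⟩
    · intro i
      refine Fin.lastCases ?_ (fun j => ?_) i
      · simpa using hxI
      · simpa using hfI j
    · intro p hp hle hIp
      have hJp : J ≤ p := by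
        rw [hJ, Ideal.span_le]
        rintro _ ⟨j, rfl⟩
        have : f j = (Fin.snoc f x : Fin (r + 1) → R) j.castSucc := by simp
        rw [this]
        exact hle (Ideal.subset_span ⟨_, rfl⟩)
      have hxp : x ∈ p := by
        have : x = (Fin.snoc f x : Fin (r + 1) → R) (Fin.last r) := by simp
        rw [this]
        exact hle (Ideal.subset_span ⟨_, rfl⟩)
      obtain ⟨P, hPmin, hPp⟩ := Ideal.exists_minimalPrimes_le hJp
      have hPprime : P.IsPrime := hPmin.1.1
      have hIP : ¬ I ≤ P := fun h => hIp (h.trans hPp)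
      have hPT : P ∈ T := by
        simp only [T, Finset.mem_filter, Set.Finite.mem_toFinset]
        exact ⟨hPmin, hIP⟩
      have hlt : P < p := lt_of_le_of_ne hPp (fun h => hx P hPT (h ▸ hxp))
      have h1 : (r : ℕ∞) ≤ P.height := hf P hPmin.1.2 hIP
      have h2 := Ideal.height_add_one_le_of_lt_of_isPrime hlt
      calc ((r + 1 : ℕ) : ℕ∞) = (r : ℕ∞) + 1 := by push_cast; rfl
        _ ≤ P.height + 1 := by gcongr
        _ ≤ p.height := h2


/-- Suppose R is a Noetherian ring, r is a natural number, and I is an ideal of R. Then there are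
elements f_1, …, f_r of I such that for every prime ideal p of R of height less than r, p contains I
if and only if p contains f_1, …, f_r. (For r = 0 there is nothing to prove.) -/
theorem result (R : Type u) [CommRing R] [IsNoetherianRing R] (I : Ideal R) (r : ℕ) : ∃ f : Fin r → R, (∀ i, f i ∈ I) ∧ ∀ (p : Ideal R) [p.IsPrime], p.height < r → (I ≤ p ↔ Ideal.span (Set.range f) ≤ p) := by
  obtain ⟨f, hfI, hf⟩ := key R I r
  refine ⟨f, hfI, fun p _ hp => ⟨fun hIp => ?_, fun hle => ?_⟩⟩
  · refine le_trans (Ideal.span_le.mpr ?_) hIp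
    rintro _ ⟨i, rfl⟩
    exact hfI i
  · by_contra hIp
    exact absurd (hf p hle hIp) (not_le.mpr hp)

end Groth.Agent.S17751
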