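import Groth.Statements.S17752
import Groth.Agent.S17751

set_option autoImplicit false
universe u
open LocCoh

namespace Groth.Agent.S17752

/-- Let R be a Noetherian ring of Krull dimension d and I an ideal of R. Then there are d + 1 elements
f_0, …, f_d of I such that I and the ideal they generate have the same radical; in other words the
arithmetic rank of I is at most d + 1. -/
theorem result (R : Type u) [CommRing R] [IsNoetherianRing R] (d : ℕ) (hd : ringKrullDim R = d) (I : Ideal R) : ∃ f : Fin (d + 1) → R, (∀ i, f i ∈ I) ∧ I.radical = (Ideal.span (Set.range f)).radical := by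
  obtain ⟨f, hfI, hf⟩ := Groth.Agent.S17751.key R I (d + 1)
  refine ⟨f, hfI, ?_⟩
  have hle : Ideal.span (Set.range f) ≤ I := by
    refine Ideal.span_le.mpr ?_
    rintro _ ⟨i, rfl⟩
    exact hfI i
  refine le_antisymm ?_ (Ideal.radical_mono hle)
  rw [Ideal.radical_eq_sInf (Ideal.span (Set.range f))]
  refine le_sInf ?_
  rintro p ⟨hfp, hp⟩
  have hIp : I ≤ p := by
    by_contra hIp
    have h1 := hf p hfp hIp
    have h2 : (p.height : WithBot ℕ∞) ≤ ringKrullDim R := Ideal.height_le_ringKrullDim_of_isPrime
    rw [hd] at h2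
    have h3 : ((d + 1 : ℕ) : WithBot ℕ∞) ≤ (d : WithBot ℕ∞) := by
      refine le_trans ?_ h2
      exact_mod_cast h1
    have h4 : (d + 1 : ℕ) ≤ d := by exact_mod_cast h3
    omega
  exact (Ideal.IsPrime.radical_le_iff hp).mpr hIp

end Groth.Agent.S17752
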