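import Groth.Statements.S17753
import Groth.Agent.S17751

set_option autoImplicit false
universe u
open LocCoh

namespace Groth.Agent.S17753

/-- Let R be a Noetherian local ring of Krull dimension d and I a proper ideal of R. Then there are d
elements f_1, …, f_d of I such that I and the ideal they generate have the same radical, so the
arithmetic rank of I is at most d. (The published statement has no properness hypothesis; for the
unit ideal of a field, d = 0 and no empty family generates the unit ideal up to radical, and the
published proof uses that the maximal ideal contains I.) -/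
theorem result (R : Type u) [CommRing R] [IsNoetherianRing R] [IsLocalRing R] (d : ℕ) (hd : ringKrullDim R = d) (I : Ideal R) (hI : I ≠ ⊤) : ∃ f : Fin d → R, (∀ i, f i ∈ I) ∧ I.radical = (Ideal.span (Set.range f)).radical := by
  obtain ⟨f, hfI, hf⟩ := Groth.Agent.S17751.key R I d
  refine ⟨f, hfI, ?_⟩
  have hle : Ideal.span (Set.range f) ≤ I := by
    refine Ideal.span_le.mpr ?_
    rintro _ ⟨i, rfl⟩
    exact hfI i
  refine le_antisymm ?_ (Ideal.radical_mono hle)
  rw [Ideal.radical_eq_sInf (Ideal.span (Set.range f))]
  refine le_sInf ?_
  rintro p ⟨hfp, hp⟩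
  have hIp : I ≤ p := by
    by_contra hIp
    have h1 := hf p hfp hIp
    have hpm : p ≤ IsLocalRing.maximalIdeal R := IsLocalRing.le_maximalIdeal hp.ne_top
    rcases lt_or_eq_of_le hpm with hlt | heq
    · have h2 := Ideal.height_add_one_le_of_lt_of_isPrime hlt
      have h3 : ((IsLocalRing.maximalIdeal R).height : WithBot ℕ∞) = (d : WithBot ℕ∞) := by
        rw [IsLocalRing.maximalIdeal_height_eq_ringKrullDim, hd]
      have h4 : (IsLocalRing.maximalIdeal R).height = (d : ℕ∞) := by exact_mod_cast h3
      rw [h4] at h2
      have h5 : (d : ℕ∞) + 1 ≤ d := le_trans (by gcongr) h2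
      have h6 : (d + 1 : ℕ) ≤ d := by exact_mod_cast h5
      omega
    · exact hIp (heq ▸ IsLocalRing.le_maximalIdeal hI)
  exact (Ideal.IsPrime.radical_le_iff hp).mpr hIp

end Groth.Agent.S17753
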