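import Groth.Statements.S5167
import Mathlib
import Groth.Agent.Lib.Helper19.FinLen2
import Groth.Agent.S0318

set_option autoImplicit false
universe u
open LocCoh

namespace Groth.Agent.S5167

-- MARK
/-- depth via vanishing of local cohomology -/
theorem le_depth_iff {B : Type u} [CommRing B] [IsNoetherianRing B] (I : Ideal B)
    (N : Type u) [AddCommGroup N] [Module B N] [Module.Finite B N] (k : ℕ) :
    (∀ j : ℕ, j < k → Subsingleton (LocCoh.H I j N)) ↔ (k : ℕ∞) ≤ LocCoh.idealDepth I N := by
  constructor
  · intro h
    by_contra hlt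
    push Not at hlt
    obtain ⟨δ, hδ⟩ := ENat.ne_top_iff_exists.1 (ne_top_of_lt hlt)
    have hδk : δ < k := by rw [← hδ] at hlt; exact_mod_cast hlt
    have h1 := h δ hδk
    have h2 := Groth.Agent.S0318.H_nontrivial_at I N δ hδ.symm
    exact not_subsingleton _ h1
  · intro h j hj
    exact Groth.Agent.S0318.H_vanish_below I N j (lt_of_lt_of_le (by exact_mod_cast hj) h)



/-- Let A be a Noetherian local ring which is a quotient of a regular local ring, m its maximal ideal, M
a finite A-module and n ≥ 0. Then H^i_m(M) is of finite length for all i ≤ n if and only if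
depth(M_p) > n − dim(A/p) for every prime p ≠ m. -/
theorem result (R : Type u) [CommRing R] [IsRegularLocalRing R] (A : Type u) [CommRing A] [IsLocalRing A] [IsNoetherianRing A] (π : R →+* A) (hπ : Function.Surjective π) (M : Type u) [AddCommGroup M] [Module A M] [Module.Finite A M] (n : ℕ) : (∀ i : ℕ, i ≤ n → IsFiniteLength A (LocCoh.H (IsLocalRing.maximalIdeal A) i M)) ↔ ∀ p : PrimeSpectrum A, p.asIdeal ≠ IsLocalRing.maximalIdeal A → ∀ e : ℕ, ringKrullDim (A ⧸ p.asIdeal) = e → (n : ℕ∞) < LocCoh.depth (Localization.AtPrime p.asIdeal) (LocalizedModule p.asIdeal.primeCompl M) + e := by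
  letI : Algebra R A := π.toAlgebra
  letI : Module R M := Module.compHom M π
  haveI : IsScalarTower R A M := IsScalarTower.of_algebraMap_smul fun _ _ => rfl
  have hπ' : Function.Surjective (algebraMap R A) := hπ
  have key := fun i => Groth.Agent.Lib.helper19.FinLen.finLenA hπ' M i
  constructor
  · intro h p hp e he
    by_cases hen : n < e
    · exact lt_of_lt_of_le (by exact_mod_cast hen) le_add_self
    · push Not at hen
      have hk : ((n + 1 - e : ℕ) : ℕ∞) ≤ LocCoh.idealDepth
          (IsLocalRing.maximalIdeal (Localization.AtPrime p.asIdeal))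
          (LocalizedModule p.asIdeal.primeCompl M) := by
        rw [← le_depth_iff]
        intro j hj
        exact (key (j + e)).1 (h (j + e) (by omega)) p.asIdeal hp e j he rfl
      have h1 : ((n : ℕ∞) + 1) ≤ LocCoh.depth (Localization.AtPrime p.asIdeal)
          (LocalizedModule p.asIdeal.primeCompl M) + e := by
        have h2 : ((n + 1 - e : ℕ) : ℕ∞) + (e : ℕ∞) = (n : ℕ∞) + 1 := by
          have : n + 1 - e + e = n + 1 := by omega
          exact_mod_cast this
        rw [← h2]
        exact add_le_add hk le_rfl
      exact lt_of_lt_of_le (ENat.lt_add_one_iff (ENat.natCast_ne_top n) |>.2 le_rfl) h1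
  · intro h i hi
    rw [key i]
    intro p _ hp e j he hj
    have h1 := h ⟨p, inferInstance⟩ hp e he
    apply Groth.Agent.S0318.H_vanish_below
    have h2 : ((j : ℕ∞) + e) < LocCoh.idealDepth
        (IsLocalRing.maximalIdeal (Localization.AtPrime p))
        (LocalizedModule p.primeCompl M) + e := by
      refine lt_of_le_of_lt ?_ h1
      have : j + e ≤ n := by omega
      exact_mod_cast this
    exact (ENat.add_lt_add_iff_right (ENat.natCast_ne_top e)).1 h2

end Groth.Agent.S5167
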