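import Groth.Statements.S17755
import Mathlib
import Groth.Agent.Lib.Helper19.Gor3
import Groth.Agent.S5167

set_option autoImplicit false
universe u
open LocCoh

namespace Groth.Agent.S17755

-- MARK
theorem dimA {R : Type u} [CommRing R] (M : Type u) [AddCommGroup M] [Module R M] (n : ℕ)
    (hn : Module.supportDim R M = n) (p : Ideal R) [hp : p.IsPrime]
    (hsupp : (⟨p, hp⟩ : PrimeSpectrum R) ∈ Module.support R M) (e : ℕ)
    (he : ringKrullDim (R ⧸ p) = e) :
    ∃ s : ℕ, Module.supportDim (Localization.AtPrime p) (LocalizedModule p.primeCompl M) = s ∧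
      Order.height (⟨⟨p, hp⟩, hsupp⟩ : Module.support R M) = s ∧ s + e ≤ n := by
  have h1 := Groth.Agent.Lib.helper26.FinRestr.supportDim_localization_eq_height M p hsupp
  have h2 := Groth.Agent.Lib.helper19.Gor.height_add_coheight_le M ⟨⟨p, hp⟩, hsupp⟩
  have h3 := Groth.Agent.Lib.Helper24.CatEquidim.coheight_eq_ringKrullDim_quotient
    (⟨p, hp⟩ : PrimeSpectrum R)
  rw [he] at h3
  have h3' : Order.coheight (⟨p, hp⟩ : PrimeSpectrum R) = e := by exact_mod_cast h3
  rw [hn] at h2
  simp only at h2
  rw [h3'] at h2
  have h4 : Order.height (⟨⟨p, hp⟩, hsupp⟩ : Module.support R M) + (e : ℕ∞) ≤ (n : ℕ∞) := by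
    exact_mod_cast h2
  obtain ⟨s, hs⟩ := ENat.ne_top_iff_exists.1
    (ne_top_of_le_ne_top (ENat.natCast_ne_top n) (le_trans le_self_add h4))
  refine ⟨s, by rw [h1, ← hs]; rfl, hs.symm, ?_⟩
  rw [← hs] at h4
  exact_mod_cast h4

theorem dimB {R : Type u} [CommRing R] [IsNoetherianRing R] [IsLocalRing R]
    (hcat : CAlg.IsCatenary R) (M : Type u) [AddCommGroup M] [Module R M] [Module.Finite R M]
    (n : ℕ) (heq : ∀ q ∈ (Module.annihilator R M).minimalPrimes, ringKrullDim (R ⧸ q) = n)
    (p : Ideal R) [hp : p.IsPrime]
    (hsupp : (⟨p, hp⟩ : PrimeSpectrum R) ∈ Module.support R M) (e : ℕ)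
    (he : ringKrullDim (R ⧸ p) = e) :
    (n : ℕ∞) ≤ Order.height (⟨⟨p, hp⟩, hsupp⟩ : Module.support R M) + e := by
  have hle : Module.annihilator R M ≤ p := Module.mem_support_iff_of_finite.1 hsupp
  obtain ⟨q, hqmin, hqp⟩ := Ideal.exists_minimalPrimes_le hle
  haveI hqprime : q.IsPrime := hqmin.1.1
  have hqsupp : (⟨q, hqprime⟩ : PrimeSpectrum R) ∈ Module.support R M :=
    Module.mem_support_iff_of_finite.2 hqmin.1.2
  have h1 := Groth.Agent.Lib.Helper24.CatEquidim.coheight_eq_ringKrullDim_quotient
    (⟨q, hqprime⟩ : PrimeSpectrum R)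
  rw [heq q hqmin] at h1
  have h1' : Order.coheight (⟨q, hqprime⟩ : PrimeSpectrum R) = n := by exact_mod_cast h1
  have h3 := Groth.Agent.Lib.Helper24.CatEquidim.coheight_eq_ringKrullDim_quotient
    (⟨p, hp⟩ : PrimeSpectrum R)
  rw [he] at h3
  have h3' : Order.coheight (⟨p, hp⟩ : PrimeSpectrum R) = e := by exact_mod_cast h3
  have h2 := Groth.Agent.Lib.helper19.Gor.coheight_add_height_mono M hcat n
    ⟨⟨q, hqprime⟩, hqsupp⟩ ⟨⟨p, hp⟩, hsupp⟩ hqp h1'
  simp only at h2
  rw [h1', h3'] at h2
  calc (n : ℕ∞) ≤ (n : ℕ∞) + Order.height (⟨⟨q, hqprime⟩, hqsupp⟩ : Module.support R M) :=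
        le_self_add
    _ ≤ _ := h2
    _ = _ := add_comm _ _



/-- Let R be a Noetherian local ring with maximal ideal m which is a homomorphic image of a Gorenstein
local ring, and let M be a finitely generated R-module whose support has dimension n. Then the
following are equivalent: (1) M is generalized Cohen–Macaulay, i.e. the local cohomology module
H^i_m(M) has finite length for every i < n; (2) M is equidimensional, i.e. R ⧸ p has dimension n for
every minimal prime p of the annihilator of M, and for every prime p ≠ m containing the annihilator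
of M the localization M_p is a Cohen–Macaulay module over R_p (its depth equals the dimension of its
support). -/
theorem result (R : Type u) [CommRing R] [IsNoetherianRing R] [IsLocalRing R] (R' : Type u) [CommRing R'] [LocCoh.IsGorensteinLocalRing R'] (g : R' →+* R) (hg : Function.Surjective g) (M : Type u) [AddCommGroup M] [Module R M] [Module.Finite R M] (n : ℕ) (hn : Module.supportDim R M = n) : (∀ i : ℕ, i < n → IsFiniteLength R (LocCoh.H (IsLocalRing.maximalIdeal R) i M)) ↔ ((∀ p ∈ (Module.annihilator R M).minimalPrimes, ringKrullDim (R ⧸ p) = n) ∧ ∀ (p : Ideal R) [p.IsPrime], p ≠ IsLocalRing.maximalIdeal R → Module.annihilator R M ≤ p → LocCoh.IsCohenMacaulayModule (Localization.AtPrime p) (LocalizedModule p.primeCompl M)) := by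
  classical
  letI : Algebra R' R := g.toAlgebra
  letI : Module R' M := Module.compHom M g
  haveI : IsScalarTower R' R M := IsScalarTower.of_algebraMap_smul fun _ _ => rfl
  have hπ' : Function.Surjective (algebraMap R' R) := hg
  have key := fun i => Groth.Agent.Lib.helper19.Gor.finLenA hπ' M i
  haveI hCM : LocCoh.IsCohenMacaulayLocalRing R' := Groth.Agent.S0341.result R'
  have hcat : CAlg.IsCatenary R := Groth.Agent.S0553.isCatenary_of_surjective g hg
    (Groth.Agent.Lib.helper26.CMPoly.isCatenary_of_cm_local hCM.supportDim_eq_depth)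
  constructor
  · intro h
    have vanish : ∀ (p : Ideal R) [p.IsPrime], p ≠ IsLocalRing.maximalIdeal R → ∀ e j : ℕ,
        ringKrullDim (R ⧸ p) = e → j + e < n →
        Subsingleton (LocCoh.H (IsLocalRing.maximalIdeal (Localization.AtPrime p)) j
          (LocalizedModule p.primeCompl M)) :=
      fun p _ hp e j he hlt => (key (j + e)).1 (h (j + e) hlt) p hp e j he rfl
    refine ⟨?_, ?_⟩
    · intro q hqmin
      haveI hqprime : q.IsPrime := hqmin.1.1
      obtain ⟨e, he⟩ := Groth.Agent.Lib.helper19.Gor.exists_dim_quot R q
      have hqsupp : (⟨q, hqprime⟩ : PrimeSpectrum R) ∈ Module.support R M :=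
        Module.mem_support_iff_of_finite.2 hqmin.1.2
      obtain ⟨s, hs, hhs, hse⟩ := dimA M n hn q hqsupp e he
      have hmin : IsMin (⟨⟨q, hqprime⟩, hqsupp⟩ : Module.support R M) := by
        intro x hx
        have hx' : x.1.asIdeal ≤ q := hx
        exact hqmin.2 ⟨x.1.2, Module.mem_support_iff_of_finite.1 x.2⟩ hx'
      have hs0 : s = 0 := by
        have := Order.height_eq_zero.2 hmin
        rw [hhs] at this
        exact_mod_cast this
      subst hs0
      rw [he]
      suffices e = n by rw [this]
      by_cases hqm : q = IsLocalRing.maximalIdeal R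
      · have hsub : Subsingleton (Module.support R M) := by
          refine ⟨fun x y => ?_⟩
          have hx : ∀ z : Module.support R M, z.1.asIdeal = q := by
            intro z
            have hzq : z.1.asIdeal ≤ q := by
              rw [hqm]
              exact IsLocalRing.le_maximalIdeal (Ideal.IsPrime.ne_top z.1.2)
            exact le_antisymm hzq
              (hqmin.2 ⟨z.1.2, Module.mem_support_iff_of_finite.1 z.2⟩ hzq)
          apply Subtype.ext
          apply PrimeSpectrum.ext
          rw [hx x, hx y]
        have h0 : Module.supportDim R M ≤ 0 := by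
          unfold Module.supportDim
          exact Order.krullDim_nonpos_of_subsingleton
        rw [hn] at h0
        have : n ≤ 0 := by exact_mod_cast h0
        omega
      · by_contra hne
        have hlt : 0 + e < n := by omega
        have hv := vanish q hqm e 0 he hlt
        haveI : Nontrivial (LocalizedModule q.primeCompl M) := hqsupp
        have h1 : ((1 : ℕ) : ℕ∞) ≤ LocCoh.idealDepth
            (IsLocalRing.maximalIdeal (Localization.AtPrime q))
            (LocalizedModule q.primeCompl M) := by
          rw [← Groth.Agent.S5167.le_depth_iff]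
          intro j hj
          obtain rfl : j = 0 := by omega
          exact hv
        have h2 := Groth.Agent.Lib.helper26.Depth.depth_le_supportDim
          (A := Localization.AtPrime q) (LocalizedModule q.primeCompl M)
        rw [hs] at h2
        have h3 : LocCoh.depth (Localization.AtPrime q) (LocalizedModule q.primeCompl M) ≤
            ((0 : ℕ) : ℕ∞) := by exact_mod_cast h2
        have h4 : ((1 : ℕ) : ℕ∞) ≤ ((0 : ℕ) : ℕ∞) := le_trans h1 h3
        have : (1 : ℕ) ≤ 0 := by exact_mod_cast h4
        omega
    · intro p _ hpm hann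
      have hsupp : (⟨p, inferInstance⟩ : PrimeSpectrum R) ∈ Module.support R M :=
        Module.mem_support_iff_of_finite.2 hann
      obtain ⟨e, he⟩ := Groth.Agent.Lib.helper19.Gor.exists_dim_quot R p
      obtain ⟨s, hs, hhs, hse⟩ := dimA M n hn p hsupp e he
      haveI : Nontrivial (LocalizedModule p.primeCompl M) := hsupp
      show Module.supportDim _ _ = _
      apply le_antisymm
      · rw [hs]
        have h1 : ((n - e : ℕ) : ℕ∞) ≤ LocCoh.idealDepth
            (IsLocalRing.maximalIdeal (Localization.AtPrime p))
            (LocalizedModule p.primeCompl M) := by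
          rw [← Groth.Agent.S5167.le_depth_iff]
          intro j hj
          exact vanish p hpm e j he (by omega)
        have h2 : (s : ℕ∞) ≤ LocCoh.depth (Localization.AtPrime p)
            (LocalizedModule p.primeCompl M) :=
          le_trans (by exact_mod_cast (show s ≤ n - e by omega)) h1
        exact_mod_cast h2
      · exact Groth.Agent.Lib.helper26.Depth.depth_le_supportDim
          (A := Localization.AtPrime p) (LocalizedModule p.primeCompl M)
  · rintro ⟨heq, hcm⟩ i hi
    rw [key i]
    intro p _ hpm e j he hj
    by_cases hsupp : (⟨p, inferInstance⟩ : PrimeSpectrum R) ∈ Module.support R M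
    · have hann : Module.annihilator R M ≤ p := Module.mem_support_iff_of_finite.1 hsupp
      have hCMp : Module.supportDim (Localization.AtPrime p) (LocalizedModule p.primeCompl M) =
          ((LocCoh.depth (Localization.AtPrime p) (LocalizedModule p.primeCompl M) : ℕ∞) :
            WithBot ℕ∞) := hcm p hpm hann
      obtain ⟨s, hs, hhs, hse⟩ := dimA M n hn p hsupp e he
      have hB := dimB hcat M n heq p hsupp e he
      rw [hhs] at hB
      have hB' : n ≤ s + e := by exact_mod_cast hB
      rw [hs] at hCMp
      have hd : (s : ℕ∞) = LocCoh.depth (Localization.AtPrime p)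
          (LocalizedModule p.primeCompl M) := by exact_mod_cast hCMp
      apply Groth.Agent.S0318.H_vanish_below
      show (j : ℕ∞) < LocCoh.depth (Localization.AtPrime p) (LocalizedModule p.primeCompl M)
      rw [← hd]
      exact_mod_cast (show j < s by omega)
    · haveI : Subsingleton (LocalizedModule p.primeCompl M) := Module.notMem_support_iff.1 hsupp
      apply Groth.Agent.Lib.helper19.LCGroth.vanish
      rw [Module.supportDim_eq_bot_of_subsingleton]
      exact WithBot.bot_lt_coe _

end Groth.Agent.S17755
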