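import Groth.Statements.S17766
import Mathlib
import Groth.Agent.Lib.Helper19.CanMod8

set_option autoImplicit false
universe u
open CategoryTheory Opposite
open LocCoh

namespace Groth.Agent.S17766




/-- Let B be a regular local ring, p a prime ideal of B of height r, and suppose that A = B ⧸ p is
Cohen–Macaulay. Then the B-module Ext^r_B(A, B) is isomorphic either to A itself or to a proper
ideal I of A which is unmixed of height one, i.e. every associated prime of A ⧸ I has height one in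
A (existence of a B-linear isomorphism in each case). -/
theorem result (B : Type u) [CommRing B] [IsRegularLocalRing B] (p : Ideal B) [p.IsPrime] [LocCoh.IsCohenMacaulayLocalRing (B ⧸ p)] (r : ℕ) (hr : p.height = r) : Nonempty (((Ext B (ModuleCat.{u} B) r).obj (op (ModuleCat.of B (B ⧸ p)))).obj (ModuleCat.of B B) ≃ₗ[B] (B ⧸ p)) ∨ ∃ I : Ideal (B ⧸ p), I ≠ ⊤ ∧ (∀ q ∈ associatedPrimes (B ⧸ p) ((B ⧸ p) ⧸ I), q.height = 1) ∧ Nonempty (((Ext B (ModuleCat.{u} B) r).obj (op (ModuleCat.of B (B ⧸ p)))).obj (ModuleCat.of B B) ≃ₗ[B] I) := by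
  classical
  let eo := Groth.Agent.Lib.helper19.LCBridge.oldExtEquiv (R := B) (ModuleCat.of B (B ⧸ p))
    (ModuleCat.of B B) r
  rcases Groth.Agent.Lib.helper19.CanMod.ext_equiv_self_or_unmixed B p r hr with ⟨⟨e⟩⟩ | ⟨I, hI, hq, ⟨e⟩⟩
  · exact Or.inl ⟨eo.trans e⟩
  · exact Or.inr ⟨I, hI, hq, ⟨eo.trans e⟩⟩

end Groth.Agent.S17766
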