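import Groth.Statements.S17769
import Mathlib
import Groth.Agent.Lib.Helper19.GrLes7
import Groth.Agent.Lib.Helper19.LCLoc
import Groth.Agent.Lib.Helper19.StarLocalArt
import Groth.Agent.Lib.Helper26.CM7
import Groth.Agent.Lib.Helper26.DepthLoc2
import Groth.Agent.Lib.Helper26.ReflexiveCrit2
import Groth.Agent.S13224
import Groth.Agent.S0318

set_option autoImplicit false
universe u
open GrLC

namespace Groth.Agent.S17769

-- MARK
open Groth.Agent.Lib.helper19.GrLes in
theorem endDeg_bot_of_subsingleton {R : Type u} [CommRing R]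
    {𝒜 : ℤ → AddSubgroup R} [GradedRing 𝒜] {M : Type u} [AddCommGroup M] [Module R M]
    {ℳ : ℤ → AddSubgroup M} [DirectSum.Decomposition ℳ] [SetLike.GradedSMul 𝒜 ℳ]
    (E : StarInjRes 𝒜 ℳ) (a : HomogeneousIdeal 𝒜) (n : ℕ) (h : Subsingleton (E.H a n)) :
    GrLC.endDeg (E.Hgr a n) = ⊥ :=
  endDeg_eq_bot _ (fun g => eq_bot_of_subsingleton E a n g)

open scoped Pointwise in
noncomputable def quotEquiv {R : Type u} [CommRing R] (x : R) {N : Type u} [AddCommGroup N] [Module R N]
    (π : R →ₗ[R] N) (hπs : Function.Surjective π) (hπk : LinearMap.ker π = Ideal.span {x}) :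
    QuotSMulTop x R ≃ₗ[R] N :=
  (Submodule.quotEquivOfEq _ _ (by
    rw [hπk]
    simp [← Submodule.ideal_span_singleton_smul])) ≪≫ₗ LinearMap.quotKerEquivOfSurjective π hπs

theorem lt_of_add_one_eq {a : WithBot ℕ∞} {h : ℕ∞} {d : ℕ} (h1 : a + 1 = (h : WithBot ℕ∞))
    (h2 : h ≤ (d : ℕ∞)) : a < ((d : ℕ) : WithBot ℕ∞) := by
  induction a using WithBot.recBotCoe with
  | bot => exact WithBot.bot_lt_coe _
  | coe a' =>
    have h3 : ((a' + 1 : ℕ∞) : WithBot ℕ∞) = (h : WithBot ℕ∞) := by
      rw [← h1]; rfl
    have h4 : a' + 1 = h := WithBot.coe_injective h3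
    have h5 : a' + 1 ≤ (d : ℕ∞) := h4 ▸ h2
    have h6 : a' < (d : ℕ∞) := by
      have hne : a' ≠ ⊤ := by
        intro htop
        rw [htop, top_add] at h5
        exact absurd h5 (not_le.2 (ENat.natCast_lt_top d))
      exact (ENat.add_one_le_iff hne).1 h5
    exact_mod_cast h6



/-- Let R = ⊕_{n ≥ 0} R_n be a Noetherian positively ℤ-graded ring which is standard graded (its
irrelevant ideal is generated by R_1), *local with unique homogeneous maximal ideal m,
Cohen–Macaulay, and of Krull dimension d + 1. Let x be a homogeneous element of degree k lying in m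
which is a non-zerodivisor on R, and let N be R ⧸ xR as a graded R-module, presented by a surjective
degree-preserving R-linear map π : R → N with kernel xR. Writing a(·) for the largest degree in
which the top graded local cohomology with support in m is nonzero (computed from *injective
resolutions I of R and F of N), one has a(R ⧸ xR) = a(R) + k, that is, the end of H^d_m(N) equals
the end of H^{d+1}_m(R) plus k. (The published statement does not require x to lie in m; for a
homogeneous unit x of degree 0 one has R ⧸ xR = 0, whose local cohomology vanishes, and the formula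
fails. The proof uses that H^d_m(R ⧸ xR) is the top local cohomology, i.e. that x is not a unit, so
x is taken in m here; for a standard graded ring this excludes only the units of degree 0.) -/
theorem result (R : Type u) [CommRing R] [LocCoh.IsCohenMacaulayRing R] (𝒜 : ℤ → AddSubgroup R) [GradedRing 𝒜] (hpos : ∀ n : ℤ, n < 0 → 𝒜 n = ⊥) (hstd : Ideal.span (⋃ n ∈ Set.Ioi (0 : ℤ), (𝒜 n : Set R)) = Ideal.span ((𝒜 1 : AddSubgroup R) : Set R)) (m : HomogeneousIdeal 𝒜) (hm : GrLC.IsStarLocal 𝒜 m) (d : ℕ) (hd : ringKrullDim R = (d + 1 : ℕ)) (I : GrLC.StarInjRes 𝒜 𝒜) (x : R) (k : ℤ) (hxk : x ∈ 𝒜 k) (hxm : x ∈ m.toIdeal) (hx : IsSMulRegular R x) (N : Type u) [AddCommGroup N] [Module R N] (𝒩 : ℤ → AddSubgroup N) [DirectSum.Decomposition 𝒩] [SetLike.GradedSMul 𝒜 𝒩] (π : R →ₗ[R] N) (hπ : GrLC.IsGrHom 𝒜 𝒩 π) (hπs : Function.Surjective π) (hπk : LinearMap.ker π = Ideal.span {x}) (F : GrLC.StarInjRes 𝒜 𝒩) : GrLC.endDeg (F.Hgr m d) = GrLC.endDeg (I.Hgr m (d + 1)) + ((k : WithTop ℤ) : WithBot (WithTop ℤ)) := by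
  classical
  have hmax : m.toIdeal.IsMaximal :=
    Groth.Agent.Lib.helper19.StarLocalArt.isMaximal_of_isCoatom 𝒜 hpos m hm.1
  have hker : LinearMap.ker π = LinearMap.range (x • (LinearMap.id : R →ₗ[R] R)) := by
    rw [hπk]
    ext y
    constructor
    · intro hy
      obtain ⟨a, rfl⟩ := Ideal.mem_span_singleton'.1 hy
      exact ⟨a, by simp [mul_comm]⟩
    · rintro ⟨a, rfl⟩
      exact Ideal.mem_span_singleton'.2 ⟨a, by simp [mul_comm]⟩
  by_cases hk : 0 ≤ k
  swap
  · push Not at hk
    have hx0 : x = 0 := by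
      have := hxk
      rw [hpos k hk] at this
      exact (AddSubgroup.mem_bot).1 this
    rw [hx0] at hx
    have hsub : Subsingleton R := IsSMulRegular.zero_iff_subsingleton.1 hx
    have h1 : Subsingleton (F.H m d) := Module.subsingleton R _
    have h2 : Subsingleton (I.H m (d + 1)) := Module.subsingleton R _
    rw [endDeg_bot_of_subsingleton F m d h1, endDeg_bot_of_subsingleton I m (d + 1) h2]
    rfl
  have hht : m.toIdeal.height ≤ ((d + 1 : ℕ) : ℕ∞) := by
    have h1 := Ideal.height_le_ringKrullDim_of_ne_top hmax.ne_top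
    rw [hd] at h1
    exact_mod_cast h1
  rcases eq_or_lt_of_le hht with heq | hlt
  · have hdepth : LocCoh.idealDepth m.toIdeal R = m.toIdeal.height :=
      ((Groth.Agent.Lib.helper26.Depth.isCohenMacaulayRing_iff_idealDepth_eq_height R).1 inferInstance)
        m.toIdeal hmax.ne_top
    have hv : Subsingleton (LocCoh.H m.toIdeal d R) :=
      Groth.Agent.S0318.H_vanish_below m.toIdeal R d (by
        rw [hdepth, heq]
        exact_mod_cast Nat.lt_succ_self d)
    obtain ⟨e⟩ := Groth.Agent.S13224.result R 𝒜 m R 𝒜 I d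
    have hvan : Subsingleton (I.H m d) := e.toEquiv.subsingleton
    exact Groth.Agent.Lib.helper19.GrLes.endDeg_step I F x k hxk hk m hxm hx π hπ hπs hker d hvan
  · have hle : m.toIdeal.height ≤ (d : ℕ∞) := by
      have : m.toIdeal.height < ((d : ℕ∞) + 1) := by exact_mod_cast hlt
      exact Order.le_of_lt_add_one this
    have hself := Groth.Agent.Lib.helper26.Depth.supportDim_localizedModule_self (A := R) m.toIdeal
    have h1 : Subsingleton (I.H m (d + 1)) := by
      obtain ⟨e⟩ := Groth.Agent.S13224.result R 𝒜 m R 𝒜 I (d + 1)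
      have : Subsingleton (LocCoh.H m.toIdeal (d + 1) R) := by
        apply Groth.Agent.Lib.helper19.LCLoc.H_subsingleton_of_supportDim_localization_lt
        rw [hself]
        exact_mod_cast hlt
      exact e.toEquiv.subsingleton
    have h2 : Subsingleton (F.H m d) := by
      obtain ⟨e⟩ := Groth.Agent.S13224.result R 𝒜 m N 𝒩 F d
      have : Subsingleton (LocCoh.H m.toIdeal d N) := by
        apply Groth.Agent.Lib.helper19.LCLoc.H_subsingleton_of_supportDim_localization_lt
        have hq := Groth.Agent.Lib.helper26.Depth.supportDim_localization_quotSMulTop m.toIdeal R x hxm hx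
        rw [hself] at hq
        have eN : QuotSMulTop x R ≃ₗ[R] N := quotEquiv x π hπs hπk
        rw [← Module.supportDim_eq_of_equiv
          (Groth.Agent.Lib.helper26.Depth.localizedEquiv m.toIdeal eN)]
        exact lt_of_add_one_eq hq hle
      exact e.toEquiv.subsingleton
    rw [endDeg_bot_of_subsingleton F m d h2, endDeg_bot_of_subsingleton I m (d + 1) h1]
    rfl

end Groth.Agent.S17769
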