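import Groth.Statements.S17771
import Mathlib
import Groth.Agent.Lib.Helper19.GrHt2
import Groth.Agent.Lib.Helper19.GrSG5
import Groth.Agent.Lib.Helper19.Kz5
import Groth.Agent.Lib.Helper19.GrLes7
import Groth.Agent.Lib.Helper26.CM7
import Groth.Agent.S13224
import Groth.Agent.S0318

set_option autoImplicit false
universe u
open GrLC

namespace Groth.Agent.S17771

-- MARK
open Groth.Agent.Lib.helper19.Kz in
/-- graded local cohomology only depends on the torsion functor -/
theorem Hgr_eq_bot_of_gam_eq {R : Type u} [CommRing R] {𝒜 : ℤ → AddSubgroup R} [GradedRing 𝒜]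
    {M : Type u} [AddCommGroup M] [Module R M] {ℳ : ℤ → AddSubgroup M}
    [DirectSum.Decomposition ℳ] [SetLike.GradedSMul 𝒜 ℳ] (E : StarInjRes 𝒜 ℳ)
    (a b : HomogeneousIdeal 𝒜)
    (hab : ∀ (X : Type u) [AddCommGroup X] [Module R X], gam a.toIdeal X = gam b.toIdeal X)
    (n : ℕ) (g : ℤ) (h : E.Hgr a n g = ⊥) : E.Hgr b n g = ⊥ := by
  rw [← baseCx_Hv_iff] at h ⊢
  intro z hz hzΓ hdz
  rw [← hab] at hzΓ
  obtain ⟨w, hw, hwΓ, hwd⟩ := h z hz hzΓ hdz
  rw [hab] at hwΓ
  exact ⟨w, hw, hwΓ, hwd⟩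



/-- Let R = ⊕_{n ≥ 0} R_n be a positively ℤ-graded ring which is standard graded (irrelevant ideal
generated by R_1), with R_0 Artinian, *local with unique homogeneous maximal ideal m, and
Cohen–Macaulay of Krull dimension d. Then the a-invariant of R is at least −d: the end (largest
nonzero degree) of the graded local cohomology module H^d_m(R), computed from any *injective
resolution of R in the graded category, is ≥ −d. (Equality holds exactly for polynomial rings
R_0[T_1, …, T_d]; that characterisation is not part of this statement.) -/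
theorem result (R : Type u) [CommRing R] [LocCoh.IsCohenMacaulayRing R] (𝒜 : ℤ → AddSubgroup R) [GradedRing 𝒜] (hpos : ∀ n : ℤ, n < 0 → 𝒜 n = ⊥) (hstd : Ideal.span (⋃ n ∈ Set.Ioi (0 : ℤ), (𝒜 n : Set R)) = Ideal.span ((𝒜 1 : AddSubgroup R) : Set R)) [IsArtinianRing (GrLC.deg0 𝒜)] (m : HomogeneousIdeal 𝒜) (hm : GrLC.IsStarLocal 𝒜 m) (d : ℕ) (hd : ringKrullDim R = d) (I : GrLC.StarInjRes 𝒜 𝒜) : (((-(d : ℤ) : ℤ) : WithTop ℤ) : WithBot (WithTop ℤ)) ≤ GrLC.endDeg (I.Hgr m d) := by
  classical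
  have hmax : m.toIdeal.IsMaximal :=
    Groth.Agent.Lib.helper19.StarLocalArt.isMaximal_of_isCoatom 𝒜 hpos m hm.1
  have hht : m.toIdeal.height = (d : ℕ∞) := by
    have h1 := Groth.Agent.Lib.helper19.GrHt.ringKrullDim_eq_height 𝒜 hpos m hm
    rw [hd] at h1
    exact_mod_cast h1.symm
  have hdepth : LocCoh.idealDepth m.toIdeal R = m.toIdeal.height :=
    ((Groth.Agent.Lib.helper26.Depth.isCohenMacaulayRing_iff_idealDepth_eq_height R).1 inferInstance)
      m.toIdeal hmax.ne_top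
  have hgood := Groth.Agent.Lib.helper19.GrSG.good_of_starLocal 𝒜 hpos m hm d hd
  by_contra hcon
  have htop : I.Hgr m d (-(d : ℤ)) = ⊥ := by
    by_contra hne
    exact hcon (Groth.Agent.Lib.helper19.GrLes.le_endDeg (I.Hgr m d) hne)
  have hvan_m : ∀ i : ℕ, I.Hgr m i (0 - (i : ℤ)) = ⊥ := by
    intro i
    rcases lt_trichotomy i d with hi | hi | hi
    · have hv : Subsingleton (LocCoh.H m.toIdeal i R) :=
        Groth.Agent.S0318.H_vanish_below m.toIdeal R i (by
          rw [hdepth, hht]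
          exact_mod_cast hi)
      obtain ⟨e⟩ := Groth.Agent.S13224.result R 𝒜 m R 𝒜 I i
      haveI : Subsingleton (I.H m i) := e.toEquiv.subsingleton
      exact Groth.Agent.Lib.helper19.GrLes.eq_bot_of_subsingleton I m i _
    · subst hi
      rw [zero_sub]
      exact htop
    · have := hgood.top R 𝒜 I i hi (0 - (i : ℤ))
      show (I.Hcomp m i (0 - (i : ℤ))).toAddSubgroup = ⊥
      rw [this]
      rfl
  -- the irrelevant ideal
  let a : HomogeneousIdeal 𝒜 := ⟨Groth.Agent.Lib.helper19.GrFin.irr 𝒜, Ideal.homogeneous_span 𝒜 _ (by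
    intro x hx
    simp only [Set.mem_iUnion, Set.mem_Ioi] at hx
    obtain ⟨n, -, hxn⟩ := hx
    exact ⟨n, hxn⟩)⟩
  have ha : a.toIdeal = Groth.Agent.Lib.helper19.GrFin.irr 𝒜 := rfl
  have hale : a.toIdeal ≤ m.toIdeal := by
    rw [ha]
    unfold Groth.Agent.Lib.helper19.GrFin.irr
    rw [Ideal.span_le]
    intro x hx
    simp only [Set.mem_iUnion, Set.mem_Ioi] at hx
    obtain ⟨n, hn, hxn⟩ := hx
    exact Groth.Agent.Lib.helper19.StarLocalArt.pos_mem_of_coatom 𝒜 hpos m hm.1 hn hxn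
  have hgam : ∀ (X : Type u) [AddCommGroup X] [Module R X], gam m.toIdeal X = gam a.toIdeal X := by
    intro X _ _
    apply le_antisymm
    · rintro z ⟨t, ht⟩
      exact ⟨t, fun r hr => ht r (Ideal.pow_right_mono hale t hr)⟩
    · exact Groth.Agent.Lib.helper19.GrSG.gam_irr_le 𝒜 hpos m hm X
  have hvan_a : ∀ i : ℕ, I.Hgr a i (0 - (i : ℤ)) = ⊥ :=
    fun i => Hgr_eq_bot_of_gam_eq I m a hgam i _ (hvan_m i)
  have hfg : (Ideal.span ((𝒜 1 : AddSubgroup R) : Set R)).FG := IsNoetherian.noetherian _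
  obtain ⟨s', hs'sub, hs'eq⟩ := (Submodule.fg_span_iff_fg_span_finset_subset _).1 hfg
  have hxs1 : ∀ x ∈ s'.toList, x ∈ 𝒜 1 := fun x hx => hs'sub (Finset.mem_toList.1 hx)
  have hxsa : a.toIdeal = Ideal.span {x | x ∈ s'.toList} := by
    rw [ha]
    unfold Groth.Agent.Lib.helper19.GrFin.irr
    rw [hstd]
    have h1 : {x | x ∈ s'.toList} = (s' : Set R) := by
      ext x
      simp [Finset.mem_toList]
    rw [h1]
    exact hs'eq
  have h2 := Groth.Agent.Lib.helper19.Kz.gen_of_vanish I a s'.toList hxs1 hxsa 0 hvan_a (1 : R)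
    SetLike.GradedOne.one_mem
  have h3 : (1 : R) ∈ a.toIdeal := by
    have : a.toIdeal • (⊤ : Submodule R R) = a.toIdeal := by
      rw [smul_eq_mul, Ideal.mul_top]
    rw [this] at h2
    exact h2
  exact hmax.ne_top ((Ideal.eq_top_iff_one _).2 (hale h3))

end Groth.Agent.S17771
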