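import Groth.Statements.S17772
import Mathlib
import Groth.Agent.Lib.Helper19.GrHt2
import Groth.Agent.Lib.Helper19.GrSG5
import Groth.Agent.Lib.Helper26.CM7
import Groth.Agent.S13224
import Groth.Agent.S0318

set_option autoImplicit false
universe u
open GrLC

namespace Groth.Agent.S17772

-- MARK


/-- Let R = ⊕_{n ≥ 0} R_n be a positively ℤ-graded ring which is standard graded (irrelevant ideal
generated by R_1), with R_0 Artinian, *local with unique homogeneous maximal ideal m, and
Cohen–Macaulay of Krull dimension d; let H_R(n) = ℓ_{R_0}(R_n) be its Hilbert function and P_R ∈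
ℚ[X] its Hilbert polynomial (a polynomial agreeing with H_R for all large n, taken as given). Then
the a-invariant of R, the largest degree in which H^d_m(R) is nonzero (computed from any *injective
resolution of R), equals the supremum of the integers n with P_R(n) ≠ H_R(n). (The published text
writes 'min' for this supremum; the set of such n is unbounded below whenever it is nonempty, e.g.
all n < 0 for a polynomial ring over a field, and the published one-line proof H_R(n) − P_R(n) =
(−1)^d ℓ(H^d_m(R)_n) identifies the set with the nonzero degrees of H^d_m(R), whose largest element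
is a(R).) -/
theorem result (R : Type u) [CommRing R] [LocCoh.IsCohenMacaulayRing R] (𝒜 : ℤ → AddSubgroup R) [GradedRing 𝒜] (hpos : ∀ n : ℤ, n < 0 → 𝒜 n = ⊥) (hstd : Ideal.span (⋃ n ∈ Set.Ioi (0 : ℤ), (𝒜 n : Set R)) = Ideal.span ((𝒜 1 : AddSubgroup R) : Set R)) [IsArtinianRing (GrLC.deg0 𝒜)] (m : HomogeneousIdeal 𝒜) (hm : GrLC.IsStarLocal 𝒜 m) (d : ℕ) (hd : ringKrullDim R = d) (I : GrLC.StarInjRes 𝒜 𝒜) (P : Polynomial ℚ) (hP : ∃ N : ℤ, ∀ n : ℤ, N ≤ n → P.eval (n : ℚ) = ((Module.length (GrLC.deg0 𝒜) (GrLC.comp 𝒜 𝒜 n)).toNat : ℚ)) : GrLC.endDeg (I.Hgr m d) = ⨆ (n : ℤ) (_ : P.eval (n : ℚ) ≠ ((Module.length (GrLC.deg0 𝒜) (GrLC.comp 𝒜 𝒜 n)).toNat : ℚ)), ((n : WithTop ℤ) : WithBot (WithTop ℤ)) := by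
  classical
  have hmax : m.toIdeal.IsMaximal :=
    Groth.Agent.Lib.helper19.StarLocalArt.isMaximal_of_isCoatom 𝒜 hpos m hm.1
  have hht : m.toIdeal.height = (d : ℕ∞) := by
    have h1 := Groth.Agent.Lib.helper19.GrHt.ringKrullDim_eq_height 𝒜 hpos m hm
    rw [hd] at h1
    exact_mod_cast h1.symm
  have hdepth : LocCoh.idealDepth m.toIdeal R = m.toIdeal.height :=
    ((Groth.Agent.Lib.helper26.Depth.isCohenMacaulayRing_iff_idealDepth_eq_height R).1 inferInstance)
      m.toIdeal hmax.ne_top
  have hvan : ∀ i : ℕ, i < d → ∀ n : ℤ, I.Hcomp m i n = ⊥ := by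
    intro i hi n
    have hv : Subsingleton (LocCoh.H m.toIdeal i R) :=
      Groth.Agent.S0318.H_vanish_below m.toIdeal R i (by
        rw [hdepth, hht]
        exact_mod_cast hi)
    obtain ⟨e⟩ := Groth.Agent.S13224.result R 𝒜 m R 𝒜 I i
    haveI : Subsingleton (I.H m i) := e.toEquiv.subsingleton
    rw [eq_bot_iff]
    intro x _
    rw [Submodule.mem_bot]
    exact Subsingleton.elim _ _
  have hgood := Groth.Agent.Lib.helper19.GrSG.good_of_starLocal 𝒜 hpos m hm d hd
  have hform := Groth.Agent.Lib.helper19.GrSG.formula_starLocal 𝒜 hpos m hm d hd R 𝒜 I P hP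
  have hkey : ∀ n : ℤ, (((Module.length (GrLC.deg0 𝒜) (GrLC.comp 𝒜 𝒜 n)).toNat : ℚ)) - P.eval (n : ℚ)
      = (-1 : ℚ) ^ d * (Groth.Agent.Lib.helper19.GrSG.len (deg0 𝒜) ↥(I.Hcomp m d n) : ℚ) := by
    intro n
    have h1 := hform n
    unfold Groth.Agent.Lib.helper19.GrSG.chi at h1
    rw [Finset.sum_range_succ, Finset.sum_eq_zero, zero_add] at h1
    · exact h1
    · intro i hi
      rw [Finset.mem_range] at hi
      rw [hvan i hi n]
      have : Groth.Agent.Lib.helper19.GrSG.len (deg0 𝒜) ↥(⊥ : Submodule (deg0 𝒜) (I.H m i)) = 0 := by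
        unfold Groth.Agent.Lib.helper19.GrSG.len
        rw [Module.length_eq_zero]
        rfl
      rw [this]
      simp
  have hiff : ∀ n : ℤ, (I.Hgr m d n ≠ ⊥) ↔
      (P.eval (n : ℚ) ≠ ((Module.length (GrLC.deg0 𝒜) (GrLC.comp 𝒜 𝒜 n)).toNat : ℚ)) := by
    intro n
    have hfin : IsFiniteLength (deg0 𝒜) ↥(I.Hcomp m d n) := hgood.fin R 𝒜 I d n
    have hlen : Groth.Agent.Lib.helper19.GrSG.len (deg0 𝒜) ↥(I.Hcomp m d n) = 0 ↔
        I.Hcomp m d n = ⊥ := by
      unfold Groth.Agent.Lib.helper19.GrSG.len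
      rw [ENat.toNat_eq_zero]
      constructor
      · rintro (h | h)
        · rw [Module.length_eq_zero_iff] at h
          exact Submodule.subsingleton_iff_eq_bot.1 h
        · exact absurd h (Module.length_ne_top_iff.2 hfin)
      · intro h
        left
        rw [Module.length_eq_zero_iff]
        exact Submodule.subsingleton_iff_eq_bot.2 h
    have hgr : I.Hgr m d n = ⊥ ↔ I.Hcomp m d n = ⊥ := by
      constructor
      · intro h
        exact Groth.Agent.Lib.helper19.GrSG.Hcomp_eq_bot_of_Hgr 𝒜 h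
      · intro h
        show (I.Hcomp m d n).toAddSubgroup = ⊥
        rw [h]
        rfl
    rw [Ne, Ne, hgr, ← hlen]
    have h1 := hkey n
    constructor
    · intro h2 h3
      apply h2
      rw [h3, sub_self] at h1
      have h4 := h1.symm
      rw [mul_eq_zero] at h4
      rcases h4 with h4 | h4
      · exact absurd h4 (pow_ne_zero _ (by norm_num))
      · exact_mod_cast h4
    · intro h2 h3
      apply h2
      rw [h3] at h1
      simp only [Nat.cast_zero, mul_zero] at h1
      linarith
  unfold GrLC.endDeg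
  refine iSup_congr fun n => ?_
  exact iSup_congr_Prop (hiff n) (fun _ => rfl)

end Groth.Agent.S17772
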