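import Groth.Statements.S17773
import Mathlib
import Groth.Agent.Lib.Helper21.AcycRes
import Groth.Agent.Lib.Helper10.CompareRes
import Groth.Agent.Lib.Helper7.TorAPI3
import Groth.Agent.Lib.Helper7.LeftDerivedLES

set_option autoImplicit false
universe u
open CategoryTheory CategoryTheory.Limits
open CAlg

namespace Groth.Agent.S17773

set_option linter.style.haveILetI false

open CategoryTheory CategoryTheory.Limits Opposite MonoidalCategory
open Groth.Agent.Lib.helper21.AcycRes Groth.Agent.Lib.helper7.LeftDerivedLES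

section general

universe v' u' v'' u''

variable {𝒜 : Type u'} [Category.{v'} 𝒜] [Abelian 𝒜] [HasProjectiveResolutions 𝒜]
variable {ℬ : Type u''} [Category.{v''} ℬ] [Abelian ℬ]
variable (G : 𝒜 ⥤ ℬ) [G.Additive]

/-- the left derived functors, as a contravariant δ-functor with values in the opposite category -/
noncomputable def contraDelta :
    ContraDelta (fun (p : ℕ) (X : 𝒜) => (op ((G.leftDerived p).obj X) : ℬᵒᵖ)) where
  map p {M M'} f := ((G.leftDerived p).map f).op
  map_comp p {M M' M''} a b := by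
    rw [← op_comp, ← Functor.map_comp]
  les S hS := by
    refine ⟨?_, ?_, ?_⟩
    · haveI := leftDerived_zero_epi hS G
      infer_instance
    · intro p
      refine ⟨?_, ?_⟩
      · rw [← op_comp, leftDerived_map_comp_eq_zero hS G p, op_zero]
      · exact (leftDerived_exact₂ hS G p).op
    · choose δ w₁ w₂ h₁ h₂ using leftDerived_exists_δ hS G
      refine ⟨fun p => (δ p).op, fun p => ⟨⟨?_, ?_⟩, ⟨?_, ?_⟩⟩⟩
      · rw [← op_comp, w₂ p, op_zero]
      · exact (h₂ p).op
      · rw [← op_comp, w₁ p, op_zero]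
      · exact (h₁ p).op

end general

theorem main (R : Type u) [CommRing R] (M N : Type u) [AddCommGroup M] [Module R M]
    [AddCommGroup N] [Module R N] (F : ChainComplex (ModuleCat.{u} R) ℕ)
    (hF : ∀ i : ℕ, Module.Flat R (F.X i))
    (φ : F ⟶ (ChainComplex.single₀ (ModuleCat.{u} R)).obj (ModuleCat.of R M)) [QuasiIso φ]
    (i : ℕ) :
    Nonempty ((((MonoidalCategory.tensorRight (ModuleCat.of R N)).mapHomologicalComplex
      (ComplexShape.down ℕ)).obj F).homology i ≅
      ((Tor' (ModuleCat.{u} R) i).obj (ModuleCat.of R M)).obj (ModuleCat.of R N)) := by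
  let G : ModuleCat.{u} R ⥤ ModuleCat.{u} R := tensorRight (ModuleCat.of R N)
  let K : ChainComplex (ModuleCat.{u} R) ℕ := (G.mapHomologicalComplex (ComplexShape.down ℕ)).obj F
  let C : CochainComplex (ModuleCat.{u} R)ᵒᵖ ℕ := K.op
  let π : F.X 0 ⟶ ModuleCat.of R M := φ.f 0
  have hπ : F.d 1 0 ≫ π = 0 := Groth.Agent.Lib.helper10.CompareRes.d_comp_ε_f_zero F φ
  haveI : Epi π := Groth.Agent.Lib.helper10.CompareRes.epi_ε_zero F φ
  have hex0 : (ShortComplex.mk (F.d 1 0) π hπ).Exact :=
    Groth.Agent.Lib.helper10.CompareRes.Q_exact₀ F φ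
  have hex : ∀ j : ℕ, F.ExactAt (j + 1) :=
    fun j => Groth.Agent.Lib.helper10.CompareRes.Q_exactAt_succ F φ j
  have hL : ∀ j p : ℕ, 1 ≤ p → IsZero (op ((G.leftDerived p).obj (F.X j)) : (ModuleCat.{u} R)ᵒᵖ) := by
    intro j p hp
    obtain ⟨q, rfl⟩ : ∃ q, p = q + 1 := ⟨p - 1, by omega⟩
    haveI := hF j
    obtain ⟨e⟩ := Groth.Agent.Lib.helper7.TorAPI.nonempty_iso_leftDerived_tensorRight (F.X j)
      (ModuleCat.of R N) (q + 1)
    exact ((Groth.Agent.Lib.helper7.TorAPI.isZero_T_flat (F.X j) (ModuleCat.of R N) q).of_iso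
      e.symm).op
  let α := G.leftDerivedZeroIsoSelf
  let e : ∀ j : ℕ, C.X j ≅ (op ((G.leftDerived 0).obj (F.X j)) : (ModuleCat.{u} R)ᵒᵖ) :=
    fun j => (α.app (F.X j)).op
  have hC : ∀ j : ℕ, C.d j (j + 1) ≫ (e (j + 1)).hom =
      (e j).hom ≫ (contraDelta G).map 0 (F.d (j + 1) j) := by
    intro j
    change (G.map (F.d (j + 1) j)).op ≫ (α.hom.app (F.X (j + 1))).op =
      (α.hom.app (F.X j)).op ≫ ((G.leftDerived 0).map (F.d (j + 1) j)).op
    rw [← op_comp, ← op_comp, α.hom.naturality]
  obtain ⟨ψ⟩ := homology_iso (contraDelta G) F π hπ hex0 hex hL C e hC i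
  have ψ' : op (K.homology i) ≅ op ((G.leftDerived i).obj (ModuleCat.of R M)) :=
    (K.homologyOp i).symm ≪≫ ψ
  exact ⟨ψ'.unop.symm⟩



/-- Let R be a commutative ring, M and N two R-modules, and F a flat resolution of M: a chain complex F
of flat R-modules concentrated in non-negative degrees together with a quasi-isomorphism from F to M
placed in degree 0. Then for every i ≥ 0 the i-th homology module of the complex F ⊗_R N is
isomorphic to Tor_i^R(M, N), the i-th left derived functor of − ⊗_R N evaluated at M (existence of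
an isomorphism of R-modules). -/
theorem result (R : Type u) [CommRing R] (M N : Type u) [AddCommGroup M] [Module R M] [AddCommGroup N] [Module R N] (F : ChainComplex (ModuleCat.{u} R) ℕ) (hF : ∀ i : ℕ, Module.Flat R (F.X i)) (φ : F ⟶ (ChainComplex.single₀ (ModuleCat.{u} R)).obj (ModuleCat.of R M)) [QuasiIso φ] (i : ℕ) : Nonempty ((((MonoidalCategory.tensorRight (ModuleCat.of R N)).mapHomologicalComplex (ComplexShape.down ℕ)).obj F).homology i ≅ ((Tor' (ModuleCat.{u} R) i).obj (ModuleCat.of R M)).obj (ModuleCat.of R N)) := by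
  exact main R M N F hF φ i

end Groth.Agent.S17773
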