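import Groth.Statements.S17774
import Mathlib
import Groth.Agent.S7699
import Groth.Agent.S11665
import Groth.Agent.S0302
import Groth.Agent.S0341
import Groth.Agent.Lib.Helper26.CMLci

set_option autoImplicit false
universe u
open CategoryTheory Opposite
open LocCoh

namespace Groth.Agent.S17774

-- MARK
open IsLocalRing in


/-- Let (S, n) be a Gorenstein local ring, I an ideal of S of height g such that R = S ⧸ I is a
Cohen–Macaulay local ring, of Krull dimension d, and E an injective hull of the residue field of S.
Then the canonical module of R is Ext^g_S(R, S), in the following sense: the Matlis dual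
Hom_S(Ext^g_S(R, S), E) is isomorphic as an S-module to the top local cohomology H^d_n(R) of R
regarded as an S-module (existence of an S-linear isomorphism; Hom into E over S and local
cohomology with support in n agree with the corresponding notions over R for R-modules). -/
theorem result (S : Type u) [CommRing S] [LocCoh.IsGorensteinLocalRing S] (I : Ideal S) (g : ℕ) (hg : I.height = g) [LocCoh.IsCohenMacaulayLocalRing (S ⧸ I)] (d : ℕ) (hd : ringKrullDim (S ⧸ I) = d) (E : Type u) [AddCommGroup E] [Module S E] (f : IsLocalRing.ResidueField S →ₗ[S] E) (hf : InjHull.IsInjectiveHull f) : Nonempty ((((Ext S (ModuleCat.{u} S) g).obj (op (ModuleCat.of S (S ⧸ I)))).obj (ModuleCat.of S S) →ₗ[S] E) ≃ₗ[S] LocCoh.H (IsLocalRing.maximalIdeal S) d (S ⧸ I)) := by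
  haveI hCM : LocCoh.IsCohenMacaulayLocalRing S := Groth.Agent.S0341.result S
  have hI : I ≠ ⊤ := by
    intro h
    have : Subsingleton (S ⧸ I) := by
      rw [h]; exact Ideal.Quotient.subsingleton_iff.mpr rfl
    exact not_subsingleton (S ⧸ I) this
  have hdim := Groth.Agent.Lib.helper26.Unmixed.ringKrullDim_eq_quotient_add_height S I hI
  rw [hd, hg] at hdim
  have hdim' : ringKrullDim S = ((d + g : ℕ) : WithBot ℕ∞) := by
    rw [hdim]; rfl
  obtain ⟨h, hh⟩ := Groth.Agent.S11665.result S (d + g) hdim'
  obtain ⟨e, he⟩ := Groth.Agent.S0302.result S _ E _ f hf h hh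
  let eK : (S →ₗ[S] E) ≃ₗ[S] LocCoh.H (maximalIdeal S) (d + g) S :=
    (LinearMap.ringLmapEquivSelf S S E).trans e
  obtain ⟨e1⟩ := Groth.Agent.S7699.result S (d + g) hdim' E f hf S eK (S ⧸ I) g (by omega)
  rw [show d + g - g = d by omega] at e1
  exact ⟨e1.symm⟩

end Groth.Agent.S17774
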