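import Groth.Statements.S17779
import Mathlib.Algebra.Group.ForwardDiff
import Mathlib.Tactic

set_option autoImplicit false
open DRR

namespace Groth.Agent.S17779


open Finset Nat Function in
/-- The `n`-th forward difference of `x ↦ x^(n+1)` over `ℤ`. -/
theorem fwdDiff_iter_pow_succ (n : ℕ) :
    (fwdDiff (1 : ℤ))^[n] (fun r : ℤ => r ^ (n + 1)) =
      fun r : ℤ => ((n + 1)! : ℤ) * r + (((n + 1).choose 2 * n ! : ℕ) : ℤ) := by
  induction n with
  | zero =>
    funext r
    simp
  | succ n IH =>
    have hΔ : (fwdDiff (1 : ℤ) fun r : ℤ => r ^ (n + 1 + 1)) =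
        ∑ i ∈ range (n + 1 + 1), (n + 1 + 1).choose i • fun r : ℤ => r ^ i := by
      ext x
      simp [nsmul_eq_mul, fwdDiff, add_pow, sum_range_succ, mul_comm]
    rw [iterate_succ_apply, hΔ, fwdDiff_iter_finsetSum]
    simp_rw [fwdDiff_iter_const_smul]
    rw [sum_range_succ, sum_range_succ, sum_eq_zero (fun i hi => by
      rw [fwdDiff_iter_pow_eq_zero_of_lt (by have := mem_range.1 hi; omega), smul_zero]),
      zero_add]
    rw [fwdDiff_iter_eq_factorial]
    rw [IH]
    funext r
    have h1 : (n + 1 + 1).choose (n + 1) = n + 2 := by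
      rw [Nat.choose_succ_self_right]
    have h2 : (n + 1 + 1).choose n = (n + 2).choose 2 := by
      exact Nat.choose_symm_of_eq_add (by omega)
    have h3 : (n + 2).choose 2 = (n + 1).choose 2 + (n + 1) := by
      rw [Nat.choose_succ_succ' (n + 1) 1, Nat.choose_one_right, add_comm]
    have h4 : (n + 1) * n = (n + 1).choose 2 * 2 := by
      have := Nat.add_one_mul_choose_eq n 1
      rw [Nat.choose_one_right] at this
      exact this
    have h5 : (n + 1 + 1)! = (n + 2) * (n + 1)! := Nat.factorial_succ (n + 1)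
    have h6 : (n + 1)! = (n + 1) * n ! := Nat.factorial_succ n
    rw [Pi.add_apply, Pi.smul_apply, Pi.smul_apply, Pi.natCast_apply]
    simp only [nsmul_eq_mul, h1, h2]
    rw [show n + 1 + 1 = n + 2 from rfl] at h5 ⊢
    rw [h3, h5, h6]
    push_cast
    have h4' : ((n : ℤ) + 1) * n = ((n + 1).choose 2 : ℤ) * 2 := by exact_mod_cast h4
    set c : ℤ := ((n + 1).choose 2 : ℤ) with hc
    set F : ℤ := (n ! : ℤ) with hF
    nlinarith [h4', mul_comm c F]

/-- For natural numbers n and k with k ≤ n + 1, the alternating sum over j = 0, …, n of (−1)^(n−j) C(n,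
j) j^k (with the convention 0^0 = 1) equals n! · n(n+1)/2 when k = n + 1, equals n! when k = n, and
vanishes when k < n. (The published statement takes n ≥ 1 and divides through by n!; the case n = 0
holds as well and is included.) -/
theorem result (n k : ℕ) (hk : k ≤ n + 1) :
    (∑ j ∈ Finset.range (n + 1), (-1 : ℤ) ^ (n - j) * (n.choose j : ℤ) * (j : ℤ) ^ k) =
      (if k = n + 1 then (((n + 1).choose 2 * n.factorial : ℕ) : ℤ)
        else if k = n then (n.factorial : ℤ) else 0) := by
  have hsum := fwdDiff_iter_eq_sum_shift (1 : ℤ) (fun r : ℤ => r ^ k) n 0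
  have hL : (∑ j ∈ Finset.range (n + 1), (-1 : ℤ) ^ (n - j) * (n.choose j : ℤ) * (j : ℤ) ^ k) =
      (fwdDiff (1 : ℤ))^[n] (fun r : ℤ => r ^ k) 0 := by
    rw [hsum]
    refine Finset.sum_congr rfl (fun j _ => ?_)
    simp
  rw [hL]
  by_cases h1 : k = n + 1
  · subst h1
    rw [if_pos rfl, fwdDiff_iter_pow_succ]
    simp
  · rw [if_neg h1]
    by_cases h2 : k = n
    · subst h2
      rw [if_pos rfl, fwdDiff_iter_eq_factorial]
      simp
    · rw [if_neg h2, fwdDiff_iter_pow_eq_zero_of_lt (by omega)]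
      rfl

end Groth.Agent.S17779
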