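import Groth.Statements.S17780
import Groth.Agent.S17779
import Mathlib.Tactic

set_option autoImplicit false
universe u
open DRR

namespace Groth.Agent.S17780

/-- For x, y in a commutative ring and a natural number n, (n+1)! · x · y^n equals the sum over j = 0,
…, n of (−1)^(n−j) C(n, j) (x + j y)^(n+1), minus (n · (n+1)!/2) · y^(n+1). (The published identity
is stated in ℚ[x, y] with an overall factor 1/(n+1) and the coefficients C(n, j)(−1)^(n−j)/n!; it is
given here multiplied through by (n+1)!, which makes it an identity with integer coefficients valid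
in every commutative ring; n · (n+1)!/2 is an integer.) -/
theorem result (A : Type u) [CommRing A] (x y : A) (n : ℕ) :
    ((n + 1).factorial : A) * x * y ^ n =
      (∑ j ∈ Finset.range (n + 1), (-1 : A) ^ (n - j) * (n.choose j : A) * (x + (j : A) * y) ^ (n + 1))
        - ((n * (n + 1).factorial / 2 : ℕ) : A) * y ^ (n + 1) := by
  classical
  -- the alternating power sums, from the integer identity
  have hT : ∀ k ≤ n + 1,
      (∑ j ∈ Finset.range (n + 1), (-1 : A) ^ (n - j) * (n.choose j : A) * (j : A) ^ k) =
        (((if k = n + 1 then (((n + 1).choose 2 * n.factorial : ℕ) : ℤ)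
          else if k = n then (n.factorial : ℤ) else 0 : ℤ)) : A) := by
    intro k hk
    rw [← Groth.Agent.S17779.result n k hk]
    push_cast
    rfl
  -- expand and swap the sums
  have hmain : (∑ j ∈ Finset.range (n + 1),
      (-1 : A) ^ (n - j) * (n.choose j : A) * (x + (j : A) * y) ^ (n + 1)) =
      ∑ i ∈ Finset.range (n + 1 + 1), x ^ i * y ^ (n + 1 - i) * ((n + 1).choose i : A) *
        (∑ j ∈ Finset.range (n + 1), (-1 : A) ^ (n - j) * (n.choose j : A) * (j : A) ^ (n + 1 - i)) := by
    simp_rw [add_pow, Finset.mul_sum]
    rw [Finset.sum_comm]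
    refine Finset.sum_congr rfl (fun i _ => Finset.sum_congr rfl (fun j _ => ?_))
    rw [mul_pow]
    ring
  rw [hmain, Finset.sum_range_succ', Finset.sum_range_succ']
  have hzero : ∀ i ∈ Finset.range n, x ^ (i + 1 + 1) * y ^ (n + 1 - (i + 1 + 1)) *
      ((n + 1).choose (i + 1 + 1) : A) *
      (∑ j ∈ Finset.range (n + 1), (-1 : A) ^ (n - j) * (n.choose j : A) *
        (j : A) ^ (n + 1 - (i + 1 + 1))) = 0 := by
    intro i hi
    have hi' := Finset.mem_range.1 hi
    rw [hT _ (by omega), if_neg (by omega), if_neg (by omega)]
    simp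
  rw [Finset.sum_eq_zero hzero, zero_add, hT _ (by omega), hT _ (by omega)]
  have e1 : n + 1 - (0 + 1) = n := by omega
  have e2 : n + 1 - 0 = n + 1 := by omega
  rw [e1, e2, if_neg (by omega), if_pos rfl, if_pos rfl]
  have hfac : (n + 1).factorial = (n + 1) * n.factorial := Nat.factorial_succ n
  have hhalf : n * (n + 1).factorial / 2 = (n + 1).choose 2 * n.factorial := by
    have h4 : (n + 1) * n = (n + 1).choose 2 * 2 := by
      have := Nat.add_one_mul_choose_eq n 1
      rw [Nat.choose_one_right] at this
      exact this
    apply Nat.div_eq_of_eq_mul_left (by norm_num)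
    rw [hfac]
    calc n * ((n + 1) * n.factorial) = ((n + 1) * n) * n.factorial := by ring
      _ = ((n + 1).choose 2 * 2) * n.factorial := by rw [h4]
      _ = (n + 1).choose 2 * n.factorial * 2 := by ring
  rw [hhalf, hfac]
  simp only [Nat.choose_one_right, Nat.choose_zero_right, pow_zero, pow_one, zero_add]
  push_cast
  ring

end Groth.Agent.S17780
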