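import Groth.Statements.S17781
import Mathlib

set_option autoImplicit false
open Variety

namespace Groth.Agent.S17781


/-- `d / gcd(d,j)` divides `C(d,j)` for `j ≥ 1`, `d ≥ 1`. -/
lemma div_gcd_dvd_choose (d j : ℕ) (hd : 1 ≤ d) (hj : 1 ≤ j) :
    d / Nat.gcd d j ∣ d.choose j := by
  obtain ⟨d', rfl⟩ : ∃ e, d = e + 1 := ⟨d - 1, by omega⟩
  obtain ⟨j', rfl⟩ : ∃ e, j = e + 1 := ⟨j - 1, by omega⟩
  have h := Nat.add_one_mul_choose_eq d' j'
  set g := Nat.gcd (d' + 1) (j' + 1) with hg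
  have hgpos : 0 < g := Nat.gcd_pos_of_pos_left _ (by omega)
  obtain ⟨a, ha⟩ : g ∣ d' + 1 := Nat.gcd_dvd_left _ _
  obtain ⟨b, hb⟩ : g ∣ j' + 1 := Nat.gcd_dvd_right _ _
  have hcop : Nat.Coprime a b := by
    have := Nat.coprime_div_gcd_div_gcd (m := d' + 1) (n := j' + 1) hgpos
    rw [← hg] at this
    rwa [show (d' + 1) / g = a by rw [ha, Nat.mul_div_cancel_left _ hgpos],
      show (j' + 1) / g = b by rw [hb, Nat.mul_div_cancel_left _ hgpos]] at this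
  have hda : (d' + 1) / g = a := by rw [ha, Nat.mul_div_cancel_left _ hgpos]
  rw [hda]
  have h2 : a * d'.choose j' = (d' + 1).choose (j' + 1) * b := by
    have : g * (a * d'.choose j') = g * ((d' + 1).choose (j' + 1) * b) := by
      calc g * (a * d'.choose j') = (d' + 1) * d'.choose j' := by rw [ha]; ring
        _ = (d' + 1).choose (j' + 1) * (j' + 1) := h
        _ = g * ((d' + 1).choose (j' + 1) * b) := by rw [hb]; ring
    exact Nat.eq_of_mul_eq_mul_left hgpos this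
  have h3 : a ∣ (d' + 1).choose (j' + 1) * b := ⟨_, h2.symm⟩
  exact hcop.dvd_of_dvd_mul_right h3

/-- If `p^a ∣ d` and `0 < k < p^a` then `p ∣ C(d,k)`. -/
lemma prime_dvd_choose_of_pow_dvd {p a d k : ℕ} (hp : p.Prime) (h : p ^ a ∣ d) (hk0 : 0 < k)
    (hk : k < p ^ a) : p ∣ d.choose k := by
  rcases d with _ | d'
  · obtain ⟨k', rfl⟩ : ∃ e, k = e + 1 := ⟨k - 1, by omega⟩
    simp
  obtain ⟨k', rfl⟩ : ∃ e, k = e + 1 := ⟨k - 1, by omega⟩
  by_contra hnd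
  have h1 := Nat.add_one_mul_choose_eq d' k'
  have hcop : Nat.Coprime (p ^ a) ((d' + 1).choose (k' + 1)) :=
    Nat.Coprime.pow_left _ ((Nat.Prime.coprime_iff_not_dvd hp).2 hnd)
  have h2 : p ^ a ∣ (d' + 1).choose (k' + 1) * (k' + 1) := by
    rw [← h1]; exact Dvd.dvd.mul_right h _
  have h3 : p ^ a ∣ k' + 1 := hcop.dvd_of_dvd_mul_left h2
  have := Nat.le_of_dvd (by omega) h3
  omega

/-- If `p^a ∣ d`, `d ≥ 1` and `k < p^a` then `C(d-1,k) ≡ (-1)^k mod p`. -/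
lemma choose_pred_zmod {p a d : ℕ} (hp : p.Prime) (h : p ^ a ∣ d) (hd : 1 ≤ d) (k : ℕ)
    (hk : k < p ^ a) : (((d - 1).choose k : ℕ) : ZMod p) = (-1) ^ k := by
  induction k with
  | zero => simp
  | succ k ih =>
    have ih' := ih (by omega)
    have h1 : d.choose (k + 1) = (d - 1).choose k + (d - 1).choose (k + 1) := by
      obtain ⟨d', rfl⟩ : ∃ e, d = e + 1 := ⟨d - 1, by omega⟩
      simp [Nat.choose_succ_succ]
    have h2 : ((d.choose (k + 1) : ℕ) : ZMod p) = 0 :=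
      (ZMod.natCast_eq_zero_iff _ _).2 (prime_dvd_choose_of_pow_dvd hp h (by omega) hk)
    rw [h1] at h2
    push_cast at h2
    rw [ih'] at h2
    rw [pow_succ]
    linear_combination h2

lemma not_dvd_choose_pred {p a d : ℕ} (hp : p.Prime) (h : p ^ a ∣ d) (hd : 1 ≤ d) (k : ℕ)
    (hk : k < p ^ a) : ¬ p ∣ (d - 1).choose k := by
  haveI := Fact.mk hp
  intro hdiv
  have h1 := choose_pred_zmod hp h hd k hk
  rw [(ZMod.natCast_eq_zero_iff _ _).2 hdiv] at h1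
  exact pow_ne_zero k (neg_ne_zero.2 one_ne_zero) h1.symm

/-- The key divisibility: if `g` divides `C(d,j)` for all `1 ≤ j ≤ N`, then `g ∣ d/δ` for every divisor
`δ ≤ N` of `d`. -/
lemma dvd_div_of_dvd_choose (d N g δ : ℕ) (hd : 1 ≤ d) (hδ1 : 1 ≤ δ) (hδN : δ ≤ N) (hδd : δ ∣ d)
    (hg : ∀ j, 1 ≤ j → j ≤ N → g ∣ d.choose j) : g ∣ d / δ := by
  rw [Nat.dvd_iff_prime_pow_dvd_dvd]
  intro p s hp hps
  obtain ⟨t, δ', hδ', hδeq⟩ := Nat.exists_eq_pow_mul_and_not_dvd (n := δ) (by omega) p hp.ne_one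
  obtain ⟨m, hm⟩ := hδd
  have hmdiv : d / δ = m := by rw [hm, Nat.mul_div_cancel_left _ (by omega)]
  rw [hmdiv]
  have hptpos : 0 < p ^ t := pow_pos hp.pos t
  have hptδ : p ^ t ∣ δ := ⟨δ', hδeq⟩
  have hptd : p ^ t ∣ d := hptδ.trans ⟨m, hm⟩
  have hptle : p ^ t ≤ N := (Nat.le_of_dvd (by omega) hptδ).trans hδN
  have h1 : p ^ s ∣ d.choose (p ^ t) := hps.trans (hg _ hptpos hptle)
  have h2 : d * (d - 1).choose (p ^ t - 1) = d.choose (p ^ t) * p ^ t := by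
    obtain ⟨d', rfl⟩ : ∃ e, d = e + 1 := ⟨d - 1, by omega⟩
    obtain ⟨q, hq⟩ : ∃ e, p ^ t = e + 1 := ⟨p ^ t - 1, by omega⟩
    rw [hq]
    simpa using Nat.add_one_mul_choose_eq d' q
  have h3 : p ^ (s + t) ∣ d * (d - 1).choose (p ^ t - 1) := by
    rw [h2, pow_add]; exact Nat.mul_dvd_mul h1 dvd_rfl
  have hnd : ¬ p ∣ (d - 1).choose (p ^ t - 1) := not_dvd_choose_pred hp hptd hd _ (by omega)
  have hcop : Nat.Coprime (p ^ (s + t)) ((d - 1).choose (p ^ t - 1)) :=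
    Nat.Coprime.pow_left _ ((Nat.Prime.coprime_iff_not_dvd hp).2 hnd)
  have h4 : p ^ (s + t) ∣ d := hcop.dvd_of_dvd_mul_right h3
  rw [hm, hδeq, pow_add, mul_comm (p ^ s) (p ^ t), mul_assoc] at h4
  have h5 : p ^ s ∣ δ' * m := (Nat.mul_dvd_mul_iff_left hptpos).1 h4
  have hcop2 : Nat.Coprime (p ^ s) δ' :=
    Nat.Coprime.pow_left _ ((Nat.Prime.coprime_iff_not_dvd hp).2 hδ')
  exact hcop2.dvd_of_dvd_mul_left h5

/-- The Euler characteristic `χ(d,n)`. -/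
def chi (d n : ℕ) : ℤ := 1 - (-1 : ℤ) ^ n * ((d - 1).choose n : ℤ)

lemma chi_zero (d : ℕ) : chi d 0 = 0 := by simp [chi]

lemma chi_succ_sub (d n : ℕ) (hd : 1 ≤ d) :
    chi d (n + 1) - chi d n = (-1 : ℤ) ^ n * (d.choose (n + 1) : ℤ) := by
  obtain ⟨e, rfl⟩ : ∃ e, d = e + 1 := ⟨d - 1, by omega⟩
  simp only [chi, Nat.add_sub_cancel]
  rw [Nat.choose_succ_succ e n]
  push_cast
  ring

lemma dvd_chi_of_dvd_choose (d N : ℕ) (hd : 1 ≤ d) (B : ℤ)
    (hB : ∀ j, 1 ≤ j → j ≤ N → B ∣ (d.choose j : ℤ)) (n : ℕ) (hn : n ≤ N) : B ∣ chi d n := by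
  induction n with
  | zero => rw [chi_zero]; exact dvd_zero _
  | succ n ih =>
    have h1 := chi_succ_sub d n hd
    have h2 : chi d (n + 1) = chi d n + (-1 : ℤ) ^ n * (d.choose (n + 1) : ℤ) := by
      linear_combination h1
    rw [h2]
    exact dvd_add (ih (by omega)) (Dvd.dvd.mul_left (hB _ (by omega) hn) _)

lemma dvd_choose_of_dvd_chi (d N : ℕ) (hd : 1 ≤ d) (A : ℤ)
    (hA : ∀ n, 1 ≤ n → n ≤ N → A ∣ chi d n) (j : ℕ) (hj1 : 1 ≤ j) (hjN : j ≤ N) :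
    A ∣ (d.choose j : ℤ) := by
  obtain ⟨n, rfl⟩ : ∃ e, j = e + 1 := ⟨j - 1, by omega⟩
  have h1 := chi_succ_sub d n hd
  have hAn : A ∣ chi d n := by
    rcases Nat.eq_zero_or_pos n with rfl | hn
    · rw [chi_zero]; exact dvd_zero _
    · exact hA n hn (by omega)
  have h2 : (d.choose (n + 1) : ℤ) = (-1 : ℤ) ^ n * (chi d (n + 1) - chi d n) := by
    rw [h1, ← mul_assoc, ← mul_pow]; simp
  rw [h2]
  exact Dvd.dvd.mul_left (dvd_sub (hA _ hj1 hjN) hAn) _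

/-- Let d ≥ 1 and N ≥ 1 be integers and let I(d, N) be the greatest common divisor of the quotients d/δ
over the divisors δ of d with 1 ≤ δ ≤ N. Then I(d, N) equals the greatest common divisor of the
integers χ(d, n) = 1 − (−1)^n C(d − 1, n) for 1 ≤ n ≤ N (χ(d, n) is the Euler characteristic of O_H
for a degree-d hypersurface H in projective n-space). Both greatest common divisors are taken in ℤ,
normalised to be non-negative. -/
theorem result (d N : ℕ) (hd : 1 ≤ d) (hN : 1 ≤ N) :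
    (Finset.Icc 1 N).gcd (fun n => 1 - (-1 : ℤ) ^ n * ((d - 1).choose n : ℤ)) =
      ((Finset.Icc 1 N).filter (fun δ => δ ∣ d)).gcd (fun δ => ((d / δ : ℕ) : ℤ)) := by
  change (Finset.Icc 1 N).gcd (fun n => chi d n) = _
  apply dvd_antisymm_of_normalize_eq (Finset.normalize_gcd) (Finset.normalize_gcd)
  · -- A ∣ B
    rw [Finset.dvd_gcd_iff]
    intro δ hδ
    rw [Finset.mem_filter, Finset.mem_Icc] at hδ
    obtain ⟨⟨hδ1, hδN⟩, hδd⟩ := hδ
    set A := (Finset.Icc 1 N).gcd (fun n => chi d n) with hAdef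
    have hA : ∀ n, 1 ≤ n → n ≤ N → A ∣ chi d n := fun n h1 h2 =>
      Finset.gcd_dvd (f := fun n => chi d n) (Finset.mem_Icc.2 ⟨h1, h2⟩)
    have hg : ∀ j, 1 ≤ j → j ≤ N → A.natAbs ∣ d.choose j := fun j h1 h2 => by
      have := dvd_choose_of_dvd_chi d N hd A hA j h1 h2
      exact Int.natAbs_dvd_natAbs.2 this
    have := dvd_div_of_dvd_choose d N A.natAbs δ hd hδ1 hδN hδd hg
    exact Int.natAbs_dvd.1 (Int.natCast_dvd_natCast.2 this)
  · -- B ∣ A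
    rw [Finset.dvd_gcd_iff]
    intro n hn
    rw [Finset.mem_Icc] at hn
    set B := ((Finset.Icc 1 N).filter (fun δ => δ ∣ d)).gcd (fun δ => ((d / δ : ℕ) : ℤ)) with hBdef
    apply dvd_chi_of_dvd_choose d N hd B _ n hn.2
    intro j hj1 hjN
    have hmem : Nat.gcd d j ∈ (Finset.Icc 1 N).filter (fun δ => δ ∣ d) := by
      rw [Finset.mem_filter, Finset.mem_Icc]
      refine ⟨⟨Nat.gcd_pos_of_pos_left _ (by omega), (Nat.gcd_le_right _ (by omega)).trans hjN⟩,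
        Nat.gcd_dvd_left _ _⟩
    have h1 : B ∣ ((d / Nat.gcd d j : ℕ) : ℤ) :=
      Finset.gcd_dvd (f := fun δ => ((d / δ : ℕ) : ℤ)) hmem
    exact h1.trans (Int.natCast_dvd_natCast.2 (div_gcd_dvd_choose d j hd hj1))

end Groth.Agent.S17781
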