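import Groth.Statements.S2946
import Groth.Agent.Lib.Helper11.LefConn2
import Groth.Agent.Lib.Helper16.FLF5

set_option autoImplicit false
universe u
open CategoryTheory CategoryTheory.Limits AlgebraicGeometry
open Lef

namespace Groth.Agent.S2946

/-- Let X be a locally Noetherian scheme and 𝓘 a quasi-coherent ideal sheaf with Y = V(𝓘), and suppose
Lef(X, Y) holds (this prelude's Lef.LefCond). Then for every open U of X containing Y, Y is
connected if and only if U is connected. -/
theorem result (X : Scheme.{u}) [IsLocallyNoetherian X] (𝓘 : X.IdealSheafData) (h : Lef.LefCond X 𝓘) (U : X.Opens) (hU : (𝓘.support : Set X) ⊆ (U : Set X)) : ConnectedSpace (𝓘.support : Set X) ↔ ConnectedSpace U := by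
  have hLef := h U hU (Coh.structureModule (↑U : Scheme.{u}))
    (Groth.Agent.Lib.helper16.FLF.isFinLocFree_structureModule _)
  have key := Groth.Agent.Lib.helper11.LefConn.isConnected_support_iff (𝓘.comap U.ι) hLef
  have hsupp : ((𝓘.comap U.ι).support : Set (↑U : Scheme.{u})) = U.ι ⁻¹' (𝓘.support : Set X) := by
    rw [Scheme.IdealSheafData.support_comap]
    rfl
  have himg : U.ι '' (U.ι ⁻¹' (𝓘.support : Set X)) = (𝓘.support : Set X) := by
    rw [Set.image_preimage_eq_inter_range, Scheme.Opens.range_ι]
    exact Set.inter_eq_left.mpr hU
  have hconn : _root_.IsConnected ((𝓘.comap U.ι).support : Set (↑U : Scheme.{u})) ↔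
      _root_.IsConnected (𝓘.support : Set X) := by
    rw [hsupp]
    constructor
    · intro hc
      rw [← himg]
      exact hc.image _ U.ι.continuous.continuousOn
    · intro hc
      refine ⟨?_, ?_⟩
      · have hne := hc.nonempty
        rw [← himg] at hne
        exact Set.image_nonempty.mp hne
      · rw [← U.ι.isOpenEmbedding.isInducing.isPreconnected_image, himg]
        exact hc.isPreconnected
  rw [← isConnected_iff_connectedSpace, ← hconn, key]

end Groth.Agent.S2946
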