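import Groth.Statements.S17790
import Groth.Agent.Lib.Helper11.FEtConn
import Groth.Agent.S2946

set_option autoImplicit false
universe u
open CategoryTheory CategoryTheory.Limits AlgebraicGeometry
open Pi1

namespace Groth.Agent.S17790

/-- Let A be a Noetherian local ring and I an ideal for which A is I-adically complete and A/I is local;
write X = Spec A, Y = V(I) and U for the punctured spectrum. Suppose that A is pure (the pair formed
by X and its closed point is pure) and that the effective Lefschetz condition Leff(U, U ∩ Y) holds.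
Then Y minus the closed point, i.e. U ∩ Y, is a connected (nonempty) subset of X. -/
theorem result (A : Type u) [CommRing A] [IsLocalRing A] [IsNoetherianRing A] (I : Ideal A) [IsAdicComplete I A] [IsLocalRing (A ⧸ I)] (hpure : SGA2.IsPurePair (Spec (CommRingCat.of A)) (FEt.puncturedSpec A)) (hleff : LefX.LeffCond (↑(FEt.puncturedSpec A) : Scheme.{u}) ((Spec.map (CommRingCat.ofHom (Ideal.Quotient.mk I))).ker.comap (FEt.puncturedSpec A).ι)) : IsConnected (((Spec.map (CommRingCat.ofHom (Ideal.Quotient.mk I))).ker.support : Set ↥(Spec (CommRingCat.of A))) ∩ (FEt.puncturedSpec A : Set ↥(Spec (CommRingCat.of A)))) := by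
  classical
  -- `Spec A` is connected
  haveI hX : ConnectedSpace ↥(Spec (CommRingCat.of A)) := by
    rw [connectedSpace_iff_clopen]
    refine ⟨⟨IsLocalRing.closedPoint A⟩, fun S hS => ?_⟩
    by_cases hne : S.Nonempty
    · right
      obtain ⟨x, hx⟩ := hne
      have hc : IsLocalRing.closedPoint A ∈ S :=
        (IsLocalRing.specializes_closedPoint x).mem_closed hS.isClosed hx
      have := (IsLocalRing.closedPoint_mem_iff (R := A) ⟨S, hS.isOpen⟩).mp hc
      exact congrArg (fun U : TopologicalSpace.Opens (PrimeSpectrum A) => (U : Set (PrimeSpectrum A))) this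
    · left
      exact Set.not_nonempty_iff_eq_empty.mp hne
  -- the punctured spectrum is connected, by purity
  have hU₀ : ConnectedSpace ↥(FEt.puncturedSpec A) := by
    haveI hW : ConnectedSpace ↥(↑(⊤ : (Spec (CommRingCat.of A)).Opens) : Scheme.{u}) :=
      (inferInstance : ObjectProperty.IsClosedUnderIsomorphisms (C := Scheme.{u}) (ConnectedSpace ·)).of_iso
        (Scheme.topIso (Spec (CommRingCat.of A))).symm hX
    haveI := hpure ⊤
    have h := Groth.Agent.Lib.helper11.FEtConn.connectedSpace_of_full_faithful
      ((Spec (CommRingCat.of A)).homOfLE (inf_le_left : ⊤ ⊓ FEt.puncturedSpec A ≤ ⊤))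
    have e : (⊤ : (Spec (CommRingCat.of A)).Opens) ⊓ FEt.puncturedSpec A = FEt.puncturedSpec A :=
      top_inf_eq _
    rw [e] at h
    exact h
  -- Lefschetz: the support of the restricted ideal is connected
  have hTop : ConnectedSpace ↥(↑(⊤ : (↑(FEt.puncturedSpec A) : Scheme.{u}).Opens) : Scheme.{u}) :=
    (inferInstance : ObjectProperty.IsClosedUnderIsomorphisms (C := Scheme.{u}) (ConnectedSpace ·)).of_iso
      (Scheme.topIso (↑(FEt.puncturedSpec A) : Scheme.{u})).symm hU₀
  have hS := (Groth.Agent.S2946.result (↑(FEt.puncturedSpec A) : Scheme.{u})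
    ((Spec.map (CommRingCat.ofHom (Ideal.Quotient.mk I))).ker.comap (FEt.puncturedSpec A).ι)
    hleff.1 ⊤ (Set.subset_univ _)).mpr hTop
  rw [← isConnected_iff_connectedSpace] at hS
  have hsupp : (((Spec.map (CommRingCat.ofHom (Ideal.Quotient.mk I))).ker.comap
      (FEt.puncturedSpec A).ι).support : Set (↑(FEt.puncturedSpec A) : Scheme.{u})) =
      (FEt.puncturedSpec A).ι ⁻¹'
        ((Spec.map (CommRingCat.ofHom (Ideal.Quotient.mk I))).ker.support :
          Set ↥(Spec (CommRingCat.of A))) := by
    rw [Scheme.IdealSheafData.support_comap]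
    rfl
  rw [hsupp] at hS
  have himg := hS.image _ (FEt.puncturedSpec A).ι.continuous.continuousOn
  rw [Set.image_preimage_eq_inter_range, Scheme.Opens.range_ι] at himg
  exact himg

end Groth.Agent.S17790
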