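import Groth.Statements.S17794
import Groth.Agent.Lib.Helper14.RepSh10

set_option autoImplicit false
universe u
open CategoryTheory CategoryTheory.Limits MonoidalCategory CartesianMonoidalCategory MonObj GrpObj AlgebraicGeometry
open GrpSch

namespace Groth.Agent.S17794

/-- Let S be a scheme and f : G → H a homomorphism of S-group schemes, both of finite presentation over
S (locally of finite presentation, quasi-compact and quasi-separated), and let i : N → G be the
kernel of f (the square formed by i, f, the unit section of H and N → S is cartesian). Then f is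
faithfully flat (flat and surjective) if and only if the map of representable sheaves h_G → h_H
induced by f on the big fppf site of S is an epimorphism of sheaves of sets and N is flat over S. -/
theorem result {S : Scheme.{u}} {G H N : Over S} [GrpObj G] [GrpObj H] (f : G ⟶ H) [IsMonHom f] [LocallyOfFinitePresentation G.hom] [QuasiCompact G.hom] [QuasiSeparated G.hom] [LocallyOfFinitePresentation H.hom] [QuasiCompact H.hom] [QuasiSeparated H.hom] (i : N ⟶ G) (hi : AlgGrp.IsKernel i f) : (Flat f.left ∧ Surjective f.left) ↔ (Epi (QuotSh.repMap Scheme.fppfPrecoverage f) ∧ Flat N.hom) := by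
  have hi' : IsPullback i (toUnit N) f η[H] := hi
  constructor
  · rintro ⟨hfl, hsu⟩
    haveI := hfl
    haveI := hsu
    haveI : LocallyOfFinitePresentation f.left :=
      Groth.Agent.Lib.Helper18.RelSmoothFiber.locallyOfFinitePresentation_of_comp f.left H.hom
        inferInstance (by rw [Over.w f]; infer_instance)
    refine ⟨Groth.Agent.Lib.Helper14.RepSh.epi_repMap_fppf f, ?_⟩
    have sq := hi'.map (Over.forget S)
    have h1 : Flat (toUnit N).left := MorphismProperty.of_isPullback (P := @Flat) sq hfl
    rw [Groth.Agent.Lib.Helper14.RepSh.toUnit_left] at h1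
    exact h1
  · rintro ⟨hepi, hN⟩
    haveI := hepi
    obtain ⟨R', hR', hlift⟩ := Groth.Agent.Lib.Helper14.RepSh.exists_presieve_of_epi_fppf f
    haveI := Groth.Agent.Lib.helper4.FppfFamDescent.flat_descendsAlong_fppf.{u}
    have hNs : Surjective N.hom :=
      Groth.Agent.Lib.Helper14.RepSh.surjective_hom_of_isKernel f i hi'
    constructor
    · refine Groth.Agent.Lib.helper4.FppfFamDescent.of_fppf_presieve @Flat f.left R' hR' ?_
      intro V g hg
      obtain ⟨h, hh⟩ := hlift g hg
      exact Groth.Agent.Lib.Helper14.RepSh.exists_isPullback_of_lift_grp f i hi' g h hh @Flat hN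
    · refine Groth.Agent.Lib.helper4.FppfFamDescent.of_fppf_presieve @Surjective f.left R' hR' ?_
      intro V g hg
      obtain ⟨h, hh⟩ := hlift g hg
      exact Groth.Agent.Lib.Helper14.RepSh.exists_isPullback_of_lift_grp f i hi' g h hh
        @Surjective hNs

end Groth.Agent.S17794
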