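import Groth.Statements.S17825
import Mathlib
-- import your own Groth.Agent.* helpers here

set_option autoImplicit false
universe u
open CategoryTheory CategoryTheory.Limits AlgebraicGeometry
open JacVar

namespace Groth.Agent.S17825

/-- Let S be a scheme, Y an S-scheme separated over S, F a presheaf of sets on the category of
S-schemes, f : h_Y ⟶ F a morphism from the functor of points of Y, and s : F ⟶ h_Y a section of f (s
followed by f is the identity). Then F is represented by a closed subscheme of Y: there are an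
S-scheme Z, a morphism i : Z ⟶ Y over S which is a closed immersion, and an isomorphism F ≅ h_Z
whose composite with h_i : h_Z ⟶ h_Y is s. (The published lemma treats the case where Y is the r-th
symmetric power of a curve, F the functor of degree-r invertible families modulo twisting and f the
divisor-class map.) -/
theorem result {S : Scheme.{u}} (Y : Over S) [IsSeparated Y.hom]
    (F : (Over S)ᵒᵖ ⥤ Type u) (f : yoneda.obj Y ⟶ F) (s : F ⟶ yoneda.obj Y) (hsf : s ≫ f = 𝟙 F) :
    ∃ (Z : Over S) (i : Z ⟶ Y), IsClosedImmersion i.left ∧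
      ∃ e : F ≅ yoneda.obj Z, e.hom ≫ yoneda.map i = s := by
  classical
  -- the idempotent endomorphism of Y
  let ε : Y ⟶ Y := Yoneda.fullyFaithful.preimage (f ≫ s)
  have hε : yoneda.map ε = f ≫ s := Yoneda.fullyFaithful.map_preimage (f ≫ s)
  let Z : Over S := equalizer (𝟙 Y) ε
  let i : Z ⟶ Y := equalizer.ι (𝟙 Y) ε
  have hi : i ≫ ε = i := by
    have := equalizer.condition (𝟙 Y) ε
    simpa using this.symm
  have hcl : IsClosedImmersion i.left := by
    show IsClosedImmersion (equalizer.ι (𝟙 Y) ε).left
    infer_instance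
  -- yoneda of the equalizer fork is a limit
  have hlim : IsLimit (Fork.ofι (yoneda.map i)
      (by rw [← Functor.map_comp, ← Functor.map_comp, equalizer.condition]) :
      Fork (yoneda.map (𝟙 Y)) (yoneda.map ε)) :=
    isLimitForkMapOfIsLimit yoneda (equalizer.condition (𝟙 Y) ε) (equalizerIsEqualizer (𝟙 Y) ε)
  have hs : s ≫ yoneda.map (𝟙 Y) = s ≫ yoneda.map ε := by
    rw [hε, ← Category.assoc, hsf]; simp
  let sFork : Fork (yoneda.map (𝟙 Y)) (yoneda.map ε) := Fork.ofι s hs
  let h : F ⟶ yoneda.obj Z := hlim.lift sFork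
  have hh : h ≫ yoneda.map i = s := hlim.fac sFork WalkingParallelPair.zero
  refine ⟨Z, i, hcl, ⟨h, yoneda.map i ≫ f, ?_, ?_⟩, hh⟩
  · rw [← Category.assoc, hh, hsf]
  · apply Fork.IsLimit.hom_ext hlim
    show ((yoneda.map i ≫ f) ≫ h) ≫ yoneda.map i = 𝟙 _ ≫ yoneda.map i
    rw [Category.assoc, hh, Category.assoc, ← hε, ← Functor.map_comp, hi, Category.id_comp]

end Groth.Agent.S17825
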