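import Groth.Statements.S17833
import Groth.Agent.Lib.Helper14.QuotProps
import Mathlib

set_option autoImplicit false
universe u
open CategoryTheory MonoidalCategory CartesianMonoidalCategory MonObj GrpObj AlgebraicGeometry
open AlgGrp

namespace Groth.Agent.S17833

/-- Over an algebraically closed field k, let G be a connected smooth k-group scheme of finite type (in
the terminology of the notes, a smooth connected algebraic group), and H an affine normal subgroup
scheme of G such that the quotient G/H is an abelian variety: here j : H → G is the kernel of a flat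
surjective homomorphism q : G → Q of k-group schemes with Q proper over k, and H is affine. Then an
automorphism u of the algebraic group G which fixes H pointwise (j ∘ u = j) and induces the identity
of Q (q ∘ u = q) is the identity. Equivalently, the map from the group of automorphisms of G fixing
H pointwise to the automorphism group of G/H is injective. -/
theorem result (k : Type u) [Field k] [IsAlgClosed k]
    (G H Q : Over (Spec (CommRingCat.of k))) [GrpObj G] [GrpObj H] [GrpObj Q]
    [Smooth G.hom] [QuasiCompact G.hom] [ConnectedSpace ↥G.left]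
    [IsAffine H.left] [IsProper Q.hom]
    (j : H ⟶ G) [IsMonHom j] (q : G ⟶ Q) [IsMonHom q] [Flat q.left] [Surjective q.left]
    (hker : AlgGrp.IsKernel j q)
    (u : G ≅ G) [IsMonHom u.hom] (hH : j ≫ u.hom = j) (hQ : u.hom ≫ q = q) :
    u.hom = 𝟙 G := by
  -- geometry of the quotient
  haveI : IsReduced G.left := Groth.Agent.Lib.Helper14.FibreH0.isReduced_of_smooth_field k G.hom
  haveI : IsReduced Q.left := Groth.Agent.Lib.Helper14.QuotProps.isReduced_of_flat_surjective q.left
  haveI : ConnectedSpace ↥Q.left := by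
    have hs : Function.Surjective q.left.base := q.left.surjective
    haveI : PreconnectedSpace ↥Q.left := ⟨by
      rw [← hs.range_eq]
      exact isPreconnected_range q.left.base.hom.continuous⟩
    exact { toNonempty := ⟨q.left.base (Classical.arbitrary _)⟩ }
  haveI : QuasiCompact (q.left ≫ Q.hom) := by rw [Over.w q]; infer_instance
  haveI : QuasiCompact q.left := QuasiCompact.of_comp q.left Q.hom
  -- the difference morphism
  let f : G ⟶ G := u.hom * (𝟙 G)⁻¹
  have hfq : f ≫ q = 1 := by
    show (u.hom * (𝟙 G)⁻¹) ≫ q = 1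
    rw [MonObj.mul_comp, GrpObj.inv_comp, hQ, Category.id_comp, mul_inv_cancel]
  have hlift : ∀ {Z : Over (Spec (CommRingCat.of k))} (t : Z ⟶ G), t ≫ q = 1 →
      ∃ h : Z ⟶ H, h ≫ j = t := by
    intro Z t ht
    refine ⟨hker.lift t (toUnit Z) ?_, hker.lift_fst _ _ _⟩
    rw [ht, Hom.one_def]
  obtain ⟨f', hf'⟩ := hlift f hfq
  haveI : Mono j := ⟨fun {Z} a b hab => by
    apply hker.hom_ext hab
    exact toUnit_unique _ _⟩
  have hdesc : ∀ (Z : Over (Spec (CommRingCat.of k))) (g₁ g₂ : Z ⟶ G), g₁ ≫ q = g₂ ≫ q →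
      g₁ ≫ f' = g₂ ≫ f' := by
    intro Z g₁ g₂ hg
    rw [← cancel_mono j, Category.assoc, Category.assoc, hf']
    have h1 : (g₁⁻¹ * g₂) ≫ q = 1 := by
      rw [MonObj.mul_comp, GrpObj.inv_comp, hg, inv_mul_cancel]
    obtain ⟨h, hh⟩ := hlift _ h1
    have h2 : g₂ = g₁ * (h ≫ j) := by rw [hh, mul_inv_cancel_left]
    show g₁ ≫ (u.hom * (𝟙 G)⁻¹) = g₂ ≫ (u.hom * (𝟙 G)⁻¹)
    rw [MonObj.comp_mul, MonObj.comp_mul, GrpObj.comp_inv, GrpObj.comp_inv, Category.comp_id,
      Category.comp_id, h2, MonObj.mul_comp, Category.assoc, hH, _root_.mul_inv_rev]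
    group
  obtain ⟨φ, hφ⟩ := Groth.Agent.Lib.Helper14.QuotProps.exists_desc_over q f' hdesc
  have hconst := Groth.Agent.Lib.Helper14.QuotProps.const_of_proper_to_affine k Q H η[Q] φ
  -- conclude
  have hηf : η[G] ≫ f = 1 := by
    show η[G] ≫ (u.hom * (𝟙 G)⁻¹) = 1
    rw [MonObj.comp_mul, GrpObj.comp_inv, Category.comp_id, IsMonHom.one_hom,
      MonObj.one_eq_one, mul_inv_cancel]
  have hf1 : f = 1 := by
    have e1 : f = toUnit G ≫ (η[Q] ≫ φ) ≫ j := by
      rw [← hf', ← hφ]
      conv_lhs => rw [hconst]
      simp only [Category.assoc]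
      rw [← Category.assoc q]
      congr 1
      exact toUnit_unique _ _
    have e2 : (η[Q] ≫ φ) ≫ j = η[G] ≫ f := by
      rw [← hf', ← hφ, ← IsMonHom.one_hom (f := q)]
      simp only [Category.assoc]
    rw [e1, e2, hηf, MonObj.comp_one]
  have : u.hom * (𝟙 G)⁻¹ = 1 := hf1
  rw [mul_inv_eq_one] at this
  exact this

end Groth.Agent.S17833
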