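import Groth.Statements.S17843
import Mathlib

set_option autoImplicit false
universe u v
open CAlg

namespace Groth.Agent.S17843

open Polynomial in
theorem lemmaA (R : Type u) [CommRing R] (r : R) (p : Polynomial (Localization.Away r)) :
    ∃ e : ℕ, ∀ n, e ≤ n → ∃ q : Polynomial R, q.coeff 0 = 0 ∧
      q.map (algebraMap R (Localization.Away r)) =
        p.comp (C (algebraMap R (Localization.Away r) (r ^ n)) * X) - C (p.coeff 0) := by
  obtain ⟨b, hb, hspec⟩ := IsLocalization.integerNormalization_spec (Submonoid.powers r) p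
  obtain ⟨e, rfl⟩ := (Submonoid.mem_powers_iff _ _).mp hb
  obtain ⟨P₀, hP₀⟩ : ∃ P₀ : Polynomial R, P₀ = IsLocalization.integerNormalization
    (Submonoid.powers r) p := ⟨_, rfl⟩
  rw [← hP₀] at hspec
  have hc : ∀ j, algebraMap R (Localization.Away r) (P₀.coeff j)
      = algebraMap R (Localization.Away r) (r ^ e) * p.coeff j := by
    intro j
    have := congrArg (fun t => Polynomial.coeff t j) hspec
    simp only [Polynomial.coeff_map, Polynomial.coeff_smul] at this
    rw [this, Algebra.smul_def]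
  refine ⟨e, fun n hn => ⟨C (r ^ (n - e)) * (X * (P₀.divX).comp (C (r ^ n) * X)), ?_, ?_⟩⟩
  · rw [Polynomial.coeff_C_mul, Polynomial.coeff_X_mul_zero, mul_zero]
  · ext j
    rcases j with _ | j
    · simp only [Polynomial.coeff_map, Polynomial.coeff_C_mul, Polynomial.coeff_X_mul_zero,
        mul_zero, map_zero, Polynomial.coeff_sub, Polynomial.comp_C_mul_X_coeff, pow_zero,
        mul_one, Polynomial.coeff_C_zero, sub_self]
    · simp only [Polynomial.coeff_map, Polynomial.coeff_C_mul, Polynomial.coeff_X_mul,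
        Polynomial.comp_C_mul_X_coeff, Polynomial.coeff_divX, Polynomial.coeff_sub]
      rw [Polynomial.coeff_C_of_ne_zero (Nat.succ_ne_zero j), sub_zero]
      simp only [map_mul, map_pow, hc (j + 1)]
      have h1 : algebraMap R (Localization.Away r) r ^ n
          = algebraMap R (Localization.Away r) r ^ (n - e) * algebraMap R (Localization.Away r) r ^ e := by
        rw [← pow_add, Nat.sub_add_cancel hn]
      rw [h1]
      ring

theorem lemmaB (R : Type u) [CommRing R] (r : R) (g : Polynomial R)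
    (hg : g.map (algebraMap R (Localization.Away r)) = 0) : ∃ M : ℕ, ∀ j, r ^ M * g.coeff j = 0 := by
  classical
  have h1 : ∀ j, ∃ Mj : ℕ, r ^ Mj * g.coeff j = 0 := by
    intro j
    have h2 : algebraMap R (Localization.Away r) (g.coeff j) = 0 := by
      rw [← Polynomial.coeff_map, hg, Polynomial.coeff_zero]
    obtain ⟨⟨m, hm⟩, hm2⟩ := (IsLocalization.map_eq_zero_iff (Submonoid.powers r) _ _).mp h2
    obtain ⟨k, rfl⟩ := (Submonoid.mem_powers_iff _ _).mp hm
    exact ⟨k, hm2⟩
  choose Mj hMj using h1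
  refine ⟨g.support.sup Mj, fun j => ?_⟩
  by_cases hj : j ∈ g.support
  · have hle : Mj j ≤ g.support.sup Mj := Finset.le_sup hj
    rw [← Nat.sub_add_cancel hle, pow_add, mul_assoc, hMj j, mul_zero]
  · rw [Polynomial.notMem_support_iff.mp hj, mul_zero]

theorem lemmaC (R : Type u) [CommRing R] (r : R) (g : Polynomial R) (h0 : g.coeff 0 = 0) (M : ℕ)
    (hM : ∀ j, r ^ M * g.coeff j = 0) (n : ℕ) (hn : M ≤ n) :
    g.comp (Polynomial.C (r ^ n) * Polynomial.X) = 0 := by
  ext j
  rw [Polynomial.comp_C_mul_X_coeff, Polynomial.coeff_zero]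
  rcases j with _ | j
  · rw [h0, zero_mul]
  · have h1 : M ≤ n * (j + 1) := le_trans hn (Nat.le_mul_of_pos_right n (Nat.succ_pos j))
    rw [← pow_mul, ← Nat.sub_add_cancel h1, pow_add, mul_comm (r ^ _) (r ^ M), ← mul_assoc,
      mul_comm (g.coeff (j + 1)), hM, zero_mul]



/-- In the case of an affine scheme of finite presentation, let B be a finitely presented R-algebra, r ∈
R, and x : B → R[1/r][T] an R-algebra homomorphism whose value at T = 0, a homomorphism B → R[1/r],
is induced by a homomorphism x̃₀ : B → R. Then for every large enough n, the homomorphism x(rⁿT) : B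
→ R[1/r][T] is induced by a homomorphism x̃ : B → R[T] whose value at T = 0 is x̃₀. The published
statement is for algebraic spaces locally of finite presentation over R; this row takes an affine
scheme of finite presentation. -/
theorem result
    (R : Type u) (B : Type v) [CommRing R] [CommRing B] [Algebra R B]
    [Algebra.FinitePresentation R B] (r : R)
    (x : B →ₐ[R] Polynomial (Localization.Away r))
    (x₀ : B →ₐ[R] R)
    (hx₀ : (algebraMap R (Localization.Away r)).comp x₀.toRingHom =
      (Polynomial.evalRingHom 0).comp x.toRingHom) :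
    ∃ N : ℕ, ∀ n : ℕ, N ≤ n →
      ∃ y : B →ₐ[R] Polynomial R,
        (Polynomial.evalRingHom 0).comp y.toRingHom = x₀.toRingHom ∧
        (Polynomial.mapRingHom (algebraMap R (Localization.Away r))).comp y.toRingHom =
          (Polynomial.aeval (Polynomial.C (algebraMap R (Localization.Away r) (r ^ n)) * Polynomial.X) :
              Polynomial (Localization.Away r) →ₐ[Localization.Away r] Polynomial (Localization.Away r)).toRingHom.comp
            x.toRingHom := by
  classical
  obtain ⟨m, f, hf, hker⟩ := Algebra.FinitePresentation.out (R := R) (A := B)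
  obtain ⟨S, hS⟩ := hker
  obtain ⟨ι, hι⟩ : ∃ ι : R →+* Localization.Away r, ι = algebraMap R (Localization.Away r) :=
    ⟨_, rfl⟩
  obtain ⟨p, hp⟩ : ∃ p : Fin m → Polynomial (Localization.Away r),
      p = fun i => x (f (MvPolynomial.X i)) := ⟨_, rfl⟩
  obtain ⟨a, ha⟩ : ∃ a : Fin m → R, a = fun i => x₀ (f (MvPolynomial.X i)) := ⟨_, rfl⟩
  have hpa : ∀ i, (p i).coeff 0 = ι (a i) := by
    intro i
    have h1 := RingHom.congr_fun hx₀ (f (MvPolynomial.X i))
    simp only [RingHom.comp_apply, Polynomial.coe_evalRingHom, AlgHom.toRingHom_eq_coe,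
      RingHom.coe_coe] at h1
    rw [Polynomial.coeff_zero_eq_eval_zero, hp, ha, hι]
    exact h1.symm
  -- general facts about aeval Q
  have hfC : ∀ c : R, f (MvPolynomial.C c) = algebraMap R B c := by
    intro c
    rw [← MvPolynomial.algebraMap_eq, AlgHom.commutes]
  have hgen_a : ∀ (Q : Fin m → Polynomial R) (n : ℕ),
      (∀ i, (Q i).map ι = (p i).comp (Polynomial.C (ι (r ^ n)) * Polynomial.X)) →
      ∀ s, ((MvPolynomial.aeval Q : MvPolynomial (Fin m) R →ₐ[R] Polynomial R) s).map ι
        = (x (f s)).comp (Polynomial.C (ι (r ^ n)) * Polynomial.X) := by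
    intro Q n hQ s
    induction s using MvPolynomial.induction_on with
    | C c =>
      rw [MvPolynomial.aeval_C, hfC, AlgHom.commutes, Polynomial.algebraMap_apply,
        Polynomial.algebraMap_apply, Polynomial.map_C, Polynomial.C_comp, hι]
      rfl
    | add s t hs ht =>
      rw [map_add, Polynomial.map_add, hs, ht, map_add, map_add, Polynomial.add_comp]
    | mul_X s i hs =>
      rw [map_mul, Polynomial.map_mul, hs, MvPolynomial.aeval_X, hQ i, map_mul, map_mul,
        Polynomial.mul_comp, hp]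
  have hgen_b : ∀ (Q : Fin m → Polynomial R), (∀ i, (Q i).eval 0 = a i) →
      ∀ s, ((MvPolynomial.aeval Q : MvPolynomial (Fin m) R →ₐ[R] Polynomial R) s).eval 0
        = x₀ (f s) := by
    intro Q hQ s
    induction s using MvPolynomial.induction_on with
    | C c =>
      rw [MvPolynomial.aeval_C, hfC, AlgHom.commutes, Polynomial.algebraMap_apply,
        Polynomial.eval_C]
    | add s t hs ht =>
      rw [map_add, Polynomial.eval_add, hs, ht, map_add, map_add]
    | mul_X s i hs =>
      rw [map_mul, Polynomial.eval_mul, hs, MvPolynomial.aeval_X, hQ i, map_mul, map_mul, ha]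
  have hgen_c : ∀ (Q : Fin m → Polynomial R) (t : Polynomial R) (s : MvPolynomial (Fin m) R),
      (MvPolynomial.aeval (fun i => (Q i).comp t) : MvPolynomial (Fin m) R →ₐ[R] Polynomial R) s
        = ((MvPolynomial.aeval Q : MvPolynomial (Fin m) R →ₐ[R] Polynomial R) s).comp t := by
    intro Q t s
    induction s using MvPolynomial.induction_on with
    | C c =>
      rw [MvPolynomial.aeval_C, MvPolynomial.aeval_C, Polynomial.algebraMap_apply,
        Polynomial.C_comp]
    | add s t' hs ht =>
      rw [map_add, map_add, hs, ht, Polynomial.add_comp]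
    | mul_X s i hs =>
      rw [map_mul, map_mul, hs, MvPolynomial.aeval_X, MvPolynomial.aeval_X, Polynomial.mul_comp]
  -- Stage 1
  choose e he using fun i => lemmaA R r (p i)
  obtain ⟨N₀, hN₀def⟩ : ∃ N₀ : ℕ, N₀ = Finset.univ.sup e := ⟨_, rfl⟩
  have hN₀ : ∀ i, e i ≤ N₀ := fun i => hN₀def ▸ Finset.le_sup (Finset.mem_univ i)
  choose q hq0 hq using fun i => he i N₀ (hN₀ i)
  obtain ⟨Q0, hQ0def⟩ : ∃ Q0 : Fin m → Polynomial R, Q0 = fun i => Polynomial.C (a i) + q i :=
    ⟨_, rfl⟩
  have hQ0map : ∀ i, (Q0 i).map ι = (p i).comp (Polynomial.C (ι (r ^ N₀)) * Polynomial.X) := by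
    intro i
    rw [hQ0def]
    simp only [Polynomial.map_add, Polynomial.map_C]
    rw [hι, hq i, ← hι, hpa i]
    ring
  have hQ0eval : ∀ i, (Q0 i).eval 0 = a i := by
    intro i
    rw [hQ0def]
    simp only [Polynomial.eval_add, Polynomial.eval_C]
    rw [← Polynomial.coeff_zero_eq_eval_zero, hq0 i, add_zero]
  have hfs : ∀ s ∈ S, f s = 0 := by
    intro s hs
    have h1 : s ∈ RingHom.ker f.toRingHom := hS ▸ Ideal.subset_span hs
    exact h1
  have hg : ∀ s ∈ S, ∃ M, ∀ j, r ^ M *
      ((MvPolynomial.aeval Q0 : MvPolynomial (Fin m) R →ₐ[R] Polynomial R) s).coeff j = 0 := by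
    intro s hs
    apply lemmaB
    rw [← hι, hgen_a Q0 N₀ hQ0map s, hfs s hs, map_zero, Polynomial.zero_comp]
  choose! Mf hMf using hg
  obtain ⟨M, hMdef⟩ : ∃ M : ℕ, M = S.sup Mf := ⟨_, rfl⟩
  refine ⟨N₀ + M, fun n hn => ?_⟩
  obtain ⟨n', hn'def⟩ : ∃ n' : ℕ, n' = n - N₀ := ⟨_, rfl⟩
  have hn' : M ≤ n' := by omega
  have hnn : N₀ + n' = n := by omega
  obtain ⟨Q, hQdef⟩ : ∃ Q : Fin m → Polynomial R,
      Q = fun i => (Q0 i).comp (Polynomial.C (r ^ n') * Polynomial.X) := ⟨_, rfl⟩
  have hYs : ∀ s ∈ S, (MvPolynomial.aeval Q : MvPolynomial (Fin m) R →ₐ[R] Polynomial R) s = 0 := by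
    intro s hs
    rw [hQdef, hgen_c Q0 _ s]
    apply lemmaC R r _ ?_ (Mf s) (hMf s hs) n' (le_trans (hMdef ▸ Finset.le_sup hs) hn')
    rw [Polynomial.coeff_zero_eq_eval_zero, hgen_b Q0 hQ0eval s, hfs s hs, map_zero]
  have hH : RingHom.ker f.toRingHom ≤ RingHom.ker
      (MvPolynomial.aeval Q : MvPolynomial (Fin m) R →ₐ[R] Polynomial R).toRingHom := by
    rw [← hS, Ideal.span_le]
    intro s hs
    exact hYs s hs
  have hQeval : ∀ i, (Q i).eval 0 = a i := by
    intro i
    rw [hQdef]
    simp only [Polynomial.eval_comp, Polynomial.eval_mul, Polynomial.eval_X, mul_zero]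
    exact hQ0eval i
  have hQmap : ∀ i, (Q i).map ι = (p i).comp (Polynomial.C (ι (r ^ n)) * Polynomial.X) := by
    intro i
    rw [hQdef]
    simp only [Polynomial.map_comp, Polynomial.map_mul, Polynomial.map_C, Polynomial.map_X]
    rw [hQ0map i, Polynomial.comp_assoc, Polynomial.mul_comp, Polynomial.C_comp,
      Polynomial.X_comp, ← mul_assoc, ← Polynomial.C_mul, ← map_mul, ← pow_add, hnn]
  refine ⟨AlgHom.liftOfSurjective f hf _ hH, ?_, ?_⟩
  · apply RingHom.ext
    intro b
    obtain ⟨s, rfl⟩ := hf b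
    simp only [RingHom.comp_apply, AlgHom.toRingHom_eq_coe, RingHom.coe_coe,
      AlgHom.liftOfSurjective_apply, Polynomial.coe_evalRingHom]
    exact hgen_b Q hQeval s
  · apply RingHom.ext
    intro b
    obtain ⟨s, rfl⟩ := hf b
    simp only [RingHom.comp_apply, AlgHom.toRingHom_eq_coe, RingHom.coe_coe,
      AlgHom.liftOfSurjective_apply, Polynomial.coe_mapRingHom]
    rw [← Polynomial.comp_eq_aeval, ← hι]
    exact hgen_a Q n hQmap s


end Groth.Agent.S17843
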