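import Groth.Statements.S17849
import Mathlib

set_option autoImplicit false
open CategoryTheory
open GalLat

namespace Groth.Agent.S17849

set_option linter.style.haveILetI false

open groupCohomology

universe u

/-- `H¹(G, A) = 0` iff every 1-cocycle is a coboundary. -/
lemma isZero_H1_iff {G : Type} [Group G] (A : Rep ℤ G) :
    Limits.IsZero (groupCohomology A 1) ↔
      ∀ f : G → A.V, (∀ g h, f (g * h) = A.ρ g (f h) + f g) → ∃ x : A.V, ∀ g, f g = A.ρ g x - x := by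
  rw [ModuleCat.isZero_iff_subsingleton]
  constructor
  · intro hs f hf
    have hf' : f ∈ cocycles₁ A := (mem_cocycles₁_iff f).2 hf
    have h0 : H1π A ⟨f, hf'⟩ = 0 := Subsingleton.elim _ _
    rw [H1π_eq_zero_iff] at h0
    obtain ⟨x, hx⟩ := h0
    refine ⟨x, fun g => ?_⟩
    have := congrFun hx g
    simp only [cocycles₁.coe_mk] at this
    rw [← this]
    rfl
  · intro h
    refine ⟨fun a b => ?_⟩
    have key : ∀ c : groupCohomology A 1, c = 0 := by
      intro c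
      induction c using H1_induction_on with
      | h x =>
        rw [H1π_eq_zero_iff]
        obtain ⟨y, hy⟩ := h x ((mem_cocycles₁_iff x).1 x.2)
        refine ⟨y, ?_⟩
        funext g
        rw [hy g]
        rfl
    rw [key a, key b]

lemma rho_mul_apply {k G : Type*} [CommRing k] [Group G] (A : Rep k G) (a b : G) (x : A.V) :
    A.ρ a (A.ρ b x) = A.ρ (a * b) x := by
  rw [map_mul]; rfl

lemma rho_one_apply {k G : Type*} [CommRing k] [Group G] (A : Rep k G) (x : A.V) :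
    A.ρ 1 x = x := by
  rw [map_one]; rfl

lemma rep_exact_iff {k G : Type} [CommRing k] [Group G] (S : ShortComplex (Rep.{0} k G)) :
    S.Exact ↔ ∀ x₂ : S.X₂.V, S.g.hom x₂ = 0 → ∃ x₁ : S.X₁.V, S.f.hom x₁ = x₂ := by
  rw [← ShortComplex.exact_map_iff_of_faithful S (forget₂ (Rep.{0} k G) (ModuleCat k)),
    ShortComplex.moduleCat_exact_iff]
  rfl

section Dir2

variable {k : Type} [CommRing k] {Γ : Type} [Group Γ] (Λ : Rep.{0} k Γ) (Γ' : Subgroup Γ)
  (f : Γ' → Λ.V)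

/-- extension by zero -/
noncomputable def fz (g : Γ) : Λ.V := by
  classical exact if h : g ∈ Γ' then f ⟨g, h⟩ else 0

lemma fz_mem (g : Γ) (h : g ∈ Γ') : fz Λ Γ' f g = f ⟨g, h⟩ := by
  classical
  unfold fz
  rw [dif_pos h]

noncomputable def Ft (g : Γ) : Λ.V :=
  Λ.ρ (Quotient.out (QuotientGroup.mk g : Γ ⧸ Γ'))
    (fz Λ Γ' f ((Quotient.out (QuotientGroup.mk g : Γ ⧸ Γ'))⁻¹ * g))

variable (hf : ∀ g h : Γ', f (g * h) = Λ.ρ g (f h) + f g)
include hf

lemma Ft_mul (g : Γ) (h : Γ') : Ft Λ Γ' f (g * h) = Ft Λ Γ' f g + Λ.ρ g (f h) := by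
  unfold Ft
  have e1 : (QuotientGroup.mk (g * h) : Γ ⧸ Γ') = QuotientGroup.mk g :=
    QuotientGroup.mk_mul_of_mem g h.2
  rw [e1]
  set t := Quotient.out (QuotientGroup.mk g : Γ ⧸ Γ') with ht
  have hm : t⁻¹ * g ∈ Γ' := QuotientGroup.eq.1 (QuotientGroup.out_eq' _)
  have hm2 : t⁻¹ * (g * h) ∈ Γ' := by
    rw [← mul_assoc]; exact Γ'.mul_mem hm h.2
  rw [fz_mem Λ Γ' f _ hm, fz_mem Λ Γ' f _ hm2]
  have e2 : (⟨t⁻¹ * (g * h), hm2⟩ : Γ') = ⟨t⁻¹ * g, hm⟩ * h := by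
    ext; simp [mul_assoc]
  rw [e2, hf, map_add, add_comm]
  congr 1
  rw [rho_mul_apply]
  simp

/-- the twisting cocycle -/
noncomputable def phi (γ : Γ) (x : Γ ⧸ Γ') : Λ.V :=
  Ft Λ Γ' f (γ * Quotient.out x) - Λ.ρ γ (Ft Λ Γ' f (Quotient.out x))

lemma phi_mk (γ g : Γ) :
    phi Λ Γ' f γ (QuotientGroup.mk g : Γ ⧸ Γ') = Ft Λ Γ' f (γ * g) - Λ.ρ γ (Ft Λ Γ' f g) := by
  obtain ⟨h, hh⟩ := QuotientGroup.mk_out_eq_mul Γ' g
  unfold phi
  rw [hh, ← mul_assoc, Ft_mul Λ Γ' f hf, Ft_mul Λ Γ' f hf, map_add, rho_mul_apply]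
  abel

omit hf in
lemma phi_one (x : Γ ⧸ Γ') : phi Λ Γ' f 1 x = 0 := by
  unfold phi
  rw [one_mul, rho_one_apply, sub_self]

lemma phi_mul (γ γ' : Γ) (x : Γ ⧸ Γ') :
    phi Λ Γ' f (γ * γ') x = Λ.ρ γ (phi Λ Γ' f γ' x) + phi Λ Γ' f γ (γ' • x) := by
  induction x using QuotientGroup.induction_on with
  | H g =>
    have e : γ' • (QuotientGroup.mk g : Γ ⧸ Γ') = QuotientGroup.mk (γ' * g) := rfl
    rw [e, phi_mk Λ Γ' f hf, phi_mk Λ Γ' f hf, phi_mk Λ Γ' f hf, map_sub, rho_mul_apply, mul_assoc]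
    abel

end Dir2

section Twist

variable {k : Type} [CommRing k] {Γ : Type} [Group Γ] (Λ : Rep.{0} k Γ) (X : Type) [MulAction Γ X]
  (φ : Γ → X → Λ.V) (h1 : ∀ x, φ 1 x = 0)
  (hmul : ∀ γ γ' x, φ (γ * γ') x = Λ.ρ γ (φ γ' x) + φ γ (γ' • x))

/-- linear extension of `φ γ` -/
noncomputable def Phi (γ : Γ) : MonoidAlgebra k X →ₗ[k] Λ.V :=
  (Finsupp.linearCombination k (φ γ)) ∘ₗ (MonoidAlgebra.coeffLinearEquiv k).toLinearMap

lemma Phi_single (γ : Γ) (x : X) (n : k) :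
    Phi Λ X φ γ (MonoidAlgebra.single x n) = n • φ γ x := by
  simp [Phi]

/-- the twisted action on `Λ × ℤ[X]` -/
noncomputable def rhoE (γ : Γ) : (Λ.V × MonoidAlgebra k X) →ₗ[k] (Λ.V × MonoidAlgebra k X) :=
  LinearMap.prod
    ((Λ.ρ γ).comp (LinearMap.fst k Λ.V (MonoidAlgebra k X)) +
      (Phi Λ X φ γ).comp (LinearMap.snd k Λ.V (MonoidAlgebra k X)))
    ((Representation.ofMulAction k Γ X γ).comp (LinearMap.snd k Λ.V (MonoidAlgebra k X)))

lemma rhoE_apply (γ : Γ) (l : Λ.V) (ξ : MonoidAlgebra k X) :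
    rhoE Λ X φ γ (l, ξ) = (Λ.ρ γ l + Phi Λ X φ γ ξ, Representation.ofMulAction k Γ X γ ξ) := rfl

include h1 in
lemma Phi_one : Phi Λ X φ 1 = 0 := by
  ext x
  simp [Phi_single, h1]

include hmul in
lemma Phi_mul (γ γ' : Γ) :
    Phi Λ X φ (γ * γ') =
      (Λ.ρ γ).comp (Phi Λ X φ γ') + (Phi Λ X φ γ).comp (Representation.ofMulAction k Γ X γ') := by
  ext x
  simp [Phi_single, hmul]

/-- the twisted representation -/
noncomputable def repE : Representation k Γ (Λ.V × MonoidAlgebra k X) where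
  toFun := rhoE Λ X φ
  map_one' := by
    apply LinearMap.ext
    rintro ⟨l, ξ⟩
    rw [rhoE_apply, Phi_one Λ X φ h1]
    simp
  map_mul' γ γ' := by
    apply LinearMap.ext
    rintro ⟨l, ξ⟩
    rw [Module.End.mul_apply, rhoE_apply, rhoE_apply, rhoE_apply, Phi_mul Λ X φ hmul]
    refine Prod.ext ?_ ?_
    · simp only [LinearMap.add_apply, LinearMap.comp_apply, map_add, ← rho_mul_apply, add_assoc]
    · show Representation.ofMulAction k Γ X (γ * γ') ξ =
        Representation.ofMulAction k Γ X γ (Representation.ofMulAction k Γ X γ' ξ)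
      rw [map_mul]; rfl

lemma repE_apply (γ : Γ) (l : Λ.V) (ξ : MonoidAlgebra k X) :
    repE Λ X φ h1 hmul γ (l, ξ) =
      (Λ.ρ γ l + Phi Λ X φ γ ξ, Representation.ofMulAction k Γ X γ ξ) := rfl

/-- the twisted extension -/
noncomputable def scE : ShortComplex (Rep.{0} k Γ) where
  X₁ := Λ
  X₂ := Rep.of (repE Λ X φ h1 hmul)
  X₃ := Rep.ofMulAction k Γ X
  f := Rep.ofHom (ρ := Λ.ρ) (LinearMap.intertwiningMap_of_isIntertwiningMap _ _
    (LinearMap.inl k Λ.V (MonoidAlgebra k X)) (fun g v => by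
      rw [LinearMap.inl_apply, LinearMap.inl_apply, repE_apply]; simp))
  g := Rep.ofHom (LinearMap.intertwiningMap_of_isIntertwiningMap _ _
    (LinearMap.snd k Λ.V (MonoidAlgebra k X)) (fun g v => rfl))
  zero := by
    ext x
    rfl

lemma scE_shortExact : (scE Λ X φ h1 hmul).ShortExact := by
  have hm : Mono (scE Λ X φ h1 hmul).f := by
    rw [Rep.mono_iff_injective]
    intro a b hab
    exact (Prod.ext_iff.1 hab).1
  have he : Epi (scE Λ X φ h1 hmul).g := by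
    rw [Rep.epi_iff_surjective]
    intro ξ
    exact ⟨(0, ξ), rfl⟩
  refine ShortComplex.ShortExact.mk ?_
  rw [rep_exact_iff]
  rintro ⟨l, ξ⟩ hx
  refine ⟨l, ?_⟩
  have : ξ = 0 := hx
  rw [this]
  rfl

end Twist

section Dir2Final

variable {k : Type} [CommRing k] {Γ : Type} [Group Γ] (Λ : Rep.{0} k Γ) (Γ' : Subgroup Γ)
  (f : Γ' → Λ.V) (hf : ∀ g h : Γ', f (g * h) = Λ.ρ g (f h) + f g)

/-- the extension attached to a cocycle on a subgroup -/
noncomputable def scF : ShortComplex (Rep.{0} k Γ) :=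
  scE Λ (Γ ⧸ Γ') (phi Λ Γ' f) (phi_one Λ Γ' f) (phi_mul Λ Γ' f hf)

lemma dir2 (hs : Nonempty (scF Λ Γ' f hf).Splitting) :
    ∃ x : Λ.V, ∀ h : Γ', f h = Λ.ρ h x - x := by
  obtain ⟨sp⟩ := hs
  set x₀ : Γ ⧸ Γ' := QuotientGroup.mk 1 with hx₀
  set e₀ : Λ.V × MonoidAlgebra k (Γ ⧸ Γ') := sp.s.hom (MonoidAlgebra.single x₀ 1) with he₀
  have h2 : e₀.2 = MonoidAlgebra.single x₀ 1 := by
    have := congrArg (fun t => t.hom (MonoidAlgebra.single x₀ (1 : k))) sp.s_g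
    exact this
  refine ⟨Ft Λ Γ' f 1 - e₀.1, fun h => ?_⟩
  have hx : (h : Γ) • x₀ = x₀ := by
    show (QuotientGroup.mk ((h : Γ) * 1) : Γ ⧸ Γ') = QuotientGroup.mk 1
    rw [mul_one]
    exact QuotientGroup.eq.2 (by simpa using h.2)
  have h3 := Rep.hom_comm_apply sp.s (h : Γ) (MonoidAlgebra.single x₀ (1 : k))
  have h4 : (Rep.ofMulAction k Γ (Γ ⧸ Γ')).ρ (h : Γ) (MonoidAlgebra.single x₀ (1 : k)) =
      MonoidAlgebra.single x₀ 1 := by
    show Representation.ofMulAction k Γ (Γ ⧸ Γ') (h : Γ) (MonoidAlgebra.single x₀ (1 : k)) = _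
    rw [Representation.ofMulAction_single, hx]
  have h5 : e₀ = repE Λ (Γ ⧸ Γ') (phi Λ Γ' f) (phi_one Λ Γ' f) (phi_mul Λ Γ' f hf) (h : Γ) e₀ := by
    calc e₀ = sp.s.hom ((Rep.ofMulAction k Γ (Γ ⧸ Γ')).ρ (h : Γ)
          (MonoidAlgebra.single x₀ (1 : k))) := by rw [h4]
      _ = _ := h3
  have h6 : e₀.1 = Λ.ρ (h : Γ) e₀.1 + phi Λ Γ' f (h : Γ) x₀ := by
    have := congrArg Prod.fst h5
    rw [show e₀ = (e₀.1, e₀.2) from rfl, repE_apply, h2, Phi_single, one_smul] at this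
    exact this
  rw [hx₀, phi_mk Λ Γ' f hf, mul_one] at h6
  have h7 := Ft_mul Λ Γ' f hf 1 h
  rw [one_mul, rho_one_apply] at h7
  rw [h7] at h6
  rw [map_sub]
  generalize Λ.ρ (h : Γ) e₀.1 = b at h6 ⊢
  rw [h6]
  abel

end Dir2Final

section Dir1

variable {k : Type} [CommRing k] {Γ : Type} [Group Γ] (Λ : Rep.{0} k Γ)
  (X : Type) [MulAction Γ X] (E : ShortComplex (Rep.{0} k Γ)) (hE : E.ShortExact)
  (e₁ : E.X₁ ≅ Λ) (e₃ : E.X₃ ≅ Rep.ofMulAction k Γ X)
  (H : ∀ (Γ' : Subgroup Γ) (c : Γ' → Λ.V), (∀ g h : Γ', c (g * h) = Λ.ρ g (c h) + c g) →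
    ∃ x : Λ.V, ∀ h : Γ', c h = Λ.ρ h x - x)

include hE e₁ e₃ H

/-- a stabilizer-fixed lift of each basis vector -/
lemma exists_fixed_lift (x : X) :
    ∃ w : E.X₂.V, E.g.hom w = e₃.inv.hom (MonoidAlgebra.single x 1) ∧
      ∀ h ∈ MulAction.stabilizer Γ x, E.X₂.ρ h w = w := by
  have hinj : Function.Injective E.f.hom := (Rep.mono_iff_injective _).1 hE.mono_f
  have hsurj : Function.Surjective E.g.hom := (Rep.epi_iff_surjective _).1 hE.epi_g
  have hex := (rep_exact_iff E).1 hE.exact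
  have hzero : ∀ a : E.X₁.V, E.g.hom (E.f.hom a) = 0 := fun a => by
    have := congrArg (fun t => t.hom a) E.zero
    exact this
  set p : E.X₃.V := e₃.inv.hom (MonoidAlgebra.single x 1) with hp
  obtain ⟨e, he⟩ := hsurj p
  have hpfix : ∀ h ∈ MulAction.stabilizer Γ x, E.X₃.ρ h p = p := by
    intro h hh
    rw [hp, ← Rep.hom_comm_apply]
    congr 1
    show Representation.ofMulAction k Γ X h (MonoidAlgebra.single x (1 : k)) = _
    rw [Representation.ofMulAction_single, MulAction.mem_stabilizer_iff.1 hh]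
  have hc : ∀ h : MulAction.stabilizer Γ x, ∃ a : E.X₁.V, E.f.hom a = E.X₂.ρ (h : Γ) e - e := by
    intro h
    apply hex
    rw [map_sub, Rep.hom_comm_apply, he, hpfix h h.2, sub_self]
  choose c hc using hc
  have hcoc : ∀ g h : MulAction.stabilizer Γ x,
      c (g * h) = E.X₁.ρ (g : Γ) (c h) + c g := by
    intro g h
    apply hinj
    rw [map_add, Rep.hom_comm_apply, hc, hc, hc, map_sub, rho_mul_apply]
    show (E.X₂.ρ ((g : Γ) * (h : Γ))) e - e = _
    abel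
  obtain ⟨l, hl⟩ := H (MulAction.stabilizer Γ x) (fun h => e₁.hom.hom (c h)) (fun g h => by
    rw [hcoc, map_add, Rep.hom_comm_apply])
  set a : E.X₁.V := e₁.inv.hom l with ha
  have hca : ∀ h : MulAction.stabilizer Γ x, c h = E.X₁.ρ (h : Γ) a - a := by
    intro h
    have h1 : c h = e₁.inv.hom (e₁.hom.hom (c h)) := (Rep.inv_hom_apply _ _ e₁ _).symm
    rw [h1, hl h, map_sub, Rep.hom_comm_apply]
  refine ⟨e - E.f.hom a, ?_, ?_⟩
  · rw [map_sub, hzero, sub_zero, he]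
  · intro h hh
    have h2 : E.f.hom (c ⟨h, hh⟩) = E.X₂.ρ h e - e := hc ⟨h, hh⟩
    have h2' : c ⟨h, hh⟩ = E.X₁.ρ h a - a := hca ⟨h, hh⟩
    rw [h2', map_sub, Rep.hom_comm_apply] at h2
    rw [map_sub]
    calc E.X₂.ρ h e - E.X₂.ρ h (E.f.hom a)
        = (E.X₂.ρ h e - e) - (E.X₂.ρ h (E.f.hom a) - E.f.hom a) + (e - E.f.hom a) := by abel
      _ = e - E.f.hom a := by rw [← h2]; abel

/-- an equivariant family of lifts of the basis vectors -/
lemma exists_equivariant_lift :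
    ∃ v : X → E.X₂.V, (∀ x, E.g.hom (v x) = e₃.inv.hom (MonoidAlgebra.single x 1)) ∧
      ∀ (γ : Γ) (x : X), v (γ • x) = E.X₂.ρ γ (v x) := by
  choose w hw1 hw2 using exists_fixed_lift Λ X E hE e₁ e₃ H
  let r : X → X := fun x => Quotient.out (Quotient.mk (MulAction.orbitRel Γ X) x)
  have hr : ∀ x, ∃ γ : Γ, γ • r x = x := by
    intro x
    have h1 : (MulAction.orbitRel Γ X).r (r x) x := Quotient.mk_out (s := MulAction.orbitRel Γ X) x
    have h2 : x ∈ MulAction.orbit Γ (r x) := by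
      have := (MulAction.orbitRel Γ X).symm h1
      exact (MulAction.orbitRel_apply).1 this
    exact h2
  choose γ hγ using hr
  have hrsmul : ∀ (g : Γ) (x : X), r (g • x) = r x := by
    intro g x
    have : Quotient.mk (MulAction.orbitRel Γ X) (g • x) = Quotient.mk (MulAction.orbitRel Γ X) x :=
      Quotient.sound (MulAction.mem_orbit x g)
    show Quotient.out (Quotient.mk (MulAction.orbitRel Γ X) (g • x)) = _
    rw [this]
  refine ⟨fun x => E.X₂.ρ (γ x) (w (r x)), ?_, ?_⟩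
  · intro x
    show E.g.hom (E.X₂.ρ (γ x) (w (r x))) = _
    rw [Rep.hom_comm_apply, hw1, ← Rep.hom_comm_apply]
    congr 1
    show Representation.ofMulAction k Γ X (γ x) (MonoidAlgebra.single (r x) (1 : k)) = _
    rw [Representation.ofMulAction_single, hγ]
  · intro g x
    show E.X₂.ρ (γ (g • x)) (w (r (g • x))) = E.X₂.ρ g (E.X₂.ρ (γ x) (w (r x)))
    rw [hrsmul, rho_mul_apply]
    have hstab : (γ (g • x))⁻¹ * (g * γ x) ∈ MulAction.stabilizer Γ (r x) := by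
      rw [MulAction.mem_stabilizer_iff, mul_smul, mul_smul, hγ, inv_smul_eq_iff]
      have := hγ (g • x)
      rw [hrsmul] at this
      exact this.symm
    have := hw2 (r x) _ hstab
    calc E.X₂.ρ (γ (g • x)) (w (r x))
        = E.X₂.ρ (γ (g • x)) (E.X₂.ρ ((γ (g • x))⁻¹ * (g * γ x)) (w (r x))) := by rw [this]
      _ = E.X₂.ρ (g * γ x) (w (r x)) := by
        rw [rho_mul_apply, mul_inv_cancel_left]

theorem dir1 : Nonempty E.Splitting := by
  obtain ⟨v, hv1, hv2⟩ := exists_equivariant_lift Λ X E hE e₁ e₃ H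
  let T : MonoidAlgebra k X →ₗ[k] E.X₂.V :=
    (Finsupp.linearCombination k v) ∘ₗ (MonoidAlgebra.coeffLinearEquiv k).toLinearMap
  have hT : ∀ (x : X) (n : k), T (MonoidAlgebra.single x n) = n • v x := by
    intro x n
    simp [T]
  let t : Rep.ofMulAction k Γ X ⟶ E.X₂ := Rep.ofHom (σ := E.X₂.ρ)
    ⟨T, fun g => by
      ext x
      simp [hT, hv2]⟩
  have ht : t ≫ E.g = e₃.inv := by
    apply Rep.hom_ext
    apply Representation.IntertwiningMap.ext
    ext x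
    show E.g.hom (T (MonoidAlgebra.single x 1)) = e₃.inv.hom (MonoidAlgebra.single x 1)
    rw [hT, one_smul, hv1]
  exact ⟨ShortComplex.Splitting.ofExactOfSection E hE.exact (e₃.hom ≫ t)
    (by rw [Category.assoc, ht, Iso.hom_inv_id]) hE.mono_f⟩

end Dir1


theorem main
    (Γ : Type) [Group Γ] [Finite Γ] (Λ : Rep ℤ Γ) :
    (∀ Γ' : Subgroup Γ, Limits.IsZero (groupCohomology (Rep.res Γ'.subtype Λ) 1)) ↔
      ∀ (X : Type) [MulAction Γ X] [Finite X] (E : ShortComplex (Rep ℤ Γ)),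
        E.ShortExact → Nonempty (E.X₁ ≅ Λ) → Nonempty (E.X₃ ≅ Rep.ofMulAction ℤ Γ X) →
          Nonempty E.Splitting := by
  constructor
  · intro h X _ _ E hE he₁ he₃
    obtain ⟨e₁⟩ := he₁
    obtain ⟨e₃⟩ := he₃
    exact dir1 Λ X E hE e₁ e₃
      (fun Γ' c hc => (isZero_H1_iff (Rep.res Γ'.subtype Λ)).1 (h Γ') c hc)
  · intro h Γ'
    rw [isZero_H1_iff]
    intro f hf
    exact dir2 Λ Γ' f hf (h (Γ ⧸ Γ') (scF Λ Γ' f hf) (scE_shortExact _ _ _ _ _)
      ⟨Iso.refl _⟩ ⟨Iso.refl _⟩)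



/-- For a finite group Γ and a Γ-lattice Λ (finitely generated free ℤ-module with Γ-action) the
following are equivalent: (i) H¹(Γ', Λ) = 0 for every subgroup Γ' ≤ Γ; (ii) Ext¹ over ℤ[Γ] of P into
Λ vanishes for every permutation lattice P = ℤ[X], X a finite Γ-set. Condition (ii) is stated
through Yoneda extensions: every short exact sequence 0 → Λ' → E → P → 0 of ℤ-linear
Γ-representations with Λ' ≅ Λ and P ≅ ℤ[X] splits. (These are the lattices called coflasque.) The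
group, the lattice and the Γ-sets are taken in the lowest universe. -/
theorem result
    (Γ : Type) [Group Γ] [Finite Γ] (Λ : Rep ℤ Γ) [Module.Free ℤ Λ.V] [Module.Finite ℤ Λ.V] :
    (∀ Γ' : Subgroup Γ, Limits.IsZero (groupCohomology (Rep.res Γ'.subtype Λ) 1)) ↔
      ∀ (X : Type) [MulAction Γ X] [Finite X] (E : ShortComplex (Rep ℤ Γ)),
        E.ShortExact → Nonempty (E.X₁ ≅ Λ) → Nonempty (E.X₃ ≅ Rep.ofMulAction ℤ Γ X) →
          Nonempty E.Splitting := by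
  exact main Γ Λ

end Groth.Agent.S17849
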