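import Groth.Statements.S17859
import Mathlib.LinearAlgebra.Contraction
import Mathlib.LinearAlgebra.StdBasis
import Mathlib.RingTheory.Finiteness.Cardinality

set_option autoImplicit false
open CategoryTheory MonoidalCategory
universe u
open Algz

namespace Groth.Agent.S17859

open TensorProduct Module

section LinAlg

variable {R : Type u} [CommRing R] {M : Type u} [AddCommGroup M] [Module R M]
  {n : ℕ} (e : Fin n → M) (e' : Fin n → Module.Dual R M)

/-- The coevaluation attached to a finite "dual basis". -/
noncomputable def coev : R →ₗ[R] M ⊗[R] Module.Dual R M :=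
  LinearMap.toSpanSingleton R _ (∑ i, e i ⊗ₜ[R] e' i)

theorem coev_apply_one : coev e e' (1 : R) = ∑ i, e i ⊗ₜ[R] e' i := by
  simp [coev]

theorem tri1 (h : ∀ m : M, ∑ i, e' i m • e i = m) :
    (contractLeft R M).rTensor _ ∘ₗ
        (TensorProduct.assoc R _ _ _).symm.toLinearMap ∘ₗ
          (coev e e').lTensor (Module.Dual R M) =
      (TensorProduct.lid R _).symm.toLinearMap ∘ₗ (TensorProduct.rid R _).toLinearMap := by
  apply TensorProduct.ext
  ext φ
  simp only [LinearMap.compr₂ₛₗ_apply, TensorProduct.mk_apply, LinearMap.coe_comp,
    Function.comp_apply, LinearEquiv.coe_toLinearMap, LinearMap.lTensor_tmul, coev_apply_one,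
    TensorProduct.tmul_sum, map_sum, TensorProduct.assoc_symm_tmul, LinearMap.rTensor_tmul,
    contractLeft_apply, TensorProduct.rid_tmul, one_smul, TensorProduct.lid_symm_apply]
  have h1 : ∀ i, (φ (e i)) ⊗ₜ[R] e' i = (1 : R) ⊗ₜ[R] (φ (e i) • e' i) := by
    intro i
    rw [TensorProduct.tmul_smul, TensorProduct.smul_tmul', smul_eq_mul, mul_one]
  rw [Finset.sum_congr rfl fun i _ => h1 i, ← TensorProduct.tmul_sum]
  congr 1
  ext m
  simp only [LinearMap.coe_sum, Finset.sum_apply, LinearMap.smul_apply, smul_eq_mul]
  conv_rhs => rw [← h m, map_sum]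
  refine Finset.sum_congr rfl fun i _ => ?_
  rw [map_smul, smul_eq_mul, mul_comm]

theorem tri2 (h : ∀ m : M, ∑ i, e' i m • e i = m) :
    (contractLeft R M).lTensor _ ∘ₗ
        (TensorProduct.assoc R _ _ _).toLinearMap ∘ₗ (coev e e').rTensor M =
      (TensorProduct.rid R _).symm.toLinearMap ∘ₗ (TensorProduct.lid R _).toLinearMap := by
  apply TensorProduct.ext
  apply LinearMap.ext_ring
  ext m
  simp only [LinearMap.compr₂ₛₗ_apply, TensorProduct.mk_apply, LinearMap.coe_comp,
    Function.comp_apply, LinearEquiv.coe_toLinearMap, LinearMap.rTensor_tmul, coev_apply_one,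
    TensorProduct.sum_tmul, map_sum, TensorProduct.assoc_tmul, LinearMap.lTensor_tmul,
    contractLeft_apply, TensorProduct.lid_tmul, one_smul, TensorProduct.rid_symm_apply]
  have h1 : ∀ i, e i ⊗ₜ[R] (e' i m) = (e' i m • e i) ⊗ₜ[R] (1 : R) := by
    intro i
    rw [TensorProduct.smul_tmul, smul_eq_mul, mul_one]
  rw [Finset.sum_congr rfl fun i _ => h1 i, ← TensorProduct.sum_tmul, h m]

end LinAlg

theorem exists_dual_basis (R : Type u) [CommRing R] (M : Type u) [AddCommGroup M] [Module R M]
    [Module.Finite R M] [Module.Projective R M] :
    ∃ (n : ℕ) (e : Fin n → M) (e' : Fin n → Module.Dual R M), ∀ m : M, ∑ i, e' i m • e i = m := by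
  obtain ⟨n, π, hπ⟩ := Module.Finite.exists_fin' R M
  obtain ⟨s, hs⟩ := Module.projective_lifting_property π LinearMap.id hπ
  refine ⟨n, fun i => π (Pi.single i 1), fun i => LinearMap.proj i ∘ₗ s, fun m => ?_⟩
  have h1 : π (s m) = m := LinearMap.congr_fun hs m
  conv_rhs => rw [← h1, LinearMap.pi_apply_eq_sum_univ π (s m)]
  refine Finset.sum_congr rfl fun i _ => ?_
  simp only [LinearMap.coe_comp, LinearMap.coe_proj, Function.comp_apply, Function.eval]
  congr 2
  ext j
  simp [Pi.single_apply, eq_comm]

/-- Over an affine scheme, that is for modules over a commutative ring `R`, a finitely generated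
projective `R`-module `M`, viewed as an object of the monoidal category of `R`-modules (tensor
product over `R`), has a right dual. (The published statement is the equivalence, for quasi-coherent
sheaves on a quasi-compact quasi-separated scheme, between being dualizable and being a vector
bundle; stated here is the affine case of the implication from vector bundle to dualizable. The
converse implication, that a module admitting a dual is finitely generated projective, is stated
separately and is not repeated here.) -/
theorem result (R : Type u) [CommRing R] (M : ModuleCat.{u} R)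
    [Module.Finite R M] [Module.Projective R M] : Nonempty (HasRightDual M) := by
  obtain ⟨n, e, e', h⟩ := exists_dual_basis R M
  let D : ModuleCat.{u} R := ModuleCat.of R (Module.Dual R M)
  let ep : ExactPairing M D :=
    { coevaluation' := ModuleCat.ofHom (coev e e')
      evaluation' := ModuleCat.ofHom (contractLeft R M)
      coevaluation_evaluation' := by
        ext : 1
        exact tri1 e e' h
      evaluation_coevaluation' := by
        ext : 1
        exact tri2 e e' h }
  exact ⟨⟨D⟩⟩

end Groth.Agent.S17859
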