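import Groth.Statements.S17863
import Mathlib

set_option autoImplicit false
open CategoryTheory AlgebraicGeometry
universe u
open Algz

namespace Groth.Agent.S17863


/-- An open subset of `Spec A` containing `V(I)` is everything when `I ≤ jacobson ⊥`. -/
theorem opens_eq_top_of_zeroLocus_subset {A : Type u} [CommRing A] (I : Ideal A)
    (hI : I ≤ Ideal.jacobson ⊥) (U : Set (PrimeSpectrum A)) (hU : IsOpen U)
    (h : PrimeSpectrum.zeroLocus (I : Set A) ⊆ U) : U = Set.univ := by
  obtain ⟨J, hJ⟩ := (PrimeSpectrum.isClosed_iff_zeroLocus_ideal Uᶜ).mp hU.isClosed_compl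
  have h1 : PrimeSpectrum.zeroLocus ((I ⊔ J : Ideal A) : Set A) = ∅ := by
    rw [PrimeSpectrum.zeroLocus_sup, ← hJ]
    ext p
    simp only [Set.mem_inter_iff, Set.mem_compl_iff, Set.mem_empty_iff_false, iff_false, not_and,
      not_not]
    exact fun hp => h hp
  rw [PrimeSpectrum.zeroLocus_empty_iff_eq_top] at h1
  have h2 : J = ⊤ := by
    have := (Ideal.eq_top_iff_one _).mp h1
    obtain ⟨i, hi, j, hj, hij⟩ := Submodule.mem_sup.mp this
    have hu : IsUnit j := by
      have : j = 1 - i := by rw [← hij]; ring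
      rw [this]
      have hi' := hI hi
      rw [Ideal.mem_jacobson_bot] at hi'
      have := hi' (-1)
      simpa [sub_eq_add_neg, add_comm] using this
    exact Ideal.eq_top_of_isUnit_mem _ hj hu
  rw [h2] at hJ
  simpa using hJ

theorem result' (A : Type u) [CommRing A] (I : Ideal A) [IsAdicComplete I A]
    (X : Scheme.{u}) [X.IsQuasiAffine] :
    (∀ f g : Spec (CommRingCat.of A) ⟶ X,
      (∀ n : ℕ, Spec.map (CommRingCat.ofHom (Ideal.Quotient.mk (I ^ n))) ≫ f =
        Spec.map (CommRingCat.ofHom (Ideal.Quotient.mk (I ^ n))) ≫ g) → f = g) ∧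
    (∀ e : ∀ n : ℕ, Spec (CommRingCat.of (A ⧸ I ^ n)) ⟶ X,
      (∀ n : ℕ, Spec.map (CommRingCat.ofHom (Ideal.Quotient.factorPowSucc I n)) ≫ e (n + 1) = e n) →
      ∃ f : Spec (CommRingCat.of A) ⟶ X,
        ∀ n : ℕ, Spec.map (CommRingCat.ofHom (Ideal.Quotient.mk (I ^ n))) ≫ f = e n) := by
  refine ⟨?_, ?_⟩
  · intro f g h
    rw [← cancel_mono X.toSpecΓ]
    obtain ⟨φ, hφ⟩ := Spec.map_surjective (f ≫ X.toSpecΓ)
    obtain ⟨γ, hγ⟩ := Spec.map_surjective (g ≫ X.toSpecΓ)
    rw [← hφ, ← hγ]
    have key : ∀ n, (Ideal.Quotient.mk (I ^ n)).comp φ.hom = (Ideal.Quotient.mk (I ^ n)).comp γ.hom := by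
      intro n
      have h2 : Spec.map (φ ≫ CommRingCat.ofHom (Ideal.Quotient.mk (I ^ n))) =
          Spec.map (γ ≫ CommRingCat.ofHom (Ideal.Quotient.mk (I ^ n))) := by
        rw [Spec.map_comp, Spec.map_comp, hφ, hγ, ← Category.assoc, ← Category.assoc, h n]
      have h3 := Spec.map_injective h2
      exact congr(($h3).hom)
    have e1 := IsAdicComplete.eq_liftRingHom I (fun n => (Ideal.Quotient.mk (I ^ n)).comp γ.hom)
      (by intro m n hle; ext x; simp) φ.hom key
    have e2 := IsAdicComplete.eq_liftRingHom I (fun n => (Ideal.Quotient.mk (I ^ n)).comp γ.hom)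
      (by intro m n hle; ext x; simp) γ.hom (fun _ => rfl)
    congr 1
    ext x
    exact congr($(e1.trans e2.symm) x)
  · intro e he
    choose ψ hψ using fun n => Spec.map_surjective (e n ≫ X.toSpecΓ)
    have hcompat : ∀ n, (Ideal.Quotient.factorPowSucc I n).comp (ψ (n + 1)).hom = (ψ n).hom := by
      intro n
      have h2 : Spec.map (ψ (n + 1) ≫ CommRingCat.ofHom (Ideal.Quotient.factorPowSucc I n)) =
          Spec.map (ψ n) := by
        rw [Spec.map_comp, hψ, hψ, ← Category.assoc, he n]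
      have h3 := Spec.map_injective h2
      exact congr(($h3).hom)
    let Ψ : Γ(X, ⊤) →+* A := IsAdicComplete.StrictMono.liftRingHom I strictMono_id
      (fun n => (ψ n).hom) (by intro m; exact hcompat m)
    have hΨ : ∀ n, (Ideal.Quotient.mk (I ^ n)).comp Ψ = (ψ n).hom := fun n =>
      IsAdicComplete.StrictMono.mk_comp_liftRingHom I strictMono_id (fun n => (ψ n).hom)
        (by intro m; exact hcompat m)
    let h : Spec (.of A) ⟶ Spec Γ(X, ⊤) := Spec.map (CommRingCat.ofHom Ψ)
    have hfac : ∀ n, Spec.map (CommRingCat.ofHom (Ideal.Quotient.mk (I ^ n))) ≫ h =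
        e n ≫ X.toSpecΓ := by
      intro n
      rw [← hψ, ← Spec.map_comp]
      congr 1
      ext x
      exact congr($(hΨ n) x)
    have hrange : Set.range h ⊆ Set.range X.toSpecΓ := by
      have hopen : IsOpen (h ⁻¹' Set.range X.toSpecΓ) :=
        (X.toSpecΓ.isOpenEmbedding.isOpen_range).preimage h.continuous
      have hV : PrimeSpectrum.zeroLocus (I : Set A) ⊆ h ⁻¹' Set.range X.toSpecΓ := by
        intro p hp
        have hr : Set.range (PrimeSpectrum.comap (Ideal.Quotient.mk (I ^ 1))) =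
            PrimeSpectrum.zeroLocus (I : Set A) := by
          rw [range_comap_of_surjective _ _ Ideal.Quotient.mk_surjective, Ideal.mk_ker, pow_one]
        rw [← hr] at hp
        obtain ⟨q, rfl⟩ := hp
        change h ((Spec.map (CommRingCat.ofHom (Ideal.Quotient.mk (I ^ 1)))) q) ∈
          Set.range X.toSpecΓ
        rw [← Scheme.Hom.comp_apply, hfac 1, Scheme.Hom.comp_apply]
        exact ⟨_, rfl⟩
      have := opens_eq_top_of_zeroLocus_subset I (IsAdicComplete.le_jacobson_bot I) _ hopen hV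
      rintro _ ⟨p, rfl⟩
      have hp : p ∈ h ⁻¹' Set.range X.toSpecΓ := by rw [this]; trivial
      exact hp
    refine ⟨IsOpenImmersion.lift X.toSpecΓ h hrange, fun n => ?_⟩
    rw [← cancel_mono X.toSpecΓ, Category.assoc, IsOpenImmersion.lift_fac, hfac]



/-- Let `A` be a commutative ring which is `I`-adically complete for an ideal `I` and let `X` be a
quasi-affine scheme. Then the natural map from `X(A)` to compatible systems in the `X(A/I^n)` is
bijective: two morphisms `Spec A ⟶ X` with the same restriction to every `Spec (A/I^n)` are equal,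
and every family of morphisms `Spec (A/I^n) ⟶ X` compatible with the transition maps `Spec (A/I^n) ⟶
Spec (A/I^(n+1))` is the family of restrictions of a morphism `Spec A ⟶ X`. -/
theorem result (A : Type u) [CommRing A] (I : Ideal A) [IsAdicComplete I A]
    (X : Scheme.{u}) [X.IsQuasiAffine] :
    (∀ f g : Spec (CommRingCat.of A) ⟶ X,
      (∀ n : ℕ, Spec.map (CommRingCat.ofHom (Ideal.Quotient.mk (I ^ n))) ≫ f =
        Spec.map (CommRingCat.ofHom (Ideal.Quotient.mk (I ^ n))) ≫ g) → f = g) ∧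
    (∀ e : ∀ n : ℕ, Spec (CommRingCat.of (A ⧸ I ^ n)) ⟶ X,
      (∀ n : ℕ, Spec.map (CommRingCat.ofHom (Ideal.Quotient.factorPowSucc I n)) ≫ e (n + 1) = e n) →
      ∃ f : Spec (CommRingCat.of A) ⟶ X,
        ∀ n : ℕ, Spec.map (CommRingCat.ofHom (Ideal.Quotient.mk (I ^ n))) ≫ f = e n) := by
  exact Groth.Agent.S17863.result' A I X

end Groth.Agent.S17863
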