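import Groth.Statements.S17864
import Mathlib.RingTheory.Finiteness.Cardinality
import Mathlib.Algebra.BigOperators.Pi

set_option autoImplicit false
universe u
open Algz

namespace Groth.Agent.S17864

theorem map_mem_pow_smul_top {A : Type*} [CommRing A] (I : Ideal A) {M N : Type*}
    [AddCommGroup M] [Module A M] [AddCommGroup N] [Module A N] (f : M →ₗ[A] N) (n : ℕ) {x : M}
    (hx : x ∈ (I ^ n • ⊤ : Submodule A M)) : f x ∈ (I ^ n • ⊤ : Submodule A N) := by
  refine Submodule.smul_induction_on hx (fun r hr m _ => ?_) (fun x y hx hy => ?_)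
  · rw [map_smul]; exact Submodule.smul_mem_smul hr Submodule.mem_top
  · rw [map_add]; exact add_mem hx hy

theorem isAdicComplete_of_finite_projective (A : Type u) [CommRing A] (I : Ideal A)
    [IsAdicComplete I A] (Q : Type u) [AddCommGroup Q] [Module A Q] [Module.Finite A Q]
    [Module.Projective A Q] : IsAdicComplete I Q := by
  classical
  obtain ⟨N, π, hπ⟩ := Module.Finite.exists_fin' A Q
  obtain ⟨s, hs⟩ := Module.projective_lifting_property π LinearMap.id hπ
  have hπs : ∀ q, π (s q) = q := fun q => LinearMap.congr_fun hs q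
  have hA : IsHausdorff I A := inferInstance
  have hA' : IsPrecomplete I A := inferInstance
  refine { haus' := ?_, prec' := ?_ }
  · intro q hq
    have : s q = 0 := by
      funext j
      apply hA.haus'
      intro n
      have h1 : q ∈ (I ^ n • ⊤ : Submodule A Q) := SModEq.zero.1 (hq n)
      have := map_mem_pow_smul_top I (LinearMap.proj j ∘ₗ s) n h1
      rw [SModEq.zero]; exact this
    rw [← hπs q, this, map_zero]
  · intro f hf
    have : ∀ j, ∃ L : A, ∀ n, s (f n) j ≡ L [SMOD (I ^ n • ⊤ : Submodule A A)] := by
      intro j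
      apply hA'.prec'
      intro m n hmn
      have h1 := hf hmn
      rw [SModEq.sub_mem] at h1 ⊢
      have := map_mem_pow_smul_top I (LinearMap.proj j ∘ₗ s) m h1
      simpa using this
    choose L hL using this
    refine ⟨π L, fun n => ?_⟩
    rw [SModEq.sub_mem]
    have h2 : s (f n) - L ∈ (I ^ n • ⊤ : Submodule A (Fin N → A)) := by
      rw [pi_eq_sum_univ' (s (f n) - L)]
      refine Submodule.sum_mem _ fun j _ => Submodule.smul_mem_smul ?_ Submodule.mem_top
      have := (SModEq.sub_mem.1 (hL j n))
      simpa using this
    have := map_mem_pow_smul_top I π n h2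
    rwa [map_sub, hπs] at this

/-- The full-faithfulness assertion. Let `A` be a commutative ring which is `I`-adically complete for an
ideal `I`, and `P`, `Q` finitely generated projective `A`-modules. An `A`-linear map `P → Q` is
determined by its reductions modulo the powers `I^n`, and every family of `A`-linear maps `P/I^n P →
Q/I^n Q` compatible with the transition maps is the family of reductions of an `A`-linear map `P →
Q`. (The companion assertion, that compatible systems of finite projective modules over the rings
`A/I^n` lift to `A`, is not restated here.) -/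
theorem result (A : Type u) [CommRing A] (I : Ideal A)
    [IsAdicComplete I A] (P Q : Type u) [AddCommGroup P] [Module A P] [Module.Finite A P]
    [Module.Projective A P] [AddCommGroup Q] [Module A Q] [Module.Finite A Q] [Module.Projective A Q] :
    (∀ f f' : P →ₗ[A] Q, (∀ n : ℕ, f.reduceModIdeal (I ^ n) = f'.reduceModIdeal (I ^ n)) → f = f') ∧
    (∀ g : ∀ n : ℕ, P ⧸ (I ^ n • ⊤ : Submodule A P) →ₗ[A] Q ⧸ (I ^ n • ⊤ : Submodule A Q),
      (∀ n : ℕ, AdicCompletion.transitionMap I Q (Nat.le_succ n) ∘ₗ g (n + 1) =
        g n ∘ₗ AdicCompletion.transitionMap I P (Nat.le_succ n)) →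
      ∃ f : P →ₗ[A] Q, ∀ n : ℕ, f.reduceModIdeal (I ^ n) = g n) := by
  have : IsAdicComplete I Q := isAdicComplete_of_finite_projective A I Q
  refine ⟨?_, ?_⟩
  · intro f f' h
    ext p
    rw [← sub_eq_zero]
    apply IsHausdorff.haus' (I := I)
    intro n
    rw [SModEq.zero, ← (Submodule.Quotient.eq _)]
    have := LinearMap.congr_fun (h n) (Submodule.Quotient.mk p)
    simpa using this
  · intro g hg
    let F : ∀ n : ℕ, P →ₗ[A] Q ⧸ (I ^ n • ⊤ : Submodule A Q) :=
      fun n => g n ∘ₗ Submodule.mkQ (I ^ n • ⊤ : Submodule A P)
    have hF : ∀ {m : ℕ}, Submodule.factorPow I Q (strictMono_id.monotone m.le_succ) ∘ₗ F (m + 1)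
        = F m := by
      intro m
      ext p
      have := LinearMap.congr_fun (hg m) (Submodule.Quotient.mk p)
      simpa [F] using this
    refine ⟨IsAdicComplete.StrictMono.lift I strictMono_id F hF, fun n => ?_⟩
    ext p
    have h1 := IsAdicComplete.StrictMono.mk_lift I strictMono_id F hF (n := n) p
    simp only [LinearMap.coe_comp, Function.comp_apply, Submodule.mkQ_apply]
    exact h1

end Groth.Agent.S17864
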