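import Groth.Statements.S17866
import Mathlib
-- import your own Groth.Agent.* helpers here

set_option autoImplicit false
open CategoryTheory AlgebraicGeometry
universe u
open Algz

namespace Groth.Agent.S17866

section helpers
open Set Topology

section top
variable {X T : Type*} [TopologicalSpace X] [TopologicalSpace T]

theorem isCompact_of_isConstructible [CompactSpace X] {s : Set X} (hs : IsConstructible s) :
    IsCompact s := by
  induction s, hs using BooleanSubalgebra.closure_sdiff_sup_induction with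
  | isSublattice =>
    exact ⟨fun s hs t ht ↦ ⟨hs.1.union ht.1, hs.2.union ht.2⟩,
      fun s hs t ht ↦ ⟨hs.1.inter ht.1, hs.2.inter_isOpen ht.2 ht.1⟩⟩
  | bot_mem => exact ⟨isOpen_empty, .empty⟩
  | top_mem => exact ⟨isOpen_univ, .univ⟩
  | sdiff U hU V hV => exact hU.2.isCompact.diff hV.1
  | sup s _ t _ hs' ht' => exact hs'.union ht'

theorem isRetrocompact_compl_of_isClosed_isConstructible [CompactSpace X] [QuasiSeparatedSpace X]
    {Z : Set X} (hZ : IsClosed Z) (hZc : IsConstructible Z) : IsRetrocompact Zᶜ :=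
  (isCompact_of_isConstructible hZc.compl).isRetrocompact hZ.isOpen_compl

/-- image of a constructible set under an embedding whose range is a difference of closed
constructible sets -/
theorem isConstructible_image_of_range_eq_diff [CompactSpace X] [QuasiSeparatedSpace X]
    {g : T → X} (hg : IsEmbedding g) {Z Z' : Set X} (hZ : IsClosed Z) (hZc : IsConstructible Z)
    (hZ' : IsClosed Z') (hZ'c : IsConstructible Z') (hr : range g = Z' \ Z) {C : Set T}
    (hC : IsConstructible C) : IsConstructible (g '' C) := by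
  have hmem : ∀ t, g t ∈ Zᶜ := fun t => by
    have : g t ∈ Z' \ Z := hr ▸ mem_range_self t
    exact this.2
  let g' : T → (Zᶜ : Set X) := Set.codRestrict g Zᶜ hmem
  have hg' : IsEmbedding g' := hg.codRestrict _ hmem
  have hrange : range g' = Subtype.val ⁻¹' Z' := by
    ext ⟨x, hx⟩
    simp only [mem_range, mem_preimage, g']
    constructor
    · rintro ⟨t, ht⟩
      have : g t = x := congrArg Subtype.val ht
      have h2 : g t ∈ Z' \ Z := hr ▸ mem_range_self t
      exact this ▸ h2.1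
    · intro hx'
      have : x ∈ range g := by rw [hr]; exact ⟨hx', hx⟩
      obtain ⟨t, ht⟩ := this
      exact ⟨t, Subtype.ext ht⟩
  have hcl : IsClosedEmbedding g' :=
    ⟨hg', by rw [hrange]; exact hZ'.preimage continuous_subtype_val⟩
  have hopen : IsOpenEmbedding (Subtype.val : (Zᶜ : Set X) → X) :=
    hZ.isOpen_compl.isOpenEmbedding_subtypeVal
  have h1 : IsConstructible (g' '' C) := by
    refine hC.image_of_isClosedEmbedding hcl ?_
    rw [hrange, ← preimage_compl]
    exact (isRetrocompact_compl_of_isClosed_isConstructible hZ' hZ'c).preimage_of_isOpenEmbedding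
      hopen
  have h2 : IsConstructible (Subtype.val '' (g' '' C)) := by
    refine h1.image_of_isOpenEmbedding hopen ?_
    rw [Subtype.range_coe]
    exact isRetrocompact_compl_of_isClosed_isConstructible hZ hZc
  rw [← image_comp] at h2
  exact h2

/-- closedness of `Z ∪ g '' F` -/
theorem isClosed_union_image_of_range_eq_diff
    {g : T → X} (hg : IsInducing g) {Z Z' : Set X} (hZ : IsClosed Z)
    (hZ' : IsClosed Z') (hr : range g = Z' \ Z) {F : Set T}
    (hF : IsClosed F) : IsClosed (Z ∪ g '' F) := by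
  obtain ⟨F', hF', rfl⟩ := hg.isClosed_iff.1 hF
  have : Z ∪ g '' (g ⁻¹' F') = Z ∪ (F' ∩ Z') := by
    rw [image_preimage_eq_inter_range, hr]
    ext x
    simp only [mem_union, mem_inter_iff, mem_sdiff]
    tauto
  rw [this]
  exact hZ.union (hF'.inter hZ')

end top


theorem concat_chain {Y : Type*} (m₁ m₂ : ℕ) (hm₁ : 0 < m₁) (hm₂ : 0 < m₂)
    (Z₂ : Fin (m₂ + 1) → Set Y) (h0 : Z₂ 0 = ∅) (hlast : Z₂ (Fin.last m₂) = univ)
    (B : Fin m₂ → Fin (m₁ + 1) → Set Y)
    (hB0 : ∀ k, B k 0 = Z₂ k.castSucc) (hBlast : ∀ k, B k (Fin.last m₁) = Z₂ k.succ) :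
    ∃ Z : Fin (m₁ * m₂ + 1) → Set Y, Z 0 = ∅ ∧ Z (Fin.last _) = univ ∧
      (∀ n, Z n = univ ∨ ∃ k j, Z n = B k j) ∧
      ∀ n : Fin (m₁ * m₂), ∃ k : Fin m₂, ∃ j : Fin m₁,
        Z n.castSucc = B k j.castSucc ∧ Z n.succ = B k j.succ := by
  classical
  have hj : ∀ n : ℕ, n % m₁ < m₁ + 1 := fun n => Nat.lt_succ_of_lt (Nat.mod_lt _ hm₁)
  let Z : Fin (m₁ * m₂ + 1) → Set Y := fun n =>
    if h : n.val / m₁ < m₂ then B ⟨n.val / m₁, h⟩ ⟨n.val % m₁, hj _⟩ else univ
  refine ⟨Z, ?_, ?_, ?_, ?_⟩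
  · have h : (0 : Fin (m₁ * m₂ + 1)).val / m₁ < m₂ := by simpa using hm₂
    change (if h : (0 : Fin (m₁ * m₂ + 1)).val / m₁ < m₂ then
      B ⟨(0 : Fin (m₁ * m₂ + 1)).val / m₁, h⟩ ⟨(0 : Fin (m₁ * m₂ + 1)).val % m₁, hj _⟩ else univ) = ∅
    rw [dif_pos h]
    have e1 : (⟨(0 : Fin (m₁ * m₂ + 1)).val / m₁, h⟩ : Fin m₂) = ⟨0, hm₂⟩ := by
      apply Fin.ext; simp
    have e2 : (⟨(0 : Fin (m₁ * m₂ + 1)).val % m₁, hj _⟩ : Fin (m₁ + 1)) = 0 := by
      apply Fin.ext; simp
    rw [e1, e2, hB0]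
    exact h0
  · have h : ¬ (Fin.last (m₁ * m₂)).val / m₁ < m₂ := by
      rw [Fin.val_last, Nat.mul_div_cancel_left _ hm₁]; exact lt_irrefl _
    change (if h : (Fin.last (m₁ * m₂)).val / m₁ < m₂ then _ else univ) = univ
    rw [dif_neg h]
  · intro n
    by_cases h : n.val / m₁ < m₂
    · right
      exact ⟨⟨n.val / m₁, h⟩, ⟨n.val % m₁, hj _⟩, dif_pos h⟩
    · left
      exact dif_neg h
  · intro n
    have hk : n.val / m₁ < m₂ := Nat.div_lt_of_lt_mul n.2
    have hjm : n.val % m₁ < m₁ := Nat.mod_lt _ hm₁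
    refine ⟨⟨n.val / m₁, hk⟩, ⟨n.val % m₁, hjm⟩, ?_, ?_⟩
    · change (if h : n.castSucc.val / m₁ < m₂ then
        B ⟨n.castSucc.val / m₁, h⟩ ⟨n.castSucc.val % m₁, hj _⟩ else univ) = _
      rw [dif_pos (by simpa using hk)]
      rfl
    · change (if h : n.succ.val / m₁ < m₂ then
        B ⟨n.succ.val / m₁, h⟩ ⟨n.succ.val % m₁, hj _⟩ else univ) = _
      have hn : n.succ.val = m₁ * (n.val / m₁) + (n.val % m₁ + 1) := by
        rw [Fin.val_succ, ← add_assoc, Nat.div_add_mod]
      by_cases hlt : n.val % m₁ + 1 < m₁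
      · have hd : n.succ.val / m₁ = n.val / m₁ := by
          rw [hn, Nat.mul_add_div hm₁, Nat.div_eq_of_lt hlt, add_zero]
        have hmd : n.succ.val % m₁ = n.val % m₁ + 1 := by
          rw [hn, Nat.mul_add_mod, Nat.mod_eq_of_lt hlt]
        rw [dif_pos (by rw [hd]; exact hk)]
        congr 1
        · apply Fin.ext; exact hd
        · apply Fin.ext; exact hmd
      · have heq : n.val % m₁ + 1 = m₁ := le_antisymm hjm (not_lt.1 hlt)
        have hn' : n.succ.val = m₁ * (n.val / m₁ + 1) := by rw [hn, heq, mul_add, mul_one]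
        have hd : n.succ.val / m₁ = n.val / m₁ + 1 := by
          rw [hn', Nat.mul_div_cancel_left _ hm₁]
        have hmd : n.succ.val % m₁ = 0 := by
          rw [hn', Nat.mul_mod_right]
        have hsucc : (⟨n.val % m₁, hjm⟩ : Fin m₁).succ = Fin.last m₁ := by
          apply Fin.ext; simpa using heq
        rw [hsucc, hBlast]
        by_cases hk' : n.val / m₁ + 1 < m₂
        · rw [dif_pos (by rw [hd]; exact hk')]
          have e1 : (⟨n.succ.val / m₁, by rw [hd]; exact hk'⟩ : Fin m₂) = ⟨n.val / m₁ + 1, hk'⟩ := by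
            apply Fin.ext; exact hd
          have e2 : (⟨n.succ.val % m₁, hj _⟩ : Fin (m₁ + 1)) = 0 := by
            apply Fin.ext; simpa using hmd
          rw [e1, e2, hB0]
          rfl
        · rw [dif_neg (by rw [hd]; exact hk')]
          have : (⟨n.val / m₁, hk⟩ : Fin m₂).succ = Fin.last m₂ := by
            apply Fin.ext
            simp only [Fin.succ_mk, Fin.val_last]
            omega
          rw [this, hlast]

theorem chain_cover {Y : Type*} {m : ℕ} (Z : Fin (m + 1) → Set Y) (h0 : Z 0 = ∅)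
    (hl : Z (Fin.last m) = univ) (y : Y) : ∃ k : Fin m, y ∈ Z k.succ \ Z k.castSucc := by
  by_contra h
  push Not at h
  have : ∀ k : Fin (m + 1), y ∉ Z k := by
    intro k
    induction k using Fin.induction with
    | zero => rw [h0]; exact Set.notMem_empty y
    | succ k ih => intro hy; exact h k ⟨hy, ih⟩
  exact this (Fin.last m) (hl ▸ mem_univ y)

end helpers

/-- In the case of schemes. Let `g₁ : Y₁ ⟶ Y₂` and `g₂ : Y₂ ⟶ Y₃` be Nisnevich covers of quasi-compact
quasi-separated schemes of lengths at most `m₁` and `m₂` respectively. Then `g₁ ≫ g₂` is a Nisnevich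
cover of length at most `m₁ * m₂`. (The original form is for quasi-compact quasi-separated algebraic
spaces; stated here for schemes.) -/
theorem result {Y₁ Y₂ Y₃ : Scheme.{u}} (g₁ : Y₁ ⟶ Y₂) (g₂ : Y₂ ⟶ Y₃)
    [CompactSpace Y₁] [QuasiSeparatedSpace Y₁] [CompactSpace Y₂] [QuasiSeparatedSpace Y₂]
    [CompactSpace Y₃] [QuasiSeparatedSpace Y₃] (m₁ m₂ : ℕ)
    (h₁ : W4c5algebraiztannaka.IsNisCoverLen g₁ m₁) (h₂ : W4c5algebraiztannaka.IsNisCoverLen g₂ m₂) :
    W4c5algebraiztannaka.IsNisCoverLen (g₁ ≫ g₂) (m₁ * m₂) := by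
  obtain ⟨het₁, Z₁, hZ₁0, hZ₁l, hZ₁m, hZ₁c, hs₁⟩ := h₁
  obtain ⟨het₂, Z₂, hZ₂0, hZ₂l, hZ₂m, hZ₂c, hs₂⟩ := h₂
  have het : Etale (g₁ ≫ g₂) := inferInstance
  choose T i σ hi hr hσ using hs₂
  by_cases hpos : 0 < m₁ ∧ 0 < m₂
  swap
  · have hempty : IsEmpty Y₃ := by
      constructor
      intro y
      obtain ⟨k, hk⟩ := chain_cover Z₂ hZ₂0 hZ₂l y
      rw [← hr k] at hk
      obtain ⟨t, -⟩ := hk
      obtain ⟨j, hj⟩ := chain_cover Z₁ hZ₁0 hZ₁l (σ k t)
      apply hpos
      exact ⟨Nat.pos_of_ne_zero (fun h => by subst h; exact j.elim0),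
        Nat.pos_of_ne_zero (fun h => by subst h; exact k.elim0)⟩
    refine ⟨het, fun _ => ∅, rfl, ?_, fun _ _ _ => le_rfl, fun _ => ⟨isClosed_empty, .empty⟩, ?_⟩
    · exact (Set.univ_eq_empty_iff.2 hempty).symm
    · intro k
      exfalso
      have hk := k.2
      have : m₁ * m₂ = 0 := by
        by_contra h
        exact hpos ⟨Nat.pos_of_ne_zero (fun h' => h (by rw [h', zero_mul])),
          Nat.pos_of_ne_zero (fun h' => h (by rw [h', mul_zero]))⟩
      omega
  obtain ⟨hm₁, hm₂⟩ := hpos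
  let B : Fin m₂ → Fin (m₁ + 1) → Set Y₃ := fun k j =>
    Z₂ k.castSucc ∪ (i k) '' ((σ k) ⁻¹' Z₁ j)
  have hrange : ∀ k, Set.range (i k) = Z₂ k.succ \ Z₂ k.castSucc := fun k => hr k
  have hB0 : ∀ k, B k 0 = Z₂ k.castSucc := by
    intro k
    change Z₂ k.castSucc ∪ (i k) '' ((σ k) ⁻¹' Z₁ 0) = _
    rw [hZ₁0, Set.preimage_empty, Set.image_empty, Set.union_empty]
  have hBl : ∀ k, B k (Fin.last m₁) = Z₂ k.succ := by
    intro k
    change Z₂ k.castSucc ∪ (i k) '' ((σ k) ⁻¹' Z₁ (Fin.last m₁)) = _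
    rw [hZ₁l, Set.preimage_univ, Set.image_univ, hrange k]
    exact Set.union_sdiff_cancel (hZ₂m (Fin.castSucc_le_succ k))
  have hBc : ∀ k j, IsClosed (B k j) ∧ Topology.IsConstructible (B k j) := by
    intro k j
    have := hi k
    constructor
    · exact isClosed_union_image_of_range_eq_diff (i k).isEmbedding.isInducing
        (hZ₂c k.castSucc).1 (hZ₂c k.succ).1 (hrange k)
        ((hZ₁c j).1.preimage (σ k).continuous)
    · exact (hZ₂c k.castSucc).2.union
        (isConstructible_image_of_range_eq_diff (i k).isEmbedding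
          (hZ₂c k.castSucc).1 (hZ₂c k.castSucc).2 (hZ₂c k.succ).1 (hZ₂c k.succ).2 (hrange k)
          ((σ k).isConstructible_preimage (hZ₁c j).2))
  obtain ⟨Z, hZ0, hZl, hZB, hZs⟩ := concat_chain m₁ m₂ hm₁ hm₂ Z₂ hZ₂0 hZ₂l B hB0 hBl
  refine ⟨het, Z, hZ0, hZl, ?_, ?_, ?_⟩
  · rw [Fin.monotone_iff_le_succ]
    intro n
    obtain ⟨k, j, h1, h2⟩ := hZs n
    rw [h1, h2]
    exact Set.union_subset_union_right _
      (Set.image_mono (Set.preimage_mono (hZ₁m (Fin.castSucc_le_succ j))))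
  · intro n
    rcases hZB n with h | ⟨k, j, h⟩
    · rw [h]; exact ⟨isClosed_univ, .univ⟩
    · rw [h]; exact hBc k j
  · intro n
    obtain ⟨k, j, h1, h2⟩ := hZs n
    rw [h1, h2]
    have := hi k
    have hinj : Function.Injective (i k) := (i k).isEmbedding.injective
    have hdiff : B k j.succ \ B k j.castSucc =
        (i k) '' ((σ k) ⁻¹' (Z₁ j.succ \ Z₁ j.castSucc)) := by
      change (Z₂ k.castSucc ∪ (i k) '' ((σ k) ⁻¹' Z₁ j.succ)) \
        (Z₂ k.castSucc ∪ (i k) '' ((σ k) ⁻¹' Z₁ j.castSucc)) = _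
      rw [Set.preimage_sdiff, Set.image_sdiff hinj]
      ext y
      simp only [Set.mem_sdiff, Set.mem_union]
      constructor
      · rintro ⟨h | h, h'⟩
        · exact absurd (Or.inl h) h'
        · exact ⟨h, fun h'' => h' (Or.inr h'')⟩
      · rintro ⟨h, h'⟩
        refine ⟨Or.inr h, ?_⟩
        rintro (h'' | h'')
        · obtain ⟨t, -, rfl⟩ := h
          have : (i k) t ∈ Z₂ k.succ \ Z₂ k.castSucc := by
            rw [← hrange k]; exact Set.mem_range_self t
          exact this.2 h''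
        · exact h' h''
    rw [hdiff]
    obtain ⟨T₁, i₁, σ₁, hi₁, hr₁, hσ₁⟩ := hs₁ j
    have := hi₁
    refine ⟨Limits.pullback i₁ (σ k), Limits.pullback.snd i₁ (σ k) ≫ i k,
      Limits.pullback.fst i₁ (σ k) ≫ σ₁, inferInstance, ?_, ?_⟩
    · have hr₁' : Set.range i₁ = Z₁ j.succ \ Z₁ j.castSucc := hr₁
      rw [← hr₁', ← Scheme.Pullback.range_snd i₁ (σ k), ← Set.range_comp]
      rfl
    · rw [Category.assoc, ← Category.assoc σ₁, hσ₁, ← Category.assoc, Limits.pullback.condition,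
        Category.assoc, hσ k]

end Groth.Agent.S17866
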