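import Groth.Statements.S17869
import Mathlib

set_option autoImplicit false
open CategoryTheory AlgebraicGeometry
universe u
open Algz

namespace Groth.Agent.S17869

/-- In the case of schemes. Let `U` be a quasi-compact quasi-separated scheme and `V 0, …, V (k-1)`
quasi-compact open subschemes which cover `U`. Then the canonical morphism from the disjoint union
`∐ V i` to `U` is a Nisnevich cover of length at most `k`. (The published example states more
generally that, for a Nisnevich cover of `Y` of length at most `m` with source `U`, the composite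
from the disjoint union `∐ V i` to `Y` has length at most `m * k`; stated here is the case of the
identity of `U`, to which the published argument reduces, and the general bound follows by composing
Nisnevich covers. The original form is for quasi-compact quasi-separated algebraic spaces, with the
members of the cover quasi-compact; stated here for schemes.) -/
theorem result {U : Scheme.{u}} [CompactSpace U] [QuasiSeparatedSpace U]
    (k : ℕ) (V : Fin k → U.Opens) (hV : ∀ i, IsCompact (V i : Set U)) (hcov : ⨆ i, V i = ⊤) :
    W4c5algebraiztannaka.IsNisCoverLen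
      (Limits.Sigma.desc (fun i => (V i).ι) : (∐ fun i => ((V i : U.Opens) : Scheme.{u})) ⟶ U) k := by
  classical
  -- the partial unions
  let W : ℕ → U.Opens := fun j => ⨆ (i : Fin k) (_ : i.val < j), V i
  have hW0 : W 0 = ⊥ := by
    simp only [W, Nat.not_lt_zero, iSup_false, iSup_bot]
  have hWk : W k = ⊤ := by
    rw [← hcov]
    apply le_antisymm
    · exact iSup_le fun i => iSup_le fun _ => le_iSup V i
    · exact iSup_le fun i => le_iSup₂_of_le i i.2 le_rfl
  have hWmono : Monotone W := by
    intro a b hab
    exact iSup_le fun i => iSup_le fun hi => le_iSup₂_of_le i (lt_of_lt_of_le hi hab) le_rfl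
  have hWsucc : ∀ i : Fin k, W (i.val + 1) = W i.val ⊔ V i := by
    intro i
    apply le_antisymm
    · refine iSup_le fun i' => iSup_le fun hi' => ?_
      rcases Nat.lt_succ_iff_lt_or_eq.1 hi' with h | h
      · exact le_sup_of_le_left (le_iSup₂_of_le i' h le_rfl)
      · have : i' = i := Fin.ext h
        rw [this]
        exact le_sup_right
    · refine sup_le (hWmono (Nat.le_succ _)) ?_
      exact le_iSup₂_of_le i (Nat.lt_succ_self _) le_rfl
  have hWcompact : ∀ j, IsCompact (W j : Set U) := by
    intro j
    have : (W j : Set U) = ⋃ i ∈ {i : Fin k | i.val < j}, (V i : Set U) := by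
      ext x
      simp [W]
    rw [this]
    exact (Set.toFinite _).isCompact_biUnion fun i _ => hV i
  refine ⟨IsZariskiLocalAtSource.sigmaDesc (P := @Etale) (fun i => inferInstance),
    fun j => ((W (k - j.val) : U.Opens) : Set U)ᶜ, ?_, ?_, ?_, ?_, ?_⟩
  · change ((W (k - 0) : U.Opens) : Set U)ᶜ = ∅
    rw [Nat.sub_zero, hWk]
    simp
  · change ((W (k - k) : U.Opens) : Set U)ᶜ = Set.univ
    rw [Nat.sub_self, hW0]
    simp
  · intro a b hab
    apply Set.compl_subset_compl.2
    exact hWmono (Nat.sub_le_sub_left hab k)
  · intro j
    exact ⟨(W (k - j.val)).2.isClosed_compl,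
      ((hWcompact _).isConstructible (W (k - j.val)).2).compl⟩
  · intro j
    -- the index
    have hj : k - j.val - 1 < k := by have := j.2; omega
    let i₀ : Fin k := ⟨k - j.val - 1, hj⟩
    have h1 : k - (j.succ : Fin (k + 1)).val = i₀.val := by
      simp only [Fin.val_succ, i₀]; omega
    have h2 : k - (j.castSucc : Fin (k + 1)).val = i₀.val + 1 := by
      have := j.2
      simp only [Fin.val_castSucc, i₀]; omega
    change W4c5algebraiztannaka.HasSectOver _ (((W (k - (j.succ : Fin (k + 1)).val) : U.Opens) : Set U)ᶜ \
      ((W (k - (j.castSucc : Fin (k + 1)).val) : U.Opens) : Set U)ᶜ)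
    rw [h1, h2, hWsucc i₀]
    -- the closed subset of `V i₀`
    let C : TopologicalSpace.Closeds ((V i₀ : U.Opens) : Scheme.{u}) :=
      ⟨(V i₀).ι ⁻¹' ((W i₀.val : U.Opens) : Set U)ᶜ,
        ((W i₀.val).2.isClosed_compl).preimage (V i₀).ι.continuous⟩
    let I := Scheme.IdealSheafData.vanishingIdeal C
    refine ⟨I.subscheme, I.subschemeι ≫ (V i₀).ι,
      I.subschemeι ≫ Limits.Sigma.ι (fun i => ((V i : U.Opens) : Scheme.{u})) i₀,
      inferInstance, ?_, ?_⟩
    · have hr : Set.range (I.subschemeι ≫ (V i₀).ι) =
          (V i₀).ι '' (Set.range I.subschemeι) := by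
        ext x
        simp only [Set.mem_range, Set.mem_image, Scheme.Hom.comp_apply]
        constructor
        · rintro ⟨t, rfl⟩
          exact ⟨_, ⟨t, rfl⟩, rfl⟩
        · rintro ⟨_, ⟨t, rfl⟩, rfl⟩
          exact ⟨t, rfl⟩
      have hr' : Set.range (fun t : I.subscheme => (I.subschemeι ≫ (V i₀).ι) t) =
          Set.range (I.subschemeι ≫ (V i₀).ι) := rfl
      rw [hr', hr, Scheme.IdealSheafData.range_subschemeι,
        Scheme.IdealSheafData.coe_support_vanishingIdeal]
      change (V i₀).ι '' ((V i₀).ι ⁻¹' ((W i₀.val : U.Opens) : Set U)ᶜ) = _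
      rw [Set.image_preimage_eq_inter_range, Scheme.Opens.range_ι]
      ext x
      simp only [Set.mem_inter_iff, Set.mem_compl_iff, SetLike.mem_coe, Set.mem_sdiff,
        TopologicalSpace.Opens.mem_sup, not_or, not_and, not_not]
      tauto
    · rw [Category.assoc, Limits.Sigma.ι_desc]

end Groth.Agent.S17869
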