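import Groth.Statements.S17875
import Mathlib

set_option autoImplicit false
universe u
open Polynomial
open GRRSing

namespace Groth.Agent.S17875

theorem part1 {R : Type u} [CommRing R] [Algebra ℚ R] (r : R) (δ : ℕ)
    (hr : (r - 1) ^ (δ + 1) = 0) (n : ℕ) :
    r ^ n = ∑ k ∈ Finset.range (δ + 1),
      ((descPochhammer ℚ k).eval (n : ℚ) / (k.factorial : ℚ)) • (r - 1) ^ k := by
  have hterm : ∀ k, ((descPochhammer ℚ k).eval (n : ℚ) / (k.factorial : ℚ)) • (r - 1) ^ k
      = (r - 1) ^ k * (n.choose k : R) := by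
    intro k
    rw [← Nat.cast_choose_eq_descPochhammer_div ℚ n k, Nat.cast_smul_eq_nsmul, nsmul_eq_mul,
      mul_comm]
  rw [Finset.sum_congr rfl (fun k _ => hterm k)]
  have h1 : r ^ n = ∑ k ∈ Finset.range (n + 1), (r - 1) ^ k * (n.choose k : R) := by
    have h := add_pow (r - 1) 1 n
    rw [sub_add_cancel] at h
    rw [h]
    apply Finset.sum_congr rfl
    intro k _
    rw [one_pow, mul_one]
  rw [h1]
  have hA : ∑ k ∈ Finset.range (n + 1), (r - 1) ^ k * (n.choose k : R)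
      = ∑ k ∈ Finset.range (max n δ + 1), (r - 1) ^ k * (n.choose k : R) := by
    apply Finset.sum_subset
    · intro k hk
      rw [Finset.mem_range] at hk ⊢
      have := le_max_left n δ
      omega
    · intro k _ hk
      rw [Finset.mem_range, not_lt] at hk
      rw [Nat.choose_eq_zero_of_lt (by omega), Nat.cast_zero, mul_zero]
  have hB : ∑ k ∈ Finset.range (δ + 1), (r - 1) ^ k * (n.choose k : R)
      = ∑ k ∈ Finset.range (max n δ + 1), (r - 1) ^ k * (n.choose k : R) := by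
    apply Finset.sum_subset
    · intro k hk
      rw [Finset.mem_range] at hk ⊢
      have := le_max_right n δ
      omega
    · intro k _ hk
      rw [Finset.mem_range, not_lt] at hk
      have h0 : (r - 1) ^ k = 0 := by
        obtain ⟨t, ht⟩ := Nat.exists_eq_add_of_le hk
        rw [ht, pow_add, hr, zero_mul]
      rw [h0, zero_mul]
  rw [hA, hB]

theorem key {R : Type u} [CommRing R] [Algebra ℚ R] (r : R) (k : ℕ) (s : ℤ) :
    ((k.factorial : ℚ)⁻¹) • (((s : ℤ) : R) * (r - 1) ^ k) =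
      ∑ u ∈ Finset.range (k + 1),
        (((-1 : ℚ) ^ (k - u) * (s : ℚ)) / ((u.factorial * (k - u).factorial : ℕ) : ℚ)) • r ^ u := by
  rw [sub_eq_add_neg, add_pow, Finset.mul_sum, Finset.smul_sum]
  apply Finset.sum_congr rfl
  intro u hu
  have hu' : u ≤ k := Nat.lt_succ_iff.mp (Finset.mem_range.mp hu)
  have hs : ((s : ℤ) : R) = algebraMap ℚ R (s : ℚ) := (map_intCast (algebraMap ℚ R) s).symm
  have hC : ((k.choose u : ℕ) : R) = algebraMap ℚ R (k.choose u : ℚ) :=
    (map_natCast (algebraMap ℚ R) _).symm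
  have h1 : (-1 : R) ^ (k - u) = algebraMap ℚ R ((-1) ^ (k - u)) := by
    rw [map_pow, map_neg, map_one]
  have hk : (k.factorial : ℚ) ≠ 0 := Nat.cast_ne_zero.mpr (Nat.factorial_ne_zero k)
  have hfact : (k.choose u : ℚ) * (u.factorial : ℚ) * ((k - u).factorial : ℚ)
      = (k.factorial : ℚ) := by
    exact_mod_cast Nat.choose_mul_factorial_mul_factorial hu'
  have hD : (((u.factorial * (k - u).factorial : ℕ)) : ℚ) ≠ 0 :=
    Nat.cast_ne_zero.mpr (Nat.mul_ne_zero (Nat.factorial_ne_zero u) (Nat.factorial_ne_zero _))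
  have hq : ((-1 : ℚ) ^ (k - u) * (s : ℚ)) / ((u.factorial * (k - u).factorial : ℕ) : ℚ)
      = (k.factorial : ℚ)⁻¹ * (s : ℚ) * (-1) ^ (k - u) * (k.choose u : ℚ) := by
    rw [div_eq_iff hD]
    push_cast
    have e : (k.factorial : ℚ)⁻¹ * (s : ℚ) * (-1) ^ (k - u) * (k.choose u : ℚ)
          * ((u.factorial : ℚ) * ((k - u).factorial : ℚ))
        = (k.factorial : ℚ)⁻¹ * ((k.choose u : ℚ) * (u.factorial : ℚ) * ((k - u).factorial : ℚ))
          * ((-1) ^ (k - u) * (s : ℚ)) := by ring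
    rw [e, hfact, inv_mul_cancel₀ hk, one_mul]
  rw [Algebra.smul_def, Algebra.smul_def, hs, hC, h1, hq, map_mul, map_mul, map_mul]
  ring

theorem part2 {R : Type u} [CommRing R] [Algebra ℚ R] (r : R) (δ : ℕ) :
    (∑ k ∈ Finset.range (δ + 1),
        ((k.factorial : ℚ)⁻¹ • (descPochhammer R k * Polynomial.C ((r - 1) ^ k))) =
      ∑ j ∈ Finset.range (δ + 1), Polynomial.C (∑ k ∈ Finset.range (δ + 1),
        ∑ u ∈ Finset.range (k + 1),
          (((-1 : ℚ) ^ (k - u) * (((descPochhammer ℤ k).coeff j : ℤ) : ℚ)) /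
            ((u.factorial * (k - u).factorial : ℕ) : ℚ)) • r ^ u) * Polynomial.X ^ j) := by
  apply Polynomial.ext
  intro j
  rw [Polynomial.finsetSum_coeff, Polynomial.finsetSum_coeff]
  have hL : ∀ k, ((k.factorial : ℚ)⁻¹ •
        (descPochhammer R k * Polynomial.C ((r - 1) ^ k))).coeff j
      = ((k.factorial : ℚ)⁻¹) • ((((descPochhammer ℤ k).coeff j : ℤ) : R) * (r - 1) ^ k) := by
    intro k
    rw [Polynomial.coeff_smul, Polynomial.coeff_mul_C, ← descPochhammer_map (Int.castRingHom R) k,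
      Polynomial.coeff_map, eq_intCast]
  rw [Finset.sum_congr rfl (fun k _ => hL k)]
  simp only [Polynomial.coeff_C_mul_X_pow]
  rw [Finset.sum_ite_eq]
  by_cases hj : j ∈ Finset.range (δ + 1)
  · rw [if_pos hj]
    apply Finset.sum_congr rfl
    intro k _
    exact key r k _
  · rw [if_neg hj]
    apply Finset.sum_eq_zero
    intro k hk
    have hk' := Finset.mem_range.mp hk
    rw [Finset.mem_range, not_lt] at hj
    have h0 : (descPochhammer ℤ k).coeff j = 0 := by
      apply Polynomial.coeff_eq_zero_of_natDegree_lt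
      rw [descPochhammer_natDegree]; omega
    rw [h0, Int.cast_zero, zero_mul, smul_zero]



/-- Let R be a commutative ℚ-algebra, r an element of R and δ a natural number with (r - 1) ^ (δ + 1) =
0. Write s(k, j) for the signed Stirling numbers of the first kind, the coefficients of x (x - 1) ⋯
(x - k + 1) = Σ_j s(k, j) x ^ j. Then (i) for every natural number n, r ^ n = Σ_{k ≤ δ} [n (n - 1) ⋯
(n - k + 1) / k!] (r - 1) ^ k; and (ii) in the polynomial ring R[x], Σ_{k ≤ δ} [x (x - 1) ⋯ (x - k +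
1) / k!] (r - 1) ^ k = Σ_{j ≤ δ} [Σ_{k ≤ δ} Σ_{u ≤ k} (-1) ^ (k - u) s(k, j) / (u! (k - u)!) · r ^
u] x ^ j. -/
theorem result {R : Type u} [CommRing R] [Algebra ℚ R]
    (r : R) (δ : ℕ) (hr : (r - 1) ^ (δ + 1) = 0) :
    (∀ n : ℕ, r ^ n = ∑ k ∈ Finset.range (δ + 1), ((descPochhammer ℚ k).eval (n : ℚ) / (k.factorial : ℚ)) • (r - 1) ^ k) ∧
    (∑ k ∈ Finset.range (δ + 1), ((k.factorial : ℚ)⁻¹ • (descPochhammer R k * Polynomial.C ((r - 1) ^ k))) =
      ∑ j ∈ Finset.range (δ + 1), Polynomial.C (∑ k ∈ Finset.range (δ + 1), ∑ u ∈ Finset.range (k + 1),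
        (((-1 : ℚ) ^ (k - u) * (((descPochhammer ℤ k).coeff j : ℤ) : ℚ)) / ((u.factorial * (k - u).factorial : ℕ) : ℚ)) • r ^ u) * Polynomial.X ^ j) := by
  exact ⟨fun n => part1 r δ hr n, part2 r δ⟩


end Groth.Agent.S17875
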