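import Groth.Statements.S17878
import Mathlib

set_option autoImplicit false
universe u
open Filter Topology
open GRRSing

namespace Groth.Agent.S17878

theorem euler_rec (E : ℕ → ℚ)
    (hE : PowerSeries.mk (fun j => E j / (j.factorial : ℚ)) * (PowerSeries.exp ℚ + 1) = 2)
    (j : ℕ) :
    E j + ∑ i ∈ Finset.range (j+1), (j.choose i : ℚ) * E i = 2 * (0:ℚ)^j := by
  have h := congrArg (PowerSeries.coeff j) hE
  rw [mul_add, mul_one, map_add, PowerSeries.coeff_mul, PowerSeries.coeff_mk,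
    Finset.Nat.sum_antidiagonal_eq_sum_range_succ_mk] at h
  have h2 : (PowerSeries.coeff j) (2 : PowerSeries ℚ) = 2 * (0:ℚ)^j := by
    rw [← one_add_one_eq_two, map_add, PowerSeries.coeff_one]
    rcases Nat.eq_zero_or_pos j with h0 | h0
    · subst h0
      norm_num
    · rw [if_neg (by omega), zero_pow (by omega)]
      norm_num
  rw [h2] at h
  have hj : (j.factorial : ℚ) ≠ 0 := by exact_mod_cast j.factorial_ne_zero
  have key : ∀ i ∈ Finset.range (j+1), (j.factorial : ℚ) *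
      ((PowerSeries.coeff i) (PowerSeries.mk fun j => E j / (j.factorial : ℚ)) *
        (PowerSeries.coeff (j - i)) (PowerSeries.exp ℚ)) = (j.choose i : ℚ) * E i := by
    intro i hi
    have hij : i ≤ j := Nat.lt_succ_iff.mp (Finset.mem_range.mp hi)
    rw [PowerSeries.coeff_mk, PowerSeries.coeff_exp]
    have h3 := Nat.choose_mul_factorial_mul_factorial hij
    have h4 : ((j.choose i : ℚ)) * (i.factorial : ℚ) * ((j - i).factorial : ℚ) =
        (j.factorial : ℚ) := by exact_mod_cast h3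
    have hi0 : (i.factorial : ℚ) ≠ 0 := by exact_mod_cast i.factorial_ne_zero
    have hji0 : ((j-i).factorial : ℚ) ≠ 0 := by exact_mod_cast (j-i).factorial_ne_zero
    rw [← h4]
    rw [eq_ratCast, Rat.cast_id]
    field_simp
  have h5 : (j.factorial : ℚ) * (∑ k ∈ Finset.range j.succ,
      (PowerSeries.coeff (k, j - k).1) (PowerSeries.mk fun j => E j / (j.factorial : ℚ)) *
        (PowerSeries.coeff (k, j - k).2) (PowerSeries.exp ℚ) + E j / (j.factorial : ℚ)) =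
      (j.factorial : ℚ) * (2 * (0:ℚ)^j) := congrArg (fun t => (j.factorial : ℚ) * t) h
  rw [mul_add, Finset.mul_sum, Finset.sum_congr rfl key, mul_div_cancel₀ _ hj] at h5
  rw [add_comm, h5]
  rcases Nat.eq_zero_or_pos j with h0 | h0
  · subst h0
    norm_num
  · rw [zero_pow (by omega)]
    ring

theorem S_rec (j : ℕ) (y : ℂ) (hy : ‖y‖ < 1) :
    (∑' k : ℕ, (k : ℂ)^j * y^k) = (0:ℂ)^j + y * ∑ i ∈ Finset.range (j+1),
      (j.choose i : ℂ) * ∑' k : ℕ, (k:ℂ)^i * y^k := by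
  have hs : ∀ i, Summable (fun k : ℕ => (k:ℂ)^i * y^k) :=
    fun i => summable_pow_mul_geometric_of_norm_lt_one i hy
  rw [(hs j).tsum_eq_zero_add]
  congr 1
  · rw [Nat.cast_zero, pow_zero, mul_one]
  · have h1 : ∀ k : ℕ, ((k+1 : ℕ) : ℂ)^j * y^(k+1) =
        ∑ i ∈ Finset.range (j+1), y * ((j.choose i : ℂ) * ((k:ℂ)^i * y^k)) := by
      intro k
      rw [Nat.cast_succ, add_pow, Finset.sum_mul]
      refine Finset.sum_congr rfl (fun i _ => ?_)
      rw [one_pow, pow_succ]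
      ring
    rw [tsum_congr h1, Summable.tsum_finsetSum (fun i _ => ((hs i).mul_left _).mul_left _),
      Finset.mul_sum]
    refine Finset.sum_congr rfl (fun i _ => ?_)
    rw [Summable.tsum_mul_left _ ((hs i).mul_left _), Summable.tsum_mul_left _ (hs i)]

theorem S_formula (j : ℕ) (y : ℂ) (hy : ‖y‖ < 1) :
    (∑' k : ℕ, (k : ℂ)^j * y^k) = ((0:ℂ)^j + y * ∑ i ∈ Finset.range j,
      (j.choose i : ℂ) * ∑' k : ℕ, (k:ℂ)^i * y^k) / (1 - y) := by
  have h1y : (1 - y) ≠ 0 := by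
    intro h
    have h1 : y = 1 := (sub_eq_zero.mp h).symm
    rw [h1, norm_one] at hy
    exact lt_irrefl _ hy
  rw [eq_div_iff h1y]
  have h := S_rec j y hy
  rw [Finset.sum_range_succ, Nat.choose_self, Nat.cast_one, one_mul] at h
  linear_combination h

theorem S_tendsto (E : ℕ → ℚ)
    (hE : ∀ j, E j + ∑ i ∈ Finset.range (j+1), (j.choose i : ℚ) * E i = 2 * (0:ℚ)^j) (j : ℕ) :
    Tendsto (fun y : ℝ => ∑' k : ℕ, (k : ℂ)^j * (y : ℂ)^k) (𝓝[Set.Ioo (-1 : ℝ) 1] (-1 : ℝ))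
      (𝓝 (((E j : ℚ) : ℂ) / 2)) := by
  induction j using Nat.strong_induction_on with
  | _ j ih =>
    have hy_t : Tendsto (fun y : ℝ => (y : ℂ)) (𝓝[Set.Ioo (-1 : ℝ) 1] (-1 : ℝ))
        (𝓝 ((-1 : ℝ) : ℂ)) :=
      (Complex.continuous_ofReal.tendsto (-1)).mono_left nhdsWithin_le_nhds
    have hform : ∀ y ∈ Set.Ioo (-1 : ℝ) 1, ((0:ℂ)^j + (y:ℂ) * ∑ i ∈ Finset.range j,
        (j.choose i : ℂ) * ∑' k : ℕ, (k:ℂ)^i * (y:ℂ)^k) / (1 - (y:ℂ)) =
        ∑' k : ℕ, (k : ℂ)^j * (y : ℂ)^k := by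
      intro y hy
      refine (S_formula j (y:ℂ) ?_).symm
      rw [Complex.norm_real, Real.norm_eq_abs, abs_lt]
      exact ⟨hy.1, hy.2⟩
    refine Tendsto.congr' (eventually_nhdsWithin_of_forall hform) ?_
    have hsum : Tendsto (fun y : ℝ => ∑ i ∈ Finset.range j,
        (j.choose i : ℂ) * ∑' k : ℕ, (k:ℂ)^i * (y:ℂ)^k) (𝓝[Set.Ioo (-1 : ℝ) 1] (-1 : ℝ))
        (𝓝 (∑ i ∈ Finset.range j, (j.choose i : ℂ) * (((E i : ℚ) : ℂ) / 2))) :=
      tendsto_finsetSum _ (fun i hi => (ih i (Finset.mem_range.mp hi)).const_mul _)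
    have hnum := (tendsto_const_nhds (x := (0:ℂ)^j)
      (f := (𝓝[Set.Ioo (-1 : ℝ) 1] (-1 : ℝ)))).add (hy_t.mul hsum)
    have hden : Tendsto (fun y : ℝ => (1 : ℂ) - (y:ℂ)) (𝓝[Set.Ioo (-1 : ℝ) 1] (-1 : ℝ))
        (𝓝 (1 - ((-1:ℝ):ℂ))) := tendsto_const_nhds.sub hy_t
    have h2 : (1 : ℂ) - ((-1:ℝ):ℂ) ≠ 0 := by
      push_cast
      norm_num
    have h3 : Tendsto (fun y : ℝ => ((0:ℂ)^j + (y:ℂ) * ∑ i ∈ Finset.range j,
        (j.choose i : ℂ) * ∑' k : ℕ, (k:ℂ)^i * (y:ℂ)^k) / (1 - (y:ℂ)))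
        (𝓝[Set.Ioo (-1 : ℝ) 1] (-1 : ℝ))
        (𝓝 (((0:ℂ)^j + ((-1 : ℝ) : ℂ) * ∑ i ∈ Finset.range j,
          (j.choose i : ℂ) * (((E i : ℚ) : ℂ) / 2)) / (1 - ((-1:ℝ):ℂ)))) :=
      hnum.div hden h2
    have hval : ((E j : ℚ) : ℂ) / 2 = ((0:ℂ)^j + ((-1 : ℝ) : ℂ) * ∑ i ∈ Finset.range j,
          (j.choose i : ℂ) * (((E i : ℚ) : ℂ) / 2)) / (1 - ((-1:ℝ):ℂ)) := by
      have hEj := hE j
      rw [Finset.sum_range_succ, Nat.choose_self, Nat.cast_one, one_mul] at hEj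
      have hc := congrArg (fun q : ℚ => (q : ℂ)) hEj
      push_cast at hc
      have hs2 : ∑ i ∈ Finset.range j, (j.choose i : ℂ) * (((E i : ℚ) : ℂ) / 2) =
          (∑ i ∈ Finset.range j, (j.choose i : ℂ) * ((E i : ℚ) : ℂ)) / 2 := by
        rw [Finset.sum_div]
        refine Finset.sum_congr rfl (fun i _ => ?_)
        ring
      rw [hs2]
      push_cast
      linear_combination (1/4 : ℂ) * hc
    rw [hval]
    exact h3



/-- Let T be a nonzero commutative normed ℂ-algebra such that the map ℂ → T/nilradical(T) is surjective,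
let P = Σ_j d_j x ^ j be a polynomial over T and put h_k = P(k). Let E_0, E_1, … be the rational
numbers with 2/(e^t + 1) = Σ_j E_j t ^ j / j! (so E_0 = 1, E_1 = -1/2). Then for every complex y
with |y| < 1 the series Σ_k h_k y ^ k converges in T, and as y → -1 along real y in (-1, 1) its sum
tends to (1/2) Σ_j E_j d_j. (The published statement allows any norm topology on T as a complex
vector space; this row takes T a normed ℂ-algebra.) -/
theorem result {T : Type u} [NormedCommRing T] [NormedAlgebra ℂ T] [Nontrivial T]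
    (hT : Function.Surjective (algebraMap ℂ (T ⧸ nilradical T)))
    (E : ℕ → ℚ) (hE : PowerSeries.mk (fun j => E j / (j.factorial : ℚ)) * (PowerSeries.exp ℚ + 1) = 2)
    (P : Polynomial T) :
    (∀ y : ℂ, ‖y‖ < 1 → Summable (fun k : ℕ => y ^ k • P.eval (k : T))) ∧
    Tendsto (fun y : ℝ => ∑' k : ℕ, ((y : ℂ) ^ k) • P.eval (k : T)) (𝓝[Set.Ioo (-1 : ℝ) 1] (-1 : ℝ))
      (𝓝 ((2 : ℂ)⁻¹ • ∑ j ∈ Finset.range (P.natDegree + 1), ((E j : ℚ) : ℂ) • P.coeff j)) := by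
  have hrec := euler_rec E hE
  have hterm : ∀ (y : ℂ) (k : ℕ), y^k • P.eval (k : T) =
      ∑ j ∈ Finset.range (P.natDegree+1), ((k:ℂ)^j * y^k) • P.coeff j := by
    intro y k
    rw [Polynomial.eval_eq_sum_range, Finset.smul_sum]
    refine Finset.sum_congr rfl (fun j _ => ?_)
    have h1 : ((k : T))^j = algebraMap ℂ T ((k:ℂ)^j) := by rw [map_pow, map_natCast]
    rw [h1, mul_comm (P.coeff j), ← Algebra.smul_def, smul_smul, mul_comm]
  have hsumm : ∀ (y : ℂ), ‖y‖ < 1 → HasSum (fun k : ℕ => y^k • P.eval (k : T))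
      (∑ j ∈ Finset.range (P.natDegree+1), (∑' k : ℕ, (k:ℂ)^j * y^k) • P.coeff j) := by
    intro y hy
    rw [show (fun k : ℕ => y^k • P.eval (k : T)) = fun k : ℕ =>
      ∑ j ∈ Finset.range (P.natDegree+1), ((k:ℂ)^j * y^k) • P.coeff j from funext (hterm y)]
    exact hasSum_sum (fun j _ =>
      ((summable_pow_mul_geometric_of_norm_lt_one j hy).hasSum).smul_const _)
  refine ⟨fun y hy => (hsumm y hy).summable, ?_⟩
  have hform : ∀ y ∈ Set.Ioo (-1:ℝ) 1,
      (∑ j ∈ Finset.range (P.natDegree+1), (∑' k : ℕ, (k:ℂ)^j * (y:ℂ)^k) • P.coeff j) =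
        ∑' k : ℕ, ((y:ℂ)^k) • P.eval (k:T) := by
    intro y hy
    refine ((hsumm (y:ℂ) ?_).tsum_eq).symm
    rw [Complex.norm_real, Real.norm_eq_abs, abs_lt]
    exact ⟨hy.1, hy.2⟩
  refine Tendsto.congr' (eventually_nhdsWithin_of_forall hform) ?_
  rw [Finset.smul_sum]
  refine tendsto_finsetSum _ (fun j _ => ?_)
  rw [smul_smul]
  have h4 := (S_tendsto E hrec j).smul_const (P.coeff j)
  rw [show (2:ℂ)⁻¹ * ((E j : ℚ) : ℂ) = ((E j : ℚ) : ℂ) / 2 by ring]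
  exact h4


end Groth.Agent.S17878
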