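import Groth.Statements.S17880
-- import your own Groth.Agent.* helpers here
import Groth.Agent.Lib.Helper9.AbsApprox24
import Groth.Agent.Lib.Helper9.SeparatedStructure

set_option autoImplicit false
universe u
open CategoryTheory AlgebraicGeometry
open Lim

namespace Groth.Agent.S17880

/-- Let f : Y → X be a morphism of schemes with X and Y quasi-compact and quasi-separated. Then f is the
composite of an affine morphism Y → Z and a morphism Z → X of finite presentation (locally of finite
presentation, quasi-compact and quasi-separated); if f is separated, Z → X can in addition be chosen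
separated. Both assertions are packaged in one existential. -/
theorem result {X Y : Scheme.{u}} (f : Y ⟶ X)
    [CompactSpace X] [QuasiSeparatedSpace X] [CompactSpace Y] [QuasiSeparatedSpace Y] :
    ∃ (Z : Scheme.{u}) (g : Y ⟶ Z) (h : Z ⟶ X), IsAffineHom g ∧ LocallyOfFinitePresentation h ∧
      QuasiCompact h ∧ QuasiSeparated h ∧ (IsSeparated f → IsSeparated h) ∧ g ≫ h = f := by
  obtain ⟨I, hI1, hI2, hI3, D, t, c, hc, e, h1, h2, h3, h4⟩ :=
    Groth.Agent.Lib.helper9.AbsApprox.exists_relative_approx' f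
  have hD : ∀ (i j : Iᵒᵖ) (a : i ⟶ j), IsAffineHom (D.map a) := h3
  have hD' : ∀ {i j : Iᵒᵖ} (a : i ⟶ j), IsAffineHom (D.map a) := fun a => h3 _ _ a
  have hcp : ∀ i, CompactSpace (D.obj i) := fun i => (h4 i).1
  have hqs : ∀ i, QuasiSeparatedSpace (D.obj i) := fun i => (h4 i).2
  have hτ : ∀ {i j : Iᵒᵖ} (a : i ⟶ j), D.map a ≫ t.app j = t.app i := fun a => by
    have := t.naturality a
    simp only [Functor.const_obj_obj, Functor.const_obj_map, Category.comp_id] at this
    exact this
  obtain ⟨i₀⟩ : Nonempty Iᵒᵖ := ⟨Opposite.op hI3.some⟩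
  have key : ∀ i : Iᵒᵖ, (IsSeparated f → IsSeparated (t.app i)) →
      ∃ (Z : Scheme.{u}) (g : Y ⟶ Z) (h : Z ⟶ X), IsAffineHom g ∧ LocallyOfFinitePresentation h ∧
      QuasiCompact h ∧ QuasiSeparated h ∧ (IsSeparated f → IsSeparated h) ∧ g ≫ h = f := by
    intro i hi
    have : IsAffineHom (c.π.app i) := isAffineHom_π_app D c hc i
    refine ⟨D.obj i, e.inv ≫ c.π.app i, t.app i, inferInstance, (h2 i).1, (h2 i).2.1, (h2 i).2.2,
      hi, ?_⟩
    rw [Category.assoc, h1, Iso.inv_hom_id_assoc]
  by_cases hf : IsSeparated f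
  · have : IsSeparated (c.π.app i₀ ≫ t.app i₀) := by
      rw [h1]
      infer_instance
    obtain ⟨i₁, hi₁⟩ := Groth.Agent.Lib.helper9.exists_forall_isSeparated_structure X D c hc
      (fun i => t.app i) hτ i₀
    exact key i₁ (fun _ => hi₁ i₁ (𝟙 _))
  · exact key i₀ (fun h => absurd h hf)

end Groth.Agent.S17880
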