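import Groth.Statements.S17881
import Mathlib
-- import your own Groth.Agent.* helpers here

set_option autoImplicit false
universe u
open CAlg

namespace Groth.Agent.S17881

/-- Let O be a subring of a nontrivial commutative ring A. The following are equivalent: (i) A is a
local ring, every non-unit of A belongs to O, and for every unit u of A one of u, u⁻¹ belongs to O —
equivalently O is the preimage in the local ring A of a valuation ring of the residue field of A,
which makes O a semi-valuation ring with semi-fraction ring A; (ii) for all f, g in A generating the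
unit ideal, either f ∈ gO or g ∈ fO. (A is taken nontrivial: over the zero ring (ii) holds and (i)
fails.) -/
theorem result (A : Type u) [CommRing A] [Nontrivial A]
    (O : Subring A) :
    (IsLocalRing A ∧ (∀ a : A, ¬ IsUnit a → a ∈ O) ∧ (∀ u : Aˣ, (u : A) ∈ O ∨ ((u⁻¹ : Aˣ) : A) ∈ O)) ↔
      ∀ f g : A, IsCoprime f g → (∃ o ∈ O, f = g * o) ∨ (∃ o ∈ O, g = f * o) := by
  constructor
  · rintro ⟨hloc, hnon, hun⟩ f g hfg
    -- key: if `g` is a unit then the conclusion holds (symmetric in f, g)
    have key : ∀ f g : A, IsUnit g → (∃ o ∈ O, f = g * o) ∨ (∃ o ∈ O, g = f * o) := by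
      intro f g hg
      obtain ⟨g, rfl⟩ := hg
      by_cases ho : IsUnit (((g⁻¹ : Aˣ) : A) * f)
      · obtain ⟨o, ho⟩ := ho
        rcases hun o with h | h
        · left
          refine ⟨o, h, ?_⟩
          rw [ho, ← mul_assoc, Units.mul_inv, one_mul]
        · right
          refine ⟨((o⁻¹ : Aˣ) : A), h, ?_⟩
          have hf : f = (g : A) * o := by
            rw [ho, ← mul_assoc, Units.mul_inv, one_mul]
          rw [hf, mul_assoc, Units.mul_inv, mul_one]
      · left
        refine ⟨_, hnon _ ho, ?_⟩
        rw [← mul_assoc, Units.mul_inv, one_mul]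
    obtain ⟨a, b, hab⟩ := hfg
    have hu : IsUnit (a * f) ∨ IsUnit (b * g) := by
      apply IsLocalRing.isUnit_or_isUnit_of_add_one hab
    rcases hu with hu | hu
    · exact (key g f (isUnit_of_mul_isUnit_right hu)).symm
    · exact key f g (isUnit_of_mul_isUnit_right hu)
  · intro H
    refine ⟨?_, ?_, ?_⟩
    · apply IsLocalRing.of_isUnit_or_isUnit_one_sub_self
      intro a
      have hc : IsCoprime a (1 - a) := ⟨1, 1, by ring⟩
      rcases H a (1 - a) hc with ⟨o, _, ho⟩ | ⟨o, _, ho⟩
      · right
        refine IsUnit.of_mul_eq_one (1 + o) ?_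
        rw [mul_add, mul_one, ← ho]; ring
      · left
        refine IsUnit.of_mul_eq_one (1 + o) ?_
        rw [mul_add, mul_one, ← ho]; ring
    · intro a ha
      have hc : IsCoprime a 1 := isCoprime_one_right
      rcases H a 1 hc with ⟨o, ho, h⟩ | ⟨o, _, h⟩
      · rw [h, one_mul]; exact ho
      · exact absurd (IsUnit.of_mul_eq_one o h.symm) ha
    · intro u
      have hc : IsCoprime (u : A) 1 := isCoprime_one_right
      rcases H u 1 hc with ⟨o, ho, h⟩ | ⟨o, ho, h⟩
      · left; rw [h, one_mul]; exact ho
      · right
        have : ((u⁻¹ : Aˣ) : A) = o := by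
          rw [Units.inv_eq_of_mul_eq_one_right h.symm]
        rw [this]; exact ho

end Groth.Agent.S17881
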