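import Groth.Statements.S17882
import Mathlib
-- import your own Groth.Agent.* helpers here

set_option autoImplicit false
universe u
open CAlg

namespace Groth.Agent.S17882

open Matrix in
/-- Cramer for rows: `det A • x = ∑ i, det (A with row i replaced by x) • A i`. -/
lemma cramer_rows {B : Type u} [CommRing B] {r : ℕ} (A : Matrix (Fin r) (Fin r) B)
    (x : Fin r → B) :
    A.det • x = ∑ i, (A.updateRow i x).det • A i := by
  have h := Matrix.mulVec_cramer Aᵀ x
  rw [Matrix.det_transpose] at h
  rw [← h]
  funext j
  simp only [Matrix.mulVec, dotProduct, Matrix.transpose_apply, Matrix.cramer_transpose_apply,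
    Finset.sum_apply, Pi.smul_apply, smul_eq_mul]
  exact Finset.sum_congr rfl fun i _ => mul_comm _ _

/-- Let B be a commutative ring, r ≥ 1, N a finitely generated submodule of B^r, and n_1, …, n_r ∈ N.
Suppose the determinant of the matrix with rows n_1, …, n_r is a nonzerodivisor of B and that the
determinant of every matrix whose rows lie in N is a multiple of it (the image of the top exterior
power of N in that of B^r ≅ B is the principal ideal generated by n_1 ∧ ⋯ ∧ n_r, a nonzerodivisor).
Then n_1, …, n_r are linearly independent over B and span N: N is free of rank r with this basis. -/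
theorem result (B : Type u) [CommRing B] (r : ℕ) (hr : 0 < r)
    (N : Submodule B (Fin r → B)) (hN : N.FG) (n : Fin r → (Fin r → B)) (hn : ∀ i, n i ∈ N)
    (hgen : ∀ m : Fin r → (Fin r → B), (∀ i, m i ∈ N) →
      Matrix.det (Matrix.of m) ∈ Ideal.span {Matrix.det (Matrix.of n)})
    (hnzd : Matrix.det (Matrix.of n) ∈ nonZeroDivisors B) :
    LinearIndependent B n ∧ Submodule.span B (Set.range n) = N := by
  set A : Matrix (Fin r) (Fin r) B := Matrix.of n with hA
  set D := A.det with hD
  have hcancel : ∀ y z : Fin r → B, D • y = D • z → y = z := by
    intro y z h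
    funext j
    have := congrFun h j
    simp only [Pi.smul_apply, smul_eq_mul] at this
    exact (mul_cancel_left_mem_nonZeroDivisors hnzd).1 this
  constructor
  · rw [Fintype.linearIndependent_iff]
    intro c hc i
    -- `c ᵥ* A = 0`
    have h1 : Matrix.vecMul c A = 0 := by
      funext j
      have := congrFun hc j
      simp only [Finset.sum_apply, Pi.smul_apply, smul_eq_mul, Pi.zero_apply] at this
      simpa [Matrix.vecMul, dotProduct, hA] using this
    have h2 : Matrix.vecMul (Matrix.vecMul c A) A.adjugate = D • c := by
      rw [Matrix.vecMul_vecMul, Matrix.mul_adjugate, Matrix.vecMul_smul, Matrix.vecMul_one]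
    rw [h1, Matrix.zero_vecMul] at h2
    have h3 : c = 0 := hcancel c 0 (by rw [← h2, smul_zero])
    rw [h3]; rfl
  · apply le_antisymm
    · rw [Submodule.span_le]
      rintro _ ⟨i, rfl⟩
      exact hn i
    · intro x hx
      have hdet : ∀ i, ∃ a : B, (A.updateRow i x).det = D * a := by
        intro i
        have hrows : ∀ j, Function.update n i x j ∈ N := by
          intro j
          by_cases hj : j = i
          · subst hj; simpa using hx
          · simpa [Function.update_of_ne hj] using hn j
        have := hgen (Function.update n i x) hrows
        rw [Ideal.mem_span_singleton'] at this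
        obtain ⟨a, ha⟩ := this
        refine ⟨a, ?_⟩
        rw [mul_comm, ha]
        rfl
      choose a ha using hdet
      have hx' : x = ∑ i, a i • n i := by
        apply hcancel
        rw [cramer_rows A x, Finset.smul_sum]
        refine Finset.sum_congr rfl fun i _ => ?_
        rw [ha i, mul_smul]
        rfl
      rw [hx']
      exact Submodule.sum_mem _ fun i _ => Submodule.smul_mem _ _ (Submodule.subset_span ⟨i, rfl⟩)

end Groth.Agent.S17882
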