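import Groth.Statements.S17885
-- import your own Groth.Agent.* helpers here
import Groth.Agent.Lib.Helper9.AbsApprox24
import Groth.Agent.Lib.Helper9.AbsApprox23
import Groth.Agent.Lib.Helper9.AbsApprox25
import Groth.Agent.Lib.Helper9.AbsApprox26

set_option autoImplicit false
universe u
open CategoryTheory AlgebraicGeometry
open Lim

namespace Groth.Agent.S17885

/-- Let f : Y → X be a morphism of schemes with X and Y quasi-compact and quasi-separated. Then f is
affine if and only if the X-scheme Y is a limit, in the category of schemes over X, of a filtered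
inverse system of X-schemes that are affine and of finite presentation over X. -/
theorem result {X Y : Scheme.{u}} (f : Y ⟶ X)
    [CompactSpace X] [QuasiSeparatedSpace X] [CompactSpace Y] [QuasiSeparatedSpace Y] :
    IsAffineHom f ↔
      ∃ (I : Type u) (_ : SmallCategory I) (_ : IsFiltered I) (D : Iᵒᵖ ⥤ Over X)
        (c : Limits.Cone D) (_ : Limits.IsLimit c),
        (∀ i, IsAffineHom (D.obj i).hom ∧ LocallyOfFinitePresentation (D.obj i).hom) ∧
        Nonempty (c.pt ≅ Over.mk f) := by
  constructor
  · intro hf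
    obtain ⟨I, hI1, hI2, hI3, D, t, c, hc, e, h1, h2, h3, h4⟩ :=
      Groth.Agent.Lib.helper9.AbsApprox.exists_relative_approx' f
    have : ∀ {i j : Iᵒᵖ} (a : i ⟶ j), IsAffineHom (D.map a) := fun a => h3 _ _ a
    have : ∀ i, QuasiSeparatedSpace (D.obj i) := fun i => (h4 i).2
    have : ∀ i, QuasiCompact (t.app i) := fun i => (h2 i).2.1
    have : IsAffineHom (e.hom ≫ f) := inferInstance
    obtain ⟨i₀, hi₀⟩ := Groth.Agent.Lib.helper9.AbsApprox.exists_isAffineHom_stage D t c hc
      (e.hom ≫ f) h1
    have : IsConnected Iᵒᵖ := IsCofiltered.isConnected Iᵒᵖ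
    refine ⟨Groth.Agent.Lib.helper9.AbsApprox.Ge i₀.unop, inferInstance, inferInstance,
      (Groth.Agent.Lib.helper9.AbsApprox.geIncl i₀.unop).op ⋙
        Groth.Agent.Lib.helper9.AbsApprox.overFunctor D t,
      (Groth.Agent.Lib.helper9.AbsApprox.overCone D t c (e.hom ≫ f) h1).whisker
        (Groth.Agent.Lib.helper9.AbsApprox.geIncl i₀.unop).op,
      Groth.Agent.Lib.helper9.AbsApprox.isLimitWhiskerGe i₀.unop _
        (Groth.Agent.Lib.helper9.AbsApprox.isLimitOverCone D t c hc (e.hom ≫ f) h1), ?_, ?_⟩
    · intro i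
      exact ⟨hi₀ _ (homOfLE i.unop.2).op, (h2 _).1⟩
    · exact ⟨Over.isoMk e (by simp [Groth.Agent.Lib.helper9.AbsApprox.overCone])⟩
  · rintro ⟨I, hI1, hI2, D, c, hc, h1, ⟨e⟩⟩
    have haff : ∀ {i j : Iᵒᵖ} (a : i ⟶ j), IsAffineHom ((D ⋙ Over.forget X).map a) := by
      intro i j a
      have := (h1 i).1
      have := (h1 j).1
      have hw : (D.map a).left ≫ (D.obj j).hom = (D.obj i).hom := Over.w (D.map a)
      have : IsAffineHom ((D.map a).left ≫ (D.obj j).hom) := by rw [hw]; infer_instance
      exact MorphismProperty.of_postcomp (W := @IsAffineHom) (W' := @IsSeparated) (D.map a).left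
        (D.obj j).hom inferInstance inferInstance
    obtain ⟨i⟩ : Nonempty Iᵒᵖ := ⟨Opposite.op (IsFiltered.nonempty (C := I)).some⟩
    have hπ : IsAffineHom ((c.π.app i).left) :=
      isAffineHom_π_app (D ⋙ Over.forget X) ((Over.forget X).mapCone c)
        (Limits.isLimitOfPreserves (Over.forget X) hc) i
    have := (h1 i).1
    have h2 : c.pt.hom = (c.π.app i).left ≫ (D.obj i).hom := (Over.w (c.π.app i)).symm
    have h3 : f = e.inv.left ≫ c.pt.hom := (Over.w e.inv).symm
    have : IsIso e.inv.left := inferInstanceAs (IsIso ((Over.forget X).map e.inv))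
    rw [h3, h2]
    infer_instance

end Groth.Agent.S17885
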