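import Groth.Statements.S17886
import Mathlib
import Groth.Agent.Lib.Helper12.Chow6
-- import your own Groth.Agent.* helpers here

set_option autoImplicit false
universe u
open CategoryTheory AlgebraicGeometry
open FlatMor

namespace Groth.Agent.S17886

/-- Let S be a Noetherian scheme and f : X → S separated and of finite type. Then X is covered by
finitely many affine opens U_1, …, U_n each of which is dense in X and quasi-projective over S (of
finite type with a relatively ample invertible module). -/
theorem result {S X : Scheme.{u}} (f : X ⟶ S)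
    [IsNoetherian S] [IsSeparated f] [QuasiCompact f] [LocallyOfFiniteType f] :
    ∃ (n : ℕ) (U : Fin n → X.Opens), (⨆ i, U i) = ⊤ ∧
      ∀ i, IsAffineOpen (U i) ∧ Dense ((U i : Set X)) ∧ RelProj.IsQuasiProjective ((U i).ι ≫ f) := by
  classical
  have : IsLocallyNoetherian X := LocallyOfFiniteType.isLocallyNoetherian f
  have : CompactSpace X := QuasiCompact.compactSpace_of_compactSpace f
  have : IsNoetherian X := {}
  have hfin : (irreducibleComponents X).Finite :=
    TopologicalSpace.NoetherianSpace.finite_irreducibleComponents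
  have hnb : ∀ x : X, ∃ V : X.Opens, IsAffineOpen V ∧ x ∈ V := fun x => by
    obtain ⟨V, hV, hxV, -⟩ := exists_isAffineOpen_mem_and_subset
      (show x ∈ (⊤ : X.Opens) from trivial)
    exact ⟨V, hV, hxV⟩
  choose V hV hxV using hnb
  obtain ⟨s, hs⟩ := isCompact_univ.elim_finite_subcover (fun x => (V x : Set X))
    (fun x => (V x).isOpen) (fun x _ => Set.mem_iUnion.mpr ⟨x, hxV x⟩)
  let e : Fin s.card ≃ s := (Finset.equivFinOfCardEq rfl).symm
  obtain ⟨U, Ui, hUaff, hUdense, hUi, hU, hVUi⟩ :=
    Groth.Agent.Lib.helper12.Chow6.exists_good_opens hfin (fun i : Fin s.card => V (e i))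
      (fun i => hV _)
  refine ⟨s.card, Ui, ?_, fun i => ⟨hUi i, hUdense.mono (fun x hx => hU i hx), ?_⟩⟩
  · rw [eq_top_iff]
    intro x _
    have h1 := hs (Set.mem_univ x)
    simp only [Set.mem_iUnion] at h1
    obtain ⟨y, hy, hxy⟩ := h1
    refine TopologicalSpace.Opens.mem_iSup.mpr ⟨e.symm ⟨y, hy⟩, hVUi _ ?_⟩
    change x ∈ V (e (e.symm ⟨y, hy⟩))
    rw [Equiv.apply_symm_apply]
    exact hxy
  · have : IsAffine (Ui i : Scheme.{u}) := hUi i
    exact Groth.Agent.Lib.helper12.VAmple6.isQuasiProjective_of_isHQuasiProjective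
      (Groth.Agent.Lib.helper12.VAmple6.isHQuasiProjective_of_isAmple ((Ui i).ι ≫ f)
        Groth.Agent.Lib.helper12.AmpleQAff.isAmple_structureModule_of_isQuasiAffine)


end Groth.Agent.S17886
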