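import Groth.Statements.S17887
import Mathlib
import Groth.Agent.S1571

set_option autoImplicit false
universe u
open CategoryTheory AlgebraicGeometry
open BlowUp

namespace Groth.Agent.S17887

section helpers
open CategoryTheory CategoryTheory.Limits AlgebraicGeometry


theorem main {X X' : Scheme.{u}} [IsNoetherian X]
    (U : X.Opens) [IsSchemeTheoreticallyDominant U.ι] (𝓘 : X.IdealSheafData)
    (hU : Disjoint (𝓘.support : Set X) (U : Set X)) (π : X' ⟶ X) (hπ : BlowUp.IsBlowUp π 𝓘) :
    IsSchemeTheoreticallyDominant (π ⁻¹ᵁ U).ι := by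
  set X₀ : X.Opens := 𝓘.support.compl with hX₀
  haveI : IsIso (π ∣_ X₀) := Groth.Agent.S1682.isIso_off_center 𝓘 π hπ
  set V : X'.Opens := π ⁻¹ᵁ X₀ with hV
  have hcomp : (π ∣_ X₀) ≫ X₀.ι = V.ι ≫ π := morphismRestrict_ι π X₀
  haveI : IsOpenImmersion (V.ι ≫ π) := by rw [← hcomp]; infer_instance
  -- V → X' is schematically dominant
  have hVdom : IsSchemeTheoreticallyDominant V.ι := by
    have h1 := (Groth.Agent.S1571.main X' (𝓘.comap π) hπ.1).2
    have e : (𝓘.comap π).support.compl = V := by
      ext x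
      simp only [hV, hX₀, Scheme.IdealSheafData.support_comap]
      rfl
    rw [e] at h1
    exact h1
  haveI := hVdom
  haveI : QuasiCompact U.ι := inferInstance
  -- flat base change
  have h2 : IsSchemeTheoreticallyDominant (pullback.snd U.ι (V.ι ≫ π)) := inferInstance
  haveI := h2
  set p := pullback.snd U.ι (V.ι ≫ π) ≫ V.ι with hp
  haveI : IsSchemeTheoreticallyDominant p := inferInstance
  have hUX₀ : U ≤ X₀ := by
    intro x hx hxs
    exact Set.disjoint_left.1 hU hxs hx
  have hrange : Set.range p = Set.range (π ⁻¹ᵁ U).ι := by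
    rw [hp, Scheme.Hom.comp_base, TopCat.coe_comp, Set.range_comp, Scheme.Pullback.range_snd,
      Scheme.Opens.range_ι, Scheme.Opens.range_ι]
    ext x'
    simp only [Set.mem_image, Set.mem_preimage, SetLike.mem_coe]
    constructor
    · rintro ⟨v, hv, rfl⟩
      exact hv
    · intro hx'
      have hx'V : x' ∈ V := hUX₀ hx'
      exact ⟨⟨x', hx'V⟩, hx', rfl⟩
  let e := IsOpenImmersion.isoOfRangeEq p (π ⁻¹ᵁ U).ι hrange
  have he : e.hom ≫ (π ⁻¹ᵁ U).ι = p := IsOpenImmersion.isoOfRangeEq_hom_fac _ _ _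
  refine ⟨?_⟩
  rw [← Scheme.Hom.ker_comp_of_isIso e.hom, he]
  exact Scheme.Hom.ker_eq_bot p


end helpers


/-- Let X be a Noetherian scheme, U ⊆ X an open subscheme that is schematically dense in X, I a
quasi-coherent ideal sheaf on X whose support does not meet U, and π : X' → X a blowing-up of X
along I. Then π⁻¹(U) is schematically dense in X'. -/
theorem result {X X' : Scheme.{u}} [IsNoetherian X]
    (U : X.Opens) [IsSchemeTheoreticallyDominant U.ι] (𝓘 : X.IdealSheafData)
    (hU : Disjoint (𝓘.support : Set X) (U : Set X)) (π : X' ⟶ X) (hπ : BlowUp.IsBlowUp π 𝓘) :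
    IsSchemeTheoreticallyDominant (π ⁻¹ᵁ U).ι := by
  exact main U 𝓘 hU π hπ

end Groth.Agent.S17887
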