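import Groth.Statements.S2359
import Mathlib
import Groth.Agent.Lib.Helper12.PullAmpleRel
-- import your own Groth.Agent.* helpers here

set_option autoImplicit false
universe u
open CategoryTheory CategoryTheory.Limits AlgebraicGeometry
open EGA2

namespace Groth.Agent.S2359

/-- Let f : X → Y be quasi-compact, j : X' → X a quasi-compact morphism whose underlying map is a
homeomorphism onto a subspace of X, and L an O_X-module ample relative to f. Then j^* L is ample
relative to j ≫ f. -/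
theorem result {X X' Y : Scheme.{u}} (f : X ⟶ Y) [QuasiCompact f] (j : X' ⟶ X) [QuasiCompact j]
    (hj : Topology.IsEmbedding j.base) (L : X.Modules) (hL : RelAmple.IsRelAmple f L) :
    RelAmple.IsRelAmple (j ≫ f) ((Scheme.Modules.pullback j).obj L) := by
  refine ⟨inferInstance, fun V => ?_⟩
  have hc : CompactSpace (↑((j ≫ f) ⁻¹ᵁ V.1) : Scheme.{u}) :=
    isCompact_iff_compactSpace.mp (QuasiCompact.isCompact_preimage (f := j ≫ f) _ V.1.2
      V.2.isCompact)
  have hq : Topology.IsEmbedding (j ∣_ (f ⁻¹ᵁ V.1)) := by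
    have h1 : ⇑(j ∣_ (f ⁻¹ᵁ V.1)) = (f ⁻¹ᵁ V.1).1.restrictPreimage j := by
      funext x
      exact Subtype.ext (morphismRestrict_base_coe j (f ⁻¹ᵁ V.1) x)
    rw [h1]
    exact hj.restrictPreimage _
  exact Groth.Agent.Lib.helper12.PullAmpleRel.isAmple_restrict_pullback_of_isEmbedding
    ((j ≫ f) ⁻¹ᵁ V.1).ι j (j ∣_ (f ⁻¹ᵁ V.1)) (f ⁻¹ᵁ V.1).ι (morphismRestrict_ι j (f ⁻¹ᵁ V.1)).symm hq
    (hL.2 V)

end Groth.Agent.S2359
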