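import Groth.Statements.S17891
import Groth.Agent.Lib.Helper12.RelAmpleComp
import Groth.Agent.Lib.Helper12.AmpleBasis2
import Groth.Agent.Lib.Helper12.TensorSec
import Groth.Agent.Lib.Helper11.InvPullback
import Groth.Agent.Lib.Helper11.IsoLocus
import Groth.Agent.Lib.Helper11.InvMod
import Groth.Agent.Lib.Helper16.SchDense
import Groth.Agent.S2332
import Groth.Agent.S2359


set_option autoImplicit false
universe u
open CategoryTheory AlgebraicGeometry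
open FlatMor

namespace Groth.Agent.S17891


theorem isSchemeTheoreticallyDominant_toImage {Z X : Scheme.{u}} (h : Z ⟶ X) [QuasiCompact h] :
    IsSchemeTheoreticallyDominant h.toImage :=
  ⟨Groth.Agent.Lib.helper16.SchDense.ker_toImage_eq_bot h (fun U => Scheme.Hom.ker_apply h U)⟩


/-- Here f : Y → X is an affine morphism with X and Y quasi-compact and quasi-separated; a
Y-modification of X is a factorization f = fᵢ ≫ gᵢ with fᵢ : Y → Xᵢ schematically dominant and gᵢ :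
Xᵢ → X proper, and it is a Y-blow-up of X when Xᵢ carries a gᵢ-ample module L with a section ε : O →
L whose pullback along fᵢ is an isomorphism (a Y-trivialization). Given two Y-blow-ups (X₁, f₁, g₁),
(X₂, f₂, g₂) of X there is a Y-blow-up (X₃, f₃, g₃) of X together with morphisms dᵢ : X₃ → Xᵢ
satisfying f₃ ≫ dᵢ = fᵢ and dᵢ ≫ gᵢ = g₃. -/
theorem result {X Y : Scheme.{u}} (f : Y ⟶ X)
    [CompactSpace X] [QuasiSeparatedSpace X] [CompactSpace Y] [QuasiSeparatedSpace Y] [IsAffineHom f]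
    {X₁ X₂ : Scheme.{u}} (f₁ : Y ⟶ X₁) (g₁ : X₁ ⟶ X) (f₂ : Y ⟶ X₂) (g₂ : X₂ ⟶ X)
    (h₁ : IsSchemeTheoreticallyDominant f₁ ∧ IsProper g₁ ∧ f₁ ≫ g₁ = f ∧
        ∃ (L : X₁.Modules) (ε : Coh.structureModule X₁ ⟶ L),
          RelAmple.IsRelAmple g₁ L ∧ IsIso ((Scheme.Modules.pullback f₁).map ε))
    (h₂ : IsSchemeTheoreticallyDominant f₂ ∧ IsProper g₂ ∧ f₂ ≫ g₂ = f ∧
        ∃ (L : X₂.Modules) (ε : Coh.structureModule X₂ ⟶ L),
          RelAmple.IsRelAmple g₂ L ∧ IsIso ((Scheme.Modules.pullback f₂).map ε)) :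
    ∃ (X₃ : Scheme.{u}) (f₃ : Y ⟶ X₃) (g₃ : X₃ ⟶ X) (d₁ : X₃ ⟶ X₁) (d₂ : X₃ ⟶ X₂),
      (IsSchemeTheoreticallyDominant f₃ ∧ IsProper g₃ ∧ f₃ ≫ g₃ = f ∧
        ∃ (L : X₃.Modules) (ε : Coh.structureModule X₃ ⟶ L),
          RelAmple.IsRelAmple g₃ L ∧ IsIso ((Scheme.Modules.pullback f₃).map ε)) ∧
      f₃ ≫ d₁ = f₁ ∧ d₁ ≫ g₁ = g₃ ∧ f₃ ≫ d₂ = f₂ ∧ d₂ ≫ g₂ = g₃ := by
  obtain ⟨hd1, hp1, hc1, L₁, ε₁, ha1, hi1⟩ := h₁
  obtain ⟨hd2, hp2, hc2, L₂, ε₂, ha2, hi2⟩ := h₂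
  -- the fibre product and the map from `Y`
  let q₂ : Limits.pullback g₂ g₁ ⟶ X₂ := Limits.pullback.fst g₂ g₁
  let q₁ : Limits.pullback g₂ g₁ ⟶ X₁ := Limits.pullback.snd g₂ g₁
  have hq : q₂ ≫ g₂ = q₁ ≫ g₁ := Limits.pullback.condition
  let h : Y ⟶ Limits.pullback g₂ g₁ := Limits.pullback.lift f₂ f₁ (hc2.trans hc1.symm)
  have hh2 : h ≫ q₂ = f₂ := Limits.pullback.lift_fst _ _ _
  have hh1 : h ≫ q₁ = f₁ := Limits.pullback.lift_snd _ _ _
  haveI : IsProper q₁ := by dsimp only [q₁]; infer_instance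
  haveI : IsProper (q₁ ≫ g₁) := inferInstance
  haveI : QuasiCompact (h ≫ (q₁ ≫ g₁)) := by
    rw [← Category.assoc, hh1, hc1]; infer_instance
  haveI : QuasiCompact h := QuasiCompact.of_comp h (q₁ ≫ g₁)
  let ι := h.imageι
  have hι : h.toImage ≫ ι = h := h.toImage_imageι
  refine ⟨h.image, h.toImage, ι ≫ (q₁ ≫ g₁), ι ≫ q₁, ι ≫ q₂, ⟨?_, inferInstance, ?_, ?_⟩, ?_, ?_, ?_, ?_⟩
  · exact isSchemeTheoreticallyDominant_toImage h
  · rw [← Category.assoc, hι, ← Category.assoc, hh1, hc1]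
  · -- the relatively ample module
    have hA : RelAmple.IsRelAmple q₁ ((Scheme.Modules.pullback q₂).obj L₂) :=
      Groth.Agent.S2332.result g₂ g₁ L₂ ha2
    obtain ⟨n₀, hn₀, hn⟩ :=
      Groth.Agent.Lib.helper12.RelAmpleComp.isRelAmple_comp_tensor_pullback_powers q₁ g₁ hA ha1
    have hB := hn n₀ le_rfl
    have hC := Groth.Agent.S2359.result (q₁ ≫ g₁) ι ι.isEmbedding _ hB
    have hL₁ : PicF.IsInvertible L₁ :=
      Groth.Agent.Lib.helper12.RelAmpleComp.isInvertible_of_isRelAmple g₁ ha1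
    have hL₂ : PicF.IsInvertible L₂ :=
      Groth.Agent.Lib.helper12.RelAmpleComp.isInvertible_of_isRelAmple g₂ ha2
    have hP₁ : PicF.IsInvertible (CohB1.tensorPow L₁ n₀) :=
      Groth.Agent.Lib.helper12.TensorInv.isInvertible_tensorPow hL₁ n₀
    have hQ₁ : PicF.IsInvertible ((Scheme.Modules.pullback q₁).obj (CohB1.tensorPow L₁ n₀)) :=
      Groth.Agent.Lib.helper11.InvMod.isInvertible_pullback q₁ hP₁
    have hQ₂ : PicF.IsInvertible ((Scheme.Modules.pullback q₂).obj L₂) :=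
      Groth.Agent.Lib.helper11.InvMod.isInvertible_pullback q₂ hL₂
    have hM : PicF.IsInvertible (CohB1.tensorMod ((Scheme.Modules.pullback q₂).obj L₂)
        ((Scheme.Modules.pullback q₁).obj (CohB1.tensorPow L₁ n₀))) :=
      Groth.Agent.Lib.helper12.TensorInv.isInvertible_tensorMod hQ₂ hQ₁
    let e₁ := (Groth.Agent.Lib.helper11.InvMod.pullbackUnitIso q₁).symm
    let e₂ := (Groth.Agent.Lib.helper11.InvMod.pullbackUnitIso q₂).symm
    let e₃ := (Groth.Agent.Lib.helper11.InvMod.pullbackUnitIso ι).symm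
    let s₁ : Coh.structureModule _ ⟶ (Scheme.Modules.pullback q₁).obj (CohB1.tensorPow L₁ n₀) :=
      e₁.hom ≫ (Scheme.Modules.pullback q₁).map (SecTwist.powHom ε₁ n₀)
    let s₂ : Coh.structureModule _ ⟶ (Scheme.Modules.pullback q₂).obj L₂ :=
      e₂.hom ≫ (Scheme.Modules.pullback q₂).map ε₂
    let s := SecTwist.tmulHom s₂ s₁
    refine ⟨_, e₃.hom ≫ (Scheme.Modules.pullback ι).map s, hC, ?_⟩
    have hgen : CohB1.genLocus _ s = q₂ ⁻¹ᵁ CohB1.genLocus L₂ ε₂ ⊓ q₁ ⁻¹ᵁ CohB1.genLocus L₁ ε₁ := by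
      rw [Groth.Agent.Lib.helper12.TensorSec.genLocus_tmulHom hQ₂ hQ₁,
        Groth.Agent.Lib.helper11.InvPullback.genLocus_pullback q₁ _ hP₁ _ e₁,
        Groth.Agent.Lib.helper11.InvPullback.genLocus_pullback q₂ _ hL₂ _ e₂,
        Groth.Agent.Lib.helper12.AmpleBasis2.genLocus_powHom' hL₁ ε₁ n₀ hn₀]
    have hgen3 : CohB1.genLocus _ (e₃.hom ≫ (Scheme.Modules.pullback ι).map s) =
        ι ⁻¹ᵁ (q₂ ⁻¹ᵁ CohB1.genLocus L₂ ε₂ ⊓ q₁ ⁻¹ᵁ CohB1.genLocus L₁ ε₁) := by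
      rw [Groth.Agent.Lib.helper11.InvPullback.genLocus_pullback ι _ hM _ e₃, hgen]
    have h1 : Groth.Agent.Lib.helper11.IsoLocus.isoLocus ((Scheme.Modules.pullback f₁).map ε₁) = ⊤ :=
      (Groth.Agent.Lib.helper11.IsoLocus.isoLocus_eq_top_iff _).mpr hi1
    have h2 : Groth.Agent.Lib.helper11.IsoLocus.isoLocus ((Scheme.Modules.pullback f₂).map ε₂) = ⊤ :=
      (Groth.Agent.Lib.helper11.IsoLocus.isoLocus_eq_top_iff _).mpr hi2
    rw [Groth.Agent.Lib.helper11.InvPullback.isoLocus_pullback_map f₁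
        (Groth.Agent.Lib.helper11.InvMod.isInvertible_structureModule X₁) hL₁] at h1
    rw [Groth.Agent.Lib.helper11.InvPullback.isoLocus_pullback_map f₂
        (Groth.Agent.Lib.helper11.InvMod.isInvertible_structureModule X₂) hL₂] at h2
    rw [← Groth.Agent.Lib.helper11.IsoLocus.isoLocus_eq_top_iff,
      Groth.Agent.Lib.helper11.InvPullback.isoLocus_pullback_map h.toImage
        (Groth.Agent.Lib.helper11.InvMod.isInvertible_structureModule _)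
        (Groth.Agent.Lib.helper11.InvMod.isInvertible_pullback ι hM)]
    change h.toImage ⁻¹ᵁ CohB1.genLocus _ (e₃.hom ≫ (Scheme.Modules.pullback ι).map s) = ⊤
    rw [hgen3]
    change h.toImage ⁻¹ᵁ (ι ⁻¹ᵁ (q₂ ⁻¹ᵁ Groth.Agent.Lib.helper11.IsoLocus.isoLocus ε₂ ⊓
      q₁ ⁻¹ᵁ Groth.Agent.Lib.helper11.IsoLocus.isoLocus ε₁)) = ⊤
    rw [← Scheme.Hom.comp_preimage, hι, Scheme.Hom.preimage_inf, ← Scheme.Hom.comp_preimage,
      ← Scheme.Hom.comp_preimage, hh2, hh1, h1, h2, top_inf_eq]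
  · rw [← Category.assoc, hι, hh1]
  · rw [Category.assoc]
  · rw [← Category.assoc, hι, hh2]
  · rw [Category.assoc, hq]

end Groth.Agent.S17891
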