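import Groth.Statements.S17892
import Groth.Agent.Lib.Helper12.RelAmpleComp
import Groth.Agent.Lib.Helper12.AmpleBasis2
import Groth.Agent.Lib.Helper12.TensorSec
import Groth.Agent.Lib.Helper11.InvPullback
import Groth.Agent.Lib.Helper11.IsoLocus
import Groth.Agent.Lib.Helper11.InvMod


set_option autoImplicit false
universe u
open CategoryTheory AlgebraicGeometry
open FlatMor

namespace Groth.Agent.S17892

/-- Here f : Y → X is an affine morphism with X and Y quasi-compact and quasi-separated; a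
Y-modification of X is a factorization f = fᵢ ≫ gᵢ with fᵢ : Y → Xᵢ schematically dominant and gᵢ :
Xᵢ → X proper, and it is a Y-blow-up of X when Xᵢ carries a gᵢ-ample module L with a section ε : O →
L whose pullback along fᵢ is an isomorphism (a Y-trivialization). If (Xᵢ, fᵢ, gᵢ) is a Y-blow-up of
X and (Xⱼ, fⱼ, gᵢⱼ) is a Y-blow-up of Xᵢ (with respect to fᵢ : Y → Xᵢ), then (Xⱼ, fⱼ, gᵢⱼ ≫ gᵢ) is a
Y-blow-up of X. -/
theorem result {X Y : Scheme.{u}} (f : Y ⟶ X)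
    [CompactSpace X] [QuasiSeparatedSpace X] [CompactSpace Y] [QuasiSeparatedSpace Y] [IsAffineHom f]
    {Xᵢ Xⱼ : Scheme.{u}} (fᵢ : Y ⟶ Xᵢ) (gᵢ : Xᵢ ⟶ X) (fⱼ : Y ⟶ Xⱼ) (gᵢⱼ : Xⱼ ⟶ Xᵢ)
    (hᵢ : IsSchemeTheoreticallyDominant fᵢ ∧ IsProper gᵢ ∧ fᵢ ≫ gᵢ = f ∧
        ∃ (L : Xᵢ.Modules) (ε : Coh.structureModule Xᵢ ⟶ L),
          RelAmple.IsRelAmple gᵢ L ∧ IsIso ((Scheme.Modules.pullback fᵢ).map ε))
    (hⱼ : IsSchemeTheoreticallyDominant fⱼ ∧ IsProper gᵢⱼ ∧ fⱼ ≫ gᵢⱼ = fᵢ ∧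
        ∃ (L : Xⱼ.Modules) (ε : Coh.structureModule Xⱼ ⟶ L),
          RelAmple.IsRelAmple gᵢⱼ L ∧ IsIso ((Scheme.Modules.pullback fⱼ).map ε)) :
    IsSchemeTheoreticallyDominant fⱼ ∧ IsProper (gᵢⱼ ≫ gᵢ) ∧ fⱼ ≫ (gᵢⱼ ≫ gᵢ) = f ∧
        ∃ (L : Xⱼ.Modules) (ε : Coh.structureModule Xⱼ ⟶ L),
          RelAmple.IsRelAmple (gᵢⱼ ≫ gᵢ) L ∧ IsIso ((Scheme.Modules.pullback fⱼ).map ε) := by
  obtain ⟨hdi, hpi, hci, Li, εi, hai, hii⟩ := hᵢ
  obtain ⟨hdj, hpj, hcj, Lj, εj, haj, hij⟩ := hⱼ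
  refine ⟨hdj, inferInstance, by rw [← Category.assoc, hcj, hci], ?_⟩
  obtain ⟨n₀, hn₀, hn⟩ :=
    Groth.Agent.Lib.helper12.RelAmpleComp.isRelAmple_comp_tensor_pullback_powers gᵢⱼ gᵢ haj hai
  have hLi : PicF.IsInvertible Li :=
    Groth.Agent.Lib.helper12.RelAmpleComp.isInvertible_of_isRelAmple gᵢ hai
  have hLj : PicF.IsInvertible Lj :=
    Groth.Agent.Lib.helper12.RelAmpleComp.isInvertible_of_isRelAmple gᵢⱼ haj
  have hPi : PicF.IsInvertible (CohB1.tensorPow Li n₀) :=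
    Groth.Agent.Lib.helper12.TensorInv.isInvertible_tensorPow hLi n₀
  have hPPi : PicF.IsInvertible ((Scheme.Modules.pullback gᵢⱼ).obj (CohB1.tensorPow Li n₀)) :=
    Groth.Agent.Lib.helper11.InvMod.isInvertible_pullback gᵢⱼ hPi
  let e := (Groth.Agent.Lib.helper11.InvMod.pullbackUnitIso gᵢⱼ).symm
  let t : Coh.structureModule Xⱼ ⟶ (Scheme.Modules.pullback gᵢⱼ).obj (CohB1.tensorPow Li n₀) :=
    e.hom ≫ (Scheme.Modules.pullback gᵢⱼ).map (SecTwist.powHom εi n₀)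
  refine ⟨_, SecTwist.tmulHom εj t, hn n₀ le_rfl, ?_⟩
  -- the locus where the section generates
  have hgen : CohB1.genLocus _ (SecTwist.tmulHom εj t) =
      CohB1.genLocus Lj εj ⊓ gᵢⱼ ⁻¹ᵁ CohB1.genLocus Li εi := by
    rw [Groth.Agent.Lib.helper12.TensorSec.genLocus_tmulHom hLj hPPi,
      Groth.Agent.Lib.helper11.InvPullback.genLocus_pullback gᵢⱼ _ hPi _ e,
      Groth.Agent.Lib.helper12.AmpleBasis2.genLocus_powHom' hLi εi n₀ hn₀]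
  have hInvT : PicF.IsInvertible (CohB1.tensorMod Lj
      ((Scheme.Modules.pullback gᵢⱼ).obj (CohB1.tensorPow Li n₀))) :=
    Groth.Agent.Lib.helper12.TensorInv.isInvertible_tensorMod hLj hPPi
  rw [← Groth.Agent.Lib.helper11.IsoLocus.isoLocus_eq_top_iff,
    Groth.Agent.Lib.helper11.InvPullback.isoLocus_pullback_map fⱼ
      (Groth.Agent.Lib.helper11.InvMod.isInvertible_structureModule Xⱼ) hInvT]
  have h1 : Groth.Agent.Lib.helper11.IsoLocus.isoLocus ((Scheme.Modules.pullback fⱼ).map εj) = ⊤ :=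
    (Groth.Agent.Lib.helper11.IsoLocus.isoLocus_eq_top_iff _).mpr hij
  have h2 : Groth.Agent.Lib.helper11.IsoLocus.isoLocus ((Scheme.Modules.pullback fᵢ).map εi) = ⊤ :=
    (Groth.Agent.Lib.helper11.IsoLocus.isoLocus_eq_top_iff _).mpr hii
  rw [Groth.Agent.Lib.helper11.InvPullback.isoLocus_pullback_map fⱼ
      (Groth.Agent.Lib.helper11.InvMod.isInvertible_structureModule Xⱼ) hLj] at h1
  rw [Groth.Agent.Lib.helper11.InvPullback.isoLocus_pullback_map fᵢ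
      (Groth.Agent.Lib.helper11.InvMod.isInvertible_structureModule Xᵢ) hLi] at h2
  change fⱼ ⁻¹ᵁ CohB1.genLocus _ (SecTwist.tmulHom εj t) = ⊤
  rw [hgen]
  change fⱼ ⁻¹ᵁ (Groth.Agent.Lib.helper11.IsoLocus.isoLocus εj ⊓
    gᵢⱼ ⁻¹ᵁ Groth.Agent.Lib.helper11.IsoLocus.isoLocus εi) = ⊤
  rw [Scheme.Hom.preimage_inf, h1, ← Scheme.Hom.comp_preimage, hcj, h2, top_inf_eq]

end Groth.Agent.S17892
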