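import Groth.Statements.S17904
import Mathlib
import Groth.Agent.Lib.Helper12.RSPushout1
import Groth.Agent.Lib.Helper12.RSPushout3
import Groth.Agent.Lib.Helper12.FerrandBC7

set_option autoImplicit false
universe u
open CategoryTheory AlgebraicGeometry
open Pinch

namespace Groth.Agent.S17904

/-- Let S be a scheme and Z → X, Z → Z', X → X', Z' → X' a commutative square of S-schemes in which Z →
X and Z' → X' are closed immersions and Z → Z' and X → X' are affine, which is a pushout square in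
the category of ringed spaces, with X, Z and Z' flat over S. Then for every morphism T → S the
square of base changes Z_T → X_T, Z_T → Z'_T, X_T → X'_T, Z'_T → X'_T is a pushout square in the
category of ringed spaces. -/
theorem result {S X Z Z' X' : Scheme.{u}}
    (fX : X ⟶ S) (fZ' : Z' ⟶ S) (fX' : X' ⟶ S) (ι : Z ⟶ X) (q : Z ⟶ Z') (π : X ⟶ X') (ι' : Z' ⟶ X')
    [IsClosedImmersion ι] [IsClosedImmersion ι'] [IsAffineHom q] [IsAffineHom π]
    (hq : q ≫ fZ' = ι ≫ fX) (hπ : π ≫ fX' = fX) (hι' : ι' ≫ fX' = fZ')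
    (hpo : IsPushout ((Scheme.forgetToLocallyRingedSpace ⋙ LocallyRingedSpace.forgetToSheafedSpace).map ι) ((Scheme.forgetToLocallyRingedSpace ⋙ LocallyRingedSpace.forgetToSheafedSpace).map q)
      ((Scheme.forgetToLocallyRingedSpace ⋙ LocallyRingedSpace.forgetToSheafedSpace).map π) ((Scheme.forgetToLocallyRingedSpace ⋙ LocallyRingedSpace.forgetToSheafedSpace).map ι'))
    [Flat fX] [Flat (ι ≫ fX)] [Flat fZ']
    {T : Scheme.{u}} (g : T ⟶ S) :
    IsPushout
      ((Scheme.forgetToLocallyRingedSpace ⋙ LocallyRingedSpace.forgetToSheafedSpace).map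
        ((Over.pullback g).map (Over.homMk ι rfl : Over.mk (ι ≫ fX) ⟶ Over.mk fX)).left)
      ((Scheme.forgetToLocallyRingedSpace ⋙ LocallyRingedSpace.forgetToSheafedSpace).map
        ((Over.pullback g).map (Over.homMk q hq : Over.mk (ι ≫ fX) ⟶ Over.mk fZ')).left)
      ((Scheme.forgetToLocallyRingedSpace ⋙ LocallyRingedSpace.forgetToSheafedSpace).map
        ((Over.pullback g).map (Over.homMk π hπ : Over.mk fX ⟶ Over.mk fX')).left)
      ((Scheme.forgetToLocallyRingedSpace ⋙ LocallyRingedSpace.forgetToSheafedSpace).map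
        ((Over.pullback g).map (Over.homMk ι' hι' : Over.mk fZ' ⟶ Over.mk fX')).left) := by
  have hP : IsPushout ι q π ι' := Groth.Agent.Lib.Helper12.RSPushout.isPushout_of_sheafedSpace hpo
  have hcov : ∀ y : Z', ∃ (U : X.Opens) (V : Z'.Opens), IsAffineOpen U ∧ IsAffineOpen V ∧ y ∈ V ∧
      ι ⁻¹ᵁ U = q ⁻¹ᵁ V := by
    intro y
    obtain ⟨W, hW, hyW, -⟩ := exists_isAffineOpen_mem_and_subset (x := ι'.base y) (U := ⊤) trivial
    refine ⟨π ⁻¹ᵁ W, ι' ⁻¹ᵁ W, hW.preimage π, hW.preimage ι', hyW, ?_⟩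
    rw [← Scheme.Hom.comp_preimage, ← Scheme.Hom.comp_preimage, hP.w]
  have key := Groth.Agent.Lib.Helper12.FerrandBC7.isPushout_baseChange_of_isPushout ι q hcov π ι' hP
    fX' g fX fZ' (ι ≫ fX) hπ hι' rfl hq (Or.inr inferInstance)
  have h1 : IsClosedImmersion
      ((Over.pullback g).map (Over.homMk ι rfl : Over.mk (ι ≫ fX) ⟶ Over.mk fX)).left :=
    MorphismProperty.of_isPullback (P := @IsClosedImmersion)
      (Groth.Agent.Lib.Helper12.FerrandBC5.isPullback_over_map g
        (Over.homMk ι rfl : Over.mk (ι ≫ fX) ⟶ Over.mk fX)) (inferInstanceAs (IsClosedImmersion ι))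
  have h2 : IsAffineHom
      ((Over.pullback g).map (Over.homMk π hπ : Over.mk fX ⟶ Over.mk fX')).left :=
    MorphismProperty.of_isPullback (P := @IsAffineHom)
      (Groth.Agent.Lib.Helper12.FerrandBC5.isPullback_over_map g
        (Over.homMk π hπ : Over.mk fX ⟶ Over.mk fX')) (inferInstanceAs (IsAffineHom π))
  have h3 : IsAffineHom
      ((Over.pullback g).map (Over.homMk ι' hι' : Over.mk fZ' ⟶ Over.mk fX')).left :=
    MorphismProperty.of_isPullback (P := @IsAffineHom)
      (Groth.Agent.Lib.Helper12.FerrandBC5.isPullback_over_map g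
        (Over.homMk ι' hι' : Over.mk fZ' ⟶ Over.mk fX')) (inferInstanceAs (IsAffineHom ι'))
  refine Groth.Agent.Lib.Helper12.RSPushout3.isPushout_sheafedSpace_of_goodPairs ?_ key
  intro y
  obtain ⟨W, hW, hyW, -⟩ := exists_isAffineOpen_mem_and_subset
    (x := ((Over.pullback g).map (Over.homMk ι' hι' : Over.mk fZ' ⟶ Over.mk fX')).left.base y)
    (U := ⊤) trivial
  refine ⟨⟨((Over.pullback g).map (Over.homMk π hπ : Over.mk fX ⟶ Over.mk fX')).left ⁻¹ᵁ W,
    ((Over.pullback g).map (Over.homMk ι' hι' : Over.mk fZ' ⟶ Over.mk fX')).left ⁻¹ᵁ W,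
    hW.preimage _, hW.preimage _, ?_⟩, hyW⟩
  rw [← Scheme.Hom.comp_preimage, ← Scheme.Hom.comp_preimage, key.w]

end Groth.Agent.S17904
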