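import Groth.Statements.S17905
import Mathlib
import Groth.Agent.Lib.Helper12.RSPushout1
import Groth.Agent.Lib.Helper12.FerrandBC7
import Groth.Agent.Lib.Helper12.FerrandBC11
import Groth.Agent.Lib.Helper4.TorsorFpqc4

set_option autoImplicit false
universe u
open CategoryTheory AlgebraicGeometry
open Pinch

namespace Groth.Agent.S17905

open Groth.Agent.Lib.Helper12.FerrandBC5 in
/-- The case `U = ⊤`, for a pushout of schemes. -/
theorem top_case {S X Z Z' X' : Scheme.{u}}
    (fX : X ⟶ S) (fZ' : Z' ⟶ S) (fX' : X' ⟶ S) (ι : Z ⟶ X) (q : Z ⟶ Z') (π : X ⟶ X') (ι' : Z' ⟶ X')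
    [IsClosedImmersion ι] [Flat q] [Surjective q]
    (hq : q ≫ fZ' = ι ≫ fX) (hπ : π ≫ fX' = fX) (hι' : ι' ≫ fX' = fZ')
    (hP : IsPushout ι q π ι')
    (hcov : ∀ y : Z', ∃ (U : X.Opens) (V : Z'.Opens), IsAffineOpen U ∧ IsAffineOpen V ∧ y ∈ V ∧
      ι ⁻¹ᵁ U = q ⁻¹ᵁ V)
    [Flat (ι ≫ fX)]
    (T : Scheme.{u}) (g : T ⟶ S) (hX : IsIso ((Limits.pullback.snd fX g).appTop)) :
    IsIso ((Limits.pullback.snd fX' g).appTop) := by
  let mι : Over.mk (ι ≫ fX) ⟶ Over.mk fX := Over.homMk ι rfl
  let mq : Over.mk (ι ≫ fX) ⟶ Over.mk fZ' := Over.homMk q hq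
  let mπ : Over.mk fX ⟶ Over.mk fX' := Over.homMk π hπ
  let mι' : Over.mk fZ' ⟶ Over.mk fX' := Over.homMk ι' hι'
  have hPT : IsPushout ((Over.pullback g).map mι).left ((Over.pullback g).map mq).left
      ((Over.pullback g).map mπ).left ((Over.pullback g).map mι').left :=
    Groth.Agent.Lib.Helper12.FerrandBC7.isPushout_baseChange_of_isPushout ι q hcov π ι' hP fX' g fX fZ'
      (ι ≫ fX) hπ hι' rfl hq (Or.inr inferInstance)
  set ιT := ((Over.pullback g).map mι).left with hιT
  set qT := ((Over.pullback g).map mq).left with hqT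
  set πT := ((Over.pullback g).map mπ).left with hπT
  set ι'T := ((Over.pullback g).map mι').left with hι'T
  have hsnd : πT ≫ Limits.pullback.snd fX' g = Limits.pullback.snd fX g := over_map_snd g mπ
  have hqTflat : Flat qT :=
    MorphismProperty.of_isPullback (P := @Flat) (isPullback_over_map g mq)
      (show Flat q from inferInstance)
  have hqTsurj : Surjective qT :=
    MorphismProperty.of_isPullback (P := @Surjective) (isPullback_over_map g mq)
      (show Surjective q from inferInstance)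
  have hqinj : Function.Injective (qT.appTop).hom :=
    Groth.Agent.Lib.Helper12.FerrandBC11.app_injective_of_flat_surjective qT ⊤
  -- injectivity of `πT` on global sections
  have hπinj : Function.Injective (πT.appTop).hom := by
    rw [injective_iff_map_eq_zero]
    intro c hc
    have h1 : (ι'T.appTop).hom c = 0 := by
      apply hqinj
      rw [map_zero]
      have h2 : ι'T.appTop ≫ qT.appTop = πT.appTop ≫ ιT.appTop := by
        rw [← Scheme.Hom.comp_appTop, ← Scheme.Hom.comp_appTop, hPT.w]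
      have h3 := congrArg (fun φ => φ.hom c) h2
      simp only [CommRingCat.hom_comp, RingHom.comp_apply] at h3
      rw [h3, hc, map_zero]
    apply Groth.Agent.Lib.Helper4.TorsorFpqc4.toA1_injective
    apply hPT.hom_ext
    · rw [Groth.Agent.Lib.Helper4.TorsorFpqc4.comp_toA1,
        Groth.Agent.Lib.Helper4.TorsorFpqc4.comp_toA1, hc, map_zero]
    · rw [Groth.Agent.Lib.Helper4.TorsorFpqc4.comp_toA1,
        Groth.Agent.Lib.Helper4.TorsorFpqc4.comp_toA1, h1, map_zero]
  have hcomp : (Limits.pullback.snd fX g).appTop =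
      (Limits.pullback.snd fX' g).appTop ≫ πT.appTop := by
    rw [← Scheme.Hom.comp_appTop, hsnd]
  have hbij : Function.Bijective ((Limits.pullback.snd fX g).appTop).hom :=
    (ConcreteCategory.isIso_iff_bijective _).mp hX
  rw [ConcreteCategory.isIso_iff_bijective]
  constructor
  · intro a b hab
    apply hbij.1
    rw [hcomp]
    simp only [CommRingCat.hom_comp, RingHom.comp_apply]
    exact congrArg _ hab
  · intro c
    obtain ⟨a, ha⟩ := hbij.2 ((πT.appTop).hom c)
    refine ⟨a, hπinj ?_⟩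
    rw [hcomp] at ha
    simpa only [CommRingCat.hom_comp, RingHom.comp_apply] using ha

theorem isIso_app_congr {Y T : Scheme.{u}} (f : Y ⟶ T) (V V' : T.Opens) (h : V = V')
    (hV : IsIso (f.app V)) : IsIso (f.app V') := by
  subst h; exact hV

theorem isIso_app_of_restrict {Y T : Scheme.{u}} (f : Y ⟶ T) (U : T.Opens)
    (h : IsIso ((f ∣_ U).appTop)) : IsIso (f.app U) := by
  rw [morphismRestrict_appTop] at h
  have h2 : IsIso (f.app (U.ι ''ᵁ ⊤)) :=
    @IsIso.of_isIso_comp_right _ _ _ _ _ (f.app (U.ι ''ᵁ ⊤))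
      (Y.presheaf.map (eqToHom (image_morphismRestrict_preimage f U ⊤)).op) inferInstance h
  exact isIso_app_congr f _ _ (Scheme.Opens.ι_image_top U) h2

theorem isIso_app_of_pullback {X' S T : Scheme.{u}} (fX' : X' ⟶ S) (g : T ⟶ S) (U : T.Opens)
    (h : IsIso ((Limits.pullback.snd fX' (U.ι ≫ g)).appTop)) :
    IsIso ((Limits.pullback.snd fX' g).app U) := by
  apply isIso_app_of_restrict
  have e1 := Limits.pullbackLeftPullbackSndIso_hom_snd fX' g U.ι
  have e2 := pullbackRestrictIsoRestrict_hom_morphismRestrict (Limits.pullback.snd fX' g) U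
  have h3 : Limits.pullback.snd fX' g ∣_ U =
      (pullbackRestrictIsoRestrict (Limits.pullback.snd fX' g) U).inv ≫
        (Limits.pullbackLeftPullbackSndIso fX' g U.ι).hom ≫
          Limits.pullback.snd fX' (U.ι ≫ g) := by
    rw [e1, ← e2, Iso.inv_hom_id_assoc]
  rw [h3, Scheme.Hom.comp_appTop, Scheme.Hom.comp_appTop]
  have i1 : IsIso (Scheme.Hom.appTop (Limits.pullbackLeftPullbackSndIso fX' g U.ι).hom) :=
    show IsIso (Scheme.Hom.app (Limits.pullbackLeftPullbackSndIso fX' g U.ι).hom ⊤) from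
      inferInstance
  have i2 : IsIso (Scheme.Hom.appTop
      (pullbackRestrictIsoRestrict (Limits.pullback.snd fX' g) U).inv) :=
    show IsIso (Scheme.Hom.app (pullbackRestrictIsoRestrict (Limits.pullback.snd fX' g) U).inv ⊤)
      from inferInstance
  have i3 := @IsIso.comp_isIso _ _ _ _ _ _ _ h i1
  exact @IsIso.comp_isIso _ _ _ _ _ _ _ i3 i2


/-- Let S be a scheme and Z → X, Z → Z', X → X', Z' → X' a commutative square of S-schemes which is a
pushout square in the category of ringed spaces, with Z → X and Z' → X' closed immersions, X → X'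
affine, Z → Z' finite, flat and surjective, and X, Z, Z' flat over S. Suppose that for every T → S
the map O_T → (f_T)_* O_{X_T} induced by the base change f_T : X_T → T of X → S is an isomorphism.
Then for every T → S the map O_T → (f'_T)_* O_{X'_T} induced by the base change of X' → S is an
isomorphism. (The published lemma is stated for the pinching of a finite surjective Z → Z' whose
fibres lie in affine opens of X, with X → S admitting a section; this row assumes X → X' only affine
and drops the affine-fibre and section conditions, which the printed proof does not use.) -/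
theorem result {S X Z Z' X' : Scheme.{u}}
    (fX : X ⟶ S) (fZ' : Z' ⟶ S) (fX' : X' ⟶ S) (ι : Z ⟶ X) (q : Z ⟶ Z') (π : X ⟶ X') (ι' : Z' ⟶ X')
    [IsClosedImmersion ι] [IsClosedImmersion ι'] [IsFinite q] [Flat q] [Surjective q] [IsAffineHom π]
    (hq : q ≫ fZ' = ι ≫ fX) (hπ : π ≫ fX' = fX) (hι' : ι' ≫ fX' = fZ')
    (hpo : IsPushout ((Scheme.forgetToLocallyRingedSpace ⋙ LocallyRingedSpace.forgetToSheafedSpace).map ι) ((Scheme.forgetToLocallyRingedSpace ⋙ LocallyRingedSpace.forgetToSheafedSpace).map q)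
      ((Scheme.forgetToLocallyRingedSpace ⋙ LocallyRingedSpace.forgetToSheafedSpace).map π) ((Scheme.forgetToLocallyRingedSpace ⋙ LocallyRingedSpace.forgetToSheafedSpace).map ι'))
    [Flat fX] [Flat (ι ≫ fX)] [Flat fZ']
    (hX : ∀ (T : Scheme.{u}) (g : T ⟶ S) (U : T.Opens), IsIso ((Limits.pullback.snd fX g).app U))
    (T : Scheme.{u}) (g : T ⟶ S) (U : T.Opens) :
    IsIso ((Limits.pullback.snd fX' g).app U) := by
  have hP : IsPushout ι q π ι' := Groth.Agent.Lib.Helper12.RSPushout.isPushout_of_sheafedSpace hpo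
  have hcov : ∀ y : Z', ∃ (U : X.Opens) (V : Z'.Opens), IsAffineOpen U ∧ IsAffineOpen V ∧ y ∈ V ∧
      ι ⁻¹ᵁ U = q ⁻¹ᵁ V := by
    intro y
    obtain ⟨W, hW, hyW, -⟩ := exists_isAffineOpen_mem_and_subset (x := ι'.base y) (U := ⊤) trivial
    refine ⟨π ⁻¹ᵁ W, ι' ⁻¹ᵁ W, hW.preimage π, hW.preimage ι', hyW, ?_⟩
    rw [← Scheme.Hom.comp_preimage, ← Scheme.Hom.comp_preimage, hP.w]
  apply isIso_app_of_pullback
  exact top_case fX fZ' fX' ι q π ι' hq hπ hι' hP hcov U.toScheme (U.ι ≫ g) (hX _ _ ⊤)

end Groth.Agent.S17905
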