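import Groth.Statements.S17910
import Mathlib

set_option autoImplicit false
universe u
open scoped TensorProduct
open SymTen

namespace Groth.Agent.S17910

section aux

variable (R : Type u) [CommRing R] (A : Type u) [CommRing A] [Algebra R A]
  (P : Type u) [AddCommGroup P] [Module R P] [Module A P] [IsScalarTower R A P] (d : ℕ)

lemma tpowAct_tprod (α : Fin d → A) (p : Fin d → P) :
    SymTen.tpowAct R A P d (PiTensorProduct.tprod R α) (PiTensorProduct.tprod R p) =
      PiTensorProduct.tprod R (fun i => α i • p i) := by
  unfold SymTen.tpowAct
  rw [PiTensorProduct.lift.tprod]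
  simp [PiTensorProduct.mapMultilinear, PiTensorProduct.map_tprod]

lemma reindex_tpowAct (σ : Equiv.Perm (Fin d)) (a : ⨂[R] _ : Fin d, A) (x : ⨂[R] _ : Fin d, P) :
    PiTensorProduct.reindex R (fun _ : Fin d => P) σ (SymTen.tpowAct R A P d a x) =
      SymTen.tpowAct R A P d (PiTensorProduct.reindex R (fun _ : Fin d => A) σ a)
        (PiTensorProduct.reindex R (fun _ : Fin d => P) σ x) := by
  induction a using PiTensorProduct.induction_on with
  | smul_tprod r α =>
    induction x using PiTensorProduct.induction_on with
    | smul_tprod s p =>
      simp only [map_smul, LinearMap.smul_apply, PiTensorProduct.reindex_tprod, tpowAct_tprod]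
    | add x y hx hy => simp only [map_add, hx, hy]
  | add a b ha hb => simp only [map_add, LinearMap.add_apply, ha, hb]

end aux

section alt

variable (R : Type u) [CommRing R] (P : Type u) [AddCommGroup P] [Module R P] (d : ℕ)

lemma tprod_mem_altSpan (p : Fin d → P) (i j : Fin d) (hij : i ≠ j) (h : p i = p j) :
    PiTensorProduct.tprod R p ∈ SymTen.altSpan R P d :=
  Submodule.subset_span ⟨p, i, j, hij, h, rfl⟩

lemma T_mem (q : Fin d → P) (i j : Fin d) (hij : i ≠ j) (a : P) :
    PiTensorProduct.tprod R (Function.update (Function.update q i a) j a) ∈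
      SymTen.altSpan R P d := by
  apply tprod_mem_altSpan R P d _ i j hij
  rw [Function.update_self, Function.update_of_ne hij, Function.update_self]

/-- `q + q ∘ τ` lies in the alternating span. -/
lemma tprod_add_swap_mem (q : Fin d → P) (i j : Fin d) (hij : i ≠ j) :
    PiTensorProduct.tprod R q + PiTensorProduct.tprod R (fun t => q (Equiv.swap i j t)) ∈
      SymTen.altSpan R P d := by
  classical
  set T : P → P → (⨂[R] _ : Fin d, P) := fun a b =>
    PiTensorProduct.tprod R (Function.update (Function.update q i a) j b) with hT
  have hTadd2 : ∀ a b b', T a (b + b') = T a b + T a b' := by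
    intro a b b'
    simp only [hT]
    exact (PiTensorProduct.tprod R (s := fun _ : Fin d => P)).map_update_add
      (Function.update q i a) j b b'
  have hTadd1 : ∀ a a' b, T (a + a') b = T a b + T a' b := by
    intro a a' b
    simp only [hT]
    rw [Function.update_comm (β := fun _ : Fin d => P) hij (a + a') b q,
      Function.update_comm (β := fun _ : Fin d => P) hij a b q,
      Function.update_comm (β := fun _ : Fin d => P) hij a' b q]
    exact (PiTensorProduct.tprod R (s := fun _ : Fin d => P)).map_update_add
      (Function.update q j b) i a a'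
  have h1 : PiTensorProduct.tprod R q = T (q i) (q j) := by
    simp only [hT]
    rw [Function.update_eq_self, Function.update_eq_self]
  have h2 : PiTensorProduct.tprod R (fun t => q (Equiv.swap i j t)) = T (q j) (q i) := by
    simp only [hT]
    congr 1
    funext t
    by_cases htj : t = j
    · subst htj
      rw [Function.update_self, Equiv.swap_apply_right]
    · rw [Function.update_of_ne htj]
      by_cases hti : t = i
      · subst hti
        rw [Function.update_self, Equiv.swap_apply_left]
      · rw [Function.update_of_ne hti, Equiv.swap_apply_of_ne_of_ne hti htj]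
  have h3 : T (q i) (q j) + T (q j) (q i) =
      T (q i + q j) (q i + q j) - T (q i) (q i) - T (q j) (q j) := by
    rw [hTadd1, hTadd2, hTadd2]
    abel
  rw [h1, h2, h3]
  exact Submodule.sub_mem _ (Submodule.sub_mem _ (T_mem R P d q i j hij _) (T_mem R P d q i j hij _))
    (T_mem R P d q i j hij _)

end alt

section free

variable (R : Type u) [CommRing R] (d : ℕ)

open PiTensorProduct in
lemma free_case (n : ℕ) (i j : Fin d) (hij : i ≠ j) (y : ⨂[R] _ : Fin d, (Fin n → R))
    (hy : PiTensorProduct.reindex R (fun _ : Fin d => (Fin n → R)) (Equiv.swap i j) y = y) :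
    y ∈ SymTen.altSpan R (Fin n → R) d := by
  classical
  set b := Pi.basisFun R (Fin n) with hb
  set B := _root_.Basis.piTensorProduct (fun _ : Fin d => b) with hBdef
  have hB : ∀ f, B f = tprod R (fun t => b (f t)) := fun f =>
    _root_.Basis.piTensorProduct_apply _ f
  set τ := Equiv.swap i j with hτ
  have hττ : ∀ t, τ (τ t) = t := fun t => Equiv.swap_apply_self i j t
  have hre : ∀ f : Fin d → Fin n, reindex R (fun _ : Fin d => (Fin n → R)) τ (B f) =
      B (fun t => f (τ t)) := by
    intro f
    rw [hB, reindex_tprod, hB, hτ, Equiv.symm_swap]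
  have hrepr : ∀ (z : ⨂[R] _ : Fin d, (Fin n → R)) (g : Fin d → Fin n),
      B.repr (reindex R (fun _ : Fin d => (Fin n → R)) τ z) g = B.repr z (fun t => g (τ t)) := by
    intro z g
    have : (Finsupp.lapply g ∘ₗ B.repr.toLinearMap ∘ₗ
        (reindex R (fun _ : Fin d => (Fin n → R)) τ).toLinearMap) =
        (Finsupp.lapply (fun t => g (τ t)) ∘ₗ B.repr.toLinearMap) := by
      apply B.ext
      intro f
      simp only [LinearMap.comp_apply, LinearEquiv.coe_coe, hre, Module.Basis.repr_self,
        Finsupp.lapply_apply, Finsupp.single_apply]
      congr 1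
      apply propext
      constructor
      · intro h; rw [← h]; funext t; simp only [hττ]
      · intro h; rw [h]; funext t; simp only [hττ]
    exact LinearMap.congr_fun this z
  set c := B.repr y with hc
  have hcτ : ∀ g : Fin d → Fin n, c (fun t => g (τ t)) = c g := by
    intro g
    rw [hc, ← hrepr, hy]
  have hsum : y = ∑ f : Fin d → Fin n, c f • B f := (B.sum_repr y).symm
  have htri : ∀ f : Fin d → Fin n, c f • B f =
      (if f i = f j then c f • B f else 0) + (if f i < f j then c f • B f else 0) +
        (if f j < f i then c f • B f else 0) := by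
    intro f
    rcases lt_trichotomy (f i) (f j) with h | h | h
    · simp [h, h.ne, h.not_gt]
    · simp [h]
    · simp [h, h.ne', h.not_gt]
  let e : Equiv.Perm (Fin d → Fin n) :=
    Function.Involutive.toPerm (fun f t => f (τ t)) (fun f => by funext t; simp only [hττ])
  have h3 : ∑ f : Fin d → Fin n, (if f j < f i then c f • B f else 0) =
      ∑ f : Fin d → Fin n, (if f i < f j then c f • B (fun t => f (τ t)) else 0) := by
    rw [← Equiv.sum_comp e]
    apply Finset.sum_congr rfl
    intro f _
    change (if f (τ j) < f (τ i) then c (fun t => f (τ t)) • B (fun t => f (τ t)) else 0) = _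
    rw [hcτ, hτ, Equiv.swap_apply_left, Equiv.swap_apply_right]
  rw [hsum, Finset.sum_congr rfl (fun f _ => htri f), Finset.sum_add_distrib,
    Finset.sum_add_distrib, h3, add_assoc, ← Finset.sum_add_distrib]
  apply Submodule.add_mem
  · apply Submodule.sum_mem
    intro f _
    split_ifs with h
    · apply Submodule.smul_mem
      rw [hB]
      exact tprod_mem_altSpan R _ d _ i j hij (by rw [h])
    · exact Submodule.zero_mem _
  · apply Submodule.sum_mem
    intro f _
    split_ifs with h
    · rw [← smul_add]
      apply Submodule.smul_mem
      rw [hB, hB]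
      exact tprod_add_swap_mem R _ d (fun t => b (f t)) i j hij
    · rw [add_zero]; exact Submodule.zero_mem _

end free

section proj

variable (R : Type u) [CommRing R] (P : Type u) [AddCommGroup P] [Module R P]
  [Module.Finite R P] [Module.Projective R P] (d : ℕ)

open PiTensorProduct in
lemma invariant_mem_altSpan (i j : Fin d) (hij : i ≠ j) (y : ⨂[R] _ : Fin d, P)
    (hy : PiTensorProduct.reindex R (fun _ : Fin d => P) (Equiv.swap i j) y = y) :
    y ∈ SymTen.altSpan R P d := by
  obtain ⟨n, π, hπ⟩ := Module.Finite.exists_fin' R P
  obtain ⟨ι, hι⟩ := Module.projective_lifting_property π LinearMap.id hπ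
  set y' := PiTensorProduct.map (fun _ : Fin d => ι) y with hy'def
  have hy' : PiTensorProduct.reindex R (fun _ : Fin d => (Fin n → R)) (Equiv.swap i j) y' = y' := by
    rw [hy'def, ← PiTensorProduct.map_reindex (fun _ : Fin d => ι) (Equiv.swap i j) y, hy]
  have hmem := free_case R d n i j hij y' hy'
  have hback : PiTensorProduct.map (fun _ : Fin d => π) y' = y := by
    rw [hy'def, ← LinearMap.comp_apply, ← PiTensorProduct.map_comp, hι, PiTensorProduct.map_id]
    rfl
  have hmap : ∀ z ∈ SymTen.altSpan R (Fin n → R) d,
      PiTensorProduct.map (fun _ : Fin d => π) z ∈ SymTen.altSpan R P d := by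
    intro z hz
    unfold SymTen.altSpan at hz
    induction hz using Submodule.span_induction with
    | mem z hz =>
      obtain ⟨p, i', j', hij', hp, rfl⟩ := hz
      rw [PiTensorProduct.map_tprod]
      exact tprod_mem_altSpan R P d _ i' j' hij' (by rw [hp])
    | zero => rw [map_zero]; exact Submodule.zero_mem _
    | add a b _ _ ha hb => rw [map_add]; exact Submodule.add_mem _ ha hb
    | smul r a _ ha => rw [map_smul]; exact Submodule.smul_mem _ _ ha
  rw [← hback]
  exact hmap _ hmem

end proj

/-- Let R be a commutative ring, A a commutative R-algebra, d ≥ 0, and P an A-module that is finitely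
generated projective (finite locally free) as an R-module. Let the d-fold tensor power of A over R
act on the d-fold tensor power of P over R factor by factor, and let I_d be the R-span of the pure
tensors p_1 ⊗ ⋯ ⊗ p_d with two equal factors p_i = p_j, i ≠ j (the submodule by which the tensor
power is divided to give the d-th exterior power). Then every symmetric tensor a ∈ TS^d_R(A) maps
I_d into itself, so that TS^d_R(A) acts on the d-th exterior power of P over R. -/
theorem result (R : Type u) [CommRing R] (A : Type u) [CommRing A] [Algebra R A]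
    (P : Type u) [AddCommGroup P] [Module R P] [Module A P] [IsScalarTower R A P]
    [Module.Finite R P] [Module.Projective R P] (d : ℕ)
    (a : ⨂[R] _ : Fin d, A) (ha : a ∈ SymTen.TS R A d)
    (x : ⨂[R] _ : Fin d, P) (hx : x ∈ SymTen.altSpan R P d) :
    SymTen.tpowAct R A P d a x ∈ SymTen.altSpan R P d := by
  unfold SymTen.altSpan at hx
  induction hx using Submodule.span_induction with
  | mem x hx =>
    obtain ⟨p, i, j, hij, hp, rfl⟩ := hx
    apply invariant_mem_altSpan R P d i j hij
    rw [reindex_tpowAct, (SymTen.mem_TS_iff R A d a).mp ha, PiTensorProduct.reindex_tprod]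
    congr 2
    funext t
    rw [Equiv.symm_swap]
    by_cases hti : t = i
    · subst hti; rw [Equiv.swap_apply_left, hp]
    · by_cases htj : t = j
      · subst htj; rw [Equiv.swap_apply_right, hp]
      · rw [Equiv.swap_apply_of_ne_of_ne hti htj]
  | zero => rw [map_zero]; exact Submodule.zero_mem _
  | add a b _ _ ha hb => rw [map_add]; exact Submodule.add_mem _ ha hb
  | smul r a _ ha => rw [map_smul]; exact Submodule.smul_mem _ _ ha

end Groth.Agent.S17910
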