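import Groth.Statements.S17911
import Mathlib
import Groth.Agent.Lib.Helper4.GerbFF

set_option autoImplicit false
universe u
open CategoryTheory AlgebraicGeometry
open Gerb

namespace Groth.Agent.S17911

/-- Let S be a scheme and let 𝒳, 𝒴 be gerbes over the big fppf site of schemes over S (stacks in
groupoids in which objects exist locally and any two objects over the same scheme are locally
isomorphic), and let φ : 𝒳 → 𝒴 be a functor over Sch_S. Suppose 𝒳 has an object s over S itself such
that, for every object x of 𝒳 admitting a morphism to s (that is, for every pullback of s), φ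
induces a bijection from the automorphisms of x over the identity to those of φ(x) — the induced
homomorphism of automorphism sheaves Aut(s) → Aut(φ s) is an isomorphism. Then φ is an equivalence
over Sch_S: some functor over Sch_S in the other direction is inverse to φ up to isomorphisms over
Sch_S. -/
theorem result (S : Scheme.{u}) (𝒳 𝒴 : AlgSt.Cat S)
    (h𝒳 : Gerb.IsGerbe (QuotSh.J Scheme.fppfPrecoverage S) 𝒳)
    (h𝒴 : Gerb.IsGerbe (QuotSh.J Scheme.fppfPrecoverage S) 𝒴)
    (φ : 𝒳 ⥤ᵇ 𝒴) (s : 𝒳.obj) (hs : 𝒳.p.obj s = Over.mk (𝟙 S))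
    (hφ : ∀ (x : 𝒳.obj) (c : x ⟶ s), Function.Bijective (Gerb.autMap φ x)) :
    FibCat.IsEquivOver φ := by
  have hne : ∀ U : Over S, Nonempty (U ⟶ 𝒳.p.obj s) := fun U => by
    rw [hs]
    exact ⟨Over.mkIdTerminal.from U⟩
  have hfaith : φ.toFunctor.Faithful :=
    Groth.Agent.Lib.helper4.GerbFF.faithful_of_injective _ h𝒳 h𝒴.1.1 φ s hne (fun y' ⟨c⟩ => (hφ y' c).1)
  have hfull : φ.toFunctor.Full :=
    Groth.Agent.Lib.helper4.GerbFF.full_of_surjective _ h𝒳 h𝒴.1.1
      (Groth.Agent.Lib.helper4.GerbLocal.faithful_of_isStack _ h𝒴.1) φ s hne (fun y' ⟨c⟩ => (hφ y' c).2)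
  apply Groth.Agent.FibEquiv.isEquivOver_of φ
  intro z
  obtain ⟨R, hR, hloc⟩ := Groth.Agent.Lib.helper4.GerbFF.locEssSurj _ h𝒳 h𝒴 φ z
  have h1 := h𝒳.1.2 R hR
  have h2 := h𝒴.1.2 R hR
  unfold Stk.IsStackFor Stk.resSieve at h1 h2
  exact Groth.Agent.StkLocal.essImage_of_locally φ h𝒴.1.1 z R inferInstance inferInstance inferInstance hloc

end Groth.Agent.S17911
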