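import Groth.Statements.S17913
import Mathlib
import Groth.Agent.Lib.Helper4.GerbFF

set_option autoImplicit false
universe u
open CategoryTheory AlgebraicGeometry
open Gerb

namespace Groth.Agent.S17913

open Groth.Agent.Lib.helper4.Descent Groth.Agent.Lib.helper4.GerbLocal Groth.Agent.Lib.helper4.GerbFF in
theorem aux {C : Type*} [Category C] (J : GrothendieckTopology C) {𝒳 : BasedCategory C} {𝒴 : BasedCategory C}
    (h𝒳 : Gerb.IsGerbe J 𝒳) (h𝒴 : Gerb.IsGerbe J 𝒴)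
    (φ : 𝒳 ⥤ᵇ 𝒴) (ψ : 𝒴 ⥤ᵇ 𝒳) (x : 𝒳.obj) (hterm : ∀ U : C, Nonempty (Unique (U ⟶ 𝒳.p.obj x)))
    (hφ : ∀ (x' : 𝒳.obj) (c : x' ⟶ x), Function.Surjective (Gerb.autMap φ x'))
    (g : ψ.obj (φ.obj x) ⟶ x) (hg : 𝒳.p.IsHomLift (𝟙 (𝒳.p.obj x)) g)
    (hconj : ∀ (x' : 𝒳.obj) (c : x' ⟶ x) (g' : ψ.obj (φ.obj x') ⟶ x'), 𝒳.p.IsHomLift (𝟙 (𝒳.p.obj x')) g' →
      ψ.map (φ.map c) ≫ g = g' ≫ c → ∀ α : Gerb.AutO x', ψ.map (φ.map α.hom.1) ≫ g' = g' ≫ α.hom.1) :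
    ∃ σ : ∀ z : 𝒴.obj, φ.obj (ψ.obj z) ⟶ z,
      (∀ z, IsIso (σ z) ∧ 𝒴.p.IsHomLift (𝟙 (𝒴.p.obj z)) (σ z)) ∧
      (∀ (z z' : 𝒴.obj) (f : z ⟶ z'), φ.map (ψ.map f) ≫ σ z' = σ z ≫ f) := by
  classical
  have hne : ∀ U : C, Nonempty (U ⟶ 𝒳.p.obj x) := fun U => by obtain ⟨u⟩ := hterm U; exact ⟨u.default⟩
  obtain ⟨ρ, hρ1, hρnat⟩ : ∃ ρ : ∀ y : 𝒳.obj, ψ.obj (φ.obj y) ⟶ y,
      (∀ y, IsIso (ρ y) ∧ 𝒳.p.IsHomLift (𝟙 (𝒳.p.obj y)) (ρ y)) ∧
      (∀ (y y' : 𝒳.obj) (f : y ⟶ y'), ψ.map (φ.map f) ≫ ρ y' = ρ y ≫ f) :=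
    natIso_of_conj J h𝒳 (BasedFunctor.comp φ ψ) x hterm g hg hconj
  have hρiso : ∀ y, IsIso (ρ y) := fun y => (hρ1 y).1
  have hρlift : ∀ y, 𝒳.p.IsHomLift (𝟙 (𝒳.p.obj y)) (ρ y) := fun y => (hρ1 y).2
  have hρnat' : ∀ (y y' : 𝒳.obj) (f : y ⟶ y'), ψ.map (φ.map f) ≫ ρ y' = ρ y ≫ f := hρnat
  -- Θ = ψ ∘ φ is faithful
  have hΘ : ∀ (y y' : 𝒳.obj) (a₁ a₂ : y ⟶ y'), ψ.map (φ.map a₁) = ψ.map (φ.map a₂) → a₁ = a₂ := by
    intro y y' a₁ a₂ h
    have e1 := hρnat' y y' a₁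
    have e2 := hρnat' y y' a₂
    rw [h] at e1
    exact (cancel_epi (ρ y)).1 (e1.symm.trans e2)
  have hfaith : φ.toFunctor.Faithful := ⟨fun {y y'} a₁ a₂ h => hΘ y y' a₁ a₂ (by
    change ψ.map (φ.map a₁) = ψ.map (φ.map a₂)
    exact congrArg (fun t => ψ.map t) h)⟩
  have hfull : φ.toFunctor.Full :=
    full_of_surjective J h𝒳 h𝒴.1.1 (faithful_of_isStack J h𝒴.1) φ x hne (fun y' ⟨c⟩ => hφ y' c)
  -- φ is essentially surjective over the base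
  have hess : ∀ z : 𝒴.obj, ∃ (y : 𝒳.obj) (e : φ.toFunctor.obj y ≅ z), 𝒴.p.IsHomLift (𝟙 (𝒴.p.obj z)) e.hom := by
    intro z
    obtain ⟨R, hR, hloc⟩ := locEssSurj J h𝒳 h𝒴 φ z
    have h1 := h𝒳.1.2 R hR
    have h2 := h𝒴.1.2 R hR
    unfold Stk.IsStackFor Stk.resSieve at h1 h2
    exact Groth.Agent.StkLocal.essImage_of_locally φ h𝒴.1.1 z R inferInstance inferInstance inferInstance hloc
  choose Y E hE using hess
  -- ψ is faithful
  have hψfaith : ψ.toFunctor.Faithful := by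
    constructor
    intro z₁ z₂ b₁ b₂ h
    have h' : ψ.map b₁ = ψ.map b₂ := h
    have key : φ.toFunctor.preimage ((E z₁).hom ≫ b₁ ≫ (E z₂).inv) =
        φ.toFunctor.preimage ((E z₁).hom ≫ b₂ ≫ (E z₂).inv) := by
      apply hΘ
      change ψ.map (φ.toFunctor.map _) = ψ.map (φ.toFunctor.map _)
      rw [Functor.map_preimage, Functor.map_preimage, ψ.toFunctor.map_comp, ψ.toFunctor.map_comp,
        ψ.toFunctor.map_comp, ψ.toFunctor.map_comp]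
      change ψ.map _ ≫ ψ.map b₁ ≫ ψ.map _ = ψ.map _ ≫ ψ.map b₂ ≫ ψ.map _
      rw [h']
    have key2 := congrArg (fun t => φ.toFunctor.map t) key
    simp only [Functor.map_preimage] at key2
    exact (cancel_epi (E z₁).hom).1 ((cancel_mono (E z₂).inv).1 (by simpa using key2))
  -- ψ is full
  have hψfull : ψ.toFunctor.Full := by
    constructor
    intro z₁ z₂ d
    let a : Y z₁ ⟶ Y z₂ := inv (ρ (Y z₁)) ≫ ψ.map (E z₁).hom ≫ d ≫ ψ.map (E z₂).inv ≫ ρ (Y z₂)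
    have ha : ψ.map (φ.map a) = ψ.map (E z₁).hom ≫ d ≫ ψ.map (E z₂).inv := by
      have e1 := hρnat' _ _ a
      have e2 : ψ.map (φ.map a) = (ρ (Y z₁) ≫ a) ≫ inv (ρ (Y z₂)) := by
        rw [← e1, Category.assoc, IsIso.hom_inv_id, Category.comp_id]
      rw [e2]
      simp [a]
    refine ⟨(E z₁).inv ≫ φ.map a ≫ (E z₂).hom, ?_⟩
    change ψ.map ((E z₁).inv ≫ φ.map a ≫ (E z₂).hom) = d
    rw [ψ.toFunctor.map_comp, ψ.toFunctor.map_comp]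
    change ψ.map (E z₁).inv ≫ ψ.map (φ.map a) ≫ ψ.map (E z₂).hom = d
    rw [ha]
    simp only [Category.assoc, ← ψ.toFunctor.map_comp, Iso.inv_hom_id, ψ.toFunctor.map_id, Category.comp_id]
    rw [← Category.assoc, ← ψ.toFunctor.map_comp, Iso.inv_hom_id, ψ.toFunctor.map_id, Category.id_comp]
  -- the isomorphisms
  let σ : ∀ z : 𝒴.obj, φ.obj (ψ.obj z) ⟶ z := fun z => ψ.toFunctor.preimage (ρ (ψ.obj z))
  have hσ : ∀ z, ψ.map (σ z) = ρ (ψ.obj z) := fun z => Functor.map_preimage _ _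
  refine ⟨σ, fun z => ⟨?_, ?_⟩, fun z z' f => ?_⟩
  · have : IsIso (ψ.toFunctor.map (σ z)) := by
      change IsIso (ψ.map (σ z)); rw [hσ]; infer_instance
    exact isIso_of_fully_faithful ψ.toFunctor (σ z)
  · have h1 := hρlift (ψ.obj z)
    have h2 : 𝒳.p.IsHomLift (𝟙 (𝒴.p.obj z)) (ρ (ψ.obj z)) := Groth.Agent.FibEquiv.isHomLift_of_eq 𝒳.p (ψ.w_obj z) _
    have h3 : 𝒳.p.IsHomLift (𝟙 (𝒴.p.obj z)) (ψ.map (σ z)) := by rw [hσ]; exact h2
    exact ψ.isHomLift_map _ _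
  · apply ψ.toFunctor.map_injective
    change ψ.map (φ.map (ψ.map f) ≫ σ z') = ψ.map (σ z ≫ f)
    rw [ψ.toFunctor.map_comp, ψ.toFunctor.map_comp]
    change ψ.map (φ.map (ψ.map f)) ≫ ψ.map (σ z') = ψ.map (σ z) ≫ ψ.map f
    rw [hσ, hσ, hρnat']

/-- Let S be a scheme, 𝒳 and 𝒴 gerbes over the big fppf site of schemes over S, φ : 𝒳 → 𝒴 and ψ : 𝒴 → 𝒳
functors over Sch_S, and x an object of 𝒳 over S itself such that φ is surjective on automorphism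
groups along x: for every object x' of 𝒳 admitting a morphism to x (every pullback of x), every
automorphism of φ(x') over the identity is φ(α) for some automorphism α of x' over the identity. Let
g : ψ(φ(x)) → x be an isomorphism lying over the identity such that conjugation by g after ψ ∘ φ is
the identity of the automorphism sheaf of x: whenever c : x' → x is a morphism of 𝒳 and g' :
ψ(φ(x')) → x' is the morphism over the identity with ψ(φ(c)) ≫ g = g' ≫ c, every automorphism α of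
x' over the identity satisfies ψ(φ(α)) ≫ g' = g' ≫ α. Then φ ∘ ψ is isomorphic to the identity on
every fibre of 𝒴: there are isomorphisms σ_z : φ(ψ(z)) → z for all objects z of 𝒴, lying over
identities and natural in morphisms lying over identities, so that φ and ψ are mutually
quasi-inverse on every fibre. (The published corollary does not assume that φ is surjective on
automorphism groups; its proof uses that φ is full, and without that hypothesis the conclusion fails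
— take for 𝒳 the base category over itself, for 𝒴 the gerbe of torsors under the group of order two,
for φ the trivial torsor and for ψ the structure functor. The published corollary also concludes
that ψ ∘ φ is isomorphic to the identity on every fibre of 𝒳; that part follows from the hypotheses
on g alone and is stated separately.) -/
theorem result (S : Scheme.{u}) (𝒳 𝒴 : AlgSt.Cat S)
    (h𝒳 : Gerb.IsGerbe (QuotSh.J Scheme.fppfPrecoverage S) 𝒳)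
    (h𝒴 : Gerb.IsGerbe (QuotSh.J Scheme.fppfPrecoverage S) 𝒴)
    (φ : 𝒳 ⥤ᵇ 𝒴) (ψ : 𝒴 ⥤ᵇ 𝒳) (x : 𝒳.obj) (hx : 𝒳.p.obj x = Over.mk (𝟙 S))
    (hφ : ∀ (x' : 𝒳.obj) (c : x' ⟶ x), Function.Surjective (Gerb.autMap φ x'))
    (g : ψ.obj (φ.obj x) ⟶ x) [IsIso g] (hg : 𝒳.p.IsHomLift (𝟙 (𝒳.p.obj x)) g)
    (hconj : ∀ (x' : 𝒳.obj) (c : x' ⟶ x) (g' : ψ.obj (φ.obj x') ⟶ x'), 𝒳.p.IsHomLift (𝟙 (𝒳.p.obj x')) g' →
      ψ.map (φ.map c) ≫ g = g' ≫ c → ∀ α : Gerb.AutO x', ψ.map (φ.map α.hom.1) ≫ g' = g' ≫ α.hom.1) :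
    ∃ σ : ∀ z : 𝒴.obj, φ.obj (ψ.obj z) ⟶ z,
      (∀ z, IsIso (σ z) ∧ 𝒴.p.IsHomLift (𝟙 (𝒴.p.obj z)) (σ z)) ∧
      (∀ (z z' : 𝒴.obj) (f : z ⟶ z'), 𝒴.p.IsHomLift (𝟙 (𝒴.p.obj z)) f →
        φ.map (ψ.map f) ≫ σ z' = σ z ≫ f) := by
  have hterm : ∀ U : Over S, Nonempty (Unique (U ⟶ 𝒳.p.obj x)) := fun U => by
    rw [hx]
    exact ⟨⟨⟨Over.mkIdTerminal.from U⟩, fun f => Over.mkIdTerminal.hom_ext _ _⟩⟩
  obtain ⟨σ, h1, h2⟩ := aux _ h𝒳 h𝒴 φ ψ x hterm hφ g hg hconj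
  exact ⟨σ, h1, fun z z' f _ => h2 z z' f⟩

end Groth.Agent.S17913
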