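import Groth.Statements.S17914
import Mathlib

set_option autoImplicit false
universe u
open scoped TensorProduct
open PolLaw

namespace Groth.Agent.S17914

section aux
open scoped TensorProduct
open PolLaw

section bc

variable {R : Type u} [CommRing R] {Q : Type u} [CommRing Q] [Algebra R Q]
  {X : Type u} [AddCommGroup X] [Module R X]
  {Y : Type u} [AddCommGroup Y] [Module R Y] [Module Q Y] [IsScalarTower R Q Y]

theorem bcAlong_tmul (g : X →ₗ[R] Y) (P : Type u) [CommRing P] [Algebra R P] [Algebra Q P]
    [IsScalarTower R Q P] (p : P) (x : X) :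
    PolLaw.bcAlong g P (p ⊗ₜ[R] x) = p ⊗ₜ[Q] g x := by
  unfold PolLaw.bcAlong
  simp only [LinearMap.coe_comp, Function.comp_apply, LinearMap.coe_restrictScalars,
    LinearEquiv.coe_coe]
  rw [TensorProduct.AlgebraTensorModule.cancelBaseChange_symm_tmul, LinearMap.lTensor_tmul,
    LinearMap.liftBaseChange_tmul, one_smul]

end bc

section E

variable {R R' Q Q' : Type u} [CommRing R] [CommRing R'] [Algebra R R']
    [CommRing Q] [Algebra R Q] [CommRing Q'] [Algebra R Q'] [Algebra Q Q'] [Algebra R' Q']
    [IsScalarTower R Q Q'] [IsScalarTower R R' Q']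
    (P : Type u) [CommRing P] [Algebra R P] [Algebra Q P] [IsScalarTower R Q P]

/-- the `P`-algebra map `P ⊗[R] R' → P ⊗[Q] Q'`. -/
noncomputable def E : P ⊗[R] R' →ₐ[P] P ⊗[Q] Q' :=
  Algebra.TensorProduct.lift (Algebra.ofId P (P ⊗[Q] Q'))
    (((Algebra.TensorProduct.includeRight : Q' →ₐ[Q] P ⊗[Q] Q').restrictScalars R).comp
      (IsScalarTower.toAlgHom R R' Q'))
    (fun _ _ => Commute.all _ _)

theorem E_tmul (p : P) (r : R') : E (R := R) (R' := R') (Q := Q) (Q' := Q') P (p ⊗ₜ[R] r) =
    p ⊗ₜ[Q] (algebraMap R' Q' r) := by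
  unfold E
  rw [Algebra.TensorProduct.lift_tmul]
  simp [Algebra.ofId_apply, Algebra.TensorProduct.algebraMap_apply]

theorem E_eq_bcAlong (z : P ⊗[R] R') :
    E (R := R) (R' := R') (Q := Q) (Q' := Q') P z =
      PolLaw.bcAlong (IsScalarTower.toAlgHom R R' Q').toLinearMap P z := by
  induction z using TensorProduct.induction_on with
  | zero => simp
  | tmul p r => rw [E_tmul, bcAlong_tmul]; rfl
  | add x y hx hy => rw [map_add, map_add, hx, hy]

theorem bcAlong_bijective [Algebra.IsPushout R R' Q Q'] :
    Function.Bijective (PolLaw.bcAlong (Q := Q) (IsScalarTower.toAlgHom R R' Q').toLinearMap P) := by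
  have h : IsBaseChange Q (IsScalarTower.toAlgHom R R' Q').toLinearMap :=
    (Algebra.IsPushout.symm (inferInstance : Algebra.IsPushout R R' Q Q')).out
  have heq : (IsScalarTower.toAlgHom R R' Q').toLinearMap.liftBaseChange Q = h.equiv.toLinearMap := by
    apply TensorProduct.AlgebraTensorModule.curry_injective
    ext r
    simp [IsBaseChange.equiv_tmul]
  unfold PolLaw.bcAlong
  rw [heq]
  have h1 : Function.Bijective (LinearMap.lTensor P h.equiv.toLinearMap) :=
    (LinearEquiv.lTensor P h.equiv).bijective
  exact h1.comp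
    (TensorProduct.AlgebraTensorModule.cancelBaseChange R Q P P R').symm.bijective

theorem norm_bcAlong [Algebra.IsPushout R R' Q Q'] (z : P ⊗[R] R') :
    Algebra.norm P (PolLaw.bcAlong (Q := Q) (IsScalarTower.toAlgHom R R' Q').toLinearMap P z) =
      Algebra.norm P z := by
  have hb : Function.Bijective (E (R := R) (R' := R') (Q := Q) (Q' := Q') P) := by
    have := bcAlong_bijective (R := R) (R' := R') (Q := Q) (Q' := Q') P
    convert this using 1
    funext z
    exact E_eq_bcAlong P z
  rw [← E_eq_bcAlong]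
  exact Algebra.norm_eq_of_algEquiv (AlgEquiv.ofBijective _ hb) z

end E

section main

variable {R Q : Type u} [CommRing R] [CommRing Q] [Algebra R Q]

/-- multiplication map `P ⊗[R] Q → P`. -/
noncomputable def mult (P : Type u) [CommRing P] [Algebra R P] [Algebra Q P] [IsScalarTower R Q P] :
    P ⊗[R] Q →ₐ[R] P :=
  Algebra.TensorProduct.productMap (AlgHom.id R P) (IsScalarTower.toAlgHom R Q P)

theorem mult_tmul (P : Type u) [CommRing P] [Algebra R P] [Algebra Q P] [IsScalarTower R Q P]
    (p : P) (q : Q) : mult (R := R) (Q := Q) P (p ⊗ₜ[R] q) = p * algebraMap Q P q := by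
  simp [mult]

/-- key identity: `mult ∘ (π' ⊗ P)` computed via the `Q`-tensor product. -/
theorem mult_lTensor {C C' : Type u} [CommRing C] [Algebra R C] [CommRing C'] [Algebra R C'] [Algebra Q C']
    [IsScalarTower R Q C'] (θ : C →ₐ[R] C') (π' : C' →ₐ[Q] Q)
    (P : Type u) [CommRing P] [Algebra R P] [Algebra Q P] [IsScalarTower R Q P] (w : P ⊗[R] C) :
    mult (R := R) (Q := Q) P
      ((((π'.restrictScalars R).comp θ).toLinearMap.lTensor P) w) =
    TensorProduct.rid Q P ((π'.toLinearMap.lTensor P) (PolLaw.bcAlong θ.toLinearMap P w)) := by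
  induction w using TensorProduct.induction_on with
  | zero => simp
  | tmul p c =>
      rw [bcAlong_tmul, LinearMap.lTensor_tmul, LinearMap.lTensor_tmul, mult_tmul,
        TensorProduct.rid_tmul]
      simp [Algebra.smul_def, mul_comm]
  | add x y hx hy => simp only [map_add, hx, hy]

end main


section key

variable {R R' Q Q' : Type u} [CommRing R] [CommRing R'] [Algebra R R']
    [CommRing Q] [Algebra R Q] [CommRing Q'] [Algebra R Q'] [Algebra Q Q'] [Algebra R' Q']
    [IsScalarTower R Q Q'] [IsScalarTower R R' Q'] [Algebra.IsPushout R R' Q Q']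
    [Module.Free R R'] [Module.Finite R R'] [Module.Free Q Q'] [Module.Finite Q Q']

theorem key (d : ℕ) (hd : Module.finrank R R' = d) (hd' : Module.finrank Q Q' = d)
    {C : Type u} [CommRing C] [Algebra R C] (γ : PolLaw.MulLaw R R' C d)
    (π : C →ₐ[R] R) (hπ : PolLaw.MulLaw.postcomp π γ = PolLaw.normLaw R R' d hd)
    {C' : Type u} [CommRing C'] [Algebra R C'] [Algebra Q C'] [IsScalarTower R Q C']
    (γ' : PolLaw.MulLaw Q Q' C' d)
    (π' : C' →ₐ[Q] Q) (hπ' : PolLaw.MulLaw.postcomp π' γ' = PolLaw.normLaw Q Q' d hd')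
    (θ : C →ₐ[R] C')
    (hθ : ∀ (P : Type u) [CommRing P] [Algebra R P] [Algebra Q P] [IsScalarTower R Q P] (z : P ⊗[R] R'),
      γ'.law.toFun' P (PolLaw.bcAlong (IsScalarTower.toAlgHom R R' Q').toLinearMap P z) =
        PolLaw.bcAlong θ.toLinearMap P (γ.law.toFun' P z))
    (P : Type u) [CommRing P] [Algebra R P] [Algebra Q P] [IsScalarTower R Q P] (z : P ⊗[R] R') :
    mult (R := R) (Q := Q) P
      ((((π'.restrictScalars R).comp θ).toLinearMap.lTensor P) (γ.law.toFun' P z)) =
    mult (R := R) (Q := Q) P
      ((((Algebra.ofId R Q).comp π).toLinearMap.lTensor P) (γ.law.toFun' P z)) := by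
  -- left side
  rw [mult_lTensor, ← hθ P z]
  have h1 : (π'.toLinearMap.lTensor P) (γ'.law.toFun' P
      (PolLaw.bcAlong (IsScalarTower.toAlgHom R R' Q').toLinearMap P z)) =
      (PolLaw.normLaw Q Q' d hd').law.toFun' P
        (PolLaw.bcAlong (IsScalarTower.toAlgHom R R' Q').toLinearMap P z) := by
    rw [← hπ']; rfl
  rw [h1, PolLaw.normLaw_apply, TensorProduct.rid_tmul, one_smul, norm_bcAlong]
  -- right side
  have h2 : (π.toLinearMap.lTensor P) (γ.law.toFun' P z) =
      (PolLaw.normLaw R R' d hd).law.toFun' P z := by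
    rw [← hπ]; rfl
  have h3 : (((Algebra.ofId R Q).comp π).toLinearMap.lTensor P) (γ.law.toFun' P z) =
      ((Algebra.ofId R Q).toLinearMap.lTensor P) ((π.toLinearMap.lTensor P) (γ.law.toFun' P z)) := by
    rw [← LinearMap.comp_apply, ← LinearMap.lTensor_comp]; rfl
  rw [h3, h2, PolLaw.normLaw_apply, LinearMap.lTensor_tmul, mult_tmul]
  simp

end key

end aux


/-- Affine-free form, stated through universal properties. Let R → R' be a commutative algebra that is
free of rank d as an R-module, Q a commutative R-algebra, and Q' a commutative ring under Q and R'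
which is their pushout over R and is free of rank d over Q. Let (C, γ) be the degree-d divided power
algebra of R' over R with its universal multiplicative law (hypothesis: every multiplicative law of
degree d out of R' factors uniquely through γ) and π : C → R the R-algebra map with π ∘ γ = the norm
law of R' over R; let (C', γ', π') be the analogous data for Q' over Q. Let θ : C → C' be an
R-algebra homomorphism compatible with the two universal laws over every commutative Q-algebra P:
γ'_P applied to the image of z ∈ P ⊗_R R' in P ⊗_Q Q' equals (p ⊗ c ↦ p ⊗ θ c) applied to γ_P(z) (so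
θ is the base-change homomorphism of divided power algebras). Then π' (θ c) is the image in Q of π c
for every c ∈ C: the algebra map attached to the norm commutes with base change. (The published
lemma is for a finite locally free extension of constant rank and states the commutativity of each
of three squares; this row assumes R' free over R and states the commutativity of the composite.) -/
theorem result {R R' Q Q' : Type u} [CommRing R] [CommRing R'] [Algebra R R']
    [CommRing Q] [Algebra R Q] [CommRing Q'] [Algebra R Q'] [Algebra Q Q'] [Algebra R' Q']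
    [IsScalarTower R Q Q'] [IsScalarTower R R' Q'] [Algebra.IsPushout R R' Q Q']
    [Module.Free R R'] [Module.Finite R R'] [Module.Free Q Q'] [Module.Finite Q Q']
    (d : ℕ) (hd : Module.finrank R R' = d) (hd' : Module.finrank Q Q' = d)
    {C : Type u} [CommRing C] [Algebra R C] (γ : PolLaw.MulLaw R R' C d) (hγ : PolLaw.IsGammaD γ)
    (π : C →ₐ[R] R) (hπ : PolLaw.MulLaw.postcomp π γ = PolLaw.normLaw R R' d hd)
    {C' : Type u} [CommRing C'] [Algebra R C'] [Algebra Q C'] [IsScalarTower R Q C']
    (γ' : PolLaw.MulLaw Q Q' C' d) (hγ' : PolLaw.IsGammaD γ')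
    (π' : C' →ₐ[Q] Q) (hπ' : PolLaw.MulLaw.postcomp π' γ' = PolLaw.normLaw Q Q' d hd')
    (θ : C →ₐ[R] C')
    (hθ : ∀ (P : Type u) [CommRing P] [Algebra R P] [Algebra Q P] [IsScalarTower R Q P] (z : P ⊗[R] R'),
      γ'.law.toFun' P (PolLaw.bcAlong (IsScalarTower.toAlgHom R R' Q').toLinearMap P z) =
        PolLaw.bcAlong θ.toLinearMap P (γ.law.toFun' P z)) :
    ∀ c : C, π' (θ c) = algebraMap R Q (π c) := by
  classical
  set f₁ : C →ₐ[R] Q := (π'.restrictScalars R).comp θ with hf₁
  set f₂ : C →ₐ[R] Q := (Algebra.ofId R Q).comp π with hf₂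
  have hlaw : PolLaw.postcomp f₁.toLinearMap γ.law = PolLaw.postcomp f₂.toLinearMap γ.law := by
    ext S _ _ x
    show (f₁.toLinearMap.lTensor S) (γ.law.toFun' S x) = (f₂.toLinearMap.lTensor S) (γ.law.toFun' S x)
    -- pass to the ring `P = Q ⊗[R] S`
    let φ : S →ₐ[R] Q ⊗[R] S := Algebra.TensorProduct.includeRight
    have hinj : ∀ u v : S ⊗[R] Q,
        mult (R := R) (Q := Q) (Q ⊗[R] S) (φ.toLinearMap.rTensor Q u) =
        mult (R := R) (Q := Q) (Q ⊗[R] S) (φ.toLinearMap.rTensor Q v) → u = v := by
      have hcomm : ∀ u : S ⊗[R] Q, mult (R := R) (Q := Q) (Q ⊗[R] S) (φ.toLinearMap.rTensor Q u) =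
          TensorProduct.comm R S Q u := by
        intro u
        induction u using TensorProduct.induction_on with
        | zero => simp
        | tmul s q =>
            rw [LinearMap.rTensor_tmul, mult_tmul, TensorProduct.comm_tmul]
            simp [φ, Algebra.TensorProduct.algebraMap_apply]
        | add a b ha hb => simp only [map_add, ha, hb]
      intro u v huv
      rw [hcomm, hcomm] at huv
      exact (TensorProduct.comm R S Q).injective huv
    apply hinj
    have hnat : ∀ f : C →ₐ[R] Q, φ.toLinearMap.rTensor Q ((f.toLinearMap.lTensor S) (γ.law.toFun' S x)) =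
        (f.toLinearMap.lTensor (Q ⊗[R] S)) (γ.law.toFun' (Q ⊗[R] S) (φ.toLinearMap.rTensor R' x)) := by
      intro f
      rw [← PolynomialLaw.isCompat_apply', ← LinearMap.comp_apply, ← LinearMap.comp_apply,
        LinearMap.rTensor_comp_lTensor, LinearMap.lTensor_comp_rTensor]
    rw [hnat f₁, hnat f₂]
    exact key d hd hd' γ π hπ γ' π' hπ' θ hθ (Q ⊗[R] S) _
  have heq : f₁ = f₂ := by
    obtain ⟨f, -, huniq⟩ := hγ Q (PolLaw.MulLaw.postcomp f₂ γ)
    have e1 : f₁ = f := huniq f₁ hlaw
    have e2 : f₂ = f := huniq f₂ rfl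
    rw [e1, e2]
  intro c
  have := congrArg (fun f : C →ₐ[R] Q => f c) heq
  simpa [hf₁, hf₂, Algebra.ofId_apply] using this

end Groth.Agent.S17914
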