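import Groth.Statements.S17924
import Mathlib
import Groth.Agent.Lib.Helper8.K0Gen
-- import your own Groth.Agent.* helpers here

set_option autoImplicit false
universe u
open CategoryTheory CategoryTheory.Limits AlgebraicGeometry
open RefCh

namespace Groth.Agent.S17924

open Groth.Agent.Lib.helper8.K0Gen Scheme.Modules

theorem main (X : Scheme.{u})
    [AlgebraicGeometry.IsIntegral X] (s : ℕ)
    (δ : X → ℤ) (hδ : Cyc.IsSetup X δ) (hδη : δ (genericPoint X) = (s + 2 : ℕ))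
    (ℒ : X.Modules) (hℒ : RefHull.IsRef1 ℒ) :
    Cyc.toK0CohQuot δ (s + 2 : ℕ) (s + 1 : ℕ) (Coh.structureModule X) =
      Cyc.toK0CohQuot δ (s + 2 : ℕ) (s + 1 : ℕ) ℒ := by
  haveI : IsLocallyNoetherian X := hδ.1
  obtain ⟨hcoh, -, U, hUd, hinv⟩ := hℒ
  obtain ⟨y, hy⟩ := hUd.nonempty
  obtain ⟨V, hyV, ⟨e⟩⟩ := hinv ⟨y, hy⟩
  let j : (V : Scheme.{u}) ⟶ X := V.ι ≫ U.ι
  have e' : ℒ.restrict j ≅ Coh.structureModule (V : Scheme.{u}) :=
    (restrictFunctorComp V.ι U.ι).app ℒ ≪≫ e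
  obtain ⟨eW⟩ := exists_opens_triv ℒ j e'
  have hW : (j.opensRange : Set X).Nonempty := ⟨j ⟨⟨y, hy⟩, hyV⟩, ⟨_, rfl⟩⟩
  exact toK0CohQuot_unit_eq δ hδ.2.2 _ _ hδη (by push_cast; omega) ℒ hcoh j.opensRange hW eW


/-- Let k be an algebraically closed field, X an integral normal scheme of dimension n = s + 2 admitting
a closed immersion into some P^N_k over k, δ a dimension function on X (a pair (X, δ) as in the
setup of Chow homology, Cyc.IsSetup) normalised by δ(generic point) = n, so that δ(x) is the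
dimension of the closure of x, and ℒ a coherent reflexive O_X-module of rank one (ℒ = O_X(-D) for a
Weil divisor D). Write K(X) = K_0(Coh(X)) and K_m(X) for the subgroup generated by the classes of
coherent modules whose support has dimension at most m. Then [O_X] - [ℒ] ∈ K_{n-1}(X): the classes
of O_X and ℒ agree in K_0(Coh(X)) / K_{n-1}(X) (Cyc.toK0CohQuot δ n (n - 1)); in the notation [O_D]
= [O_X] - [O_X(-D)], the class [O_D] lies in K_{n-1}(X). -/
theorem result (k : Type u) [Field k] [IsAlgClosed k] (X : Scheme.{u}) [X.Over (Spec (CommRingCat.of k))]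
    [AlgebraicGeometry.IsIntegral X] (hnorm : Pi1.IsNormalScheme X) (s : ℕ) (hdim : topologicalKrullDim X = (s + 2 : ℕ))
    (hproj : ∃ (N : ℕ) (ι : X ⟶ CohB1.ProjSpace N k), IsClosedImmersion ι ∧ ι ≫ CohB1.ProjSpace.toSpec N k = X ↘ Spec (CommRingCat.of k))
    (δ : X → ℤ) (hδ : Cyc.IsSetup X δ) (hδη : δ (genericPoint X) = (s + 2 : ℕ))
    (ℒ : X.Modules) (hℒ : RefHull.IsRef1 ℒ) :
    Cyc.toK0CohQuot δ (s + 2 : ℕ) (s + 1 : ℕ) (Coh.structureModule X) =
      Cyc.toK0CohQuot δ (s + 2 : ℕ) (s + 1 : ℕ) ℒ := by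
  exact main X s δ hδ hδη ℒ hℒ

end Groth.Agent.S17924
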