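import Groth.Statements.S17933
import Mathlib
import Groth.Agent.Lib.Helper6.MultCrvLib

set_option autoImplicit false
universe u
open MultCrv
open Groth.Agent.Lib.Helper6

namespace Groth.Agent.S17933

/-- Let R be a discrete valuation ring, n ≥ 1, A = R[X]/(X^n) with z the class of X, and M a finitely
generated A-module. Then M is torsion-free as an R-module if and only if the submodule M^(1) of
elements killed by z is a free R-module. (This is the statement at a closed point of the sheaf
statement: for a primitive multiple curve of multiplicity n the local ring at a closed point is of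
the form R[X]/(X^n) with R the local ring of the reduced smooth curve, torsion-freeness is the
absence of sections with finite support, and local freeness on the reduced curve is freeness of the
stalk; the row is stated for every discrete valuation ring R.) -/
theorem result (R : Type u) [CommRing R] [IsDomain R] [IsDiscreteValuationRing R] (n : ℕ) (hn : 1 ≤ n) (M : Type u) [AddCommGroup M] [Module (MultCrv.Rn R n) M] [Module R M] [IsScalarTower R (MultCrv.Rn R n) M] [Module.Finite (MultCrv.Rn R n) M] : Module.IsTorsionFree R M ↔ Module.Free R ↥(MultCrv.filt2 R n M 1) := by
  constructor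
  · intro h
    exact MultCrvLib.free_submodule R n M _
  · intro hfree
    have htf : Module.IsTorsionFree R ↥(MultCrv.filt2 R n M 1) := inferInstance
    refine ⟨fun r hr => ?_⟩
    intro u u' huu'
    have huu'' : r • u = r • u' := huu'
    by_contra hne
    have hd : u - u' ≠ 0 := sub_ne_zero.mpr hne
    obtain ⟨k, hk1, hk2⟩ := MultCrvLib.exists_last_nonzero (R := R) (n := n) hd
    apply hk1
    have hmem : z R n ^ k • (u - u') ∈ filt2 R n M 1 := by
      rw [MultCrvLib.mem_filt2, pow_one, smul_smul, ← pow_succ']; exact hk2
    have hr0 : r • (⟨_, hmem⟩ : ↥(filt2 R n M 1)) = r • (0 : ↥(filt2 R n M 1)) := by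
      apply Subtype.ext
      show r • (z R n ^ k • (u - u')) = r • (0 : M)
      rw [smul_comm, smul_sub, huu'', sub_self, smul_zero, smul_zero]
    have h0 := (hr.isSMulRegular : IsSMulRegular ↥(filt2 R n M 1) r) hr0
    exact congrArg Subtype.val h0

end Groth.Agent.S17933
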