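import Groth.Statements.S17934
import Mathlib
import Groth.Agent.Lib.Helper6.MultCrvLib

set_option autoImplicit false
universe u
open MultCrv
open Groth.Agent.Lib.Helper6

namespace Groth.Agent.S17934

/-- Let R be a discrete valuation ring, n ≥ 1, A = R[X]/(X^n) with z the class of X, and M a finitely
generated A-module that is torsion-free as an R-module. Then for 1 ≤ i ≤ n the graded piece
M^(i)/M^(i-1) of the second canonical filtration (M^(i) the elements killed by z^i) is a free
R-module. (Statement at a closed point of the sheaf statement on a primitive multiple curve of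
multiplicity n, whose local rings are of the form R[X]/(X^n) with R the local ring of the reduced
smooth curve; stated for every discrete valuation ring R.) -/
theorem result (R : Type u) [CommRing R] [IsDomain R] [IsDiscreteValuationRing R] (n : ℕ) (hn : 1 ≤ n) (M : Type u) [AddCommGroup M] [Module (MultCrv.Rn R n) M] [Module R M] [IsScalarTower R (MultCrv.Rn R n) M] [Module.Finite (MultCrv.Rn R n) M] [Module.IsTorsionFree R M] (i : ℕ) (hi : 1 ≤ i) (hin : i ≤ n) : Module.Free R (MultCrv.G2 R n M i) := by
  let ψ : ↥(filt2 R n M i) →ₗ[Rn R n] M :=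
    ((z R n ^ (i - 1)) • (LinearMap.id : M →ₗ[Rn R n] M)) ∘ₗ (filt2 R n M i).subtype
  have hker : Submodule.comap (filt2 R n M i).subtype (filt2 R n M (i - 1)) = LinearMap.ker ψ := by
    ext v
    rw [Submodule.mem_comap, LinearMap.mem_ker, MultCrvLib.mem_filt2]
    rfl
  have e : (↥(filt2 R n M i) ⧸ Submodule.comap (filt2 R n M i).subtype (filt2 R n M (i - 1)))
      ≃ₗ[Rn R n] ↥(LinearMap.range ψ) :=
    (Submodule.quotEquivOfEq _ _ hker).trans ψ.quotKerEquivRange
  have := MultCrvLib.free_submodule R n M (LinearMap.range ψ)
  exact Module.Free.of_equiv (e.restrictScalars R).symm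

end Groth.Agent.S17934
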