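import Groth.Statements.S17935
import Mathlib
import Groth.Agent.Lib.Helper6.MultCrvFrob

set_option autoImplicit false
universe u
open MultCrv
open Groth.Agent.Lib.Helper6 Groth.Agent.Lib.Helper6.MultCrvFrob Polynomial

namespace Groth.Agent.S17935

/-- Let R be a discrete valuation ring, n ≥ 1, A = R[X]/(X^n), and M a finitely generated A-module. Then
M is reflexive over A (the evaluation map into the double A-dual is bijective) if and only if M is
torsion-free as an R-module. (Statement at a closed point of the sheaf statement on a primitive
multiple curve of multiplicity n, whose local rings are of the form R[X]/(X^n) with R the local ring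
of the reduced smooth curve, torsion-freeness of a coherent sheaf there meaning no nonzero subsheaf
with finite support; stated for every discrete valuation ring R.) -/
theorem result (R : Type u) [CommRing R] [IsDomain R] [IsDiscreteValuationRing R] (n : ℕ) (hn : 1 ≤ n) (M : Type u) [AddCommGroup M] [Module (MultCrv.Rn R n) M] [Module R M] [IsScalarTower R (MultCrv.Rn R n) M] [Module.Finite (MultCrv.Rn R n) M] : Module.IsReflexive (MultCrv.Rn R n) M ↔ Module.IsTorsionFree R M := by
  obtain ⟨m, rfl⟩ : ∃ m, n = m + 1 := ⟨n - 1, by omega⟩
  constructor
  · intro hrefl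
    have hAfree : Module.Free R (Rn R (m + 1)) := (monic_X_pow (m + 1)).free_adjoinRoot
    have hAtf : Module.IsTorsionFree R (Rn R (m + 1)) := inferInstance
    refine ⟨fun r hr => ?_⟩
    intro x x' hxx'
    have hxx'' : r • x = r • x' := hxx'
    apply (Module.bijective_dual_eval (Rn R (m + 1)) M).1
    ext f
    show f x = f x'
    apply (hr.isSMulRegular : IsSMulRegular (Rn R (m + 1)) r)
    show r • f x = r • f x'
    rw [← LinearMap.map_smul_of_tower, ← LinearMap.map_smul_of_tower, hxx'']
  · intro htf
    have hfin : Module.Finite R M := MultCrvLib.finite_over_base R (m + 1) M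
    have hfree : Module.Free R M := Module.free_of_finite_type_torsion_free'
    have hreflR : Module.IsReflexive R M := inferInstance
    refine ⟨⟨?_, ?_⟩⟩
    · rw [injective_iff_map_eq_zero]
      intro x hx
      apply (Module.bijective_dual_eval R M).1
      rw [map_zero]
      ext g
      have h0 : psi (m := m) g x = 0 := LinearMap.congr_fun hx (psi g)
      show g x = 0
      rw [← tr_psi (m := m) g x, h0, map_zero]
    · intro ξ
      let η : Module.Dual R (Module.Dual R M) :=
        { toFun := fun g => tr R m (ξ (psi g))
          map_add' := fun g g' => by rw [psi_add, map_add, map_add]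
          map_smul' := fun r g => by
            rw [psi_smul, RingHom.id_apply, LinearMap.map_smul_of_tower, map_smul] }
      obtain ⟨x, hx⟩ := (Module.bijective_dual_eval R M).2 η
      refine ⟨x, ?_⟩
      ext f
      show f x = ξ f
      rw [← sub_eq_zero]
      apply eq_zero_of_tr_mul R m
      intro a
      have key : ∀ f' : Module.Dual (Rn R (m + 1)) M, tr R m (f' x) = tr R m (ξ f') := by
        intro f'
        have h1 := LinearMap.congr_fun hx ((tr R m) ∘ₗ (f'.restrictScalars R))
        have h2 : tr R m (f' x) =
            tr R m (ξ (psi ((tr R m) ∘ₗ (f'.restrictScalars R)))) := h1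
        rw [h2, psi_tr]
      rw [mul_sub, map_sub, sub_eq_zero, ← smul_eq_mul, ← smul_eq_mul, ← LinearMap.smul_apply,
        ← map_smul]
      exact key (a • f)

end Groth.Agent.S17935
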