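import Groth.Statements.S17937
import Mathlib
import Groth.Agent.Lib.Helper6.MultCrvExt2

set_option autoImplicit false
universe u
open MultCrv

namespace Groth.Agent.S17937

open CategoryTheory in
/-- Let R be a discrete valuation ring, n ≥ 1, A = R[X]/(X^n), and M a finitely generated A-module with
Ext^1_A(M, A) = 0. Then M is torsion-free as an R-module. (Statement at a closed point of the sheaf
statement on a primitive multiple curve of multiplicity n, whose local rings are of the form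
R[X]/(X^n) with R the local ring of the reduced smooth curve; stated for every discrete valuation
ring R.) -/
theorem result (R : Type u) [CommRing R] [IsDomain R] [IsDiscreteValuationRing R] (n : ℕ) (hn : 1 ≤ n) (M : Type u) [AddCommGroup M] [Module (MultCrv.Rn R n) M] [Module R M] [IsScalarTower R (MultCrv.Rn R n) M] [Module.Finite (MultCrv.Rn R n) M] (h : Subsingleton (Abelian.Ext (ModuleCat.of (MultCrv.Rn R n) M) (ModuleCat.of (MultCrv.Rn R n) (MultCrv.Rn R n)) 1)) : Module.IsTorsionFree R M := by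
  obtain ⟨m, rfl⟩ : ∃ m, n = m + 1 := ⟨n - 1, by omega⟩
  obtain ⟨r, φ, hφ⟩ := Module.Finite.exists_fin' (Rn R (m + 1)) M
  have hS := Groth.Agent.Lib.Helper6.MultCrvExt.presSC_shortExact φ hφ
  have hsub : Subsingleton (Abelian.Ext (Groth.Agent.Lib.Helper6.MultCrvExt.presSC φ).X₃
      (ModuleCat.of (Rn R (m + 1)) (Rn R (m + 1))) 1) := h
  have hE : ∀ h₀ : ↥(LinearMap.ker φ) →ₗ[Rn R (m + 1)] Rn R (m + 1),
      ∃ h' : (Fin r → Rn R (m + 1)) →ₗ[Rn R (m + 1)] Rn R (m + 1),
        ∀ k : ↥(LinearMap.ker φ), h' (k : Fin r → Rn R (m + 1)) = h₀ k := by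
    intro h₀
    obtain ⟨x₂, hx₂⟩ := Abelian.Ext.contravariant_sequence_exact₁ hS
      (ModuleCat.of (Rn R (m + 1)) (Rn R (m + 1))) (Abelian.Ext.mk₀ (ModuleCat.ofHom h₀))
      (n₁ := 1) (by norm_num) (Subsingleton.elim _ _)
    obtain ⟨h'c, rfl⟩ := (Abelian.Ext.mk₀_bijective _ _).2 x₂
    rw [Abelian.Ext.mk₀_comp_mk₀] at hx₂
    have h3 := (Abelian.Ext.mk₀_bijective _ _).1 hx₂
    refine ⟨h'c.hom, fun k => ?_⟩
    have h4 := congrArg (fun f => f.hom k) h3
    exact h4
  have hER : ∀ g : ↥(LinearMap.ker φ) →ₗ[R] R,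
      ∃ g' : (Fin r → Rn R (m + 1)) →ₗ[R] R,
        ∀ k : ↥(LinearMap.ker φ), g' (k : Fin r → Rn R (m + 1)) = g k := by
    intro g
    obtain ⟨h', hh'⟩ := hE (Groth.Agent.Lib.Helper6.MultCrvFrob.psi g)
    refine ⟨(Groth.Agent.Lib.Helper6.MultCrvFrob.tr R m) ∘ₗ (h'.restrictScalars R), fun k => ?_⟩
    show Groth.Agent.Lib.Helper6.MultCrvFrob.tr R m (h' k) = g k
    rw [hh', Groth.Agent.Lib.Helper6.MultCrvFrob.tr_psi]
  have hKfin : Module.Finite R ↥(LinearMap.ker φ) :=
    Groth.Agent.Lib.Helper6.MultCrvLib.finite_submodule R (m + 1) (Fin r → Rn R (m + 1)) _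
  have hKfree : Module.Free R ↥(LinearMap.ker φ) :=
    Groth.Agent.Lib.Helper6.MultCrvLib.free_submodule R (m + 1) (Fin r → Rn R (m + 1)) _
  let b := Module.finBasis R ↥(LinearMap.ker φ)
  choose c hc using fun i => hER (b.coord i)
  have hsat : ∀ (s : R) (x : Fin r → Rn R (m + 1)), s ≠ 0 → s • x ∈ LinearMap.ker φ →
      x ∈ LinearMap.ker φ := by
    intro s x hs hsx
    let y : ↥(LinearMap.ker φ) := ∑ i, c i x • b i
    have h1 : (⟨s • x, hsx⟩ : ↥(LinearMap.ker φ)) = s • y := by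
      rw [← b.sum_repr ⟨s • x, hsx⟩]
      simp only [y, Finset.smul_sum]
      refine Finset.sum_congr rfl fun i _ => ?_
      rw [smul_smul, ← Module.Basis.coord_apply, ← hc i ⟨s • x, hsx⟩]
      show c i (s • x) • b i = (s * c i x) • b i
      rw [map_smul, smul_eq_mul]
    have h2 : s • x = s • (y : Fin r → Rn R (m + 1)) := congrArg Subtype.val h1
    have hxy : x = (y : Fin r → Rn R (m + 1)) := smul_right_injective _ hs h2
    rw [hxy]; exact y.2
  refine ⟨fun s hs => ?_⟩
  intro y y' hyy'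
  have hyy'' : s • y = s • y' := hyy'
  obtain ⟨x, hx⟩ := hφ (y - y')
  have hxK : x ∈ LinearMap.ker φ := by
    apply hsat s x hs.ne_zero
    rw [LinearMap.mem_ker, LinearMap.map_smul_of_tower, hx, smul_sub, hyy'', sub_self]
  rw [LinearMap.mem_ker, hx] at hxK
  exact sub_eq_zero.mp hxK

end Groth.Agent.S17937
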