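import Groth.Statements.S17945
import Mathlib
import Groth.Agent.Lib.Helper6.MultCrvLib

set_option autoImplicit false
universe u
open MultCrv
open Groth.Agent.Lib.Helper6

namespace Groth.Agent.S17945

/-- Let R be a discrete valuation ring, n ≥ 1, A = R[X]/(X^n) with z the class of X, and φ : M → N an
A-linear map of finitely generated A-modules. Then φ is surjective if and only if the induced map
M/zM → N/zN is surjective, i.e. every element of N differs from an element of the image of φ by an
element of zN. The induced maps z^i M/z^(i+1) M → z^i N/z^(i+1) N, 1 ≤ i < n, are then surjective as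
well; that immediate consequence, which the published statement includes, is not part of this row.
(Statement at a closed point of the sheaf statement on a primitive multiple curve of multiplicity n
with local rings R[X]/(X^n), where M/zM is the stalk of the restriction to the reduced curve; stated
for every discrete valuation ring R.) -/
theorem result (R : Type u) [CommRing R] [IsDomain R] [IsDiscreteValuationRing R] (n : ℕ) (hn : 1 ≤ n) (M N : Type u) [AddCommGroup M] [Module (MultCrv.Rn R n) M] [Module.Finite (MultCrv.Rn R n) M] [AddCommGroup N] [Module (MultCrv.Rn R n) N] [Module.Finite (MultCrv.Rn R n) N] (φ : M →ₗ[MultCrv.Rn R n] N) : Function.Surjective φ ↔ ∀ v : N, ∃ u : M, v - φ u ∈ MultCrv.filt R n N 1 := by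
  constructor
  · intro h v
    obtain ⟨u, rfl⟩ := h v
    exact ⟨u, by rw [sub_self]; exact Submodule.zero_mem _⟩
  · intro h
    have key : ∀ k : ℕ, ∀ v : N, ∃ u : M, ∃ w : N, v - φ u = z R n ^ k • w := by
      intro k
      induction k with
      | zero => intro v; exact ⟨0, v, by simp⟩
      | succ k ih =>
        intro v
        obtain ⟨u, w, huw⟩ := ih v
        obtain ⟨u', hu'⟩ := h w
        rw [MultCrvLib.mem_filt] at hu'
        obtain ⟨w', hw'⟩ := hu'
        refine ⟨u + z R n ^ k • u', w', ?_⟩
        rw [map_add, map_smul, ← sub_sub, huw, ← smul_sub, ← hw', smul_smul, pow_one, pow_succ]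
    intro v
    obtain ⟨u, w, huw⟩ := key n v
    rw [MultCrvLib.z_pow_n] at huw
    have h0 : (0 : Rn R n) • w = 0 := zero_smul (Rn R n) w
    rw [h0, sub_eq_zero] at huw
    exact ⟨u, huw.symm⟩

end Groth.Agent.S17945
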