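import Groth.Statements.S17940
import Mathlib
import Groth.Agent.Lib.Helper6.MultCrvLib
import Groth.Agent.S17945

set_option autoImplicit false
universe u
open MultCrv

namespace Groth.Agent.S17940

open Polynomial Groth.Agent.Lib.Helper6.MultCrvLib

theorem ann_z_pow {R : Type u} [CommRing R] [IsDomain R] (n k : ℕ) (hk : k ≤ n) (a : Rn R n) :
    z R n ^ k * a = 0 ↔ a ∈ Ideal.span {z R n ^ (n - k)} := by
  obtain ⟨p, rfl⟩ := Ideal.Quotient.mk_surjective a
  rw [z, ← map_pow, ← map_pow, ← map_mul, Ideal.Quotient.eq_zero_iff_mem, Ideal.mem_span_singleton,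
    Ideal.mem_span_singleton]
  constructor
  · intro h
    have h1 : (X : R[X]) ^ k * X ^ (n - k) ∣ X ^ k * p := by
      rwa [← pow_add, Nat.add_sub_cancel' hk]
    obtain ⟨q, hq⟩ := (mul_dvd_mul_iff_left (pow_ne_zero k X_ne_zero)).mp h1
    exact ⟨Ideal.Quotient.mk _ q, by rw [hq, map_mul]⟩
  · rintro ⟨b, hb⟩
    obtain ⟨q, rfl⟩ := Ideal.Quotient.mk_surjective b
    rw [← map_mul, Ideal.Quotient.eq, Ideal.mem_span_singleton] at hb
    obtain ⟨c, hc⟩ := hb
    refine ⟨q + X ^ k * c, ?_⟩
    have h2 : p = X ^ (n - k) * q + X ^ n * c := by rw [← hc]; ring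
    rw [h2]
    calc (X : R[X]) ^ k * (X ^ (n - k) * q + X ^ n * c)
        = X ^ (k + (n - k)) * q + X ^ n * (X ^ k * c) := by ring
      _ = X ^ n * (q + X ^ k * c) := by rw [Nat.add_sub_cancel' hk]; ring

theorem transport {n : ℕ} {m : Fin n → ℕ} {X : Type*} (g : (i : Fin n) → Fin (m i) → X)
    {i i' : Fin n} (h : i = i') (k : Fin (m i)) :
    g i k = g i' (Fin.cast (congrArg m h) k) := by
  subst h; rfl

section std

variable (R : Type u) [CommRing R] (n : ℕ) (m : Fin n → ℕ)

/-- standard presentation of the model module -/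
noncomputable def phi0 : ((i : Fin n) → Fin (m i) → Rn R n) →ₗ[Rn R n]
    ((i : Fin n) → Fin (m i) → Oi R n (i.1 + 1)) :=
  LinearMap.pi (fun i => LinearMap.pi (fun k =>
    (Submodule.mkQ (Ideal.span {z R n ^ (i.1 + 1)})) ∘ₗ LinearMap.proj k ∘ₗ LinearMap.proj i))

theorem phi0_apply (g : (i : Fin n) → Fin (m i) → Rn R n) (i : Fin n) (k : Fin (m i)) :
    phi0 R n m g i k = Submodule.Quotient.mk (g i k) := rfl

theorem phi0_surjective : Function.Surjective (phi0 R n m) := by
  intro t
  choose g hg using fun i k => Submodule.Quotient.mk_surjective _ (t i k)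
  exact ⟨g, by funext i k; exact hg i k⟩

theorem mem_ker_phi0 (g : (i : Fin n) → Fin (m i) → Rn R n) :
    g ∈ LinearMap.ker (phi0 R n m) ↔ ∀ i k, g i k ∈ Ideal.span {z R n ^ (i.1 + 1)} := by
  rw [LinearMap.mem_ker]
  constructor
  · intro h i k
    have h1 := congrFun (congrFun h i) k
    rwa [phi0_apply, Pi.zero_apply, Pi.zero_apply, Submodule.Quotient.mk_eq_zero] at h1
  · intro h
    funext i k
    rw [phi0_apply]
    exact (Submodule.Quotient.mk_eq_zero _).mpr (h i k)

/-- multiplication by `z^(i+1)` on the `i`-th block -/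
noncomputable def mu : ((i : Fin n) → Fin (m i) → Rn R n) →ₗ[Rn R n]
    ((i : Fin n) → Fin (m i) → Rn R n) where
  toFun g := fun i k => z R n ^ (i.1 + 1) * g i k
  map_add' g g' := by
    funext i k
    simp [mul_add]
  map_smul' c g := by
    funext i k
    simp [mul_left_comm]

theorem mu_apply (g : (i : Fin n) → Fin (m i) → Rn R n) (i : Fin n) (k : Fin (m i)) :
    mu R n m g i k = z R n ^ (i.1 + 1) * g i k := rfl

theorem range_mu : LinearMap.range (mu R n m) = LinearMap.ker (phi0 R n m) := by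
  ext g
  rw [mem_ker_phi0, LinearMap.mem_range]
  constructor
  · rintro ⟨g', rfl⟩ i k
    rw [mu_apply]
    exact Ideal.mem_span_singleton.mpr ⟨g' i k, rfl⟩
  · intro h
    choose g' hg' using fun i k => Ideal.mem_span_singleton.mp (h i k)
    exact ⟨g', by funext i k; rw [mu_apply, ← hg' i k]⟩

theorem revType_eq (j : Fin n) (h : j.1 + 1 < n) :
    revType n m j = m ⟨n - 2 - j.1, by omega⟩ := by
  simp only [revType, dif_pos h]

theorem revType_eq_zero (j : Fin n) (h : ¬ j.1 + 1 < n) : revType n m j = 0 := by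
  simp only [revType, dif_neg h]

/-- the reindexed quotient map -/
noncomputable def theta : ((i : Fin n) → Fin (m i) → Rn R n) →ₗ[Rn R n]
    ((j : Fin n) → Fin (revType n m j) → Oi R n (j.1 + 1)) where
  toFun g := fun j k' =>
    if h : j.1 + 1 < n then
      Submodule.Quotient.mk (g ⟨n - 2 - j.1, by omega⟩ (Fin.cast (revType_eq n m j h) k'))
    else 0
  map_add' g g' := by
    funext j k'
    by_cases h : j.1 + 1 < n <;> simp [h]
  map_smul' c g := by
    funext j k'
    by_cases h : j.1 + 1 < n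
    · simp only [Pi.smul_apply, RingHom.id_apply, dif_pos h]
      rfl
    · simp [h]

theorem theta_apply_pos (g : (i : Fin n) → Fin (m i) → Rn R n) (j : Fin n) (h : j.1 + 1 < n)
    (k' : Fin (revType n m j)) :
    theta R n m g j k' =
      Submodule.Quotient.mk (g ⟨n - 2 - j.1, by omega⟩ (Fin.cast (revType_eq n m j h) k')) := by
  simp only [theta, LinearMap.coe_mk, AddHom.coe_mk, dif_pos h]

theorem theta_apply_neg (g : (i : Fin n) → Fin (m i) → Rn R n) (j : Fin n) (h : ¬ j.1 + 1 < n)
    (k' : Fin (revType n m j)) : theta R n m g j k' = 0 := by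
  simp only [theta, LinearMap.coe_mk, AddHom.coe_mk, dif_neg h]

end std

section std2

variable (R : Type u) [CommRing R] [IsDomain R] (n : ℕ) (m : Fin n → ℕ)

theorem m_eq_revType (i : Fin n) (hi : i.1 + 1 < n) :
    m i = revType n m ⟨n - 2 - i.1, by omega⟩ := by
  have hj : (n - 2 - i.1) + 1 < n := by omega
  rw [revType_eq n m _ hj]
  congr 1
  ext
  simp only
  omega

theorem ker_theta : LinearMap.ker (theta R n m) = LinearMap.ker (mu R n m) := by
  ext g
  rw [LinearMap.mem_ker, LinearMap.mem_ker]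
  constructor
  · intro h
    funext i k
    rw [mu_apply]
    show _ = (0 : Rn R n)
    have hin := i.2
    rw [ann_z_pow n (i.1 + 1) (by omega)]
    by_cases hi : i.1 + 1 < n
    · have hj : (n - 2 - i.1) + 1 < n := by omega
      have hii : i = (⟨n - 2 - (n - 2 - i.1), by omega⟩ : Fin n) := by
        ext
        simp only
        omega
      have h1 := congrFun (congrFun h ⟨n - 2 - i.1, by omega⟩)
        (Fin.cast (m_eq_revType n m i hi) k)
      rw [theta_apply_pos R n m g _ hj] at h1
      simp only [Pi.zero_apply] at h1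
      rw [Submodule.Quotient.mk_eq_zero] at h1
      rw [transport g hii k]
      have e : n - (i.1 + 1) = n - 2 - i.1 + 1 := by omega
      rw [e]
      convert h1 using 2
      exact Fin.ext rfl
    · have e : n - (i.1 + 1) = 0 := by omega
      rw [e, pow_zero, Ideal.span_singleton_one]
      trivial
  · intro h
    funext j k'
    by_cases hj : j.1 + 1 < n
    · rw [theta_apply_pos R n m g j hj]
      show _ = (0 : Oi R n (j.1 + 1))
      rw [Submodule.Quotient.mk_eq_zero]
      have h1 := congrFun (congrFun h ⟨n - 2 - j.1, by omega⟩)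
        (Fin.cast (revType_eq n m j hj) k')
      rw [mu_apply] at h1
      have h2 : z R n ^ (n - 2 - j.1 + 1) *
          g ⟨n - 2 - j.1, by omega⟩ (Fin.cast (revType_eq n m j hj) k') = (0 : Rn R n) := h1
      rw [ann_z_pow n _ (by omega)] at h2
      have e : n - (n - 2 - j.1 + 1) = j.1 + 1 := by omega
      rwa [e] at h2
    · rw [theta_apply_neg R n m g j hj]
      rfl

theorem transport2 {n : ℕ} (rt : Fin n → ℕ)
    (t : (j : Fin n) → Fin (rt j) → Oi R n (j.1 + 1)) {j j' : Fin n} (h : j' = j)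
    (κ : Fin (rt j')) (a : Rn R n)
    (ha : (Submodule.Quotient.mk a : Oi R n (j'.1 + 1)) = t j' κ) :
    (Submodule.Quotient.mk a : Oi R n (j.1 + 1)) = t j (Fin.cast (congrArg rt h) κ) := by
  subst h
  exact ha

theorem theta_surjective : Function.Surjective (theta R n m) := by
  intro t
  have hrep : ∀ (i : Fin n) (hi : i.1 + 1 < n) (k : Fin (m i)), ∃ a : Rn R n,
      (Submodule.Quotient.mk a : Oi R n (n - 2 - i.1 + 1)) =
        t ⟨n - 2 - i.1, by omega⟩ (Fin.cast (m_eq_revType n m i hi) k) :=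
    fun i hi k => Submodule.Quotient.mk_surjective _ _
  choose rep hrep' using hrep
  refine ⟨fun i k => if hi : i.1 + 1 < n then rep i hi k else 0, ?_⟩
  funext j k'
  by_cases hj : j.1 + 1 < n
  · rw [theta_apply_pos R n m _ j hj]
    have hj' : (n - 2 - j.1) + 1 < n := by omega
    simp only [dif_pos hj']
    have hjj : (⟨n - 2 - (n - 2 - j.1), by omega⟩ : Fin n) = j := by
      ext
      simp only
      omega
    have h3 := transport2 R (revType n m) t hjj _ _
      (hrep' ⟨n - 2 - j.1, by omega⟩ hj' (Fin.cast (revType_eq n m j hj) k'))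
    rw [h3]
    congr 1
  · exact (Fin.cast (revType_eq_zero n m j hj) k').elim0

theorem ker_phi0_equiv :
    Nonempty (↥(LinearMap.ker (phi0 R n m)) ≃ₗ[Rn R n] QFModel R n (revType n m)) := by
  have e1 : ↥(LinearMap.ker (phi0 R n m)) ≃ₗ[Rn R n] ↥(LinearMap.range (mu R n m)) :=
    LinearEquiv.ofEq _ _ (range_mu R n m).symm
  have e2 := (mu R n m).quotKerEquivRange
  let θ' : ((i : Fin n) → Fin (m i) → Rn R n) →ₗ[Rn R n] QFModel R n (revType n m) :=
    (QFModel.equivPi R n (revType n m)).symm.toLinearMap ∘ₗ theta R n m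
  have hker' : LinearMap.ker θ' = LinearMap.ker (mu R n m) := by
    rw [← ker_theta]
    exact LinearEquiv.ker_comp _ _
  have hsurj' : Function.Surjective θ' :=
    (QFModel.equivPi R n (revType n m)).symm.surjective.comp (theta_surjective R n m)
  have e3 : (_ ⧸ LinearMap.ker (mu R n m)) ≃ₗ[Rn R n] (_ ⧸ LinearMap.ker θ') :=
    Submodule.quotEquivOfEq _ _ hker'.symm
  have e4 := θ'.quotKerEquivOfSurjective hsurj'
  exact ⟨e1.trans (e2.symm.trans (e3.trans e4))⟩

end std2

theorem result (R : Type u) [CommRing R] [IsDomain R] [IsDiscreteValuationRing R] (n : ℕ) (hn : 1 ≤ n) (m : Fin n → ℕ) (M : Type u) [AddCommGroup M] [Module (MultCrv.Rn R n) M] (hM : MultCrv.IsQuasiFreeOfType R n M m) (r : ℕ) (φ : (Fin r → MultCrv.Rn R n) →ₗ[MultCrv.Rn R n] M) (hφ : Function.Surjective φ) (hφz : ∀ f : Fin r → MultCrv.Rn R n, φ f ∈ MultCrv.filt R n M 1 → f ∈ MultCrv.filt R n (Fin r → MultCrv.Rn R n) 1) : MultCrv.IsQuasiFreeOfType R n ↥(LinearMap.ker φ) (MultCrv.revType n m) := by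
  classical
  obtain ⟨e⟩ := hM
  let e' : M ≃ₗ[Rn R n] ((i : Fin n) → Fin (m i) → Oi R n (i.1 + 1)) :=
    e.trans (QFModel.equivPi R n m)
  let ψ : (Fin r → Rn R n) →ₗ[Rn R n] ((i : Fin n) → Fin (m i) → Oi R n (i.1 + 1)) :=
    e'.toLinearMap ∘ₗ φ
  have hψ : Function.Surjective ψ := e'.surjective.comp hφ
  obtain ⟨α, hα⟩ := Module.projective_lifting_property (phi0 R n m) ψ (phi0_surjective R n m)
  have hα' : ∀ f, phi0 R n m (α f) = e' (φ f) := fun f => LinearMap.congr_fun hα f
  have hαz : ∀ f, α f ∈ filt R n ((i : Fin n) → Fin (m i) → Rn R n) 1 →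
      f ∈ filt R n (Fin r → Rn R n) 1 := by
    intro f hf
    apply hφz
    rw [mem_filt] at hf ⊢
    obtain ⟨g, hg⟩ := hf
    refine ⟨e'.symm (phi0 R n m g), ?_⟩
    apply e'.injective
    rw [map_smul, e'.apply_symm_apply, ← hα', ← hg, map_smul]
  have hαsurj : Function.Surjective α := by
    rw [Groth.Agent.S17945.result R n hn]
    intro g
    obtain ⟨f, hf⟩ := hψ (phi0 R n m g)
    refine ⟨f, ?_⟩
    have h1 : g - α f ∈ LinearMap.ker (phi0 R n m) := by
      rw [LinearMap.mem_ker, map_sub, hα']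
      exact sub_eq_zero_of_eq hf.symm
    rw [mem_ker_phi0] at h1
    rw [mem_filt]
    choose g' hg' using fun i k => Ideal.mem_span_singleton.mp (h1 i k)
    refine ⟨fun i k => z R n ^ i.1 * g' i k, ?_⟩
    funext i k
    rw [hg' i k]
    simp only [Pi.smul_apply, smul_eq_mul, pow_succ]
    ring
  obtain ⟨β, hβ⟩ := Module.projective_lifting_property α LinearMap.id hαsurj
  have hβ' : ∀ g, α (β g) = g := fun g => LinearMap.congr_fun hβ g
  have hβsurj : Function.Surjective β := by
    rw [Groth.Agent.S17945.result R n hn]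
    intro f
    refine ⟨α f, hαz _ ?_⟩
    rw [map_sub, hβ', sub_self]
    exact Submodule.zero_mem _
  have hαinj : Function.Injective α := by
    rw [injective_iff_map_eq_zero]
    intro f hf
    obtain ⟨g, rfl⟩ := hβsurj f
    rw [hβ'] at hf
    rw [hf, map_zero]
  let αe := LinearEquiv.ofBijective α ⟨hαinj, hαsurj⟩
  have hker : LinearMap.ker φ =
      Submodule.comap αe.toLinearMap (LinearMap.ker (phi0 R n m)) := by
    ext f
    rw [Submodule.mem_comap, LinearMap.mem_ker, LinearMap.mem_ker]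
    show φ f = 0 ↔ phi0 R n m (α f) = 0
    rw [hα']
    exact (e'.map_eq_zero_iff).symm
  obtain ⟨E⟩ := ker_phi0_equiv R n m
  exact ⟨(LinearEquiv.ofEq _ _ hker).trans ((LinearEquiv.ofSubmodule' αe _).trans E)⟩

end Groth.Agent.S17940
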