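import Groth.Statements.S1795
import Mathlib
import Groth.Agent.Lib.Helper23.RelDual3
import Groth.Agent.Lib.Helper23.RelDual4
-- import your own Groth.Agent.* helpers here

set_option autoImplicit false
universe u
open CategoryTheory
open scoped TensorProduct
attribute [local instance] HasDerivedCategory.standard
open Dual2

namespace Groth.Agent.S1795

/-- Let R → A be a ring map between Noetherian rings which is flat and of finite type, with φ^! formed
from a presentation ψ : R[x_1, …, x_n] → A as RHom_P(A, (−) ⊗^L_R P)[n] (derived base change under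
its existence hypothesis, RHom_P(A, −) a right adjoint of restriction). Then ω_{A/R} = φ^!(R) is a
relative dualizing complex: it is R-perfect and RHom_{A ⊗_R A}(A, ω_{A/R} ⊗^L_A (A ⊗_R A)) ≅ A (with
the same conventions for these functors). -/
theorem result (R A : Type u) [CommRing R] [CommRing A] [IsNoetherianRing R] [IsNoetherianRing A] [Algebra R A] [Module.Flat R A] [Algebra.FinitePresentation R A] (n : ℕ) (ψ : MvPolynomial (Fin n) R →ₐ[R] A) (hψ : Function.Surjective ψ) [DRing.HasLBaseChange (algebraMap R (MvPolynomial (Fin n) R))] (Rψ : Dual.D (MvPolynomial (Fin n) R) ⥤ Dual.D A) (adj : DRing.restrictD ψ.toRingHom ⊣ Rψ) [DRing.HasLBaseChange (Algebra.TensorProduct.includeLeftRingHom : A →+* TensorProduct R A A)] (Rμ : Dual.D (TensorProduct R A A) ⥤ Dual.D A) (adjμ : DRing.restrictD (Algebra.TensorProduct.lmul' R (S := A)).toRingHom ⊣ Rμ) : Dual2.IsRelDualizing R A Rμ (Dual2.shriekVia n Rψ (Dual.inD R R)) := by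
  classical
  haveI : Algebra.FiniteType R A := inferInstance
  refine ⟨Groth.Agent.Lib.helper23.RelDual.isRelPerfect_shriekVia_self R A n ψ hψ Rψ adj, ?_⟩
  let T := TensorProduct R A A
  let e : T ≃+* T := (Algebra.TensorProduct.comm R A A).toRingEquiv
  let ιL : A →+* T := Algebra.TensorProduct.includeLeftRingHom
  let ιR : A →+* T := (Algebra.TensorProduct.includeRight : A →ₐ[R] TensorProduct R A A).toRingHom
  let μ : T →+* A := (Algebra.TensorProduct.lmul' R (S := A)).toRingHom
  have h1 : ιL = e.toRingHom.comp ιR := by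
    ext a
    show a ⊗ₜ[R] (1 : A) = Algebra.TensorProduct.comm R A A ((1 : A) ⊗ₜ[R] a)
    rw [Algebra.TensorProduct.comm_tmul]
  have h2 : μ = μ.comp e.toRingHom := by
    have h3 : (Algebra.TensorProduct.lmul' R (S := A)) =
        (Algebra.TensorProduct.lmul' R (S := A)).comp
          (Algebra.TensorProduct.comm R A A).toAlgHom := by
      apply Algebra.TensorProduct.ext'
      intro a b
      show Algebra.TensorProduct.lmul' R (S := A) (a ⊗ₜ[R] b) =
        Algebra.TensorProduct.lmul' R (S := A) (Algebra.TensorProduct.comm R A A (a ⊗ₜ[R] b))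
      rw [Algebra.TensorProduct.comm_tmul, Algebra.TensorProduct.lmul'_apply_tmul,
        Algebra.TensorProduct.lmul'_apply_tmul, mul_comm]
    refine RingHom.ext (fun t => ?_)
    exact congrArg (fun f : TensorProduct R A A →ₐ[R] A => f t) h3
  haveI : DRing.HasLBaseChange ιR := Groth.Agent.Lib.helper13.RKF.hasLBaseChange _
  obtain ⟨i1⟩ := Groth.Agent.Lib.helper23.RelDual.nonempty_lbcCompEquivIso ιR e ιL h1
  obtain ⟨i2⟩ := Groth.Agent.Lib.helper23.RelDual.nonempty_rightAdjCompEquivIso μ e μ h2
    Rμ adjμ Rμ adjμ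
  obtain ⟨i3⟩ := Groth.Agent.Lib.helper23.RelDual.nonempty_rightAdjoint_diagonal_iso R A n ψ hψ
    Rψ adj Rμ adjμ
  exact ⟨Rμ.mapIso (i1.app _) ≪≫ i2.app _ ≪≫ i3⟩

end Groth.Agent.S1795
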