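import Groth.Statements.S17962
import Mathlib
-- import your own Groth.Agent.* helpers here

set_option autoImplicit false
open CategoryTheory CategoryTheory.Limits AlgebraicGeometry
universe u
open Hensel

namespace Groth.Agent.S17962

section helpers
theorem main {X X₀ : Scheme.{u}}
    (i : X₀ ⟶ X)
    (hX : ∀ (Y : Scheme.{u}) (g : Y ⟶ X), IsFinite g →
      ∀ V : Set ↥(pullback g (i)), IsClopen V →
        ∃! U : Set ↥Y, IsClopen U ∧ (pullback.fst g (i)).base ⁻¹' U = V)
    {Y : Scheme.{u}} (h : Y ⟶ X) [IsFinite h] :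
    ∀ (Z : Scheme.{u}) (g : Z ⟶ Y), IsFinite g →
      ∀ V : Set ↥(pullback g (pullback.fst h i)), IsClopen V →
        ∃! U : Set ↥Z, IsClopen U ∧ (pullback.fst g (pullback.fst h i)).base ⁻¹' U = V := by
  intro Z g hg V hV
  let e := pullbackRightPullbackFstIso h i g
  have he : e.hom ≫ pullback.fst (g ≫ h) i = pullback.fst g (pullback.fst h i) :=
    pullbackRightPullbackFstIso_hom_fst h i g
  have hfin : IsFinite (g ≫ h) := inferInstance
  -- transport V
  have hinvhom : ∀ x, e.inv.base (e.hom.base x) = x := fun x => by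
    rw [← Scheme.Hom.comp_apply, e.hom_inv_id]; rfl
  have hhominv : ∀ y, e.hom.base (e.inv.base y) = y := fun y => by
    rw [← Scheme.Hom.comp_apply, e.inv_hom_id]; rfl
  let V' : Set ↥(pullback (g ≫ h) i) := e.inv.base ⁻¹' V
  have hV' : IsClopen V' := hV.preimage e.inv.continuous
  have hpre : ∀ U : Set ↥Z, (pullback.fst g (pullback.fst h i)).base ⁻¹' U = V ↔
      (pullback.fst (g ≫ h) i).base ⁻¹' U = V' := by
    intro U
    have hfst : ∀ x, (pullback.fst g (pullback.fst h i)).base x =
        (pullback.fst (g ≫ h) i).base (e.hom.base x) := fun x => by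
      rw [← he, Scheme.Hom.comp_apply]
    constructor
    · intro hU
      ext y
      change (pullback.fst (g ≫ h) i).base y ∈ U ↔ e.inv.base y ∈ V
      rw [← hU]
      change _ ↔ (pullback.fst g (pullback.fst h i)).base (e.inv.base y) ∈ U
      rw [hfst, hhominv]
    · intro hU
      ext x
      change (pullback.fst g (pullback.fst h i)).base x ∈ U ↔ x ∈ V
      rw [hfst]
      change e.hom.base x ∈ (pullback.fst (g ≫ h) i).base ⁻¹' U ↔ _
      rw [hU]
      change e.inv.base (e.hom.base x) ∈ V ↔ _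
      rw [hinvhom]
  obtain ⟨U, ⟨hUc, hU⟩, huniq⟩ := hX Z (g ≫ h) hfin V' hV'
  refine ⟨U, ⟨hUc, (hpre U).2 hU⟩, ?_⟩
  rintro U' ⟨hU'c, hU'⟩
  exact huniq U' ⟨hU'c, (hpre U').1 hU'⟩
end helpers

/-- Let i : X₀ ⟶ X be a closed immersion such that (X, X₀) is a henselian couple, i.e. for every finite
morphism g : Y ⟶ X every open-closed subset of Y ×_X X₀ is the inverse image under the first
projection of exactly one open-closed subset of Y. Then for every finite morphism h : Y ⟶ X the
couple (Y, Y ×_X X₀), with the first projection as closed immersion, is again henselian. -/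
theorem result {X X₀ : Scheme.{u}}
    (i : X₀ ⟶ X) [IsClosedImmersion i]
    (hX : ∀ (Y : Scheme.{u}) (g : Y ⟶ X), IsFinite g →
      ∀ V : Set ↥(pullback g (i)), IsClopen V →
        ∃! U : Set ↥Y, IsClopen U ∧ (pullback.fst g (i)).base ⁻¹' U = V)
    {Y : Scheme.{u}} (h : Y ⟶ X) [IsFinite h] :
    ∀ (Z : Scheme.{u}) (g : Z ⟶ Y), IsFinite g →
      ∀ V : Set ↥(pullback g (pullback.fst h i)), IsClopen V →
        ∃! U : Set ↥Z, IsClopen U ∧ (pullback.fst g (pullback.fst h i)).base ⁻¹' U = V := by
  exact main i hX h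

end Groth.Agent.S17962
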