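import Groth.Statements.S17968
import Mathlib
import Groth.Agent.Lib.Helper26.HenselPairIdem

set_option autoImplicit false
universe u
open Hensel

namespace Groth.Agent.S17968

open Groth.Agent.Lib.helper26.HenselPair Polynomial


/-- Let A be a commutative ring and I an ideal contained in the Jacobson radical of A. Suppose that for
every natural number m and every monic polynomial p over A whose reduction modulo I is the reduction
of (T^2 - T)^m, every idempotent of B/IB is the image of an idempotent of B, where B = A[T]/(p).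
Then (A, I) is a henselian pair. -/
theorem result (A : Type u) [CommRing A]
    (I : Ideal A) (hI : I ≤ Ideal.jacobson ⊥)
    (h : ∀ (m : ℕ) (p : Polynomial A), p.Monic →
      Polynomial.map (Ideal.Quotient.mk I) p =
        Polynomial.map (Ideal.Quotient.mk I) ((Polynomial.X ^ 2 - Polynomial.X) ^ m) →
      Set.SurjOn (Ideal.Quotient.mk (Ideal.map (algebraMap A (AdjoinRoot p)) I))
        {e : AdjoinRoot p | IsIdempotentElem e} {e | IsIdempotentElem e}) :
    HenselianRing A I := by
  refine henselianRing_of_gabber hI ?_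
  intro n hn q hqdeg hqI
  cases subsingleton_or_nontrivial A with
  | inl hs => exact ⟨1, by simp, Subsingleton.elim _ _⟩
  | inr hA =>
  obtain ⟨k, rfl⟩ : ∃ k, n = k + 1 := ⟨n - 1, by omega⟩
  set f : A[X] := X ^ (k + 1) * (X - 1) + q with hf
  set P : A[X] := f * (X - 1) ^ k with hP
  have hRmonic : (X ^ (k + 1) * (X - 1) : A[X]).Monic := by
    rw [show (X - 1 : A[X]) = X - C 1 by simp]
    exact (monic_X_pow _).mul (monic_X_sub_C (1 : A))
  have hRdeg : (X ^ (k + 1) * (X - 1) : A[X]).natDegree = k + 1 + 1 := by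
    rw [show (X - 1 : A[X]) = X - C 1 by simp,
      Monic.natDegree_mul (monic_X_pow _) (monic_X_sub_C (1 : A)), natDegree_X_pow,
      natDegree_X_sub_C]
  have hqlt : q.degree < (X ^ (k + 1) * (X - 1) : A[X]).degree := by
    rw [degree_eq_natDegree hRmonic.ne_zero, hRdeg]
    exact (degree_le_natDegree).trans_lt (by exact_mod_cast Nat.lt_succ_of_le hqdeg)
  have hfmonic : f.Monic := hRmonic.add_of_left hqlt
  have hX1 : (X - 1 : A[X]).Monic := by
    rw [show (X - 1 : A[X]) = X - C 1 by simp]; exact monic_X_sub_C 1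
  have hPmonic : P.Monic := hfmonic.mul (hX1.pow k)
  have hqmap : q.map (Ideal.Quotient.mk I) = 0 := by
    ext i
    rw [coeff_map, coeff_zero]
    exact Ideal.Quotient.eq_zero_iff_mem.mpr (hqI i)
  have hPmap : P.map (Ideal.Quotient.mk I) =
      ((X ^ 2 - X) ^ (k + 1) : A[X]).map (Ideal.Quotient.mk I) := by
    rw [hP, hf, Polynomial.map_mul, Polynomial.map_add, hqmap, add_zero]
    simp only [Polynomial.map_mul, Polynomial.map_pow, Polynomial.map_sub, Polynomial.map_X,
      Polynomial.map_one]
    have hfac : ((X : (A ⧸ I)[X]) ^ 2 - X) = X * (X - 1) := by ring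
    rw [hfac, mul_pow]
    ring
  have hsurj := h (k + 1) P hPmonic hPmap
  -- Bezout
  have hcop : IsCoprime ((X : A[X]) ^ (k + 1)) ((X - 1) ^ (k + 1)) := by
    apply IsCoprime.pow
    exact ⟨1, -1, by ring⟩
  obtain ⟨u, v, huv⟩ := hcop
  have hfe : ∀ {B' : Type u} [CommRing B'] [Algebra A B'] (s : B'),
      aeval s f = s ^ (k + 1) * (s - 1) + aeval s q := by
    intro B' _ _ s
    rw [hf, map_add, map_mul, map_pow, map_sub, aeval_X, map_one]
  set t' : AdjoinRoot P := AdjoinRoot.root P with ht'
  set K' := I.map (algebraMap A (AdjoinRoot P)) with hK'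
  have hPt' : aeval t' P = 0 := AdjoinRoot.aeval_eq P ▸ AdjoinRoot.mk_self
  -- `t'^(k+1) (t'-1)^(k+1) ∈ IB'`
  have hrel : aeval t' (X ^ (k + 1) * (X - 1) ^ (k + 1) : A[X]) ∈ K' := by
    have h1 : (X ^ (k + 1) * (X - 1) ^ (k + 1) : A[X]) = P - q * (X - 1) ^ k := by
      rw [hP, hf]; ring
    rw [h1, map_sub, hPt', zero_sub, map_mul]
    exact K'.neg_mem (K'.mul_mem_right _ (aeval_mem_map q hqI t'))
  set b' : AdjoinRoot P := aeval t' (u * X ^ (k + 1)) with hb'
  have hb'idem : IsIdempotentElem (Ideal.Quotient.mk K' b') := by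
    change _ * _ = _
    rw [← map_mul, Ideal.Quotient.eq]
    have h2 : b' * b' - b' = -(aeval t' (u * v) * aeval t' (X ^ (k + 1) * (X - 1) ^ (k + 1) : A[X])) := by
      rw [hb', ← map_mul, ← map_mul, ← map_sub, ← map_neg]
      congr 1
      linear_combination (u * X ^ (k + 1)) * huv
    rw [h2]
    exact K'.neg_mem (K'.mul_mem_left _ hrel)
  obtain ⟨e', he', he'b⟩ := hsurj hb'idem
  have he'b' : e' - b' ∈ K' := Ideal.Quotient.eq.mp he'b
  -- map to `A[T]/(f)`
  set t : AdjoinRoot f := AdjoinRoot.root f with ht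
  have hft : aeval t f = 0 := AdjoinRoot.aeval_eq f ▸ AdjoinRoot.mk_self
  have hPt : aeval t P = 0 := by rw [hP, map_mul, hft, zero_mul]
  let φ : AdjoinRoot P →ₐ[A] AdjoinRoot f := AdjoinRoot.liftAlgHom P (Algebra.ofId A _) t (by
    rw [← hPt]; rfl)
  have hφt : φ t' = t := by simp [φ, ht']
  have hφaeval : ∀ r : A[X], φ (aeval t' r) = aeval t r := by
    intro r
    rw [← Polynomial.aeval_algHom_apply, hφt]
  set K := I.map (algebraMap A (AdjoinRoot f)) with hK
  have hφK : ∀ x ∈ K', φ x ∈ K := by
    intro x hx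
    have hle : K' ≤ K.comap φ.toRingHom := by
      rw [hK', Ideal.map_le_iff_le_comap]
      intro i hi
      rw [Ideal.mem_comap, Ideal.mem_comap]
      change φ (algebraMap A _ i) ∈ K
      rw [AlgHom.commutes]
      exact Ideal.mem_map_of_mem _ hi
    exact hle hx
  -- `u(1) = 1`
  have hu1 : (u - 1).IsRoot 1 := by
    have := congrArg (eval 1) huv
    simp only [eval_add, eval_mul, eval_pow, eval_X, eval_sub, eval_one, one_pow, mul_one, sub_self,
      ne_eq, Nat.add_eq_zero_iff, one_ne_zero, and_false, not_false_eq_true, zero_pow, mul_zero,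
      add_zero] at this
    rw [IsRoot, eval_sub, eval_one, this, sub_self]
  set w : A[X] := (u - 1) /ₘ (X - C 1) with hw
  have huw : (X - C 1) * w = u - 1 := mul_divByMonic_eq_iff_isRoot.mpr hu1
  have htrel : t ^ (k + 1) * (t - 1) = -aeval t q := by
    have := hft
    rw [hfe t] at this
    linear_combination this
  have hkey : φ b' - t ^ (k + 1) ∈ K := by
    rw [hb', hφaeval]
    have h3 : aeval t (u * X ^ (k + 1)) - t ^ (k + 1) = -(aeval t q * aeval t w) := by
      have h4 : (u * X ^ (k + 1) - X ^ (k + 1) : A[X]) = X ^ (k + 1) * (X - 1) * w := by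
        have : (C (1 : A) : A[X]) = 1 := C_1
        rw [this] at huw
        linear_combination (-(X : A[X]) ^ (k + 1)) * huw
      have h5 := congrArg (aeval t) h4
      simp only [map_sub, map_mul, map_pow, aeval_X, map_one] at h5
      rw [map_mul, map_pow, aeval_X, h5, htrel]
      ring
    rw [h3]
    exact K.neg_mem (K.mul_mem_right _ (aeval_mem_map q hqI t))
  have heb : φ e' - t ^ (k + 1) ∈ K := by
    have : φ e' - t ^ (k + 1) = φ (e' - b') + (φ b' - t ^ (k + 1)) := by rw [map_sub]; ring
    rw [this]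
    exact K.add_mem (hφK _ he'b') hkey
  exact gabber_root_of_idempotent hI (k + 1) q hqdeg hqI f hf (φ e') (he'.map φ) heb


end Groth.Agent.S17968
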