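import Groth.Statements.S17969
import Mathlib

set_option autoImplicit false
universe u
open scoped TensorProduct
open CAlg

namespace Groth.Agent.S17969

/-- Let A be an integrally closed domain with fraction field K and B a commutative A-algebra which is
finite and torsion-free as an A-module and generated as an A-algebra by a single element x. Let P be
the characteristic polynomial of multiplication by 1 ⊗ x on the finite free K-module K ⊗_A B. Then P
has coefficients in A, namely P is the image of a monic polynomial over A, and the kernel of the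
A-algebra map A[T] → B sending T to x is generated by that polynomial, so that B is A[T]/(P). -/
theorem result
    (A : Type u) [CommRing A] [IsDomain A] [IsIntegrallyClosed A]
    (B : Type u) [CommRing B] [Algebra A B] [Module.Finite A B] [NoZeroSMulDivisors A B]
    (x : B) (hx : Algebra.adjoin A {x} = ⊤) :
    ∃ P : Polynomial A, P.Monic ∧
      Polynomial.map (algebraMap A (FractionRing A)) P =
        (LinearMap.mulLeft (FractionRing A) ((1 : FractionRing A) ⊗ₜ[A] x)).charpoly ∧
      RingHom.ker (Polynomial.aeval x).toRingHom = Ideal.span {P} := by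
  classical
  have hxint : IsIntegral A x := Algebra.IsIntegral.isIntegral x
  have hx'int : IsIntegral (FractionRing A) ((1 : FractionRing A) ⊗ₜ[A] x) :=
    Algebra.IsIntegral.isIntegral _
  -- key evaluation identity
  have hev : ∀ q : Polynomial A,
      Polynomial.aeval ((1 : FractionRing A) ⊗ₜ[A] x)
        (q.map (algebraMap A (FractionRing A))) =
      (1 : FractionRing A) ⊗ₜ[A] (Polynomial.aeval x q) := by
    intro q
    rw [Polynomial.aeval_map_algebraMap]
    have : (1 : FractionRing A) ⊗ₜ[A] x =
        (Algebra.TensorProduct.includeRight : B →ₐ[A] FractionRing A ⊗[A] B) x := rfl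
    rw [this, Polynomial.aeval_algHom_apply]
    rfl
  -- injectivity of b ↦ 1 ⊗ b
  have hinj : ∀ b : B, (1 : FractionRing A) ⊗ₜ[A] b = 0 → b = 0 := by
    intro b hb
    have h1 : (TensorProduct.mk A (FractionRing A) B 1) b = 0 := hb
    rw [IsLocalizedModule.eq_zero_iff (nonZeroDivisors A)] at h1
    obtain ⟨s, hs⟩ := h1
    have hs0 : (s : A) ≠ 0 := nonZeroDivisors.ne_zero s.2
    exact (smul_eq_zero.1 hs).resolve_left hs0
  -- generation
  have htop : Algebra.adjoin (FractionRing A) {(1 : FractionRing A) ⊗ₜ[A] x} = ⊤ := by
    rw [eq_top_iff]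
    rintro z -
    have h1 : ∀ b : B, (1 : FractionRing A) ⊗ₜ[A] b ∈
        Algebra.adjoin (FractionRing A) {(1 : FractionRing A) ⊗ₜ[A] x} := by
      intro b
      have hb : b ∈ Algebra.adjoin A {x} := hx ▸ Algebra.mem_top
      induction hb using Algebra.adjoin_induction with
      | mem y hy =>
        rw [Set.mem_singleton_iff.1 hy]
        exact Algebra.subset_adjoin (Set.mem_singleton _)
      | algebraMap a =>
        have : (1 : FractionRing A) ⊗ₜ[A] (algebraMap A B a) =
            algebraMap (FractionRing A) (FractionRing A ⊗[A] B) (algebraMap A (FractionRing A) a) := by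
          rw [Algebra.TensorProduct.algebraMap_apply, Algebra.algebraMap_eq_smul_one a,
            TensorProduct.tmul_smul, Algebra.algebraMap_eq_smul_one, TensorProduct.smul_tmul']
          simp [Algebra.smul_def]
        rw [this]
        exact Subalgebra.algebraMap_mem _ _
      | add y z _ _ hy hz =>
        rw [TensorProduct.tmul_add]
        exact Subalgebra.add_mem _ hy hz
      | mul y z _ _ hy hz =>
        have : (1 : FractionRing A) ⊗ₜ[A] (y * z) =
            ((1 : FractionRing A) ⊗ₜ[A] y) * ((1 : FractionRing A) ⊗ₜ[A] z) := by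
          rw [Algebra.TensorProduct.tmul_mul_tmul, one_mul]
        rw [this]
        exact Subalgebra.mul_mem _ hy hz
    induction z using TensorProduct.induction_on with
    | zero => exact Subalgebra.zero_mem _
    | tmul k b =>
      have : k ⊗ₜ[A] b = k • ((1 : FractionRing A) ⊗ₜ[A] b) := by
        rw [TensorProduct.smul_tmul', smul_eq_mul, mul_one]
      rw [this]
      exact Subalgebra.smul_mem _ (h1 b) k
    | add y z hy hz => exact Subalgebra.add_mem _ hy hz
  let pb := PowerBasis.ofAdjoinEqTop hx'int htop
  have hchar : (LinearMap.mulLeft (FractionRing A) ((1 : FractionRing A) ⊗ₜ[A] x)).charpoly =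
      minpoly (FractionRing A) ((1 : FractionRing A) ⊗ₜ[A] x) := by
    rw [← LinearMap.charpoly_toMatrix _ pb.basis]
    have h2 := charpoly_leftMulMatrix pb
    rw [PowerBasis.ofAdjoinEqTop_gen] at h2
    rw [← h2]
    rfl
  obtain ⟨g, hgm, hgx⟩ := hxint
  have hdvd : minpoly (FractionRing A) ((1 : FractionRing A) ⊗ₜ[A] x) ∣
      g.map (algebraMap A (FractionRing A)) := by
    apply minpoly.dvd
    rw [hev, Polynomial.aeval_def, hgx, TensorProduct.tmul_zero]
  obtain ⟨P, hP⟩ := IsIntegrallyClosed.eq_map_mul_C_of_dvd (FractionRing A) hgm hdvd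
  have hPmap : P.map (algebraMap A (FractionRing A)) =
      minpoly (FractionRing A) ((1 : FractionRing A) ⊗ₜ[A] x) := by
    rw [← hP, (minpoly.monic hx'int).leadingCoeff, Polynomial.C_1, mul_one]
  have hPmonic : P.Monic := by
    apply Polynomial.monic_of_injective (IsFractionRing.injective A (FractionRing A))
    rw [hPmap]
    exact minpoly.monic hx'int
  refine ⟨P, hPmonic, by rw [hPmap, hchar], ?_⟩
  ext q
  rw [RingHom.mem_ker, Ideal.mem_span_singleton]
  show Polynomial.aeval x q = 0 ↔ P ∣ q
  rw [← Polynomial.map_dvd_map (algebraMap A (FractionRing A))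
    (IsFractionRing.injective A (FractionRing A)) hPmonic, hPmap, minpoly.dvd_iff, hev]
  constructor
  · intro h
    rw [h, TensorProduct.tmul_zero]
  · exact hinj _

end Groth.Agent.S17969
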