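import Groth.Statements.S1797
import Mathlib
import Groth.Agent.S0332
import Groth.Agent.S0547
import Groth.Agent.S1802
import Groth.Agent.Lib.Helper24.UniCpl2
import Groth.Agent.Lib.Helper24.GRingQuot1
import Groth.Agent.Lib.Helper24.FormalFibreDescent
import Groth.Agent.Lib.Helper24.CplQuot
import Groth.Agent.Lib.Helper2.GNV6
import Groth.Agent.Lib.Helper19.Conn1

set_option autoImplicit false
universe u
open LocCoh

namespace Groth.Agent.S1797

open IsLocalRing AlgebraicGeometry

/-- a local G-ring has geometrically normal formal fibres -/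
theorem hasGeomNormalFormalFibres_of_isGRing (A : Type u) [CommRing A] [IsLocalRing A]
    (h : CAlg.IsGRing A) : EGA4.HasGeomNormalFormalFibres A := by
  intro p _ k' _ _ hfin
  have hreg : CAlg.IsGeometricallyRegular p.ResidueField (p.Fiber (EGA4.Cpl A)) := by
    let D := Localization.AtPrime (maximalIdeal A)
    have hle : (maximalIdeal A).primeCompl ≤ IsUnit.submonoid A := by
      intro x hx
      exact (IsLocalRing.notMem_maximalIdeal.mp hx)
    let e : D ≃+* A := (IsLocalization.atUnits A (maximalIdeal A).primeCompl hle).symm.toRingEquiv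
    haveI : (p.comap (e : D →+* A)).IsPrime := Ideal.comap_isPrime _ _
    apply Groth.Agent.Lib.Helper24.GRingQuot.transportT e p
    exact ((h.2 (maximalIdeal A)).2 (p.comap (e : D →+* A))).2
  haveI : IsRegularRing (TensorProduct p.ResidueField k' (p.Fiber (EGA4.Cpl A))) := hreg k' hfin
  exact Groth.Agent.Lib.Helper24.FormalFibreDescent.isNormalRing_of_isRegularRing _



/-- Let A be an excellent normal Noetherian local ring (an integrally closed domain) and I an ideal with
dim V(I) ≥ 1, i.e. dim A/I ≥ 1. Then cd(A, I) < dim A: for every A-module M, H^i_I(M) = 0 whenever i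
≥ dim A. Moreover, if dim A = 2 then the open subscheme Spec A ∖ V(I) is affine. -/
theorem result (A : Type u) [CommRing A] [IsDomain A] [IsLocalRing A] [IsNoetherianRing A] [IsIntegrallyClosed A] (hA : EGA4.IsExcellent A) (I : Ideal A) (hI : (1 : WithBot ℕ∞) ≤ ringKrullDim (A ⧸ I)) : (∀ (M : Type u) [AddCommGroup M] [Module A M] (i : ℕ), ringKrullDim A ≤ (i : WithBot ℕ∞) → Subsingleton (LocCoh.H I i M)) ∧ (ringKrullDim A = 2 → AlgebraicGeometry.IsAffine (↑(LocCoh.puncturedOpen A I) : AlgebraicGeometry.Scheme.{u})) := by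
  classical
  obtain ⟨d, hd⟩ := Groth.Agent.Lib.helper19.Conn.exists_nat_dim A
  have hGN := hasGeomNormalFormalFibres_of_isGRing A hA.2.2.1
  haveI hdom : IsDomain (AdicCompletion (maximalIdeal A) A) :=
    Groth.Agent.Lib.Helper24.UniCpl.isDomain_cpl A A hGN (by
      rw [Algebra.algebraMap_self]; exact Function.injective_id)
  have hItop : I ≠ ⊤ := by
    rintro rfl
    haveI : Subsingleton (A ⧸ (⊤ : Ideal A)) := Ideal.Quotient.subsingleton_iff.mpr rfl
    rw [ringKrullDim_eq_bot_of_subsingleton] at hI
    exact absurd hI (by simp)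
  haveI : IsLocalRing (A ⧸ I) := Groth.Agent.Lib.helper19.Conn.isLocalRing_quot I hItop
  have h : ∀ p ∈ minimalPrimes (AdicCompletion (IsLocalRing.maximalIdeal A) A),
      ringKrullDim (AdicCompletion (IsLocalRing.maximalIdeal A) A ⧸ p) = d →
      1 ≤ ringKrullDim (AdicCompletion (IsLocalRing.maximalIdeal A) A ⧸
        (I.map (algebraMap A (AdicCompletion (IsLocalRing.maximalIdeal A) A)) ⊔ p)) := by
    intro p hp _
    rw [IsDomain.minimalPrimes_eq_singleton_bot, Set.mem_singleton_iff] at hp
    rw [hp, sup_bot_eq, ringKrullDim_eq_of_ringEquiv (Groth.Agent.Lib.Helper24.CplQuot.equiv A I),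
      Groth.Agent.S0547.result (A ⧸ I)]
    exact hI
  have part1 : ∀ (M : Type u) [AddCommGroup M] [Module A M] (i : ℕ),
      ringKrullDim A ≤ (i : WithBot ℕ∞) → Subsingleton (LocCoh.H I i M) := by
    intro M _ _ i hi
    refine Groth.Agent.S0332.result A I d hd h M i ?_
    rw [hd] at hi
    exact_mod_cast hi
  refine ⟨part1, ?_⟩
  intro h2
  have h1 : LocCoh.CdLE A I 1 := by
    intro M _ _ i hi
    apply part1 M i
    rw [h2]
    exact_mod_cast hi
  by_cases h0 : LocCoh.CdLE A I 0
  · have hIbot : I = ⊥ := by
      by_contra hne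
      obtain ⟨k, hk⟩ : ∃ k : ℕ, I.height = k :=
        ⟨_, (ENat.natCast_toNat (Ideal.height_ne_top hItop)).symm⟩
      have hpos : 0 < k := by
        rcases Nat.eq_zero_or_pos k with h | h
        · exfalso
          rw [h] at hk
          obtain ⟨p, hp, hIp, hph⟩ := Ideal.exists_isPrime_height_eq hk
          have : p = ⊥ := by
            have h3 : p.height = 0 := by rw [hph]; rfl
            rw [Ideal.height_eq_zero_iff] at h3  -- p ∈ minimalPrimes
            rw [IsDomain.minimalPrimes_eq_singleton_bot] at h3
            exact h3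
          rw [this] at hIp
          exact hne (le_bot_iff.mp hIp)
        · exact h
      have hnt := Groth.Agent.Lib.helper2.GNV.nontrivial_H_height I k hk
      have hss := h0 A k hpos
      exact not_subsingleton _ hss
    have : LocCoh.puncturedOpen A I = ⊥ := by
      rw [hIbot]
      ext x
      simp [LocCoh.puncturedOpen]
      trivial
    rw [this]
    exact isAffineOpen_bot _
  · exact (Groth.Agent.S1802.result A I h1 h0).2

end Groth.Agent.S1797
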