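import Groth.Statements.S17970
import Mathlib

set_option autoImplicit false
universe u
open Hensel

namespace Groth.Agent.S17970

lemma lift_idem_of_pi {B : Type u} [CommRing B] (I : Ideal B)
    {ι : Type u} [Fintype ι] (C : ι → Type u) [∀ j, CommRing (C j)] [∀ j, IsLocalRing (C j)]
    (e : B ≃+* (∀ j, C j)) (b : B) (hb : b * b - b ∈ I) :
    ∃ e' : B, IsIdempotentElem e' ∧ e' - b ∈ I := by
  classical
  set x := e b with hx
  let f : ∀ j, C j := fun j => if IsUnit (x j) then 1 else 0
  have hf : IsIdempotentElem f := by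
    ext j
    by_cases h : IsUnit (x j) <;> simp [f, h]
  refine ⟨e.symm f, hf.map e.symm, ?_⟩
  have hdecomp : f - x = ∑ j, Pi.single j ((f - x) j) := (Finset.univ_sum_single _).symm
  have key : ∀ j, ∃ w : C j, Pi.single j ((f - x) j) = Pi.single j w * e (b * b - b) := by
    intro j
    by_cases h : IsUnit (x j)
    · obtain ⟨u, hu⟩ := h.exists_right_inv
      refine ⟨-u, ?_⟩
      ext k
      by_cases hk : k = j
      · subst hk
        simp only [Pi.single_eq_same, Pi.mul_apply, Pi.sub_apply, map_sub, map_mul, f, if_pos h, ← hx]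
        linear_combination (-(1 - x k)) * hu
      · simp [Pi.single_eq_of_ne hk]
    · have h' : IsUnit (1 - x j) := (IsLocalRing.isUnit_or_isUnit_one_sub_self (x j)).resolve_left h
      obtain ⟨v, hv⟩ := h'.exists_right_inv
      refine ⟨v, ?_⟩
      ext k
      by_cases hk : k = j
      · subst hk
        simp only [Pi.single_eq_same, Pi.mul_apply, Pi.sub_apply, map_sub, map_mul, f, if_neg h, ← hx]
        linear_combination (x k) * hv
      · simp [Pi.single_eq_of_ne hk]
  have : e.symm f - b = e.symm (f - x) := by simp [hx]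
  rw [this, hdecomp, map_sum]
  refine Ideal.sum_mem _ fun j _ => ?_
  obtain ⟨w, hw⟩ := key j
  rw [hw, map_mul, RingEquiv.symm_apply_apply]
  exact I.mul_mem_left _ hb

lemma map_maximalIdeal_le_jacobson (A B : Type u) [CommRing A] [IsLocalRing A] [CommRing B]
    [Algebra A B] [Module.Finite A B] :
    Ideal.map (algebraMap A B) (IsLocalRing.maximalIdeal A) ≤ Ideal.jacobson ⊥ := by
  refine le_sInf ?_
  rintro n ⟨-, hn⟩
  rw [Ideal.map_le_iff_le_comap]
  have : (n.comap (algebraMap A B)).IsMaximal :=
    Ideal.isMaximal_comap_of_isIntegral_of_isMaximal n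
  exact (IsLocalRing.eq_maximalIdeal this).ge

lemma idem_eq_zero_of_mem_jacobson {B : Type u} [CommRing B] {f : B} (hf : IsIdempotentElem f)
    (h : f ∈ Ideal.jacobson (⊥ : Ideal B)) : f = 0 := by
  have hu : IsUnit (f * (-1) + 1) := Ideal.mem_jacobson_bot.mp h (-1)
  have : f * (f * (-1) + 1) = 0 := by
    have := hf.eq
    linear_combination -this
  exact hu.mul_left_eq_zero.mp this

lemma exists_decomp (A : Type u) [CommRing A] [IsLocalRing A] (B : Type u) [CommRing B]
    [Algebra A B] [Module.Finite A B]
    (hlift : ∀ ē : B ⧸ Ideal.map (algebraMap A B) (IsLocalRing.maximalIdeal A),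
      IsIdempotentElem ē → ∃ e : B, IsIdempotentElem e ∧
        Ideal.Quotient.mk (Ideal.map (algebraMap A B) (IsLocalRing.maximalIdeal A)) e = ē) :
    ∃ (ι : Type u) (_ : Fintype ι) (C : ι → Type u) (_ : ∀ j, CommRing (C j)),
        (∀ j, IsLocalRing (C j)) ∧ Nonempty (B ≃+* (∀ j, C j)) := by
  classical
  set I := Ideal.map (algebraMap A B) (IsLocalRing.maximalIdeal A) with hI
  have hIJ : I ≤ Ideal.jacobson ⊥ := map_maximalIdeal_le_jacobson A B
  let _ : Field (A ⧸ IsLocalRing.maximalIdeal A) := Ideal.Quotient.field _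
  have : Module.Finite (A ⧸ IsLocalRing.maximalIdeal A) (B ⧸ I) :=
    Module.Finite.of_restrictScalars_finite A _ _
  have : IsArtinianRing (B ⧸ I) := IsArtinianRing.of_finite (A ⧸ IsLocalRing.maximalIdeal A) (B ⧸ I)
  let E := (MaximalSpectrum.toPiLocalizationEquiv (B ⧸ I)).toRingEquiv
  have : Finite (MaximalSpectrum (B ⧸ I)) := inferInstance
  let _ : Fintype (MaximalSpectrum (B ⧸ I)) := Fintype.ofFinite _
  let ebar : MaximalSpectrum (B ⧸ I) → B ⧸ I := fun i => E.symm (Pi.single i 1)
  have hebar : CompleteOrthogonalIdempotents ebar :=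
    (CompleteOrthogonalIdempotents.single _).map E.symm.toRingHom
  choose e he_idem he_mk using fun i => hlift (ebar i) (hebar.idem i)
  have he : CompleteOrthogonalIdempotents e := by
    refine ⟨⟨he_idem, ?_⟩, ?_⟩
    · intro i j hij
      apply idem_eq_zero_of_mem_jacobson ((he_idem i).mul (he_idem j))
      apply hIJ
      rw [← Ideal.Quotient.eq_zero_iff_mem, map_mul, he_mk, he_mk]
      exact hebar.ortho hij
    · have hortho : OrthogonalIdempotents e := by
        refine ⟨he_idem, ?_⟩
        intro i j hij
        apply idem_eq_zero_of_mem_jacobson ((he_idem i).mul (he_idem j))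
        apply hIJ
        rw [← Ideal.Quotient.eq_zero_iff_mem, map_mul, he_mk, he_mk]
        exact hebar.ortho hij
      have h1 : IsIdempotentElem (1 - ∑ i, e i) := (hortho.isIdempotentElem_sum).one_sub
      have h2 : 1 - ∑ i, e i = 0 := by
        apply idem_eq_zero_of_mem_jacobson h1
        apply hIJ
        rw [← Ideal.Quotient.eq_zero_iff_mem, map_sub, map_one, map_sum]
        simp only [he_mk]
        rw [hebar.complete, sub_self]
      exact (sub_eq_zero.mp h2).symm
  refine ⟨MaximalSpectrum (B ⧸ I), inferInstance, fun i => B ⧸ Ideal.span {1 - e i},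
    inferInstance, ?_, ⟨RingEquiv.ofBijective _ he.bijective_pi⟩⟩
  intro i
  have hmk_e : (Ideal.Quotient.mk (Ideal.span {1 - e i})) (e i) = 1 := by
    have : (Ideal.Quotient.mk (Ideal.span {1 - e i})) (1 - e i) = 0 :=
      Ideal.Quotient.eq_zero_iff_mem.mpr (Ideal.subset_span rfl)
    rw [map_sub, map_one, sub_eq_zero] at this
    exact this.symm
  have hnt : Nontrivial (B ⧸ Ideal.span {1 - e i}) := by
    apply Ideal.Quotient.nontrivial_iff.mpr
    intro htop
    have h1 : (1 : B) ∈ Ideal.span {1 - e i} := by rw [htop]; trivial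
    obtain ⟨r, hr⟩ := Ideal.mem_span_singleton'.mp h1
    have h0 : e i = 0 := by
      have := (he_idem i).eq
      calc e i = e i * 1 := (mul_one _).symm
        _ = e i * (r * (1 - e i)) := by rw [hr]
        _ = 0 := by linear_combination (-r) * this
    have h2 : ebar i = 0 := by rw [← he_mk i, h0, map_zero]
    have h3 : (Pi.single i 1 : MaximalSpectrum.PiLocalization (B ⧸ I)) = 0 := by
      have := congrArg E h2
      simpa [ebar] using this
    have := congrFun h3 i
    simp at this
  have claim : ∀ x : B, IsUnit ((E (Ideal.Quotient.mk I x)) i) →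
      IsUnit (Ideal.Quotient.mk (Ideal.span {1 - e i}) x) := by
    intro x hx
    obtain ⟨u, hu⟩ := hx.exists_right_inv
    obtain ⟨y, hy⟩ := Ideal.Quotient.mk_surjective (E.symm (Pi.single i u))
    have hz : x * y * e i - e i ∈ I := by
      rw [← Ideal.Quotient.eq_zero_iff_mem]
      apply E.injective
      rw [map_zero, map_sub, map_mul, map_mul, map_sub, map_mul, map_mul, hy, he_mk]
      simp only [ebar, RingEquiv.apply_symm_apply]
      ext k
      by_cases hk : k = i
      · subst hk
        simp [hu]
      · simp [Pi.single_eq_of_ne hk]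
    have hunit : IsUnit ((x * y * e i - e i) * 1 + 1) := Ideal.mem_jacobson_bot.mp (hIJ hz) 1
    have : (Ideal.Quotient.mk (Ideal.span {1 - e i})) x * (Ideal.Quotient.mk (Ideal.span {1 - e i})) y =
        (Ideal.Quotient.mk (Ideal.span {1 - e i})) ((x * y * e i - e i) * 1 + 1) := by
      simp only [map_add, map_sub, map_mul, map_one, hmk_e]
      ring
    exact isUnit_of_mul_isUnit_left (this ▸ hunit.map _)
  apply IsLocalRing.of_isUnit_or_isUnit_one_sub_self
  intro c
  obtain ⟨x, rfl⟩ := Ideal.Quotient.mk_surjective c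
  rcases IsLocalRing.isUnit_or_isUnit_one_sub_self ((E (Ideal.Quotient.mk I x)) i) with h | h
  · exact Or.inl (claim x h)
  · right
    have := claim (1 - x) (by simpa using h)
    simpa using this


/-- Let A be a local ring with maximal ideal m and B a commutative A-algebra which is finitely generated
as an A-module. Then B is ring-isomorphic to a finite product of local rings if and only if every
idempotent of B/mB is the image of an idempotent of B. (Reduction modulo mB is always injective on
the idempotents of B, because mB lies in the Jacobson radical of B; so this surjectivity amounts to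
the bijectivity on idempotents in the printed assertion.) -/
theorem result
    (A : Type u) [CommRing A] [IsLocalRing A] (B : Type u) [CommRing B] [Algebra A B] [Module.Finite A B] :
    (∃ (ι : Type u) (_ : Fintype ι) (C : ι → Type u) (_ : ∀ j, CommRing (C j)),
        (∀ j, IsLocalRing (C j)) ∧ Nonempty (B ≃+* (∀ j, C j))) ↔
      Set.SurjOn (Ideal.Quotient.mk (Ideal.map (algebraMap A B) (IsLocalRing.maximalIdeal A)))
        {e : B | IsIdempotentElem e} {e | IsIdempotentElem e} := by
  constructor
  · rintro ⟨ι, _, C, _, hloc, ⟨e⟩⟩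
    intro ebar hebar
    obtain ⟨b, rfl⟩ := Ideal.Quotient.mk_surjective ebar
    have hb : b * b - b ∈ Ideal.map (algebraMap A B) (IsLocalRing.maximalIdeal A) := by
      have h := hebar
      change IsIdempotentElem _ at h
      have h' := h.eq
      rw [← map_mul, Ideal.Quotient.eq] at h'
      exact h'
    obtain ⟨e', he', hd⟩ := lift_idem_of_pi _ C e b hb
    exact ⟨e', he', Ideal.Quotient.eq.mpr hd⟩
  · intro h
    apply exists_decomp A B
    intro ebar hebar
    obtain ⟨e, he, hmk⟩ := h hebar
    exact ⟨e, he, hmk⟩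

end Groth.Agent.S17970
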