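import Groth.Statements.S17973
import Mathlib
import Groth.Agent.Lib.Helper18.EssEtale

set_option autoImplicit false
universe u
open EGA4loc

namespace Groth.Agent.S17973

open TensorProduct Algebra IsLocalRing Groth.Agent.Lib.Helper18.EssEtale

/-- Let A be a local ring, B a local ring which is a local-etale A-algebra (isomorphic over A to the
localization of an etale A-algebra at a prime ideal lying over the maximal ideal of A), and C a
local-etale B-algebra, regarded as an A-algebra through B. Then C is a local-etale A-algebra. -/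
theorem result (A : Type u) [CommRing A] [IsLocalRing A]
    (B : Type u) [CommRing B] [IsLocalRing B] [Algebra A B]
    (C : Type u) [CommRing C] [Algebra B C] [Algebra A C] [IsScalarTower A B C]
    (hB : EGA4loc.IsEssentiallyEtale A B) (hC : EGA4loc.IsEssentiallyEtale B C) :
    EGA4loc.IsEssentiallyEtale A C := by
  obtain ⟨C₁, _, _, q₁, hq₁, hEt₁, hq₁m, ⟨e₁⟩⟩ := hB
  obtain ⟨C₂, _, _, q₂, hq₂, hEt₂, hq₂m, ⟨e₂⟩⟩ := hC
  -- make `B` a `C₁`-algebra
  let φ₁ : C₁ →+* B := (e₁.symm : Localization.AtPrime q₁ →+* B).comp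
    (algebraMap C₁ (Localization.AtPrime q₁))
  let _ : Algebra C₁ B := φ₁.toAlgebra
  have hφ₁ : ∀ x, algebraMap C₁ B x = e₁.symm (algebraMap C₁ (Localization.AtPrime q₁) x) :=
    fun _ => rfl
  have : IsScalarTower A C₁ B := by
    refine IsScalarTower.of_algebraMap_eq fun a => ?_
    rw [hφ₁, ← IsScalarTower.algebraMap_apply, AlgEquiv.commutes]
  let e₁' : Localization.AtPrime q₁ ≃ₐ[C₁] B :=
    AlgEquiv.ofRingEquiv (f := e₁.symm.toRingEquiv) (fun x => rfl)
  have : IsLocalization.AtPrime B q₁ := IsLocalization.isLocalization_of_algEquiv q₁.primeCompl e₁'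
  have : Algebra.FormallyEtale A (Localization.AtPrime q₁) := .comp A C₁ _
  have : Algebra.FormallyEtale A B := .of_equiv e₁.symm
  -- model of `C₂` over `C₁`
  obtain ⟨D₀, _, _, hfp, ⟨e⟩⟩ :=
    exists_model_of_isLocalization (R₀ := C₁) (R := B) (S := C₂) q₁.primeCompl
  let _ : Algebra A D₀ := ((algebraMap C₁ D₀).comp (algebraMap A C₁)).toAlgebra
  have : IsScalarTower A C₁ D₀ := IsScalarTower.of_algebraMap_eq fun _ => rfl
  have : Algebra.FormallyEtale B (B ⊗[C₁] D₀) := .of_equiv e.symm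
  let q' : Ideal (B ⊗[C₁] D₀) := q₂.comap (e : B ⊗[C₁] D₀ →+* C₂)
  have : q'.IsPrime := Ideal.comap_isPrime _ _
  have hmB : (maximalIdeal B).comap (algebraMap A B) = maximalIdeal A := by
    have h : (maximalIdeal B).comap (algebraMap C₁ B) = q₁ :=
      IsLocalization.AtPrime.under_maximalIdeal B q₁
    rw [IsScalarTower.algebraMap_eq A C₁ B, ← Ideal.comap_comap, h, hq₁m]
  have hq' : q'.comap (algebraMap A (B ⊗[C₁] D₀)) = maximalIdeal A := by
    rw [IsScalarTower.algebraMap_eq A B (B ⊗[C₁] D₀), ← Ideal.comap_comap, ← hmB, ← hq₂m]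
    congr 1
    simp only [q', Ideal.comap_comap]
    congr 1
    ext b
    exact e.commutes b
  obtain ⟨E, _, _, r, hr, hEt, hrm, ⟨eT⟩⟩ := trans_aux A C₁ q₁ B D₀ q' hq'
  let e₃ : Localization.AtPrime q' ≃ₐ[B] Localization.AtPrime q₂ :=
    Localization.localAlgEquiv q' q₂ e rfl
  let e₄ : C ≃ₐ[B] Localization.AtPrime q' := e₂.trans e₃.symm
  exact ⟨E, inferInstance, inferInstance, r, hr, hEt, hrm, ⟨(e₄.restrictScalars A).trans eT⟩⟩

end Groth.Agent.S17973
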