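import Groth.Statements.S17974
import Mathlib.RingTheory.Unramified.Basic
import Mathlib.RingTheory.Ideal.IdempotentFG
import Mathlib.RingTheory.Localization.Away.Basic
import Mathlib.RingTheory.FiniteType

set_option autoImplicit false
universe u
open Unram

namespace Groth.Agent.S17974

/-- Let A be a commutative ring, B an unramified A-algebra (formally unramified and of finite type), C
an A-algebra, p a prime ideal of C, and u, v : B → C two A-algebra homomorphisms which agree after
composition with C → C/p. Then there is an element f of C not in p such that u and v agree after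
composition with the localization map C → C[1/f]. -/
theorem result
    (A : Type u) [CommRing A] (B : Type u) [CommRing B] [Algebra A B]
    [Algebra.FormallyUnramified A B] [Algebra.FiniteType A B]
    (C : Type u) [CommRing C] [Algebra A C] (p : Ideal C) [p.IsPrime]
    (u v : B →ₐ[A] C)
    (huv : (Ideal.Quotient.mk p).comp u.toRingHom = (Ideal.Quotient.mk p).comp v.toRingHom) :
    ∃ f : C, f ∉ p ∧
      (algebraMap C (Localization.Away f)).comp u.toRingHom =
        (algebraMap C (Localization.Away f)).comp v.toRingHom := by
  classical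
  obtain ⟨s, hs⟩ := (Algebra.FiniteType.out : (⊤ : Subalgebra A B).FG)
  set J : Ideal C := Ideal.span ((fun b => u b - v b) '' (s : Set B)) with hJ
  have hJfg : J.FG := ⟨s.image (fun b => u b - v b), by rw [hJ]; simp⟩
  have hp : ∀ b, u b - v b ∈ p := by
    intro b
    have := congrArg (fun g => g b) huv
    simp only [RingHom.comp_apply] at this
    rw [← Ideal.Quotient.eq]
    exact this
  have hJp : J ≤ p := by
    rw [hJ, Ideal.span_le]
    rintro _ ⟨b, _, rfl⟩
    exact hp b
  -- u ≡ v mod J
  have hJall : ∀ b, u b - v b ∈ J := by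
    intro b
    have hb : b ∈ Algebra.adjoin A (s : Set B) := by rw [hs]; trivial
    induction hb using Algebra.adjoin_induction with
    | mem x hx => exact Ideal.subset_span ⟨x, hx, rfl⟩
    | algebraMap r => rw [AlgHom.commutes, AlgHom.commutes, sub_self]; exact J.zero_mem
    | add x y _ _ hx hy =>
      rw [map_add, map_add, add_sub_add_comm]; exact J.add_mem hx hy
    | mul x y _ _ hx hy =>
      have : u (x * y) - v (x * y) = u x * (u y - v y) + (u x - v x) * v y := by
        rw [map_mul, map_mul]; ring
      rw [this]
      exact J.add_mem (J.mul_mem_left _ hy) (J.mul_mem_right _ hx)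
  -- u ≡ v mod J^2 by formal unramifiedness
  have hJ2 : ∀ b, u b - v b ∈ J ^ 2 := by
    intro b
    let I' : Ideal (C ⧸ J ^ 2) := J.map (Ideal.Quotient.mk (J ^ 2))
    have hI' : I' ^ 2 = ⊥ := by
      rw [← Ideal.map_pow, Ideal.map_quotient_self]
    let u' : B →ₐ[A] C ⧸ J ^ 2 := (Ideal.Quotient.mkₐ A (J ^ 2)).comp u
    let v' : B →ₐ[A] C ⧸ J ^ 2 := (Ideal.Quotient.mkₐ A (J ^ 2)).comp v
    have huv' : (Ideal.Quotient.mkₐ A I').comp u' = (Ideal.Quotient.mkₐ A I').comp v' := by
      ext x
      simp only [AlgHom.comp_apply, Ideal.Quotient.mkₐ_eq_mk, u', v']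
      rw [Ideal.Quotient.eq, ← map_sub]
      exact Ideal.mem_map_of_mem _ (hJall x)
    have := Algebra.FormallyUnramified.comp_injective I' hI' huv'
    have h2 := congrArg (fun g => g b) this
    simp only [AlgHom.comp_apply, Ideal.Quotient.mkₐ_eq_mk, u', v'] at h2
    exact Ideal.Quotient.eq.1 h2
  have hJJ : IsIdempotentElem J := by
    apply le_antisymm
    · exact Ideal.mul_le_left
    · rw [← pow_two, hJ, Ideal.span_le]
      rintro _ ⟨b, _, rfl⟩
      exact hJ2 b
  obtain ⟨e, he, hJe⟩ := (Ideal.isIdempotentElem_iff_of_fg J hJfg).1 hJJ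
  have heJ : e ∈ J := by rw [hJe]; exact Submodule.mem_span_singleton_self e
  refine ⟨1 - e, ?_, ?_⟩
  · intro hf
    apply (Ideal.IsPrime.ne_top ‹p.IsPrime›)
    rw [Ideal.eq_top_iff_one]
    have : (1 : C) = (1 - e) + e := by ring
    rw [this]
    exact p.add_mem hf (hJp heJ)
  · have he0 : algebraMap C (Localization.Away (1 - e)) e = 0 := by
      have hunit : IsUnit (algebraMap C (Localization.Away (1 - e)) (1 - e)) :=
        IsLocalization.Away.algebraMap_isUnit (1 - e)
      have hmul : algebraMap C (Localization.Away (1 - e)) e *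
          algebraMap C (Localization.Away (1 - e)) (1 - e) = 0 := by
        rw [← map_mul]
        have : e * (1 - e) = 0 := by
          have := he.eq
          rw [mul_sub, mul_one, this, sub_self]
        rw [this, map_zero]
      exact (hunit.mul_left_eq_zero).1 hmul
    ext b
    simp only [RingHom.comp_apply]
    have hb := hJall b
    rw [hJe, Submodule.mem_span_singleton] at hb
    obtain ⟨c, hc⟩ := hb
    have : algebraMap C (Localization.Away (1 - e)) (u b - v b) = 0 := by
      rw [← hc, smul_eq_mul, map_mul, he0, mul_zero]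
    rw [map_sub] at this
    exact sub_eq_zero.1 this

end Groth.Agent.S17974
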