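import Groth.Statements.S17975
import Mathlib

set_option autoImplicit false
universe u
open Hensel

namespace Groth.Agent.S17975

/-- Let A be a local ring with maximal ideal m and residue field k, C a commutative A-algebra which is
finitely generated as an A-module, Q₀ a monic polynomial of degree n over k, e an A-algebra
isomorphism from C/mC to k[T]/(Q₀), and x an element of C whose class is sent by e to the class of
T. Then x generates C as an A-algebra, and x is a root of a monic polynomial Q over A of degree n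
whose reduction modulo m equals Q₀. -/
theorem result
    (A : Type u) [CommRing A] [IsLocalRing A] (C : Type u) [CommRing C] [Algebra A C] [Module.Finite A C]
    (Q₀ : Polynomial (IsLocalRing.ResidueField A)) (hQ₀ : Q₀.Monic)
    (e : (C ⧸ Ideal.map (algebraMap A C) (IsLocalRing.maximalIdeal A)) ≃ₐ[A] AdjoinRoot Q₀)
    (x : C) (hx : e (Ideal.Quotient.mk (Ideal.map (algebraMap A C) (IsLocalRing.maximalIdeal A)) x) = AdjoinRoot.root Q₀) :
    Algebra.adjoin A {x} = ⊤ ∧
      ∃ Q : Polynomial A, Q.Monic ∧ Q.natDegree = Q₀.natDegree ∧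
        Polynomial.map (IsLocalRing.residue A) Q = Q₀ ∧ Polynomial.aeval x Q = 0 := by
  classical
  -- Nakayama-type lemma
  have naka : ∀ S : Submodule A C,
      (∀ c : C, ∃ s ∈ S, Ideal.Quotient.mk (Ideal.map (algebraMap A C) (IsLocalRing.maximalIdeal A)) c = Ideal.Quotient.mk (Ideal.map (algebraMap A C) (IsLocalRing.maximalIdeal A)) s) → S = ⊤ := by
    intro S hS
    rw [eq_top_iff]
    refine Submodule.le_of_le_smul_of_le_jacobson_bot (I := IsLocalRing.maximalIdeal A)
      (Module.Finite.fg_top) (IsLocalRing.maximalIdeal_le_jacobson _) ?_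
    intro c _
    obtain ⟨s, hs, hcs⟩ := hS c
    rw [Submodule.mem_sup]
    refine ⟨s, hs, c - s, ?_, by ring⟩
    rw [Ideal.smul_top_eq_map]
    rw [Ideal.Quotient.eq] at hcs
    exact hcs
  -- key evaluation formula
  have key : ∀ P : Polynomial A, e (Ideal.Quotient.mk (Ideal.map (algebraMap A C) (IsLocalRing.maximalIdeal A)) (Polynomial.aeval x P)) =
      AdjoinRoot.mk Q₀ (P.map (IsLocalRing.residue A)) := by
    intro P
    let φ : C →ₐ[A] AdjoinRoot Q₀ := (e : _ →ₐ[A] AdjoinRoot Q₀).comp (Ideal.Quotient.mkₐ A (Ideal.map (algebraMap A C) (IsLocalRing.maximalIdeal A)))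
    have h1 : φ (Polynomial.aeval x P) = Polynomial.aeval (φ x) P :=
      (Polynomial.aeval_algHom_apply φ x P).symm
    have h2 : φ x = AdjoinRoot.root Q₀ := hx
    have h3 : Polynomial.aeval (AdjoinRoot.root Q₀) P =
        Polynomial.aeval (AdjoinRoot.root Q₀)
          (P.map (algebraMap A (IsLocalRing.ResidueField A))) :=
      (Polynomial.aeval_map_algebraMap (A := IsLocalRing.ResidueField A)
        (AdjoinRoot.root Q₀) P).symm
    change φ (Polynomial.aeval x P) = _
    rw [h1, h2, h3, AdjoinRoot.aeval_eq]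
    rfl
  have hsurj : Function.Surjective (Polynomial.map (IsLocalRing.residue A)) :=
    Polynomial.map_surjective _ IsLocalRing.residue_surjective
  refine ⟨?_, ?_⟩
  · -- adjoin = ⊤
    have h1 : Subalgebra.toSubmodule (Algebra.adjoin A {x}) = ⊤ := by
      apply naka
      intro c
      obtain ⟨p, hp⟩ := AdjoinRoot.mk_surjective (g := Q₀) (e (Ideal.Quotient.mk (Ideal.map (algebraMap A C) (IsLocalRing.maximalIdeal A)) c))
      obtain ⟨P, rfl⟩ := hsurj p
      refine ⟨Polynomial.aeval x P, Polynomial.aeval_mem_adjoin_singleton _ _, ?_⟩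
      apply e.injective
      rw [key, hp]
    rw [eq_top_iff]
    intro c _
    have : c ∈ Subalgebra.toSubmodule (Algebra.adjoin A {x}) := by rw [h1]; trivial
    exact this
  · set n := Q₀.natDegree with hn
    have hdegQ₀ : Q₀.degree = n := Polynomial.degree_eq_natDegree hQ₀.ne_zero
    have h2 : Submodule.map (Polynomial.aeval x).toLinearMap (Polynomial.degreeLT A n) = ⊤ := by
      apply naka
      intro c
      obtain ⟨p, hp⟩ := AdjoinRoot.mk_surjective (g := Q₀) (e (Ideal.Quotient.mk (Ideal.map (algebraMap A C) (IsLocalRing.maximalIdeal A)) c))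
      have hr : AdjoinRoot.mk Q₀ (p %ₘ Q₀) = AdjoinRoot.mk Q₀ p := by
        conv_rhs => rw [← Polynomial.modByMonic_add_div p Q₀]
        rw [map_add, map_mul, AdjoinRoot.mk_self, zero_mul, add_zero]
      have hdeg : (p %ₘ Q₀).degree < n := by
        rw [← hdegQ₀]; exact Polynomial.degree_modByMonic_lt _ hQ₀
      obtain ⟨R, hR, hRdeg⟩ := Polynomial.exists_degree_eq_of_mem_lifts
        ((Polynomial.mem_lifts _).mpr (hsurj (p %ₘ Q₀)))
      refine ⟨Polynomial.aeval x R, ⟨R, ?_, rfl⟩, ?_⟩
      · rw [SetLike.mem_coe, Polynomial.mem_degreeLT, hRdeg]; exact hdeg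
      · apply e.injective
        rw [key, ← hp, ← hr, hR]
    have hxn : x ^ n ∈ Submodule.map (Polynomial.aeval x).toLinearMap (Polynomial.degreeLT A n) := by
      rw [h2]; trivial
    obtain ⟨R, hR, hRx⟩ := hxn
    rw [SetLike.mem_coe, Polynomial.mem_degreeLT] at hR
    have hdX : (Polynomial.X ^ n : Polynomial A).degree = n := Polynomial.degree_X_pow n
    have hRlt : R.degree < (Polynomial.X ^ n : Polynomial A).degree := by rw [hdX]; exact hR
    have hQmonic : (Polynomial.X ^ n - R).Monic :=
      (Polynomial.monic_X_pow n).sub_of_left hRlt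
    have hQdeg : (Polynomial.X ^ n - R).natDegree = n := by
      apply Polynomial.natDegree_eq_of_degree_eq_some
      rw [Polynomial.degree_sub_eq_left_of_degree_lt hRlt, hdX]
    have hQx : Polynomial.aeval x (Polynomial.X ^ n - R) = 0 := by
      have : (Polynomial.aeval x) R = x ^ n := hRx
      rw [map_sub, map_pow, Polynomial.aeval_X, this, sub_self]
    refine ⟨Polynomial.X ^ n - R, hQmonic, hQdeg, ?_, hQx⟩
    have hmk : AdjoinRoot.mk Q₀ ((Polynomial.X ^ n - R).map (IsLocalRing.residue A)) = 0 := by
      rw [← key, hQx, map_zero, map_zero]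
    rw [AdjoinRoot.mk_eq_zero] at hmk
    refine Polynomial.eq_of_monic_of_dvd_of_natDegree_le hQ₀ (hQmonic.map _) hmk ?_
    rw [hQmonic.natDegree_map, hQdeg]

end Groth.Agent.S17975
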