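import Groth.Statements.S17977
import Mathlib

set_option autoImplicit false
universe u
open EGA4loc

namespace Groth.Agent.S17977

open EGA4loc

/-- Let A be a local ring, B a local ring which is a local-etale A-algebra, and C a local ring with a
local structure map A → C. Then every A-algebra homomorphism B → C is local. (The source states this
for local ind-etale B, i.e. filtered colimits of local-etale algebras along local maps, and reduces
at once to the local-etale case stated here.) -/
theorem result (A : Type u) [CommRing A] [IsLocalRing A]
    (B : Type u) [CommRing B] [IsLocalRing B] [Algebra A B] (hB : EGA4loc.IsEssentiallyEtale A B)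
    (C : Type u) [CommRing C] [IsLocalRing C] [Algebra A C] [IsLocalHom (algebraMap A C)]
    (φ : B →ₐ[A] C) : IsLocalHom φ.toRingHom := by
  obtain ⟨E, _, _, q, hq, hE, hqA, ⟨e⟩⟩ := hB
  let χ : E →ₐ[A] C := (φ.comp e.symm.toAlgHom).comp
    (IsScalarTower.toAlgHom A E (Localization.AtPrime q))
  have hχ : ∀ x : E, χ x = φ (e.symm (algebraMap E (Localization.AtPrime q) x)) := fun x => rfl
  have hunit : ∀ s : E, s ∉ q → IsUnit (χ s) := by
    intro s hs
    rw [hχ]
    have : IsUnit (algebraMap E (Localization.AtPrime q) s) :=
      IsLocalization.map_units (Localization.AtPrime q) (⟨s, hs⟩ : q.primeCompl)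
    exact (this.map e.symm).map φ
  let P : Ideal E := (IsLocalRing.maximalIdeal C).comap χ.toRingHom
  have hP : P.IsPrime := Ideal.comap_isPrime _ _
  have hPq : P ≤ q := by
    intro x hx
    by_contra hxq
    exact hx (hunit x hxq)
  have hunder : P.under A = q.under A := by
    show P.comap (algebraMap A E) = q.comap (algebraMap A E)
    rw [hqA, Ideal.comap_comap]
    have : χ.toRingHom.comp (algebraMap A E) = algebraMap A C := by
      ext a; exact χ.commutes a
    rw [this]
    exact IsLocalRing.maximalIdeal_comap _ 
  have hQF : Algebra.QuasiFinite A E := inferInstance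
  have hPeq : P = q := Algebra.QuasiFinite.eq_of_le_of_under_eq (R := A) P q hPq hunder
  refine ⟨fun b hb => ?_⟩
  obtain ⟨a, s, hy⟩ := IsLocalization.exists_mk'_eq q.primeCompl (e b)
  have h1 : IsLocalization.mk' (Localization.AtPrime q) a s * algebraMap E _ (s : E) =
      algebraMap E _ a := IsLocalization.mk'_spec _ a s
  have h2 : χ a = φ b * χ s := by
    rw [hχ, hχ, ← h1, hy, map_mul, map_mul, AlgEquiv.symm_apply_apply]
  have h3 : IsUnit (χ a) := by
    rw [h2]; exact IsUnit.mul hb (hunit s s.2)
  have h4 : a ∉ q := by
    intro haq
    rw [← hPeq] at haq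
    exact haq h3
  have h5 : IsUnit (algebraMap E (Localization.AtPrime q) a) :=
    IsLocalization.map_units (Localization.AtPrime q) (⟨a, h4⟩ : q.primeCompl)
  have h6 : IsUnit (e b) := by
    rw [← hy]
    have hs : IsUnit (algebraMap E (Localization.AtPrime q) (s : E)) :=
      IsLocalization.map_units (Localization.AtPrime q) s
    rw [← h1] at h5
    exact isUnit_of_mul_isUnit_left h5
  have := h6.map e.symm
  rwa [AlgEquiv.symm_apply_apply] at this

end Groth.Agent.S17977
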