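import Groth.Statements.S17978
import Mathlib

set_option autoImplicit false
universe u
open EGA4loc

namespace Groth.Agent.S17978

open EGA4loc TensorProduct

/-- Let A be a local ring, B a local ring which is a local-etale A-algebra, and C a local ring with a
local structure map A → C. Then two A-algebra homomorphisms B → C which agree after composition with
the residue map of C are equal; in other words an A-algebra map B → C is determined by the map it
induces on residue fields. (The source states this for local ind-etale B and reduces to the
local-etale case stated here; C is an arbitrary local A-algebra with local structure map.) -/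
theorem result (A : Type u) [CommRing A] [IsLocalRing A]
    (B : Type u) [CommRing B] [IsLocalRing B] [Algebra A B] (hB : EGA4loc.IsEssentiallyEtale A B)
    (C : Type u) [CommRing C] [IsLocalRing C] [Algebra A C] [IsLocalHom (algebraMap A C)]
    (u v : B →ₐ[A] C)
    (h : (IsLocalRing.residue C).comp u.toRingHom = (IsLocalRing.residue C).comp v.toRingHom) :
    u = v := by
  obtain ⟨E, _, _, q, hq, hE, hqA, ⟨e⟩⟩ := hB
  let ι : E →ₐ[A] B := e.symm.toAlgHom.comp (IsScalarTower.toAlgHom A E (Localization.AtPrime q))
  let u' : E →ₐ[A] C := u.comp ι
  let v' : E →ₐ[A] C := v.comp ι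
  have hres : ∀ x : E, IsLocalRing.residue C (u' x) = IsLocalRing.residue C (v' x) := by
    intro x
    exact congrArg (fun φ => φ (ι x)) h
  let w : E ⊗[A] E →ₐ[A] C := Algebra.TensorProduct.productMap u' v'
  have hw : ∀ t : E ⊗[A] E, IsLocalRing.residue C (w t) =
      IsLocalRing.residue C (u' (Algebra.TensorProduct.lmul' A t)) := by
    intro t
    induction t using TensorProduct.induction_on with
    | zero => simp
    | tmul a b =>
      rw [Algebra.TensorProduct.productMap_apply_tmul, Algebra.TensorProduct.lmul'_apply_tmul, map_mul,
        map_mul, map_mul, hres b]
    | add x y hx hy => rw [map_add, map_add, hx, hy, map_add, map_add, map_add]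
  have hUn : Algebra.FormallyUnramified A E := inferInstance
  let t := Algebra.FormallyUnramified.elem A E
  have ht1 : IsUnit (w t) := by
    have : IsLocalRing.residue C (w t) = 1 := by
      rw [hw, Algebra.FormallyUnramified.lmul_elem, map_one, map_one]
    by_contra hnu
    have h0 : IsLocalRing.residue C (w t) = 0 :=
      (IsLocalRing.residue_eq_zero_iff _).mpr ((IsLocalRing.mem_maximalIdeal _).mpr hnu)
    rw [this] at h0
    exact one_ne_zero h0
  have huv' : ∀ x : E, u' x = v' x := by
    intro x
    have h1 := congrArg w (Algebra.FormallyUnramified.one_tmul_sub_tmul_one_mul_elem (R := A) x)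
    rw [map_mul, map_sub, Algebra.TensorProduct.productMap_apply_tmul,
      Algebra.TensorProduct.productMap_apply_tmul, map_one, map_one, map_zero, one_mul, mul_one] at h1
    have h2 := (ht1.mul_left_eq_zero).mp h1
    exact (sub_eq_zero.mp h2).symm
  -- extend to the localization
  have hloc : (u.comp e.symm.toAlgHom : Localization.AtPrime q →ₐ[A] C) =
      v.comp e.symm.toAlgHom := by
    apply AlgHom.coe_ringHom_injective
    apply IsLocalization.ringHom_ext q.primeCompl
    ext x
    exact huv' x
  ext b
  have := congrArg (fun φ => φ (e b)) hloc
  simpa using this

end Groth.Agent.S17978
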