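import Groth.Statements.S17979
import Mathlib
-- import your own Groth.Agent.* helpers here

set_option autoImplicit false
universe u
open Hensel

namespace Groth.Agent.S17979

/-- Let A be a local ring with residue field k and Q, R polynomials over A with Q monic. If the images
of Q and R in k[T] generate the unit ideal, then Q and R already generate the unit ideal of A[T]. -/
theorem result (A : Type u) [CommRing A] [IsLocalRing A]
    (Q R : Polynomial A) (hQ : Q.Monic)
    (h : IsCoprime (Polynomial.map (IsLocalRing.residue A) Q) (Polynomial.map (IsLocalRing.residue A) R)) :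
    IsCoprime Q R := by
  classical
  have hQ' : (Q.map (IsLocalRing.residue A)).Monic := hQ.map _
  rw [← Polynomial.isUnit_resultant_iff_isCoprime hQ'] at h
  rw [← Polynomial.isUnit_resultant_iff_isCoprime hQ]
  have hdegQ : (Q.map (IsLocalRing.residue A)).natDegree = Q.natDegree := hQ.natDegree_map _
  have hdegR : (R.map (IsLocalRing.residue A)).natDegree ≤ R.natDegree :=
    Polynomial.natDegree_map_le
  obtain ⟨k, hk⟩ := Nat.exists_eq_add_of_le hdegR
  have key : IsLocalRing.residue A (Polynomial.resultant Q R) =
      Polynomial.resultant (Q.map (IsLocalRing.residue A)) (R.map (IsLocalRing.residue A)) := by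
    rw [← Polynomial.resultant_map_map, hk,
      Polynomial.resultant_add_right_deg _ _ _ _ k le_rfl, ← hdegQ, hQ'.coeff_natDegree,
      one_pow, one_mul]
  apply isUnit_of_map_unit (IsLocalRing.residue A)
  rw [key]
  exact h

end Groth.Agent.S17979
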