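import Groth.Statements.S17980
import Mathlib.RingTheory.AdjoinRoot
import Mathlib.RingTheory.Nakayama
import Mathlib.RingTheory.LocalRing.ResidueField.Basic
import Mathlib.Tactic.Ring

set_option autoImplicit false
universe u
open Hensel

namespace Groth.Agent.S17980

/-- Let A be a local ring with residue field k, and let Q R = U V be two factorizations of one
polynomial over A with Q and U monic, such that Q and U have the same image in k[T], R and V have
the same image in k[T], and the images of Q and R in k[T] generate the unit ideal. Then Q = U and R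
= V. -/
theorem result (A : Type u) [CommRing A] [IsLocalRing A]
    (Q R U V : Polynomial A) (hQ : Q.Monic) (hU : U.Monic)
    (hQU : Polynomial.map (IsLocalRing.residue A) Q = Polynomial.map (IsLocalRing.residue A) U)
    (hRV : Polynomial.map (IsLocalRing.residue A) R = Polynomial.map (IsLocalRing.residue A) V)
    (hcop : IsCoprime (Polynomial.map (IsLocalRing.residue A) Q) (Polynomial.map (IsLocalRing.residue A) R))
    (h : Q * R = U * V) : Q = U ∧ R = V := by
  classical
  have hfin : Module.Finite A (AdjoinRoot Q) := hQ.finite_adjoinRoot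
  obtain ⟨a0, b0, hab⟩ := hcop
  obtain ⟨a, rfl⟩ := Polynomial.map_surjective (IsLocalRing.residue A)
    IsLocalRing.residue_surjective a0
  obtain ⟨b, rfl⟩ := Polynomial.map_surjective (IsLocalRing.residue A)
    IsLocalRing.residue_surjective b0
  have hker : a * Q + b * V - 1 ∈ RingHom.ker (Polynomial.mapRingHom (IsLocalRing.residue A)) := by
    rw [RingHom.mem_ker]
    simp only [Polynomial.coe_mapRingHom, Polynomial.map_sub, Polynomial.map_add,
      Polynomial.map_mul, Polynomial.map_one, ← hRV, hab, sub_self]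
  rw [Polynomial.ker_mapRingHom, IsLocalRing.ker_residue] at hker
  have h1 : AdjoinRoot.mk Q (a * Q + b * V - 1) ∈
      Ideal.map (algebraMap A (AdjoinRoot Q)) (IsLocalRing.maximalIdeal A) := by
    have := Ideal.mem_map_of_mem (AdjoinRoot.mk Q) hker
    rw [Ideal.map_map] at this
    exact this
  have h2 : AdjoinRoot.mk Q b * AdjoinRoot.mk Q V - 1 ∈
      Ideal.map (algebraMap A (AdjoinRoot Q)) (IsLocalRing.maximalIdeal A) := by
    simpa [AdjoinRoot.mk_self] using h1
  have h3 : (⊤ : Submodule A (AdjoinRoot Q)) ≤
      (Ideal.span {AdjoinRoot.mk Q V}).restrictScalars A := by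
    apply Submodule.le_of_le_smul_of_le_jacobson_bot Module.Finite.fg_top
      (IsLocalRing.maximalIdeal_le_jacobson _)
    intro x _
    rw [Ideal.smul_top_eq_map]
    refine Submodule.mem_sup.mpr ⟨x * (AdjoinRoot.mk Q b * AdjoinRoot.mk Q V), ?_,
      -(x * (AdjoinRoot.mk Q b * AdjoinRoot.mk Q V - 1)), ?_, by ring⟩
    · exact Ideal.mul_mem_left _ _ (Ideal.mul_mem_left _ _ (Ideal.mem_span_singleton_self _))
    · exact neg_mem (Ideal.mul_mem_left _ _ h2)
  have hunit : IsUnit (AdjoinRoot.mk Q V) := by
    rw [← Ideal.span_singleton_eq_top, eq_top_iff]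
    intro x hx
    exact h3 (show x ∈ (⊤ : Submodule A (AdjoinRoot Q)) from trivial)
  have hU0 : AdjoinRoot.mk Q U = 0 := by
    have : AdjoinRoot.mk Q U * AdjoinRoot.mk Q V = 0 := by
      rw [← map_mul, ← h, map_mul, AdjoinRoot.mk_self, zero_mul]
    obtain ⟨u, hu⟩ := hunit
    rw [← hu] at this
    exact u.mul_left_eq_zero.mp this
  have hdvd : Q ∣ U := AdjoinRoot.mk_eq_zero.mp hU0
  have hdeg : Q.natDegree = U.natDegree := by
    rw [← hQ.natDegree_map (IsLocalRing.residue A), ← hU.natDegree_map (IsLocalRing.residue A), hQU]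
  have hQU' : U = Q := Polynomial.eq_of_monic_of_dvd_of_natDegree_le hQ hU hdvd hdeg.ge
  subst hQU'
  refine ⟨rfl, ?_⟩
  have : U * (R - V) = 0 := by rw [mul_sub, h, sub_self]
  have := (hU.mul_right_eq_zero_iff).mp this
  exact sub_eq_zero.mp this

end Groth.Agent.S17980
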