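import Groth.Statements.S17981
import Mathlib.RingTheory.Ideal.GoingUp
import Mathlib.RingTheory.IntegralClosure.IsIntegralClosure.Basic
import Mathlib.Tactic.LinearCombination

set_option autoImplicit false
universe u
open Hensel

namespace Groth.Agent.S17981

/-- Let A be a commutative ring, I an ideal contained in the Jacobson radical of A, and B a commutative
A-algebra which is finitely generated as an A-module. Then two idempotents of B with the same image
in B/IB are equal. -/
theorem result (A : Type u) [CommRing A] (I : Ideal A)
    (hI : I ≤ Ideal.jacobson ⊥) (B : Type u) [CommRing B] [Algebra A B] [Module.Finite A B] :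
    Set.InjOn (Ideal.Quotient.mk (Ideal.map (algebraMap A B) I)) {e : B | IsIdempotentElem e} := by
  haveI : Algebra.IsIntegral A B := Algebra.IsIntegral.of_finite A B
  -- `I B` lies in the Jacobson radical of `B`
  have hJ : Ideal.map (algebraMap A B) I ≤ Ideal.jacobson (⊥ : Ideal B) := by
    rw [Ideal.jacobson]
    refine le_sInf ?_
    rintro n ⟨-, hn⟩
    haveI := hn
    have hmax : (n.comap (algebraMap A B)).IsMaximal :=
      Ideal.isMaximal_comap_of_isIntegral_of_isMaximal (R := A) n
    rw [Ideal.map_le_iff_le_comap]
    refine hI.trans ?_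
    rw [Ideal.jacobson]
    exact sInf_le ⟨bot_le, hmax⟩
  intro e he e' he' hee'
  have he : e * e = e := he
  have he' : e' * e' = e' := he'
  have hd : e - e' ∈ Ideal.jacobson (⊥ : Ideal B) := hJ (Ideal.Quotient.eq.mp hee')
  have hunit : IsUnit ((e - e') * (-(e - e')) + 1) := (Ideal.mem_jacobson_bot.mp hd) _
  have hzero : ((e - e') * (-(e - e')) + 1) * (e - e') = 0 := by
    linear_combination (-(e + 1) + 3 * e') * he + (-3 * e + e' + 1) * he'
  exact sub_eq_zero.mp (hunit.mul_right_eq_zero.mp hzero)

end Groth.Agent.S17981
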