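import Groth.Statements.S17982
import Mathlib

set_option autoImplicit false
universe u
open Hensel

namespace Groth.Agent.S17982

lemma pi_local_bijective {ι : Type*} [Finite ι] (C : ι → Type*) [∀ j, CommRing (C j)]
    [∀ j, IsLocalRing (C j)] :
    Function.Bijective (MaximalSpectrum.toPiLocalization (∀ j, C j)) := by
  refine ⟨MaximalSpectrum.toPiLocalization_injective _, ?_⟩
  intro y
  let nj : ι → MaximalSpectrum (∀ j, C j) := fun j =>
    ⟨(IsLocalRing.maximalIdeal (C j)).comap (Pi.evalRingHom C j),
      Ideal.comap_isMaximal_of_surjective _ (Function.surjective_eval j)⟩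
  have key : ∀ j, ∃ c : C j,
      algebraMap (C j) (Localization.AtPrime (IsLocalRing.maximalIdeal (C j))) c =
        Localization.AtPrime.mapPiEvalRingHom (IsLocalRing.maximalIdeal (C j)) (y (nj j)) := by
    intro j
    have e := IsLocalization.atUnits (C j) (IsLocalRing.maximalIdeal (C j)).primeCompl
      (S := Localization.AtPrime (IsLocalRing.maximalIdeal (C j)))
      (fun x hx => by
        change IsUnit x
        have hx' : x ∉ IsLocalRing.maximalIdeal (C j) := hx
        simpa using hx')
    obtain ⟨c, hc⟩ := e.surjective
      (Localization.AtPrime.mapPiEvalRingHom (IsLocalRing.maximalIdeal (C j)) (y (nj j)))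
    refine ⟨c, ?_⟩
    rw [← hc]
    exact (e.commutes c).symm
  choose c hc using key
  refine ⟨c, ?_⟩
  funext n
  obtain ⟨j, q, hq⟩ := PrimeSpectrum.exists_comap_evalRingHom_eq n.toPrimeSpectrum
  have hqmax : q.asIdeal.IsMaximal := by
    have h1 : q.asIdeal = (n.asIdeal).map (Pi.evalRingHom C j) := by
      have : n.asIdeal = q.asIdeal.comap (Pi.evalRingHom C j) := by
        have := congrArg PrimeSpectrum.asIdeal hq
        exact this.symm
      rw [this, Ideal.map_comap_of_surjective (Pi.evalRingHom C j) (Function.surjective_eval j)]
    rw [h1]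
    refine Or.resolve_left (Ideal.map_eq_top_or_isMaximal_of_surjective (Pi.evalRingHom C j)
      (Function.surjective_eval j) n.isMaximal) ?_
    rw [← h1]
    exact q.isPrime.ne_top
  have hqeq : q.asIdeal = IsLocalRing.maximalIdeal (C j) := IsLocalRing.eq_maximalIdeal hqmax
  have hn : n = nj j := by
    apply MaximalSpectrum.ext
    have : n.asIdeal = q.asIdeal.comap (Pi.evalRingHom C j) := by
      have := congrArg PrimeSpectrum.asIdeal hq
      exact this.symm
    rw [this, hqeq]
  subst hn
  apply (Localization.AtPrime.mapPiEvalRingHom_bijective (IsLocalRing.maximalIdeal (C j))).1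
  rw [← hc j]
  exact Localization.AtPrime.mapPiEvalRingHom_algebraMap_apply (IsLocalRing.maximalIdeal (C j))


/-- Let A be a local ring and B a commutative A-algebra which is finitely generated as an A-module. Then
B is ring-isomorphic to a finite product of local rings if and only if the canonical homomorphism
from B to the product of the localizations of B at its maximal ideals is bijective. -/
theorem result
    (A : Type u) [CommRing A] [IsLocalRing A] (B : Type u) [CommRing B] [Algebra A B] [Module.Finite A B] :
    (∃ (ι : Type u) (_ : Fintype ι) (C : ι → Type u) (_ : ∀ j, CommRing (C j)),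
        (∀ j, IsLocalRing (C j)) ∧ Nonempty (B ≃+* (∀ j, C j))) ↔
    Function.Bijective
      (RingHom.pi (fun n : MaximalSpectrum B => algebraMap B (Localization.AtPrime n.asIdeal))) := by
  constructor
  · rintro ⟨ι, _, C, _, hloc, ⟨e⟩⟩
    have hD := pi_local_bijective C
    have nat := MaximalSpectrum.mapPiLocalization_naturality (e : B →+* ∀ j, C j) e.bijective
    have hbij := MaximalSpectrum.mapPiLocalization_bijective (e : B →+* ∀ j, C j) e.bijective
    have hpt : ∀ b, MaximalSpectrum.mapPiLocalization (e : B →+* ∀ j, C j) e.bijective
        (MaximalSpectrum.toPiLocalization B b) =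
        MaximalSpectrum.toPiLocalization (∀ j, C j) (e b) := fun b => RingHom.congr_fun nat b
    have h1 : Function.Bijective ((MaximalSpectrum.mapPiLocalization (e : B →+* ∀ j, C j)
        e.bijective) ∘ (MaximalSpectrum.toPiLocalization B)) := by
      have : ((MaximalSpectrum.mapPiLocalization (e : B →+* ∀ j, C j)
        e.bijective) ∘ (MaximalSpectrum.toPiLocalization B)) =
          (MaximalSpectrum.toPiLocalization (∀ j, C j)) ∘ e := funext hpt
      rw [this]
      exact hD.comp e.bijective
    have h2 : Function.Bijective (MaximalSpectrum.toPiLocalization B) :=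
      (Function.Bijective.of_comp_iff' hbij _).mp h1
    exact h2
  · intro h
    have hfin : Finite (MaximalSpectrum B) :=
      MaximalSpectrum.finite_of_toPiLocalization_surjective h.2
    let _ := Fintype.ofFinite (MaximalSpectrum B)
    exact ⟨MaximalSpectrum B, inferInstance, fun n => Localization.AtPrime n.asIdeal,
      inferInstance, fun n => inferInstance, ⟨RingEquiv.ofBijective _ h⟩⟩

end Groth.Agent.S17982
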