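import Groth.Statements.S17983
import Mathlib

set_option autoImplicit false
universe u
open WeilNum

namespace Groth.Agent.S17983

section helpers
section hh
open Polynomial

theorem conj_root (P : ℤ[X]) (z : ℂ) (hz : (P.map (Int.castRingHom ℂ)).eval z = 0) :
    (P.map (Int.castRingHom ℂ)).eval ((starRingEnd ℂ) z) = 0 := by
  rw [eval_map] at hz ⊢
  have h := Polynomial.hom_eval₂ P (Int.castRingHom ℂ) (starRingEnd ℂ) z
  have hc : (starRingEnd ℂ).comp (Int.castRingHom ℂ) = Int.castRingHom ℂ := RingHom.ext_int _ _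
  rw [hc, hz, map_zero] at h
  exact h.symm

theorem separable_map (P : ℤ[X]) (hm : P.Monic) (hirr : Irreducible P) :
    (P.map (Int.castRingHom ℂ)).Separable := by
  have hQirr : Irreducible (P.map (algebraMap ℤ ℚ)) :=
    (hm.irreducible_iff_irreducible_map_fraction_map).mp hirr
  have hQsep : (P.map (algebraMap ℤ ℚ)).Separable := hQirr.separable
  have e : P.map (Int.castRingHom ℂ) = (P.map (algebraMap ℤ ℚ)).map (algebraMap ℚ ℂ) := by
    rw [Polynomial.map_map]
    congr 1
  rw [e]
  exact hQsep.map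


theorem main (P : ℤ[X]) (hm : P.Monic) (hirr : Irreducible P) (q : ℕ) (hq : 0 < q)
    (hweil : ∀ z ∈ P.aroots ℂ, ‖z‖ = Real.sqrt q) (hnr : ∀ z ∈ P.aroots ℂ, z.im ≠ 0) :
    Even P.natDegree ∧ ∀ r ≤ P.natDegree / 2,
      P.coeff (P.natDegree / 2 - r) = (q : ℤ) ^ r * P.coeff (P.natDegree / 2 + r) := by
  classical
  set φ : ℤ →+* ℂ := Int.castRingHom ℂ with hφ
  set Pc : ℂ[X] := P.map φ with hPc
  set n := P.natDegree with hn
  have hPcm : Pc.Monic := hm.map φ
  have hPc0 : Pc ≠ 0 := hPcm.ne_zero
  have hPcdeg : Pc.natDegree = n := hm.natDegree_map φ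
  have hsplit : Pc.Splits := IsAlgClosed.splits Pc
  set S : Multiset ℂ := Pc.roots with hS
  have hSa : P.aroots ℂ = S := by
    rw [hS, hPc, Polynomial.aroots_def, algebraMap_int_eq]
  rw [hSa] at hweil hnr
  have hcard : Multiset.card S = n := by
    rw [← hPcdeg]
    exact (splits_iff_card_roots.mp hsplit)
  have hnodup : S.Nodup := nodup_roots (separable_map P hm hirr)
  set T : Finset ℂ := S.toFinset with hT
  have hTcard : T.card = n := by
    rw [hT, Multiset.toFinset_card_of_nodup hnodup, hcard]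
  have hmemT : ∀ z, z ∈ T ↔ z ∈ S := fun z => Multiset.mem_toFinset
  have hroot : ∀ z ∈ S, Pc.eval z = 0 := fun z hz => (mem_roots hPc0).mp hz
  have hconj : ∀ z ∈ S, (starRingEnd ℂ) z ∈ S := by
    intro z hz
    rw [hS, mem_roots hPc0]
    exact conj_root P z (hroot z hz)
  have hqR : (0 : ℝ) ≤ (q : ℝ) := Nat.cast_nonneg q
  have hmul : ∀ z ∈ S, z * (starRingEnd ℂ) z = (q : ℂ) := by
    intro z hz
    rw [Complex.mul_conj, Complex.normSq_eq_norm_sq, hweil z hz, Real.sq_sqrt hqR]
    simp
  have hne : ∀ z ∈ S, (starRingEnd ℂ) z ≠ z := by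
    intro z hz h
    exact hnr z hz (Complex.conj_eq_iff_im.mp h)
  -- evenness
  have heven : Even n := by
    have h1 : ∏ _z ∈ T, (-1 : ℤ) = 1 := by
      apply Finset.prod_involution (fun a _ => (starRingEnd ℂ) a)
      · intro a ha; norm_num
      · intro a ha _
        exact hne a ((hmemT a).mp ha)
      · intro a ha
        exact (hmemT _).mpr (hconj a ((hmemT a).mp ha))
      · intro a ha
        exact Complex.conj_conj a
    rw [Finset.prod_const, hTcard] at h1
    exact (neg_one_pow_eq_one_iff_even (by norm_num : (-1 : ℤ) ≠ 1)).mp h1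
  refine ⟨heven, ?_⟩
  obtain ⟨d, hd⟩ := heven
  have hd2 : n / 2 = d := by omega
  rw [hd2]
  -- product of the roots
  set s : ℂ := ((Real.sqrt q : ℝ) : ℂ) with hs
  have hs2 : s ^ 2 = (q : ℂ) := by
    rw [hs, ← Complex.ofReal_pow, Real.sq_sqrt hqR]
    simp
  have hs0 : s ≠ 0 := by
    intro h
    rw [h] at hs2
    have : (q : ℂ) ≠ 0 := by exact_mod_cast hq.ne'
    exact this (by rw [← hs2]; ring)
  have hprod : ∏ z ∈ T, z = (q : ℂ) ^ d := by
    have h1 : ∏ z ∈ T, z / s = 1 := by
      apply Finset.prod_involution (fun a _ => (starRingEnd ℂ) a)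
      · intro a ha
        have := hmul a ((hmemT a).mp ha)
        rw [div_mul_div_comm, this, ← pow_two, hs2, div_self]
        exact_mod_cast hq.ne'
      · intro a ha _
        exact hne a ((hmemT a).mp ha)
      · intro a ha
        exact (hmemT _).mpr (hconj a ((hmemT a).mp ha))
      · intro a ha
        exact Complex.conj_conj a
    rw [Finset.prod_div_distrib, Finset.prod_const, hTcard, div_eq_one_iff_eq (pow_ne_zero _ hs0)]
      at h1
    rw [h1, hd, ← two_mul, pow_mul, hs2]
  have ha0 : P.coeff 0 = (q : ℤ) ^ d := by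
    have h1 : Pc.coeff 0 = (-1) ^ Pc.natDegree * Pc.roots.prod :=
      hsplit.coeff_zero_eq_prod_roots_of_monic hPcm
    have h2 : Pc.roots.prod = ∏ z ∈ T, z := by
      rw [hT, Finset.prod, Multiset.toFinset_val, Multiset.dedup_eq_self.mpr hnodup,
        Multiset.map_id']
    rw [h2, hprod, hPcdeg, hd, ← two_mul, pow_mul] at h1
    norm_num at h1
    have h3 : Pc.coeff 0 = ((P.coeff 0 : ℤ) : ℂ) := by
      rw [hPc, coeff_map]
      rfl
    rw [h3] at h1
    exact_mod_cast h1
  -- the reversed polynomial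
  set Q : ℤ[X] := ∑ j ∈ Finset.range (n + 1), C (P.coeff j * (q : ℤ) ^ j) * X ^ (n - j) with hQ
  have hQcoeff : ∀ m, m ≤ n → Q.coeff (n - m) = P.coeff m * (q : ℤ) ^ m := by
    intro m hmn
    rw [hQ, finsetSum_coeff]
    rw [Finset.sum_eq_single m]
    · rw [coeff_C_mul, coeff_X_pow, if_pos rfl, mul_one]
    · intro j hj hjm
      rw [Finset.mem_range] at hj
      rw [coeff_C_mul, coeff_X_pow, if_neg (by omega), mul_zero]
    · intro h
      exfalso
      apply h
      rw [Finset.mem_range]
      omega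
  have hQdeg : Q.natDegree ≤ n := by
    rw [hQ]
    apply natDegree_sum_le_of_forall_le
    intro j _
    apply (natDegree_C_mul_le _ _).trans
    apply (natDegree_X_pow_le _).trans
    omega
  have hQroot : ∀ z ∈ S, (Q.map φ).eval z = 0 := by
    intro z hz
    have hz0 : z ≠ 0 := by
      intro h
      have := hmul z hz
      rw [h, zero_mul] at this
      have hq' : (q : ℂ) ≠ 0 := by exact_mod_cast hq.ne'
      exact hq' this.symm
    have hc : (starRingEnd ℂ) z = (q : ℂ) / z := by
      rw [eq_div_iff hz0, mul_comm]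
      exact hmul z hz
    have h1 : Pc.eval ((q : ℂ) / z) = 0 := by
      rw [← hc]
      exact hroot _ (hconj z hz)
    rw [eval_eq_sum_range, hPcdeg] at h1
    rw [eval_map, hQ, eval₂_finsetSum]
    have h2 : ∀ j ∈ Finset.range (n + 1),
        eval₂ φ z (C (P.coeff j * (q : ℤ) ^ j) * X ^ (n - j))
          = z ^ n * (Pc.coeff j * ((q : ℂ) / z) ^ j) := by
      intro j hj
      rw [Finset.mem_range] at hj
      rw [eval₂_mul, eval₂_C, eval₂_X_pow, hPc, coeff_map, hφ]
      have hzn : z ^ n = z ^ (n - j) * z ^ j := by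
        rw [← pow_add]
        congr 1
        omega
      rw [hzn, div_pow, map_mul, map_pow]
      have hqc : (Int.castRingHom ℂ) (q : ℤ) = (q : ℂ) := by simp
      rw [hqc]
      field_simp
    rw [Finset.sum_congr rfl h2, ← Finset.mul_sum, h1, mul_zero]
  have hQP : Q = C (P.coeff 0) * P := by
    apply Polynomial.map_injective φ Int.cast_injective
    rw [Polynomial.map_mul, Polynomial.map_C, ← sub_eq_zero]
    set D : ℂ[X] := Q.map φ - C (φ (P.coeff 0)) * Pc with hD
    by_contra hD0
    have hDdeg : D.natDegree ≤ n := by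
      rw [hD]
      apply (natDegree_sub_le _ _).trans
      apply max_le
      · exact (natDegree_map_le).trans hQdeg
      · apply (natDegree_C_mul_le _ _).trans
        rw [hPcdeg]
    have hDn : D.coeff n = 0 := by
      rw [hD, coeff_sub, coeff_C_mul, coeff_map]
      have h1 := hQcoeff 0 (Nat.zero_le n)
      rw [Nat.sub_zero, pow_zero, mul_one] at h1
      rw [h1]
      have h2 : Pc.coeff n = 1 := by
        rw [← hPcdeg]
        exact hPcm.coeff_natDegree
      rw [h2, mul_one, sub_self]
    have hlt : D.natDegree < n := by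
      rcases lt_or_eq_of_le hDdeg with h | h
      · exact h
      · exfalso
        have : D.leadingCoeff = 0 := by
          rw [leadingCoeff, h]
          exact hDn
        exact hD0 (leadingCoeff_eq_zero.mp this)
    apply hD0
    apply eq_zero_of_natDegree_lt_card_of_eval_eq_zero' D T
    · intro z hz
      have hzS := (hmemT z).mp hz
      rw [hD, eval_sub, eval_mul, hQroot z hzS, hroot z hzS, mul_zero, sub_zero]
    · rw [hTcard]
      exact hlt
  intro r hr
  have h1 := hQcoeff (d - r) (by omega)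
  have h2 : n - (d - r) = d + r := by omega
  rw [h2, hQP, coeff_C_mul, ha0] at h1
  have hqz : ((q : ℤ)) ^ (d - r) ≠ 0 := pow_ne_zero _ (by exact_mod_cast hq.ne')
  apply mul_right_cancel₀ hqz
  rw [← h1]
  have : (q : ℤ) ^ d = (q : ℤ) ^ r * (q : ℤ) ^ (d - r) := by
    rw [← pow_add]
    congr 1
    omega
  rw [this]
  ring

end hh


end helpers

/-- Let p be a prime number, e ≥ 1 and q = p^e. Let π be an element of a field of characteristic zero
which is integral over ℤ, with minimal polynomial P over ℤ, and assume that every complex root of P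
has absolute value √q and that no complex root of P is real (π is a nonreal Weil q-number). Then the
degree of P is even, say 2d, and writing a_j for the coefficient of x^j in P one has a_{d−r} = q^r ·
a_{d+r} for every 0 ≤ r ≤ d. -/
theorem result (p e : ℕ) [Fact p.Prime] (he : 0 < e)
    (K : Type u) [Field K] [CharZero K] (π : K) (hπ : IsIntegral ℤ π)
    (hweil : ∀ z ∈ (minpoly ℤ π).aroots ℂ, ‖z‖ = Real.sqrt ((p : ℝ) ^ e))
    (hnr : ∀ z ∈ (minpoly ℤ π).aroots ℂ, z.im ≠ 0) :
    Even (minpoly ℤ π).natDegree ∧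
      ∀ r ≤ (minpoly ℤ π).natDegree / 2,
        (minpoly ℤ π).coeff ((minpoly ℤ π).natDegree / 2 - r) =
          (p : ℤ) ^ (e * r) * (minpoly ℤ π).coeff ((minpoly ℤ π).natDegree / 2 + r) := by
  have hp : 0 < p := (Fact.out : p.Prime).pos
  have hm := minpoly.monic hπ
  have hirr := minpoly.irreducible hπ
  have hw : ∀ z ∈ (minpoly ℤ π).aroots ℂ, ‖z‖ = Real.sqrt ((p ^ e : ℕ) : ℝ) := by
    intro z hz
    rw [hweil z hz]
    push_cast
    rfl
  obtain ⟨h1, h2⟩ := main (minpoly ℤ π) hm hirr (p ^ e) (pow_pos hp e) hw hnr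
  refine ⟨h1, fun r hr => ?_⟩
  rw [h2 r hr, pow_mul]
  push_cast
  rfl

end Groth.Agent.S17983
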