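import Groth.Statements.S17985
import Groth.Agent.Lib.Helper22.WeilGorD

set_option autoImplicit false
universe u
open MvPolynomial
open WeilNum

namespace Groth.Agent.S17985

/-- Let p be a prime, e ≥ 1 and q = p^e. Let (π_i) be a nonempty finite family of pairwise nonconjugate
Weil q-numbers: π_i is an element of a field K_i of characteristic zero, integral over ℤ with
minimal polynomial P_i, every complex root of P_i has absolute value √q, and P_i ≠ P_j for i ≠ j.
Suppose the total degree Σ_i deg P_i is even, equal to 2D. Let R_w be the minimal central order, the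
image of ℤ[F, V] → ∏_i K_i, F ↦ (π_i), V ↦ (q/π_i). Then R_w is free of rank 2D as a ℤ-module, has
Krull dimension 1, and is a Gorenstein ring (Noetherian, with all localizations at primes of finite
injective dimension over themselves). -/
theorem result (p e : ℕ) [Fact p.Prime] (he : 0 < e)
    (ι : Type) [Fintype ι] (K : ι → Type u) [∀ i, Field (K i)] [∀ i, CharZero (K i)] (π : ∀ i, K i)
    (hint : ∀ i, IsIntegral ℤ (π i))
    (hweil : ∀ i, ∀ z ∈ (minpoly ℤ (π i)).aroots ℂ, ‖z‖ = Real.sqrt ((p : ℝ) ^ e))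
    (hinj : ∀ i j, minpoly ℤ (π i) = minpoly ℤ (π j) → i = j)
    [Nonempty ι] (D : ℕ) (hD : ∑ i, (minpoly ℤ (π i)).natDegree = 2 * D) :
    Module.Free ℤ (MvPolynomial.aeval ![fun i => π i, fun i => ((p : K i) ^ e) / π i] :
        MvPolynomial (Fin 2) ℤ →ₐ[ℤ] ((i : ι) → K i)).range ∧
      Module.finrank ℤ (MvPolynomial.aeval ![fun i => π i, fun i => ((p : K i) ^ e) / π i] :
        MvPolynomial (Fin 2) ℤ →ₐ[ℤ] ((i : ι) → K i)).range = 2 * D ∧
      ringKrullDim (MvPolynomial.aeval ![fun i => π i, fun i => ((p : K i) ^ e) / π i] :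
        MvPolynomial (Fin 2) ℤ →ₐ[ℤ] ((i : ι) → K i)).range = 1 ∧
      LocCoh.IsGorensteinRing (MvPolynomial.aeval ![fun i => π i, fun i => ((p : K i) ^ e) / π i] :
        MvPolynomial (Fin 2) ℤ →ₐ[ℤ] ((i : ι) → K i)).range := by
  have hq : (0 : ℤ) < (p : ℤ) ^ e := by
    have : (0 : ℤ) < (p : ℤ) := by exact_mod_cast (Fact.out : p.Prime).pos
    exact pow_pos this e
  have hweil' : ∀ i, ∀ z ∈ (minpoly ℤ (π i)).aroots ℂ,
      ‖z‖ = Real.sqrt ((((p : ℤ) ^ e : ℤ)) : ℝ) := by
    intro i z hz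
    rw [hweil i z hz]
    push_cast
    rfl
  have hmap : (fun i => ((p : K i) ^ e) / π i) =
      fun i => ((((p : ℤ) ^ e : ℤ)) : K i) / π i := by
    funext i
    push_cast
    rfl
  have h1 := Groth.Agent.Lib.helper22.WeilKer.free_range K π hq hint hweil' hinj
  have h2 := Groth.Agent.Lib.helper22.WeilKer.finrank_range K π hq hint hweil' hinj
  have h3 := Groth.Agent.Lib.helper22.WeilKer.krullDim_range K π hq hint hweil' hinj
  have h4 := Groth.Agent.Lib.helper22.WeilKer.gorenstein_range K π hq hint hweil' hinj D hD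
  rw [Groth.Agent.Lib.helper22.WeilKer.PP_natDegree K π hint, hD] at h2
  rw [Groth.Agent.Lib.helper22.WeilKer.Phi, ← hmap] at h1 h2 h3 h4
  exact ⟨h1, h2, h3, h4⟩

end Groth.Agent.S17985
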