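import Groth.Statements.S17989
import Mathlib
import Groth.Agent.Lib.Helper19.Refl1

set_option autoImplicit false
universe u
open CategoryTheory
open CAlg

namespace Groth.Agent.S17989

-- MARK


/-- Let S be a Gorenstein ring (a Noetherian ring all of whose localizations at prime ideals have finite
injective dimension as modules over themselves) of Krull dimension 1, and let M be a finitely
generated reflexive S-module (the canonical map M → M** is bijective). Then Ext¹_S(M, S) = 0. -/
theorem result (S : Type u) [CommRing S]
    [LocCoh.IsGorensteinRing S] (hdim : ringKrullDim S = 1)
    (M : Type u) [AddCommGroup M] [Module S M] [Module.Finite S M] [Module.IsReflexive S M] :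
    Subsingleton (Abelian.Ext (ModuleCat.of S M) (ModuleCat.of S S) 1) := by
  classical
  haveI : IsNoetherianRing S := inferInstance
  have hinj := Groth.Agent.Lib.helper19.Refl.hasInjectiveDimensionLE_of_gorenstein S 1
    (le_of_eq hdim)
  exact Groth.Agent.Lib.helper19.Refl.ext_one_subsingleton_of_equiv_dual hinj M (Module.Dual S M)
    (Module.evalEquiv S M)

end Groth.Agent.S17989
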