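import Groth.Statements.S18015
import Mathlib
-- import your own Groth.Agent.* helpers here

set_option autoImplicit false
universe u
open CategoryTheory
open Coh

namespace Groth.Agent.S18015

/-- Let A be a Noetherian commutative ring and F an additive functor from A-modules to A-modules which
is half-exact, i.e. for every short exact sequence 0 → M' → M → M'' → 0 the sequence F(M') → F(M) →
F(M'') is exact at F(M). Then F(M) is a finitely generated A-module for every finitely generated
A-module M if and only if F(A/p) is a finitely generated A-module for every prime ideal p of A. (The
published statement takes F from quasi-coherent sheaves on Spec A to abelian groups, with A acting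
on each F(M) through F; this row allows any additive functor between A-module categories, A-linear
or not, and the same argument applies, since it uses only that each map F(f) is A-linear.) -/
theorem result {A : Type u} [CommRing A] [IsNoetherianRing A]
    (F : ModuleCat.{u} A ⥤ ModuleCat.{u} A) [F.Additive]
    (hF : ∀ S : ShortComplex (ModuleCat.{u} A), S.ShortExact → (S.map F).Exact) :
    (∀ M : ModuleCat.{u} A, Module.Finite A M → Module.Finite A (F.obj M)) ↔
      ∀ p : PrimeSpectrum A, Module.Finite A (F.obj (ModuleCat.of A (A ⧸ p.asIdeal))) := by
  constructor
  · intro h p
    exact h _ (inferInstanceAs (Module.Finite A (A ⧸ p.asIdeal)))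
  · intro h M hM
    have key : ∀ (N : Type u) [AddCommGroup N] [Module A N] [Module.Finite A N],
        Module.Finite A (F.obj (ModuleCat.of A N)) := by
      intro N _ _ hN
      induction hN using IsNoetherianRing.induction_on_isQuotientEquivQuotientPrime A with
      | subsingleton N =>
        have h0 : Limits.IsZero (ModuleCat.of A N) := ModuleCat.isZero_of_subsingleton _
        have h1 : Limits.IsZero (F.obj (ModuleCat.of A N)) := F.map_isZero h0
        have : Subsingleton (F.obj (ModuleCat.of A N)) := ModuleCat.subsingleton_of_isZero h1
        infer_instance
      | quotient N p f =>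
        have e : F.obj (ModuleCat.of A N) ≅ F.obj (ModuleCat.of A (A ⧸ p.asIdeal)) :=
          F.mapIso f.toModuleIso
        have := h p
        exact Module.Finite.equiv e.toLinearEquiv.symm
      | exact N₁ N₂ N₃ f g hf hg hfg h₁ h₃ =>
        let S : ShortComplex (ModuleCat.{u} A) :=
          ModuleCat.shortComplexOfCompEqZero f g (by ext x; simpa using hfg.apply_apply_eq_zero x)
        have hS : S.ShortExact := ModuleCat.shortComplex_shortExact S hfg hf hg
        have hex := (hF S hS).moduleCat_range_eq_ker
        have n1 : IsNoetherian A (F.obj (ModuleCat.of A N₁)) := isNoetherian_of_isNoetherianRing_of_finite A _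
        have n3 : IsNoetherian A (F.obj (ModuleCat.of A N₃)) := isNoetherian_of_isNoetherianRing_of_finite A _
        have n2 : IsNoetherian A (F.obj (ModuleCat.of A N₂)) :=
          @isNoetherian_of_range_eq_ker A (F.obj (ModuleCat.of A N₁)) (F.obj (ModuleCat.of A N₂)) _ _ _
            _ _ (F.obj (ModuleCat.of A N₃)) _ _ n1 n3 (S.map F).f.hom (S.map F).g.hom hex
        infer_instance
    have := key M
    exact this

end Groth.Agent.S18015
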