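import Groth.Statements.S18019
import Mathlib
-- import your own Groth.Agent.* helpers here

set_option autoImplicit false
universe u
open ClassStk

namespace Groth.Agent.S18019

open Polynomial in
/-- Let R be an integral domain of characteristic 2 and let a be a nonzero element of R, so that x ↦ x +
a defines an R-algebra involution of the polynomial ring R[x] (an action of the group of order two).
A polynomial f is invariant, f(x + a) = f(x), if and only if f belongs to the R-subalgebra generated
by u = x (x + a); in other words the ring of invariants is the polynomial ring R[u]. -/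
theorem result (R : Type u) [CommRing R] [IsDomain R]
    [CharP R 2] (a : R) (ha : a ≠ 0) (f : Polynomial R) :
    f.comp (X + C a) = f ↔ f ∈ Algebra.adjoin R ({X * (X + C a)} : Set (Polynomial R)) := by
  set u : R[X] := X * (X + C a) with hu
  have hmonic : u.Monic := monic_X.mul (monic_X_add_C a)
  have hdeg : u.natDegree = 2 := by
    rw [hu, natDegree_mul X_ne_zero (monic_X_add_C a).ne_zero, natDegree_X, natDegree_X_add_C]
  have hdeg' : u.degree = 2 := by
    rw [degree_eq_natDegree hmonic.ne_zero, hdeg]; rfl
  let σ : R[X] →ₐ[R] R[X] := aeval (X + C a)
  have hσ : ∀ p : R[X], σ p = p.comp (X + C a) := fun p => rfl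
  have h2 : (C a + C a : R[X]) = 0 := by
    rw [← C_add, CharTwo.add_self_eq_zero, C_0]
  have hσu : σ u = u := by
    rw [hσ, hu]
    simp only [mul_comp, X_comp, add_comp, C_comp]
    rw [add_assoc, h2, add_zero, mul_comm]
  constructor
  · -- invariants lie in R[u], by induction on the degree
    intro hf
    rw [← hσ] at hf
    induction hn : f.natDegree using Nat.strong_induction_on generalizing f with
    | _ n ih =>
      set q := f /ₘ u with hq
      set r := f %ₘ u with hr
      have hfqr : r + u * q = f := modByMonic_add_div f u
      have hrdeg : r.degree < u.degree := degree_modByMonic_lt f hmonic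
      -- apply σ
      have hσf : σ r + u * σ q = f := by
        rw [← hσu, ← map_mul, ← map_add, hfqr, hf]
      have hσrdeg : (σ r).degree < u.degree := by
        rw [hσ]
        refine lt_of_le_of_lt ?_ hrdeg
        rcases eq_or_ne r 0 with h0 | h0
        · simp [h0]
        · rw [degree_eq_natDegree h0]
          calc (r.comp (X + C a)).degree ≤ (r.comp (X + C a)).natDegree := degree_le_natDegree
            _ ≤ (r.natDegree * (X + C a : R[X]).natDegree : ℕ) := by
                exact_mod_cast natDegree_comp_le
            _ = r.natDegree := by rw [natDegree_X_add_C, mul_one]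
      obtain ⟨hq', hr'⟩ := div_modByMonic_unique (σ q) (σ r) hmonic ⟨hσf, hσrdeg⟩
      rw [← hq] at hq'
      rw [← hr] at hr'
      -- r is constant
      have hrdeg2 : r.degree < 2 := by rwa [hdeg'] at hrdeg
      have hrnat : r.natDegree ≤ 1 := by
        rcases eq_or_ne r 0 with h0 | h0
        · simp [h0]
        · rw [degree_eq_natDegree h0] at hrdeg2
          have : r.natDegree < 2 := by exact_mod_cast hrdeg2
          omega
      have hr1 : r.coeff 1 = 0 := by
        have h3 : r = C (r.coeff 1) * X + C (r.coeff 0) := eq_X_add_C_of_natDegree_le_one hrnat
        have h4 : σ r = r + C (r.coeff 1 * a) := by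
          rw [hσ]
          generalize r.coeff 1 = c1 at h3 ⊢
          generalize r.coeff 0 = c0 at h3 ⊢
          rw [h3]
          simp only [add_comp, mul_comp, C_comp, X_comp, C_mul]
          ring
        rw [h4] at hr'
        have h5 : C (r.coeff 1 * a) = (0 : R[X]) := by
          have := hr'
          rwa [left_eq_add] at this
        have h6 : r.coeff 1 * a = 0 := by simpa using h5
        exact (mul_eq_zero.mp h6).resolve_right ha
      have hrC : r = C (r.coeff 0) := by
        have h3 : r = C (r.coeff 1) * X + C (r.coeff 0) := eq_X_add_C_of_natDegree_le_one hrnat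
        rw [hr1, C_0, zero_mul, zero_add] at h3
        exact h3
      have hrmem : r ∈ Algebra.adjoin R ({u} : Set R[X]) := by
        rw [hrC]
        exact Subalgebra.algebraMap_mem _ _
      have humem : u ∈ Algebra.adjoin R ({u} : Set R[X]) :=
        Algebra.subset_adjoin (Set.mem_singleton u)
      rw [← hfqr]
      refine Subalgebra.add_mem _ hrmem (Subalgebra.mul_mem _ humem ?_)
      by_cases hq0 : q = 0
      · rw [hq0]; exact Subalgebra.zero_mem _
      · have hf0 : f ≠ 0 := by
          rintro rfl
          exact hq0 (by rw [hq, zero_divByMonic])
        have hlt : q.natDegree < n := by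
          have := degree_divByMonic_lt f u hf0 (by rw [hdeg']; norm_num)
          rw [← hq] at this
          rw [← hn]
          exact natDegree_lt_natDegree hq0 this
        exact ih q.natDegree hlt q hq'.symm rfl
  · intro hf
    have hle : Algebra.adjoin R ({u} : Set R[X]) ≤ AlgHom.equalizer σ (AlgHom.id R R[X]) := by
      apply Algebra.adjoin_le
      intro x hx
      rw [Set.mem_singleton_iff] at hx
      subst hx
      exact hσu
    exact hle hf

end Groth.Agent.S18019
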