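import Groth.Statements.S18020
import Mathlib

set_option autoImplicit false
open W4c5stacksedinertia

namespace Groth.Agent.S18020

open W4c5stacksedinertia in
theorem card_of (H : Type) [Group H] [Finite H] : (Idx.of H).card = Nat.card H := by
  unfold Idx.card Idx.rep Idx.of
  obtain ⟨e⟩ := Quotient.mk_out (s := FinGrp.setoid) (FinGrp.of H)
  rw [Nat.card_congr e.toEquiv]
  change Nat.card (Fin (Nat.card H)) = Nat.card H
  simp

open W4c5stacksedinertia in
theorem cl_mem (n : ℕ) (H : Type) [Group H] [Finite H] (hn : Nat.card H ≤ n) : cl H ∈ Kle n := by
  unfold cl Kle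
  apply Finsupp.single_mem_supported
  change (Idx.of H).card ≤ n
  rw [card_of]
  exact hn

open W4c5stacksedinertia in
theorem inertiaROf_mem (n : ℕ) (r : ℕ) (G : Type) [Group G] [Finite G] (hn : Nat.card G ≤ n) :
    inertiaROf r G ∈ Kle n := by
  unfold inertiaROf
  refine finsum_induction (fun x => x ∈ Kle n) (Submodule.zero_mem _)
    (fun x y hx hy => Submodule.add_mem _ hx hy) (fun O => ?_)
  exact cl_mem n _ ((Subgroup.card_le_card_group _).trans hn)

open W4c5stacksedinertia in
/-- In the rational vector space K with basis the isomorphism classes of finite groups (the class of a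
group standing for its classifying groupoid), the inertia operator, which sends the class of a
finite group to the sum over its conjugacy classes of the classes of the centralizers of
representatives, preserves the subspace spanned by the classes of groups of order at most `n`. -/
theorem result (n : ℕ) (v : K) (hv : v ∈ Kle n) :
    inertia v ∈ Kle n := by
  change inertiaR 1 v ∈ Kle n
  unfold inertiaR
  rw [Finsupp.linearCombination_apply]
  refine Submodule.sum_mem _ (fun i hi => Submodule.smul_mem _ _ ?_)
  have hsub : (v.support : Set Idx) ⊆ {i : Idx | i.card ≤ n} := (Finsupp.mem_supported ℚ v).mp hv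
  exact inertiaROf_mem n 1 i.rep (hsub hi)

end Groth.Agent.S18020
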