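import Groth.Statements.S18021
import Mathlib
import Groth.Agent.S18020
import Groth.Agent.S18022

set_option autoImplicit false
open W4c5stacksedinertia

namespace Groth.Agent.S18021


section Helpers
open W4c5stacksedinertia Polynomial

theorem exists_Kle (v : K) : ∃ n, v ∈ Kle n := by
  refine ⟨v.support.sup Idx.card, ?_⟩
  unfold Kle
  rw [Finsupp.mem_supported]
  intro i hi
  exact Finset.le_sup (f := Idx.card) hi

theorem mem_Kge_one (v : K) : v ∈ Kge 1 := by
  unfold Kge
  rw [Finsupp.mem_supported]
  intro i _
  show 1 ≤ i.centerCard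
  unfold Idx.centerCard
  exact Nat.card_pos

theorem eq_zero_of_mem_Kge_of_mem_Kle (n : ℕ) (v : K) (h1 : v ∈ Kge (n + 1)) (h2 : v ∈ Kle n) :
    v = 0 := by
  unfold Kge at h1
  unfold Kle at h2
  rw [Finsupp.mem_supported] at h1 h2
  rw [← Finsupp.support_eq_empty, Finset.eq_empty_iff_forall_notMem]
  intro i hi
  have ha : n + 1 ≤ i.centerCard := h1 hi
  have hb : i.card ≤ n := h2 hi
  have hc : i.centerCard ≤ i.card := Subgroup.card_le_card_group _
  omega

theorem step (n k : ℕ) (v : K) (h1 : v ∈ Kge k) (h2 : v ∈ Kle n) :
    inertia v - (k : ℚ) • v ∈ Kge (k + 1) ⊓ Kle n := by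
  refine ⟨?_, Submodule.sub_mem _ (Groth.Agent.S18020.result n v h2) (Submodule.smul_mem _ _ h2)⟩
  have := Groth.Agent.S18022.result 1 k v h1
  simpa using this

theorem aeval_prod_mem (n : ℕ) (v : K) (h2 : v ∈ Kle n) (j : ℕ) :
    aeval inertia (∏ k ∈ Finset.range j, (X - C ((k : ℚ) + 1))) v ∈ Kge (j + 1) ⊓ Kle n := by
  induction j with
  | zero =>
    simp only [Finset.range_zero, Finset.prod_empty, map_one, Module.End.one_apply, zero_add]
    exact ⟨mem_Kge_one v, h2⟩
  | succ j ih =>
    rw [Finset.prod_range_succ, mul_comm, map_mul, Module.End.mul_apply]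
    have := step n (j + 1) _ ih.1 ih.2
    set w := aeval inertia (∏ k ∈ Finset.range j, (X - C ((k : ℚ) + 1))) v with hw
    have e : aeval inertia (X - C ((j : ℚ) + 1)) w = inertia w - ((j + 1 : ℕ) : ℚ) • w := by
      simp only [map_sub, aeval_X, aeval_C, LinearMap.sub_apply, Module.algebraMap_end_apply]
      push_cast
      rfl
    rw [e]
    exact this

theorem aeval_prod_eq_zero (n : ℕ) (v : K) (h2 : v ∈ Kle n) :
    aeval inertia (∏ k ∈ Finset.range n, (X - C ((k : ℚ) + 1))) v = 0 := by
  have := aeval_prod_mem n v h2 n
  exact eq_zero_of_mem_Kge_of_mem_Kle n _ this.1 this.2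

theorem ker_prod_le {M : Type*} [AddCommGroup M] [Module ℚ M] (f : Module.End ℚ M) (n : ℕ) :
    LinearMap.ker (aeval f (∏ k ∈ Finset.range n, (X - C ((k : ℚ) + 1)))) ≤
      ⨆ m : ℕ, Module.End.eigenspace f (m : ℚ) := by
  induction n with
  | zero =>
    intro v hv
    simp only [Finset.range_zero, Finset.prod_empty, map_one, LinearMap.mem_ker,
      Module.End.one_apply] at hv
    rw [hv]; exact Submodule.zero_mem _
  | succ n ih =>
    rw [Finset.prod_range_succ, ← sup_ker_aeval_eq_ker_aeval_mul_of_coprime]
    · refine sup_le ih ?_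
      refine le_trans ?_ (le_iSup _ (n + 1))
      intro v hv
      rw [Module.End.mem_eigenspace_iff]
      rw [LinearMap.mem_ker] at hv
      simp only [map_sub, aeval_X, aeval_C, LinearMap.sub_apply, Module.algebraMap_end_apply] at hv
      rw [sub_eq_zero] at hv
      rw [hv]; push_cast; rfl
    · apply IsCoprime.prod_left
      intro k hk
      apply isCoprime_X_sub_C_of_isUnit_sub
      apply IsUnit.mk0
      have : k < n := Finset.mem_range.mp hk
      intro h
      have h' : (k : ℚ) = n := by linarith
      exact absurd (Nat.cast_injective h') this.ne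

end Helpers

open W4c5stacksedinertia in
/-- In the rational vector space K with basis the isomorphism classes of finite groups (the class of a
group standing for its classifying groupoid), the inertia operator is diagonalizable with spectrum
the positive integers: the eigenspaces attached to natural numbers span everything, and a rational
number is an eigenvalue if and only if it is a positive integer. -/
theorem result :
    (⨆ n : ℕ, Module.End.eigenspace inertia (n : ℚ)) = ⊤ ∧
    ∀ μ : ℚ, Module.End.HasEigenvalue inertia μ ↔ ∃ n : ℕ, 0 < n ∧ μ = (n : ℚ) := by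
  constructor
  · rw [eq_top_iff]
    intro v _
    obtain ⟨n, hn⟩ := exists_Kle v
    exact ker_prod_le inertia n (LinearMap.mem_ker.mpr (aeval_prod_eq_zero n v hn))
  · intro μ
    constructor
    · intro hμ
      obtain ⟨v, hv⟩ := hμ.exists_hasEigenvector
      obtain ⟨n, hn⟩ := exists_Kle v
      have h0 := aeval_prod_eq_zero n v hn
      rw [Module.End.aeval_apply_of_hasEigenvector hv] at h0
      have h1 := (smul_eq_zero.mp h0).resolve_right hv.2
      rw [Polynomial.eval_prod, Finset.prod_eq_zero_iff] at h1
      obtain ⟨k, _, hk⟩ := h1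
      simp only [Polynomial.eval_sub, Polynomial.eval_X, Polynomial.eval_C, sub_eq_zero] at hk
      exact ⟨k + 1, Nat.succ_pos k, by rw [hk]; push_cast; rfl⟩
    · rintro ⟨n, hn, rfl⟩
      haveI : NeZero n := ⟨hn.ne'⟩
      set i : Idx := Idx.of (Multiplicative (ZMod n)) with hi
      obtain ⟨e⟩ := Groth.Agent.S18022.nonempty_rep_equiv (Multiplicative (ZMod n))
      have hcomm : ∀ a b : i.rep, a * b = b * a := by
        intro a b
        apply e.injective
        rw [map_mul, map_mul, mul_comm]
      have hcenter : Subgroup.center i.rep = ⊤ := by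
        rw [eq_top_iff]
        intro z _
        rw [Subgroup.mem_center_iff]
        intro g
        exact hcomm g z
      have hcard : Nat.card i.rep = n := by
        rw [Nat.card_congr e.toEquiv]
        simp
      have hc : Nat.card (Subgroup.center i.rep) = n := by
        rw [hcenter, Subgroup.card_top, hcard]
      have hA := Groth.Agent.S18022.inertiaROf_sub_mem i.rep 1
      rw [hc, Groth.Agent.S18022.cl_rep] at hA
      have hB : inertiaROf 1 i.rep -
          ((Nat.factorial 1 * Nat.choose n 1 : ℕ) : ℚ) • Finsupp.single i (1 : ℚ) ∈ Kle n := by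
        refine Submodule.sub_mem _ (Groth.Agent.S18020.inertiaROf_mem n 1 i.rep hcard.le)
          (Submodule.smul_mem _ _ ?_)
        unfold Kle
        apply Finsupp.single_mem_supported
        show i.card ≤ n
        exact hcard.le
      have hz := eq_zero_of_mem_Kge_of_mem_Kle n _ hA hB
      apply Module.End.hasEigenvalue_of_hasEigenvector (x := Finsupp.single i (1 : ℚ))
      refine ⟨?_, by simp⟩
      rw [Module.End.mem_eigenspace_iff]
      have h1 : inertia (Finsupp.single i (1 : ℚ)) = inertiaROf 1 i.rep := by
        show inertiaR 1 (Finsupp.single i (1 : ℚ)) = _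
        unfold inertiaR
        rw [Finsupp.linearCombination_single, one_smul]
      rw [h1]
      rw [sub_eq_zero] at hz
      rw [hz]
      simp

end Groth.Agent.S18021
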