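import Groth.Statements.S18023
import Mathlib
import Groth.Agent.Lib.Helper8.Inertia

set_option autoImplicit false
open W4c5stacksedinertia

namespace Groth.Agent.S18023

section Helpers
open W4c5stacksedinertia Groth.Agent.Lib.Helper8.Inertia

theorem coeff_step (k r : ℕ) :
    ((Nat.factorial r * Nat.choose k r : ℕ) : ℚ) * ((k : ℚ) - (r : ℚ)) =
      ((Nat.factorial (r + 1) * Nat.choose k (r + 1) : ℕ) : ℚ) := by
  rcases Nat.lt_or_ge k r with h | h
  · rw [Nat.choose_eq_zero_of_lt h, Nat.choose_eq_zero_of_lt (Nat.lt_succ_of_lt h)]
    simp
  · have h1 := Nat.choose_succ_right_eq k r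
    have h2 : ((k - r : ℕ) : ℚ) = (k : ℚ) - (r : ℚ) := Nat.cast_sub h
    rw [← h2, Nat.factorial_succ]
    have h3 : (Nat.choose k (r + 1) : ℚ) * ((r : ℚ) + 1) = (Nat.choose k r : ℚ) * ((k - r : ℕ) : ℚ) := by
      exact_mod_cast h1
    push_cast
    linear_combination (-(Nat.factorial r : ℚ)) * h3

theorem inertiaR_of_eigen (k r : ℕ) (v : K) (hv : inertia v = (k : ℚ) • v) :
    inertiaR r v = ((Nat.factorial r * Nat.choose k r : ℕ) : ℚ) • v := by
  induction r with
  | zero =>
    rw [inertiaR_zero]
    simp
  | succ r ih =>
    have h := inertia_inertiaR r v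
    rw [ih, map_smul, hv] at h
    have h' : inertiaR (r + 1) v =
        ((Nat.factorial r * Nat.choose k r : ℕ) : ℚ) • (k : ℚ) • v -
          (r : ℚ) • ((Nat.factorial r * Nat.choose k r : ℕ) : ℚ) • v := by
      rw [h, add_sub_cancel_right]
    rw [h', ← coeff_step, smul_smul, smul_smul, ← sub_smul]
    congr 1
    ring

end Helpers


open W4c5stacksedinertia in
/-- In the rational vector space K with basis the isomorphism classes of finite groups (the class of a
group standing for its classifying groupoid), the `k`-eigenspace of the inertia operator is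
contained in the `r! * Nat.choose k r`-eigenspace of `inertiaR r`, for all natural numbers `k` and
`r`; with the diagonalizability of the inertia operator this expresses that the operators `inertiaR
r` are simultaneously diagonalizable, their common eigenspaces being the eigenspaces of the inertia
operator. -/
theorem result (k r : ℕ) :
    Module.End.eigenspace inertia (k : ℚ) ≤
      Module.End.eigenspace (inertiaR r) ((Nat.factorial r * Nat.choose k r : ℕ) : ℚ) := by
  intro v hv
  rw [Module.End.mem_eigenspace_iff] at hv ⊢
  exact inertiaR_of_eigen k r v hv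

end Groth.Agent.S18023
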