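import Groth.Statements.S18024
import Mathlib
import Groth.Agent.Lib.Helper8.Inertia

set_option autoImplicit false
open W4c5stacksedinertia

namespace Groth.Agent.S18024

section Helpers
open W4c5stacksedinertia Polynomial

theorem ker_aeval_X_sub_C {M : Type*} [AddCommGroup M] [Module ℚ M] (f : Module.End ℚ M) (μ : ℚ) :
    LinearMap.ker (aeval f (X - C μ)) = Module.End.eigenspace f μ := by
  ext v
  rw [LinearMap.mem_ker, Module.End.mem_eigenspace_iff]
  simp only [map_sub, aeval_X, aeval_C, LinearMap.sub_apply, Module.algebraMap_end_apply]
  exact sub_eq_zero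

theorem ker_prod {M : Type*} [AddCommGroup M] [Module ℚ M] (f : Module.End ℚ M) (r : ℕ) :
    LinearMap.ker (aeval f (∏ j ∈ Finset.range r, (X - C (j : ℚ)))) =
      ⨆ k ∈ Finset.range r, Module.End.eigenspace f (k : ℚ) := by
  induction r with
  | zero =>
    rw [Finset.range_zero, Finset.prod_empty, map_one]
    simp only [Finset.notMem_empty, iSup_false, iSup_bot]
    exact LinearMap.ker_id
  | succ r ih =>
    rw [Finset.prod_range_succ, ← sup_ker_aeval_eq_ker_aeval_mul_of_coprime, ih,
      ker_aeval_X_sub_C, Finset.range_add_one, Finset.iSup_insert, sup_comm]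
    apply IsCoprime.prod_left
    intro k hk
    apply isCoprime_X_sub_C_of_isUnit_sub
    apply IsUnit.mk0
    have : k < r := Finset.mem_range.mp hk
    intro h
    have h' : (k : ℚ) = r := by linarith
    exact absurd (Nat.cast_injective h') this.ne

end Helpers


open W4c5stacksedinertia in
/-- In the rational vector space K with basis the isomorphism classes of finite groups (the class of a
group standing for its classifying groupoid), for every `r` the kernel of `inertiaR r` is the span
of the eigenspaces of the inertia operator with eigenvalue a natural number `k < r`. -/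
theorem result (r : ℕ) :
    LinearMap.ker (inertiaR r) = ⨆ k ∈ Finset.range r, Module.End.eigenspace inertia (k : ℚ) := by
  rw [Groth.Agent.Lib.Helper8.Inertia.inertiaR_eq_aeval]
  exact ker_prod inertia r

end Groth.Agent.S18024
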