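import Groth.Statements.S18025
import Mathlib
import Groth.Agent.Lib.Helper8.Inertia
import Groth.Agent.S18021
import Groth.Agent.S18023

set_option autoImplicit false
open W4c5stacksedinertia

namespace Groth.Agent.S18025

section Helpers
open W4c5stacksedinertia Groth.Agent.Lib.Helper8.Inertia

/-- binomial inversion -/
theorem binom_inv (N j k : ℕ) (hj : j < N) :
    ∑ r ∈ Finset.range N, ((-1 : ℚ) ^ (r + k)) * (Nat.choose r k : ℚ) * (Nat.choose j r : ℚ) =
      if j = k then 1 else 0 := by
  rcases Nat.lt_or_ge j k with h | h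
  · rw [if_neg h.ne]
    apply Finset.sum_eq_zero
    intro r _
    rcases Nat.lt_or_ge r k with h' | h'
    · rw [Nat.choose_eq_zero_of_lt h']
      simp
    · rw [Nat.choose_eq_zero_of_lt (lt_of_lt_of_le h h')]
      simp
  · have hsub : Finset.Ico k (j + 1) ⊆ Finset.range N := by
      intro r hr
      rw [Finset.mem_Ico] at hr
      rw [Finset.mem_range]
      omega
    rw [← Finset.sum_subset hsub, Finset.sum_Ico_eq_sum_range]
    · have hterm : ∀ m ∈ Finset.range (j + 1 - k),
          ((-1 : ℚ) ^ (k + m + k)) * (Nat.choose (k + m) k : ℚ) * (Nat.choose j (k + m) : ℚ) =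
            (Nat.choose j k : ℚ) * (((-1 : ℤ) ^ m * ((j - k).choose m : ℤ) : ℤ) : ℚ) := by
        intro m _
        have h1 := Nat.choose_mul (n := j) (k := k + m) (s := k) (Nat.le_add_right k m)
        rw [Nat.add_sub_cancel_left] at h1
        have h2 : (Nat.choose j (k + m) : ℚ) * (Nat.choose (k + m) k : ℚ) =
            (Nat.choose j k : ℚ) * (Nat.choose (j - k) m : ℚ) := by exact_mod_cast h1
        have h3 : ((-1 : ℚ) ^ (k + m + k)) = (-1 : ℚ) ^ m := by
          rw [show k + m + k = m + 2 * k by ring, pow_add, pow_mul]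
          simp
        rw [h3]
        push_cast
        linear_combination ((-1 : ℚ) ^ m) * h2
      rw [Finset.sum_congr rfl hterm, ← Finset.mul_sum, ← Int.cast_sum,
        show j + 1 - k = (j - k) + 1 by omega, Int.alternating_sum_range_choose]
      by_cases hjk : j = k
      · rw [if_pos hjk, if_pos (by omega)]
        subst hjk
        simp
      · rw [if_neg hjk, if_neg (by omega)]
        simp
    · intro r _ hr
      rw [Finset.mem_Ico, not_and_or] at hr
      rcases hr with hr | hr
      · rw [Nat.choose_eq_zero_of_lt (not_le.mp hr)]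
        simp
      · rw [Nat.choose_eq_zero_of_lt (show j < r by omega)]
        simp

theorem exists_decomp (v : K) : ∃ f : ℕ →₀ K,
    (∀ j : ℕ, f j ∈ Module.End.eigenspace inertia (j : ℚ)) ∧ (f.sum fun _ x => x) = v := by
  have hv : v ∈ ⨆ n : ℕ, Module.End.eigenspace inertia (n : ℚ) := by
    rw [(Groth.Agent.S18021.result).1]
    exact Submodule.mem_top
  refine Submodule.iSup_induction _ (motive := fun v => ∃ f : ℕ →₀ K,
    (∀ j : ℕ, f j ∈ Module.End.eigenspace inertia (j : ℚ)) ∧ (f.sum fun _ x => x) = v) hv ?_ ?_ ?_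
  · intro i x hx
    refine ⟨Finsupp.single i x, ?_, Finsupp.sum_single_index rfl⟩
    intro j
    by_cases hij : i = j
    · subst hij
      rw [Finsupp.single_eq_same]
      exact hx
    · rw [Finsupp.single_eq_of_ne' hij]
      exact Submodule.zero_mem _
  · exact ⟨0, fun j => Submodule.zero_mem _, Finsupp.sum_zero_index⟩
  · rintro x y ⟨f, hf, rfl⟩ ⟨g, hg, rfl⟩
    refine ⟨f + g, fun j => ?_, Finsupp.sum_add_index' (fun _ => rfl) (fun _ _ _ => rfl)⟩
    rw [Finsupp.add_apply]
    exact Submodule.add_mem _ (hf j) (hg j)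

theorem proj_eq (f : ℕ →₀ K) (hf : ∀ j : ℕ, f j ∈ Module.End.eigenspace inertia (j : ℚ)) (k : ℕ) :
    (∑ᶠ r : ℕ, (((-1 : ℚ) ^ (r + k)) / (Nat.factorial r : ℚ) * (Nat.choose r k : ℚ)) •
        inertiaR r (f.sum fun _ x => x)) = f k := by
  set N := f.support.sup id + 1 with hN
  have hlt : ∀ j ∈ f.support, j < N := by
    intro j hj
    have : id j ≤ f.support.sup id := Finset.le_sup hj
    simp only [id] at this
    omega
  have hR : ∀ r : ℕ, inertiaR r (f.sum fun _ x => x) =
      ∑ j ∈ f.support, ((Nat.factorial r * Nat.choose j r : ℕ) : ℚ) • f j := by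
    intro r
    unfold Finsupp.sum
    rw [map_sum]
    refine Finset.sum_congr rfl (fun j _ => ?_)
    exact Groth.Agent.S18023.inertiaR_of_eigen j r (f j) (Module.End.mem_eigenspace_iff.mp (hf j))
  have hsupp : (Function.support fun r : ℕ =>
      (((-1 : ℚ) ^ (r + k)) / (Nat.factorial r : ℚ) * (Nat.choose r k : ℚ)) •
        inertiaR r (f.sum fun _ x => x)) ⊆ ↑(Finset.range N) := by
    intro r hr
    rw [Function.mem_support] at hr
    rw [Finset.coe_range, Set.mem_Iio]
    by_contra hge
    apply hr
    rw [hR r, Finset.sum_eq_zero, smul_zero]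
    intro j hj
    rw [Nat.choose_eq_zero_of_lt (lt_of_lt_of_le (hlt j hj) (not_lt.mp hge))]
    simp
  rw [finsum_eq_sum_of_support_subset _ hsupp]
  have hcalc : ∀ r ∈ Finset.range N,
      (((-1 : ℚ) ^ (r + k)) / (Nat.factorial r : ℚ) * (Nat.choose r k : ℚ)) •
        inertiaR r (f.sum fun _ x => x) =
      ∑ j ∈ f.support, (((-1 : ℚ) ^ (r + k)) * (Nat.choose r k : ℚ) * (Nat.choose j r : ℚ)) • f j := by
    intro r _
    rw [hR r, Finset.smul_sum]
    refine Finset.sum_congr rfl (fun j _ => ?_)
    rw [smul_smul]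
    congr 1
    have hfac : (Nat.factorial r : ℚ) ≠ 0 := by exact_mod_cast (Nat.factorial_pos r).ne'
    push_cast
    field_simp
  rw [Finset.sum_congr rfl hcalc, Finset.sum_comm]
  have hj : ∀ j ∈ f.support,
      ∑ r ∈ Finset.range N, (((-1 : ℚ) ^ (r + k)) * (Nat.choose r k : ℚ) * (Nat.choose j r : ℚ)) • f j =
        if j = k then f j else 0 := by
    intro j hj
    rw [← Finset.sum_smul, binom_inv N j k (hlt j hj)]
    split_ifs <;> simp
  rw [Finset.sum_congr rfl hj, Finset.sum_ite_eq']
  split_ifs with hk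
  · rfl
  · exact (Finsupp.notMem_support_iff.mp hk).symm

end Helpers


open W4c5stacksedinertia in
/-- In the rational vector space K with basis the isomorphism classes of finite groups (the class of a
group standing for its classifying groupoid), the operators `P k := ∑ r, ((-1)^(r+k) / r!) *
Nat.choose r k • inertiaR r` (a finite sum on each vector) are the eigenprojections of the inertia
operator: `P k v` lies in the `k`-eigenspace of the inertia operator for every `v` and `k`, and `∑
k, P k v = v`. -/
theorem result (v : K) :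
    (∀ k : ℕ, (∑ᶠ r : ℕ, (((-1 : ℚ) ^ (r + k)) / (Nat.factorial r : ℚ) * (Nat.choose r k : ℚ)) •
        inertiaR r v) ∈ Module.End.eigenspace inertia (k : ℚ)) ∧
    (∑ᶠ k : ℕ, ∑ᶠ r : ℕ, (((-1 : ℚ) ^ (r + k)) / (Nat.factorial r : ℚ) * (Nat.choose r k : ℚ)) •
        inertiaR r v) = v := by
  obtain ⟨f, hf, rfl⟩ := exists_decomp v
  constructor
  · intro k
    rw [proj_eq f hf k]
    exact hf k
  · have h : (fun k : ℕ => ∑ᶠ r : ℕ,
        (((-1 : ℚ) ^ (r + k)) / (Nat.factorial r : ℚ) * (Nat.choose r k : ℚ)) •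
          inertiaR r (f.sum fun _ x => x)) = fun k => f k := by
      funext k
      exact proj_eq f hf k
    rw [h]
    rw [finsum_eq_sum_of_support_subset (s := f.support)]
    · rfl
    · intro k hk
      rw [Function.mem_support] at hk
      exact Finsupp.mem_support_iff.mpr hk

end Groth.Agent.S18025
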