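import Groth.Statements.S18026
import Groth.Agent.Lib.Helper2.HensStrSch2

set_option autoImplicit false
universe u
open Hensel

namespace Groth.Agent.S18026

open AlgebraicGeometry CategoryTheory in
/-- Let `A` be a henselian discrete valuation ring and `f : T ⟶ Spec A` an étale surjective morphism of
schemes. Then some open subscheme `U` of `T` is finite over `Spec A` and still maps onto it; in
particular `U → Spec A` is a finite étale cover sitting inside `T` as an open subscheme (étaleness
of the restriction is automatic, and surjectivity records that `U` meets the closed fibre). (The
published statement asks for an open component of `T` finite étale over `Spec A`; when `T` is not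
separated — two copies of `Spec A` glued along the generic point — no open and closed subset of `T`
is finite over `Spec A`, while the published proof constructs an open subscheme, the spectrum of the
local ring of `T` at a point of the closed fibre; so this row asks only for an open subscheme.) -/
theorem result
    (A : Type u) [CommRing A] [IsDomain A] [IsDiscreteValuationRing A] [HenselianLocalRing A]
    (T : Scheme.{u}) (f : T ⟶ Spec (CommRingCat.of A)) [Etale f] [Surjective f] :
    ∃ U : T.Opens, IsFinite (U.ι ≫ f) ∧ Surjective (U.ι ≫ f) := by
  obtain ⟨x, hx⟩ := f.surjective (IsLocalRing.closedPoint A)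
  obtain ⟨hoi, hfin⟩ := Groth.Agent.Lib.helper2.HensStr.fromSpecStalk_of_etale f x hx
  haveI := hoi
  haveI := hfin
  have hsurj := Groth.Agent.Lib.helper2.HensStr.surjective_fromSpecStalk_comp f x hx
  have heq : (T.fromSpecStalk x).opensRange.ι ≫ f =
      (T.fromSpecStalk x).isoOpensRange.inv ≫ (T.fromSpecStalk x ≫ f) := by
    rw [← Category.assoc, Scheme.Hom.isoOpensRange_inv_comp]
  refine ⟨(T.fromSpecStalk x).opensRange, ?_, ?_⟩
  · rw [heq]; infer_instance
  · rw [heq]
    haveI := hsurj
    infer_instance

end Groth.Agent.S18026
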