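import Groth.Statements.S18040
import Mathlib

set_option autoImplicit false
universe u
open AdjLin

namespace Groth.Agent.S18040

section aux

lemma lemA {k : Type*} [Field k] [Infinite k] {ι : Type*} [Fintype ι] [DecidableEq ι]
    {E' : Type*} [AddCommGroup E'] [Module k E']
    (φ : ι → (E' →ₗ[k] k))
    (hCB : ∀ z₀ : ι, ∀ p : E', (∀ z, z ≠ z₀ → φ z p = 0) → φ z₀ p = 0) :
    ∃ lam : ι → k, (∀ z, lam z ≠ 0) ∧ ∀ p, ∑ z, lam z * φ z p = 0 := by
  let T : (ι → k) →ₗ[k] (E' →ₗ[k] k) := Fintype.linearCombination k φ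
  have hT : ∀ (l : ι → k) (p : E'), T l p = ∑ z, l z * φ z p := by
    intro l p
    simp [T, Fintype.linearCombination_apply, LinearMap.sum_apply]
  have hex : ∀ z₀ : ι, ∃ l ∈ LinearMap.ker T, l z₀ ≠ 0 := by
    intro z₀
    have hle : ⨅ z' : {z // z ≠ z₀}, LinearMap.ker (φ z'.1) ≤ LinearMap.ker (φ z₀) := by
      intro p hp
      rw [Submodule.mem_iInf] at hp
      rw [LinearMap.mem_ker]
      exact hCB z₀ p (fun z hz => LinearMap.mem_ker.mp (hp ⟨z, hz⟩))
    have hspan := mem_span_of_iInf_ker_le_ker hle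
    obtain ⟨c, hc⟩ := (Submodule.mem_span_range_iff_exists_fun k).mp hspan
    refine ⟨Pi.single z₀ 1 - ∑ z' : {z // z ≠ z₀}, c z' • Pi.single z'.1 1, ?_, ?_⟩
    · rw [LinearMap.mem_ker, map_sub, map_sum]
      simp only [map_smul, T, Fintype.linearCombination_apply_single, one_smul]
      rw [hc, sub_self]
    · simp only [Pi.sub_apply, Finset.sum_apply, Pi.smul_apply, Pi.single_eq_same, smul_eq_mul]
      have h0 : ∑ z' : {z // z ≠ z₀}, c z' * (Pi.single z'.1 (1:k) : ι → k) z₀ = 0 := by
        apply Finset.sum_eq_zero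
        intro z' _
        rw [Pi.single_eq_of_ne z'.2.symm, mul_zero]
      rw [h0, sub_zero]
      exact one_ne_zero
  by_contra hno
  push_neg at hno
  have hzero : ∀ l ∈ LinearMap.ker T, ∃ z, l z = 0 := by
    intro l hl
    by_contra h
    push_neg at h
    obtain ⟨p, hp⟩ := hno l h
    apply hp
    rw [← hT, LinearMap.mem_ker.mp hl, LinearMap.zero_apply]
  let q : ι → Subspace k (LinearMap.ker T) := fun z =>
    LinearMap.ker ((LinearMap.proj z : (ι → k) →ₗ[k] k) ∘ₗ (LinearMap.ker T).subtype)
  have hcov : ⋃ z, (q z : Set (LinearMap.ker T)) = Set.univ := by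
    ext l
    simp only [Set.mem_iUnion, SetLike.mem_coe, Set.mem_univ, iff_true]
    obtain ⟨z, hz⟩ := hzero l.1 l.2
    exact ⟨z, by simpa [q] using hz⟩
  obtain ⟨z, hz⟩ := Subspace.exists_eq_top_of_iUnion_eq_univ hcov
  obtain ⟨l, hl, hlz⟩ := hex z
  apply hlz
  have h1 : (⟨l, hl⟩ : LinearMap.ker T) ∈ q z := by rw [hz]; trivial
  simpa [q] using h1

lemma lemB {k : Type*} [Field k] {ι : Type*} [Fintype ι] [DecidableEq ι] (lam : ι → k)
    (hlam : ∀ z, lam z ≠ 0)
    (U W : Submodule k (ι → k)) (h : ∀ u ∈ U, ∀ w ∈ W, ∑ z, lam z * u z * w z = 0) :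
    Module.finrank k U + Module.finrank k W ≤ Fintype.card ι := by
  let D : (ι → k) →ₗ[k] (ι → k) := LinearMap.pi fun z => lam z • LinearMap.proj z
  let Ψ : (ι → k) →ₗ[k] Module.Dual k (ι → k) :=
    (Fintype.linearCombination k (fun z => (LinearMap.proj z : (ι → k) →ₗ[k] k))) ∘ₗ D
  have hΨ : ∀ v w, Ψ v w = ∑ z, lam z * v z * w z := by
    intro v w
    simp [Ψ, D, Fintype.linearCombination_apply, LinearMap.sum_apply]
  have hinj : Function.Injective Ψ := by
    rw [← LinearMap.ker_eq_bot, LinearMap.ker_eq_bot']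
    intro v hv
    ext z
    have h0 := congrArg (fun f => f (Pi.single z 1)) hv
    simp only [hΨ, LinearMap.zero_apply] at h0
    rw [Finset.sum_eq_single z] at h0
    · simpa [hlam z] using h0
    · intro z' _ hz'
      simp [Pi.single_eq_of_ne hz']
    · intro h
      exact absurd (Finset.mem_univ z) h
  have hle : U.map Ψ ≤ W.dualAnnihilator := by
    rintro _ ⟨u, hu, rfl⟩
    rw [Submodule.mem_dualAnnihilator]
    intro w hw
    rw [hΨ]
    exact h u hu w hw
  have h1 : Module.finrank k U = Module.finrank k (U.map Ψ) :=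
    (Submodule.equivMapOfInjective Ψ hinj U).finrank_eq
  have h2 : Module.finrank k (U.map Ψ) ≤ Module.finrank k W.dualAnnihilator :=
    Submodule.finrank_mono hle
  have h3 := Subspace.finrank_add_finrank_dualAnnihilator_eq W
  rw [Module.finrank_fintype_fun_eq_card] at h3
  omega

lemma main' (k : Type u) [Field k] [Infinite k]
    (Z : Finset (Projectivization k (Fin 4 → k))) (n : ℕ)
    (hCB : (∀ z ∈ Z, ∀ p : MvPolynomial (Fin 4) k, p.IsHomogeneous n →
      (∀ z' ∈ Z, z' ≠ z → MvPolynomial.eval z'.rep p = 0) → MvPolynomial.eval z.rep p = 0))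
    (m : ℕ) (hm : m ≤ n)
    (hinj : ∀ s : MvPolynomial (Fin 4) k, s.IsHomogeneous (n - m) →
      (∀ z ∈ Z, MvPolynomial.eval z.rep s = 0) → s = 0) :
    Module.finrank k (LinearMap.range
          ((LinearMap.pi fun z : ↥Z => (MvPolynomial.aeval (R := k) z.1.rep).toLinearMap) ∘ₗ
            (MvPolynomial.homogeneousSubmodule (Fin 4) k m).subtype)) +
        Module.finrank k ↥(MvPolynomial.homogeneousSubmodule (Fin 4) k (n - m)) ≤ Z.card := by
  classical
  let φ : ↥Z → (↥(MvPolynomial.homogeneousSubmodule (Fin 4) k n) →ₗ[k] k) := fun z =>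
    (MvPolynomial.aeval (R := k) z.1.rep).toLinearMap ∘ₗ
      (MvPolynomial.homogeneousSubmodule (Fin 4) k n).subtype
  have hφ : ∀ z p, φ z p = MvPolynomial.eval z.1.rep p.1 := fun z p => rfl
  obtain ⟨lam, hlam, hrel⟩ := lemA φ (by
    intro z₀ p hp
    rw [hφ]
    exact hCB z₀.1 z₀.2 p.1 p.2 (fun z' hz' hne => by
      have h0 := hp ⟨z', hz'⟩ (fun h => hne (congrArg Subtype.val h))
      rwa [hφ] at h0))
  have key := lemB lam hlam
    (LinearMap.range
      ((LinearMap.pi fun z : ↥Z => (MvPolynomial.aeval (R := k) z.1.rep).toLinearMap) ∘ₗ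
        (MvPolynomial.homogeneousSubmodule (Fin 4) k m).subtype))
    (LinearMap.range
      ((LinearMap.pi fun z : ↥Z => (MvPolynomial.aeval (R := k) z.1.rep).toLinearMap) ∘ₗ
        (MvPolynomial.homogeneousSubmodule (Fin 4) k (n - m)).subtype)) (by
    rintro _ ⟨p, rfl⟩ _ ⟨s, rfl⟩
    have hps : (p.1 * s.1) ∈ MvPolynomial.homogeneousSubmodule (Fin 4) k n := by
      have h0 := MvPolynomial.IsHomogeneous.mul p.2 s.2
      rwa [Nat.add_sub_cancel' hm] at h0
    have h0 := hrel ⟨p.1 * s.1, hps⟩
    calc ∑ z, lam z *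
          (((LinearMap.pi fun z : ↥Z => (MvPolynomial.aeval (R := k) z.1.rep).toLinearMap) ∘ₗ
            (MvPolynomial.homogeneousSubmodule (Fin 4) k m).subtype) p) z *
          (((LinearMap.pi fun z : ↥Z => (MvPolynomial.aeval (R := k) z.1.rep).toLinearMap) ∘ₗ
            (MvPolynomial.homogeneousSubmodule (Fin 4) k (n - m)).subtype) s) z
        = ∑ z, lam z * φ z ⟨p.1 * s.1, hps⟩ := Finset.sum_congr rfl (fun z _ => by
          show lam z * MvPolynomial.eval z.1.rep p.1 * MvPolynomial.eval z.1.rep s.1 =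
            lam z * MvPolynomial.eval z.1.rep (p.1 * s.1)
          rw [map_mul, mul_assoc])
      _ = 0 := h0)
  have hfr : Module.finrank k (LinearMap.range
      ((LinearMap.pi fun z : ↥Z => (MvPolynomial.aeval (R := k) z.1.rep).toLinearMap) ∘ₗ
        (MvPolynomial.homogeneousSubmodule (Fin 4) k (n - m)).subtype)) =
      Module.finrank k ↥(MvPolynomial.homogeneousSubmodule (Fin 4) k (n - m)) :=
    LinearMap.finrank_range_of_inj (by
      rw [← LinearMap.ker_eq_bot, LinearMap.ker_eq_bot']
      intro s hs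
      apply Subtype.ext
      apply hinj s.1 s.2
      intro z hz
      exact congrFun hs ⟨z, hz⟩)
  rw [hfr, Fintype.card_coe] at key
  exact key

end aux

/-- Let k be an algebraically closed field of characteristic zero and Z a finite set of points of
projective 3-space over k, realised as points of the projectivization of k⁴, a homogeneous form in
four variables being evaluated at the chosen representative of a point (its vanishing does not
depend on the choice). Suppose Z has the Cayley–Bacharach property in degree n: every form of degree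
n vanishing at all points of Z but one vanishes at that point as well. Then for every m ≤ n, either
there is a nonzero form of degree n − m vanishing at every point of Z, or the rank of the evaluation
map from forms of degree m to functions on Z is at most the number of points of Z minus the
dimension of the space of forms of degree n − m. -/
theorem result (k : Type u) [Field k] [IsAlgClosed k] [CharZero k]
    (Z : Finset (Projectivization k (Fin 4 → k))) (n : ℕ)
    (hCB : (∀ z ∈ Z, ∀ p : MvPolynomial (Fin 4) k, p.IsHomogeneous n →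
      (∀ z' ∈ Z, z' ≠ z → MvPolynomial.eval z'.rep p = 0) → MvPolynomial.eval z.rep p = 0))
    (m : ℕ) (hm : m ≤ n) :
    (∃ s : MvPolynomial (Fin 4) k, s.IsHomogeneous (n - m) ∧ s ≠ 0 ∧ ∀ z ∈ Z, MvPolynomial.eval z.rep s = 0) ∨
      Module.finrank k (LinearMap.range
          ((LinearMap.pi fun z : ↥Z => (MvPolynomial.aeval (R := k) z.1.rep).toLinearMap) ∘ₗ
            (MvPolynomial.homogeneousSubmodule (Fin 4) k m).subtype)) +
        Module.finrank k ↥(MvPolynomial.homogeneousSubmodule (Fin 4) k (n - m)) ≤ Z.card := by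
  classical
  by_cases hex : ∃ s : MvPolynomial (Fin 4) k, s.IsHomogeneous (n - m) ∧ s ≠ 0 ∧
      ∀ z ∈ Z, MvPolynomial.eval z.rep s = 0
  · exact Or.inl hex
  · right
    refine main' k Z n hCB m hm (fun s hs hz => ?_)
    by_contra hs0
    exact hex ⟨s, hs, hs0, hz⟩

end Groth.Agent.S18040
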