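import Groth.Statements.S18049
import Mathlib.Tactic.Linarith
import Mathlib.Tactic.NormNum

set_option autoImplicit false
open STCI

namespace Groth.Agent.S18049

/-- For natural numbers 0 < k < N such that k does not divide N, ⌊N/k⌋ ≤ (N - k)/gcd(k, N); stated here
in the equivalent cleared form ⌊N/k⌋ · gcd(k, N) ≤ N - k. -/
theorem result (k N : ℕ) (hk : 0 < k) (hkN : k < N) (hndvd : ¬ k ∣ N) :
    N / k * Nat.gcd k N ≤ N - k := by
  set g := Nat.gcd k N with hg
  have hgk : g ∣ k := Nat.gcd_dvd_left k N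
  have hgN : g ∣ N := Nat.gcd_dvd_right k N
  have hgpos : 0 < g := Nat.gcd_pos_of_pos_left N hk
  have hgne : g ≠ k := fun h => hndvd (h ▸ hgN)
  obtain ⟨a, ha⟩ := hgk
  have ha2 : 2 ≤ a := by
    rcases a with _ | _ | a
    · simp at ha; omega
    · simp at ha; exact absurd ha.symm hgne
    · omega
  have hr : N % k ≠ 0 := fun h => hndvd (Nat.dvd_of_mod_eq_zero h)
  have hgr : g ∣ N % k := (Nat.dvd_mod_iff ⟨a, ha⟩).mpr hgN
  have hgr' : g ≤ N % k := Nat.le_of_dvd (Nat.pos_of_ne_zero hr) hgr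
  have hq : 1 ≤ N / k := Nat.div_pos (Nat.le_of_lt hkN) hk
  have hN : k * (N / k) + N % k = N := Nat.div_add_mod N k
  obtain ⟨q', hq'⟩ : ∃ q', N / k = q' + 1 := ⟨N / k - 1, by omega⟩
  rw [hq'] at hN ⊢
  have h2 : 2 * g ≤ k := by rw [ha]; nlinarith
  have : (q' + 1) * g + k ≤ N := by nlinarith
  omega

end Groth.Agent.S18049
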