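import Groth.Statements.S18050
import Mathlib

set_option autoImplicit false
open STCI

namespace Groth.Agent.S18050

section Aux
open W4c5stcicurvesp3

lemma irem_shift (a b : ℕ) (h : a % b ≠ 0) : ∀ n, irem a b (n + 1) = irem b (a % b) n := by
  intro n
  induction n using Nat.strong_induction_on with
  | _ n ih =>
    match n with
    | 0 => rfl
    | 1 =>
      show (if irem a b 1 = 0 then 0 else irem a b 0 % irem a b 1) = b % (a % b)
      have : irem a b 1 = a % b := rfl
      rw [this, if_neg h]; rfl
    | (m + 2) =>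
      show (if irem a b (m + 2) = 0 then 0 else irem a b (m + 1) % irem a b (m + 2)) =
        (if irem b (a % b) (m + 1) = 0 then 0 else irem b (a % b) m % irem b (a % b) (m + 1))
      rw [ih (m + 1) (by omega), ih m (by omega)]

lemma idiv_shift (a b : ℕ) (h : a % b ≠ 0) : ∀ n, 0 < n → idiv a b (n + 1) = idiv b (a % b) n := by
  intro n hn
  match n with
  | 1 =>
    show (if irem a b 1 = 0 then 0 else irem a b 0 / irem a b 1) = b / (a % b)
    have : irem a b 1 = a % b := rfl
    rw [this, if_neg h]; rfl
  | (m + 2) =>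
    show (if irem a b (m + 2) = 0 then 0 else irem a b (m + 1) / irem a b (m + 2)) =
      (if irem b (a % b) (m + 1) = 0 then 0 else irem b (a % b) m / irem b (a % b) (m + 1))
    rw [irem_shift a b h (m + 1), irem_shift a b h m]

lemma key : ∀ (t : ℕ) (a b : ℕ), 0 < b → b ≤ a → 0 < t → irem a b t = 0 →
    (∀ i, 0 < i → i < t → irem a b i ≠ 0) →
    (∑ i ∈ Finset.Icc 1 t, idiv a b i) * Nat.gcd b a ≤ a := by
  intro t
  induction t with
  | zero => intro a b _ _ ht; omega
  | succ t ih =>
    intro a b hb hba _ hzero hmin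
    rcases Nat.eq_zero_or_pos t with ht0 | htpos
    · subst ht0
      have hdvd : a % b = 0 := hzero
      have hdvd' : b ∣ a := Nat.dvd_of_mod_eq_zero hdvd
      have hg : Nat.gcd b a = b := Nat.gcd_eq_left hdvd'
      have : (∑ i ∈ Finset.Icc 1 (0 + 1), idiv a b i) = a / b := by
        simp [idiv]
      rw [this, hg]
      exact Nat.div_mul_le_self a b
    · have h1 : a % b ≠ 0 := hmin 1 Nat.one_pos (by omega)
      have hb' : 0 < a % b := Nat.pos_of_ne_zero h1
      have hlt : a % b < b := Nat.mod_lt a hb
      have hz' : irem b (a % b) t = 0 := by rw [← irem_shift a b h1 t]; exact hzero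
      have hmin' : ∀ i, 0 < i → i < t → irem b (a % b) i ≠ 0 := by
        intro i hi hit
        rw [← irem_shift a b h1 i]
        exact hmin (i + 1) (by omega) (by omega)
      have IH := ih b (a % b) hb' hlt.le htpos hz' hmin'
      have hsum : (∑ i ∈ Finset.Icc 1 (t + 1), idiv a b i) =
          a / b + ∑ i ∈ Finset.Icc 1 t, idiv b (a % b) i := by
        rw [← Finset.sum_Ioc_add_eq_sum_Icc (Nat.le_add_left 1 t)]
        have e1 : idiv a b 1 = a / b := rfl
        rw [e1, add_comm]
        congr 1
        have : Finset.Ioc 1 (t + 1) = (Finset.Icc 1 t).map ⟨fun i => i + 1, add_left_injective 1⟩ := by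
          ext x
          simp only [Finset.mem_Ioc, Finset.mem_map, Finset.mem_Icc, Function.Embedding.coeFn_mk]
          constructor
          · intro hx; exact ⟨x - 1, by omega, by omega⟩
          · rintro ⟨y, hy, rfl⟩; omega
        rw [this, Finset.sum_map]
        refine Finset.sum_congr rfl fun i hi => ?_
        simp only [Function.Embedding.coeFn_mk]
        exact idiv_shift a b h1 i (by simp only [Finset.mem_Icc] at hi; omega)
      have hg : Nat.gcd b a = Nat.gcd (a % b) b := Nat.gcd_rec b a
      rw [hsum, hg]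
      set g := Nat.gcd (a % b) b with hgdef
      set S' := ∑ i ∈ Finset.Icc 1 t, idiv b (a % b) i
      have hgle : g ≤ a % b := Nat.le_of_dvd hb' (Nat.gcd_dvd_left _ _)
      have hq : 1 ≤ a / b := Nat.div_pos hba hb
      have hdecomp : a = a / b * b + a % b := (Nat.div_add_mod' a b).symm
      -- (a/b + S') g ≤ a
      have : (a / b + S') * g = a / b * g + S' * g := by ring
      rw [this]
      have h3 : a / b * g + b ≤ a / b * b + a % b := by
        have hgb : g ≤ b := hgle.trans hlt.le
        nlinarith [Nat.mul_le_mul hq (Nat.sub_le_sub_left hgle b), Nat.sub_add_cancel hgb,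
          Nat.sub_add_cancel hlt.le]
      omega

end Aux


open W4c5stcicurvesp3 in
/-- Let k ≤ N be positive integers, let t be the least positive integer with rem_t(N, k) = 0, where
rem_0 = k, rem_1 = N mod k and rem_i is the remainder of rem_{i-2} by rem_{i-1} (iterated Euclidean
remainders), and let d_i be the corresponding iterated quotients (d_1 = ⌊N/k⌋, d_i =
⌊rem_{i-2}/rem_{i-1}⌋). Then d_1 + ⋯ + d_t ≤ N/gcd(k, N); stated in the cleared form (d_1 + ⋯ + d_t)
· gcd(k, N) ≤ N. -/
theorem result (k N t : ℕ) (hk : 0 < k) (hkN : k ≤ N) (ht : 0 < t)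
    (hzero : irem N k t = 0) (hmin : ∀ i, 0 < i → i < t → irem N k i ≠ 0) :
    (∑ i ∈ Finset.Icc 1 t, idiv N k i) * Nat.gcd k N ≤ N := by
  exact key t N k hk hkN ht hzero hmin

end Groth.Agent.S18050
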