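import Groth.Statements.S18051
import Mathlib

set_option autoImplicit false
open STCI

namespace Groth.Agent.S18051

/-- the real inequality after the substitution d1 = 2 + a, d2 = 1 + b, r2 = c, r1 = c + e -/
lemma key_ineq (a b c e : ℚ) (ha : 0 ≤ a) (hb : 0 ≤ b) (hc : 0 < c) (he : 0 ≤ e) :
    (((1 + b) * (c + e) + c) - (c + e)) / (2 + a)
      + ((c + e) - c) / ((2 + a) + (1 + b))
      + c / ((2 + a) + (1 + b) + 1)
      ≤ ((1 + b) * (c + e) + c) ^ 2 / ((2 + a) * ((1 + b) * (c + e) + c) + (c + e)) := by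
  have h1 : 0 < 2 + a := by linarith
  have h2 : 0 < (2 + a) + (1 + b) := by linarith
  have h3 : 0 < (2 + a) + (1 + b) + 1 := by linarith
  have hk : 0 < (1 + b) * (c + e) + c := by positivity
  have hN : 0 < (2 + a) * ((1 + b) * (c + e) + c) + (c + e) := by positivity
  rw [div_add_div _ _ h1.ne' h2.ne', div_add_div _ _ (mul_pos h1 h2).ne' h3.ne',
    div_le_div_iff₀ (mul_pos (mul_pos h1 h2) h3) hN]
  have hnum : 0 ≤ ((1 + b) * (c + e) + c) ^ 2 * ((2 + a) * ((2 + a) + (1 + b)) * ((2 + a) + (1 + b) + 1))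
      - (((((1 + b) * (c + e) + c) - (c + e)) * ((2 + a) + (1 + b)) + (2 + a) * ((c + e) - c)) *
          ((2 + a) + (1 + b) + 1) + (2 + a) * ((2 + a) + (1 + b)) * c) *
        ((2 + a) * ((1 + b) * (c + e) + c) + (c + e)) := by
    ring_nf
    positivity
  linarith


open W4c5stcicurvesp3 in
/-- Let k ≤ N/2 be positive integers and let r_i = rem_i(N, k), d_i = div_i(N, k) be the iterated
Euclidean remainders and quotients of (N, k) (r_0 = k, r_1 = N mod k, r_2 = r_0 mod r_1, d_1 =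
⌊N/k⌋, d_2 = ⌊r_0/r_1⌋). If the least positive t with r_t = 0 satisfies t ≥ 3, i.e. r_1 ≠ 0 and r_2
≠ 0, then (r_0 - r_1)/d_1 + (r_1 - r_2)/(d_1 + d_2) + r_2/(d_1 + d_2 + 1) ≤ k²/N (in ℚ). -/
theorem result (k N : ℕ) (hk : 0 < k) (hkN : 2 * k ≤ N)
    (h1 : irem N k 1 ≠ 0) (h2 : irem N k 2 ≠ 0) :
    ((irem N k 0 : ℚ) - irem N k 1) / (idiv N k 1)
      + ((irem N k 1 : ℚ) - irem N k 2) / ((idiv N k 1 : ℚ) + idiv N k 2)
      + (irem N k 2 : ℚ) / ((idiv N k 1 : ℚ) + idiv N k 2 + 1)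
      ≤ (k : ℚ) ^ 2 / N := by
  have hr0 : irem N k 0 = k := rfl
  have hr1 : irem N k 1 = N % k := rfl
  have hd1 : idiv N k 1 = N / k := rfl
  have h1' : N % k ≠ 0 := h1
  have hr2 : irem N k 2 = k % (N % k) := by
    show (if irem N k 1 = 0 then 0 else irem N k 0 % irem N k 1) = k % (N % k)
    rw [if_neg h1]; rfl
  have hd2 : idiv N k 2 = k / (N % k) := by
    show (if irem N k 1 = 0 then 0 else irem N k 0 / irem N k 1) = k / (N % k)
    rw [if_neg h1]; rfl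
  have h2' : k % (N % k) ≠ 0 := by rw [← hr2]; exact h2
  rw [hr0, hr1, hr2, hd1, hd2]
  set d1 := N / k with hd1def
  set r1 := N % k with hr1def
  set d2 := k / r1 with hd2def
  set r2 := k % r1 with hr2def
  have hN : N = d1 * k + r1 := (Nat.div_add_mod' N k).symm
  have hkk : k = d2 * r1 + r2 := (Nat.div_add_mod' k r1).symm
  have hr1lt : r1 < k := Nat.mod_lt N hk
  have hr1pos : 0 < r1 := Nat.pos_of_ne_zero h1'
  have hr2lt : r2 < r1 := Nat.mod_lt k hr1pos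
  have hr2pos : 0 < r2 := Nat.pos_of_ne_zero h2'
  have hd1ge : 2 ≤ d1 := by
    rw [hd1def, Nat.le_div_iff_mul_le hk]; exact hkN
  have hd2ge : 1 ≤ d2 := by
    rw [hd2def, Nat.le_div_iff_mul_le hr1pos]; omega
  -- substitute
  obtain ⟨a, ha⟩ : ∃ a : ℕ, d1 = 2 + a := ⟨d1 - 2, by omega⟩
  obtain ⟨b, hb⟩ : ∃ b : ℕ, d2 = 1 + b := ⟨d2 - 1, by omega⟩
  obtain ⟨e, he⟩ : ∃ e : ℕ, r1 = r2 + e := ⟨r1 - r2, by omega⟩
  have hkQ : (k : ℚ) = (1 + (b : ℚ)) * ((r2 : ℚ) + e) + r2 := by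
    have : (k : ℚ) = (d2 : ℚ) * r1 + r2 := by exact_mod_cast hkk
    rw [this, hb, he]; push_cast; ring
  have hNQ : (N : ℚ) = (2 + (a : ℚ)) * ((1 + (b : ℚ)) * ((r2 : ℚ) + e) + r2) + ((r2 : ℚ) + e) := by
    have : (N : ℚ) = (d1 : ℚ) * k + r1 := by exact_mod_cast hN
    rw [this, hkQ, ha, he]; push_cast; ring
  have key := key_ineq (a : ℚ) (b : ℚ) (r2 : ℚ) (e : ℚ) (by positivity) (by positivity)
    (by exact_mod_cast hr2pos) (by positivity)
  rw [hNQ, hkQ, ha, hb, he]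
  push_cast
  exact key

end Groth.Agent.S18051
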