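import Groth.Statements.S18052
import Groth.Agent.S18051
import Mathlib

set_option autoImplicit false
open STCI

namespace Groth.Agent.S18052

section Aux
open W4c5stcicurvesp3

lemma irem_succ_le (a b : ℕ) (n : ℕ) : irem a b (n + 2) ≤ irem a b (n + 1) := by
  show (if irem a b (n + 1) = 0 then 0 else irem a b n % irem a b (n + 1)) ≤ irem a b (n + 1)
  split_ifs with h
  · exact Nat.zero_le _
  · exact (Nat.mod_lt _ (Nat.pos_of_ne_zero h)).le

lemma t2_ineq (a b c : ℚ) (ha : 0 ≤ a) (hb : 0 ≤ b) (hc : 0 < c) :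
    ((2 + b) * c - c) / (2 + a) + c / ((2 + a) + (2 + b)) ≤
      ((2 + b) * c) ^ 2 / ((2 + a) * ((2 + b) * c) + c) := by
  have h1 : 0 < 2 + a := by linarith
  have h2 : 0 < (2 + a) + (2 + b) := by linarith
  have hN : 0 < (2 + a) * ((2 + b) * c) + c := by positivity
  rw [div_add_div _ _ h1.ne' h2.ne', div_le_div_iff₀ (mul_pos h1 h2) hN]
  have hnum : 0 ≤ ((2 + b) * c) ^ 2 * ((2 + a) * ((2 + a) + (2 + b)))
      - (((2 + b) * c - c) * ((2 + a) + (2 + b)) + (2 + a) * c) * ((2 + a) * ((2 + b) * c) + c) := by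
    ring_nf
    positivity
  linarith

end Aux


open W4c5stcicurvesp3 in
/-- Let k ≤ N/2 be positive integers, let r_i = rem_i(N, k) and d_i = div_i(N, k) be the iterated
Euclidean remainders and quotients of (N, k) (r_0 = k, r_1 = N mod k, …; d_1 = ⌊N/k⌋, d_i =
⌊r_{i-2}/r_{i-1}⌋), and let t be the least positive integer with r_t = 0. Then the sum over i = 0,
…, t - 1 of (r_i - r_{i+1})/(d_1 + ⋯ + d_{i+1}) is at most k²/N (in ℚ). -/
theorem result (k N t : ℕ) (hk : 0 < k) (hkN : 2 * k ≤ N) (ht : 0 < t)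
    (hzero : irem N k t = 0) (hmin : ∀ i, 0 < i → i < t → irem N k i ≠ 0) :
    ∑ i ∈ Finset.range t, ((irem N k i : ℚ) - irem N k (i + 1)) / (∑ j ∈ Finset.Icc 1 (i + 1), (idiv N k j : ℚ))
      ≤ (k : ℚ) ^ 2 / N := by
  have hr0 : irem N k 0 = k := rfl
  have hr1 : irem N k 1 = N % k := rfl
  have hd1 : idiv N k 1 = N / k := rfl
  have hNdecomp : N = N / k * k + N % k := (Nat.div_add_mod' N k).symm
  have hd1ge : 2 ≤ N / k := by rw [Nat.le_div_iff_mul_le hk]; exact hkN
  have hD1 : (∑ j ∈ Finset.Icc 1 1, (idiv N k j : ℚ)) = (N / k : ℕ) := by simp [hd1]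
  have hD2 : (∑ j ∈ Finset.Icc 1 2, (idiv N k j : ℚ)) = (N / k : ℕ) + idiv N k 2 := by
    rw [Finset.sum_Icc_succ_top (by norm_num), hD1]
  match t, ht, hzero, hmin with
  | 1, _, hzero, _ =>
    have hz : N % k = 0 := hzero
    rw [Finset.sum_range_one]
    simp only [zero_add]
    rw [hD1, hr0, hr1, hz]
    have hNQ : (N : ℚ) = ((N / k : ℕ) : ℚ) * k := by
      have : N = N / k * k := by omega
      exact_mod_cast this
    have hkpos : (0 : ℚ) < k := by exact_mod_cast hk
    have hdpos : (0 : ℚ) < ((N / k : ℕ) : ℚ) := by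
      have : 0 < N / k := by omega
      exact_mod_cast this
    rw [hNQ, Nat.cast_zero, sub_zero, div_le_div_iff₀ hdpos (mul_pos hdpos hkpos)]
    nlinarith
  | 2, _, hzero, hmin =>
    have h1' : irem N k 1 ≠ 0 := hmin 1 Nat.one_pos (by norm_num)
    have h1 : N % k ≠ 0 := h1'
    have hr2 : irem N k 2 = k % (N % k) := by
      show (if irem N k 1 = 0 then 0 else irem N k 0 % irem N k 1) = k % (N % k)
      rw [if_neg h1']; rfl
    have hd2 : idiv N k 2 = k / (N % k) := by
      show (if irem N k 1 = 0 then 0 else irem N k 0 / irem N k 1) = k / (N % k)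
      rw [if_neg h1']; rfl
    have hz : k % (N % k) = 0 := by rw [← hr2]; exact hzero
    rw [Finset.sum_range_succ, Finset.sum_range_one]
    simp only [zero_add]
    rw [hD1, hD2, hr0, hr1, hzero, hd2]
    set d1 := N / k with hd1def
    set r1 := N % k with hr1def
    set d2 := k / r1 with hd2def
    have hr1pos : 0 < r1 := Nat.pos_of_ne_zero h1
    have hr1lt : r1 < k := Nat.mod_lt N hk
    have hkk : k = d2 * r1 := by
      have := (Nat.div_add_mod' k r1).symm
      rw [hz, add_zero] at this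
      exact this
    have hd2ge : 2 ≤ d2 := by
      by_contra hlt
      have : d2 ≤ 1 := by omega
      have : k ≤ r1 := by
        calc k = d2 * r1 := hkk
          _ ≤ 1 * r1 := Nat.mul_le_mul_right _ this
          _ = r1 := one_mul _
      omega
    obtain ⟨a, ha⟩ : ∃ a : ℕ, d1 = 2 + a := ⟨d1 - 2, by omega⟩
    obtain ⟨b, hb⟩ : ∃ b : ℕ, d2 = 2 + b := ⟨d2 - 2, by omega⟩
    have hkQ : (k : ℚ) = (2 + (b : ℚ)) * r1 := by
      have : (k : ℚ) = (d2 : ℚ) * r1 := by exact_mod_cast hkk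
      rw [this, hb]; push_cast; ring
    have hNQ : (N : ℚ) = (2 + (a : ℚ)) * ((2 + (b : ℚ)) * r1) + r1 := by
      have : (N : ℚ) = (d1 : ℚ) * k + r1 := by exact_mod_cast hNdecomp
      rw [this, hkQ, ha]; push_cast; ring
    have key := t2_ineq (a : ℚ) (b : ℚ) (r1 : ℚ) (by positivity) (by positivity)
      (by exact_mod_cast hr1pos)
    rw [hNQ, hkQ, ha, hb]
    push_cast
    rw [sub_zero]
    exact key
  | (m + 3), _, hzero, hmin =>
    have h1 : irem N k 1 ≠ 0 := hmin 1 Nat.one_pos (by omega)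
    have h2 : irem N k 2 ≠ 0 := hmin 2 (by norm_num) (by omega)
    have h3step := Groth.Agent.S18051.result k N hk hkN h1 h2
    refine le_trans ?_ h3step
    -- peel off the first two terms
    rw [Finset.sum_range_succ', Finset.sum_range_succ']
    simp only [zero_add]
    rw [hD1, hD2]
    -- d_3 ≥ 1
    have hd3 : 1 ≤ idiv N k 3 := by
      show 1 ≤ (if irem N k 2 = 0 then 0 else irem N k 1 / irem N k 2)
      rw [if_neg h2]
      exact Nat.div_pos (irem_succ_le N k 0) (Nat.pos_of_ne_zero h2)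
    have hden : ∀ i : ℕ, ((N / k : ℕ) : ℚ) + idiv N k 2 + 1 ≤
        ∑ j ∈ Finset.Icc 1 (i + 1 + 1 + 1), (idiv N k j : ℚ) := by
      intro i
      have hsub : Finset.Icc 1 3 ⊆ Finset.Icc 1 (i + 1 + 1 + 1) :=
        Finset.Icc_subset_Icc_right (by omega)
      have h3 : (∑ j ∈ Finset.Icc 1 3, (idiv N k j : ℚ)) =
          ((N / k : ℕ) : ℚ) + idiv N k 2 + idiv N k 3 := by
        rw [Finset.sum_Icc_succ_top (by norm_num), hD2]
      calc ((N / k : ℕ) : ℚ) + idiv N k 2 + 1 ≤ ((N / k : ℕ) : ℚ) + idiv N k 2 + idiv N k 3 := by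
            have : (1 : ℚ) ≤ idiv N k 3 := by exact_mod_cast hd3
            linarith
        _ = ∑ j ∈ Finset.Icc 1 3, (idiv N k j : ℚ) := h3.symm
        _ ≤ _ := Finset.sum_le_sum_of_subset_of_nonneg hsub (fun _ _ _ => by positivity)
    have hcpos : (0 : ℚ) < ((N / k : ℕ) : ℚ) + idiv N k 2 + 1 := by positivity
    have hbound : (∑ i ∈ Finset.range (m + 1),
        ((irem N k (i + 1 + 1) : ℚ) - irem N k (i + 1 + 1 + 1)) /
          (∑ j ∈ Finset.Icc 1 (i + 1 + 1 + 1), (idiv N k j : ℚ))) ≤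
        (irem N k 2 : ℚ) / (((N / k : ℕ) : ℚ) + idiv N k 2 + 1) := by
      calc _ ≤ ∑ i ∈ Finset.range (m + 1),
            ((irem N k (i + 1 + 1) : ℚ) - irem N k (i + 1 + 1 + 1)) /
              (((N / k : ℕ) : ℚ) + idiv N k 2 + 1) := by
            refine Finset.sum_le_sum fun i _ => ?_
            have hnn : (0 : ℚ) ≤ (irem N k (i + 1 + 1) : ℚ) - irem N k (i + 1 + 1 + 1) := by
              have := irem_succ_le N k (i + 1)
              have : (irem N k (i + 1 + 1 + 1) : ℚ) ≤ irem N k (i + 1 + 1) := by exact_mod_cast this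
              linarith
            exact div_le_div_of_nonneg_left hnn hcpos (hden i)
        _ = (∑ i ∈ Finset.range (m + 1),
            ((irem N k (i + 1 + 1) : ℚ) - irem N k (i + 1 + 1 + 1))) /
              (((N / k : ℕ) : ℚ) + idiv N k 2 + 1) := by rw [Finset.sum_div]
        _ = _ := by
            rw [Finset.sum_range_sub' (fun i => (irem N k (i + 1 + 1) : ℚ))]
            simp only [zero_add]
            have : irem N k (m + 1 + 1 + 1) = 0 := hzero
            rw [this, Nat.cast_zero, sub_zero]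
    rw [hd1]
    linarith

end Groth.Agent.S18052
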