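import Groth.Statements.S18053
import Mathlib

set_option autoImplicit false
open STCI

namespace Groth.Agent.S18053

/-- Let (p_k)_{k ≥ 1} be a sequence of nonnegative integers and n a nonnegative integer such that (i)
p_1 ≤ 9 - (2/5)n, (ii) p_1 ≥ p_2 ≥ p_3 ≥ ⋯, (iii) Σ_k p_k ≤ 19 - n, and (iv) n/4 + Σ_{k ≥ 1}
p_k/(k(k+1)) ≥ 6. Then n = 0 and (p_k) is one of (9, 8, 2), (9, 9), (9, 9, 1) (followed by zeros).
Here the sequence is indexed from 0 (so p 0 is p_1 and the weight of p k is 1/((k+1)(k+2))), (iii)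
is stated for every partial sum, and the series in (iv) is the real sum Σ' over all k. -/
theorem result (p : ℕ → ℕ) (n : ℕ)
    (h1 : (p 0 : ℝ) ≤ 9 - (2 / 5 : ℝ) * n) (h2 : Antitone p)
    (h3 : ∀ m : ℕ, ((∑ k ∈ Finset.range m, p k : ℕ) : ℝ) ≤ 19 - (n : ℝ))
    (h4 : (6 : ℝ) ≤ (n : ℝ) / 4 + ∑' k : ℕ, (p k : ℝ) / (((k : ℝ) + 1) * ((k : ℝ) + 2))) :
    n = 0 ∧ (p = (fun k => if k = 0 then 9 else if k = 1 then 8 else if k = 2 then 2 else 0)
      ∨ p = (fun k => if k = 0 then 9 else if k = 1 then 9 else 0)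
      ∨ p = (fun k => if k = 0 then 9 else if k = 1 then 9 else if k = 2 then 1 else 0)) := by
  classical
  -- n ≤ 19
  have hn19 : n ≤ 19 := by
    have := h3 0
    simp only [Finset.range_zero, Finset.sum_empty, Nat.cast_zero] at this
    have : (n : ℝ) ≤ 19 := by linarith
    exact_mod_cast this
  -- p vanishes from 19 on
  have hzero : ∀ k, 19 ≤ k → p k = 0 := by
    intro k hk
    by_contra hne
    have hpos : 1 ≤ p k := Nat.one_le_iff_ne_zero.mpr hne
    have hall : ∀ j ∈ Finset.range 20, 1 ≤ p j := fun j hj =>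
      hpos.trans (h2 (by have := Finset.mem_range.mp hj; omega))
    have hsum : 20 ≤ ∑ j ∈ Finset.range 20, p j := by
      calc 20 = ∑ j ∈ Finset.range 20, 1 := by simp
        _ ≤ _ := Finset.sum_le_sum hall
    have := h3 20
    have h20 : ((∑ j ∈ Finset.range 20, p j : ℕ) : ℝ) ≥ 20 := by exact_mod_cast hsum
    have hn0 : (0 : ℝ) ≤ n := Nat.cast_nonneg n
    linarith
  -- the series is a finite sum
  have htsum : (∑' k : ℕ, (p k : ℝ) / (((k : ℝ) + 1) * ((k : ℝ) + 2))) =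
      ∑ k ∈ Finset.range 19, (p k : ℝ) / (((k : ℝ) + 1) * ((k : ℝ) + 2)) := by
    refine tsum_eq_sum (fun k hk => ?_)
    have : 19 ≤ k := by
      by_contra hlt
      exact hk (Finset.mem_range.mpr (by omega))
    rw [hzero k this]; simp
  rw [htsum] at h4
  -- split
  set r : ℕ := ∑ k ∈ Finset.Ico 3 19, p k with hr
  have hsplit : ∀ f : ℕ → ℝ, (∑ k ∈ Finset.range 19, f k) = f 0 + f 1 + f 2 + ∑ k ∈ Finset.Ico 3 19, f k := by
    intro f
    rw [Finset.range_eq_Ico, ← Finset.sum_Ico_consecutive f (by norm_num : 0 ≤ 3) (by norm_num : 3 ≤ 19)]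
    congr 1
    simp [Finset.sum_range_succ]
  have htail : (∑ k ∈ Finset.Ico 3 19, (p k : ℝ) / (((k : ℝ) + 1) * ((k : ℝ) + 2))) ≤ (r : ℝ) / 20 := by
    rw [hr]
    push_cast
    rw [Finset.sum_div]
    refine Finset.sum_le_sum fun k hk => ?_
    have hk3 : (3 : ℝ) ≤ k := by
      have := (Finset.mem_Ico.mp hk).1
      exact_mod_cast this
    have hpk : (0 : ℝ) ≤ p k := Nat.cast_nonneg _
    apply div_le_div_of_nonneg_left hpk (by norm_num)
    nlinarith
  rw [hsplit] at h4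
  -- constraints
  have hsumnat := h3 19
  have hsum' : ((p 0 + p 1 + p 2 + r : ℕ) : ℝ) ≤ 19 - n := by
    have : (∑ k ∈ Finset.range 19, p k) = p 0 + p 1 + p 2 + r := by
      have := hsplit (fun k => (p k : ℝ))
      have h' : ((∑ k ∈ Finset.range 19, p k : ℕ) : ℝ) = ((p 0 + p 1 + p 2 + r : ℕ) : ℝ) := by
        push_cast; rw [this, hr]; push_cast; ring
      exact_mod_cast h'
    rw [← this]; exact hsumnat
  have hb : p 1 ≤ p 0 := h2 (by norm_num)
  have hc : p 2 ≤ p 1 := h2 (by norm_num)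
  have hrc : r ≤ 16 * p 2 := by
    rw [hr]
    calc ∑ k ∈ Finset.Ico 3 19, p k ≤ ∑ k ∈ Finset.Ico 3 19, p 2 :=
          Finset.sum_le_sum fun k hk => h2 (by have := (Finset.mem_Ico.mp hk).1; omega)
      _ = 16 * p 2 := by simp
  -- move to integers
  have e1 : 5 * p 0 + 2 * n ≤ 45 := by
    have : (5 * p 0 + 2 * n : ℝ) ≤ 45 := by linarith
    exact_mod_cast this
  have e2 : p 0 + p 1 + p 2 + r + n ≤ 19 := by
    have : ((p 0 + p 1 + p 2 + r + n : ℕ) : ℝ) ≤ 19 := by push_cast at hsum' ⊢; linarith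
    exact_mod_cast this
  have e3 : 360 ≤ 15 * n + 30 * p 0 + 10 * p 1 + 5 * p 2 + 3 * r := by
    have : (360 : ℝ) ≤ 15 * n + 30 * p 0 + 10 * p 1 + 5 * p 2 + 3 * r := by
      norm_num at h4
      linarith
    exact_mod_cast this
  -- the finite problem
  have hfin : n = 0 ∧ r = 0 ∧ ((p 0 = 9 ∧ p 1 = 8 ∧ p 2 = 2) ∨ (p 0 = 9 ∧ p 1 = 9 ∧ p 2 = 0) ∨
      (p 0 = 9 ∧ p 1 = 9 ∧ p 2 = 1)) := by
    have ha9 : p 0 ≤ 9 := by omega
    generalize p 0 = a at *
    generalize p 1 = b at *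
    generalize p 2 = c at *
    clear_value r
    interval_cases n <;> interval_cases a <;> omega
  obtain ⟨hn0, hr0, hcases⟩ := hfin
  refine ⟨hn0, ?_⟩
  have hrest : ∀ k, 3 ≤ k → p k = 0 := by
    intro k hk
    by_cases hk19 : 19 ≤ k
    · exact hzero k hk19
    · have : k ∈ Finset.Ico 3 19 := Finset.mem_Ico.mpr ⟨hk, by omega⟩
      have := (Finset.sum_eq_zero_iff.mp (hr ▸ hr0 : ∑ k ∈ Finset.Ico 3 19, p k = 0)) k this
      exact this
  have hfun : ∀ a b c : ℕ, p 0 = a → p 1 = b → p 2 = c →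
      p = (fun k => if k = 0 then a else if k = 1 then b else if k = 2 then c else 0) := by
    intro a b c ha hb hc
    funext k
    rcases (by omega : k = 0 ∨ k = 1 ∨ k = 2 ∨ 3 ≤ k) with h | h | h | h
    · subst h; simpa using ha
    · subst h; simpa using hb
    · subst h; simpa using hc
    · rw [hrest k h]
      have h0 : k ≠ 0 := by omega
      have h1 : k ≠ 1 := by omega
      have h2 : k ≠ 2 := by omega
      simp [h0, h1, h2]
  rcases hcases with ⟨ha, hb, hc⟩ | ⟨ha, hb, hc⟩ | ⟨ha, hb, hc⟩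
  · left; exact hfun 9 8 2 ha hb hc
  · right; left
    rw [hfun 9 9 0 ha hb hc]
    funext k
    by_cases h0 : k = 0 <;> by_cases h1 : k = 1 <;> simp [h0, h1]
  · right; right; exact hfun 9 9 1 ha hb hc

end Groth.Agent.S18053
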