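import Groth.Statements.S18054
import Mathlib

set_option autoImplicit false
open STCI

namespace Groth.Agent.S18054

/-- Let s, t, d, g be integers with t ≥ s ≥ 4, d ≥ 1, g ≥ 0 and d dividing st; put n = st/d and assume n
≥ 2; put r = d[n(s - 4) + t] + (2 - 2g)n and assume r ≤ (s/3)(2s² - 6s + 7) - 1. Then d ≤ g + 3.
(The bound is written cleared of the denominator 3; s(2s² - 6s + 7) is always divisible by 3, so
this is the same condition.) -/
theorem result (s t d g n : ℤ) (hs : 4 ≤ s) (hst : s ≤ t) (hd : 1 ≤ d) (hg : 0 ≤ g)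
    (hn : s * t = d * n) (hn2 : 2 ≤ n)
    (hr : 3 * (d * (n * (s - 4) + t) + (2 - 2 * g) * n) ≤ s * (2 * s ^ 2 - 6 * s + 7) - 3) :
    d ≤ g + 3 := by
  by_contra hcon
  push Not at hcon
  have hd4 : g + 4 ≤ d := by omega
  have hdpos : 0 < d := by omega
  have hnpos : 0 < n := by omega
  -- (K): 3 (s t (s - 6) + d t + 10 n) ≤ RHS
  have hK : 3 * (s * t * (s - 6) + d * t + 10 * n) ≤ s * (2 * s ^ 2 - 6 * s + 7) - 3 := by
    have h1 : 0 ≤ (d - 4 - g) * n := mul_nonneg (by omega) hnpos.le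
    have h2 : d * (n * (s - 4) + t) = s * t * (s - 4) + d * t := by
      have : d * n * (s - 4) = s * t * (s - 4) := by rw [← hn]
      nlinarith
    nlinarith
  -- multiply by d and use n d = s t
  set W := s * (s - 6) * d + d ^ 2 + 10 * s with hW
  have hKd : 3 * (t * W) ≤ (s * (2 * s ^ 2 - 6 * s + 7) - 3) * d := by
    have h1 := mul_le_mul_of_nonneg_right hK hdpos.le
    have h2 : 3 * (s * t * (s - 6) + d * t + 10 * n) * d = 3 * (t * W) := by
      rw [hW]
      have : n * d = s * t := by rw [hn]; ring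
      nlinarith
    rw [h2] at h1
    exact h1
  have hWpos : 0 < W := by
    rw [hW]
    rcases (by omega : s = 4 ∨ s = 5 ∨ 6 ≤ s) with h | h | h
    · subst h; nlinarith [sq_nonneg (d - 4)]
    · subst h; nlinarith [sq_nonneg (2 * d - 5)]
    · have : 0 ≤ s * (s - 6) * d := mul_nonneg (mul_nonneg (by omega) (by omega)) hdpos.le
      nlinarith [sq_nonneg d]
  have hsW : 3 * (s * W) ≤ (s * (2 * s ^ 2 - 6 * s + 7) - 3) * d := by
    have : 0 ≤ (t - s) * W := mul_nonneg (by omega) hWpos.le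
    nlinarith
  -- the quadratic in d
  have hquad : 3 * s * d ^ 2 + (s ^ 3 - 12 * s ^ 2 - 7 * s + 3) * d + 30 * s ^ 2 ≤ 0 := by
    rw [hW] at hsW
    nlinarith
  rcases (by omega : s = 4 ∨ (5 ≤ s ∧ s ≤ 12) ∨ 13 ≤ s) with h | ⟨h5, h12⟩ | h
  · -- s = 4: integrality
    subst h
    have hW4 : W = d ^ 2 - 8 * d + 40 := by rw [hW]; ring
    rw [hW4] at hKd
    have htd : t * (d ^ 2 - 8 * d + 40) ≤ 19 * d := by nlinarith
    have hpos4 : 0 < d ^ 2 - 8 * d + 40 := by nlinarith [sq_nonneg (d - 4)]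
    have h4d : 4 * (d ^ 2 - 8 * d + 40) ≤ 19 * d := by
      have : 0 ≤ (t - 4) * (d ^ 2 - 8 * d + 40) := mul_nonneg (by omega) hpos4.le
      nlinarith
    have hd6 : 6 ≤ d := by nlinarith
    have hd7 : d ≤ 7 := by nlinarith
    interval_cases d
    · have ht4 : t ≤ 4 := by nlinarith
      have : t = 4 := by omega
      subst this
      omega
    · have ht4 : t ≤ 4 := by nlinarith
      have : t = 4 := by omega
      subst this
      omega
  · interval_cases s
    · nlinarith [sq_nonneg (30 * d - 207)]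
    · nlinarith [sq_nonneg (36 * d - 255)]
    · nlinarith [sq_nonneg (42 * d - 291)]
    · nlinarith [sq_nonneg (48 * d - 309)]
    · nlinarith [sq_nonneg (54 * d - 303)]
    · nlinarith [sq_nonneg (60 * d - 267)]
    · nlinarith [sq_nonneg (66 * d - 195)]
    · nlinarith [sq_nonneg (72 * d - 81)]
  · have h1 : 0 < s ^ 3 - 12 * s ^ 2 - 7 * s + 3 := by nlinarith [mul_pos (by omega : (0:ℤ) < s) (by omega : (0:ℤ) < s)]
    have h2 : 0 < (s ^ 3 - 12 * s ^ 2 - 7 * s + 3) * d := mul_pos h1 hdpos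
    have h3 : 0 ≤ 3 * s * d ^ 2 := by positivity
    nlinarith [sq_nonneg s]

end Groth.Agent.S18054
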