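import Groth.Statements.S18055
import Mathlib.Tactic.Linarith
import Mathlib.Tactic.Positivity
import Mathlib.Tactic.LinearCombination

set_option autoImplicit false
open STCI

namespace Groth.Agent.S18055

/-- Let d ≥ 1, g ≥ 0 and 1 ≤ s ≤ t be integers with d dividing st, put n = st/d and r = d[n(s - 4) + t]
+ (2 - 2g)n, and assume n ≥ 2, r > 0 and (n - 1) divides r. Then s < 2d² and t < 2d⁴. This is the
statement about the degree data (d, g the degree and genus of the curve, s ≤ t the degrees of the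
two surfaces) to which the published proof reduces the degree bound: there the divisibility and
positivity express that r/(n - 1), the common value of the type numbers of the pair, is a positive
integer; the geometric hypotheses themselves are not part of this row. -/
theorem result (d g s t n : ℤ) (hd : 1 ≤ d) (hg : 0 ≤ g) (hs : 1 ≤ s) (hst : s ≤ t)
    (hn : s * t = d * n) (hn2 : 2 ≤ n)
    (hpos : 0 < d * (n * (s - 4) + t) + (2 - 2 * g) * n)
    (hdvd : (n - 1) ∣ d * (n * (s - 4) + t) + (2 - 2 * g) * n) :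
    s < 2 * d ^ 2 ∧ t < 2 * d ^ 4 := by
  -- `D = d (s + t - 4) + 2 - 2 g`, and `r = n D - (n - 1) d t`
  obtain ⟨D, hD⟩ : ∃ D : ℤ, D = d * (s + t - 4) + 2 - 2 * g := ⟨_, rfl⟩
  have hr : d * (n * (s - 4) + t) + (2 - 2 * g) * n = n * D - (n - 1) * (d * t) := by
    rw [hD]; ring
  rw [hr] at hpos hdvd
  have hdvdD : (n - 1) ∣ D := by
    have h1 : (n - 1) ∣ (n - 1) * (D - d * t) := ⟨D - d * t, rfl⟩
    have h2 : D = (n * D - (n - 1) * (d * t)) - (n - 1) * (D - d * t) := by ring
    rw [h2]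
    exact dvd_sub hdvd h1
  obtain ⟨k, hk⟩ := hdvdD
  have hn1 : 0 < n - 1 := by linarith
  have hn0 : 0 < n := by linarith
  have hdt : 1 ≤ d * t := by nlinarith
  -- positivity of `r` gives `n k > d t`
  have hnk : 0 < n * k - d * t := by
    have h1 : n * D - (n - 1) * (d * t) = (n - 1) * (n * k - d * t) := by rw [hk]; ring
    rw [h1] at hpos
    by_contra hcon
    have h2 : n * k - d * t ≤ 0 := by linarith
    have h3 : (n - 1) * (n * k - d * t) ≤ 0 := by nlinarith
    linarith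
  have hk1 : 1 ≤ k := by
    by_contra hcon
    have hk0 : k ≤ 0 := by linarith
    have : n * k ≤ 0 := by nlinarith
    linarith
  -- `m = s k - d ^ 2 ≥ 1`
  have hm : 1 ≤ s * k - d ^ 2 := by
    have h1 : n * (s * k - d ^ 2) = s * (n * k - d * t) := by
      have : d ^ 2 * n = d * (s * t) := by rw [hn]; ring
      linear_combination (-1 : ℤ) * this
    have h2 : 0 < n * (s * k - d ^ 2) := by
      rw [h1]; exact mul_pos (by linarith) hnk
    have h3 : 0 < s * k - d ^ 2 := by
      by_contra hcon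
      have : s * k - d ^ 2 ≤ 0 := by linarith
      have : n * (s * k - d ^ 2) ≤ 0 := by nlinarith
      linarith
    linarith
  -- the key inequality
  have hstar : t * (s * k - d ^ 2) ≤ d ^ 2 * s + k * d - 4 * d ^ 2 + 2 * d := by
    have h1 : (n - 1) * k ≤ d * (s + t - 4) + 2 := by rw [← hk, hD]; linarith
    have h2 : d * ((n - 1) * k) ≤ d * (d * (s + t - 4) + 2) :=
      mul_le_mul_of_nonneg_left h1 (by linarith)
    have h3 : d * ((n - 1) * k) = s * t * k - d * k := by rw [hn]; ring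
    rw [h3] at h2
    linarith [h2]
  have hs2 : s < 2 * d ^ 2 := by
    by_contra hcon
    have hs' : 2 * d ^ 2 ≤ s := by linarith
    have hmnn : 0 ≤ s * k - d ^ 2 := by linarith
    have h1 : s * (s * k - d ^ 2) ≤ t * (s * k - d ^ 2) := mul_le_mul_of_nonneg_right hst hmnn
    have h2 : s * s * k ≤ 2 * d ^ 2 * s + k * d - 4 * d ^ 2 + 2 * d := by nlinarith
    have h3 : 2 * d ^ 2 * (s * k) ≤ s * (s * k) :=
      mul_le_mul_of_nonneg_right hs' (by nlinarith)
    have h4 : 2 * d ^ 2 * s * (k - 1) ≤ k * d - 4 * d ^ 2 + 2 * d := by nlinarith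
    have hd2 : d ≤ d ^ 2 := by nlinarith
    rcases eq_or_lt_of_le hk1 with hk' | hk'
    · rw [← hk'] at h4
      nlinarith
    · have hk2 : 2 ≤ k := by linarith
      have h5 : 2 * d ^ 2 * (2 * d ^ 2) * (k - 1) ≤ 2 * d ^ 2 * s * (k - 1) := by
        have : 2 * d ^ 2 * (2 * d ^ 2) ≤ 2 * d ^ 2 * s :=
          mul_le_mul_of_nonneg_left hs' (by positivity)
        exact mul_le_mul_of_nonneg_right this (by linarith)
      have h6 : 4 * d * (k - 1) ≤ 2 * d ^ 2 * (2 * d ^ 2) * (k - 1) := by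
        have : 4 * d ≤ 2 * d ^ 2 * (2 * d ^ 2) := by nlinarith
        exact mul_le_mul_of_nonneg_right this (by linarith)
      nlinarith
  refine ⟨hs2, ?_⟩
  by_contra hcon
  have ht' : 2 * d ^ 4 ≤ t := by linarith
  have hmnn : 0 ≤ s * k - d ^ 2 := by linarith
  -- multiply the key inequality by `s`
  have h1 : s * (t * (s * k - d ^ 2)) ≤ s * (d ^ 2 * s + k * d - 4 * d ^ 2 + 2 * d) :=
    mul_le_mul_of_nonneg_left hstar (by linarith)
  have h2 : 2 * d ^ 4 * (s * (s * k - d ^ 2)) ≤ t * (s * (s * k - d ^ 2)) :=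
    mul_le_mul_of_nonneg_right ht' (by nlinarith)
  have h3 : (s * k - d ^ 2) * (2 * d ^ 4 * s - d) ≤
      d ^ 2 * s ^ 2 + d ^ 3 - 4 * d ^ 2 * s + 2 * d * s := by nlinarith
  have h4 : 0 < 2 * d ^ 4 * s - d := by
    have : d ≤ d ^ 4 := by nlinarith [sq_nonneg (d ^ 2 - 1), sq_nonneg (d - 1)]
    nlinarith
  have h5 : 2 * d ^ 4 * s - d ≤ d ^ 2 * s ^ 2 + d ^ 3 - 4 * d ^ 2 * s + 2 * d * s := by
    nlinarith
  have h6 : 0 ≤ (s - 1) * (2 * d ^ 2 - 1 - s) := mul_nonneg (by linarith) (by linarith)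
  have h7 : d ^ 2 * s ^ 2 ≤ 2 * d ^ 4 * s - 2 * d ^ 4 + d ^ 2 := by nlinarith
  have h8 : (4 * d ^ 2 - 2 * d) * 1 ≤ (4 * d ^ 2 - 2 * d) * s :=
    mul_le_mul_of_nonneg_left hs (by nlinarith)
  nlinarith [sq_nonneg d, sq_nonneg (d - 1), pow_pos (by linarith : (0 : ℤ) < d) 3]

end Groth.Agent.S18055
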