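import Groth.Statements.S18057
import Mathlib
import Groth.Agent.Lib.Helper17.StalkSmooth
import Groth.Agent.Lib.Helper17.ArtinLength

set_option autoImplicit false
set_option linter.style.haveILetI false
universe u
open STCI

namespace Groth.Agent.S18057

open AlgebraicGeometry CategoryTheory

/-- In an irreducible scheme the only generization of the generic point is itself. -/
lemma eq_genericPoint_of_specializes {X : Scheme.{u}} [IrreducibleSpace ↥X] {y : X}
    (h : y ⤳ genericPoint X) : y = genericPoint X :=
  (h.antisymm (genericPoint_specializes y)).eq

/-- The local ring at the generic point of an irreducible locally Noetherian scheme is Artinian. -/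
lemma isArtinianRing_stalk_genericPoint (X : Scheme.{u}) [IrreducibleSpace ↥X]
    [IsLocallyNoetherian X] : IsArtinianRing (X.presheaf.stalk (genericPoint X)) := by
  rw [isArtinianRing_iff_isNoetherianRing_krullDimLE_zero]
  refine ⟨inferInstance, ?_⟩
  rw [Ring.krullDimLE_zero_iff]
  intro I hI
  have key : ∀ p : Spec (X.presheaf.stalk (genericPoint X)),
      p = IsLocalRing.closedPoint (X.presheaf.stalk (genericPoint X)) := by
    intro p
    have hp : (X.fromSpecStalk (genericPoint X)) p ⤳ genericPoint X := by
      have : (X.fromSpecStalk (genericPoint X)) p ∈
          Set.range (X.fromSpecStalk (genericPoint X)) := ⟨p, rfl⟩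
      rw [Scheme.range_fromSpecStalk] at this
      exact this
    have h1 := eq_genericPoint_of_specializes hp
    have h2 : (X.fromSpecStalk (genericPoint X))
        (IsLocalRing.closedPoint (X.presheaf.stalk (genericPoint X))) = genericPoint X :=
      Scheme.fromSpecStalk_closedPoint
    exact (X.fromSpecStalk (genericPoint X)).isEmbedding.injective (h1.trans h2.symm)
  have := key ⟨I, hI⟩
  have h3 : I = IsLocalRing.maximalIdeal (X.presheaf.stalk (genericPoint X)) :=
    congrArg PrimeSpectrum.asIdeal this
  rw [h3]
  infer_instance

open AlgebraicGeometry CategoryTheory in
/-- For a morphism f : X' → X between irreducible Noetherian schemes that is flat and formally smooth,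
with X defined over a field (rendered: the ring of global sections of X contains a subring that is a
field, which for nonempty X is the same as giving a morphism from X to the spectrum of a field), the
local rings of X' and X at their generic points η', η (Artinian local rings) satisfy length
O_{X',η'} = length O_{X,η}. Formal smoothness is the infinitesimal lifting property against
square-zero thickenings of affine schemes. -/
theorem result {X' X : Scheme.{u}} (f : X' ⟶ X)
    [IrreducibleSpace ↥X'] [IrreducibleSpace ↥X] [IsNoetherian X'] [IsNoetherian X] [Flat f]
    (hf : MoreMor.IsFormallySmoothHom f) (hK : ∃ K : Subring Γ(X, ⊤), IsField K) :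
    Module.length (X'.presheaf.stalk (genericPoint X')) (X'.presheaf.stalk (genericPoint X'))
      = Module.length (X.presheaf.stalk (genericPoint X)) (X.presheaf.stalk (genericPoint X)) := by
  have hgen : f (genericPoint X') = genericPoint X := by
    obtain ⟨a', ha', hfa'⟩ := (Flat.generalizingMap f) (genericPoint_specializes (f (genericPoint X')))
    have : a' = genericPoint X' := eq_genericPoint_of_specializes ha'
    rw [← this, hfa']
  have hX := isArtinianRing_stalk_genericPoint X
  haveI := isArtinianRing_stalk_genericPoint X'
  rw [← hgen] at hX ⊢
  haveI := hX
  algebraize [(f.stalkMap (genericPoint X')).hom]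
  haveI : Module.Flat (X.presheaf.stalk (f (genericPoint X'))) (X'.presheaf.stalk (genericPoint X')) :=
    Flat.stalkMap f (genericPoint X')
  haveI : Algebra.FormallySmooth (X.presheaf.stalk (f (genericPoint X')))
      (X'.presheaf.stalk (genericPoint X')) :=
    Groth.Agent.Lib.helper17.StalkSmooth.formallySmooth_stalkMap_of_thickening_lifting f hf
      (genericPoint X')
  exact (Groth.Agent.Lib.helper17.ArtinLength.length_eq_of_flat_formallySmooth_artinian _ _).symm

end Groth.Agent.S18057
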