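import Groth.Statements.S18063
import Groth.Agent.Lib.Helper14.HomImage2
import Groth.Agent.Lib.Helper12.Chow1

set_option autoImplicit false
universe u
open CategoryTheory MonoidalCategory CartesianMonoidalCategory MonObj GrpObj AlgebraicGeometry CategoryTheory.Limits
open AlgGrp

namespace Groth.Agent.S18063

/-- A is a discrete valuation ring, K denotes its field of fractions and k its residue field, and G is
an A-group scheme that is flat, separated and of finite presentation. If the generic fibre G_K is
commutative, then the special fibre G_k is commutative. (The published statement does not require G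
separated over A, and its proof argues by density of the generic fibre; without separatedness the
conclusion fails: gluing copies of Spec A indexed by a finite non-abelian group along their common
generic point gives a flat group scheme of finite presentation over A whose generic fibre is the
trivial group and whose special fibre is that non-abelian constant group. So G is taken separated
here.) -/
theorem result (A : Type u) [CommRing A] [IsDomain A] [IsDiscreteValuationRing A]
    (K : Type u) [Field K] [Algebra A K] [IsFractionRing A K]
    (G : Over (Spec (CommRingCat.of A))) [GrpObj G] [Flat G.hom] [LocallyOfFinitePresentation G.hom] [QuasiCompact G.hom]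
    [IsSeparated G.hom] [IsCommMonObj (Red.bc (Spec.map (CommRingCat.ofHom (algebraMap A K))) G)] :
    IsCommMonObj (Red.bc (Spec.map (CommRingCat.ofHom (algebraMap A (IsLocalRing.ResidueField A)))) G) := by
  classical
  set j : Spec (CommRingCat.of K) ⟶ Spec (CommRingCat.of A) :=
    Spec.map (CommRingCat.ofHom (algebraMap A K)) with hj
  suffices hG : IsCommMonObj G by infer_instance
  refine ⟨?_⟩
  -- commutativity after base change to `K`
  have hF : (Over.pullback j).map ((β_ G G).hom ≫ μ[G]) = (Over.pullback j).map μ[G] := by
    have hcomm : (β_ (Red.bc j G) (Red.bc j G)).hom ≫ μ[Red.bc j G] = μ[Red.bc j G] :=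
      IsCommMonObj.mul_comm (Red.bc j G)
    have hμ : μ[Red.bc j G] =
        Functor.LaxMonoidal.μ (Over.pullback j) G G ≫ (Over.pullback j).map μ[G] := rfl
    rw [hμ] at hcomm
    have hbr := Functor.LaxBraided.braided (F := Over.pullback j) G G
    rw [← cancel_epi (Functor.LaxMonoidal.μ (Over.pullback j) G G), Functor.map_comp,
      ← Category.assoc, hbr, Category.assoc]
    exact hcomm
  have hleft : pullback.fst (G ⊗ G).hom j ≫ ((β_ G G).hom ≫ μ[G]).left =
      pullback.fst (G ⊗ G).hom j ≫ (μ[G]).left := by
    have key : ∀ φ : G ⊗ G ⟶ G, ((Over.pullback j).map φ).left ≫ pullback.fst G.hom j =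
        pullback.fst (G ⊗ G).hom j ≫ φ.left := by
      intro φ
      simp only [Over.pullback_map_left]
      exact pullback.lift_fst _ _ _
    rw [← key, ← key, hF]
  -- schematic density of the generic fibre
  haveI : IsReduced (Spec (CommRingCat.of A)) := inferInstance
  haveI : IsDominant j := by
    refine ⟨?_⟩
    have : DenseRange (PrimeSpectrum.comap (algebraMap A K)) := by
      rw [PrimeSpectrum.denseRange_comap_iff_ker_le_nilRadical,
        (RingHom.injective_iff_ker_eq_bot _).mp (IsFractionRing.injective A K)]
      exact bot_le
    exact this
  haveI : QuasiCompact j := inferInstance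
  haveI : IsSchemeTheoreticallyDominant j := IsSchemeTheoreticallyDominant.of_isDominant j
  haveI : Flat (fst G G).left := by
    have sq : IsPullback (fst G G).left (snd G G).left G.hom G.hom := by
      have h := (Groth.Agent.Lib.Helper14.HomImage.isPullback_fst_snd' G G).map (Over.forget _)
      simpa using h
    exact MorphismProperty.of_isPullback (P := @Flat) sq.flip inferInstance
  haveI : Flat (G ⊗ G).hom := by
    rw [← Over.w (fst G G)]
    infer_instance
  haveI : IsSchemeTheoreticallyDominant (pullback.fst (G ⊗ G).hom j) := inferInstance
  have hker : (pullback.fst (G ⊗ G).hom j).ker = ⊥ := Scheme.Hom.ker_eq_bot _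
  apply Over.OverMorphism.ext
  refine Groth.Agent.Lib.helper12.Chow1.ext_of_ker_eq_bot (pullback.fst (G ⊗ G).hom j) hker G.hom
    ?_ hleft
  rw [Over.w, Over.w]

end Groth.Agent.S18063
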