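import Groth.Statements.S18069
import Groth.Agent.Lib.Helper14.Kunneth

set_option autoImplicit false
universe u
open CategoryTheory MonoidalCategory CartesianMonoidalCategory MonObj GrpObj AlgebraicGeometry CategoryTheory.Limits
open AlgGrp

namespace Groth.Agent.S18069

/-- Let k be a field and G₁, G₂ connected k-group schemes of finite type. Then G₁ × G₂ is anti-affine,
i.e. O(G₁ × G₂) = k, if and only if G₁ and G₂ are both anti-affine. -/
theorem result (k : Type u) [Field k]
    (G₁ G₂ : Over (Spec (CommRingCat.of k))) [GrpObj G₁] [LocallyOfFiniteType G₁.hom] [QuasiCompact G₁.hom] [ConnectedSpace ↥G₁.left]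
    [GrpObj G₂] [LocallyOfFiniteType G₂.hom] [QuasiCompact G₂.hom] [ConnectedSpace ↥G₂.left] :
    Function.Bijective ((Scheme.ΓSpecIso (CommRingCat.of k)).inv ≫ (G₁ ⊗ G₂).hom.appTop).hom ↔
      Function.Bijective ((Scheme.ΓSpecIso (CommRingCat.of k)).inv ≫ G₁.hom.appTop).hom ∧ Function.Bijective ((Scheme.ΓSpecIso (CommRingCat.of k)).inv ≫ G₂.hom.appTop).hom := by
  classical
  have key : ∀ (X T : Over (Spec (CommRingCat.of k))) (e : 𝟙_ (Over (Spec (CommRingCat.of k))) ⟶ T),
      IsIso (X ⊗ T).hom.appTop → IsIso X.hom.appTop := by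
    intro X T e h12
    let i₁ : X ⟶ X ⊗ T := lift (𝟙 X) (toUnit X ≫ e)
    have hi : i₁ ≫ fst X T = 𝟙 X := lift_fst _ _
    have hps : (fst X T).left.appTop ≫ i₁.left.appTop = 𝟙 _ := by
      rw [← Scheme.Hom.comp_appTop, ← Over.comp_left, hi]
      rfl
    have hu : X.hom.appTop ≫ (fst X T).left.appTop = (X ⊗ T).hom.appTop := by
      rw [← Scheme.Hom.comp_appTop, Over.w]
    refine ⟨(fst X T).left.appTop ≫ inv (X ⊗ T).hom.appTop, ?_, ?_⟩
    · rw [← Category.assoc, hu, IsIso.hom_inv_id]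
    · have h2 : X.hom.appTop = (X ⊗ T).hom.appTop ≫ i₁.left.appTop := by
        rw [← hu, Category.assoc, hps, Category.comp_id]
      rw [h2, Category.assoc, IsIso.inv_hom_id_assoc, hps]
  have key' : ∀ (X T : Over (Spec (CommRingCat.of k))) (e : 𝟙_ (Over (Spec (CommRingCat.of k))) ⟶ X),
      IsIso (X ⊗ T).hom.appTop → IsIso T.hom.appTop := by
    intro X T e h12
    let i₂ : T ⟶ X ⊗ T := lift (toUnit T ≫ e) (𝟙 T)
    have hi : i₂ ≫ snd X T = 𝟙 T := lift_snd _ _
    have hps : (snd X T).left.appTop ≫ i₂.left.appTop = 𝟙 _ := by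
      rw [← Scheme.Hom.comp_appTop, ← Over.comp_left, hi]
      rfl
    have hu : T.hom.appTop ≫ (snd X T).left.appTop = (X ⊗ T).hom.appTop := by
      rw [← Scheme.Hom.comp_appTop, Over.w]
    refine ⟨(snd X T).left.appTop ≫ inv (X ⊗ T).hom.appTop, ?_, ?_⟩
    · rw [← Category.assoc, hu, IsIso.hom_inv_id]
    · have h2 : T.hom.appTop = (X ⊗ T).hom.appTop ≫ i₂.left.appTop := by
        rw [← hu, Category.assoc, hps, Category.comp_id]
      rw [h2, Category.assoc, IsIso.inv_hom_id_assoc, hps]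
  have hbij : ∀ (X : Over (Spec (CommRingCat.of k))), IsIso X.hom.appTop →
      Function.Bijective ((Scheme.ΓSpecIso (CommRingCat.of k)).inv ≫ X.hom.appTop).hom := by
    intro X hX
    exact ConcreteCategory.bijective_of_isIso _
  constructor
  · intro h12
    have h12' := Groth.Agent.Lib.Helper14.Kunneth.isIso_appTop_of_bijective _ h12
    exact ⟨hbij _ (key G₁ G₂ η[G₂] h12'), hbij _ (key' G₁ G₂ η[G₁] h12')⟩
  · rintro ⟨h1, h2⟩
    haveI := Groth.Agent.Lib.Helper14.Kunneth.isIso_appTop_of_bijective _ h1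
    haveI := Groth.Agent.Lib.Helper14.Kunneth.isIso_appTop_of_bijective _ h2
    haveI : CompactSpace ↥G₁.left :=
      (HasAffineProperty.iff_of_isAffine (P := @QuasiCompact) (f := G₁.hom)).mp inferInstance
    haveI : IsLocallyNoetherian G₁.left := LocallyOfFiniteType.isLocallyNoetherian G₁.hom
    haveI : CompactSpace ↥G₂.left :=
      (HasAffineProperty.iff_of_isAffine (P := @QuasiCompact) (f := G₂.hom)).mp inferInstance
    haveI : IsLocallyNoetherian G₂.left := LocallyOfFiniteType.isLocallyNoetherian G₂.hom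
    haveI : IsIso (snd G₁ G₂).left.appTop :=
      Groth.Agent.Lib.Helper14.Kunneth.isIso_snd_appTop G₁ G₂
    have hu : G₂.hom.appTop ≫ (snd G₁ G₂).left.appTop = (G₁ ⊗ G₂).hom.appTop := by
      rw [← Scheme.Hom.comp_appTop, Over.w]
    apply hbij
    rw [← hu]
    infer_instance

end Groth.Agent.S18069
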