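import Groth.Statements.S18070
import Groth.Agent.Lib.Helper14.AntiAffExt
import Groth.Agent.Lib.Helper14.SepGrpField

set_option autoImplicit false
universe u
open CategoryTheory MonoidalCategory CartesianMonoidalCategory MonObj GrpObj AlgebraicGeometry CategoryTheory.Limits
open AlgGrp

namespace Groth.Agent.S18070

/-- Let k be a field and 1 → G₁ → G → G₂ → 1 an exact sequence of k-group schemes of finite type with
G₁, G₂ connected (i : G₁ → G a homomorphism and closed immersion which is the kernel of the flat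
surjective homomorphism q : G → G₂). Anti-affineness passes from G to the quotient G₂; in the other
direction, G is anti-affine whenever G₁ and G₂ both are. -/
theorem result (k : Type u) [Field k]
    (G₁ G G₂ : Over (Spec (CommRingCat.of k))) [GrpObj G₁] [LocallyOfFiniteType G₁.hom] [QuasiCompact G₁.hom] [ConnectedSpace ↥G₁.left]
    [GrpObj G] [LocallyOfFiniteType G.hom] [QuasiCompact G.hom]
    [GrpObj G₂] [LocallyOfFiniteType G₂.hom] [QuasiCompact G₂.hom] [ConnectedSpace ↥G₂.left]
    (i : G₁ ⟶ G) [IsMonHom i] [IsClosedImmersion i.left] (q : G ⟶ G₂) [IsMonHom q] [Surjective q.left] [Flat q.left]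
    (hex : AlgGrp.IsKernel i q) :
    (Function.Bijective ((Scheme.ΓSpecIso (CommRingCat.of k)).inv ≫ G.hom.appTop).hom → Function.Bijective ((Scheme.ΓSpecIso (CommRingCat.of k)).inv ≫ G₂.hom.appTop).hom) ∧
    (Function.Bijective ((Scheme.ΓSpecIso (CommRingCat.of k)).inv ≫ G₁.hom.appTop).hom → Function.Bijective ((Scheme.ΓSpecIso (CommRingCat.of k)).inv ≫ G₂.hom.appTop).hom → Function.Bijective ((Scheme.ΓSpecIso (CommRingCat.of k)).inv ≫ G.hom.appTop).hom) := by
  haveI : Epi q.left := Flat.epi_of_flat_of_surjective q.left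
  haveI : Epi q := Over.epi_of_epi_left q
  have hqη : η[G] ≫ q = η[G₂] := IsMonHom.one_hom q
  -- (1) anti-affineness passes to the quotient
  have part1 : IsIso G.hom.appTop → IsIso G₂.hom.appTop := by
    intro hG
    refine Groth.Agent.Lib.Helper14.AntiAffExt.isIso_appTop_of_const G₂ η[G₂] ?_
    intro N _ h₂
    have h1 := Groth.Agent.Lib.Helper14.AntiAffAffine.eq_const_of_isAffine G N η[G] (q ≫ h₂)
    rw [← cancel_epi q, h1, ← Category.assoc η[G], hqη]
    simp
  -- (2) extensions of anti-affine groups are anti-affine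
  have part2 : IsIso G₁.hom.appTop → IsIso G₂.hom.appTop → IsIso G.hom.appTop := by
    intro hG₁ hG₂
    haveI : IsSeparated G.hom := Groth.Agent.Lib.Helper14.SepGrpField.isSeparated_of_grpObj G
    haveI : IsSeparated G₁.hom := Groth.Agent.Lib.Helper14.SepGrpField.isSeparated_of_grpObj G₁
    haveI : IsSeparated G₂.hom := Groth.Agent.Lib.Helper14.SepGrpField.isSeparated_of_grpObj G₂
    haveI : CompactSpace G.left :=
      (HasAffineProperty.iff_of_isAffine (P := @QuasiCompact) (f := G.hom)).mp inferInstance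
    haveI : CompactSpace G₁.left :=
      (HasAffineProperty.iff_of_isAffine (P := @QuasiCompact) (f := G₁.hom)).mp inferInstance
    haveI : QuasiSeparatedSpace G.left :=
      (HasAffineProperty.iff_of_isAffine (P := @QuasiSeparated) (f := G.hom)).mp inferInstance
    haveI : QuasiSeparatedSpace G₁.left :=
      (HasAffineProperty.iff_of_isAffine (P := @QuasiSeparated) (f := G₁.hom)).mp inferInstance
    haveI : QuasiCompact (q.left ≫ G₂.hom) := by rw [Over.w]; infer_instance
    haveI : QuasiCompact q.left := QuasiCompact.of_comp q.left G₂.hom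
    refine Groth.Agent.Lib.Helper14.AntiAffExt.isIso_appTop_of_const G η[G] ?_
    intro N _ h
    -- step 1: `h` is invariant under translation by `G₁`
    let m' : G₁ ⊗ G ⟶ G := (i ▷ G) ≫ μ[G]
    let s : G ⟶ G₁ ⊗ G := lift (toUnit G ≫ η[G₁]) (𝟙 G)
    have hs1 : s ≫ snd G₁ G = 𝟙 G := lift_snd _ _
    have hs2 : s ≫ m' = 𝟙 G := by
      have hiη : η[G₁] ≫ i = η[G] := IsMonHom.one_hom i
      show lift (toUnit G ≫ η[G₁]) (𝟙 G) ≫ (i ▷ G) ≫ μ[G] = 𝟙 G
      rw [← Category.assoc, lift_whiskerRight, Category.assoc, hiη, lift_comp_one_left]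
    haveI : IsIso (snd G₁ G).left.appTop :=
      Groth.Agent.Lib.Helper14.Kunneth.isIso_snd_appTop G₁ G
    have hfac : ∀ ψ : G₁ ⊗ G ⟶ N, ψ = snd G₁ G ≫ s ≫ ψ := by
      intro ψ
      apply Over.OverMorphism.ext
      apply ext_of_isAffine
      have e1 : (snd G₁ G).left.appTop ≫ s.left.appTop = 𝟙 _ := by
        rw [← Scheme.Hom.comp_appTop, ← Over.comp_left, hs1]; rfl
      have e2 : s.left.appTop ≫ (snd G₁ G).left.appTop = 𝟙 _ := by
        rw [← cancel_epi (snd G₁ G).left.appTop, ← Category.assoc, e1, Category.id_comp,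
          Category.comp_id]
      simp only [Over.comp_left, Scheme.Hom.comp_appTop, Category.assoc]
      rw [e2, Category.comp_id]
    have hinv : m' ≫ h = snd G₁ G ≫ h := by
      rw [hfac (m' ≫ h), ← Category.assoc s, hs2, Category.id_comp]
    -- step 2: descent along `q`
    have hdesc : ∀ {Z : Scheme.{u}} (g₁ g₂ : Z ⟶ G.left), g₁ ≫ q.left = g₂ ≫ q.left →
        g₁ ≫ h.left = g₂ ≫ h.left := by
      intro Z g₁ g₂ hg
      let ZZ : Over (Spec (CommRingCat.of k)) := Over.mk (g₁ ≫ G.hom)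
      let p₁ : ZZ ⟶ G := Over.homMk g₁ rfl
      let p₂ : ZZ ⟶ G := Over.homMk g₂ (by
        show g₂ ≫ G.hom = g₁ ≫ G.hom
        rw [← Over.w q, ← Category.assoc, ← hg, Category.assoc])
      have hp : p₁ ≫ q = p₂ ≫ q := Over.OverMorphism.ext hg
      have hk : (p₁ * p₂⁻¹) ≫ q = toUnit ZZ ≫ η[G₂] := by
        rw [MonObj.mul_comp, GrpObj.inv_comp, hp, mul_inv_cancel, Hom.one_def]
      obtain ⟨n, hn, -⟩ : ∃ n : ZZ ⟶ G₁, n ≫ i = p₁ * p₂⁻¹ ∧ True :=
        ⟨hex.lift (p₁ * p₂⁻¹) (toUnit ZZ) hk, hex.lift_fst _ _ _, trivial⟩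
      have hp1 : p₁ = lift n p₂ ≫ m' := by
        show p₁ = lift n p₂ ≫ (i ▷ G) ≫ μ[G]
        rw [← Category.assoc, lift_whiskerRight, hn, ← Hom.mul_def, inv_mul_cancel_right]
      have h3 : p₁ ≫ h = p₂ ≫ h := by
        rw [hp1, Category.assoc, hinv, ← Category.assoc, lift_snd]
      exact congrArg (fun φ : ZZ ⟶ N => φ.left) h3
    let h₂l : G₂.left ⟶ N.left := EffectiveEpi.desc q.left h.left hdesc
    have hh₂ : q.left ≫ h₂l = h.left := EffectiveEpi.fac q.left h.left hdesc
    let h₂ : G₂ ⟶ N := Over.homMk h₂l (by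
      rw [← cancel_epi q.left, ← Category.assoc, hh₂, Over.w, Over.w])
    have hqh₂ : q ≫ h₂ = h := Over.OverMorphism.ext hh₂
    -- step 3: `G₂` is anti-affine
    have h4 := Groth.Agent.Lib.Helper14.AntiAffAffine.eq_const_of_isAffine G₂ N η[G₂] h₂
    rw [← hqh₂, h4, ← Category.assoc η[G], hqη]
    simp
  have conv : ∀ (X : Over (Spec (CommRingCat.of k))),
      Function.Bijective ((Scheme.ΓSpecIso (CommRingCat.of k)).inv ≫ X.hom.appTop).hom ↔
        IsIso X.hom.appTop := fun X =>
    ⟨fun h => Groth.Agent.Lib.Helper14.Kunneth.isIso_appTop_of_bijective X h,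
      fun h => Groth.Agent.Lib.Helper14.AntiAffExt.bijective_of_isIso_appTop X⟩
  exact ⟨fun h => (conv G₂).mpr (part1 ((conv G).mp h)),
    fun h₁ h₂ => (conv G).mpr (part2 ((conv G₁).mp h₁) ((conv G₂).mp h₂))⟩

end Groth.Agent.S18070
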