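import Groth.Statements.S18112
import Mathlib
-- import your own Groth.Agent.* helpers here

set_option autoImplicit false
universe u
open CategoryTheory CategoryTheory.Limits MonoidalCategory CartesianMonoidalCategory MonObj GrpObj AlgebraicGeometry
open AbVar

namespace Groth.Agent.S18112

section NT
open Polynomial

/-- integers inside `ℚ` -/
def ZQ : Subring ℚ := (Int.castRingHom ℚ).range

/-- integer polynomials inside `ℚ[X]` -/
noncomputable def ZP : Subring ℚ[X] := (Polynomial.mapRingHom (Int.castRingHom ℚ)).range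

theorem intCast_mem_ZQ (z : ℤ) : (z : ℚ) ∈ ZQ := ⟨z, rfl⟩
theorem natCast_mem_ZQ (n : ℕ) : (n : ℚ) ∈ ZQ := ⟨(n : ℤ), by simp⟩

theorem C_mem_ZP {x : ℚ} (hx : x ∈ ZQ) : C x ∈ ZP := by
  obtain ⟨z, rfl⟩ := hx
  exact ⟨C z, by simp⟩

theorem X_mem_ZP : (X : ℚ[X]) ∈ ZP := ⟨X, by simp⟩

theorem coeff_mem_ZQ {P : ℚ[X]} (hP : P ∈ ZP) (n : ℕ) : P.coeff n ∈ ZQ := by
  obtain ⟨Z, rfl⟩ := hP
  exact ⟨Z.coeff n, by simp⟩

theorem descPochhammer_mem_ZP (n : ℕ) : descPochhammer ℚ n ∈ ZP :=
  ⟨descPochhammer ℤ n, by simp [descPochhammer_map]⟩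

theorem intClaim : ∀ (g : ℕ) (R : ℚ[X]), R.natDegree ≤ g →
    (∀ i : ℕ, i ≤ g → R.eval (i : ℚ) ∈ ZQ) → C ((g.factorial : ℕ) : ℚ) * R ∈ ZP := by
  intro g
  induction g with
  | zero =>
    intro R hdeg hval
    have hR : R = C (R.coeff 0) := eq_C_of_natDegree_le_zero hdeg
    have h0 := hval 0 le_rfl
    rw [hR] at h0
    simp only [Nat.cast_zero, eval_C] at h0
    rw [hR]
    exact ZP.mul_mem (C_mem_ZP (natCast_mem_ZQ _)) (C_mem_ZP h0)
  | succ g ih =>
    intro R hdeg hval
    set c := R.coeff (g + 1) with hc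
    set S := R - C c * descPochhammer ℚ (g + 1) with hS
    have hSdeg : S.natDegree ≤ g := by
      rw [natDegree_le_iff_coeff_eq_zero]
      intro N hN
      rw [hS, coeff_sub, coeff_C_mul]
      rcases Nat.lt_or_ge (g + 1) N with h | h
      · rw [coeff_eq_zero_of_natDegree_lt (lt_of_le_of_lt hdeg h),
          coeff_eq_zero_of_natDegree_lt (by rw [descPochhammer_natDegree]; exact h)]
        simp
      · have hN' : N = g + 1 := by omega
        subst hN'
        have h1 : (descPochhammer ℚ (g + 1)).coeff (g + 1) = 1 := by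
          have := (monic_descPochhammer ℚ (g + 1)).coeff_natDegree
          rwa [descPochhammer_natDegree] at this
        rw [h1, _root_.mul_one, sub_self]
    have hSval : ∀ i : ℕ, i ≤ g → S.eval (i : ℚ) ∈ ZQ := by
      intro i hi
      rw [hS, eval_sub, eval_mul, eval_C, descPochhammer_eval_eq_descFactorial,
        Nat.descFactorial_of_lt (by omega), Nat.cast_zero, mul_zero, sub_zero]
      exact hval i (by omega)
    have hS' := ih S hSdeg hSval
    have hcint : (((g + 1).factorial : ℕ) : ℚ) * c ∈ ZQ := by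
      have h1 : (fwdDiff (1 : ℚ))^[g + 1] R.eval (0 : ℚ) = (((g + 1).factorial : ℕ) : ℚ) * c := by
        rcases Nat.lt_or_ge R.natDegree (g + 1) with h | h
        · rw [Polynomial.fwdDiff_iter_eq_zero_of_degree_lt h]
          rw [hc, coeff_eq_zero_of_natDegree_lt h, mul_zero]
          rfl
        · have hd : R.natDegree = g + 1 := le_antisymm hdeg h
          have := Polynomial.fwdDiff_iter_degree_eq_factorial R
          rw [hd] at this
          rw [this, hc, Polynomial.leadingCoeff, hd]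
          simp [mul_comm]
      rw [← h1, fwdDiff_iter_eq_sum_shift]
      apply Subring.sum_mem
      intro k hk
      rw [zsmul_eq_mul]
      apply Subring.mul_mem
      · exact intCast_mem_ZQ _
      · have hk' : k ≤ g + 1 := by
          have := Finset.mem_range.mp hk
          omega
        have := hval k hk'
        simpa using this
    have hfin : C (((g + 1).factorial : ℕ) : ℚ) * R =
        C (((g + 1 : ℕ) : ℕ) : ℚ) * (C ((g.factorial : ℕ) : ℚ) * S) +
        C ((((g + 1).factorial : ℕ) : ℚ) * c) * descPochhammer ℚ (g + 1) := by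
      rw [hS, Nat.factorial_succ]
      push_cast
      simp only [map_mul, map_add, map_one]
      ring
    rw [hfin]
    refine ZP.add_mem (ZP.mul_mem (C_mem_ZP (natCast_mem_ZQ _)) hS') ?_
    exact ZP.mul_mem (C_mem_ZP hcint) (descPochhammer_mem_ZP _)

theorem comp_mem_ZP {P L : ℚ[X]} (hP : P ∈ ZP) (hL : L ∈ ZP) : P.comp L ∈ ZP := by
  obtain ⟨Z, rfl⟩ := hP
  obtain ⟨Z', rfl⟩ := hL
  exact ⟨Z.comp Z', by simp [Polynomial.map_comp]⟩

theorem scaled (Q : ℚ[X]) (g : ℕ) (hQ : Q.natDegree ≤ g) (b : ℕ) (hb : 0 < b) (a₀ : ℤ) (w : ℚ)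
    (hval : ∀ i : ℕ, i ≤ g → Q.eval (((a₀ : ℚ) + (i : ℚ)) / (b : ℚ)) * w ∈ ZQ) (j : ℕ) :
    ((g.factorial : ℕ) : ℚ) * w * Q.coeff j ∈ ZQ := by
  have hb0 : (b : ℚ) ≠ 0 := by exact_mod_cast hb.ne'
  set L : ℚ[X] := C (1 / (b : ℚ)) * (X + C (a₀ : ℚ)) with hL
  set L' : ℚ[X] := C (b : ℚ) * X - C (a₀ : ℚ) with hL'
  set R : ℚ[X] := C w * Q.comp L with hR
  have hLdeg : L.natDegree ≤ 1 := by
    refine (natDegree_C_mul_le _ _).trans ?_
    refine (natDegree_add_le _ _).trans ?_
    simp
  have hRdeg : R.natDegree ≤ g := by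
    refine (natDegree_C_mul_le _ _).trans ?_
    refine (natDegree_comp_le).trans ?_
    calc Q.natDegree * L.natDegree ≤ g * 1 := Nat.mul_le_mul hQ hLdeg
      _ = g := Nat.mul_one g
  have hRval : ∀ i : ℕ, i ≤ g → R.eval (i : ℚ) ∈ ZQ := by
    intro i hi
    have := hval i hi
    rw [hR, eval_mul, eval_C, eval_comp, hL, eval_mul, eval_C, eval_add, eval_X, eval_C]
    convert this using 1
    rw [_root_.mul_comm]
    congr 2
    field_simp
    ring
  have hP := intClaim g R hRdeg hRval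
  have hL'mem : L' ∈ ZP := by
    rw [hL']
    exact ZP.sub_mem (ZP.mul_mem (C_mem_ZP (natCast_mem_ZQ b)) X_mem_ZP)
      (C_mem_ZP (intCast_mem_ZQ a₀))
  have hcomp := comp_mem_ZP hP hL'mem
  have hLL' : L.comp L' = X := by
    rw [hL, hL', Polynomial.mul_comp, C_comp, add_comp, X_comp, C_comp, sub_add_cancel, ← _root_.mul_assoc,
      ← C_mul, one_div, inv_mul_cancel₀ hb0, C_1, _root_.one_mul]
  have hfin : (C ((g.factorial : ℕ) : ℚ) * R).comp L' = C (((g.factorial : ℕ) : ℚ) * w) * Q := by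
    rw [hR, Polynomial.mul_comp, Polynomial.mul_comp, C_comp, C_comp, comp_assoc, hLL', comp_X, C_mul, _root_.mul_assoc]
  rw [hfin] at hcomp
  have := coeff_mem_ZQ hcomp j
  rwa [coeff_C_mul] at this

theorem final (Q : ℚ[X]) (g : ℕ) (hQ : Q.natDegree ≤ g) (u v : ℚ) (huv : u < v)
    (hpoly : ∀ (a : ℤ) (b : ℕ), 0 < b → u < (a : ℚ) / (b : ℚ) → (a : ℚ) / (b : ℚ) < v →
      Q.eval ((a : ℚ) / (b : ℚ)) * (b : ℚ) ^ (2 * g) ∈ ZQ) (j : ℕ) :
    ((g.factorial : ℕ) : ℚ) * Q.coeff j ∈ ZQ := by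
  have hvu : 0 < v - u := sub_pos.mpr huv
  obtain ⟨b₁, hb₁⟩ := exists_nat_gt (((g : ℚ) + 1) / (v - u))
  have hb₁pos : 0 < b₁ := by
    have h0 : (0 : ℚ) < ((g : ℚ) + 1) / (v - u) := by positivity
    have : (0 : ℚ) < (b₁ : ℚ) := lt_trans h0 hb₁
    exact_mod_cast this
  -- for every `b ≥ b₁`, integrality
  have hstep : ∀ b : ℕ, b₁ ≤ b → ((g.factorial : ℕ) : ℚ) * (b : ℚ) ^ (2 * g) * Q.coeff j ∈ ZQ := by
    intro b hbb
    have hbpos : 0 < b := lt_of_lt_of_le hb₁pos hbb
    have hbq : (0 : ℚ) < (b : ℚ) := by exact_mod_cast hbpos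
    have hbig : ((g : ℚ) + 1) < (v - u) * (b : ℚ) := by
      have h1 : ((g : ℚ) + 1) / (v - u) < (b : ℚ) :=
        lt_of_lt_of_le hb₁ (by exact_mod_cast hbb)
      rw [div_lt_iff₀ hvu] at h1
      linarith
    set a₀ : ℤ := ⌊u * (b : ℚ)⌋ + 1 with ha₀
    have ha₀l : u * (b : ℚ) < (a₀ : ℚ) := by
      rw [ha₀]; push_cast; exact Int.lt_floor_add_one _
    have ha₀u : (a₀ : ℚ) ≤ u * (b : ℚ) + 1 := by
      rw [ha₀]; push_cast
      have := Int.floor_le (u * (b : ℚ))
      linarith
    apply scaled Q g hQ b hbpos a₀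
    intro i hi
    have hiq : (i : ℚ) ≤ (g : ℚ) := by exact_mod_cast hi
    have hi0 : (0 : ℚ) ≤ (i : ℚ) := Nat.cast_nonneg i
    have h1 := hpoly (a₀ + (i : ℤ)) b hbpos ?_ ?_
    · push_cast at h1
      exact h1
    · push_cast
      rw [lt_div_iff₀ hbq]
      linarith
    · push_cast
      rw [div_lt_iff₀ hbq]
      nlinarith
  have h1 := hstep b₁ le_rfl
  have h2 := hstep (b₁ + 1) (Nat.le_succ _)
  have hcop : IsCoprime ((b₁ ^ (2 * g) : ℕ) : ℤ) (((b₁ + 1) ^ (2 * g) : ℕ) : ℤ) := by
    rw [Nat.isCoprime_iff_coprime]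
    apply Nat.Coprime.pow
    simp
  obtain ⟨s, t, hst⟩ := hcop
  have hstq : (s : ℚ) * ((b₁ : ℚ) ^ (2 * g)) + (t : ℚ) * (((b₁ : ℚ) + 1) ^ (2 * g)) = 1 := by
    have := congrArg (fun z : ℤ => (z : ℚ)) hst
    push_cast at this
    exact this
  have hx : ((g.factorial : ℕ) : ℚ) * Q.coeff j =
      (s : ℚ) * (((g.factorial : ℕ) : ℚ) * (b₁ : ℚ) ^ (2 * g) * Q.coeff j) +
      (t : ℚ) * (((g.factorial : ℕ) : ℚ) * (((b₁ + 1 : ℕ) : ℚ)) ^ (2 * g) * Q.coeff j) := by
    push_cast
    linear_combination (-(((g.factorial : ℕ) : ℚ) * Q.coeff j)) * hstq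
  rw [hx]
  exact ZQ.add_mem (ZQ.mul_mem (intCast_mem_ZQ s) h1) (ZQ.mul_mem (intCast_mem_ZQ t) h2)

end NT


/-- Let k be an algebraically closed field of characteristic zero, A an abelian variety over k (a proper
smooth k-group scheme with geometrically connected fibres) of dimension g, (A^t, φ) a given dual
abelian variety of A for the fppf topology with A^t itself an abelian variety, and P an invertible
module on A ×_k A^t whose class is a Poincaré class; for a k-point α of A^t write P_α for the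
restriction of P to A × {α}. Let L be an ample invertible O_A-module with an inverse L' (L ⊗ L' ≅
O_A), negative powers of L meaning powers of L'. For a coherent O_A-module G write h^i_gen(G) for
the generic value of h^i(A, G ⊗ P_α), rendered as the minimum over all k-points α of A^t (the
generic value by semicontinuity), and for b ≥ 1 let b_A : A → A be multiplication by b. Let F be a
coherent O_A-module and i ≥ 0, and consider the i-th cohomological rank function of F with respect
to L, the function on the rationals x = a/b (b ≥ 1) with value b^{-2g} · h^i_gen(b_A^* F ⊗ L^{ab}).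
Suppose that on an open interval (u, v), u < v rational, this function agrees with a polynomial Q
with rational coefficients of degree at most g. Then every coefficient of Q lies in (1/g!)ℤ, i.e. g!
· Q has integer coefficients. (Stated for a coherent module; the source allows any object of the
bounded derived category of coherent modules. The degree bound on Q, which the source takes from the
local polynomiality of rank functions, is made a hypothesis here.) -/
theorem result (k : Type u) [Field k] [IsAlgClosed k] [CharZero k]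
    (A At : Over (Spec (CommRingCat.of k))) [GrpObj A] [IsProper A.hom] [Smooth A.hom] [GeometricallyConnected A.hom]
    [GrpObj At] [IsProper At.hom] [Smooth At.hom] [GeometricallyConnected At.hom]
    (φ : ∀ T : Over (Spec (CommRingCat.of k)), PicF.Cl (PicF.XT A.hom T) → (T ⟶ At))
    (hφ : AbDual.IsDualAV Scheme.fppfPrecoverage A At φ)
    (P : (pullback A.hom At.hom).Modules) (hP : PicF.IsInvertible P)
    (hPξ : AbDual.IsPoincareCl A At φ (PicF.cl P))
    (g : ℕ) (hg : topologicalKrullDim ↥A.left = g)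
    (L L' : A.left.Modules) (hL : CohB1.IsAmple L) (hLL' : Nonempty (CohB1.tensorMod L L' ≅ Coh.structureModule A.left))
    (F : A.left.Modules) (hF : Coh.IsCoh F) (i : ℕ) (u v : ℚ) (huv : u < v)
    (Q : Polynomial ℚ) (hQ : Q.natDegree ≤ g)
    (hpoly : ∀ (a : ℤ) (b : ℕ), 0 < b → u < (a : ℚ) / (b : ℚ) → (a : ℚ) / (b : ℚ) < v →
      ((W4c5cohrankabvar.hgen k P (W4c5cohrankabvar.twist A F L L' b (a * b)) i : ℕ) : ℚ) / (b : ℚ) ^ (2 * g) =
        Q.eval ((a : ℚ) / (b : ℚ)))
    (j : ℕ) : ∃ z : ℤ, (Nat.factorial g : ℚ) * Q.coeff j = (z : ℚ) := by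
  have hmem := final Q g hQ u v huv ?_ j
  · obtain ⟨z, hz⟩ := hmem
    exact ⟨z, hz.symm⟩
  · intro a b hb hua hav
    have h := hpoly a b hb hua hav
    have hb0 : ((b : ℚ)) ^ (2 * g) ≠ 0 := pow_ne_zero _ (by exact_mod_cast hb.ne')
    rw [← h, div_mul_cancel₀ _ hb0]
    exact natCast_mem_ZQ _

end Groth.Agent.S18112
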