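import Groth.Statements.S18121
import Mathlib
-- import your own Groth.Agent.* helpers here

set_option autoImplicit false
universe u
open Pinch

namespace Groth.Agent.S18121

section
variable {B : Type u} [CommRing B] (b : B)

open Polynomial in
theorem L0 (c d : B)
    (h : AdjoinRoot.of (X ^ 2 - C b) c + AdjoinRoot.root (X ^ 2 - C b) * AdjoinRoot.of (X ^ 2 - C b) d = 0) :
    c = 0 ∧ d = 0 := by
  rcases subsingleton_or_nontrivial B with hB | hB
  · exact ⟨Subsingleton.elim _ _, Subsingleton.elim _ _⟩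
  have hmon : (X ^ 2 - C b : B[X]).Monic := monic_X_pow_sub_C b (by norm_num)
  have h1 : AdjoinRoot.mk (X ^ 2 - C b) (C c + X * C d) = 0 := by
    rw [map_add, map_mul, AdjoinRoot.mk_C, AdjoinRoot.mk_C, AdjoinRoot.mk_X]
    exact h
  rw [AdjoinRoot.mk_eq_zero] at h1
  have h2 : (C c + X * C d : B[X]) = 0 := by
    by_contra hne
    refine hmon.not_dvd_of_natDegree_lt hne ?_ h1
    rw [natDegree_X_pow_sub_C]
    have : (C c + X * C d : B[X]).natDegree ≤ 1 := by
      refine (natDegree_add_le _ _).trans ?_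
      rw [natDegree_C]
      refine max_le (by norm_num) ?_
      refine (natDegree_mul_le).trans ?_
      rw [natDegree_C, natDegree_X]
    omega
  constructor
  · have := congrArg (fun g => coeff g 0) h2
    simpa using this
  · have := congrArg (fun g => coeff g 1) h2
    simpa using this

open Polynomial in
theorem L3 (g : AdjoinRoot (X ^ 2 - C b)) : ∃ c d : B,
    g = AdjoinRoot.of (X ^ 2 - C b) c + AdjoinRoot.root (X ^ 2 - C b) * AdjoinRoot.of (X ^ 2 - C b) d := by
  rcases subsingleton_or_nontrivial B with hB | hB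
  · have : Subsingleton (AdjoinRoot (X ^ 2 - C b)) :=
      (AdjoinRoot.of (X ^ 2 - C b)).codomain_trivial
    exact ⟨0, 0, Subsingleton.elim _ _⟩
  have hmon : (X ^ 2 - C b : B[X]).Monic := monic_X_pow_sub_C b (by norm_num)
  obtain ⟨h, rfl⟩ := AdjoinRoot.mk_surjective g
  have h1 : AdjoinRoot.mk (X ^ 2 - C b) h = AdjoinRoot.mk (X ^ 2 - C b) (h %ₘ (X ^ 2 - C b)) := by
    rw [AdjoinRoot.mk_eq_mk]
    refine ⟨h /ₘ (X ^ 2 - C b), ?_⟩
    have := modByMonic_add_div h (X ^ 2 - C b)
    linear_combination -this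
  have hdeg : (h %ₘ (X ^ 2 - C b)).natDegree ≤ 1 := by
    have hlt := degree_modByMonic_lt h hmon
    rw [degree_X_pow_sub_C (by norm_num)] at hlt
    by_cases h0 : h %ₘ (X ^ 2 - C b) = 0
    · rw [h0]; simp
    · rw [degree_eq_natDegree h0] at hlt
      have : (h %ₘ (X ^ 2 - C b)).natDegree < 2 := by exact_mod_cast hlt
      omega
  refine ⟨(h %ₘ (X ^ 2 - C b)).coeff 0, (h %ₘ (X ^ 2 - C b)).coeff 1, ?_⟩
  rw [h1]
  conv_lhs => rw [eq_X_add_C_of_natDegree_le_one hdeg]
  rw [map_add, map_mul, AdjoinRoot.mk_C, AdjoinRoot.mk_C, AdjoinRoot.mk_X]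
  ring

open Polynomial in
/-- the chart map -/
noncomputable def Psi : MvPolynomial (Fin 2) B →ₐ[B] Polynomial (AdjoinRoot (X ^ 2 - C b)) :=
  MvPolynomial.aeval ![C (AdjoinRoot.root (X ^ 2 - C b)) * X, X]

/-- inclusion of `B[v]` -/
noncomputable def inc : Polynomial B →ₐ[B] MvPolynomial (Fin 2) B :=
  Polynomial.aeval (MvPolynomial.X 1)

/-- the relation -/
noncomputable def rel : MvPolynomial (Fin 2) B :=
  MvPolynomial.X 0 ^ 2 - MvPolynomial.C b * MvPolynomial.X 1 ^ 2

open Polynomial in
theorem Psi_X0 : Psi b (MvPolynomial.X 0) = C (AdjoinRoot.root (X ^ 2 - C b)) * X := by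
  simp [Psi]

open Polynomial in
theorem Psi_X1 : Psi b (MvPolynomial.X 1) = X := by
  simp [Psi]

open Polynomial in
theorem Psi_C (a : B) : Psi b (MvPolynomial.C a) = C (AdjoinRoot.of (X ^ 2 - C b) a) := by
  rw [← MvPolynomial.algebraMap_eq, AlgHom.commutes, Polynomial.algebraMap_apply,
    AdjoinRoot.algebraMap_eq]

open Polynomial in
theorem root_sq : AdjoinRoot.root (X ^ 2 - C b) ^ 2 = AdjoinRoot.of (X ^ 2 - C b) b := by
  have h := AdjoinRoot.eval₂_root (X ^ 2 - C b)
  rw [eval₂_sub, eval₂_pow, eval₂_X, eval₂_C, sub_eq_zero] at h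
  exact h

open Polynomial in
theorem Psi_rel : Psi b (rel b) = 0 := by
  rw [rel, map_sub, map_mul, map_pow, map_pow, Psi_X0, Psi_X1, Psi_C, mul_pow, ← C_pow, root_sq]
  ring

open Polynomial in
theorem Psi_inc (F : B[X]) : Psi b (inc F) = F.map (AdjoinRoot.of (X ^ 2 - C b)) := by
  induction F using Polynomial.induction_on' with
  | add p q hp hq => rw [map_add, map_add, hp, hq, Polynomial.map_add]
  | monomial n a =>
    rw [inc, Polynomial.aeval_monomial, map_mul, map_pow, Psi_X1, AlgHom.commutes,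
      Polynomial.algebraMap_apply, AdjoinRoot.algebraMap_eq, Polynomial.map_monomial,
      C_mul_X_pow_eq_monomial]

open Polynomial in
theorem L1 (F₀ F₁ : B[X])
    (h : F₀.map (AdjoinRoot.of (X ^ 2 - C b)) +
      C (AdjoinRoot.root (X ^ 2 - C b)) * X * F₁.map (AdjoinRoot.of (X ^ 2 - C b)) = 0) :
    F₀ = 0 ∧ F₁ = 0 := by
  have h0 : F₀.coeff 0 = 0 := by
    have h1 := congrArg (fun g => coeff g 0) h
    simp only [coeff_add, coeff_map, mul_assoc, coeff_C_mul, coeff_X_mul_zero, mul_zero,
      coeff_zero] at h1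
    have := L0 b (F₀.coeff 0) 0 (by rw [map_zero, mul_zero]; exact h1)
    exact this.1
  have key : ∀ n, F₀.coeff (n + 1) = 0 ∧ F₁.coeff n = 0 := by
    intro n
    have h1 := congrArg (fun g => coeff g (n + 1)) h
    simp only [coeff_add, coeff_map, mul_assoc, coeff_C_mul, coeff_X_mul, coeff_zero] at h1
    exact L0 b _ _ h1
  constructor
  · ext n
    cases n with
    | zero => rw [h0, coeff_zero]
    | succ m => rw [(key m).1, coeff_zero]
  · ext n
    rw [(key n).2, coeff_zero]

theorem L2 (F : MvPolynomial (Fin 2) B) : ∃ F₀ F₁ : Polynomial B,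
    F - (inc F₀ + MvPolynomial.X 0 * inc F₁) ∈ Ideal.span {rel b} := by
  induction F using MvPolynomial.induction_on with
  | C a =>
    refine ⟨Polynomial.C a, 0, ?_⟩
    have : inc (Polynomial.C a) = (MvPolynomial.C a : MvPolynomial (Fin 2) B) := by
      rw [inc, Polynomial.aeval_C, MvPolynomial.algebraMap_eq]
    rw [this, map_zero, mul_zero, add_zero, sub_self]
    exact Ideal.zero_mem _
  | add P Q hP hQ =>
    obtain ⟨P₀, P₁, hP⟩ := hP
    obtain ⟨Q₀, Q₁, hQ⟩ := hQ
    refine ⟨P₀ + Q₀, P₁ + Q₁, ?_⟩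
    have := Ideal.add_mem _ hP hQ
    rw [map_add, map_add]
    convert this using 1
    ring
  | mul_X P i hP =>
    obtain ⟨P₀, P₁, hP⟩ := hP
    have hi : i = 0 ∨ i = 1 := by fin_cases i <;> simp
    rcases hi with rfl | rfl
    · refine ⟨Polynomial.C b * Polynomial.X ^ 2 * P₁, P₀, ?_⟩
      have h1 : inc (Polynomial.C b * Polynomial.X ^ 2 * P₁) =
          (MvPolynomial.C b * MvPolynomial.X 1 ^ 2 * inc P₁ : MvPolynomial (Fin 2) B) := by
        rw [map_mul, map_mul, map_pow]
        congr 2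
        · rw [inc, Polynomial.aeval_C, MvPolynomial.algebraMap_eq]
        · rw [inc, Polynomial.aeval_X]
      rw [h1]
      have := Ideal.add_mem _ (Ideal.mul_mem_right (MvPolynomial.X 0) _ hP)
        (Ideal.mul_mem_right (inc P₁) _ (Ideal.subset_span (Set.mem_singleton (rel b))))
      convert this using 1
      rw [rel]
      ring
    · refine ⟨P₀ * Polynomial.X, P₁ * Polynomial.X, ?_⟩
      have h1 : inc (Polynomial.X : Polynomial B) = (MvPolynomial.X 1 : MvPolynomial (Fin 2) B) := by
        rw [inc, Polynomial.aeval_X]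
      rw [map_mul, map_mul, h1]
      have := Ideal.mul_mem_right (MvPolynomial.X 1) _ hP
      convert this using 1
      ring

end


/-- Let B be a commutative ring, b an element of B, B' := B[z]/(z^2 - b) the rank-two B-algebra with z^2
= b, and Ψ : B[u, v] → B'[t] the B-algebra homomorphism with u ↦ z t and v ↦ t. Then the kernel of Ψ
is the principal ideal generated by u^2 - b v^2, and a polynomial of B'[t] lies in the image of Ψ as
soon as its constant coefficient lies in B. Equivalently, B[u, v]/(u^2 - b v^2) is the fibre product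
of B'[t] and B over B' (for t ↦ 0 and the inclusion of B): the pinching of Spec B' × 𝔸¹ along Spec
B' × {0} by the double cover Spec B' → Spec B is the hypersurface u^2 = b v^2 over B; for B = K[w]
and b = w this is the pinch point u^2 = v^2 w. -/
theorem result (B : Type u) [CommRing B] (b : B) :
    letI Ψ : MvPolynomial (Fin 2) B →ₐ[B] Polynomial (AdjoinRoot (Polynomial.X ^ 2 - Polynomial.C b)) :=
      MvPolynomial.aeval
        ![Polynomial.C (AdjoinRoot.root (Polynomial.X ^ 2 - Polynomial.C b)) * Polynomial.X, Polynomial.X]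
    RingHom.ker Ψ.toRingHom =
        Ideal.span {MvPolynomial.X 0 ^ 2 - MvPolynomial.C b * MvPolynomial.X 1 ^ 2} ∧
      ∀ G : Polynomial (AdjoinRoot (Polynomial.X ^ 2 - Polynomial.C b)),
        (∃ c : B, G.coeff 0 = algebraMap B (AdjoinRoot (Polynomial.X ^ 2 - Polynomial.C b)) c) →
          G ∈ Ψ.range := by
  show RingHom.ker (Psi b).toRingHom = Ideal.span {rel b} ∧
    ∀ G : Polynomial (AdjoinRoot (Polynomial.X ^ 2 - Polynomial.C b)),
      (∃ c : B, G.coeff 0 = algebraMap B (AdjoinRoot (Polynomial.X ^ 2 - Polynomial.C b)) c) →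
        G ∈ (Psi b).range
  have hle : Ideal.span {rel b} ≤ RingHom.ker (Psi b).toRingHom := by
    rw [Ideal.span_le, Set.singleton_subset_iff]
    exact Psi_rel b
  constructor
  · apply le_antisymm
    · intro F hF
      have hF' : Psi b F = 0 := hF
      obtain ⟨F₀, F₁, hmem⟩ := L2 b F
      have h1 : Psi b (F - (inc F₀ + MvPolynomial.X 0 * inc F₁)) = 0 := hle hmem
      rw [map_sub, hF', zero_sub, neg_eq_zero, map_add, map_mul, Psi_X0, Psi_inc, Psi_inc] at h1
      obtain ⟨rfl, rfl⟩ := L1 b F₀ F₁ h1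
      simpa using hmem
    · exact hle
  · rintro G ⟨c, hc⟩
    rw [Polynomial.as_sum_support G]
    apply Subalgebra.sum_mem
    intro n _
    cases n with
    | zero =>
      rw [hc]
      refine ⟨MvPolynomial.C c, ?_⟩
      show Psi b _ = _
      rw [Psi_C, Polynomial.monomial_zero_left, AdjoinRoot.algebraMap_eq]
    | succ m =>
      obtain ⟨c', d', hcd⟩ := L3 b (G.coeff (m + 1))
      refine ⟨MvPolynomial.C c' * MvPolynomial.X 1 ^ (m + 1) +
        MvPolynomial.C d' * MvPolynomial.X 0 * MvPolynomial.X 1 ^ m, ?_⟩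
      show Psi b _ = _
      rw [map_add, map_mul, map_mul, map_mul, map_pow, map_pow, Psi_C, Psi_C, Psi_X0, Psi_X1,
        hcd, ← Polynomial.C_mul_X_pow_eq_monomial, map_add, map_mul]
      ring

end Groth.Agent.S18121
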