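import Groth.Statements.S18122
import Mathlib
-- import your own Groth.Agent.* helpers here

set_option autoImplicit false
universe u
open Pinch

namespace Groth.Agent.S18122

theorem main (K : Type u) [Field K] [NeZero (2 : K)]
    (R : Subalgebra K (MvPolynomial (Fin 2) K))
    (hR : R = Algebra.adjoin K
      {MvPolynomial.X 0 ^ 2, MvPolynomial.X 0 * MvPolynomial.X 1, MvPolynomial.X 1})
    (δ : Derivation K R (MvPolynomial (Fin 2) K)) :
    ∃! D : Derivation K (MvPolynomial (Fin 2) K) (MvPolynomial (Fin 2) K),
        ∀ r : R, D (r : MvPolynomial (Fin 2) K) = δ r := by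
  classical
  have h2K : (2 : K) ≠ 0 := NeZero.ne 2
  set x : MvPolynomial (Fin 2) K := MvPolynomial.X 0 with hx
  set y : MvPolynomial (Fin 2) K := MvPolynomial.X 1 with hy
  have hx0 : x ≠ 0 := MvPolynomial.X_ne_zero 0
  have hy0 : y ≠ 0 := MvPolynomial.X_ne_zero 1
  have h2S : (2 : MvPolynomial (Fin 2) K) ≠ 0 := by
    have : (MvPolynomial.C (2 : K) : MvPolynomial (Fin 2) K) = 2 := map_ofNat MvPolynomial.C 2
    rw [← this]
    intro h
    exact h2K (MvPolynomial.C_injective _ _ (by rw [h, map_zero]))
  have hC2 : (2 : MvPolynomial (Fin 2) K) * MvPolynomial.C (2⁻¹ : K) = 1 := by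
    have : (MvPolynomial.C (2 : K) : MvPolynomial (Fin 2) K) = 2 := map_ofNat MvPolynomial.C 2
    rw [← this, ← map_mul, mul_inv_cancel₀ h2K, map_one]
  have hx2R : x ^ 2 ∈ R := by rw [hR]; exact Algebra.subset_adjoin (by simp)
  have hxyR : x * y ∈ R := by rw [hR]; exact Algebra.subset_adjoin (by simp)
  have hyR : y ∈ R := by rw [hR]; exact Algebra.subset_adjoin (by simp)
  set rx2 : R := ⟨x ^ 2, hx2R⟩ with hrx2
  set rxy : R := ⟨x * y, hxyR⟩ with hrxy
  set ry : R := ⟨y, hyR⟩ with hry
  set a := δ rx2 with ha
  set c := δ rxy with hc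
  set d := δ ry with hd
  have hrel : rxy ^ 2 = rx2 * ry ^ 2 := by
    apply Subtype.ext
    simp only [hrxy, hrx2, hry, Subalgebra.coe_pow, Subalgebra.coe_mul]
    ring
  have hδrel := congrArg δ hrel
  rw [Derivation.leibniz_pow, Derivation.leibniz, Derivation.leibniz_pow] at hδrel
  simp only [Subalgebra.smul_def] at hδrel
  simp only [Subalgebra.coe_pow, smul_eq_mul, hrxy, hrx2, hry, nsmul_eq_mul, Nat.cast_ofNat,
    Nat.add_one_sub_one, pow_one] at hδrel
  rw [← ha, ← hc, ← hd] at hδrel
  have h6 : y * (y * a) = y * (2 * x * (c - x * d)) := by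
    linear_combination (-1 : MvPolynomial (Fin 2) K) * hδrel
  have h7 : y * a = 2 * x * (c - x * d) := mul_left_cancel₀ hy0 h6
  have hxa : x ∣ a := by
    have hdvd : x ∣ y * a := ⟨2 * (c - x * d), by rw [h7]; ring⟩
    rcases MvPolynomial.X_dvd_mul_iff.mp hdvd with h | h
    · exfalso
      have := MvPolynomial.X_dvd_X.mp h
      exact absurd this (by decide)
    · exact h
  obtain ⟨a', ha'⟩ := hxa
  have h8 : y * a' = 2 * (c - x * d) := by
    apply mul_left_cancel₀ hx0
    rw [ha'] at h7
    linear_combination h7
  -- the extension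
  let D : Derivation K (MvPolynomial (Fin 2) K) (MvPolynomial (Fin 2) K) :=
    MvPolynomial.mkDerivation K ![MvPolynomial.C (2⁻¹ : K) * a', d]
  have hDx : D x = MvPolynomial.C (2⁻¹ : K) * a' := by
    simp [D, hx]
  have hDy : D y = d := by
    simp [D, hy]
  have hDa : D (x ^ 2) = a := by
    rw [Derivation.leibniz_pow, hDx, ha']
    simp only [smul_eq_mul, nsmul_eq_mul, Nat.cast_ofNat, Nat.add_one_sub_one, pow_one]
    linear_combination (x * a') * hC2
  have hDc : D (x * y) = c := by
    rw [Derivation.leibniz, hDx, hDy]
    simp only [smul_eq_mul]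
    have : c = x * d + MvPolynomial.C (2⁻¹ : K) * (y * a') := by
      rw [h8]
      linear_combination (-(c - x * d)) * hC2
    rw [this]; ring
  refine ⟨D, ?_, ?_⟩
  · have hext : D.compAlgebraMap R = δ := by
      apply Derivation.ext_of_adjoin_eq_top
        (((↑) : R → MvPolynomial (Fin 2) K) ⁻¹' {x ^ 2, x * y, y})
      · subst hR; exact Algebra.adjoin_adjoin_coe_preimage
      · intro r hr
        simp only [Set.mem_preimage, Set.mem_insert_iff, Set.mem_singleton_iff] at hr
        rcases hr with h | h | h
        · have : r = rx2 := Subtype.ext h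
          rw [this]; exact hDa
        · have : r = rxy := Subtype.ext h
          rw [this]; exact hDc
        · have : r = ry := Subtype.ext h
          rw [this]; exact hDy
    intro r
    exact DFunLike.congr_fun hext r
  · intro D' hD'
    apply MvPolynomial.derivation_ext
    intro i
    fin_cases i
    · show D' x = D x
      have h1 : D' (x ^ 2) = a := hD' rx2
      rw [Derivation.leibniz_pow] at h1
      simp only [smul_eq_mul, nsmul_eq_mul, Nat.cast_ofNat, Nat.add_one_sub_one, pow_one] at h1
      have h2 := hDa
      rw [Derivation.leibniz_pow] at h2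
      simp only [smul_eq_mul, nsmul_eq_mul, Nat.cast_ofNat, Nat.add_one_sub_one, pow_one] at h2
      have h3 : (2 * x) * D' x = (2 * x) * D x := by
        linear_combination h1 - h2
      exact mul_left_cancel₀ (mul_ne_zero h2S hx0) h3
    · show D' y = D y
      rw [hDy]; exact hD' ry


/-- Let K be a field in which 2 ≠ 0, S = K[x, y], and R ⊆ S the K-subalgebra generated by x^2, x y and
y; R is the coordinate ring of the pinch point u^2 = v^2 w (u = x y, v = y, w = x^2) and S is its
normalization. Then restriction along R ⊆ S is a bijection from the K-derivations S → S onto the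
K-derivations R → S: every K-derivation R → S extends uniquely to S. In sheaf terms, the natural
injective map from the tangent sheaf of the normalization to the dual of the pulled-back sheaf of
differentials of the pinch point is an isomorphism. (The text works over an algebraically closed
field of characteristic different from 2 and for every semi-smooth variety; only this model case is
stated, and the computation uses only 2 ≠ 0.) -/
theorem result
    (K : Type u) [Field K] [NeZero (2 : K)] :
    letI R : Subalgebra K (MvPolynomial (Fin 2) K) :=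
      Algebra.adjoin K {MvPolynomial.X 0 ^ 2, MvPolynomial.X 0 * MvPolynomial.X 1, MvPolynomial.X 1}
    ∀ δ : Derivation K R (MvPolynomial (Fin 2) K),
      ∃! D : Derivation K (MvPolynomial (Fin 2) K) (MvPolynomial (Fin 2) K),
        ∀ r : R, D (r : MvPolynomial (Fin 2) K) = δ r := by
  intro δ
  exact main K _ rfl δ

end Groth.Agent.S18122
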