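import Groth.Statements.S18123
import Mathlib
-- import your own Groth.Agent.* helpers here

set_option autoImplicit false
universe u
open Pinch

namespace Groth.Agent.S18123

section
variable (K : Type u) [Field K]

/-- evaluation at `y = 0`. -/
noncomputable def ev : MvPolynomial (Fin 2) K →ₐ[K] Polynomial K :=
  MvPolynomial.aeval ![Polynomial.X, 0]

/-- inclusion `K[x] → K[x,y]`. -/
noncomputable def inc : Polynomial K →ₐ[K] MvPolynomial (Fin 2) K :=
  Polynomial.aeval (MvPolynomial.X 0)

/-- the pinch subalgebra -/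
noncomputable def RR : Subalgebra K (MvPolynomial (Fin 2) K) :=
  Algebra.adjoin K {MvPolynomial.X 0 ^ 2, MvPolynomial.X 0 * MvPolynomial.X 1, MvPolynomial.X 1}

theorem ev_X0 : ev K (MvPolynomial.X 0) = Polynomial.X := by simp [ev]
theorem ev_X1 : ev K (MvPolynomial.X 1) = 0 := by simp [ev]

theorem x2_mem : (MvPolynomial.X 0 ^ 2 : MvPolynomial (Fin 2) K) ∈ RR K :=
  Algebra.subset_adjoin (by simp)
theorem xy_mem : (MvPolynomial.X 0 * MvPolynomial.X 1 : MvPolynomial (Fin 2) K) ∈ RR K :=
  Algebra.subset_adjoin (by simp)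
theorem y_mem : (MvPolynomial.X 1 : MvPolynomial (Fin 2) K) ∈ RR K :=
  Algebra.subset_adjoin (by simp)

theorem ymul_mem (P : MvPolynomial (Fin 2) K) :
    MvPolynomial.X 1 * P ∈ RR K ∧ MvPolynomial.X 0 * MvPolynomial.X 1 * P ∈ RR K := by
  induction P using MvPolynomial.induction_on with
  | C a =>
    refine ⟨?_, ?_⟩
    · exact (RR K).mul_mem (y_mem K) ((RR K).algebraMap_mem a)
    · exact (RR K).mul_mem (xy_mem K) ((RR K).algebraMap_mem a)
  | add P Q hP hQ =>
    refine ⟨?_, ?_⟩
    · rw [mul_add]; exact (RR K).add_mem hP.1 hQ.1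
    · rw [mul_add]; exact (RR K).add_mem hP.2 hQ.2
  | mul_X P i hP =>
    have hi : i = 0 ∨ i = 1 := by fin_cases i <;> simp
    rcases hi with rfl | rfl
    · refine ⟨?_, ?_⟩
      · have : (MvPolynomial.X 1 * (P * MvPolynomial.X 0) : MvPolynomial (Fin 2) K) =
            MvPolynomial.X 0 * MvPolynomial.X 1 * P := by ring
        show (MvPolynomial.X 1 * (P * MvPolynomial.X 0) : MvPolynomial (Fin 2) K) ∈ RR K
        rw [this]; exact hP.2
      · have : (MvPolynomial.X 0 * MvPolynomial.X 1 * (P * MvPolynomial.X 0) :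
            MvPolynomial (Fin 2) K) = MvPolynomial.X 0 ^ 2 * (MvPolynomial.X 1 * P) := by ring
        show (MvPolynomial.X 0 * MvPolynomial.X 1 * (P * MvPolynomial.X 0) :
            MvPolynomial (Fin 2) K) ∈ RR K
        rw [this]; exact (RR K).mul_mem (x2_mem K) hP.1
    · refine ⟨?_, ?_⟩
      · have : (MvPolynomial.X 1 * (P * MvPolynomial.X 1) : MvPolynomial (Fin 2) K) =
            (MvPolynomial.X 1 * P) * MvPolynomial.X 1 := by ring
        show (MvPolynomial.X 1 * (P * MvPolynomial.X 1) : MvPolynomial (Fin 2) K) ∈ RR K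
        rw [this]; exact (RR K).mul_mem hP.1 (y_mem K)
      · have : (MvPolynomial.X 0 * MvPolynomial.X 1 * (P * MvPolynomial.X 1) :
            MvPolynomial (Fin 2) K) = (MvPolynomial.X 0 * MvPolynomial.X 1 * P) *
              MvPolynomial.X 1 := by ring
        show (MvPolynomial.X 0 * MvPolynomial.X 1 * (P * MvPolynomial.X 1) :
            MvPolynomial (Fin 2) K) ∈ RR K
        rw [this]; exact (RR K).mul_mem hP.2 (y_mem K)

theorem decomp (P : MvPolynomial (Fin 2) K) :
    ∃ P₁ : MvPolynomial (Fin 2) K, P = MvPolynomial.X 1 * P₁ + inc K (ev K P) := by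
  induction P using MvPolynomial.induction_on with
  | C a =>
    refine ⟨0, ?_⟩
    simp [ev, inc, MvPolynomial.algebraMap_eq]
  | add P Q hP hQ =>
    obtain ⟨P₁, hP₁⟩ := hP
    obtain ⟨Q₁, hQ₁⟩ := hQ
    refine ⟨P₁ + Q₁, ?_⟩
    rw [map_add, map_add]
    linear_combination hP₁ + hQ₁
  | mul_X P i hP =>
    obtain ⟨P₁, hP₁⟩ := hP
    have hi : i = 0 ∨ i = 1 := by fin_cases i <;> simp
    rcases hi with rfl | rfl
    · refine ⟨P₁ * MvPolynomial.X 0, ?_⟩
      rw [map_mul, map_mul, ev_X0]
      have : inc K (Polynomial.X) = MvPolynomial.X 0 := by simp [inc]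
      rw [this]
      linear_combination (MvPolynomial.X 0) * hP₁
    · refine ⟨P, ?_⟩
      rw [map_mul, ev_X1, mul_zero, map_zero, add_zero, mul_comm]

theorem ev_mem_of_mem {r : MvPolynomial (Fin 2) K} (hr : r ∈ RR K) :
    ∃ q : Polynomial K, ev K r = Polynomial.expand K 2 q := by
  have h1 : ev K r ∈ (RR K).map (ev K) := ⟨r, hr, rfl⟩
  rw [RR, AlgHom.map_adjoin] at h1
  have h2 : Algebra.adjoin K ((ev K) '' {MvPolynomial.X 0 ^ 2, MvPolynomial.X 0 * MvPolynomial.X 1,
      MvPolynomial.X 1}) ≤ (Polynomial.expand K 2).range := by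
    apply Algebra.adjoin_le
    rintro _ ⟨z, hz, rfl⟩
    simp only [Set.mem_insert_iff, Set.mem_singleton_iff] at hz
    rcases hz with rfl | rfl | rfl
    · refine ⟨Polynomial.X, ?_⟩
      show Polynomial.expand K 2 Polynomial.X = _
      rw [map_pow, ev_X0, Polynomial.expand_X]
    · refine ⟨0, ?_⟩
      show Polynomial.expand K 2 0 = _
      rw [map_mul, ev_X1, mul_zero, map_zero]
    · refine ⟨0, ?_⟩
      show Polynomial.expand K 2 0 = _
      rw [ev_X1, map_zero]
  obtain ⟨q, hq⟩ := h2 h1
  exact ⟨q, hq.symm⟩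

theorem aeval_x2_mem (q : Polynomial K) :
    Polynomial.aeval (MvPolynomial.X 0 ^ 2 : MvPolynomial (Fin 2) K) q ∈ RR K := by
  induction q using Polynomial.induction_on' with
  | add p q hp hq => rw [map_add]; exact (RR K).add_mem hp hq
  | monomial n a =>
    rw [Polynomial.aeval_monomial]
    exact (RR K).mul_mem ((RR K).algebraMap_mem a) ((RR K).pow_mem (x2_mem K) n)

theorem E2 (q q' : Polynomial K)
    (h : Polynomial.X * Polynomial.expand K 2 q = Polynomial.expand K 2 q') : q = 0 := by
  ext m
  have h1 := congrArg (fun f => Polynomial.coeff f (2 * m + 1)) h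
  simp only [Polynomial.coeff_X_mul] at h1
  rw [Polynomial.coeff_expand_mul' (by norm_num), Polynomial.coeff_expand (by norm_num)] at h1
  rw [if_neg (by omega)] at h1
  rw [h1, Polynomial.coeff_zero]

theorem E1 (h2 : (2 : K) ≠ 0) (u q : Polynomial K)
    (h : 2 * Polynomial.X * u = Polynomial.expand K 2 q) :
    ∃ p : Polynomial K, u = Polynomial.X * Polynomial.expand K 2 p := by
  have hev : ∀ n, ¬ 2 ∣ n + 1 → u.coeff n = 0 := by
    intro n hn
    have h1 : (2 * Polynomial.X * u).coeff (n + 1) = (Polynomial.expand K 2 q).coeff (n + 1) := by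
      rw [h]
    rw [Polynomial.coeff_expand (by norm_num), if_neg hn] at h1
    have h3 : (2 * Polynomial.X * u : Polynomial K) = Polynomial.C 2 * (Polynomial.X * u) := by
      rw [mul_assoc]; congr 1
    rw [h3, Polynomial.coeff_C_mul, Polynomial.coeff_X_mul] at h1
    exact (mul_eq_zero.mp h1).resolve_left h2
  refine ⟨Polynomial.contract 2 (Polynomial.divX u), ?_⟩
  ext n
  cases n with
  | zero =>
    rw [Polynomial.coeff_X_mul_zero]
    exact hev 0 (by norm_num)
  | succ m =>
    rw [Polynomial.coeff_X_mul, Polynomial.coeff_expand (by norm_num)]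
    split_ifs with hm
    · rw [Polynomial.coeff_contract (by norm_num), Polynomial.coeff_divX,
        Nat.div_mul_cancel hm]
    · exact hev (m + 1) (by omega)

end


/-- Let K be a field in which 2 ≠ 0, S = K[x, y], and R ⊆ S the K-subalgebra generated by x^2, x y, y,
the coordinate ring of the pinch point with normalization S, obtained by gluing the plane along the
line y = 0 via x ↦ -x. A K-derivation D of S maps R into R if and only if D(y) is a multiple of y
and D(x) = y s + x p(x^2) for some s in S and some polynomial p in one variable. Every K-derivation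
R → S extends uniquely to S, and under this identification the derivations mapping R into R form the
image of the tangent sheaf of the pinch point in that of its normalization; so this image contains y
times all derivations of S, and modulo those it is spanned by the odd multiples x^(2k+1) ∂/∂x, the
part of the tangent sheaf of the line y = 0 invariant under x ↦ -x. (The text works over an
algebraically closed field of characteristic different from 2; the computation uses only 2 ≠ 0.) -/
theorem result
    (K : Type u) [Field K] [NeZero (2 : K)]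
    (D : Derivation K (MvPolynomial (Fin 2) K) (MvPolynomial (Fin 2) K)) :
    letI x : MvPolynomial (Fin 2) K := MvPolynomial.X 0
    letI y : MvPolynomial (Fin 2) K := MvPolynomial.X 1
    letI R : Subalgebra K (MvPolynomial (Fin 2) K) := Algebra.adjoin K {x ^ 2, x * y, y}
    (∀ r ∈ R, D r ∈ R) ↔
      (D y ∈ Ideal.span {y} ∧
        ∃ (s : MvPolynomial (Fin 2) K) (p : Polynomial K), D x = y * s + x * Polynomial.aeval (x ^ 2) p) := by
  have h2K : (2 : K) ≠ 0 := NeZero.ne 2
  show (∀ r ∈ RR K, D r ∈ RR K) ↔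
    (D (MvPolynomial.X 1) ∈ Ideal.span {(MvPolynomial.X 1 : MvPolynomial (Fin 2) K)} ∧
      ∃ (s : MvPolynomial (Fin 2) K) (p : Polynomial K),
        D (MvPolynomial.X 0) = MvPolynomial.X 1 * s +
          MvPolynomial.X 0 * Polynomial.aeval (MvPolynomial.X 0 ^ 2 : MvPolynomial (Fin 2) K) p)
  constructor
  · intro hD
    obtain ⟨s, hs⟩ := decomp K (D (MvPolynomial.X 0))
    obtain ⟨t, ht⟩ := decomp K (D (MvPolynomial.X 1))
    set u := ev K (D (MvPolynomial.X 0)) with hu
    set w := ev K (D (MvPolynomial.X 1)) with hw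
    have hDx2 : D (MvPolynomial.X 0 ^ 2) = 2 * MvPolynomial.X 0 * D (MvPolynomial.X 0) := by
      rw [Derivation.leibniz_pow]
      simp only [smul_eq_mul, nsmul_eq_mul, Nat.cast_ofNat, Nat.add_one_sub_one, pow_one]
      ring
    obtain ⟨q₁, hq₁⟩ := ev_mem_of_mem K (hD _ (x2_mem K))
    rw [hDx2, map_mul, map_mul, ev_X0, map_ofNat, ← hu] at hq₁
    obtain ⟨p, hp⟩ := E1 K h2K u q₁ hq₁
    obtain ⟨q₂, hq₂⟩ := ev_mem_of_mem K (hD _ (y_mem K))
    have hDxy : D (MvPolynomial.X 0 * MvPolynomial.X 1) =
        MvPolynomial.X 0 * D (MvPolynomial.X 1) + MvPolynomial.X 1 * D (MvPolynomial.X 0) := by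
      rw [Derivation.leibniz]
      simp only [smul_eq_mul]
    obtain ⟨q₃, hq₃⟩ := ev_mem_of_mem K (hD _ (xy_mem K))
    rw [hDxy, map_add, map_mul, map_mul, ev_X0, ev_X1, zero_mul, add_zero, hq₂] at hq₃
    have hq20 := E2 K q₂ q₃ hq₃
    have hw0 : w = 0 := by rw [hw, hq₂, hq20, map_zero]
    refine ⟨?_, s, p, ?_⟩
    · rw [Ideal.mem_span_singleton]
      refine ⟨t, ?_⟩
      rw [hw0, map_zero, add_zero] at ht
      exact ht
    · rw [hs, hp, map_mul]
      congr 1
      have h1 : inc K Polynomial.X = MvPolynomial.X 0 := by simp [inc]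
      rw [h1]
      congr 1
      exact Polynomial.expand_aeval 2 p (MvPolynomial.X 0)
  · rintro ⟨hy, s, p, hx⟩
    rw [Ideal.mem_span_singleton] at hy
    obtain ⟨t, ht⟩ := hy
    intro r hr
    change r ∈ Algebra.adjoin K _ at hr
    induction hr using Algebra.adjoin_induction with
    | mem z hz =>
      simp only [Set.mem_insert_iff, Set.mem_singleton_iff] at hz
      rcases hz with rfl | rfl | rfl
      · rw [Derivation.leibniz_pow, hx]
        simp only [smul_eq_mul, nsmul_eq_mul, Nat.cast_ofNat, Nat.add_one_sub_one, pow_one]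
        have : (2 * (MvPolynomial.X 0 * (MvPolynomial.X 1 * s + MvPolynomial.X 0 *
            Polynomial.aeval (MvPolynomial.X 0 ^ 2 : MvPolynomial (Fin 2) K) p)) :
            MvPolynomial (Fin 2) K) =
            MvPolynomial.X 1 * (2 * MvPolynomial.X 0 * s) +
            (MvPolynomial.X 0 ^ 2 * Polynomial.aeval (MvPolynomial.X 0 ^ 2 :
              MvPolynomial (Fin 2) K) p +
             MvPolynomial.X 0 ^ 2 * Polynomial.aeval (MvPolynomial.X 0 ^ 2 :
              MvPolynomial (Fin 2) K) p) := by ring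
        rw [this]
        refine (RR K).add_mem (ymul_mem K _).1 ((RR K).add_mem ?_ ?_)
        · exact (RR K).mul_mem (x2_mem K) (aeval_x2_mem K p)
        · exact (RR K).mul_mem (x2_mem K) (aeval_x2_mem K p)
      · rw [Derivation.leibniz, ht]
        simp only [smul_eq_mul]
        have : (MvPolynomial.X 0 * (MvPolynomial.X 1 * t) + MvPolynomial.X 1 * D (MvPolynomial.X 0) :
            MvPolynomial (Fin 2) K) =
            MvPolynomial.X 1 * (MvPolynomial.X 0 * t + D (MvPolynomial.X 0)) := by ring
        rw [this]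
        exact (ymul_mem K _).1
      · rw [ht]
        exact (ymul_mem K _).1
    | algebraMap a =>
      rw [Derivation.map_algebraMap]
      exact (RR K).zero_mem
    | add a b ha hb iha ihb =>
      rw [map_add]
      exact (RR K).add_mem iha ihb
    | mul a b ha hb iha ihb =>
      rw [Derivation.leibniz]
      simp only [smul_eq_mul]
      exact (RR K).add_mem ((RR K).mul_mem ha ihb) ((RR K).mul_mem hb iha)

end Groth.Agent.S18123
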