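import Groth.Statements.S18125
import Mathlib
-- import your own Groth.Agent.* helpers here

set_option autoImplicit false
universe u
open Pinch

namespace Groth.Agent.S18125

/-- Let K be a field in which 2 ≠ 0, n ≥ 0, S = K[u, v, w, t_1, …, t_n] (u, v, w the first three
variables), h = u^2 - v^2 w the equation of the pinch-point model, and Jac the ideal generated by h
and its three partial derivatives 2u, -2vw, -v^2, which cuts out the scheme-theoretic singular locus
of {h = 0}. Then the ideal (u, v) of the double locus is Jac + (v), and the colon ideal of Jac by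
(v) is (u, v, w). Consequently (u, v)/Jac, the ideal of the double locus restricted to the singular
locus, is an invertible sheaf on the pinch locus u = v = w = 0: it is free of rank one over K[t_1,
…, t_n] on the class of v. (The text states this for every semi-smooth variety and reduces to this
model; K algebraically closed is not needed for the model computation.) -/
theorem result
    (K : Type u) [Field K] [NeZero (2 : K)] (n : ℕ) :
    letI u : MvPolynomial (Fin (n + 3)) K := MvPolynomial.X 0
    letI v : MvPolynomial (Fin (n + 3)) K := MvPolynomial.X 1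
    letI w : MvPolynomial (Fin (n + 3)) K := MvPolynomial.X 2
    letI Jac : Ideal (MvPolynomial (Fin (n + 3)) K) :=
      Ideal.span {u ^ 2 - v ^ 2 * w, 2 * u, -(2 * v * w), -(v ^ 2)}
    Ideal.span {u, v} = Jac ⊔ Ideal.span {v} ∧ Jac.colon (Ideal.span {v}) = Ideal.span {u, v, w} := by
  classical
  set u : MvPolynomial (Fin (n + 3)) K := MvPolynomial.X 0 with hu_def
  set v : MvPolynomial (Fin (n + 3)) K := MvPolynomial.X 1 with hv_def
  set w : MvPolynomial (Fin (n + 3)) K := MvPolynomial.X 2 with hw_def
  set Jac : Ideal (MvPolynomial (Fin (n + 3)) K) :=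
      Ideal.span {u ^ 2 - v ^ 2 * w, 2 * u, -(2 * v * w), -(v ^ 2)} with hJac
  have h2 : (2 : K) ≠ 0 := NeZero.ne 2
  have h2u : 2 * u ∈ Jac := Ideal.subset_span (by simp)
  have h2vw : -(2 * v * w) ∈ Jac := Ideal.subset_span (by simp)
  have hvv : -(v ^ 2) ∈ Jac := Ideal.subset_span (by simp)
  have hC : (MvPolynomial.C (2⁻¹ : K) : MvPolynomial (Fin (n + 3)) K) * 2 = 1 := by
    have : (2 : MvPolynomial (Fin (n + 3)) K) = MvPolynomial.C (2 : K) :=
      (map_ofNat (MvPolynomial.C (σ := Fin (n + 3)) (R := K)) 2).symm
    rw [this, ← MvPolynomial.C_mul, inv_mul_cancel₀ h2, MvPolynomial.C_1]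
  have huJ : u ∈ Jac := by
    have : u = MvPolynomial.C (2⁻¹ : K) * (2 * u) := by
      rw [← mul_assoc, hC, one_mul]
    rw [this]; exact Ideal.mul_mem_left _ _ h2u
  have hvwJ : v * w ∈ Jac := by
    have : v * w = -MvPolynomial.C (2⁻¹ : K) * (-(2 * v * w)) := by
      have : -MvPolynomial.C (2⁻¹ : K) * (-(2 * v * w)) = (MvPolynomial.C (2⁻¹ : K) * 2) * (v * w) := by
        ring
      rw [this, hC, one_mul]
    rw [this]; exact Ideal.mul_mem_left _ _ h2vw
  have hvvJ : v * v ∈ Jac := by
    have : v * v = -(-(v ^ 2)) := by ring
    rw [this]; exact Ideal.neg_mem_iff _ |>.mpr hvv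
  refine ⟨?_, ?_⟩
  · apply le_antisymm
    · rw [Ideal.span_le]
      intro x hx
      rcases hx with rfl | rfl
      · exact Ideal.mem_sup_left huJ
      · exact Ideal.mem_sup_right (Ideal.subset_span rfl)
    · have hu' : u ∈ Ideal.span {u, v} := Ideal.subset_span (by simp)
      have hv' : v ∈ Ideal.span {u, v} := Ideal.subset_span (by simp)
      refine sup_le ?_ ?_
      · rw [Ideal.span_le]
        intro x hx
        rcases hx with rfl | rfl | rfl | rfl
        · have : u ^ 2 - v ^ 2 * w = u * u - (v * w) * v := by ring
          rw [this]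
          exact Ideal.sub_mem _ (Ideal.mul_mem_left _ _ hu') (Ideal.mul_mem_left _ _ hv')
        · exact Ideal.mul_mem_left _ _ hu'
        · have : -(2 * v * w) = (-(2 * w)) * v := by ring
          rw [this]; exact Ideal.mul_mem_left _ _ hv'
        · have : -(v ^ 2) = (-v) * v := by ring
          rw [this]; exact Ideal.mul_mem_left _ _ hv'
      · rw [Ideal.span_le]
        intro x hx
        rcases hx with rfl
        exact hv'
  · apply le_antisymm
    · intro r hr
      rw [Ideal.mem_colon_span_singleton] at hr
      -- monomial ideal containing Jac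
      let e0 : Fin (n + 3) →₀ ℕ := Finsupp.single 0 1
      let e1 : Fin (n + 3) →₀ ℕ := Finsupp.single 1 1
      let e2 : Fin (n + 3) →₀ ℕ := Finsupp.single 2 1
      let T : Set (Fin (n + 3) →₀ ℕ) := {e0, e1 + e2, e1 + e1}
      let J' : Ideal (MvPolynomial (Fin (n + 3)) K) :=
        Ideal.span ((fun s => MvPolynomial.monomial s (1 : K)) '' T)
      have hu' : u ∈ J' := Ideal.subset_span ⟨e0, by simp [T], rfl⟩
      have hvw' : v * w ∈ J' := by
        refine Ideal.subset_span ⟨e1 + e2, by simp [T], ?_⟩
        show MvPolynomial.monomial (e1 + e2) (1 : K) = MvPolynomial.X 1 * MvPolynomial.X 2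
        rw [MvPolynomial.X, MvPolynomial.X, MvPolynomial.monomial_mul, one_mul]
      have hvv' : v * v ∈ J' := by
        refine Ideal.subset_span ⟨e1 + e1, by simp [T], ?_⟩
        show MvPolynomial.monomial (e1 + e1) (1 : K) = MvPolynomial.X 1 * MvPolynomial.X 1
        rw [MvPolynomial.X, MvPolynomial.monomial_mul, one_mul]
      have hJJ' : Jac ≤ J' := by
        rw [Ideal.span_le]
        intro x hx
        rcases hx with rfl | rfl | rfl | rfl
        · have : u ^ 2 - v ^ 2 * w = u * u - v * (v * w) := by ring
          rw [this]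
          exact Ideal.sub_mem _ (Ideal.mul_mem_left _ _ hu') (Ideal.mul_mem_left _ _ hvw')
        · exact Ideal.mul_mem_left _ _ hu'
        · have : -(2 * v * w) = (-2) * (v * w) := by ring
          rw [this]; exact Ideal.mul_mem_left _ _ hvw'
        · have : -(v ^ 2) = (-1) * (v * v) := by ring
          rw [this]; exact Ideal.mul_mem_left _ _ hvv'
      have hr' := hJJ' hr
      rw [MvPolynomial.mem_ideal_span_monomial_image] at hr'
      have h01 : (0 : Fin (n + 3)) ≠ 1 := by simp
      have h02 : (0 : Fin (n + 3)) ≠ 2 := by
        rw [Ne, Fin.ext_iff, Fin.val_two, Fin.val_zero]; omega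
      have h12 : (1 : Fin (n + 3)) ≠ 2 := by
        rw [Ne, Fin.ext_iff, Fin.val_two, Fin.val_one]; omega
      have key : r ∈ Ideal.span (MvPolynomial.X '' ({0, 1, 2} : Set (Fin (n + 3))) :
          Set (MvPolynomial (Fin (n + 3)) K)) := by
        rw [MvPolynomial.mem_ideal_span_X_image]
        intro m hm
        have hm' : m + e1 ∈ (r * v).support := by
          rw [MvPolynomial.support_mul_X]
          exact Finset.mem_map.mpr ⟨m, hm, rfl⟩
        obtain ⟨s, hs, hle⟩ := hr' _ hm'
        rcases hs with rfl | rfl | rfl
        · refine ⟨0, by simp, ?_⟩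
          have := hle 0
          have ha : e0 0 = 1 := Finsupp.single_eq_same
          have hb : e1 0 = 0 := by simp [e1, Finsupp.single_apply, h01.symm]
          rw [Finsupp.add_apply, ha, hb] at this
          omega
        · refine ⟨2, by simp, ?_⟩
          have := hle 2
          have ha : e2 2 = 1 := Finsupp.single_eq_same
          have hb : e1 2 = 0 := by simp [e1, Finsupp.single_apply, h12]
          rw [Finsupp.add_apply, Finsupp.add_apply, ha, hb] at this
          omega
        · refine ⟨1, by simp, ?_⟩
          have := hle 1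
          have ha : e1 1 = 1 := Finsupp.single_eq_same
          rw [Finsupp.add_apply, Finsupp.add_apply, ha] at this
          omega
      have himg : (MvPolynomial.X '' ({0, 1, 2} : Set (Fin (n + 3))) :
          Set (MvPolynomial (Fin (n + 3)) K)) = {u, v, w} := by
        simp [Set.image_insert_eq, u, v, w]
      rwa [himg] at key
    · rw [Ideal.span_le]
      intro x hx
      rcases hx with rfl | rfl | rfl
      · show u ∈ Jac.colon _
        rw [Ideal.mem_colon_span_singleton]
        exact Ideal.mul_mem_right _ _ huJ
      · show v ∈ Jac.colon _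
        rw [Ideal.mem_colon_span_singleton]
        exact hvvJ
      · show w ∈ Jac.colon _
        rw [Ideal.mem_colon_span_singleton]
        rw [mul_comm]; exact hvwJ

end Groth.Agent.S18125
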