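import Groth.Statements.S18127
import Mathlib
-- import your own Groth.Agent.* helpers here

set_option autoImplicit false
universe u
open LocAlg

namespace Groth.Agent.S18127

/-- Over a field: a matrix of rank `≤ r` admits an invertible `Q` and a set `S` of at least
`n - r` columns such that the columns of `A * Q` indexed by `S` vanish. -/
theorem exists_adapted {k : Type u} [Field k] {n : ℕ} (A : Matrix (Fin n) (Fin n) k) (r : ℕ)
    (hr : A.rank ≤ r) :
    ∃ (Q : Matrix (Fin n) (Fin n) k) (S : Finset (Fin n)), IsUnit Q.det ∧ n - r ≤ S.card ∧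
      ∀ j ∈ S, ∀ i, (A * Q) i j = 0 := by
  classical
  set f := A.mulVecLin with hf
  set K := LinearMap.ker f with hK
  obtain ⟨C, hC⟩ := Submodule.exists_isCompl K
  set d := Module.finrank k K with hd
  set e := Module.finrank k C with he
  have bK : Module.Basis (Fin d) k K := Module.finBasis k K
  have bC : Module.Basis (Fin e) k C := Module.finBasis k C
  let bV : Module.Basis (Fin d ⊕ Fin e) k (Fin n → k) :=
    (bK.prod bC).map (Submodule.prodEquivOfIsCompl K C hC)
  have hcard : Fintype.card (Fin d ⊕ Fin e) = Fintype.card (Fin n) := by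
    rw [← Module.finrank_eq_card_basis bV, ← Module.finrank_eq_card_basis (Pi.basisFun k (Fin n))]
  let σ : Fin d ⊕ Fin e ≃ Fin n := Fintype.equivOfCardEq hcard
  let b : Module.Basis (Fin n) k (Fin n → k) := bV.reindex σ
  refine ⟨(Pi.basisFun k (Fin n)).toMatrix b, Finset.univ.image (fun i : Fin d => σ (Sum.inl i)),
    ?_, ?_, ?_⟩
  · have h1 := Module.Basis.toMatrix_mul_toMatrix_flip (Pi.basisFun k (Fin n)) b
    exact Matrix.isUnit_det_of_right_inverse h1
  · rw [Finset.card_image_of_injective _
      (fun i j hij => Sum.inl_injective (σ.injective hij)), Finset.card_univ, Fintype.card_fin]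
    have h2 := LinearMap.finrank_range_add_finrank_ker f
    have h3 : Module.finrank k (LinearMap.range f) = A.rank := rfl
    rw [Module.finrank_fintype_fun_eq_card, Fintype.card_fin] at h2
    have h4 : Module.finrank k (LinearMap.ker f) = d := rfl
    rw [h3, h4] at h2
    omega
  · intro j hj i
    obtain ⟨i0, -, rfl⟩ := Finset.mem_image.mp hj
    have hbj : b (σ (Sum.inl i0)) = ((bK i0 : K) : Fin n → k) := by
      simp [b, bV]
    have hker : f (b (σ (Sum.inl i0))) = 0 := by
      rw [hbj]; exact (bK i0).2
    have : (A * (Pi.basisFun k (Fin n)).toMatrix b) i (σ (Sum.inl i0)) =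
        (f (b (σ (Sum.inl i0)))) i := by
      simp [hf, Matrix.mul_apply, Matrix.mulVec, dotProduct, Module.Basis.toMatrix_apply]
    rw [this, hker]; rfl

/-- Let R be a local ring with maximal ideal m and algebraically closed residue field, and M an n × n
matrix over R whose reduction modulo m has rank at most r. Then the determinant of M lies in m^(n −
r). (The published setting is the local ring of germs of holomorphic functions at a point of a
complex manifold, where this says that the determinant vanishes to order at least n − r at a point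
where the matrix has rank at most r.) -/
theorem result
    {R : Type u} [CommRing R] [IsLocalRing R] [IsAlgClosed (IsLocalRing.ResidueField R)]
    {n : ℕ} (M : Matrix (Fin n) (Fin n) R) (r : ℕ)
    (hr : (M.map (IsLocalRing.residue R)).rank ≤ r) :
    M.det ∈ IsLocalRing.maximalIdeal R ^ (n - r) := by
  classical
  obtain ⟨Qb, S, hQb, hS, hcol⟩ := exists_adapted _ r hr
  -- lift Qb
  have hsurj := IsLocalRing.residue_surjective (R := R)
  choose g hg using hsurj
  let Q : Matrix (Fin n) (Fin n) R := Matrix.of fun i j => g (Qb i j)
  have hQmap : Q.map (IsLocalRing.residue R) = Qb := by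
    ext i j; simp [Q, hg]
  have hdetQ : IsUnit Q.det := by
    have h1 : IsLocalRing.residue R Q.det = Qb.det := by
      rw [RingHom.map_det, RingHom.mapMatrix_apply, hQmap]
    by_contra hnu
    have h2 : Q.det ∈ IsLocalRing.maximalIdeal R := (IsLocalRing.mem_maximalIdeal _).mpr hnu
    have h3 : IsLocalRing.residue R Q.det = 0 := (IsLocalRing.residue_eq_zero_iff _).mpr h2
    rw [h1] at h3
    exact hQb.ne_zero h3
  have hcolR : ∀ j ∈ S, ∀ i, (M * Q) i j ∈ IsLocalRing.maximalIdeal R := by
    intro j hj i
    rw [← IsLocalRing.residue_eq_zero_iff]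
    have := hcol j hj i
    rw [← hQmap, ← Matrix.map_mul] at this
    simpa using this
  have hdet : (M * Q).det ∈ IsLocalRing.maximalIdeal R ^ (n - r) := by
    rw [Matrix.det_apply']
    refine Ideal.sum_mem _ fun τ _ => Ideal.mul_mem_left _ _ ?_
    apply Ideal.pow_le_pow_right hS
    rw [← Finset.prod_mul_prod_compl S]
    refine Ideal.mul_mem_right _ _ ?_
    have := Ideal.prod_mem_prod (s := S) (I := fun _ => IsLocalRing.maximalIdeal R)
      (x := fun i => (M * Q) (τ i) i) (fun j hj => hcolR j hj _)
    rwa [Finset.prod_const] at this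
  rw [Matrix.det_mul] at hdet
  exact (Ideal.mul_unit_mem_iff_mem _ hdetQ).mp hdet

end Groth.Agent.S18127
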