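import Groth.Statements.S18136
import Mathlib


set_option autoImplicit false
universe u v
open IsLocalRing
open CAlg

namespace Groth.Agent.S18136

set_option linter.style.haveILetI false
set_option linter.unusedSectionVars false

open IsLocalRing

/-- linear independence in the cotangent space in elementary terms. -/
theorem linInd_iff {A : Type u} [CommRing A] [IsLocalRing A] {κ : Type} [Fintype κ]
    (v : κ → maximalIdeal A) :
    LinearIndependent (ResidueField A) (⇑(maximalIdeal A).toCotangent ∘ v) ↔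
      ∀ b : κ → A, (∑ i, b i * (v i : A)) ∈ (maximalIdeal A) ^ 2 → ∀ i, b i ∈ maximalIdeal A := by
  have key : ∀ b : κ → A, (∑ i, residue A (b i) • (⇑(maximalIdeal A).toCotangent ∘ v) i = 0) ↔
      (∑ i, b i * (v i : A)) ∈ (maximalIdeal A) ^ 2 := by
    intro b
    have e : ∑ i, residue A (b i) • (⇑(maximalIdeal A).toCotangent ∘ v) i =
        (maximalIdeal A).toCotangent (∑ i, b i • v i) := by
      rw [map_sum]
      apply Finset.sum_congr rfl
      intro i _
      rw [map_smul, Function.comp_apply]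
      exact algebraMap_smul (ResidueField A) (b i) ((maximalIdeal A).toCotangent (v i))
    rw [e, Ideal.toCotangent_eq_zero]
    have e2 : ((∑ i, b i • v i : maximalIdeal A) : A) = ∑ i, b i * (v i : A) := by
      rw [Submodule.coe_sum]
      rfl
    rw [e2]
  rw [Fintype.linearIndependent_iff]
  constructor
  · intro h b hb i
    have := h (fun i => residue A (b i)) ((key b).mpr hb) i
    exact (residue_eq_zero_iff _).mp this
  · intro h a ha i
    choose b hb using fun i => residue_surjective (R := A) (a i)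
    have ha' : ∑ i, residue A (b i) • (⇑(maximalIdeal A).toCotangent ∘ v) i = 0 := by
      simp only [hb]
      exact ha
    have := h b ((key b).mp ha') i
    rw [← hb i]
    exact (residue_eq_zero_iff _).mpr this

theorem mem_max_of_map {B A : Type u} [CommRing B] [CommRing A] [IsLocalRing B] [IsLocalRing A]
    (ψ : B →+* A) {x : B} (hx : ψ x ∈ maximalIdeal A) : x ∈ maximalIdeal B := by
  rw [mem_maximalIdeal, mem_nonunits_iff] at hx ⊢
  intro hu
  exact hx (hu.map ψ)

theorem map_mem_max {B A : Type u} [CommRing B] [CommRing A] [IsLocalRing B] [IsLocalRing A]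
    (φ : B →+* A) [IsLocalHom φ] {x : B} (hx : x ∈ maximalIdeal B) : φ x ∈ maximalIdeal A := by
  rw [mem_maximalIdeal, mem_nonunits_iff] at hx ⊢
  intro hu
  exact hx (isUnit_of_map_unit φ x hu)

theorem map_sq_le {B A : Type u} [CommRing B] [CommRing A] [IsLocalRing B] [IsLocalRing A]
    (ψ : B →+* A) (hψ : ∀ x, x ∈ maximalIdeal B → ψ x ∈ maximalIdeal A) {x : B}
    (hx : x ∈ (maximalIdeal B) ^ 2) : ψ x ∈ (maximalIdeal A) ^ 2 := by
  have h1 : Ideal.map ψ (maximalIdeal B) ≤ maximalIdeal A := by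
    rw [Ideal.map_le_iff_le_comap]
    intro y hy
    exact hψ y hy
  have h2 : Ideal.map ψ ((maximalIdeal B) ^ 2) ≤ (maximalIdeal A) ^ 2 := by
    rw [Ideal.map_pow]
    exact Ideal.pow_right_mono h1 2
  exact h2 (Ideal.mem_map_of_mem ψ hx)

theorem main
    {A : Type u} [CommRing A] [IsRegularLocalRing A]
    {ι : Type v} [Preorder ι] [Nonempty ι] [IsDirected ι (· ≤ ·)]
    (B : ι → Type u) [∀ j, CommRing (B j)] [∀ j, IsRegularLocalRing (B j)]
    (φ : ∀ i j, i ≤ j → (B i →+* B j)) (hφloc : ∀ i j (h : i ≤ j), IsLocalHom (φ i j h))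
    (hφ : ∀ i j l (hij : i ≤ j) (hjl : j ≤ l), (φ j l hjl).comp (φ i j hij) = φ i l (hij.trans hjl))
    (ψ : ∀ j, B j →+* A) (hψ : ∀ i j (h : i ≤ j), (ψ j).comp (φ i j h) = ψ i)
    (hsurj : ∀ a : A, ∃ j, ∃ x : B j, ψ j x = a)
    (hker : ∀ j (x : B j), ψ j x = 0 → ∃ l, ∃ h : j ≤ l, φ j l h x = 0)
    (c d : ℕ) (f : Fin c → maximalIdeal A) (g : Fin d → maximalIdeal A)
    (hind : LinearIndependent (ResidueField A) (⇑(maximalIdeal A).toCotangent ∘ Sum.elim f g)) :
    ∃ j₀ : ι, ∃ (P : ∀ j, j₀ ≤ j → Ideal (B j)) (Q : ∀ j, j₀ ≤ j → Ideal (B j)),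
      (∀ j (hj : j₀ ≤ j), ∃ (F : Fin c → maximalIdeal (B j)) (E : Fin d → maximalIdeal (B j)),
        LinearIndependent (ResidueField (B j)) (⇑(maximalIdeal (B j)).toCotangent ∘ Sum.elim F E) ∧
        P j hj = Ideal.span (Set.range (fun s => (F s : B j))) ∧
        Q j hj = P j hj ⊔ Ideal.span (Set.range (fun t => (E t : B j)))) ∧
      (∀ i j (hi : j₀ ≤ i) (hij : i ≤ j),
        (P i hi).map (φ i j hij) = P j (le_trans hi hij) ∧ (Q i hi).map (φ i j hij) = Q j (le_trans hi hij)) ∧
      (∀ j (hj : j₀ ≤ j),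
        (P j hj).map (ψ j) = Ideal.span (Set.range (fun s => (f s : A))) ∧
        (Q j hj).map (ψ j) = Ideal.span (Set.range (fun s => (f s : A))) ⊔ Ideal.span (Set.range (fun t => (g t : A)))) := by
  classical
  -- a common stage for finitely many elements
  have hstage : ∀ (n : ℕ) (a : Fin n → A), ∃ j, ∃ x : Fin n → B j, ∀ s, ψ j (x s) = a s := by
    intro n a
    choose js xs hxs using fun s => hsurj (a s)
    obtain ⟨j, hj⟩ := Finset.exists_le (Finset.univ.image js)
    have hle : ∀ s, js s ≤ j := fun s => hj _ (Finset.mem_image_of_mem _ (Finset.mem_univ s))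
    refine ⟨j, fun s => φ (js s) j (hle s) (xs s), ?_⟩
    intro s
    have := RingHom.congr_fun (hψ (js s) j (hle s)) (xs s)
    rw [RingHom.comp_apply] at this
    rw [this, hxs]
  obtain ⟨j1, F1, hF1⟩ := hstage c (fun s => (f s : A))
  obtain ⟨j2, E2, hE2⟩ := hstage d (fun t => (g t : A))
  obtain ⟨j₀, h1, h2⟩ := exists_ge_ge j1 j2
  have hψφ : ∀ i j (h : i ≤ j) (x : B i), ψ j (φ i j h x) = ψ i x := by
    intro i j h x
    have := RingHom.congr_fun (hψ i j h) x
    rwa [RingHom.comp_apply] at this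
  have hφφ : ∀ i j l (hij : i ≤ j) (hjl : j ≤ l) (x : B i),
      φ j l hjl (φ i j hij x) = φ i l (hij.trans hjl) x := by
    intro i j l hij hjl x
    have := RingHom.congr_fun (hφ i j l hij hjl) x
    rwa [RingHom.comp_apply] at this
  obtain ⟨F0, hF0⟩ : ∃ F0 : Fin c → B j₀, F0 = fun s => φ j1 j₀ h1 (F1 s) := ⟨_, rfl⟩
  obtain ⟨E0, hE0⟩ : ∃ E0 : Fin d → B j₀, E0 = fun t => φ j2 j₀ h2 (E2 t) := ⟨_, rfl⟩
  have hF0ψ : ∀ s, ψ j₀ (F0 s) = f s := by
    intro s
    rw [hF0]
    simp only
    rw [hψφ, hF1]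
  have hE0ψ : ∀ t, ψ j₀ (E0 t) = g t := by
    intro t
    rw [hE0]
    simp only
    rw [hψφ, hE2]
  -- the stage-j elements
  have hFψ : ∀ j (hj : j₀ ≤ j) s, ψ j (φ j₀ j hj (F0 s)) = f s := by
    intro j hj s
    rw [hψφ, hF0ψ]
  have hEψ : ∀ j (hj : j₀ ≤ j) t, ψ j (φ j₀ j hj (E0 t)) = g t := by
    intro j hj t
    rw [hψφ, hE0ψ]
  have hFm : ∀ j (hj : j₀ ≤ j) s, φ j₀ j hj (F0 s) ∈ maximalIdeal (B j) := by
    intro j hj s
    apply mem_max_of_map (ψ j)
    rw [hFψ]
    exact (f s).2
  have hEm : ∀ j (hj : j₀ ≤ j) t, φ j₀ j hj (E0 t) ∈ maximalIdeal (B j) := by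
    intro j hj t
    apply mem_max_of_map (ψ j)
    rw [hEψ]
    exact (g t).2
  refine ⟨j₀, fun j hj => Ideal.span (Set.range fun s => φ j₀ j hj (F0 s)),
    fun j hj => Ideal.span (Set.range fun s => φ j₀ j hj (F0 s)) ⊔
      Ideal.span (Set.range fun t => φ j₀ j hj (E0 t)), ?_, ?_, ?_⟩
  · intro j hj
    refine ⟨fun s => ⟨φ j₀ j hj (F0 s), hFm j hj s⟩, fun t => ⟨φ j₀ j hj (E0 t), hEm j hj t⟩,
      ?_, rfl, rfl⟩
    rw [linInd_iff]
    intro b hb
    have hind' := (linInd_iff _).mp hind
    -- push forward along ψ j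
    have hψm : ∀ x, x ∈ maximalIdeal (B j) → ψ j x ∈ maximalIdeal A := by
      intro x hx
      by_contra hcon
      rw [mem_maximalIdeal, mem_nonunits_iff, not_not] at hcon
      obtain ⟨a, ha⟩ := hcon.exists_right_inv
      obtain ⟨l, y, hy⟩ := hsurj a
      obtain ⟨l', hl1, hl2⟩ := exists_ge_ge j l
      have hz : ψ l' (φ j l' hl1 x * φ l l' hl2 y - 1) = 0 := by
        rw [map_sub, map_mul, hψφ, hψφ, hy, ha, map_one, sub_self]
      obtain ⟨l'', hl3, hz'⟩ := hker l' _ hz
      rw [map_sub, map_mul, map_one, hφφ, hφφ, sub_eq_zero] at hz'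
      have hu : IsUnit (φ j l'' (hl1.trans hl3) x) := IsUnit.of_mul_eq_one _ hz'
      haveI := hφloc j l'' (hl1.trans hl3)
      have hux : IsUnit x := isUnit_of_map_unit (φ j l'' (hl1.trans hl3)) x hu
      rw [mem_maximalIdeal, mem_nonunits_iff] at hx
      exact hx hux
    have hcomp : ∀ i : Fin c ⊕ Fin d,
        ψ j ((Sum.elim (fun s => (⟨φ j₀ j hj (F0 s), hFm j hj s⟩ : maximalIdeal (B j)))
          (fun t => (⟨φ j₀ j hj (E0 t), hEm j hj t⟩ : maximalIdeal (B j))) i : maximalIdeal (B j)) :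
            B j) = ((Sum.elim f g i : maximalIdeal A) : A) := by
      intro i
      rcases i with s | t
      · exact hFψ j hj s
      · exact hEψ j hj t
    have h3 := map_sq_le (ψ j) hψm hb
    rw [map_sum] at h3
    simp only [map_mul, hcomp] at h3
    intro i
    exact mem_max_of_map (ψ j) (hind' (fun i => ψ j (b i)) h3 i)
  · intro i j hi hij
    have e1 : Ideal.map (φ i j hij) (Ideal.span (Set.range fun s => φ j₀ i hi (F0 s))) =
        Ideal.span (Set.range fun s => φ j₀ j (le_trans hi hij) (F0 s)) := by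
      rw [Ideal.map_span, ← Set.range_comp]
      congr 2
      funext s
      exact hφφ _ _ _ _ _ _
    have e2 : Ideal.map (φ i j hij) (Ideal.span (Set.range fun t => φ j₀ i hi (E0 t))) =
        Ideal.span (Set.range fun t => φ j₀ j (le_trans hi hij) (E0 t)) := by
      rw [Ideal.map_span, ← Set.range_comp]
      congr 2
      funext t
      exact hφφ _ _ _ _ _ _
    refine ⟨e1, ?_⟩
    rw [Ideal.map_sup, e1, e2]
  · intro j hj
    have e1 : Ideal.map (ψ j) (Ideal.span (Set.range fun s => φ j₀ j hj (F0 s))) =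
        Ideal.span (Set.range fun s => (f s : A)) := by
      rw [Ideal.map_span, ← Set.range_comp]
      congr 2
      funext s
      exact hFψ j hj s
    have e2 : Ideal.map (ψ j) (Ideal.span (Set.range fun t => φ j₀ j hj (E0 t))) =
        Ideal.span (Set.range fun t => (g t : A)) := by
      rw [Ideal.map_span, ← Set.range_comp]
      congr 2
      funext t
      exact hEψ j hj t
    refine ⟨e1, ?_⟩
    rw [Ideal.map_sup, e1, e2]



/-- Let A be a regular local ring with maximal ideal m and residue field k, written as a directed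
colimit of regular local rings A_j with local transition maps (compatible maps ψ_j : A_j → A that
are jointly surjective, an element dying in A dying at some later stage). Let f_1, …, f_c, g_1, …,
g_d ∈ m have linearly independent classes in m/m^2 over k, and put I = (f_1, …, f_c) ⊆ I' = (f_1, …,
f_c, g_1, …, g_d) (so I is generated by part of a regular system of parameters of A and I'/I by part
of a regular system of parameters of A/I; for a regular local ring the condition on I ⊆ I' is stated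
through such a joint family). Then there are an index j_0 and ideals I_j ⊆ I'_j ⊆ A_j for j ≥ j_0
such that: each I_j is generated by c elements and I'_j by these together with d further elements of
the maximal ideal m_j, the c + d classes in m_j/m_j^2 being linearly independent over the residue
field of A_j; the transition maps carry I_i, I'_i onto generators of I_j, I'_j for j_0 ≤ i ≤ j; and
I_j, I'_j generate I, I' in A. -/
theorem result
    {A : Type u} [CommRing A] [IsRegularLocalRing A]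
    {ι : Type v} [Preorder ι] [Nonempty ι] [IsDirected ι (· ≤ ·)]
    (B : ι → Type u) [∀ j, CommRing (B j)] [∀ j, IsRegularLocalRing (B j)]
    (φ : ∀ i j, i ≤ j → (B i →+* B j)) (hφloc : ∀ i j (h : i ≤ j), IsLocalHom (φ i j h))
    (hφ : ∀ i j l (hij : i ≤ j) (hjl : j ≤ l), (φ j l hjl).comp (φ i j hij) = φ i l (hij.trans hjl))
    (ψ : ∀ j, B j →+* A) (hψ : ∀ i j (h : i ≤ j), (ψ j).comp (φ i j h) = ψ i)
    (hsurj : ∀ a : A, ∃ j, ∃ x : B j, ψ j x = a)
    (hker : ∀ j (x : B j), ψ j x = 0 → ∃ l, ∃ h : j ≤ l, φ j l h x = 0)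
    (c d : ℕ) (f : Fin c → maximalIdeal A) (g : Fin d → maximalIdeal A)
    (hind : LinearIndependent (ResidueField A) (⇑(maximalIdeal A).toCotangent ∘ Sum.elim f g)) :
    ∃ j₀ : ι, ∃ (P : ∀ j, j₀ ≤ j → Ideal (B j)) (Q : ∀ j, j₀ ≤ j → Ideal (B j)),
      (∀ j (hj : j₀ ≤ j), ∃ (F : Fin c → maximalIdeal (B j)) (E : Fin d → maximalIdeal (B j)),
        LinearIndependent (ResidueField (B j)) (⇑(maximalIdeal (B j)).toCotangent ∘ Sum.elim F E) ∧
        P j hj = Ideal.span (Set.range (fun s => (F s : B j))) ∧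
        Q j hj = P j hj ⊔ Ideal.span (Set.range (fun t => (E t : B j)))) ∧
      (∀ i j (hi : j₀ ≤ i) (hij : i ≤ j),
        (P i hi).map (φ i j hij) = P j (le_trans hi hij) ∧ (Q i hi).map (φ i j hij) = Q j (le_trans hi hij)) ∧
      (∀ j (hj : j₀ ≤ j),
        (P j hj).map (ψ j) = Ideal.span (Set.range (fun s => (f s : A))) ∧
        (Q j hj).map (ψ j) = Ideal.span (Set.range (fun s => (f s : A))) ⊔ Ideal.span (Set.range (fun t => (g t : A)))) := by
  exact main B φ hφloc hφ ψ hψ hsurj hker c d f g hind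

end Groth.Agent.S18136
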