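import Groth.Statements.S18153
import Mathlib

set_option autoImplicit false
universe u w
open FrobAlg

namespace Groth.Agent.S18153

open MvPolynomial in
theorem prod_monomial' {τ : Type*} {R : Type*} [CommSemiring R] {α : Type*} (s : Finset α)
    (f : α → τ →₀ ℕ) (a : α → R) :
    ∏ i ∈ s, monomial (f i) (a i) = monomial (∑ i ∈ s, f i) (∏ i ∈ s, a i) := by
  classical
  induction s using Finset.induction_on with
  | empty => simp
  | insert x s hx ih =>
    rw [Finset.prod_insert hx, Finset.sum_insert hx, Finset.prod_insert hx, ih, monomial_mul]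

theorem det_eq_zero_of_col_sum_zero {R : Type*} [CommRing R] {m : ℕ} (hm : 0 < m)
    (N : Matrix (Fin m) (Fin m) R) (h : ∀ i, ∑ k, N k i = 0) : N.det = 0 := by
  have h1 : Matrix.vecMul (fun _ => (1 : R)) N = 0 := by
    funext i
    simp [Matrix.vecMul, dotProduct, h i]
  have h2 : Matrix.vecMul (fun _ => (1 : R)) (N * N.adjugate) = 0 := by
    rw [← Matrix.vecMul_vecMul, h1, Matrix.zero_vecMul]
  rw [Matrix.mul_adjugate] at h2
  have h3 := congrFun h2 ⟨0, hm⟩
  simpa [Matrix.vecMul_smul] using h3

open MvPolynomial in
theorem coeff_det_monomials (p : ℕ) [Fact p.Prime] (R : Type u) [CommRing R] [CharP R p]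
    {m : ℕ} (hm : 0 < m) (σ : Type w) (d : Fin m → (Fin m ⊕ σ →₀ ℕ)) (T : Fin m ⊕ σ →₀ ℕ)
    (hT : ∀ i : Fin m, T (Sum.inl i) = p - 1) :
    lcoeff R T (Matrix.of fun i j : Fin m =>
      pderiv (Sum.inl j) (monomial (d i) (1 : R))).det = 0 := by
  classical
  set one : Fin m ⊕ σ →₀ ℕ := ∑ i : Fin m, Finsupp.single (Sum.inl i) 1 with hone
  set D : Fin m ⊕ σ →₀ ℕ := ∑ k, d k with hD
  set c : Equiv.Perm (Fin m) → R := fun π => ∏ i, ((d (π i) (Sum.inl i) : ℕ) : R) with hc
  have hterm : ∀ π : Equiv.Perm (Fin m),
      lcoeff R T (∏ i, (Matrix.of fun i j : Fin m =>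
        pderiv (Sum.inl j) (monomial (d i) (1 : R))) (π i) i) =
        if D = T + one then c π else 0 := by
    intro π
    have e1 : ∀ i, (Matrix.of fun i j : Fin m =>
        pderiv (Sum.inl j) (monomial (d i) (1 : R))) (π i) i =
        monomial (d (π i) - Finsupp.single (Sum.inl i) 1) ((d (π i) (Sum.inl i) : ℕ) : R) := by
      intro i
      rw [Matrix.of_apply, pderiv_monomial, one_mul]
    simp only [e1]
    rw [prod_monomial', lcoeff_apply, coeff_monomial]
    by_cases hall : ∀ i, 1 ≤ d (π i) (Sum.inl i)
    · have hE : (∑ i, (d (π i) - Finsupp.single (Sum.inl i) 1)) + one = D := by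
        rw [hone, ← Finset.sum_add_distrib, hD, ← Equiv.sum_comp π d]
        refine Finset.sum_congr rfl fun i _ => ?_
        refine tsub_add_cancel_of_le ?_
        rw [Finsupp.single_le_iff]
        first
          | exact hall i
          | (intro j hj
             simp only [Finsupp.support_single_ne_zero _ one_ne_zero, Finset.mem_singleton] at hj
             subst hj
             simpa using hall i)
      by_cases h1 : D = T + one
      · rw [if_pos h1, if_pos]
        rw [h1] at hE
        exact add_right_cancel hE
      · rw [if_neg h1, if_neg]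
        intro h2
        exact h1 (by rw [← hE, h2])
    · push Not at hall
      obtain ⟨i, hi⟩ := hall
      have hi0 : d (π i) (Sum.inl i) = 0 := by omega
      have hc0 : c π = 0 :=
        Finset.prod_eq_zero (Finset.mem_univ i) (by rw [hi0, Nat.cast_zero])
      have hc1 : ∏ i, ((d (π i) (Sum.inl i) : ℕ) : R) = 0 := hc0
      rw [hc0, hc1]
      simp
  rw [Matrix.det_apply, map_sum]
  simp only [Units.smul_def, map_zsmul, hterm]
  by_cases h1 : D = T + one
  · simp only [if_pos h1]
    have hdet : ∑ π : Equiv.Perm (Fin m), ((Equiv.Perm.sign π : ℤˣ) : ℤ) • c π =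
        (Matrix.of fun k i : Fin m => ((d k (Sum.inl i) : ℕ) : R)).det := by
      rw [Matrix.det_apply]
      refine Finset.sum_congr rfl fun π _ => ?_
      rw [Units.smul_def]
      rfl
    rw [hdet]
    apply det_eq_zero_of_col_sum_zero hm
    intro i
    simp only [Matrix.of_apply]
    rw [← Nat.cast_sum]
    have : ∑ k, d k (Sum.inl i) = p := by
      have h2 := DFunLike.congr_fun h1 (Sum.inl i)
      rw [hD, Finsupp.finsetSum_apply, Finsupp.add_apply, hT, hone, Finsupp.finsetSum_apply] at h2
      rw [h2]
      have : ∑ j : Fin m, (Finsupp.single (Sum.inl j : Fin m ⊕ σ) 1) (Sum.inl i) = 1 := by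
        rw [Finset.sum_eq_single i]
        · simp
        · intro j _ hj
          rw [Finsupp.single_apply, if_neg]
          intro h; exact hj (Sum.inl_injective h)
        · intro h; exact absurd (Finset.mem_univ i) h
      rw [this]
      have := (Fact.out : p.Prime).pos
      omega
    rw [this, CharP.cast_eq_zero]
  · simp only [if_neg h1, smul_zero, Finset.sum_const_zero]


/-- Let R be a commutative ring of prime characteristic p and f_1, …, f_m (m ≥ 1) polynomials over R in
the variables t_1, …, t_m and a further, possibly empty, family of variables s_a. Then in the m × m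
Jacobian determinant det(∂f_i/∂t_j) with respect to the t-variables, the coefficient of the monomial
t_1^{p-1} ⋯ t_m^{p-1} (all s-exponents zero) vanishes. (In the source this is the claim, for formal
power series in n ≥ m variables over the base field, to which the proof of the proposition reduces;
the coefficient in question only involves truncations of the f_i, so the polynomial form over any
ring of characteristic p is the same assertion.) -/
theorem result
    (p : ℕ) [Fact p.Prime] (R : Type u) [CommRing R] [CharP R p]
    {m : ℕ} (hm : 0 < m) (σ : Type w) (f : Fin m → MvPolynomial (Fin m ⊕ σ) R) :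
    MvPolynomial.coeff
        (Finsupp.sumElim (Finsupp.equivFunOnFinite.symm fun _ : Fin m => p - 1) (0 : σ →₀ ℕ))
        (Matrix.of fun i j : Fin m => MvPolynomial.pderiv (Sum.inl j) (f i)).det = 0 := by
  classical
  set T : Fin m ⊕ σ →₀ ℕ :=
    Finsupp.sumElim (Finsupp.equivFunOnFinite.symm fun _ : Fin m => p - 1) (0 : σ →₀ ℕ) with hTdef
  have hT : ∀ i : Fin m, T (Sum.inl i) = p - 1 := by
    intro i
    rw [hTdef, Finsupp.sumElim_inl]
    rfl
  -- the multilinear map
  let L : MvPolynomial (Fin m ⊕ σ) R →ₗ[R] (Fin m → MvPolynomial (Fin m ⊕ σ) R) :=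
    LinearMap.pi fun j => (MvPolynomial.pderiv (Sum.inl j)).toLinearMap
  let Ψ : MultilinearMap R (fun _ : Fin m => MvPolynomial (Fin m ⊕ σ) R) R :=
    (MvPolynomial.lcoeff R T).compMultilinearMap
      (((Matrix.detRowAlternating (n := Fin m)
        (R := MvPolynomial (Fin m ⊕ σ) R)).toMultilinearMap.restrictScalars R).compLinearMap
          (fun _ => L))
  have hΨ : ∀ g : Fin m → MvPolynomial (Fin m ⊕ σ) R, Ψ g = MvPolynomial.lcoeff R T
      (Matrix.of fun i j : Fin m => MvPolynomial.pderiv (Sum.inl j) (g i)).det := by
    intro g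
    rfl
  have hzero : Ψ = 0 := by
    refine Module.Basis.ext_multilinear (fun _ => MvPolynomial.basisMonomials (Fin m ⊕ σ) R) (fun v => ?_)
    rw [hΨ, MultilinearMap.zero_apply]
    simp only [MvPolynomial.coe_basisMonomials]
    exact coeff_det_monomials p R hm σ v T hT
  have := hΨ f
  rw [hzero, MultilinearMap.zero_apply] at this
  exact this.symm

end Groth.Agent.S18153
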