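import Groth.Statements.S18155
import Mathlib
import Groth.Agent.S13148
import Groth.Agent.Lib.Helper26.FiniteEtaleLift

set_option autoImplicit false
universe u v
open FrobAlg

namespace Groth.Agent.S18155

section aux

theorem main (p : ℕ) [Fact p.Prime] (k : Type u) [Field k] [CharP k p]
    (A C : Type v) [CommRing A] [CommRing C] [Algebra k A] [Algebra k C]
    [Algebra A C] [IsScalarTower k A C] [Algebra.Etale A C]
    (hA : FrobAlg.IsFLiftable p k A) : FrobAlg.IsFLiftable p k C := by
  obtain ⟨B, _, ι, π, Φ, hlift⟩ := hA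
  let I : Ideal B := RingHom.ker π
  let e₀ : (B ⧸ I) ≃+* A := RingHom.quotientKerEquivOfSurjective hlift.surj
  have he₀ : ∀ x, e₀ (Ideal.Quotient.mk I x) = π x := fun _ => rfl
  letI algA : Algebra (B ⧸ I) A := e₀.toRingHom.toAlgebra
  letI algC : Algebra (B ⧸ I) C := ((algebraMap A C).comp e₀.toRingHom).toAlgebra
  haveI : IsScalarTower (B ⧸ I) A C := IsScalarTower.of_algebraMap_eq' rfl
  let eAlg : (B ⧸ I) ≃ₐ[B ⧸ I] A := AlgEquiv.ofRingEquiv (f := e₀) (fun x => rfl)
  haveI : Algebra.Etale (B ⧸ I) A := Algebra.Etale.of_equiv eAlg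
  haveI : Algebra.Etale (B ⧸ I) C := Algebra.Etale.comp (B ⧸ I) A C
  obtain ⟨BC, _, _, hét, ψ, hψ1, hψ2, hψ3⟩ :=
    Groth.Agent.Lib.helper26.FiniteEtaleLift.exists_etale_lift I C
  have hψ1' : ∀ b, ψ (algebraMap B BC b) = algebraMap A C (π b) := fun b => hψ1 b
  have hI2 : I ^ 2 = ⊥ := by
    change (RingHom.ker π) ^ 2 = ⊥
    rw [hlift.ker_eq, ← Ideal.map_pow, Groth.Agent.S13148.ker_res_sq, Ideal.map_bot]
  have hker2 : (RingHom.ker ψ) ^ 2 = ⊥ := by
    rw [hψ3, ← Ideal.map_pow, hI2, Ideal.map_bot]
  have hpC : (p : C) = 0 := by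
    rw [← map_natCast (algebraMap k C), CharP.cast_eq_zero, map_zero]
  obtain ⟨ΦC, hΦC1, hΦC2⟩ := Groth.Agent.S13148.exists_frobLift B BC C Φ ψ hψ2 hker2
    (Groth.Agent.S13148.frobA p C hpC)
    (by
      intro b
      rw [hψ1', hψ1', hlift.red, map_pow]
      rfl)
  refine ⟨BC, inferInstance, (algebraMap B BC).comp ι, ψ, ΦC, ⟨⟨?_, hψ2, ?_, ?_⟩, ?_, ?_⟩⟩
  · refine RingHom.Flat.comp hlift.flat ?_
    rw [RingHom.flat_algebraMap_iff]
    infer_instance
  · rw [hψ3, ← Ideal.map_map]
    congr 1
    exact hlift.ker_eq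
  · ext r
    rw [RingHom.comp_apply, RingHom.comp_apply, hψ1', RingHom.comp_apply]
    have := congrArg (fun f => f r) hlift.comm
    simp only [RingHom.comp_apply] at this
    rw [this, ← IsScalarTower.algebraMap_apply]
  · rw [← RingHom.comp_assoc, hΦC1, RingHom.comp_assoc, hlift.semi, RingHom.comp_assoc]
  · intro c
    rw [hΦC2]
    rfl

end aux

/-- Let k be an algebraically closed field of characteristic p, A a commutative k-algebra and C an étale
A-algebra. If A admits a flat lifting over W_2(k) together with a lift of Frobenius, then so does C.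
(The source states this for an étale cover Y → X of smooth varieties over k; its argument uses only
that Y is étale over X, and the affine case is stated here with no smoothness or finiteness
hypothesis on A over k.) -/
theorem result
    (p : ℕ) [Fact p.Prime] (k : Type u) [Field k] [IsAlgClosed k] [CharP k p]
    (A C : Type v) [CommRing A] [CommRing C] [Algebra k A] [Algebra k C]
    [Algebra A C] [IsScalarTower k A C] [Algebra.Etale A C]
    (hA : FrobAlg.IsFLiftable p k A) : FrobAlg.IsFLiftable p k C := by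
  exact main p k A C hA

end Groth.Agent.S18155
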