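import Groth.Statements.S18156
import Groth.Agent.Lib.Helper24.DerExt
import Groth.Agent.S0542

set_option autoImplicit false
universe u v
open CAlg

namespace Groth.Agent.S18156

/-- Let k be a field and A a regular local ring that is a k-algebra, with maximal ideal m and m-adic
completion Â. Then every k-derivation D of A into itself extends to a k-derivation D̂ of Â into
itself along the canonical map ρ : A → Â, in the sense that D̂(ρ(a)) = ρ(D(a)) for every a ∈ A. (The
source works throughout over an algebraically closed field of characteristic p; neither assumption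
enters this statement.) -/
theorem result
    (k : Type u) [Field k] (A : Type v) [CommRing A] [Algebra k A] [IsRegularLocalRing A]
    (D : Derivation k A A) :
    ∃ Dhat : Derivation k (AdicCompletion (IsLocalRing.maximalIdeal A) A)
        (AdicCompletion (IsLocalRing.maximalIdeal A) A),
      ∀ a : A, Dhat (algebraMap A (AdicCompletion (IsLocalRing.maximalIdeal A) A) a) =
        algebraMap A (AdicCompletion (IsLocalRing.maximalIdeal A) A) (D a) := by
  classical
  have hI : (IsLocalRing.maximalIdeal A).FG := (IsLocalRing.maximalIdeal A).fg_of_isNoetherianRing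
  haveI : IsNoetherianRing (AdicCompletion (IsLocalRing.maximalIdeal A) A) :=
    Groth.Agent.S0542.result A (IsLocalRing.maximalIdeal A) hI
  let δ : A →+ AdicCompletion (IsLocalRing.maximalIdeal A) A :=
    ((algebraMap A (AdicCompletion (IsLocalRing.maximalIdeal A) A)) : A →+* _).toAddMonoidHom.comp
      D.toLinearMap.toAddMonoidHom
  have hδa : ∀ a, δ a = algebraMap A (AdicCompletion (IsLocalRing.maximalIdeal A) A) (D a) :=
    fun a => rfl
  obtain ⟨δ', hδ'1, hδ'2⟩ := Groth.Agent.Lib.Helper24.DerExt.exists_extension
    (IsLocalRing.maximalIdeal A) hI (AdicCompletion (IsLocalRing.maximalIdeal A) A) δ (by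
      intro a b
      rw [hδa, hδa, hδa, Derivation.leibniz, map_add, smul_eq_mul, smul_eq_mul, map_mul, map_mul,
        smul_eq_mul, smul_eq_mul])
  have hδ'k : ∀ c : k, δ' (algebraMap k (AdicCompletion (IsLocalRing.maximalIdeal A) A) c) = 0 := by
    intro c
    rw [IsScalarTower.algebraMap_apply k A (AdicCompletion (IsLocalRing.maximalIdeal A) A) c,
      hδ'2, hδa, Derivation.map_algebraMap, map_zero]
  let L : AdicCompletion (IsLocalRing.maximalIdeal A) A →ₗ[k]
      AdicCompletion (IsLocalRing.maximalIdeal A) A :=
    { toFun := δ'
      map_add' := δ'.map_add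
      map_smul' := fun c x => by
        rw [RingHom.id_apply, Algebra.smul_def, hδ'1, hδ'k, smul_zero, add_zero, smul_eq_mul,
          Algebra.smul_def] }
  refine ⟨Derivation.mk' L (fun x y => hδ'1 x y), fun a => ?_⟩
  show δ' _ = _
  rw [hδ'2, hδa]

end Groth.Agent.S18156
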