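import Groth.Statements.S18187
import Mathlib
import Groth.Agent.S12710
import Groth.Agent.S12727
import Groth.Agent.Lib.Helper17.ArtAct

set_option autoImplicit false
universe u v
open CategoryTheory
open T1Lift

namespace Groth.Agent.S18187
open Groth.Agent.Lib.helper17.ArtAct

open Polynomial ArtFun ArtFun.Art

section alg
variable (k : Type u) [Field k]

lemma mk_eq_aeval (m : ℕ) (p : k[X]) :
    AdjoinRoot.mk ((X : k[X]) ^ (m + 1)) p = aeval (T1Lift.t k m) p :=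
  (AdjoinRoot.aeval_eq p).symm

lemma αAlg_mk (m : ℕ) (p : k[X]) :
    T1Lift.αAlg k m (AdjoinRoot.mk _ p) = AdjoinRoot.mk _ p := by
  rw [mk_eq_aeval, mk_eq_aeval, ← Polynomial.aeval_algHom_apply, T1Lift.αAlg_t]

lemma αAlg_surjective (m : ℕ) : Function.Surjective (T1Lift.αAlg k m) := by
  intro c
  obtain ⟨p, rfl⟩ := AdjoinRoot.mk_surjective c
  exact ⟨AdjoinRoot.mk _ p, αAlg_mk k m p⟩

/-- structure of the kernel of `α` -/
lemma ker_αAlg (m : ℕ) (c : T1Lift.Tr k (m + 1)) (hc : T1Lift.αAlg k m c = 0) :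
    ∃ r : k, c = r • T1Lift.t k (m + 1) ^ (m + 1) := by
  obtain ⟨p, rfl⟩ := AdjoinRoot.mk_surjective c
  rw [αAlg_mk, AdjoinRoot.mk_eq_zero] at hc
  obtain ⟨q, rfl⟩ := hc
  obtain ⟨b, hb⟩ := T1Lift.eq_algebraMap_add_t_mul k (m + 1) (AdjoinRoot.mk _ q)
  generalize T1Lift.resA k (m + 1) (AdjoinRoot.mk _ q) = r at hb
  refine ⟨r, ?_⟩
  rw [map_mul, map_pow, AdjoinRoot.mk_X, hb, mul_add, ← mul_assoc, ← pow_succ, T1Lift.t_pow, zero_mul,
    add_zero, Algebra.smul_def, mul_comm]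

lemma mul_eq_zero_of_res_of_ker (m : ℕ) (a c : T1Lift.Tr k (m + 1)) (ha : T1Lift.resA k (m + 1) a = 0)
    (hc : T1Lift.αAlg k m c = 0) : a * c = 0 := by
  obtain ⟨r, rfl⟩ := ker_αAlg k m c hc
  obtain ⟨b, hb⟩ := T1Lift.eq_algebraMap_add_t_mul k (m + 1) a
  rw [ha, map_zero, zero_add] at hb
  rw [hb, mul_smul_comm, mul_comm (T1Lift.t k (m + 1)) b, mul_assoc, ← pow_succ', T1Lift.t_pow, mul_zero,
    smul_zero]

lemma t_pow_ne_zero (m : ℕ) : T1Lift.t k m ^ m ≠ 0 := by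
  intro h
  have h' : AdjoinRoot.mk ((X : k[X]) ^ (m + 1)) (X ^ m) = 0 := by
    rw [map_pow, AdjoinRoot.mk_X]; exact h
  rw [AdjoinRoot.mk_eq_zero] at h'
  have := (pow_dvd_pow_iff (X_ne_zero (R := k)) (not_isUnit_X (R := k))).1 h'
  omega

lemma εAlg_pow (m : ℕ) :
    T1Lift.εAlg k m (T1Lift.t k (m + 1) ^ (m + 1)) =
      TrivSqZeroExt.inr (((m + 1 : ℕ) : k) • T1Lift.t k m ^ m) := by
  rw [map_pow, T1Lift.εAlg_t]
  apply TrivSqZeroExt.ext
  · rw [TrivSqZeroExt.fst_pow, TrivSqZeroExt.fst_add, TrivSqZeroExt.fst_inl, DualNumber.fst_eps, add_zero,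
      T1Lift.t_pow, TrivSqZeroExt.fst_inr]
  · rw [TrivSqZeroExt.snd_pow, TrivSqZeroExt.fst_add, TrivSqZeroExt.fst_inl, DualNumber.fst_eps, add_zero,
      TrivSqZeroExt.snd_add, TrivSqZeroExt.snd_inl, DualNumber.snd_eps, zero_add, TrivSqZeroExt.snd_inr,
      Nat.pred_succ, smul_eq_mul, mul_one, Nat.cast_smul_eq_nsmul]

lemma eq_zero_of_α_ε [CharZero k] (m : ℕ) (c : T1Lift.Tr k (m + 1)) (hc : T1Lift.αAlg k m c = 0)
    (hε : T1Lift.εAlg k m c = 0) : c = 0 := by
  obtain ⟨r, rfl⟩ := ker_αAlg k m c hc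
  rw [map_smul, εAlg_pow] at hε
  have h2 := congrArg TrivSqZeroExt.snd hε
  rw [TrivSqZeroExt.snd_smul, TrivSqZeroExt.snd_inr, TrivSqZeroExt.snd_zero, smul_smul] at h2
  rcases smul_eq_zero.1 h2 with h3 | h3
  · rcases mul_eq_zero.1 h3 with h4 | h4
    · rw [h4, zero_smul]
    · exact absurd h4 (Nat.cast_ne_zero.2 (Nat.succ_ne_zero m))
  · exact absurd h3 (t_pow_ne_zero k m)

end alg

section mor
variable (k : Type u) [Field k]

lemma ε_β (m : ℕ) : T1Lift.ε k m ≫ T1Lift.β k m = T1Lift.α k m := by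
  apply Art.hom_ext
  apply AdjoinRoot.algHom_ext
  change (T1Lift.εAlg k m (T1Lift.t k (m + 1))).fst = T1Lift.αAlg k m (T1Lift.t k (m + 1))
  rw [T1Lift.εAlg_t, T1Lift.αAlg_t, TrivSqZeroExt.fst_add, TrivSqZeroExt.fst_inl, DualNumber.fst_eps, add_zero]

lemma ε_ξ (m : ℕ) : T1Lift.ε k (m + 1) ≫ T1Lift.ξ k m = T1Lift.α k (m + 1) ≫ T1Lift.ε k m := by
  apply Art.hom_ext
  apply AdjoinRoot.algHom_ext
  change T1Lift.dualMap k (T1Lift.αAlg k m) (T1Lift.εAlg k (m + 1) (T1Lift.t k (m + 1 + 1))) =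
    T1Lift.εAlg k m (T1Lift.αAlg k (m + 1) (T1Lift.t k (m + 1 + 1)))
  rw [T1Lift.εAlg_t, T1Lift.αAlg_t, T1Lift.εAlg_t]
  apply TrivSqZeroExt.ext
  · change T1Lift.αAlg k m (TrivSqZeroExt.fst (TrivSqZeroExt.inl (T1Lift.t k (m + 1)) + DualNumber.eps)) = _
    rw [TrivSqZeroExt.fst_add, TrivSqZeroExt.fst_inl, DualNumber.fst_eps, add_zero, T1Lift.αAlg_t,
      TrivSqZeroExt.fst_add, TrivSqZeroExt.fst_inl, DualNumber.fst_eps, add_zero]
  · change T1Lift.αAlg k m (TrivSqZeroExt.snd (TrivSqZeroExt.inl (T1Lift.t k (m + 1)) + DualNumber.eps)) = _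
    rw [TrivSqZeroExt.snd_add, TrivSqZeroExt.snd_inl, DualNumber.snd_eps, zero_add, map_one,
      TrivSqZeroExt.snd_add, TrivSqZeroExt.snd_inl, DualNumber.snd_eps, zero_add]

lemma β_α (m : ℕ) : T1Lift.β k (m + 1) ≫ T1Lift.α k m = T1Lift.ξ k m ≫ T1Lift.β k m := by
  apply Art.hom_ext
  apply AlgHom.ext
  intro x
  rfl

lemma β_surjective (m : ℕ) : Function.Surjective (T1Lift.β k m) := by
  intro a
  exact ⟨TrivSqZeroExt.inl a, rfl⟩

lemma α_semismall (m : ℕ) : Art.IsSemismallExt (T1Lift.α k m) := by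
  refine ⟨αAlg_surjective k m, ?_⟩
  rw [eq_bot_iff, Ideal.mul_le]
  intro a ha c hc
  rw [Art.mem_maximalIdeal_iff] at ha
  exact mul_eq_zero_of_res_of_ker k m a c ha hc

end mor

section dn
variable (k : Type u) [Field k]

lemma dn_mul_zero (m : ℕ) (a x : DualNumber (T1Lift.Tr k (m + 1)))
    (ha : T1Lift.resA k (m + 1) a.fst = 0) (h1 : x.fst = 0) (h2 : T1Lift.αAlg k m x.snd = 0) :
    a * x = 0 := by
  apply TrivSqZeroExt.ext
  · rw [TrivSqZeroExt.fst_mul, h1, mul_zero, TrivSqZeroExt.fst_zero]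
  · rw [TrivSqZeroExt.snd_mul, h1, TrivSqZeroExt.snd_zero]
    have := mul_eq_zero_of_res_of_ker k m a.fst x.snd ha h2
    simp [this]

end dn

section dn2
variable (k : Type u) [Field k]

lemma exists_B (m : ℕ) (a : T1Lift.Tr k (m + 1)) (b : T1Lift.Tr k m) :
    ∃ x : T1Lift.B k (m + 1), T1Lift.β k (m + 1) x = a ∧
      T1Lift.αAlg k m (TrivSqZeroExt.snd x) = b := by
  obtain ⟨x₁, hx₁⟩ := αAlg_surjective k m b
  let x : DualNumber (T1Lift.Tr k (m + 1)) := (a, x₁)
  exact ⟨x, rfl, hx₁⟩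

end dn2

/-- In the set-valued case, let k be a field of characteristic zero and F a functor on local Artinian
k-algebras with residue field k such that F(k) is one point, F satisfies the Rim–Schlessinger
condition (for every fibre-product square A' ×_A A'' with A'' → A surjective the comparison map F(A'
×_A A'') → F(A') ×_{F(A)} F(A'') is bijective), and F has an obstruction theory with values in a
k-vector space V which is moreover functorial for every commutative square of surjections whose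
kernels are killed by the maximal ideal. Write A_m = k[t]/(t^(m+1)), B_m = A_m[y]/(y²), α : A_(m+1)
→ A_m and ξ : B_(m+1) → B_m for t ↦ t, β : B_m → A_m for y ↦ 0 and ε : A_(m+1) → B_m for t ↦ t + y.
Then an element X ∈ F(A_(n+1)) lifts to F(A_(n+2)) along α if and only if there is Y ∈ F(B_(n+1))
with F(β) Y = X and F(ξ) Y = F(ε) X, i.e. if and only if the element of the first-order tangent set
T¹(F(α)X / A_n) defined by F(ε) X lies in the image of T¹(X / A_(n+1)). (Stated here for functors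
with values in sets; the version for predeformation categories in groupoids satisfying the
Rim–Schlessinger condition specialises to it. The functoriality of the obstruction theory for
arbitrary commutative squares is an explicit hypothesis, pinned through linear maps between the
kernels that agree with the given ring map.) -/
theorem result (k : Type u) [Field k] [CharZero k]
    (F : ArtFun.Art k k ⥤ Type v) (h0 : ArtFun.H0 F)
    (hRS : ∀ ⦃P A A' A'' : ArtFun.Art k k⦄ (p' : P ⟶ A') (p'' : P ⟶ A'') (f' : A' ⟶ A) (f'' : A'' ⟶ A)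
      (h : ArtFun.Art.IsFibreProd p' p'' f' f''), Function.Surjective f'' → Function.Bijective (ArtFun.cmp F h))
    (V : Type u) [AddCommGroup V] [Module k V] (O : ArtFun.ObsTheory F V)
    (hnat : ∀ ⦃A' A C' C : ArtFun.Art k k⦄ (φ : A' ⟶ A) (hφ : ArtFun.Art.IsSemismallExt φ)
      (ψ : C' ⟶ C) (hψ : ArtFun.Art.IsSemismallExt ψ) (g' : A' ⟶ C') (g : A ⟶ C), φ ≫ g = g' ≫ ψ →
      ∀ (ℓ : ↥(RingHom.ker φ.toAlgHom) →ₗ[k] ↥(RingHom.ker ψ.toAlgHom)),
        (∀ j : ↥(RingHom.ker φ.toAlgHom), ((ℓ j : ↥(RingHom.ker ψ.toAlgHom)) : C') = g' (j : A')) →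
        ∀ u : F.obj A, O.obs ψ hψ (F.map g u) = LinearMap.lTensor V ℓ (O.obs φ hφ u))
    (n : ℕ) (X : F.obj (T1Lift.A k (n + 1))) :
    (∃ X' : F.obj (T1Lift.A k (n + 2)), F.map (T1Lift.α k (n + 1)) X' = X) ↔
      ∃ Y : F.obj (T1Lift.B k (n + 1)), F.map (T1Lift.β k (n + 1)) Y = X ∧
        F.map (T1Lift.ξ k n) Y = F.map (T1Lift.ε k n) X := by
  constructor
  · rintro ⟨X', rfl⟩
    refine ⟨F.map (T1Lift.ε k (n + 1)) X', ?_, ?_⟩
    · rw [← map_comp_apply, ε_β]
    · rw [← map_comp_apply, ← map_comp_apply, ε_ξ]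
  · rintro ⟨Y, hY1, hY2⟩
    obtain ⟨C, p₁, p₂, hC⟩ := Groth.Agent.S12710.result (T1Lift.α k n) (T1Lift.β k n) (β_surjective k n)
    have w2 : 𝟙 (T1Lift.A k (n + 1)) ≫ T1Lift.α k n = T1Lift.ε k n ≫ T1Lift.β k n := by
      rw [Category.id_comp, ε_β]
    obtain ⟨ψ, hψ1, hψ2⟩ := Groth.Agent.S12727.exists_lift_hom hC (T1Lift.β k (n + 1)) (T1Lift.ξ k n) (β_α k n)
    obtain ⟨g, hg1, hg2⟩ := Groth.Agent.S12727.exists_lift_hom hC (𝟙 _) (T1Lift.ε k n) w2
    have hψ1' : ∀ x, p₁ (ψ x) = T1Lift.β k (n + 1) x := fun x => by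
      rw [← hψ1]; rfl
    have hψ2' : ∀ x, p₂ (ψ x) = T1Lift.ξ k n x := fun x => by
      rw [← hψ2]; rfl
    have hg1' : ∀ x, p₁ (g x) = x := fun x => by
      change (g ≫ p₁) x = x
      rw [hg1]; rfl
    have hg2' : ∀ x, p₂ (g x) = T1Lift.ε k n x := fun x => by
      rw [← hg2]; rfl
    have hsq : T1Lift.α k (n + 1) ≫ g = T1Lift.ε k (n + 1) ≫ ψ := by
      apply Art.hom_ext
      apply AlgHom.ext
      intro x
      apply hC.inj
      · change p₁ (g (T1Lift.α k (n + 1) x)) = p₁ (ψ (T1Lift.ε k (n + 1) x))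
        rw [hg1', hψ1']
        change _ = (T1Lift.ε k (n + 1) ≫ T1Lift.β k (n + 1)) x
        rw [ε_β]
      · change p₂ (g (T1Lift.α k (n + 1) x)) = p₂ (ψ (T1Lift.ε k (n + 1) x))
        rw [hg2', hψ2']
        change (T1Lift.α k (n + 1) ≫ T1Lift.ε k n) x = (T1Lift.ε k (n + 1) ≫ T1Lift.ξ k n) x
        rw [ε_ξ]
    have hαss : Art.IsSemismallExt (T1Lift.α k (n + 1)) := α_semismall k (n + 1)
    -- kernel of ψ
    have hker : ∀ x : T1Lift.B k (n + 1), ψ x = 0 →
        TrivSqZeroExt.fst x = 0 ∧ T1Lift.αAlg k n (TrivSqZeroExt.snd x) = 0 := by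
      intro x hx
      constructor
      · have := hψ1' x
        rw [hx, map_zero] at this
        exact this.symm
      · have := hψ2' x
        rw [hx, map_zero] at this
        exact (congrArg TrivSqZeroExt.snd this).symm
    have hψss : Art.IsSemismallExt ψ := by
      refine ⟨?_, ?_⟩
      · intro c
        obtain ⟨x, hxf, hxs⟩ := exists_B k n (p₁ c) (TrivSqZeroExt.snd (p₂ c))
        refine ⟨x, ?_⟩
        apply hC.inj
        · rw [hψ1']; exact hxf
        · rw [hψ2']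
          apply TrivSqZeroExt.ext
          · change T1Lift.α k n (T1Lift.β k (n + 1) x) = _
            rw [hxf]
            exact hC.w_apply c
          · exact hxs
      · rw [eq_bot_iff, Ideal.mul_le]
        intro a ha x hx
        rw [Art.mem_maximalIdeal_iff] at ha
        obtain ⟨h1, h2⟩ := hker x hx
        exact dn_mul_zero k n a x ha h1 h2
    have hFeq : F.map g X = F.map ψ Y := by
      apply eq_of_cmp_injective hC (hRS _ _ _ _ hC (β_surjective k n)).1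
      · rw [← map_comp_apply, ← map_comp_apply, hg1, hψ1, map_id_apply, hY1]
      · rw [← map_comp_apply, ← map_comp_apply, hg2, hψ2, hY2]
    have hobs0 : O.obs ψ hψss (F.map g X) = 0 := (O.obs_eq_zero_iff ψ hψss _).2 ⟨Y, hFeq.symm⟩
    have hmem : ∀ j : ↥(RingHom.ker (T1Lift.α k (n + 1)).toAlgHom),
        T1Lift.εAlg k (n + 1) j.1 ∈ RingHom.ker ψ.toAlgHom := by
      intro j
      have hj : T1Lift.α k (n + 1) j.1 = 0 := j.2
      change ψ (T1Lift.ε k (n + 1) j.1) = 0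
      change (T1Lift.ε k (n + 1) ≫ ψ) j.1 = 0
      rw [← hsq]
      change g (T1Lift.α k (n + 1) j.1) = 0
      rw [hj, map_zero]
    let ℓ : ↥(RingHom.ker (T1Lift.α k (n + 1)).toAlgHom) →ₗ[k] ↥(RingHom.ker ψ.toAlgHom) :=
      { toFun := fun j => ⟨T1Lift.εAlg k (n + 1) j.1, hmem j⟩
        map_add' := fun x y => Subtype.ext (map_add (T1Lift.εAlg k (n + 1)) x.1 y.1)
        map_smul' := fun r x => Subtype.ext (map_smul (T1Lift.εAlg k (n + 1)) r x.1) }
    have hℓinj : Function.Injective ℓ := by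
      rw [← LinearMap.ker_eq_bot, LinearMap.ker_eq_bot']
      intro j hj
      have h1 : T1Lift.εAlg k (n + 1) j.1 = 0 := congrArg Subtype.val hj
      exact Subtype.ext (eq_zero_of_α_ε k (n + 1) j.1 j.2 h1)
    have hn := hnat (T1Lift.α k (n + 1)) hαss ψ hψss (T1Lift.ε k (n + 1)) g hsq ℓ (fun j => rfl) X
    rw [hobs0] at hn
    have hinj : Function.Injective (LinearMap.lTensor V ℓ) :=
      Module.Flat.lTensor_preserves_injective_linearMap ℓ hℓinj
    have hz : O.obs (T1Lift.α k (n + 1)) hαss X = 0 := hinj (by rw [← hn, map_zero])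
    exact (O.obs_eq_zero_iff _ hαss X).1 hz

end Groth.Agent.S18187
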