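import Groth.Statements.S18188
import Mathlib.RingTheory.RootsOfUnity.PrimitiveRoots
import Mathlib.Algebra.Ring.GeomSum
import Mathlib.Tactic.Ring
import Mathlib.Tactic.FieldSimp
import Mathlib.Tactic.Linarith
import Mathlib.Algebra.BigOperators.Field

set_option autoImplicit false
universe u
open OrbRR

namespace Groth.Agent.S18188

variable {K : Type u} [Field K]

theorem g0 (ω : K) (n : ℕ) : (ω - 1) * ∑ i ∈ Finset.range n, ω ^ i = ω ^ n - 1 := by
  rw [mul_comm]; exact geom_sum_mul ω n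

theorem g1 (ω : K) (n : ℕ) : (ω - 1) ^ 2 * ∑ i ∈ Finset.range n, (i : K) * ω ^ i =
    ((n : K) - 1) * ω ^ (n + 1) - n * ω ^ n + ω := by
  induction n with
  | zero => simp
  | succ n ih => rw [Finset.sum_range_succ, mul_add, ih]; push_cast; ring

theorem g2 (ω : K) (n : ℕ) : (ω - 1) ^ 3 * ∑ i ∈ Finset.range n, (i : K) ^ 2 * ω ^ i =
    ((n : K) - 1) ^ 2 * ω ^ (n + 2) - (2 * (n : K) ^ 2 - 2 * n - 1) * ω ^ (n + 1) + (n : K) ^ 2 * ω ^ n
      - ω ^ 2 - ω := by
  induction n with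
  | zero => simp
  | succ n ih => rw [Finset.sum_range_succ, mul_add, ih]; push_cast; ring

theorem s1 (h2 : (2 : K) ≠ 0) (n : ℕ) :
    ∑ i ∈ Finset.range n, (i : K) = (n : K) * ((n : K) - 1) / 2 := by
  induction n with
  | zero => simp
  | succ n ih => rw [Finset.sum_range_succ, ih]; push_cast; field_simp; ring

theorem s2 (h6 : (6 : K) ≠ 0) (n : ℕ) : ∑ i ∈ Finset.range n, (i : K) ^ 2 =
    ((n : K) - 1) * n * (2 * n - 1) / 6 := by
  induction n with
  | zero => simp
  | succ n ih => rw [Finset.sum_range_succ, ih]; push_cast; field_simp; ring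

/-- the function `f(x) = x(x-N)/2 + (N^2-1)/12` -/
noncomputable def f (K : Type u) [Field K] (N : ℕ) (x : ℕ) : K :=
  (x : K) * ((x : K) - (N : K)) / 2 + ((N : K) ^ 2 - 1) / 12

theorem decomp (h2 : (2 : K) ≠ 0) (h12 : (12 : K) ≠ 0) (N : ℕ) (ω : K) :
    ∑ x ∈ Finset.range N, f K N x * ω ^ x =
      (1 / 2) * ∑ i ∈ Finset.range N, (i : K) ^ 2 * ω ^ i
        - ((N : K) / 2) * ∑ i ∈ Finset.range N, (i : K) * ω ^ i
        + (((N : K) ^ 2 - 1) / 12) * ∑ i ∈ Finset.range N, ω ^ i := by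
  rw [Finset.mul_sum, Finset.mul_sum, Finset.mul_sum, ← Finset.sum_sub_distrib,
    ← Finset.sum_add_distrib]
  refine Finset.sum_congr rfl fun i _ => ?_
  unfold f
  field_simp

theorem main_ne (h2 : (2 : K) ≠ 0) (h12 : (12 : K) ≠ 0) (N : ℕ) (ω : K) (hω : ω ^ N = 1)
    (h1 : ω ≠ 1) :
    (∑ x ∈ Finset.range N, f K N x * ω ^ x) * (ω - 1) ^ 2 = -(N : K) * ω := by
  have hsub : ω - 1 ≠ 0 := sub_ne_zero.2 h1
  rw [decomp h2 h12]
  have e0 := g0 ω N
  have e1 := g1 ω N
  have e2 := g2 ω N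
  have hN1 : ω ^ (N + 1) = ω := by rw [pow_succ, hω, one_mul]
  have hN2 : ω ^ (N + 2) = ω ^ 2 := by rw [pow_add, hω, one_mul]
  rw [hω] at e0
  rw [hN1, hω] at e1
  rw [hN2, hN1, hω] at e2
  have t0 : ∑ i ∈ Finset.range N, ω ^ i = 0 := by
    rcases mul_eq_zero.1 (e0.trans (sub_self 1)) with h | h
    · exact absurd h hsub
    · exact h
  rw [t0, mul_zero, add_zero]
  apply mul_left_cancel₀ hsub
  have : (ω - 1) * (((1 / 2) * ∑ i ∈ Finset.range N, (i : K) ^ 2 * ω ^ i
        - ((N : K) / 2) * ∑ i ∈ Finset.range N, (i : K) * ω ^ i) * (ω - 1) ^ 2) =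
      (1 / 2) * ((ω - 1) ^ 3 * ∑ i ∈ Finset.range N, (i : K) ^ 2 * ω ^ i)
        - ((N : K) / 2) * (ω - 1) * ((ω - 1) ^ 2 * ∑ i ∈ Finset.range N, (i : K) * ω ^ i) := by ring
  rw [this, e1, e2]
  field_simp
  ring

theorem main_eq (h2 : (2 : K) ≠ 0) (h6 : (6 : K) ≠ 0) (h12 : (12 : K) ≠ 0) (N : ℕ) :
    ∑ x ∈ Finset.range N, f K N x = 0 := by
  have := decomp h2 h12 N (1 : K)
  simp only [one_pow, mul_one, Finset.sum_const, Finset.card_range, nsmul_eq_mul] at this
  rw [this, s1 h2, s2 h6]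
  field_simp
  ring



/-- Let K be a field in which 6 ≠ 0, let j < N be natural numbers (so N ≥ 1), and let ζ ∈ K be a
primitive N-th root of unity. Then the sum over i = 1, …, N − 1 of ζ^{ij} / (2 − ζ^i − ζ^{−i})
equals j(j − N)/2 + (N² − 1)/12. (The published setting is characteristic zero; the identity is
stated here over any field of characteristic different from 2 and 3, where the published proof
applies unchanged: a field containing a primitive N-th root of unity has characteristic prime to N,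
and each denominator 2 − ζ^i − ζ^{−i} = −(1 − ζ^i)²/ζ^i with 0 < i < N is nonzero. In
characteristics 2 and 3 the right-hand side has no meaning.) -/
theorem result (K : Type u) [Field K] (h6 : (6 : K) ≠ 0)
    (N j : ℕ) (hj : j < N) (ζ : K) (hζ : IsPrimitiveRoot ζ N) :
    ∑ i ∈ Finset.Ioo 0 N, ζ ^ (i * j) / (2 - ζ ^ i - (ζ ^ i)⁻¹) =
      (j : K) * ((j : K) - (N : K)) / 2 + ((N : K) ^ 2 - 1) / 12 := by
  have hN : 0 < N := by omega
  have : NeZero N := ⟨hN.ne'⟩
  have hN0 : (N : K) ≠ 0 := (hζ.neZero').ne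
  have h2 : (2 : K) ≠ 0 := by
    intro h; apply h6
    have : (6 : K) = 2 * 3 := by norm_num
    rw [this, h, zero_mul]
  have h12 : (12 : K) ≠ 0 := by
    have : (12 : K) = 2 * 6 := by norm_num
    rw [this]; exact mul_ne_zero h2 h6
  have hζ0 : ζ ≠ 0 := hζ.ne_zero hN.ne'
  -- step 3: each term as a Fourier coefficient
  have hterm : ∀ i ∈ Finset.Ioo 0 N, ζ ^ (i * j) / (2 - ζ ^ i - (ζ ^ i)⁻¹) =
      (1 / (N : K)) * ∑ x ∈ Finset.range N, f K N x * (ζ ^ j * (ζ ^ x)⁻¹) ^ i := by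
    intro i hi
    obtain ⟨hi0, hiN⟩ := Finset.mem_Ioo.1 hi
    set u := ζ ^ i with hu
    have hu1 : u ≠ 1 := hζ.pow_ne_one_of_pos_of_lt hi0.ne' hiN
    have hu0 : u ≠ 0 := pow_ne_zero _ hζ0
    have huN : u⁻¹ ^ N = 1 := by
      rw [inv_pow, hu, ← pow_mul, mul_comm, pow_mul, hζ.pow_eq_one, one_pow, inv_one]
    have hui1 : u⁻¹ ≠ 1 := by
      intro h; apply hu1; rw [← inv_inv u, h, inv_one]
    have hm := main_ne h2 h12 N u⁻¹ huN hui1
    have hsum : ∑ x ∈ Finset.range N, f K N x * (ζ ^ j * (ζ ^ x)⁻¹) ^ i =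
        ζ ^ (i * j) * ∑ x ∈ Finset.range N, f K N x * u⁻¹ ^ x := by
      rw [Finset.mul_sum]
      refine Finset.sum_congr rfl fun x _ => ?_
      rw [mul_pow, inv_pow, ← pow_mul, ← pow_mul, hu, inv_pow, ← pow_mul, mul_comm j i, mul_comm x i]
      ring
    rw [hsum]
    have hsub : u - 1 ≠ 0 := sub_ne_zero.2 hu1
    have hden : 2 - u - u⁻¹ ≠ 0 := by
      have : 2 - u - u⁻¹ = -(u - 1) ^ 2 / u := by field_simp; ring
      rw [this]
      exact div_ne_zero (neg_ne_zero.2 (pow_ne_zero 2 hsub)) hu0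
    have hS : ∑ x ∈ Finset.range N, f K N x * u⁻¹ ^ x = (N : K) / (2 - u - u⁻¹) := by
      rw [eq_div_iff hden]
      have h3 : (u⁻¹ - 1) ^ 2 = (2 - u - u⁻¹) * (-u⁻¹) := by field_simp; ring
      have h4 : (∑ x ∈ Finset.range N, f K N x * u⁻¹ ^ x) * ((2 - u - u⁻¹) * (-u⁻¹)) =
          -(N : K) * u⁻¹ := by rw [← h3]; exact hm
      have hui0 : -u⁻¹ ≠ 0 := neg_ne_zero.2 (inv_ne_zero hu0)
      apply mul_right_cancel₀ hui0
      rw [mul_assoc, h4]; ring
    rw [hS]
    field_simp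
  rw [Finset.sum_congr rfl hterm, ← Finset.mul_sum, Finset.sum_comm]
  -- step 5: orthogonality
  have horth : ∀ x ∈ Finset.range N, ∑ i ∈ Finset.Ioo 0 N, f K N x * (ζ ^ j * (ζ ^ x)⁻¹) ^ i =
      f K N x * ((if x = j then (N : K) else 0) - 1) := by
    intro x hx
    have hxN := Finset.mem_range.1 hx
    rw [← Finset.mul_sum]
    congr 1
    set η := ζ ^ j * (ζ ^ x)⁻¹ with hη
    have hIoo : ∑ i ∈ Finset.Ioo 0 N, η ^ i = ∑ i ∈ Finset.range N, η ^ i - 1 := by
      have : Finset.range N = insert 0 (Finset.Ioo 0 N) := by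
        ext t; simp only [Finset.mem_range, Finset.mem_insert, Finset.mem_Ioo]; omega
      rw [this, Finset.sum_insert (by simp)]
      simp
    rw [hIoo]
    congr 1
    split_ifs with hxj
    · subst hxj
      have : η = 1 := by rw [hη]; exact mul_inv_cancel₀ (pow_ne_zero _ hζ0)
      rw [this]; simp
    · have hη1 : η ≠ 1 := by
        intro h
        apply hxj
        have : ζ ^ j = ζ ^ x := by
          rw [hη] at h
          have hx0 : ζ ^ x ≠ 0 := pow_ne_zero _ hζ0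
          field_simp at h
          exact h
        exact (hζ.pow_inj hj hxN this).symm
      have hηN : η ^ N = 1 := by
        rw [hη, mul_pow, inv_pow, ← pow_mul, ← pow_mul, mul_comm j N, mul_comm x N, pow_mul,
          pow_mul, hζ.pow_eq_one, one_pow, one_pow, inv_one, mul_one]
      have e0 := g0 η N
      rw [hηN, sub_self] at e0
      rcases mul_eq_zero.1 e0 with h | h
      · exact absurd h (sub_ne_zero.2 hη1)
      · exact h
  rw [Finset.sum_congr rfl horth]
  -- step 6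
  have hfin : ∑ x ∈ Finset.range N, f K N x * ((if x = j then (N : K) else 0) - 1) =
      (N : K) * f K N j := by
    simp only [mul_sub, mul_one, Finset.sum_sub_distrib, main_eq h2 h6 h12 N, sub_zero, mul_ite,
      mul_zero]
    rw [Finset.sum_ite_eq' (Finset.range N) j]
    rw [if_pos (Finset.mem_range.2 hj)]
    ring
  rw [hfin]
  unfold f
  field_simp

end Groth.Agent.S18188
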