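import Groth.Statements.S18189
import Mathlib.RingTheory.RootsOfUnity.Complex
import Mathlib.Algebra.Ring.GeomSum
import Mathlib.Tactic.Ring
import Mathlib.Tactic.FieldSimp
import Mathlib.Tactic.Linarith
import Mathlib.Algebra.BigOperators.Field

set_option autoImplicit false
open OrbRR

namespace Groth.Agent.S18189

theorem g0 (ω : ℂ) (n : ℕ) : (ω - 1) * ∑ i ∈ Finset.range n, ω ^ i = ω ^ n - 1 := by
  rw [mul_comm]; exact geom_sum_mul ω n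

theorem g1 (ω : ℂ) (n : ℕ) : (ω - 1) ^ 2 * ∑ i ∈ Finset.range n, (i : ℂ) * ω ^ i =
    ((n : ℂ) - 1) * ω ^ (n + 1) - n * ω ^ n + ω := by
  induction n with
  | zero => simp
  | succ n ih => rw [Finset.sum_range_succ, mul_add, ih]; push_cast; ring

theorem g2 (ω : ℂ) (n : ℕ) : (ω - 1) ^ 3 * ∑ i ∈ Finset.range n, (i : ℂ) ^ 2 * ω ^ i =
    ((n : ℂ) - 1) ^ 2 * ω ^ (n + 2) - (2 * (n : ℂ) ^ 2 - 2 * n - 1) * ω ^ (n + 1) + (n : ℂ) ^ 2 * ω ^ n
      - ω ^ 2 - ω := by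
  induction n with
  | zero => simp
  | succ n ih => rw [Finset.sum_range_succ, mul_add, ih]; push_cast; ring

theorem s1 (n : ℕ) : ∑ i ∈ Finset.range n, (i : ℂ) = (n : ℂ) * ((n : ℂ) - 1) / 2 := by
  induction n with
  | zero => simp
  | succ n ih => rw [Finset.sum_range_succ, ih]; push_cast; ring

theorem s2 (n : ℕ) : ∑ i ∈ Finset.range n, (i : ℂ) ^ 2 =
    ((n : ℂ) - 1) * n * (2 * n - 1) / 6 := by
  induction n with
  | zero => simp
  | succ n ih => rw [Finset.sum_range_succ, ih]; push_cast; ring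

theorem decomp (N : ℕ) (ω : ℂ) :
    ∑ i ∈ Finset.range N,
        ((i : ℂ) * ((i : ℂ) - (N : ℂ)) / 2 + ((N : ℂ) ^ 2 - 1) / 12) / (N : ℂ) * ω ^ i =
      (1 / (2 * (N : ℂ))) * ∑ i ∈ Finset.range N, (i : ℂ) ^ 2 * ω ^ i
        - (1 / 2) * ∑ i ∈ Finset.range N, (i : ℂ) * ω ^ i
        + (((N : ℂ) ^ 2 - 1) / (12 * N)) * ∑ i ∈ Finset.range N, ω ^ i := by
  by_cases hN : (N : ℂ) = 0
  · have : N = 0 := by exact_mod_cast hN
    subst this; simp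
  rw [Finset.mul_sum, Finset.mul_sum, Finset.mul_sum, ← Finset.sum_sub_distrib,
    ← Finset.sum_add_distrib]
  refine Finset.sum_congr rfl fun i _ => ?_
  field_simp

theorem main_ne (N : ℕ) (hN : 0 < N) (ω : ℂ) (hω : ω ^ N = 1) (h1 : ω ≠ 1) :
    (∑ i ∈ Finset.range N,
        ((i : ℂ) * ((i : ℂ) - (N : ℂ)) / 2 + ((N : ℂ) ^ 2 - 1) / 12) / (N : ℂ) * ω ^ i) *
      (ω - 1) ^ 2 = -ω := by
  have hN0 : (N : ℂ) ≠ 0 := by exact_mod_cast hN.ne'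
  have hsub : ω - 1 ≠ 0 := sub_ne_zero.2 h1
  rw [decomp]
  have e0 := g0 ω N
  have e1 := g1 ω N
  have e2 := g2 ω N
  have hN1 : ω ^ (N + 1) = ω := by rw [pow_succ, hω, one_mul]
  have hN2 : ω ^ (N + 2) = ω ^ 2 := by rw [pow_add, hω, one_mul]
  rw [hω] at e0
  rw [hN1, hω] at e1
  rw [hN2, hN1, hω] at e2
  have t0 : ∑ i ∈ Finset.range N, ω ^ i = 0 := by
    rcases mul_eq_zero.1 (e0.trans (sub_self 1)) with h | h
    · exact absurd h hsub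
    · exact h
  rw [t0, mul_zero, add_zero]
  apply mul_left_cancel₀ hsub
  have : (ω - 1) * (((1 / (2 * (N : ℂ))) * ∑ i ∈ Finset.range N, (i : ℂ) ^ 2 * ω ^ i
        - (1 / 2) * ∑ i ∈ Finset.range N, (i : ℂ) * ω ^ i) * (ω - 1) ^ 2) =
      (1 / (2 * (N : ℂ))) * ((ω - 1) ^ 3 * ∑ i ∈ Finset.range N, (i : ℂ) ^ 2 * ω ^ i)
        - (1 / 2) * (ω - 1) * ((ω - 1) ^ 2 * ∑ i ∈ Finset.range N, (i : ℂ) * ω ^ i) := by ring
  rw [this, e1, e2]
  field_simp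
  ring

theorem main_eq (N : ℕ) (hN : 0 < N) :
    (∑ i ∈ Finset.range N,
        ((i : ℂ) * ((i : ℂ) - (N : ℂ)) / 2 + ((N : ℂ) ^ 2 - 1) / 12) / (N : ℂ) * (1 : ℂ) ^ i) = 0 := by
  have hN0 : (N : ℂ) ≠ 0 := by exact_mod_cast hN.ne'
  rw [decomp]
  simp only [one_pow, mul_one, Finset.sum_const, Finset.card_range, nsmul_eq_mul]
  rw [s1, s2]
  field_simp
  ring



/-- Let N ≥ 1 be a natural number, let ζ ∈ ℂ be a primitive N-th root of unity, and put f(i) = i(i −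
N)/2 + (N² − 1)/12 for 0 ≤ i < N. For every natural number m the complex number ε_m = (1/N)
∑_{i=0}^{N−1} f(i) ζ^{mi}, an eigenvalue of the symmetric circulant N × N matrix with (i, j) entry
f(j − i)/N, is real and nonnegative. -/
theorem result (N : ℕ) (hN : 0 < N) (ζ : ℂ)
    (hζ : IsPrimitiveRoot ζ N) (m : ℕ) :
    (∑ i ∈ Finset.range N,
        ((i : ℂ) * ((i : ℂ) - (N : ℂ)) / 2 + ((N : ℂ) ^ 2 - 1) / 12) / (N : ℂ) * ζ ^ (m * i)).im = 0 ∧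
    0 ≤ (∑ i ∈ Finset.range N,
        ((i : ℂ) * ((i : ℂ) - (N : ℂ)) / 2 + ((N : ℂ) ^ 2 - 1) / 12) / (N : ℂ) * ζ ^ (m * i)).re := by
  set ω : ℂ := ζ ^ m with hω
  have hωN : ω ^ N = 1 := by
    rw [hω, ← pow_mul, mul_comm, pow_mul, hζ.pow_eq_one, one_pow]
  have hsum : (∑ i ∈ Finset.range N,
        ((i : ℂ) * ((i : ℂ) - (N : ℂ)) / 2 + ((N : ℂ) ^ 2 - 1) / 12) / (N : ℂ) * ζ ^ (m * i)) =
      ∑ i ∈ Finset.range N,
        ((i : ℂ) * ((i : ℂ) - (N : ℂ)) / 2 + ((N : ℂ) ^ 2 - 1) / 12) / (N : ℂ) * ω ^ i := by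
    refine Finset.sum_congr rfl fun i _ => ?_
    rw [hω, pow_mul]
  rw [hsum]
  by_cases h1 : ω = 1
  · rw [h1, main_eq N hN]; simp
  · have hmain := main_ne N hN ω hωN h1
    set S := ∑ i ∈ Finset.range N,
        ((i : ℂ) * ((i : ℂ) - (N : ℂ)) / 2 + ((N : ℂ) ^ 2 - 1) / 12) / (N : ℂ) * ω ^ i with hS
    have hnorm : ‖ω‖ = 1 := Complex.norm_eq_one_of_pow_eq_one hωN hN.ne'
    have hω0 : ω ≠ 0 := by
      intro h0; rw [h0] at hnorm; simp at hnorm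
    have hconj : (starRingEnd ℂ) ω = ω⁻¹ := by
      rw [Complex.inv_def, Complex.normSq_eq_norm_sq, hnorm]; simp
    have hsub : ω - 1 ≠ 0 := sub_ne_zero.2 h1
    have hns : ((Complex.normSq (1 - ω) : ℝ) : ℂ) = -(ω - 1) ^ 2 / ω := by
      rw [← Complex.mul_conj, map_sub, map_one, hconj]
      field_simp
      ring
    have hSeq : S = (((Complex.normSq (1 - ω))⁻¹ : ℝ) : ℂ) := by
      rw [Complex.ofReal_inv, hns]
      have h2 : (ω - 1) ^ 2 ≠ 0 := pow_ne_zero 2 hsub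
      rw [eq_comm, inv_eq_iff_eq_inv]
      have : S = -ω / (ω - 1) ^ 2 := by
        rw [eq_div_iff h2]; exact hmain
      rw [this]
      field_simp
    rw [hSeq]
    refine ⟨Complex.ofReal_im _, ?_⟩
    rw [Complex.ofReal_re]
    exact inv_nonneg.2 (Complex.normSq_nonneg _)

end Groth.Agent.S18189
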