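import Groth.Statements.S1819
import Mathlib
import Groth.Agent.Lib.Helper23.CxBid10
-- import your own Groth.Agent.* helpers here

set_option autoImplicit false
universe u
open CategoryTheory
attribute [local instance] HasDerivedCategory.standard
open Dual

namespace Groth.Agent.S1819

/-- Let A be a Noetherian ring with a dualizing complex ω and K a complex of A-modules all of whose
cohomology modules are finite; assume RHom(K, −) exists. Then every cohomology module of RHom_A(K,
ω) is finite, and for every complex E representing RHom_A(K, ω) (with RHom(E, −) existing) there is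
an isomorphism RHom_A(E, ω) ≅ K in D(A). -/
theorem result (A : Type u) [CommRing A] [IsNoetherianRing A] (ω : Dual.D A) (hω : Dual.IsDualizing A ω) (K : DRing.Cx A) [DRing.HasRHomCx K] (hK : ∀ i : ℤ, Module.Finite A (Dual.HD A (DRing.toD K) i)) : (∀ i : ℤ, Module.Finite A (Dual.HD A ((DRing.RHomCx K).obj ω) i)) ∧ ∀ (E : DRing.Cx A) [DRing.HasRHomCx E], Nonempty (DRing.toD E ≅ (DRing.RHomCx K).obj ω) → Nonempty ((DRing.RHomCx E).obj ω ≅ DRing.toD K) := by
  classical
  obtain ⟨M⟩ := Groth.Agent.Lib.helper23.DualD.exists_model ω hω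
  haveI := M.isKInjective
  have e1 : ∀ (X : DRing.Cx A) [DRing.HasRHomCx X],
      (DRing.RHomCx X).obj ω ≅ DerivedCategory.Q.obj (DRing.homCx X M.I) := fun X _ =>
    (DRing.RHomCx X).mapIso M.e.symm ≪≫ (Groth.Agent.Lib.helper23.RHomCx.RHomCxIso X M.I).symm
  refine ⟨fun i => ?_, fun E _ hE => ?_⟩
  · have h := Groth.Agent.Lib.helper23.CxBid.finite_homology_D hω M K hK i
    exact Module.Finite.equiv
      ((DerivedCategory.homologyFunctor (ModuleCat.{u} A) i).mapIso (e1 K)).toLinearEquiv.symm
  · obtain ⟨e⟩ := hE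
    obtain ⟨e2⟩ := Groth.Agent.Lib.helper23.CxBid.nonempty_biduality_iso hω M K hK E (e ≪≫ e1 K)
    exact ⟨e1 E ≪≫ e2⟩

end Groth.Agent.S1819
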