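import Groth.Statements.S18190
import Mathlib.LinearAlgebra.Matrix.PosDef
import Mathlib.Data.ZMod.Basic
import Mathlib.Tactic.Ring
import Mathlib.Tactic.FieldSimp
import Mathlib.Tactic.Linarith
import Mathlib.Analysis.RCLike.Basic
import Mathlib.Algebra.BigOperators.Field
import Mathlib.Algebra.Order.Star.Real

set_option autoImplicit false
open OrbRR

namespace Groth.Agent.S18190

theorem sB (c : ℝ) (n : ℕ) :
    ∑ t ∈ Finset.range n, ((t : ℝ) - c) = (n : ℝ) * ((n : ℝ) - 1) / 2 - n * c := by
  induction n with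
  | zero => simp
  | succ n ih => rw [Finset.sum_range_succ, ih]; push_cast; ring

theorem sA (c : ℝ) (n : ℕ) :
    ∑ t ∈ Finset.range n, ((t : ℝ) - c) ^ 2 =
      ((n : ℝ) - 1) * n * (2 * n - 1) / 6 - c * n * ((n : ℝ) - 1) + n * c ^ 2 := by
  induction n with
  | zero => simp
  | succ n ih => rw [Finset.sum_range_succ, ih]; push_cast; ring

/-- the centred sawtooth -/
noncomputable def w (N : ℕ) (t : ℕ) : ℝ := ((t : ℝ) - ((N : ℝ) - 1) / 2) / N

theorem key_real (N a : ℕ) (hN : 0 < N) (ha : a < N) :
    ∑ t ∈ Finset.range N, w N t * w N (if a ≤ t then t - a else t + N - a) =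
      (((a : ℝ) * ((a : ℝ) - N)) / 2 + ((N : ℝ) ^ 2 - 1) / 12) / N := by
  have hN0 : (N : ℝ) ≠ 0 := by exact_mod_cast hN.ne'
  set c : ℝ := ((N : ℝ) - 1) / 2 with hc
  have h1 : ∀ t ∈ Finset.range N, w N t * w N (if a ≤ t then t - a else t + N - a) =
      (((t : ℝ) - c) ^ 2 - a * ((t : ℝ) - c) +
        (if t < a then (N : ℝ) * ((t : ℝ) - c) else 0)) / (N : ℝ) ^ 2 := by
    intro t ht
    have htN := Finset.mem_range.1 ht
    unfold w
    rw [← hc]
    by_cases h : a ≤ t
    · rw [if_pos h, if_neg (by omega), Nat.cast_sub h]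
      field_simp
      ring
    · rw [if_neg h, if_pos (by omega), Nat.cast_sub (by omega)]
      push_cast
      field_simp
      ring
  rw [Finset.sum_congr rfl h1, ← Finset.sum_div, Finset.sum_add_distrib, Finset.sum_sub_distrib]
  have h2 : ∑ t ∈ Finset.range N, (if t < a then (N : ℝ) * ((t : ℝ) - c) else 0) =
      ∑ t ∈ Finset.range a, (N : ℝ) * ((t : ℝ) - c) := by
    rw [← Finset.sum_filter]
    congr 1
    ext t
    simp only [Finset.mem_filter, Finset.mem_range]
    omega
  rw [h2, ← Finset.mul_sum, ← Finset.mul_sum, sA, sB, sB, hc]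
  field_simp
  ring

theorem val_sub' {N : ℕ} [NeZero N] (k x : ZMod N) :
    (k - x).val = if x.val ≤ k.val then k.val - x.val else k.val + N - x.val := by
  split_ifs with h
  · exact ZMod.val_sub h
  · have hlt : k.val < x.val := by omega
    have h1 : (x - k).val = x.val - k.val := ZMod.val_sub hlt.le
    have hne : x - k ≠ 0 := by
      intro h0
      rw [h0] at h1
      simp at h1
      omega
    have : k - x = -(x - k) := by ring
    rw [this, ZMod.neg_val, if_neg hne, h1]
    have := ZMod.val_lt x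
    omega



/-- Let N ≥ 1 and let f : ℤ/Nℤ → ℚ be f(x) = x(x − N)/2 + (N² − 1)/12, where x is read as its
representative with 0 ≤ x < N. The real N × N matrix indexed by ℤ/Nℤ whose (i, j) entry is f(j −
i)/N, a symmetric circulant matrix, is positive semidefinite. -/
theorem result (N : ℕ) [NeZero N] :
    (Matrix.of fun i j : ZMod N =>
        ((((j - i).val : ℝ) * (((j - i).val : ℝ) - (N : ℝ))) / 2 + ((N : ℝ) ^ 2 - 1) / 12) / (N : ℝ)).PosSemidef := by
  have hN : 0 < N := Nat.pos_of_ne_zero (NeZero.ne N)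
  let W : Matrix (ZMod N) (ZMod N) ℝ := Matrix.of fun i k => w N (k - i).val
  have hM : (Matrix.of fun i j : ZMod N =>
        ((((j - i).val : ℝ) * (((j - i).val : ℝ) - (N : ℝ))) / 2 + ((N : ℝ) ^ 2 - 1) / 12) / (N : ℝ)) =
      W * W.conjTranspose := by
    ext i j
    simp only [Matrix.mul_apply, Matrix.conjTranspose_apply, Matrix.of_apply, star_trivial, W]
    symm
    rw [← Equiv.sum_comp (Equiv.addRight i)]
    simp only [Equiv.coe_addRight, add_sub_cancel_right]
    have hx : ∀ k : ZMod N, (k + i - j).val =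
        if (j - i).val ≤ k.val then k.val - (j - i).val else k.val + N - (j - i).val := by
      intro k
      have : k + i - j = k - (j - i) := by ring
      rw [this]
      exact val_sub' k (j - i)
    simp only [hx]
    rw [← key_real N (j - i).val hN (ZMod.val_lt _)]
    obtain ⟨n, rfl⟩ : ∃ n, N = n + 1 := ⟨N - 1, by omega⟩
    exact Fin.sum_univ_eq_sum_range
      (fun t => w (n + 1) t * w (n + 1) (if (j - i).val ≤ t then t - (j - i).val
        else t + (n + 1) - (j - i).val)) (n + 1)
  rw [hM]
  exact Matrix.posSemidef_self_mul_conjTranspose W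

end Groth.Agent.S18190
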