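import Groth.Statements.S18195
import Groth.Agent.Lib.Helper16.LocImm4

set_option autoImplicit false
universe u
open LocImm

namespace Groth.Agent.S18195

open CategoryTheory AlgebraicGeometry in
/-- Let `f : X ⟶ Y` and `g : Y ⟶ Z` be morphisms of Noetherian schemes with `g` separated and `f ≫ g` a
localizing immersion (localizing and injective on points). If `f` has schematically dense image,
i.e. each ring map `Γ(Y, U) → Γ(X, f⁻¹U)` is injective, then `f` is a localizing immersion. -/
theorem result {X Y Z : Scheme.{u}} [IsNoetherian X] [IsNoetherian Y] [IsNoetherian Z]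
    (f : X ⟶ Y) (g : Y ⟶ Z) (hfg : LocImm.IsLocImmersion (f ≫ g)) [IsSeparated g]
    (hd : ∀ U : Y.Opens, Function.Injective (f.app U).hom) : LocImm.IsLocImmersion f := by
  have hfac : Limits.pullback.lift (𝟙 _) f (Category.id_comp (f ≫ g)) ≫ Limits.pullback.snd (f ≫ g) g = f :=
    Limits.pullback.lift_snd _ _ _
  have hp : LocImm.IsLocImmersion (Limits.pullback.snd (f ≫ g) g) :=
    Groth.Agent.Lib.helper16.LocImm.isLocImmersion_pullback_snd (f ≫ g) g hfg
  have hLN : IsLocallyNoetherian (Limits.pullback (f ≫ g) g) :=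
    Groth.Agent.Lib.helper16.LocImm.isLocallyNoetherian_of_isLocalizing _ hp.1
  have hqc : QuasiCompact (Limits.pullback.fst (f ≫ g) g) := inferInstance
  have hcs : CompactSpace ↥(Limits.pullback (f ≫ g) g : Scheme.{u}) :=
    QuasiCompact.compactSpace_of_compactSpace (Limits.pullback.fst (f ≫ g) g)
  haveI : IsNoetherian (Limits.pullback (f ≫ g) g) := {}
  have key := Groth.Agent.Lib.helper16.LocImm.isLocImmersion_comp_of_dense
    (Limits.pullback.lift (𝟙 _) f (Category.id_comp (f ≫ g))) (Limits.pullback.snd (f ≫ g) g) hp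
    (by rw [hfac]; exact hd)
  rwa [hfac] at key

end Groth.Agent.S18195
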