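import Groth.Statements.S18205
import Groth.Agent.Lib.Helper16.LocImm

set_option autoImplicit false
universe u
open LocImm

namespace Groth.Agent.S18205

open CategoryTheory AlgebraicGeometry in
/-- Let `f : X ⟶ Y` be a localizing immersion (localizing and injective on points) of Noetherian schemes
whose image is closed. Then `f` is an open immersion (so its image is open and closed and `f` is an
isomorphism onto a union of connected components of `Y`); in particular a surjective localizing
immersion is an isomorphism. -/
theorem result {X Y : Scheme.{u}} [IsNoetherian X] [IsNoetherian Y]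
    (f : X ⟶ Y) (hf : LocImm.IsLocImmersion f) (hc : IsClosed (Set.range (fun x => f x))) : IsOpenImmersion f := by
  have hm : Mono f := Groth.Agent.Lib.helper16.LocImm.mono_of_isLocImmersion f hf
  have hfl : Flat f := Groth.Agent.Lib.helper16.LocImm.flat_of_isLocalizing f hf.1
  have hgen : GeneralizingMap (fun x => f x) := Flat.generalizingMap f
  have hopen : IsOpen (Set.range (fun x => f x)) :=
    Groth.Agent.Lib.helper16.LocImm.isOpen_of_isClosed_of_stableUnderGeneralization _ hc
      hgen.stableUnderGeneralization_range
  have hemb : Topology.IsEmbedding (fun x => f x) :=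
    Groth.Agent.Lib.helper16.LocImm.isEmbedding_of_generalizingMap _ f.continuous hf.2 hgen
  have hoe : Topology.IsOpenEmbedding (fun x => f x) := ⟨hemb, hopen⟩
  have hst : ∀ x, IsIso (f.stalkMap x) :=
    fun x => Groth.Agent.Lib.helper16.LocImm.isIso_stalkMap_of_isLocImmersion f hf x
  exact IsOpenImmersion.of_isIso_stalkMap f hoe

end Groth.Agent.S18205
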