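import Groth.Statements.S18206
import Groth.Agent.Lib.Helper16.LocImm
import Groth.Agent.Lib.Helper16.SchDense
open Groth.Agent.Lib.helper16.LocImm Groth.Agent.Lib.helper16.SchDense

set_option autoImplicit false
universe u
open LocImm

namespace Groth.Agent.S18206

open CategoryTheory AlgebraicGeometry in
/-- Let `f : X ⟶ Y` be a localizing immersion (localizing and injective on points) of Noetherian
schemes. Then every quasi-coherent ideal sheaf `I` on `X` is the inverse image ideal `J·O_X` of some
quasi-coherent ideal sheaf `J` on `Y` (all such ideals are coherent, the schemes being Noetherian). -/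
theorem result {X Y : Scheme.{u}} [IsNoetherian X] [IsNoetherian Y]
    (f : X ⟶ Y) (hf : LocImm.IsLocImmersion f) (I : X.IdealSheafData) : ∃ J : Y.IdealSheafData, J.comap f = I := by
  haveI : Flat f := flat_of_isLocalizing f hf.1
  haveI : Mono f := mono_of_isLocImmersion f hf
  set f' := I.subschemeι ≫ f with hf'
  haveI : QuasiCompact f' := inferInstance
  refine ⟨f'.ker, ?_⟩
  haveI : IsSchemeTheoreticallyDominant f'.toImage :=
    ⟨ker_toImage_eq_bot f' (fun U => Scheme.Hom.ker_apply f' U)⟩
  let c : I.subscheme ⟶ Limits.pullback f f'.ker.subschemeι :=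
    Limits.pullback.lift I.subschemeι f'.toImage (by rw [hf']; exact f'.toImage_imageι.symm)
  have hc1 : c ≫ Limits.pullback.fst f f'.ker.subschemeι = I.subschemeι := Limits.pullback.lift_fst _ _ _
  have hc2 : c ≫ Limits.pullback.snd f f'.ker.subschemeι = f'.toImage := Limits.pullback.lift_snd _ _ _
  have hpb : IsPullback (𝟙 I.subscheme) c f'.toImage (Limits.pullback.snd f f'.ker.subschemeι) := by
    refine ⟨⟨by rw [Category.id_comp, hc2]⟩, ⟨Limits.PullbackCone.IsLimit.mk _ (fun s => s.fst) ?_ ?_ ?_⟩⟩
    · intro s; exact Category.comp_id _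
    · intro s
      apply Limits.pullback.hom_ext
      · rw [Category.assoc, hc1, ← cancel_mono f, Category.assoc, Category.assoc,
          Limits.pullback.condition, ← Category.assoc s.snd, ← s.condition, Category.assoc]
        show s.fst ≫ f' = s.fst ≫ f'.toImage ≫ f'.imageι
        rw [f'.toImage_imageι]
      · rw [Category.assoc, hc2]; exact s.condition
    · intro s m h1 _
      rw [← h1]; exact (Category.comp_id _).symm
  haveI : Flat (Limits.pullback.snd f f'.ker.subschemeι) := inferInstance
  haveI : IsSchemeTheoreticallyDominant c := IsSchemeTheoreticallyDominant.of_isPullback hpb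
  haveI : IsClosedImmersion c := by
    haveI : IsClosedImmersion (c ≫ Limits.pullback.fst f f'.ker.subschemeι) := by rw [hc1]; infer_instance
    exact IsClosedImmersion.of_comp c (Limits.pullback.fst f f'.ker.subschemeι)
  haveI : IsIso c := IsClosedImmersion.isIso_iff_ker_eq_bot.mpr c.ker_eq_bot
  rw [Scheme.IdealSheafData.comap, ← Scheme.Hom.ker_comp_of_isIso c, hc1,
    Scheme.IdealSheafData.ker_subschemeι]

end Groth.Agent.S18206
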