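import Groth.Statements.S18232
import Mathlib
import Groth.Agent.Lib.Helper16.IdealComapPow

set_option autoImplicit false
universe u
open CategoryTheory MonoidalCategory CartesianMonoidalCategory AlgebraicGeometry Opposite
open Magnet

namespace Groth.Agent.S18232

section helpers

open CategoryTheory.Limits

/-- base change of `t` along the second projection: pasting. -/
lemma isPullback_map {X Y Z W : Scheme.{u}} (f : X ⟶ Z) (g : Y ⟶ Z) (t : W ⟶ Y) :
    IsPullback (pullback.map f (t ≫ g) f g (𝟙 X) t (𝟙 Z) (by simp) (by simp))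
      (pullback.snd f (t ≫ g)) (pullback.snd f g) t := by
  refine (IsPullback.of_bot ?_ ?_ (IsPullback.of_hasPullback f g).flip).flip
  · have : pullback.map f (t ≫ g) f g (𝟙 X) t (𝟙 Z) (by simp) (by simp) ≫ pullback.fst f g =
        pullback.fst f (t ≫ g) := by
      rw [pullback.map, pullback.lift_fst, Category.comp_id]
    rw [this]
    exact (IsPullback.of_hasPullback f (t ≫ g)).flip
  · rw [pullback.map, pullback.lift_snd]

/-- the kernel of a base change of a closed immersion. -/
lemma ker_of_isPullback {P' P W Y : Scheme.{u}} {i : P' ⟶ P} {s' : P' ⟶ W} {s : P ⟶ Y} {t : W ⟶ Y}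
    [IsClosedImmersion t] (h : IsPullback i s' s t) : i.ker = t.ker.comap s := by
  rw [← h.isoPullback_hom_fst, Scheme.Hom.ker_comp_of_isIso,
    Scheme.IdealSheafData.ker_fst_of_isClosedImmersion]

/-- a square-zero ideal gives a square-zero kernel. -/
lemma ker_sq_eq_bot {A : Type u} [CommRing A] (I : Ideal A) (hI : I ^ 2 = ⊥) :
    (Spec.map (CommRingCat.ofHom (Ideal.Quotient.mk I))).ker ^ 2 = ⊥ := by
  apply Scheme.IdealSheafData.ext_of_isAffine
  rw [Scheme.IdealSheafData.ideal_pow, Pi.pow_apply, Scheme.Hom.ker_apply,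
    Scheme.IdealSheafData.ideal_bot, Pi.bot_apply, eq_bot_iff, pow_two, Ideal.mul_le]
  intro x hx y hy
  rw [Ideal.mem_bot]
  rw [RingHom.mem_ker] at hx hy
  -- transport to `A` through `ΓSpecIso`
  have key : ∀ z : Γ(Spec (CommRingCat.of A), ⊤),
      ((Spec.map (CommRingCat.ofHom (Ideal.Quotient.mk I))).app ⊤).hom z = 0 →
        (Scheme.ΓSpecIso (CommRingCat.of A)).hom.hom z ∈ I := by
    intro z hz
    have h1 := Scheme.ΓSpecIso_naturality (CommRingCat.ofHom (Ideal.Quotient.mk I))
    have h2 := congr($(h1).hom z)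
    simp only [CommRingCat.hom_comp, RingHom.comp_apply] at h2
    have h3 : ((Spec.map (CommRingCat.ofHom (Ideal.Quotient.mk I))).appTop).hom z = 0 := hz
    rw [h3, map_zero] at h2
    exact Ideal.Quotient.eq_zero_iff_mem.mp h2.symm
  have hxy : (Scheme.ΓSpecIso (CommRingCat.of A)).hom.hom (x * y) = 0 := by
    rw [map_mul]
    have : (Scheme.ΓSpecIso (CommRingCat.of A)).hom.hom x * (Scheme.ΓSpecIso (CommRingCat.of A)).hom.hom y
        ∈ I ^ 2 := by
      rw [pow_two]
      exact Ideal.mul_mem_mul (key x hx) (key y hy)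
    rw [hI] at this
    exact this
  have hinj : Function.Injective (Scheme.ΓSpecIso (CommRingCat.of A)).hom.hom :=
    (ConcreteCategory.bijective_of_isIso (Scheme.ΓSpecIso (CommRingCat.of A)).hom).injective
  exact hinj (hxy.trans (map_zero _).symm)


theorem result' (S : Scheme.{u}) (M : Type) [AddCommGroup M]
    [AddGroup.FG M] (N : AddSubmonoid M) {X Y : Over S} (aX : Magnet.MonAct (Magnet.AMonS S M) X)
    (aY : Magnet.MonAct (Magnet.AMonS S M) Y) (f : X ⟶ Y) (hf : Magnet.MonAct.IsEquivariant aX aY f)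
    [FormallyUnramified f.left] (A : Type u) [CommRing A] (I : Ideal A) (hI : I ^ 2 = ⊥)
    (str : Spec (CommRingCat.of A) ⟶ S) (l₁ l₂ : (Magnet.attr aX N).obj (op (Over.mk str)))
    (htop : (Magnet.attr aX N).map (Over.homMk (Spec.map (CommRingCat.ofHom (Ideal.Quotient.mk I))) rfl :
        Over.mk (Spec.map (CommRingCat.ofHom (Ideal.Quotient.mk I)) ≫ str) ⟶ Over.mk str).op l₁ =
      (Magnet.attr aX N).map (Over.homMk (Spec.map (CommRingCat.ofHom (Ideal.Quotient.mk I))) rfl :
        Over.mk (Spec.map (CommRingCat.ofHom (Ideal.Quotient.mk I)) ≫ str) ⟶ Over.mk str).op l₂)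
    (hbot : (Magnet.MonAct.eqvHom.postcomp (Magnet.subAct S M N) f hf).app _ l₁ =
      (Magnet.MonAct.eqvHom.postcomp (Magnet.subAct S M N) f hf).app _ l₂) :
    l₁ = l₂ := by
  set t : Over.mk (Spec.map (CommRingCat.ofHom (Ideal.Quotient.mk I)) ≫ str) ⟶ Over.mk str :=
    Over.homMk (Spec.map (CommRingCat.ofHom (Ideal.Quotient.mk I))) rfl with ht
  have hpb : IsPullback ((Magnet.AMonS S N) ◁ t).left
      (pullback.snd (Magnet.AMonS S N).hom (Spec.map (CommRingCat.ofHom (Ideal.Quotient.mk I)) ≫ str))
      (pullback.snd (Magnet.AMonS S N).hom str)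
      (Spec.map (CommRingCat.ofHom (Ideal.Quotient.mk I))) :=
    isPullback_map (Magnet.AMonS S N).hom str (Spec.map (CommRingCat.ofHom (Ideal.Quotient.mk I)))
  haveI : IsClosedImmersion (Spec.map (CommRingCat.ofHom (Ideal.Quotient.mk I))) :=
    IsClosedImmersion.spec_of_surjective _ Ideal.Quotient.mk_surjective
  haveI : IsClosedImmersion ((Magnet.AMonS S N) ◁ t).left :=
    MorphismProperty.of_isPullback hpb.flip inferInstance
  have hnil : IsNilpotent ((Magnet.AMonS S N) ◁ t).left.ker := by
    refine ⟨2, ?_⟩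
    rw [ker_of_isPullback hpb, ← Groth.Agent.Lib.helper16.IdealComapPow.comap_pow, ker_sq_eq_bot I hI,
      Scheme.IdealSheafData.comap_bot]
    rfl
  have h1 : ((Magnet.AMonS S N) ◁ t).left ≫ l₁.1.left = ((Magnet.AMonS S N) ◁ t).left ≫ l₂.1.left := by
    have := congr(($htop).1.left)
    exact this
  have h2 : l₁.1.left ≫ f.left = l₂.1.left ≫ f.left := by
    have := congr(($hbot).1.left)
    exact this
  have h3 := FormallyUnramified.hom_ext ((Magnet.AMonS S N) ◁ t).left hnil f.left h1 h2
  exact Subtype.ext (Over.OverMorphism.ext h3)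


end helpers


/-- Let S be a scheme, M a finitely generated abelian group, N a submonoid of M, and let X, Y be
S-schemes with actions of the diagonalizable group scheme D(M)_S and f : X → Y an equivariant,
formally unramified S-morphism. Then the induced map f^N : X^N → Y^N, viewed as a transformation of
functors on S-schemes, is again formally unramified: for every ring A, ideal I of A with I² = 0 and
structure morphism Spec A → S, writing T = Spec (A/I) ⊂ T' = Spec A, two elements of X^N(T') with
the same restriction to T and the same image in Y^N(T') are equal. (Stated for schemes; the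
published statement is for algebraic spaces over S.) -/
theorem result (S : Scheme.{u}) (M : Type) [AddCommGroup M]
    [AddGroup.FG M] (N : AddSubmonoid M) {X Y : Over S} (aX : Magnet.MonAct (Magnet.AMonS S M) X)
    (aY : Magnet.MonAct (Magnet.AMonS S M) Y) (f : X ⟶ Y) (hf : Magnet.MonAct.IsEquivariant aX aY f)
    [FormallyUnramified f.left] (A : Type u) [CommRing A] (I : Ideal A) (hI : I ^ 2 = ⊥)
    (str : Spec (CommRingCat.of A) ⟶ S) (l₁ l₂ : (Magnet.attr aX N).obj (op (Over.mk str)))
    (htop : (Magnet.attr aX N).map (Over.homMk (Spec.map (CommRingCat.ofHom (Ideal.Quotient.mk I))) rfl :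
        Over.mk (Spec.map (CommRingCat.ofHom (Ideal.Quotient.mk I)) ≫ str) ⟶ Over.mk str).op l₁ =
      (Magnet.attr aX N).map (Over.homMk (Spec.map (CommRingCat.ofHom (Ideal.Quotient.mk I))) rfl :
        Over.mk (Spec.map (CommRingCat.ofHom (Ideal.Quotient.mk I)) ≫ str) ⟶ Over.mk str).op l₂)
    (hbot : (Magnet.MonAct.eqvHom.postcomp (Magnet.subAct S M N) f hf).app _ l₁ =
      (Magnet.MonAct.eqvHom.postcomp (Magnet.subAct S M N) f hf).app _ l₂) :
    l₁ = l₂ := by
  exact Groth.Agent.S18232.result' S M N aX aY f hf A I hI str l₁ l₂ htop hbot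

end Groth.Agent.S18232
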