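import Groth.Statements.S18234
import Mathlib
import Groth.Agent.S18232

set_option autoImplicit false
universe u
open CategoryTheory MonoidalCategory CartesianMonoidalCategory AlgebraicGeometry Opposite
open Magnet

namespace Groth.Agent.S18234

section helpers

open CategoryTheory.Limits

/-- a square-zero kernel gives a square-zero kernel ideal sheaf. -/
lemma ker_sq_eq_bot {R S' : CommRingCat.{u}} (φ : R ⟶ S') (hI : RingHom.ker φ.hom ^ 2 = ⊥) :
    (Spec.map φ).ker ^ 2 = ⊥ := by
  apply Scheme.IdealSheafData.ext_of_isAffine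
  rw [Scheme.IdealSheafData.ideal_pow, Pi.pow_apply, Scheme.Hom.ker_apply,
    Scheme.IdealSheafData.ideal_bot, Pi.bot_apply, eq_bot_iff, pow_two, Ideal.mul_le]
  intro x hx y hy
  rw [Ideal.mem_bot]
  rw [RingHom.mem_ker] at hx hy
  have key : ∀ z : Γ(Spec R, ⊤), ((Spec.map φ).app ⊤).hom z = 0 →
      (Scheme.ΓSpecIso R).hom.hom z ∈ RingHom.ker φ.hom := by
    intro z hz
    have h1 := Scheme.ΓSpecIso_naturality φ
    have h2 := congr($(h1).hom z)
    simp only [CommRingCat.hom_comp, RingHom.comp_apply] at h2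
    have h3 : ((Spec.map φ).appTop).hom z = 0 := hz
    rw [h3, map_zero] at h2
    exact RingHom.mem_ker.mpr h2.symm
  have hxy : (Scheme.ΓSpecIso R).hom.hom (x * y) = 0 := by
    rw [map_mul]
    have : (Scheme.ΓSpecIso R).hom.hom x * (Scheme.ΓSpecIso R).hom.hom y ∈ RingHom.ker φ.hom ^ 2 := by
      rw [pow_two]
      exact Ideal.mul_mem_mul (key x hx) (key y hy)
    rw [hI] at this
    exact this
  have hinj : Function.Injective (Scheme.ΓSpecIso R).hom.hom :=
    (ConcreteCategory.bijective_of_isIso (Scheme.ΓSpecIso R).hom).injective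
  exact hinj (hxy.trans (map_zero _).symm)

lemma isPullback_map' {X Y Z W : Scheme.{u}} (f : X ⟶ Z) (g : Y ⟶ Z) (t : W ⟶ Y) (h : W ⟶ Z)
    (hw : t ≫ g = h) :
    IsPullback (pullback.map f h f g (𝟙 X) t (𝟙 Z) (by simp) (by simp [hw]))
      (pullback.snd f h) (pullback.snd f g) t := by
  subst hw
  exact Groth.Agent.S18232.isPullback_map f g t

theorem core (S : Scheme.{u}) (M : Type) [AddCommGroup M]
    (N : AddSubmonoid M) {X Y : Over S} (aX : Magnet.MonAct (Magnet.AMonS S M) X)
    (aY : Magnet.MonAct (Magnet.AMonS S M) Y) (f : X ⟶ Y) (hf : Magnet.MonAct.IsEquivariant aX aY f)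
    [FormallyUnramified f.left] {T T' : Over S} (t : T ⟶ T') [IsClosedImmersion t.left]
    (hker : t.left.ker ^ 2 = ⊥)
    (l₁ l₂ : (Magnet.attr aX N).obj (op T'))
    (htop : (Magnet.attr aX N).map t.op l₁ = (Magnet.attr aX N).map t.op l₂)
    (hbot : (Magnet.MonAct.eqvHom.postcomp (Magnet.subAct S M N) f hf).app _ l₁ =
      (Magnet.MonAct.eqvHom.postcomp (Magnet.subAct S M N) f hf).app _ l₂) :
    l₁ = l₂ := by
  have hpb : IsPullback ((Magnet.AMonS S N) ◁ t).left
      (pullback.snd (Magnet.AMonS S N).hom T.hom)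
      (pullback.snd (Magnet.AMonS S N).hom T'.hom) t.left := by
    exact isPullback_map' (Magnet.AMonS S N).hom T'.hom t.left T.hom (Over.w t)
  haveI : IsClosedImmersion ((Magnet.AMonS S N) ◁ t).left :=
    MorphismProperty.of_isPullback hpb.flip inferInstance
  have hnil : IsNilpotent ((Magnet.AMonS S N) ◁ t).left.ker := by
    refine ⟨2, ?_⟩
    rw [Groth.Agent.S18232.ker_of_isPullback hpb,
      ← Groth.Agent.Lib.helper16.IdealComapPow.comap_pow, hker, Scheme.IdealSheafData.comap_bot]
    rfl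
  have h1 : ((Magnet.AMonS S N) ◁ t).left ≫ l₁.1.left = ((Magnet.AMonS S N) ◁ t).left ≫ l₂.1.left := by
    have := congr(($htop).1.left)
    exact this
  have h2 : l₁.1.left ≫ f.left = l₂.1.left ≫ f.left := by
    have := congr(($hbot).1.left)
    exact this
  have h3 := FormallyUnramified.hom_ext ((Magnet.AMonS S N) ◁ t).left hnil f.left h1 h2
  exact Subtype.ext (Over.OverMorphism.ext h3)


theorem result' (S : Scheme.{u}) (M : Type) [AddCommGroup M]
    (N : AddSubmonoid M) {X Y : Over S} (aX : Magnet.MonAct (Magnet.AMonS S M) X)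
    (aY : Magnet.MonAct (Magnet.AMonS S M) Y) (f : X ⟶ Y) (hf : Magnet.MonAct.IsEquivariant aX aY f)
    [FormallyUnramified f.left] {ZX ZY : Over S} (eX : (Magnet.attr aX N).RepresentableBy ZX) (eY : (Magnet.attr aY N).RepresentableBy ZY)
    (j : ZX ⟶ ZY) (hj : ∀ (T : Over S) (z : T ⟶ ZX),
      eY.homEquiv (z ≫ j) = (Magnet.MonAct.eqvHom.postcomp (Magnet.subAct S M N) f hf).app (op T) (eX.homEquiv z)) :
    FormallyUnramified j.left := by
  apply FormallyUnramified.of_hom_ext
  intro R S' φ hφ hker g₁ g₂ h12 hj12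
  have hstr : g₂ ≫ ZX.hom = g₁ ≫ ZX.hom := by
    rw [← Over.w j, ← Category.assoc, ← Category.assoc, hj12]
  let T' : Over S := Over.mk (g₁ ≫ ZX.hom)
  let T : Over S := Over.mk (Spec.map φ ≫ g₁ ≫ ZX.hom)
  let t : T ⟶ T' := Over.homMk (Spec.map φ) rfl
  let z₁ : T' ⟶ ZX := Over.homMk g₁ rfl
  let z₂ : T' ⟶ ZX := Over.homMk g₂ hstr
  haveI : IsClosedImmersion t.left := IsClosedImmersion.spec_of_surjective φ hφ
  have hk : t.left.ker ^ 2 = ⊥ := ker_sq_eq_bot φ hker
  have htz : t ≫ z₁ = t ≫ z₂ := Over.OverMorphism.ext h12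
  have hzj : z₁ ≫ j = z₂ ≫ j := Over.OverMorphism.ext hj12
  have key := core S M N aX aY f hf t hk (eX.homEquiv z₁) (eX.homEquiv z₂)
    (by rw [← eX.homEquiv_comp, ← eX.homEquiv_comp, htz])
    (by rw [← hj, ← hj, hzj])
  have hz : z₁ = z₂ := eX.homEquiv.injective key
  exact congr(($hz).left)


end helpers


/-- Let S be a scheme, M a finitely generated abelian group, N a submonoid of M, X and Y schemes over S
with actions of the diagonalizable group scheme D(M)_S, and f : X → Y a formally unramified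
equivariant S-morphism. If the attractors X^N and Y^N are represented by S-schemes Z_X and Z_Y, and
j : Z_X → Z_Y is the S-morphism that corresponds to f^N under the two representing bijections, then
j is formally unramified. (Stated for schemes; the published statement is for algebraic spaces over
S.) -/
theorem result (S : Scheme.{u}) (M : Type) [AddCommGroup M]
    [AddGroup.FG M] (N : AddSubmonoid M) {X Y : Over S} (aX : Magnet.MonAct (Magnet.AMonS S M) X)
    (aY : Magnet.MonAct (Magnet.AMonS S M) Y) (f : X ⟶ Y) (hf : Magnet.MonAct.IsEquivariant aX aY f)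
    [FormallyUnramified f.left] {ZX ZY : Over S} (eX : (Magnet.attr aX N).RepresentableBy ZX) (eY : (Magnet.attr aY N).RepresentableBy ZY)
    (j : ZX ⟶ ZY) (hj : ∀ (T : Over S) (z : T ⟶ ZX),
      eY.homEquiv (z ≫ j) = (Magnet.MonAct.eqvHom.postcomp (Magnet.subAct S M N) f hf).app (op T) (eX.homEquiv z)) :
    FormallyUnramified j.left := by
  exact Groth.Agent.S18234.result' S M N aX aY f hf eX eY j hj

end Groth.Agent.S18234
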