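import Groth.Statements.S18247
import Mathlib

set_option autoImplicit false
universe u
open W4c5m1nsnscurves
open Curves

namespace Groth.Agent.S18247

open W4c5m1nsnscurves MvPolynomial

/-- images of the generators in the polynomial ring in six variables -/
noncomputable def gimg : UGen 2 → MvPolynomial (Fin 6) ℤ
  | .a => X 0
  | .c => (X 0 + X 1 + X 2 + X 3 + X 4 - X 5) * X 3 + X 5 * X 1 - X 1 * X 3
  | .cb => (X 0 + X 1 + X 2 + X 3 + X 4 - X 5) * X 2 + X 5 * X 4 - X 2 * X 4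
  | .ci i => if i = 0 then X 1 else X 3
  | .cbi i => if i = 0 then X 2 else X 4
  | .cij i _ _ => if i = 0 then X 5 else X 0 + X 1 + X 2 + X 3 + X 4 - X 5

lemma gimg_rel : ∀ r ∈ URel ℤ 2, aeval gimg r = 0 := by
  intro r hr
  simp only [URel, Set.mem_union, Set.mem_range] at hr
  rcases hr with ((⟨⟨⟨i, j⟩, h⟩, rfl⟩ | ⟨⟨⟨i, j⟩, h⟩, rfl⟩) | ⟨⟨⟨i, j⟩, h⟩, rfl⟩) | ⟨⟨⟨i, j, k⟩, h1, h2, h3⟩, rfl⟩
  · fin_cases i <;> fin_cases j <;> simp at h <;> simp [gimg] <;> ring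
  · fin_cases i <;> fin_cases j <;> simp at h <;> simp [gimg] <;> ring
  · fin_cases i <;> fin_cases j <;> simp at h <;> simp [gimg] <;> ring
  · exfalso
    fin_cases i <;> fin_cases j <;> fin_cases k <;> simp at h1 h2 h3

/-- the inverse map -/
noncomputable def psi : URing ℤ 2 →ₐ[ℤ] MvPolynomial (Fin 6) ℤ :=
  Ideal.Quotient.liftₐ (Ideal.span (URel ℤ 2)) (aeval gimg) (by
    intro x hx
    have : Ideal.span (URel ℤ 2) ≤ RingHom.ker (aeval gimg : MvPolynomial (UGen 2) ℤ →ₐ[ℤ] _) := by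
      rw [Ideal.span_le]
      intro r hr
      exact gimg_rel r hr
    exact this hx)

lemma psi_ugen (g : UGen 2) : psi (ugen ℤ 2 g) = gimg g := by
  simp [psi, ugen]

/-- the forward map -/
noncomputable abbrev phi : MvPolynomial (Fin 6) ℤ →ₐ[ℤ] URing ℤ 2 :=
  MvPolynomial.aeval (R := ℤ) (S₁ := URing ℤ 2)
      ![ugen ℤ 2 .a, ugen ℤ 2 (.ci 0), ugen ℤ 2 (.cbi 0), ugen ℤ 2 (.ci 1), ugen ℤ 2 (.cbi 1),
        ugen ℤ 2 (.cij 0 1 Fin.zero_ne_one)]

lemma psi_phi : psi.comp phi = AlgHom.id ℤ _ := by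
  apply MvPolynomial.algHom_ext
  intro i
  fin_cases i <;> simp [phi, psi_ugen, gimg]

lemma R1 : ugen ℤ 2 (.cij 0 1 Fin.zero_ne_one) + ugen ℤ 2 (.cij 1 0 (Ne.symm Fin.zero_ne_one)) =
    ugen ℤ 2 .a + ugen ℤ 2 (.ci 0) + ugen ℤ 2 (.cbi 0) + ugen ℤ 2 (.ci 1) + ugen ℤ 2 (.cbi 1) := by
  have h : (X (.cij 0 1 Fin.zero_ne_one) + X (.cij 1 0 (Ne.symm Fin.zero_ne_one)) -
      (X .a + X (.ci 0) + X (.cbi 0) + X (.ci 1) + X (.cbi 1)) : MvPolynomial (UGen 2) ℤ) ∈ URel ℤ 2 := by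
    left; left; left
    exact ⟨⟨(0, 1), Fin.zero_ne_one⟩, rfl⟩
  have := Ideal.Quotient.eq_zero_iff_mem.mpr (Ideal.subset_span h)
  simp only [map_sub, map_add] at this
  exact sub_eq_zero.mp this

lemma R2 : ugen ℤ 2 (.cij 1 0 (Ne.symm Fin.zero_ne_one)) * ugen ℤ 2 (.ci 1) +
    ugen ℤ 2 (.cij 0 1 Fin.zero_ne_one) * ugen ℤ 2 (.ci 0) - ugen ℤ 2 (.ci 0) * ugen ℤ 2 (.ci 1) =
    ugen ℤ 2 .c := by
  have h : (X (.cij 1 0 (Ne.symm Fin.zero_ne_one)) * X (.ci 1) +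
      X (.cij 0 1 Fin.zero_ne_one) * X (.ci 0) - X (.ci 0) * X (.ci 1) - X .c :
      MvPolynomial (UGen 2) ℤ) ∈ URel ℤ 2 := by
    left; left; right
    exact ⟨⟨(0, 1), Fin.zero_ne_one⟩, rfl⟩
  have := Ideal.Quotient.eq_zero_iff_mem.mpr (Ideal.subset_span h)
  simp only [map_sub, map_add, map_mul] at this
  exact sub_eq_zero.mp this

lemma R3 : ugen ℤ 2 (.cij 1 0 (Ne.symm Fin.zero_ne_one)) * ugen ℤ 2 (.cbi 0) +
    ugen ℤ 2 (.cij 0 1 Fin.zero_ne_one) * ugen ℤ 2 (.cbi 1) - ugen ℤ 2 (.cbi 0) * ugen ℤ 2 (.cbi 1) =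
    ugen ℤ 2 .cb := by
  have h : (X (.cij 1 0 (Ne.symm Fin.zero_ne_one)) * X (.cbi 0) +
      X (.cij 0 1 Fin.zero_ne_one) * X (.cbi 1) - X (.cbi 0) * X (.cbi 1) - X .cb :
      MvPolynomial (UGen 2) ℤ) ∈ URel ℤ 2 := by
    left; right
    exact ⟨⟨(0, 1), Fin.zero_ne_one⟩, rfl⟩
  have := Ideal.Quotient.eq_zero_iff_mem.mpr (Ideal.subset_span h)
  simp only [map_sub, map_add, map_mul] at this
  exact sub_eq_zero.mp this

lemma phi_gimg (g : UGen 2) : phi (gimg g) = ugen ℤ 2 g := by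
  have r1 := R1
  have r2 := R2
  have r3 := R3
  have e10 : ugen ℤ 2 (.cij 1 0 (Ne.symm Fin.zero_ne_one)) =
      ugen ℤ 2 .a + ugen ℤ 2 (.ci 0) + ugen ℤ 2 (.cbi 0) + ugen ℤ 2 (.ci 1) + ugen ℤ 2 (.cbi 1)
        - ugen ℤ 2 (.cij 0 1 Fin.zero_ne_one) := by
    rw [← r1]; ring
  cases g with
  | a => simp [gimg, phi]
  | c =>
    simp only [gimg, phi, map_add, map_sub, map_mul, aeval_X]
    simp only [Matrix.cons_val]
    rw [← r2, e10]
  | cb =>
    simp only [gimg, phi, map_add, map_sub, map_mul, aeval_X]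
    simp only [Matrix.cons_val]
    rw [← r3, e10]
  | ci i => fin_cases i <;> simp [gimg, phi]
  | cbi i => fin_cases i <;> simp [gimg, phi]
  | cij i j h =>
    fin_cases i <;> fin_cases j <;> simp at h
    · simp [gimg, phi]
    · simp [gimg, phi]
      exact e10.symm

lemma phi_psi (x : URing ℤ 2) : phi (psi x) = x := by
  obtain ⟨p, rfl⟩ := Ideal.Quotient.mk_surjective x
  induction p using MvPolynomial.induction_on with
  | C a => simp [psi]
  | add p q hp hq => simp only [map_add, hp, hq]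
  | mul_X p g hp =>
    rw [map_mul, map_mul, map_mul, hp]
    congr 1
    exact (congrArg phi (psi_ugen g)).trans (phi_gimg g)

/-- Case n = 5: the coordinate ring of U_5 over ℤ (m = 2 indices, standing for the points 4 and 5;
generators a, c, c̄, c_4, c̄_4, c_5, c̄_5, c_{45}, c_{54} with the linear and the two quadratic
relations for the one pair of indices, and no triple) is the polynomial ring on a, c_4, c̄_4, c_5,
c̄_5, c_{45}: the ℤ-algebra map from the polynomial ring in six variables sending the variables to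
these six classes, in this order, is bijective. -/
theorem result :
    Function.Bijective (MvPolynomial.aeval (R := ℤ) (S₁ := URing ℤ 2)
      ![ugen ℤ 2 .a, ugen ℤ 2 (.ci 0), ugen ℤ 2 (.cbi 0), ugen ℤ 2 (.ci 1), ugen ℤ 2 (.cbi 1),
        ugen ℤ 2 (.cij 0 1 Fin.zero_ne_one)]) := by
  constructor
  · intro x y hxy
    have := congrArg psi hxy
    have h1 : ∀ z, psi (phi z) = z := fun z => by
      have := congrArg (fun f => f z) psi_phi
      simpa using this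
    change psi (phi x) = psi (phi y) at this
    rwa [h1, h1] at this
  · intro x
    exact ⟨psi x, phi_psi x⟩

end Groth.Agent.S18247
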