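import Groth.Statements.S18251
import Mathlib

set_option autoImplicit false
universe u
open W4c5m1nsnscurves
open Curves

namespace Groth.Agent.S18251

open MvPolynomial W4c5m1nsnscurves
open scoped MonomialOrder

section general
variable {σ : Type*} {R : Type*} [CommRing R] (m : MonomialOrder σ)

/-- standard monomials span the quotient by a monic polynomial -/
theorem std_span {ι : Type*} (f : MvPolynomial σ R) (hf : m.Monic f) (E : ι → (σ →₀ ℕ))
    (hrange : ∀ c, (¬ m.degree f ≤ c) → c ∈ Set.range E) :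
    Submodule.span R (Set.range (fun i =>
      Ideal.Quotient.mk (Ideal.span {f}) (monomial (E i) (1 : R)))) = ⊤ := by
  rw [eq_top_iff]
  intro x _
  obtain ⟨p, rfl⟩ := Ideal.Quotient.mk_surjective x
  have hu : IsUnit (m.leadingCoeff f) := by rw [hf.leadingCoeff_eq_one]; exact isUnit_one
  obtain ⟨g, r, hp, -, hr⟩ := m.div_single hu p
  have h1 : Ideal.Quotient.mk (Ideal.span {f}) p = Ideal.Quotient.mk (Ideal.span {f}) r := by
    have h0 : Ideal.Quotient.mk (Ideal.span {f}) (g * f) = 0 :=
      Ideal.Quotient.eq_zero_iff_mem.mpr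
        (Ideal.mul_mem_left _ g (Ideal.subset_span (Set.mem_singleton f)))
    rw [hp, map_add, h0, zero_add]
  rw [h1]
  have h2 : Ideal.Quotient.mk (Ideal.span {f}) r =
      ∑ c ∈ r.support, coeff c r • Ideal.Quotient.mk (Ideal.span {f}) (monomial c (1 : R)) := by
    conv_lhs => rw [r.as_sum]
    rw [map_sum]
    apply Finset.sum_congr rfl
    intro c _
    have : (monomial c (coeff c r) : MvPolynomial σ R) = coeff c r • monomial c (1 : R) := by
      rw [smul_monomial, smul_eq_mul, mul_one]
    rw [this]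
    rfl
  rw [h2]
  refine Submodule.sum_mem _ fun c hc => Submodule.smul_mem _ _ (Submodule.subset_span ?_)
  obtain ⟨i, hi⟩ := hrange c (hr c hc)
  exact ⟨i, by simp only [hi]⟩

/-- standard monomials are linearly independent in the quotient by a monic polynomial -/
theorem std_indep {ι : Type*} (f : MvPolynomial σ R) (hf : m.Monic f) (E : ι → (σ →₀ ℕ))
    (hE : Function.Injective E) (hrange : ∀ i, ¬ m.degree f ≤ E i) :
    LinearIndependent R (fun i =>
      Ideal.Quotient.mk (Ideal.span {f}) (monomial (E i) (1 : R))) := by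
  classical
  rw [linearIndependent_iff']
  intro s g hsum i hi
  set P : MvPolynomial σ R := ∑ j ∈ s, monomial (E j) (g j) with hP
  have hmk : Ideal.Quotient.mk (Ideal.span {f}) P = 0 := by
    rw [← hsum, hP, map_sum]
    apply Finset.sum_congr rfl
    intro j _
    have : (monomial (E j) (g j) : MvPolynomial σ R) = g j • monomial (E j) (1 : R) := by
      rw [smul_monomial, smul_eq_mul, mul_one]
    rw [this]
    rfl
  have hcoeff : ∀ j ∈ s, coeff (E j) P = g j := by
    intro j hj
    rw [hP, coeff_sum]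
    simp only [coeff_monomial]
    rw [Finset.sum_eq_single j]
    · simp
    · intro b _ hb
      rw [if_neg (fun h => hb (hE h))]
    · intro h; exact absurd hj h
  have hsupp : ∀ c ∈ P.support, ∃ j, c = E j := by
    intro c hc
    rw [mem_support_iff, hP, coeff_sum] at hc
    by_contra hne
    apply hc
    apply Finset.sum_eq_zero
    intro j _
    rw [coeff_monomial, if_neg (fun h => hne ⟨j, h.symm⟩)]
  have hP0 : P = 0 := by
    by_contra hPne
    rw [Ideal.Quotient.eq_zero_iff_mem, Ideal.mem_span_singleton'] at hmk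
    obtain ⟨h, hh⟩ := hmk
    have hh0 : h ≠ 0 := by rintro rfl; exact hPne (by rw [← hh, zero_mul])
    have hreg : IsRegular (m.leadingCoeff f) := by
      rw [hf.leadingCoeff_eq_one]; exact isRegular_one
    have hdeg : m.degree P = m.degree h + m.degree f := by
      rw [← hh, m.degree_mul_of_isRegular_right hh0 hreg]
    obtain ⟨j, hj⟩ := hsupp _ (m.degree_mem_support hPne)
    apply hrange j
    rw [← hj, hdeg]
    exact le_add_self
  rw [← hcoeff i hi, hP0, coeff_zero]

end general


/-- the lexicographic order with `X 1 > X 0` -/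
noncomputable def mo : MonomialOrder (Fin 2) := (MonomialOrder.lex : MonomialOrder (Fin 2)ᵒᵈ)

lemma mo_lt {c d : Fin 2 →₀ ℕ} (h : c 1 < d 1) : c ≺[mo] d := by
  refine (MonomialOrder.lex_lt_iff (σ := (Fin 2)ᵒᵈ) (c := c) (d := d)).mpr ?_
  rw [Finsupp.Lex.lt_iff]
  refine ⟨OrderDual.toDual 1, fun j hj => ?_, h⟩
  exfalso
  have h1 : (1 : Fin 2) < OrderDual.ofDual j := hj
  have h2 := (OrderDual.ofDual j).isLt
  omega

/-- exponent of `x y²` -/
noncomputable def e0 : Fin 2 →₀ ℕ := Finsupp.single 0 1 + Finsupp.single 1 2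

lemma e0_zero : e0 0 = 1 := by simp [e0]
lemma e0_one : e0 1 = 2 := by simp [e0]

section specific
variable (R : Type u) [CommRing R] (a b c d : R)

noncomputable def gpoly : MvPolynomial (Fin 2) R :=
  -(X 0 ^ 2 * X 1) - (C a * X 0 * X 1 + C b * X 0 + C c * X 1 + C d)

noncomputable def fpoly : MvPolynomial (Fin 2) R :=
  X 0 * X 1 ^ 2 - X 0 ^ 2 * X 1 - (C a * X 0 * X 1 + C b * X 0 + C c * X 1 + C d)

lemma fpoly_eq : fpoly R a b c d = monomial e0 1 + gpoly R a b c d := by
  have : (monomial e0 1 : MvPolynomial (Fin 2) R) = X 0 * X 1 ^ 2 := by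
    rw [e0, X_pow_eq_monomial, X, monomial_mul, mul_one]
  rw [this, fpoly, gpoly]
  ring

lemma degreeOf_gpoly [Nontrivial R] : degreeOf 1 (gpoly R a b c d) ≤ 1 := by
  have hX0 : degreeOf 1 (X 0 : MvPolynomial (Fin 2) R) = 0 := degreeOf_X_of_ne (by decide)
  have hX1 : degreeOf 1 (X 1 : MvPolynomial (Fin 2) R) = 1 := degreeOf_X_self 1
  have h1 : degreeOf 1 (X 0 ^ 2 * X 1 : MvPolynomial (Fin 2) R) ≤ 1 := by
    refine (degreeOf_mul_le _ _ _).trans ?_
    rw [degreeOf_X_pow_of_ne 2 (by decide), hX1]
  have h2 : degreeOf 1 (C a * X 0 * X 1 : MvPolynomial (Fin 2) R) ≤ 1 := by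
    refine (degreeOf_mul_le _ _ _).trans ?_
    have := (degreeOf_mul_le 1 (C a) (X 0 : MvPolynomial (Fin 2) R))
    rw [degreeOf_C, hX0] at this
    rw [hX1]; omega
  have h3 : degreeOf 1 (C b * X 0 : MvPolynomial (Fin 2) R) ≤ 1 := by
    refine (degreeOf_mul_le _ _ _).trans ?_
    rw [degreeOf_C, hX0]; omega
  have h4 : degreeOf 1 (C c * X 1 : MvPolynomial (Fin 2) R) ≤ 1 := by
    refine (degreeOf_mul_le _ _ _).trans ?_
    rw [degreeOf_C, hX1]
  have h5 : degreeOf 1 (C d : MvPolynomial (Fin 2) R) ≤ 1 := by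
    rw [degreeOf_C]; omega
  unfold gpoly
  refine (degreeOf_sub_le _ _ _).trans (max_le ?_ ?_)
  · rw [degreeOf_neg]; exact h1
  · refine (degreeOf_add_le _ _ _).trans (max_le ?_ h5)
    refine (degreeOf_add_le _ _ _).trans (max_le ?_ h4)
    exact (degreeOf_add_le _ _ _).trans (max_le h2 h3)

lemma zero_lt_e0 : 0 ≺[mo] e0 := mo_lt (by rw [e0_one]; simp)

lemma deg_gpoly_lt [Nontrivial R] : mo.degree (gpoly R a b c d) ≺[mo] e0 := by
  rw [mo.degree_lt_iff zero_lt_e0]
  intro c' hc'
  apply mo_lt
  have := monomial_le_degreeOf 1 hc'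
  have h2 := degreeOf_gpoly R a b c d
  rw [e0_one]; omega

lemma degree_monomial_e0 [Nontrivial R] : mo.degree (monomial e0 (1 : R)) = e0 := by
  classical
  rw [mo.degree_monomial, if_neg one_ne_zero]

lemma monic_fpoly [Nontrivial R] : mo.Monic (fpoly R a b c d) := by
  rw [fpoly_eq]
  apply MonomialOrder.Monic.add_of_lt (MonomialOrder.monic_monomial_one)
  rw [degree_monomial_e0]
  exact deg_gpoly_lt R a b c d

lemma degree_fpoly [Nontrivial R] : mo.degree (fpoly R a b c d) = e0 := by
  rw [fpoly_eq, mo.degree_add_of_lt, degree_monomial_e0]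
  rw [degree_monomial_e0]
  exact deg_gpoly_lt R a b c d

end specific

/-- exponents of the standard monomials -/
noncomputable def E : Option (ℕ ⊕ (Fin 2 × ℕ)) → (Fin 2 →₀ ℕ)
  | none => 0
  | some (Sum.inl k) => Finsupp.single 0 (k + 1) + Finsupp.single 1 1
  | some (Sum.inr (y, k)) => Finsupp.single y (k + 1)

lemma E_inj : Function.Injective E := by
  intro s t h
  have h0 := DFunLike.congr_fun h 0
  have h1 := DFunLike.congr_fun h 1
  rcases s with _ | (k | ⟨y, k⟩) <;> rcases t with _ | (l | ⟨z, l⟩)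
  all_goals try fin_cases y
  all_goals try fin_cases z
  all_goals simp [E] at h0 h1 ⊢
  all_goals omega


lemma not_le_E (s : Option (ℕ ⊕ (Fin 2 × ℕ))) : ¬ e0 ≤ E s := by
  intro h
  have h0 := h 0
  have h1 := h 1
  rw [e0_zero] at h0
  rw [e0_one] at h1
  rcases s with _ | (k | ⟨y, k⟩)
  all_goals try fin_cases y
  all_goals simp [E] at h0 h1

lemma mem_range_E (c : Fin 2 →₀ ℕ) (h : ¬ e0 ≤ c) : c ∈ Set.range E := by
  have hc : c 0 < 1 ∨ c 1 < 2 := by
    by_contra hcon
    apply h
    intro i
    fin_cases i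
    · simp only [Fin.zero_eta, e0_zero]; omega
    · simp only [Fin.mk_one, e0_one]; omega
  rcases Nat.eq_zero_or_pos (c 1) with h1 | h1
  · rcases Nat.eq_zero_or_pos (c 0) with h0 | h0
    · refine ⟨none, ?_⟩
      ext i; fin_cases i <;> simp [E, h0, h1]
    · refine ⟨some (Sum.inr (0, c 0 - 1)), ?_⟩
      ext i; fin_cases i
      · simp [E]; omega
      · simp [E, h1]
  · rcases Nat.eq_zero_or_pos (c 0) with h0 | h0
    · refine ⟨some (Sum.inr (1, c 1 - 1)), ?_⟩
      ext i; fin_cases i
      · simp [E, h0]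
      · simp [E]; omega
    · have h1' : c 1 = 1 := by omega
      refine ⟨some (Sum.inl (c 0 - 1)), ?_⟩
      ext i; fin_cases i
      · simp [E]; omega
      · simp [E, h1']

lemma cmon3_eq (R : Type u) [CommRing R] (a b c d : R) :
    cmon3 R a b c d = fun s => Ideal.Quotient.mk (Ideal.span {fpoly R a b c d})
      (monomial (E s) (1 : R)) := by
  funext s
  rcases s with _ | (k | ⟨y, k⟩)
  · simp only [cmon3, E]
    exact (map_one _).symm
  · simp only [cmon3, E]
    congr 1
    rw [X_pow_eq_monomial, X, monomial_mul, mul_one]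
  · simp only [cmon3, E]
    congr 1
    rw [X_pow_eq_monomial]

/-- Case n = 3: let R be a commutative ring and a, b, c, d elements of R (a point of U_3, which is
affine 4-space, so no condition is imposed). Then in the R-algebra R[x_2, x_3]/(x_2 x_3² − x_2² x_3
− a x_2 x_3 − b x_2 − c x_3 − d) the classes of the monomials 1, x_2^k x_3, x_2^k and x_3^k (k ≥ 1)
are linearly independent over R and span, i.e. form an R-basis. -/
theorem result (R : Type u) [CommRing R] (a b c d : R) :
    LinearIndependent R (cmon3 R a b c d) ∧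
      Submodule.span R (Set.range (cmon3 R a b c d)) = ⊤ := by
  rcases subsingleton_or_nontrivial R with hR | hR
  · have : Subsingleton (CurveAlg3 R a b c d) := Module.subsingleton R _
    refine ⟨?_, Subsingleton.elim _ _⟩
    rw [linearIndependent_iff_injective_finsuppLinearCombination]
    intro x y _
    exact Subsingleton.elim _ _
  · rw [cmon3_eq]
    refine ⟨std_indep mo _ (monic_fpoly R a b c d) E E_inj ?_,
      std_span mo _ (monic_fpoly R a b c d) E ?_⟩
    · intro i; rw [degree_fpoly]; exact not_le_E i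
    · intro c' hc'; rw [degree_fpoly] at hc'; exact mem_range_E c' hc'

end Groth.Agent.S18251
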