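import Groth.Statements.S18256
import Mathlib

set_option autoImplicit false
universe u
open ArtFun

namespace Groth.Agent.S18256

section aux

open TensorProduct

variable {R : Type u} [CommRing R] [IsArtinianRing R] [IsLocalRing R]
  {k : Type u} [Field k] [Algebra R k]

lemma ker_algebraMap (hk : Function.Surjective (algebraMap R k)) :
    RingHom.ker (algebraMap R k) = IsLocalRing.maximalIdeal R := by
  have : (RingHom.ker (algebraMap R k)).IsMaximal := RingHom.ker_isMaximal_of_surjective _ hk
  exact IsLocalRing.eq_maximalIdeal this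

lemma quot_isLocalRing (J : Ideal R) (hJ : J ≤ IsLocalRing.maximalIdeal R) :
    IsLocalRing (R ⧸ J) := by
  have hne : J ≠ ⊤ := by
    intro h
    rw [h] at hJ
    exact (IsLocalRing.maximalIdeal.isMaximal R).ne_top (top_le_iff.mp hJ)
  have : Nontrivial (R ⧸ J) := Ideal.Quotient.nontrivial_iff.mpr hne
  exact IsLocalRing.of_surjective' (Ideal.Quotient.mk J) Ideal.Quotient.mk_surjective

/-- The augmentation `R ⧸ J → k`. -/
noncomputable def quotRes (hk : Function.Surjective (algebraMap R k)) (J : Ideal R)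
    (hJ : J ≤ IsLocalRing.maximalIdeal R) : (R ⧸ J) →ₐ[R] k :=
  Ideal.Quotient.liftₐ J (Algebra.ofId R k) (fun a ha => by
    have : a ∈ RingHom.ker (algebraMap R k) := by rw [ker_algebraMap hk]; exact hJ ha
    exact this)

lemma quotRes_mk (hk : Function.Surjective (algebraMap R k)) (J : Ideal R)
    (hJ : J ≤ IsLocalRing.maximalIdeal R) (r : R) :
    quotRes hk J hJ (Ideal.Quotient.mk J r) = algebraMap R k r := rfl

/-- The object `R ⧸ J` of `Art R k`. -/
noncomputable def quotArt (hk : Function.Surjective (algebraMap R k)) (J : Ideal R)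
    (hJ : J ≤ IsLocalRing.maximalIdeal R) : ArtFun.Art R k :=
  letI := quot_isLocalRing J hJ
  ArtFun.Art.of (R ⧸ J) (quotRes hk J hJ) (fun y => by
    obtain ⟨r, rfl⟩ := hk y
    exact ⟨Ideal.Quotient.mk J r, quotRes_mk hk J hJ r⟩)

/-- The quotient map as an algebra map into the carrier of `quotArt`. -/
noncomputable def mkA (hk : Function.Surjective (algebraMap R k)) (J : Ideal R)
    (hJ : J ≤ IsLocalRing.maximalIdeal R) : R →ₐ[R] (quotArt hk J hJ) :=
  Ideal.Quotient.mkₐ R J

lemma mkA_surjective (hk : Function.Surjective (algebraMap R k)) (J : Ideal R)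
    (hJ : J ≤ IsLocalRing.maximalIdeal R) : Function.Surjective (mkA hk J hJ) :=
  Ideal.Quotient.mk_surjective

lemma mkA_eq_zero_iff (hk : Function.Surjective (algebraMap R k)) (J : Ideal R)
    (hJ : J ≤ IsLocalRing.maximalIdeal R) (r : R) : mkA hk J hJ r = 0 ↔ r ∈ J :=
  Ideal.Quotient.eq_zero_iff_mem

/-- The morphism `R ⧸ J' → R ⧸ J` of `Art R k` for `J' ≤ J ≤ m`. -/
noncomputable def quotHom (hk : Function.Surjective (algebraMap R k)) (J' J : Ideal R)
    (hJ' : J' ≤ IsLocalRing.maximalIdeal R) (hJ : J ≤ IsLocalRing.maximalIdeal R) (hle : J' ≤ J) :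
    quotArt hk J' hJ' ⟶ quotArt hk J hJ :=
  ArtFun.Art.homMk (Ideal.Quotient.factorₐ R hle) (by
    apply AlgHom.ext
    intro b
    obtain ⟨r, rfl⟩ := Ideal.Quotient.mk_surjective b
    rfl)

lemma quotHom_mkA (hk : Function.Surjective (algebraMap R k)) (J' J : Ideal R)
    (hJ' : J' ≤ IsLocalRing.maximalIdeal R) (hJ : J ≤ IsLocalRing.maximalIdeal R) (hle : J' ≤ J)
    (r : R) :
    (quotHom hk J' J hJ' hJ hle).toAlgHom (mkA hk J' hJ' r) = mkA hk J hJ r := rfl

lemma mem_ker_quotHom (hk : Function.Surjective (algebraMap R k)) (J' J : Ideal R)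
    (hJ' : J' ≤ IsLocalRing.maximalIdeal R) (hJ : J ≤ IsLocalRing.maximalIdeal R) (hle : J' ≤ J)
    (r : R) :
    mkA hk J' hJ' r ∈ RingHom.ker (quotHom hk J' J hJ' hJ hle).toAlgHom ↔ r ∈ J := by
  rw [RingHom.mem_ker]
  change (quotHom hk J' J hJ' hJ hle).toAlgHom (mkA hk J' hJ' r) = 0 ↔ _
  rw [quotHom_mkA, mkA_eq_zero_iff]

variable (M : Type u) [AddCommGroup M] [Module R M]

/-- the inductive step -/
lemma step (hk : Function.Surjective (algebraMap R k))
    (h : ∀ (A' A : ArtFun.Art R k) (p : A' ⟶ A), ArtFun.Art.IsSmallExt p →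
      Function.Injective
        (LinearMap.lTensor M (((RingHom.ker p.toAlgHom).restrictScalars R).subtype)))
    (J' : Ideal R) (hJ' : J' ≤ IsLocalRing.maximalIdeal R) (x : R)
    (hx : x ∈ IsLocalRing.maximalIdeal R) (hxJ : x ∉ J')
    (hmx : ∀ y ∈ IsLocalRing.maximalIdeal R, y * x ∈ J')
    (hgood : Function.Injective (LinearMap.lTensor M (Submodule.subtype J'))) :
    Function.Injective (LinearMap.lTensor M (Submodule.subtype (J' ⊔ Ideal.span {x}))) := by
  set J : Ideal R := J' ⊔ Ideal.span {x} with hJdef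
  have hle : J' ≤ J := le_sup_left
  have hJ : J ≤ IsLocalRing.maximalIdeal R :=
    sup_le hJ' ((Ideal.span_singleton_le_iff_mem _).mpr hx)
  have hxJ2 : x ∈ J := le_sup_right (α := Ideal R) (Ideal.mem_span_singleton_self x)
  set p := quotHom hk J' J hJ' hJ hle with hp
  set mk' := mkA hk J' hJ' with hmk'
  -- small extension
  have hsmall : ArtFun.Art.IsSmallExt p := by
    have hkerspan : RingHom.ker p.toAlgHom = Ideal.span {mk' x} := by
      apply le_antisymm
      · intro b hb
        obtain ⟨r, rfl⟩ := mkA_surjective hk J' hJ' b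
        have hr : r ∈ J := (mem_ker_quotHom hk J' J hJ' hJ hle r).mp hb
        obtain ⟨a, ha, c, hc, rfl⟩ := Submodule.mem_sup.mp hr
        obtain ⟨t, rfl⟩ := Ideal.mem_span_singleton'.mp hc
        rw [map_add, (mkA_eq_zero_iff hk J' hJ' a).mpr ha, zero_add, map_mul]
        exact Ideal.mul_mem_left _ _ (Ideal.mem_span_singleton_self _)
      · rw [Ideal.span_singleton_le_iff_mem]
        exact (mem_ker_quotHom hk J' J hJ' hJ hle x).mpr hxJ2
    refine ⟨?_, ?_, ?_, ?_⟩
    · intro b
      obtain ⟨r, rfl⟩ := mkA_surjective hk J hJ b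
      exact ⟨mk' r, rfl⟩
    · intro hbot
      have : mk' x ∈ RingHom.ker p.toAlgHom :=
        (mem_ker_quotHom hk J' J hJ' hJ hle x).mpr hxJ2
      rw [hbot, Ideal.mem_bot, mkA_eq_zero_iff] at this
      exact hxJ this
    · rw [hkerspan]
      exact ⟨⟨_, rfl⟩⟩
    · rw [hkerspan, eq_bot_iff, Ideal.mul_le]
      intro b hb c hc
      obtain ⟨t, rfl⟩ := Ideal.mem_span_singleton'.mp hc
      obtain ⟨y, rfl⟩ := mkA_surjective hk J' hJ' b
      obtain ⟨s, rfl⟩ := mkA_surjective hk J' hJ' t
      have hy : y ∈ IsLocalRing.maximalIdeal R := by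
        by_contra hy
        have hu : IsUnit y := by
          by_contra hu
          exact hy ((IsLocalRing.mem_maximalIdeal y).mpr hu)
        exact ((IsLocalRing.mem_maximalIdeal _).mp hb) (hu.map (mkA hk J' hJ'))
      rw [Ideal.mem_bot, ← map_mul, ← map_mul, mkA_eq_zero_iff]
      have : y * (s * x) = s * (y * x) := by ring
      rw [this]
      exact Ideal.mul_mem_left _ _ (hmx y hy)
  have hinj := h _ _ p hsmall
  -- the maps
  set IR : Submodule R (quotArt hk J' hJ') := (RingHom.ker p.toAlgHom).restrictScalars R with hIR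
  let q : R →ₗ[R] (quotArt hk J' hJ') := mk'.toLinearMap
  let φ : J →ₗ[R] IR := LinearMap.codRestrict IR (q ∘ₗ Submodule.subtype J) (fun y => by
    change mk' (y : R) ∈ RingHom.ker p.toAlgHom
    exact (mem_ker_quotHom hk J' J hJ' hJ hle y).mpr y.2)
  let incl : J' →ₗ[R] J := Submodule.inclusion hle
  have hφsurj : Function.Surjective φ := by
    rintro ⟨b, hb⟩
    obtain ⟨r, rfl⟩ := mkA_surjective hk J' hJ' b
    have hr : r ∈ J := (mem_ker_quotHom hk J' J hJ' hJ hle r).mp hb
    exact ⟨⟨r, hr⟩, rfl⟩
  have hexact : Function.Exact incl φ := by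
    intro y
    constructor
    · intro hy
      have h1 : mk' (y : R) = 0 := congrArg Subtype.val hy
      rw [mkA_eq_zero_iff] at h1
      exact ⟨⟨y, h1⟩, rfl⟩
    · rintro ⟨z, rfl⟩
      apply Subtype.ext
      change mk' (z : R) = 0
      exact (mkA_eq_zero_iff hk J' hJ' _).mpr z.2
  have hex2 := lTensor_exact M hexact hφsurj
  have hsq : IR.subtype ∘ₗ φ = q ∘ₗ Submodule.subtype J := rfl
  have hJ'sub : Submodule.subtype J' = Submodule.subtype J ∘ₗ incl := rfl
  rw [← LinearMap.ker_eq_bot, eq_bot_iff]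
  intro z hz
  rw [LinearMap.mem_ker] at hz
  have h1 : LinearMap.lTensor M IR.subtype (LinearMap.lTensor M φ z) = 0 := by
    rw [← LinearMap.comp_apply, ← LinearMap.lTensor_comp, hsq, LinearMap.lTensor_comp,
      LinearMap.comp_apply, hz, map_zero]
  have h2 : LinearMap.lTensor M φ z = 0 := hinj (by rw [h1, map_zero])
  obtain ⟨z', rfl⟩ := (hex2 z).mp h2
  have h3 : LinearMap.lTensor M (Submodule.subtype J') z' = 0 := by
    rw [hJ'sub, LinearMap.lTensor_comp, LinearMap.comp_apply, hz]
  have h4 : z' = 0 := hgood (by rw [h3, map_zero])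
  rw [h4, map_zero]
  exact Submodule.zero_mem _

end aux

open CategoryTheory TensorProduct in
/-- Let R be an Artinian local ring with residue field k and M a finitely generated R-module. Suppose
that for every small extension p : A' → A of local Artinian R-algebras with residue field k (p
surjective, its kernel I a nonzero principal ideal killed by the maximal ideal of A'), the map M ⊗_R
I → M ⊗_R A' induced by the inclusion I ⊆ A' is injective (equivalently, the sequence 0 → M ⊗_R I →
M ⊗_R A' → M ⊗_R A → 0 is exact). Then M is a free R-module. (The printed conclusion reads free over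
the residue field; the proof establishes freeness over R, which is what is stated here.) -/
theorem result
    (R : Type u) [CommRing R] [IsArtinianRing R] [IsLocalRing R]
    (k : Type u) [Field k] [Algebra R k] (hk : Function.Surjective (algebraMap R k))
    (M : Type u) [AddCommGroup M] [Module R M] [Module.Finite R M]
    (h : ∀ (A' A : ArtFun.Art R k) (p : A' ⟶ A), ArtFun.Art.IsSmallExt p →
      Function.Injective
        (LinearMap.lTensor M (((RingHom.ker p.toAlgHom).restrictScalars R).subtype))) :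
    Module.Free R M := by
  classical
  set m := IsLocalRing.maximalIdeal R with hm
  let S : Set (Ideal R) := {J | J ≤ m ∧ Function.Injective (LinearMap.lTensor M (Submodule.subtype J))}
  have hbot : (⊥ : Ideal R) ∈ S := by
    refine ⟨bot_le, ?_⟩
    have : Subsingleton (M ⊗[R] (⊥ : Ideal R)) := by
      refine ⟨fun a b => ?_⟩
      have key : ∀ z : M ⊗[R] (⊥ : Ideal R), z = 0 := by
        intro z
        induction z using TensorProduct.induction_on with
        | zero => rfl
        | tmul a b =>
          have : b = 0 := Subsingleton.elim _ _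
          rw [this, TensorProduct.tmul_zero]
        | add a b ha hb => rw [ha, hb, add_zero]
      rw [key a, key b]
    exact Function.injective_of_subsingleton _
  obtain ⟨J', hJ'S, hJ'max⟩ := WellFounded.has_min (wellFounded_gt (α := Ideal R)) S ⟨⊥, hbot⟩
  have hJ'm : J' = m := by
    by_contra hne
    have hlt : J' < m := lt_of_le_of_ne hJ'S.1 hne
    -- nilpotency of m
    have hnil : IsNilpotent m := by
      have := IsArtinianRing.isNilpotent_jacobson_bot (R := R)
      rwa [IsLocalRing.jacobson_eq_maximalIdeal (⊥ : Ideal R) bot_ne_top] at this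
    obtain ⟨N, hN⟩ := hnil
    have hex : ∃ n, m ^ n ≤ J' := ⟨N, by rw [hN]; exact bot_le⟩
    set n₀ := Nat.find hex with hn₀
    have hn₀le : m ^ n₀ ≤ J' := Nat.find_spec hex
    have hmtop : m ≠ ⊤ := (IsLocalRing.maximalIdeal.isMaximal R).ne_top
    have h0 : n₀ ≠ 0 := by
      intro h0
      rw [h0, pow_zero, Ideal.one_eq_top] at hn₀le
      exact hmtop (top_le_iff.mp (hn₀le.trans hJ'S.1))
    have h1 : n₀ ≠ 1 := by
      intro h1
      rw [h1, pow_one] at hn₀le
      exact hne (le_antisymm hJ'S.1 hn₀le)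
    obtain ⟨i, hi⟩ : ∃ i, n₀ = i + 1 := ⟨n₀ - 1, by omega⟩
    have hi0 : i ≠ 0 := by omega
    have hnot : ¬ m ^ i ≤ J' := Nat.find_min hex (by omega)
    obtain ⟨x, hxi, hxJ⟩ := Set.not_subset.mp hnot
    have hxm : x ∈ m := Ideal.pow_le_self hi0 hxi
    have hmx : ∀ y ∈ m, y * x ∈ J' := by
      intro y hy
      apply hn₀le
      rw [hi, pow_succ']
      exact Ideal.mul_mem_mul hy hxi
    have hstep := step M hk h J' hJ'S.1 x hxm hxJ hmx hJ'S.2
    have hmem : J' ⊔ Ideal.span {x} ∈ S :=
      ⟨sup_le hJ'S.1 ((Ideal.span_singleton_le_iff_mem _).mpr hxm), hstep⟩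
    apply hJ'max _ hmem
    refine lt_of_le_of_ne le_sup_left ?_
    intro heq
    apply hxJ
    rw [heq]
    exact le_sup_right (α := Ideal R) (Ideal.mem_span_singleton_self x)
  have hinj : Function.Injective (LinearMap.lTensor M (Submodule.subtype m)) := by
    rw [← hJ'm]; exact hJ'S.2
  have hinj' : Function.Injective (LinearMap.rTensor M (Submodule.subtype m)) :=
    (LinearMap.lTensor_inj_iff_rTensor_inj _ _).mp hinj
  have : Module.FinitePresentation R M := Module.finitePresentation_of_finite R M
  exact Module.free_of_maximalIdeal_rTensor_injective hinj'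

end Groth.Agent.S18256
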