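import Groth.Statements.S18257
import Groth.Agent.Lib.Helper11.UnitsK5

set_option autoImplicit false
universe u
open UnitsSh

namespace Groth.Agent.S18257

open CategoryTheory CategoryTheory.Limits AlgebraicGeometry in
/-- In the case of the multiplicative group, for schemes and with Zariski cohomology of the sheaf of
units. Let A be a local ring with maximal ideal m, t a nonzero element of m with m·t = 0, and X' a
scheme flat over Spec A; let i : X ⟶ X' be the closed subscheme cut out by t (base change to A/(t))
and X₀ the closed fibre (base change to the residue field). If H^{q+1}(X₀, O_{X₀}) = 0, then the map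
H^q(X', O_{X'}^×) → H^q(X', i_* O_X^×) induced by the units map of i is surjective. (The published
statement covers any smooth commutative group scheme in place of the multiplicative group, with the
Lie algebra of its closed fibre in place of O_{X₀}, uses étale cohomology, and takes A Artinian;
this row allows any local ring A with t as stated.) -/
theorem result
    (A : Type u) [CommRing A] [IsLocalRing A]
    (t : A) (ht0 : t ≠ 0) (ht : t ∈ IsLocalRing.maximalIdeal A)
    (hmt : ∀ x ∈ IsLocalRing.maximalIdeal A, x * t = 0)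
    (X' : Scheme.{u}) [X'.Over (Spec (CommRingCat.of A))] [Flat (X' ↘ Spec (CommRingCat.of A))]
    (q : ℕ)
    (hvan : Subsingleton (Coh.HH
      (pullback (X' ↘ Spec (CommRingCat.of A)) (Spec.map (CommRingCat.ofHom (IsLocalRing.residue A))))
      (Coh.structureModule _) (q + 1))) :
    Function.Surjective (Sheaf.H.map (UnitsSh.comap
      (pullback.fst (X' ↘ Spec (CommRingCat.of A))
        (Spec.map (CommRingCat.ofHom (Ideal.Quotient.mk (Ideal.span ({t} : Set A))))))) q) := by
  have hfl : FlatMod.IsFlatOver (X' ↘ Spec (CommRingCat.of A)) (Coh.structureModule X') :=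
    Groth.Agent.Lib.helper21.InvFibre.isFlatOver_of_isFinLocFree _ _
      (Groth.Agent.Lib.helper16.FLF.isFinLocFree_of_isInvertible
        (Groth.Agent.Lib.helper11.InvMod.isInvertible_structureModule X'))
  have h₀ : CategoryTheory.IsPullback
      (CategoryTheory.Limits.pullback.fst (X' ↘ Spec (CommRingCat.of A))
        (Spec.map (CommRingCat.ofHom (algebraMap A (IsLocalRing.ResidueField A)))))
      (CategoryTheory.Limits.pullback.snd (X' ↘ Spec (CommRingCat.of A))
        (Spec.map (CommRingCat.ofHom (algebraMap A (IsLocalRing.ResidueField A)))))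
      (X' ↘ Spec (CommRingCat.of A))
      (Spec.map (CommRingCat.ofHom (algebraMap A (IsLocalRing.ResidueField A)))) :=
    CategoryTheory.IsPullback.of_hasPullback _ _
  have hs₀ : Function.Surjective (algebraMap A (IsLocalRing.ResidueField A)) :=
    IsLocalRing.residue_surjective
  have hk₀ : RingHom.ker (algebraMap A (IsLocalRing.ResidueField A)) =
      IsLocalRing.maximalIdeal A := IsLocalRing.ker_residue
  have hcan : ∀ I : Ideal A, CategoryTheory.IsPullback
      (CategoryTheory.Limits.pullback.fst (X' ↘ Spec (CommRingCat.of A))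
        (Spec.map (CommRingCat.ofHom (algebraMap A (A ⧸ I)))))
      (CategoryTheory.Limits.pullback.snd (X' ↘ Spec (CommRingCat.of A))
        (Spec.map (CommRingCat.ofHom (algebraMap A (A ⧸ I)))))
      (X' ↘ Spec (CommRingCat.of A))
      (Spec.map (CommRingCat.ofHom (algebraMap A (A ⧸ I)))) :=
    fun I => CategoryTheory.IsPullback.of_hasPullback _ _
  have hsI : ∀ I : Ideal A, Function.Surjective (algebraMap A (A ⧸ I)) :=
    fun I => Ideal.Quotient.mk_surjective
  have hkI : ∀ I : Ideal A, RingHom.ker (algebraMap A (A ⧸ I)) = I := fun I => Ideal.mk_ker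
  have htt : t * t = 0 := hmt t ht
  have hnilt : IsNilpotent t := ⟨2, by rw [pow_two, htt]⟩
  have hann : ∀ a : A, a * t ∈ (⊥ : Ideal A) ↔ a ∈ IsLocalRing.maximalIdeal A := by
    intro a
    rw [Ideal.mem_bot]
    constructor
    · intro h
      by_contra hna
      have hu : IsUnit a := by
        by_contra hnu
        exact hna ((IsLocalRing.mem_maximalIdeal a).mpr hnu)
      exact ht0 ((hu.mul_right_eq_zero).mp h)
    · intro h
      exact hmt a h
  have hv' : Subsingleton (CategoryTheory.Sheaf.H (Groth.Agent.Lib.helper11.UnitsK.KU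
      (CategoryTheory.Limits.pullback.fst (X' ↘ Spec (CommRingCat.of A))
        (Spec.map (CommRingCat.ofHom (algebraMap A (A ⧸ (⊥ : Ideal A))))))) (q + 1)) :=
    Groth.Agent.Lib.helper11.UnitsK.subsingleton_H_of_isZero
      (Groth.Agent.Lib.helper11.UnitsK.isZero_KU_of_ker_eq_bot _ _ _ (hcan ⊥) (hsI ⊥) (hkI ⊥)) _
  have hk₁ : RingHom.ker (algebraMap A (A ⧸ Ideal.span ({t} : Set A))) =
      ⊥ ⊔ Ideal.span ({t} : Set A) := by
    rw [bot_sup_eq]
    exact hkI _
  have hv := Groth.Agent.Lib.helper11.UnitsK.subsingleton_H_KU_step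
    (X' ↘ Spec (CommRingCat.of A)) _ _ (hcan ⊥) _ _ (hcan (Ideal.span ({t} : Set A))) _ _ h₀
    t ⊥ (IsLocalRing.maximalIdeal A) hann bot_le (hsI ⊥) (hkI ⊥) (hsI _) hk₁ hs₀ hk₀ ht hnilt
    hfl (q + 1) hvan hv'
  refine Groth.Agent.Lib.helper11.UnitsK.surjective_H_comap (X' ↘ Spec (CommRingCat.of A))
    _ _ (hcan (Ideal.span ({t} : Set A))) (Ideal.span ({t} : Set A)) (hsI _) (hkI _) ?_ q hv
  intro a ha
  obtain ⟨c, rfl⟩ := Ideal.mem_span_singleton'.mp ha
  exact ⟨2, by rw [pow_two]; linear_combination (c * c) * htt⟩

end Groth.Agent.S18257
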