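import Groth.Statements.S18259
import Groth.Agent.Lib.Helper11.UnitsK5

set_option autoImplicit false
universe u
open UnitsSh

namespace Groth.Agent.S18259

open CategoryTheory CategoryTheory.Limits AlgebraicGeometry in
/-- In the case of the multiplicative group, for schemes and with Zariski cohomology of the sheaf of
units, in the form 'the functor A ↦ H^q(X ⊗ A, O^×) on local Artinian algebras is formally smooth'.
Let A be an Artinian local ring with maximal ideal m, J ⊆ m an ideal, X' a scheme flat over Spec A,
i : X ⟶ X' the closed subscheme defined by J (base change to A/J) and X₀ the closed fibre (base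
change to A/m). If H^{q+1}(X₀, O_{X₀}) = 0, then the map H^q(X', O_{X'}^×) → H^q(X', i_* O_X^×)
induced by the units map of i is surjective. (The published statement asserts formal smoothness for
any smooth commutative group scheme in place of the multiplicative group, with the Lie algebra of
its closed fibre in place of O_{X₀}, and uses étale cohomology.) -/
theorem result
    (A : Type u) [CommRing A] [IsArtinianRing A] [IsLocalRing A]
    (J : Ideal A) (hJ : J ≤ IsLocalRing.maximalIdeal A)
    (X' : Scheme.{u}) [X'.Over (Spec (CommRingCat.of A))] [Flat (X' ↘ Spec (CommRingCat.of A))]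
    (q : ℕ)
    (hvan : Subsingleton (Coh.HH (pullback (X' ↘ Spec (CommRingCat.of A)) (Spec.map (CommRingCat.ofHom (IsLocalRing.residue A)))) (Coh.structureModule _) (q + 1))) :
    Function.Surjective (Sheaf.H.map (UnitsSh.comap
      (pullback.fst (X' ↘ Spec (CommRingCat.of A)) (Spec.map (CommRingCat.ofHom (Ideal.Quotient.mk J))))) q) := by
  have hfl : FlatMod.IsFlatOver (X' ↘ Spec (CommRingCat.of A)) (Coh.structureModule X') :=
    Groth.Agent.Lib.helper21.InvFibre.isFlatOver_of_isFinLocFree _ _
      (Groth.Agent.Lib.helper16.FLF.isFinLocFree_of_isInvertible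
        (Groth.Agent.Lib.helper11.InvMod.isInvertible_structureModule X'))
  have h₀ : CategoryTheory.IsPullback
      (CategoryTheory.Limits.pullback.fst (X' ↘ Spec (CommRingCat.of A))
        (Spec.map (CommRingCat.ofHom (algebraMap A (IsLocalRing.ResidueField A)))))
      (CategoryTheory.Limits.pullback.snd (X' ↘ Spec (CommRingCat.of A))
        (Spec.map (CommRingCat.ofHom (algebraMap A (IsLocalRing.ResidueField A)))))
      (X' ↘ Spec (CommRingCat.of A))
      (Spec.map (CommRingCat.ofHom (algebraMap A (IsLocalRing.ResidueField A)))) :=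
    CategoryTheory.IsPullback.of_hasPullback _ _
  have hs₀ : Function.Surjective (algebraMap A (IsLocalRing.ResidueField A)) :=
    IsLocalRing.residue_surjective
  have hk₀ : RingHom.ker (algebraMap A (IsLocalRing.ResidueField A)) =
      IsLocalRing.maximalIdeal A := IsLocalRing.ker_residue
  have hcan := Groth.Agent.Lib.helper11.UnitsK.subsingleton_H_KU_canonical
    (X' ↘ Spec (CommRingCat.of A)) _ _ h₀ hs₀ hk₀ hfl (q + 1) hvan J hJ
  have hJpb : CategoryTheory.IsPullback
      (CategoryTheory.Limits.pullback.fst (X' ↘ Spec (CommRingCat.of A))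
        (Spec.map (CommRingCat.ofHom (algebraMap A (A ⧸ J)))))
      (CategoryTheory.Limits.pullback.snd (X' ↘ Spec (CommRingCat.of A))
        (Spec.map (CommRingCat.ofHom (algebraMap A (A ⧸ J)))))
      (X' ↘ Spec (CommRingCat.of A))
      (Spec.map (CommRingCat.ofHom (algebraMap A (A ⧸ J)))) :=
    CategoryTheory.IsPullback.of_hasPullback _ _
  exact Groth.Agent.Lib.helper11.UnitsK.surjective_H_comap (X' ↘ Spec (CommRingCat.of A))
    _ _ hJpb J Ideal.Quotient.mk_surjective Ideal.mk_ker
    (fun a ha => Groth.Agent.Lib.helper11.UnitsK.isNilpotent_of_mem_maximalIdeal a (hJ ha)) q hcan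

end Groth.Agent.S18259
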