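import Groth.Statements.S18260
import Groth.Agent.Lib.Helper11.UnitsK5

set_option autoImplicit false
universe u
open UnitsSh

namespace Groth.Agent.S18260

open CategoryTheory CategoryTheory.Limits AlgebraicGeometry in
/-- For schemes and with Zariski cohomology of the sheaf of units. Let A be an Artinian local ring with
maximal ideal m, X' a scheme flat over Spec A and i₀ : X₀ ⟶ X' its closed fibre (base change to the
residue field). If H^q(X₀, O_{X₀}) = 0, then the q-th cohomology group of the kernel of the units
map O_{X'}^× → i₀_* O_{X₀}^× (the sheaf of principal units 1 + m·O_{X'}) vanishes. (The published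
claim is the vanishing, on local Artinian algebras A with residue field k, of the deformation
functor of H^q of the multiplicative group for the trivial deformations X₀ ⊗_k A of a scheme X₀ over
a field k, and uses étale cohomology; this row allows any scheme X' flat over an Artinian local ring
A and uses Zariski cohomology.) -/
theorem result
    (A : Type u) [CommRing A] [IsArtinianRing A] [IsLocalRing A]
    (X' : Scheme.{u}) [X'.Over (Spec (CommRingCat.of A))] [Flat (X' ↘ Spec (CommRingCat.of A))]
    (q : ℕ)
    (hvan : Subsingleton (Coh.HH (pullback (X' ↘ Spec (CommRingCat.of A)) (Spec.map (CommRingCat.ofHom (IsLocalRing.residue A)))) (Coh.structureModule _) q)) :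
    Subsingleton (Sheaf.H (kernel (UnitsSh.comap
      (pullback.fst (X' ↘ Spec (CommRingCat.of A)) (Spec.map (CommRingCat.ofHom (IsLocalRing.residue A)))))) q) := by
  have hfl : FlatMod.IsFlatOver (X' ↘ Spec (CommRingCat.of A)) (Coh.structureModule X') :=
    Groth.Agent.Lib.helper21.InvFibre.isFlatOver_of_isFinLocFree _ _
      (Groth.Agent.Lib.helper16.FLF.isFinLocFree_of_isInvertible
        (Groth.Agent.Lib.helper11.InvMod.isInvertible_structureModule X'))
  have h₀ : CategoryTheory.IsPullback
      (CategoryTheory.Limits.pullback.fst (X' ↘ Spec (CommRingCat.of A))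
        (Spec.map (CommRingCat.ofHom (algebraMap A (IsLocalRing.ResidueField A)))))
      (CategoryTheory.Limits.pullback.snd (X' ↘ Spec (CommRingCat.of A))
        (Spec.map (CommRingCat.ofHom (algebraMap A (IsLocalRing.ResidueField A)))))
      (X' ↘ Spec (CommRingCat.of A))
      (Spec.map (CommRingCat.ofHom (algebraMap A (IsLocalRing.ResidueField A)))) :=
    CategoryTheory.IsPullback.of_hasPullback _ _
  have hs₀ : Function.Surjective (algebraMap A (IsLocalRing.ResidueField A)) :=
    IsLocalRing.residue_surjective
  have hk₀ : RingHom.ker (algebraMap A (IsLocalRing.ResidueField A)) =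
      IsLocalRing.maximalIdeal A := IsLocalRing.ker_residue
  have hcan := Groth.Agent.Lib.helper11.UnitsK.subsingleton_H_KU_canonical
    (X' ↘ Spec (CommRingCat.of A)) _ _ h₀ hs₀ hk₀ hfl q hvan (IsLocalRing.maximalIdeal A) le_rfl
  exact Groth.Agent.Lib.helper11.UnitsK.subsingleton_H_KU_congr (X' ↘ Spec (CommRingCat.of A))
    _ _ (CategoryTheory.IsPullback.of_hasPullback _ _) _ _ h₀ _ _
    Ideal.Quotient.mk_surjective Ideal.mk_ker hs₀ hk₀ rfl q hcan

end Groth.Agent.S18260
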