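import Groth.Statements.S18265
import Mathlib

set_option autoImplicit false
universe u
open InvQ

namespace Groth.Agent.S18265

/-- The subalgebra of elements fixed by a family of ring endomorphisms of an integrally closed
domain is integrally closed. -/
lemma isIntegrallyClosed_of_fixed {k T : Type*} [CommRing k] [CommRing T] [IsDomain T]
    [IsIntegrallyClosed T] [Algebra k T]
    (S : Subalgebra k T) (Φ : Set (T →+* T)) (hS : ∀ t, t ∈ S ↔ ∀ φ ∈ Φ, φ t = t) :
    IsIntegrallyClosed S := by
  rw [isIntegrallyClosed_iff (FractionRing S)]
  intro x hx
  obtain ⟨a, b, hb, rfl⟩ := IsFractionRing.div_surjective (A := S) x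
  have hinj : Function.Injective (IsScalarTower.toAlgHom S S (FractionRing T)) := by
    intro s₁ s₂ h
    have h' : algebraMap T (FractionRing T) (s₁ : T) = algebraMap T (FractionRing T) (s₂ : T) := h
    exact Subtype.ext (IsFractionRing.injective T (FractionRing T) h')
  let ψ : FractionRing S →ₐ[S] FractionRing T := IsFractionRing.liftAlgHom hinj
  have h1 : IsIntegral S (ψ (algebraMap S (FractionRing S) a / algebraMap S (FractionRing S) b)) :=
    hx.map ψ
  have h2 : IsIntegral T (algebraMap T (FractionRing T) (a : T) /
      algebraMap T (FractionRing T) (b : T)) := by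
    have := h1.tower_top (A := T)
    rw [map_div₀] at this
    have e1 : ∀ s : S, ψ (algebraMap S (FractionRing S) s) =
        algebraMap T (FractionRing T) (s : T) := by
      intro s
      rw [AlgHom.commutes]
      rfl
    rwa [e1, e1] at this
  obtain ⟨t, ht⟩ := IsIntegrallyClosed.algebraMap_eq_of_integral h2
  have hb0' : b ≠ 0 := nonZeroDivisors.ne_zero hb
  have hb0 : (b : T) ≠ 0 := fun h => hb0' (Subtype.ext h)
  have hbt : (b : T) * t = a := by
    apply IsFractionRing.injective T (FractionRing T)
    rw [map_mul, ht, mul_div_cancel₀]
    exact fun h => hb0 ((IsFractionRing.injective T (FractionRing T)) (h.trans (map_zero _).symm))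
  have htS : t ∈ S := by
    rw [hS]
    intro φ hφ
    have ha' := (hS a).mp a.2 φ hφ
    have hb' := (hS b).mp b.2 φ hφ
    have : (b : T) * φ t = b * t := by
      conv_lhs => rw [← hb', ← map_mul, hbt, ha']
      exact hbt.symm
    exact mul_left_cancel₀ hb0 this
  refine ⟨⟨t, htS⟩, ?_⟩
  have hbK : algebraMap S (FractionRing S) b ≠ 0 := fun h =>
    hb0' ((IsFractionRing.injective S (FractionRing S)) (h.trans (map_zero _).symm))
  rw [eq_div_iff hbK, ← map_mul]
  congr 1
  apply Subtype.ext
  simp only [MulMemClass.coe_mul]
  rw [mul_comm, hbt]

/-- Let k be an algebraically closed field and n, m natural numbers, and let R be the ring of polynomial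
functions of m vectors of k^(n+1) invariant under the special linear group SL(n+1, k) acting on all
the vectors at once and under the rescalings of the individual vectors by units with product 1
(equivalently: invariant and homogeneous of one and the same degree in each vector) — the graded
ring of invariant sections whose Proj is the quotient variety of ordered m-point sets in projective
n-space. Then R is integrally closed in its field of fractions; hence that quotient variety is
normal. (Only the normality assertion of the source's statement is given here; its dimension,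
rationality and singular-locus assertions are not.) -/
theorem result (k : Type u) [Field k] [IsAlgClosed k] (n m : ℕ) :
    IsIntegrallyClosed (W4c5pointsetsdelpezzo.invRing k n m) := by
  apply isIntegrallyClosed_of_fixed (W4c5pointsetsdelpezzo.invRing k n m)
    ({φ | ∃ g, φ = (W4c5pointsetsdelpezzo.slSubst k n m g : _ →+* _)} ∪
      {φ | ∃ s : {s : Fin m → kˣ // ∏ i, s i = 1},
        φ = (W4c5pointsetsdelpezzo.colScale k n m s.1 : _ →+* _)})
  intro t
  unfold W4c5pointsetsdelpezzo.invRing
  rw [Algebra.mem_inf, Algebra.mem_iInf, Algebra.mem_iInf]
  constructor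
  · rintro ⟨h1, h2⟩ φ (⟨g, rfl⟩ | ⟨s, rfl⟩)
    · exact h1 g
    · exact h2 s
  · intro h
    refine ⟨fun g => ?_, fun s => ?_⟩
    · exact h _ (Or.inl ⟨g, rfl⟩)
    · exact h _ (Or.inr ⟨s, rfl⟩)

end Groth.Agent.S18265
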