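import Groth.Statements.S18267
import Mathlib
import Groth.Agent.Lib.Helper17.CurveFamNormal
import Groth.Agent.Lib.Helper17.DedekindFlat
import Groth.Agent.Lib.Helper19.ProjSpaceProper
import Groth.Agent.Lib.Helper17.CurveFinite

set_option autoImplicit false
open CategoryTheory CategoryTheory.Limits AlgebraicGeometry
open ZCorr

namespace Groth.Agent.S18267

/-- Over the complex numbers, suppose C is a quasi-projective curve that is smooth and irreducible and X
is a projective variety that is smooth and irreducible; take Z to be an integral closed subscheme of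
C × X of dimension one whose projection to C is surjective (a non-vertical irreducible component of
a correspondence from C to X). Then the projection Z → C is finite and flat. -/
theorem result
    (C X : Scheme.{0}) [C.Over (Spec (CommRingCat.of ℂ))] [X.Over (Spec (CommRingCat.of ℂ))]
    [AlgebraicGeometry.IsIntegral C] [Smooth (C ↘ Spec (CommRingCat.of ℂ))] (hC : RelProj.IsHQuasiProjective (C ↘ Spec (CommRingCat.of ℂ)))
    (hdimC : topologicalKrullDim C = 1)
    [AlgebraicGeometry.IsIntegral X] [Smooth (X ↘ Spec (CommRingCat.of ℂ))] (hX : RelProj.IsHProjective (X ↘ Spec (CommRingCat.of ℂ)))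
    {Z : Scheme.{0}} (i : Z ⟶ pullback (C ↘ Spec (CommRingCat.of ℂ)) (X ↘ Spec (CommRingCat.of ℂ))) [IsClosedImmersion i]
    [AlgebraicGeometry.IsIntegral Z] (hdimZ : topologicalKrullDim Z = 1)
    (hsurj : Function.Surjective ⇑(i ≫ pullback.fst (C ↘ Spec (CommRingCat.of ℂ)) (X ↘ Spec (CommRingCat.of ℂ)))) :
    IsFinite (i ≫ pullback.fst (C ↘ Spec (CommRingCat.of ℂ)) (X ↘ Spec (CommRingCat.of ℂ))) ∧
      Flat (i ≫ pullback.fst (C ↘ Spec (CommRingCat.of ℂ)) (X ↘ Spec (CommRingCat.of ℂ))) := by
  haveI hXp : IsProper (X ↘ Spec (CommRingCat.of ℂ)) := by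
    obtain ⟨n, j, hj, hjc⟩ := hX
    rw [← hjc]
    infer_instance
  haveI hCqc : QuasiCompact (C ↘ Spec (CommRingCat.of ℂ)) := by
    obtain ⟨n, j, hj, hjq, hjc⟩ := hC
    rw [← hjc]
    infer_instance
  set π := i ≫ pullback.fst (C ↘ Spec (CommRingCat.of ℂ)) (X ↘ Spec (CommRingCat.of ℂ)) with hπ
  haveI : IsProper π := by rw [hπ]; infer_instance
  -- `Z` is Noetherian
  haveI : IsLocallyNoetherian Z :=
    LocallyOfFiniteType.isLocallyNoetherian (π ≫ (C ↘ Spec (CommRingCat.of ℂ)))
  haveI : CompactSpace Z :=
    QuasiCompact.compactSpace_of_compactSpace (π ≫ (C ↘ Spec (CommRingCat.of ℂ)))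
  haveI : IsNoetherian Z := {}
  haveI : TopologicalSpace.NoetherianSpace Z := inferInstance
  haveI : Nontrivial C := by
    by_contra hnt
    rw [not_nontrivial_iff_subsingleton] at hnt
    haveI : Subsingleton (TopologicalSpace.IrreducibleCloseds C) := by
      constructor
      intro a b
      obtain ⟨x, hx⟩ := a.isIrreducible'.nonempty
      obtain ⟨y, hy⟩ := b.isIrreducible'.nonempty
      apply SetLike.ext
      intro z
      constructor
      · intro _; rw [Subsingleton.elim z y]; exact hy
      · intro _; rw [Subsingleton.elim z x]; exact hx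
    have h0 : topologicalKrullDim C ≤ 0 := Order.krullDim_nonpos_of_subsingleton
    rw [hdimC] at h0
    exact absurd h0 (by decide)
  have hfib : ∀ c : C, (π.base ⁻¹' {c}).Finite := fun c =>
    Groth.Agent.Lib.helper17.CurveFinite.finite_preimage_singleton hdimZ.le π.base
      π.continuous π.isClosedMap hsurj c
  haveI : LocallyQuasiFinite π := LocallyQuasiFinite.of_finite_preimage_singleton π hfib
  refine ⟨IsFinite.of_isProper_of_locallyQuasiFinite π, ?_⟩
  refine Groth.Agent.Lib.helper17.DedekindFlat.flat_of_dense_image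
    (fun y => Groth.Agent.Lib.helper17.CurveFamNormal.isRegularLocalRing_stalk_of_smooth_field
      (C ↘ Spec (CommRingCat.of ℂ)) y) hdimC.le π ?_
  intro Z' hZ'
  rw [irreducibleComponents_eq_singleton, Set.mem_singleton_iff] at hZ'
  rw [hZ', Set.image_univ]
  exact hsurj.denseRange

end Groth.Agent.S18267
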