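import Groth.Statements.S18281
import Mathlib
import Groth.Agent.Lib.Helper19.ProjSpaceProper
import Groth.Agent.Lib.Helper3.FlatDescI
import Groth.Agent.Lib.Helper14.HomFlat2
import Groth.Agent.Lib.Helper3.FTFieldClosureDim
import Groth.Agent.Lib.Helper3.FTFieldDim
import Groth.Agent.Lib.Helper8.DimLt
import Groth.Agent.Lib.Helper8.FiniteDense1
-- import your own Groth.Agent.* helpers here

set_option autoImplicit false
open CategoryTheory CategoryTheory.Limits AlgebraicGeometry
open ZCorr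

namespace Groth.Agent.S18281

universe u

open Groth.Agent.Lib.helper3.FTField

/-- the fibre over the generic point is contained in the generic point -/
theorem fibre_generic (k : Type u) [Field k] {W Z : Scheme.{u}} (sW : W ⟶ Spec (CommRingCat.of k))
    [LocallyOfFiniteType sW] (π : Z ⟶ W) [LocallyOfFiniteType π] [IsIntegral W] [IsIntegral Z]
    (n : ℕ) (hdimW : topologicalKrullDim W = n) (hdimZ : topologicalKrullDim Z = n) (z : Z)
    (hz : π z = genericPoint W) : z = genericPoint Z := by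
  letI : W.Over (Spec (CommRingCat.of k)) := ⟨sW⟩
  haveI : LocallyOfFiniteType (W ↘ Spec (CommRingCat.of k)) := ‹LocallyOfFiniteType sW›
  letI : Z.Over (Spec (CommRingCat.of k)) := ⟨π ≫ sW⟩
  haveI : LocallyOfFiniteType (Z ↘ Spec (CommRingCat.of k)) :=
    (inferInstance : LocallyOfFiniteType (π ≫ sW))
  obtain ⟨a, ha⟩ := exists_nat_trdeg_residueField k W (genericPoint W)
  obtain ⟨b, hb⟩ := exists_nat_trdeg_residueField k Z z
  have hab : a ≤ b := by
    have h1 := trdeg_residueField_le_of_hom k sW (π ≫ sW) π rfl z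
    rw [hz] at h1
    rw [ha, hb] at h1
    exact_mod_cast h1
  have h1 := dim_closure_eq_trdeg k W (genericPoint W) a ha
  have h2 := dim_closure_eq_trdeg k Z z b hb
  have hclW : closure ({genericPoint W} : Set W) = Set.univ := (genericPoint_spec W).def
  have hna : (n : WithBot ℕ∞) ≤ a := by
    rw [← hdimW, ← h1, hclW]
    exact (Homeomorph.Set.univ W).symm.isInducing.topologicalKrullDim_le
  have hbn : (b : WithBot ℕ∞) ≤ n := by
    rw [← h2, ← hdimZ]
    exact Topology.IsInducing.subtypeVal.topologicalKrullDim_le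
  have hbn' : b = n := by
    have h3 : n ≤ a := by exact_mod_cast hna
    have h4 : b ≤ n := by exact_mod_cast hbn
    omega
  rw [hbn'] at h2
  have h3 : closure ({z} : Set Z) = Set.univ :=
    Groth.Agent.Lib.helper8.DimLt.closure_eq_of_dim isClosed_univ
      (IrreducibleSpace.isIrreducible_univ Z)
      (by rw [← hdimZ]; exact Topology.IsInducing.subtypeVal.topologicalKrullDim_le)
      (Set.mem_univ z) h2
  exact ((genericPoint_spec Z).eq h3).symm

/-- the general statement -/
theorem main (k : Type u) [Field k] {W Z : Scheme.{u}} (sW : W ⟶ Spec (CommRingCat.of k))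
    [LocallyOfFiniteType sW] (π : Z ⟶ W) [IsProper π] [IsIntegral W] [IsIntegral Z]
    (n : ℕ) (hdimW : topologicalKrullDim W = n) (hdimZ : topologicalKrullDim Z = n) :
    (IsOpen {w : W | ∀ z : Z, π z = w → (π.stalkMap z).hom.Flat} ∧
      {w : W | ∀ z : Z, π z = w → (π.stalkMap z).hom.Flat}.Nonempty) ∧
    ∃ U : W.Opens, (U : Set W) = {w : W | (π ⁻¹' {w}).Finite} ∧
      (U : Set W).Nonempty ∧ IsFinite (π ∣_ U) := by
  haveI : IsLocallyNoetherian W := LocallyOfFiniteType.isLocallyNoetherian sW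
  haveI : LocallyOfFinitePresentation π := inferInstance
  have hF := Groth.Agent.Lib.helper3.FlatDesc.isOpen_flatLocus_of_locallyOfFinitePresentation π
  have hgen : ∀ y' : W, y' ⤳ genericPoint W → y' = genericPoint W := fun y' h =>
    (h.antisymm ((genericPoint_spec W).specializes trivial)).eq
  refine ⟨⟨?_, ?_⟩, ?_⟩
  · have hA : {w : W | ∀ z : Z, π z = w → (π.stalkMap z).hom.Flat} =
        (π '' {z | (π.stalkMap z).hom.Flat}ᶜ)ᶜ := by
      ext w
      simp only [Set.mem_ofPred_eq, Set.mem_compl_iff, Set.mem_image, not_exists, not_and]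
      constructor
      · intro h z hz hzw
        exact hz (h z hzw)
      · intro h z hzw
        by_contra hcon
        exact h z hcon hzw
    rw [hA]
    exact (π.isClosedMap _ hF.isClosed_compl).isOpen_compl
  · refine ⟨genericPoint W, fun z hz => ?_⟩
    exact Groth.Agent.Lib.Helper14.HomFlat.flat_stalkMap_of_maximal π z (by rw [hz]; exact hgen)
  · have key : ∀ w : W, (π ⁻¹' {w}).Finite → ∃ V : W.Opens, w ∈ V ∧
        (V : Set W) ⊆ {w : W | (π ⁻¹' {w}).Finite} ∧ IsFinite (π ∣_ V) := by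
      intro w hw
      obtain ⟨V, hwV, hfin⟩ := exists_isFinite_morphismRestrict_of_finite_preimage_singleton π w hw
      refine ⟨V, hwV, ?_, hfin⟩
      intro w' hw'
      have h1 := Scheme.Hom.finite_preimage_singleton (π ∣_ V) ⟨w', hw'⟩
      have h2 : π ⁻¹' {w'} ⊆ (π ⁻¹ᵁ V).ι '' ((π ∣_ V) ⁻¹' {⟨w', hw'⟩}) := by
        intro z hz
        have hzV : z ∈ π ⁻¹ᵁ V := by
          show π z ∈ V
          rw [Set.mem_preimage, Set.mem_singleton_iff] at hz
          rw [hz]
          exact hw'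
        refine ⟨⟨z, hzV⟩, ?_, rfl⟩
        rw [Set.mem_preimage, Set.mem_singleton_iff]
        apply Subtype.ext
        rw [Set.mem_preimage, Set.mem_singleton_iff] at hz
        have := congrArg (fun g => g ⟨z, hzV⟩) (morphismRestrict_ι π V)
        simp only [Scheme.Hom.comp_apply] at this
        exact this.trans hz
      exact (h1.image _).subset h2
    have hUopen : IsOpen {w : W | (π ⁻¹' {w}).Finite} := by
      rw [isOpen_iff_forall_mem_open]
      intro w hw
      obtain ⟨V, hwV, hVU, -⟩ := key w hw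
      exact ⟨V, hVU, V.2, hwV⟩
    refine ⟨⟨_, hUopen⟩, rfl, ⟨genericPoint W, ?_⟩, ?_⟩
    · refine (Set.finite_singleton (genericPoint Z)).subset ?_
      intro z hz
      exact fibre_generic k sW π n hdimW hdimZ z hz
    · apply Groth.Agent.Lib.helper8.FD.isFinite_morphismRestrict_of_forall
      intro w hw
      obtain ⟨V, hwV, hVU, hfin⟩ := key w hw
      exact ⟨V, hVU, hwV, hfin⟩

theorem main2
    (W X : Scheme.{0}) [W.Over (Spec (CommRingCat.of ℂ))] [X.Over (Spec (CommRingCat.of ℂ))]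
    [AlgebraicGeometry.IsIntegral W] [Smooth (W ↘ Spec (CommRingCat.of ℂ))]
    (n : ℕ) (hdimW : topologicalKrullDim W = n)
    (hX : RelProj.IsHProjective (X ↘ Spec (CommRingCat.of ℂ)))
    {Z : Scheme.{0}} (i : Z ⟶ pullback (X ↘ Spec (CommRingCat.of ℂ)) (W ↘ Spec (CommRingCat.of ℂ))) [IsClosedImmersion i]
    [AlgebraicGeometry.IsIntegral Z] (hdimZ : topologicalKrullDim Z = n) :
    (IsOpen {w : W | ∀ z : Z, (i ≫ pullback.snd (X ↘ Spec (CommRingCat.of ℂ)) (W ↘ Spec (CommRingCat.of ℂ))) z = w →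
        ((i ≫ pullback.snd (X ↘ Spec (CommRingCat.of ℂ)) (W ↘ Spec (CommRingCat.of ℂ))).stalkMap z).hom.Flat} ∧
      {w : W | ∀ z : Z, (i ≫ pullback.snd (X ↘ Spec (CommRingCat.of ℂ)) (W ↘ Spec (CommRingCat.of ℂ))) z = w →
        ((i ≫ pullback.snd (X ↘ Spec (CommRingCat.of ℂ)) (W ↘ Spec (CommRingCat.of ℂ))).stalkMap z).hom.Flat}.Nonempty) ∧
    ∃ U : W.Opens, (U : Set W) = {w : W | ((i ≫ pullback.snd (X ↘ Spec (CommRingCat.of ℂ)) (W ↘ Spec (CommRingCat.of ℂ))) ⁻¹' {w}).Finite} ∧
      (U : Set W).Nonempty ∧ IsFinite ((i ≫ pullback.snd (X ↘ Spec (CommRingCat.of ℂ)) (W ↘ Spec (CommRingCat.of ℂ))) ∣_ U) := by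
  obtain ⟨m, i', hi', hcomp⟩ := hX
  haveI : IsProper (X ↘ Spec (CommRingCat.of ℂ)) := by
    rw [← hcomp]
    haveI := hi'
    haveI := Groth.Agent.Lib.helper19.ProjSpaceProper.proper_toBase m (Spec (CommRingCat.of ℂ))
    infer_instance
  haveI : IsProper (pullback.snd (X ↘ Spec (CommRingCat.of ℂ)) (W ↘ Spec (CommRingCat.of ℂ))) :=
    inferInstance
  haveI : IsProper (i ≫ pullback.snd (X ↘ Spec (CommRingCat.of ℂ)) (W ↘ Spec (CommRingCat.of ℂ))) :=
    inferInstance
  haveI : LocallyOfFiniteType (W ↘ Spec (CommRingCat.of ℂ)) := inferInstance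
  exact main ℂ (W ↘ Spec (CommRingCat.of ℂ))
    (i ≫ pullback.snd (X ↘ Spec (CommRingCat.of ℂ)) (W ↘ Spec (CommRingCat.of ℂ))) n hdimW hdimZ


/-- Over the complex numbers let W be a smooth irreducible quasi-projective variety of dimension n, X a
smooth irreducible projective variety, and Z an integral closed subscheme of X × W of dimension n
(an irreducible component of a correspondence from W to X), with projection π : Z → W. (a) The set
of points of W over which π is flat (flat at every point of the fibre) is open and nonempty. (b) The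
set U of points of W with finite fibre is open and nonempty, and π restricted over U is finite. -/
theorem result
    (W X : Scheme.{0}) [W.Over (Spec (CommRingCat.of ℂ))] [X.Over (Spec (CommRingCat.of ℂ))]
    [AlgebraicGeometry.IsIntegral W] [Smooth (W ↘ Spec (CommRingCat.of ℂ))] (hW : RelProj.IsHQuasiProjective (W ↘ Spec (CommRingCat.of ℂ)))
    (n : ℕ) (hdimW : topologicalKrullDim W = n)
    [AlgebraicGeometry.IsIntegral X] [Smooth (X ↘ Spec (CommRingCat.of ℂ))] (hX : RelProj.IsHProjective (X ↘ Spec (CommRingCat.of ℂ)))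
    {Z : Scheme.{0}} (i : Z ⟶ pullback (X ↘ Spec (CommRingCat.of ℂ)) (W ↘ Spec (CommRingCat.of ℂ))) [IsClosedImmersion i]
    [AlgebraicGeometry.IsIntegral Z] (hdimZ : topologicalKrullDim Z = n) :
    (IsOpen {w : W | ∀ z : Z, (i ≫ pullback.snd (X ↘ Spec (CommRingCat.of ℂ)) (W ↘ Spec (CommRingCat.of ℂ))) z = w →
        ((i ≫ pullback.snd (X ↘ Spec (CommRingCat.of ℂ)) (W ↘ Spec (CommRingCat.of ℂ))).stalkMap z).hom.Flat} ∧
      {w : W | ∀ z : Z, (i ≫ pullback.snd (X ↘ Spec (CommRingCat.of ℂ)) (W ↘ Spec (CommRingCat.of ℂ))) z = w →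
        ((i ≫ pullback.snd (X ↘ Spec (CommRingCat.of ℂ)) (W ↘ Spec (CommRingCat.of ℂ))).stalkMap z).hom.Flat}.Nonempty) ∧
    ∃ U : W.Opens, (U : Set W) = {w : W | ((i ≫ pullback.snd (X ↘ Spec (CommRingCat.of ℂ)) (W ↘ Spec (CommRingCat.of ℂ))) ⁻¹' {w}).Finite} ∧
      (U : Set W).Nonempty ∧ IsFinite ((i ≫ pullback.snd (X ↘ Spec (CommRingCat.of ℂ)) (W ↘ Spec (CommRingCat.of ℂ))) ∣_ U) := by
  exact main2 W X n hdimW hX i hdimZ

end Groth.Agent.S18281
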