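import Groth.Statements.S18283
import Mathlib
-- import your own Groth.Agent.* helpers here

set_option autoImplicit false
universe u v
open CAlgX

namespace Groth.Agent.S18283

section helpers

variable {A : Type u} [CommRing A] {ι : Type v} [Fintype ι] [DecidableEq ι]

/-- wedges of `n+1` vectors in the span of a family indexed by a type of cardinality `n` vanish -/
theorem wedge_zero_of_span {κ : Type v} [Fintype κ] [DecidableEq κ] (f : κ → ι → A) (n : ℕ)
    (hn : Fintype.card κ < n)
    (v : Fin n → ι → A) (hv : ∀ k, v k ∈ Submodule.span A (Set.range f)) :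
    exteriorPower.ιMulti A n v = 0 := by
  classical
  have h1 : ∀ k, ∃ a : κ → A, ∑ j, a j • f j = v k := fun k =>
    (Submodule.mem_span_range_iff_exists_fun A).1 (hv k)
  choose a ha using h1
  have hv' : v = fun k => ∑ j, a k j • f j := by
    funext k; exact (ha k).symm
  rw [hv']
  change (exteriorPower.ιMulti A n).toMultilinearMap (fun k => ∑ j, a k j • f j) = 0
  rw [(exteriorPower.ιMulti A n).toMultilinearMap.map_sum (fun k j => a k j • f j)]
  apply Finset.sum_eq_zero
  intro r _
  rw [MultilinearMap.map_smul_univ]
  obtain ⟨x, y, hxy, hr⟩ := Fintype.exists_ne_map_eq_of_card_lt r (by simpa using hn)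
  have : (exteriorPower.ιMulti A n) (fun i => f (r i)) = 0 :=
    (exteriorPower.ιMulti A n).map_eq_zero_of_eq _ (by rw [hr]) hxy
  show _ • (exteriorPower.ιMulti A n) (fun i => f (r i)) = 0
  rw [this, smul_zero]

theorem key (H : Finset ι) (f : ι → ι → A)
    (hfH : ∀ j ∈ H, ∀ j' ∈ H, f j j' = if j = j' then 1 else 0)
    (m' : ι → A) (hm' : ∀ j ∈ H, m' j = 0) (i : ι)
    (hw : ∀ v : Fin (H.card + 1) → ι → A, (∀ k, v k = m' ∨ ∃ j ∈ H, v k = f j) →
      exteriorPower.ιMulti A (H.card + 1) v = 0) : m' i = 0 := by
  classical
  let w : H ⊕ Unit → (ι → A) := Sum.elim (fun j => f j) (fun _ => m')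
  let σ : H ⊕ Unit → ι := Sum.elim (fun j => (j : ι)) (fun _ => i)
  have hcard : Fintype.card (H ⊕ Unit) = H.card + 1 := by simp
  let e : H ⊕ Unit ≃ Fin (H.card + 1) := Fintype.equivFinOfCardEq hcard
  let g₀ : (ι → A) [⋀^(H ⊕ Unit)]→ₗ[A] A :=
    (Matrix.detRowAlternating (R := A) (n := H ⊕ Unit)).compLinearMap (LinearMap.funLeft A A σ)
  let g : (ι → A) [⋀^Fin (H.card + 1)]→ₗ[A] A := g₀.domDomCongr e
  have h0 : exteriorPower.ιMulti A (H.card + 1) (w ∘ e.symm) = 0 := by
    apply hw
    intro k
    rcases h : e.symm k with j | u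
    · right
      exact ⟨j, j.2, by simp [w, h]⟩
    · left
      simp [w, h]
  have h1 : g (w ∘ e.symm) = 0 := by
    rw [← exteriorPower.alternatingMapLinearEquiv_apply_ιMulti, h0, map_zero]
  have h2 : g (w ∘ e.symm) = Matrix.det (Matrix.of fun k l => w k (σ l)) := by
    show g₀ ((w ∘ e.symm) ∘ e) = _
    have : (w ∘ e.symm) ∘ e = w := by
      funext k; simp
    rw [this]
    rfl
  have h3 : (Matrix.of fun k l => w k (σ l)) =
      Matrix.fromBlocks (1 : Matrix H H A) (Matrix.of fun (j : H) (_ : Unit) => f j i) 0
        (Matrix.of fun (_ : Unit) (_ : Unit) => m' i) := by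
    ext (k | k) (l | l)
    · simp only [w, σ, Matrix.of_apply, Sum.elim_inl, Matrix.fromBlocks_apply₁₁]
      rw [hfH k k.2 l l.2, Matrix.one_apply]
      by_cases hkl : k = l
      · subst hkl; rw [if_pos rfl, if_pos rfl]
      · have : (k : ι) ≠ (l : ι) := fun h' => hkl (Subtype.ext h')
        rw [if_neg hkl, if_neg this]
    · simp [w, σ]
    · simp only [w, σ, Matrix.of_apply, Sum.elim_inl, Sum.elim_inr, Matrix.fromBlocks_apply₂₁,
        Matrix.zero_apply]
      exact hm' l l.2
    · simp [w, σ]
  rw [h2, h3, Matrix.det_fromBlocks_zero₂₁, Matrix.det_one, one_mul, Matrix.det_unique] at h1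
  exact h1

end helpers

/-- Let A be a commutative ring, ι a finite index type, H a finite set of indices (the head indices) and
c : ι → ι → A a table of coefficients; for j ∈ H put f_j = e_j − Σ_{i ∉ H} c_{ji} e_i in the free
module A^ι, so that each f_j has head e_j with coefficient 1 and tail supported outside H. If a
submodule M of A^ι contains every f_j with j ∈ H, then M is the A-span of these f_j if and only if
every wedge product of |H|+1 elements of M vanishes in the (|H|+1)-st exterior power of A^ι
(equivalently, every (|H|+1)-minor of every matrix whose rows lie in M vanishes). The published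
statement is the case where A is a Noetherian algebra over a field of characteristic zero, A^ι is
the degree-(m+1) part of the polynomial ring over A with its basis of terms, H is the set of
degree-(m+1) terms of a strongly stable monomial ideal generated in degree m, and M is the
degree-(m+1) part of an ideal generated by a marked set on that monomial ideal; this row allows any
commutative ring and any submodule containing the marked polynomials. -/
theorem result
    {A : Type u} [CommRing A] {ι : Type v} [Fintype ι] [DecidableEq ι]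
    (H : Finset ι) (c : ι → ι → A) (M : Submodule A (ι → A))
    (hf : ∀ j ∈ H, (Pi.single j (1 : A) - ∑ i ∈ Hᶜ, c j i • Pi.single i (1 : A)) ∈ M) :
    M = Submodule.span A ((fun j => Pi.single j (1 : A) - ∑ i ∈ Hᶜ, c j i • Pi.single i (1 : A)) '' ↑H)
      ↔ ∀ v : Fin (H.card + 1) → ι → A, (∀ k, v k ∈ M) →
          exteriorPower.ιMulti A (H.card + 1) v = 0 := by
  classical
  set f : ι → ι → A := fun j => Pi.single j (1 : A) - ∑ i ∈ Hᶜ, c j i • Pi.single i (1 : A) with hfdef
  have hfH : ∀ j ∈ H, ∀ j' ∈ H, f j j' = if j = j' then 1 else 0 := by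
    intro j _ j' hj'
    simp only [hfdef, Pi.sub_apply, Finset.sum_apply, Pi.smul_apply, smul_eq_mul]
    have : ∑ i ∈ Hᶜ, c j i * (Pi.single i (1 : A) : ι → A) j' = 0 := by
      apply Finset.sum_eq_zero
      intro i hi
      have hne : j' ≠ i := by
        rintro rfl
        exact (Finset.mem_compl.1 hi) hj'
      rw [Pi.single_apply, if_neg hne, mul_zero]
    rw [this, sub_zero, Pi.single_apply]
    by_cases h : j = j'
    · subst h; simp
    · rw [if_neg h, if_neg (Ne.symm h)]
  have himage : (f '' (↑H : Set ι)) = Set.range (fun j : H => f j) := by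
    ext x
    constructor
    · rintro ⟨j, hj, rfl⟩
      exact ⟨⟨j, hj⟩, rfl⟩
    · rintro ⟨j, rfl⟩
      exact ⟨j, j.2, rfl⟩
  constructor
  · intro hM v hv
    apply wedge_zero_of_span (fun j : H => f j) (H.card + 1) (by simp)
    intro k
    rw [← himage, ← hM]
    exact hv k
  · intro hall
    apply le_antisymm
    · intro m hm
      set m' : ι → A := m - ∑ j ∈ H, m j • f j with hm'def
      have hspan : ∑ j ∈ H, m j • f j ∈ Submodule.span A (f '' (↑H : Set ι)) :=
        Submodule.sum_mem _ (fun j hj => Submodule.smul_mem _ _
          (Submodule.subset_span ⟨j, hj, rfl⟩))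
      have hm'M : m' ∈ M :=
        M.sub_mem hm (M.sum_mem (fun j hj => M.smul_mem _ (hf j hj)))
      have hm'H : ∀ j ∈ H, m' j = 0 := by
        intro j hj
        simp only [hm'def, Pi.sub_apply, Finset.sum_apply, Pi.smul_apply, smul_eq_mul]
        have : ∑ j' ∈ H, m j' * f j' j = m j := by
          rw [Finset.sum_eq_single j]
          · rw [hfH j hj j hj, if_pos rfl, mul_one]
          · intro b hb hbj
            rw [hfH b hb j hj, if_neg hbj, mul_zero]
          · intro h; exact absurd hj h
        rw [this, sub_self]
      have hzero : m' = 0 := by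
        funext i
        apply key H f hfH m' hm'H i
        intro v hv
        apply hall v
        intro k
        rcases hv k with h | ⟨j, hj, h⟩
        · rw [h]; exact hm'M
        · rw [h]; exact hf j hj
      have : m = ∑ j ∈ H, m j • f j := by
        have := hzero
        rw [hm'def, sub_eq_zero] at this
        exact this
      rw [this]
      exact hspan
    · apply Submodule.span_le.2
      rintro _ ⟨j, hj, rfl⟩
      exact hf j hj

end Groth.Agent.S18283
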