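import Groth.Statements.S18285
import Mathlib
import Groth.Agent.Lib.Helper12.MagnetDom
import Groth.Agent.Lib.Helper21.MagnetPB
import Groth.Agent.Lib.Helper21.MagnetSch

set_option autoImplicit false
universe u
open CategoryTheory MonoidalCategory CartesianMonoidalCategory MonObj AlgebraicGeometry Opposite
open Magnet

namespace Groth.Agent.S18285

open CategoryTheory.Limits in
theorem ext_of_dominant {S : Scheme.{u}} {V W X : Over S} [IsSeparated X.hom] (d : V ⟶ W)
    [IsSchemeTheoreticallyDominant d.left] (φ ψ : W ⟶ X) (h : d ≫ φ = d ≫ ψ) : φ = ψ := by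
  have hcl : IsClosedImmersion (equalizer.ι φ ψ).left := inferInstance
  let l : V ⟶ equalizer φ ψ := equalizer.lift d h
  have hl : l.left ≫ (equalizer.ι φ ψ).left = d.left := by
    rw [← Over.comp_left, equalizer.lift_ι]
  have : IsSchemeTheoreticallyDominant (l.left ≫ (equalizer.ι φ ψ).left) := by
    rw [hl]; infer_instance
  have : IsIso (equalizer.ι φ ψ).left :=
    Groth.Agent.Lib.Helper21.MagnetSch.isIso_of_factor _ l.left
  apply Over.OverMorphism.ext
  rw [← cancel_epi (equalizer.ι φ ψ).left]
  exact congr($(equalizer.condition φ ψ).left)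


/-- Let X be an S-scheme separated over S with an action of the diagonalizable monoid scheme A(M)_S of a
commutative monoid M, and N a submonoid of M. Then the canonical map from the attractor X^N to X
(evaluation at the unit section of A(N)_S) is a monomorphism: for every S-scheme T it is injective
on T-points. (The published statement allows X to be an algebraic space over S; here X is a scheme.) -/
theorem result (S : Scheme.{u}) (M : Type) [AddCommMonoid M]
    (X : Over S) [IsSeparated X.hom] (a : Magnet.MonAct (Magnet.AMonS S M) X) (N : AddSubmonoid M) (T : Over S) :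
    Function.Injective (fun φ => (Magnet.attrToX a N).app (op T) φ) := by
  intro φ ψ h
  have h' : lift (toUnit T ≫ η[Magnet.AMonS S N]) (𝟙 T) ≫ φ.1 =
      lift (toUnit T ≫ η[Magnet.AMonS S N]) (𝟙 T) ≫ ψ.1 := h
  apply Subtype.ext
  have k1 := Groth.Agent.Lib.Helper21.MagnetPB.whiskerRight_comp_eq
    a a (Magnet.AMonS.map S N.subtype) (𝟙 X) (Magnet.MonAct.IsEquivariant.id a) φ.1 φ.2
    (lift (toUnit T ≫ η[Magnet.AMonS S N]) (𝟙 T) ≫ φ.1) (Category.comp_id _).symm
  have k2 := Groth.Agent.Lib.Helper21.MagnetPB.whiskerRight_comp_eq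
    a a (Magnet.AMonS.map S N.subtype) (𝟙 X) (Magnet.MonAct.IsEquivariant.id a) ψ.1 ψ.2
    (lift (toUnit T ≫ η[Magnet.AMonS S N]) (𝟙 T) ≫ φ.1) (by rw [Category.comp_id, h'])
  have : IsSchemeTheoreticallyDominant ((Magnet.AMonS.map S N.subtype) ▷ T).left :=
    Groth.Agent.Lib.Helper12.MagnetDom.dominant_whiskerRight S N T
  exact ext_of_dominant ((Magnet.AMonS.map S N.subtype) ▷ T) φ.1 ψ.1 (k1.trans k2.symm)

end Groth.Agent.S18285
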