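import Groth.Statements.S18284
import Mathlib
import Groth.Agent.S18285

set_option autoImplicit false
universe u
open CategoryTheory MonoidalCategory CartesianMonoidalCategory MonObj AlgebraicGeometry Opposite
open Magnet

namespace Groth.Agent.S18284

/-- Let X be an S-scheme separated over S with an action of the diagonalizable monoid scheme A(M)_S of a
commutative monoid M, and let N ≤ N' be submonoids (magnets) of M. Then the canonical map of
attractors X^N → X^{N'}, precomposition with A(N')_S → A(N)_S, is a monomorphism: for every S-scheme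
T it is injective on T-points. (The published statement allows X to be an algebraic space over S;
here X is a scheme.) -/
theorem result (S : Scheme.{u}) (M : Type) [AddCommMonoid M]
    (X : Over S) [IsSeparated X.hom] (a : Magnet.MonAct (Magnet.AMonS S M) X) {N N' : AddSubmonoid M}
    (h : N ≤ N') (T : Over S) :
    Function.Injective (fun φ => (Magnet.attrMap a h).app (op T) φ) := by
  intro φ ψ hφψ
  apply Groth.Agent.S18285.result S M X a N T
  change lift (toUnit T ≫ η[Magnet.AMonS S N]) (𝟙 T) ≫ φ.1 =
    lift (toUnit T ≫ η[Magnet.AMonS S N]) (𝟙 T) ≫ ψ.1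
  have e : lift (toUnit T ≫ η[Magnet.AMonS S N]) (𝟙 T) =
      lift (toUnit T ≫ η[Magnet.AMonS S N']) (𝟙 T) ≫
        ((Magnet.AMonS.map S (AddSubmonoid.inclusion h)) ▷ T) := by
    rw [lift_whiskerRight, Category.assoc, IsMonHom.one_hom]
  have h1 : ((Magnet.AMonS.map S (AddSubmonoid.inclusion h)) ▷ T) ≫ φ.1 =
      ((Magnet.AMonS.map S (AddSubmonoid.inclusion h)) ▷ T) ≫ ψ.1 := congrArg Subtype.val hφψ
  rw [e, Category.assoc, Category.assoc, h1]

end Groth.Agent.S18284
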