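import Groth.Statements.S18286
import Mathlib
import Groth.Agent.Lib.Helper12.MagnetDom
import Groth.Agent.Lib.Helper21.MagnetPB
import Groth.Agent.Lib.Helper21.MagnetSch

set_option autoImplicit false
universe u
open CategoryTheory MonoidalCategory CartesianMonoidalCategory MonObj AlgebraicGeometry Opposite
open Magnet

namespace Groth.Agent.S18286

/-- Let Y be an S-scheme affine over S with an action of the diagonalizable monoid scheme A(M)_S of a
commutative monoid M, let f : Z → Y be an equivariant closed immersion (for an action of A(M)_S on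
Z), and let N ⊆ M be a submonoid (magnet). Then Z^N = Z ×_Y Y^N: the square of functors on S-schemes
formed by f^N : Z^N → Y^N, the canonical maps Z^N → Z and Y^N → Y (evaluation at the unit section)
and f is cartesian. -/
theorem result (S : Scheme.{u}) (M : Type) [AddCommMonoid M]
    (N : AddSubmonoid M) (Y Z : Over S) [IsAffineHom Y.hom] (aY : Magnet.MonAct (Magnet.AMonS S M) Y)
    (aZ : Magnet.MonAct (Magnet.AMonS S M) Z) (f : Z ⟶ Y) [IsClosedImmersion f.left]
    (hf : Magnet.MonAct.IsEquivariant aZ aY f) :
    IsPullback (Magnet.MonAct.eqvHom.postcomp (Magnet.subAct S M N) f hf) (Magnet.attrToX aZ N)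
      (Magnet.attrToX aY N) (yoneda.map f) := by
  have : Mono f := by
    have : Mono f.left := inferInstance
    exact (Over.forget _).mono_of_mono_map this
  apply Groth.Agent.Lib.Helper21.MagnetPB.isPullback_postcomp_evalAt
  intro T φ hφ z hz
  have key := Groth.Agent.Lib.Helper21.MagnetPB.whiskerRight_comp_eq
    aZ aY (Magnet.AMonS.map S N.subtype) f hf φ hφ z hz
  have : IsSchemeTheoreticallyDominant ((Magnet.AMonS.map S N.subtype) ▷ T).left :=
    Groth.Agent.Lib.Helper12.MagnetDom.dominant_whiskerRight S N T
  exact Groth.Agent.Lib.Helper21.MagnetSch.exists_factor f φ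
    ((Magnet.AMonS.map S N.subtype) ▷ T) _ key

end Groth.Agent.S18286
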