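import Groth.Statements.S18288
import Mathlib
import Groth.Agent.Lib.Helper12.MagnetDom
import Groth.Agent.S18285

set_option autoImplicit false
universe u
open CategoryTheory MonoidalCategory CartesianMonoidalCategory MonObj AlgebraicGeometry Opposite
open Magnet

namespace Groth.Agent.S18288

/-- Let M be a commutative monoid with an injective homomorphism f : M → Z into a commutative group Z
(so M is cancellative; the published statement takes Z to be the group completion of M, and the same
argument applies to any such Z), let Y be a submonoid of Z contained in the image of M, and let X be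
an S-scheme separated over S with an action of the diagonalizable monoid scheme A(M)_S. Regard X as
a D(Z)_S-scheme through D(Z)_S → A(M)_S. Then the canonical map of attractors X^{f⁻¹Y ⊂ M} → X^{Y ⊂
Z} is an isomorphism: a D(Z)_S-equivariant family out of A(Y)_S is automatically A(M)_S-equivariant.
(The published statement allows X to be an algebraic space; here X is a scheme.) -/
theorem result (S : Scheme.{u}) (M Z : Type) [AddCommMonoid M]
    [AddCommGroup Z] (f : M →+ Z) (hf : Function.Injective f) (Y : AddSubmonoid Z)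
    (hY : Y ≤ AddMonoidHom.mrange f) (X : Over S) [IsSeparated X.hom]
    (a : Magnet.MonAct (Magnet.AMonS S M) X) :
    IsIso (Magnet.attrComap a f Y) := by
  -- notation
  let N : AddSubmonoid M := Y.comap f
  let g : N →+ Y := (f.comp N.subtype).codRestrict Y (fun x => x.2)
  have hg : Function.Bijective g := by
    constructor
    · intro x y hxy
      have : f x.1 = f y.1 := congrArg Subtype.val hxy
      exact Subtype.ext (hf this)
    · intro y
      obtain ⟨m, hm⟩ := hY y.2
      exact ⟨⟨m, by change f m ∈ Y; rw [hm]; exact y.2⟩, Subtype.ext hm⟩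
  let ge : N ≃+ Y := AddEquiv.ofBijective g hg
  let ginv : Y →+ N := ge.symm.toAddMonoidHom
  have hgi : g.comp ginv = AddMonoidHom.id Y := by
    ext y
    exact congrArg Subtype.val (ge.apply_symm_apply y)
  have hig : ginv.comp g = AddMonoidHom.id N := by
    ext x
    exact congrArg Subtype.val (ge.symm_apply_apply x)
  let κ : Magnet.AMonS S Y ⟶ Magnet.AMonS S N := Magnet.AMonS.map S g
  let κ' : Magnet.AMonS S N ⟶ Magnet.AMonS S Y := Magnet.AMonS.map S ginv
  have hκκ' : κ ≫ κ' = 𝟙 _ := by
    change Magnet.AMonS.map S g ≫ Magnet.AMonS.map S ginv = 𝟙 _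
    rw [← Magnet.AMonS.map_comp, hgi]
    exact Groth.Agent.Lib.Helper12.MagnetDom.AMonS_map_id S
  have hκ'κ : κ' ≫ κ = 𝟙 _ := by
    change Magnet.AMonS.map S ginv ≫ Magnet.AMonS.map S g = 𝟙 _
    rw [← Magnet.AMonS.map_comp, hig]
    exact Groth.Agent.Lib.Helper12.MagnetDom.AMonS_map_id S
  let θ : Magnet.AMonS S Z ⟶ Magnet.AMonS S M := Magnet.AMonS.map S f
  let σ : Magnet.AMonS S M ⟶ Magnet.AMonS S N := Magnet.AMonS.map S N.subtype
  let σ' : Magnet.AMonS S Z ⟶ Magnet.AMonS S Y := Magnet.AMonS.map S Y.subtype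
  have hθσ : θ ≫ σ ≫ κ' = σ' := by
    have h1 : θ ≫ σ = σ' ≫ κ := by
      change Magnet.AMonS.map S f ≫ Magnet.AMonS.map S N.subtype =
        Magnet.AMonS.map S Y.subtype ≫ Magnet.AMonS.map S g
      rw [← Magnet.AMonS.map_comp, ← Magnet.AMonS.map_comp]
      rfl
    rw [← Category.assoc, h1, Category.assoc, hκκ', Category.comp_id]
  rw [NatTrans.isIso_iff_isIso_app]
  intro T
  rw [isIso_iff_bijective]
  constructor
  · intro φ₁ φ₂ h
    apply Subtype.ext
    have h1 : (κ ▷ unop T) ≫ φ₁.1 = (κ ▷ unop T) ≫ φ₂.1 := congrArg Subtype.val h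
    have h2 := congrArg (fun t => (κ' ▷ unop T) ≫ t) h1
    simp only [← Category.assoc, ← MonoidalCategory.comp_whiskerRight, hκ'κ,
      MonoidalCategory.id_whiskerRight, Category.id_comp] at h2
    exact h2
  · intro ψ
    let φ : Magnet.AMonS S N ⊗ unop T ⟶ X := (κ' ▷ unop T) ≫ ψ.1
    have hφ : Magnet.MonAct.IsEquivariant
        ((Magnet.subAct S M N).prod (Magnet.MonAct.trivial _ (unop T))) a φ := by
      unfold Magnet.MonAct.IsEquivariant
      have hd : IsSchemeTheoreticallyDominant (θ ▷ (Magnet.AMonS S N ⊗ unop T)).left :=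
        Groth.Agent.Lib.Helper12.MagnetDom.dominant_whiskerRight_of_injective S f hf _
      apply Groth.Agent.S18285.ext_of_dominant (θ ▷ (Magnet.AMonS S N ⊗ unop T))
      apply Magnet.hom_ext_lift₂
      intro T' g' z
      obtain ⟨b, t, rfl⟩ : ∃ b t, z = lift b t := ⟨z ≫ fst _ _, z ≫ snd _ _, by simp⟩
      have hψ := (Magnet.MonAct.mem_eqvHom_iff ψ.1).mp ψ.2 T' g' (b ≫ κ') t
      have L3 : ∀ x : T' ⟶ Magnet.AMonS S N, lift x t ≫ φ = lift (x ≫ κ') t ≫ ψ.1 := by
        intro x
        change lift x t ≫ (κ' ▷ unop T) ≫ ψ.1 = _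
        rw [lift_whiskerRight_assoc]
      have L2 : lift (g' ≫ θ) b ≫ (Magnet.subAct S M N).act = (g' ≫ θ ≫ σ) * b := by
        rw [Magnet.subAct, Magnet.MonAct.lift_restrict_act, Magnet.MonAct.lift_regular_act,
          Category.assoc]
      have L5 : lift g' (b ≫ κ') ≫ (Magnet.subAct S Z Y).act = (g' ≫ σ') * (b ≫ κ') := by
        rw [Magnet.subAct, Magnet.MonAct.lift_restrict_act, Magnet.MonAct.lift_regular_act]
      have L4 : ((g' ≫ θ ≫ σ) * b) ≫ κ' = (g' ≫ σ') * (b ≫ κ') := by
        rw [MonObj.mul_comp, Category.assoc, Category.assoc, hθσ]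
      rw [lift_whiskerRight_assoc, lift_whiskerRight_assoc, Magnet.MonAct.lift_prod_act_assoc,
        Magnet.MonAct.lift_trivial_act, lift_whiskerLeft_assoc, L3, L3, L2, L4, ← L5, hψ,
        Magnet.MonAct.lift_restrict_act]
    refine ⟨⟨φ, hφ⟩, ?_⟩
    apply Subtype.ext
    change (κ ▷ unop T) ≫ (κ' ▷ unop T) ≫ ψ.1 = ψ.1
    rw [← Category.assoc, ← MonoidalCategory.comp_whiskerRight, hκκ',
      MonoidalCategory.id_whiskerRight, Category.id_comp]

end Groth.Agent.S18288
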