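import Groth.Statements.S1830
import Groth.Agent.Lib.Helper17.LciFibre3

set_option autoImplicit false
set_option linter.style.haveILetI false
universe u
open CategoryTheory
open scoped TensorProduct
attribute [local instance] HasDerivedCategory.standard
open Goren

namespace Groth.Agent.S1830

/-- A flat local complete intersection ring map has Gorenstein fibres: let A → B be a flat ring
homomorphism which is a local complete intersection. Then for every prime p of A the fibre ring B
⊗_A κ(p) is a Gorenstein ring. (This is the affine form of the statement that a syntomic morphism is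
a Gorenstein morphism.) -/
theorem result (A B : Type u) [CommRing A] [CommRing B] [Algebra A B] [Module.Flat A B] (hl : LCI.IsLCI A B) (p : PrimeSpectrum A) : LocCoh.IsGorensteinRing (B ⊗[A] p.asIdeal.ResidueField) := by
  obtain ⟨-, n, f, hf, hK⟩ := hl
  have hker : RingHom.ker f.toRingHom = RingHom.ker f := rfl
  rw [hker] at hK
  let eB : (MvPolynomial (Fin n) A ⧸ RingHom.ker f) ≃ₐ[A] B :=
    Ideal.quotientKerAlgEquivOfSurjective hf
  haveI : Module.Flat A (MvPolynomial (Fin n) A ⧸ RingHom.ker f) :=
    Module.Flat.of_linearEquiv eB.toLinearEquiv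
  haveI := Groth.Agent.Lib.helper17.LciFibre.isGorensteinRing_fiber_of_koszulRegular A n
    (RingHom.ker f) p.asIdeal hK
  let e : p.asIdeal.Fiber (MvPolynomial (Fin n) A ⧸ RingHom.ker f) ≃+*
      B ⊗[A] p.asIdeal.ResidueField :=
    ((Algebra.TensorProduct.congr (AlgEquiv.refl : p.asIdeal.ResidueField ≃ₐ[A]
      p.asIdeal.ResidueField) eB).trans
        (Algebra.TensorProduct.comm A p.asIdeal.ResidueField B)).toRingEquiv
  exact Groth.Agent.Lib.helper17.GorRing.isGorensteinRing_of_ringEquiv
    (R := p.asIdeal.Fiber (MvPolynomial (Fin n) A ⧸ RingHom.ker f))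
    (S := B ⊗[A] p.asIdeal.ResidueField) e

end Groth.Agent.S1830
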