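import Groth.Statements.S1829
import Mathlib
import Groth.Agent.Lib.Helper23.GFA3
import Groth.Agent.Lib.Helper23.FBC14
import Groth.Agent.S1830
-- import your own Groth.Agent.* helpers here

set_option autoImplicit false
universe u
open CategoryTheory
attribute [local instance] HasDerivedCategory.standard
open Dual

namespace Groth.Agent.S1829

/-- Let A → B be a faithfully flat local complete intersection homomorphism of Noetherian rings and K an
object of D(A); assume the derived base change functor D(A) → D(B) exists. Then K is a dualizing
complex for A if and only if its base change is a dualizing complex for B. -/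
theorem result (A B : Type u) [CommRing A] [CommRing B] [Algebra A B] [IsNoetherianRing A] [IsNoetherianRing B] [Module.FaithfullyFlat A B] (hl : LCI.IsLCI A B) [DRing.HasLBaseChange (algebraMap A B)] (K : Dual.D A) : Dual.IsDualizing A K ↔ Dual.IsDualizing B ((DRing.LBaseChange (algebraMap A B)).obj K) := by
  constructor
  · intro hK
    have hft : Algebra.FiniteType A B := hl.1
    haveI := hft
    haveI : Limits.PreservesFiniteLimits (ModuleCat.extendScalars.{u, u, u} (algebraMap A B)) :=
      Groth.Agent.Lib.helper23.FlatBC.preservesFiniteLimits_extendScalars_algebraMap
    exact Groth.Agent.Lib.helper23.FBC.isDualizing_of_iso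
      ((Groth.Agent.Lib.helper23.FlatBC.lbcIso (algebraMap A B)).app K).symm
      (Groth.Agent.Lib.helper23.GFA.isDualizing_EE_of_gorenstein_fibres A B
        (fun p => Groth.Agent.S1830.result A B hl p) K hK)
  · intro hK
    exact Groth.Agent.Lib.helper23.FBC.isDualizing_of_faithfullyFlat A B K hK

end Groth.Agent.S1829
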