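import Groth.Statements.S18293
import Mathlib
-- import your own Groth.Agent.* helpers here

set_option autoImplicit false
universe v₁ u₁
open CategoryTheory MonoidalCategory CartesianMonoidalCategory MonObj Opposite
open Magnet Magnet.MonAct

namespace Groth.Agent.S18293

/-- Let A be a monoid object of a cartesian monoidal category acting on X₁, X₂ and X₃, let f₁ : X₁ → X₂
and f₃ : X₃ → X₂ be equivariant, and let p₁ : P → X₁, p₃ : P → X₃ make P the fibre product X₁ ×_{X₂}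
X₃ (in the source A = A(M)_S acts on S-spaces). Then P carries exactly one action of A for which p₁
and p₃ are equivariant (the canonical action g • (x₁, x₃) = (g • x₁, g • x₃)); with it the square is
cartesian among objects with A-action. -/
theorem result {C : Type u₁} [Category.{v₁} C] [CartesianMonoidalCategory C]
    {A X₁ X₂ X₃ P : C} [MonObj A] (a₁ : Magnet.MonAct A X₁) (a₂ : Magnet.MonAct A X₂) (a₃ : Magnet.MonAct A X₃)
    (f₁ : X₁ ⟶ X₂) (f₃ : X₃ ⟶ X₂) (p₁ : P ⟶ X₁) (p₃ : P ⟶ X₃) (hsq : IsPullback p₁ p₃ f₁ f₃)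
    (hf₁ : Magnet.MonAct.IsEquivariant a₁ a₂ f₁) (hf₃ : Magnet.MonAct.IsEquivariant a₃ a₂ f₃) :
    ∃! aP : Magnet.MonAct A P, Magnet.MonAct.IsEquivariant aP a₁ p₁ ∧ Magnet.MonAct.IsEquivariant aP a₃ p₃ := by
  have hcompat : ((A ◁ p₁) ≫ a₁.act) ≫ f₁ = ((A ◁ p₃) ≫ a₃.act) ≫ f₃ := by
    unfold Magnet.MonAct.IsEquivariant at hf₁ hf₃
    rw [Category.assoc, Category.assoc, hf₁, hf₃, ← MonoidalCategory.whiskerLeft_comp_assoc,
      ← MonoidalCategory.whiskerLeft_comp_assoc, hsq.w]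
  let actP : A ⊗ P ⟶ P := hsq.lift ((A ◁ p₁) ≫ a₁.act) ((A ◁ p₃) ≫ a₃.act) hcompat
  have hact₁ : actP ≫ p₁ = (A ◁ p₁) ≫ a₁.act := hsq.lift_fst _ _ _
  have hact₃ : actP ≫ p₃ = (A ◁ p₃) ≫ a₃.act := hsq.lift_snd _ _ _
  have hpt₁ : ∀ {T : C} (g : T ⟶ A) (x : T ⟶ P), lift g x ≫ actP ≫ p₁ = lift g (x ≫ p₁) ≫ a₁.act := by
    intro T g x
    rw [hact₁, lift_whiskerLeft_assoc]
  have hpt₃ : ∀ {T : C} (g : T ⟶ A) (x : T ⟶ P), lift g x ≫ actP ≫ p₃ = lift g (x ≫ p₃) ≫ a₃.act := by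
    intro T g x
    rw [hact₃, lift_whiskerLeft_assoc]
  let aP : Magnet.MonAct A P := Magnet.MonAct.mk' actP
    (by
      intro T x
      apply hsq.hom_ext
      · rw [Category.assoc, hpt₁, Magnet.MonAct.lift_one_act]
      · rw [Category.assoc, hpt₃, Magnet.MonAct.lift_one_act])
    (by
      intro T g h x
      apply hsq.hom_ext
      · rw [Category.assoc, hpt₁, Magnet.MonAct.lift_mul_act, Category.assoc, hpt₁, Category.assoc, hpt₁]
      · rw [Category.assoc, hpt₃, Magnet.MonAct.lift_mul_act, Category.assoc, hpt₃, Category.assoc, hpt₃])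
  refine ⟨aP, ⟨hact₁, hact₃⟩, ?_⟩
  rintro b ⟨hb₁, hb₃⟩
  apply Magnet.MonAct.ext'
  apply hsq.hom_ext
  · exact hb₁.trans hact₁.symm
  · exact hb₃.trans hact₃.symm

end Groth.Agent.S18293
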