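import Groth.Statements.S18317
import Groth.Agent.Lib.Helper14.FinConnTorsor
open Groth.Agent.Lib.Helper14.FinConnTorsor CategoryTheory.MonoidalCategory CategoryTheory.CartesianMonoidalCategory CategoryTheory.MonObj

set_option autoImplicit false
universe u
open CategoryTheory AlgebraicGeometry
open NonAbH1

namespace Groth.Agent.S18317

/-- Let K be a field and G a finite connected K-group scheme (G → Spec K finite, G connected as a
topological space). Then every G-torsor X over Spec K for the étale topology (a K-scheme with an
action of G whose shear map G ×_K X → X ×_K X is an isomorphism and which acquires a section over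
the members of some étale covering of Spec K) is trivial: X has a K-point. -/
theorem result (K : Type u) [Field K]
    (G X : Over (Spec (CommRingCat.of K))) [GrpObj G] [IsFinite G.hom] [ConnectedSpace G.left]
    (a : AlgGrp.Action G X) (h : NonAbH1.IsTorsorFor Scheme.etalePrecoverage a) :
    NonAbH1.HasSectionOver X (𝟙 (Spec (CommRingCat.of K))) := by
  obtain ⟨hiso, R, hR, hsec⟩ := h
  haveI : Subsingleton G.left := subsingleton_of_isFinite_of_preconnected G.hom
  haveI hG : UniversallyInjective G.hom :=
    universallyInjective_of_section G.hom η[G].left (Over.w η[G])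
  haveI hsndG : UniversallyInjective (Limits.pullback.snd G.hom X.hom) :=
    MorphismProperty.pullback_snd _ _ hG
  haveI : IsIso (lift a.act (snd G X)) := hiso
  have hσ : (lift a.act (snd G X)) ≫ snd X X = snd G X := lift_snd _ _
  have h2 : Limits.pullback.snd X.hom X.hom =
      (inv (lift a.act (snd G X))).left ≫ Limits.pullback.snd G.hom X.hom := by
    have h2' : inv (lift a.act (snd G X)) ≫ snd G X = snd X X := by
      rw [IsIso.inv_comp_eq, hσ]
    rw [← Over.snd_left, ← Over.snd_left, ← Over.comp_left, h2']
  haveI : UniversallyInjective (Limits.pullback.snd X.hom X.hom) := by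
    rw [h2]
    exact MorphismProperty.comp_mem _ _ _ inferInstance hsndG
  haveI : UniversallyInjective X.hom := universallyInjective_of_snd X.hom
  obtain ⟨hjs, het⟩ := hR
  rw [Presieve.mem_comap_jointlySurjectivePrecoverage_iff] at hjs
  obtain ⟨S', f, hRf, y, hy⟩ := hjs (IsLocalRing.closedPoint K)
  haveI : Etale f := het hRf
  obtain ⟨s, hs⟩ := hsec f hRf
  subst hs
  obtain ⟨t, ht⟩ := exists_section_of_universallyInjective_of_etale X.hom s y
  exact ⟨t, ht⟩

end Groth.Agent.S18317
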