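import Groth.Statements.S1835
import Mathlib

set_option autoImplicit false
universe u
open CycAlg

namespace Groth.Agent.S1835

/-- Let R be a Noetherian local ring of dimension 1, a a nonzerodivisor in the maximal ideal and b a
nonzerodivisor. There is an integer n such that whenever b = a^m c in some finite extension ring R ⊆
R', one has m ≤ n. -/
theorem result (R : Type u) [CommRing R] [IsNoetherianRing R] [IsLocalRing R] (hR : ringKrullDim R = 1) (a b : R) (ha : a ∈ nonZeroDivisors R) (ham : a ∈ IsLocalRing.maximalIdeal R) (hb : b ∈ nonZeroDivisors R) : ∃ n : ℕ, ∀ (R' : Type u) [CommRing R'] [Algebra R R'], Function.Injective (algebraMap R R') → Module.Finite R R' → ∀ (m : ℕ) (c : R'), algebraMap R R' b = algebraMap R R' a ^ m * c → m ≤ n := by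
  classical
  have hfin : FiniteRingKrullDim R := by
    rw [finiteRingKrullDim_iff_ne_bot_and_top, hR]
    exact ⟨by decide, by decide⟩
  -- step 1: a is in the radical of (b)
  have hrad : a ∈ (Ideal.span {b}).radical := by
    rw [Ideal.radical_eq_sInf, Ideal.mem_sInf]
    rintro P ⟨hbP, hP⟩
    have h1 : (1 : ℕ∞) ≤ P.height :=
      (Ideal.one_le_height_span_singleton_of_mem_nonZeroDivisors hb).trans (Ideal.height_mono hbP)
    have h2 : (P.height : WithBot ℕ∞) ≤ ringKrullDim R := Ideal.height_le_ringKrullDim_of_isPrime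
    have h3 : (P.height : WithBot ℕ∞) = ringKrullDim R := by
      apply le_antisymm h2
      rw [hR]
      exact_mod_cast h1
    have hmax : P.IsMaximal := Ideal.isMaximal_of_height_eq_ringKrullDim h3
    rw [IsLocalRing.eq_maximalIdeal hmax]
    exact ham
  obtain ⟨k, hk⟩ := hrad
  obtain ⟨d, hd⟩ := Ideal.mem_span_singleton.1 hk
  refine ⟨k, ?_⟩
  intro R' _ _ hinj hfinite m c hbc
  by_contra hlt
  push Not at hlt
  have : Algebra.IsIntegral R R' := Algebra.IsIntegral.of_finite R R'
  -- the image of a lies in the Jacobson radical of R'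
  have hjac : algebraMap R R' a ∈ Ideal.jacobson (⊥ : Ideal R') := by
    rw [Ideal.jacobson, Ideal.mem_sInf]
    rintro M ⟨-, hM⟩
    have hcm : (M.comap (algebraMap R R')).IsMaximal :=
      Ideal.isMaximal_comap_of_isIntegral_of_isMaximal (R := R) M
    have := IsLocalRing.eq_maximalIdeal hcm
    have ha' : a ∈ M.comap (algebraMap R R') := by rw [this]; exact ham
    exact ha'
  obtain ⟨j, rfl⟩ : ∃ j, m = k + 1 + j := ⟨m - (k + 1), by omega⟩
  have hu := (Ideal.mem_jacobson_bot.1 hjac)
    (-(algebraMap R R' a ^ j * c * algebraMap R R' d))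
  have h0 : algebraMap R R' a ^ k *
      (algebraMap R R' a * -(algebraMap R R' a ^ j * c * algebraMap R R' d) + 1) = 0 := by
    have e1 : algebraMap R R' a ^ k = algebraMap R R' b * algebraMap R R' d := by
      rw [← map_pow, hd, map_mul]
    rw [hbc] at e1
    linear_combination e1
  have h1 : algebraMap R R' a ^ k = 0 := by
    have := congrArg (fun t => t * ((hu.unit)⁻¹ : R'ˣ).1) h0
    simpa [mul_assoc] using this
  have h2 : a ^ k = 0 := by
    apply hinj
    rw [map_pow, h1, map_zero]
  exact nonZeroDivisors.ne_zero (pow_mem ha k) h2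

end Groth.Agent.S1835
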