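import Groth.Statements.S18352
import Mathlib
import Groth.Agent.Lib.Helper17.CurveFamNormal

set_option autoImplicit false
universe u
open Curv2

namespace Groth.Agent.S18352

open CategoryTheory AlgebraicGeometry in
/-- Let S be an integral Noetherian scheme all of whose local rings are integrally closed domains, and
let f : C → S be a flat, proper, locally finitely presented morphism of schemes whose fibres are
geometrically reduced and geometrically connected, all of Krull dimension one, and whose fibre over
the generic point of S is smooth over the residue field there. Then every local ring of C is an
integrally closed domain. The total space C is a scheme here; the source also allows an algebraic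
space. -/
theorem result (S C : Scheme.{u}) [IsIntegral S] [IsNoetherian S]
    (hS : Pi1.IsNormalScheme S) (f : C ⟶ S) [Flat f] [IsProper f] [LocallyOfFinitePresentation f]
    [GeometricallyReduced f] [GeometricallyConnected f]
    (hdim : ∀ s : ↥S, topologicalKrullDim ↥(f.fiber s) = 1)
    (hsm : Smooth (f.fiberToSpecResidueField (genericPoint ↥S))) :
    Pi1.IsNormalScheme C := by
  haveI : IsLocallyNoetherian C := LocallyOfFiniteType.isLocallyNoetherian f
  exact Groth.Agent.Lib.helper17.CurveFamNormal.isNormalScheme_of_flat_reduced_curves f hS
    (fun s => inferInstance) (fun s => (hdim s).le)
    (fun z => Groth.Agent.Lib.helper17.CurveFamNormal.isRegularLocalRing_stalk_fiber_of_smooth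
      f (genericPoint ↥S) hsm z)

end Groth.Agent.S18352
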