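import Groth.Statements.S18363
import Mathlib
import Groth.Agent.Lib.Helper26.Depth5
import Groth.Agent.S5162

set_option autoImplicit false
universe u
open CategoryTheory
open CAlg

namespace Groth.Agent.S18363

-- MARK
open IsLocalRing

section Aux

/-- a reduced Noetherian local ring of dimension one has a non-zero-divisor in its maximal ideal -/
theorem exists_nzd (B : Type u) [CommRing B] [IsNoetherianRing B] [IsLocalRing B] [IsReduced B]
    (hdim : ringKrullDim B = 1) : ∃ x ∈ maximalIdeal B, x ∈ nonZeroDivisors B := by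
  classical
  have hfin : (minimalPrimes B).Finite := minimalPrimes.finite_of_isNoetherianRing B
  have hnot : ¬ ((maximalIdeal B : Set B) ⊆ ⋃ p ∈ (↑hfin.toFinset : Set (Ideal B)), (p : Set B)) := by
    intro hsub
    rw [Ideal.subset_union_prime (R := B) (s := hfin.toFinset) (f := fun p => p) ⊥ ⊥
      (fun p hp _ _ => ((hfin.mem_toFinset.1 hp)).1.1)] at hsub
    obtain ⟨p, hp, hle⟩ := hsub
    have hpmin : p ∈ minimalPrimes B := hfin.mem_toFinset.1 hp
    haveI : p.IsPrime := hpmin.1.1
    have hpe : p = maximalIdeal B := by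
      apply le_antisymm (le_maximalIdeal (Ideal.IsPrime.ne_top'))
      exact hle
    have hh : (maximalIdeal B).height = 0 := by
      rw [← hpe]
      exact Ideal.height_eq_zero_iff.2 hpmin
    have := IsLocalRing.maximalIdeal_height_eq_ringKrullDim (R := B)
    rw [hh, hdim] at this
    exact absurd this (by norm_num)
  rw [Set.not_subset] at hnot
  obtain ⟨x, hxm, hx⟩ := hnot
  refine ⟨x, hxm, ?_⟩
  rw [mem_nonZeroDivisors_iff_right]
  intro y hy
  have hyn : y ∈ nilradical B := by
    rw [nilradical, ← Ideal.sInf_minimalPrimes, Ideal.mem_sInf]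
    intro p hp
    have hp' : p ∈ minimalPrimes B := hp
    haveI : p.IsPrime := hp'.1.1
    have hxp : x ∉ p := by
      intro hxp
      apply hx
      simp only [Set.mem_iUnion]
      exact ⟨p, by simpa using hp', hxp⟩
    have : y * x ∈ p := by rw [hy]; exact p.zero_mem
    exact (Ideal.IsPrime.mem_or_mem inferInstance this).resolve_right hxp
  rw [nilradical_eq_zero] at hyn
  exact hyn

end Aux



/-- Let R be a Noetherian local ring with maximal ideal m, and P, Q ideals of R such that P + Q contains
a power of m while R/P and R/Q are both reduced of Krull dimension one. Let I and J be nonzero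
finitely generated R-modules with P·I = 0 and Q·J = 0, such that every element of R whose class in
R/P is a non-zero-divisor acts injectively on I, and every element whose class in R/Q is a
non-zero-divisor acts injectively on J. Then the group Ext¹_R(I, J) is nonzero. (This is the stalk
statement behind the existence of a non-split extension of a torsion-free rank-one sheaf on a
subcurve Y by one on a subcurve Z of a reduced projective curve, at a point where Y and Z meet
without sharing a component; in that situation the modules moreover have rank one at the generic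
points of their supports and P ∩ Q = 0, two assumptions the argument does not use.) -/
theorem result
    (R : Type u) [CommRing R] [IsNoetherianRing R] [IsLocalRing R]
    (P Q : Ideal R) (hPQ : ∃ n : ℕ, IsLocalRing.maximalIdeal R ^ n ≤ P ⊔ Q)
    [IsReduced (R ⧸ P)] [IsReduced (R ⧸ Q)]
    (hPdim : ringKrullDim (R ⧸ P) = 1) (hQdim : ringKrullDim (R ⧸ Q) = 1)
    (I J : Type u) [AddCommGroup I] [Module R I] [Module.Finite R I] [Nontrivial I]
    [AddCommGroup J] [Module R J] [Module.Finite R J] [Nontrivial J]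
    (hPI : ∀ p ∈ P, ∀ x : I, p • x = 0) (hQJ : ∀ q ∈ Q, ∀ y : J, q • y = 0)
    (hItf : ∀ r : R, Ideal.Quotient.mk P r ∈ nonZeroDivisors (R ⧸ P) → ∀ x : I, r • x = 0 → x = 0)
    (hJtf : ∀ r : R, Ideal.Quotient.mk Q r ∈ nonZeroDivisors (R ⧸ Q) → ∀ y : J, r • y = 0 → y = 0) :
    Nontrivial (Abelian.Ext (ModuleCat.of R I) (ModuleCat.of R J) 1) := by
  classical
  obtain ⟨n, hn⟩ := hPQ
  -- `Q ≤ m`
  haveI : Nontrivial (R ⧸ Q) := by
    by_contra h
    rw [not_nontrivial_iff_subsingleton] at h
    have := ringKrullDim_eq_bot_of_subsingleton (R := R ⧸ Q)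
    rw [hQdim] at this
    exact absurd this (by decide)
  have hQtop : Q ≠ ⊤ := by
    intro h
    exact not_subsingleton (R ⧸ Q) (Ideal.Quotient.subsingleton_iff.2 h)
  have hQm : Q ≤ maximalIdeal R := le_maximalIdeal hQtop
  -- Step 1: a `J`-regular element of `m`
  haveI : IsLocalRing (R ⧸ Q) :=
    IsLocalRing.of_surjective' (Ideal.Quotient.mk Q) Ideal.Quotient.mk_surjective
  obtain ⟨x, hxm, hx⟩ := exists_nzd (R ⧸ Q) hQdim
  obtain ⟨r, rfl⟩ := Ideal.Quotient.mk_surjective x
  have hrm : r ∈ maximalIdeal R := by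
    by_contra hr
    have hu : IsUnit r := by rwa [mem_maximalIdeal, mem_nonunits_iff, not_not] at hr
    have hu' : IsUnit (Ideal.Quotient.mk Q r) := hu.map _
    exact (mem_maximalIdeal _).1 hxm hu'
  have hrJ : ∀ (k : ℕ) (y : J), r ^ k • y = 0 → y = 0 := by
    intro k
    induction k with
    | zero => intro y hy; simpa using hy
    | succ k ih =>
      intro y hy
      rw [pow_succ, mul_smul] at hy
      exact hJtf r hx _ (ih _ hy)
  -- Step 2: vanishing of `Hom`
  have hHom : ∀ (X : Type u) [AddCommGroup X] [Module R X], (∀ p ∈ P, ∀ x : X, p • x = 0) →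
      ∀ φ : X →ₗ[R] J, φ = 0 := by
    intro X _ _ hX φ
    apply LinearMap.ext
    intro x
    apply hrJ n
    have hrn : r ^ n ∈ P ⊔ Q := hn (Ideal.pow_mem_pow hrm n)
    obtain ⟨p, hp, q, hq, hpq⟩ := Submodule.mem_sup.1 hrn
    rw [← hpq, add_smul, ← map_smul, hX p hp, map_zero, hQJ q hq, add_zero]
  have hExt0 : ∀ (X : Type u) [AddCommGroup X] [Module R X], (∀ p ∈ P, ∀ x : X, p • x = 0) →
      Subsingleton (Abelian.Ext.{u} (ModuleCat.of R X) (ModuleCat.of R J) 0) := by
    intro X _ _ hX
    haveI : Subsingleton (ModuleCat.of R X ⟶ ModuleCat.of R J) :=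
      ⟨fun f g => ModuleCat.hom_ext (by rw [hHom X hX f.hom, hHom X hX g.hom])⟩
    exact Abelian.Ext.addEquiv₀.toEquiv.subsingleton
  -- Step 3: `L = I / Q I`
  set QI : Submodule R I := Q • ⊤ with hQI
  have hLnt : Nontrivial (I ⧸ QI) := by
    rw [Submodule.Quotient.nontrivial_iff]
    intro htop
    have h0 : (⊤ : Submodule R I) = ⊥ :=
      Submodule.eq_bot_of_le_smul_of_le_jacobson_bot Q ⊤ Module.Finite.fg_top
        (by rw [← hQI, htop]) (hQm.trans (maximalIdeal_le_jacobson _))
    exact top_ne_bot h0
  have hLP : ∀ p ∈ P, ∀ x : I ⧸ QI, p • x = 0 := by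
    intro p hp x
    obtain ⟨y, rfl⟩ := Submodule.Quotient.mk_surjective _ x
    rw [← Submodule.Quotient.mk_smul, hPI p hp, Submodule.Quotient.mk_zero]
  have hLQ : ∀ q ∈ Q, ∀ x : I ⧸ QI, q • x = 0 := by
    intro q hq x
    obtain ⟨y, rfl⟩ := Submodule.Quotient.mk_surjective _ x
    rw [← Submodule.Quotient.mk_smul, Submodule.Quotient.mk_eq_zero]
    exact Submodule.smul_mem_smul hq trivial
  have hQIP : ∀ p ∈ P, ∀ x : QI, p • x = 0 := by
    intro p hp x
    apply Subtype.ext
    exact hPI p hp x.1
  -- support of `L`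
  have hsupp : Module.support R (ModuleCat.of R (I ⧸ QI)) =
      PrimeSpectrum.zeroLocus (maximalIdeal R : Set R) := by
    change Module.support R (I ⧸ QI) = _
    rw [Module.support_eq_zeroLocus]
    ext p
    rw [PrimeSpectrum.mem_zeroLocus, PrimeSpectrum.mem_zeroLocus, SetLike.coe_subset_coe,
      SetLike.coe_subset_coe]
    constructor
    · intro h
      have h1 : maximalIdeal R ^ n ≤ p.asIdeal := by
        refine le_trans ?_ h
        intro a ha
        rw [Module.mem_annihilator]
        intro x
        obtain ⟨p', hp', q, hq, hpq⟩ := Submodule.mem_sup.1 (hn ha)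
        rw [← hpq, add_smul, hLP p' hp', hLQ q hq, add_zero]
      exact Ideal.IsPrime.le_of_pow_le h1
    · intro h
      refine le_trans ?_ h
      apply le_maximalIdeal
      rw [Ne, Module.annihilator_eq_top_iff]
      exact not_subsingleton _
  -- depth of `J`
  have hdepth : ¬ ((2 : ℕ) : ℕ∞) ≤ LocCoh.idealDepth (maximalIdeal R) J := by
    intro h2
    have h3 := Groth.Agent.Lib.helper26.Depth.depth_le_supportDim (A := R) J
    have h4 : Module.supportDim R J ≤ 1 := by
      rw [Module.supportDim_eq_ringKrullDim_quotient_annihilator]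
      have hle : Q ≤ Module.annihilator R J := by
        intro q hq
        rw [Module.mem_annihilator]
        exact hQJ q hq
      rw [← hQdim]
      exact ringKrullDim_le_of_surjective (Ideal.Quotient.factor hle)
        (Ideal.Quotient.factor_surjective hle)
    have h5 : ((LocCoh.depth R J : ℕ∞) : WithBot ℕ∞) ≤ 1 := h3.trans h4
    have h6 : ((2 : ℕ) : ℕ∞) ≤ LocCoh.depth R J := h2
    have h7 : (((2 : ℕ) : ℕ∞) : WithBot ℕ∞) ≤ 1 := (WithBot.coe_le_coe.2 h6).trans h5
    exact absurd h7 (by decide)
  -- conclusion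
  by_contra hnt
  rw [not_nontrivial_iff_subsingleton] at hnt
  apply hdepth
  haveI : Module.Finite R (ModuleCat.of R (I ⧸ QI)) := Module.Finite.quotient R QI
  rw [Groth.Agent.Lib.helper26.Depth.le_idealDepth_iff_ext_of_support_eq (maximalIdeal R) J
    (ModuleCat.of R (I ⧸ QI)) hsupp 2]
  intro i hi
  have hS := Groth.Agent.S5162.sesOf_shortExact QI.subtype QI.mkQ (Submodule.injective_subtype _)
    (Submodule.mkQ_surjective _) (LinearMap.exact_subtype_mkQ QI)
  interval_cases i
  · exact hExt0 (I ⧸ QI) hLP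
  · refine ⟨fun a b => ?_⟩
    have key : ∀ z : Abelian.Ext.{u} (ModuleCat.of R (I ⧸ QI)) (ModuleCat.of R J) 1, z = 0 := by
      intro z
      have hz : (Abelian.Ext.mk₀ (Groth.Agent.S5162.sesOf QI.subtype QI.mkQ
          (LinearMap.exact_subtype_mkQ QI)).g).comp z (zero_add 1) = 0 := hnt.elim _ _
      obtain ⟨x₁, hx₁⟩ := Abelian.Ext.contravariant_sequence_exact₃ hS _ z hz (rfl : 1 + 0 = 1)
      have hx0 : x₁ = 0 := (hExt0 QI hQIP).elim _ _
      rw [← hx₁, hx0, Abelian.Ext.comp_zero]
      rfl
    rw [key a, key b]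

end Groth.Agent.S18363
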