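import Groth.Statements.S18364
import Mathlib.RingTheory.Finiteness.Ideal
import Mathlib.RingTheory.Ideal.MinimalPrime.Basic

set_option autoImplicit false
universe u
open CAlg

namespace Groth.Agent.S18364

/-- Let A be a Noetherian ring, π an element of A, and (𝔓_i)_{i ∈ ι} an injective finite family listing
exactly the minimal prime ideals over (π). Let M be a finitely generated A-module and M̄ = M/πM. For
a subset T of ι let K(T) ⊆ M̄ be the submodule of elements whose image in the localisation of M̄ at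
𝔓_i is zero for every i ∈ T, and N(T) ⊆ M its preimage in M. Assume K(ι) = 0, i.e. no nonzero
element of M̄ vanishes at all the minimal primes (every associated prime of M̄ is one of the 𝔓_i).
Then for every subset Y of ι with complement Z one has N(Y) ∩ N(Z) = πM, and the same construction
applied to the module N(Y) instead of M — the preimage in N(Y) of the elements of N(Y)/πN(Y)
vanishing at every 𝔓_i with i ∈ Z — is, as a submodule of M, equal to N(Y) ∩ N(Z). (Geometric
meaning: A is the local ring of a flat family of curves over a discrete valuation ring with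
uniformizer π at a point of the reduced special fibre, M the stalk of a torsion-free rank-one sheaf
I, Y a set of components of the special fibre through the point, and N(Y) the stalk of the kernel
I^Y of I → I(s)_Y; the statement is (I^Y)^Z = I^Y ∩ I^Z = πI. Reducedness of A/πA, flatness and rank
one are not used.) -/
theorem result
    (A : Type u) [CommRing A] [IsNoetherianRing A] (π : A)
    (ι : Type) [Finite ι] (𝔓 : ι → Ideal A) [∀ i, (𝔓 i).IsPrime]
    (h𝔓 : ∀ i, 𝔓 i ∈ (Ideal.span {π}).minimalPrimes) (h𝔓inj : Function.Injective 𝔓)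
    (h𝔓surj : ∀ 𝔔 ∈ (Ideal.span {π}).minimalPrimes, ∃ i, 𝔓 i = 𝔔)
    (M : Type u) [AddCommGroup M] [Module A M] [Module.Finite A M]
    (K : Set ι → Submodule A (M ⧸ Ideal.span {π} • (⊤ : Submodule A M)))
    (hK : ∀ T : Set ι, K T = ⨅ i ∈ T, LinearMap.ker
      (LocalizedModule.mkLinearMap (𝔓 i).primeCompl (M ⧸ Ideal.span {π} • (⊤ : Submodule A M))))
    (htf : K Set.univ = ⊥)
    (N : Set ι → Submodule A M)
    (hN : ∀ T : Set ι, N T = (K T).comap (Submodule.mkQ (Ideal.span {π} • (⊤ : Submodule A M))))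
    (Y : Set ι) :
    N Y ⊓ N Yᶜ = Ideal.span {π} • (⊤ : Submodule A M) ∧
    Submodule.map (N Y).subtype
      ((⨅ i ∈ Yᶜ, LinearMap.ker (LocalizedModule.mkLinearMap (𝔓 i).primeCompl
          (↥(N Y) ⧸ Ideal.span {π} • (⊤ : Submodule A ↥(N Y))))).comap
        (Submodule.mkQ (Ideal.span {π} • (⊤ : Submodule A ↥(N Y)))))
      = N Y ⊓ N Yᶜ := by
  classical
  set πM : Submodule A M := Ideal.span {π} • (⊤ : Submodule A M) with hπM
  -- membership in N T
  have memN : ∀ (T : Set ι) (m : M), m ∈ N T ↔ ∀ i ∈ T, ∃ s ∈ (𝔓 i).primeCompl, s • m ∈ πM := by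
    intro T m
    rw [hN T, Submodule.mem_comap, hK T]
    simp only [Submodule.mem_iInf, LocalizedModule.mem_ker_mkLinearMap_iff]
    refine forall₂_congr fun i _ => ?_
    refine exists_congr fun s => and_congr Iff.rfl ?_
    rw [← map_smul, Submodule.mkQ_apply, Submodule.Quotient.mk_eq_zero]
  have hπN : ∀ T : Set ι, πM ≤ N T := by
    intro T m hm
    rw [memN]
    intro i _
    exact ⟨1, Submonoid.one_mem _, by rwa [one_smul]⟩
  -- part 1
  have part1 : N Y ⊓ N Yᶜ = πM := by
    apply le_antisymm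
    · intro m hm
      have h1 : m ∈ N Set.univ := by
        rw [memN]
        intro i _
        by_cases hi : i ∈ Y
        · exact (memN Y m).mp hm.1 i hi
        · exact (memN Yᶜ m).mp hm.2 i hi
      rw [hN Set.univ, htf, Submodule.comap_bot, Submodule.ker_mkQ] at h1
      exact h1
    · exact le_inf (hπN Y) (hπN Yᶜ)
  refine ⟨part1, ?_⟩
  rw [part1]
  -- radical power
  have hrad : (Ideal.span {π}).radical = ⨅ i, 𝔓 i := by
    rw [← Ideal.sInf_minimalPrimes]
    apply le_antisymm
    · exact le_iInf fun i => sInf_le (h𝔓 i)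
    · refine le_sInf fun Q hQ => ?_
      obtain ⟨i, rfl⟩ := h𝔓surj Q hQ
      exact iInf_le _ i
  obtain ⟨k, hk⟩ := Ideal.exists_radical_pow_le_of_fg (Ideal.span {π})
    (IsNoetherian.noetherian _)
  have hne : ∀ i j : ι, i ≠ j → ¬ 𝔓 j ≤ 𝔓 i := by
    intro i j hij hle
    have h1 : 𝔓 i ≤ 𝔓 j := (h𝔓 i).2 (h𝔓 j).1 hle
    exact hij (h𝔓inj (le_antisymm h1 hle))
  have : Fintype ι := Fintype.ofFinite ι
  -- key: for i, and a finset S not containing i, an element of all 𝔓 j (j ∈ S) outside 𝔓 i
  have key : ∀ (i : ι) (S : Finset ι), i ∉ S → ∃ s, s ∉ 𝔓 i ∧ ∀ j ∈ S, s ∈ 𝔓 j := by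
    intro i S hiS
    by_contra hcon
    push Not at hcon
    have h1 : S.inf 𝔓 ≤ 𝔓 i := by
      intro s hs
      by_contra hsi
      obtain ⟨j, hjS, hj⟩ := hcon s hsi
      exact hj ((Finset.inf_le hjS : S.inf 𝔓 ≤ 𝔓 j) hs)
    obtain ⟨j, hjS, hj⟩ := (Ideal.IsPrime.inf_le' inferInstance).mp h1
    exact hne i j (fun h => hiS (h ▸ hjS)) hj
  apply le_antisymm
  · rintro _ ⟨n, hn, rfl⟩
    rw [SetLike.mem_coe, Submodule.mem_comap] at hn
    simp only [Submodule.mem_iInf, LocalizedModule.mem_ker_mkLinearMap_iff] at hn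
    have h2 : (n : M) ∈ N Y ⊓ N Yᶜ := by
      refine ⟨n.2, ?_⟩
      rw [SetLike.mem_coe, memN]
      intro i hi
      obtain ⟨s, hs, hsn⟩ := hn i hi
      refine ⟨s, hs, ?_⟩
      rw [← map_smul, Submodule.mkQ_apply, Submodule.Quotient.mk_eq_zero] at hsn
      -- s • n ∈ π • ⊤ (in N Y), so in πM
      have h3 : Submodule.map (N Y).subtype (Ideal.span {π} • (⊤ : Submodule A ↥(N Y))) ≤ πM := by
        rw [Submodule.map_smul'']
        exact Submodule.smul_mono le_rfl le_top
      exact h3 ⟨_, hsn, rfl⟩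
    rw [part1] at h2
    exact h2
  · intro n hn
    have hnY : n ∈ N Y := hπN Y hn
    refine ⟨⟨n, hnY⟩, ?_, rfl⟩
    rw [SetLike.mem_coe, Submodule.mem_comap]
    simp only [Submodule.mem_iInf, LocalizedModule.mem_ker_mkLinearMap_iff]
    intro i hi
    -- n = π • m
    obtain ⟨m, rfl⟩ : ∃ m : M, π • m = n := by
      rw [hπM, Submodule.ideal_span_singleton_smul] at hn
      obtain ⟨m, -, hm⟩ := hn
      exact ⟨m, hm⟩
    -- choose s
    obtain ⟨s, hsi, hsj⟩ := key i (Finset.univ.filter (· ∈ Y)) (by simpa using hi)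
    have hsm : s ^ k • m ∈ N Y := by
      rw [memN]
      intro j hj
      obtain ⟨u, huj, hul⟩ := key j (Finset.univ.filter (· ≠ j)) (by simp)
      refine ⟨u ^ k, (𝔓 j).primeCompl.pow_mem huj k, ?_⟩
      have h4 : s * u ∈ (Ideal.span {π}).radical := by
        rw [hrad, Ideal.mem_iInf]
        intro l
        by_cases hlj : l = j
        · subst hlj
          exact Ideal.mul_mem_right _ _ (hsj l (by simpa using hj))
        · exact Ideal.mul_mem_left _ _ (hul l (by simpa using hlj))
      have h5 : (s * u) ^ k ∈ Ideal.span {π} := hk (Ideal.pow_mem_pow h4 k)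
      have h6 : u ^ k • s ^ k • m = ((s * u) ^ k) • m := by
        rw [smul_smul, mul_pow, mul_comm]
      rw [h6]
      exact Submodule.smul_mem_smul h5 Submodule.mem_top
    refine ⟨s ^ k, (𝔓 i).primeCompl.pow_mem hsi k, ?_⟩
    rw [← map_smul, Submodule.mkQ_apply, Submodule.Quotient.mk_eq_zero]
    have h7 : s ^ k • (⟨π • m, hnY⟩ : ↥(N Y)) = π • (⟨s ^ k • m, hsm⟩ : ↥(N Y)) := by
      apply Subtype.ext
      simp only [Submodule.coe_smul]
      rw [smul_comm]
    rw [h7]
    exact Submodule.smul_mem_smul (Ideal.subset_span rfl) Submodule.mem_top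

end Groth.Agent.S18364
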