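import Groth.Statements.S18365
import Mathlib

set_option autoImplicit false
universe u
open CAlg

namespace Groth.Agent.S18365

section aux

variable {A : Type u} [CommRing A]

theorem mem_span_smul_top {M : Type*} [AddCommGroup M] [Module A M] (π : A) (x : M) :
    x ∈ Ideal.span {π} • (⊤ : Submodule A M) ↔ ∃ y : M, x = π • y := by
  rw [Submodule.ideal_span_singleton_smul, Submodule.mem_smul_pointwise_iff_exists]
  constructor
  · rintro ⟨y, -, rfl⟩; exact ⟨y, rfl⟩
  · rintro ⟨y, rfl⟩; exact ⟨y, trivial, rfl⟩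

theorem mkQ_eq_zero_iff {M : Type*} [AddCommGroup M] [Module A M] (π : A) (x : M) :
    Submodule.mkQ (Ideal.span {π} • (⊤ : Submodule A M)) x = 0 ↔ ∃ y : M, x = π • y := by
  rw [Submodule.mkQ_apply, Submodule.Quotient.mk_eq_zero, mem_span_smul_top]

end aux


/-- Let A be a Noetherian ring, π an element of A, (𝔓_i)_{i ∈ ι} an injective finite family listing
exactly the minimal prime ideals over (π), and M a finitely generated A-module on which π acts
injectively; put M̄ = M/πM. For T ⊆ ι let K(T) ⊆ M̄ be the submodule of elements whose image in the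
localisation of M̄ at 𝔓_i vanishes for every i ∈ T, and N(T) ⊆ M its preimage; assume K(ι) = 0.
Suppose that M̄ decomposes at Y, i.e. K(Y) + K(Yᶜ) = M̄, and that for a subset Z the module
N(Y)/πN(Y) decomposes at Z, i.e. its submodule of elements vanishing at every 𝔓_i (i ∈ Z) and its
submodule of elements vanishing at every 𝔓_i (i ∉ Z) together span it. Then M̄ decomposes at Z: K(Z)
+ K(Zᶜ) = M̄. (Geometric meaning: for a flat family of curves over a discrete valuation ring with
uniformizer π, I a torsion-free rank-one sheaf flat over the base, Y a subcurve of the special fibre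
X(s) at which I(s) decomposes and I^Y = ker(I → I(s)_Y): if I^Y(s) decomposes at a subcurve Z then
so does I(s); decomposition of a sheaf at Z is the surjectivity of I(s) → I(s)_Z ⊕ I(s)_{Z^c},
checked on stalks. Reducedness of the special fibre and rank one are not used.) -/
theorem result
    (A : Type u) [CommRing A] [IsNoetherianRing A] (π : A)
    (ι : Type) [Finite ι] (𝔓 : ι → Ideal A) [∀ i, (𝔓 i).IsPrime]
    (h𝔓 : ∀ i, 𝔓 i ∈ (Ideal.span {π}).minimalPrimes) (h𝔓inj : Function.Injective 𝔓)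
    (h𝔓surj : ∀ 𝔔 ∈ (Ideal.span {π}).minimalPrimes, ∃ i, 𝔓 i = 𝔔)
    (M : Type u) [AddCommGroup M] [Module A M] [Module.Finite A M]
    (hπ : ∀ m : M, π • m = 0 → m = 0)
    (K : Set ι → Submodule A (M ⧸ Ideal.span {π} • (⊤ : Submodule A M)))
    (hK : ∀ T : Set ι, K T = ⨅ i ∈ T, LinearMap.ker
      (LocalizedModule.mkLinearMap (𝔓 i).primeCompl (M ⧸ Ideal.span {π} • (⊤ : Submodule A M))))
    (htf : K Set.univ = ⊥)
    (N : Set ι → Submodule A M)
    (hN : ∀ T : Set ι, N T = (K T).comap (Submodule.mkQ (Ideal.span {π} • (⊤ : Submodule A M))))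
    (Y Z : Set ι) (hY : K Y ⊔ K Yᶜ = ⊤)
    (K' : Set ι → Submodule A (↥(N Y) ⧸ Ideal.span {π} • (⊤ : Submodule A ↥(N Y))))
    (hK' : ∀ T : Set ι, K' T = ⨅ i ∈ T, LinearMap.ker
      (LocalizedModule.mkLinearMap (𝔓 i).primeCompl (↥(N Y) ⧸ Ideal.span {π} • (⊤ : Submodule A ↥(N Y)))))
    (hZ : K' Z ⊔ K' Zᶜ = ⊤) :
    K Z ⊔ K Zᶜ = ⊤ := by
  classical
  -- abbreviations
  have memK : ∀ (T : Set ι) (x : M ⧸ Ideal.span {π} • (⊤ : Submodule A M)),
      x ∈ K T ↔ ∀ i ∈ T, ∃ s ∈ (𝔓 i).primeCompl, s • x = 0 := by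
    intro T x
    rw [hK T]
    simp only [Submodule.mem_iInf, LocalizedModule.mem_ker_mkLinearMap_iff]
  have memK' : ∀ (T : Set ι) (x : ↥(N Y) ⧸ Ideal.span {π} • (⊤ : Submodule A ↥(N Y))),
      x ∈ K' T ↔ ∀ i ∈ T, ∃ s ∈ (𝔓 i).primeCompl, s • x = 0 := by
    intro T x
    rw [hK' T]
    simp only [Submodule.mem_iInf, LocalizedModule.mem_ker_mkLinearMap_iff]
  have memN : ∀ (T : Set ι) (m : M), m ∈ N T ↔
      Submodule.mkQ (Ideal.span {π} • (⊤ : Submodule A M)) m ∈ K T := by
    intro T m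
    rw [hN T]; rfl
  set q := Submodule.mkQ (Ideal.span {π} • (⊤ : Submodule A M)) with hq
  set q' := Submodule.mkQ (Ideal.span {π} • (⊤ : Submodule A ↥(N Y))) with hq'
  -- key transfer: if q' a ∈ K' T then q a ∈ K T
  have transfer : ∀ (T : Set ι) (a : ↥(N Y)), q' a ∈ K' T → q (a : M) ∈ K T := by
    intro T a ha
    rw [memK] 
    rw [memK'] at ha
    intro i hi
    obtain ⟨s, hs, hsa⟩ := ha i hi
    refine ⟨s, hs, ?_⟩
    rw [← map_smul, hq'] at hsa
    rw [mkQ_eq_zero_iff] at hsa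
    obtain ⟨y, hy⟩ := hsa
    rw [← map_smul, hq, mkQ_eq_zero_iff]
    refine ⟨(y : M), ?_⟩
    have := congrArg (Subtype.val) hy
    simpa using this
  -- decomposition of an element of N Y
  have decomp : ∀ n : ↥(N Y), ∃ a b n₂ : ↥(N Y), q' a ∈ K' Z ∧ q' b ∈ K' Zᶜ ∧
      (n : M) = (a : M) + (b : M) + π • (n₂ : M) := by
    intro n
    have hmem : q' n ∈ K' Z ⊔ K' Zᶜ := by rw [hZ]; trivial
    obtain ⟨a', ha', b', hb', hab⟩ := Submodule.mem_sup.mp hmem
    obtain ⟨a, rfl⟩ := Submodule.mkQ_surjective _ a'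
    obtain ⟨b, rfl⟩ := Submodule.mkQ_surjective _ b'
    have h0 : q' (n - a - b) = 0 := by
      rw [map_sub, map_sub, ← hab]; abel
    rw [hq', mkQ_eq_zero_iff] at h0
    obtain ⟨n₂, hn₂⟩ := h0
    refine ⟨a, b, n₂, ha', hb', ?_⟩
    have := congrArg (Subtype.val) hn₂
    simp only [Submodule.coe_sub, Submodule.coe_smul] at this
    rw [← this]; abel
  have hqπ : ∀ m : M, q (π • m) = 0 := by
    intro m
    rw [hq, mkQ_eq_zero_iff]; exact ⟨m, rfl⟩
  -- Claim 1
  have claim1 : K Y ≤ K Z ⊔ K Zᶜ := by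
    intro x hx
    obtain ⟨n, rfl⟩ := Submodule.mkQ_surjective _ x
    have hn : n ∈ N Y := (memN Y n).mpr hx
    obtain ⟨a, b, n₂, ha, hb, hab⟩ := decomp ⟨n, hn⟩
    have : q n = q (a : M) + q (b : M) := by
      have h1 : n = (a : M) + (b : M) + π • (n₂ : M) := hab
      rw [h1, map_add, map_add, hqπ, add_zero]
    rw [this]
    exact Submodule.add_mem_sup (transfer Z a ha) (transfer Zᶜ b hb)
  -- Claim 2
  have claim2 : K Yᶜ ≤ K Z ⊔ K Zᶜ := by
    intro y hy
    obtain ⟨m, rfl⟩ := Submodule.mkQ_surjective _ y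
    have hπm : π • m ∈ N Y := by
      rw [memN, hqπ]; exact Submodule.zero_mem _
    obtain ⟨a, b, n, ha, hb, hab⟩ := decomp ⟨π • m, hπm⟩
    have hab' : π • m = (a : M) + (b : M) + π • (n : M) := hab
    have hqa : q (a : M) ∈ K Z := transfer Z a ha
    have hqb : q (b : M) ∈ K Zᶜ := transfer Zᶜ b hb
    have hsum : q (a : M) + q (b : M) = 0 := by
      have := congrArg q hab'
      rw [hqπ, map_add, map_add, hqπ, add_zero] at this
      exact this.symm
    have hKint : ∀ x, x ∈ K Z → x ∈ K Zᶜ → x = 0 := by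
      intro x h1 h2
      have : x ∈ K Set.univ := by
        rw [memK] at h1 h2 ⊢
        intro i _
        by_cases hi : i ∈ Z
        · exact h1 i hi
        · exact h2 i hi
      rw [htf] at this
      exact (Submodule.mem_bot _).mp this
    have hqa0 : q (a : M) = 0 := by
      apply hKint _ hqa
      have : q (a : M) = - q (b : M) := eq_neg_of_add_eq_zero_left hsum
      rw [this]; exact Submodule.neg_mem _ hqb
    have hqb0 : q (b : M) = 0 := by
      rw [hqa0, zero_add] at hsum; exact hsum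
    rw [hq, mkQ_eq_zero_iff] at hqa0 hqb0
    obtain ⟨a₁, ha₁⟩ := hqa0
    obtain ⟨b₁, hb₁⟩ := hqb0
    have hm : m = a₁ + b₁ + (n : M) := by
      have : π • (m - (a₁ + b₁ + (n : M))) = 0 := by
        rw [smul_sub, smul_add, smul_add, ← ha₁, ← hb₁, ← hab', sub_self]
      exact sub_eq_zero.mp (hπ _ this)
    -- general: if a = π a₁ with a ∈ N Y, q' a ∈ K' T, then q a₁ ∈ K Y ⊔ K T
    have gen : ∀ (T : Set ι) (a : ↥(N Y)) (a₁ : M), (a : M) = π • a₁ → q' a ∈ K' T →
        q a₁ ∈ K Z ⊔ K Zᶜ ⊔ K T := by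
      intro T a a₁ ha₁ ha
      have hmem : q a₁ ∈ K Y ⊔ K Yᶜ := by rw [hY]; trivial
      obtain ⟨u, hu, v, hv, huv⟩ := Submodule.mem_sup.mp hmem
      rw [← huv]
      refine Submodule.add_mem_sup (claim1 hu) ?_
      rw [memK]
      intro i hi
      by_cases hiY : i ∈ Y
      · rw [memK'] at ha
        obtain ⟨s, hs, hsa⟩ := ha i hi
        rw [← map_smul, hq', mkQ_eq_zero_iff] at hsa
        obtain ⟨n₁, hn₁⟩ := hsa
        have h1 : s • (a : M) = π • (n₁ : M) := by
          have := congrArg (Subtype.val) hn₁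
          simpa using this
        have h2 : s • a₁ = (n₁ : M) := by
          have : π • (s • a₁ - (n₁ : M)) = 0 := by
            rw [smul_sub, smul_comm, ← ha₁, h1, sub_self]
          exact sub_eq_zero.mp (hπ _ this)
        have h3 : q (s • a₁) ∈ K Y := by
          rw [h2]; exact (memN Y _).mp n₁.2
        rw [memK] at h3 hu
        obtain ⟨t, ht, hts⟩ := h3 i hiY
        obtain ⟨r, hr, hru⟩ := hu i hiY
        refine ⟨r * (t * s), (𝔓 i).primeCompl.mul_mem hr ((𝔓 i).primeCompl.mul_mem ht hs), ?_⟩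
        have hv' : v = q a₁ - u := by rw [← huv]; abel
        rw [hv', smul_sub, mul_smul, mul_smul, ← map_smul q s a₁, hts, smul_zero, mul_comm r, mul_smul, mul_smul, hru,
          smul_zero, smul_zero, sub_zero]
      · rw [memK] at hv
        exact hv i hiY
    have h1 := gen Z a a₁ ha₁ ha
    have h2 := gen Zᶜ b b₁ hb₁ hb
    have e1 : K Z ⊔ K Zᶜ ⊔ K Z = K Z ⊔ K Zᶜ := by
      apply le_antisymm
      · exact sup_le le_rfl le_sup_left
      · exact le_sup_left
    have e2 : K Z ⊔ K Zᶜ ⊔ K Zᶜ = K Z ⊔ K Zᶜ := by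
      apply le_antisymm
      · exact sup_le le_rfl le_sup_right
      · exact le_sup_left
    rw [e1] at h1
    rw [e2] at h2
    rw [hm, map_add, map_add]
    exact Submodule.add_mem _ (Submodule.add_mem _ h1 h2) (claim1 ((memN Y _).mp n.2))
  rw [eq_top_iff, ← hY]
  exact sup_le claim1 claim2

end Groth.Agent.S18365
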