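import Groth.Statements.S18366
import Mathlib
import Groth.Agent.Lib.Helper17.SmoothSepPoints
import Groth.Agent.Lib.Helper17.GeomRedSmooth

set_option autoImplicit false
set_option linter.style.haveILetI false
universe u
open CategoryTheory CategoryTheory.Limits AlgebraicGeometry
open Variety

namespace Groth.Agent.S18366

/-- Let k be a separably closed field and X a non-empty k-scheme of finite type which is geometrically
reduced. Then X has a k-rational point, i.e. the structure morphism admits a section. (Non-emptiness
is part of the hypotheses: the empty scheme is geometrically reduced of finite type and has no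
point. The published statement does not assume X non-empty; this row does, since the empty scheme
has no rational point.) -/
theorem result (k : Type u) [Field k] [IsSepClosed k]
    {X : Scheme.{u}} (f : X ⟶ Spec (CommRingCat.of k)) [LocallyOfFiniteType f] [QuasiCompact f] [GeometricallyReduced f]
    [Nonempty X] :
    ∃ s : Spec (CommRingCat.of k) ⟶ X, s ≫ f = 𝟙 (Spec (CommRingCat.of k)) := by
  haveI : LocallyOfFinitePresentation f :=
    LocallyOfFinitePresentation.iff_locallyOfFiniteType.mpr inferInstance
  have hd := Groth.Agent.Lib.helper17.GeomRedSmooth.dense_smoothLocus_of_geometricallyReduced f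
  haveI : Smooth (f.smoothLocus.ι ≫ f) := by
    rw [← Scheme.Hom.smoothLocus_eq_top_iff, ← Scheme.Hom.preimage_smoothLocus_eq]
    exact Scheme.Opens.ι_preimage_self f.smoothLocus
  obtain ⟨x⟩ := ‹Nonempty X›
  obtain ⟨y, hy⟩ := hd.nonempty_iff.mpr ⟨x⟩
  obtain ⟨L, _, _, g, hfin, hsep, hg, -⟩ :=
    Groth.Agent.Lib.helper17.RegSmooth.exists_sep_point_of_smooth (f.smoothLocus.ι ≫ f)
      Set.univ isOpen_univ ⟨⟨y, hy⟩, trivial⟩
  have hbij : Function.Bijective (algebraMap k L) := IsSepClosed.algebraMap_bijective k L
  let e : k ≃+* L := RingEquiv.ofBijective (algebraMap k L) hbij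
  refine ⟨Spec.map (CommRingCat.ofHom e.symm.toRingHom) ≫ g ≫ f.smoothLocus.ι, ?_⟩
  rw [Category.assoc, Category.assoc, hg, ← Spec.map_comp, ← Spec.map_id]
  congr 1
  ext c
  exact e.symm_apply_apply c

end Groth.Agent.S18366
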