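import Groth.Statements.S18368
import Groth.Agent.Lib.Helper14.Rigid3
import Groth.Agent.Lib.Helper14.UnivPush
import Groth.Agent.Lib.Helper14.OrbitInv1
import Groth.Agent.Lib.Helper21.GeomFibre
import Groth.Agent.Lib.Helper21.Seesaw

set_option autoImplicit false
universe u
open CategoryTheory CategoryTheory.Limits MonoidalCategory CartesianMonoidalCategory AlgebraicGeometry
open AbVar

namespace Groth.Agent.S18368

/-- Let k be a field, X and Y geometrically integral k-schemes of finite type with X proper, Z a
separated k-scheme and f : X ×_k Y → Z a k-morphism (products in the cartesian monoidal category of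
k-schemes). If for some algebraically closed field K over k there are points y₀ : Spec K → Y and z₀
: Spec K → Z over k such that f restricted to X ×_k Spec K along y₀ is the constant map z₀, then f
factors uniquely through the second projection: there is exactly one g : Y → Z over k with f = pr₂ ≫
g. (The target Z is not assumed to be of finite type over k.) -/
theorem result (k : Type u) [Field k]
    (X Y Z : Over (Spec (CommRingCat.of k)))
    [IsProper X.hom] [GeometricallyIntegral X.hom]
    [LocallyOfFiniteType Y.hom] [QuasiCompact Y.hom] [GeometricallyIntegral Y.hom]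
    [IsSeparated Z.hom] (f : X ⊗ Y ⟶ Z)
    (K : Type u) [Field K] [Algebra k K] [IsAlgClosed K]
    (y₀ : (Over.mk (Spec.map (CommRingCat.ofHom (algebraMap k K))) : Over (Spec (CommRingCat.of k))) ⟶ Y)
    (z₀ : (Over.mk (Spec.map (CommRingCat.ofHom (algebraMap k K))) : Over (Spec (CommRingCat.of k))) ⟶ Z)
    (h : (X ◁ y₀) ≫ f = snd X _ ≫ z₀) :
    ∃! g : Y ⟶ Z, f = snd X Y ≫ g := by
  classical
  haveI : GeometricallyConnected X.hom :=
    Groth.Agent.Lib.helper21.Seesaw.geometricallyConnected_of_geometricallyIntegral X.hom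
  haveI : Flat X.hom := inferInstance
  have h0' : ∀ y : ↥(Spec (CommRingCat.of k)),
      Module.finrank ((Spec (CommRingCat.of k)).residueField y) Γ(X.hom.fiber y, ⊤) = 1 := fun y =>
    Groth.Agent.Lib.helper21.GeomFibre.finrank_fiber_eq_one_of_geom X.hom y
  let p' : pullback X.hom Y.hom ⟶ Y.left := pullback.snd X.hom Y.hom
  let q' : pullback Z.hom Y.hom ⟶ Y.left := pullback.snd Z.hom Y.hom
  have hp' : ∀ V : Y.left.Opens, IsIso (p'.app V) := fun V =>
    Groth.Agent.Lib.Helper14.UnivPush.isIso_app X.hom h0' Y.hom V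
  have hpc : pullback.fst X.hom Y.hom ≫ X.hom = p' ≫ Y.hom := pullback.condition
  have hΨw : f.left ≫ Z.hom = p' ≫ Y.hom := by
    have := Over.w f
    rw [Over.tensorObj_hom] at this
    exact this.trans hpc
  let f' : pullback X.hom Y.hom ⟶ pullback Z.hom Y.hom := pullback.lift f.left p' hΨw
  have hf' : f' ≫ q' = p' := pullback.lift_snd _ _ _
  haveI : IsIntegral Y.left := GeometricallyIntegral.isIntegral_of_subsingleton Y.hom
  haveI : IsLocallyNoetherian Y.left := LocallyOfFiniteType.isLocallyNoetherian Y.hom
  haveI : ConnectedSpace Y.left := inferInstance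
  haveI : Surjective p' := inferInstance
  haveI : Flat p' := inferInstance
  haveI : IsProper p' := inferInstance
  haveI : IsSeparated q' := inferInstance
  let SK : Over (Spec (CommRingCat.of k)) :=
    Over.mk (Spec.map (CommRingCat.ofHom (algebraMap k K)))
  let pt : ↥SK.left := (IsLocalRing.closedPoint K : ↥(Spec (CommRingCat.of K)))
  let s₀ : ↥Y.left := y₀.left.base pt
  have hzy : z₀.left ≫ Z.hom = y₀.left ≫ Y.hom := by rw [Over.w z₀, Over.w y₀]
  let ζ : SK.left ⟶ pullback Z.hom Y.hom := pullback.lift z₀.left y₀.left hzy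
  have hcomp : (X ◁ y₀).left ≫ f' = (snd X SK).left ≫ ζ := by
    apply pullback.hom_ext
    · simp only [Category.assoc, f', ζ, pullback.lift_fst]
      exact congrArg (fun φ => φ.left) h
    · simp only [Category.assoc, f', ζ, pullback.lift_snd]
      exact congrArg (fun φ => φ.left) (whiskerLeft_snd X y₀)
  have hs₀ : s₀ ∈ Groth.Agent.Lib.Helper14.Rigid.TT p' f' := by
    have key : ∀ x : ↥(pullback X.hom Y.hom), p'.base x = s₀ → f'.base x = ζ.base pt := by
      intro x hx
      obtain ⟨w, hw, -⟩ :=
        Groth.Agent.Lib.Helper14.OrbitInv.exists_preimage_whiskerLeft X y₀ x pt hx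
      rw [← hw]
      have h3 := congrArg (fun φ : (X ⊗ SK).left ⟶ pullback Z.hom Y.hom => φ.base w) hcomp
      have h4 : f'.base ((X ◁ y₀).left.base w) = ζ.base ((snd X SK).left.base w) := h3
      rw [h4]
      congr 1
      exact Subsingleton.elim (α := PrimeSpectrum K) _ _
    intro x x' hx hx'
    rw [key x hx, key x' hx']
  obtain ⟨t, ht1, ht2⟩ := Groth.Agent.Lib.Helper14.Rigid.rigidity p' q' f' hf' hp' s₀ hs₀
  have htw : (t ≫ pullback.fst Z.hom Y.hom) ≫ Z.hom = Y.hom := by
    rw [Category.assoc, pullback.condition, ← Category.assoc]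
    show (t ≫ q') ≫ Y.hom = Y.hom
    rw [ht1, Category.id_comp]
  haveI : Epi p' := Flat.epi_of_flat_of_surjective p'
  refine ⟨Over.homMk (t ≫ pullback.fst Z.hom Y.hom) htw, ?_, ?_⟩
  · ext
    show f.left = p' ≫ t ≫ pullback.fst Z.hom Y.hom
    rw [← Category.assoc, ← ht2]
    exact (pullback.lift_fst _ _ _).symm
  · intro g₁ hg₁
    ext
    show g₁.left = t ≫ pullback.fst Z.hom Y.hom
    rw [← cancel_epi p', ← Category.assoc, ← ht2]
    have := congrArg (fun φ => φ.left) hg₁
    rw [show f' ≫ pullback.fst Z.hom Y.hom = f.left from pullback.lift_fst _ _ _]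
    exact this.symm

end Groth.Agent.S18368
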