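import Groth.Statements.S18370
import Mathlib.CategoryTheory.Yoneda
import Mathlib.Data.Int.GCD
import Mathlib.Algebra.Group.Basic
import Mathlib.Tactic.Ring
import Mathlib.Tactic.Group

set_option autoImplicit false
universe u
open CategoryTheory CategoryTheory.Limits MonoidalCategory CartesianMonoidalCategory MonObj GrpObj AlgebraicGeometry
open GrpSch

namespace Groth.Agent.S18370

theorem grp_aux {Γ : Type*} [CommGroup Γ] {a b : ℕ} (r s : ℤ) (h : (1 : ℤ) = a * r + b * s)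
    {p p' q q' : Γ} (hp : p ^ a = 1) (hp' : p' ^ a = 1) (hq : q ^ b = 1) (hq' : q' ^ b = 1)
    (e : p * q = p' * q') : p = p' ∧ q = q' := by
  have hd : p'⁻¹ * p = q' * q⁻¹ := by
    rw [inv_mul_eq_iff_eq_mul, ← _root_.mul_assoc, ← e, _root_.mul_assoc, mul_inv_cancel, _root_.mul_one]
  have hda : (p'⁻¹ * p) ^ a = 1 := by rw [mul_pow, inv_pow, hp, hp', inv_one, _root_.one_mul]
  have hdb : (p'⁻¹ * p) ^ b = 1 := by rw [hd, mul_pow, inv_pow, hq, hq', inv_one, _root_.one_mul]
  have hd1 : p'⁻¹ * p = 1 := by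
    have : (p'⁻¹ * p) ^ (1 : ℤ) = 1 := by
      rw [h, zpow_add, zpow_mul, zpow_mul, zpow_natCast, zpow_natCast, hda, hdb, one_zpow,
        one_zpow, _root_.one_mul]
    simpa using this
  have hpp : p = p' := by
    rw [inv_mul_eq_one] at hd1; exact hd1.symm
  refine ⟨hpp, ?_⟩
  subst hpp
  exact mul_left_cancel e

/-- Let S be a scheme and G a commutative S-group scheme which is killed by a natural number n, i.e. the
n-th power map of G is the trivial homomorphism, and let n = a·b with a and b coprime. If i_a : G_a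
→ G and i_b : G_b → G are scheme-theoretic kernels of the a-th and b-th power maps of G, then the
morphism G_a ×_S G_b → G sending (x, y) to i_a(x)·i_b(y) is an isomorphism of S-schemes. (The
published statement assumes n ≠ 0; the case n = 0, where {a, b} = {0, 1} and one kernel is all of G
while the other is trivial, is included here.) -/
theorem result {S : Scheme.{u}} (G Ga Gb : Over S)
    [GrpObj G] [IsCommMonObj G] (n a b : ℕ) (hn : n = a * b) (hab : Nat.Coprime a b)
    (hG : (𝟙 G) ^ n = 1)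
    (ia : Ga ⟶ G) (hia : AlgGrp.IsKernel ia ((𝟙 G) ^ a))
    (ib : Gb ⟶ G) (hib : AlgGrp.IsKernel ib ((𝟙 G) ^ b)) :
    IsIso ((fst Ga Gb ≫ ia) * (snd Ga Gb ≫ ib)) := by
  have hbez : (1 : ℤ) = a * Nat.gcdA a b + b * Nat.gcdB a b := by
    have h := Nat.gcd_eq_gcd_ab a b
    rw [Nat.Coprime] at hab
    rw [hab] at h
    simpa using h
  have hkill : ∀ {T : Over S} (t : T ⟶ G), t ^ n = 1 := by
    intro T t
    have h := congrArg (fun f => t ≫ f) hG
    simpa [MonObj.comp_pow, MonObj.comp_one] using h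
  have hiaw : ∀ {T : Over S} (x : T ⟶ Ga), (x ≫ ia) ^ a = 1 := by
    intro T x
    have h := hia.w
    calc (x ≫ ia) ^ a = (x ≫ ia) ≫ (𝟙 G) ^ a := by rw [MonObj.comp_pow, Category.comp_id]
      _ = x ≫ (toUnit Ga ≫ η[G]) := by rw [Category.assoc, h]
      _ = 1 := by rw [← Hom.one_def, MonObj.comp_one]
  have hibw : ∀ {T : Over S} (x : T ⟶ Gb), (x ≫ ib) ^ b = 1 := by
    intro T x
    have h := hib.w
    calc (x ≫ ib) ^ b = (x ≫ ib) ≫ (𝟙 G) ^ b := by rw [MonObj.comp_pow, Category.comp_id]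
      _ = x ≫ (toUnit Gb ≫ η[G]) := by rw [Category.assoc, h]
      _ = 1 := by rw [← Hom.one_def, MonObj.comp_one]
  have liftA : ∀ {T : Over S} (t : T ⟶ G), t ^ a = 1 → ∃ x : T ⟶ Ga, x ≫ ia = t := by
    intro T t ht
    refine ⟨hia.lift t (toUnit T) ?_, hia.lift_fst _ _ _⟩
    rw [MonObj.comp_pow, Category.comp_id, ht, Hom.one_def]
  have liftB : ∀ {T : Over S} (t : T ⟶ G), t ^ b = 1 → ∃ x : T ⟶ Gb, x ≫ ib = t := by
    intro T t ht
    refine ⟨hib.lift t (toUnit T) ?_, hib.lift_fst _ _ _⟩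
    rw [MonObj.comp_pow, Category.comp_id, ht, Hom.one_def]
  have monoA : ∀ {T : Over S} (x x' : T ⟶ Ga), x ≫ ia = x' ≫ ia → x = x' :=
    fun x x' h => hia.hom_ext h (toUnit_unique _ _)
  have monoB : ∀ {T : Over S} (x x' : T ⟶ Gb), x ≫ ib = x' ≫ ib → x = x' :=
    fun x x' h => hib.hom_ext h (toUnit_unique _ _)
  apply isIso_of_yoneda_map_bijective
  intro T
  constructor
  · intro x x' hxx'
    simp only [MonObj.comp_mul, ← Category.assoc] at hxx'
    obtain ⟨h1, h2⟩ := grp_aux (Nat.gcdA a b) (Nat.gcdB a b) hbez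
      (hiaw (x ≫ fst Ga Gb)) (hiaw (x' ≫ fst Ga Gb)) (hibw (x ≫ snd Ga Gb))
      (hibw (x' ≫ snd Ga Gb)) hxx'
    exact CartesianMonoidalCategory.hom_ext _ _ (monoA _ _ h1) (monoB _ _ h2)
  · intro t
    have hta : (t ^ ((b : ℤ) * Nat.gcdB a b)) ^ a = 1 := by
      rw [← zpow_natCast, ← zpow_mul]
      have : (b : ℤ) * Nat.gcdB a b * (a : ℤ) = ((n : ℕ) : ℤ) * Nat.gcdB a b := by
        rw [hn]; push_cast; ring
      rw [this, zpow_mul, zpow_natCast, hkill, one_zpow]
    have htb : (t ^ ((a : ℤ) * Nat.gcdA a b)) ^ b = 1 := by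
      rw [← zpow_natCast, ← zpow_mul]
      have : (a : ℤ) * Nat.gcdA a b * (b : ℤ) = ((n : ℕ) : ℤ) * Nat.gcdA a b := by
        rw [hn]; push_cast; ring
      rw [this, zpow_mul, zpow_natCast, hkill, one_zpow]
    obtain ⟨x, hx⟩ := liftA _ hta
    obtain ⟨y, hy⟩ := liftB _ htb
    refine ⟨CartesianMonoidalCategory.lift x y, ?_⟩
    simp only [MonObj.comp_mul, ← Category.assoc, lift_fst, lift_snd, hx, hy]
    rw [← zpow_add, add_comm, ← hbez, zpow_one]

end Groth.Agent.S18370
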