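import Groth.Statements.S18374
import Mathlib

set_option autoImplicit false
universe u
open PhiStab

namespace Groth.Agent.S18374

section Aux

variable {V E : Type u} [Fintype V] [Fintype E] [DecidableEq V] [DecidableEq E]

/-- adjacency inside `S` -/
def AdjIn (ends : E → V × V) (S : Finset V) (v w : V) : Prop :=
  v ∈ S ∧ w ∈ S ∧ LabGraph.Adj ends v w

def ConnIn (ends : E → V × V) (S : Finset V) : Prop :=
  S.Nonempty ∧ ∀ v ∈ S, ∀ w ∈ S, Relation.ReflTransGen (AdjIn ends S) v w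

def NoEdge (ends : E → V × V) (A B : Finset V) : Prop :=
  ∀ a ∈ A, ∀ b ∈ B, ¬ LabGraph.Adj ends a b

theorem adj_symm (ends : E → V × V) {v w : V} (h : LabGraph.Adj ends v w) :
    LabGraph.Adj ends w v := by
  obtain ⟨e, he⟩ := h
  exact ⟨e, he.symm⟩

theorem adjIn_symm (ends : E → V × V) (S : Finset V) {v w : V} (h : AdjIn ends S v w) :
    AdjIn ends S w v :=
  ⟨h.2.1, h.1, adj_symm ends h.2.2⟩

theorem rtg_symm (ends : E → V × V) (S : Finset V) {v w : V}
    (h : Relation.ReflTransGen (AdjIn ends S) v w) :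
    Relation.ReflTransGen (AdjIn ends S) w v := by
  induction h with
  | refl => exact Relation.ReflTransGen.refl
  | tail _ hbc ih => exact Relation.ReflTransGen.head (adjIn_symm ends S hbc) ih

theorem adjIn_mono (ends : E → V × V) {S T : Finset V} (hST : S ⊆ T) {v w : V}
    (h : AdjIn ends S v w) : AdjIn ends T v w :=
  ⟨hST h.1, hST h.2.1, h.2.2⟩

theorem rtg_mono (ends : E → V × V) {S T : Finset V} (hST : S ⊆ T) {v w : V}
    (h : Relation.ReflTransGen (AdjIn ends S) v w) :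
    Relation.ReflTransGen (AdjIn ends T) v w := by
  induction h with
  | refl => exact Relation.ReflTransGen.refl
  | tail _ hbc ih => exact ih.tail (adjIn_mono ends hST hbc)

theorem connected_of_connIn (ends : E → V × V) (S : Finset V) (h : ConnIn ends S) :
    LabGraph.Connected (indEnds ends S) := by
  obtain ⟨⟨s, hs⟩, hconn⟩ := h
  refine ⟨⟨⟨s, hs⟩⟩, ?_⟩
  have key : ∀ v w, Relation.ReflTransGen (AdjIn ends S) v w → ∀ hv : v ∈ S, ∃ hw : w ∈ S,
      Relation.ReflTransGen (LabGraph.Adj (indEnds ends S)) ⟨v, hv⟩ ⟨w, hw⟩ := by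
    intro v w hvw
    induction hvw with
    | refl => intro hv; exact ⟨hv, Relation.ReflTransGen.refl⟩
    | @tail b c _ hbc ih =>
      intro hv
      obtain ⟨hb, hchain⟩ := ih hv
      obtain ⟨hb', hc, e, he⟩ := hbc
      refine ⟨hc, hchain.tail ?_⟩
      have he1 : (ends e).1 ∈ S := by
        rcases he with he | he
        · have h1 : (ends e).1 = b := congrArg Prod.fst he
          rw [h1]; exact hb'
        · have h1 : (ends e).1 = c := congrArg Prod.fst he
          rw [h1]; exact hc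
      have he2 : (ends e).2 ∈ S := by
        rcases he with he | he
        · have h1 : (ends e).2 = c := congrArg Prod.snd he
          rw [h1]; exact hc
        · have h1 : (ends e).2 = b := congrArg Prod.snd he
          rw [h1]; exact hb'
      refine ⟨⟨e, Finset.mem_filter.2 ⟨Finset.mem_univ _, he1, he2⟩⟩, ?_⟩
      rcases he with he | he
      · left
        exact Prod.ext (Subtype.ext (congrArg Prod.fst he)) (Subtype.ext (congrArg Prod.snd he))
      · right
        exact Prod.ext (Subtype.ext (congrArg Prod.fst he)) (Subtype.ext (congrArg Prod.snd he))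
  intro v w
  obtain ⟨hw, h⟩ := key v.1 w.1 (hconn v.1 v.2 w.1 w.2) v.2
  exact h

theorem exists_split (ends : E → V × V) (T : Finset V) (hT : T.Nonempty)
    (hnc : ¬ ConnIn ends T) :
    ∃ A B : Finset V, A ∪ B = T ∧ Disjoint A B ∧ A.Nonempty ∧ B.Nonempty ∧ NoEdge ends A B := by
  classical
  obtain ⟨t, ht⟩ := hT
  refine ⟨T.filter (fun v => Relation.ReflTransGen (AdjIn ends T) t v),
    T.filter (fun v => ¬ Relation.ReflTransGen (AdjIn ends T) t v), ?_, ?_, ?_, ?_, ?_⟩
  · exact Finset.filter_union_filter_not_eq _ T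
  · exact Finset.disjoint_filter_filter_not _ _ _
  · exact ⟨t, Finset.mem_filter.2 ⟨ht, Relation.ReflTransGen.refl⟩⟩
  · by_contra hB
    rw [Finset.not_nonempty_iff_eq_empty] at hB
    apply hnc
    refine ⟨⟨t, ht⟩, ?_⟩
    have hall : ∀ v ∈ T, Relation.ReflTransGen (AdjIn ends T) t v := by
      intro v hv
      by_contra hnv
      have hvB : v ∈ T.filter (fun v => ¬ Relation.ReflTransGen (AdjIn ends T) t v) :=
        Finset.mem_filter.2 ⟨hv, hnv⟩
      rw [hB] at hvB
      exact absurd hvB (Finset.notMem_empty v)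
    intro v hv w hw
    exact (rtg_symm ends T (hall v hv)).trans (hall w hw)
  · intro a ha b hb hab
    obtain ⟨haT, hta⟩ := Finset.mem_filter.1 ha
    obtain ⟨hbT, htb⟩ := Finset.mem_filter.1 hb
    exact htb (hta.tail ⟨haT, hbT, hab⟩)

theorem card_inter_inner (ends : E → V × V) (N : Finset E) (S : Finset V) :
    ((N ∩ inner ends S).card : ℝ) =
      ∑ e ∈ N, if ((ends e).1 ∈ S ∧ (ends e).2 ∈ S) then (1 : ℝ) else 0 := by
  have h : N ∩ inner ends S = N.filter (fun e => (ends e).1 ∈ S ∧ (ends e).2 ∈ S) := by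
    ext e
    simp [PhiStab.inner]
  rw [h, Finset.sum_boole]

theorem cut_eq_sum (ends : E → V × V) (S : Finset V) :
    (LabGraph.cut ends S : ℝ) =
      ∑ e : E, if (((ends e).1 ∈ S ∧ (ends e).2 ∉ S) ∨ ((ends e).1 ∉ S ∧ (ends e).2 ∈ S))
        then (1 : ℝ) else 0 := by
  rw [Finset.sum_boole]
  rfl

noncomputable def Ff (ends : E → V × V) (φ : V → ℝ) (m : V → ℤ) (N : Finset E)
    (S : Finset V) : ℝ :=
  (degOn ends m N S : ℝ) - (∑ v ∈ S, φ v) + (LabGraph.cut ends S : ℝ) / 2

theorem Ff_eq (ends : E → V × V) (φ : V → ℝ) (m : V → ℤ) (N : Finset E) (S : Finset V) :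
    Ff ends φ m N S = (∑ v ∈ S, (m v : ℝ)) +
      (∑ e ∈ N, if ((ends e).1 ∈ S ∧ (ends e).2 ∈ S) then (1 : ℝ) else 0) - (∑ v ∈ S, φ v) +
      (∑ e : E, if (((ends e).1 ∈ S ∧ (ends e).2 ∉ S) ∨ ((ends e).1 ∉ S ∧ (ends e).2 ∈ S))
        then (1 : ℝ) else 0) / 2 := by
  unfold Ff degOn
  push_cast
  rw [card_inter_inner, cut_eq_sum]

theorem noEdge_pt (ends : E → V × V) (A B : Finset V) (hd : Disjoint A B)
    (hne : NoEdge ends A B) (e : E) :
    ¬ ((ends e).1 ∈ A ∧ (ends e).2 ∈ B) ∧ ¬ ((ends e).1 ∈ B ∧ (ends e).2 ∈ A) ∧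
      ¬ ((ends e).1 ∈ A ∧ (ends e).1 ∈ B) ∧ ¬ ((ends e).2 ∈ A ∧ (ends e).2 ∈ B) := by
  refine ⟨?_, ?_, ?_, ?_⟩
  · rintro ⟨h1, h2⟩
    exact hne _ h1 _ h2 ⟨e, Or.inl rfl⟩
  · rintro ⟨h1, h2⟩
    exact hne _ h2 _ h1 ⟨e, Or.inr rfl⟩
  · rintro ⟨h1, h2⟩
    exact Finset.disjoint_left.1 hd h1 h2
  · rintro ⟨h1, h2⟩
    exact Finset.disjoint_left.1 hd h1 h2

theorem Ff_union (ends : E → V × V) (φ : V → ℝ) (m : V → ℤ) (N : Finset E) (A B : Finset V)
    (hd : Disjoint A B) (hne : NoEdge ends A B) :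
    Ff ends φ m N (A ∪ B) = Ff ends φ m N A + Ff ends φ m N B := by
  rw [Ff_eq, Ff_eq, Ff_eq, Finset.sum_union hd, Finset.sum_union hd]
  have h1 : (∑ e ∈ N, if ((ends e).1 ∈ A ∪ B ∧ (ends e).2 ∈ A ∪ B) then (1 : ℝ) else 0) =
      (∑ e ∈ N, if ((ends e).1 ∈ A ∧ (ends e).2 ∈ A) then (1 : ℝ) else 0) +
      (∑ e ∈ N, if ((ends e).1 ∈ B ∧ (ends e).2 ∈ B) then (1 : ℝ) else 0) := by
    rw [← Finset.sum_add_distrib]
    refine Finset.sum_congr rfl (fun e _ => ?_)
    obtain ⟨h1, h2, h3, h4⟩ := noEdge_pt ends A B hd hne e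
    by_cases a1 : (ends e).1 ∈ A <;> by_cases a2 : (ends e).2 ∈ A <;>
      by_cases b1 : (ends e).1 ∈ B <;> by_cases b2 : (ends e).2 ∈ B <;>
      simp [Finset.mem_union, a1, a2, b1, b2] at h1 h2 h3 h4 ⊢
  have h2 : (∑ e : E, if (((ends e).1 ∈ A ∪ B ∧ (ends e).2 ∉ A ∪ B) ∨
        ((ends e).1 ∉ A ∪ B ∧ (ends e).2 ∈ A ∪ B)) then (1 : ℝ) else 0) =
      (∑ e : E, if (((ends e).1 ∈ A ∧ (ends e).2 ∉ A) ∨ ((ends e).1 ∉ A ∧ (ends e).2 ∈ A))
        then (1 : ℝ) else 0) +
      (∑ e : E, if (((ends e).1 ∈ B ∧ (ends e).2 ∉ B) ∨ ((ends e).1 ∉ B ∧ (ends e).2 ∈ B))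
        then (1 : ℝ) else 0) := by
    rw [← Finset.sum_add_distrib]
    refine Finset.sum_congr rfl (fun e _ => ?_)
    obtain ⟨h1, h2, h3, h4⟩ := noEdge_pt ends A B hd hne e
    by_cases a1 : (ends e).1 ∈ A <;> by_cases a2 : (ends e).2 ∈ A <;>
      by_cases b1 : (ends e).1 ∈ B <;> by_cases b2 : (ends e).2 ∈ B <;>
      simp [Finset.mem_union, a1, a2, b1, b2] at h1 h2 h3 h4 ⊢
  rw [h1, h2]
  ring

noncomputable def Gg (ends : E → V × V) (N : Finset E) (S : Finset V) : ℝ :=
  ∑ e ∈ Nᶜ, if (((ends e).1 ∈ S ∧ (ends e).2 ∉ S) ∨ ((ends e).1 ∉ S ∧ (ends e).2 ∈ S))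
    then (1 : ℝ) else 0

theorem Gg_compl (ends : E → V × V) (N : Finset E) (S : Finset V) :
    Gg ends N Sᶜ = Gg ends N S := by
  unfold Gg
  refine Finset.sum_congr rfl (fun e _ => ?_)
  by_cases a1 : (ends e).1 ∈ S <;> by_cases a2 : (ends e).2 ∈ S <;>
    simp [Finset.mem_compl, a1, a2]

theorem Gg_union (ends : E → V × V) (N : Finset E) (A B : Finset V)
    (hd : Disjoint A B) (hne : NoEdge ends A B) :
    Gg ends N (A ∪ B) = Gg ends N A + Gg ends N B := by
  unfold Gg
  rw [← Finset.sum_add_distrib]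
  refine Finset.sum_congr rfl (fun e _ => ?_)
  obtain ⟨h1, h2, h3, h4⟩ := noEdge_pt ends A B hd hne e
  by_cases a1 : (ends e).1 ∈ A <;> by_cases a2 : (ends e).2 ∈ A <;>
    by_cases b1 : (ends e).1 ∈ B <;> by_cases b2 : (ends e).2 ∈ B <;>
    simp [Finset.mem_union, a1, a2, b1, b2] at h1 h2 h3 h4 ⊢

theorem Ff_add_compl (ends : E → V × V) (φ : V → ℝ) (m : V → ℤ) (N : Finset E)
    (hdeg : (∑ v : V, φ v) = (totDeg m N : ℝ)) (S : Finset V) :
    Ff ends φ m N S + Ff ends φ m N Sᶜ = Gg ends N S := by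
  rw [Ff_eq, Ff_eq]
  have hm : (∑ v ∈ S, (m v : ℝ)) + ∑ v ∈ Sᶜ, (m v : ℝ) = ∑ v, (m v : ℝ) :=
    Finset.sum_add_sum_compl S _
  have hφ : (∑ v ∈ S, φ v) + ∑ v ∈ Sᶜ, φ v = ∑ v, φ v := Finset.sum_add_sum_compl S _
  have hdeg' : (∑ v, φ v) = (∑ v, (m v : ℝ)) + ∑ e ∈ N, (1 : ℝ) := by
    rw [hdeg]
    unfold totDeg
    push_cast
    simp
  have hcut : (∑ e : E, if (((ends e).1 ∈ Sᶜ ∧ (ends e).2 ∉ Sᶜ) ∨
        ((ends e).1 ∉ Sᶜ ∧ (ends e).2 ∈ Sᶜ)) then (1 : ℝ) else 0) =
      ∑ e : E, if (((ends e).1 ∈ S ∧ (ends e).2 ∉ S) ∨ ((ends e).1 ∉ S ∧ (ends e).2 ∈ S))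
        then (1 : ℝ) else 0 := by
    refine Finset.sum_congr rfl (fun e _ => ?_)
    by_cases a1 : (ends e).1 ∈ S <;> by_cases a2 : (ends e).2 ∈ S <;>
      simp [Finset.mem_compl, a1, a2]
  have hin : ∀ e : E, (if ((ends e).1 ∈ S ∧ (ends e).2 ∈ S) then (1 : ℝ) else 0) +
      (if ((ends e).1 ∈ Sᶜ ∧ (ends e).2 ∈ Sᶜ) then (1 : ℝ) else 0) +
      (if (((ends e).1 ∈ S ∧ (ends e).2 ∉ S) ∨ ((ends e).1 ∉ S ∧ (ends e).2 ∈ S))
        then (1 : ℝ) else 0) = 1 := by
    intro e
    by_cases a1 : (ends e).1 ∈ S <;> by_cases a2 : (ends e).2 ∈ S <;>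
      simp [Finset.mem_compl, a1, a2]
  have hN : (∑ e ∈ N, if ((ends e).1 ∈ S ∧ (ends e).2 ∈ S) then (1 : ℝ) else 0) +
      (∑ e ∈ N, if ((ends e).1 ∈ Sᶜ ∧ (ends e).2 ∈ Sᶜ) then (1 : ℝ) else 0) +
      (∑ e ∈ N, if (((ends e).1 ∈ S ∧ (ends e).2 ∉ S) ∨ ((ends e).1 ∉ S ∧ (ends e).2 ∈ S))
        then (1 : ℝ) else 0) = ∑ e ∈ N, (1 : ℝ) := by
    rw [← Finset.sum_add_distrib, ← Finset.sum_add_distrib]
    exact Finset.sum_congr rfl (fun e _ => hin e)
  have hG : Gg ends N S +
      (∑ e ∈ N, if (((ends e).1 ∈ S ∧ (ends e).2 ∉ S) ∨ ((ends e).1 ∉ S ∧ (ends e).2 ∈ S))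
        then (1 : ℝ) else 0) =
      ∑ e : E, if (((ends e).1 ∈ S ∧ (ends e).2 ∉ S) ∨ ((ends e).1 ∉ S ∧ (ends e).2 ∈ S))
        then (1 : ℝ) else 0 := by
    unfold Gg
    rw [add_comm]
    exact Finset.sum_add_sum_compl N _
  rw [hcut]
  linarith

theorem Ff_split (ends : E → V × V) (φ : V → ℝ) (m : V → ℤ) (N : Finset E)
    (hdeg : (∑ v : V, φ v) = (totDeg m N : ℝ)) (S A B : Finset V) (hAB : A ∪ B = Sᶜ)
    (hd : Disjoint A B) (hne : NoEdge ends A B) :
    Ff ends φ m N S = Ff ends φ m N Aᶜ + Ff ends φ m N Bᶜ := by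
  have e1 := Ff_add_compl ends φ m N hdeg S
  have e2 := Ff_add_compl ends φ m N hdeg A
  have e3 := Ff_add_compl ends φ m N hdeg B
  have e4 : Ff ends φ m N Sᶜ = Ff ends φ m N A + Ff ends φ m N B := by
    rw [← hAB]
    exact Ff_union ends φ m N A B hd hne
  have e5 : Gg ends N S = Gg ends N A + Gg ends N B := by
    rw [← Gg_compl, ← hAB]
    exact Gg_union ends N A B hd hne
  linarith

theorem connIn_compl_of (ends : E → V × V)
    (hconn : ∀ v w : V, Relation.ReflTransGen (LabGraph.Adj ends) v w) (S A B : Finset V)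
    (hS : ConnIn ends S) (hAB : A ∪ B = Sᶜ) (hne : NoEdge ends A B) : ConnIn ends Aᶜ := by
  obtain ⟨⟨s0, hs0⟩, hSc⟩ := hS
  have hSA : S ⊆ Aᶜ := by
    intro v hv
    rw [Finset.mem_compl]
    intro hvA
    have h1 : v ∈ Sᶜ := by
      rw [← hAB]
      exact Finset.mem_union_left _ hvA
    exact (Finset.mem_compl.1 h1) hv
  have hcase : ∀ v ∈ Aᶜ, v ∈ S ∨ v ∈ B := by
    intro v hv
    by_cases hvS : v ∈ S
    · exact Or.inl hvS
    · right
      have h1 : v ∈ A ∪ B := by
        rw [hAB]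
        exact Finset.mem_compl.2 hvS
      rcases Finset.mem_union.1 h1 with h | h
      · exact absurd h (Finset.mem_compl.1 hv)
      · exact h
  have key : ∀ x, Relation.ReflTransGen (LabGraph.Adj ends) x s0 → x ∈ Aᶜ →
      ∃ s ∈ S, Relation.ReflTransGen (AdjIn ends Aᶜ) x s := by
    intro x hx
    induction hx using Relation.ReflTransGen.head_induction_on with
    | refl => intro _; exact ⟨s0, hs0, Relation.ReflTransGen.refl⟩
    | @head x y hxy _ ih =>
      intro hxU
      rcases hcase _ hxU with hxS | hxB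
      · exact ⟨_, hxS, Relation.ReflTransGen.refl⟩
      · have hyU : y ∈ Aᶜ := by
          rw [Finset.mem_compl]
          intro hyA
          exact hne _ hyA _ hxB (adj_symm ends hxy)
        obtain ⟨s, hs, hys⟩ := ih hyU
        exact ⟨s, hs, Relation.ReflTransGen.head ⟨hxU, hyU, hxy⟩ hys⟩
  refine ⟨⟨s0, hSA hs0⟩, ?_⟩
  intro v hv w hw
  obtain ⟨s, hs, hvs⟩ := key v (hconn v s0) hv
  obtain ⟨s', hs', hws'⟩ := key w (hconn w s0) hw
  have hss' : Relation.ReflTransGen (AdjIn ends Aᶜ) s s' :=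
    rtg_mono ends hSA (hSc s hs s' hs')
  exact (hvs.trans hss').trans (rtg_symm ends _ hws')

theorem level1 (ends : E → V × V)
    (hconn : ∀ v w : V, Relation.ReflTransGen (LabGraph.Adj ends) v w)
    (φ : V → ℝ) (m : V → ℤ) (N : Finset E) (hdeg : (∑ v : V, φ v) = (totDeg m N : ℝ))
    (P : ℝ → Prop) (hP : ∀ x y, P x → P y → P (x + y))
    (hel : ∀ S : Finset V, ConnIn ends S → ConnIn ends Sᶜ → P (Ff ends φ m N S)) :
    ∀ (n : ℕ) (S : Finset V), Sᶜ.card = n → ConnIn ends S → Sᶜ.Nonempty →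
      P (Ff ends φ m N S) := by
  intro n
  induction n using Nat.strong_induction_on with
  | _ n ih =>
    intro S hn hS hSc
    by_cases hc : ConnIn ends Sᶜ
    · exact hel S hS hc
    · obtain ⟨A, B, hAB, hd, hA, hB, hne⟩ := exists_split ends Sᶜ hSc hc
      rw [Ff_split ends φ m N hdeg S A B hAB hd hne]
      have hcard : A.card + B.card = n := by
        rw [← hn, ← hAB, Finset.card_union_of_disjoint hd]
      apply hP
      · refine ih A.card ?_ Aᶜ (by rw [compl_compl])
          (connIn_compl_of ends hconn S A B hS hAB hne) (by rw [compl_compl]; exact hA)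
        have := hB.card_pos
        omega
      · have hAB' : B ∪ A = Sᶜ := by
          rw [Finset.union_comm]
          exact hAB
        have hne' : NoEdge ends B A := fun b hb a ha h => hne a ha b hb (adj_symm ends h)
        refine ih B.card ?_ Bᶜ (by rw [compl_compl])
          (connIn_compl_of ends hconn S B A hS hAB' hne') (by rw [compl_compl]; exact hB)
        have := hA.card_pos
        omega

theorem level2 (ends : E → V × V)
    (hconn : ∀ v w : V, Relation.ReflTransGen (LabGraph.Adj ends) v w)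
    (φ : V → ℝ) (m : V → ℤ) (N : Finset E) (hdeg : (∑ v : V, φ v) = (totDeg m N : ℝ))
    (P : ℝ → Prop) (hP : ∀ x y, P x → P y → P (x + y))
    (hel : ∀ S : Finset V, ConnIn ends S → ConnIn ends Sᶜ → P (Ff ends φ m N S)) :
    ∀ (n : ℕ) (S : Finset V), S.card = n → S.Nonempty → S ≠ Finset.univ →
      P (Ff ends φ m N S) := by
  intro n
  induction n using Nat.strong_induction_on with
  | _ n ih =>
    intro S hn hS hSu
    by_cases hc : ConnIn ends S
    · have hScne : Sᶜ.Nonempty := by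
        rw [Finset.nonempty_iff_ne_empty]
        intro h
        apply hSu
        rw [← compl_compl S, h, Finset.compl_empty]
      exact level1 ends hconn φ m N hdeg P hP hel Sᶜ.card S rfl hc hScne
    · obtain ⟨A, B, hAB, hd, hA, hB, hne⟩ := exists_split ends S hS hc
      have hcard : A.card + B.card = n := by
        rw [← hn, ← hAB, Finset.card_union_of_disjoint hd]
      have hAu : A ≠ Finset.univ := by
        intro h
        apply hSu
        rw [Finset.eq_univ_iff_forall]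
        intro x
        rw [← hAB, h]
        exact Finset.mem_union_left _ (Finset.mem_univ x)
      have hBu : B ≠ Finset.univ := by
        intro h
        apply hSu
        rw [Finset.eq_univ_iff_forall]
        intro x
        rw [← hAB, h]
        exact Finset.mem_union_right _ (Finset.mem_univ x)
      rw [← hAB, Ff_union ends φ m N A B hd hne]
      apply hP
      · exact ih A.card (by have := hB.card_pos; omega) A rfl hA hAu
      · exact ih B.card (by have := hA.card_pos; omega) B rfl hB hBu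

end Aux


open PhiStab in
/-- Let (V, E, ends) be a connected finite multigraph, φ a real weighting of its vertices and (m, N) a
sheaf datum on it (an integer multidegree m and a set N of edges, the non-free nodes) whose total
degree Σ_v m v + #N equals Σ_v φ v. Then (m, N) is φ-semistable, i.e. Σ_{v ∈ S} φ v - cut S / 2 ≤
deg_S(m, N) for every nonempty proper vertex set S, if and only if this inequality holds for every
elementary S (one for which S and its complement both induce connected subgraphs); and likewise for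
φ-stability with strict inequalities. This is the statement for a rank-1 torsion-free sheaf of
degree g - 1 on a stable pointed curve with this dual graph, written for the sheaf's combinatorial
datum, on which alone the stability inequalities depend and which takes all values. -/
theorem result {V E : Type u} [Fintype V] [Fintype E] [DecidableEq V] [DecidableEq E]
    (ends : E → V × V) (hconn : LabGraph.Connected ends)
    (φ : V → ℝ) (m : V → ℤ) (N : Finset E) (hdeg : (∑ v : V, φ v) = (totDeg m N : ℝ)) :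
    (IsSemistable ends φ m N ↔
      ∀ S : Finset V, IsElementary ends S →
        (∑ v ∈ S, φ v) - (LabGraph.cut ends S : ℝ) / 2 ≤ (degOn ends m N S : ℝ)) ∧
    (IsStable ends φ m N ↔
      ∀ S : Finset V, IsElementary ends S →
        (∑ v ∈ S, φ v) - (LabGraph.cut ends S : ℝ) / 2 < (degOn ends m N S : ℝ)) := by
  classical
  have hconn' := hconn.2
  have hel_ne : ∀ S : Finset V, IsElementary ends S → S.Nonempty ∧ S ≠ Finset.univ := by
    intro S hS
    obtain ⟨⟨⟨v, hv⟩⟩, _⟩ := hS.1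
    obtain ⟨⟨⟨w, hw⟩⟩, _⟩ := hS.2
    refine ⟨⟨v, hv⟩, ?_⟩
    intro h
    rw [h] at hw
    simp at hw
  have hFf : ∀ S : Finset V, Ff ends φ m N S = (degOn ends m N S : ℝ) -
      ((∑ v ∈ S, φ v) - (LabGraph.cut ends S : ℝ) / 2) := by
    intro S
    unfold Ff
    ring
  constructor
  · constructor
    · intro h S hS
      exact h S (hel_ne S hS).1 (hel_ne S hS).2
    · intro h S hSne hSu
      have h1 : (0 : ℝ) ≤ Ff ends φ m N S :=
        level2 ends hconn' φ m N hdeg (fun x : ℝ => 0 ≤ x) (fun x y hx hy => add_nonneg hx hy)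
          (fun S h1 h2 => by
            have h3 := h S ⟨connected_of_connIn ends S h1, connected_of_connIn ends Sᶜ h2⟩
            show (0 : ℝ) ≤ Ff ends φ m N S
            rw [hFf]
            linarith) S.card S rfl hSne hSu
      rw [hFf] at h1
      linarith
  · constructor
    · intro h S hS
      exact h S (hel_ne S hS).1 (hel_ne S hS).2
    · intro h S hSne hSu
      have h1 : (0 : ℝ) < Ff ends φ m N S :=
        level2 ends hconn' φ m N hdeg (fun x : ℝ => 0 < x) (fun x y hx hy => add_pos hx hy)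
          (fun S h1 h2 => by
            have h3 := h S ⟨connected_of_connIn ends S h1, connected_of_connIn ends Sᶜ h2⟩
            show (0 : ℝ) < Ff ends φ m N S
            rw [hFf]
            linarith) S.card S rfl hSne hSu
      rw [hFf] at h1
      linarith


end Groth.Agent.S18374
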