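import Groth.Statements.S18382
import Mathlib
import Groth.Agent.Lib.Helper6.MTree2

set_option autoImplicit false
universe u
open PhiStab

namespace Groth.Agent.S18382

open LabGraph
open Groth.Agent.Lib.helper28.GJ Groth.Agent.Lib.helper6.MTree

section Aux

variable {V E : Type u} [Fintype V] [Fintype E] [DecidableEq V] [DecidableEq E]

theorem mem_side_iff (ends : E → V × V) (e : E) (v : V) :
    v ∈ side ends e ↔ SConn ends (Finset.univ.erase e) (ends e).1 v := by
  classical
  unfold side
  rw [Finset.mem_filter]
  simp only [Finset.mem_univ, true_and]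
  have h1 : LabGraph.Adj (spanEnds ends (Finset.univ.erase e)) ≤
      SAdj ends (Finset.univ.erase e) :=
    fun a b hab => (adj_sub_iff ends _ a b).1 hab
  have h2 : SAdj ends (Finset.univ.erase e) ≤
      LabGraph.Adj (spanEnds ends (Finset.univ.erase e)) :=
    fun a b hab => (adj_sub_iff ends _ a b).2 hab
  exact ⟨fun h => Relation.ReflTransGen.mono h1 _ _ h,
    fun h => Relation.ReflTransGen.mono h2 _ _ h⟩

theorem snd_not_mem_side (ends : E → V × V) (hF : ∀ C : Finset E, ¬ IsCircuit ends C) (e : E) :
    (ends e).2 ∉ side ends e := by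
  intro h
  rw [mem_side_iff] at h
  obtain ⟨g, hg⟩ := forest_potential ends Finset.univ (fun C _ => hF C)
    (fun e' => if e' = e then 1 else 0)
  have h1 : g (ends e).1 = g (ends e).2 := by
    refine const_of_conn ends (P := Finset.univ.erase e) (h := g) (fun e' he' => ?_) h
    have h3 := hg e' (Finset.mem_univ _)
    rw [if_neg (Finset.ne_of_mem_erase he')] at h3
    exact sub_eq_zero.1 h3
  have h2 := hg e (Finset.mem_univ _)
  rw [if_pos rfl, h1, sub_self] at h2
  exact zero_ne_one h2

theorem side_same (ends : E → V × V) (e e' : E) (hne : e' ≠ e) :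
    (ends e').1 ∈ side ends e ↔ (ends e').2 ∈ side ends e := by
  rw [mem_side_iff, mem_side_iff]
  exact sConn_iff_edge ends _ (Finset.mem_erase.2 ⟨hne, Finset.mem_univ _⟩) _

noncomputable def bdR (ends : E → V × V) (h : E → ℝ) (v : V) : ℝ :=
  ∑ e : E, ((if (ends e).2 = v then h e else 0) - (if (ends e).1 = v then h e else 0))

theorem sum_bdR (ends : E → V × V) (h : E → ℝ) (S : Finset V) :
    ∑ v ∈ S, bdR ends h v =
      ∑ e : E, h e * ((if (ends e).2 ∈ S then 1 else 0) - (if (ends e).1 ∈ S then 1 else 0)) := by
  unfold bdR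
  rw [Finset.sum_comm]
  refine Finset.sum_congr rfl (fun e _ => ?_)
  rw [Finset.sum_sub_distrib, Finset.sum_ite_eq, Finset.sum_ite_eq]
  split_ifs <;> ring

theorem side_sum_bdR (ends : E → V × V) (hF : ∀ C : Finset E, ¬ IsCircuit ends C)
    (h : E → ℝ) (e : E) : ∑ v ∈ side ends e, bdR ends h v = - h e := by
  rw [sum_bdR, Finset.sum_eq_single e]
  · have h1 : (ends e).1 ∈ side ends e := by
      rw [mem_side_iff]
      exact Relation.ReflTransGen.refl
    rw [if_neg (snd_not_mem_side ends hF e), if_pos h1]
    ring
  · intro e' _ hne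
    by_cases h1 : (ends e').1 ∈ side ends e
    · rw [if_pos ((side_same ends e e' hne).1 h1), if_pos h1]
      ring
    · rw [if_neg (fun h2 => h1 ((side_same ends e e' hne).2 h2)), if_neg h1]
      ring
  · intro h
    exact absurd (Finset.mem_univ e) h

noncomputable def Lmap (ends : E → V × V) : (V → ℝ) →ₗ[ℝ] ((E → ℝ) × ℝ) where
  toFun φ := (fun e => ∑ v ∈ side ends e, φ v, ∑ v, φ v)
  map_add' φ ψ := by
    refine Prod.ext (funext fun e => ?_) ?_
    · simp [Finset.sum_add_distrib]
    · simp [Finset.sum_add_distrib]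
  map_smul' a φ := by
    refine Prod.ext (funext fun e => ?_) ?_
    · simp [Finset.mul_sum]
    · simp [Finset.mul_sum]

theorem Lmap_apply (ends : E → V × V) (φ : V → ℝ) :
    Lmap ends φ = (fun e => ∑ v ∈ side ends e, φ v, ∑ v, φ v) := rfl

end Aux


open PhiStab in
/-- Let (V, E, ends) be a finite tree, that is a connected multigraph without circuits. For every family
of real numbers c_e indexed by the edges and every real c₀ there is exactly one real weighting φ of
the vertices such that, for each edge e, the sum of φ over the side of e containing its first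
endpoint (the vertices joined to that endpoint by a chain of edges other than e) equals c_e, and the
sum of φ over all vertices equals c₀. The lemma itself — a system of stability parameters on all
treelike marked graphs compatible with contractions is determined by its components on the
two-vertex graphs — reduces to this square linear system being nondegenerate. -/
theorem result {V E : Type u} [Fintype V] [Fintype E] [DecidableEq V] [DecidableEq E]
    (ends : E → V × V) (hT : DualGr.IsTree ends)
    (c : E → ℝ) (c₀ : ℝ) :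
    ∃! φ : V → ℝ, (∀ e : E, (∑ v ∈ side ends e, φ v) = c e) ∧ (∑ v : V, φ v) = c₀ := by
  classical
  obtain ⟨⟨hne, hconn⟩, hF⟩ := hT
  obtain ⟨v₀⟩ := hne
  have hex : ∀ (c : E → ℝ) (c₀ : ℝ), ∃ φ : V → ℝ,
      (∀ e : E, (∑ v ∈ side ends e, φ v) = c e) ∧ (∑ v : V, φ v) = c₀ := by
    intro c c₀
    refine ⟨fun v => bdR ends (fun e => -(c e - c₀ * (if v₀ ∈ side ends e then 1 else 0))) v +
      (if v₀ = v then c₀ else 0), ?_, ?_⟩
    · intro e
      rw [Finset.sum_add_distrib, side_sum_bdR ends hF, Finset.sum_ite_eq]
      beta_reduce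
      split_ifs <;> ring
    · rw [Finset.sum_add_distrib, sum_bdR, Finset.sum_ite_eq]
      simp
  obtain ⟨φ, hφ⟩ := hex c c₀
  refine ⟨φ, hφ, ?_⟩
  intro ψ hψ
  have hsurj : Function.Surjective (Lmap ends) := by
    rintro ⟨c', c₀'⟩
    obtain ⟨φ', h1, h2⟩ := hex c' c₀'
    exact ⟨φ', Prod.ext (funext h1) h2⟩
  have hcard : Fintype.card E + 1 = Fintype.card V := by
    have hle : LabGraph.Adj ends ≤ Groth.Agent.Lib.helper28.GJ.SAdj ends Finset.univ :=
      fun a b ⟨e, he⟩ => ⟨e, Finset.mem_univ _, he⟩
    have hconn' : ∀ v w, Groth.Agent.Lib.helper28.GJ.SConn ends Finset.univ v w :=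
      fun v w => Relation.ReflTransGen.mono hle v w (hconn v w)
    have h1 := Groth.Agent.Lib.helper6.MTree.card_of_tree ends Finset.univ hconn'
      (fun C _ => hF C) v₀
    rwa [Finset.card_univ] at h1
  have hfr : Module.finrank ℝ (V → ℝ) = Module.finrank ℝ ((E → ℝ) × ℝ) := by
    rw [Module.finrank_prod, Module.finrank_fintype_fun_eq_card,
      Module.finrank_fintype_fun_eq_card, Module.finrank_self]
    exact hcard.symm
  have hinj : Function.Injective (Lmap ends) :=
    (LinearMap.injective_iff_surjective_of_finrank_eq_finrank hfr).2 hsurj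
  apply hinj
  rw [Lmap_apply, Lmap_apply]
  exact Prod.ext (funext fun e => (hψ.1 e).trans (hφ.1 e).symm) (hψ.2.trans hφ.2.symm)


end Groth.Agent.S18382
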