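import Groth.Statements.S18375
import Mathlib
import Groth.Agent.Lib.Helper6.MTree2
import Groth.Agent.S18374
import Groth.Agent.S18382

set_option autoImplicit false
universe u
open PhiStab

namespace Groth.Agent.S18375

open LabGraph
open Groth.Agent.Lib.helper28.GJ Groth.Agent.Lib.helper6.MTree
open Groth.Agent.S18374 Groth.Agent.S18382

section Aux

variable {V E : Type u} [Fintype V] [Fintype E] [DecidableEq V] [DecidableEq E]

noncomputable def dN (ends : E → V × V) (N : Finset E) (v : V) : ℝ :=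
  ∑ e ∈ N, ((if (ends e).1 = v then (1 : ℝ) else 0) + (if (ends e).2 = v then (1 : ℝ) else 0))

theorem sum_dN (ends : E → V × V) (N : Finset E) (S : Finset V) :
    ∑ v ∈ S, dN ends N v =
      ∑ e ∈ N, ((if (ends e).1 ∈ S then (1 : ℝ) else 0) + (if (ends e).2 ∈ S then (1 : ℝ) else 0)) := by
  unfold dN
  rw [Finset.sum_comm]
  refine Finset.sum_congr rfl (fun e _ => ?_)
  rw [Finset.sum_add_distrib, Finset.sum_ite_eq, Finset.sum_ite_eq]

noncomputable def psi (ends : E → V × V) (φ : V → ℝ) (m : V → ℤ) (N : Finset E) (v : V) : ℝ :=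
  (m v : ℝ) + dN ends N v / 2 - φ v

theorem sum_psi_on (ends : E → V × V) (φ : V → ℝ) (m : V → ℤ) (N : Finset E) (S : Finset V) :
    ∑ v ∈ S, psi ends φ m N v = (∑ v ∈ S, (m v : ℝ)) +
      (∑ e ∈ N, ((if (ends e).1 ∈ S then (1 : ℝ) else 0) +
        (if (ends e).2 ∈ S then (1 : ℝ) else 0))) / 2 - ∑ v ∈ S, φ v := by
  unfold psi
  rw [Finset.sum_sub_distrib, Finset.sum_add_distrib, ← Finset.sum_div, sum_dN]

theorem Ff_eq_psi (ends : E → V × V) (φ : V → ℝ) (m : V → ℤ) (T : Finset E) (S : Finset V) :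
    Ff ends φ m Tᶜ S = (∑ v ∈ S, psi ends φ m Tᶜ v) +
      (∑ e ∈ T, if (((ends e).1 ∈ S ∧ (ends e).2 ∉ S) ∨ ((ends e).1 ∉ S ∧ (ends e).2 ∈ S))
        then (1 : ℝ) else 0) / 2 := by
  rw [Ff_eq, sum_psi_on]
  have hsplit : (∑ e : E, if (((ends e).1 ∈ S ∧ (ends e).2 ∉ S) ∨
        ((ends e).1 ∉ S ∧ (ends e).2 ∈ S)) then (1 : ℝ) else 0) =
      (∑ e ∈ T, if (((ends e).1 ∈ S ∧ (ends e).2 ∉ S) ∨
        ((ends e).1 ∉ S ∧ (ends e).2 ∈ S)) then (1 : ℝ) else 0) +
      (∑ e ∈ Tᶜ, if (((ends e).1 ∈ S ∧ (ends e).2 ∉ S) ∨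
        ((ends e).1 ∉ S ∧ (ends e).2 ∈ S)) then (1 : ℝ) else 0) :=
    (Finset.sum_add_sum_compl T _).symm
  have hpt : ∀ e : E, (if ((ends e).1 ∈ S ∧ (ends e).2 ∈ S) then (1 : ℝ) else 0) +
      (if (((ends e).1 ∈ S ∧ (ends e).2 ∉ S) ∨ ((ends e).1 ∉ S ∧ (ends e).2 ∈ S))
        then (1 : ℝ) else 0) / 2 =
      ((if (ends e).1 ∈ S then (1 : ℝ) else 0) + (if (ends e).2 ∈ S then (1 : ℝ) else 0)) / 2 := by
    intro e
    by_cases a1 : (ends e).1 ∈ S <;> by_cases a2 : (ends e).2 ∈ S <;> norm_num [a1, a2]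
  have hN : (∑ e ∈ Tᶜ, if ((ends e).1 ∈ S ∧ (ends e).2 ∈ S) then (1 : ℝ) else 0) +
      (∑ e ∈ Tᶜ, if (((ends e).1 ∈ S ∧ (ends e).2 ∉ S) ∨ ((ends e).1 ∉ S ∧ (ends e).2 ∈ S))
        then (1 : ℝ) else 0) / 2 =
      (∑ e ∈ Tᶜ, ((if (ends e).1 ∈ S then (1 : ℝ) else 0) +
        (if (ends e).2 ∈ S then (1 : ℝ) else 0))) / 2 := by
    rw [Finset.sum_div, Finset.sum_div, ← Finset.sum_add_distrib]
    exact Finset.sum_congr rfl (fun e _ => hpt e)
  rw [hsplit]
  linarith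

theorem sum_psi (ends : E → V × V) (φ : V → ℝ) (m : V → ℤ) (N : Finset E)
    (hdeg : (∑ v : V, φ v) = (totDeg m N : ℝ)) : ∑ v, psi ends φ m N v = 0 := by
  rw [sum_psi_on, hdeg]
  unfold totDeg
  push_cast
  simp only [Finset.mem_univ, if_true]
  rw [Finset.sum_const, nsmul_eq_mul]
  ring

theorem bdR_eq (ends : E → V × V) (h : E → ℝ) (v : V) :
    bdR ends h v =
      ∑ e : E, h e * ((if (ends e).2 = v then 1 else 0) - (if (ends e).1 = v then 1 else 0)) := by
  unfold bdR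
  refine Finset.sum_congr rfl (fun e _ => ?_)
  split_ifs <;> ring

theorem bdR_add (ends : E → V × V) (a b : E → ℝ) (v : V) :
    bdR ends (fun e => a e + b e) v = bdR ends a v + bdR ends b v := by
  rw [bdR_eq, bdR_eq, bdR_eq, ← Finset.sum_add_distrib]
  exact Finset.sum_congr rfl (fun e _ => by ring)

theorem bdR_sub (ends : E → V × V) (a b : E → ℝ) (v : V) :
    bdR ends (fun e => a e - b e) v = bdR ends a v - bdR ends b v := by
  rw [bdR_eq, bdR_eq, bdR_eq, ← Finset.sum_sub_distrib]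
  exact Finset.sum_congr rfl (fun e _ => by ring)

theorem bdR_cast (ends : E → V × V) (k : E → ℤ) (v : V) :
    bdR ends (fun e => (k e : ℝ)) v = ((boundary ends k v : ℤ) : ℝ) := by
  unfold bdR boundary
  push_cast
  rfl

theorem sum_boundary (ends : E → V × V) (k : E → ℤ) : ∑ v, boundary ends k v = 0 := by
  have h1 : ∑ v, bdR ends (fun e => (k e : ℝ)) v = 0 := by
    rw [sum_bdR]
    simp
  have h2 : ((∑ v, boundary ends k v : ℤ) : ℝ) = 0 := by
    push_cast
    rw [← h1]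
    exact Finset.sum_congr rfl (fun v _ => (bdR_cast ends k v).symm)
  exact_mod_cast h2

theorem exists_flow_R (ends : E → V × V) (T : Finset E) (hc : ∀ v w, SConn ends T v w) (v₀ : V)
    (ψ : V → ℝ) (hψ : ∑ v, ψ v = 0) :
    ∃ h : E → ℝ, (∀ e, e ∉ T → h e = 0) ∧ ∀ v, bdR ends h v = ψ v := by
  classical
  choose γ hγs hγb using fun v => exists_path_flow ends T (hc v₀ v)
  refine ⟨fun e => ∑ v, ψ v * (γ v e : ℝ), ?_, ?_⟩
  · intro e he
    refine Finset.sum_eq_zero (fun v _ => ?_)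
    rw [hγs v e he]
    simp
  · intro w
    have hb : ∀ v, bdR ends (fun e => (γ v e : ℝ)) w =
        (if w = v then 1 else 0) - (if w = v₀ then 1 else 0) := by
      intro v
      rw [bdR_cast, hγb v w]
      push_cast
      rfl
    have hlin : bdR ends (fun e => ∑ v, ψ v * (γ v e : ℝ)) w =
        ∑ v, ψ v * bdR ends (fun e => (γ v e : ℝ)) w := by
      rw [bdR_eq]
      simp only [bdR_eq, Finset.mul_sum, Finset.sum_mul]
      rw [Finset.sum_comm]
      refine Finset.sum_congr rfl (fun v _ => Finset.sum_congr rfl (fun e _ => ?_))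
      ring
    rw [hlin]
    simp only [hb, mul_sub, Finset.sum_sub_distrib, ← Finset.sum_mul, hψ, zero_mul, sub_zero]
    simp

theorem sum_bdR_T (ends : E → V × V) (T : Finset E) (h : E → ℝ) (hs : ∀ e, e ∉ T → h e = 0)
    (S : Finset V) :
    ∑ v ∈ S, bdR ends h v = ∑ e ∈ T,
      h e * ((if (ends e).2 ∈ S then 1 else 0) - (if (ends e).1 ∈ S then 1 else 0)) := by
  rw [sum_bdR]
  symm
  apply Finset.sum_subset (Finset.subset_univ T)
  intro e _ he
  rw [hs e he, zero_mul]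

theorem term_nonneg (x : ℝ) (hx : |x| ≤ 1 / 2) (a1 a2 : Prop) [Decidable a1] [Decidable a2] :
    0 ≤ x * ((if a2 then 1 else 0) - (if a1 then 1 else 0)) +
      (if ((a1 ∧ ¬ a2) ∨ (¬ a1 ∧ a2)) then (1 : ℝ) else 0) / 2 := by
  have h := abs_le.1 hx
  by_cases h1 : a1 <;> by_cases h2 : a2 <;> norm_num [h1, h2] <;> linarith [h.1, h.2]

theorem Ff_eq_flow (ends : E → V × V) (φ : V → ℝ) (m : V → ℤ) (T : Finset E) (h : E → ℝ)
    (hs : ∀ e, e ∉ T → h e = 0) (hb : ∀ v, bdR ends h v = psi ends φ m Tᶜ v) (S : Finset V) :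
    Ff ends φ m Tᶜ S = ∑ e ∈ T,
      (h e * ((if (ends e).2 ∈ S then 1 else 0) - (if (ends e).1 ∈ S then 1 else 0)) +
        (if (((ends e).1 ∈ S ∧ (ends e).2 ∉ S) ∨ ((ends e).1 ∉ S ∧ (ends e).2 ∈ S))
          then (1 : ℝ) else 0) / 2) := by
  rw [Ff_eq_psi, Finset.sum_add_distrib, ← Finset.sum_div, ← sum_bdR_T ends T h hs S]
  congr 1
  exact Finset.sum_congr rfl (fun v _ => (hb v).symm)

theorem semistable_of_flow (ends : E → V × V) (φ : V → ℝ) (m : V → ℤ) (T : Finset E)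
    (h : E → ℝ) (hs : ∀ e, e ∉ T → h e = 0) (hb : ∀ v, bdR ends h v = psi ends φ m Tᶜ v)
    (hh : ∀ e ∈ T, |h e| ≤ 1 / 2) : IsSemistable ends φ m Tᶜ := by
  intro S _ _
  have h1 : 0 ≤ Ff ends φ m Tᶜ S := by
    rw [Ff_eq_flow ends φ m T h hs hb]
    exact Finset.sum_nonneg (fun e he => term_nonneg (h e) (hh e he) _ _)
  unfold Ff at h1
  linarith

theorem exists_side (ends : E → V × V) (T : Finset E)
    (hF : ∀ C : Finset E, C ⊆ T → ¬ IsCircuit ends C) (e : E) (he : e ∈ T) :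
    ∃ S : Finset V, (ends e).1 ∈ S ∧ (ends e).2 ∉ S ∧
      ∀ e' ∈ T, e' ≠ e → ((ends e').1 ∈ S ↔ (ends e').2 ∈ S) := by
  classical
  obtain ⟨g, hg⟩ := forest_potential ends T hF (fun e' => if e' = e then 1 else 0)
  refine ⟨Finset.univ.filter (fun v => g v = g (ends e).1), ?_, ?_, ?_⟩
  · simp
  · have h1 := hg e he
    rw [if_pos rfl] at h1
    simp only [Finset.mem_filter, Finset.mem_univ, true_and]
    omega
  · intro e' he' hne
    have h1 := hg e' he'
    rw [if_neg hne] at h1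
    have h3 : g (ends e').1 = g (ends e').2 := sub_eq_zero.1 h1
    simp only [Finset.mem_filter, Finset.mem_univ, true_and, h3]

theorem Ff_single_cut (ends : E → V × V) (φ : V → ℝ) (m : V → ℤ) (T : Finset E) (h : E → ℝ)
    (hs : ∀ e, e ∉ T → h e = 0) (hb : ∀ v, bdR ends h v = psi ends φ m Tᶜ v) (S : Finset V)
    (e : E) (he : e ∈ T)
    (hsame : ∀ e' ∈ T, e' ≠ e → ((ends e').1 ∈ S ↔ (ends e').2 ∈ S)) :
    Ff ends φ m Tᶜ S =
      h e * ((if (ends e).2 ∈ S then 1 else 0) - (if (ends e).1 ∈ S then 1 else 0)) +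
        (if (((ends e).1 ∈ S ∧ (ends e).2 ∉ S) ∨ ((ends e).1 ∉ S ∧ (ends e).2 ∈ S))
          then (1 : ℝ) else 0) / 2 := by
  rw [Ff_eq_flow ends φ m T h hs hb, Finset.sum_eq_single_of_mem e he]
  intro e' he' hne
  by_cases a1 : (ends e').1 ∈ S
  · have a2 := (hsame e' he' hne).1 a1
    simp [a1, a2]
  · have a2 : (ends e').2 ∉ S := fun h => a1 ((hsame e' he' hne).2 h)
    simp [a1, a2]

theorem flow_lt_of_stable (ends : E → V × V) (φ : V → ℝ) (m : V → ℤ) (T : Finset E)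
    (hF : ∀ C : Finset E, C ⊆ T → ¬ IsCircuit ends C) (h : E → ℝ)
    (hs : ∀ e, e ∉ T → h e = 0) (hb : ∀ v, bdR ends h v = psi ends φ m Tᶜ v)
    (hst : IsStable ends φ m Tᶜ) (e : E) (he : e ∈ T) : |h e| < 1 / 2 := by
  obtain ⟨S, h1S, h2S, hsame⟩ := exists_side ends T hF e he
  have h1Sc : (ends e).1 ∉ Sᶜ := fun h => (Finset.mem_compl.1 h) h1S
  have h2Sc : (ends e).2 ∈ Sᶜ := Finset.mem_compl.2 h2S
  have hsame' : ∀ e' ∈ T, e' ≠ e → ((ends e').1 ∈ Sᶜ ↔ (ends e').2 ∈ Sᶜ) := by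
    intro e' he' hne
    exact Finset.mem_compl.trans ((not_congr (hsame e' he' hne)).trans Finset.mem_compl.symm)
  have hFS : Ff ends φ m Tᶜ S = - h e + 1 / 2 := by
    rw [Ff_single_cut ends φ m T h hs hb S e he hsame, if_neg h2S, if_pos h1S,
      if_pos (Or.inl ⟨h1S, h2S⟩)]
    ring
  have hFSc : Ff ends φ m Tᶜ Sᶜ = h e + 1 / 2 := by
    rw [Ff_single_cut ends φ m T h hs hb Sᶜ e he hsame', if_pos h2Sc, if_neg h1Sc,
      if_pos (Or.inr ⟨h1Sc, h2Sc⟩)]
    ring
  have hSne : S.Nonempty := ⟨_, h1S⟩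
  have hSu : S ≠ Finset.univ := fun h => h2S (h ▸ Finset.mem_univ _)
  have hScne : Sᶜ.Nonempty := ⟨_, h2Sc⟩
  have hScu : Sᶜ ≠ Finset.univ := fun h => h1Sc (h ▸ Finset.mem_univ _)
  have p1 := hst S hSne hSu
  have p2 := hst Sᶜ hScne hScu
  have q1 : 0 < Ff ends φ m Tᶜ S := by
    unfold Ff
    linarith
  have q2 : 0 < Ff ends φ m Tᶜ Sᶜ := by
    unfold Ff
    linarith
  rw [hFS] at q1
  rw [hFSc] at q2
  rw [abs_lt]
  constructor <;> linarith

theorem flow_int (ends : E → V × V) (T : Finset E)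
    (hF : ∀ C : Finset E, C ⊆ T → ¬ IsCircuit ends C) (k : E → ℝ)
    (hs : ∀ e, e ∉ T → k e = 0) (n : V → ℤ) (hb : ∀ v, bdR ends k v = (n v : ℝ))
    (e : E) (he : e ∈ T) : ∃ z : ℤ, k e = z := by
  obtain ⟨S, h1S, h2S, hsame⟩ := exists_side ends T hF e he
  have h1 := sum_bdR_T ends T k hs S
  have h3 : ∑ e' ∈ T,
      k e' * ((if (ends e').2 ∈ S then 1 else 0) - (if (ends e').1 ∈ S then 1 else 0)) =
      k e * ((if (ends e).2 ∈ S then 1 else 0) - (if (ends e).1 ∈ S then 1 else 0)) := by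
    refine Finset.sum_eq_single_of_mem e he (fun e' he' hne => ?_)
    by_cases a1 : (ends e').1 ∈ S
    · have a2 := (hsame e' he' hne).1 a1
      simp [a1, a2]
    · have a2 : (ends e').2 ∉ S := fun h => a1 ((hsame e' he' hne).2 h)
      simp [a1, a2]
  rw [h3, if_neg h2S, if_pos h1S] at h1
  have h2 : ∑ v ∈ S, bdR ends k v = ((∑ v ∈ S, n v : ℤ) : ℝ) := by
    push_cast
    exact Finset.sum_congr rfl (fun v _ => hb v)
  refine ⟨-∑ v ∈ S, n v, ?_⟩
  rw [h2] at h1
  push_cast at h1 ⊢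
  linarith

end Aux


open PhiStab in
/-- Let (V, E, ends) be a finite multigraph and T a set of edges forming a spanning tree (the spanning
subgraph with edge set T is connected and contains no circuit), b an integer and φ a nondegenerate
real weighting of the vertices with Σ_v φ v = b. Then there is a unique integer multidegree m for
which the sheaf datum (m, Tᶜ), not locally free exactly at the edges outside T, has total degree b
and is φ-stable. This is the statement that a stable pointed curve with this dual graph carries a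
φ-stable rank-1 torsion-free sheaf of degree g - 1 = b failing to be locally free exactly at the
nodes outside T, of uniquely determined multidegree, written for the combinatorial datum. -/
theorem result {V E : Type u} [Fintype V] [Fintype E] [DecidableEq V] [DecidableEq E]
    (ends : E → V × V) (T : Finset E)
    (hT : DualGr.IsTree (spanEnds ends T)) (b : ℤ) (φ : V → ℝ) (hφ : (∑ v : V, φ v) = (b : ℝ))
    (hnd : Nondegenerate ends φ) :
    ∃! m : V → ℤ, totDeg m Tᶜ = b ∧ IsStable ends φ m Tᶜ := by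
  classical
  obtain ⟨v₀⟩ := hT.1.1
  obtain ⟨hc, hF⟩ := (Groth.Agent.Lib.helper6.MTree.isSpanningTree_iff ends T v₀).1 hT
  have hexist : ∃ m : V → ℤ, totDeg m Tᶜ = b ∧ IsStable ends φ m Tᶜ := by
    obtain ⟨m₀, hm₀def⟩ : ∃ m₀ : V → ℤ, m₀ = fun v => if v₀ = v then b - (Tᶜ.card : ℤ) else 0 :=
      ⟨_, rfl⟩
    have hm₀ : totDeg m₀ Tᶜ = b := by
      unfold totDeg
      rw [hm₀def, Finset.sum_ite_eq]
      simp
    have hψ₀ : ∑ v, psi ends φ m₀ Tᶜ v = 0 := sum_psi ends φ m₀ Tᶜ (by rw [hφ, hm₀])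
    obtain ⟨h₀, hs₀, hb₀⟩ := exists_flow_R ends T hc v₀ _ hψ₀
    obtain ⟨k, hkdef⟩ : ∃ k : E → ℤ, k = fun e => if e ∈ T then - round (h₀ e) else 0 := ⟨_, rfl⟩
    obtain ⟨m, hmdef⟩ : ∃ m : V → ℤ, m = fun v => m₀ v + LabGraph.boundary ends k v := ⟨_, rfl⟩
    have hm : totDeg m Tᶜ = b := by
      rw [← hm₀]
      unfold totDeg
      rw [hmdef, Finset.sum_add_distrib, sum_boundary, add_zero]
    have hpsi : ∀ v, psi ends φ m Tᶜ v = psi ends φ m₀ Tᶜ v + (LabGraph.boundary ends k v : ℝ) := by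
      intro v
      unfold psi
      rw [hmdef]
      push_cast
      ring
    have hb : ∀ v, bdR ends (fun e => h₀ e + (k e : ℝ)) v = psi ends φ m Tᶜ v := by
      intro v
      rw [bdR_add, hb₀, bdR_cast, hpsi]
    have hs : ∀ e, e ∉ T → (fun e => h₀ e + (k e : ℝ)) e = 0 := by
      intro e he
      show h₀ e + (k e : ℝ) = 0
      have hk_e : k e = if e ∈ T then - round (h₀ e) else 0 := by rw [hkdef]
      rw [hs₀ e he, hk_e, if_neg he]
      simp
    have hh : ∀ e ∈ T, |(fun e => h₀ e + (k e : ℝ)) e| ≤ 1 / 2 := by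
      intro e he
      show |h₀ e + (k e : ℝ)| ≤ 1 / 2
      have hk_e : k e = if e ∈ T then - round (h₀ e) else 0 := by rw [hkdef]
      rw [hk_e, if_pos he]
      push_cast
      rw [← sub_eq_add_neg]
      exact abs_sub_round (h₀ e)
    have hss := semistable_of_flow ends φ m T _ hs hb hh
    exact ⟨m, hm, hnd m Tᶜ (by rw [hφ, hm]) hss⟩
  obtain ⟨m, hm, hst⟩ := hexist
  refine ⟨m, ⟨hm, hst⟩, ?_⟩
  rintro m' ⟨hm', hst'⟩
  have hψ : ∑ v, psi ends φ m Tᶜ v = 0 := sum_psi ends φ m Tᶜ (by rw [hφ, hm])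
  have hψ' : ∑ v, psi ends φ m' Tᶜ v = 0 := sum_psi ends φ m' Tᶜ (by rw [hφ, hm'])
  obtain ⟨h, hs, hb⟩ := exists_flow_R ends T hc v₀ _ hψ
  obtain ⟨h', hs', hb'⟩ := exists_flow_R ends T hc v₀ _ hψ'
  have hlt := flow_lt_of_stable ends φ m T hF h hs hb hst
  have hlt' := flow_lt_of_stable ends φ m' T hF h' hs' hb' hst'
  have hk : ∀ v, bdR ends (fun e => h' e - h e) v = ((m' v - m v : ℤ) : ℝ) := by
    intro v
    rw [bdR_sub, hb', hb]
    unfold psi
    push_cast
    ring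
  have hkz : ∀ e, h' e - h e = 0 := by
    intro e
    by_cases he : e ∈ T
    · obtain ⟨z, hz⟩ := flow_int ends T hF (fun e => h' e - h e)
        (fun e he => by show h' e - h e = 0; rw [hs e he, hs' e he, sub_zero])
        (fun v => m' v - m v) hk e he
      have hz2 : h' e - h e = (z : ℝ) := hz
      have h1 := abs_lt.1 (hlt e he)
      have h2 := abs_lt.1 (hlt' e he)
      have h3 : (z : ℝ) < 1 := by rw [← hz2]; linarith
      have h4 : (-1 : ℝ) < (z : ℝ) := by rw [← hz2]; linarith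
      have h5 : z < 1 := by exact_mod_cast h3
      have h6 : -1 < z := by exact_mod_cast h4
      have h7 : z = 0 := by omega
      rw [hz2, h7]
      simp
    · rw [hs e he, hs' e he, sub_zero]
  funext v
  have h8 := hk v
  have hz : bdR ends (fun e => h' e - h e) v = 0 := by
    have h9 : (fun e => h' e - h e) = fun _ => (0 : ℝ) := funext hkz
    rw [h9]
    unfold bdR
    simp
  rw [hz] at h8
  have h5 : m' v - m v = 0 := by exact_mod_cast h8.symm
  omega


end Groth.Agent.S18375
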