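import Groth.Statements.S18376
import Mathlib
import Groth.Agent.Lib.Helper6.MTree2
import Groth.Agent.S18374
import Groth.Agent.S18375

set_option autoImplicit false
universe u
open PhiStab

namespace Groth.Agent.S18376

open LabGraph
open Groth.Agent.Lib.helper28.GJ Groth.Agent.Lib.helper6.MTree
open Groth.Agent.S18374 Groth.Agent.S18375

section Aux

variable {V E : Type u} [Fintype V] [Fintype E] [DecidableEq V] [DecidableEq E]

theorem elem_ne (ends : E → V × V) (S : Finset V) (hS : IsElementary ends S) :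
    S.Nonempty ∧ S ≠ Finset.univ ∧ Sᶜ.Nonempty ∧ Sᶜ ≠ Finset.univ := by
  obtain ⟨⟨⟨v, hv⟩⟩, _⟩ := hS.1
  obtain ⟨⟨⟨w, hw⟩⟩, _⟩ := hS.2
  refine ⟨⟨v, hv⟩, ?_, ⟨w, hw⟩, ?_⟩
  · intro h
    rw [h] at hw
    simp at hw
  · intro h
    have h1 : v ∈ Sᶜ := h ▸ Finset.mem_univ v
    exact (Finset.mem_compl.1 h1) hv

theorem sconn_of_connected_ind (ends : E → V × V) (S : Finset V)
    (h : LabGraph.Connected (indEnds ends S)) :
    ∀ a ∈ S, ∀ b ∈ S, SConn ends (PhiStab.inner ends S) a b := by
  intro a ha b hb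
  have h1 := h.2 ⟨a, ha⟩ ⟨b, hb⟩
  have hl : LabGraph.Adj (indEnds ends S) ≤
      Function.onFun (SAdj ends (PhiStab.inner ends S)) (fun x : {v // v ∈ S} => x.1) := by
    intro c d hcd
    obtain ⟨e', he'⟩ := hcd
    refine ⟨e'.1, e'.2, ?_⟩
    rcases he' with he' | he'
    · left
      exact Prod.ext (congrArg (fun p => (p.1 : V)) he') (congrArg (fun p => (p.2 : V)) he')
    · right
      exact Prod.ext (congrArg (fun p => (p.1 : V)) he') (congrArg (fun p => (p.2 : V)) he')
  exact Relation.ReflTransGen.lift _ hl _ _ h1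

theorem exists_cut_edge (ends : E → V × V) (T : Finset E) (hc : ∀ v w, SConn ends T v w)
    (S : Finset V) (hS : S.Nonempty) (hSu : S ≠ Finset.univ) :
    ∃ e ∈ T, ((ends e).1 ∈ S ∧ (ends e).2 ∉ S) ∨ ((ends e).1 ∉ S ∧ (ends e).2 ∈ S) := by
  obtain ⟨s, hs⟩ := hS
  obtain ⟨s', hs'⟩ : ∃ s', s' ∉ S := by
    by_contra hcon
    push_neg at hcon
    exact hSu (Finset.eq_univ_iff_forall.2 hcon)
  have key : ∀ a b, SConn ends T a b → a ∈ S → b ∉ S →
      ∃ e ∈ T, ((ends e).1 ∈ S ∧ (ends e).2 ∉ S) ∨ ((ends e).1 ∉ S ∧ (ends e).2 ∈ S) := by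
    intro a b hab
    induction hab with
    | refl => intro h1 h2; exact absurd h1 h2
    | @tail c d _ hcd ih =>
      intro ha hd
      by_cases hcS : c ∈ S
      · obtain ⟨e, heT, he⟩ := hcd
        refine ⟨e, heT, ?_⟩
        rcases he with he | he
        · left
          rw [he]
          exact ⟨hcS, hd⟩
        · right
          rw [he]
          exact ⟨hd, hcS⟩
      · exact ih ha hcS
  exact key s s' (hc s s') hs hs'

theorem conn_erase_of_circuit (ends : E → V × V) (T C : Finset E) (hCT : C ⊆ T)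
    (hC : IsCircuit ends C) (e0 : E) (he0 : e0 ∈ C) (hS : ∀ v w, SConn ends T v w) :
    ∀ v w, SConn ends (T.erase e0) v w := by
  have h0 : SConn ends (T.erase e0) (ends e0).1 (ends e0).2 := by
    by_cases hab : (ends e0).1 = (ends e0).2
    · rw [hab]
      exact Relation.ReflTransGen.refl
    · have heven : ∀ v, (endCount ends C v : ZMod 2) = 0 := fun v =>
        (ZMod.natCast_eq_zero_iff_even).2 (hC.2.1 v)
      have hjoin : IsJoin ends (C.erase e0) (ends e0).1 (ends e0).2 := by
        intro v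
        have h1 := heven v
        rw [endCount_eq, ← Finset.add_sum_erase _ _ he0] at h1
        push_cast at h1
        rw [ec_cast] at h1
        rw [endCount_eq]
        push_cast
        linear_combination h1 - (dl (ends e0).1 v + dl (ends e0).2 v) * two_zero
      exact sConn_mono ends (Finset.erase_subset_erase _ hCT) (conn_of_join ends hab hjoin)
  exact fun v w => sConn_erase ends T e0 h0 (hS v w)

theorem exists_spanning_tree (ends : E → V × V) : ∀ (n : ℕ) (E' : Finset E), E'.card = n →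
    (∀ v w, SConn ends E' v w) →
    ∃ T ⊆ E', (∀ v w, SConn ends T v w) ∧ ∀ C : Finset E, C ⊆ T → ¬ IsCircuit ends C := by
  intro n
  induction n using Nat.strong_induction_on with
  | _ n ih =>
    intro E' hn hc
    by_cases hF : ∀ C : Finset E, C ⊆ E' → ¬ IsCircuit ends C
    · exact ⟨E', subset_rfl, hc, hF⟩
    · push_neg at hF
      obtain ⟨C, hCE, hC⟩ := hF
      obtain ⟨e0, he0⟩ := hC.1
      have hc' := conn_erase_of_circuit ends E' C hCE hC e0 he0 hc
      have hcard : (E'.erase e0).card < n := by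
        rw [← hn]
        exact Finset.card_erase_lt_of_mem (hCE he0)
      obtain ⟨T, hT, h1, h2⟩ := ih _ hcard (E'.erase e0) rfl hc'
      exact ⟨T, hT.trans (Finset.erase_subset _ _), h1, h2⟩

end Aux


open PhiStab in
/-- Let (V, E, ends) be a connected finite multigraph, b an integer, and φ₁, φ₂ real weightings of the
vertices with Σ_v φ₁ v = Σ_v φ₂ v = b, φ₁ nondegenerate. Then every φ₁-stable sheaf datum (m, N) of
total degree b is φ₂-semistable if and only if φ₂ lies in the closed stability polytope of φ₁, that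
is, for every elementary vertex set S and every integer d with d - Σ_{v ∈ S} φ₁ v + cut S / 2 > 0
one has d - Σ_{v ∈ S} φ₂ v + cut S / 2 ≥ 0. Membership in the closure of the polytope is expressed
by this half-space condition, the form in which the source's proof uses it; the sheaves of degree g
- 1 = b on stable pointed curves with this dual graph enter through their combinatorial data. -/
theorem result {V E : Type u} [Fintype V] [Fintype E] [DecidableEq V] [DecidableEq E]
    (ends : E → V × V)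
    (hconn : LabGraph.Connected ends) (b : ℤ) (φ₁ φ₂ : V → ℝ) (h₁ : (∑ v : V, φ₁ v) = (b : ℝ))
    (h₂ : (∑ v : V, φ₂ v) = (b : ℝ)) (hnd : Nondegenerate ends φ₁) :
    (∀ (m : V → ℤ) (N : Finset E), totDeg m N = b → IsStable ends φ₁ m N → IsSemistable ends φ₂ m N) ↔
      InClosedPolytope ends φ₁ φ₂ := by
  classical
  have hconnV := hconn.2
  obtain ⟨v₀⟩ := hconn.1
  constructor
  · intro H S hS d hd
    obtain ⟨hSne, hSu, hScne, hScu⟩ := elem_ne ends S hS
    have hcS := sconn_of_connected_ind ends S hS.1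
    have hcSc := sconn_of_connected_ind ends Sᶜ hS.2
    have hle : LabGraph.Adj ends ≤ Groth.Agent.Lib.helper28.GJ.SAdj ends Finset.univ :=
      fun a b ⟨e, he⟩ => ⟨e, Finset.mem_univ _, he⟩
    have hconnU : ∀ v w, Groth.Agent.Lib.helper28.GJ.SConn ends Finset.univ v w :=
      fun v w => Relation.ReflTransGen.mono hle v w (hconnV v w)
    obtain ⟨e₀, _, he₀⟩ := exists_cut_edge ends Finset.univ hconnU S hSne hSu
    obtain ⟨E', hE'⟩ : ∃ E' : Finset E,
        E' = PhiStab.inner ends S ∪ PhiStab.inner ends Sᶜ ∪ {e₀} := ⟨_, rfl⟩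
    have hsub1 : PhiStab.inner ends S ⊆ E' := by
      rw [hE']
      intro x hx
      simp [hx]
    have hsub2 : PhiStab.inner ends Sᶜ ⊆ E' := by
      rw [hE']
      intro x hx
      simp [hx]
    have he₀E : e₀ ∈ E' := by
      rw [hE']
      simp
    obtain ⟨s₁, s₂, hs₁, hs₂, hadj⟩ : ∃ s₁ s₂, s₁ ∈ S ∧ s₂ ∉ S ∧
        Groth.Agent.Lib.helper28.GJ.SConn ends E' s₁ s₂ := by
      rcases he₀ with ⟨a1, a2⟩ | ⟨a1, a2⟩
      · exact ⟨_, _, a1, a2, Groth.Agent.Lib.helper28.GJ.sConn_edge ends E' he₀E⟩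
      · exact ⟨_, _, a2, a1, Groth.Agent.Lib.helper28.GJ.sConn_symm ends E'
          (Groth.Agent.Lib.helper28.GJ.sConn_edge ends E' he₀E)⟩
    have hto : ∀ v, Groth.Agent.Lib.helper28.GJ.SConn ends E' v s₁ := by
      intro v
      by_cases hv : v ∈ S
      · exact Groth.Agent.Lib.helper6.MTree.sConn_mono ends hsub1 (hcS v hv s₁ hs₁)
      · have hv' : v ∈ Sᶜ := Finset.mem_compl.2 hv
        have hs₂' : s₂ ∈ Sᶜ := Finset.mem_compl.2 hs₂
        exact (Groth.Agent.Lib.helper6.MTree.sConn_mono ends hsub2 (hcSc v hv' s₂ hs₂')).trans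
          (Groth.Agent.Lib.helper28.GJ.sConn_symm ends E' hadj)
    have hcE' : ∀ v w, Groth.Agent.Lib.helper28.GJ.SConn ends E' v w :=
      fun v w => (hto v).trans (Groth.Agent.Lib.helper28.GJ.sConn_symm ends E' (hto w))
    obtain ⟨T, hTE, hcT, hFT⟩ := exists_spanning_tree ends _ E' rfl hcE'
    have hcutT : ∀ e ∈ T, (((ends e).1 ∈ S ∧ (ends e).2 ∉ S) ∨
        ((ends e).1 ∉ S ∧ (ends e).2 ∈ S)) → e = e₀ := by
      intro e he hcut
      have heE := hTE he
      rw [hE'] at heE
      simp only [Finset.mem_union, Finset.mem_singleton] at heE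
      rcases heE with (hin | hin) | hin
      · exfalso
        obtain ⟨_, b1, b2⟩ := Finset.mem_filter.1 hin
        rcases hcut with ⟨c1, c2⟩ | ⟨c1, c2⟩
        · exact c2 b2
        · exact c1 b1
      · exfalso
        obtain ⟨_, b1, b2⟩ := Finset.mem_filter.1 hin
        rw [Finset.mem_compl] at b1 b2
        rcases hcut with ⟨c1, c2⟩ | ⟨c1, c2⟩
        · exact b1 c1
        · exact b2 c2
      · exact hin
    obtain ⟨e₁, he₁T, he₁⟩ := exists_cut_edge ends T hcT S hSne hSu
    have he₁e₀ := hcutT e₁ he₁T he₁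
    have he₀T : e₀ ∈ T := he₁e₀ ▸ he₁T
    have hsum : (∑ e ∈ T, if (((ends e).1 ∈ S ∧ (ends e).2 ∉ S) ∨
        ((ends e).1 ∉ S ∧ (ends e).2 ∈ S)) then (1 : ℝ) else 0) = 1 := by
      rw [Finset.sum_eq_single_of_mem e₀ he₀T, if_pos he₀]
      intro e he hne
      rw [if_neg (fun hcut => hne (hcutT e he hcut))]
    have hTree : DualGr.IsTree (spanEnds ends T) :=
      (Groth.Agent.Lib.helper6.MTree.isSpanningTree_iff ends T v₀).2 ⟨hcT, hFT⟩
    obtain ⟨m, ⟨hm, hst⟩, _⟩ := Groth.Agent.S18375.result ends T hTree b φ₁ h₁ hnd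
    have hdeg : (∑ v, φ₁ v) = (totDeg m Tᶜ : ℝ) := by rw [h₁, hm]
    have hadd := Ff_add_compl ends φ₁ m Tᶜ hdeg S
    have hG : Gg ends Tᶜ S = 1 := by
      unfold Gg
      rw [compl_compl]
      exact hsum
    have p1 := hst S hSne hSu
    have p2 := hst Sᶜ hScne hScu
    have q1 : 0 < Ff ends φ₁ m Tᶜ S := by
      unfold Ff
      linarith
    have q2 : 0 < Ff ends φ₁ m Tᶜ Sᶜ := by
      unfold Ff
      linarith
    have q3 : Ff ends φ₁ m Tᶜ S < 1 := by linarith
    unfold Ff at q3
    unfold ell at hd ⊢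
    have hle2 : degOn ends m Tᶜ S ≤ d := by
      have h4 : ((degOn ends m Tᶜ S : ℤ) : ℝ) - 1 < (d : ℝ) := by linarith
      have h5 : degOn ends m Tᶜ S - 1 < d := by exact_mod_cast h4
      omega
    have hss := H m Tᶜ hm hst S hSne hSu
    have hle' : ((degOn ends m Tᶜ S : ℤ) : ℝ) ≤ (d : ℝ) := by exact_mod_cast hle2
    linarith
  · intro hP m N hm hst
    have hdeg : (∑ v, φ₂ v) = (totDeg m N : ℝ) := by rw [h₂, hm]
    refine (Groth.Agent.S18374.result ends hconn φ₂ m N hdeg).1.2 ?_
    intro S hS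
    obtain ⟨hSne, hSu, _, _⟩ := elem_ne ends S hS
    have h3 := hst S hSne hSu
    have h4 := hP S hS (degOn ends m N S) (by unfold ell; linarith)
    unfold ell at h4
    linarith


end Groth.Agent.S18376
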