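import Groth.Statements.S18377
import Mathlib
import Groth.Agent.Lib.Helper13.Verl5
-- import your own Groth.Agent.* helpers here

set_option autoImplicit false
open Complex
open VerlindeComb
open Groth.Agent.Lib.helper13.Verl

namespace Groth.Agent.S18377

/-- Let r, k ≥ 1 be integers and v_1 > v_2 > ⋯ > v_r ≥ 0 integers below r + k; put z_j = exp(2πi v_j /
(r + k)) and, for μ = (μ_1, …, μ_r), let S_μ(z) = det(z_j^{μ_i + r - i}) / det(z_j^{r - i}) be the
value of the Schur polynomial (the z_j are distinct, so the Vandermonde denominator is nonzero).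
Then, summing over all μ with k > μ_1 ≥ ⋯ ≥ μ_r ≥ 0 and writing μ* = (k - μ_r, …, k - μ_1), one has
Σ_μ S_μ(z) S_{μ*}(z) = exp(2πi k (v_1 + ⋯ + v_r) / (r + k)) · k (r + k)^{r-1} / ∏_{i<j} (2 sin(π
(v_i - v_j) / (r + k)))². Indices are 0-based below: μ i stands for μ_{i+1}. -/
theorem result (r k : ℕ) (hr : 1 ≤ r) (hk : 1 ≤ k)
    (v : Fin r → ℕ) (hv : StrictAnti v) (hvlt : ∀ i, v i < r + k)
    (z : Fin r → ℂ) (hz : ∀ j, z j = Complex.exp (2 * Real.pi * Complex.I * (v j : ℂ) / ((r : ℂ) + k)))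
    (S : (Fin r → ℕ) → ℂ)
    (hS : ∀ μ : Fin r → ℕ, S μ =
      (Matrix.of fun i j : Fin r => z j ^ (μ i + (r - 1 - (i : ℕ)))).det /
        (Matrix.of fun i j : Fin r => z j ^ (r - 1 - (i : ℕ))).det) :
    (∑ μ ∈ (Finset.univ : Finset (Fin r → Fin k)).filter (fun μ : Fin r → Fin k => Antitone μ),
        S (fun i => (μ i : ℕ)) * S (fun i => k - (μ (Fin.rev i) : ℕ))) =
      Complex.exp (2 * Real.pi * Complex.I * (k : ℂ) * ((∑ j, v j : ℕ) : ℂ) / ((r : ℂ) + k)) *
        ((k : ℂ) * ((r : ℂ) + k) ^ (r - 1)) /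
        (∏ p ∈ (Finset.univ : Finset (Fin r × Fin r)).filter (fun p => p.1 < p.2),
          (((2 : ℝ) * Real.sin (Real.pi * ((v p.1 : ℝ) - (v p.2 : ℝ)) / ((r : ℝ) + k))) ^ 2 : ℝ) : ℂ) := by
  classical
  haveI : NeZero (r + k) := ⟨by omega⟩
  have hz' : ∀ j, z j = zeta (r + k) ^ (v j) := fun j => by rw [hz j, exp_eq_zeta_pow]
  have hden : (Matrix.of fun i j : Fin r => z j ^ (r - 1 - (i : ℕ))).det = A (r + k) (delta r) v :=
    det_eq_A (r + k) (delta r) v z hz'
  have hvinj := injective_mod_of_strictAnti (r + k) v hv hvlt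
  set Ad : ℂ := A (r + k) (delta r) v with hAd
  set Z : ℂ := zeta (r + k) ^ (∑ j, v j) with hZ
  have hZ0 : Z ≠ 0 := pow_ne_zero _ (zeta_ne_zero _)
  have hrel := A_delta_sq k v
  rw [← hAd, ← hZ] at hrel
  -- the summands
  have hsummand : ∀ μ : Fin r → Fin k,
      S (fun i => (μ i : ℕ)) * S (fun i => k - (μ (Fin.rev i) : ℕ))
        = eps r * Z⁻¹ / (Ad * Ad) *
          (A (r + k) (fun i => (μ i : ℕ) + (r - 1 - (i : ℕ))) v *
            (starRingEnd ℂ) (A (r + k) (fun i => (μ i : ℕ) + (r - 1 - (i : ℕ))) v)) := by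
    intro μ
    have e1 : S (fun i => (μ i : ℕ)) = A (r + k) (fun i => (μ i : ℕ) + (r - 1 - (i : ℕ))) v / Ad := by
      rw [hS, hden]
      congr 1
      exact det_eq_A (r + k) (fun i => (μ i : ℕ) + (r - 1 - (i : ℕ))) v z hz'
    have e2 : S (fun i => k - (μ (Fin.rev i) : ℕ))
        = A (r + k) (fun i => r + k - 1 - ((μ (Fin.rev i) : ℕ) + (r - 1 - ((Fin.rev i : Fin r) : ℕ)))) v / Ad := by
      rw [hS, hden]
      congr 1
      have hfun : (fun i : Fin r => r + k - 1 - ((μ (Fin.rev i) : ℕ) + (r - 1 - ((Fin.rev i : Fin r) : ℕ))))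
          = fun i : Fin r => (k - (μ (Fin.rev i) : ℕ)) + (r - 1 - (i : ℕ)) := by
        funext i
        have := i.2
        have := (μ (Fin.rev i)).2
        simp only [Fin.val_rev]
        omega
      rw [hfun]
      exact det_eq_A (r + k) (fun i => (k - (μ (Fin.rev i) : ℕ)) + (r - 1 - (i : ℕ))) v z hz'
    have e3 := A_dual (r + k) (fun i => (μ i : ℕ) + (r - 1 - (i : ℕ))) v
      (fun i => by have := (μ i).2; have := i.2; omega)
    rw [e1, e2, e3, ← hZ]
    field_simp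
  rw [Finset.sum_congr rfl (fun μ _ => hsummand μ), ← Finset.mul_sum,
    sum_antitone_eq_sum_strictAnti (r := r) k k hk (by omega)
      (fun e => A (r + k) e v * (starRingEnd ℂ) (A (r + k) e v)),
    core1_avoid k hk (by omega) v hvinj]
  -- the right-hand side
  have hexp : Complex.exp (2 * Real.pi * Complex.I * (k : ℂ) * ((∑ j, v j : ℕ) : ℂ) / ((r : ℂ) + k))
      = zeta (r + k) ^ (k * ∑ j, v j) := by
    rw [← exp_eq_zeta_pow]
    congr 1
    push_cast
    ring
  have hcast : ((r : ℝ) + k) = ((r + k : ℕ) : ℝ) := by push_cast; rfl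
  have hP : (∏ p ∈ (Finset.univ : Finset (Fin r × Fin r)).filter (fun p => p.1 < p.2),
      (((2 : ℝ) * Real.sin (Real.pi * ((v p.1 : ℝ) - (v p.2 : ℝ)) / ((r : ℝ) + k))) ^ 2 : ℝ) : ℂ)
      = ((P (r + k) v : ℝ) : ℂ) := by
    rw [P, hcast, Complex.ofReal_prod]
  rw [hexp, hP]
  set Pc : ℂ := ((P (r + k) v : ℝ) : ℂ) with hPc
  have hPA : Pc = Ad * (starRingEnd ℂ) Ad := P_eq (r + k) v
  by_cases hA0 : Ad = 0
  · have : Pc = 0 := by rw [hPA, hA0, zero_mul]
    rw [this, hA0]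
    simp
  · have hPc0 : Pc ≠ 0 := by
      rw [hPA]
      exact mul_ne_zero hA0 (by simpa using hA0)
    have heps := eps_ne_zero r
    field_simp
    field_simp at hrel
    linear_combination (-(k : ℂ) * ((r : ℂ) + k) ^ (r - 1)) * hrel

end Groth.Agent.S18377
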