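import Groth.Statements.S18378
import Mathlib
import Groth.Agent.Lib.Helper13.Verl6
-- import your own Groth.Agent.* helpers here

set_option autoImplicit false
open Complex
open VerlindeComb
open Groth.Agent.Lib.helper13.Verl

namespace Groth.Agent.S18378

/-- Let r, k ≥ 1 be integers and v, v' two integer vectors with r + k > v_1 > ⋯ > v_r ≥ 0 and r + k >
v'_1 > ⋯ > v'_r ≥ 0 whose difference v - v' is not a constant vector (a, …, a). Put z_j = exp(2πi
v_j / (r + k)), z'_j = exp(2πi v'_j / (r + k)), let S_μ(w) = det(w_j^{μ_i + r - i}) / det(w_j^{r -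
i}) be the Schur value at w = z or z', and write |x| for the sum of the coordinates of a vector and
μ* = (k - μ_r, …, k - μ_1). Then the sum over all μ with k ≥ μ_1 ≥ ⋯ ≥ μ_{r-1} ≥ μ_r = 0 of exp(-2πi
|μ| |v| / (r (r + k))) · exp(-2πi |μ*| |v'| / (r (r + k))) · S_μ(z) · S_{μ*}(z') is zero. The
vanishing is the orthogonality of distinct characters and holds exactly for non-equivalent v, v';
for v - v' constant the sum is nonzero. Indices are 0-based below: μ i stands for μ_{i+1}. -/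
theorem result (r k : ℕ) (hr : 1 ≤ r)
    (hk : 1 ≤ k) (v v' : Fin r → ℕ) (hv : StrictAnti v) (hvlt : ∀ i, v i < r + k) (hv' : StrictAnti v')
    (hv'lt : ∀ i, v' i < r + k) (hne : ¬ ∃ a : ℤ, ∀ i, (v i : ℤ) - (v' i : ℤ) = a)
    (z z' : Fin r → ℂ) (hz : ∀ j, z j = Complex.exp (2 * Real.pi * Complex.I * (v j : ℂ) / ((r : ℂ) + k)))
    (hz' : ∀ j, z' j = Complex.exp (2 * Real.pi * Complex.I * (v' j : ℂ) / ((r : ℂ) + k)))
    (S S' : (Fin r → ℕ) → ℂ)
    (hS : ∀ μ : Fin r → ℕ, S μ =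
      (Matrix.of fun i j : Fin r => z j ^ (μ i + (r - 1 - (i : ℕ)))).det /
        (Matrix.of fun i j : Fin r => z j ^ (r - 1 - (i : ℕ))).det)
    (hS' : ∀ μ : Fin r → ℕ, S' μ =
      (Matrix.of fun i j : Fin r => z' j ^ (μ i + (r - 1 - (i : ℕ)))).det /
        (Matrix.of fun i j : Fin r => z' j ^ (r - 1 - (i : ℕ))).det) :
    (∑ μ ∈ (Finset.univ : Finset (Fin r → Fin (k + 1))).filter
        (fun μ : Fin r → Fin (k + 1) => Antitone μ ∧ ∀ i : Fin r, (i : ℕ) = r - 1 → (μ i : ℕ) = 0),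
      Complex.exp (-(2 * Real.pi * Complex.I * ((∑ i, (μ i : ℕ) : ℕ) : ℂ) * ((∑ j, v j : ℕ) : ℂ) /
          ((r : ℂ) * ((r : ℂ) + k)))) *
      Complex.exp (-(2 * Real.pi * Complex.I * ((∑ i, (k - (μ (Fin.rev i) : ℕ)) : ℕ) : ℂ) *
          ((∑ j, v' j : ℕ) : ℂ) / ((r : ℂ) * ((r : ℂ) + k)))) *
      S (fun i => (μ i : ℕ)) * S' (fun i => k - (μ (Fin.rev i) : ℕ))) = 0 := by
  classical
  haveI : NeZero (r + k) := ⟨by omega⟩
  have hr0 : (r : ℂ) ≠ 0 := Nat.cast_ne_zero.2 (by omega)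
  have hN0 : ((r : ℂ) + k) ≠ 0 := by
    have : ((r + k : ℕ) : ℂ) ≠ 0 := Nat.cast_ne_zero.2 (by omega)
    push_cast at this; exact this
  have hz1 : ∀ j, z j = zeta (r + k) ^ (v j) := fun j => by rw [hz j, exp_eq_zeta_pow]
  have hz1' : ∀ j, z' j = zeta (r + k) ^ (v' j) := fun j => by rw [hz' j, exp_eq_zeta_pow]
  have hden : (Matrix.of fun i j : Fin r => z j ^ (r - 1 - (i : ℕ))).det = A (r + k) (delta r) v :=
    det_eq_A (r + k) (delta r) v z hz1
  have hden' : (Matrix.of fun i j : Fin r => z' j ^ (r - 1 - (i : ℕ))).det = A (r + k) (delta r) v' :=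
    det_eq_A (r + k) (delta r) v' z' hz1'
  set Ad : ℂ := A (r + k) (delta r) v with hAd
  set Ad' : ℂ := A (r + k) (delta r) v' with hAd'
  set Z' : ℂ := zeta (r + k) ^ (∑ j, v' j) with hZ'
  set V : ℕ := ∑ j, v j with hV
  set V' : ℕ := ∑ j, v' j with hV'
  set C : ℕ := ∑ i : Fin r, (r - 1 - (i : ℕ)) with hC
  set D : ℤ := ((∑ i, v i : ℕ) : ℤ) - ((∑ i, v' i : ℕ) : ℤ) with hD
  have hcore := core2 (r + k) (by omega) v v' hv hv' hvlt hv'lt hne
  rw [← hD] at hcore
  -- the constant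
  set K0 : ℂ := Complex.exp (-(2 * Real.pi * Complex.I *
      (((r : ℂ) * k) * (V' : ℂ) - (C : ℂ) * ((V : ℂ) - (V' : ℂ))) / ((r : ℂ) * ((r : ℂ) + k)))) with hK0
  set K1 : ℂ := K0 * eps r * Z'⁻¹ / (Ad * Ad') with hK1
  set F0 : (Fin r → ℕ) → ℂ := fun e =>
    twist (r + k) r D (∑ i, e i) * A (r + k) v e * (starRingEnd ℂ) (A (r + k) v' e) with hF0
  have hsummand : ∀ μ : Fin r → Fin (k + 1),
      Complex.exp (-(2 * Real.pi * Complex.I * ((∑ i, (μ i : ℕ) : ℕ) : ℂ) * ((∑ j, v j : ℕ) : ℂ) /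
          ((r : ℂ) * ((r : ℂ) + k)))) *
      Complex.exp (-(2 * Real.pi * Complex.I * ((∑ i, (k - (μ (Fin.rev i) : ℕ)) : ℕ) : ℂ) *
          ((∑ j, v' j : ℕ) : ℂ) / ((r : ℂ) * ((r : ℂ) + k)))) *
      S (fun i => (μ i : ℕ)) * S' (fun i => k - (μ (Fin.rev i) : ℕ))
      = K1 * F0 (fun i => (μ i : ℕ) + (r - 1 - (i : ℕ))) := by
    intro μ
    have e1 : S (fun i => (μ i : ℕ)) = A (r + k) (fun i => (μ i : ℕ) + (r - 1 - (i : ℕ))) v / Ad := by
      rw [hS, hden]
      congr 1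
      exact det_eq_A (r + k) (fun i => (μ i : ℕ) + (r - 1 - (i : ℕ))) v z hz1
    have e2 : S' (fun i => k - (μ (Fin.rev i) : ℕ))
        = A (r + k) (fun i => r + k - 1 - ((μ (Fin.rev i) : ℕ) + (r - 1 - ((Fin.rev i : Fin r) : ℕ)))) v' / Ad' := by
      rw [hS', hden']
      congr 1
      have hfun : (fun i : Fin r => r + k - 1 - ((μ (Fin.rev i) : ℕ) + (r - 1 - ((Fin.rev i : Fin r) : ℕ))))
          = fun i : Fin r => (k - (μ (Fin.rev i) : ℕ)) + (r - 1 - (i : ℕ)) := by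
        funext i
        have := i.2
        have := (μ (Fin.rev i)).2
        simp only [Fin.val_rev]
        omega
      rw [hfun]
      exact det_eq_A (r + k) (fun i => (k - (μ (Fin.rev i) : ℕ)) + (r - 1 - (i : ℕ))) v' z' hz1'
    have e3 := A_dual (r + k) (fun i => (μ i : ℕ) + (r - 1 - (i : ℕ))) v'
      (fun i => by have := (μ i).2; have := i.2; omega)
    -- sizes
    have hsz : (∑ i, (k - (μ (Fin.rev i) : ℕ))) + (∑ i, (μ i : ℕ)) = r * k := by
      have h1 : ∑ i, (k - (μ (Fin.rev i) : ℕ)) = ∑ i, (k - (μ i : ℕ)) :=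
        Equiv.sum_comp Fin.revPerm (fun i => k - (μ i : ℕ))
      rw [h1, ← Finset.sum_add_distrib]
      have h2 : ∀ i : Fin r, (k - (μ i : ℕ)) + (μ i : ℕ) = k := fun i => by
        have := (μ i).2; omega
      rw [Finset.sum_congr rfl (fun i _ => h2 i)]
      simp
    have hszc : ((∑ i, (k - (μ (Fin.rev i) : ℕ)) : ℕ) : ℂ) = (r : ℂ) * k - ((∑ i, (μ i : ℕ) : ℕ) : ℂ) := by
      have := congrArg (Nat.cast (R := ℂ)) hsz
      push_cast at this ⊢
      linear_combination this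
    have hec : ((∑ i, ((μ i : ℕ) + (r - 1 - (i : ℕ))) : ℕ) : ℂ) = ((∑ i, (μ i : ℕ) : ℕ) : ℂ) + (C : ℂ) := by
      rw [Finset.sum_add_distrib, ← hC]; push_cast; rfl
    have hDc : (D : ℂ) = (V : ℂ) - (V' : ℂ) := by
      rw [hD, hV, hV']; push_cast; rfl
    rw [e1, e2, e3, hF0, hK1, hK0, ← hZ', ← hV, ← hV', hszc]
    simp only []
    rw [A_transpose (r + k) v, A_transpose (r + k) v', twist, hec, hDc]
    rw [← Complex.exp_add]
    set m : ℂ := ((∑ i, (μ i : ℕ) : ℕ) : ℂ) with hm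
    have hexp : Complex.exp (-(2 * Real.pi * Complex.I * m * (V : ℂ) / ((r : ℂ) * ((r : ℂ) + k))) +
        -(2 * Real.pi * Complex.I * ((r : ℂ) * k - m) * (V' : ℂ) / ((r : ℂ) * ((r : ℂ) + k))))
        = Complex.exp (-(2 * Real.pi * Complex.I *
            (((r : ℂ) * k) * (V' : ℂ) - (C : ℂ) * ((V : ℂ) - (V' : ℂ))) / ((r : ℂ) * ((r : ℂ) + k)))) *
          Complex.exp (-(2 * Real.pi * Complex.I * ((V : ℂ) - (V' : ℂ)) * (m + (C : ℂ)) /
            ((r : ℂ) * (((r + k : ℕ) : ℂ))))) := by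
      rw [← Complex.exp_add]
      congr 1
      push_cast
      field_simp
      ring
    rw [hexp]
    ring
  rw [Finset.sum_congr rfl (fun μ _ => hsummand μ), ← Finset.mul_sum]
  -- reduce to the core
  have hsum0 : ∑ μ ∈ (Finset.univ : Finset (Fin r → Fin (k + 1))).filter
        (fun μ : Fin r → Fin (k + 1) => Antitone μ ∧ ∀ i : Fin r, (i : ℕ) = r - 1 → (μ i : ℕ) = 0),
        F0 (fun i => (μ i : ℕ) + (r - 1 - (i : ℕ))) = 0 := by
    set F : (Fin r → ℕ) → ℂ := fun e => if (∀ i : Fin r, (i : ℕ) = r - 1 → e i = 0) then F0 e else 0 with hF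
    have h1 : ∑ μ ∈ (Finset.univ : Finset (Fin r → Fin (k + 1))).filter
        (fun μ : Fin r → Fin (k + 1) => Antitone μ ∧ ∀ i : Fin r, (i : ℕ) = r - 1 → (μ i : ℕ) = 0),
        F0 (fun i => (μ i : ℕ) + (r - 1 - (i : ℕ)))
        = ∑ μ ∈ (Finset.univ : Finset (Fin r → Fin (k + 1))).filter
          (fun μ : Fin r → Fin (k + 1) => Antitone μ), F (fun i => (μ i : ℕ) + (r - 1 - (i : ℕ))) := by
      rw [← Finset.filter_filter, Finset.sum_filter]
      refine Finset.sum_congr rfl fun μ _ => ?_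
      have : (∀ i : Fin r, (i : ℕ) = r - 1 → (μ i : ℕ) = 0) ↔
          (∀ i : Fin r, (i : ℕ) = r - 1 → (μ i : ℕ) + (r - 1 - (i : ℕ)) = 0) := by
        constructor
        · intro h i hi; rw [h i hi, hi]; simp
        · intro h i hi; have := h i hi; omega
      simp only [hF, this]
    rw [h1, sum_antitone_eq_sum_strictAnti (r := r) k (k + 1) (by omega) (le_refl _) F]
    have h2 : ∑ x ∈ (Finset.univ : Finset (Fin r → Fin (r + k))).filter
          (fun x : Fin r → Fin (r + k) => StrictAnti x ∧ ∀ i, (x i : ℕ) < k + 1 + r - 1),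
        F (fun i => (x i : ℕ))
        = ∑ x ∈ (Finset.univ : Finset (Fin r → Fin (r + k))).filter
          (fun x : Fin r → Fin (r + k) => StrictAnti x ∧ ∃ p, x p = 0),
            G2 (r + k) v v' D x := by
      have hset : (Finset.univ : Finset (Fin r → Fin (r + k))).filter
          (fun x : Fin r → Fin (r + k) => StrictAnti x ∧ ∀ i, (x i : ℕ) < k + 1 + r - 1)
          = (Finset.univ : Finset (Fin r → Fin (r + k))).filter
          (fun x : Fin r → Fin (r + k) => StrictAnti x) := by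
        apply Finset.filter_congr
        intro x _
        constructor
        · exact fun h => h.1
        · exact fun h => ⟨h, fun i => by have := (x i).2; omega⟩
      rw [hset]
      conv_rhs => rw [← Finset.filter_filter, Finset.sum_filter]
      refine Finset.sum_congr rfl fun x hx => ?_
      have hxsa : StrictAnti x := (Finset.mem_filter.1 hx).2
      have := exists_eq_zero_iff_last (show 0 < r by omega) hxsa
      simp only [hF, hF0, G2, this]
    rw [h2, hcore]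
  rw [hsum0, mul_zero]

end Groth.Agent.S18378
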