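import Groth.Statements.S18379
import Mathlib
import Groth.Agent.Lib.Helper13.Verl4
-- import your own Groth.Agent.* helpers here

set_option autoImplicit false
open VerlindeComb
open Groth.Agent.Lib.helper13.Verl

namespace Groth.Agent.S18379

/-- Let r, k ≥ 1 be integers. Summing over all integer vectors v with r + k > v_1 > v_2 > ⋯ > v_{r-1} >
v_r = 0, one has Σ_v ∏_{i<j} (2 sin(π (v_i - v_j) / (r + k)))² = r (r + k)^{r-1}; that is, the
genus-zero Verlinde number of rank r and level k with no parabolic points, defined as (r (r +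
k)^{r-1})⁻¹ times this sum, equals 1. Indices are 0-based below: v i stands for v_{i+1}. -/
theorem result (r k : ℕ) (hr : 1 ≤ r) (hk : 1 ≤ k) :
    (∑ v ∈ (Finset.univ : Finset (Fin r → Fin (r + k))).filter
        (fun v : Fin r → Fin (r + k) => StrictAnti v ∧ ∀ i : Fin r, (i : ℕ) = r - 1 → (v i : ℕ) = 0),
      ∏ p ∈ (Finset.univ : Finset (Fin r × Fin r)).filter (fun p => p.1 < p.2),
        ((2 : ℝ) * Real.sin (Real.pi * ((v p.1 : ℕ) - (v p.2 : ℕ) : ℝ) / ((r : ℝ) + k))) ^ 2) =
      (r : ℝ) * ((r : ℝ) + k) ^ (r - 1) := by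
  classical
  haveI : NeZero (r + k) := ⟨by omega⟩
  have hcast : ((r : ℝ) + k) = ((r + k : ℕ) : ℝ) := by push_cast; rfl
  have h1 : ∀ v : Fin r → Fin (r + k),
      (∏ p ∈ (Finset.univ : Finset (Fin r × Fin r)).filter (fun p => p.1 < p.2),
        ((2 : ℝ) * Real.sin (Real.pi * ((v p.1 : ℕ) - (v p.2 : ℕ) : ℝ) / ((r : ℝ) + k))) ^ 2)
      = P (r + k) (fun i => (v i : ℕ)) := by
    intro v
    rw [P, hcast]
  apply Complex.ofReal_injective
  rw [Finset.sum_congr rfl (fun v _ => h1 v), hcast]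
  push_cast
  simp_rw [P_eq]
  have h2 : (Finset.univ : Finset (Fin r → Fin (r + k))).filter
        (fun v : Fin r → Fin (r + k) => StrictAnti v ∧ ∀ i : Fin r, (i : ℕ) = r - 1 → (v i : ℕ) = 0)
      = (Finset.univ : Finset (Fin r → Fin (r + k))).filter
        (fun v : Fin r → Fin (r + k) => StrictAnti v ∧ ∃ p, v p = 0) := by
    apply Finset.filter_congr
    intro v _
    constructor
    · rintro ⟨h, h'⟩; exact ⟨h, (exists_eq_zero_iff_last (by omega) h).2 h'⟩
    · rintro ⟨h, h'⟩; exact ⟨h, (exists_eq_zero_iff_last (by omega) h).1 h'⟩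
  rw [h2, core1 (r + k) (by omega) (delta r) (delta_injective_mod (r + k) (by omega)) 0]
  push_cast
  rfl

end Groth.Agent.S18379
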