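import Groth.Statements.S1838
import Mathlib

set_option autoImplicit false
universe u v
open CycDet

namespace Groth.Agent.S1838


open CycDet IsLocalRing

section
variable {R : Type u} [CommRing R] [IsLocalRing R] {M : Type v} [AddCommGroup M] [Module R M]

theorem mem_sb {l : ℕ} (e : Fin l → M) (j : Fin l) (i : ℕ) (h : (j : ℕ) < i) :
    e j ∈ spanBefore R M e i :=
  Submodule.subset_span ⟨j, h, rfl⟩

theorem sb_le_iff {l : ℕ} (e : Fin l → M) (i : ℕ) (N : Submodule R M) :
    spanBefore R M e i ≤ N ↔ ∀ j : Fin l, (j : ℕ) < i → e j ∈ N := by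
  unfold spanBefore
  rw [Submodule.span_le]
  constructor
  · intro h j hj
    exact h ⟨j, hj, rfl⟩
  · rintro h _ ⟨j, hj, rfl⟩
    exact h j hj

theorem sb_mono {l : ℕ} (e : Fin l → M) {i i' : ℕ} (h : i ≤ i') :
    spanBefore R M e i ≤ spanBefore R M e i' :=
  (sb_le_iff e i _).2 fun j hj => mem_sb e j i' (lt_of_lt_of_le hj h)

theorem sb_congr {l : ℕ} (e e' : Fin l → M) (i : ℕ)
    (h : ∀ j : Fin l, (j : ℕ) < i → e j = e' j) :
    spanBefore R M e i = spanBefore R M e' i := by
  apply le_antisymm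
  · rw [sb_le_iff]
    intro j hj
    rw [h j hj]
    exact mem_sb e' j i hj
  · rw [sb_le_iff]
    intro j hj
    rw [← h j hj]
    exact mem_sb e j i hj

theorem sb_succ {l : ℕ} (e : Fin l → M) (i : Fin l) :
    spanBefore R M e ((i : ℕ) + 1) = spanBefore R M e i ⊔ Submodule.span R {e i} := by
  apply le_antisymm
  · rw [sb_le_iff]
    intro j hj
    rcases Nat.lt_succ_iff_lt_or_eq.1 hj with h | h
    · exact Submodule.mem_sup_left (mem_sb e j i h)
    · have hji : j = i := Fin.ext h
      rw [hji]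
      exact Submodule.mem_sup_right (Submodule.mem_span_singleton_self _)
  · apply sup_le (sb_mono e (Nat.le_succ _))
    rw [Submodule.span_le, Set.singleton_subset_iff]
    exact mem_sb e i _ (Nat.lt_succ_self _)

theorem sb_top {l : ℕ} (e : Fin l → M) :
    spanBefore R M e l = Submodule.span R (Set.range e) := by
  unfold spanBefore
  congr 1
  ext x
  constructor
  · rintro ⟨j, -, rfl⟩
    exact ⟨j, rfl⟩
  · rintro ⟨j, rfl⟩
    exact ⟨j, j.isLt, rfl⟩

/-- Constructor for admissible tuples. -/
def mkAdm {l : ℕ} (e : Fin l → M) (h : IsAdmissible R M e) : Adm R M l := Subtype.mk e h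

theorem sym_zero {l : ℕ} (e : Adm R M l) (a : Fin l) (h : e.1 a ∈ spanBefore R M e.1 a) :
    (Submodule.Quotient.mk (CycDet.sym R M e) : DetOfLen R M l) = 0 :=
  (Submodule.Quotient.mk_eq_zero _).2
    (Submodule.subset_span (Set.mem_union_left _ (Set.mem_union_left _ ⟨e, a, h, rfl⟩)))

theorem sym_b {l : ℕ} (e e' : Adm R M l) (a : Fin l) (c : Rˣ)
    (h1 : ∀ j, j ≠ a → e.1 j = e'.1 j)
    (h2 : e.1 a - (c : R) • e'.1 a ∈ spanBefore R M e.1 a) :
    (Submodule.Quotient.mk (CycDet.sym R M e) : DetOfLen R M l) =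
      IsLocalRing.residue R (c : R) • Submodule.Quotient.mk (CycDet.sym R M e') := by
  have h : (Submodule.Quotient.mk
      (CycDet.sym R M e - IsLocalRing.residue R (c : R) • CycDet.sym R M e') :
      DetOfLen R M l) = 0 :=
    (Submodule.Quotient.mk_eq_zero _).2
      (Submodule.subset_span
        (Set.mem_union_left _ (Set.mem_union_right _ ⟨e, e', a, c, h1, h2, rfl⟩)))
  rw [Submodule.Quotient.mk_sub, Submodule.Quotient.mk_smul, sub_eq_zero] at h
  exact h

theorem sym_c {l : ℕ} (e e' : Adm R M l) (a b : Fin l) (hab : (b : ℕ) + 1 = (a : ℕ))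
    (h1 : ∀ r ∈ maximalIdeal R, r • e.1 a ∈ spanBefore R M e.1 b)
    (h2 : e'.1 = e.1 ∘ Equiv.swap a b) :
    (Submodule.Quotient.mk (CycDet.sym R M e) : DetOfLen R M l) =
      - Submodule.Quotient.mk (CycDet.sym R M e') := by
  have h : (Submodule.Quotient.mk (CycDet.sym R M e + CycDet.sym R M e') :
      DetOfLen R M l) = 0 :=
    (Submodule.Quotient.mk_eq_zero _).2
      (Submodule.subset_span (Set.mem_union_right _ ⟨e, e', a, b, hab, h1, h2, rfl⟩))
  rw [Submodule.Quotient.mk_add] at h
  exact eq_neg_of_add_eq_zero_left h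

theorem swap_lt {l : ℕ} (a b j : Fin l) (k : ℕ) (ha : (a : ℕ) < k) (hb : (b : ℕ) < k)
    (hj : (j : ℕ) < k) : ((Equiv.swap a b j : Fin l) : ℕ) < k := by
  rw [Equiv.swap_apply_def]
  split_ifs
  · exact hb
  · exact ha
  · exact hj

theorem adm_swap {l : ℕ} (g : Fin l → M) (hg : IsAdmissible R M g) (a b : Fin l)
    (hab : (b : ℕ) + 1 = (a : ℕ))
    (h : ∀ r ∈ maximalIdeal R, r • g a ∈ spanBefore R M g b) :
    IsAdmissible R M (g ∘ Equiv.swap a b) := by
  have hfix : ∀ j : Fin l, (j : ℕ) < (b : ℕ) → (g ∘ Equiv.swap a b) j = g j := by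
    intro j hj
    have h1 : j ≠ a := fun h' => by have := congrArg Fin.val h'; omega
    have h2 : j ≠ b := fun h' => by have := congrArg Fin.val h'; omega
    show g (Equiv.swap a b j) = g j
    rw [Equiv.swap_apply_of_ne_of_ne h1 h2]
  have hsb : spanBefore R M (g ∘ Equiv.swap a b) b = spanBefore R M g b :=
    sb_congr _ _ _ hfix
  intro k r hr
  show r • g (Equiv.swap a b k) ∈ spanBefore R M (g ∘ Equiv.swap a b) k
  rcases lt_trichotomy (k : ℕ) (b : ℕ) with hk | hk | hk
  · have h1 : k ≠ a := fun h' => by have := congrArg Fin.val h'; omega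
    have h2 : k ≠ b := fun h' => by have := congrArg Fin.val h'; omega
    rw [Equiv.swap_apply_of_ne_of_ne h1 h2]
    have hsk : spanBefore R M (g ∘ Equiv.swap a b) k = spanBefore R M g k :=
      sb_congr _ _ _ (fun j hj => hfix j (lt_trans hj hk))
    rw [hsk]
    exact hg k r hr
  · have hkb : k = b := Fin.ext hk
    rw [hkb, Equiv.swap_apply_right, hsb]
    exact h r hr
  · by_cases hka : k = a
    · rw [hka, Equiv.swap_apply_left]
      have h1 : r • g b ∈ spanBefore R M (g ∘ Equiv.swap a b) b := by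
        rw [hsb]
        exact hg b r hr
      have hba : (b : ℕ) ≤ (a : ℕ) := by omega
      exact (sb_mono (g ∘ Equiv.swap a b) hba) h1
    · have hkb : k ≠ b := fun h' => by have := congrArg Fin.val h'; omega
      rw [Equiv.swap_apply_of_ne_of_ne hka hkb]
      have hak : (a : ℕ) < (k : ℕ) := by
        have hne : (k : ℕ) ≠ (a : ℕ) := fun h' => hka (Fin.ext h')
        omega
      have hbk : (b : ℕ) < (k : ℕ) := hk
      have hle : spanBefore R M g k ≤ spanBefore R M (g ∘ Equiv.swap a b) k := by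
        rw [sb_le_iff]
        intro j hj
        have hgj : g j = (g ∘ Equiv.swap a b) (Equiv.swap a b j) := by
          show g j = g (Equiv.swap a b (Equiv.swap a b j))
          rw [Equiv.swap_apply_self]
        rw [hgj]
        exact mem_sb _ _ _ (swap_lt a b j k hak hbk hj)
      exact hle (hg k r hr)

theorem adm_update {l : ℕ} (e : Fin l → M) (he : IsAdmissible R M e) (p : Fin l) (x : M) (u : R)
    (hx1 : ∀ r ∈ maximalIdeal R, r • x ∈ spanBefore R M e p)
    (hx2 : e p - u • x ∈ spanBefore R M e p) :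
    IsAdmissible R M (Function.update e p x) := by
  have hfix : ∀ j : Fin l, (j : ℕ) < (p : ℕ) → Function.update e p x j = e j := by
    intro j hj
    have h1 : j ≠ p := fun h' => by have := congrArg Fin.val h'; omega
    exact Function.update_of_ne h1 _ _
  have hsb : spanBefore R M (Function.update e p x) p = spanBefore R M e p :=
    sb_congr _ _ _ hfix
  intro k r hr
  rcases lt_trichotomy (k : ℕ) (p : ℕ) with hk | hk | hk
  · rw [hfix k hk]
    have hsk : spanBefore R M (Function.update e p x) k = spanBefore R M e k :=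
      sb_congr _ _ _ (fun j hj => hfix j (lt_trans hj hk))
    rw [hsk]
    exact he k r hr
  · have hkp : k = p := Fin.ext hk
    rw [hkp, Function.update_self, hsb]
    exact hx1 r hr
  · have hkp : k ≠ p := fun h' => by have := congrArg Fin.val h'; omega
    rw [Function.update_of_ne hkp]
    have hle : spanBefore R M e k ≤ spanBefore R M (Function.update e p x) k := by
      rw [sb_le_iff]
      intro j hj
      by_cases hjp : j = p
      · rw [hjp]
        have h1 : e p - u • x ∈ spanBefore R M (Function.update e p x) k := by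
          have h0 : e p - u • x ∈ spanBefore R M (Function.update e p x) p := by
            rw [hsb]
            exact hx2
          exact (sb_mono (Function.update e p x) (le_of_lt hk)) h0
        have h2 : x ∈ spanBefore R M (Function.update e p x) k := by
          have h0 := mem_sb (R := R) (Function.update e p x) p k hk
          rw [Function.update_self] at h0
          exact h0
        have h3 : e p = (e p - u • x) + u • x := by abel
        rw [h3]
        exact Submodule.add_mem _ h1 (Submodule.smul_mem _ _ h2)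
      · have h0 := mem_sb (R := R) (Function.update e p x) j k hj
        rw [Function.update_of_ne hjp] at h0
        exact h0
    exact hle (he k r hr)

theorem exists_mem_sb (l : ℕ) (hl : Module.length R M = (l : ℕ∞)) (e : Fin l → M)
    (hne : Submodule.span R (Set.range e) ≠ ⊤) : ∃ a : Fin l, e a ∈ spanBefore R M e a := by
  by_contra hcon
  push_neg at hcon
  have hF : StrictMono (fun i : Fin (l + 1 + 1) =>
      if (i : ℕ) ≤ l then spanBefore R M e (i : ℕ) else (⊤ : Submodule R M)) := by
    rw [Fin.strictMono_iff_lt_succ]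
    intro i
    have hi : (i : ℕ) ≤ l := Nat.lt_succ_iff.1 i.isLt
    simp only [Fin.val_castSucc, Fin.val_succ, if_pos hi]
    by_cases hil : (i : ℕ) + 1 ≤ l
    · rw [if_pos hil]
      have hlt : (i : ℕ) < l := hil
      refine lt_of_le_of_ne (sb_mono e (Nat.le_succ _)) ?_
      intro heq
      apply hcon ⟨i, hlt⟩
      show e ⟨i, hlt⟩ ∈ spanBefore R M e (i : ℕ)
      rw [heq]
      exact mem_sb e ⟨i, hlt⟩ _ (Nat.lt_succ_self _)
    · rw [if_neg hil]
      have hil' : (i : ℕ) = l := by omega
      rw [hil', sb_top]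
      exact lt_top_iff_ne_top.2 hne
  have h1 := Order.LTSeries.length_le_krullDim (LTSeries.mk (l + 1) _ hF)
  rw [← Module.coe_length, hl] at h1
  have h3 : l + 1 ≤ l := by exact_mod_cast h1
  omega

theorem move {l : ℕ} (f : Adm R M l) (t : ℕ) (ht : t < l)
    (IH : ∀ e : Adm R M l, (∀ i : Fin l, (i : ℕ) < t + 1 → e.1 i = f.1 i) →
      ∃ r : ResidueField R, (Submodule.Quotient.mk (CycDet.sym R M e) : DetOfLen R M l) =
        r • Submodule.Quotient.mk (CycDet.sym R M f)) :
    ∀ (q : ℕ) (g : Adm R M l) (pp : Fin l), (pp : ℕ) = t + q →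
      (∀ i : Fin l, (i : ℕ) < t → g.1 i = f.1 i) → g.1 pp = f.1 ⟨t, ht⟩ →
      ∃ r : ResidueField R, (Submodule.Quotient.mk (CycDet.sym R M g) : DetOfLen R M l) =
        r • Submodule.Quotient.mk (CycDet.sym R M f) := by
  intro q
  induction q with
  | zero =>
    intro g pp hpp hg hgp
    have hpt : pp = ⟨t, ht⟩ := Fin.ext (by simpa using hpp)
    apply IH g
    intro i hi
    rcases Nat.lt_succ_iff_lt_or_eq.1 hi with h | h
    · exact hg i h
    · have hip : i = pp := Fin.ext (by omega)
      rw [hip, hgp, hpt]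
  | succ q ih =>
    intro g pp hpp hg hgp
    have hb : t + q < l := by have := pp.isLt; omega
    obtain ⟨b, hbdef⟩ : ∃ b : Fin l, b = ⟨t + q, hb⟩ := ⟨_, rfl⟩
    have hbv : (b : ℕ) = t + q := by rw [hbdef]
    have hab : (b : ℕ) + 1 = (pp : ℕ) := by omega
    have hsbt : spanBefore R M g.1 t = spanBefore R M f.1 t := sb_congr _ _ _ hg
    have h1 : ∀ r ∈ maximalIdeal R, r • g.1 pp ∈ spanBefore R M g.1 b := by
      intro r hr
      rw [hgp]
      have h0 : r • f.1 ⟨t, ht⟩ ∈ spanBefore R M f.1 t := f.2 ⟨t, ht⟩ r hr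
      have h' : r • f.1 ⟨t, ht⟩ ∈ spanBefore R M g.1 t := by
        rw [hsbt]
        exact h0
      have htb : t ≤ (b : ℕ) := by omega
      exact (sb_mono g.1 htb) h'
    have hadm : IsAdmissible R M (g.1 ∘ Equiv.swap pp b) := adm_swap g.1 g.2 pp b hab h1
    have hrel := sym_c g (mkAdm _ hadm) pp b hab h1 rfl
    have hA : ∀ i : Fin l, (i : ℕ) < t → (mkAdm _ hadm).1 i = f.1 i := by
      intro i hi
      show g.1 (Equiv.swap pp b i) = f.1 i
      have h1 : i ≠ pp := fun h' => by have := congrArg Fin.val h'; omega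
      have h2 : i ≠ b := fun h' => by have := congrArg Fin.val h'; omega
      rw [Equiv.swap_apply_of_ne_of_ne h1 h2]
      exact hg i hi
    have hB : (mkAdm _ hadm).1 b = f.1 ⟨t, ht⟩ := by
      show g.1 (Equiv.swap pp b b) = f.1 ⟨t, ht⟩
      rw [Equiv.swap_apply_right]
      exact hgp
    obtain ⟨r, hr⟩ := ih (mkAdm _ hadm) b hbv hA hB
    exact ⟨-r, by rw [hrel, hr, neg_smul]⟩

theorem all_mult {l : ℕ} (hl : Module.length R M = (l : ℕ∞)) (f : Adm R M l)
    (hfull : ∀ a : Fin l, f.1 a ∉ spanBefore R M f.1 a) :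
    ∀ (j : ℕ), j ≤ l → ∀ e : Adm R M l, (∀ i : Fin l, (i : ℕ) < l - j → e.1 i = f.1 i) →
      ∃ r : ResidueField R, (Submodule.Quotient.mk (CycDet.sym R M e) : DetOfLen R M l) =
        r • Submodule.Quotient.mk (CycDet.sym R M f) := by
  intro j
  induction j with
  | zero =>
    intro _ e he
    have hef : e = f := by
      apply Subtype.ext
      funext i
      exact he i (by have := i.isLt; omega)
    exact ⟨1, by rw [hef, one_smul]⟩
  | succ j ih =>
    intro hj e he
    have ht : l - (j + 1) < l := by omega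
    obtain ⟨t, htdef⟩ : ∃ t, t = l - (j + 1) := ⟨_, rfl⟩
    rw [← htdef] at he ht
    have hlj : l - j = t + 1 := by omega
    have IH := ih (by omega)
    rw [hlj] at IH
    have hsbt : spanBefore R M e.1 t = spanBefore R M f.1 t := sb_congr _ _ _ he
    by_cases hmem : f.1 ⟨t, ht⟩ ∈ Submodule.span R (Set.range e.1)
    · classical
      have hex : ∃ i, f.1 ⟨t, ht⟩ ∈ spanBefore R M e.1 i := ⟨l, by rw [sb_top]; exact hmem⟩
      obtain ⟨i₀, hi₀⟩ : ∃ i₀, i₀ = Nat.find hex := ⟨_, rfl⟩
      have hP : f.1 ⟨t, ht⟩ ∈ spanBefore R M e.1 i₀ := by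
        rw [hi₀]
        exact Nat.find_spec hex
      have hmin : ∀ i, i < i₀ → f.1 ⟨t, ht⟩ ∉ spanBefore R M e.1 i := by
        intro i hi
        rw [hi₀] at hi
        exact Nat.find_min hex hi
      have hi₀l : i₀ ≤ l := by
        rw [hi₀]
        exact Nat.find_min' hex (by rw [sb_top]; exact hmem)
      have hti : t < i₀ := by
        by_contra hcon
        have hle : i₀ ≤ t := not_lt.1 hcon
        have h1 : f.1 ⟨t, ht⟩ ∈ spanBefore R M e.1 t := (sb_mono e.1 hle) hP
        rw [hsbt] at h1
        exact hfull ⟨t, ht⟩ h1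
      obtain ⟨p, hp⟩ : ∃ p, i₀ = p + 1 := ⟨i₀ - 1, by omega⟩
      have hpl : p < l := by omega
      obtain ⟨pp, hppdef⟩ : ∃ pp : Fin l, pp = ⟨p, hpl⟩ := ⟨_, rfl⟩
      have hppv : (pp : ℕ) = p := by rw [hppdef]
      rw [hp, ← hppv, sb_succ, Submodule.mem_sup] at hP
      obtain ⟨n, hn, z, hz, hnz⟩ := hP
      rw [Submodule.mem_span_singleton] at hz
      obtain ⟨c, rfl⟩ := hz
      have hcu : IsUnit c := by
        by_contra hcon
        have hcm : c ∈ maximalIdeal R := (IsLocalRing.mem_maximalIdeal c).2 hcon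
        have h1 : c • e.1 pp ∈ spanBefore R M e.1 pp := e.2 pp c hcm
        have h2 : f.1 ⟨t, ht⟩ ∈ spanBefore R M e.1 pp := by
          rw [← hnz]
          exact Submodule.add_mem _ hn h1
        rw [hppv] at h2
        exact hmin p (by omega) h2
      obtain ⟨cu, rfl⟩ := hcu
      have hx1 : ∀ r ∈ maximalIdeal R, r • f.1 ⟨t, ht⟩ ∈ spanBefore R M e.1 pp := by
        intro r hr
        have h0 : r • f.1 ⟨t, ht⟩ ∈ spanBefore R M f.1 t := f.2 ⟨t, ht⟩ r hr
        have h1 : r • f.1 ⟨t, ht⟩ ∈ spanBefore R M e.1 t := by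
          rw [hsbt]
          exact h0
        have htp : t ≤ (pp : ℕ) := by omega
        exact (sb_mono e.1 htp) h1
      have hx2 : e.1 pp - ((cu⁻¹ : Rˣ) : R) • f.1 ⟨t, ht⟩ ∈ spanBefore R M e.1 pp := by
        have h1 : e.1 pp - ((cu⁻¹ : Rˣ) : R) • f.1 ⟨t, ht⟩ = - (((cu⁻¹ : Rˣ) : R) • n) := by
          rw [← hnz, smul_add, smul_smul, Units.inv_mul, one_smul]
          abel
        rw [h1]
        exact Submodule.neg_mem _ (Submodule.smul_mem _ _ hn)
      have hadm : IsAdmissible R M (Function.update e.1 pp (f.1 ⟨t, ht⟩)) :=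
        adm_update e.1 e.2 pp _ _ hx1 hx2
      have hrel := sym_b e (mkAdm _ hadm) pp cu⁻¹
        (fun j hj => (Function.update_of_ne hj _ _).symm)
        (by
          show e.1 pp - ((cu⁻¹ : Rˣ) : R) • Function.update e.1 pp (f.1 ⟨t, ht⟩) pp ∈ _
          rw [Function.update_self]
          exact hx2)
      have hpq : (pp : ℕ) = t + (p - t) := by omega
      have hA : ∀ i : Fin l, (i : ℕ) < t → (mkAdm _ hadm).1 i = f.1 i := by
        intro i hi
        show Function.update e.1 pp (f.1 ⟨t, ht⟩) i = f.1 i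
        have hne : i ≠ pp := fun h' => by have := congrArg Fin.val h'; omega
        rw [Function.update_of_ne hne]
        exact he i hi
      have hB : (mkAdm _ hadm).1 pp = f.1 ⟨t, ht⟩ := by
        show Function.update e.1 pp (f.1 ⟨t, ht⟩) pp = f.1 ⟨t, ht⟩
        exact Function.update_self _ _ _
      obtain ⟨r, hr⟩ := move f t ht IH (p - t) (mkAdm _ hadm) pp hpq hA hB
      exact ⟨IsLocalRing.residue R ((cu⁻¹ : Rˣ) : R) * r, by rw [hrel, hr, mul_smul]⟩
    · have hne : Submodule.span R (Set.range e.1) ≠ ⊤ := fun h =>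
        hmem (by rw [h]; exact Submodule.mem_top)
      obtain ⟨a, ha⟩ := exists_mem_sb l hl e.1 hne
      exact ⟨0, by rw [sym_zero e a ha, zero_smul]⟩

theorem rank_le (l : ℕ) (hl : Module.length R M = (l : ℕ∞)) :
    Module.rank (ResidueField R) (DetOfLen R M l) ≤ 1 := by
  rw [rank_le_one_iff]
  have hs : ∀ (e : Adm R M l) (c : ResidueField R),
      (Finsupp.single e c : CycDet.Free R M l) = c • CycDet.sym R M e := by
    intro e c
    rw [CycDet.sym, Finsupp.smul_single, smul_eq_mul, mul_one]
  by_cases hz : ∀ e : Adm R M l,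
      (Submodule.Quotient.mk (CycDet.sym R M e) : DetOfLen R M l) = 0
  · refine ⟨0, fun v => ⟨0, ?_⟩⟩
    obtain ⟨x, rfl⟩ := Submodule.Quotient.mk_surjective _ v
    rw [zero_smul]
    symm
    induction x using Finsupp.induction_linear with
    | zero => exact Submodule.Quotient.mk_zero _
    | add x y hx hy => rw [Submodule.Quotient.mk_add, hx, hy, add_zero]
    | single e c => rw [hs, Submodule.Quotient.mk_smul, hz e, smul_zero]
  · push_neg at hz
    obtain ⟨f, hf⟩ := hz
    have hfull : ∀ a : Fin l, f.1 a ∉ spanBefore R M f.1 a := fun a ha => hf (sym_zero f a ha)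
    refine ⟨Submodule.Quotient.mk (CycDet.sym R M f), fun v => ?_⟩
    obtain ⟨x, rfl⟩ := Submodule.Quotient.mk_surjective _ v
    induction x using Finsupp.induction_linear with
    | zero => exact ⟨0, by rw [zero_smul, Submodule.Quotient.mk_zero]⟩
    | add x y hx hy =>
      obtain ⟨r, hr⟩ := hx
      obtain ⟨s, hs'⟩ := hy
      exact ⟨r + s, by rw [add_smul, hr, hs', Submodule.Quotient.mk_add]⟩
    | single e c =>
      obtain ⟨r, hr⟩ := all_mult hl f hfull l le_rfl e
        (fun i hi => absurd hi (by rw [Nat.sub_self]; exact Nat.not_lt_zero _))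
      exact ⟨c * r, by rw [hs, Submodule.Quotient.mk_smul, hr, mul_smul]⟩

end


/-- For a finite length module M over a local ring with residue field κ, the κ-vector space det_κ(M) of
symbols modulo admissible relations has dimension at most 1. -/
theorem result (R : Type u) [CommRing R] [IsLocalRing R] (M : Type v) [AddCommGroup M] [Module R M] (hM : IsFiniteLength R M) : Module.rank (IsLocalRing.ResidueField R) (CycDet.Det R M) ≤ 1 := by
  have hlen : Module.length R M = ((Module.length R M).toNat : ℕ∞) :=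
    (ENat.natCast_toNat (Module.length_ne_top_iff.2 hM)).symm
  exact rank_le _ hlen


end Groth.Agent.S1838
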