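import Groth.Statements.S18381
import Mathlib
import Groth.Agent.S18377
-- import your own Groth.Agent.* helpers here

set_option autoImplicit false
open Complex
open VerlindeComb

namespace Groth.Agent.S18381

/-- Fix integers r, k ≥ 1. For g ≥ 0, d ∈ ℤ and parabolic data ω given by a finite family of partitions
λ_x with k ≥ λ_{x,1} ≥ ⋯ ≥ λ_{x,r} ≥ 0, write |ω| = Σ_x |λ_x|, z(v)_j = exp(2πi v_j / (r + k)),
S_λ(v) = det(z(v)_j^{λ_i + r - i}) / det(z(v)_j^{r - i}) (Schur value), P(v) = ∏_{i<j} (2 sin(π (v_i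
- v_j)/(r + k)))², and let V_g(r, d, ω) = (-1)^{d(r-1)} (k/r)^g (r (r+k)^{r-1})^{g-1} Σ_v exp(2πi
(d/r - |ω| / (r (r+k))) Σ_j v_j) · ∏_x S_{λ_x}(v) / P(v)^{g-1}, the sum over integer vectors r + k >
v_1 > ⋯ > v_{r-1} > v_r = 0 (the right-hand side of the Verlinde formula; it depends on ω only
through |ω| and the function v ↦ ∏_x S_{λ_x}(v), and is written that way below, with (r
(r+k)^{r-1})^{g-1} as the g-th power divided once and 1/P^{g-1} as P/P^g). Then V_{g+1}(r, d, ω) =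
Σ_μ V_g(r, d, ω^μ), the sum over all μ with k > μ_1 ≥ ⋯ ≥ μ_r ≥ 0, where ω^μ adjoins to ω the two
partitions μ and μ* = (k - μ_r, …, k - μ_1). Indices are 0-based below. -/
theorem result (r k : ℕ) (hr : 1 ≤ r) (hk : 1 ≤ k)
    (g : ℕ) (d : ℤ) (ι : Type) [Fintype ι] (lam : ι → Fin r → ℕ)
    (hlam : ∀ x, Antitone (lam x) ∧ ∀ i, lam x i ≤ k)
    (z : (Fin r → ℕ) → Fin r → ℂ)
    (hz : ∀ v j, z v j = Complex.exp (2 * Real.pi * Complex.I * (v j : ℂ) / ((r : ℂ) + k)))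
    (S : (Fin r → ℕ) → (Fin r → ℕ) → ℂ)
    (hS : ∀ μ v, S μ v = (Matrix.of fun i j : Fin r => z v j ^ (μ i + (r - 1 - (i : ℕ)))).det /
        (Matrix.of fun i j : Fin r => z v j ^ (r - 1 - (i : ℕ))).det)
    (P : (Fin r → ℕ) → ℝ)
    (hP : ∀ v, P v = ∏ p ∈ (Finset.univ : Finset (Fin r × Fin r)).filter (fun p => p.1 < p.2),
        ((2 : ℝ) * Real.sin (Real.pi * ((v p.1 : ℝ) - (v p.2 : ℝ)) / ((r : ℝ) + k))) ^ 2)
    (V : ℕ → ℤ → ℕ → ((Fin r → ℕ) → ℂ) → ℂ)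
    (hV : ∀ (g' : ℕ) (d' : ℤ) (w : ℕ) (Sω : (Fin r → ℕ) → ℂ), V g' d' w Sω =
        (-1 : ℂ) ^ (d' * ((r : ℤ) - 1)) * ((k : ℂ) / r) ^ g' *
          ((((r : ℂ) * ((r : ℂ) + k) ^ (r - 1)) ^ g') / ((r : ℂ) * ((r : ℂ) + k) ^ (r - 1))) *
          ∑ v ∈ (Finset.univ : Finset (Fin r → Fin (r + k))).filter
            (fun v : Fin r → Fin (r + k) => StrictAnti v ∧ ∀ i : Fin r, (i : ℕ) = r - 1 → (v i : ℕ) = 0),
            Complex.exp (2 * Real.pi * Complex.I * ((d' : ℂ) / r - (w : ℂ) / ((r : ℂ) * ((r : ℂ) + k))) *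
                ((∑ j, (v j : ℕ) : ℕ) : ℂ)) *
              Sω (fun j => (v j : ℕ)) *
              (((P (fun j => (v j : ℕ)) : ℂ)) / ((P (fun j => (v j : ℕ)) : ℂ)) ^ g')) :
    V (g + 1) d (∑ x, ∑ i, lam x i) (fun v => ∏ x, S (lam x) v) =
      ∑ μ ∈ (Finset.univ : Finset (Fin r → Fin k)).filter (fun μ : Fin r → Fin k => Antitone μ),
        V g d ((∑ x, ∑ i, lam x i) + (∑ i, (μ i : ℕ)) + (∑ i, (k - (μ (Fin.rev i) : ℕ))))
          (fun v => (∏ x, S (lam x) v) * S (fun i => (μ i : ℕ)) v *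
            S (fun i => k - (μ (Fin.rev i) : ℕ)) v) := by
  classical
  have hr0 : (r : ℂ) ≠ 0 := Nat.cast_ne_zero.2 (by omega)
  have hN0 : ((r : ℂ) + k) ≠ 0 := by
    have : ((r + k : ℕ) : ℂ) ≠ 0 := Nat.cast_ne_zero.2 (by omega)
    push_cast at this; exact this
  set W : ℕ := ∑ x, ∑ i, lam x i with hW
  -- the sizes of μ and its dual add up to r * k
  have hsize : ∀ μ : Fin r → Fin k,
      (∑ i, (μ i : ℕ)) + (∑ i, (k - (μ (Fin.rev i) : ℕ))) = r * k := by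
    intro μ
    have h1 : ∑ i, (k - (μ (Fin.rev i) : ℕ)) = ∑ i, (k - (μ i : ℕ)) :=
      Equiv.sum_comp Fin.revPerm (fun i => k - (μ i : ℕ))
    rw [h1, ← Finset.sum_add_distrib]
    have h2 : ∀ i : Fin r, (μ i : ℕ) + (k - (μ i : ℕ)) = k := fun i => by
      have := (μ i).2; omega
    rw [Finset.sum_congr rfl (fun i _ => h2 i)]
    simp
  -- per-v identity
  have hkey : ∀ v : Fin r → Fin (r + k), StrictAnti v →
      ∑ μ ∈ (Finset.univ : Finset (Fin r → Fin k)).filter (fun μ : Fin r → Fin k => Antitone μ),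
        Complex.exp (2 * Real.pi * Complex.I * ((d : ℂ) / r -
            ((W + (∑ i, (μ i : ℕ)) + (∑ i, (k - (μ (Fin.rev i) : ℕ))) : ℕ) : ℂ) /
              ((r : ℂ) * ((r : ℂ) + k))) * ((∑ j, (v j : ℕ) : ℕ) : ℂ)) *
          ((∏ x, S (lam x) (fun j => (v j : ℕ))) * S (fun i => (μ i : ℕ)) (fun j => (v j : ℕ)) *
            S (fun i => k - (μ (Fin.rev i) : ℕ)) (fun j => (v j : ℕ))) *
          (((P (fun j => (v j : ℕ)) : ℂ)) / ((P (fun j => (v j : ℕ)) : ℂ)) ^ g)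
      = ((k : ℂ) * ((r : ℂ) + k) ^ (r - 1)) *
        (Complex.exp (2 * Real.pi * Complex.I * ((d : ℂ) / r - (W : ℂ) / ((r : ℂ) * ((r : ℂ) + k))) *
                ((∑ j, (v j : ℕ) : ℕ) : ℂ)) *
          (∏ x, S (lam x) (fun j => (v j : ℕ))) *
          (((P (fun j => (v j : ℕ)) : ℂ)) / ((P (fun j => (v j : ℕ)) : ℂ)) ^ (g + 1))) := by
    intro v hv
    have hmain := Groth.Agent.S18377.result r k hr hk (fun j => (v j : ℕ))
      (Fin.val_strictMono.comp_strictAnti hv) (fun i => (v i).2) (z (fun j => (v j : ℕ)))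
      (fun j => hz _ j) (fun μ => S μ (fun j => (v j : ℕ))) (fun μ => hS μ _)
    have hPc : (∏ p ∈ (Finset.univ : Finset (Fin r × Fin r)).filter (fun p => p.1 < p.2),
        (((2 : ℝ) * Real.sin (Real.pi * ((((v p.1 : Fin (r + k)) : ℕ) : ℝ) - (((v p.2 : Fin (r + k)) : ℕ) : ℝ)) /
          ((r : ℝ) + k))) ^ 2 : ℝ) : ℂ) = ((P (fun j => (v j : ℕ)) : ℝ) : ℂ) := by
      rw [hP, Complex.ofReal_prod]
    rw [hPc] at hmain
    set Pc : ℂ := ((P (fun j => (v j : ℕ)) : ℝ) : ℂ) with hPcdef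
    set n : ℂ := ((∑ j, (v j : ℕ) : ℕ) : ℂ) with hn
    set T : ℂ := ∏ x, S (lam x) (fun j => (v j : ℕ)) with hT
    have hexp : ∀ μ : Fin r → Fin k,
        Complex.exp (2 * Real.pi * Complex.I * ((d : ℂ) / r -
            ((W + (∑ i, (μ i : ℕ)) + (∑ i, (k - (μ (Fin.rev i) : ℕ))) : ℕ) : ℂ) /
              ((r : ℂ) * ((r : ℂ) + k))) * n)
        = Complex.exp (2 * Real.pi * Complex.I * ((d : ℂ) / r - (W : ℂ) / ((r : ℂ) * ((r : ℂ) + k))) * n) *
          Complex.exp (-(2 * Real.pi * Complex.I * (k : ℂ) * n / ((r : ℂ) + k))) := by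
      intro μ
      rw [add_assoc, hsize μ, ← Complex.exp_add]
      congr 1
      push_cast
      field_simp
      ring
    simp_rw [hexp]
    have hfac : ∀ μ : Fin r → Fin k,
        Complex.exp (2 * Real.pi * Complex.I * ((d : ℂ) / r - (W : ℂ) / ((r : ℂ) * ((r : ℂ) + k))) * n) *
          Complex.exp (-(2 * Real.pi * Complex.I * (k : ℂ) * n / ((r : ℂ) + k))) *
          (T * S (fun i => (μ i : ℕ)) (fun j => (v j : ℕ)) *
            S (fun i => k - (μ (Fin.rev i) : ℕ)) (fun j => (v j : ℕ))) * (Pc / Pc ^ g)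
        = (Complex.exp (2 * Real.pi * Complex.I * ((d : ℂ) / r - (W : ℂ) / ((r : ℂ) * ((r : ℂ) + k))) * n) *
          Complex.exp (-(2 * Real.pi * Complex.I * (k : ℂ) * n / ((r : ℂ) + k))) * T * (Pc / Pc ^ g)) *
          (S (fun i => (μ i : ℕ)) (fun j => (v j : ℕ)) *
            S (fun i => k - (μ (Fin.rev i) : ℕ)) (fun j => (v j : ℕ))) := by
      intro μ; ring
    rw [Finset.sum_congr rfl (fun μ _ => hfac μ), ← Finset.mul_sum, hmain]
    have hcancel : Complex.exp (-(2 * Real.pi * Complex.I * (k : ℂ) * n / ((r : ℂ) + k))) *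
        Complex.exp (2 * Real.pi * Complex.I * (k : ℂ) * n / ((r : ℂ) + k)) = 1 := by
      rw [← Complex.exp_add, neg_add_cancel, Complex.exp_zero]
    have hdiv : Pc / Pc ^ (g + 1) = Pc / Pc ^ g / Pc := by
      rw [pow_succ, div_mul_eq_div_div]
    rw [hdiv]
    calc _ = (Complex.exp (-(2 * Real.pi * Complex.I * (k : ℂ) * n / ((r : ℂ) + k))) *
        Complex.exp (2 * Real.pi * Complex.I * (k : ℂ) * n / ((r : ℂ) + k))) *
        (Complex.exp (2 * Real.pi * Complex.I * ((d : ℂ) / r - (W : ℂ) / ((r : ℂ) * ((r : ℂ) + k))) * n) *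
          T * (Pc / Pc ^ g / Pc) * ((k : ℂ) * ((r : ℂ) + k) ^ (r - 1))) := by ring
      _ = _ := by rw [hcancel]; ring
  -- assemble
  rw [hV]
  simp_rw [hV]
  rw [← Finset.mul_sum, Finset.sum_comm]
  have hfilter : ∀ v ∈ (Finset.univ : Finset (Fin r → Fin (r + k))).filter
      (fun v : Fin r → Fin (r + k) => StrictAnti v ∧ ∀ i : Fin r, (i : ℕ) = r - 1 → (v i : ℕ) = 0),
      StrictAnti v := fun v hv => (Finset.mem_filter.1 hv).2.1
  rw [Finset.sum_congr rfl (fun v hv => hkey v (hfilter v hv)), ← Finset.mul_sum]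
  have hrN : ((r : ℂ) * ((r : ℂ) + k) ^ (r - 1)) ≠ 0 := mul_ne_zero hr0 (pow_ne_zero _ hN0)
  rw [pow_succ ((k : ℂ) / r), pow_succ ((r : ℂ) * ((r : ℂ) + k) ^ (r - 1))]
  field_simp

end Groth.Agent.S18381
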