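import Groth.Statements.S18384
import Mathlib

set_option autoImplicit false
universe u
open CategoryTheory CategoryTheory.Limits AlgebraicGeometry
open Coherent

namespace Groth.Agent.S18384

/-- `Spec.map θ ≫ hW.fromSpec` on sections over `W`. -/
theorem appLE_specMap_fromSpec {X : Scheme.{u}} {W : X.Opens} (hW : IsAffineOpen W)
    {R : CommRingCat.{u}} (θ : Γ(X, W) ⟶ R)
    (e : (⊤ : (Spec R).Opens) ≤ (Spec.map θ ≫ hW.fromSpec) ⁻¹ᵁ W) :
    (Spec.map θ ≫ hW.fromSpec).appLE W ⊤ e = θ ≫ (Scheme.ΓSpecIso R).inv := by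
  rw [Scheme.Hom.comp_appLE, hW.fromSpec_app_self, Category.assoc, Scheme.Hom.map_appLE]
  have h2 : ∀ e3, (Spec.map θ).appLE ⊤ ⊤ e3 = (Spec.map θ).appTop :=
    fun e3 => Scheme.Hom.appLE_eq_app _
  rw [h2, Scheme.ΓSpecIso_inv_naturality]

theorem key {X S : Scheme.{u}} [IsLocallyNoetherian X] (p : X ⟶ S) (x : X)
    (I : X.IdealSheafData)
    (h : ∀ n : ℕ, ∃ g : pullback p (Spec.map (CommRingCat.ofHom (Ideal.Quotient.mk
        (IsLocalRing.maximalIdeal ↑(S.presheaf.stalk (p.base x)) ^ (n + 1)))) ≫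
          S.fromSpecStalk (p.base x)) ⟶ I.subscheme,
        g ≫ I.subschemeι = pullback.fst p _)
    (W : X.affineOpens) (hxW : x ∈ W.1) (b : Γ(X, W.1)) (hb : b ∈ I.ideal W) :
    X.presheaf.germ W.1 x hxW b = 0 := by
  classical
  set O := X.presheaf.stalk x with hO
  have hK : ∀ n : ℕ, X.presheaf.germ W.1 x hxW b ∈
      (IsLocalRing.maximalIdeal O) ^ (n + 1) := by
    intro n
    set mS := IsLocalRing.maximalIdeal ↑(S.presheaf.stalk (p.base x)) with hmS
    obtain ⟨g, hg⟩ := h n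
    let φ : ↑(S.presheaf.stalk (p.base x)) →+* O := (p.stalkMap x).hom
    haveI : IsLocalHom φ := inferInstanceAs (IsLocalHom (p.stalkMap x).hom)
    let K : Ideal O := Ideal.map φ (mS ^ (n + 1))
    have hKle : K ≤ (IsLocalRing.maximalIdeal O) ^ (n + 1) := by
      have h1 : Ideal.map φ mS ≤ IsLocalRing.maximalIdeal O :=
        ((IsLocalRing.local_hom_TFAE φ).out 0 2).mp ‹IsLocalHom φ›
      calc K = (Ideal.map φ mS) ^ (n + 1) := Ideal.map_pow _ _ _
        _ ≤ _ := Ideal.pow_right_mono h1 _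
    apply hKle
    let ψ : X.presheaf.stalk x ⟶ CommRingCat.of (O ⧸ K) := CommRingCat.ofHom (Ideal.Quotient.mk K)
    let a : Spec (CommRingCat.of (O ⧸ K)) ⟶ X := Spec.map ψ ≫ X.fromSpecStalk x
    let c : Spec (CommRingCat.of (O ⧸ K)) ⟶
        Spec (CommRingCat.of (↑(S.presheaf.stalk (p.base x)) ⧸ mS ^ (n + 1))) :=
      Spec.map (CommRingCat.ofHom (Ideal.quotientMap K φ Ideal.le_comap_map))
    have comm : a ≫ p = c ≫ (Spec.map (CommRingCat.ofHom (Ideal.Quotient.mk (mS ^ (n + 1)))) ≫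
        S.fromSpecStalk (p.base x)) := by
      dsimp only [a, c]
      rw [Category.assoc, ← Scheme.SpecMap_stalkMap_fromSpecStalk, ← Spec.map_comp_assoc,
        ← Spec.map_comp_assoc]
      congr 2
    let ℓ := pullback.lift a c comm
    have hℓ : ℓ ≫ pullback.fst _ _ = a := pullback.lift_fst _ _ _
    have hker : I ≤ a.ker := by
      have h1 : a = (ℓ ≫ g) ≫ I.subschemeι := by
        rw [Category.assoc, hg, hℓ]
      rw [h1]
      conv_lhs => rw [← I.ker_subschemeι]
      exact Scheme.Hom.le_ker_comp _ _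
    have hb' : b ∈ RingHom.ker (a.app W.1).hom := a.ideal_ker_le W (hker W hb)
    have hb0 : (a.app W.1).hom b = 0 := hb'
    have e : (⊤ : (Spec (CommRingCat.of (O ⧸ K))).Opens) ≤ a ⁻¹ᵁ W.1 := by
      intro q _
      change a q ∈ W.1
      have hq : (X.fromSpecStalk x) (Spec.map ψ q) ⤳ x := by
        have := (Scheme.range_fromSpecStalk (X := X) (x := x)).le ⟨Spec.map ψ q, rfl⟩
        exact this
      have : a q = (X.fromSpecStalk x) (Spec.map ψ q) := by
        simp [a]
      rw [this]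
      exact hq.mem_open W.1.2 hxW
    have hLE : (a.appLE W.1 ⊤ e).hom b = 0 := by
      rw [Scheme.Hom.appLE, CommRingCat.hom_comp, RingHom.comp_apply, hb0, map_zero]
    have ha : a = Spec.map (X.presheaf.germ W.1 x hxW ≫ ψ) ≫ W.2.fromSpec := by
      dsimp only [a]
      rw [← W.2.fromSpecStalk_eq_fromSpecStalk hxW, IsAffineOpen.fromSpecStalk,
        Spec.map_comp_assoc]
    have e' : (⊤ : (Spec (CommRingCat.of (O ⧸ K))).Opens) ≤
        (Spec.map (X.presheaf.germ W.1 x hxW ≫ ψ) ≫ W.2.fromSpec) ⁻¹ᵁ W.1 := by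
      rw [← ha]; exact e
    have hLE' : ((Spec.map (X.presheaf.germ W.1 x hxW ≫ ψ) ≫ W.2.fromSpec).appLE W.1 ⊤ e').hom b
        = 0 := by
      convert hLE using 4
      exact ha.symm
    rw [appLE_specMap_fromSpec W.2 _ e'] at hLE'
    have hinj : Function.Injective (Scheme.ΓSpecIso (CommRingCat.of (O ⧸ K))).inv.hom :=
      (ConcreteCategory.bijective_of_isIso (Scheme.ΓSpecIso (CommRingCat.of (O ⧸ K))).inv).1
    have h0 : ψ.hom (X.presheaf.germ W.1 x hxW b) = 0 := by
      apply hinj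
      rw [map_zero]
      exact hLE'
    exact Ideal.Quotient.eq_zero_iff_mem.mp h0
  have hbot := Ideal.iInf_pow_eq_bot_of_isLocalRing (IsLocalRing.maximalIdeal O)
    (IsLocalRing.maximalIdeal.isMaximal O).ne_top
  have hmem : X.presheaf.germ W.1 x hxW b ∈ (⨅ n : ℕ, (IsLocalRing.maximalIdeal O) ^ n) := by
    rw [Ideal.mem_iInf]
    intro n
    cases n with
    | zero => simp
    | succ n => exact hK n
  rw [hbot] at hmem
  exact hmem

theorem exists_affine_vanish {X : Scheme.{u}} [IsLocallyNoetherian X] (x : X)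
    (I : X.IdealSheafData)
    (hx : ∀ (W : X.affineOpens) (hxW : x ∈ W.1) (b : Γ(X, W.1)), b ∈ I.ideal W →
      X.presheaf.germ W.1 x hxW b = 0) :
    ∃ V : X.affineOpens, x ∈ V.1 ∧ I.ideal V = ⊥ := by
  classical
  obtain ⟨_, ⟨W, hW, rfl⟩, hxW, -⟩ :=
    X.isBasis_affineOpens.exists_subset_of_mem_open (Set.mem_univ x) isOpen_univ
  let W' : X.affineOpens := ⟨W, hW⟩
  haveI : IsNoetherianRing Γ(X, W) := IsLocallyNoetherian.component_noetherian W'
  obtain ⟨s, hs⟩ := (isNoetherianRing_iff_ideal_fg Γ(X, W)).mp inferInstance (I.ideal W')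
  have hloc : ∀ b : Γ(X, W), ∃ V : X.Opens, x ∈ V ∧ ∃ hVW : V ≤ W,
      (b ∈ I.ideal W' → X.presheaf.map (homOfLE hVW).op b = 0) := by
    intro b
    by_cases hb : b ∈ I.ideal W'
    · have h0 := hx W' hxW b hb
      have h1 : X.presheaf.germ W x hxW b = X.presheaf.germ W x hxW 0 := by rw [h0, map_zero]
      obtain ⟨V, hxV, iU, iV, hVeq⟩ := X.presheaf.germ_eq x hxW hxW _ _ h1
      refine ⟨V, hxV, iU.le, fun _ => ?_⟩
      rw [map_zero] at hVeq
      exact hVeq
    · exact ⟨W, hxW, le_rfl, fun h => absurd h hb⟩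
  choose V hxV hVW hV0 using hloc
  let T : X.Opens := ⟨⋂ b ∈ s, (V b : Set X), isOpen_biInter_finset fun b _ => (V b).2⟩
  have hxT : x ∈ T := by
    change x ∈ ⋂ b ∈ s, (V b : Set X)
    simp only [Set.mem_iInter]
    intro b _
    exact hxV b
  obtain ⟨f, hfT, hxf⟩ := hW.exists_basicOpen_le (V := T) ⟨x, hxT⟩ hxW
  refine ⟨X.affineBasicOpen (U := W') f, hxf, ?_⟩
  rw [← I.map_ideal_basicOpen W' f]
  refine (Ideal.map_eq_bot_iff_le_ker _).mpr ?_
  rw [← hs, Ideal.span_le]
  intro b hbs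
  have hbI : b ∈ I.ideal W' := by
    rw [← hs]; exact Ideal.subset_span hbs
  have hfV : X.basicOpen f ≤ V b := by
    intro y hy
    have := hfT hy
    change y ∈ ⋂ b ∈ s, (V b : Set X) at this
    simp only [Set.mem_iInter] at this
    exact this b hbs
  change X.presheaf.map (homOfLE (X.basicOpen_le f)).op b = 0
  have : (homOfLE (X.basicOpen_le f)).op = (homOfLE (hVW b)).op ≫ (homOfLE hfV).op := rfl
  rw [this, Functor.map_comp, CommRingCat.comp_apply, hV0 b hbI, map_zero]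

theorem exists_lift_of_bot {X : Scheme.{u}} (I : X.IdealSheafData) (V : X.affineOpens)
    (hV : I.ideal V = ⊥) :
    ∃ g : (V.1 : Scheme.{u}) ⟶ I.subscheme, g ≫ I.subschemeι = V.1.ι := by
  have hbij : Function.Bijective (Ideal.Quotient.mk (I.ideal V)) := by
    refine ⟨?_, Ideal.Quotient.mk_surjective⟩
    rw [injective_iff_map_eq_zero]
    intro a ha
    rw [Ideal.Quotient.eq_zero_iff_mem, hV] at ha
    exact ha
  haveI : IsIso (CommRingCat.ofHom (Ideal.Quotient.mk (I.ideal V))) := by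
    rw [ConcreteCategory.isIso_iff_bijective]
    exact hbij
  haveI : IsIso (Spec.map (CommRingCat.ofHom (Ideal.Quotient.mk (I.ideal V)))) :=
    inferInstanceAs (IsIso (Scheme.Spec.map
      (CommRingCat.ofHom (Ideal.Quotient.mk (I.ideal V))).op))
  haveI : IsIso (I.glueDataObjι V) := by
    rw [Scheme.IdealSheafData.glueDataObjι]
    exact @IsIso.comp_isIso _ _ _ _ _ _ _ this inferInstance
  refine ⟨inv (I.glueDataObjι V) ≫ I.subschemeCover.f V, ?_⟩
  have h1 : I.subschemeCover.f V ≫ I.subschemeι = I.glueDataObjι V ≫ V.1.ι :=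
    I.subschemeCover_map_subschemeι V
  calc (inv (I.glueDataObjι V) ≫ I.subschemeCover.f V) ≫ I.subschemeι
      = inv (I.glueDataObjι V) ≫ (I.subschemeCover.f V ≫ I.subschemeι) := Category.assoc _ _ _
    _ = inv (I.glueDataObjι V) ≫ (I.glueDataObjι V ≫ V.1.ι) :=
        congrArg (inv (I.glueDataObjι V) ≫ ·) h1
    _ = V.1.ι := IsIso.inv_hom_id_assoc _ _

/-- Let p : X → S be a morphism of locally Noetherian schemes, t a point of S, m the maximal ideal of
the local ring O_{S,t}, and Z the closed subscheme of X defined by a quasi-coherent ideal I. Suppose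
that for every n ≥ 1 the projection X ×_S Spec(O_{S,t}/m^n) → X factors through Z. Then there is an
open subscheme U of X containing every point of the fibre p⁻¹(t) such that the inclusion U → X
factors through Z. -/
theorem result {X S : Scheme.{u}}
    [IsLocallyNoetherian X] [IsLocallyNoetherian S] (p : X ⟶ S) (t : S) (I : X.IdealSheafData)
    (h : ∀ n : ℕ, ∃ g : pullback p (Spec.map (CommRingCat.ofHom (Ideal.Quotient.mk
        (IsLocalRing.maximalIdeal ↑(S.presheaf.stalk t) ^ (n + 1)))) ≫ S.fromSpecStalk t) ⟶ I.subscheme,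
        g ≫ I.subschemeι = pullback.fst p _) :
    ∃ U : X.Opens, (∀ x : X, p.base x = t → x ∈ U) ∧
      ∃ g : (U : Scheme.{u}) ⟶ I.subscheme, g ≫ I.subschemeι = U.ι := by
  classical
  let J := {V : X.affineOpens // I.ideal V = ⊥}
  let Uf : J → X.Opens := fun V => V.1.1
  refine ⟨⨆ V : J, Uf V, ?_, ?_⟩
  · intro x hx
    subst hx
    obtain ⟨V, hxV, hV⟩ := exists_affine_vanish x I (fun W hxW b hb => key p x I h W hxW b hb)
    exact TopologicalSpace.Opens.mem_iSup.mpr ⟨⟨V, hV⟩, hxV⟩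
  · have hg : ∀ V : J, ∃ g : ((Uf V : X.Opens) : Scheme.{u}) ⟶ I.subscheme,
        g ≫ I.subschemeι = (Uf V).ι := fun V => exists_lift_of_bot I V.1 V.2
    choose g hg using hg
    let 𝒰 := Scheme.Opens.iSupOpenCover Uf
    refine ⟨𝒰.glueMorphisms g ?_, ?_⟩
    · intro V V'
      have e1 : ∀ V : J, g V ≫ I.subschemeι = 𝒰.f V ≫ (⨆ V : J, Uf V).ι :=
        fun V => (hg V).trans (Scheme.homOfLE_ι X (le_iSup Uf V)).symm
      rw [← cancel_mono I.subschemeι, Category.assoc, Category.assoc]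
      refine (congrArg (pullback.fst (𝒰.f V) (𝒰.f V') ≫ ·) (e1 V)).trans ?_
      refine Eq.trans ?_ (congrArg (pullback.snd (𝒰.f V) (𝒰.f V') ≫ ·) (e1 V')).symm
      exact pullback.condition_assoc _
    · refine 𝒰.hom_ext _ _ fun V => ?_
      rw [Scheme.Cover.ι_glueMorphisms_assoc]
      exact (hg V).trans (Scheme.homOfLE_ι X (le_iSup Uf V)).symm

end Groth.Agent.S18384
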