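import Groth.Statements.S18386
import Mathlib.RingTheory.Ideal.IdempotentFG

set_option autoImplicit false
universe u
open LVCorr

namespace Groth.Agent.S18386

open AlgebraicGeometry in
/-- Let X be a connected Noetherian scheme and I a quasi-coherent sheaf of ideals on X, different from
the structure sheaf, such that I^k = I^(k+1) for some natural number k. Then I^k = 0. -/
theorem result (X : Scheme.{u}) [AlgebraicGeometry.IsNoetherian X]
    [ConnectedSpace X] (I : X.IdealSheafData) (hI : I ≠ ⊤) (k : ℕ)
    (h : I ^ k = I ^ (k + 1)) : I ^ k = ⊥ := by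
  classical
  have hk : k ≠ 0 := by
    rintro rfl
    rw [pow_zero, zero_add, pow_one] at h
    exact hI h.symm
  obtain ⟨J, hJ⟩ : ∃ J, J = I ^ k := ⟨_, rfl⟩
  have hJJ : J * J = J := by
    have hm : ∀ m, I ^ (k + m) = I ^ k := by
      intro m
      induction m with
      | zero => rfl
      | succ m ih => rw [← add_assoc, pow_succ, ih, ← pow_succ, ← h]
    rw [hJ, ← pow_add, hm]
  have hsuppJ : J.support = I.support := by
    rw [hJ]; exact Scheme.IdealSheafData.support_pow I k hk
  rw [← hJ]
  -- idempotent generators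
  have hgen : ∀ U : X.affineOpens, ∃ e : Γ(X, U), IsIdempotentElem e ∧
      J.ideal U = Ideal.span {e} := by
    intro U
    have : IsNoetherianRing Γ(X, U) := IsLocallyNoetherian.component_noetherian U
    apply (Ideal.isIdempotentElem_iff_of_fg _ (IsNoetherian.noetherian _)).mp
    change (J * J).ideal U = J.ideal U
    rw [hJJ]
  have hopen : IsOpen (J.support : Set X) := by
    rw [isOpen_iff_forall_mem_open]
    intro x hx
    obtain ⟨U, hU, hxU, -⟩ := exists_isAffineOpen_mem_and_subset (x := x) (U := ⊤) trivial
    obtain ⟨e, he, hJe⟩ := hgen ⟨U, hU⟩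
    have hdisj : X.basicOpen e ⊓ X.basicOpen (1 - e) = ⊥ := by
      rw [← Scheme.basicOpen_mul, he.mul_one_sub_self, Scheme.basicOpen_zero]
    have hcov : U ≤ X.basicOpen e ⊔ X.basicOpen (1 - e) := by
      have := X.basicOpen_add_le e (1 - e)
      rwa [add_sub_cancel, Scheme.basicOpen_one] at this
    have hzl : X.zeroLocus (U := U) (J.ideal ⟨U, hU⟩) = (↑(X.basicOpen e))ᶜ := by
      rw [hJe, Scheme.zeroLocus_span, Scheme.zeroLocus_singleton]
    refine ⟨X.basicOpen (1 - e), ?_, (X.basicOpen (1 - e)).2, ?_⟩
    · intro y hy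
      have hyU : y ∈ U := X.basicOpen_le _ hy
      change y ∈ J.support
      rw [Scheme.IdealSheafData.mem_support_iff_of_mem (U := ⟨U, hU⟩) hyU, hzl]
      intro hye
      have : y ∈ X.basicOpen e ⊓ X.basicOpen (1 - e) := ⟨hye, hy⟩
      rw [hdisj] at this
      exact this
    · have hxe : x ∉ X.basicOpen e := by
        have hx' : x ∈ J.support := hx
        rw [Scheme.IdealSheafData.mem_support_iff_of_mem (U := ⟨U, hU⟩) hxU, hzl] at hx'
        exact hx'
      rcases hcov hxU with h1 | h1
      · exact absurd h1 hxe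
      · exact h1
  have hclopen : IsClopen (J.support : Set X) := ⟨J.support.isClosed, hopen⟩
  have hne : (J.support : Set X).Nonempty := by
    rw [hsuppJ]
    by_contra hcon
    rw [Set.not_nonempty_iff_eq_empty] at hcon
    apply hI
    rw [← Scheme.IdealSheafData.support_eq_bot_iff]
    exact TopologicalSpace.Closeds.ext hcon
  have huniv : J.support = ⊤ := TopologicalSpace.Closeds.ext (hclopen.eq_univ hne)
  have hnil : J ≤ X.nilradical := by
    rw [← Scheme.IdealSheafData.vanishingIdeal_top,
      ← Scheme.IdealSheafData.le_support_iff_le_vanishingIdeal, huniv]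
  apply Scheme.IdealSheafData.ext
  funext U
  obtain ⟨e, he, hJe⟩ := hgen U
  have hemem : e ∈ J.ideal U := by rw [hJe]; exact Ideal.mem_span_singleton_self e
  have h1 : e ∈ (X.nilradical).ideal U := hnil U hemem
  have h2 : IsNilpotent e := by
    change e ∈ ((⊥ : X.IdealSheafData).ideal U).radical at h1
    rw [Scheme.IdealSheafData.ideal_bot] at h1
    exact h1
  have h3 : e = 0 := he.eq_zero_of_isNilpotent h2
  rw [hJe, h3, Scheme.IdealSheafData.ideal_bot]
  simp

end Groth.Agent.S18386
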