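import Groth.Statements.S18387
import Mathlib.RingTheory.Nakayama
import Mathlib.RingTheory.Jacobson.Ideal
import Mathlib.RingTheory.Noetherian.Basic
import Mathlib.LinearAlgebra.FiniteDimensional.Lemmas

set_option autoImplicit false
universe u
open LVCorr

namespace Groth.Agent.S18387

/-- In the affine form which its proof establishes. Let A be a commutative algebra over a field F which
is finite-dimensional of dimension d over F. Then the d-th power of the nilradical of A vanishes.
(Applied to the fibre algebra A = B/mB of a quasi-finite morphism over a closed point with maximal
ideal m, this says that the d-th power of the radical of mB lies in mB, i.e. the ramification of the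
morphism at that point is at most the degree d of the fibre.) -/
theorem result (F A : Type u) [Field F] [CommRing A] [Algebra F A]
    [FiniteDimensional F A] : nilradical A ^ Module.finrank F A = ⊥ := by
  have hnoeth : IsNoetherianRing A := isNoetherian_of_tower F (inferInstance : IsNoetherian F A)
  set N := nilradical A with hN
  have hjac : N ≤ Ideal.jacobson ⊥ := by
    rw [hN, nilradical]
    exact Ideal.radical_le_jacobson
  -- strictness of the chain
  have hstrict : ∀ k : ℕ, N ^ k ≠ ⊥ → N ^ (k + 1) < N ^ k := by
    intro k hk
    refine lt_of_le_of_ne (Ideal.pow_le_pow_right (Nat.le_succ k)) ?_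
    intro heq
    apply hk
    refine Submodule.eq_bot_of_le_smul_of_le_jacobson_bot N (N ^ k) (IsNoetherian.noetherian _) ?_ hjac
    rw [smul_eq_mul, ← pow_succ', heq]
  have key : ∀ k : ℕ, N ^ k = ⊥ ∨
      Module.finrank F ((N ^ k).restrictScalars F) + k ≤ Module.finrank F A := by
    intro k
    induction k with
    | zero =>
      right
      rw [pow_zero, add_zero, Ideal.one_eq_top]
      exact Submodule.finrank_le _
    | succ k ih =>
      by_cases hk : N ^ k = ⊥
      · left
        rw [pow_succ, hk, Ideal.bot_mul]
      · right
        rcases ih with h0 | h1
        · exact absurd h0 hk
        · have hlt : (N ^ (k + 1)).restrictScalars F < (N ^ k).restrictScalars F := by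
            have := hstrict k hk
            refine lt_of_le_of_ne (fun x hx => this.le hx) ?_
            intro heq
            apply this.ne
            exact Submodule.restrictScalars_injective F A A heq
          have := Submodule.finrank_lt_finrank_of_lt hlt
          omega
  rcases key (Module.finrank F A) with h | h
  · exact h
  · have h0 : Module.finrank F ((N ^ Module.finrank F A).restrictScalars F) = 0 := by omega
    have h1 : (N ^ Module.finrank F A).restrictScalars F = ⊥ := Submodule.finrank_eq_zero.mp h0
    exact (Submodule.restrictScalars_eq_bot_iff F A A).mp h1

end Groth.Agent.S18387
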