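import Groth.Statements.S18389
import Mathlib
-- import your own Groth.Agent.* helpers here

set_option autoImplicit false
universe u
open LVCorr

namespace Groth.Agent.S18389

open AlgebraicGeometry CategoryTheory in
/-- Let j : C → C̄ be an open immersion with dense image and jX : X → X̄ an open immersion, and let c₁ :
C → X and c̄₁ : C̄ → X̄ satisfy j followed by c̄₁ equals c₁ followed by jX, with c̄₁ separated. Let
U be an open subset of X such that c₁⁻¹(U) is dense in C and the restriction c₁⁻¹(U) → U of c₁ is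
proper. Then c̄₁⁻¹(jX(U)) = j(c₁⁻¹(U)) as open subsets of C̄. (In the source all schemes are
separated of finite type over a field, C̄ and X̄ are compactifications of a correspondence and of X,
so that c̄₁ is automatically separated.) -/
theorem result {C Cb X Xb : Scheme.{u}}
    (j : C ⟶ Cb) [IsOpenImmersion j] (hj : DenseRange j.base)
    (jX : X ⟶ Xb) [IsOpenImmersion jX] (c₁ : C ⟶ X) (cb₁ : Cb ⟶ Xb) [IsSeparated cb₁]
    (h : j ≫ cb₁ = c₁ ≫ jX) (U : X.Opens) (hU : Dense ((c₁ ⁻¹ᵁ U : C.Opens) : Set C))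
    [IsProper (c₁ ∣_ U)] :
    cb₁ ⁻¹ᵁ (jX ''ᵁ U) = j ''ᵁ (c₁ ⁻¹ᵁ U) := by
  have hle : c₁ ⁻¹ᵁ U ≤ j ⁻¹ᵁ (cb₁ ⁻¹ᵁ (jX ''ᵁ U)) := by
    intro v hv
    show cb₁.base (j.base v) ∈ jX ''ᵁ U
    have : cb₁.base (j.base v) = jX.base (c₁.base v) := by
      have := congr($(h).base v)
      simpa using this
    rw [this]
    exact ⟨c₁.base v, hv, rfl⟩
  apply le_antisymm
  · -- the hard inclusion
    let g : (c₁ ⁻¹ᵁ U).toScheme ⟶ (cb₁ ⁻¹ᵁ (jX ''ᵁ U)).toScheme := j.resLE _ _ hle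
    have hg : g ≫ (cb₁ ⁻¹ᵁ (jX ''ᵁ U)).ι = (c₁ ⁻¹ᵁ U).ι ≫ j := Scheme.Hom.resLE_comp_ι _ _
    have hcomp : g ≫ (cb₁ ∣_ (jX ''ᵁ U)) = (c₁ ∣_ U) ≫ (jX.isoImage U).hom := by
      rw [← cancel_mono (jX ''ᵁ U).ι]
      simp only [Category.assoc, morphismRestrict_ι, Scheme.Hom.isoImage_hom_ι]
      rw [reassoc_of% hg, h, morphismRestrict_ι_assoc]
    have : IsProper (g ≫ (cb₁ ∣_ (jX ''ᵁ U))) := by
      rw [hcomp]; infer_instance
    have : IsProper g := IsProper.of_comp g (cb₁ ∣_ (jX ''ᵁ U))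
    have hclosed : IsClosed (Set.range g.base) := g.isClosedMap.isClosed_range
    have hdense : Dense (j.base '' (c₁ ⁻¹ᵁ U : Set C)) := hj.dense_image j.continuous hU
    have hgv : ∀ v : (c₁ ⁻¹ᵁ U).toScheme,
        (cb₁ ⁻¹ᵁ (jX ''ᵁ U)).ι.base (g.base v) = j.base ((c₁ ⁻¹ᵁ U).ι.base v) := by
      intro v
      have := congr($(hg).base v)
      simpa using this
    intro w hw
    obtain ⟨w', rfl⟩ : ∃ w' : (cb₁ ⁻¹ᵁ (jX ''ᵁ U)).toScheme,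
        (cb₁ ⁻¹ᵁ (jX ''ᵁ U)).ι.base w' = w := by
      have : w ∈ Set.range (cb₁ ⁻¹ᵁ (jX ''ᵁ U)).ι.base := by
        rw [Scheme.Opens.range_ι]; exact hw
      exact this
    have hmem : w' ∈ Set.range g.base := by
      rw [← hclosed.closure_eq, mem_closure_iff]
      intro O hO hwO
      have hO' : IsOpen ((cb₁ ⁻¹ᵁ (jX ''ᵁ U)).ι.base '' O) :=
        (cb₁ ⁻¹ᵁ (jX ''ᵁ U)).ι.isOpenEmbedding.isOpenMap O hO
      obtain ⟨_, ⟨o, hoO, rfl⟩, ⟨v, hv, hvo⟩⟩ :=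
        hdense.inter_open_nonempty _ hO' ⟨_, ⟨w', hwO, rfl⟩⟩
      obtain ⟨v', rfl⟩ : ∃ v' : (c₁ ⁻¹ᵁ U).toScheme, (c₁ ⁻¹ᵁ U).ι.base v' = v := by
        have : v ∈ Set.range (c₁ ⁻¹ᵁ U).ι.base := by
          rw [Scheme.Opens.range_ι]; exact hv
        exact this
      refine ⟨o, hoO, ⟨v', ?_⟩⟩
      apply (cb₁ ⁻¹ᵁ (jX ''ᵁ U)).ι.isOpenEmbedding.injective
      rw [hgv]
      exact hvo
    obtain ⟨v, rfl⟩ := hmem
    refine ⟨(c₁ ⁻¹ᵁ U).ι.base v, ?_, (hgv v).symm⟩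
    have : (c₁ ⁻¹ᵁ U).ι.base v ∈ Set.range (c₁ ⁻¹ᵁ U).ι.base := ⟨v, rfl⟩
    rw [Scheme.Opens.range_ι] at this
    exact this
  · rintro _ ⟨v, hv, rfl⟩
    exact hle hv

end Groth.Agent.S18389
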