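import Groth.Statements.S1839
import Mathlib
import Groth.Agent.S1838

set_option autoImplicit false
universe u v
open CycDet

namespace Groth.Agent.S1839


open CycDet IsLocalRing
open Groth.Agent.S1838 (mem_sb sb_le_iff sb_mono sb_congr sb_succ sb_top mkAdm sym_zero sym_b sym_c
  swap_lt)

theorem sA_val {k : ℕ} (p : Fin (k + 1)) (j : Fin k) :
    ((p.succAbove j : Fin (k + 1)) : ℕ) =
      if (j : ℕ) < (p : ℕ) then (j : ℕ) else (j : ℕ) + 1 := by
  by_cases h : (j : ℕ) < (p : ℕ)
  · rw [if_pos h, Fin.succAbove_of_castSucc_lt p j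
      (by rw [Fin.lt_def, Fin.val_castSucc]; exact h), Fin.val_castSucc]
  · rw [if_neg h, Fin.succAbove_of_le_castSucc p j
      (by rw [Fin.le_def, Fin.val_castSucc]; exact not_lt.1 h), Fin.val_succ]

theorem X1 {k : ℕ} (a b : Fin (k + 1)) (hab : (b : ℕ) + 1 = (a : ℕ)) (j : Fin k) :
    Equiv.swap a b (a.succAbove j) = b.succAbove j := by
  have ha := sA_val a j
  have hb := sA_val b j
  apply Fin.ext
  rw [Equiv.swap_apply_def]
  split_ifs with h1 h2
  · exact absurd h1 (Fin.succAbove_ne a j)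
  · have h2v : ((a.succAbove j : Fin (k + 1)) : ℕ) = (b : ℕ) := congrArg Fin.val h2
    split_ifs at ha hb <;> omega
  · have h2v : ((a.succAbove j : Fin (k + 1)) : ℕ) ≠ (b : ℕ) := fun h => h2 (Fin.ext h)
    split_ifs at ha hb <;> omega

theorem X2 {k : ℕ} (a b : Fin (k + 1)) (hab : (b : ℕ) + 1 = (a : ℕ)) (j : Fin k) :
    Equiv.swap a b (b.succAbove j) = a.succAbove j := by
  rw [← X1 a b hab j, Equiv.swap_apply_self]

section C
variable {R : Type u} [CommRing R] [IsLocalRing R] {M : Type v} [AddCommGroup M] [Module R M]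

theorem c_low {l : ℕ} (e : Fin l → M) (a b : Fin l) (hab : (b : ℕ) + 1 = (a : ℕ)) (t : ℕ)
    (ht : t ≤ (b : ℕ)) :
    spanBefore R M (e ∘ Equiv.swap a b) t = spanBefore R M e t := by
  apply sb_congr
  intro j hj
  have h1 : j ≠ a := fun h' => by have := congrArg Fin.val h'; omega
  have h2 : j ≠ b := fun h' => by have := congrArg Fin.val h'; omega
  show e (Equiv.swap a b j) = e j
  rw [Equiv.swap_apply_of_ne_of_ne h1 h2]

theorem c_high {l : ℕ} (e : Fin l → M) (a b : Fin l) (hab : (b : ℕ) + 1 = (a : ℕ)) (t : ℕ)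
    (ht : (a : ℕ) < t) :
    spanBefore R M (e ∘ Equiv.swap a b) t = spanBefore R M e t := by
  have hb : (b : ℕ) < t := by omega
  apply le_antisymm
  · rw [sb_le_iff]
    intro j hj
    show e (Equiv.swap a b j) ∈ _
    exact mem_sb e _ t (swap_lt a b j t ht hb hj)
  · rw [sb_le_iff]
    intro j hj
    have hej : e j = (e ∘ Equiv.swap a b) (Equiv.swap a b j) := by
      show e j = e (Equiv.swap a b (Equiv.swap a b j))
      rw [Equiv.swap_apply_self]
    rw [hej]
    exact mem_sb _ _ t (swap_lt a b j t ht hb hj)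

theorem c_facts {l : ℕ} (e e' : Fin l → M) (a b : Fin l) (hab : (b : ℕ) + 1 = (a : ℕ))
    (h2 : e' = e ∘ Equiv.swap a b) :
    (∀ t, t ≤ (b : ℕ) → spanBefore R M e' t = spanBefore R M e t) ∧
    (∀ t, (a : ℕ) < t → spanBefore R M e' t = spanBefore R M e t) ∧
    e' a = e b ∧ e' b = e a ∧ (∀ j, j ≠ a → j ≠ b → e' j = e j) := by
  subst h2
  refine ⟨fun t ht => c_low e a b hab t ht, fun t ht => c_high e a b hab t ht, ?_, ?_, ?_⟩
  · show e (Equiv.swap a b a) = e b
    rw [Equiv.swap_apply_left]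
  · show e (Equiv.swap a b b) = e a
    rw [Equiv.swap_apply_right]
  · intro j h1 h2
    show e (Equiv.swap a b j) = e j
    rw [Equiv.swap_apply_of_ne_of_ne h1 h2]

theorem sbB {l : ℕ} (e e' : Fin l → M) (p : Fin l) (c : Rˣ) (h1 : ∀ j, j ≠ p → e j = e' j)
    (h2 : e p - (c : R) • e' p ∈ spanBefore R M e p) :
    ∀ t, spanBefore R M e t = spanBefore R M e' t := by
  have hp : spanBefore R M e p = spanBefore R M e' p :=
    sb_congr _ _ _ (fun j hj => h1 j (fun h => by rw [h] at hj; exact lt_irrefl _ hj))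
  intro t
  apply le_antisymm
  · rw [sb_le_iff]
    intro j hj
    by_cases hjp : j = p
    · rw [hjp] at hj ⊢
      have h3 : e p = (e p - (c : R) • e' p) + (c : R) • e' p := by abel
      rw [h3]
      refine Submodule.add_mem _ ?_ (Submodule.smul_mem _ _ (mem_sb e' p t hj))
      rw [hp] at h2
      exact sb_mono e' (le_of_lt hj) h2
    · rw [h1 j hjp]
      exact mem_sb e' j t hj
  · rw [sb_le_iff]
    intro j hj
    by_cases hjp : j = p
    · rw [hjp] at hj ⊢
      have h3 : e' p = ((c⁻¹ : Rˣ) : R) • (e p - (e p - (c : R) • e' p)) := by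
        rw [sub_sub_cancel, smul_smul, Units.inv_mul, one_smul]
      rw [h3]
      refine Submodule.smul_mem _ _ (Submodule.sub_mem _ (mem_sb e p t hj) ?_)
      exact sb_mono e (le_of_lt hj) h2
    · rw [← h1 j hjp]
      exact mem_sb e j t hj

end C

section
variable (R : Type u) [CommRing R] [IsLocalRing R] {M : Type v} [AddCommGroup M] [Module R M]

/-- The quotient of `M` by the line spanned by `s`. -/
abbrev Qs (s : M) : Type v := M ⧸ Submodule.span R ({s} : Set M)

/-- The projection to `Qs`. -/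
abbrev pr (s : M) : M →ₗ[R] Qs R s := (Submodule.span R ({s} : Set M)).mkQ

theorem pr_self (s : M) : pr R s s = 0 :=
  (Submodule.Quotient.mk_eq_zero _).2 (Submodule.mem_span_singleton_self s)

/-- Remove the `i`-th entry and project. -/
def red (s : M) {k : ℕ} (e : Fin (k + 1) → M) (i : Fin (k + 1)) : Fin k → Qs R s :=
  fun j => pr R s (e (i.succAbove j))

theorem res_ne_zero (u : Rˣ) : residue R (u : R) ≠ 0 := by
  intro h
  have hm := (IsLocalRing.residue_eq_zero_iff _).1 h
  exact (IsLocalRing.mem_maximalIdeal _).1 hm u.isUnit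

theorem r0 (s : M) {k : ℕ} (e : Fin (k + 1) → M) (i : Fin (k + 1)) (j' : Fin (k + 1))
    (hj' : j' ≠ i) (j : Fin k) (hlt : (j' : ℕ) < ((i.succAbove j : Fin (k + 1)) : ℕ)) :
    pr R s (e j') ∈ spanBefore R (Qs R s) (red R s e i) j := by
  obtain ⟨j'', rfl⟩ := Fin.exists_succAbove_eq hj'
  have h1 := sA_val i j''
  have h2 := sA_val i j
  have hlt' : (j'' : ℕ) < (j : ℕ) := by
    split_ifs at h1 h2 <;> omega
  exact mem_sb (red R s e i) j'' j hlt'

theorem r1 (s : M) {k : ℕ} (e : Fin (k + 1) → M) (i : Fin (k + 1))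
    (hgood : pr R s (e i) ∈ Submodule.map (pr R s) (spanBefore R M e i)) (j : Fin k) :
    spanBefore R M e ((i.succAbove j : Fin (k + 1)) : ℕ) ≤
      Submodule.comap (pr R s) (spanBefore R (Qs R s) (red R s e i) j) := by
  rw [sb_le_iff]
  intro j' hj'
  show pr R s (e j') ∈ spanBefore R (Qs R s) (red R s e i) j
  by_cases hji : j' = i
  · rw [hji]
    have hle : Submodule.map (pr R s) (spanBefore R M e i) ≤
        spanBefore R (Qs R s) (red R s e i) j := by
      rw [Submodule.map_le_iff_le_comap, sb_le_iff]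
      intro j'' hj''
      show pr R s (e j'') ∈ spanBefore R (Qs R s) (red R s e i) j
      have hne : j'' ≠ i := fun h => by rw [h] at hj''; exact lt_irrefl _ hj''
      rw [hji] at hj'
      exact r0 R s e i j'' hne j (lt_trans hj'' hj')
    exact hle hgood
  · exact r0 R s e i j' hji j hj'

theorem red_adm (s : M) {k : ℕ} (e : Fin (k + 1) → M) (he : IsAdmissible R M e)
    (i : Fin (k + 1))
    (hgood : pr R s (e i) ∈ Submodule.map (pr R s) (spanBefore R M e i)) :
    IsAdmissible R (Qs R s) (red R s e i) := by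
  intro j r hr
  have h1 := r1 R s e i hgood j (he (i.succAbove j) r hr)
  have h2 : pr R s (r • e (i.succAbove j)) ∈ spanBefore R (Qs R s) (red R s e i) j := h1
  rw [map_smul] at h2
  exact h2

/-- `i` is the first index at which `s` enters the span. -/
def Hit (s : M) {k : ℕ} (e : Fin (k + 1) → M) (i : Fin (k + 1)) : Prop :=
  s ∈ spanBefore R M e ((i : ℕ) + 1) ∧ s ∉ spanBefore R M e (i : ℕ)

theorem hit_unique (s : M) {k : ℕ} (e : Fin (k + 1) → M) (i j : Fin (k + 1))
    (hi : Hit R s e i) (hj : Hit R s e j) : i = j := by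
  rcases lt_trichotomy (i : ℕ) (j : ℕ) with h | h | h
  · exact absurd (sb_mono e (Nat.succ_le_of_lt h) hi.1) hj.2
  · exact Fin.ext h
  · exact absurd (sb_mono e (Nat.succ_le_of_lt h) hj.1) hi.2

theorem hit_unit (s : M) {k : ℕ} (e : Fin (k + 1) → M) (he : IsAdmissible R M e)
    (i : Fin (k + 1)) (hi : Hit R s e i) :
    ∃ u : Rˣ, s - (u : R) • e i ∈ spanBefore R M e i := by
  have h1 := hi.1
  rw [sb_succ, Submodule.mem_sup] at h1
  obtain ⟨n, hn, z, hz, hnz⟩ := h1
  rw [Submodule.mem_span_singleton] at hz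
  obtain ⟨c, rfl⟩ := hz
  have hcu : IsUnit c := by
    by_contra hcon
    have hcm : c ∈ maximalIdeal R := (IsLocalRing.mem_maximalIdeal c).2 hcon
    have h2 : c • e i ∈ spanBefore R M e i := he i c hcm
    exact hi.2 (by rw [← hnz]; exact Submodule.add_mem _ hn h2)
  obtain ⟨u, rfl⟩ := hcu
  refine ⟨u, ?_⟩
  have h3 : s - (u : R) • e i = n := by rw [← hnz]; abel
  rw [h3]
  exact hn

theorem good_of_unit (s : M) {k : ℕ} (e : Fin (k + 1) → M) (i : Fin (k + 1)) (u : Rˣ)
    (hu : s - (u : R) • e i ∈ spanBefore R M e i) :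
    pr R s (e i) ∈ Submodule.map (pr R s) (spanBefore R M e i) := by
  refine Submodule.mem_map.2 ⟨-(((u⁻¹ : Rˣ) : R) • (s - (u : R) • e i)),
    Submodule.neg_mem _ (Submodule.smul_mem _ _ hu), ?_⟩
  rw [map_neg, map_smul, map_sub, pr_self R s, zero_sub, map_smul, smul_neg, neg_neg, smul_smul,
    Units.inv_mul, one_smul]

theorem unit_unique (s : M) {k : ℕ} (e : Fin (k + 1) → M) (i : Fin (k + 1))
    (hi : Hit R s e i) (u u' : Rˣ)
    (hu : s - (u : R) • e i ∈ spanBefore R M e i)
    (hu' : s - (u' : R) • e i ∈ spanBefore R M e i) :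
    residue R (u : R) = residue R (u' : R) := by
  by_contra hne
  have h1 : ((u' : R) - (u : R)) • e i ∈ spanBefore R M e i := by
    have h0 : ((u' : R) - (u : R)) • e i = (s - (u : R) • e i) - (s - (u' : R) • e i) := by
      rw [sub_smul]; abel
    rw [h0]
    exact Submodule.sub_mem _ hu hu'
  have h2 : IsUnit ((u' : R) - (u : R)) := by
    by_contra hcon
    have hm : (u' : R) - (u : R) ∈ maximalIdeal R := (IsLocalRing.mem_maximalIdeal _).2 hcon
    have h3 := (IsLocalRing.residue_eq_zero_iff _).2 hm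
    rw [map_sub, sub_eq_zero] at h3
    exact hne h3.symm
  obtain ⟨w, hw⟩ := h2
  have h4 : e i ∈ spanBefore R M e i := by
    have h0 : e i = ((w⁻¹ : Rˣ) : R) • (((u' : R) - (u : R)) • e i) := by
      rw [← hw, smul_smul, Units.inv_mul, one_smul]
    rw [h0]
    exact Submodule.smul_mem _ _ h1
  apply hi.2
  have h5 : s = (s - (u : R) • e i) + (u : R) • e i := by abel
  rw [h5]
  exact Submodule.add_mem _ hu (Submodule.smul_mem _ _ h4)

/-- Symbol of an arbitrary tuple (zero when not admissible). -/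
noncomputable def sy {N : Type v} [AddCommGroup N] [Module R N] {k : ℕ} (w : Fin k → N) :
    DetOfLen R N k :=
  @dite _ (IsAdmissible R N w) (Classical.propDecidable _)
    (fun h => Submodule.Quotient.mk (CycDet.sym R N (mkAdm w h))) (fun _ => 0)

theorem sy_eq {N : Type v} [AddCommGroup N] [Module R N] {k : ℕ} (w : Fin k → N)
    (h : IsAdmissible R N w) :
    sy R w = Submodule.Quotient.mk (CycDet.sym R N (mkAdm w h)) := by
  unfold sy
  exact dif_pos h

theorem sy_zero {N : Type v} [AddCommGroup N] [Module R N] {k : ℕ} (w : Fin k → N)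
    (h : IsAdmissible R N w) (j : Fin k) (hj : w j ∈ spanBefore R N w j) : sy R w = 0 := by
  rw [sy_eq R w h]
  exact sym_zero (mkAdm w h) j hj

theorem sy_b {N : Type v} [AddCommGroup N] [Module R N] {k : ℕ} (w w' : Fin k → N)
    (h : IsAdmissible R N w) (h' : IsAdmissible R N w') (p : Fin k) (c : Rˣ)
    (h1 : ∀ j, j ≠ p → w j = w' j) (h2 : w p - (c : R) • w' p ∈ spanBefore R N w p) :
    sy R w = residue R (c : R) • sy R w' := by
  rw [sy_eq R w h, sy_eq R w' h']
  exact sym_b (mkAdm w h) (mkAdm w' h') p c h1 h2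

theorem sy_c {N : Type v} [AddCommGroup N] [Module R N] {k : ℕ} (w w' : Fin k → N)
    (h : IsAdmissible R N w) (h' : IsAdmissible R N w') (a b : Fin k)
    (hab : (b : ℕ) + 1 = (a : ℕ))
    (h1 : ∀ r ∈ maximalIdeal R, r • w a ∈ spanBefore R N w b)
    (h2 : w' = w ∘ Equiv.swap a b) :
    sy R w = - sy R w' := by
  rw [sy_eq R w h, sy_eq R w' h']
  exact sym_c (mkAdm w h) (mkAdm w' h') a b hab h1 h2

/-- The value attached to a hit index and a unit residue. -/
noncomputable def val (s : M) {k : ℕ} (e : Fin (k + 1) → M) (i : Fin (k + 1))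
    (ū : ResidueField R) : DetOfLen R (Qs R s) k :=
  (((-1 : ResidueField R) ^ (i : ℕ)) * ū⁻¹) • sy R (red R s e i)

theorem val_indep (s : M) {k : ℕ} (e : Fin (k + 1) → M) (i i' : Fin (k + 1)) (u u' : Rˣ)
    (h : Hit R s e i) (hu : s - (u : R) • e i ∈ spanBefore R M e i)
    (h' : Hit R s e i') (hu' : s - (u' : R) • e i' ∈ spanBefore R M e i') :
    val R s e i' (residue R (u' : R)) = val R s e i (residue R (u : R)) := by
  have hi := hit_unique R s e i' i h' h
  subst hi
  rw [unit_unique R s e i' h' u' u hu' hu]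

/-- The map on admissible tuples. -/
noncomputable def psi0 (s : M) {k : ℕ} (e : Adm R M (k + 1)) : DetOfLen R (Qs R s) k :=
  @dite _ (∃ (i : Fin (k + 1)) (u : Rˣ), Hit R s e.1 i ∧
      s - (u : R) • e.1 i ∈ spanBefore R M e.1 i)
    (Classical.propDecidable _)
    (fun h => val R s e.1 h.choose (residue R (h.choose_spec.choose : R))) (fun _ => 0)

theorem psi0_hit (s : M) {k : ℕ} (e : Adm R M (k + 1)) (i : Fin (k + 1)) (u : Rˣ)
    (h : Hit R s e.1 i) (hu : s - (u : R) • e.1 i ∈ spanBefore R M e.1 i) :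
    psi0 R s e = val R s e.1 i (residue R (u : R)) := by
  have hex : ∃ (i : Fin (k + 1)) (u : Rˣ), Hit R s e.1 i ∧
      s - (u : R) • e.1 i ∈ spanBefore R M e.1 i := ⟨i, u, h, hu⟩
  unfold psi0
  rw [dif_pos hex]
  exact val_indep R s e.1 i _ u _ h hu hex.choose_spec.choose_spec.1
    hex.choose_spec.choose_spec.2

theorem psi0_none (s : M) {k : ℕ} (e : Adm R M (k + 1)) (h : ∀ i, ¬ Hit R s e.1 i) :
    psi0 R s e = 0 := by
  unfold psi0
  rw [dif_neg]
  rintro ⟨i, u, hi, -⟩
  exact h i hi

theorem psi0_A (s : M) {k : ℕ} (e : Adm R M (k + 1)) (j : Fin (k + 1))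
    (hj : e.1 j ∈ spanBefore R M e.1 j) : psi0 R s e = 0 := by
  by_cases hex : ∃ i, Hit R s e.1 i
  · obtain ⟨i, hi⟩ := hex
    obtain ⟨u, hu⟩ := hit_unit R s e.1 e.2 i hi
    rw [psi0_hit R s e i u hi hu]
    have hgood := good_of_unit R s e.1 i u hu
    have hji : j ≠ i := by
      intro h
      rw [h] at hj
      apply hi.2
      have h5 : s = (s - (u : R) • e.1 i) + (u : R) • e.1 i := by abel
      rw [h5]
      exact Submodule.add_mem _ hu (Submodule.smul_mem _ _ hj)
    obtain ⟨j', rfl⟩ := Fin.exists_succAbove_eq hji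
    have h0 : sy R (red R s e.1 i) = 0 := by
      apply sy_zero R _ (red_adm R s e.1 e.2 i hgood) j'
      exact r1 R s e.1 i hgood j' hj
    unfold val
    rw [h0, smul_zero]
  · push_neg at hex
    exact psi0_none R s e hex

theorem psi0_B (s : M) {k : ℕ} (e e' : Adm R M (k + 1)) (p : Fin (k + 1)) (c : Rˣ)
    (h1 : ∀ j, j ≠ p → e.1 j = e'.1 j)
    (h2 : e.1 p - (c : R) • e'.1 p ∈ spanBefore R M e.1 p) :
    psi0 R s e = residue R (c : R) • psi0 R s e' := by
  have hsb := sbB e.1 e'.1 p c h1 h2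
  have hHit : ∀ i, Hit R s e.1 i ↔ Hit R s e'.1 i := fun i => by
    unfold Hit
    rw [hsb, hsb]
  by_cases hex : ∃ i, Hit R s e.1 i
  · obtain ⟨i, hi⟩ := hex
    have hi' := (hHit i).1 hi
    obtain ⟨u, hu⟩ := hit_unit R s e.1 e.2 i hi
    by_cases hpi : p = i
    · have h1' : ∀ j, j ≠ i → e.1 j = e'.1 j := by rw [← hpi]; exact h1
      have h2' : e.1 i - (c : R) • e'.1 i ∈ spanBefore R M e.1 i := by rw [← hpi]; exact h2
      have hu' : s - ((u * c : Rˣ) : R) • e'.1 i ∈ spanBefore R M e'.1 i := by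
        rw [← hsb]
        have h0 : s - ((u * c : Rˣ) : R) • e'.1 i =
            (s - (u : R) • e.1 i) + (u : R) • (e.1 i - (c : R) • e'.1 i) := by
          rw [Units.val_mul, smul_sub, smul_smul]; abel
        rw [h0]
        exact Submodule.add_mem _ hu (Submodule.smul_mem _ _ h2')
      have hred : red R s e.1 i = red R s e'.1 i := by
        funext j
        show pr R s (e.1 (i.succAbove j)) = pr R s (e'.1 (i.succAbove j))
        rw [h1' _ (Fin.succAbove_ne i j)]
      rw [psi0_hit R s e i u hi hu, psi0_hit R s e' i (u * c) hi' hu']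
      unfold val
      rw [hred, Units.val_mul, map_mul, smul_smul]
      congr 1
      have hcu := res_ne_zero R c
      have huu := res_ne_zero R u
      rw [mul_inv]
      have h3 : (residue R (c : R))⁻¹ * residue R (c : R) = 1 := inv_mul_cancel₀ hcu
      linear_combination (-((-1 : ResidueField R) ^ (i : ℕ)) * (residue R (u : R))⁻¹) * h3
    · have hip : i ≠ p := fun h => hpi h.symm
      obtain ⟨p', hp'⟩ := Fin.exists_succAbove_eq hpi
      have hei : e.1 i = e'.1 i := h1 i hip
      have hu' : s - (u : R) • e'.1 i ∈ spanBefore R M e'.1 i := by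
        rw [← hei, ← hsb]
        exact hu
      have hgood := good_of_unit R s e.1 i u hu
      have hgood' := good_of_unit R s e'.1 i u hu'
      have hrel : sy R (red R s e.1 i) = residue R (c : R) • sy R (red R s e'.1 i) := by
        apply sy_b R _ _ (red_adm R s e.1 e.2 i hgood) (red_adm R s e'.1 e'.2 i hgood') p' c
        · intro j hj
          show pr R s (e.1 (i.succAbove j)) = pr R s (e'.1 (i.succAbove j))
          have hne : i.succAbove j ≠ p := fun h =>
            hj (Fin.succAbove_right_injective (h.trans hp'.symm))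
          rw [h1 _ hne]
        · show pr R s (e.1 (i.succAbove p')) - (c : R) • pr R s (e'.1 (i.succAbove p')) ∈ _
          have h3 : e.1 (i.succAbove p') - (c : R) • e'.1 (i.succAbove p') ∈
              spanBefore R M e.1 ((i.succAbove p' : Fin (k + 1)) : ℕ) := by
            rw [hp']
            exact h2
          have h4 := r1 R s e.1 i hgood p' h3
          have h5 : pr R s (e.1 (i.succAbove p') - (c : R) • e'.1 (i.succAbove p')) ∈
              spanBefore R (Qs R s) (red R s e.1 i) p' := h4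
          rw [map_sub, map_smul] at h5
          exact h5
      rw [psi0_hit R s e i u hi hu, psi0_hit R s e' i u hi' hu']
      unfold val
      rw [hrel, smul_comm]
  · push_neg at hex
    rw [psi0_none R s e hex, psi0_none R s e' (fun i hi => hex i ((hHit i).2 hi)), smul_zero]

theorem psi0_C_far (s : M) {k : ℕ} (e e' : Adm R M (k + 1)) (a b : Fin (k + 1))
    (hab : (b : ℕ) + 1 = (a : ℕ))
    (h1 : ∀ r ∈ maximalIdeal R, r • e.1 a ∈ spanBefore R M e.1 b)
    (h2 : e'.1 = e.1 ∘ Equiv.swap a b)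
    (i : Fin (k + 1)) (hi : Hit R s e.1 i) (hfar : (i : ℕ) < (b : ℕ) ∨ (a : ℕ) < (i : ℕ)) :
    psi0 R s e + psi0 R s e' = 0 := by
  obtain ⟨hlow, hhigh, hea, heb, hoth⟩ := c_facts (R := R) e.1 e'.1 a b hab h2
  obtain ⟨u, hu⟩ := hit_unit R s e.1 e.2 i hi
  have hia : i ≠ a := fun h' => by have := congrArg Fin.val h'; omega
  have hib : i ≠ b := fun h' => by have := congrArg Fin.val h'; omega
  have hei : e'.1 i = e.1 i := hoth i hia hib
  have hsbi : spanBefore R M e'.1 i = spanBefore R M e.1 i := by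
    rcases hfar with h | h
    · exact hlow _ (le_of_lt h)
    · exact hhigh _ h
  have hsbi1 : spanBefore R M e'.1 ((i : ℕ) + 1) = spanBefore R M e.1 ((i : ℕ) + 1) := by
    rcases hfar with h | h
    · exact hlow _ (Nat.succ_le_of_lt h)
    · exact hhigh _ (by omega)
  have hi' : Hit R s e'.1 i := by
    unfold Hit
    rw [hsbi, hsbi1]
    exact hi
  have hu' : s - (u : R) • e'.1 i ∈ spanBefore R M e'.1 i := by
    rw [hei, hsbi]
    exact hu
  have hgood := good_of_unit R s e.1 i u hu
  have hgood' := good_of_unit R s e'.1 i u hu'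
  obtain ⟨a', ha'⟩ := Fin.exists_succAbove_eq (Ne.symm hia)
  obtain ⟨b', hb'⟩ := Fin.exists_succAbove_eq (Ne.symm hib)
  have hab' : (b' : ℕ) + 1 = (a' : ℕ) := by
    have hA := sA_val i a'
    have hB := sA_val i b'
    rw [ha'] at hA
    rw [hb'] at hB
    split_ifs at hA hB <;> omega
  have hred : red R s e'.1 i = red R s e.1 i ∘ Equiv.swap a' b' := by
    funext j
    show pr R s (e'.1 (i.succAbove j)) = pr R s (e.1 (i.succAbove (Equiv.swap a' b' j)))
    have hj : e'.1 (i.succAbove j) = e.1 (Equiv.swap a b (i.succAbove j)) := congrFun h2 _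
    rw [hj, (Fin.succAbove_right_injective (p := i)).map_swap a' b' j, ha', hb']
  have h1' : ∀ r ∈ maximalIdeal R,
      r • red R s e.1 i a' ∈ spanBefore R (Qs R s) (red R s e.1 i) b' := by
    intro r hr
    have h3 : r • e.1 a ∈ spanBefore R M e.1 ((i.succAbove b' : Fin (k + 1)) : ℕ) := by
      rw [hb']
      exact h1 r hr
    have h4 := r1 R s e.1 i hgood b' h3
    have h5 : pr R s (r • e.1 a) ∈ spanBefore R (Qs R s) (red R s e.1 i) b' := h4
    rw [map_smul] at h5
    show r • pr R s (e.1 (i.succAbove a')) ∈ _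
    rw [ha']
    exact h5
  have hrel := sy_c R (red R s e.1 i) (red R s e'.1 i) (red_adm R s e.1 e.2 i hgood)
    (red_adm R s e'.1 e'.2 i hgood') a' b' hab' h1' hred
  rw [psi0_hit R s e i u hi hu, psi0_hit R s e' i u hi' hu']
  unfold val
  rw [hrel, smul_neg, neg_add_cancel]

theorem psi0_C_b (s : M) {k : ℕ} (e e' : Adm R M (k + 1)) (a b : Fin (k + 1))
    (hab : (b : ℕ) + 1 = (a : ℕ))
    (h2 : e'.1 = e.1 ∘ Equiv.swap a b)
    (hi : Hit R s e.1 b) :
    psi0 R s e + psi0 R s e' = 0 := by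
  obtain ⟨hlow, hhigh, hea, heb, hoth⟩ := c_facts (R := R) e.1 e'.1 a b hab h2
  obtain ⟨u, hu⟩ := hit_unit R s e.1 e.2 b hi
  have hbk : (b : ℕ) < k := by have := a.isLt; omega
  obtain ⟨bb, hbb⟩ : ∃ bb : Fin k, (bb : ℕ) = (b : ℕ) := ⟨⟨b, hbk⟩, rfl⟩
  have hσb : b.succAbove bb = a := by
    apply Fin.ext
    have h0 := sA_val b bb
    split_ifs at h0 <;> omega
  have hsbb : spanBefore R M e'.1 b = spanBefore R M e.1 b := hlow _ le_rfl
  have hgood := good_of_unit R s e.1 b u hu
  have hba : (b : ℕ) ≤ ((b.succAbove bb : Fin (k + 1)) : ℕ) := by rw [hσb]; omega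
  have hba' : (b : ℕ) ≤ (a : ℕ) := by omega
  by_cases hq : s ∈ spanBefore R M e'.1 a
  · have hi' : Hit R s e'.1 b := ⟨by rw [hab]; exact hq, by rw [hsbb]; exact hi.2⟩
    obtain ⟨u', hu'⟩ := hit_unit R s e'.1 e'.2 b hi'
    have hgood' := good_of_unit R s e'.1 b u' hu'
    have h0 : sy R (red R s e.1 b) = 0 := by
      apply sy_zero R _ (red_adm R s e.1 e.2 b hgood) bb
      show pr R s (e.1 (b.succAbove bb)) ∈ _
      rw [hσb, ← heb]
      have hle : Submodule.map (pr R s) (spanBefore R M e.1 b) ≤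
          spanBefore R (Qs R s) (red R s e.1 b) bb :=
        Submodule.map_le_iff_le_comap.2 (le_trans (sb_mono e.1 hba) (r1 R s e.1 b hgood bb))
      rw [← hsbb] at hle
      exact hle hgood'
    have h0' : sy R (red R s e'.1 b) = 0 := by
      apply sy_zero R _ (red_adm R s e'.1 e'.2 b hgood') bb
      show pr R s (e'.1 (b.succAbove bb)) ∈ _
      rw [hσb, hea]
      have hle : Submodule.map (pr R s) (spanBefore R M e'.1 b) ≤
          spanBefore R (Qs R s) (red R s e'.1 b) bb :=
        Submodule.map_le_iff_le_comap.2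
          (le_trans (sb_mono e'.1 hba) (r1 R s e'.1 b hgood' bb))
      rw [hsbb] at hle
      exact hle hgood
    rw [psi0_hit R s e b u hi hu, psi0_hit R s e' b u' hi' hu']
    unfold val
    rw [h0, h0', smul_zero, smul_zero, add_zero]
  · have hle1 : (b : ℕ) + 1 ≤ (a : ℕ) + 1 := by omega
    have hi' : Hit R s e'.1 a := by
      refine ⟨?_, hq⟩
      rw [hhigh _ (Nat.lt_add_one _)]
      exact sb_mono e.1 hle1 hi.1
    have hu' : s - (u : R) • e'.1 a ∈ spanBefore R M e'.1 a := by
      rw [hea]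
      have h3 : s - (u : R) • e.1 b ∈ spanBefore R M e'.1 b := by
        rw [hsbb]
        exact hu
      exact sb_mono e'.1 hba' h3
    have hred : red R s e'.1 a = red R s e.1 b := by
      funext j
      show pr R s (e'.1 (a.succAbove j)) = pr R s (e.1 (b.succAbove j))
      have hj : e'.1 (a.succAbove j) = e.1 (Equiv.swap a b (a.succAbove j)) := congrFun h2 _
      rw [hj, X1 a b hab j]
    rw [psi0_hit R s e b u hi hu, psi0_hit R s e' a u hi' hu']
    unfold val
    rw [hred, ← add_smul]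
    have hc : (-1 : ResidueField R) ^ (b : ℕ) * (residue R (u : R))⁻¹ +
        (-1) ^ (a : ℕ) * (residue R (u : R))⁻¹ = 0 := by
      rw [← hab, pow_succ]
      ring
    rw [hc, zero_smul]

theorem psi0_C_a (s : M) {k : ℕ} (e e' : Adm R M (k + 1)) (a b : Fin (k + 1))
    (hab : (b : ℕ) + 1 = (a : ℕ))
    (h2 : e'.1 = e.1 ∘ Equiv.swap a b)
    (hi : Hit R s e.1 a) :
    psi0 R s e + psi0 R s e' = 0 := by
  obtain ⟨hlow, hhigh, hea, heb, hoth⟩ := c_facts (R := R) e.1 e'.1 a b hab h2
  obtain ⟨u₁, hu₁⟩ := hit_unit R s e.1 e.2 a hi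
  have hbk : (b : ℕ) < k := by have := a.isLt; omega
  obtain ⟨bb, hbb⟩ : ∃ bb : Fin k, (bb : ℕ) = (b : ℕ) := ⟨⟨b, hbk⟩, rfl⟩
  have hσa : a.succAbove bb = b := by
    apply Fin.ext
    have h0 := sA_val a bb
    split_ifs at h0 <;> omega
  have hsbb : spanBefore R M e'.1 b = spanBefore R M e.1 b := hlow _ le_rfl
  have hsba : spanBefore R M e.1 a = spanBefore R M e.1 b ⊔ Submodule.span R {e.1 b} := by
    have h0 := sb_succ (R := R) e.1 b
    rw [hab] at h0
    exact h0
  have hsba' : spanBefore R M e'.1 a = spanBefore R M e.1 b ⊔ Submodule.span R {e.1 a} := by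
    have h0 := sb_succ (R := R) e'.1 b
    rw [hab, hsbb, heb] at h0
    exact h0
  have hba : (b : ℕ) ≤ (a : ℕ) := by omega
  by_cases hq : s ∈ spanBefore R M e'.1 a
  · have hnP : s ∉ spanBefore R M e.1 b := fun h => hi.2 (sb_mono e.1 hba h)
    have hi' : Hit R s e'.1 b := ⟨by rw [hab]; exact hq, by rw [hsbb]; exact hnP⟩
    obtain ⟨u₂, hu₂⟩ := hit_unit R s e'.1 e'.2 b hi'
    have hu₂' : s - (u₂ : R) • e.1 a ∈ spanBefore R M e.1 a := by
      have h0 := hu₂
      rw [heb, hsbb] at h0
      exact sb_mono e.1 hba h0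
    have hred : red R s e'.1 b = red R s e.1 a := by
      funext j
      show pr R s (e'.1 (b.succAbove j)) = pr R s (e.1 (a.succAbove j))
      have hj : e'.1 (b.succAbove j) = e.1 (Equiv.swap a b (b.succAbove j)) := congrFun h2 _
      rw [hj, X2 a b hab j]
    rw [psi0_hit R s e a u₂ hi hu₂', psi0_hit R s e' b u₂ hi' hu₂]
    unfold val
    rw [hred, ← add_smul]
    have hc : (-1 : ResidueField R) ^ (a : ℕ) * (residue R (u₂ : R))⁻¹ +
        (-1) ^ (b : ℕ) * (residue R (u₂ : R))⁻¹ = 0 := by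
      rw [← hab, pow_succ]
      ring
    rw [hc, zero_smul]
  · have hi' : Hit R s e'.1 a := by
      refine ⟨?_, hq⟩
      rw [hhigh _ (Nat.lt_add_one _)]
      exact hi.1
    have hu₁c := hu₁
    rw [hsba, Submodule.mem_sup] at hu₁c
    obtain ⟨n₁, hn₁, z, hz, hnz⟩ := hu₁c
    rw [Submodule.mem_span_singleton] at hz
    obtain ⟨x, rfl⟩ := hz
    have hxu : IsUnit x := by
      by_contra hcon
      have hxm : x ∈ maximalIdeal R := (IsLocalRing.mem_maximalIdeal x).2 hcon
      have h3 : x • e.1 b ∈ spanBefore R M e.1 b := e.2 b x hxm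
      apply hq
      rw [hsba', Submodule.mem_sup]
      refine ⟨n₁ + x • e.1 b, Submodule.add_mem _ hn₁ h3, (u₁ : R) • e.1 a,
        Submodule.mem_span_singleton.2 ⟨_, rfl⟩, ?_⟩
      rw [hnz]
      abel
    obtain ⟨xu, rfl⟩ := hxu
    have hx' : s - (xu : R) • e'.1 a ∈ spanBefore R M e'.1 a := by
      rw [hea, hsba', Submodule.mem_sup]
      refine ⟨n₁, hn₁, (u₁ : R) • e.1 a, Submodule.mem_span_singleton.2 ⟨_, rfl⟩, ?_⟩
      linear_combination (norm := module) hnz
    have hgood := good_of_unit R s e.1 a u₁ hu₁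
    have hgood' := good_of_unit R s e'.1 a xu hx'
    have hrel : sy R (red R s e.1 a) =
        residue R ((-(u₁ * xu⁻¹) : Rˣ) : R) • sy R (red R s e'.1 a) := by
      apply sy_b R _ _ (red_adm R s e.1 e.2 a hgood) (red_adm R s e'.1 e'.2 a hgood') bb
      · intro j hj
        show pr R s (e.1 (a.succAbove j)) = pr R s (e'.1 (a.succAbove j))
        have hne : a.succAbove j ≠ b := fun h =>
          hj (Fin.succAbove_right_injective (h.trans hσa.symm))
        rw [hoth _ (Fin.succAbove_ne a j) hne]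
      · show pr R s (e.1 (a.succAbove bb)) -
          ((-(u₁ * xu⁻¹) : Rˣ) : R) • pr R s (e'.1 (a.succAbove bb)) ∈ _
        rw [hσa, heb]
        have hpr := congrArg (pr R s) hnz
        rw [map_add, map_smul, map_sub, pr_self R s, map_smul, zero_sub] at hpr
        have key : pr R s (e.1 b) - ((-(u₁ * xu⁻¹) : Rˣ) : R) • pr R s (e.1 a) =
            pr R s (-(((xu⁻¹ : Rˣ) : R) • n₁)) := by
          rw [map_neg, map_smul, Units.val_neg, Units.val_mul]
          have hxx : ((xu⁻¹ : Rˣ) : R) * (xu : R) = 1 := Units.inv_mul xu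
          linear_combination (norm := module) ((xu⁻¹ : Rˣ) : R) • hpr - hxx • pr R s (e.1 b)
        rw [key]
        have h3 : -(((xu⁻¹ : Rˣ) : R) • n₁) ∈
            spanBefore R M e.1 ((a.succAbove bb : Fin (k + 1)) : ℕ) := by
          rw [hσa]
          exact Submodule.neg_mem _ (Submodule.smul_mem _ _ hn₁)
        exact r1 R s e.1 a hgood bb h3
    rw [psi0_hit R s e a u₁ hi hu₁, psi0_hit R s e' a xu hi' hx']
    unfold val
    rw [hrel, smul_smul, ← add_smul]
    have hc : (-1 : ResidueField R) ^ (a : ℕ) * (residue R (u₁ : R))⁻¹ *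
        residue R ((-(u₁ * xu⁻¹) : Rˣ) : R) +
        (-1) ^ (a : ℕ) * (residue R (xu : R))⁻¹ = 0 := by
      have h₁ := res_ne_zero R u₁
      rw [Units.val_neg, Units.val_mul, map_neg, map_mul, map_units_inv]
      have h3 : (residue R (u₁ : R))⁻¹ * residue R (u₁ : R) = 1 := inv_mul_cancel₀ h₁
      linear_combination
        (-((-1 : ResidueField R) ^ (a : ℕ)) * (residue R (xu : R))⁻¹) * h3
    rw [hc, zero_smul]

theorem psi0_C_hit (s : M) {k : ℕ} (e e' : Adm R M (k + 1)) (a b : Fin (k + 1))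
    (hab : (b : ℕ) + 1 = (a : ℕ))
    (h1 : ∀ r ∈ maximalIdeal R, r • e.1 a ∈ spanBefore R M e.1 b)
    (h2 : e'.1 = e.1 ∘ Equiv.swap a b)
    (i : Fin (k + 1)) (hi : Hit R s e.1 i) :
    psi0 R s e + psi0 R s e' = 0 := by
  rcases lt_trichotomy (i : ℕ) (b : ℕ) with h | h | h
  · exact psi0_C_far R s e e' a b hab h1 h2 i hi (Or.inl h)
  · have hib : i = b := Fin.ext h
    rw [hib] at hi
    exact psi0_C_b R s e e' a b hab h2 hi
  · by_cases hia : i = a
    · rw [hia] at hi
      exact psi0_C_a R s e e' a b hab h2 hi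
    · have hlt : (a : ℕ) < (i : ℕ) := by
        have hne : (i : ℕ) ≠ (a : ℕ) := fun h' => hia (Fin.ext h')
        omega
      exact psi0_C_far R s e e' a b hab h1 h2 i hi (Or.inr hlt)

theorem psi0_C (s : M) {k : ℕ} (e e' : Adm R M (k + 1)) (a b : Fin (k + 1))
    (hab : (b : ℕ) + 1 = (a : ℕ))
    (h1 : ∀ r ∈ maximalIdeal R, r • e.1 a ∈ spanBefore R M e.1 b)
    (h2 : e'.1 = e.1 ∘ Equiv.swap a b) :
    psi0 R s e + psi0 R s e' = 0 := by
  by_cases hex : ∃ i, Hit R s e.1 i
  · obtain ⟨i, hi⟩ := hex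
    exact psi0_C_hit R s e e' a b hab h1 h2 i hi
  · by_cases hex' : ∃ i, Hit R s e'.1 i
    · obtain ⟨i, hi⟩ := hex'
      obtain ⟨hlow, hhigh, hea, heb, hoth⟩ := c_facts (R := R) e.1 e'.1 a b hab h2
      have h2' : e.1 = e'.1 ∘ Equiv.swap a b := by
        rw [h2]
        funext j
        show e.1 j = e.1 (Equiv.swap a b (Equiv.swap a b j))
        rw [Equiv.swap_apply_self]
      have h1' : ∀ r ∈ maximalIdeal R, r • e'.1 a ∈ spanBefore R M e'.1 b := by
        intro r hr
        rw [hea, hlow _ le_rfl]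
        exact e.2 b r hr
      rw [add_comm]
      exact psi0_C_hit R s e' e a b hab h1' h2' i hi
    · push_neg at hex hex'
      rw [psi0_none R s e hex, psi0_none R s e' hex', add_zero]

theorem exists_Psi (s : M) (k : ℕ) :
    ∃ Ψ : DetOfLen R M (k + 1) →ₗ[ResidueField R] DetOfLen R (Qs R s) k,
      ∀ e : Adm R M (k + 1), Ψ (Submodule.Quotient.mk (CycDet.sym R M e)) = psi0 R s e := by
  obtain ⟨φ₀, hφ₀⟩ : ∃ φ₀ : CycDet.Free R M (k + 1) →ₗ[ResidueField R] DetOfLen R (Qs R s) k,
      ∀ e : Adm R M (k + 1), φ₀ (CycDet.sym R M e) = psi0 R s e := by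
    refine ⟨Finsupp.linearCombination (ResidueField R) (fun e : Adm R M (k + 1) => psi0 R s e),
      fun e => ?_⟩
    rw [CycDet.sym, Finsupp.linearCombination_single, one_smul]
  have hker : Submodule.span (ResidueField R) (relSet R M (k + 1)) ≤ LinearMap.ker φ₀ := by
    rw [Submodule.span_le]
    rintro x ((⟨e, a, h, rfl⟩ | ⟨e, e', a, c, h1, h2, rfl⟩) | ⟨e, e', a, b, hab, h1, h2, rfl⟩)
    · show φ₀ _ = 0
      rw [hφ₀]
      exact psi0_A R s e a h
    · show φ₀ _ = 0
      rw [map_sub, map_smul, hφ₀, hφ₀, psi0_B R s e e' a c h1 h2, sub_self]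
    · show φ₀ _ = 0
      rw [map_add, hφ₀, hφ₀]
      exact psi0_C R s e e' a b hab h1 h2
  exact ⟨Submodule.liftQ _ φ₀ hker, fun e => (Submodule.liftQ_apply _ _ _).trans (hφ₀ e)⟩

theorem length_span_singleton_le (x : M) (hx : ∀ r ∈ maximalIdeal R, r • x = 0) :
    Module.length R (Submodule.span R ({x} : Set M)) ≤ 1 := by
  have hr := LinearMap.range_toSpanSingleton (R := R) x
  rw [← hr]
  have hle : (maximalIdeal R : Submodule R R) ≤
      LinearMap.ker (LinearMap.toSpanSingleton R M x) := by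
    intro r hr'
    rw [LinearMap.mem_ker, LinearMap.toSpanSingleton_apply]
    exact hx r hr'
  have h1 : Module.length R (LinearMap.range (LinearMap.toSpanSingleton R M x)) =
      Module.length R (R ⧸ LinearMap.ker (LinearMap.toSpanSingleton R M x)) :=
    (LinearEquiv.length_eq (LinearMap.quotKerEquivRange _)).symm
  have h2 : Module.length R (R ⧸ LinearMap.ker (LinearMap.toSpanSingleton R M x)) ≤
      Module.length R (R ⧸ (maximalIdeal R : Submodule R R)) :=
    Module.length_le_of_surjective (Submodule.factor hle) (Submodule.factor_surjective hle)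
  have h3 : Module.length R (R ⧸ (maximalIdeal R : Submodule R R)) = 1 := by
    rw [Module.length_eq_one_iff, isSimpleModule_iff_isCoatom]
    exact Ideal.isMaximal_def.1 (IsLocalRing.maximalIdeal.isMaximal R)
  rw [h1]
  exact h2.trans h3.le

theorem sb_zero {l : ℕ} (e : Fin l → M) : spanBefore R M e 0 = ⊥ := by
  rw [eq_bot_iff, sb_le_iff]
  intro j hj
  exact absurd hj (Nat.not_lt_zero _)

theorem red_span (s : M) {k : ℕ} (e : Fin (k + 1) → M) (hs : e 0 = s)
    (hspan : Submodule.span R (Set.range e) = ⊤) :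
    Submodule.span R (Set.range (red R s e 0)) = ⊤ := by
  have h1 : Submodule.map (pr R s) ⊤ = ⊤ := by
    rw [Submodule.map_top]
    exact Submodule.range_mkQ _
  rw [eq_top_iff, ← h1, ← hspan, Submodule.map_span, Submodule.span_le]
  rintro _ ⟨_, ⟨j, rfl⟩, rfl⟩
  by_cases hj : j = 0
  · rw [hj, hs, pr_self R s]
    exact Submodule.zero_mem _
  · obtain ⟨j', rfl⟩ := Fin.exists_succAbove_eq hj
    exact Submodule.subset_span ⟨j', rfl⟩

theorem length_add (s : M) :
    Module.length R M = Module.length R (Submodule.span R ({s} : Set M)) +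
      Module.length R (Qs R s) :=
  Module.length_eq_add_of_exact (Submodule.span R ({s} : Set M)).subtype
    (Submodule.span R ({s} : Set M)).mkQ (Submodule.subtype_injective _)
    (Submodule.mkQ_surjective _) (LinearMap.exact_subtype_mkQ _)

theorem good_zero (s : M) {k : ℕ} (e : Fin (k + 1) → M) (hs : e 0 = s) :
    pr R s (e 0) ∈ Submodule.map (pr R s) (spanBefore R M e ((0 : Fin (k + 1)) : ℕ)) := by
  rw [hs, pr_self R s]
  exact Submodule.zero_mem _

theorem kill_zero {k : ℕ} (e : Fin (k + 1) → M) (he : IsAdmissible R M e) :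
    ∀ r ∈ maximalIdeal R, r • e 0 = 0 := by
  intro r hr
  have h1 := he 0 r hr
  have h2 : spanBefore R M e ((0 : Fin (k + 1)) : ℕ) = ⊥ := sb_zero R e
  rw [h2, Submodule.mem_bot] at h1
  exact h1

end

section
variable (R : Type u) [CommRing R] [IsLocalRing R]

theorem upper (k : ℕ) : ∀ (M : Type v) [AddCommGroup M] [Module R M] (e : Fin k → M),
    IsAdmissible R M e → Submodule.span R (Set.range e) = ⊤ →
    Module.length R M ≤ (k : ℕ∞) := by
  induction k with
  | zero =>
    intro M _ _ e _ hspan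
    rw [Set.range_eq_empty, Submodule.span_empty] at hspan
    haveI : Subsingleton (Submodule R M) := subsingleton_of_bot_eq_top hspan
    haveI : Subsingleton M := (Submodule.subsingleton_iff R).1 inferInstance
    rw [Module.length_eq_zero]
    exact zero_le
  | succ k ih =>
    intro M _ _ e he hspan
    obtain ⟨s, hs⟩ : ∃ s, e 0 = s := ⟨_, rfl⟩
    have hkill : ∀ r ∈ maximalIdeal R, r • s = 0 := by
      rw [← hs]
      exact kill_zero R e he
    have hgood := good_zero R s e hs
    have hQ : Module.length R (Qs R s) ≤ (k : ℕ∞) :=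
      ih (Qs R s) (red R s e 0) (red_adm R s e he 0 hgood) (red_span R s e hs hspan)
    have hcyc := length_span_singleton_le R s hkill
    rw [length_add R s]
    calc Module.length R (Submodule.span R ({s} : Set M)) + Module.length R (Qs R s)
        ≤ 1 + (k : ℕ∞) := add_le_add hcyc hQ
      _ = ((k + 1 : ℕ) : ℕ∞) := by rw [Nat.cast_add, Nat.cast_one, add_comm]

theorem main (l : ℕ) : ∀ (M : Type v) [AddCommGroup M] [Module R M],
    Module.length R M = (l : ℕ∞) → ∀ e : Adm R M l, Submodule.span R (Set.range e.1) = ⊤ →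
    (Submodule.Quotient.mk (CycDet.sym R M e) : DetOfLen R M l) ≠ 0 := by
  induction l with
  | zero =>
    intro M _ _ _ e _ h0
    rw [Submodule.Quotient.mk_eq_zero] at h0
    have hrel : relSet R M 0 = ∅ := by
      ext x
      constructor
      · rintro ((⟨_, a, _⟩ | ⟨_, _, a, _⟩) | ⟨_, _, a, _⟩) <;> exact a.elim0
      · intro h
        exact absurd h (Set.notMem_empty _)
    rw [hrel, Submodule.span_empty, Submodule.mem_bot] at h0
    have h1 : (1 : ResidueField R) = 0 := (Finsupp.single_eq_zero.1 h0)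
    exact one_ne_zero h1
  | succ k ih =>
    intro M _ _ hl e hspan
    obtain ⟨s, hs⟩ : ∃ s, e.1 0 = s := ⟨_, rfl⟩
    have hkill : ∀ r ∈ maximalIdeal R, r • s = 0 := by
      rw [← hs]
      exact kill_zero R e.1 e.2
    have hgood := good_zero R s e.1 hs
    have hadm := red_adm R s e.1 e.2 0 hgood
    have hgen := red_span R s e.1 hs hspan
    have hQ : Module.length R (Qs R s) ≤ (k : ℕ∞) := upper R k (Qs R s) (red R s e.1 0) hadm hgen
    have hcyc := length_span_singleton_le R s hkill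
    have hadd := length_add R s
    rw [hl] at hadd
    obtain ⟨a', ha'⟩ := ENat.ne_top_iff_exists.1
      (ne_top_of_le_ne_top (ENat.natCast_ne_top 1) hcyc)
    obtain ⟨b', hb'⟩ := ENat.ne_top_iff_exists.1
      (ne_top_of_le_ne_top (ENat.natCast_ne_top k) hQ)
    rw [← ha', ← hb'] at hadd
    rw [← ha'] at hcyc
    rw [← hb'] at hQ
    have hcyc' : a' ≤ 1 := by exact_mod_cast hcyc
    have hQ' : b' ≤ k := by exact_mod_cast hQ
    have hadd' : k + 1 = a' + b' := by exact_mod_cast hadd
    have ha1 : a' = 1 := by omega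
    have hbk : b' = k := by omega
    have hs0 : s ≠ 0 := by
      intro h0
      rw [h0, Submodule.span_zero_singleton, Module.length_bot] at ha'
      rw [ha1] at ha'
      exact_mod_cast ha'
    have hlQ : Module.length R (Qs R s) = (k : ℕ∞) := by rw [← hb', hbk]
    have hne := ih (Qs R s) hlQ (mkAdm (red R s e.1 0) hadm) hgen
    have hhit : Hit R s e.1 0 := by
      refine ⟨?_, ?_⟩
      · rw [← hs]
        exact mem_sb e.1 0 _ (Nat.lt_add_one _)
      · have h2 : spanBefore R M e.1 ((0 : Fin (k + 1)) : ℕ) = ⊥ := sb_zero R e.1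
        rw [h2, Submodule.mem_bot]
        exact hs0
    have hu : s - ((1 : Rˣ) : R) • e.1 0 ∈ spanBefore R M e.1 ((0 : Fin (k + 1)) : ℕ) := by
      rw [Units.val_one, one_smul, hs, sub_self]
      exact Submodule.zero_mem _
    obtain ⟨Ψ, hΨ⟩ := exists_Psi R s k
    intro h0
    have h1 := hΨ e
    rw [h0, map_zero, psi0_hit R s e 0 1 hhit hu] at h1
    unfold val at h1
    rw [Units.val_one, map_one, inv_one, mul_one, Fin.val_zero, pow_zero, one_smul,
      sy_eq R _ hadm] at h1
    exact hne h1.symm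

end


/-- For a finite length module M over a local ring with residue field κ, the symbol in det_κ(M) of any
admissible tuple of length length(M) whose entries generate M is nonzero. (Together with the rank
bound dim_κ det_κ(M) ≤ 1 this gives dim_κ det_κ(M) = 1.) -/
theorem result (R : Type u) [CommRing R] [IsLocalRing R] (M : Type v) [AddCommGroup M] [Module R M] (hM : IsFiniteLength R M) (e : CycDet.Adm R M (Module.length R M).toNat) (he : Submodule.span R (Set.range e.1) = ⊤) : CycDet.symbol R M e ≠ 0 := by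
  have hlen : Module.length R M = ((Module.length R M).toNat : ℕ∞) :=
    (ENat.natCast_toNat (Module.length_ne_top_iff.2 hM)).symm
  exact main R _ M hlen e he


end Groth.Agent.S1839
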