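import Groth.Statements.S18390
import Mathlib

set_option autoImplicit false
universe u
open LVCorr

namespace Groth.Agent.S18390

theorem map_pow_le_of_le (A' A : Type u) [CommRing A'] [CommRing A]
    (φ : A' →+* A) (I' : Ideal A') (I : Ideal A) (hle : I'.map φ ≤ I) (J' : Ideal A')
    (hJ : J' ≤ I') (j : ℕ) : (J' ^ j).map φ ≤ I ^ j := by
  rw [Ideal.map_pow]
  exact Ideal.pow_right_mono ((Ideal.map_mono hJ).trans hle) j

theorem key (A' A : Type u) [CommRing A'] [CommRing A]
    (φ : A' →+* A) (I' : Ideal A') (I : Ideal A) (hle : I'.map φ ≤ I)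
    (hgen : ∀ a ∈ I', ∃ k : ℕ, φ a ^ k ∈ I ^ (k + 1)) (J' : Ideal A') (hJ' : J'.FG) :
    J' ≤ I' → ∃ K : ℕ, ∀ m : ℕ, (J' ^ (K + m)).map φ ≤ I ^ (K + m + 1) := by
  refine Submodule.fg_induction (R := A') (M := A')
    (motive := fun (J' : Ideal A') _ =>
      J' ≤ I' → ∃ K : ℕ, ∀ m : ℕ, (J' ^ (K + m)).map φ ≤ I ^ (K + m + 1))
    ?_ ?_ J' hJ'
  · intro x hx
    have hxI' : x ∈ I' := hx (Ideal.subset_span rfl)
    obtain ⟨k, hk⟩ := hgen x hxI'
    refine ⟨k, fun m => ?_⟩
    have hφx : φ x ∈ I := hle (Ideal.mem_map_of_mem φ hxI')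
    change ((Ideal.span {x}) ^ (k + m)).map φ ≤ I ^ (k + m + 1)
    rw [Ideal.span_singleton_pow, Ideal.map_span, Set.image_singleton, Ideal.span_le,
      Set.singleton_subset_iff, map_pow]
    have hpa : φ x ^ (k + m) = φ x ^ k * φ x ^ m := pow_add _ _ _
    rw [hpa]
    have h1 : φ x ^ m ∈ I ^ m := Ideal.pow_mem_pow hφx m
    have h2 : φ x ^ k * φ x ^ m ∈ I ^ (k + 1) * I ^ m := Ideal.mul_mem_mul hk h1
    rw [← pow_add] at h2
    have h3 : k + 1 + m = k + m + 1 := by omega
    rw [h3] at h2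
    exact h2
  · intro M₁ M₂ _ _ h₁ h₂ hM
    have hM₁ : M₁ ≤ I' := le_sup_left.trans hM
    have hM₂ : M₂ ≤ I' := le_sup_right.trans hM
    obtain ⟨K₁, hK₁⟩ := h₁ hM₁
    obtain ⟨K₂, hK₂⟩ := h₂ hM₂
    refine ⟨K₁ + K₂, fun m => ?_⟩
    rw [Ideal.map_le_iff_le_comap]
    change ((M₁ : Ideal A') ⊔ M₂) ^ (K₁ + K₂ + m) ≤ _
    rw [← Ideal.add_eq_sup, add_pow, Ideal.sum_eq_sup]
    apply Finset.sup_le
    intro i hi
    rw [Finset.mem_range] at hi
    refine Ideal.mul_le_left.trans ?_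
    rw [← Ideal.map_le_iff_le_comap, Ideal.map_mul]
    by_cases hn : K₁ ≤ i
    · obtain ⟨m', rfl⟩ : ∃ m', i = K₁ + m' := ⟨i - K₁, by omega⟩
      have h1 := hK₁ m'
      have h2 := map_pow_le_of_le A' A φ I' I hle M₂ hM₂ (K₁ + K₂ + m - (K₁ + m'))
      have h3 := Ideal.mul_mono h1 h2
      rw [← pow_add] at h3
      have h4 : K₁ + m' + 1 + (K₁ + K₂ + m - (K₁ + m')) = K₁ + K₂ + m + 1 := by omega
      rw [h4] at h3
      exact h3
    · obtain ⟨m', hm'⟩ : ∃ m', K₁ + K₂ + m - i = K₂ + m' := ⟨K₁ + m - i, by omega⟩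
      have h1 := hK₂ m'
      have h2 := map_pow_le_of_le A' A φ I' I hle M₁ hM₁ i
      have h3 := Ideal.mul_mono h2 h1
      rw [← pow_add] at h3
      have h4 : i + (K₂ + m' + 1) = K₁ + K₂ + m + 1 := by omega
      rw [h4, ← hm'] at h3
      exact h3

/-- In the affine, ring-theoretic form which its proof establishes. Let φ : A' → A be a ring
homomorphism, I' a finitely generated ideal of A' and I an ideal of A containing the image of I'.
Then some power I'^k is mapped into I^(k+1) if and only if for every n ≥ 1 and every a ∈ I'^n there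
is a k with φ(a)^k ∈ I^(nk+1). (Geometrically, for a morphism f : (X, Z) → (X', Z') of pairs with Z
a closed subscheme of the preimage of Z', the normal cone of Z in X is the spectrum of the
associated graded algebra of I, and the second condition says that the induced map of normal cones
sends the normal cone of Z set-theoretically into the zero section Z'; the source states the
equivalence in that language.) -/
theorem result (A' A : Type u) [CommRing A'] [CommRing A]
    (φ : A' →+* A) (I' : Ideal A') (hI' : I'.FG) (I : Ideal A) (hle : I'.map φ ≤ I) :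
    (∃ k : ℕ, (I' ^ k).map φ ≤ I ^ (k + 1)) ↔
      ∀ n : ℕ, 1 ≤ n → ∀ a ∈ I' ^ n, ∃ k : ℕ, 1 ≤ k ∧ φ a ^ k ∈ I ^ (n * k + 1) := by
  constructor
  · rintro ⟨k, hk⟩ n hn a ha
    rcases Nat.eq_zero_or_pos k with h0 | hpos
    · subst h0
      have htop : I = ⊤ := by
        rw [Ideal.eq_top_iff_one]
        have h1 : (1 : A) ∈ (I' ^ 0).map φ := by
          rw [pow_zero, Ideal.one_eq_top, Ideal.map_top]
          trivial
        have h2 := hk h1
        rwa [zero_add, pow_one] at h2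
      refine ⟨1, le_rfl, ?_⟩
      rw [htop, Ideal.top_pow]
      trivial
    · refine ⟨k, hpos, ?_⟩
      have h1 : a ^ k ∈ (I' ^ k) ^ n := by
        rw [← pow_mul, mul_comm]
        rw [pow_mul]
        exact Ideal.pow_mem_pow ha k
      have h2 : φ (a ^ k) ∈ ((I' ^ k) ^ n).map φ := Ideal.mem_map_of_mem φ h1
      rw [Ideal.map_pow] at h2
      have h3 := Ideal.pow_right_mono hk n h2
      rw [← pow_mul] at h3
      rw [map_pow] at h3
      have h4 : n * k + 1 ≤ (k + 1) * n := by nlinarith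
      exact Ideal.pow_le_pow_right h4 h3
  · intro h
    have hgen : ∀ a ∈ I', ∃ k : ℕ, φ a ^ k ∈ I ^ (k + 1) := by
      intro a ha
      obtain ⟨k, _, hk⟩ := h 1 le_rfl a (by rwa [pow_one])
      rw [one_mul] at hk
      exact ⟨k, hk⟩
    obtain ⟨K, hK⟩ := key A' A φ I' I hle hgen I' hI' le_rfl
    exact ⟨K, by simpa using hK 0⟩

end Groth.Agent.S18390
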