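import Groth.Statements.S18391
import Mathlib

set_option autoImplicit false
universe u
open LVCorr

namespace Groth.Agent.S18391

lemma dvr_of_height_one (A : Type u) [CommRing A] [IsDomain A] [IsNoetherianRing A]
    [IsIntegrallyClosed A] (P : Ideal A) [P.IsPrime] (hP : P.height = 1) :
    IsDiscreteValuationRing (Localization.AtPrime P) := by
  have hic : IsIntegrallyClosed (Localization.AtPrime P) :=
    isIntegrallyClosed_of_isLocalization _ P.primeCompl P.primeCompl_le_nonZeroDivisors
  have hdim : ringKrullDim (Localization.AtPrime P) = 1 := by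
    rw [IsLocalization.AtPrime.ringKrullDim_eq_height P, hP]
    rfl
  have hd1 : Ring.KrullDimLE 1 (Localization.AtPrime P) := by
    rw [Ring.krullDimLE_iff]
    exact hdim.le
  have hnf : ¬ IsField (Localization.AtPrime P) := by
    intro hf
    have h0 := ringKrullDim_eq_zero_of_isField hf
    rw [hdim] at h0
    exact one_ne_zero h0
  have hmne : IsLocalRing.maximalIdeal (Localization.AtPrime P) ≠ ⊥ :=
    IsLocalRing.isField_iff_maximalIdeal_eq.not.mp hnf
  have h03 := (IsDiscreteValuationRing.TFAE (Localization.AtPrime P) hnf).out 0 3
  rw [h03]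
  refine ⟨hic, IsLocalRing.maximalIdeal _, ⟨hmne, inferInstance⟩, ?_⟩
  rintro Q ⟨hQ0, hQp⟩
  exact IsLocalRing.eq_maximalIdeal (hQp.isMaximal_of_ne_bot hQ0)


/-- Let A be a normal (integrally closed) Noetherian domain and z an element of A such that the radical
of the principal ideal (z) is prime. Then there exist elements w, t of A and a natural number r,
with w not in the radical of (z), such that in the localization A[1/w] the ideal generated by z
equals the ideal generated by t^r and the ideal generated by t is prime. (The condition on w is the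
one the printed proof produces and the later use of the lemma needs.) -/
theorem result (A : Type u) [CommRing A] [IsDomain A]
    [IsNoetherianRing A] [IsIntegrallyClosed A] (z : A) (hz : (Ideal.span {z}).radical.IsPrime) :
    ∃ (w t : A) (r : ℕ), w ∉ (Ideal.span {z}).radical ∧
      Ideal.span {algebraMap A (Localization.Away w) z} =
        Ideal.span {algebraMap A (Localization.Away w) t ^ r} ∧
      (Ideal.span {algebraMap A (Localization.Away w) t}).IsPrime := by
  classical
  by_cases hz0 : z = 0
  · subst hz0
    refine ⟨1, 0, 1, ?_, ?_, ?_⟩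
    · intro h
      rw [Set.singleton_zero, Ideal.span_zero, Ideal.radical_bot_of_isReduced] at h
      exact one_ne_zero h
    · simp
    · have hdom : IsDomain (Localization.Away (1 : A)) :=
        IsLocalization.isDomain_localization (M := Submonoid.powers (1 : A))
          (by
            rintro _ ⟨n, rfl⟩
            simp)
      rw [map_zero, Set.singleton_zero, Ideal.span_zero]
      exact Ideal.isPrime_bot
  · set P := (Ideal.span {z}).radical with hPdef
    haveI : P.IsPrime := hz
    have hzP : z ∈ P := Ideal.le_radical (Ideal.mem_span_singleton_self z)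
    have hmin : P ∈ (Ideal.span {z}).minimalPrimes := by
      refine ⟨⟨hz, Ideal.le_radical⟩, fun Q hQ _ => ?_⟩
      exact hQ.1.radical_le_iff.mpr hQ.2
    have hh1 : P.height ≤ 1 :=
      Ideal.height_le_one_of_isPrincipal_of_mem_minimalPrimes _ _ hmin
    have hPne : P ≠ ⊥ := fun h => hz0 (by rw [h] at hzP; exact hzP)
    have hh0 : P.height ≠ 0 := fun h => hPne (Ideal.height_eq_zero_iff_eq_bot.mp h)
    have hheight : P.height = 1 := le_antisymm hh1 (Order.one_le_iff_pos.mpr (pos_iff_ne_zero.mpr hh0))
    haveI := dvr_of_height_one A P hheight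
    -- notation
    set L := Localization.AtPrime P
    have hinj : Function.Injective (algebraMap A L) :=
      IsLocalization.injective L P.primeCompl_le_nonZeroDivisors
    -- a uniformizer coming from `P`
    obtain ⟨ϖ, hϖ⟩ := IsDiscreteValuationRing.exists_irreducible L
    have hmax : IsLocalRing.maximalIdeal L = Ideal.span {ϖ} :=
      (IsDiscreteValuationRing.irreducible_iff_uniformizer ϖ).mp hϖ
    have hmaxP : IsLocalRing.maximalIdeal L = P.map (algebraMap A L) :=
      (Localization.AtPrime.map_eq_maximalIdeal).symm
    have hϖmem : ϖ ∈ P.map (algebraMap A L) := by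
      rw [← hmaxP, hmax]
      exact Ideal.mem_span_singleton_self ϖ
    obtain ⟨⟨⟨t, htP⟩, ⟨s₀, hs₀⟩⟩, hts⟩ :=
      (IsLocalization.mem_map_algebraMap_iff P.primeCompl L).mp hϖmem
    have hs₀u : IsUnit (algebraMap A L s₀) := IsLocalization.map_units L ⟨s₀, hs₀⟩
    have htirr : Irreducible (algebraMap A L t) := by
      have : Associated ϖ (algebraMap A L t) := ⟨hs₀u.unit, hts⟩
      exact this.irreducible hϖ
    have hmax' : IsLocalRing.maximalIdeal L = Ideal.span {algebraMap A L t} :=
      (IsDiscreteValuationRing.irreducible_iff_uniformizer _).mp htirr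
    -- z = unit * t^r
    have hzL : algebraMap A L z ≠ 0 := fun h => hz0 (hinj (by rw [h, map_zero]))
    obtain ⟨r, u, hu⟩ := IsDiscreteValuationRing.eq_unit_mul_pow_irreducible hzL htirr
    obtain ⟨⟨a, ⟨s, hs⟩⟩, has⟩ := IsLocalization.surj P.primeCompl (u : L)
    have hsu : IsUnit (algebraMap A L s) := IsLocalization.map_units L ⟨s, hs⟩
    have hau : IsUnit (algebraMap A L a) := by
      rw [← has]
      exact u.isUnit.mul hsu
    have haP : a ∈ P.primeCompl := (IsLocalization.AtPrime.isUnit_to_map_iff L P a).mp hau
    have hrel : z * s = a * t ^ r := by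
      apply hinj
      rw [map_mul, map_mul, map_pow, hu, ← has]
      ring
    -- generators of P
    obtain ⟨gens, hgens⟩ := (isNoetherianRing_iff_ideal_fg A).mp inferInstance P
    have hgenrel : ∀ g ∈ gens, ∃ b c : A, c ∈ P.primeCompl ∧ g * c = t * b := by
      intro g hg
      have hgP : g ∈ P := by rw [← hgens]; exact Ideal.subset_span hg
      have hgm : algebraMap A L g ∈ Ideal.span {algebraMap A L t} := by
        rw [← hmax', hmaxP]
        exact Ideal.mem_map_of_mem _ hgP
      obtain ⟨q, hq⟩ := Ideal.mem_span_singleton'.mp hgm
      obtain ⟨⟨b, ⟨c, hc⟩⟩, hbc⟩ := IsLocalization.surj P.primeCompl q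
      refine ⟨b, c, hc, hinj ?_⟩
      rw [map_mul, map_mul, ← hbc, ← hq]
      ring
    choose! b c hc hbc using hgenrel
    set w := s * a * ∏ g ∈ gens, c g with hw
    have hwP : w ∈ P.primeCompl := by
      refine mul_mem (mul_mem hs haP) (prod_mem (fun g hg => hc g hg))
    set B := Localization.Away w
    have hwu : IsUnit (algebraMap A B w) := IsLocalization.Away.algebraMap_isUnit w
    have hunit_of_dvd : ∀ d : A, d ∣ w → IsUnit (algebraMap A B d) := by
      rintro d ⟨e, he⟩
      have h : algebraMap A B w = algebraMap A B d * algebraMap A B e := by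
        rw [← map_mul]
        exact congrArg _ he
      rw [h] at hwu
      exact isUnit_of_mul_isUnit_left hwu
    have hsB : IsUnit (algebraMap A B s) := hunit_of_dvd s ⟨a * ∏ g ∈ gens, c g, by rw [hw]; ring⟩
    have haB : IsUnit (algebraMap A B a) := hunit_of_dvd a ⟨s * ∏ g ∈ gens, c g, by rw [hw]; ring⟩
    have hcB : ∀ g ∈ gens, IsUnit (algebraMap A B (c g)) := by
      intro g hg
      refine hunit_of_dvd (c g) (Dvd.dvd.mul_left (Finset.dvd_prod_of_mem c hg) _)
    refine ⟨w, t, r, hwP, ?_, ?_⟩
    · -- (z) = (t^r)
      have h1 : algebraMap A B z * algebraMap A B s = algebraMap A B a * algebraMap A B t ^ r := by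
        rw [← map_mul, hrel, map_mul, map_pow]
      obtain ⟨si, hsi⟩ := hsB.exists_right_inv
      obtain ⟨ai, hai⟩ := haB.exists_right_inv
      apply le_antisymm
      · rw [Ideal.span_singleton_le_span_singleton]
        refine ⟨algebraMap A B a * si, ?_⟩
        calc algebraMap A B z = algebraMap A B z * (algebraMap A B s * si) := by rw [hsi, mul_one]
          _ = (algebraMap A B z * algebraMap A B s) * si := by ring
          _ = algebraMap A B t ^ r * (algebraMap A B a * si) := by rw [h1]; ring
      · rw [Ideal.span_singleton_le_span_singleton]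
        refine ⟨algebraMap A B s * ai, ?_⟩
        calc algebraMap A B t ^ r = (algebraMap A B a * ai) * algebraMap A B t ^ r := by
              rw [hai, one_mul]
          _ = (algebraMap A B a * algebraMap A B t ^ r) * ai := by ring
          _ = algebraMap A B z * (algebraMap A B s * ai) := by rw [← h1]; ring
    · -- (t) = P B is prime
      have hPB : Ideal.span {algebraMap A B t} = P.map (algebraMap A B) := by
        apply le_antisymm
        · rw [Ideal.span_singleton_le_iff_mem]
          exact Ideal.mem_map_of_mem _ htP
        · rw [← hgens, Ideal.map_span, Ideal.span_le]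
          rintro _ ⟨g, hg, rfl⟩
          have h2 : algebraMap A B g * algebraMap A B (c g) =
              algebraMap A B t * algebraMap A B (b g) := by
            rw [← map_mul, hbc g hg, map_mul]
          obtain ⟨ci, hci⟩ := (hcB g hg).exists_right_inv
          have h3 : algebraMap A B g = algebraMap A B t * (algebraMap A B (b g) * ci) := by
            calc algebraMap A B g = algebraMap A B g * (algebraMap A B (c g) * ci) := by
                  rw [hci, mul_one]
              _ = (algebraMap A B g * algebraMap A B (c g)) * ci := by ring
              _ = algebraMap A B t * (algebraMap A B (b g) * ci) := by rw [h2]; ring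
          rw [SetLike.mem_coe, h3]
          exact Ideal.mul_mem_right _ _ (Ideal.mem_span_singleton_self _)
      rw [hPB]
      refine IsLocalization.isPrime_of_isPrime_disjoint (Submonoid.powers w) B P inferInstance ?_
      rw [Set.disjoint_left]
      rintro _ ⟨n, rfl⟩ hmem
      exact hwP (Ideal.IsPrime.mem_of_pow_mem inferInstance n hmem)

end Groth.Agent.S18391
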