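import Groth.Statements.S18392
import Mathlib
-- import your own Groth.Agent.* helpers here

set_option autoImplicit false
universe u
open LVCorr

namespace Groth.Agent.S18392

/-- Let A be a normal (integrally closed) Noetherian domain and z an element of A such that the radical
of (z) is prime. Then for every non-empty open subset V of Spec A contained in the basic open set
D(z) (that is, every non-empty open subset of Spec A[1/z]) there is an element x of A, not in the
radical of (z), such that the basic open set D(xz) = Spec A[1/xz] is contained in V. -/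
theorem result (A : Type u) [CommRing A]
    [IsDomain A] [IsNoetherianRing A] [IsIntegrallyClosed A] (z : A)
    (hz : (Ideal.span {z}).radical.IsPrime) (V : Set (PrimeSpectrum A)) (hV : IsOpen V)
    (hVz : V ⊆ (PrimeSpectrum.basicOpen z : Set (PrimeSpectrum A))) (hne : V.Nonempty) :
    ∃ x : A, x ∉ (Ideal.span {z}).radical ∧
      ((PrimeSpectrum.basicOpen (x * z) : TopologicalSpace.Opens (PrimeSpectrum A)) :
        Set (PrimeSpectrum A)) ⊆ V := by
  classical
  set p := (Ideal.span {z}).radical with hp
  obtain ⟨P, hPV⟩ := hne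
  -- a basic open inside V
  obtain ⟨_, ⟨f, rfl⟩, hPf, hfV⟩ :=
    PrimeSpectrum.isTopologicalBasis_basic_opens.exists_subset_of_mem_open hPV hV
  have hf0 : f ≠ 0 := by
    rintro rfl
    exact hPf (by simp)
  -- p is a minimal prime of (z)
  have hpmin : p ∈ (Ideal.span {z}).minimalPrimes := by
    refine ⟨⟨hz, Ideal.le_radical⟩, ?_⟩
    rintro q ⟨hq, hzq⟩ _
    exact (Ideal.IsPrime.radical_le_iff hq).2 hzq
  have hht : p.height ≤ 1 :=
    Ideal.height_le_one_of_isPrincipal_of_mem_minimalPrimes (Ideal.span {z}) p hpmin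
  have hfin : (Ideal.span {f}).minimalPrimes.Finite :=
    Ideal.finite_minimalPrimes_of_isNoetherianRing A _
  let M' : Finset (Ideal A) := hfin.toFinset.filter (fun q => z ∉ q)
  have hM' : ∀ q ∈ M', ¬ q ≤ p := by
    intro q hq hqp
    simp only [M', Finset.mem_filter, Set.Finite.mem_toFinset] at hq
    obtain ⟨hqmin, hzq⟩ := hq
    have : q.IsPrime := hqmin.1.1
    have hfq : f ∈ q := hqmin.1.2 (Ideal.subset_span rfl)
    have hzp : z ∈ p := Ideal.le_radical (Ideal.subset_span rfl)
    have hlt : q < p := lt_of_le_of_ne hqp (fun h => hzq (h ▸ hzp))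
    have hbot : (⊥ : Ideal A) < q := bot_lt_iff_ne_bot.2 (fun h => hf0 (by simpa [h] using hfq))
    have : (⊥ : Ideal A).IsPrime := Ideal.isPrime_bot
    have h1 : (⊥ : Ideal A).height < q.height := Ideal.height_strict_mono_of_isPrime_of_isPrime hbot
    have h2 : q.height < p.height := Ideal.height_strict_mono_of_isPrime_of_isPrime hlt
    have h3 : (1 : ℕ∞) ≤ q.height := Order.one_le_iff_pos.2 (lt_of_le_of_lt bot_le h1)
    have h4 : q.height < 1 := lt_of_lt_of_le h2 hht
    exact absurd h3 (not_le.2 h4)
  have hnot : ¬ (M'.inf id ≤ p) := by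
    rw [Ideal.IsPrime.inf_le' hz]
    rintro ⟨q, hq, hqp⟩
    exact hM' q hq hqp
  obtain ⟨x, hxM, hxp⟩ := SetLike.not_le_iff_exists.1 hnot
  refine ⟨x, hxp, ?_⟩
  refine subset_trans ?_ hfV
  intro Q hQ
  simp only [SetLike.mem_coe, PrimeSpectrum.mem_basicOpen] at hQ ⊢
  intro hfQ
  apply hQ
  obtain ⟨q, hqmin, hqQ⟩ := Ideal.exists_minimalPrimes_le
    (show Ideal.span {f} ≤ Q.asIdeal from (Ideal.span_singleton_le_iff_mem _).2 hfQ)
  apply hqQ
  by_cases hzq : z ∈ q
  · exact q.mul_mem_left x hzq
  · have : q ∈ M' := by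
      simp only [M', Finset.mem_filter, Set.Finite.mem_toFinset]
      exact ⟨hqmin, hzq⟩
    have hxq : x ∈ q := by
      have := (Finset.inf_le this : M'.inf id ≤ id q)
      exact this hxM
    exact q.mul_mem_right z hxq

end Groth.Agent.S18392
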