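import Groth.Statements.S18393
import Mathlib
-- import your own Groth.Agent.* helpers here

set_option autoImplicit false
universe u v
open LVCorr

namespace Groth.Agent.S18393

/-- Stated for the underlying continuous maps. Let c₁, c₂ : C → X be continuous maps with C a Noetherian
topological space, let Z be a closed subset of X and B the closure in C of c₂⁻¹(Z) ∖ c₁⁻¹(Z). Call Z
locally invariant when every point x of Z has an open neighbourhood U such that every y in C with
c₂(y) ∈ Z ∩ U and c₁(y) ∈ U satisfies c₁(y) ∈ Z. Then Z is locally invariant if and only if for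
every irreducible subset T of B the closures of c₁(T) and of c₂(T) in X are disjoint. (The source
states this for a correspondence c = (c₁, c₂) : C → X × X of separated schemes of finite type over
an algebraically closed field and for the irreducible components of B; the condition for all
irreducible subsets of B is the same condition.) -/
theorem result {C : Type u} {X : Type v}
    [TopologicalSpace C] [TopologicalSpace X] [TopologicalSpace.NoetherianSpace C]
    (c₁ c₂ : C → X) (hc₁ : Continuous c₁) (hc₂ : Continuous c₂) (Z : Set X) (hZ : IsClosed Z) :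
    (∀ x ∈ Z, ∃ U : Set X, IsOpen U ∧ x ∈ U ∧
        ∀ y : C, c₂ y ∈ Z → c₂ y ∈ U → c₁ y ∈ U → c₁ y ∈ Z) ↔
      ∀ T : Set C, T ⊆ closure (c₂ ⁻¹' Z \ c₁ ⁻¹' Z) → IsIrreducible T →
        closure (c₁ '' T) ∩ closure (c₂ '' T) = ∅ := by
  classical
  have hBZ : closure (c₂ ⁻¹' Z \ c₁ ⁻¹' Z) ⊆ c₂ ⁻¹' Z :=
    closure_minimal Set.sdiff_subset (hZ.preimage hc₂)
  constructor
  · intro hloc T hTB hT
    rw [Set.eq_empty_iff_forall_notMem]
    rintro x ⟨hx1, hx2⟩
    have hxZ : x ∈ Z := by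
      have : closure (c₂ '' T) ⊆ Z := by
        apply closure_minimal _ hZ
        rintro _ ⟨t, ht, rfl⟩
        exact hBZ (hTB ht)
      exact this hx2
    obtain ⟨U, hUo, hxU, hU⟩ := hloc x hxZ
    -- T meets c₁⁻¹U and c₂⁻¹U
    have h1 : (T ∩ c₁ ⁻¹' U).Nonempty := by
      rw [mem_closure_iff] at hx1
      obtain ⟨_, hyU, ⟨t, ht, rfl⟩⟩ := hx1 U hUo hxU
      exact ⟨t, ht, hyU⟩
    have h2 : (T ∩ c₂ ⁻¹' U).Nonempty := by
      rw [mem_closure_iff] at hx2
      obtain ⟨_, hyU, ⟨t, ht, rfl⟩⟩ := hx2 U hUo hxU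
      exact ⟨t, ht, hyU⟩
    obtain ⟨t, ht, ht1, ht2⟩ := hT.isPreirreducible (c₁ ⁻¹' U) (c₂ ⁻¹' U) (hUo.preimage hc₁)
      (hUo.preimage hc₂) h1 h2
    have htB := hTB ht
    rw [mem_closure_iff] at htB
    obtain ⟨y, ⟨hy1, hy2⟩, hyZ, hyn⟩ := htB (c₁ ⁻¹' U ∩ c₂ ⁻¹' U)
      ((hUo.preimage hc₁).inter (hUo.preimage hc₂)) ⟨ht1, ht2⟩
    exact hyn (hU y hyZ hy2 hy1)
  · intro h x hxZ
    obtain ⟨S, hSf, hSc, hSi, hSU⟩ :=
      TopologicalSpace.NoetherianSpace.exists_finite_set_isClosed_irreducible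
        (isClosed_closure (s := c₂ ⁻¹' Z \ c₁ ⁻¹' Z))
    let V : Set C → Set X := fun t =>
      if x ∈ closure (c₁ '' t) then (closure (c₂ '' t))ᶜ else (closure (c₁ '' t))ᶜ
    have hVo : ∀ t, IsOpen (V t) := by
      intro t
      dsimp only [V]
      split_ifs
      · exact isClosed_closure.isOpen_compl
      · exact isClosed_closure.isOpen_compl
    have hxV : ∀ t ∈ S, x ∈ V t := by
      intro t ht
      dsimp only [V]
      split_ifs with hx1
      · intro hx2
        have := h t (by rw [hSU]; exact Set.subset_sUnion_of_mem ht) (hSi t ht)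
        rw [Set.eq_empty_iff_forall_notMem] at this
        exact this x ⟨hx1, hx2⟩
      · exact hx1
    refine ⟨⋂ t ∈ S, V t, hSf.isOpen_biInter (fun t _ => hVo t), Set.mem_iInter₂.2 hxV, ?_⟩
    intro y hy2Z hy2U hy1U
    by_contra hy1Z
    have hyB : y ∈ closure (c₂ ⁻¹' Z \ c₁ ⁻¹' Z) := subset_closure ⟨hy2Z, hy1Z⟩
    rw [hSU] at hyB
    obtain ⟨t, htS, hyt⟩ := hyB
    have h1 := Set.mem_iInter₂.1 hy1U t htS
    have h2 := Set.mem_iInter₂.1 hy2U t htS
    dsimp only [V] at h1 h2
    split_ifs at h1 h2 with hx1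
    · exact h2 (subset_closure ⟨y, hyt, rfl⟩)
    · exact h1 (subset_closure ⟨y, hyt, rfl⟩)

end Groth.Agent.S18393
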