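import Groth.Statements.S1840
import Mathlib
import Groth.Agent.S1838

set_option autoImplicit false
universe u v
open CycDet

namespace Groth.Agent.S1840


open CycDet IsLocalRing
open Groth.Agent.S1838 (mem_sb sb_le_iff sb_mono sb_congr mkAdm rank_le)

theorem alt_update_mem_span {K : Type*} [CommRing K] {N P : Type*} [AddCommGroup N] [Module K N]
    [AddCommGroup P] [Module K P] {ι : Type*} [DecidableEq ι]
    (g : N [⋀^ι]→ₗ[K] P) (v : ι → N) (a : ι) (x : N)
    (hx : x ∈ Submodule.span K (v '' {j | j ≠ a})) : g (Function.update v a x) = 0 := by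
  induction hx using Submodule.span_induction with
  | mem y hy =>
    obtain ⟨j, hj, rfl⟩ := hy
    have hja : j ≠ a := hj
    exact g.map_update_self v (Ne.symm hja)
  | zero => exact g.map_update_zero v a
  | add y z _ _ hy hz => rw [g.map_update_add, hy, hz, add_zero]
  | smul c y _ hy => rw [g.map_update_smul, hy, smul_zero]

section
variable {R : Type u} [CommRing R] [IsLocalRing R] {M : Type v} [AddCommGroup M] [Module R M]
  [Module (ResidueField R) M] [IsScalarTower R (ResidueField R) M]

theorem sb_le_kspan {l : ℕ} (e : Fin l → M) (a : Fin l) :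
    spanBefore R M e a ≤
      (Submodule.span (ResidueField R) (e '' {j | j ≠ a})).restrictScalars R := by
  rw [sb_le_iff]
  intro j hj
  show e j ∈ Submodule.span (ResidueField R) (e '' {j | j ≠ a})
  have hja : j ≠ a := fun h => by rw [h] at hj; exact lt_irrefl _ hj
  exact Submodule.subset_span ⟨j, hja, rfl⟩

theorem W_zero {l : ℕ} (e : Fin l → M) (a : Fin l) (h : e a ∈ spanBefore R M e a) :
    exteriorPower.ιMulti (ResidueField R) l e = 0 := by
  classical
  have h1 : e a ∈ Submodule.span (ResidueField R) (e '' {j | j ≠ a}) := sb_le_kspan e a h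
  have h2 := alt_update_mem_span (exteriorPower.ιMulti (ResidueField R) l) e a (e a) h1
  rw [Function.update_eq_self] at h2
  exact h2

theorem W_b {l : ℕ} (e e' : Fin l → M) (a : Fin l) (c : R) (h1 : ∀ j, j ≠ a → e j = e' j)
    (h2 : e a - c • e' a ∈ spanBefore R M e a) :
    exteriorPower.ιMulti (ResidueField R) l e =
      IsLocalRing.residue R c • exteriorPower.ιMulti (ResidueField R) l e' := by
  classical
  have hsb : spanBefore R M e a = spanBefore R M e' a :=
    sb_congr _ _ _ (fun j hj => h1 j (fun h => by rw [h] at hj; exact lt_irrefl _ hj))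
  have hy : e a - c • e' a ∈ Submodule.span (ResidueField R) (e' '' {j | j ≠ a}) := by
    rw [hsb] at h2
    exact sb_le_kspan e' a h2
  have hc : IsLocalRing.residue R c • e' a = c • e' a := by
    rw [← IsLocalRing.ResidueField.algebraMap_eq, algebraMap_smul]
  have he : e = Function.update e' a (IsLocalRing.residue R c • e' a + (e a - c • e' a)) := by
    funext j
    by_cases hj : j = a
    · rw [hj, Function.update_self, hc]
      abel
    · rw [Function.update_of_ne hj]
      exact h1 j hj
  have h3 := alt_update_mem_span (exteriorPower.ιMulti (ResidueField R) l) e' a _ hy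
  calc exteriorPower.ιMulti (ResidueField R) l e
      = exteriorPower.ιMulti (ResidueField R) l
          (Function.update e' a (IsLocalRing.residue R c • e' a + (e a - c • e' a))) :=
        congrArg _ he
    _ = IsLocalRing.residue R c • exteriorPower.ιMulti (ResidueField R) l e' := by
        rw [AlternatingMap.map_update_add, AlternatingMap.map_update_smul,
          Function.update_eq_self, h3, add_zero]

theorem W_c {l : ℕ} (e : Fin l → M) (a b : Fin l) (hab : a ≠ b) :
    exteriorPower.ιMulti (ResidueField R) l (e ∘ Equiv.swap a b) =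
      - exteriorPower.ιMulti (ResidueField R) l e :=
  AlternatingMap.map_swap _ e hab

theorem exists_equiv [Module.Finite (ResidueField R) M] (l : ℕ)
    (hl : Module.length R M = (l : ℕ∞)) (hn : Module.finrank (ResidueField R) M = l) :
    ∃ Φ : DetOfLen R M l ≃ₗ[ResidueField R] (⋀[ResidueField R]^l M),
      ∀ e : Adm R M l, Φ (Submodule.Quotient.mk (CycDet.sym R M e)) =
        exteriorPower.ιMulti (ResidueField R) l e.1 := by
  classical
  obtain ⟨φ₀, hφ₀⟩ : ∃ φ₀ : CycDet.Free R M l →ₗ[ResidueField R] (⋀[ResidueField R]^l M),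
      ∀ e : Adm R M l, φ₀ (CycDet.sym R M e) = exteriorPower.ιMulti (ResidueField R) l e.1 := by
    refine ⟨Finsupp.linearCombination (ResidueField R)
      (fun e : Adm R M l => exteriorPower.ιMulti (ResidueField R) l e.1), fun e => ?_⟩
    rw [CycDet.sym, Finsupp.linearCombination_single, one_smul]
  have hker : Submodule.span (ResidueField R) (relSet R M l) ≤ LinearMap.ker φ₀ := by
    rw [Submodule.span_le]
    rintro x ((⟨e, a, h, rfl⟩ | ⟨e, e', a, c, h1, h2, rfl⟩) | ⟨e, e', a, b, hab, h1, h2, rfl⟩)
    · show φ₀ _ = 0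
      rw [hφ₀]
      exact W_zero e.1 a h
    · show φ₀ _ = 0
      rw [map_sub, map_smul, hφ₀, hφ₀, W_b e.1 e'.1 a (c : R) h1 h2, sub_self]
    · show φ₀ _ = 0
      have hne : a ≠ b := fun h => by rw [h] at hab; omega
      rw [map_add, hφ₀, hφ₀, h2, W_c e.1 a b hne, add_neg_cancel]
  obtain ⟨Φ₀, hΦ₀⟩ : ∃ Φ₀ : DetOfLen R M l →ₗ[ResidueField R] (⋀[ResidueField R]^l M),
      ∀ x, Φ₀ (Submodule.Quotient.mk x) = φ₀ x :=
    ⟨Submodule.liftQ _ φ₀ hker, fun x => Submodule.liftQ_apply _ _ _⟩
  have hadm : ∀ v : Fin l → M, IsAdmissible R M v := by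
    intro v i r hr
    have h0 : r • v i = 0 := by
      rw [← algebraMap_smul (ResidueField R) r (v i), IsLocalRing.ResidueField.algebraMap_eq,
        (IsLocalRing.residue_eq_zero_iff r).2 hr, zero_smul]
    rw [h0]
    exact Submodule.zero_mem _
  have hsurj : Function.Surjective Φ₀ := by
    rw [← LinearMap.range_eq_top, eq_top_iff, ← exteriorPower.ιMulti_span (ResidueField R) l M,
      Submodule.span_le]
    rintro _ ⟨v, rfl⟩
    exact ⟨Submodule.Quotient.mk (CycDet.sym R M (mkAdm v (hadm v))),
      (hΦ₀ _).trans (hφ₀ _)⟩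
  have hfr : Module.finrank (ResidueField R) (⋀[ResidueField R]^l M) = 1 := by
    rw [exteriorPower.finrank_eq, hn, Nat.choose_self]
  haveI : Nontrivial (⋀[ResidueField R]^l M) :=
    Module.nontrivial_of_finrank_pos (R := ResidueField R) (by rw [hfr]; exact Nat.one_pos)
  have hrank := rank_le (R := R) (M := M) l hl
  rw [rank_le_one_iff] at hrank
  obtain ⟨v₀, hv₀⟩ := hrank
  have hv₀ne : Φ₀ v₀ ≠ 0 := by
    intro h0
    obtain ⟨y, hy⟩ := exists_ne (0 : ⋀[ResidueField R]^l M)
    obtain ⟨w, rfl⟩ := hsurj y
    obtain ⟨s, rfl⟩ := hv₀ w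
    apply hy
    rw [map_smul, h0, smul_zero]
  have hinj : Function.Injective Φ₀ := by
    rw [injective_iff_map_eq_zero]
    intro x hx
    obtain ⟨s, rfl⟩ := hv₀ x
    rw [map_smul, smul_eq_zero] at hx
    rcases hx with hs | hv
    · rw [hs, zero_smul]
    · exact absurd hv hv₀ne
  refine ⟨LinearEquiv.ofBijective Φ₀ ⟨hinj, hsurj⟩, fun e => ?_⟩
  rw [LinearEquiv.ofBijective_apply, hΦ₀, hφ₀]

end


/-- Let M be a finite-dimensional vector space over the residue field κ of a local ring R, viewed as an
R-module. There is a κ-linear isomorphism from det_κ(M) to the top exterior power of M sending the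
symbol of an admissible tuple (e₁, …, e_l) to e₁ ∧ … ∧ e_l. -/
theorem result (R : Type u) [CommRing R] [IsLocalRing R] (M : Type v) [AddCommGroup M] [Module R M] [Module (IsLocalRing.ResidueField R) M] [IsScalarTower R (IsLocalRing.ResidueField R) M] [Module.Finite (IsLocalRing.ResidueField R) M] : ∃ Φ : CycDet.Det R M ≃ₗ[IsLocalRing.ResidueField R] (⋀[IsLocalRing.ResidueField R]^((Module.length R M).toNat) M), ∀ e : CycDet.Adm R M (Module.length R M).toNat, Φ (CycDet.symbol R M e) = exteriorPower.ιMulti (IsLocalRing.ResidueField R) ((Module.length R M).toNat) e.1 := by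
  have hsurj : Function.Surjective (algebraMap R (IsLocalRing.ResidueField R)) := by
    rw [IsLocalRing.ResidueField.algebraMap_eq]
    exact IsLocalRing.residue_surjective
  have h1 : Module.length R M = Module.length (IsLocalRing.ResidueField R) M :=
    Module.length_eq_of_surjective hsurj
  have h2 : Module.length R M = (Module.finrank (IsLocalRing.ResidueField R) M : ℕ∞) := by
    rw [h1, Module.length_eq_finrank]
  have h3 : (Module.length R M).toNat = Module.finrank (IsLocalRing.ResidueField R) M := by
    rw [h2, ENat.toNat_natCast]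
  have hl : Module.length R M = ((Module.length R M).toNat : ℕ∞) := by
    rw [h3]
    exact h2
  obtain ⟨Φ, hΦ⟩ := exists_equiv (R := R) (M := M) (Module.length R M).toNat hl h3.symm
  exact ⟨Φ, fun e => hΦ e⟩


end Groth.Agent.S1840
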