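import Groth.Statements.S18402
import Mathlib

set_option autoImplicit false
universe u
open Pi1

namespace Groth.Agent.S18402

section Top

variable {P Z : Type*} [TopologicalSpace P] [TopologicalSpace Z]

theorem disjoint_images (a : P → Z) (hfib : ∀ z, IsPreconnected (a ⁻¹' {z}))
    (A : Set P) (hA : IsClopen A) : Disjoint (a '' A) (a '' Aᶜ) := by
  rw [Set.disjoint_left]
  rintro z ⟨p, hp, rfl⟩ ⟨p', hp', e⟩
  have hsub : a ⁻¹' {a p} ⊆ A :=
    (hfib (a p)).subset_isClopen hA ⟨p, rfl, hp⟩
  exact hp' (hsub e)

theorem isClosed_image_of_isClopen (a : P → Z) (hsurj : Function.Surjective a)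
    (hgen : GeneralizingMap a) (hfib : ∀ z, IsPreconnected (a ⁻¹' {z}))
    (G : Set Z) (hG : G.Finite) (hGgen : ∀ z, ∃ ξ ∈ G, ξ ⤳ z)
    (A : Set P) (hA : IsClopen A) : IsClosed (a '' A) := by
  have hdisj := disjoint_images a hfib A hA
  have hgA : StableUnderGeneralization (a '' A) := hA.isOpen.stableUnderGeneralization.image hgen
  have hgB : StableUnderGeneralization (a '' Aᶜ) :=
    hA.compl.isOpen.stableUnderGeneralization.image hgen
  have heq : a '' A = ⋃ ξ ∈ G ∩ (a '' A), closure {ξ} := by
    ext z
    simp only [Set.mem_iUnion, exists_prop]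
    constructor
    · intro hz
      obtain ⟨ξ, hξG, hξz⟩ := hGgen z
      exact ⟨ξ, ⟨hξG, hgA hξz hz⟩, specializes_iff_mem_closure.mp hξz⟩
    · rintro ⟨ξ, ⟨_, hξA⟩, hz⟩
      have hξz : ξ ⤳ z := specializes_iff_mem_closure.mpr hz
      by_contra hzA
      obtain ⟨p, rfl⟩ := hsurj z
      have hp : p ∈ Aᶜ := fun hp => hzA ⟨p, hp, rfl⟩
      have : ξ ∈ a '' Aᶜ := hgB hξz ⟨p, hp, rfl⟩
      exact Set.disjoint_left.mp hdisj hξA this
  rw [heq]
  exact (hG.subset Set.inter_subset_left).isClosed_biUnion (fun _ _ => isClosed_closure)

theorem preconnectedSpace_of_fibres (a : P → Z) (hsurj : Function.Surjective a)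
    (hgen : GeneralizingMap a) (hfib : ∀ z, IsPreconnected (a ⁻¹' {z}))
    (G : Set Z) (hG : G.Finite) (hGgen : ∀ z, ∃ ξ ∈ G, ξ ⤳ z)
    [PreconnectedSpace Z] : PreconnectedSpace P := by
  rw [preconnectedSpace_iff_clopen]
  intro A hA
  have hdisj := disjoint_images a hfib A hA
  have hcA := isClosed_image_of_isClopen a hsurj hgen hfib G hG hGgen A hA
  have hcB := isClosed_image_of_isClopen a hsurj hgen hfib G hG hGgen Aᶜ hA.compl
  have hcompl : (a '' A)ᶜ = a '' Aᶜ := by
    ext z
    constructor
    · intro hz
      obtain ⟨p, rfl⟩ := hsurj z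
      exact ⟨p, fun hp => hz ⟨p, hp, rfl⟩, rfl⟩
    · intro hz hz'
      exact Set.disjoint_left.mp hdisj hz' hz
  have hclopen : IsClopen (a '' A) := ⟨hcA, by rw [← isClosed_compl_iff, hcompl]; exact hcB⟩
  rcases (preconnectedSpace_iff_clopen.mp inferInstance) _ hclopen with h | h
  · left
    exact Set.image_eq_empty.mp h
  · right
    have : a '' Aᶜ = ∅ := by rw [← hcompl, h, Set.compl_univ]
    have := Set.image_eq_empty.mp this
    exact Set.compl_empty_iff.mp this

end Top


open AlgebraicGeometry CategoryTheory CategoryTheory.Limits in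
/-- Let X be an irreducible scheme and π : W ⟶ X a flat morphism whose fibre over every field-valued
point of X is irreducible (so every fibre is geometrically irreducible and π is surjective). Then
for every finite étale cover Z of X with Z connected, the base change of Z along π is connected.
Ranging over all finite étale covers of X, this says that the monodromy group of each cover (the
image of the fundamental group in the permutations of a geometric fibre) is unchanged by pullback
along π. The published statement asserts that equality of monodromy groups, for generically finite,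
generically étale covers between irreducible algebraic stacks. -/
theorem result {X W : Scheme.{u}}
    [IrreducibleSpace X] (π : W ⟶ X) [Flat π] [GeometricallyIrreducible π]
    (Z : FEt.Cat X) [ConnectedSpace Z.left] :
    ConnectedSpace ↥(pullback Z.hom π) := by
  let q : Z.left ⟶ X := Z.hom
  haveI : IsFinite q := Z.prop.1
  haveI : Etale q := Z.prop.2
  haveI : Flat q := inferInstance
  let a : pullback q π ⟶ Z.left := pullback.fst q π
  haveI : Flat a := inferInstance
  haveI : GeometricallyIrreducible a := inferInstance
  have hsurj : Function.Surjective a := a.surjective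
  have hgen : GeneralizingMap a := Flat.generalizingMap a
  have hfib : ∀ z, _root_.IsPreconnected (a ⁻¹' {z}) := by
    intro z
    haveI : PreconnectedSpace (a.fiber z) := inferInstance
    have h1 := (isPreconnected_univ (α := a.fiber z)).image (a.fiberι z)
      (a.fiberι z).continuous.continuousOn
    rwa [Set.image_univ, a.range_fiberι z] at h1
  let G : Set Z.left := q ⁻¹' {genericPoint X}
  have hG : G.Finite := q.finite_preimage_singleton _
  have hGgen : ∀ z, ∃ ξ ∈ G, ξ ⤳ z := by
    intro z
    obtain ⟨ξ, hξ, e⟩ := Flat.generalizingMap q (genericPoint_specializes (q z))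
    exact ⟨ξ, e, hξ⟩
  haveI : PreconnectedSpace ↥(pullback q π) :=
    preconnectedSpace_of_fibres a hsurj hgen hfib G hG hGgen
  have hne : Nonempty ↥(pullback q π) := by
    obtain ⟨z⟩ := (inferInstance : Nonempty Z.left)
    obtain ⟨p, _⟩ := hsurj z
    exact ⟨p⟩
  exact { toPreconnectedSpace := this, toNonempty := hne }

end Groth.Agent.S18402
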