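import Groth.Statements.S18405
import Mathlib
import Groth.Agent.S18406
import Groth.Agent.S18404
import Groth.Agent.Lib.Helper22.Hesse3

set_option autoImplicit false
universe u
open Cubic

namespace Groth.Agent.S18405

open MvPolynomial in
/-- Let f be a nonzero homogeneous cubic in three variables over ℂ whose plane curve is smooth (at every
nonzero zero of f some partial derivative is nonzero), and let A be an invertible matrix whose
linear substitution X_i ↦ Σ_j A_ij X_j multiplies f by a constant, so that v ↦ A·v is a projective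
automorphism of the curve. If A·v is proportional to v for every flex v of the curve (every nonzero
zero v of f through which some line meets the curve with multiplicity three: there is w linearly
independent from v with f(v + t·w) = t³·f(w) for all t), then A is a scalar matrix: the projective
automorphisms of a smooth plane cubic act faithfully on its flexes. -/
theorem result (f : MvPolynomial (Fin 3) ℂ) (hf : f.IsHomogeneous 3)
    (hf0 : f ≠ 0) (hsm : ∀ v : Fin 3 → ℂ, v ≠ 0 → eval v f = 0 → ∃ i : Fin 3, eval v (pderiv i f) ≠ 0)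
    (A : Matrix (Fin 3) (Fin 3) ℂ) (hA : IsUnit A.det)
    (hAf : ∃ c : ℂ, aeval (fun i : Fin 3 => ∑ j : Fin 3, C (A i j) * X j) f = C c * f)
    (hfix : ∀ v : Fin 3 → ℂ, v ≠ 0 → eval v f = 0 →
      (∃ w : Fin 3 → ℂ, LinearIndependent ℂ ![v, w] ∧ ∀ t : ℂ, eval (v + t • w) f = t ^ 3 * eval w f) →
      ∃ d : ℂ, A.mulVec v = d • v) :
    ∃ c : ℂ, A = c • (1 : Matrix (Fin 3) (Fin 3) ℂ) := by
  obtain ⟨Pm, k, hdet, hk3, hform⟩ := Groth.Agent.Lib.Helper22.Hesse3.hesse_matrix f hf hsm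
  have hformk : ∀ x, eval (Pm.mulVec x) f = eval x (HesseCubic.form k) := by
    intro x; rw [hform, Groth.Agent.S18404.eval_form]
  have hinj : ∀ x : Fin 3 → ℂ, Pm.mulVec x = 0 → x = 0 := by
    intro x h
    have h1 : Pm⁻¹.mulVec (Pm.mulVec x) = 0 := by rw [h, Matrix.mulVec_zero]
    rwa [Matrix.mulVec_mulVec, Matrix.nonsing_inv_mul Pm hdet, Matrix.one_mulVec] at h1
  have hflexfix : ∀ x : Fin 3 → ℂ, x ≠ 0 → eval x (HesseCubic.form k) = 0 →
      (∃ γ c : ℂ, γ ^ 3 = 1 ∧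
        (x = c • ![0, 1, -γ] ∨ x = c • ![-γ, 0, 1] ∨ x = c • ![1, -γ, 0])) →
      ∃ d : ℂ, A.mulVec (Pm.mulVec x) = d • Pm.mulVec x := by
    intro x hx hCx h
    obtain ⟨w, hli, hw⟩ := (Groth.Agent.S18404.result k hk3 x hx hCx).mpr h
    apply hfix (Pm.mulVec x) (fun h0 => hx (hinj x h0)) (by rw [hformk]; exact hCx)
    refine ⟨Pm.mulVec w, ?_, ?_⟩
    · rw [LinearIndependent.pair_iff]
      intro s t hst
      exact LinearIndependent.pair_iff.mp hli s t (hinj _ (by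
        rw [Matrix.mulVec_add, Matrix.mulVec_smul, Matrix.mulVec_smul]; exact hst))
    · intro t
      rw [← Matrix.mulVec_smul, ← Matrix.mulVec_add, hformk, hformk]
      exact hw t
  obtain ⟨s, hs⟩ : ∃ s : ℂ, s ^ 2 = -3 := IsAlgClosed.exists_pow_nat_eq (-3 : ℂ) (by norm_num)
  obtain ⟨ω, hω_def⟩ : ∃ ω : ℂ, ω = (-1 + s) / 2 := ⟨_, rfl⟩
  have hω : ω ^ 2 + ω + 1 = 0 := by rw [hω_def]; linear_combination (1 / 4 : ℂ) * hs
  have hω3 : ω ^ 3 = 1 := by linear_combination (ω - 1) * hω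
  have hω1 : ω ≠ 1 := by
    intro h
    rw [h] at hω
    norm_num at hω
  have h1ω : (1 : ℂ) - ω ≠ 0 := fun h => hω1 (by linear_combination -h)
  have hω0 : ω ≠ 0 := by
    intro h
    rw [h] at hω
    norm_num at hω
  have hP : ∀ γ : ℂ, γ ^ 3 = 1 →
      ∃ d : ℂ, A.mulVec (Pm.mulVec ![0, 1, -γ]) = d • Pm.mulVec ![0, 1, -γ] := by
    intro γ hγ
    refine hflexfix _ (fun h => one_ne_zero (congrFun h 1)) ?_
      ⟨γ, 1, hγ, Or.inl (one_smul _ _).symm⟩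
    have e0 : (![0, 1, -γ] : Fin 3 → ℂ) 0 = 0 := rfl
    have e1 : (![0, 1, -γ] : Fin 3 → ℂ) 1 = 1 := rfl
    have e2 : (![0, 1, -γ] : Fin 3 → ℂ) 2 = -γ := rfl
    rw [Groth.Agent.S18404.eval_form, e0, e1, e2]
    linear_combination (-1 : ℂ) * hγ
  have hQ : ∀ γ : ℂ, γ ^ 3 = 1 →
      ∃ d : ℂ, A.mulVec (Pm.mulVec ![-γ, 0, 1]) = d • Pm.mulVec ![-γ, 0, 1] := by
    intro γ hγ
    refine hflexfix _ (fun h => one_ne_zero (congrFun h 2)) ?_
      ⟨γ, 1, hγ, Or.inr (Or.inl (one_smul _ _).symm)⟩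
    have e0 : (![-γ, 0, 1] : Fin 3 → ℂ) 0 = -γ := rfl
    have e1 : (![-γ, 0, 1] : Fin 3 → ℂ) 1 = 0 := rfl
    have e2 : (![-γ, 0, 1] : Fin 3 → ℂ) 2 = 1 := rfl
    rw [Groth.Agent.S18404.eval_form, e0, e1, e2]
    linear_combination (-1 : ℂ) * hγ
  obtain ⟨d1, hd1⟩ := hP 1 (one_pow 3)
  obtain ⟨d2, hd2⟩ := hP ω hω3
  obtain ⟨d3, hd3⟩ := hQ 1 (one_pow 3)
  obtain ⟨d4, hd4⟩ := hQ ω hω3
  obtain ⟨q1, hq1⟩ : ∃ q : Fin 3 → ℂ, q = Pm.mulVec ![0, 1, -1] := ⟨_, rfl⟩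
  obtain ⟨q2, hq2⟩ : ∃ q : Fin 3 → ℂ, q = Pm.mulVec ![0, 1, -ω] := ⟨_, rfl⟩
  obtain ⟨q3, hq3⟩ : ∃ q : Fin 3 → ℂ, q = Pm.mulVec ![-1, 0, 1] := ⟨_, rfl⟩
  rw [← hq1] at hd1
  rw [← hq2] at hd2
  rw [← hq3] at hd3
  have hvec : (![-ω, 0, 1] : Fin 3 → ℂ)
      = -![0, 1, -1] + ![0, 1, -ω] + ω • ![-1, 0, 1] := by
    funext i
    fin_cases i
    · show (-ω : ℂ) = -0 + 0 + ω * (-1)
      ring
    · show (0 : ℂ) = -1 + 1 + ω * 0
      ring
    · show (1 : ℂ) = - -1 + -ω + ω * 1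
      ring
  have hq4 : Pm.mulVec ![-ω, 0, 1] = -q1 + q2 + ω • q3 := by
    rw [hvec, Matrix.mulVec_add, Matrix.mulVec_add, Matrix.mulVec_neg, Matrix.mulVec_smul,
      ← hq1, ← hq2, ← hq3]
  have hqind : ∀ a b c : ℂ, a • q1 + b • q2 + c • q3 = 0 → a = 0 ∧ b = 0 ∧ c = 0 := by
    intro a b c h
    have h0 : a • ![0, 1, -1] + b • ![0, 1, -ω] + c • ![-1, 0, 1] = (0 : Fin 3 → ℂ) := by
      apply hinj
      rw [Matrix.mulVec_add, Matrix.mulVec_add, Matrix.mulVec_smul, Matrix.mulVec_smul,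
        Matrix.mulVec_smul, ← hq1, ← hq2, ← hq3]
      exact h
    have c0 : a * 0 + b * 0 + c * (-1) = 0 := congrFun h0 0
    have c1 : a * 1 + b * 1 + c * 0 = 0 := congrFun h0 1
    have c2 : a * (-1) + b * (-ω) + c * 1 = 0 := congrFun h0 2
    have hb : b = 0 := by
      have h3 : (1 - ω) * b = 0 := by linear_combination c0 + c1 + c2
      exact (mul_eq_zero.mp h3).resolve_left h1ω
    refine ⟨?_, hb, ?_⟩
    · linear_combination c1 - hb
    · linear_combination (-1 : ℂ) * c0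
  rw [hq4] at hd4
  have hcomp : (d4 - d1) • q1 + (d2 - d4) • q2 + (ω * (d3 - d4)) • q3 = 0 := by
    have h1 : A.mulVec (-q1 + q2 + ω • q3) = -(d1 • q1) + d2 • q2 + ω • (d3 • q3) := by
      rw [Matrix.mulVec_add, Matrix.mulVec_add, Matrix.mulVec_neg, Matrix.mulVec_smul, hd1, hd2,
        hd3]
    rw [h1] at hd4
    have h2 : (d4 - d1) • q1 + (d2 - d4) • q2 + (ω * (d3 - d4)) • q3
        = (-(d1 • q1) + d2 • q2 + ω • (d3 • q3)) - d4 • (-q1 + q2 + ω • q3) := by module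
    rw [h2, hd4, sub_self]
  obtain ⟨e1, e2, e3⟩ := hqind _ _ _ hcomp
  have hd1' : d1 = d4 := by linear_combination -e1
  have hd2' : d2 = d4 := by linear_combination e2
  have hd3' : d3 = d4 := by
    have h3 := (mul_eq_zero.mp e3).resolve_left hω0
    linear_combination h3
  refine ⟨d4, ?_⟩
  apply Groth.Agent.S18406.matrix_ext_mulVec
  intro u
  rw [Matrix.smul_mulVec, Matrix.one_mulVec]
  obtain ⟨y, hy⟩ : ∃ y : Fin 3 → ℂ, y = Pm⁻¹.mulVec u := ⟨_, rfl⟩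
  have hPy : Pm.mulVec y = u := by
    rw [hy, Matrix.mulVec_mulVec, Matrix.mul_nonsing_inv Pm hdet, Matrix.one_mulVec]
  obtain ⟨b, hb⟩ : ∃ b : ℂ, b = (y 0 + y 1 + y 2) / (1 - ω) := ⟨_, rfl⟩
  have hb' : b * (1 - ω) = y 0 + y 1 + y 2 := by
    rw [hb, div_mul_cancel₀ _ h1ω]
  have hyv : y = (y 1 - b) • ![0, 1, -1] + b • ![0, 1, -ω] + (-(y 0)) • ![-1, 0, 1] := by
    funext i
    fin_cases i
    · show y 0 = (y 1 - b) * 0 + b * 0 + (-(y 0)) * (-1)
      ring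
    · show y 1 = (y 1 - b) * 1 + b * 1 + (-(y 0)) * 0
      ring
    · show y 2 = (y 1 - b) * (-1) + b * (-ω) + (-(y 0)) * 1
      linear_combination (-1 : ℂ) * hb'
  have hu : u = (y 1 - b) • q1 + b • q2 + (-(y 0)) • q3 := by
    calc u = Pm.mulVec y := hPy.symm
      _ = Pm.mulVec ((y 1 - b) • ![0, 1, -1] + b • ![0, 1, -ω] + (-(y 0)) • ![-1, 0, 1]) :=
          congrArg _ hyv
      _ = _ := by
          rw [Matrix.mulVec_add, Matrix.mulVec_add, Matrix.mulVec_smul, Matrix.mulVec_smul,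
            Matrix.mulVec_smul, ← hq1, ← hq2, ← hq3]
  rw [hu, Matrix.mulVec_add, Matrix.mulVec_add, Matrix.mulVec_smul, Matrix.mulVec_smul,
    Matrix.mulVec_smul, hd1, hd2, hd3, hd1', hd2', hd3']
  module

end Groth.Agent.S18405
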