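import Groth.Statements.S18411
import Mathlib
import Groth.Agent.S18409

set_option autoImplicit false
universe u
open Cubic

namespace Groth.Agent.S18411

section helpers
section hh
open MvPolynomial
open Groth.Agent.S18408 Groth.Agent.S18410 Groth.Agent.S18407 Groth.Agent.S18409

theorem invol_finrank (e : Fin 4 → ℂ) (he : e ≠ 0) (μ : (Fin 4 → ℂ) →ₗ[ℂ] ℂ) (hμ2 : μ e = 2) :
    Module.finrank ℂ ↥(LinearMap.ker (Matrix.toLin' (invol e μ) - LinearMap.id)) = 3 := by
  have hker : LinearMap.ker (Matrix.toLin' (invol e μ) - LinearMap.id) = LinearMap.ker μ := by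
    ext v
    rw [mem_Vp, invol_mulVec, LinearMap.mem_ker]
    constructor
    · intro h
      have h' : μ v • e = 0 := by
        have := sub_eq_self.mp h
        exact this
      rcases smul_eq_zero.mp h' with h0 | h0
      · exact h0
      · exact absurd h0 he
    · intro h
      rw [h, zero_smul, sub_zero]
  rw [hker]
  have hsurj : LinearMap.range μ = ⊤ := by
    apply LinearMap.range_eq_top.mpr
    intro c
    refine ⟨(c / 2) • e, ?_⟩
    rw [map_smul, hμ2, smul_eq_mul]
    ring
  have := LinearMap.finrank_range_add_finrank_ker μ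
  rw [hsurj, finrank_top, Module.finrank_self, Module.finrank_fintype_fun_eq_card,
    Fintype.card_fin] at this
  omega

end hh


end helpers

open MvPolynomial in
/-- Let f be a nonzero homogeneous cubic in four variables over ℂ whose surface S = V_+(f) ⊂ P³ is
smooth (at every nonzero zero of f some partial derivative is nonzero); a line on S is a
2-dimensional subspace of ℂ⁴ on which f vanishes, and an Eckardt point of S is a nonzero vector
lying on three distinct lines on S. Let e, e′, e″ be pairwise non-proportional Eckardt points of S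
spanning a single plane L = span(e, e′) of ℂ⁴ on which f does not vanish identically (three
collinear Eckardt points whose line is not on S), and let A, A′, A″ be their Eckardt involutions: an
involutory matrix A (A² = 1) whose +1-eigenspace is a hyperplane and with A·e = −e, such that the
substitution X_i ↦ Σ_j A_ij X_j multiplies f by a constant — that is, a projective involution
preserving S whose fixed locus is the disjoint union of a plane and the point of e, and likewise for
e′ and e″. Then the three involutions generate, as projective transformations, a group isomorphic to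
the symmetric group on three letters: the product A·A′ is not a scalar matrix, its cube is, and A″
is a scalar multiple of A·A′·A. -/
theorem result (f : MvPolynomial (Fin 4) ℂ) (hf : f.IsHomogeneous 3)
    (hf0 : f ≠ 0) (hsm : ∀ v : Fin 4 → ℂ, v ≠ 0 → eval v f = 0 → ∃ i : Fin 4, eval v (pderiv i f) ≠ 0)
    (e e' e'' : Fin 4 → ℂ) (he : e ≠ 0) (he' : e' ∉ Submodule.span ℂ {e})
    (he''1 : e'' ∉ Submodule.span ℂ {e}) (he''2 : e'' ∉ Submodule.span ℂ {e'}) (he''L : e'' ∈ Submodule.span ℂ {e, e'})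
    (hE : (∃ U : Fin 3 → Submodule ℂ (Fin 4 → ℂ), Function.Injective U ∧
        ∀ i : Fin 3, Module.finrank ℂ ↥(U i) = 2 ∧ e ∈ U i ∧ ∀ u ∈ U i, eval u f = 0))
    (hE' : (∃ U : Fin 3 → Submodule ℂ (Fin 4 → ℂ), Function.Injective U ∧
        ∀ i : Fin 3, Module.finrank ℂ ↥(U i) = 2 ∧ e' ∈ U i ∧ ∀ u ∈ U i, eval u f = 0))
    (hE'' : (∃ U : Fin 3 → Submodule ℂ (Fin 4 → ℂ), Function.Injective U ∧
        ∀ i : Fin 3, Module.finrank ℂ ↥(U i) = 2 ∧ e'' ∈ U i ∧ ∀ u ∈ U i, eval u f = 0))
    (hL : ¬ ∀ u ∈ Submodule.span ℂ {e, e'}, eval u f = 0)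
    (A A' A'' : Matrix (Fin 4) (Fin 4) ℂ)
    (hA : A * A = 1 ∧ Module.finrank ℂ ↥(LinearMap.ker (Matrix.toLin' A - LinearMap.id)) = 3 ∧
        A.mulVec e = -e ∧ ∃ c : ℂ, aeval (fun i : Fin 4 => ∑ j : Fin 4, C (A i j) * X j) f = C c * f)
    (hA' : A' * A' = 1 ∧ Module.finrank ℂ ↥(LinearMap.ker (Matrix.toLin' A' - LinearMap.id)) = 3 ∧
        A'.mulVec e' = -e' ∧ ∃ c : ℂ, aeval (fun i : Fin 4 => ∑ j : Fin 4, C (A' i j) * X j) f = C c * f)
    (hA'' : A'' * A'' = 1 ∧ Module.finrank ℂ ↥(LinearMap.ker (Matrix.toLin' A'' - LinearMap.id)) = 3 ∧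
        A''.mulVec e'' = -e'' ∧ ∃ c : ℂ, aeval (fun i : Fin 4 => ∑ j : Fin 4, C (A'' i j) * X j) f = C c * f) :
    (¬ ∃ c : ℂ, A * A' = c • (1 : Matrix (Fin 4) (Fin 4) ℂ)) ∧ (∃ c : ℂ, (A * A') ^ 3 = c • (1 : Matrix (Fin 4) (Fin 4) ℂ)) ∧
      ∃ c : ℂ, A'' = c • (A * A' * A) := by
  have hfe : MvPolynomial.eval e f = 0 := by
    obtain ⟨U, -, hU⟩ := hE
    exact (hU 0).2.2 e (hU 0).2.1
  have hfe' : MvPolynomial.eval e' f = 0 := by
    obtain ⟨U, -, hU⟩ := hE'
    exact (hU 0).2.2 e' (hU 0).2.1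
  have hfe'' : MvPolynomial.eval e'' f = 0 := by
    obtain ⟨U, -, hU⟩ := hE''
    exact (hU 0).2.2 e'' (hU 0).2.1
  have he'0 : e' ≠ 0 := by
    rintro rfl
    exact he' (Submodule.zero_mem _)
  have he''0 : e'' ≠ 0 := by
    rintro rfl
    exact he''1 (Submodule.zero_mem _)
  obtain ⟨μ, hμ1, hμ2⟩ := Groth.Agent.S18407.exists_mu f hf hsm e he hfe hE
  obtain ⟨μ', hμ'1, hμ'2⟩ := Groth.Agent.S18407.exists_mu f hf hsm e' he'0 hfe' hE'
  have hAeq : A = Groth.Agent.S18407.invol e μ :=
    Groth.Agent.S18407.unique_invol f hf hf0 hsm e he hfe μ hμ1 hμ2 A hA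
  have hA'eq : A' = Groth.Agent.S18407.invol e' μ' :=
    Groth.Agent.S18407.unique_invol f hf hf0 hsm e' he'0 hfe' μ' hμ'1 hμ'2 A' hA'
  have hAv : ∀ v, A.mulVec v = v - μ v • e := fun v => by
    rw [hAeq]; exact Groth.Agent.S18407.invol_mulVec e μ v
  have hA'v : ∀ v, A'.mulVec v = v - μ' v • e' := fun v => by
    rw [hA'eq]; exact Groth.Agent.S18407.invol_mulVec e' μ' v
  have hinvA : ∀ v, MvPolynomial.eval (A.mulVec v) f = MvPolynomial.eval v f := fun v => by
    rw [hAeq]; exact Groth.Agent.S18409.invol_invariant f hf e hfe μ hμ1 v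
  have hinvA' : ∀ v, MvPolynomial.eval (A'.mulVec v) f = MvPolynomial.eval v f := fun v => by
    rw [hA'eq]; exact Groth.Agent.S18409.invol_invariant f hf e' hfe' μ' hμ'1 v
  have hAA := hA.1
  have hA'A' := hA'.1
  have hg := Groth.Agent.S18409.g_formula f hf e e' hfe hfe' μ hμ1
  obtain ⟨r1, r2⟩ := Groth.Agent.S18409.pair_rel f hf e e' hfe hfe' μ hμ1 μ' hμ'1
  have hind := Groth.Agent.S18409.indep e e' he he'
  have hd : Groth.Agent.S18408.dd f e e' ≠ 0 := by
    intro hd
    apply hL
    intro u hu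
    obtain ⟨s, t, rfl⟩ := Submodule.mem_span_pair.mp hu
    rw [hg, hd]; ring
  have hmm : μ e' * μ' e = 1 := by
    have h0 : Groth.Agent.S18408.dd f e e' * (μ e' * μ' e - 1) = 0 := by
      have h1 := r2
      rw [r1] at h1
      linear_combination -h1
    rcases mul_eq_zero.mp h0 with h | h
    · exact absurd h hd
    · linear_combination h
  have hm : μ e' ≠ 0 := by
    intro h
    rw [h, zero_mul] at hmm
    exact zero_ne_one hmm
  obtain ⟨s, t, hst⟩ := Submodule.mem_span_pair.mp he''L
  have hs : s ≠ 0 := by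
    rintro rfl
    apply he''2
    rw [← hst, zero_smul, zero_add]
    exact Submodule.smul_mem _ _ (Submodule.mem_span_singleton_self e')
  have ht : t ≠ 0 := by
    rintro rfl
    apply he''1
    rw [← hst, zero_smul, add_zero]
    exact Submodule.smul_mem _ _ (Submodule.mem_span_singleton_self e)
  have hz : s * t * Groth.Agent.S18408.dd f e e' * (t * μ e' + s) = 0 := by
    rw [← hg, hst, hfe'']
  have hs' : s = -(t * μ e') := by
    rcases mul_eq_zero.mp hz with h | h
    · exfalso
      rcases mul_eq_zero.mp h with h | h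
      · rcases mul_eq_zero.mp h with h | h
        · exact hs h
        · exact ht h
      · exact hd h
    · linear_combination h
  have he''eq : e'' = t • (e' - μ e' • e) := by
    rw [← hst, hs']; module
  have key1 : ∀ v, A.mulVec (A'.mulVec (A.mulVec v)) =
      v + (μ' v * μ e' - μ v) • e - (μ' v - μ v * μ' e) • e' := by
    intro v
    have h1 : μ' (A.mulVec v) = μ' v - μ v * μ' e := by
      rw [hAv, map_sub, map_smul, smul_eq_mul]
    have h2 : μ (A'.mulVec (A.mulVec v)) = -(μ' v * μ e') := by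
      rw [hA'v, map_sub, map_smul, smul_eq_mul, h1, hAv, map_sub, map_smul, smul_eq_mul, hμ2]
      linear_combination (μ v) * hmm
    rw [hAv (A'.mulVec (A.mulVec v)), h2, hA'v (A.mulVec v), h1, hAv v]
    module
  have key2 : ∀ v, A'.mulVec (A.mulVec (A'.mulVec v)) =
      v + (μ' v * μ e' - μ v) • e - (μ' v - μ v * μ' e) • e' := by
    intro v
    have h1 : μ (A'.mulVec v) = μ v - μ' v * μ e' := by
      rw [hA'v, map_sub, map_smul, smul_eq_mul]
    have h2 : μ' (A.mulVec (A'.mulVec v)) = -(μ v * μ' e) := by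
      rw [hAv, map_sub, map_smul, smul_eq_mul, h1, hA'v, map_sub, map_smul, smul_eq_mul, hμ'2]
      linear_combination (μ' v) * hmm
    rw [hA'v (A.mulVec (A'.mulVec v)), h2, hAv (A'.mulVec v), h1, hA'v v]
    module
  have hBB' : A * A' * A = A' * A * A' := by
    apply Groth.Agent.S18407.matrix_ext_mulVec
    intro v
    rw [← Matrix.mulVec_mulVec, ← Matrix.mulVec_mulVec, ← Matrix.mulVec_mulVec,
      ← Matrix.mulVec_mulVec, key1, key2]
  have hBB : A * A' * A * (A * A' * A) = 1 := by
    calc A * A' * A * (A * A' * A) = A * (A' * (A * A) * A') * A := by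
          simp only [Matrix.mul_assoc]
      _ = 1 := by rw [hAA, Matrix.mul_one, hA'A', Matrix.mul_one, hAA]
  refine ⟨?_, ?_, ?_⟩
  · rintro ⟨c, hc⟩
    have h1 := congrArg (fun M : Matrix (Fin 4) (Fin 4) ℂ => M.mulVec e') hc
    rw [← Matrix.mulVec_mulVec, hA'v e', hμ'2, Matrix.smul_mulVec, Matrix.one_mulVec] at h1
    have h2 : e' - (2 : ℂ) • e' = -e' := by module
    rw [h2, Matrix.mulVec_neg, hAv] at h1
    have := hind (μ e') (-1 - c) (by linear_combination (norm := module) h1)
    exact hm this.1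
  · refine ⟨1, ?_⟩
    rw [one_smul]
    have e1 : (A * A') ^ 3 = (A * A' * A) * (A' * A * A') := by
      rw [pow_three']; simp only [Matrix.mul_assoc]
    rw [e1, ← hBB', hBB]
  · refine ⟨1, ?_⟩
    rw [one_smul]
    have he1 : e' - μ e' • e ≠ 0 := fun h => he''0 (by rw [he''eq, h, smul_zero])
    set ν : (Fin 4 → ℂ) →ₗ[ℂ] ℂ := μ' - (μ' e) • μ with hν
    have hνv : ∀ v, ν v = μ' v - μ' e * μ v := fun v => rfl
    have hν2 : ν (e' - μ e' • e) = 2 := by
      rw [hνv, map_sub, map_sub, map_smul, map_smul, hμ2, hμ'2, smul_eq_mul, smul_eq_mul]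
      ring
    have hB : A * A' * A = Groth.Agent.S18407.invol (e' - μ e' • e) ν := by
      apply Groth.Agent.S18407.matrix_ext_mulVec
      intro v
      rw [← Matrix.mulVec_mulVec, ← Matrix.mulVec_mulVec, key1, Groth.Agent.S18407.invol_mulVec, hνv]
      have h3 : (μ' v * μ e' - μ v) = (μ' v - μ' e * μ v) * μ e' := by
        linear_combination (μ v) * hmm
      rw [h3]; module
    have hP : (A * A' * A) * (A * A' * A) = 1 ∧
        Module.finrank ℂ ↥(LinearMap.ker (Matrix.toLin' (A * A' * A) - LinearMap.id)) = 3 ∧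
        (A * A' * A).mulVec e'' = -e'' ∧ ∃ c : ℂ, MvPolynomial.aeval (fun i : Fin 4 => ∑ j : Fin 4, MvPolynomial.C ((A * A' * A) i j) * MvPolynomial.X j) f = MvPolynomial.C c * f := by
      refine ⟨hBB, ?_, ?_, 1, ?_⟩
      · rw [hB]; exact invol_finrank _ he1 ν hν2
      · rw [hB, Groth.Agent.S18407.invol_mulVec, he''eq, map_smul, hν2, smul_eq_mul]; module
      · apply MvPolynomial.funext
        intro v
        rw [Groth.Agent.S18408.eval_subst, map_mul, MvPolynomial.eval_C, one_mul,
          ← Matrix.mulVec_mulVec, ← Matrix.mulVec_mulVec, hinvA, hinvA', hinvA]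
    exact (Groth.Agent.S18407.result f hf hf0 hsm e'' he''0 hE'').unique hA'' hP

end Groth.Agent.S18411
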