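import Groth.Statements.S18412
import Mathlib
import Groth.Agent.Lib.Helper22.HesseAut3

set_option autoImplicit false
universe u
open Cubic

namespace Groth.Agent.S18412

open MvPolynomial in
/-- For all k ∈ ℂ outside a finite set, the Hesse cubic h_k = X₀³ + X₁³ + X₂³ − 3k·X₀X₁X₂ has exactly 18
projective automorphisms; spelled without quotients as: the matrices A of determinant 1 whose
substitution X_i ↦ Σ_j A_ij X_j carries h_k to a constant multiple of h_k are exactly 54 in number
(every projective class has three lifts of determinant one, so 54 = 3 · 18). As every smooth plane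
cubic over ℂ is projectively equivalent to some h_k, this is the statement that the general smooth
plane cubic has a projective automorphism group of order 18. -/
theorem result :
    ∃ T : Finset ℂ, ∀ k : ℂ, k ∉ T →
      Nat.card {A : Matrix (Fin 3) (Fin 3) ℂ // A.det = 1 ∧
        ∃ c : ℂ, aeval (fun i : Fin 3 => ∑ j : Fin 3, C (A i j) * X j) (HesseCubic.form k) =
          C c * HesseCubic.form k} = 54 := by
  obtain ⟨s, hs⟩ : ∃ s : ℂ, s ^ 2 = -3 := IsAlgClosed.exists_pow_nat_eq (-3 : ℂ) (by norm_num)
  obtain ⟨ω, hω_def⟩ : ∃ ω : ℂ, ω = (-1 + s) / 2 := ⟨_, rfl⟩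
  have hω : ω ^ 2 + ω + 1 = 0 := by rw [hω_def]; linear_combination (1 / 4 : ℂ) * hs
  refine ⟨(Groth.Agent.Lib.Helper22.HesseAut3.Pbad ω).roots.toFinset, fun k hk => ?_⟩
  obtain ⟨hk0, hk1, hbad⟩ := Groth.Agent.Lib.Helper22.HesseAut3.Pbad_spec ω hω k hk
  exact Groth.Agent.Lib.Helper22.HesseAut3.card_eq ω hω k hk0 hk1 hbad

end Groth.Agent.S18412
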