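import Groth.Statements.S18417
import Groth.Agent.Lib.Helper24.TruncPoly1

open Groth.Agent.Lib.helper24 Groth.Agent.Lib.helper11

set_option autoImplicit false
universe u v
open CAlg

namespace Groth.Agent.S18417

/-- Let R → A be a ring homomorphism and x_1, …, x_d a weakly regular sequence in A generating an ideal
J such that B = A/J is formally smooth over R. Then for every N ≥ 1 there is an isomorphism of
R-algebras e : A/J^N ≅ B[T_1, …, T_d]/(T_1, …, T_d)^N which sends the class of x_i to the class of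
T_i and which is compatible with the projections to B: for every a ∈ A, e(a mod J^N) is congruent to
the constant a mod J modulo the ideal generated by the variables. (The source also assumes R → A
smooth, which its argument does not use, and a regular sequence; weak regularity is what the
argument uses.) -/
theorem result
    (R : Type u) (A : Type v) [CommRing R] [CommRing A] [Algebra R A] (d : ℕ) (x : Fin d → A)
    (hreg : RingTheory.Sequence.IsWeaklyRegular A (List.ofFn x))
    [Algebra.FormallySmooth R (A ⧸ Ideal.span (Set.range x))] (N : ℕ) (hN : 1 ≤ N) :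
    ∃ e : (A ⧸ Ideal.span (Set.range x) ^ N) ≃ₐ[R]
        (MvPolynomial (Fin d) (A ⧸ Ideal.span (Set.range x)) ⧸
          Ideal.span (Set.range (MvPolynomial.X : Fin d → MvPolynomial (Fin d) (A ⧸ Ideal.span (Set.range x)))) ^ N),
      (∀ i : Fin d, e (Ideal.Quotient.mk _ (x i)) = Ideal.Quotient.mk _ (MvPolynomial.X i)) ∧
      ∀ a : A, e (Ideal.Quotient.mk _ a) - Ideal.Quotient.mk _ (MvPolynomial.C (Ideal.Quotient.mk _ a)) ∈
        (Ideal.span (Set.range (MvPolynomial.X : Fin d → MvPolynomial (Fin d) (A ⧸ Ideal.span (Set.range x))))).map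
          (Ideal.Quotient.mk _) := by
  classical
  have hN0 : N ≠ 0 := by omega
  have hle : Ideal.span (Set.range x) ^ N ≤ Ideal.span (Set.range x) := Ideal.pow_le_self hN0
  let g : (A ⧸ Ideal.span (Set.range x) ^ N) →ₐ[R] (A ⧸ Ideal.span (Set.range x)) :=
    Ideal.Quotient.factorₐ R hle
  have hgπ : ∀ a : A, (g : (A ⧸ Ideal.span (Set.range x) ^ N) →+* (A ⧸ Ideal.span (Set.range x)))
      (Ideal.Quotient.mk (Ideal.span (Set.range x) ^ N) a) =
        Ideal.Quotient.mk (Ideal.span (Set.range x)) a := fun a => rfl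
  have hgs : Function.Surjective g := Ideal.Quotient.factor_surjective hle
  have hq : RingHom.ker (Ideal.Quotient.mk (Ideal.span (Set.range x))) =
      Ideal.span (Set.range x) := Ideal.mk_ker
  have hπk : RingHom.ker (Ideal.Quotient.mk (Ideal.span (Set.range x) ^ N)) =
      Ideal.span (Set.range x) ^ N := Ideal.mk_ker
  have hπs : Function.Surjective (Ideal.Quotient.mk (Ideal.span (Set.range x) ^ N)) :=
    Ideal.Quotient.mk_surjective
  have hqs : Function.Surjective (Ideal.Quotient.mk (Ideal.span (Set.range x))) :=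
    Ideal.Quotient.mk_surjective
  have hnil : IsNilpotent (RingHom.ker
      (g : (A ⧸ Ideal.span (Set.range x) ^ N) →+* (A ⧸ Ideal.span (Set.range x)))) := by
    refine ⟨N, ?_⟩
    rw [Ideal.zero_eq_bot, ← le_bot_iff, ← TruncPoly1.map_pow_eq_bot hπk]
    exact Ideal.pow_right_mono (TruncPoly1.ker_le hq hπs hgπ) N
  let σ : (A ⧸ Ideal.span (Set.range x)) →ₐ[R] (A ⧸ Ideal.span (Set.range x) ^ N) :=
    Algebra.FormallySmooth.liftOfSurjective (AlgHom.id R _) g hgs hnil
  have hσ : ∀ b, (g : (A ⧸ Ideal.span (Set.range x) ^ N) →+* (A ⧸ Ideal.span (Set.range x)))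
      ((σ : (A ⧸ Ideal.span (Set.range x)) →+* (A ⧸ Ideal.span (Set.range x) ^ N)) b) = b :=
    fun b => Algebra.FormallySmooth.liftOfSurjective_apply (AlgHom.id R _) g hgs hnil b
  have hQR := QuasiReg.QR_of_isWeaklyRegular d x hreg
  let Ψ := TruncPoly1.Psi x (Ideal.Quotient.mk (Ideal.span (Set.range x) ^ N))
    (σ : (A ⧸ Ideal.span (Set.range x)) →+* (A ⧸ Ideal.span (Set.range x) ^ N))
  have hsurj : Function.Surjective Ψ := TruncPoly1.Psi_surjective hq hπs hπk hgπ hσ
  have hker : RingHom.ker Ψ = MvPolynomial.idealOfVars (Fin d) (A ⧸ Ideal.span (Set.range x)) ^ N :=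
    le_antisymm (TruncPoly1.ker_Psi_le hq hqs hπs hπk hgπ hσ hQR) (TruncPoly1.le_ker_Psi hπk)
  have hcomp := TruncPoly1.comp_Psi (σ := (σ : (A ⧸ Ideal.span (Set.range x)) →+*
    (A ⧸ Ideal.span (Set.range x) ^ N))) hgπ hq hσ
  let Ψa : MvPolynomial (Fin d) (A ⧸ Ideal.span (Set.range x)) →ₐ[R]
      (A ⧸ Ideal.span (Set.range x) ^ N) :=
    { Ψ with
      commutes' := fun r => by
        change Ψ (algebraMap R (MvPolynomial (Fin d) (A ⧸ Ideal.span (Set.range x))) r) = _
        rw [MvPolynomial.algebraMap_apply, TruncPoly1.Psi_C]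
        exact σ.commutes r }
  have hΨa : ∀ p, Ψa p = Ψ p := fun p => rfl
  let Ψq : (MvPolynomial (Fin d) (A ⧸ Ideal.span (Set.range x)) ⧸
      Ideal.span (Set.range (MvPolynomial.X : Fin d →
        MvPolynomial (Fin d) (A ⧸ Ideal.span (Set.range x)))) ^ N) →ₐ[R]
      (A ⧸ Ideal.span (Set.range x) ^ N) :=
    Ideal.Quotient.liftₐ _ Ψa (fun p hp => by
      rw [hΨa, ← RingHom.mem_ker, hker]; exact hp)
  have hΨq : ∀ p, Ψq (Ideal.Quotient.mk _ p) = Ψ p := fun p => rfl
  have hbij : Function.Bijective Ψq := by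
    constructor
    · rw [injective_iff_map_eq_zero]
      intro y hy
      obtain ⟨p, rfl⟩ := Ideal.Quotient.mk_surjective y
      rw [hΨq, ← RingHom.mem_ker, hker] at hy
      exact Ideal.Quotient.eq_zero_iff_mem.2 hy
    · intro c
      obtain ⟨p, rfl⟩ := hsurj c
      exact ⟨Ideal.Quotient.mk _ p, hΨq p⟩
  refine ⟨(AlgEquiv.ofBijective Ψq hbij).symm, ?_, ?_⟩
  · intro i
    rw [AlgEquiv.symm_apply_eq, AlgEquiv.ofBijective_apply, hΨq]
    exact (TruncPoly1.Psi_X x _ _ i).symm
  · intro a
    obtain ⟨p, hp⟩ := hsurj (Ideal.Quotient.mk _ a)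
    have h1 : (AlgEquiv.ofBijective Ψq hbij).symm (Ideal.Quotient.mk _ a) =
        Ideal.Quotient.mk _ p := by
      rw [AlgEquiv.symm_apply_eq, AlgEquiv.ofBijective_apply, hΨq, hp]
    have h2 : MvPolynomial.constantCoeff p = Ideal.Quotient.mk _ a := by
      rw [← hcomp, RingHom.comp_apply, hp, hgπ]
    rw [h1, ← h2, ← map_sub]
    exact Ideal.mem_map_of_mem _ (TruncPoly1.sub_C_constantCoeff_mem p)

end Groth.Agent.S18417
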