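import Groth.Statements.S18418
import Mathlib
-- import your own Groth.Agent.* helpers here

set_option autoImplicit false
universe u v
open FonLaf

namespace Groth.Agent.S18418
open scoped DirectSum

section Twist

/-- `X` with scalars acting through `σ` -/
@[nolint unusedArguments]
def Twist {W : Type u} [CommRing W] (_σ : W →+* W) (X : Type v) : Type v := X

variable {W : Type u} [CommRing W] (σ : W →+* W) (X : Type v)

instance [AddCommGroup X] : AddCommGroup (Twist σ X) := inferInstanceAs (AddCommGroup X)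

instance [AddCommGroup X] [Module W X] : Module W (Twist σ X) := Module.compHom X σ

variable {X} [AddCommGroup X] [Module W X]

/-- the identity, as an additive equivalence -/
def Twist.mk : X ≃+ Twist σ X := AddEquiv.refl X

theorem Twist.smul_mk (w : W) (x : X) : w • Twist.mk σ x = Twist.mk σ (σ w • x) := rfl

omit [Module W X] in
theorem Twist.mk_surjective : Function.Surjective (Twist.mk σ : X → Twist σ X) :=
  (Twist.mk σ).surjective

theorem length_twist (hσ : Function.Bijective σ) :
    Module.length W (Twist σ X) = Module.length W X := by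
  haveI : RingHomSurjective σ := ⟨hσ.surjective⟩
  let f : Twist σ X →ₛₗ[σ] X :=
    { toFun := fun x => (Twist.mk σ).symm x
      map_add' := fun _ _ => rfl
      map_smul' := fun _ _ => rfl }
  have hf : Function.Bijective f := (Twist.mk σ).symm.bijective
  rw [Module.length, Module.length, WithBot.unbot_inj,
    Order.krullDim_eq_of_orderIso (Submodule.orderIsoMapComapOfBijective f hf)]

end Twist

/-- a finite length module over a local ring is killed by a power of any non-unit -/
theorem exists_pow_smul_eq_zero {W : Type u} [CommRing W] [IsLocalRing W] (π : W) (hπ : ¬ IsUnit π)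
    {B : Type v} [AddCommGroup B] [Module W B] (hB : IsFiniteLength W B) :
    ∃ n : ℕ, ∀ b : B, π ^ n • b = 0 := by
  obtain ⟨hN, hA⟩ := isFiniteLength_iff_isNoetherian_isArtinian.mp hB
  let P : ℕ →o (Submodule W B)ᵒᵈ :=
    ⟨fun n => OrderDual.toDual (LinearMap.range (LinearMap.lsmul W B (π ^ n))), by
      intro a b hab
      change LinearMap.range (LinearMap.lsmul W B (π ^ b)) ≤
        LinearMap.range (LinearMap.lsmul W B (π ^ a))
      rintro x ⟨y, rfl⟩
      refine ⟨π ^ (b - a) • y, ?_⟩
      simp only [LinearMap.lsmul_apply, smul_smul, ← pow_add]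
      rw [Nat.add_sub_cancel' hab]⟩
  obtain ⟨n, hn⟩ := IsArtinian.monotone_stabilizes P
  have h1 : LinearMap.range (LinearMap.lsmul W B (π ^ n)) =
      LinearMap.range (LinearMap.lsmul W B (π ^ (n + 1))) := hn (n + 1) (Nat.le_succ n)
  have h2 : LinearMap.range (LinearMap.lsmul W B (π ^ n)) = ⊥ := by
    refine Submodule.eq_bot_of_le_smul_of_le_jacobson_bot (Ideal.span {π}) _
      (IsNoetherian.noetherian _) ?_ ?_
    · intro x hx
      rw [h1] at hx
      obtain ⟨y, rfl⟩ := hx
      have : (LinearMap.lsmul W B (π ^ (n + 1))) y = π • (π ^ n • y) := by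
        simp only [LinearMap.lsmul_apply, smul_smul, pow_succ']
      rw [this]
      exact Submodule.smul_mem_smul (Ideal.mem_span_singleton_self π) ⟨y, rfl⟩
    · rw [IsLocalRing.jacobson_eq_maximalIdeal ⊥ bot_ne_top, Ideal.span_le]
      intro x hx
      rw [Set.mem_singleton_iff] at hx
      rw [hx]
      exact (IsLocalRing.mem_maximalIdeal π).mpr hπ
  refine ⟨n, fun b => ?_⟩
  have : π ^ n • b ∈ LinearMap.range (LinearMap.lsmul W B (π ^ n)) := ⟨b, rfl⟩
  rw [h2] at this
  exact (Submodule.mem_bot W).mp this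

/-- the abstract counting lemma -/
theorem injective_of_count {W : Type u} [CommRing W] {S T N0 Tw : Type v} [AddCommGroup S]
    [AddCommGroup T] [AddCommGroup N0] [AddCommGroup Tw] [Module W S] [Module W T] [Module W N0]
    [Module W Tw] (hS : IsFiniteLength W S) (hN0 : IsFiniteLength W N0)
    (ι : S →ₗ[W] T) (Φ : T →ₗ[W] Tw) (hΦ : Function.Surjective Φ)
    (hker : LinearMap.ker Φ ≤ LinearMap.range ι)
    (hT : Module.length W T = Module.length W N0 + Module.length W S)
    (hTw : Module.length W Tw = Module.length W N0) : Function.Injective ι := by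
  have e1 : Module.length W T = Module.length W (LinearMap.ker Φ) + Module.length W Tw :=
    Module.length_eq_add_of_exact (LinearMap.ker Φ).subtype Φ (Submodule.subtype_injective _) hΦ
      (LinearMap.exact_subtype_ker_map Φ)
  have e2 : Module.length W (LinearMap.ker Φ) ≤ Module.length W (LinearMap.range ι) :=
    Module.length_le_of_injective (Submodule.inclusion hker) (Submodule.inclusion_injective hker)
  have e3 : Module.length W S =
      Module.length W (LinearMap.ker ι) + Module.length W (LinearMap.range ι) :=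
    Module.length_eq_add_of_exact (LinearMap.ker ι).subtype ι.rangeRestrict
      (Submodule.subtype_injective _) ι.surjective_rangeRestrict (by
        rw [LinearMap.exact_iff, LinearMap.ker_rangeRestrict, Submodule.range_subtype])
  have fS : Module.length W S ≠ ⊤ := Module.length_ne_top_iff.mpr hS
  have fN : Module.length W N0 ≠ ⊤ := Module.length_ne_top_iff.mpr hN0
  have fK : Module.length W (LinearMap.ker ι) ≠ ⊤ := by
    intro h; rw [h, top_add] at e3; exact fS e3
  have fR : Module.length W (LinearMap.range ι) ≠ ⊤ := by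
    intro h; rw [h, add_top] at e3; exact fS e3
  have fP : Module.length W (LinearMap.ker Φ) ≠ ⊤ := fun h => fR (top_le_iff.mp (h ▸ e2))
  rw [hTw, hT, e3] at e1
  lift Module.length W S to ℕ using fS with lS
  lift Module.length W N0 to ℕ using fN with lN
  lift Module.length W (LinearMap.ker ι) to ℕ using fK with lK hK
  lift Module.length W (LinearMap.range ι) to ℕ using fR with lR
  lift Module.length W (LinearMap.ker Φ) to ℕ using fP with lP
  have e1' : lN + (lK + lR) = lP + lN := by exact_mod_cast e1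
  have e2' : lP ≤ lR := by exact_mod_cast e2
  have : lK = 0 := by omega
  rw [this] at hK
  have hsub : Subsingleton (LinearMap.ker ι) := Module.length_eq_zero_iff.mp hK.symm
  rw [← LinearMap.ker_eq_bot]
  exact Submodule.eq_bot_of_subsingleton

section System

variable {W : Type u} [CommRing W] (π : W) (r : ℕ)
  (N : ℕ → Type v) [∀ i, AddCommGroup (N i)] [∀ i, Module W (N i)]
  (α : ∀ i, N (i + 1) →ₗ[W] N i)

variable (W) in
/-- extension by zero of a finite family -/
def ext2 : ((i : Fin r) → N (i + 1)) →ₗ[W] ((i : ℕ) → N (i + 1)) :=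
  LinearMap.pi (fun i => if h : i < r then LinearMap.proj (⟨i, h⟩ : Fin r) else 0)

theorem ext2_apply_of_lt (z : (i : Fin r) → N (i + 1)) (i : ℕ) (h : i < r) :
    ext2 W r N z i = z ⟨i, h⟩ := by
  simp [ext2, h]

theorem ext2_apply_of_le (z : (i : Fin r) → N (i + 1)) (i : ℕ) (h : r ≤ i) :
    ext2 W r N z i = 0 := by
  simp [ext2, not_lt.mpr h]

theorem ext2_restrict (z : (i : ℕ) → N (i + 1)) (hz : ∀ i, r ≤ i → z i = 0) :
    ext2 W r N (fun i : Fin r => z i) = z := by
  funext i
  by_cases h : i < r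
  · rw [ext2_apply_of_lt _ _ _ _ h]
  · rw [ext2_apply_of_le _ _ _ _ (not_lt.mp h), hz i (not_lt.mp h)]

/-- the glueing map on `ℕ`-indexed families -/
def iotaN : ((i : ℕ) → N (i + 1)) →ₗ[W] ((i : ℕ) → N i) :=
  LinearMap.pi (fun i => match i with
    | 0 => (α 0).comp (LinearMap.proj 0)
    | j + 1 => (α (j + 1)).comp (LinearMap.proj (j + 1)) - π • LinearMap.proj j)

theorem iotaN_zero (z : (i : ℕ) → N (i + 1)) : iotaN π N α z 0 = α 0 (z 0) := rfl

theorem iotaN_succ (z : (i : ℕ) → N (i + 1)) (j : ℕ) :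
    iotaN π N α z (j + 1) = α (j + 1) (z (j + 1)) - π • z j := rfl

/-- the glueing map `N_1 ⊕ ⋯ ⊕ N_r → N_0 ⊕ ⋯ ⊕ N_r` -/
def iota : ((i : Fin r) → N (i + 1)) →ₗ[W] ((i : Fin (r + 1)) → N i) :=
  (LinearMap.pi (fun i : Fin (r + 1) => LinearMap.proj (i : ℕ))).comp
    ((iotaN π N α).comp (ext2 W r N))

theorem iota_apply (z : (i : Fin r) → N (i + 1)) (i : Fin (r + 1)) :
    iota π r N α z i = iotaN π N α (ext2 W r N z) i := rfl

variable {Tw : Type v} [AddCommGroup Tw] [Module W Tw] (Φc : ∀ i, N i →ₗ[W] Tw)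

/-- the sum map `N_0 ⊕ ⋯ ⊕ N_r → Tw` -/
def PhiF : ((i : Fin (r + 1)) → N i) →ₗ[W] Tw :=
  ∑ i : Fin (r + 1), (Φc i).comp (LinearMap.proj i)

theorem PhiF_apply (y : (i : Fin (r + 1)) → N i) :
    PhiF r N Φc y = ∑ i : Fin (r + 1), Φc i (y i) := by
  simp [PhiF, LinearMap.sum_apply]

theorem injective_alpha_of_injective_iota (hι : Function.Injective (iota π r N α))
    (htors : ∀ i (x : N (i + 1)), ∃ n : ℕ, π ^ n • x = 0) (i : ℕ) (hi : i < r) :
    Function.Injective (α i) := by
  classical
  rw [injective_iff_map_eq_zero]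
  intro x hx
  by_contra hne
  have hex := htors i x
  have hn0 : Nat.find hex ≠ 0 := by
    intro h0
    have := Nat.find_spec hex
    rw [h0, pow_zero, one_smul] at this
    exact hne this
  obtain ⟨m, hm⟩ := Nat.exists_eq_succ_of_ne_zero hn0
  have hx'ne : π ^ m • x ≠ 0 := Nat.find_min hex (by omega)
  have hx'π : π • (π ^ m • x) = 0 := by
    have := Nat.find_spec hex
    rw [hm, Nat.succ_eq_add_one, pow_succ', mul_smul] at this
    exact this
  have hx'α : α i (π ^ m • x) = 0 := by rw [map_smul, hx, smul_zero]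
  set x' := π ^ m • x with hx'def
  let z : (l : ℕ) → N (l + 1) := Pi.single i x'
  have hz : ∀ l, r ≤ l → z l = 0 := by
    intro l hl
    exact Pi.single_eq_of_ne (by omega) _
  have hzN : iotaN π N α z = 0 := by
    funext j
    cases j with
    | zero =>
      rw [iotaN_zero]
      by_cases h0 : (0 : ℕ) = i
      · subst h0
        rw [show z 0 = x' from Pi.single_eq_same _ _, hx'α]
        rfl
      · rw [show z 0 = 0 from Pi.single_eq_of_ne h0 _, map_zero]
        rfl
    | succ l =>
      rw [iotaN_succ]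
      by_cases h1 : l + 1 = i
      · subst h1
        rw [show z (l + 1) = x' from Pi.single_eq_same _ _, hx'α,
          show z l = 0 from Pi.single_eq_of_ne (by omega) _, smul_zero, sub_zero]
        rfl
      · rw [show z (l + 1) = 0 from Pi.single_eq_of_ne h1 _, map_zero]
        by_cases h2 : l = i
        · subst h2
          rw [show z l = x' from Pi.single_eq_same _ _, hx'π, sub_zero]
          rfl
        · rw [show z l = 0 from Pi.single_eq_of_ne h2 _, smul_zero, sub_zero]
          rfl
  have hzF : iota π r N α (fun l : Fin r => z l) = 0 := by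
    funext j
    rw [iota_apply, ext2_restrict (W := W) r N z hz, hzN]
    rfl
  have h3 := hι (hzF.trans (map_zero _).symm)
  have h4 : z i = 0 := congrFun h3 ⟨i, hi⟩
  rw [show z i = x' from Pi.single_eq_same _ _] at h4
  exact hx'ne h4

end System

section Quot

variable {W : Type u} [CommRing W] (π : W) (r : ℕ)
  (N : ℕ → Type v) [∀ i, AddCommGroup (N i)] [∀ i, Module W (N i)]
  (α : ∀ i, N (i + 1) →ₗ[W] N i) (n : ℕ)

/-- `π ^ n N_i` -/
def P (i : ℕ) : Submodule W (N i) := LinearMap.range (LinearMap.lsmul W (N i) (π ^ n))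

theorem mem_P {i : ℕ} {x : N i} : x ∈ P π N n i ↔ ∃ y : N i, π ^ n • y = x := Iff.rfl

/-- `N_i / π ^ n N_i` -/
abbrev Nq (i : ℕ) : Type v := N i ⧸ P π N n i

/-- the induced transition maps -/
def αq (i : ℕ) : Nq π N n (i + 1) →ₗ[W] Nq π N n i :=
  (P π N n (i + 1)).mapQ (P π N n i) (α i) (by
    rintro x ⟨y, rfl⟩
    exact ⟨α i y, by simp⟩)

theorem αq_mk (i : ℕ) (x : N (i + 1)) :
    αq π N α n i (Submodule.Quotient.mk x) = Submodule.Quotient.mk (α i x) := rfl

theorem pow_smul_Nq (i : ℕ) (x : Nq π N n i) : π ^ n • x = 0 := by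
  obtain ⟨y, rfl⟩ := Submodule.Quotient.mk_surjective _ x
  rw [← Submodule.Quotient.mk_smul, Submodule.Quotient.mk_eq_zero]
  exact ⟨y, rfl⟩

variable (σ : W →+* W) (φ : ∀ i, N i →ₛₗ[σ] N 0) (hσπ : σ π = π)

/-- the induced (twisted-linear) maps to `N_0 / π ^ n N_0` -/
def Φq (i : ℕ) : Nq π N n i →ₗ[W] Twist σ (Nq π N n 0) :=
  (P π N n i).liftQ
    { toFun := fun x => Twist.mk σ (Submodule.Quotient.mk (φ i x))
      map_add' := fun x y => by
        rw [map_add, Submodule.Quotient.mk_add, map_add]
      map_smul' := fun w x => by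
        rw [map_smulₛₗ, Submodule.Quotient.mk_smul, RingHom.id_apply, Twist.smul_mk] }
    (by
      rintro x ⟨y, rfl⟩
      rw [LinearMap.mem_ker]
      change Twist.mk σ (Submodule.Quotient.mk (φ i (π ^ n • y))) = 0
      rw [map_smulₛₗ, map_pow, hσπ,
        (Submodule.Quotient.mk_eq_zero _).mpr (⟨φ i y, rfl⟩ : π ^ n • φ i y ∈ P π N n 0), map_zero])

theorem Φq_mk (i : ℕ) (x : N i) :
    Φq π N n σ φ hσπ i (Submodule.Quotient.mk x) =
      Twist.mk σ (Submodule.Quotient.mk (φ i x)) := rfl


include hσπ in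
theorem injective_iota_quot (hσ : Function.Bijective σ) (hfl : ∀ i, IsFiniteLength W (N i))
    (hsurj : ∀ m : N 0, ∃ y : (i : ℕ) → N i, (∀ i, r < i → y i = 0) ∧
      (Finset.range (r + 1)).sum (fun i => φ i (y i)) = m)
    (hker : ∀ y : (i : ℕ) → N i, (∀ i, r < i → y i = 0) →
      (Finset.range (r + 1)).sum (fun i => φ i (y i)) = 0 →
        ∃ z : (i : ℕ) → N (i + 1), (∀ i, r ≤ i → z i = 0) ∧
          y 0 = α 0 (z 0) ∧ ∀ i, y (i + 1) = α (i + 1) (z (i + 1)) - π • z i) :
    Function.Injective (iota π r (Nq π N n) (αq π N α n)) := by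
  have hq : ∀ i, IsFiniteLength W (Nq π N n i) := fun i =>
    (hfl i).of_surjective (Submodule.mkQ_surjective (P π N n i))
  haveI : ∀ i, IsNoetherian W (Nq π N n i) := fun i =>
    (isFiniteLength_iff_isNoetherian_isArtinian.mp (hq i)).1
  haveI : ∀ i, IsArtinian W (Nq π N n i) := fun i =>
    (isFiniteLength_iff_isNoetherian_isArtinian.mp (hq i)).2
  have hS : IsFiniteLength W ((i : Fin r) → Nq π N n (i + 1)) :=
    isFiniteLength_iff_isNoetherian_isArtinian.mpr ⟨inferInstance, inferInstance⟩
  -- the sum over `Fin (r+1)` of `mk ∘ φ`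
  have hsum : ∀ y : (i : ℕ) → N i,
      PhiF r (Nq π N n) (Φq π N n σ φ hσπ) (fun i : Fin (r + 1) => Submodule.Quotient.mk (y i)) =
        Twist.mk σ (Submodule.Quotient.mk ((Finset.range (r + 1)).sum (fun i => φ i (y i)))) := by
    intro y
    rw [PhiF_apply, Finset.sum_range]
    simp only [Φq_mk]
    rw [← map_sum]
    congr 1
    exact (map_sum (P π N n 0).mkQ _ _).symm
  refine injective_of_count hS (hq 0) _ (PhiF r (Nq π N n) (Φq π N n σ φ hσπ)) ?_ ?_ ?_
    (length_twist σ hσ)
  · -- surjectivity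
    intro m''
    obtain ⟨m', rfl⟩ := Twist.mk_surjective σ m''
    obtain ⟨m, rfl⟩ := Submodule.Quotient.mk_surjective _ m'
    obtain ⟨y, -, hy⟩ := hsurj m
    exact ⟨fun i : Fin (r + 1) => Submodule.Quotient.mk (y i), by rw [hsum, hy]⟩
  · -- kernel
    intro y'' hy''
    rw [LinearMap.mem_ker] at hy''
    choose yF hyF using fun i : Fin (r + 1) => Submodule.Quotient.mk_surjective (P π N n i) (y'' i)
    let y : (i : ℕ) → N i := fun l => if h : l < r + 1 then yF ⟨l, h⟩ else 0
    have hyv : ∀ l, r < l → y l = 0 := fun l hl => dif_neg (by omega)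
    have hyq : (fun i : Fin (r + 1) => (Submodule.Quotient.mk (y i) : Nq π N n i)) = y'' := by
      funext i
      have : y i = yF i := dif_pos i.isLt
      rw [this, hyF]
    rw [← hyq, hsum] at hy''
    have h0 : (Submodule.Quotient.mk ((Finset.range (r + 1)).sum (fun i => φ i (y i))) :
        Nq π N n 0) = 0 := (Twist.mk σ).injective (hy''.trans (map_zero _).symm)
    rw [Submodule.Quotient.mk_eq_zero] at h0
    obtain ⟨m, hm⟩ := h0
    obtain ⟨y', hy'v, hy'⟩ := hsurj m
    have hφp : ∀ i (x : N i), φ i (π ^ n • x) = π ^ n • φ i x := by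
      intro i x
      rw [map_smulₛₗ, map_pow, hσπ]
    obtain ⟨z, hzv, hz0, hzs⟩ := hker (fun l => y l - π ^ n • y' l)
      (fun l hl => by simp only [hyv l hl, hy'v l hl, smul_zero, sub_zero])
      (by
        simp only [map_sub, hφp, Finset.sum_sub_distrib, ← Finset.smul_sum]
        rw [hy', sub_eq_zero]
        exact hm.symm)
    refine ⟨fun l : Fin r => Submodule.Quotient.mk (z l), ?_⟩
    rw [← hyq]
    funext j
    rw [iota_apply,
      ext2_restrict (W := W) r (Nq π N n) (fun l => Submodule.Quotient.mk (z l))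
        (fun l hl => by rw [hzv l hl]; rfl)]
    obtain ⟨j, hj⟩ := j
    have hpow : ∀ (i : ℕ) (x : N i), (Submodule.Quotient.mk (π ^ n • x) : Nq π N n i) = 0 :=
      fun i x => (Submodule.Quotient.mk_eq_zero _).mpr ⟨x, rfl⟩
    cases j with
    | zero =>
      rw [iotaN_zero, αq_mk, ← hz0, Submodule.Quotient.mk_sub, hpow, sub_zero]
    | succ l =>
      rw [iotaN_succ, αq_mk, ← Submodule.Quotient.mk_smul, ← Submodule.Quotient.mk_sub, ← hzs l,
        Submodule.Quotient.mk_sub, hpow, sub_zero]
  · -- lengths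
    rw [Module.length_pi_of_fintype, Module.length_pi_of_fintype, Fin.sum_univ_succ]
    rfl

end Quot

/-- a pure submodule (given as the range of an injective map) of a finitely generated torsion module
over a discrete valuation ring is a direct summand -/
theorem exists_isCompl_of_pure {W : Type u} [CommRing W] [IsDomain W] [IsDiscreteValuationRing W]
    (π : W) (hπ : Irreducible π) {A B : Type v} [AddCommGroup A] [AddCommGroup B] [Module W A]
    [Module W B] [Module.Finite W B] (hB : ∃ n : ℕ, ∀ b : B, π ^ n • b = 0)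
    (f : A →ₗ[W] B)
    (hpure : ∀ (n : ℕ) (x : A) (b : B), π ^ n • b = f x → ∃ a : A, π ^ n • a = x) :
    ∃ Q : Submodule W B, IsCompl (LinearMap.range f) Q := by
  classical
  obtain ⟨n₀, hn₀⟩ := hB
  have hπ0 : π ≠ 0 := hπ.ne_zero
  -- the quotient
  have htors : Module.IsTorsion W (B ⧸ LinearMap.range f) := by
    intro c
    refine ⟨⟨π ^ n₀, mem_nonZeroDivisors_of_ne_zero (pow_ne_zero _ hπ0)⟩, ?_⟩
    obtain ⟨b, rfl⟩ := Submodule.mkQ_surjective _ c
    change π ^ n₀ • (LinearMap.range f).mkQ b = 0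
    rw [← map_smul, hn₀, map_zero]
  obtain ⟨J, _, q, hq, e, ⟨E⟩⟩ := Module.equiv_directSum_of_isTorsion htors
  -- good lifts of the generators
  have hlift : ∀ j : J, ∃ c : B, q j ^ e j • c = 0 ∧
      (LinearMap.range f).mkQ c =
        E.symm (DirectSum.lof W J (fun j => W ⧸ Submodule.span W {q j ^ e j}) j
          (Submodule.Quotient.mk 1)) := by
    intro j
    obtain ⟨b, hb⟩ := Submodule.mkQ_surjective (LinearMap.range f)
      (E.symm (DirectSum.lof W J (fun j => W ⧸ Submodule.span W {q j ^ e j}) j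
          (Submodule.Quotient.mk 1)))
    have h0 : q j ^ e j • (LinearMap.range f).mkQ b = 0 := by
      rw [hb, ← map_smul, ← map_smul, ← Submodule.Quotient.mk_smul, smul_eq_mul, mul_one,
        (Submodule.Quotient.mk_eq_zero _).mpr (Submodule.mem_span_singleton_self _), map_zero,
        map_zero]
    rw [← map_smul, Submodule.mkQ_apply, Submodule.Quotient.mk_eq_zero] at h0
    obtain ⟨x, hx⟩ := h0
    obtain ⟨u, hu⟩ := IsDiscreteValuationRing.associated_of_irreducible W hπ (hq j)
    -- `π * u = q j`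
    have hqπ : q j ^ e j = π ^ e j * (u : W) ^ e j := by rw [← hu, mul_pow]
    have h1 : π ^ e j • ((u : W) ^ e j • b) = f x := by
      rw [hx, smul_smul, ← hqπ]
    obtain ⟨a, ha⟩ := hpure (e j) x _ h1
    refine ⟨b - f (((u⁻¹ : Wˣ) : W) ^ e j • a), ?_, ?_⟩
    · have h2 : q j ^ e j * ((u⁻¹ : Wˣ) : W) ^ e j = π ^ e j := by
        rw [hqπ, mul_assoc, ← mul_pow, Units.mul_inv, one_pow, mul_one]
      rw [smul_sub, ← hx, map_smul, smul_smul, h2, ← map_smul, ha, sub_self]
    · rw [map_sub, hb]
      have : (LinearMap.range f).mkQ (f (((u⁻¹ : Wˣ) : W) ^ e j • a)) = 0 := by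
        rw [Submodule.mkQ_apply, Submodule.Quotient.mk_eq_zero]
        exact ⟨_, rfl⟩
      rw [this, sub_zero]
  choose c hc0 hc using hlift
  -- the section
  let sj : ∀ j : J, (W ⧸ Submodule.span W {q j ^ e j}) →ₗ[W] B := fun j =>
    Submodule.liftQ _ (LinearMap.toSpanSingleton W B (c j)) (by
      rw [Submodule.span_le]
      intro w hw
      rw [Set.mem_singleton_iff] at hw
      rw [hw, SetLike.mem_coe, LinearMap.mem_ker, LinearMap.toSpanSingleton_apply, hc0 j])
  let s : (B ⧸ LinearMap.range f) →ₗ[W] B :=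
    (DirectSum.toModule W J B sj).comp E.toLinearMap
  have hs : ∀ x, (LinearMap.range f).mkQ (s x) = x := by
    have h1 : ((LinearMap.range f).mkQ.comp s).comp E.symm.toLinearMap = E.symm.toLinearMap := by
      apply DirectSum.linearMap_ext
      intro j
      apply Submodule.linearMap_qext
      apply LinearMap.ext_ring
      simp only [LinearMap.coe_comp, LinearEquiv.coe_coe, Function.comp_apply,
        Submodule.mkQ_apply, s, LinearEquiv.apply_symm_apply, DirectSum.toModule_lof, sj,
        Submodule.liftQ_apply, LinearMap.toSpanSingleton_apply, one_smul]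
      exact hc j
    intro x
    have := congrArg (fun g => g (E x)) h1
    simpa using this
  refine ⟨LinearMap.range s, ?_, ?_⟩
  · rw [disjoint_iff, eq_bot_iff]
    rintro x ⟨⟨a, rfl⟩, ⟨y, hy⟩⟩
    have h2 : (LinearMap.range f).mkQ (s y) = 0 := by
      rw [hy, Submodule.mkQ_apply, Submodule.Quotient.mk_eq_zero]
      exact ⟨a, rfl⟩
    rw [hs] at h2
    rw [← hy, h2, map_zero]
    exact Submodule.zero_mem _
  · rw [codisjoint_iff, eq_top_iff]
    intro b _
    have h3 : b - s ((LinearMap.range f).mkQ b) ∈ LinearMap.range f := by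
      rw [← Submodule.Quotient.mk_eq_zero, ← Submodule.mkQ_apply, map_sub, hs, sub_self]
    have : b = (b - s ((LinearMap.range f).mkQ b)) + s ((LinearMap.range f).mkQ b) := by abel
    rw [this]
    exact Submodule.add_mem_sup h3 ⟨_, rfl⟩

theorem main (p : ℕ) [Fact p.Prime]
    (k : Type u) [Field k] [CharP k p] [PerfectRing k p] (r : ℕ)
    (N : ℕ → Type v) [∀ i, AddCommGroup (N i)] [∀ i, Module (WittVector p k) (N i)]
    (hfl : ∀ i, IsFiniteLength (WittVector p k) (N i))
    (α : ∀ i, N (i + 1) →ₗ[WittVector p k] N i)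
    (φ : ∀ i, N i →ₛₗ[(WittVector.frobenius : WittVector p k →+* WittVector p k)] N 0)
    (hsurj : ∀ m : N 0, ∃ y : (i : ℕ) → N i, (∀ i, r < i → y i = 0) ∧
      (Finset.range (r + 1)).sum (fun i => φ i (y i)) = m)
    (hker : ∀ y : (i : ℕ) → N i, (∀ i, r < i → y i = 0) →
      (Finset.range (r + 1)).sum (fun i => φ i (y i)) = 0 →
        ∃ z : (i : ℕ) → N (i + 1), (∀ i, r ≤ i → z i = 0) ∧
          y 0 = α 0 (z 0) ∧ ∀ i, y (i + 1) = α (i + 1) (z (i + 1)) - (p : WittVector p k) • z i)
    (i : ℕ) (hi : i < r) :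
    Function.Injective (α i) ∧
      ∃ Q : Submodule (WittVector p k) (N i), IsCompl (LinearMap.range (α i)) Q := by
  have hπ : Irreducible (p : WittVector p k) := WittVector.irreducible p
  have hσ : Function.Bijective (WittVector.frobenius : WittVector p k →+* WittVector p k) :=
    WittVector.frobenius_bijective p k
  have hσπ : (WittVector.frobenius : WittVector p k →+* WittVector p k) (p : WittVector p k) = p :=
    map_natCast _ _
  have hpure : ∀ (n : ℕ) (x : N (i + 1)) (b : N i), (p : WittVector p k) ^ n • b = α i x →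
      ∃ a : N (i + 1), (p : WittVector p k) ^ n • a = x := by
    intro n x b hb
    have hinj := injective_alpha_of_injective_iota (p : WittVector p k) r
      (Nq (p : WittVector p k) N n) (αq (p : WittVector p k) N α n)
      (injective_iota_quot (p : WittVector p k) r N α n _ φ hσπ hσ hfl hsurj hker)
      (fun l x => ⟨n, pow_smul_Nq _ N n (l + 1) x⟩) i hi
    have h0 : αq (p : WittVector p k) N α n i (Submodule.Quotient.mk x) = 0 := by
      rw [αq_mk, ← hb]
      exact (Submodule.Quotient.mk_eq_zero _).mpr ⟨b, rfl⟩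
    have h1 := hinj (h0.trans (map_zero _).symm)
    exact (Submodule.Quotient.mk_eq_zero _).mp h1
  obtain ⟨n₁, hn₁⟩ := exists_pow_smul_eq_zero (p : WittVector p k) hπ.not_isUnit (hfl (i + 1))
  obtain ⟨n₀, hn₀⟩ := exists_pow_smul_eq_zero (p : WittVector p k) hπ.not_isUnit (hfl i)
  refine ⟨?_, ?_⟩
  · rw [injective_iff_map_eq_zero]
    intro x hx
    obtain ⟨a, ha⟩ := hpure n₁ x 0 (by rw [smul_zero, hx])
    rw [← ha, hn₁]
  · haveI : IsNoetherian (WittVector p k) (N i) :=
      (isFiniteLength_iff_isNoetherian_isArtinian.mp (hfl i)).1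
    exact exists_isCompl_of_pure (p : WittVector p k) hπ ⟨n₀, hn₀⟩ (α i) hpure


/-- Let k be a perfect field of characteristic p and W = W(k) its ring of Witt vectors with Frobenius σ.
Fix r and W-modules of finite length N_0 = M, N_1, N_2, … with W-linear maps α_i : N_{i+1} → N_i and
σ-semilinear maps φ_i : N_i → M such that φ_i ∘ α_i = p φ_{i+1} for all i < r. Let ι be the map
sending (x_1, …, x_r) ∈ N_1 ⊕ ⋯ ⊕ N_r to (α_0 x_1, α_1 x_2 − p x_1, …, α_{r−1} x_r − p x_{r−1}, −p
x_r) ∈ N_0 ⊕ ⋯ ⊕ N_r, and Φ the map N_0 ⊕ ⋯ ⊕ N_r → M, (y_i) ↦ Σ_i φ_i(y_i). Suppose that Φ is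
surjective and that its kernel is contained in the image of ι (with the displayed relation this says
that Φ induces a σ-semilinear bijection from the cokernel of ι onto M). Then for every i < r the map
α_i is injective and its image is a direct summand of N_i (so the N_i form a filtration of M by
direct summands, the data of a Fontaine–Laffaille module). Families are indexed by all natural
numbers; only the indices ≤ r enter. -/
theorem result (p : ℕ) [Fact p.Prime]
    (k : Type u) [Field k] [CharP k p] [PerfectRing k p] (r : ℕ)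
    (N : ℕ → Type v) [∀ i, AddCommGroup (N i)] [∀ i, Module (WittVector p k) (N i)]
    (hfl : ∀ i, IsFiniteLength (WittVector p k) (N i))
    (α : ∀ i, N (i + 1) →ₗ[WittVector p k] N i)
    (φ : ∀ i, N i →ₛₗ[(WittVector.frobenius : WittVector p k →+* WittVector p k)] N 0)
    (hφ : ∀ i, i < r → ∀ y : N (i + 1), φ i (α i y) = (p : WittVector p k) • φ (i + 1) y)
    (hsurj : ∀ m : N 0, ∃ y : (i : ℕ) → N i, (∀ i, r < i → y i = 0) ∧
      (Finset.range (r + 1)).sum (fun i => φ i (y i)) = m)
    (hker : ∀ y : (i : ℕ) → N i, (∀ i, r < i → y i = 0) →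
      (Finset.range (r + 1)).sum (fun i => φ i (y i)) = 0 →
        ∃ z : (i : ℕ) → N (i + 1), (∀ i, r ≤ i → z i = 0) ∧
          y 0 = α 0 (z 0) ∧ ∀ i, y (i + 1) = α (i + 1) (z (i + 1)) - (p : WittVector p k) • z i)
    (i : ℕ) (hi : i < r) :
    Function.Injective (α i) ∧
      ∃ Q : Submodule (WittVector p k) (N i), IsCompl (LinearMap.range (α i)) Q := by
  exact main p k r N hfl α φ hsurj hker i hi

end Groth.Agent.S18418
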