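import Groth.Statements.S1842
import Groth.Agent.Lib.Helper7.AbDegree

set_option autoImplicit false
universe u v
open CategoryTheory MonoidalCategory CartesianMonoidalCategory MonObj GrpObj AlgebraicGeometry
open GrpSch

namespace Groth.Agent.S1842

/-- Let A be an abelian variety of dimension g over a field (a proper, geometrically integral group
scheme) and d a nonzero integer. Multiplication by d (the d-th power of the identity in the group
Hom(A, A)) is finite and flat, and its rank function is constant with value d^(2g). (The source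
writes no hypothesis on d; d = 0 is excluded here since the constant map is not finite in positive
dimension.) -/
theorem result (K : Type u) [Field K] (A : Over (Spec (CommRingCat.of K))) [GrpObj A] [IsProper A.hom] [GeometricallyIntegral A.hom] (g : ℕ) (hg : topologicalKrullDim A.left = g) (d : ℤ) (hd : d ≠ 0) : IsFinite (𝟙 A ^ d).left ∧ Flat (𝟙 A ^ d).left ∧ ∀ a : A.left, Scheme.Hom.finrank (𝟙 A ^ d).left a = d.natAbs ^ (2 * g) := by
  have hn : 1 ≤ d.natAbs := Int.natAbs_pos.mpr hd
  obtain ⟨hfin, hflat⟩ := Groth.Agent.Lib.helper7.AbMulSurj.finite_flat_mulN (A := A) d.natAbs hn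
  have hrk := Groth.Agent.Lib.helper7.AbMulSurj.finrank_mulN (A := A) g hg d.natAbs hn
  haveI := hfin
  haveI := hflat
  rcases Int.natAbs_eq d with h | h
  · have e : (𝟙 A : A ⟶ A) ^ d = 𝟙 A ^ d.natAbs := by
      conv_lhs => rw [h]
      exact zpow_natCast _ _
    rw [e]
    exact ⟨hfin, hflat, hrk⟩
  · have e : (𝟙 A : A ⟶ A) ^ d = (𝟙 A ^ d.natAbs) ≫ ι[A] := by
      conv_lhs => rw [h]
      rw [zpow_neg, zpow_natCast]
      rfl
    have hιι : ι[A].left ≫ ι[A].left = 𝟙 A.left := by
      have h1 : (𝟙 A : A ⟶ A)⁻¹ = ι[A] := by rw [Hom.inv_def, Category.id_comp]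
      rw [← h1, ← Over.comp_left, GrpObj.comp_inv, Category.comp_id, _root_.inv_inv]
      rfl
    haveI : IsIso ι[A].left := ⟨⟨ι[A].left, hιι, hιι⟩⟩
    rw [e, Over.comp_left]
    refine ⟨inferInstance, inferInstance, fun a => ?_⟩
    have hpb : IsPullback (𝟙 A.left) ((𝟙 A ^ d.natAbs).left ≫ ι[A].left) (𝟙 A ^ d.natAbs).left
        (inv ι[A].left) := IsPullback.of_horiz_isIso ⟨by simp⟩
    rw [Scheme.Hom.finrank_of_isPullback _ _ _ _ hpb a]
    exact hrk _

end Groth.Agent.S1842
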