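import Groth.Statements.S18423
import Groth.Agent.S2195
import Groth.Agent.S0249
import Groth.Agent.Lib.Helper22.TraceSep

set_option autoImplicit false
universe u v
open Pi1

namespace Groth.Agent.S18423

/-- Let A be a Noetherian local ring of Krull dimension at least 2 and B a finite flat commutative
A-algebra. If B is etale over A at every prime of B lying over a non-maximal prime of A (that is,
Spec B is etale over the punctured spectrum of A), then B is etale over A. -/
theorem result (A : Type u) (B : Type v) [CommRing A] [CommRing B]
    [Algebra A B] [IsNoetherianRing A] [IsLocalRing A] (hdim : (2 : WithBot ℕ∞) ≤ ringKrullDim A)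
    [Module.Finite A B] [Module.Flat A B]
    (h : ∀ q : PrimeSpectrum B, q.asIdeal.comap (algebraMap A B) ≠ IsLocalRing.maximalIdeal A →
      Algebra.IsEtaleAt A q.asIdeal) :
    Algebra.Etale A B := by
  classical
  have hfree : Module.Free A B := Module.free_of_flat_of_isLocalRing
  let b := Module.finBasis A B
  rw [Groth.Agent.S2195.result b]
  by_contra hd
  have hdm : Algebra.discr A b ∈ IsLocalRing.maximalIdeal A :=
    (IsLocalRing.mem_maximalIdeal _).2 hd
  obtain ⟨p, hp, hdp, hht⟩ := Groth.Agent.S0249.result A
    (le_trans (by norm_num) hdim) _ hdm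
  have hpm : ∃ s ∈ IsLocalRing.maximalIdeal A, s ∉ p := by
    by_contra hcon
    have h1 : IsLocalRing.maximalIdeal A ≤ p := fun s hs => by
      by_contra hsp
      exact hcon ⟨s, hs, hsp⟩
    have h2 : p = IsLocalRing.maximalIdeal A :=
      le_antisymm (IsLocalRing.le_maximalIdeal hp.ne_top) h1
    have h3 := IsLocalRing.maximalIdeal_height_eq_ringKrullDim (R := A)
    rw [← h2, hht] at h3
    rw [← h3] at hdim
    exact absurd hdim (by decide)
  obtain ⟨s, hs, hsp⟩ := hpm
  -- B_s is formally unramified over A
  have hU : Algebra.FormallyUnramified A (Localization.Away (algebraMap A B s)) := by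
    rw [← Algebra.basicOpen_subset_unramifiedLocus_iff]
    intro q hq
    have hq' : algebraMap A B s ∉ q.asIdeal := hq
    have hne : q.asIdeal.comap (algebraMap A B) ≠ IsLocalRing.maximalIdeal A := by
      intro heq
      apply hq'
      have : s ∈ q.asIdeal.comap (algebraMap A B) := heq ▸ hs
      exact this
    have := h q hne
    show Algebra.FormallyUnramified A (Localization.AtPrime q.asIdeal)
    infer_instance
  let M : Submonoid A := Submonoid.powers s
  have hM : Algebra.algebraMapSubmonoid B M = Submonoid.powers (algebraMap A B s) :=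
    Submonoid.map_powers _ _
  have hloc : IsLocalization (Algebra.algebraMapSubmonoid B M)
      (Localization.Away (algebraMap A B s)) := by
    rw [hM]
    infer_instance
  let e : Localization.Away (algebraMap A B s) ≃ₐ[B]
      Localization (Algebra.algebraMapSubmonoid B M) :=
    IsLocalization.algEquiv (Algebra.algebraMapSubmonoid B M) _ _
  have hU' : Algebra.FormallyUnramified A (Localization (Algebra.algebraMapSubmonoid B M)) :=
    Algebra.FormallyUnramified.of_equiv (e.restrictScalars A)
  have hU'' : Algebra.FormallyUnramified (Localization M)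
      (Localization (Algebra.algebraMapSubmonoid B M)) :=
    Algebra.FormallyUnramified.of_restrictScalars A _ _
  have hu : IsUnit (algebraMap A (Localization M) (Algebra.discr A b)) := by
    rw [← Algebra.discr_localizationLocalization A M
      (Localization (Algebra.algebraMapSubmonoid B M)) b]
    exact Groth.Agent.Lib.helper22.TraceSep.isUnit_discr_of_formallyUnramified _
  obtain ⟨z, hz⟩ := hu.exists_right_inv
  obtain ⟨⟨a, ⟨_, n, rfl⟩⟩, rfl⟩ := IsLocalization.mk'_surjective M z
  rw [IsLocalization.mul_mk'_eq_mk'_of_mul, IsLocalization.mk'_eq_iff_eq_mul, one_mul,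
    IsLocalization.eq_iff_exists M] at hz
  obtain ⟨⟨_, k, rfl⟩, hk⟩ := hz
  have h4 : s ^ k * s ^ n ∈ p := by
    rw [← hk]
    exact p.mul_mem_left _ (p.mul_mem_right _ hdp)
  rw [← pow_add] at h4
  exact hsp (hp.mem_of_pow_mem _ h4)

end Groth.Agent.S18423
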