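import Groth.Statements.S18426
import Mathlib
import Groth.Agent.Lib.Helper13.PIns4
-- import your own Groth.Agent.* helpers here

set_option autoImplicit false
universe u
open Pi1

namespace Groth.Agent.S18426

open AlgebraicGeometry CategoryTheory CategoryTheory.Limits in
/-- Suppose X is an integral scheme that is Noetherian and normal, write K for its function field, and
take L to be a finite separable extension of K. Then the normalization of X in L, namely the
relative normalization of the morphism Spec L → Spec K → X, is finite over X. (That this
normalization is a normal integral scheme with function field L is not restated.) -/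
theorem result {X : Scheme.{u}} [IsIntegral X] [IsNoetherian X]
    (hX : Pi1.IsNormalScheme X) (L : Type u) [Field L] [Algebra X.functionField L] [FiniteDimensional X.functionField L]
    [Algebra.IsSeparable X.functionField L]
    [QuasiCompact (Spec.map (CommRingCat.ofHom (algebraMap X.functionField L)) ≫ X.fromSpecStalk (genericPoint X))]
    [QuasiSeparated (Spec.map (CommRingCat.ofHom (algebraMap X.functionField L)) ≫ X.fromSpecStalk (genericPoint X))] :
    IsFinite (Spec.map (CommRingCat.ofHom (algebraMap X.functionField L)) ≫ X.fromSpecStalk (genericPoint X)).fromNormalization := by
  have hK : IsField (CommRingCat.of L) := Field.toIsField L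
  refine Groth.Agent.Lib.helper13.PIns.isFinite_fromNormalization_of_field X (CommRingCat.of L)
    hK (CommRingCat.ofHom (algebraMap X.functionField L)) (fun U hU hne => ?_)
  letI : Algebra Γ(X, U) L :=
    ((CommRingCat.ofHom (algebraMap X.functionField L)).hom.comp
      (algebraMap Γ(X, U) X.functionField)).toAlgebra
  haveI : IsScalarTower Γ(X, U) X.functionField L := IsScalarTower.of_algebraMap_eq (fun _ => rfl)
  haveI := functionField_isFractionRing_of_isAffineOpen X U hU
  haveI : IsDomain Γ(X, U) := @IsIntegral.component_integral X _ U hne
  haveI : IsIntegrallyClosed Γ(X, U) := (Groth.Agent.S9821.result X).mp hX U hU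
  haveI : IsNoetherianRing Γ(X, U) := IsLocallyNoetherian.component_noetherian ⟨U, hU⟩
  exact IsIntegralClosure.finite Γ(X, U) X.functionField L (integralClosure Γ(X, U) L)

end Groth.Agent.S18426
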