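import Groth.Statements.S18428
import Mathlib
import Groth.Agent.Lib.Helper14.AutFin

set_option autoImplicit false
universe u
open scoped FintypeCatDiscrete
open Pi1

namespace Groth.Agent.S18428

open CategoryTheory in
/-- Let G be a topological group, consider the category of finite sets (with the discrete topology)
equipped with a continuous action of G, and let F be the forgetful functor to finite sets, so that
Aut(F) is a profinite group. Then the homomorphism ι : G → Aut(F) letting g act on every finite
continuous G-set exists and is continuous, has dense image, and every continuous homomorphism from G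
to a finite discrete group factors uniquely through ι by a continuous homomorphism on Aut(F). As
Aut(F) is profinite, these properties say that ι induces an isomorphism of topological groups from
the profinite completion of G (the limit of the quotients G/U by open normal subgroups of finite
index) onto Aut(F). -/
theorem result (G : Type u) [Group G]
    [TopologicalSpace G] [IsTopologicalGroup G] :
    ∃ ι : G →* Aut (forget₂ (ContAction FintypeCat.{u} G) FintypeCat.{u}),
      Continuous ι ∧
      (∀ (g : G) (X : ContAction FintypeCat.{u} G) (x : X.obj.V), (ι g).hom.app X x = (X.obj.ρ g).hom x) ∧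
      DenseRange ι ∧
      ∀ (Q : Type u) [Group Q] [Finite Q] [TopologicalSpace Q] [DiscreteTopology Q] (π : G →* Q),
        Continuous π → ∃! ψ : Aut (forget₂ (ContAction FintypeCat.{u} G) FintypeCat.{u}) →* Q,
          Continuous ψ ∧ ψ.comp ι = π := by
  refine ⟨Groth.Agent.Lib.Helper14.AutFin.iota G,
    Groth.Agent.Lib.Helper14.AutFin.continuous_iota G, fun g X x => rfl,
    Groth.Agent.Lib.Helper14.AutFin.denseRange_iota, ?_⟩
  intro Q _ _ _ _ π hπc
  have hπ : IsOpen (π.ker : Set G) := by
    have : (π.ker : Set G) = π ⁻¹' {1} := by
      ext g
      simp [MonoidHom.mem_ker]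
    rw [this]
    exact (isOpen_discrete _).preimage hπc
  refine ⟨Groth.Agent.Lib.Helper14.AutFin.psi π hπ,
    ⟨Groth.Agent.Lib.Helper14.AutFin.continuous_psi π hπ, ?_⟩, ?_⟩
  · ext g
    exact Groth.Agent.Lib.Helper14.AutFin.psi_iota π hπ g
  · rintro ψ' ⟨hψ'c, hψ'⟩
    have hT2 : T2Space Q := inferInstance
    have := Groth.Agent.Lib.Helper14.AutFin.denseRange_iota.equalizer hψ'c
      (Groth.Agent.Lib.Helper14.AutFin.continuous_psi π hπ) (by
        funext g
        have h1 := DFunLike.congr_fun hψ' g
        rw [Function.comp_apply, Function.comp_apply,
          Groth.Agent.Lib.Helper14.AutFin.psi_iota π hπ g]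
        exact h1)
    exact DFunLike.coe_injective this


end Groth.Agent.S18428
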