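import Groth.Statements.S18429
-- import your own Groth.Agent.* helpers here

set_option autoImplicit false
universe u
open SpinCurv

namespace Groth.Agent.S18429

theorem lin_congr (n r : ℕ) (e : ℕ → ℤ)
    (hdiv : ∀ j : ℕ, 1 ≤ j → j < n * r → (r : ℤ) ∣ e (j - 1) - 2 * e j + e (j + 1)) :
    ∀ m : ℕ, m ≤ n * r → (r : ℤ) ∣ (e m - e 0) - m * (e 1 - e 0) := by
  have h1 : ∀ j : ℕ, j < n * r → (r : ℤ) ∣ (e (j + 1) - e j) - (e 1 - e 0) := by
    intro j
    induction j with
    | zero => intro _; simp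
    | succ j ih =>
      intro hj
      have h2 := ih (by omega)
      have h3 := hdiv (j + 1) (by omega) hj
      simp only [Nat.add_sub_cancel] at h3
      have : (e (j + 1 + 1) - e (j + 1)) - (e 1 - e 0) =
          (e j - 2 * e (j + 1) + e (j + 1 + 1)) + ((e (j + 1) - e j) - (e 1 - e 0)) := by ring
      rw [this]
      exact dvd_add h3 h2
  intro m
  induction m with
  | zero => intro _; simp
  | succ m ih =>
    intro hm
    have h3 := ih (by omega)
    have h4 := h1 m (by omega)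
    have : (e (m + 1) - e 0) - ((m + 1 : ℕ) : ℤ) * (e 1 - e 0) =
        ((e m - e 0) - m * (e 1 - e 0)) + ((e (m + 1) - e m) - (e 1 - e 0)) := by
      push_cast; ring
    rw [this]
    exact dvd_add h3 h4

/-- Let n ≥ 1 and r ≥ 2 be integers and let e_0, …, e_{nr} be integers with e_0 = e_{nr} = 0 (the
coefficients of a chain of nr - 1 exceptional curves joining two non-exceptional components with
coefficient zero) such that at every interior index 1 ≤ j ≤ nr - 1 the second difference e_{j-1} - 2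
e_j + e_{j+1} (the degree of the divisor Σ e_i E_i on the j-th curve of the chain) is divisible by
r. Then there are integers e'_0, …, e'_{nr}, with e'_j ≡ e_j modulo r for every interior j, with
e'_0 = e'_{nr} = 0 and every e'_j ≤ 0, whose second differences at the interior indices are each 0
or r, and are nonzero at no two distinct interior indices. -/
theorem result (n r : ℕ) (hn : 1 ≤ n) (hr : 2 ≤ r)
    (e : ℕ → ℤ) (he0 : e 0 = 0) (henr : e (n * r) = 0)
    (hdiv : ∀ j : ℕ, 1 ≤ j → j < n * r → (r : ℤ) ∣ e (j - 1) - 2 * e j + e (j + 1)) :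
    ∃ e' : ℕ → ℤ, e' 0 = 0 ∧ e' (n * r) = 0 ∧
      (∀ j : ℕ, 1 ≤ j → j < n * r → (r : ℤ) ∣ e' j - e j) ∧
      (∀ j : ℕ, j ≤ n * r → e' j ≤ 0) ∧
      (∀ j : ℕ, 1 ≤ j → j < n * r →
        (e' (j - 1) - 2 * e' j + e' (j + 1) = 0 ∨ e' (j - 1) - 2 * e' j + e' (j + 1) = r)) ∧
      (∀ j j' : ℕ, 1 ≤ j → j < n * r → 1 ≤ j' → j' < n * r →
        e' (j - 1) - 2 * e' j + e' (j + 1) ≠ 0 → e' (j' - 1) - 2 * e' j' + e' (j' + 1) ≠ 0 → j = j') := by
  have hr0 : (0 : ℤ) < r := by exact_mod_cast (by omega : 0 < r)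
  -- a := (-e 1) mod r
  obtain ⟨a, haz⟩ : ∃ a : ℕ, (a : ℤ) = (-e 1) % (r : ℤ) :=
    ⟨((-e 1) % (r : ℤ)).toNat, Int.toNat_of_nonneg (Int.emod_nonneg _ hr0.ne')⟩
  have ha_lt : (a : ℤ) < r := by rw [haz]; exact Int.emod_lt_of_pos _ hr0
  have ha_lt' : a < r := by exact_mod_cast ha_lt
  have ha_dvd : (r : ℤ) ∣ (a : ℤ) + e 1 := by
    have := Int.emod_add_mul_ediv (-e 1) (r : ℤ)
    refine ⟨-((-e 1) / (r : ℤ)), ?_⟩
    rw [haz]; linarith
  have hlin := lin_congr n r e hdiv
  -- kink position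
  set j₀ : ℕ := n * (r - a) with hj₀
  have hj₀z : (j₀ : ℤ) = (n : ℤ) * ((r : ℤ) - a) := by
    rw [hj₀]; push_cast [Nat.cast_sub ha_lt'.le]; ring
  -- agreement identity at j₀
  have hagree : (a : ℤ) * j₀ = ((r : ℤ) - a) * ((n : ℤ) * r - j₀) := by rw [hj₀z]; ring
  let e' : ℕ → ℤ := fun j => if j ≤ j₀ then -(a : ℤ) * j else -((r : ℤ) - a) * ((n : ℤ) * r - j)
  have he'1 : ∀ j, j ≤ j₀ → e' j = -(a : ℤ) * j := fun j hj => by simp only [e', if_pos hj]
  have he'2 : ∀ j, j₀ ≤ j → e' j = -((r : ℤ) - a) * ((n : ℤ) * r - j) := by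
    intro j hj
    rcases eq_or_lt_of_le hj with h | h
    · subst h
      rw [he'1 _ le_rfl]; linarith
    · simp only [e', if_neg (not_le.mpr h)]
  -- second differences
  have hsd : ∀ j : ℕ, 1 ≤ j → j < n * r →
      (j ≠ j₀ → e' (j - 1) - 2 * e' j + e' (j + 1) = 0) ∧
      (j = j₀ → e' (j - 1) - 2 * e' j + e' (j + 1) = r) := by
    intro j hj1 hj2
    obtain ⟨i, rfl⟩ : ∃ i, j = i + 1 := ⟨j - 1, by omega⟩
    simp only [Nat.add_sub_cancel]
    constructor
    · intro hne
      rcases lt_or_gt_of_ne hne with h | h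
      · rw [he'1 i (by omega), he'1 (i + 1) (by omega), he'1 (i + 1 + 1) (by omega)]
        push_cast; ring
      · rw [he'2 i (by omega), he'2 (i + 1) (by omega), he'2 (i + 1 + 1) (by omega)]
        push_cast; ring
    · intro heq
      rw [he'1 i (by omega), he'1 (i + 1) (by omega), he'2 (i + 1 + 1) (by omega)]
      have := hagree
      rw [← heq] at this
      push_cast at this ⊢
      linear_combination this
  refine ⟨e', ?_, ?_, ?_, ?_, ?_, ?_⟩
  · rw [he'1 0 (Nat.zero_le _)]; simp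
  · by_cases h : n * r ≤ j₀
    · -- then a = 0
      have ha0 : a = 0 := by
        by_contra ha0
        have : n * (r - a) < n * r := by
          apply Nat.mul_lt_mul_of_pos_left _ (by omega)
          omega
        omega
      rw [he'1 _ h, ha0]; simp
    · rw [he'2 _ (by omega)]; push_cast; ring
  · intro j hj1 hj2
    have h1 := hlin j hj2.le
    rw [he0] at h1
    simp only [sub_zero] at h1
    by_cases h : j ≤ j₀
    · rw [he'1 j h]
      have : -(a : ℤ) * j - e j = -(((a : ℤ) + e 1) * j) - (e j - j * e 1) := by ring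
      rw [this]
      exact dvd_sub (dvd_neg.mpr (Dvd.dvd.mul_right ha_dvd _)) h1
    · rw [he'2 j (by omega)]
      have : -((r : ℤ) - a) * ((n : ℤ) * r - j) - e j =
          (r : ℤ) * (-((n : ℤ) * r - j) + a * n) - (((a : ℤ) + e 1) * j) - (e j - j * e 1) := by ring
      rw [this]
      exact dvd_sub (dvd_sub (dvd_mul_right _ _) (Dvd.dvd.mul_right ha_dvd _)) h1
  · intro j hj
    have ha0 : (0 : ℤ) ≤ a := Int.natCast_nonneg a
    by_cases h : j ≤ j₀
    · rw [he'1 j h]
      have : (0 : ℤ) ≤ (a : ℤ) * j := mul_nonneg ha0 (Int.natCast_nonneg j)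
      linarith
    · rw [he'2 j (by omega)]
      have h1 : (0 : ℤ) ≤ (r : ℤ) - a := by linarith
      have h2 : (0 : ℤ) ≤ (n : ℤ) * r - j := by
        have : (j : ℤ) ≤ ((n * r : ℕ) : ℤ) := by exact_mod_cast hj
        push_cast at this; linarith
      have := mul_nonneg h1 h2
      linarith
  · intro j hj1 hj2
    by_cases h : j = j₀
    · right; exact (hsd j hj1 hj2).2 h
    · left; exact (hsd j hj1 hj2).1 h
  · intro j j' hj1 hj2 hj1' hj2' hne hne'
    have h1 : j = j₀ := by
      by_contra h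
      exact hne ((hsd j hj1 hj2).1 h)
    have h2 : j' = j₀ := by
      by_contra h
      exact hne' ((hsd j' hj1' hj2').1 h)
    rw [h1, h2]

end Groth.Agent.S18429
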