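import Groth.Statements.S18431
import Mathlib.RingTheory.LocalRing.ResidueField.Basic
import Mathlib.Algebra.Ring.GeomSum
-- import your own Groth.Agent.* helpers here

set_option autoImplicit false
universe u
open SpinCurv

namespace Groth.Agent.S18431

/-- Let R be a Noetherian local ring in which the natural number r is invertible and let ξ, ζ ∈ R
satisfy ξ^r = 1 and ζ^r = 1. Then either ξ = ζ, or ξ - ζ is a unit of R. (Consequently an element of
R annihilated by ξ - ζ is zero unless ξ = ζ. In the published setting R is moreover complete; the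
step does not use completeness.) -/
theorem result (R : Type u) [CommRing R] [IsNoetherianRing R] [IsLocalRing R]
    (r : ℕ) (hr : IsUnit (r : R)) (ξ ζ : R) (hξ : ξ ^ r = 1) (hζ : ζ ^ r = 1) :
    ξ = ζ ∨ IsUnit (ξ - ζ) := by
  classical
  by_cases hd : IsUnit (ξ - ζ)
  · exact Or.inr hd
  left
  have hdm : ξ - ζ ∈ IsLocalRing.maximalIdeal R := (IsLocalRing.mem_maximalIdeal _).mpr hd
  have hr0 : r ≠ 0 := by
    rintro rfl
    simp at hr
  -- geometric sum identity
  have hgeom : (ξ - ζ) * ∑ i ∈ Finset.range r, ξ ^ i * ζ ^ (r - 1 - i) = 0 := by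
    have := (Commute.all ξ ζ).mul_geom_sum₂ r
    rw [hξ, hζ, sub_self] at this
    exact this
  -- the sum is a unit
  have hS : IsUnit (∑ i ∈ Finset.range r, ξ ^ i * ζ ^ (r - 1 - i)) := by
    rw [← IsLocalRing.residue_ne_zero_iff_isUnit]
    have hres : IsLocalRing.residue R ξ = IsLocalRing.residue R ζ := by
      rw [← sub_eq_zero, ← map_sub]
      exact (IsLocalRing.residue_eq_zero_iff _).mpr hdm
    rw [map_sum]
    have : ∀ i ∈ Finset.range r, IsLocalRing.residue R (ξ ^ i * ζ ^ (r - 1 - i)) =
        (IsLocalRing.residue R ζ) ^ (r - 1) := by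
      intro i hi
      rw [map_mul, map_pow, map_pow, hres, ← pow_add]
      congr 1
      have := Finset.mem_range.mp hi
      omega
    rw [Finset.sum_congr rfl this, Finset.sum_const, Finset.card_range, nsmul_eq_mul]
    have hru : IsUnit (IsLocalRing.residue R (r : R)) := hr.map _
    rw [map_natCast] at hru
    have hζu : IsUnit (IsLocalRing.residue R ζ) := by
      have : IsUnit ζ := IsUnit.of_pow_eq_one hζ hr0
      exact this.map _
    exact (hru.mul (hζu.pow _)).ne_zero
  have := hS.mul_left_eq_zero.mp hgeom
  exact sub_eq_zero.mp this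

end Groth.Agent.S18431
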