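import Groth.Statements.S18432
import Mathlib
import Groth.Agent.Lib.Helper10.NodeNF3

set_option autoImplicit false
universe u
open SpinCurv

namespace Groth.Agent.S18432

set_option linter.style.haveILetI false
set_option linter.unusedSectionVars false

open Groth.Agent.Lib.helper10.NodeNF SpinCurv

theorem ofX_zero {R : Type u} [CommRing R] (π : R) : NodeRing.ofX R π 0 = 0 := by
  unfold NodeRing.ofX
  rw [map_zero, map_zero]

theorem ofY_zero {R : Type u} [CommRing R] (π : R) : NodeRing.ofY R π 0 = 0 := by
  unfold NodeRing.ofY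
  rw [map_zero, map_zero]

theorem main (R : Type u) [CommRing R] [IsLocalRing R]
    [IsAdicComplete (IsLocalRing.maximalIdeal R) R]
    (p q : R) (hp : p ∈ IsLocalRing.maximalIdeal R) :
    LinearMap.ker (Matrix.mulVecLin (SpinCurv.nodeAlpha R p q)) =
      Submodule.span (SpinCurv.NodeRing R (p * q))
        {![algebraMap R (SpinCurv.NodeRing R (p * q)) p, -SpinCurv.NodeRing.x R (p * q)],
         ![SpinCurv.NodeRing.y R (p * q), -algebraMap R (SpinCurv.NodeRing R (p * q)) q]} := by
  have hpq : p * q ∈ IsLocalRing.maximalIdeal R := Ideal.mul_mem_right _ _ hp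
  have hxy' := hxy p q
  apply le_antisymm
  · intro v hv
    rw [LinearMap.mem_ker, Matrix.mulVecLin_apply] at hv
    obtain ⟨f₁, g₁, F, G, h, h0, h1⟩ := alpha_decomp (IsLocalRing.maximalIdeal R) p q hpq v
    rw [hv] at h
    have hz : Matrix.mulVec (nodeAlpha R p q)
        ![NodeRing.ofX R (p * q) 0, NodeRing.ofY R (p * q) 0] = 0 := by
      rw [ofX_zero, ofY_zero, mulVec_alpha]
      ext i
      fin_cases i <;> simp
    obtain ⟨hF, hG⟩ := alpha_inj (IsLocalRing.maximalIdeal R) p q hpq F G 0 0 (by rw [← h, hz])
    rw [Submodule.mem_span_pair]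
    refine ⟨-NodeRing.ofX R (p * q) f₁, NodeRing.ofY R (p * q) g₁, ?_⟩
    ext i
    fin_cases i
    · simp only [Fin.zero_eta, Fin.isValue, Pi.add_apply, Pi.smul_apply, Matrix.cons_val_zero,
        smul_eq_mul]
      rw [h0, hF, ofX_zero]
      ring
    · simp only [Fin.mk_one, Fin.isValue, Pi.add_apply, Pi.smul_apply, Matrix.cons_val_one,
        Matrix.cons_val_fin_one, smul_eq_mul]
      rw [h1, hG, ofY_zero]
      ring
  · rw [Submodule.span_le]
    rintro v (rfl | rfl)
    · rw [SetLike.mem_coe, LinearMap.mem_ker, Matrix.mulVecLin_apply, mulVec_alpha]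
      ext i
      fin_cases i
      · simp only [Fin.zero_eta, Fin.isValue, Matrix.cons_val_zero, Matrix.cons_val_one,
          Matrix.cons_val_fin_one, Pi.zero_apply]
        ring
      · simp only [Fin.mk_one, Fin.isValue, Matrix.cons_val_zero, Matrix.cons_val_one,
          Matrix.cons_val_fin_one, Pi.zero_apply]
        linear_combination -hxy'
    · rw [SetLike.mem_coe, LinearMap.mem_ker, Matrix.mulVecLin_apply, mulVec_alpha]
      ext i
      fin_cases i
      · simp only [Fin.zero_eta, Fin.isValue, Matrix.cons_val_zero, Matrix.cons_val_one,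
          Matrix.cons_val_fin_one, Pi.zero_apply]
        linear_combination hxy'
      · simp only [Fin.mk_one, Fin.isValue, Matrix.cons_val_zero, Matrix.cons_val_one,
          Matrix.cons_val_fin_one, Pi.zero_apply]
        ring



/-- Let R be a complete Noetherian local ring, p, q elements of its maximal ideal, A = R[[x, y]]/(xy -
pq), and α(p, q) the A-linear endomorphism of A² with matrix (x p; q y), sending a column (a, b) to
(x a + p b, q a + y b). Then the kernel of α(p, q) is the submodule of A² generated by the columns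
(p, -x) and (y, -q); equivalently the image of α(p, q) (the standard rank-one torsion-free module
E(p, q)) is presented by two generators ξ, v with the relations p ξ = x v and y ξ = q v. -/
theorem result (R : Type u) [CommRing R] [IsNoetherianRing R] [IsLocalRing R]
    [IsAdicComplete (IsLocalRing.maximalIdeal R) R]
    (p q : R) (hp : p ∈ IsLocalRing.maximalIdeal R) (hq : q ∈ IsLocalRing.maximalIdeal R) :
    LinearMap.ker (Matrix.mulVecLin (SpinCurv.nodeAlpha R p q)) =
      Submodule.span (SpinCurv.NodeRing R (p * q))
        {![algebraMap R (SpinCurv.NodeRing R (p * q)) p, -SpinCurv.NodeRing.x R (p * q)],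
         ![SpinCurv.NodeRing.y R (p * q), -algebraMap R (SpinCurv.NodeRing R (p * q)) q]} := by
  exact main R p q hp

end Groth.Agent.S18432
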