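import Groth.Statements.S18434
import Mathlib

set_option autoImplicit false
universe u
open SpinCurv

namespace Groth.Agent.S18434

section aux
open MvPowerSeries

variable {k : Type*} [Field k]

/-- shift a power series by the exponent `e` -/
noncomputable def shift (e : Fin 2 →₀ ℕ) (F : MvPowerSeries (Fin 2) k) : MvPowerSeries (Fin 2) k :=
  fun m => F (m + e)

lemma eq_monomial_mul_shift (e : Fin 2 →₀ ℕ) (F : MvPowerSeries (Fin 2) k)
    (hF : ∀ m, ¬ e ≤ m → F m = 0) : F = monomial e (1 : k) * shift e F := by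
  ext m
  rw [coeff_monomial_mul]
  split_ifs with h
  · rw [one_mul]
    show F m = F (m - e + e)
    rw [tsub_add_cancel_of_le h]
  · exact hF m h

lemma e11_le (m : Fin 2 →₀ ℕ) :
    (Finsupp.single 0 1 + Finsupp.single 1 1 : Fin 2 →₀ ℕ) ≤ m ↔ 1 ≤ m 0 ∧ 1 ≤ m 1 := by
  constructor
  · intro h
    have h0 := h 0
    have h1 := h 1
    simp at h0 h1
    exact ⟨by omega, by omega⟩
  · rintro ⟨h0, h1⟩ i
    fin_cases i
    · simpa using h0
    · simpa using h1

def R1 (f : MvPowerSeries (Fin 2) k) : MvPowerSeries (Fin 2) k :=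
  fun m => if 1 ≤ m 0 ∧ 1 ≤ m 1 then f m else 0
def R2 (u : ℕ) (f : MvPowerSeries (Fin 2) k) : MvPowerSeries (Fin 2) k :=
  fun m => if m 1 = 0 ∧ u ≤ m 0 then f m else 0
def R3 (v : ℕ) (f : MvPowerSeries (Fin 2) k) : MvPowerSeries (Fin 2) k :=
  fun m => if m 0 = 0 ∧ v ≤ m 1 then f m else 0

lemma key (u v : ℕ) (hu : 1 ≤ u) (hv : 1 ≤ v) (f : MvPowerSeries (Fin 2) k)
    (H0 : ∀ i, i < u → f (Finsupp.single 0 i) = 0)
    (H1 : ∀ j, j + 1 < v → f (Finsupp.single 1 (j + 1)) = 0) (m : Fin 2 →₀ ℕ) :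
    f m = R1 f m + R2 u f m + R3 v f m := by
  unfold R1 R2 R3
  rcases Nat.eq_zero_or_pos (m 0) with h0 | h0 <;> rcases Nat.eq_zero_or_pos (m 1) with h1 | h1
  · have hm : m = Finsupp.single 0 0 :=
      Finsupp.ext (Fin.forall_fin_two.mpr ⟨by simp [h0], by simp [h1]⟩)
    have : f m = 0 := by rw [hm]; exact H0 0 (by omega)
    simp [this]
  · by_cases hv1 : v ≤ m 1
    · have h1' : m 1 ≠ 0 := by omega
      simp [h0, hv1, h1']
    · have hm : m = Finsupp.single 1 ((m 1 - 1) + 1) := by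
        have e : m 1 - 1 + 1 = m 1 := by omega
        exact Finsupp.ext (Fin.forall_fin_two.mpr ⟨by simp [h0], by simp [e]⟩)
      have : f m = 0 := by rw [hm]; exact H1 (m 1 - 1) (by omega)
      simp [this]
  · by_cases hu1 : u ≤ m 0
    · have h0' : m 0 ≠ 0 := by omega
      simp [h1, hu1, h0']
    · have hm : m = Finsupp.single 0 (m 0) :=
        Finsupp.ext (Fin.forall_fin_two.mpr ⟨by simp, by simp [h1]⟩)
      have : f m = 0 := by rw [hm]; exact H0 (m 0) (by omega)
      simp [this]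
  · have h0' : m 0 ≠ 0 := by omega
    have h1' : m 1 ≠ 0 := by omega
    have a0 : 1 ≤ m 0 := h0
    have a1 : 1 ≤ m 1 := h1
    simp [h0', h1', a0, a1]

lemma decomp (u v : ℕ) (hu : 1 ≤ u) (hv : 1 ≤ v) (f : MvPowerSeries (Fin 2) k)
    (H0 : ∀ i, i < u → f (Finsupp.single 0 i) = 0)
    (H1 : ∀ j, j + 1 < v → f (Finsupp.single 1 (j + 1)) = 0) :
    ∃ g h1 h2 : MvPowerSeries (Fin 2) k,
      f = X 0 * X 1 * g + X 0 ^ u * h1 + X 1 ^ v * h2 := by
  have hF1 := eq_monomial_mul_shift (Finsupp.single 0 1 + Finsupp.single 1 1) (R1 f)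
    (fun m hm => by
      rw [e11_le] at hm
      show (if 1 ≤ m 0 ∧ 1 ≤ m 1 then f m else 0) = 0
      rw [if_neg hm])
  have hF2 := eq_monomial_mul_shift (Finsupp.single 0 u) (R2 u f)
    (fun m hm => by
      rw [Finsupp.single_le_iff] at hm
      show (if m 1 = 0 ∧ u ≤ m 0 then f m else 0) = 0
      rw [if_neg (fun h => hm h.2)])
  have hF3 := eq_monomial_mul_shift (Finsupp.single 1 v) (R3 v f)
    (fun m hm => by
      rw [Finsupp.single_le_iff] at hm
      show (if m 0 = 0 ∧ v ≤ m 1 then f m else 0) = 0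
      rw [if_neg (fun h => hm h.2)])
  refine ⟨shift (Finsupp.single 0 1 + Finsupp.single 1 1) (R1 f), shift (Finsupp.single 0 u) (R2 u f),
    shift (Finsupp.single 1 v) (R3 v f), ?_⟩
  have hxy : (X 0 * X 1 : MvPowerSeries (Fin 2) k) =
      monomial (Finsupp.single 0 1 + Finsupp.single 1 1) 1 := by
    rw [X_def, X_def, monomial_mul_monomial, mul_one]
  rw [X_pow_eq, X_pow_eq, hxy, ← hF1, ← hF2, ← hF3]
  ext m
  show f m = R1 f m + R2 u f m + R3 v f m
  exact key u v hu hv f H0 H1 m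

lemma coeff_vanish (u v : ℕ) (w : k) (a' b' c : MvPowerSeries (Fin 2) k) (m : Fin 2 →₀ ℕ)
    (hm1 : ¬ Finsupp.single 0 u ≤ m) (hm2 : ¬ Finsupp.single 1 v ≤ m)
    (hm3 : ¬ (Finsupp.single 0 1 + Finsupp.single 1 1 : Fin 2 →₀ ℕ) ≤ m) :
    coeff m (a' * X 0 ^ u + b' * (C w * X 1 ^ v) + c * (X 0 * X 1 - C (0 : k))) = 0 := by
  have hxy : (X 0 * X 1 : MvPowerSeries (Fin 2) k) =
      monomial (Finsupp.single 0 1 + Finsupp.single 1 1) 1 := by
    rw [X_def, X_def, monomial_mul_monomial, mul_one]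
  have e2 : b' * (C w * X 1 ^ v) = (b' * C w) * monomial (Finsupp.single 1 v) (1 : k) := by
    rw [X_pow_eq, mul_assoc]
  rw [map_zero, sub_zero, hxy, e2, X_pow_eq, map_add, map_add, coeff_mul_monomial,
    coeff_mul_monomial, coeff_mul_monomial, if_neg hm1, if_neg hm2, if_neg hm3]
  simp

end aux

/-- Let k be a field, u, v ≥ 1 integers and w ∈ k nonzero. In the ring A = k[[x, y]]/(xy), the quotient
A/(x^u, w y^v) has dimension u + v - 1 over k (a basis is 1, x, …, x^{u-1}, y, …, y^{v-1}); this is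
the length of the cokernel at the node of a map whose image is generated by x^u and w y^v. -/
theorem result (k : Type u) [Field k] (u v : ℕ) (hu : 1 ≤ u) (hv : 1 ≤ v)
    (w : k) (hw : w ≠ 0) :
    Module.finrank k (SpinCurv.NodeRing k 0 ⧸
      Ideal.span {SpinCurv.NodeRing.x k 0 ^ u, algebraMap k (SpinCurv.NodeRing k 0) w * SpinCurv.NodeRing.y k 0 ^ v}) =
      u + v - 1 := by
  classical
  set I₀ : Ideal (MvPowerSeries (Fin 2) k) :=
    Ideal.span {(MvPowerSeries.X 0 * MvPowerSeries.X 1 - MvPowerSeries.C (0 : k) :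
      MvPowerSeries (Fin 2) k)} with hI₀
  set J : Ideal (SpinCurv.NodeRing k 0) :=
    Ideal.span {SpinCurv.NodeRing.x k 0 ^ u,
      algebraMap k (SpinCurv.NodeRing k 0) w * SpinCurv.NodeRing.y k 0 ^ v} with hJ
  -- the two linear maps
  let q : MvPowerSeries (Fin 2) k →ₗ[k] (SpinCurv.NodeRing k 0 ⧸ J) :=
    ((Ideal.Quotient.mkₐ k J).comp (Ideal.Quotient.mkₐ k I₀)).toLinearMap
  let Φ : MvPowerSeries (Fin 2) k →ₗ[k] (Fin u → k) × (Fin (v - 1) → k) :=
    LinearMap.prod
      (LinearMap.pi fun i : Fin u => MvPowerSeries.coeff (Finsupp.single 0 i.val))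
      (LinearMap.pi fun j : Fin (v - 1) => MvPowerSeries.coeff (Finsupp.single 1 (j.val + 1)))
  have hqs : Function.Surjective q := by
    intro z
    obtain ⟨a, rfl⟩ := Ideal.Quotient.mk_surjective z
    obtain ⟨f, rfl⟩ := Ideal.Quotient.mk_surjective a
    exact ⟨f, rfl⟩
  have hΦs : Function.Surjective Φ := by
    rintro ⟨a, b⟩
    refine ⟨fun m => if m 1 = 0 then (if h : m 0 < u then a ⟨m 0, h⟩ else 0)
      else if m 0 = 0 then (if h : m 1 - 1 < v - 1 then b ⟨m 1 - 1, h⟩ else 0) else 0, ?_⟩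
    apply Prod.ext
    · funext i
      show (if (Finsupp.single (0 : Fin 2) i.val) 1 = 0 then
          (if h : (Finsupp.single (0 : Fin 2) i.val) 0 < u then
            a ⟨(Finsupp.single (0 : Fin 2) i.val) 0, h⟩ else 0)
        else if (Finsupp.single (0 : Fin 2) i.val) 0 = 0 then
          (if h : (Finsupp.single (0 : Fin 2) i.val) 1 - 1 < v - 1 then
            b ⟨(Finsupp.single (0 : Fin 2) i.val) 1 - 1, h⟩ else 0) else 0) = a i
      simp [i.2]
    · funext j
      show (if (Finsupp.single (1 : Fin 2) (j.val + 1)) 1 = 0 then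
          (if h : (Finsupp.single (1 : Fin 2) (j.val + 1)) 0 < u then
            a ⟨(Finsupp.single (1 : Fin 2) (j.val + 1)) 0, h⟩ else 0)
        else if (Finsupp.single (1 : Fin 2) (j.val + 1)) 0 = 0 then
          (if h : (Finsupp.single (1 : Fin 2) (j.val + 1)) 1 - 1 < v - 1 then
            b ⟨(Finsupp.single (1 : Fin 2) (j.val + 1)) 1 - 1, h⟩ else 0) else 0) = b j
      simp [j.2]
  have hw' : algebraMap k (SpinCurv.NodeRing k 0) w =
      Ideal.Quotient.mk I₀ (MvPowerSeries.C w) := by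
    rw [← Ideal.Quotient.mk_algebraMap, MvPowerSeries.algebraMap_apply]
    rfl
  have hker : LinearMap.ker q = LinearMap.ker Φ := by
    ext f
    simp only [LinearMap.mem_ker]
    constructor
    · intro hq
      have h1 : Ideal.Quotient.mk I₀ f ∈ J := Ideal.Quotient.eq_zero_iff_mem.mp hq
      rw [hJ, Ideal.mem_span_pair] at h1
      obtain ⟨a, b, hab⟩ := h1
      obtain ⟨a', rfl⟩ := Ideal.Quotient.mk_surjective a
      obtain ⟨b', rfl⟩ := Ideal.Quotient.mk_surjective b
      have h2 : f - (a' * MvPowerSeries.X 0 ^ u +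
          b' * (MvPowerSeries.C w * MvPowerSeries.X 1 ^ v)) ∈ I₀ := by
        rw [← Ideal.Quotient.eq, ← hab, hw']
        simp only [map_add, map_mul, map_pow]
        rfl
      obtain ⟨c, hc⟩ := Ideal.mem_span_singleton'.mp h2
      have hf : f = a' * MvPowerSeries.X 0 ^ u +
          b' * (MvPowerSeries.C w * MvPowerSeries.X 1 ^ v) +
          c * (MvPowerSeries.X 0 * MvPowerSeries.X 1 - MvPowerSeries.C (0 : k)) := by
        rw [hc]; ring
      apply Prod.ext
      · funext i
        show MvPowerSeries.coeff (Finsupp.single 0 i.val) f = 0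
        rw [hf]
        refine coeff_vanish u v w a' b' c _ ?_ ?_ ?_
        · rw [Finsupp.single_le_iff]; simp
        · rw [Finsupp.single_le_iff]; simp; omega
        · rw [e11_le]; simp
      · funext j
        show MvPowerSeries.coeff (Finsupp.single 1 (j.val + 1)) f = 0
        rw [hf]
        refine coeff_vanish u v w a' b' c _ ?_ ?_ ?_
        · rw [Finsupp.single_le_iff]; simp; omega
        · rw [Finsupp.single_le_iff]; simp; have := j.2; omega
        · rw [e11_le]; simp
    · intro hΦ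
      have H0 : ∀ i, i < u → f (Finsupp.single 0 i) = 0 := fun i hi =>
        congrFun (congrArg Prod.fst hΦ) ⟨i, hi⟩
      have H1 : ∀ j, j + 1 < v → f (Finsupp.single 1 (j + 1)) = 0 := fun j hj =>
        congrFun (congrArg Prod.snd hΦ) ⟨j, by omega⟩
      obtain ⟨g, h1, h2, hf⟩ := decomp u v hu hv f H0 H1
      show Ideal.Quotient.mk J (Ideal.Quotient.mk I₀ f) = 0
      rw [Ideal.Quotient.eq_zero_iff_mem, hf, map_add, map_add]
      have hxy : Ideal.Quotient.mk I₀ (MvPowerSeries.X 0 * MvPowerSeries.X 1) = 0 := by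
        rw [Ideal.Quotient.eq_zero_iff_mem]
        have : (MvPowerSeries.X 0 * MvPowerSeries.X 1 : MvPowerSeries (Fin 2) k) =
            MvPowerSeries.X 0 * MvPowerSeries.X 1 - MvPowerSeries.C (0 : k) := by simp
        rw [this]; exact Ideal.subset_span rfl
      refine J.add_mem (J.add_mem ?_ ?_) ?_
      · have : Ideal.Quotient.mk I₀ (MvPowerSeries.X 0 * MvPowerSeries.X 1 * g) = 0 := by
          rw [map_mul, hxy, zero_mul]
        rw [this]; exact J.zero_mem
      · rw [map_mul, map_pow]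
        exact J.mul_mem_right _ (Ideal.subset_span (Or.inl rfl))
      · rw [map_mul, map_pow]
        have hy : (Ideal.Quotient.mk I₀ (MvPowerSeries.X 1)) ^ v ∈ J := by
          have : (Ideal.Quotient.mk I₀ (MvPowerSeries.X 1)) ^ v =
              algebraMap k (SpinCurv.NodeRing k 0) w⁻¹ *
                (algebraMap k (SpinCurv.NodeRing k 0) w *
                  (Ideal.Quotient.mk I₀ (MvPowerSeries.X 1)) ^ v) := by
            rw [← mul_assoc, ← map_mul, inv_mul_cancel₀ hw, map_one, one_mul]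
          rw [this]
          exact J.mul_mem_left _ (Ideal.subset_span (Or.inr rfl))
        exact J.mul_mem_right _ hy
  have e1 := LinearMap.quotKerEquivOfSurjective q hqs
  have e2 := LinearMap.quotKerEquivOfSurjective Φ hΦs
  have e3 := Submodule.quotEquivOfEq _ _ hker
  rw [← e1.finrank_eq, e3.finrank_eq, e2.finrank_eq, Module.finrank_prod,
    Module.finrank_fin_fun, Module.finrank_fin_fun]
  omega

end Groth.Agent.S18434
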