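import Groth.Statements.S18435
import Mathlib

set_option autoImplicit false
universe u
open SpinCurv

namespace Groth.Agent.S18435

set_option linter.style.haveILetI false

open Polynomial SpinCurv

section ring

variable (k : Type u) [Field k]

noncomputable abbrev J : Ideal (MvPolynomial (Fin 2) k) :=
  Ideal.span {(MvPolynomial.X 0 * MvPolynomial.X 1 - MvPolynomial.C 0 : MvPolynomial (Fin 2) k)}

abbrev Nd : Type u := SpinCurv.PolyNodeRing k 0

noncomputable abbrev xx (i : Fin 2) : Nd k := Ideal.Quotient.mk (J k) (MvPolynomial.X i)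

noncomputable abbrev II (i : Fin 2) : Ideal (Nd k) := Ideal.span {xx k i}

lemma fin2_cases : ∀ i j l : Fin 2, i ≠ j → l = i ∨ l = j := by decide

lemma xx_mul (i j : Fin 2) (hij : i ≠ j) : xx k i * xx k j = 0 := by
  have h01 : xx k 0 * xx k 1 = 0 := by
    rw [← map_mul]
    apply Ideal.Quotient.eq_zero_iff_mem.2
    have hm : (MvPolynomial.X 0 * MvPolynomial.X 1 - MvPolynomial.C 0 : MvPolynomial (Fin 2) k) ∈
        J k := Ideal.subset_span (Set.mem_singleton _)
    have he : (MvPolynomial.X 0 * MvPolynomial.X 1 - MvPolynomial.C 0 : MvPolynomial (Fin 2) k) =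
        MvPolynomial.X 0 * MvPolynomial.X 1 := by simp
    exact he ▸ hm
  have : ∀ i j : Fin 2, i ≠ j → (i = 0 ∧ j = 1) ∨ (i = 1 ∧ j = 0) := by decide
  rcases this i j hij with ⟨rfl, rfl⟩ | ⟨rfl, rfl⟩
  · exact h01
  · rw [mul_comm]; exact h01

noncomputable def jmap (j : Fin 2) : k[X] →ₐ[k] Nd k := Polynomial.aeval (xx k j)

lemma jmap_X (j : Fin 2) : jmap k j Polynomial.X = xx k j := by
  unfold jmap; rw [Polynomial.aeval_X]

noncomputable def F0 (j : Fin 2) : MvPolynomial (Fin 2) k →ₐ[k] k[X] :=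
  MvPolynomial.aeval (fun l => if l = j then (Polynomial.X : k[X]) else 0)

lemma F0_X (j l : Fin 2) : F0 k j (MvPolynomial.X l) = if l = j then (Polynomial.X : k[X]) else 0 := by
  simp [F0]

lemma F0_J (i j : Fin 2) (hij : i ≠ j) : ∀ a ∈ J k, F0 k j a = 0 := by
  intro a ha
  have : J k ≤ RingHom.ker (F0 k j).toRingHom := by
    rw [Ideal.span_le, Set.singleton_subset_iff]
    change F0 k j (MvPolynomial.X 0 * MvPolynomial.X 1 - MvPolynomial.C 0) = 0
    rw [map_sub, map_mul, F0_X, F0_X, map_zero, map_zero, sub_zero]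
    have : ∀ i j : Fin 2, i ≠ j → (0 : Fin 2) ≠ j ∨ (1 : Fin 2) ≠ j := by decide
    rcases this i j hij with h | h
    · rw [if_neg h, zero_mul]
    · rw [if_neg h, mul_zero]
  exact this ha

noncomputable def F1 (i j : Fin 2) (hij : i ≠ j) : Nd k →ₐ[k] k[X] :=
  Ideal.Quotient.liftₐ (J k) (F0 k j) (F0_J k i j hij)

lemma F1_mk (i j : Fin 2) (hij : i ≠ j) (p : MvPolynomial (Fin 2) k) :
    F1 k i j hij (Ideal.Quotient.mk (J k) p) = F0 k j p := by
  unfold F1
  rw [Ideal.Quotient.liftₐ_apply, Ideal.Quotient.lift_mk]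
  rfl

lemma F1_xx (i j : Fin 2) (hij : i ≠ j) (l : Fin 2) :
    F1 k i j hij (xx k l) = if l = j then (Polynomial.X : k[X]) else 0 := by
  rw [F1_mk]
  exact F0_X k j l

lemma F1_II (i j : Fin 2) (hij : i ≠ j) : ∀ a ∈ II k i, F1 k i j hij a = 0 := by
  intro a ha
  have : II k i ≤ RingHom.ker (F1 k i j hij).toRingHom := by
    rw [Ideal.span_le, Set.singleton_subset_iff]
    change F1 k i j hij (xx k i) = 0
    rw [F1_xx, if_neg hij]
  exact this ha

noncomputable def F2 (i j : Fin 2) (hij : i ≠ j) : (Nd k ⧸ II k i) →ₐ[k] k[X] :=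
  Ideal.Quotient.liftₐ (II k i) (F1 k i j hij) (F1_II k i j hij)

lemma F2_mk (i j : Fin 2) (hij : i ≠ j) (a : Nd k) :
    F2 k i j hij (Ideal.Quotient.mk (II k i) a) = F1 k i j hij a := by
  unfold F2
  rw [Ideal.Quotient.liftₐ_apply, Ideal.Quotient.lift_mk]
  rfl

noncomputable def G2 (i j : Fin 2) : k[X] →ₐ[k] (Nd k ⧸ II k i) :=
  (Ideal.Quotient.mkₐ k (II k i)).comp (jmap k j)

lemma G2_X (i j : Fin 2) : G2 k i j Polynomial.X = Ideal.Quotient.mk (II k i) (xx k j) := by
  unfold G2 jmap
  rw [AlgHom.comp_apply, Polynomial.aeval_X]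
  rfl

lemma G2_F2 (i j : Fin 2) (hij : i ≠ j) : (G2 k i j).comp (F2 k i j hij) = AlgHom.id k _ := by
  apply Ideal.Quotient.algHom_ext
  apply Ideal.Quotient.algHom_ext
  apply MvPolynomial.algHom_ext
  intro l
  simp only [AlgHom.comp_apply, Ideal.Quotient.mkₐ_eq_mk, AlgHom.id_apply]
  rw [F2_mk, F1_xx]
  rcases fin2_cases i j l hij with rfl | rfl
  · rw [if_neg hij, map_zero (G2 k l j)]
    have h0 : Ideal.Quotient.mk (II k l) (xx k l) = 0 :=
      Ideal.Quotient.eq_zero_iff_mem.2 (Ideal.subset_span (Set.mem_singleton _))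
    exact h0.symm
  · rw [if_pos rfl, G2_X]

lemma exists_jmap (i j : Fin 2) (hij : i ≠ j) (a : Nd k) :
    a - (jmap k j) (F1 k i j hij a) ∈ II k i := by
  have h := DFunLike.congr_fun (G2_F2 k i j hij) (Ideal.Quotient.mk (II k i) a)
  rw [AlgHom.comp_apply, F2_mk, AlgHom.id_apply] at h
  have h' : Ideal.Quotient.mk (II k i) ((jmap k j) (F1 k i j hij a)) =
      Ideal.Quotient.mk (II k i) a := h
  rw [← Ideal.Quotient.eq]
  exact h'.symm

/-- joint injectivity of the two branch maps -/
lemma eq_zero_of_F1 (a : Nd k) (h1 : F1 k 1 0 (by decide) a = 0) (h2 : F1 k 0 1 (by decide) a = 0) :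
    a = 0 := by
  have e1 := exists_jmap k 1 0 (by decide) a
  rw [h1, map_zero (jmap k 0), sub_zero] at e1
  obtain ⟨b, hb⟩ := Ideal.mem_span_singleton'.1 e1
  -- a = b * y
  rw [← hb, map_mul, F1_xx, if_pos rfl] at h2
  have h3 : F1 k 0 1 (by decide) b = 0 := by
    rcases mul_eq_zero.1 h2 with h | h
    · exact h
    · exact absurd h Polynomial.X_ne_zero
  have e2 := exists_jmap k 0 1 (by decide) b
  rw [h3, map_zero (jmap k 1), sub_zero] at e2
  obtain ⟨c, hc⟩ := Ideal.mem_span_singleton'.1 e2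
  rw [← hb, ← hc, mul_assoc, xx_mul k 0 1 (by decide), mul_zero]

/-- the constant terms of the two branches agree -/
lemma coeff_zero_F1 (a : Nd k) :
    (F1 k 1 0 (by decide) a).coeff 0 = (F1 k 0 1 (by decide) a).coeff 0 := by
  have h : (Polynomial.constantCoeff (R := k)).comp (F1 k 1 0 (by decide)).toRingHom =
      (Polynomial.constantCoeff (R := k)).comp (F1 k 0 1 (by decide)).toRingHom := by
    apply Ideal.Quotient.ringHom_ext
    apply MvPolynomial.ringHom_ext
    · intro c
      simp only [RingHom.comp_apply]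
      change Polynomial.constantCoeff (F1 k 1 0 _ (Ideal.Quotient.mk (J k) (MvPolynomial.C c))) =
        Polynomial.constantCoeff (F1 k 0 1 _ (Ideal.Quotient.mk (J k) (MvPolynomial.C c)))
      rw [F1_mk, F1_mk]
      simp [F0]
    · intro l
      simp only [RingHom.comp_apply]
      change Polynomial.constantCoeff (F1 k 1 0 _ (xx k l)) =
        Polynomial.constantCoeff (F1 k 0 1 _ (xx k l))
      rw [F1_xx, F1_xx]
      split_ifs <;> simp
  exact DFunLike.congr_fun h a

end ring

section laurent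

open LaurentPolynomial

variable {k : Type u} [Field k]

lemma coeff_toLaurent_nat (F : k[X]) (n : ℕ) : (toLaurent F).coeff (n : ℤ) = F.coeff n := by
  rw [coeff_toLaurent]
  have := Finsupp.mapDomain_apply (Nat.castEmbedding (R := ℤ)).injective F.toFinsupp.coeff n
  exact this

lemma coeff_toLaurent_neg (F : k[X]) (z : ℤ) (hz : z < 0) : (toLaurent F).coeff z = 0 := by
  rw [coeff_toLaurent]
  apply Finsupp.mapDomain_notin_range
  rintro ⟨n, hn⟩
  have : (n : ℤ) = z := hn
  omega

lemma eq_zero_of_toLaurent_eq_invert (F G : k[X]) (hF : F.coeff 0 = 0)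
    (h : toLaurent F = invert (toLaurent G)) : F = 0 ∧ G = 0 := by
  have hF0 : F = 0 := by
    ext n
    rw [Polynomial.coeff_zero]
    cases n with
    | zero => exact hF
    | succ m =>
      rw [← coeff_toLaurent_nat, h, invert_apply]
      exact coeff_toLaurent_neg G _ (by push_cast; omega)
  refine ⟨hF0, ?_⟩
  rw [hF0, map_zero] at h
  have h2 : toLaurent G = 0 := by
    have := congrArg invert h
    rw [map_zero, involutive_invert] at this
    exact this.symm
  exact Polynomial.toLaurent_eq_zero.1 h2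

lemma laurent_aux (P Q : k[X]) (hP : P.coeff 0 = 0) (hQ : Q.coeff 0 = 0)
    (h : toLaurent P = T 1 * invert (toLaurent Q)) : P = 0 ∧ Q = 0 := by
  obtain ⟨Q₁, rfl⟩ := Polynomial.X_dvd_iff.2 hQ
  have h1 : invert (toLaurent (Polynomial.X * Q₁)) = T (-1) * invert (toLaurent Q₁) := by
    rw [map_mul, Polynomial.toLaurent_X, map_mul, invert_T]
  rw [h1, ← mul_assoc, ← T_add] at h
  norm_num at h
  obtain ⟨hP0, hQ0⟩ := eq_zero_of_toLaurent_eq_invert P Q₁ hP h
  exact ⟨hP0, by rw [hQ0, mul_zero]⟩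

end laurent

section main

open LaurentPolynomial

variable (k : Type u) [Field k]

lemma alg_ext {B : Type*} [Semiring B] [Algebra k B] (φ ψ : Nd k →ₐ[k] B)
    (h0 : φ (xx k 0) = ψ (xx k 0)) (h1 : φ (xx k 1) = ψ (xx k 1)) : φ = ψ := by
  apply Ideal.Quotient.algHom_ext
  apply MvPolynomial.algHom_ext
  intro l
  have : ∀ l : Fin 2, l = 0 ∨ l = 1 := by decide
  rcases this l with rfl | rfl
  · exact h0
  · exact h1

theorem main
    (rU : SpinCurv.PolyNodeRing k 0 →ₐ[k] SpinCurv.PolyNodeRing k 0)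
    (hrUy : rU (SpinCurv.PolyNodeRing.y k 0) = SpinCurv.PolyNodeRing.y k 0)
    (rV : SpinCurv.PolyNodeRing k 0 →ₐ[k] SpinCurv.PolyNodeRing k 0)
    (hrVx : rV (SpinCurv.PolyNodeRing.x k 0) = SpinCurv.PolyNodeRing.y k 0)
    (gU : SpinCurv.PolyNodeRing k 0 →ₐ[k] LaurentPolynomial k)
    (hgUs : gU (SpinCurv.PolyNodeRing.x k 0) = LaurentPolynomial.T 1)
    (hgUy : gU (SpinCurv.PolyNodeRing.y k 0) = 0)
    (gV : SpinCurv.PolyNodeRing k 0 →ₐ[k] LaurentPolynomial k)
    (hgVt : gV (SpinCurv.PolyNodeRing.x k 0) = LaurentPolynomial.T (-1))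
    (hgVx : gV (SpinCurv.PolyNodeRing.y k 0) = 0)
    (g f : SpinCurv.PolyNodeRing k 0) (hsec : gU g = LaurentPolynomial.T 1 * gV f)
    (hx2 : rV (SpinCurv.PolyNodeRing.x k 0) * f = 0)
    (hy1 : rU (SpinCurv.PolyNodeRing.y k 0) * g = 0) :
    g = 0 ∧ f = 0 := by
  set α := F1 k 1 0 (by decide) with hα
  set β := F1 k 0 1 (by decide) with hβ
  have hαx : α (xx k 0) = Polynomial.X := by rw [hα, F1_xx, if_pos rfl]
  have hαy : α (xx k 1) = 0 := by rw [hα, F1_xx, if_neg (by decide)]
  have hβy : β (xx k 1) = Polynomial.X := by rw [hβ, F1_xx, if_pos rfl]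
  have hgU : gU = (Polynomial.toLaurentAlg (R := k)).comp α := by
    apply alg_ext
    · rw [AlgHom.comp_apply, hαx, Polynomial.toLaurentAlg_apply, Polynomial.toLaurent_X]
      exact hgUs
    · rw [AlgHom.comp_apply, hαy, map_zero (Polynomial.toLaurentAlg (R := k))]
      exact hgUy
  have hgV : gV = ((invert (R := k)).toAlgHom.comp (Polynomial.toLaurentAlg (R := k))).comp α := by
    apply alg_ext
    · rw [AlgHom.comp_apply, hαx, AlgHom.comp_apply, Polynomial.toLaurentAlg_apply,
        Polynomial.toLaurent_X]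
      change gV (xx k 0) = invert (T 1)
      rw [invert_T]
      exact hgVt
    · rw [AlgHom.comp_apply, hαy,
        map_zero ((invert (R := k)).toAlgHom.comp (Polynomial.toLaurentAlg (R := k)))]
      exact hgVx
  have hβg : β g = 0 := by
    rw [hrUy] at hy1
    have := congrArg β hy1
    rw [map_mul, map_zero β] at this
    change β (xx k 1) * β g = 0 at this
    rw [hβy] at this
    rcases mul_eq_zero.1 this with h | h
    · exact absurd h Polynomial.X_ne_zero
    · exact h
  have hβf : β f = 0 := by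
    rw [hrVx] at hx2
    have := congrArg β hx2
    rw [map_mul, map_zero β] at this
    change β (xx k 1) * β f = 0 at this
    rw [hβy] at this
    rcases mul_eq_zero.1 this with h | h
    · exact absurd h Polynomial.X_ne_zero
    · exact h
  have hαg0 : (α g).coeff 0 = 0 := by
    rw [hα, coeff_zero_F1, ← hβ, hβg, Polynomial.coeff_zero]
  have hαf0 : (α f).coeff 0 = 0 := by
    rw [hα, coeff_zero_F1, ← hβ, hβf, Polynomial.coeff_zero]
  have hsec' : Polynomial.toLaurent (α g) = T 1 * invert (Polynomial.toLaurent (α f)) := by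
    rw [hgU, hgV] at hsec
    exact hsec
  obtain ⟨h1, h2⟩ := laurent_aux (α g) (α f) hαg0 hαf0 hsec'
  exact ⟨eq_zero_of_F1 k g h1 hβg, eq_zero_of_F1 k f h2 hβf⟩

end main



/-- Let k be a field and A = k[x, y]/(xy) the node, with the two affine charts U = Spec k[s, y]/(sy) and
V = Spec k[t, x]/(tx) of the curve obtained by the (p, q)-construction with p = q = 0, glued along
k[s, s⁻¹] by t = s⁻¹ (y ↦ 0 from U, x ↦ 0 from V), and with A → O(U) given by x ↦ 0, y ↦ y and A →
O(V) by x ↦ x, y ↦ 0. A global section of O(1) is a pair (g, f) with g = s f on U ∩ V. If such a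
pair is annihilated by both x and y (acting through the two restriction maps), then g = 0 and f = 0;
so the module of global sections of O(1) has no nonzero element killed by the maximal ideal (x, y),
i.e. its direct image on the node is torsion-free there. All three coordinate rings are written as
the quotient of the polynomial ring in two variables by the product of the variables, and the four
restriction homomorphisms are k-algebra maps pinned by their values on generators. (The published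
proof reduces the torsion-freeness of the direct image of O(1), for general R, p, q, to exactly this
case of a field with p = q = 0.) -/
theorem result (k : Type u) [Field k]
    (rU : SpinCurv.PolyNodeRing k 0 →ₐ[k] SpinCurv.PolyNodeRing k 0)
    (hrUx : rU (SpinCurv.PolyNodeRing.x k 0) = 0)
    (hrUy : rU (SpinCurv.PolyNodeRing.y k 0) = SpinCurv.PolyNodeRing.y k 0)
    (rV : SpinCurv.PolyNodeRing k 0 →ₐ[k] SpinCurv.PolyNodeRing k 0)
    (hrVx : rV (SpinCurv.PolyNodeRing.x k 0) = SpinCurv.PolyNodeRing.y k 0)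
    (hrVy : rV (SpinCurv.PolyNodeRing.y k 0) = 0)
    (gU : SpinCurv.PolyNodeRing k 0 →ₐ[k] LaurentPolynomial k)
    (hgUs : gU (SpinCurv.PolyNodeRing.x k 0) = LaurentPolynomial.T 1)
    (hgUy : gU (SpinCurv.PolyNodeRing.y k 0) = 0)
    (gV : SpinCurv.PolyNodeRing k 0 →ₐ[k] LaurentPolynomial k)
    (hgVt : gV (SpinCurv.PolyNodeRing.x k 0) = LaurentPolynomial.T (-1))
    (hgVx : gV (SpinCurv.PolyNodeRing.y k 0) = 0)
    (g f : SpinCurv.PolyNodeRing k 0) (hsec : gU g = LaurentPolynomial.T 1 * gV f)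
    (hx : rU (SpinCurv.PolyNodeRing.x k 0) * g = 0 ∧ rV (SpinCurv.PolyNodeRing.x k 0) * f = 0)
    (hy : rU (SpinCurv.PolyNodeRing.y k 0) * g = 0 ∧ rV (SpinCurv.PolyNodeRing.y k 0) * f = 0) :
    g = 0 ∧ f = 0 := by
  exact main k rU hrUy rV hrVx gU hgUs hgUy gV hgVt hgVx g f hsec hx.2 hy.1

end Groth.Agent.S18435
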