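import Groth.Statements.S18436
import Mathlib

set_option autoImplicit false
universe u
open SpinCurv

namespace Groth.Agent.S18436

open MvPolynomial

section NF
variable (R : Type u) [CommRing R] (π : R)

/-- normal-form map on polynomials -/
noncomputable def rho0 : MvPolynomial (Fin 2) R →ₗ[R] (ℤ →₀ R) :=
  (MvPolynomial.basisMonomials (Fin 2) R).constr R
    (fun m => Finsupp.single ((m 0 : ℤ) - (m 1 : ℤ)) (π ^ (min (m 0) (m 1))))

theorem rho0_monomial (m : Fin 2 →₀ ℕ) (r : R) :
    rho0 R π (monomial m r) =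
      Finsupp.single ((m 0 : ℤ) - (m 1 : ℤ)) (r * π ^ (min (m 0) (m 1))) := by
  have h1 : monomial m r = r • (MvPolynomial.basisMonomials (Fin 2) R m) := by
    simp [MvPolynomial.coe_basisMonomials, smul_monomial]
  rw [h1, map_smul, rho0, Module.Basis.constr_basis, Finsupp.smul_single, smul_eq_mul]

theorem rho0_kill (p : MvPolynomial (Fin 2) R) :
    rho0 R π ((X 0 * X 1 - C π) * p) = 0 := by
  induction p using MvPolynomial.induction_on' with
  | monomial m r =>
    have h : (X 0 * X 1 - C π) * monomial m r =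
        monomial (Finsupp.single 0 1 + Finsupp.single 1 1 + m) (1 * 1 * r) -
          monomial m (π * r) := by
      rw [sub_mul, C_mul_monomial, X, X, monomial_mul, monomial_mul]
    rw [h, map_sub, rho0_monomial, rho0_monomial]
    have e0 : (Finsupp.single 0 1 + Finsupp.single 1 1 + m : Fin 2 →₀ ℕ) 0 = m 0 + 1 := by
      simp [Finsupp.add_apply]; ring
    have e1 : (Finsupp.single 0 1 + Finsupp.single 1 1 + m : Fin 2 →₀ ℕ) 1 = m 1 + 1 := by
      simp [Finsupp.add_apply]; ring
    rw [e0, e1]
    have e2 : ((m 0 + 1 : ℕ) : ℤ) - ((m 1 + 1 : ℕ) : ℤ) = (m 0 : ℤ) - (m 1 : ℤ) := by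
      push_cast; ring
    have e3 : min (m 0 + 1) (m 1 + 1) = min (m 0) (m 1) + 1 := by omega
    rw [e2, e3, pow_succ, sub_eq_zero]
    congr 1
    ring
  | add p q hp hq => rw [mul_add, map_add, hp, hq, add_zero]

/-- the normal-form basis vectors -/
noncomputable def bvec (k : ℤ) : MvPolynomial (Fin 2) R :=
  if 0 ≤ k then X 0 ^ k.toNat else X 1 ^ (-k).toNat

noncomputable def iota0 : (ℤ →₀ R) →ₗ[R] MvPolynomial (Fin 2) R :=
  Finsupp.linearCombination R (bvec R)

theorem rho0_bvec (k : ℤ) : rho0 R π (bvec R k) = Finsupp.single k 1 := by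
  unfold bvec
  split_ifs with h
  · rw [X_pow_eq_monomial, rho0_monomial]
    have e0 : (Finsupp.single (0 : Fin 2) k.toNat) 0 = k.toNat := by simp
    have e1 : (Finsupp.single (0 : Fin 2) k.toNat) 1 = 0 := by simp
    rw [e0, e1, Nat.min_zero, pow_zero, mul_one, Int.toNat_of_nonneg h]
    simp
  · rw [X_pow_eq_monomial, rho0_monomial]
    have e0 : (Finsupp.single (1 : Fin 2) (-k).toNat) 0 = 0 := by simp
    have e1 : (Finsupp.single (1 : Fin 2) (-k).toNat) 1 = (-k).toNat := by simp
    have h' : 0 ≤ -k := by omega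
    rw [e0, e1, Nat.zero_min, pow_zero, mul_one, Int.toNat_of_nonneg h']
    simp

theorem rho0_iota0 (H : ℤ →₀ R) : rho0 R π (iota0 R H) = H := by
  induction H using Finsupp.induction_linear with
  | zero => simp
  | add f g hf hg => rw [map_add, map_add, hf, hg]
  | single k r =>
    rw [iota0, Finsupp.linearCombination_single, map_smul, rho0_bvec, Finsupp.smul_single,
      smul_eq_mul, mul_one]

theorem monomial_fin2 (m : Fin 2 →₀ ℕ) (r : R) :
    (monomial m r : MvPolynomial (Fin 2) R) = C r * X 0 ^ (m 0) * X 1 ^ (m 1) := by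
  rw [monomial_eq, Finsupp.prod_fintype _ _ (by simp), Fin.prod_univ_two, mul_assoc]

theorem mk_iota0_rho0 (p : MvPolynomial (Fin 2) R) :
    Ideal.Quotient.mk (Ideal.span {(X 0 * X 1 - C π : MvPolynomial (Fin 2) R)})
      (iota0 R (rho0 R π p)) = Ideal.Quotient.mk _ p := by
  have hxy : Ideal.Quotient.mk (Ideal.span {(X 0 * X 1 - C π : MvPolynomial (Fin 2) R)}) (C π) =
      Ideal.Quotient.mk _ (X 0) * Ideal.Quotient.mk _ (X 1) := by
    rw [← map_mul, eq_comm, Ideal.Quotient.eq]
    exact Ideal.subset_span rfl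
  induction p using MvPolynomial.induction_on' with
  | add p q hp hq => rw [map_add, map_add, map_add, map_add, hp, hq]
  | monomial m r =>
    rw [rho0_monomial, iota0, Finsupp.linearCombination_single, smul_eq_C_mul, monomial_fin2]
    unfold bvec
    rcases le_total (m 1) (m 0) with h | h
    · obtain ⟨d, hd⟩ := Nat.exists_eq_add_of_le h
      have h0 : (0 : ℤ) ≤ (m 0 : ℤ) - (m 1 : ℤ) := by omega
      have h1 : ((m 0 : ℤ) - (m 1 : ℤ)).toNat = d := by omega
      have h2 : min (m 0) (m 1) = m 1 := by omega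
      rw [if_pos h0, h1, h2, hd]
      simp only [map_mul, map_pow, hxy]
      ring
    · obtain ⟨d, hd⟩ := Nat.exists_eq_add_of_le h
      have h2 : min (m 0) (m 1) = m 0 := by omega
      by_cases h0 : (0 : ℤ) ≤ (m 0 : ℤ) - (m 1 : ℤ)
      · have hd0 : d = 0 := by omega
        have h1 : ((m 0 : ℤ) - (m 1 : ℤ)).toNat = 0 := by omega
        rw [if_pos h0, h1, h2, hd, hd0]
        simp only [map_mul, map_pow, hxy]
        ring
      · have h1 : (-((m 0 : ℤ) - (m 1 : ℤ))).toNat = d := by omega
        rw [if_neg h0, h1, h2, hd]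
        simp only [map_mul, map_pow, hxy]
        ring

theorem rho0_of_mem (p : MvPolynomial (Fin 2) R)
    (hp : p ∈ Ideal.span {(X 0 * X 1 - C π : MvPolynomial (Fin 2) R)}) : rho0 R π p = 0 := by
  obtain ⟨a, rfl⟩ := Ideal.mem_span_singleton'.1 hp
  rw [mul_comm]; exact rho0_kill R π a

/-- the linear map `L → R[x,y]/(xy-π)` -/
noncomputable def iotaQ : (ℤ →₀ R) →ₗ[R] SpinCurv.PolyNodeRing R π :=
  (Ideal.Quotient.mkₐ R (Ideal.span {(X 0 * X 1 - C π : MvPolynomial (Fin 2) R)})).toLinearMap ∘ₗ
    iota0 R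

theorem iotaQ_apply (H : ℤ →₀ R) :
    iotaQ R π H = Ideal.Quotient.mk _ (iota0 R H) := rfl

theorem iotaQ_bijective : Function.Bijective (iotaQ R π) := by
  constructor
  · rw [injective_iff_map_eq_zero]
    intro H hH
    rw [iotaQ_apply, Ideal.Quotient.eq_zero_iff_mem] at hH
    have := rho0_of_mem R π _ hH
    rwa [rho0_iota0] at this
  · intro z
    obtain ⟨p, rfl⟩ := Ideal.Quotient.mk_surjective z
    exact ⟨rho0 R π p, by rw [iotaQ_apply, mk_iota0_rho0]⟩

/-- the normal form equivalence -/
noncomputable def nodeEquiv : (ℤ →₀ R) ≃ₗ[R] SpinCurv.PolyNodeRing R π :=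
  LinearEquiv.ofBijective (iotaQ R π) (iotaQ_bijective R π)

/-- weight -/
noncomputable def wt (c : R) (k : ℤ) : R := if 0 ≤ k then 1 else c ^ (-k).toNat

theorem nodeEquiv_single (k : ℤ) (r : R) :
    nodeEquiv R π (Finsupp.single k r) =
      r • (if 0 ≤ k then SpinCurv.PolyNodeRing.x R π ^ k.toNat
        else SpinCurv.PolyNodeRing.y R π ^ (-k).toNat) := by
  show iotaQ R π (Finsupp.single k r) = _
  rw [iotaQ, LinearMap.comp_apply, iota0, Finsupp.linearCombination_single, map_smul]
  congr 1
  unfold bvec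
  split_ifs <;> simp

end NF

section Main
variable (R : Type u) [CommRing R]

theorem coeff_gamma (π : R) (γ : SpinCurv.PolyNodeRing R π →ₐ[R] LaurentPolynomial R) (ε : ℤ)
    (hε : ε * ε = 1)
    (hx : γ (SpinCurv.PolyNodeRing.x R π) = LaurentPolynomial.T ε)
    (hy : γ (SpinCurv.PolyNodeRing.y R π) = LaurentPolynomial.C π * LaurentPolynomial.T (-ε))
    (H : ℤ →₀ R) (k : ℤ) :
    (γ (nodeEquiv R π H)).coeff k = wt R π (ε * k) * H (ε * k) := by
  induction H using Finsupp.induction_linear with
  | zero => simp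
  | add f g hf hg =>
    rw [map_add, map_add, AddMonoidAlgebra.coeff_add, Finsupp.add_apply, hf, hg,
      Finsupp.add_apply, mul_add]
  | single j r =>
    have hb : γ (if 0 ≤ j then SpinCurv.PolyNodeRing.x R π ^ j.toNat
        else SpinCurv.PolyNodeRing.y R π ^ (-j).toNat) =
        AddMonoidAlgebra.single (ε * j) (wt R π j) := by
      unfold wt
      split_ifs with h
      · rw [map_pow, hx, LaurentPolynomial.T_pow, Int.toNat_of_nonneg h, mul_comm]; rfl
      · have h' : 0 ≤ -j := by omega
        rw [map_pow, hy, mul_pow, ← map_pow, LaurentPolynomial.T_pow, Int.toNat_of_nonneg h',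
          LaurentPolynomial.single_eq_C_mul_T]
        congr 2; ring
    rw [nodeEquiv_single, map_smul, hb, AddMonoidAlgebra.coeff_smul, AddMonoidAlgebra.coeff_single,
      Finsupp.smul_apply, smul_eq_mul]
    by_cases hjk : j = ε * k
    · subst hjk
      have : ε * (ε * k) = k := by rw [← mul_assoc, hε, one_mul]
      rw [this, Finsupp.single_eq_same, Finsupp.single_eq_same, mul_comm]
    · have h1 : ε * j ≠ k := by
        intro h; apply hjk; rw [← h, ← mul_assoc, hε, one_mul]
      rw [Finsupp.single_apply, if_neg h1, Finsupp.single_apply, if_neg hjk, mul_zero, mul_zero]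

/-- diagonal operator -/
noncomputable def diagL (w : ℤ → R) : (ℤ →₀ R) →ₗ[R] (ℤ →₀ R) where
  toFun H := w • H
  map_add' H1 H2 := smul_add w H1 H2
  map_smul' r H := by
    ext k
    show w k * (r * H k) = r * (w k * H k)
    ring

theorem diagL_apply (w : ℤ → R) (H : ℤ →₀ R) (k : ℤ) : diagL R w H k = w k * H k := rfl

/-- reflection operator -/
noncomputable def reflL (n : ℤ) : (ℤ →₀ R) ≃ₗ[R] (ℤ →₀ R) := Finsupp.domLCongr (Equiv.subLeft n)

theorem reflL_apply (n : ℤ) (H : ℤ →₀ R) (i : ℤ) : reflL R n H i = H (n - i) := by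
  simp only [reflL, Finsupp.domLCongr_apply, Finsupp.domCongr_apply, Finsupp.equivMapDomain_apply]
  congr 1
  show -i + n = n - i
  ring

variable (p q : R)
    (gU : SpinCurv.PolyNodeRing R q →ₐ[R] LaurentPolynomial R)
    (hgUs : gU (SpinCurv.PolyNodeRing.x R q) = LaurentPolynomial.T 1)
    (hgUy : gU (SpinCurv.PolyNodeRing.y R q) = LaurentPolynomial.C q * LaurentPolynomial.T (-1))
    (gV : SpinCurv.PolyNodeRing R p →ₐ[R] LaurentPolynomial R)
    (hgVt : gV (SpinCurv.PolyNodeRing.x R p) = LaurentPolynomial.T (-1))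
    (hgVx : gV (SpinCurv.PolyNodeRing.y R p) = LaurentPolynomial.C p * LaurentPolynomial.T 1)
    (n : ℤ)

include hgUs hgUy hgVt hgVx in
theorem mem_ker_iff (G F : ℤ →₀ R) :
    (nodeEquiv R q G, nodeEquiv R p F) ∈ LinearMap.ker
      (gU.toLinearMap.comp (LinearMap.fst R (SpinCurv.PolyNodeRing R q) (SpinCurv.PolyNodeRing R p)) -
        (LinearMap.mulLeft R (LaurentPolynomial.T n)).comp
          (gV.toLinearMap.comp (LinearMap.snd R (SpinCurv.PolyNodeRing R q) (SpinCurv.PolyNodeRing R p)))) ↔
      ∀ k, wt R q k * G k = wt R p (n - k) * F (n - k) := by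
  rw [LinearMap.mem_ker]
  simp only [LinearMap.sub_apply, LinearMap.comp_apply, LinearMap.fst_apply, LinearMap.snd_apply,
    AlgHom.toLinearMap_apply, LinearMap.mulLeft_apply]
  rw [sub_eq_zero, ← AddMonoidAlgebra.coeff_inj, DFunLike.ext_iff]
  refine forall_congr' fun k => ?_
  have h1 := coeff_gamma R q gU 1 (by norm_num) hgUs hgUy G k
  have h2 := coeff_gamma R p gV (-1) (by norm_num) hgVt (by rw [neg_neg]; exact hgVx) F (-n + k)
  rw [one_mul] at h1
  have h3 : (LaurentPolynomial.T n * gV (nodeEquiv R p F)).coeff k =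
      (gV (nodeEquiv R p F)).coeff (-n + k) := by
    rw [LaurentPolynomial.T, AddMonoidAlgebra.coeff_single_mul_apply, one_mul]
  rw [h1, h3, h2]
  have : (-1 : ℤ) * (-n + k) = n - k := by ring
  rw [this]

/-- weights for the parametrisation -/
noncomputable def wa (k : ℤ) : R := if k ≤ n then 1 else wt R p (n - k)
noncomputable def wb (k : ℤ) : R := if k ≤ n then wt R q k else 1

theorem w_identity (hn : -1 ≤ n) (k : ℤ) :
    wt R q k * wa R p n k = wt R p (n - k) * wb R q n k := by
  unfold wa wb
  by_cases h : k ≤ n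
  · rw [if_pos h, if_pos h]
    have : wt R p (n - k) = 1 := by unfold wt; rw [if_pos (by omega)]
    rw [this, mul_one, one_mul]
  · rw [if_neg h, if_neg h]
    have : wt R q k = 1 := by unfold wt; rw [if_pos (by omega)]
    rw [this, mul_one, one_mul]

/-- the parametrisation -/
noncomputable def Psi : (ℤ →₀ R) →ₗ[R] (SpinCurv.PolyNodeRing R q × SpinCurv.PolyNodeRing R p) :=
  LinearMap.prod ((nodeEquiv R q).toLinearMap ∘ₗ diagL R (wa R p n))
    ((nodeEquiv R p).toLinearMap ∘ₗ (reflL R n).toLinearMap ∘ₗ diagL R (wb R q n))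

theorem Psi_apply (H : ℤ →₀ R) :
    Psi R p q n H = (nodeEquiv R q (diagL R (wa R p n) H),
      nodeEquiv R p (reflL R n (diagL R (wb R q n) H))) := rfl

theorem Psi_injective : Function.Injective (Psi R p q n) := by
  rw [injective_iff_map_eq_zero]
  intro H hH
  rw [Psi_apply, Prod.mk_eq_zero] at hH
  obtain ⟨h1, h2⟩ := hH
  have h1' : diagL R (wa R p n) H = 0 := (nodeEquiv R q).map_eq_zero_iff.1 h1
  have h2' : diagL R (wb R q n) H = 0 :=
    (reflL R n).map_eq_zero_iff.1 ((nodeEquiv R p).map_eq_zero_iff.1 h2)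
  ext k
  by_cases h : k ≤ n
  · have := DFunLike.congr_fun h1' k
    rw [diagL_apply, wa, if_pos h, one_mul] at this
    exact this
  · have := DFunLike.congr_fun h2' k
    rw [diagL_apply, wb, if_neg h, one_mul] at this
    exact this

include hgUs hgUy hgVt hgVx in
theorem ker_eq_range (hn : -1 ≤ n) :
    LinearMap.ker
      (gU.toLinearMap.comp (LinearMap.fst R (SpinCurv.PolyNodeRing R q) (SpinCurv.PolyNodeRing R p)) -
        (LinearMap.mulLeft R (LaurentPolynomial.T n)).comp
          (gV.toLinearMap.comp (LinearMap.snd R (SpinCurv.PolyNodeRing R q) (SpinCurv.PolyNodeRing R p)))) =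
      LinearMap.range (Psi R p q n) := by
  apply le_antisymm
  · rintro ⟨g, f⟩ hgf
    obtain ⟨G, rfl⟩ := (nodeEquiv R q).surjective g
    obtain ⟨F, rfl⟩ := (nodeEquiv R p).surjective f
    rw [mem_ker_iff R p q gU hgUs hgUy gV hgVt hgVx n] at hgf
    refine ⟨diagL R (fun k => if k ≤ n then 1 else 0) G +
      reflL R n (diagL R (fun i => if i < 0 then 1 else 0) F), ?_⟩
    have hH : ∀ k, (diagL R (fun k => if k ≤ n then 1 else 0) G +
        reflL R n (diagL R (fun i => if i < 0 then 1 else 0) F)) k =
        (if k ≤ n then 1 else 0) * G k + (if n - k < 0 then 1 else 0) * F (n - k) := by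
      intro k
      rw [Finsupp.add_apply, diagL_apply, reflL_apply, diagL_apply]
    rw [Psi_apply]
    congr 1
    · congr 1
      ext k
      rw [diagL_apply, hH]
      unfold wa
      by_cases h : k ≤ n
      · rw [if_pos h, if_pos h, if_neg (by omega)]; ring
      · rw [if_neg h, if_neg h, if_pos (by omega)]
        have h1 := hgf k
        have : wt R q k = 1 := by unfold wt; rw [if_pos (by omega)]
        rw [this, one_mul] at h1
        rw [h1]; ring
    · congr 1
      ext i
      rw [reflL_apply, diagL_apply, hH]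
      have e : n - (n - i) = i := by ring
      rw [e]
      unfold wb
      by_cases h : n - i ≤ n
      · rw [if_pos h, if_pos h, if_neg (by omega)]
        have h1 := hgf (n - i)
        rw [e] at h1
        have : wt R p i = 1 := by unfold wt; rw [if_pos (by omega)]
        rw [this, one_mul] at h1
        rw [← h1]; ring
      · rw [if_neg h, if_neg h, if_pos (by omega)]; ring
  · rintro _ ⟨H, rfl⟩
    rw [Psi_apply, mem_ker_iff R p q gU hgUs hgUy gV hgVt hgVx n]
    intro k
    rw [diagL_apply, reflL_apply, diagL_apply]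
    have e : n - (n - k) = k := by ring
    rw [e, ← mul_assoc, ← mul_assoc, w_identity R p q n hn k]

end Main


/-- Let R be a commutative ring and p, q ∈ R, and consider the two affine charts U = Spec R[s, y]/(sy -
q) and V = Spec R[t, x]/(xt - p) of the curve obtained from the node xy = pq by the (p,
q)-construction, glued along R[s, s⁻¹] by t = s⁻¹ (so y = q s⁻¹ on U and x = p s on V). For an
integer n ≥ -1 the global sections of the twisting sheaf O(n) (equal to vⁿ O on U and to ξⁿ O on V,
ξ = s v) are the pairs (g, f) of functions on U and V with g = sⁿ f on U ∩ V. This R-module, written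
as the kernel of the R-linear map (g, f) ↦ g|_{U ∩ V} - sⁿ · f|_{U ∩ V} into R[s, s⁻¹], is free over
R (hence the direct image of O(n) on the node is flat over R). Both chart rings are written as the
quotient of the polynomial ring in two variables by (first variable)·(second variable) - constant,
and the two restriction homomorphisms to R[s, s⁻¹] are R-algebra maps pinned by their values on
generators. (The published setting has R complete local and p, q in the maximal ideal; the printed
computation uses neither.) -/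
theorem result (R : Type u) [CommRing R] (p q : R)
    (gU : SpinCurv.PolyNodeRing R q →ₐ[R] LaurentPolynomial R)
    (hgUs : gU (SpinCurv.PolyNodeRing.x R q) = LaurentPolynomial.T 1)
    (hgUy : gU (SpinCurv.PolyNodeRing.y R q) = LaurentPolynomial.C q * LaurentPolynomial.T (-1))
    (gV : SpinCurv.PolyNodeRing R p →ₐ[R] LaurentPolynomial R)
    (hgVt : gV (SpinCurv.PolyNodeRing.x R p) = LaurentPolynomial.T (-1))
    (hgVx : gV (SpinCurv.PolyNodeRing.y R p) = LaurentPolynomial.C p * LaurentPolynomial.T 1)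
    (n : ℤ) (hn : -1 ≤ n) :
    Module.Free R (LinearMap.ker
      (gU.toLinearMap.comp (LinearMap.fst R (SpinCurv.PolyNodeRing R q) (SpinCurv.PolyNodeRing R p)) -
        (LinearMap.mulLeft R (LaurentPolynomial.T n)).comp
          (gV.toLinearMap.comp (LinearMap.snd R (SpinCurv.PolyNodeRing R q) (SpinCurv.PolyNodeRing R p))))) := by
  rw [ker_eq_range R p q gU hgUs hgUy gV hgVt hgVx n hn]
  exact Module.Free.of_equiv (LinearEquiv.ofInjective (Psi R p q n) (Psi_injective R p q n))


end Groth.Agent.S18436
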