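import Groth.Statements.S18437
import Mathlib
import Groth.Agent.S18436

set_option autoImplicit false
universe u
open SpinCurv

namespace Groth.Agent.S18437

open Groth.Agent.S18436 MvPolynomial

section
variable (R : Type u) [CommRing R]

theorem xy_eq (π : R) :
    SpinCurv.PolyNodeRing.x R π * SpinCurv.PolyNodeRing.y R π =
      algebraMap R (SpinCurv.PolyNodeRing R π) π := by
  have h : algebraMap R (SpinCurv.PolyNodeRing R π) π = Ideal.Quotient.mk _ (C π) := rfl
  rw [h, ← map_mul, Ideal.Quotient.eq]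
  exact Ideal.subset_span rfl

theorem smul_def' (π : R) (r : R) (z : SpinCurv.PolyNodeRing R π) :
    r • z = algebraMap R (SpinCurv.PolyNodeRing R π) r * z := Algebra.smul_def r z

theorem polyNode_algHom_ext {π : R} {B : Type*} [CommRing B] [Algebra R B]
    (f g : SpinCurv.PolyNodeRing R π →ₐ[R] B)
    (hx : f (SpinCurv.PolyNodeRing.x R π) = g (SpinCurv.PolyNodeRing.x R π))
    (hy : f (SpinCurv.PolyNodeRing.y R π) = g (SpinCurv.PolyNodeRing.y R π)) : f = g := by
  apply Ideal.Quotient.algHom_ext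
  apply MvPolynomial.algHom_ext
  intro i
  fin_cases i
  · exact hx
  · exact hy

variable (p q : R)
    (rU : SpinCurv.PolyNodeRing R (p * q) →ₐ[R] SpinCurv.PolyNodeRing R q)
    (hrUx : rU (SpinCurv.PolyNodeRing.x R (p * q)) = algebraMap R _ p * SpinCurv.PolyNodeRing.x R q)
    (hrUy : rU (SpinCurv.PolyNodeRing.y R (p * q)) = SpinCurv.PolyNodeRing.y R q)
    (rV : SpinCurv.PolyNodeRing R (p * q) →ₐ[R] SpinCurv.PolyNodeRing R p)
    (hrVx : rV (SpinCurv.PolyNodeRing.x R (p * q)) = SpinCurv.PolyNodeRing.y R p)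
    (hrVy : rV (SpinCurv.PolyNodeRing.y R (p * q)) = algebraMap R _ q * SpinCurv.PolyNodeRing.x R p)
    (gU : SpinCurv.PolyNodeRing R q →ₐ[R] LaurentPolynomial R)
    (hgUs : gU (SpinCurv.PolyNodeRing.x R q) = LaurentPolynomial.T 1)
    (hgUy : gU (SpinCurv.PolyNodeRing.y R q) = LaurentPolynomial.C q * LaurentPolynomial.T (-1))
    (gV : SpinCurv.PolyNodeRing R p →ₐ[R] LaurentPolynomial R)
    (hgVt : gV (SpinCurv.PolyNodeRing.x R p) = LaurentPolynomial.T (-1))
    (hgVx : gV (SpinCurv.PolyNodeRing.y R p) = LaurentPolynomial.C p * LaurentPolynomial.T 1)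
    (n : ℕ)

include hrUx hrUy hrVx hrVy hgUs hgUy hgVt hgVx in
theorem gamma_eq (a : SpinCurv.PolyNodeRing R (p * q)) : gU (rU a) = gV (rV a) := by
  have h : gU.comp rU = gV.comp rV := by
    apply polyNode_algHom_ext
    · simp only [AlgHom.comp_apply, hrUx, hrVx, map_mul, hgUs, hgVx, AlgHom.commutes]
      rfl
    · simp only [AlgHom.comp_apply, hrUy, hrVy, map_mul, hgUy, hgVt, AlgHom.commutes]
      rfl
  exact DFunLike.congr_fun h a

/-- the map Θ as an `R`-linear map -/
noncomputable def ThetaL :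
    (Fin (n + 1) → SpinCurv.PolyNodeRing R (p * q)) →ₗ[R]
      SpinCurv.PolyNodeRing R q × SpinCurv.PolyNodeRing R p where
  toFun F := (∑ i : Fin (n + 1), rU (F i) * SpinCurv.PolyNodeRing.x R q ^ (n - (i : ℕ)),
         ∑ i : Fin (n + 1), rV (F i) * SpinCurv.PolyNodeRing.x R p ^ (i : ℕ))
  map_add' F G := by
    simp only [Pi.add_apply, map_add, add_mul, Finset.sum_add_distrib, Prod.mk_add_mk]
  map_smul' r F := by
    simp only [Pi.smul_apply, map_smul, smul_mul_assoc, ← Finset.smul_sum, Prod.smul_mk,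
      RingHom.id_apply]

theorem ThetaL_apply (F : Fin (n + 1) → SpinCurv.PolyNodeRing R (p * q)) :
    ThetaL R p q rU rV n F =
      (∑ i : Fin (n + 1), rU (F i) * SpinCurv.PolyNodeRing.x R q ^ (n - (i : ℕ)),
         ∑ i : Fin (n + 1), rV (F i) * SpinCurv.PolyNodeRing.x R p ^ (i : ℕ)) := rfl

theorem ThetaL_single (j : Fin (n + 1)) (a : SpinCurv.PolyNodeRing R (p * q)) :
    ThetaL R p q rU rV n (Pi.single j a) =
      (rU a * SpinCurv.PolyNodeRing.x R q ^ (n - (j : ℕ)),
        rV a * SpinCurv.PolyNodeRing.x R p ^ (j : ℕ)) := by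
  rw [ThetaL_apply]
  congr 1
  · rw [Finset.sum_eq_single j]
    · rw [Pi.single_eq_same]
    · intro i _ hij
      rw [Pi.single_eq_of_ne hij, map_zero, zero_mul]
    · intro h; exact absurd (Finset.mem_univ j) h
  · rw [Finset.sum_eq_single j]
    · rw [Pi.single_eq_same]
    · intro i _ hij
      rw [Pi.single_eq_of_ne hij, map_zero, zero_mul]
    · intro h; exact absurd (Finset.mem_univ j) h

theorem ThetaL_smul (a : SpinCurv.PolyNodeRing R (p * q))
    (F : Fin (n + 1) → SpinCurv.PolyNodeRing R (p * q)) :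
    ThetaL R p q rU rV n (a • F) =
      (rU a * (ThetaL R p q rU rV n F).1, rV a * (ThetaL R p q rU rV n F).2) := by
  rw [ThetaL_apply, ThetaL_apply]
  simp only [Pi.smul_apply, smul_eq_mul, map_mul, Finset.mul_sum, mul_assoc]

include hrUx hrUy hrVx hrVy hgUs hgUy hgVt hgVx in
theorem ThetaL_mem (F : Fin (n + 1) → SpinCurv.PolyNodeRing R (p * q)) :
    gU (ThetaL R p q rU rV n F).1 = LaurentPolynomial.T (n : ℤ) * gV (ThetaL R p q rU rV n F).2 := by
  rw [ThetaL_apply]
  simp only [map_sum, map_mul, map_pow, hgUs, hgVt, Finset.mul_sum]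
  apply Finset.sum_congr rfl
  intro i _
  rw [gamma_eq R p q rU hrUx hrUy rV hrVx hrVy gU hgUs hgUy gV hgVt hgVx (F i),
    LaurentPolynomial.T_pow, LaurentPolynomial.T_pow]
  have hi : (i : ℕ) ≤ n := Nat.lt_succ_iff.1 i.2
  have e : LaurentPolynomial.T (n : ℤ) * LaurentPolynomial.T (((i : ℕ) : ℤ) * -1) =
      (LaurentPolynomial.T (((n - (i : ℕ) : ℕ) : ℤ) * 1) : LaurentPolynomial R) := by
    rw [← LaurentPolynomial.T_add]
    congr 1
    rw [Nat.cast_sub hi]; ring
  rw [← e]
  ring


theorem diagL_single (w : ℤ → R) (k : ℤ) (r : R) :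
    diagL R w (Finsupp.single k r) = Finsupp.single k (w k * r) := by
  ext j
  rw [diagL_apply, Finsupp.single_apply, Finsupp.single_apply]
  split_ifs with h
  · rw [h]
  · rw [mul_zero]

theorem reflL_single (m : ℤ) (k : ℤ) (r : R) :
    reflL R m (Finsupp.single k r) = Finsupp.single (m - k) r := by
  ext j
  rw [reflL_apply, Finsupp.single_apply, Finsupp.single_apply]
  by_cases h : k = m - j
  · rw [if_pos h, if_pos (by omega)]
  · rw [if_neg h, if_neg (by omega)]

theorem Psi_single (m : ℤ) (k : ℤ) (r : R) :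
    Psi R p q m (Finsupp.single k r) =
      (nodeEquiv R q (Finsupp.single k (wa R p m k * r)),
        nodeEquiv R p (Finsupp.single (m - k) (wb R q m k * r))) := by
  rw [Psi_apply, diagL_single, diagL_single, reflL_single]

/-- preimages of the basis of the kernel -/
noncomputable def Bvec (k : ℤ) : Fin (n + 1) → SpinCurv.PolyNodeRing R (p * q) :=
  if k < 0 then Pi.single (Fin.last n) (SpinCurv.PolyNodeRing.y R (p * q) ^ (-k).toNat)
  else if k ≤ n then Pi.single ⟨n - k.toNat, by omega⟩ 1
  else Pi.single 0 (SpinCurv.PolyNodeRing.x R (p * q) ^ (k - n).toNat)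

include hrUx hrUy hrVx hrVy in
theorem Theta_Bvec (k : ℤ) :
    ThetaL R p q rU rV n (Bvec R p q n k) = Psi R p q (n : ℤ) (Finsupp.single k 1) := by
  rw [Psi_single, mul_one, mul_one, nodeEquiv_single, nodeEquiv_single]
  unfold Bvec wa wb wt
  by_cases h1 : k < 0
  · have h2 : k ≤ (n : ℤ) := by omega
    have h3 : ¬ (0 ≤ k) := by omega
    have h4 : (0 : ℤ) ≤ n - k := by omega
    simp only [if_pos h1, if_pos h2, if_neg h3, if_pos h4]
    rw [ThetaL_single]
    refine Prod.ext ?_ ?_
    · simp only [Fin.val_last, Nat.sub_self, pow_zero, mul_one, map_pow, hrUy, one_smul]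
    · have e : ((n : ℤ) - k).toNat = (-k).toNat + n := by omega
      simp only [Fin.val_last, map_pow, hrVy, mul_pow, e, pow_add, mul_assoc]
      rw [smul_def' R p, map_pow]
  · by_cases h2 : k ≤ (n : ℤ)
    · have h3 : (0 : ℤ) ≤ k := by omega
      have h4 : (0 : ℤ) ≤ n - k := by omega
      simp only [if_neg h1, if_pos h2, if_pos h3, if_pos h4]
      rw [ThetaL_single]
      refine Prod.ext ?_ ?_
      · have e : n - (n - k.toNat) = k.toNat := by omega
        simp only [map_one, one_mul, one_smul, e]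
      · have e : ((n : ℤ) - k).toNat = n - k.toNat := by omega
        simp only [map_one, one_mul, one_smul, e]
    · have h3 : (0 : ℤ) ≤ k := by omega
      have h4 : ¬ ((0 : ℤ) ≤ n - k) := by omega
      simp only [if_neg h1, if_neg h2, if_pos h3, if_neg h4]
      rw [ThetaL_single]
      refine Prod.ext ?_ ?_
      · have e : k.toNat = (k - n).toNat + n := by omega
        have e' : (-((n : ℤ) - k)).toNat = (k - n).toNat := by congr 1; ring
        simp only [Fin.val_zero, Nat.sub_zero, map_pow, hrUx, mul_pow, e, e', pow_add,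
          mul_assoc]
        rw [smul_def' R q, map_pow]
      · have e' : (-((n : ℤ) - k)).toNat = (k - n).toNat := by congr 1; ring
        simp only [Fin.val_zero, pow_zero, mul_one, map_pow, hrVx, one_smul, e']

/-- the `R`-linear combination map of the `Bvec` -/
noncomputable def Bsum : (ℤ →₀ R) →ₗ[R] (Fin (n + 1) → SpinCurv.PolyNodeRing R (p * q)) :=
  Finsupp.linearCombination R (Bvec R p q n)

include hrUx hrUy hrVx hrVy in
theorem Theta_Bsum (c : ℤ →₀ R) :
    ThetaL R p q rU rV n (Bsum R p q n c) = Psi R p q (n : ℤ) c := by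
  induction c using Finsupp.induction_linear with
  | zero => simp
  | add f g hf hg => rw [map_add, map_add, map_add, hf, hg]
  | single k r =>
    rw [Bsum, Finsupp.linearCombination_single, map_smul,
      Theta_Bvec R p q rU hrUx hrUy rV hrVx hrVy n k, ← map_smul, Finsupp.smul_single,
      smul_eq_mul, mul_one]

include hrUx hrUy hrVx hrVy hgUs hgUy hgVt hgVx in
theorem goal1 :
    Set.range (fun F : Fin (n + 1) → SpinCurv.PolyNodeRing R (p * q) =>
        (∑ i : Fin (n + 1), rU (F i) * SpinCurv.PolyNodeRing.x R q ^ (n - (i : ℕ)),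
         ∑ i : Fin (n + 1), rV (F i) * SpinCurv.PolyNodeRing.x R p ^ (i : ℕ))) =
      {gf : SpinCurv.PolyNodeRing R q × SpinCurv.PolyNodeRing R p |
        gU gf.1 = LaurentPolynomial.T (n : ℤ) * gV gf.2} := by
  apply Set.eq_of_subset_of_subset
  · rintro _ ⟨F, rfl⟩
    exact ThetaL_mem R p q rU hrUx hrUy rV hrVx hrVy gU hgUs hgUy gV hgVt hgVx n F
  · rintro ⟨g, f⟩ hgf
    have hmem : (g, f) ∈ LinearMap.ker
        (gU.toLinearMap.comp (LinearMap.fst R (SpinCurv.PolyNodeRing R q) (SpinCurv.PolyNodeRing R p)) -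
          (LinearMap.mulLeft R (LaurentPolynomial.T (n : ℤ))).comp
            (gV.toLinearMap.comp
              (LinearMap.snd R (SpinCurv.PolyNodeRing R q) (SpinCurv.PolyNodeRing R p)))) := by
      rw [LinearMap.mem_ker]
      simp only [LinearMap.sub_apply, LinearMap.comp_apply, LinearMap.fst_apply,
        LinearMap.snd_apply, AlgHom.toLinearMap_apply, LinearMap.mulLeft_apply]
      rw [sub_eq_zero]; exact hgf
    rw [ker_eq_range R p q gU hgUs hgUy gV hgVt hgVx (n : ℤ) (by omega)] at hmem
    obtain ⟨c, hc⟩ := hmem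
    refine ⟨Bsum R p q n c, ?_⟩
    have := Theta_Bsum R p q rU hrUx hrUy rV hrVx hrVy n c
    rw [ThetaL_apply] at this
    rw [← hc]; exact this


/-- first family of relations -/
noncomputable def relU (i : Fin n) : Fin (n + 1) → SpinCurv.PolyNodeRing R (p * q) :=
  Pi.single (Fin.castSucc i) (algebraMap R (SpinCurv.PolyNodeRing R (p * q)) p) -
    Pi.single (Fin.succ i) (SpinCurv.PolyNodeRing.x R (p * q))

/-- second family of relations -/
noncomputable def relV (i : Fin n) : Fin (n + 1) → SpinCurv.PolyNodeRing R (p * q) :=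
  Pi.single (Fin.castSucc i) (SpinCurv.PolyNodeRing.y R (p * q)) -
    Pi.single (Fin.succ i) (algebraMap R (SpinCurv.PolyNodeRing R (p * q)) q)

/-- the submodule of relations -/
noncomputable def Nrel : Submodule (SpinCurv.PolyNodeRing R (p * q))
    (Fin (n + 1) → SpinCurv.PolyNodeRing R (p * q)) :=
  Submodule.span (SpinCurv.PolyNodeRing R (p * q))
    (Set.range (relU R p q n) ∪ Set.range (relV R p q n))

/-- the kernel of Θ as a submodule over the node ring -/
noncomputable def Zsub : Submodule (SpinCurv.PolyNodeRing R (p * q))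
    (Fin (n + 1) → SpinCurv.PolyNodeRing R (p * q)) where
  carrier := {F | ThetaL R p q rU rV n F = 0}
  zero_mem' := map_zero _
  add_mem' := by
    intro F G hF hG
    show ThetaL R p q rU rV n (F + G) = 0
    rw [map_add, hF, hG, add_zero]
  smul_mem' := by
    intro a F hF
    show ThetaL R p q rU rV n (a • F) = 0
    rw [ThetaL_smul, hF]
    simp

include hrUx hrVx in
theorem Theta_relU (i : Fin n) : ThetaL R p q rU rV n (relU R p q n i) = 0 := by
  unfold relU
  rw [map_sub, ThetaL_single, ThetaL_single, Prod.mk_sub_mk, Prod.mk_eq_zero]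
  have hi : (i : ℕ) < n := i.2
  constructor
  · rw [AlgHom.commutes, hrUx, Fin.val_castSucc, Fin.val_succ]
    have e : n - (i : ℕ) = (n - ((i : ℕ) + 1)) + 1 := by omega
    rw [e, pow_succ]
    ring
  · rw [AlgHom.commutes, hrVx, Fin.val_castSucc, Fin.val_succ, pow_succ, ← xy_eq R p]
    ring

include hrUy hrVy in
theorem Theta_relV (i : Fin n) : ThetaL R p q rU rV n (relV R p q n i) = 0 := by
  unfold relV
  rw [map_sub, ThetaL_single, ThetaL_single, Prod.mk_sub_mk, Prod.mk_eq_zero]
  have hi : (i : ℕ) < n := i.2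
  constructor
  · rw [AlgHom.commutes, hrUy, Fin.val_castSucc, Fin.val_succ]
    have e : n - (i : ℕ) = (n - ((i : ℕ) + 1)) + 1 := by omega
    rw [e, pow_succ, ← xy_eq R q]
    ring
  · rw [AlgHom.commutes, hrVy, Fin.val_castSucc, Fin.val_succ, pow_succ]
    ring

include hrUx hrUy hrVx hrVy in
theorem Nrel_le : Nrel R p q n ≤ Zsub R p q rU rV n := by
  unfold Nrel
  rw [Submodule.span_le]
  rintro F (⟨i, rfl⟩ | ⟨i, rfl⟩)
  · exact Theta_relU R p q rU hrUx rV hrVx n i
  · exact Theta_relV R p q rU hrUy rV hrVy n i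

/-- the `R`-submodule `N + span B` -/
noncomputable def Ssub : Submodule R (Fin (n + 1) → SpinCurv.PolyNodeRing R (p * q)) :=
  (Nrel R p q n).restrictScalars R ⊔ LinearMap.range (Bsum R p q n)

theorem Bvec_mem (k : ℤ) : Bvec R p q n k ∈ Ssub R p q n := by
  apply Submodule.mem_sup_right
  refine ⟨Finsupp.single k 1, ?_⟩
  rw [Bsum, Finsupp.linearCombination_single, one_smul]

theorem N_mem {F : Fin (n + 1) → SpinCurv.PolyNodeRing R (p * q)} (hF : F ∈ Nrel R p q n) :
    F ∈ Ssub R p q n :=
  Submodule.mem_sup_left hF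

theorem Bvec_mid (i : Fin (n + 1)) : Bvec R p q n ((n : ℤ) - (i : ℕ)) = Pi.single i 1 := by
  have hi : (i : ℕ) ≤ n := Nat.lt_succ_iff.1 i.2
  unfold Bvec
  rw [if_neg (by omega), if_pos (by omega)]
  congr 1
  apply Fin.ext
  show n - ((n : ℤ) - (i : ℕ)).toNat = (i : ℕ)
  omega

theorem Bvec_hi (a : ℕ) (ha : 1 ≤ a) :
    Bvec R p q n ((n : ℤ) + a) = Pi.single 0 (SpinCurv.PolyNodeRing.x R (p * q) ^ a) := by
  unfold Bvec
  rw [if_neg (by omega), if_neg (by omega)]
  have : ((n : ℤ) + a - n).toNat = a := by omega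
  rw [this]

theorem Bvec_lo (b : ℕ) (hb : 1 ≤ b) :
    Bvec R p q n (-(b : ℤ)) = Pi.single (Fin.last n) (SpinCurv.PolyNodeRing.y R (p * q) ^ b) := by
  unfold Bvec
  rw [if_pos (by omega)]
  have : (-(-(b : ℤ))).toNat = b := by omega
  rw [this]

theorem stepX (j : Fin n) (a : ℕ) :
    (Pi.single (Fin.succ j) (SpinCurv.PolyNodeRing.x R (p * q) ^ (a + 1)) :
      Fin (n + 1) → SpinCurv.PolyNodeRing R (p * q)) =
      p • (Pi.single (Fin.castSucc j) (SpinCurv.PolyNodeRing.x R (p * q) ^ a) :
        Fin (n + 1) → SpinCurv.PolyNodeRing R (p * q)) -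
        SpinCurv.PolyNodeRing.x R (p * q) ^ a • relU R p q n j := by
  unfold relU
  rw [smul_sub, ← Pi.single_smul, ← Pi.single_smul, ← Pi.single_smul, smul_eq_mul, smul_eq_mul,
    smul_def' R (p * q), mul_comm (algebraMap R (SpinCurv.PolyNodeRing R (p * q)) p), ← pow_succ]
  abel

theorem stepY (j : Fin n) (b : ℕ) :
    (Pi.single (Fin.castSucc j) (SpinCurv.PolyNodeRing.y R (p * q) ^ (b + 1)) :
      Fin (n + 1) → SpinCurv.PolyNodeRing R (p * q)) =
      q • (Pi.single (Fin.succ j) (SpinCurv.PolyNodeRing.y R (p * q) ^ b) :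
        Fin (n + 1) → SpinCurv.PolyNodeRing R (p * q)) +
        SpinCurv.PolyNodeRing.y R (p * q) ^ b • relV R p q n j := by
  unfold relV
  rw [smul_sub, ← Pi.single_smul, ← Pi.single_smul, ← Pi.single_smul, smul_eq_mul, smul_eq_mul,
    smul_def' R (p * q), mul_comm (algebraMap R (SpinCurv.PolyNodeRing R (p * q)) q), ← pow_succ]
  abel

theorem single_one_mem (i : Fin (n + 1)) :
    (Pi.single i 1 : Fin (n + 1) → SpinCurv.PolyNodeRing R (p * q)) ∈ Ssub R p q n := by
  rw [← Bvec_mid R p q n i]; exact Bvec_mem R p q n _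

theorem cX (i : Fin (n + 1)) : ∀ a : ℕ,
    (Pi.single i (SpinCurv.PolyNodeRing.x R (p * q) ^ a) :
      Fin (n + 1) → SpinCurv.PolyNodeRing R (p * q)) ∈ Ssub R p q n := by
  induction i using Fin.induction with
  | zero =>
    intro a
    rcases Nat.eq_zero_or_pos a with rfl | ha
    · rw [pow_zero]; exact single_one_mem R p q n 0
    · rw [← Bvec_hi R p q n a ha]; exact Bvec_mem R p q n _
  | succ j ih =>
    intro a
    rcases Nat.eq_zero_or_pos a with rfl | ha
    · rw [pow_zero]; exact single_one_mem R p q n _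
    · obtain ⟨a', rfl⟩ : ∃ a', a = a' + 1 := ⟨a - 1, by omega⟩
      rw [stepX]
      apply Submodule.sub_mem
      · exact Submodule.smul_mem _ _ (ih a')
      · apply N_mem
        apply Submodule.smul_mem
        exact Submodule.subset_span (Or.inl ⟨j, rfl⟩)

theorem cY (i : Fin (n + 1)) : ∀ b : ℕ,
    (Pi.single i (SpinCurv.PolyNodeRing.y R (p * q) ^ b) :
      Fin (n + 1) → SpinCurv.PolyNodeRing R (p * q)) ∈ Ssub R p q n := by
  induction i using Fin.reverseInduction with
  | last =>
    intro b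
    rcases Nat.eq_zero_or_pos b with rfl | hb
    · rw [pow_zero]; exact single_one_mem R p q n _
    · rw [← Bvec_lo R p q n b hb]; exact Bvec_mem R p q n _
  | cast j ih =>
    intro b
    rcases Nat.eq_zero_or_pos b with rfl | hb
    · rw [pow_zero]; exact single_one_mem R p q n _
    · obtain ⟨b', rfl⟩ : ∃ b', b = b' + 1 := ⟨b - 1, by omega⟩
      rw [stepY]
      apply Submodule.add_mem
      · exact Submodule.smul_mem _ _ (ih b')
      · apply N_mem
        apply Submodule.smul_mem
        exact Submodule.subset_span (Or.inr ⟨j, rfl⟩)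

theorem single_mem (i : Fin (n + 1)) (z : SpinCurv.PolyNodeRing R (p * q)) :
    (Pi.single i z : Fin (n + 1) → SpinCurv.PolyNodeRing R (p * q)) ∈ Ssub R p q n := by
  obtain ⟨G, rfl⟩ := (nodeEquiv R (p * q)).surjective z
  induction G using Finsupp.induction_linear with
  | zero => rw [map_zero, Pi.single_zero]; exact Submodule.zero_mem _
  | add f g hf hg => rw [map_add, Pi.single_add]; exact Submodule.add_mem _ hf hg
  | single k r =>
    rw [nodeEquiv_single, Pi.single_smul]
    apply Submodule.smul_mem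
    split_ifs
    · exact cX R p q n i _
    · exact cY R p q n i _

theorem all_mem (F : Fin (n + 1) → SpinCurv.PolyNodeRing R (p * q)) : F ∈ Ssub R p q n := by
  rw [← Finset.univ_sum_single F]
  exact Submodule.sum_mem _ (fun i _ => single_mem R p q n i (F i))

include hrUx hrUy hrVx hrVy in
theorem goal2 :
    {F : Fin (n + 1) → SpinCurv.PolyNodeRing R (p * q) |
        (∑ i : Fin (n + 1), rU (F i) * SpinCurv.PolyNodeRing.x R q ^ (n - (i : ℕ)),
         ∑ i : Fin (n + 1), rV (F i) * SpinCurv.PolyNodeRing.x R p ^ (i : ℕ)) = 0} =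
      (Nrel R p q n : Set (Fin (n + 1) → SpinCurv.PolyNodeRing R (p * q))) := by
  apply Set.eq_of_subset_of_subset
  · intro F hF
    have hF' : ThetaL R p q rU rV n F = 0 := hF
    obtain ⟨F₁, hF₁, F₂, ⟨c, rfl⟩, rfl⟩ := Submodule.mem_sup.1 (all_mem R p q n F)
    have h1 : ThetaL R p q rU rV n F₁ = 0 := Nrel_le R p q rU hrUx hrUy rV hrVx hrVy n hF₁
    rw [map_add, h1, zero_add, Theta_Bsum R p q rU hrUx hrUy rV hrVx hrVy n c] at hF'
    have hc : c = 0 := by
      apply Psi_injective R p q (n : ℤ)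
      rw [hF', map_zero]
    rw [hc, map_zero, add_zero]
    exact hF₁
  · intro F hF
    exact Nrel_le R p q rU hrUx hrUy rV hrVx hrVy n hF

end


/-- Let R be a commutative ring and p, q ∈ R; put A = R[x, y]/(xy - pq) and consider the two affine
charts U = Spec R[s, y]/(sy - q) and V = Spec R[t, x]/(xt - p) of the curve obtained from Spec A by
blowing up as in the (p, q)-construction, glued along R[s, s⁻¹] by t = s⁻¹ (so y = q s⁻¹ on U and x
= p s on V), with the projection to Spec A given by x ↦ p s, y ↦ y on U and x ↦ x, y ↦ q t on V. For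
n ≥ 0 the twisting sheaf O(n) is vⁿ O on U and ξⁿ O on V with ξ = s v, so its global sections are
the pairs (g, f) of functions on U and V with g = sⁿ f on U ∩ V. Then the map A^{n+1} → O(U) × O(V)
sending (F_0, …, F_n), i.e. the section Σ F_i ξ^{n-i} v^i, to (Σ F_i|_U s^{n-i}, Σ F_i|_V t^i) has
image exactly the set of such pairs, and F is sent to zero exactly when it lies in the A-submodule
of A^{n+1} generated by the vectors p e_i - x e_{i+1} and y e_i - q e_{i+1} for 0 ≤ i < n (e_0, …,
e_n the standard basis). So the global sections of O(n) form the degree-n piece of A[ξ, v]/(p ξ - x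
v, q v - y ξ). For n = 0 this says that a ↦ (a|_U, a|_V) is injective on A with image the pairs of
functions that agree on U ∩ V, so that the functions on the blown-up curve are exactly the functions
on Spec A (the direct image of its structure sheaf is the structure sheaf of Spec A); for n = 1 it
presents the global sections of O(1) as A ξ ⊕ A v modulo the relations p ξ = x v and y ξ = q v. Here
R[s, y]/(sy - q) and R[t, x]/(xt - p) are both written as the quotient of the polynomial ring in two
variables by (first variable)·(second variable) - constant, the homomorphisms rU, rV are the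
restriction maps from A to the two charts and gU, gV the restriction maps from the charts to their
intersection R[s, s⁻¹] (Laurent polynomials), each pinned by its values on the two generators. (The
published setting has R complete local and p, q in the maximal ideal, and reduces to this polynomial
computation, which uses neither.) -/
theorem result (R : Type u) [CommRing R] (p q : R)
    (rU : SpinCurv.PolyNodeRing R (p * q) →ₐ[R] SpinCurv.PolyNodeRing R q)
    (hrUx : rU (SpinCurv.PolyNodeRing.x R (p * q)) = algebraMap R _ p * SpinCurv.PolyNodeRing.x R q)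
    (hrUy : rU (SpinCurv.PolyNodeRing.y R (p * q)) = SpinCurv.PolyNodeRing.y R q)
    (rV : SpinCurv.PolyNodeRing R (p * q) →ₐ[R] SpinCurv.PolyNodeRing R p)
    (hrVx : rV (SpinCurv.PolyNodeRing.x R (p * q)) = SpinCurv.PolyNodeRing.y R p)
    (hrVy : rV (SpinCurv.PolyNodeRing.y R (p * q)) = algebraMap R _ q * SpinCurv.PolyNodeRing.x R p)
    (gU : SpinCurv.PolyNodeRing R q →ₐ[R] LaurentPolynomial R)
    (hgUs : gU (SpinCurv.PolyNodeRing.x R q) = LaurentPolynomial.T 1)
    (hgUy : gU (SpinCurv.PolyNodeRing.y R q) = LaurentPolynomial.C q * LaurentPolynomial.T (-1))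
    (gV : SpinCurv.PolyNodeRing R p →ₐ[R] LaurentPolynomial R)
    (hgVt : gV (SpinCurv.PolyNodeRing.x R p) = LaurentPolynomial.T (-1))
    (hgVx : gV (SpinCurv.PolyNodeRing.y R p) = LaurentPolynomial.C p * LaurentPolynomial.T 1) (n : ℕ) :
    Set.range (fun F : Fin (n + 1) → SpinCurv.PolyNodeRing R (p * q) =>
        (∑ i : Fin (n + 1), rU (F i) * SpinCurv.PolyNodeRing.x R q ^ (n - (i : ℕ)),
         ∑ i : Fin (n + 1), rV (F i) * SpinCurv.PolyNodeRing.x R p ^ (i : ℕ))) =
      {gf : SpinCurv.PolyNodeRing R q × SpinCurv.PolyNodeRing R p |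
        gU gf.1 = LaurentPolynomial.T (n : ℤ) * gV gf.2} ∧
    {F : Fin (n + 1) → SpinCurv.PolyNodeRing R (p * q) |
        (∑ i : Fin (n + 1), rU (F i) * SpinCurv.PolyNodeRing.x R q ^ (n - (i : ℕ)),
         ∑ i : Fin (n + 1), rV (F i) * SpinCurv.PolyNodeRing.x R p ^ (i : ℕ)) = 0} =
      (Submodule.span (SpinCurv.PolyNodeRing R (p * q))
        (Set.range (fun i : Fin n =>
            (Pi.single (Fin.castSucc i) (algebraMap R (SpinCurv.PolyNodeRing R (p * q)) p) -
              Pi.single (Fin.succ i) (SpinCurv.PolyNodeRing.x R (p * q)) : Fin (n + 1) → SpinCurv.PolyNodeRing R (p * q))) ∪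
         Set.range (fun i : Fin n =>
            (Pi.single (Fin.castSucc i) (SpinCurv.PolyNodeRing.y R (p * q)) -
              Pi.single (Fin.succ i) (algebraMap R (SpinCurv.PolyNodeRing R (p * q)) q) : Fin (n + 1) → SpinCurv.PolyNodeRing R (p * q)))) :
        Set (Fin (n + 1) → SpinCurv.PolyNodeRing R (p * q))) := by
  exact ⟨goal1 R p q rU hrUx hrUy rV hrVx hrVy gU hgUs hgUy gV hgVt hgVx n,
    goal2 R p q rU hrUx hrUy rV hrVx hrVy n⟩


end Groth.Agent.S18437
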