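import Groth.Statements.S18445
import Mathlib
import Groth.Agent.LibObs29d
import Groth.Agent.Lib.Helper17.T1Core

set_option autoImplicit false
universe u
open CategoryTheory
open Deform

namespace Groth.Agent.S18445

open MvPowerSeries Groth.Agent.LibPS29 Groth.Agent.LibCR29 Groth.Agent.LibObs29 Groth.Agent.Lib.helper17.T1Core
open ArtFun IsLocalRing

section lift

variable {k : Type u} [Field k]

/-- a `k`-algebra map from a power series ring to an Artinian local algebra with residue field `k` sends the variables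
into the maximal ideal. -/
lemma map_X_mem {n : ℕ} (A : Art k k) (g : MvPowerSeries (Fin n) k →ₐ[k] A) (i : Fin n) :
    g (X i) ∈ maximalIdeal A := by
  rw [Art.mem_maximalIdeal_iff]
  by_contra hc
  set c : k := A.res (g (X i)) with hcdef
  have hu : IsUnit ((X i : MvPowerSeries (Fin n) k) - C c) := by
    rw [MvPowerSeries.isUnit_iff_constantCoeff, map_sub, constantCoeff_X, constantCoeff_C, zero_sub]
    exact (Ne.isUnit hc).neg
  have hu2 : IsUnit (A.res (g ((X i : MvPowerSeries (Fin n) k) - C c))) := (hu.map g).map A.res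
  have h0 : A.res (g ((X i : MvPowerSeries (Fin n) k) - C c)) = 0 := by
    have hC : (C c : MvPowerSeries (Fin n) k) = algebraMap k _ c := rfl
    rw [map_sub, map_sub, hC, AlgHom.commutes, AlgHom.commutes, ← hcdef]
    exact sub_self _
  rw [h0] at hu2
  exact not_isUnit_zero hu2

lemma exists_pow_eq_zero (A : Art k k) : ∃ N : ℕ, 1 ≤ N ∧ ∀ a ∈ maximalIdeal A, a ^ N = 0 := by
  obtain ⟨N, hN⟩ := (isArtinianRing_iff_isNilpotent_maximalIdeal (R := A)).1 inferInstance
  refine ⟨N + 1, by omega, fun a ha => ?_⟩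
  have := Ideal.pow_mem_pow ha N
  rw [hN] at this
  rw [pow_succ, this, zero_mul]

theorem lift_ps {n : ℕ} (A : Art k k) (M M' : Type u) [AddCommGroup M] [Module (↥A) M] [Module (↥A)ᵐᵒᵖ M]
    [IsCentralScalar (↥A) M] [Module k M] [IsScalarTower k (↥A) M] [IsScalarTower k (↥A)ᵐᵒᵖ M]
    [AddCommGroup M'] [Module (↥A) M'] [Module (↥A)ᵐᵒᵖ M'] [IsCentralScalar (↥A) M'] [Module k M']
    [IsScalarTower k (↥A) M'] [IsScalarTower k (↥A)ᵐᵒᵖ M'] (f : M' →ₗ[↥A] M)
    (hf : Function.Surjective f)
    (φ : MvPowerSeries (Fin n) k →ₐ[k] TrivSqZeroExt (↥A) M) :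
    ∃ ψ : MvPowerSeries (Fin n) k →ₐ[k] TrivSqZeroExt (↥A) M',
      ∀ r, (ψ r).fst = (φ r).fst ∧ f (ψ r).snd = (φ r).snd := by
  obtain ⟨N, hN1, hN⟩ := exists_pow_eq_zero A
  have hfst : ∀ i, (φ (X i)).fst ∈ maximalIdeal A := fun i =>
    map_X_mem A ((TrivSqZeroExt.fstHom k (↥A) M).comp φ) i
  choose m' hm' using fun i : Fin n => hf (φ (X i)).snd
  have hz' : ∀ i, ((TrivSqZeroExt.inl (φ (X i)).fst + TrivSqZeroExt.inr (m' i) : TrivSqZeroExt (↥A) M')) ^ (N + 1) = 0 := by
    intro i
    apply TrivSqZeroExt.ext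
    · rw [TrivSqZeroExt.fst_pow, TrivSqZeroExt.fst_add, TrivSqZeroExt.fst_inl, TrivSqZeroExt.fst_inr, add_zero,
        pow_succ, hN _ (hfst i), zero_mul, TrivSqZeroExt.fst_zero]
    · rw [TrivSqZeroExt.snd_pow, TrivSqZeroExt.fst_add, TrivSqZeroExt.fst_inl, TrivSqZeroExt.fst_inr, add_zero,
        Nat.pred_succ, hN _ (hfst i), zero_smul, smul_zero, TrivSqZeroExt.snd_zero]
  have hz : ∀ i, (φ (X i)) ^ (N + 1) = 0 := by
    intro i
    apply TrivSqZeroExt.ext
    · rw [TrivSqZeroExt.fst_pow, pow_succ, hN _ (hfst i), zero_mul, TrivSqZeroExt.fst_zero]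
    · rw [TrivSqZeroExt.snd_pow, Nat.pred_succ, hN _ (hfst i), zero_smul, smul_zero, TrivSqZeroExt.snd_zero]
  let ψ := ev (A := k) (fun i => (TrivSqZeroExt.inl (φ (X i)).fst + TrivSqZeroExt.inr (m' i) : TrivSqZeroExt (↥A) M')) N hz'
  refine ⟨ψ, ?_⟩
  have h1 : φ = ev (A := k) (fun i => φ (X i)) N hz := algHom_eq_ev _ N hz φ (fun i => rfl)
  have h2 : ((TrivSqZeroExt.map f).restrictScalars k).comp ψ = ev (A := k) (fun i => φ (X i)) N hz := by
    apply algHom_eq_ev
    intro i
    change (TrivSqZeroExt.map f) (ψ (X i)) = φ (X i)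
    rw [ev_X _ N hN1 hz' i]
    apply TrivSqZeroExt.ext
    · rw [TrivSqZeroExt.fst_map, TrivSqZeroExt.fst_add, TrivSqZeroExt.fst_inl, TrivSqZeroExt.fst_inr, add_zero]
    · rw [TrivSqZeroExt.snd_map, TrivSqZeroExt.snd_add, TrivSqZeroExt.snd_inl, TrivSqZeroExt.snd_inr, zero_add, hm']
  intro r
  have h3 : ((TrivSqZeroExt.map f).restrictScalars k).comp ψ = φ := h2.trans h1.symm
  have h4 : (TrivSqZeroExt.map f) (ψ r) = φ r :=
    congrArg (fun g : MvPowerSeries (Fin n) k →ₐ[k] TrivSqZeroExt (↥A) M => g r) h3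
  rw [← h4, TrivSqZeroExt.fst_map, TrivSqZeroExt.snd_map]
  exact ⟨rfl, rfl⟩

end lift

section count

variable {k : Type u} [Field k]

theorem finrank_cotangent_eq (R : CRing k k) (n : ℕ)
    (e₀ : MvPowerSeries (Fin n) k ≃ₐ[k] R.carrier) :
    Module.finrank (ResidueField R.carrier) (CotangentSpace R.carrier) = n := by
  classical
  rw [← IsLocalRing.spanFinrank_maximalIdeal_eq_finrank_cotangentSpace]
  apply le_antisymm
  · have h1 : maximalIdeal R.carrier = Ideal.span (Set.range (fun i : Fin n => e₀ (X i))) := by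
      rw [← IsLocalRing.map_maximalIdeal_of_surjective e₀.toRingEquiv.toRingHom e₀.surjective,
        maximalIdeal_ps, IsLocalRing.maximalIdeal_eq_bot, Ideal.map_bot, bot_sup_eq, Ideal.map_span,
        ← Set.range_comp]
      rfl
    rw [h1]
    refine (Submodule.spanFinrank_span_le_ncard_of_finite (Set.finite_range _)).trans ?_
    have : Set.range (fun i : Fin n => e₀ (X i)) =
        ((Finset.univ.image (fun i : Fin n => e₀ (X i)) : Finset R.carrier) : Set R.carrier) := by simp
    rw [this, Set.ncard_coe_finset]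
    exact Finset.card_image_le.trans (by simp)
  · have h1 : (n : WithBot ℕ∞) ≤ ringKrullDim R.carrier := by
      rw [← ringKrullDim_eq_of_ringEquiv e₀.toRingEquiv]
      exact le_ringKrullDim_mvPowerSeries k n
    have h2 := ringKrullDim_le_spanFinrank_maximalIdeal R.carrier
    exact_mod_cast h1.trans h2

end count

/-- Let k be a field of characteristic zero and R a complete local Noetherian k-algebra with residue
field k, with n the dimension of its cotangent space m_R/m_R². Then R is isomorphic as a k-algebra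
to the power series ring k[[x_1, …, x_n]] if and only if for every local Artinian k-algebra A with
residue field k, all A-modules M and M' and every surjective A-linear map f : M' → M, every
k-algebra homomorphism R → A ⊕ M into the trivial square-zero extension is the composite of some
k-algebra homomorphism R → A ⊕ M' with the map A ⊕ M' → A ⊕ M induced by f. (The modules are taken
in the universe of k, with the A-action on both sides equal; in positive characteristic the
criterion fails, e.g. for k[x]/(x^p).) -/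
theorem result
    {k : Type u} [Field k] [CharZero k] (R : ArtFun.CRing k k) :
    Nonempty (R.carrier ≃ₐ[k] MvPowerSeries
        (Fin (Module.finrank (IsLocalRing.ResidueField R.carrier) (IsLocalRing.CotangentSpace R.carrier))) k) ↔
      ∀ (A : ArtFun.Art k k) (M M' : Type u) [AddCommGroup M] [Module (↥A) M] [Module (↥A)ᵐᵒᵖ M]
        [IsCentralScalar (↥A) M] [Module k M] [IsScalarTower k (↥A) M] [IsScalarTower k (↥A)ᵐᵒᵖ M]
        [AddCommGroup M'] [Module (↥A) M'] [Module (↥A)ᵐᵒᵖ M'] [IsCentralScalar (↥A) M'] [Module k M']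
        [IsScalarTower k (↥A) M'] [IsScalarTower k (↥A)ᵐᵒᵖ M'] (f : M' →ₗ[↥A] M),
        Function.Surjective f →
          ∀ φ : R.carrier →ₐ[k] TrivSqZeroExt (↥A) M,
            ∃ ψ : R.carrier →ₐ[k] TrivSqZeroExt (↥A) M',
              ∀ r : R.carrier, (ψ r).fst = (φ r).fst ∧ f (ψ r).snd = (φ r).snd := by
  constructor
  · rintro ⟨e⟩ A M M' _ _ _ _ _ _ _ _ _ _ _ _ _ _ f hf φ
    obtain ⟨ψ', hψ'⟩ := lift_ps A M M' f hf (φ.comp e.symm.toAlgHom)
    refine ⟨ψ'.comp e.toAlgHom, fun r => ?_⟩
    have h1 := hψ' (e r)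
    have h2 : (φ.comp e.symm.toAlgHom) (e r) = φ r := by
      change φ (e.symm (e r)) = φ r
      rw [AlgEquiv.symm_apply_apply]
    rw [h2] at h1
    exact h1
  · intro h
    obtain ⟨n, φ₀, hsurj, hker⟩ := exists_ps_presentation R
    have hbot : RingHom.ker φ₀ = ⊥ := by
      apply ker_eq_bot φ₀ hker
      intro e he hIe
      let P := psCRing (kCRing k) n
      let K : Ideal P.carrier := (show Ideal (MvPowerSeries (Fin n) k) from F k n e)
      have hK1 : K ≤ maximalIdeal P.carrier := F_le_maximalIdeal (k := k) (d := n) (e := e) (by omega)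
      have hK2 : maximalIdeal P.carrier ^ e ≤ K := maximalIdeal_pow_le_F (k := k) (d := n) e
      let Ae : Art k k := artQuot P K hK1 e hK2
      let q : MvPowerSeries (Fin n) k →ₐ[k] Ae := Ideal.Quotient.mkₐ k (F k n e)
      have hq : RingHom.ker q = F k n e := Ideal.Quotient.mkₐ_ker k (F k n e)
      apply step φ₀ hsurj q e (by omega) hq hker hIe
      intro U φ
      exact h Ae (↥Ae ⧸ U) (↥Ae) U.mkQ (Submodule.mkQ_surjective U) φ
    have hbij : Function.Bijective φ₀ :=
      ⟨(RingHom.injective_iff_ker_eq_bot φ₀.toRingHom).2 hbot, hsurj⟩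
    let e₀ := AlgEquiv.ofBijective φ₀ hbij
    have hn := finrank_cotangent_eq R n e₀
    rw [hn]
    exact ⟨e₀.symm⟩

end Groth.Agent.S18445
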