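import Groth.Statements.S18451
import Groth.Agent.Lib.Helper7.SurfCurvesB
import Groth.Agent.Lib.Helper7.SurfNegDefA

set_option autoImplicit false
universe u
open CategoryTheory CategoryTheory.Limits AlgebraicGeometry TopologicalSpace
open Surf

namespace Groth.Agent.S18451

/-- Let k be an algebraically closed field of characteristic zero and X a smooth projective surface over
k (integral, proper and smooth over k, of dimension 2, carrying an ample invertible module). Let
C_1, …, C_r be pairwise distinct integral curves on X (integral closed one-dimensional subschemes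
with ideal sheaves I_1, …, I_r) and write G_{ij} = (I_i·I_j) = χ(O_X) − χ(I_i) − χ(I_j) + χ(I_i ⊗
I_j) for their intersection matrix. Suppose the classes of the C_i span a negative definite
sublattice modulo numerical equivalence: for every integer vector a such that Σ_i a_i [C_i] is
numerically nontrivial, meaning that Σ_i a_i (I_i·M) ≠ 0 for some invertible O_X-module M, one has
Σ_{i,j} a_i a_j G_{ij} < 0. Then the classes are linearly independent, i.e. G itself is negative
definite: Σ_{i,j} a_i a_j G_{ij} < 0 for every nonzero integer vector a. -/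
theorem result (k : Type u) [Field k] [IsAlgClosed k] [CharZero k]
    (X : Scheme.{u}) [X.Over (Spec (CommRingCat.of k))] [IsProper (X ↘ (Spec (CommRingCat.of k)))]
    [Smooth (X ↘ (Spec (CommRingCat.of k)))] [IsIntegral X] (hdim : topologicalKrullDim X = 2)
    (hproj : ∃ H : X.Modules, CohB1.IsAmple H)
    (r : ℕ) (C : Fin r → X.IdealSheafData) (hC : Function.Injective C)
    (hCi : ∀ i, IsIntegral (C i).subscheme) (hCd : ∀ i, topologicalKrullDim ((C i).support : Set X) = 1)
    (hneg : ∀ a : Fin r → ℤ,
      (∃ M : X.Modules, PicF.IsInvertible M ∧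
        ∑ i, a i * FGA.intNum k X 2 ![(ClSub.idealMod (C i)), M] (Coh.structureModule X) ≠ 0) →
      ∑ i, ∑ j, a i * a j * FGA.intNum k X 2 ![(ClSub.idealMod (C i)), (ClSub.idealMod (C j))] (Coh.structureModule X) < 0) :
    ∀ a : Fin r → ℤ, a ≠ 0 →
      ∑ i, ∑ j, a i * a j * FGA.intNum k X 2 ![(ClSub.idealMod (C i)), (ClSub.idealMod (C j))] (Coh.structureModule X) < 0 := by
  intro a ha
  obtain ⟨H, hH⟩ := hproj
  have hd : topologicalKrullDim X ≤ ((2 : ℕ) : WithBot ℕ∞) := by rw [hdim]; rfl
  have hinv : ∀ i, PicF.IsInvertible (ClSub.idealMod (C i)) := fun i =>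
    Groth.Agent.Lib.helper7.SurfCartier.isInvertible_idealMod_of_curve k X hdim (C i) (hCi i) (hCd i)
  apply hneg a
  by_contra hcon
  apply ha
  have hcon' : ∀ M : X.Modules, PicF.IsInvertible M →
      ∑ i, a i * FGA.intNum k X 2 ![(ClSub.idealMod (C i)), M] (Coh.structureModule X) = 0 := by
    intro M hM
    by_contra h
    exact hcon ⟨M, hM, h⟩
  refine Groth.Agent.Lib.helper7.SurfNegDef.eq_zero_of_orth
    (fun i j => FGA.intNum k X 2 ![(ClSub.idealMod (C i)), (ClSub.idealMod (C j))]
      (Coh.structureModule X))
    (fun i j hij => Groth.Agent.Lib.helper7.SurfCurves.intNum_idealMod_nonneg k X hdim (hCi i)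
      (hCi j) (hCd i) (hCd j) (fun h => hij (hC h)))
    (fun i => FGA.intNum k X 2 ![(ClSub.idealMod (C i)), H] (Coh.structureModule X))
    (fun i => Groth.Agent.Lib.helper7.SurfCurves.intNum_idealMod_ample_neg k X hd hH (C i) (hCi i)
      (hCd i) (hinv i))
    (fun a' h => hneg a' ⟨H, hH.1, h⟩) a (fun j => hcon' _ (hinv j))

end Groth.Agent.S18451
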