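import Groth.Statements.S18457
import Mathlib
-- import your own Groth.Agent.* helpers here

set_option autoImplicit false
open Finset
open Surf

namespace Groth.Agent.S18457

/-- In the Picard lattice of the plane blown up at n ≤ 8 points, with basis h, e_1, …, e_n, form h² = 1,
e_i² = −1, all other products 0, and anticanonical class D = 3h − Σ e_i, let d·h − Σ a_i e_i be a
class with all a_i ≥ 0 (the class of the strict transform of a degree-d plane curve having
multiplicity a_i at the i-th point) which is a (−2)-class orthogonal to D, that is d² − Σ a_i² = −2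
and 3d = Σ a_i. Then one of the following holds: d = 1 and every a_i is 0 or 1 with exactly three
equal to 1; d = 2 and every a_i is 0 or 1 with exactly six equal to 1; d = 3, n = 8, and one a_i
equals 2 while the remaining seven equal 1. The published statement is geometric: under the
general-position hypotheses on the points, no smooth rational curve on the blown-up plane is
orthogonal to D; this row is the lattice enumeration its proof carries out (a line through three of
the points, a conic through six, a cubic through all eight and singular at one). -/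
theorem result (n : ℕ) (hn : n ≤ 8)
    (d : ℤ) (a : Fin n → ℤ) (ha : ∀ i, 0 ≤ a i)
    (hsq : d ^ 2 - ∑ i, (a i) ^ 2 = -2) (hK : 3 * d = ∑ i, a i) :
    (d = 1 ∧ (∀ i, a i = 0 ∨ a i = 1) ∧ (Finset.univ.filter (fun i => a i = 1)).card = 3) ∨
      (d = 2 ∧ (∀ i, a i = 0 ∨ a i = 1) ∧ (Finset.univ.filter (fun i => a i = 1)).card = 6) ∨
      (d = 3 ∧ n = 8 ∧ ∃ j, a j = 2 ∧ ∀ i, i ≠ j → a i = 1) := by
  classical
  -- basic quantities
  have hd0 : 0 ≤ d := by
    have : 0 ≤ ∑ i, a i := Finset.sum_nonneg (fun i _ => ha i)
    linarith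
  have hcard : (Finset.univ : Finset (Fin n)).card = n := by simp
  -- Cauchy–Schwarz bound
  have hCS : (∑ i, a i) ^ 2 ≤ (n : ℤ) * ∑ i, (a i) ^ 2 := by
    have := sq_sum_le_card_mul_sum_sq (s := (Finset.univ : Finset (Fin n))) (f := a)
    rw [hcard] at this
    exact_mod_cast this
  have hn' : (n : ℤ) ≤ 8 := by exact_mod_cast hn
  have hs2 : ∑ i, (a i) ^ 2 = d ^ 2 + 2 := by linarith
  have hs2nn : 0 ≤ ∑ i, (a i) ^ 2 := Finset.sum_nonneg (fun i _ => sq_nonneg _)
  have hd4 : d ≤ 4 := by
    rw [← hK, hs2] at hCS
    nlinarith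
  -- the key sum
  have hkey : ∑ i, a i * (a i - 1) = (d - 1) * (d - 2) := by
    have : ∑ i, a i * (a i - 1) = ∑ i, (a i) ^ 2 - ∑ i, a i := by
      rw [← Finset.sum_sub_distrib]
      apply Finset.sum_congr rfl
      intro i _; ring
    rw [this, hs2, ← hK]; ring
  have hterm : ∀ i, 0 ≤ a i * (a i - 1) := by
    intro i
    have := ha i
    by_cases h0 : a i = 0
    · simp [h0]
    · have : 1 ≤ a i := by omega
      exact mul_nonneg (ha i) (by linarith)
  have h01 : ∀ i, a i * (a i - 1) = 0 → a i = 0 ∨ a i = 1 := by
    intro i hi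
    rcases mul_eq_zero.mp hi with h | h
    · exact Or.inl h
    · exact Or.inr (by linarith)
  -- counting lemma: if all a i ∈ {0,1} then the number of ones is the sum
  have hcount : (∀ i, a i = 0 ∨ a i = 1) →
      ((Finset.univ.filter (fun i => a i = 1)).card : ℤ) = ∑ i, a i := by
    intro h
    rw [Finset.card_filter]
    push_cast
    apply Finset.sum_congr rfl
    intro i _
    rcases h i with h0 | h1
    · simp [h0]
    · simp [h1]
  interval_cases d
  · -- d = 0
    exfalso
    have hall : ∀ i, a i = 0 := by
      intro i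
      have := (Finset.sum_eq_zero_iff_of_nonneg (fun i _ => ha i)).mp (by linarith : ∑ i, a i = 0) i
        (Finset.mem_univ i)
      exact this
    have : ∑ i, (a i) ^ 2 = 0 := by simp [hall]
    linarith
  · -- d = 1
    left
    have hz : ∑ i, a i * (a i - 1) = 0 := by rw [hkey]; norm_num
    have h := fun i => h01 i ((Finset.sum_eq_zero_iff_of_nonneg (fun i _ => hterm i)).mp hz i
      (Finset.mem_univ i))
    refine ⟨rfl, h, ?_⟩
    have := hcount h
    rw [← hK] at this
    exact_mod_cast this
  · -- d = 2
    right; left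
    have hz : ∑ i, a i * (a i - 1) = 0 := by rw [hkey]; norm_num
    have h := fun i => h01 i ((Finset.sum_eq_zero_iff_of_nonneg (fun i _ => hterm i)).mp hz i
      (Finset.mem_univ i))
    refine ⟨rfl, h, ?_⟩
    have := hcount h
    rw [← hK] at this
    exact_mod_cast this
  · -- d = 3
    right; right
    have hz : ∑ i, a i * (a i - 1) = 2 := by rw [hkey]; norm_num
    -- some term is positive
    obtain ⟨j, -, hj⟩ : ∃ j ∈ (Finset.univ : Finset (Fin n)), 0 < a j * (a j - 1) := by
      by_contra hcon
      push Not at hcon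
      have : ∑ i, a i * (a i - 1) ≤ 0 := Finset.sum_nonpos (fun i hi => hcon i hi)
      linarith
    have hsplit : ∑ i, a i * (a i - 1) =
        a j * (a j - 1) + ∑ i ∈ Finset.univ.erase j, a i * (a i - 1) :=
      (Finset.add_sum_erase _ (fun i => a i * (a i - 1)) (Finset.mem_univ j)).symm
    have hrest_nn : 0 ≤ ∑ i ∈ Finset.univ.erase j, a i * (a i - 1) :=
      Finset.sum_nonneg (fun i _ => hterm i)
    have haj2 : a j = 2 := by
      have h1 : a j * (a j - 1) ≤ 2 := by linarith
      have h2 : 2 ≤ a j := by
        by_contra hlt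
        push Not at hlt
        have := ha j
        interval_cases (a j) <;> simp at hj
      nlinarith
    have hrest0 : ∑ i ∈ Finset.univ.erase j, a i * (a i - 1) = 0 := by
      rw [haj2] at hsplit; linarith
    have hothers : ∀ i, i ≠ j → a i = 0 ∨ a i = 1 := by
      intro i hij
      apply h01
      exact (Finset.sum_eq_zero_iff_of_nonneg (fun i _ => hterm i)).mp hrest0 i
        (Finset.mem_erase.mpr ⟨hij, Finset.mem_univ i⟩)
    -- the sum of the others is 7
    have hsum_split : ∑ i, a i = a j + ∑ i ∈ Finset.univ.erase j, a i :=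
      (Finset.add_sum_erase _ a (Finset.mem_univ j)).symm
    have hsum7 : ∑ i ∈ Finset.univ.erase j, a i = 7 := by
      rw [haj2] at hsum_split; linarith
    have hcard_erase : ((Finset.univ.erase j : Finset (Fin n)).card : ℤ) = n - 1 := by
      rw [Finset.card_erase_of_mem (Finset.mem_univ j), hcard]
      have : 1 ≤ n := Nat.one_le_iff_ne_zero.mpr (by
        rintro rfl; exact Fin.elim0 j)
      push_cast [Nat.cast_sub this]; ring
    have hdef : ∑ i ∈ Finset.univ.erase j, (1 - a i) = (n : ℤ) - 1 - 7 := by
      rw [Finset.sum_sub_distrib, hsum7, Finset.sum_const, nsmul_eq_mul, mul_one, hcard_erase]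
    have hdef_nn : ∀ i ∈ Finset.univ.erase j, 0 ≤ 1 - a i := by
      intro i hi
      rcases hothers i (Finset.ne_of_mem_erase hi) with h | h <;> simp [h]
    have hdef_sum_nn : 0 ≤ ∑ i ∈ Finset.univ.erase j, (1 - a i) := Finset.sum_nonneg hdef_nn
    have hn8 : n = 8 := by
      have : (8 : ℤ) ≤ n := by linarith
      omega
    have hdef0 : ∑ i ∈ Finset.univ.erase j, (1 - a i) = 0 := by
      rw [hdef, hn8]; norm_num
    refine ⟨rfl, hn8, j, haj2, ?_⟩
    intro i hij
    have := (Finset.sum_eq_zero_iff_of_nonneg hdef_nn).mp hdef0 i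
      (Finset.mem_erase.mpr ⟨hij, Finset.mem_univ i⟩)
    linarith
  · -- d = 4
    exfalso
    have hsq_sum : ∑ i, (2 * a i - 3) ^ 2 = 4 * ∑ i, (a i) ^ 2 - 12 * ∑ i, a i + 9 * n := by
      have : ∀ i, (2 * a i - 3) ^ 2 = 4 * (a i) ^ 2 - 12 * a i + 9 := fun i => by ring
      simp only [this, Finset.sum_add_distrib, Finset.sum_sub_distrib, ← Finset.mul_sum]
      simp [mul_comm]
    have hge : (n : ℤ) ≤ ∑ i, (2 * a i - 3) ^ 2 := by
      have h1 : ∀ i ∈ (Finset.univ : Finset (Fin n)), (1 : ℤ) ≤ (2 * a i - 3) ^ 2 := by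
        intro i _
        have : (2 * a i - 3) ≠ 0 := by omega
        have := sq_pos_of_ne_zero this
        linarith
      have := Finset.card_nsmul_le_sum _ _ _ h1
      simpa using this
    rw [hsq_sum, hs2, ← hK] at hge
    norm_num at hge
    linarith

end Groth.Agent.S18457
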