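import Groth.Statements.S18462
import Groth.Agent.Lib.Helper7.SurfCurvesC
import Groth.Agent.Lib.Helper7.SurfNegDefD
import Groth.Agent.Lib.Helper7.IdealCartier

set_option autoImplicit false
universe u
open CategoryTheory CategoryTheory.Limits AlgebraicGeometry TopologicalSpace
open Surf

namespace Groth.Agent.S18462

/-- Let k be an algebraically closed field of characteristic zero and X a smooth projective surface over
k (integral, proper and smooth over k, of dimension 2, carrying an ample invertible module). Let
C_1, …, C_r be pairwise distinct integral curves on X with ideal sheaves I_i and negative definite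
intersection matrix (Σ_{i,j} a_i a_j (I_i·I_j) < 0 for every nonzero integer vector a, where (A·B) =
χ(O_X) − χ(A) − χ(B) + χ(A ⊗ B)), let F be an effective Cartier divisor on X, with ideal I_F, none
of whose components is a C_i, and let s_1, …, s_r be integers such that the divisor class F + Σ_i
s_i C_i is orthogonal to every C_j, that is (F·C_j) + Σ_i s_i (C_i·C_j) = 0, written here as
deg(I_F|_{C_j}) = χ(O_{C_j} ⊗ I_F) − χ(O_{C_j}) = Σ_i s_i (I_i·I_j) for every j. Then all the s_i
are nonnegative. The published statement allows real coefficients s_i; this row takes integer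
coefficients. Its second assertion, that s_i > 0 on every connected group of the C_i one of which
meets F positively, is not restated. -/
theorem result (k : Type u) [Field k] [IsAlgClosed k] [CharZero k]
    (X : Scheme.{u}) [X.Over (Spec (CommRingCat.of k))] [IsProper (X ↘ (Spec (CommRingCat.of k)))]
    [Smooth (X ↘ (Spec (CommRingCat.of k)))] [IsIntegral X] (hdim : topologicalKrullDim X = 2)
    (hproj : ∃ H : X.Modules, CohB1.IsAmple H)
    (r : ℕ) (C : Fin r → X.IdealSheafData) (hC : Function.Injective C)
    (hCi : ∀ i, IsIntegral (C i).subscheme) (hCd : ∀ i, topologicalKrullDim ((C i).support : Set X) = 1)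
    (hneg : ∀ a : Fin r → ℤ, a ≠ 0 →
      ∑ i, ∑ j, a i * a j * FGA.intNum k X 2 ![(ClSub.idealMod (C i)), (ClSub.idealMod (C j))] (Coh.structureModule X) < 0)
    (F : X.IdealSheafData) (hF : FGA.IsEffCartier F) (hFC : ∀ i, ¬ ((C i).support : Set X) ⊆ (F.support : Set X))
    (s : Fin r → ℤ)
    (horth : ∀ j, Curv2.euler k X (CohB1.tensorMod (ClSub.quotMod (C j)) (ClSub.idealMod F)) - Curv2.euler k X (ClSub.quotMod (C j)) =
      ∑ i, s i * FGA.intNum k X 2 ![(ClSub.idealMod (C i)), (ClSub.idealMod (C j))] (Coh.structureModule X)) :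
    ∀ i, 0 ≤ s i := by
  have hd : topologicalKrullDim X ≤ ((2 : ℕ) : WithBot ℕ∞) := by rw [hdim]; rfl
  have hinv : ∀ i, PicF.IsInvertible (ClSub.idealMod (C i)) := fun i =>
    Groth.Agent.Lib.helper7.SurfCartier.isInvertible_idealMod_of_curve k X hdim (C i) (hCi i) (hCd i)
  have hFinv : PicF.IsInvertible (ClSub.idealMod F) :=
    (Groth.Agent.Lib.helper7.IdealCartier.isInvertible_idealMod_iff F).mpr hF
  have hPF : ∀ j, FGA.intNum k X 2 ![(ClSub.idealMod F), (ClSub.idealMod (C j))]
      (Coh.structureModule X) = ∑ i, (- s i) *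
        FGA.intNum k X 2 ![(ClSub.idealMod (C i)), (ClSub.idealMod (C j))] (Coh.structureModule X) := by
    intro j
    have h1 := Groth.Agent.Lib.helper7.SurfCurves.P_idealMod_eq_neg_nefq k X hd hFinv (C j) (hinv j)
    have h2 : FGA.intNum k X 2 ![(ClSub.idealMod F), (ClSub.idealMod (C j))]
        (Coh.structureModule X) = - Groth.Agent.Lib.Helper18.NefPull.nefq k X (C j) (ClSub.idealMod F) := h1
    rw [h2]
    have h3 : Groth.Agent.Lib.Helper18.NefPull.nefq k X (C j) (ClSub.idealMod F) =
        ∑ i, s i * FGA.intNum k X 2 ![(ClSub.idealMod (C i)), (ClSub.idealMod (C j))]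
          (Coh.structureModule X) := horth j
    rw [h3, ← Finset.sum_neg_distrib]
    exact Finset.sum_congr rfl (fun i _ => by ring)
  have hs : ∀ i, - s i ≤ 0 := Groth.Agent.Lib.helper7.SurfNegDef.nonpos_of_effective
    (fun i j => FGA.intNum k X 2 ![(ClSub.idealMod (C i)), (ClSub.idealMod (C j))]
      (Coh.structureModule X))
    (fun i j hij => Groth.Agent.Lib.helper7.SurfCurves.intNum_idealMod_nonneg k X hdim (hCi i)
      (hCi j) (hCd i) (hCd j) (fun h => hij (hC h))) hneg
    (fun j => FGA.intNum k X 2 ![(ClSub.idealMod F), (ClSub.idealMod (C j))]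
      (Coh.structureModule X))
    (fun j => Groth.Agent.Lib.helper7.SurfCurves.intNum_effCartier_curve_nonneg k X hdim hF (hCi j)
      (hCd j) (hFC j))
    (fun i => - s i) hPF
  intro i
  have := hs i
  omega

end Groth.Agent.S18462
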