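import Groth.Statements.S18463
import Groth.Agent.Lib.Helper7.SurfCurvesC
import Groth.Agent.Lib.Helper7.SurfNegDefD

set_option autoImplicit false
universe u
open CategoryTheory CategoryTheory.Limits AlgebraicGeometry TopologicalSpace
open Surf

namespace Groth.Agent.S18463

/-- Let k be an algebraically closed field of characteristic zero and X a smooth projective surface over
k (integral, proper and smooth over k, of dimension 2, carrying an ample invertible module). Let
C_1, …, C_r be pairwise distinct integral curves on X with ideal sheaves I_i and negative definite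
intersection matrix (Σ_{i,j} a_i a_j (I_i·I_j) < 0 for every nonzero integer vector a, where (A·B) =
χ(O_X) − χ(A) − χ(B) + χ(A ⊗ B)), let F be an effective Cartier divisor on X, with ideal I_F, none
of whose components is a C_i, and let s_1, …, s_r be integers such that F is numerically equivalent
to Σ_i s_i C_i: (I_F·M) = Σ_i s_i (I_i·M) for every invertible O_X-module M (equivalently (F·D) = Σ
s_i (C_i·D) for every divisor D). Then F = 0, i.e. I_F = O_X, and every s_i is 0. The published
statement writes the hypothesis as [F] + Σ s_i[C_i] = 0 with real s_i; this row writes F ≡ Σ s_i C_i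
with integer s_i, which is the same after changing the signs of the s_i. -/
theorem result (k : Type u) [Field k] [IsAlgClosed k] [CharZero k]
    (X : Scheme.{u}) [X.Over (Spec (CommRingCat.of k))] [IsProper (X ↘ (Spec (CommRingCat.of k)))]
    [Smooth (X ↘ (Spec (CommRingCat.of k)))] [IsIntegral X] (hdim : topologicalKrullDim X = 2)
    (hproj : ∃ H : X.Modules, CohB1.IsAmple H)
    (r : ℕ) (C : Fin r → X.IdealSheafData) (hC : Function.Injective C)
    (hCi : ∀ i, IsIntegral (C i).subscheme) (hCd : ∀ i, topologicalKrullDim ((C i).support : Set X) = 1)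
    (hneg : ∀ a : Fin r → ℤ, a ≠ 0 →
      ∑ i, ∑ j, a i * a j * FGA.intNum k X 2 ![(ClSub.idealMod (C i)), (ClSub.idealMod (C j))] (Coh.structureModule X) < 0)
    (F : X.IdealSheafData) (hF : FGA.IsEffCartier F) (hFC : ∀ i, ¬ ((C i).support : Set X) ⊆ (F.support : Set X))
    (s : Fin r → ℤ)
    (hnum : ∀ M : X.Modules, PicF.IsInvertible M →
      FGA.intNum k X 2 ![(ClSub.idealMod F), M] (Coh.structureModule X) =
        ∑ i, s i * FGA.intNum k X 2 ![(ClSub.idealMod (C i)), M] (Coh.structureModule X)) :
    F = ⊤ ∧ ∀ i, s i = 0 := by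
  obtain ⟨H, hH⟩ := hproj
  have hd : topologicalKrullDim X ≤ ((2 : ℕ) : WithBot ℕ∞) := by rw [hdim]; rfl
  have hinv : ∀ i, PicF.IsInvertible (ClSub.idealMod (C i)) := fun i =>
    Groth.Agent.Lib.helper7.SurfCartier.isInvertible_idealMod_of_curve k X hdim (C i) (hCi i) (hCd i)
  have hbneg : ∀ i, FGA.intNum k X 2 ![(ClSub.idealMod (C i)), H] (Coh.structureModule X) < 0 :=
    fun i => Groth.Agent.Lib.helper7.SurfCurves.intNum_idealMod_ample_neg k X hd hH (C i) (hCi i)
      (hCd i) (hinv i)
  have hs : ∀ i, s i ≤ 0 := Groth.Agent.Lib.helper7.SurfNegDef.nonpos_of_effective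
    (fun i j => FGA.intNum k X 2 ![(ClSub.idealMod (C i)), (ClSub.idealMod (C j))]
      (Coh.structureModule X))
    (fun i j hij => Groth.Agent.Lib.helper7.SurfCurves.intNum_idealMod_nonneg k X hdim (hCi i)
      (hCi j) (hCd i) (hCd j) (fun h => hij (hC h))) hneg
    (fun j => FGA.intNum k X 2 ![(ClSub.idealMod F), (ClSub.idealMod (C j))]
      (Coh.structureModule X))
    (fun j => Groth.Agent.Lib.helper7.SurfCurves.intNum_effCartier_curve_nonneg k X hdim hF (hCi j)
      (hCd j) (hFC j))
    s (fun j => hnum _ (hinv j))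
  have hFH := hnum H hH.1
  obtain ⟨hle, hlt⟩ := Groth.Agent.Lib.helper7.SurfCurves.P_idealMod_ample_nonpos k X hdim hH F hF
  have hterm : ∀ i ∈ (Finset.univ : Finset (Fin r)),
      0 ≤ s i * FGA.intNum k X 2 ![(ClSub.idealMod (C i)), H] (Coh.structureModule X) :=
    fun i _ => mul_nonneg_of_nonpos_of_nonpos (hs i) (hbneg i).le
  have hsum_nonneg := Finset.sum_nonneg hterm
  have hzero : FGA.intNum k X 2 ![(ClSub.idealMod F), H] (Coh.structureModule X) = 0 :=
    le_antisymm hle (by rw [hFH]; exact hsum_nonneg)
  refine ⟨?_, fun i => ?_⟩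
  · by_contra hne
    have h2 : FGA.intNum k X 2 ![(ClSub.idealMod F), H] (Coh.structureModule X) < 0 := hlt hne
    rw [hzero] at h2
    exact lt_irrefl _ h2
  · rw [hzero] at hFH
    have h1 := (Finset.sum_eq_zero_iff_of_nonneg hterm).mp hFH.symm i (Finset.mem_univ i)
    rcases mul_eq_zero.mp h1 with h | h
    · exact h
    · exact absurd h (hbneg i).ne

end Groth.Agent.S18463
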