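import Groth.Statements.S18464
import Groth.Agent.Lib.Helper20.HomogRank

set_option autoImplicit false
universe u
open CategoryTheory CategoryTheory.Limits AlgebraicGeometry
open LefPen

namespace Groth.Agent.S18464

section aux

variable (k : Type u) [Field k] (r d m : ℕ)

/-- evaluation of a form at a point -/
noncomputable def evPt (v : Fin (r + 1) → k) : LefPen.Form r k d →ₗ[k] k :=
  (MvPolynomial.aeval v).toLinearMap ∘ₗ (Submodule.subtype _)

lemma evPt_apply (v : Fin (r + 1) → k) (G : LefPen.Form r k d) :
    evPt k r d v G = MvPolynomial.aeval v G.1 := rfl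

instance finiteForm : Module.Finite k (LefPen.Form r k d) := by
  apply Module.finite_of_finrank_pos
  rw [Groth.Agent.Lib.Helper20.HomogRank.finrank_homogeneousSubmodule]
  exact Nat.choose_pos (Nat.le_add_left _ _)

lemma finrank_form : Module.finrank k (LefPen.Form r k d) = Nat.choose (r + d) d := by
  rw [Groth.Agent.Lib.Helper20.HomogRank.finrank_homogeneousSubmodule, add_comm,
    Nat.choose_symm_add]

end aux

section points

variable (k : Type u) [Field k] [Infinite k] (r d : ℕ)

lemma exists_ne_zero (G : LefPen.Form r k d) (hG : G ≠ 0) :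
    ∃ v : Fin (r + 1) → k, evPt k r d v G ≠ 0 := by
  by_contra hcon
  push Not at hcon
  apply hG
  apply Subtype.ext
  apply MvPolynomial.funext
  intro v
  have h := hcon v
  rw [evPt_apply] at h
  rw [Submodule.coe_zero, map_zero]
  exact h

lemma exists_points (n : ℕ) : ∀ (U : Submodule k (LefPen.Form r k d)), Module.finrank k U = n →
    ∃ s : Finset (Fin (r + 1) → k), s.card ≤ n ∧
      ∀ G ∈ U, (∀ v ∈ s, evPt k r d v G = 0) → G = 0 := by
  classical
  induction n using Nat.strong_induction_on with
  | _ n ih =>
    intro U hU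
    by_cases hbot : U = ⊥
    · refine ⟨∅, by simp, ?_⟩
      intro G hG _
      rw [hbot] at hG
      exact (Submodule.mem_bot k).mp hG
    · obtain ⟨G₀, hG₀U, hG₀⟩ := Submodule.exists_mem_ne_zero_of_ne_bot hbot
      obtain ⟨v, hv⟩ := exists_ne_zero k r d G₀ hG₀
      set U' := U ⊓ LinearMap.ker (evPt k r d v) with hU'
      have hlt : U' < U := by
        refine lt_of_le_of_ne inf_le_left ?_
        intro heq
        have : G₀ ∈ U' := by rw [heq]; exact hG₀U
        exact hv (LinearMap.mem_ker.mp this.2)
      have hfr : Module.finrank k U' < n := by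
        rw [← hU]
        exact Submodule.finrank_lt_finrank_of_lt hlt
      obtain ⟨s', hs'card, hs'⟩ := ih _ hfr U' rfl
      refine ⟨insert v s', ?_, ?_⟩
      · calc (insert v s').card ≤ s'.card + 1 := Finset.card_insert_le _ _
          _ ≤ n := by omega
      · intro G hGU hG
        apply hs' G
        · exact ⟨hGU, LinearMap.mem_ker.mpr (hG v (Finset.mem_insert_self _ _))⟩
        · intro w hw
          exact hG w (Finset.mem_insert_of_mem hw)

/-- the locus is nonempty -/
lemma exists_good_tuple (m : ℕ) (hm : Nat.choose (r + d) d ≤ m) :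
    ∃ x : Fin m → (Fin (r + 1) → k),
      ∀ G : LefPen.Form r k d, (∀ i : Fin m, MvPolynomial.aeval (x i) G.1 = 0) → G = 0 := by
  classical
  obtain ⟨s, hscard, hs⟩ := exists_points k r d _ (⊤ : Submodule k (LefPen.Form r k d)) rfl
  rw [finrank_top, finrank_form] at hscard
  have hsm : s.card ≤ m := hscard.trans hm
  refine ⟨fun i => if h : i.val < s.card then (s.equivFin.symm ⟨i.val, h⟩).1 else 0, ?_⟩
  intro G hG
  apply hs G Submodule.mem_top
  intro v hv
  set j := s.equivFin ⟨v, hv⟩ with hj
  have hjm : j.val < m := lt_of_lt_of_le j.2 hsm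
  have := hG ⟨j.val, hjm⟩
  simp only [j.2, dite_true] at this
  rw [evPt_apply]
  convert this using 2
  have : s.equivFin.symm ⟨j.val, j.2⟩ = ⟨v, hv⟩ := by
    rw [Fin.eta, hj, Equiv.symm_apply_apply]
  rw [this]

end points

section openness

variable (k : Type u) [Field k] (r d m : ℕ)

/-- the evaluation matrix -/
noncomputable def E (N : ℕ) (b : Module.Basis (Fin N) k (LefPen.Form r k d))
    (w : Fin m → (Fin (r + 1) → k)) : Matrix (Fin m) (Fin N) k :=
  fun i a => evPt k r d (w i) (b a)

lemma E_mulVec_repr (N : ℕ) (b : Module.Basis (Fin N) k (LefPen.Form r k d))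
    (w : Fin m → (Fin (r + 1) → k)) (G : LefPen.Form r k d) (i : Fin m) :
    (E k r d m N b w).mulVec (fun a => b.repr G a) i = evPt k r d (w i) G := by
  conv_rhs => rw [← b.sum_repr G]
  rw [map_sum, Matrix.mulVec, dotProduct]
  apply Finset.sum_congr rfl
  intro a _
  rw [map_smul, smul_eq_mul, mul_comm]
  rfl

lemma mem_of_det_ne_zero (N : ℕ) (b : Module.Basis (Fin N) k (LefPen.Form r k d))
    (L : Matrix (Fin N) (Fin m) k) (w : Fin m → (Fin (r + 1) → k))
    (hdet : (L * E k r d m N b w).det ≠ 0) :
    ∀ G : LefPen.Form r k d, (∀ i : Fin m, MvPolynomial.aeval (w i) G.1 = 0) → G = 0 := by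
  intro G hG
  have h1 : (E k r d m N b w).mulVec (fun a => b.repr G a) = 0 := by
    funext i
    rw [E_mulVec_repr]
    exact hG i
  have h2 : (L * E k r d m N b w).mulVec (fun a => b.repr G a) = 0 := by
    rw [← Matrix.mulVec_mulVec, h1, Matrix.mulVec_zero]
  have h3 := Matrix.eq_zero_of_mulVec_eq_zero hdet h2
  have h4 : b.repr G = 0 := by
    ext a
    exact congrFun h3 a
  exact (LinearEquiv.map_eq_zero_iff _).mp h4

lemma exists_L (N : ℕ) (b : Module.Basis (Fin N) k (LefPen.Form r k d))
    (x : Fin m → (Fin (r + 1) → k))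
    (hx : ∀ G : LefPen.Form r k d, (∀ i : Fin m, MvPolynomial.aeval (x i) G.1 = 0) → G = 0) :
    ∃ L : Matrix (Fin N) (Fin m) k, (L * E k r d m N b x).det ≠ 0 := by
  have hker : LinearMap.ker (Matrix.toLin' (E k r d m N b x)) = ⊥ := by
    rw [eq_bot_iff]
    intro c hc
    rw [LinearMap.mem_ker, Matrix.toLin'_apply] at hc
    set G : LefPen.Form r k d := b.repr.symm (Finsupp.equivFunOnFinite.symm c) with hGdef
    have hrepr : (fun a => b.repr G a) = c := by
      funext a
      rw [hGdef, LinearEquiv.apply_symm_apply]
      rfl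
    have hG0 : G = 0 := by
      apply hx G
      intro i
      rw [← evPt_apply, ← E_mulVec_repr k r d m N b x G i, hrepr, hc]
      rfl
    rw [Submodule.mem_bot, ← hrepr, hG0]
    funext a
    simp
  obtain ⟨g, hg⟩ := LinearMap.exists_leftInverse_of_injective _ hker
  refine ⟨LinearMap.toMatrix' g, ?_⟩
  have : LinearMap.toMatrix' g * E k r d m N b x = 1 := by
    conv_lhs => rw [← LinearMap.toMatrix'_toLin' (E k r d m N b x)]
    rw [← LinearMap.toMatrix'_comp, hg, LinearMap.toMatrix'_id]
  rw [this, Matrix.det_one]
  exact one_ne_zero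

end openness

section polyfun

variable (k : Type u) [Field k] (r d m : ℕ)

/-- the subalgebra of polynomial functions -/
noncomputable abbrev PF : Subalgebra k ((Fin m → (Fin (r + 1) → k)) → k) :=
  Algebra.adjoin k (Set.range (fun l : Module.Dual k (Fin m → (Fin (r + 1) → k)) =>
    (l : (Fin m → (Fin (r + 1) → k)) → k)))

lemma coord_mem (i : Fin m) (j : Fin (r + 1)) :
    (fun w : Fin m → (Fin (r + 1) → k) => w i j) ∈ PF k r m := by
  apply Algebra.subset_adjoin
  exact ⟨(LinearMap.proj j) ∘ₗ (LinearMap.proj i), rfl⟩

lemma aeval_mem (i : Fin m) (G : MvPolynomial (Fin (r + 1)) k) :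
    (fun w : Fin m → (Fin (r + 1) → k) => MvPolynomial.aeval (w i) G) ∈ PF k r m := by
  induction G using MvPolynomial.induction_on with
  | C a =>
    have : (fun w : Fin m → (Fin (r + 1) → k) => MvPolynomial.aeval (w i) (MvPolynomial.C a)) =
        algebraMap k _ a := by
      funext w
      simp
    rw [this]
    exact Subalgebra.algebraMap_mem _ a
  | add p q hp hq =>
    have : (fun w : Fin m → (Fin (r + 1) → k) => MvPolynomial.aeval (w i) (p + q)) =
        (fun w : Fin m → (Fin (r + 1) → k) => MvPolynomial.aeval (w i) p) +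
          (fun w : Fin m → (Fin (r + 1) → k) => MvPolynomial.aeval (w i) q) := by
      funext w
      simp
    rw [this]
    exact Subalgebra.add_mem _ hp hq
  | mul_X p j hp =>
    have : (fun w : Fin m → (Fin (r + 1) → k) => MvPolynomial.aeval (w i) (p * MvPolynomial.X j)) =
        (fun w : Fin m → (Fin (r + 1) → k) => MvPolynomial.aeval (w i) p) *
          (fun w : Fin m → (Fin (r + 1) → k) => w i j) := by
      funext w
      simp
    rw [this]
    exact Subalgebra.mul_mem _ hp (coord_mem k r m i j)

lemma det_isPolyFun (N : ℕ) (b : Module.Basis (Fin N) k (LefPen.Form r k d))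
    (L : Matrix (Fin N) (Fin m) k) :
    LefPen.IsPolyFun k (fun w : Fin m → (Fin (r + 1) → k) => (L * E k r d m N b w).det) := by
  have hentry : ∀ a a' : Fin N,
      (fun w : Fin m → (Fin (r + 1) → k) => (L * E k r d m N b w) a a') ∈ PF k r m := by
    intro a a'
    have : (fun w : Fin m → (Fin (r + 1) → k) => (L * E k r d m N b w) a a') =
        ∑ i : Fin m, L a i • (fun w : Fin m → (Fin (r + 1) → k) =>
          MvPolynomial.aeval (w i) (b a').1) := by
      funext w
      rw [Matrix.mul_apply, Finset.sum_apply]
      apply Finset.sum_congr rfl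
      intro i _
      rfl
    rw [this]
    apply Subalgebra.sum_mem
    intro i _
    exact Subalgebra.smul_mem _ (aeval_mem k r m i _) _
  let M' : Matrix (Fin N) (Fin N) (PF k r m) := fun a a' => ⟨_, hentry a a'⟩
  have hdet : (fun w : Fin m → (Fin (r + 1) → k) => (L * E k r d m N b w).det) =
      ((M'.det : PF k r m) : (Fin m → (Fin (r + 1) → k)) → k) := by
    funext w
    let φ : PF k r m →+* k :=
      (Pi.evalRingHom (fun _ : Fin m → (Fin (r + 1) → k) => k) w).comp (PF k r m).val.toRingHom
    change _ = φ M'.det
    rw [RingHom.map_det]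
    rfl
  unfold LefPen.IsPolyFun
  rw [hdet]
  exact (M'.det).2

end polyfun

/-- Let k be an infinite field, r a natural number, d ≥ 1 an integer, and m ≥ C(r+d, d), the number of
monomials of degree d in r+1 variables. In the space of m-tuples of vectors of k^(r+1) (homogeneous
coordinate vectors of m points of projective r-space; a zero vector is allowed and imposes no
condition), the tuples such that the only form of degree d vanishing at all of them is the zero form
make up a Zariski-open subset which contains the non-vanishing locus of a not identically zero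
polynomial function, so a dense open subset. (The published statement is the openness and density of
the corresponding locus in the m-fold product of projective r-space over the ground field; here the
ground field is any infinite field and the statement is made on coordinate vectors.) -/
theorem result (k : Type u) [Field k] [Infinite k]
    (r d m : ℕ) (hd : 1 ≤ d) (hm : Nat.choose (r + d) d ≤ m) :
    LefPen.IsZOpen k {x : Fin m → (Fin (r + 1) → k) |
      ∀ G : LefPen.Form r k d, (∀ i : Fin m, MvPolynomial.aeval (x i) G.1 = 0) → G = 0} ∧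
    LefPen.IsGeneric k {x : Fin m → (Fin (r + 1) → k) |
      ∀ G : LefPen.Form r k d, (∀ i : Fin m, MvPolynomial.aeval (x i) G.1 = 0) → G = 0} := by
  set N := Module.finrank k (LefPen.Form r k d) with hN
  let b : Module.Basis (Fin N) k (LefPen.Form r k d) := Module.finBasis k _
  have hopen : LefPen.IsZOpen k {x : Fin m → (Fin (r + 1) → k) |
      ∀ G : LefPen.Form r k d, (∀ i : Fin m, MvPolynomial.aeval (x i) G.1 = 0) → G = 0} := by
    intro x hx
    obtain ⟨L, hL⟩ := exists_L k r d m N b x hx
    exact ⟨_, det_isPolyFun k r d m N b L, hL, fun w hw => mem_of_det_ne_zero k r d m N b L w hw⟩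
  refine ⟨hopen, ?_⟩
  obtain ⟨x₀, hx₀⟩ := exists_good_tuple k r d m hm
  obtain ⟨f, hf, hfx, hfS⟩ := hopen x₀ hx₀
  exact ⟨f, hf, ⟨x₀, hfx⟩, hfS⟩

end Groth.Agent.S18464
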