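import Groth.Statements.S18465
-- import your own Groth.Agent.* helpers here

set_option autoImplicit false
universe u v w x
open WildLef

namespace Groth.Agent.S18465

/-- Let f : G₁ → G₂ be a homomorphism of groups, ρ : G₂ → Γ a homomorphism with finite image G, and A a
nontrivial commutative ring. Let G₂ act on the group algebra A[G] through ρ followed by the left
regular representation, and G₁ through f. If the elements of A[G] fixed by G₁ coincide with those
fixed by G₂, then ρ ∘ f and ρ have the same image. (The published statement has Γ a general linear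
group GL_r(A); over the zero ring that group is trivial, so requiring A nontrivial and allowing any
target group loses nothing.) -/
theorem result
    {G₁ : Type u} {G₂ : Type v} {Γ : Type w} [Group G₁] [Group G₂] [Group Γ]
    (f : G₁ →* G₂) (ρ : G₂ →* Γ) [Finite ρ.range] (A : Type x) [CommRing A] [Nontrivial A]
    (h : {x : MonoidAlgebra A ρ.range | ∀ g : G₁, MonoidAlgebra.of A ρ.range (ρ.rangeRestrict (f g)) * x = x} =
      {x : MonoidAlgebra A ρ.range | ∀ g : G₂, MonoidAlgebra.of A ρ.range (ρ.rangeRestrict g) * x = x}) :
    (ρ.comp f).range = ρ.range := by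
  classical
  apply le_antisymm
  · rintro _ ⟨g, rfl⟩
    exact ⟨f g, rfl⟩
  · rintro _ ⟨g₂, rfl⟩
    let H : Subgroup Γ := (ρ.comp f).range
    let c : ρ.range → A := fun g => if (g : Γ) ∈ H then (1 : A) else 0
    let x : MonoidAlgebra A ρ.range := MonoidAlgebra.ofCoeff (Finsupp.equivFunOnFinite.symm c)
    have hxc : ∀ g, x.coeff g = c g := fun g => rfl
    have hx1 : x ∈ {x : MonoidAlgebra A ρ.range |
        ∀ g : G₁, MonoidAlgebra.of A ρ.range (ρ.rangeRestrict (f g)) * x = x} := by
      intro g
      apply MonoidAlgebra.coeff_injective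
      ext y
      rw [MonoidAlgebra.of_apply, MonoidAlgebra.coeff_single_mul_apply, one_mul, hxc, hxc]
      have hg : ((ρ.rangeRestrict (f g) : ρ.range) : Γ) ∈ H := ⟨g, rfl⟩
      have : (((ρ.rangeRestrict (f g))⁻¹ * y : ρ.range) : Γ) ∈ H ↔ (y : Γ) ∈ H := by
        rw [Subgroup.coe_mul, Subgroup.coe_inv]
        exact H.mul_mem_cancel_left (H.inv_mem hg)
      simp only [c, this]
    rw [h] at hx1
    have h2 := congrArg (fun z => z.coeff (ρ.rangeRestrict g₂)) (hx1 g₂)
    rw [MonoidAlgebra.of_apply, MonoidAlgebra.coeff_single_mul_apply, one_mul, inv_mul_cancel,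
      hxc, hxc] at h2
    have h1 : c 1 = 1 := by simp [c, H.one_mem]
    rw [h1] at h2
    by_contra hcon
    have : c (ρ.rangeRestrict g₂) = 0 := by
      simp only [c]
      rw [if_neg]
      exact hcon
    rw [this] at h2
    exact one_ne_zero h2

end Groth.Agent.S18465
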