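import Groth.Statements.S18466
import Groth.Agent.Lib.Helper22.SelfDualZn

set_option autoImplicit false
universe u
open Hopf

namespace Groth.Agent.S18466

/-- Let k be a field and n ≥ 1. The constant group scheme ℤ/n over k is self-dual, that is, isomorphic
to its Cartier dual μ_n — equivalently the Hopf algebra of k-valued functions on the cyclic group of
order n and the group algebra of that group over k (group elements group-like) are isomorphic as
bialgebras — precisely when the field k has a primitive n-th root of unity, i.e. k contains n
distinct n-th roots of unity in k. (The published statement assumes that the characteristic of k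
does not divide n; both directions hold without that assumption by the same argument, since a
primitive n-th root of unity forces n to be nonzero in k, so it is omitted here.) -/
theorem result
    (k : Type u) [Field k] (n : ℕ) [NeZero n] :
    Nonempty (ConstGrp.F k (Multiplicative (ZMod n)) ≃ₐc[k] MonoidAlgebra k (Multiplicative (ZMod n))) ↔
      ∃ ζ : k, IsPrimitiveRoot ζ n := by
  constructor
  · rintro ⟨e⟩
    exact Groth.Agent.Lib.helper22.SelfDualZn.exists_primitiveRoot k n e
  · rintro ⟨ζ, hζ⟩
    exact ⟨(Groth.Agent.Lib.helper22.SelfDualZn.bialgEquiv hζ).symm⟩

end Groth.Agent.S18466
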