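import Groth.Statements.S18467
import Mathlib
-- import your own Groth.Agent.* helpers here

set_option autoImplicit false
universe u
open Hopf

namespace Groth.Agent.S18467


section helpers

variable {R : Type u} [CommRing R] {G : Type} [CommGroup G] [Fintype G]

/-- `T a = ∑ m, a m • [m]` in the group algebra. -/
noncomputable def T (a : G → R) : MonoidAlgebra R G := ∑ m : G, a m • MonoidAlgebra.of R G m

theorem T_mul (a b : G → R) : T a * T b = T (fun n => ∑ m, a m * b (m⁻¹ * n)) := by
  unfold T
  rw [Finset.sum_mul_sum]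
  have h1 : ∀ m m' : G, (a m • MonoidAlgebra.of R G m) * (b m' • MonoidAlgebra.of R G m') =
      (a m * b m') • MonoidAlgebra.of R G (m * m') := by
    intro m m'
    rw [smul_mul_smul_comm, ← map_mul]
  simp_rw [h1]
  have h2 : ∀ m : G, ∑ m', (a m * b m') • MonoidAlgebra.of R G (m * m') =
      ∑ n, (a m * b (m⁻¹ * n)) • MonoidAlgebra.of R G n := by
    intro m
    exact Fintype.sum_equiv (Equiv.mulLeft m) _ _ (fun m' => by simp)
  simp_rw [h2]
  rw [Finset.sum_comm]
  refine Finset.sum_congr rfl fun n _ => ?_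
  rw [Finset.sum_smul]

theorem T_smul (c : R) (b : G → R) : T (fun n => c * b n) = c • T b := by
  unfold T
  rw [Finset.smul_sum]
  refine Finset.sum_congr rfl fun n _ => ?_
  rw [smul_smul]

/-- The sum of the values of a character which takes a value `θ g` with `θ g - 1` a unit is 0. -/
theorem sum_char_eq_zero (θ : G →* Rˣ) (g : G) (hg : IsUnit ((θ g : R) - 1)) :
    ∑ m : G, (θ m : R) = 0 := by
  have h1 : (θ g : R) * ∑ m : G, (θ m : R) = ∑ m : G, (θ m : R) := by
    rw [Finset.mul_sum]
    refine Fintype.sum_equiv (Equiv.mulLeft g) _ _ (fun m => ?_)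
    simp
  have h2 : ((θ g : R) - 1) * ∑ m : G, (θ m : R) = 0 := by
    rw [sub_mul, h1, one_mul, sub_self]
  exact (hg.mul_right_eq_zero).mp h2

/-- Product of the elements attached to two multiplicative functions. -/
theorem T_mul_of_mul (a : G → R) (b : G →* R) :
    T a * T (b : G → R) = (∑ m, a m * b m⁻¹) • T (b : G → R) := by
  rw [T_mul, ← T_smul]
  congr 1
  funext n
  rw [Finset.sum_mul]
  refine Finset.sum_congr rfl fun m _ => ?_
  rw [map_mul]; ring

end helpers

/-- Let p be a prime and R a commutative ring containing an element u with u(p − 1) = 1, and let χ be a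
homomorphism from the group of units of ℤ/p to the group of units of R such that χ(m) − 1 is a unit
of R for every m ≠ 1. For 0 ≤ i < p − 1 put e_i = u · Σ_m χ(m)^{−i} [m] in the group algebra
R[(ℤ/p)ˣ]. Then the e_i are idempotents, e_i e_j = 0 for i ≠ j, and Σ_i e_i = 1. (The published
statement is for algebras over the subring of the p-adic integers generated over ℤ by the values of
the Teichmüller character χ and by 1/(p(p − 1)); the hypotheses on R and χ here are the properties
of that situation which the computation uses, so the row is stated for every such pair.) -/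
theorem result
    (p : ℕ) [Fact p.Prime] (R : Type u) [CommRing R] (u : R) (hu : u * ((p - 1 : ℕ) : R) = 1)
    (χ : (ZMod p)ˣ →* Rˣ) (hχ : ∀ m : (ZMod p)ˣ, m ≠ 1 → IsUnit ((χ m : R) - 1)) :
    CompleteOrthogonalIdempotents (fun i : Fin (p - 1) =>
      u • ∑ m : (ZMod p)ˣ, ((χ m⁻¹ : Rˣ) : R) ^ (i : ℕ) • MonoidAlgebra.of R (ZMod p)ˣ m) := by
  classical
  set G := (ZMod p)ˣ with hG
  have hcard : Fintype.card G = p - 1 := ZMod.card_units p
  -- the multiplicative functions `ψ i`
  let ψ : ℕ → G →* R := fun i =>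
    { toFun := fun m => ((χ m⁻¹ : Rˣ) : R) ^ i
      map_one' := by simp
      map_mul' := by intro a b; simp [mul_pow, mul_comm] }
  have hE : ∀ i : Fin (p - 1),
      (u • ∑ m : (ZMod p)ˣ, ((χ m⁻¹ : Rˣ) : R) ^ (i : ℕ) • MonoidAlgebra.of R (ZMod p)ˣ m) =
        u • T (ψ i : G → R) := fun i => rfl
  -- generator
  obtain ⟨g, hg⟩ := IsCyclic.exists_generator (α := G)
  have hord : orderOf g = p - 1 := by
    rw [orderOf_eq_card_of_forall_mem_zpowers hg, Nat.card_eq_fintype_card, hcard]
  -- orthogonality sums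
  have hS : ∀ i j : Fin (p - 1), i ≠ j →
      ∑ m : G, (ψ i m) * (ψ j m⁻¹) = 0 := by
    intro i j hij
    let κ : G →* G := powMonoidHom (j : ℕ) / powMonoidHom (i : ℕ)
    let θ : G →* Rˣ := χ.comp κ
    have hθ : ∀ m : G, (ψ i m) * (ψ j m⁻¹) = (θ m : R) := by
      intro m
      simp only [ψ, θ, κ, MonoidHom.coe_mk, OneHom.coe_mk, inv_inv, MonoidHom.comp_apply,
        MonoidHom.div_apply, powMonoidHom_apply, map_div, map_pow, map_inv]
      rw [div_eq_mul_inv, Units.val_mul, Units.val_pow_eq_pow_val, ← inv_pow,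
        Units.val_pow_eq_pow_val, mul_comm]
    simp_rw [hθ]
    apply sum_char_eq_zero θ g
    apply hχ
    simp only [κ, MonoidHom.div_apply, powMonoidHom_apply]
    rw [Ne, div_eq_one]
    intro h
    have := pow_injOn_Iio_orderOf (x := g) (by rw [Set.mem_Iio, hord]; exact j.2)
      (by rw [Set.mem_Iio, hord]; exact i.2) h
    exact hij (Fin.ext this.symm)
  have hSii : ∀ i : Fin (p - 1), ∑ m : G, (ψ i m) * (ψ i m⁻¹) = ((p - 1 : ℕ) : R) := by
    intro i
    have : ∀ m : G, (ψ i m) * (ψ i m⁻¹) = 1 := by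
      intro m
      rw [← map_mul, mul_inv_cancel, map_one]
    simp_rw [this]
    rw [Finset.sum_const, Finset.card_univ, hcard, nsmul_eq_mul, mul_one]
  have hmul : ∀ i j : Fin (p - 1), (u • T (ψ i : G → R)) * (u • T (ψ j : G → R)) =
      if i = j then u • T (ψ j : G → R) else 0 := by
    intro i j
    rw [smul_mul_smul_comm, T_mul_of_mul, smul_smul]
    split_ifs with h
    · subst h
      rw [hSii, mul_assoc, hu, mul_one]
    · rw [hS i j h, mul_zero, zero_smul]
  refine ⟨⟨fun i => ?_, fun i j hij => ?_⟩, ?_⟩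
  · show _ * _ = _
    simp only [hE]
    rw [hmul i i, if_pos rfl]
  · simp only [hE]
    rw [hmul i j, if_neg hij]
  · simp only [hE]
    rw [← Finset.smul_sum]
    -- ∑ i, T (ψ i) = (p-1) • of 1
    have hsum : ∑ i : Fin (p - 1), T (ψ i : G → R) =
        ((p - 1 : ℕ) : R) • MonoidAlgebra.of R G 1 := by
      unfold T
      rw [Finset.sum_comm]
      simp_rw [← Finset.sum_smul]
      have hgeom : ∀ m : G, ∑ i : Fin (p - 1), (ψ i m) =
          if m = 1 then ((p - 1 : ℕ) : R) else 0 := by
        intro m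
        simp only [ψ, MonoidHom.coe_mk, OneHom.coe_mk]
        rw [Fin.sum_univ_eq_sum_range (fun i => ((χ m⁻¹ : Rˣ) : R) ^ i) (p - 1)]
        split_ifs with hm
        · subst hm
          simp
        · have hunit : IsUnit (((χ m⁻¹ : Rˣ) : R) - 1) := hχ m⁻¹ (by simpa using hm)
          have h1 : (∑ i ∈ Finset.range (p - 1), ((χ m⁻¹ : Rˣ) : R) ^ i) *
              (((χ m⁻¹ : Rˣ) : R) - 1) = 0 := by
            rw [geom_sum_mul, ← Units.val_pow_eq_pow_val, ← map_pow, ← hcard, pow_card_eq_one,
              map_one, Units.val_one, sub_self]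
          exact (hunit.mul_left_eq_zero).mp h1
      simp_rw [hgeom]
      rw [Finset.sum_eq_single (1 : G)]
      · simp
      · intro m _ hm; simp [hm]
      · intro h; exact absurd (Finset.mem_univ _) h
    rw [hsum, smul_smul, hu, one_smul]
    rfl

end Groth.Agent.S18467
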