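import Groth.Statements.S18470
import Mathlib
-- import your own Groth.Agent.* helpers here

set_option autoImplicit false
universe u v
open OortTate

namespace Groth.Agent.S18470

/-- Let R be a commutative ring and A a commutative Hopf algebra over R which is finitely generated and
projective as an R-module (a finite locally free group scheme G = Spec A, not assumed commutative),
and let A^D = Hom_R(A, R) be the dual algebra with its Hopf structure (the Cartier dual when A is
cocommutative), whose counit is evaluation at 1. Then restriction of linear forms to the
augmentation ideal I = ker ε_A of A is a bijection from the augmentation ideal of A^D onto the dual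
module Hom_R(I, R): the dual of the augmentation ideal of G is the augmentation ideal of the dual.
The published statement is for a group scheme of order p over a Λ_p-algebra; the argument uses only
the splitting A = R·1 ⊕ ker ε. -/
theorem result
    (R : Type u) [CommRing R] (A : Type v) [CommRing A] [HopfAlgebra R A]
    [Module.Finite R A] [Module.Projective R A] :
    Function.Bijective (fun f : LinearMap.ker (Bialgebra.counitAlgHom R (CartDual.D R A)).toLinearMap =>
      ((CartDual.toDual R A) (f : CartDual.D R A)).comp
        (LinearMap.ker (Bialgebra.counitAlgHom R A).toLinearMap).subtype) := by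
  set ε := (Bialgebra.counitAlgHom R A).toLinearMap with hε
  have hε1 : ε 1 = 1 := by simp [hε]
  -- the projection onto the augmentation ideal
  let π0 : A →ₗ[R] A := LinearMap.id - (Algebra.linearMap R A) ∘ₗ ε
  have hπ0 : ∀ a, π0 a ∈ LinearMap.ker ε := by
    intro a
    rw [LinearMap.mem_ker]
    simp only [π0, LinearMap.sub_apply, LinearMap.id_apply, LinearMap.comp_apply, map_sub,
      Algebra.linearMap_apply]
    rw [Algebra.algebraMap_eq_smul_one, map_smul, hε1, smul_eq_mul, mul_one, sub_self]
  let π : A →ₗ[R] LinearMap.ker ε := π0.codRestrict _ hπ0
  have hπI : ∀ a : LinearMap.ker ε, π a = a := by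
    intro a
    apply Subtype.ext
    have ha : ε a.1 = 0 := a.2
    simp [π, π0, ha]
  have hdecomp : ∀ a : A, a = ε a • (1 : A) + (π a : A) := by
    intro a
    simp [π, π0, Algebra.algebraMap_eq_smul_one]
  have hcounit : ∀ f : CartDual.D R A,
      (Bialgebra.counitAlgHom R (CartDual.D R A)).toLinearMap f = f 1 := fun f => rfl
  constructor
  · rintro ⟨f, hf⟩ ⟨g, hg⟩ hfg
    rw [LinearMap.mem_ker, hcounit] at hf hg
    apply Subtype.ext
    apply WithConv.ext
    apply LinearMap.ext
    intro a
    have h1 : ∀ b : LinearMap.ker ε, f.ofConv b = g.ofConv b := fun b => congr($hfg b)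
    have hf' : f.ofConv 1 = 0 := hf
    have hg' : g.ofConv 1 = 0 := hg
    rw [hdecomp a, map_add, map_add, map_smul, map_smul, hf', hg', h1]
  · intro h
    refine ⟨⟨WithConv.toConv (h ∘ₗ π), ?_⟩, ?_⟩
    · rw [LinearMap.mem_ker, hcounit]
      change h (π 1) = 0
      have : π 1 = 0 := by
        apply Subtype.ext
        simp [π, π0, hε1]
      rw [this, map_zero]
    · apply LinearMap.ext
      intro b
      change h (π b) = h b
      rw [hπI]

end Groth.Agent.S18470
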