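import Groth.Statements.S18476
import Mathlib

set_option autoImplicit false
universe u
open FmlGrp

namespace Groth.Agent.S18476


open PowerSeries

section Aux
variable {A : Type*} [CommRing A]

/-- shift of a power series -/
noncomputable def sh (c : PowerSeries A) : PowerSeries A := PowerSeries.mk fun k => coeff (k + 1) c

theorem eq_sh (c : PowerSeries A) : c = X * sh c + C (constantCoeff c) :=
  PowerSeries.eq_X_mul_shift_add_const c

theorem subst_peel {f : PowerSeries A} (hf0 : constantCoeff f = 0) (c : PowerSeries A) :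
    PowerSeries.subst f c = C (constantCoeff c) + f * PowerSeries.subst f (sh c) := by
  have hs : PowerSeries.HasSubst f := HasSubst.of_constantCoeff_zero' hf0
  have hC : PowerSeries.subst f (C (constantCoeff c)) = C (constantCoeff c) :=
    PowerSeries.subst_C _
  conv_lhs => rw [eq_sh c]
  rw [PowerSeries.subst_add hs, PowerSeries.subst_mul hs, PowerSeries.subst_X hs, hC]; ring

theorem poly_eq_sum {d : ℕ} (R : Polynomial A) (hR : R.degree < d) :
    ∑ i : Fin d, Polynomial.C (R.coeff i) * Polynomial.X ^ (i : ℕ) = R := by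
  ext j
  rw [Polynomial.finsetSum_coeff]
  simp only [Polynomial.coeff_C_mul_X_pow]
  by_cases hj : j < d
  · rw [Finset.sum_eq_single ⟨j, hj⟩]
    · rw [if_pos rfl]
    · intro i _ hi
      rw [if_neg]
      intro h
      apply hi
      exact Fin.ext h.symm
    · intro h; exact absurd (Finset.mem_univ _) h
  · rw [Finset.sum_eq_zero]
    · symm
      exact (Polynomial.degree_lt_iff_coeff_zero R d).mp hR j (by omega)
    · intro i _
      rw [if_neg]
      intro h
      exact hj (h ▸ i.2)

/-- the sum `Σ_i c_i(f) X^i` -/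
noncomputable def S (f : PowerSeries A) (d : ℕ) (c : Fin d → PowerSeries A) : PowerSeries A :=
  ∑ i : Fin d, PowerSeries.subst f (c i) * X ^ (i : ℕ)

/-- the polynomial of constant terms -/
noncomputable def P0 (d : ℕ) (c : Fin d → PowerSeries A) : Polynomial A :=
  ∑ i : Fin d, Polynomial.C (constantCoeff (c i)) * Polynomial.X ^ (i : ℕ)

theorem P0_degree (d : ℕ) (c : Fin d → PowerSeries A) : (P0 d c).degree < d :=
  Polynomial.degree_sum_fin_lt _

theorem P0_coeff (d : ℕ) (c : Fin d → PowerSeries A) (i : Fin d) :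
    (P0 d c).coeff i = constantCoeff (c i) := by
  rw [P0, Polynomial.finsetSum_coeff]
  simp only [Polynomial.coeff_C_mul_X_pow]
  rw [Finset.sum_eq_single i]
  · rw [if_pos rfl]
  · intro j _ hj
    rw [if_neg]
    intro h
    apply hj
    exact Fin.ext h.symm
  · intro h; exact absurd (Finset.mem_univ _) h

theorem S_peel {f : PowerSeries A} (hf0 : constantCoeff f = 0) (d : ℕ)
    (c : Fin d → PowerSeries A) :
    S f d c = ((P0 d c : Polynomial A) : PowerSeries A) + f * S f d (fun i => sh (c i)) := by
  have hP : ((P0 d c : Polynomial A) : PowerSeries A) =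
      ∑ i : Fin d, C (constantCoeff (c i)) * X ^ (i : ℕ) := by
    rw [P0, ← Polynomial.coeToPowerSeries.ringHom_apply, map_sum]
    refine Finset.sum_congr rfl fun i _ => ?_
    rw [map_mul, map_pow, Polynomial.coeToPowerSeries.ringHom_apply,
      Polynomial.coeToPowerSeries.ringHom_apply, Polynomial.coe_C, Polynomial.coe_X]
  rw [hP, S, S, Finset.mul_sum, ← Finset.sum_add_distrib]
  refine Finset.sum_congr rfl fun i _ => ?_
  rw [subst_peel hf0 (c i)]; ring

theorem S_sub {f : PowerSeries A} (hf0 : constantCoeff f = 0) (d : ℕ)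
    (c c' : Fin d → PowerSeries A) : S f d (fun i => c i - c' i) = S f d c - S f d c' := by
  have hs : PowerSeries.HasSubst f := HasSubst.of_constantCoeff_zero' hf0
  rw [S, S, S, ← Finset.sum_sub_distrib]
  refine Finset.sum_congr rfl fun i _ => ?_
  rw [PowerSeries.subst_sub hs, sub_mul]

end Aux

section Complete
variable {A : Type*} [CommRing A] [IsLocalRing A] [IsAdicComplete (IsLocalRing.maximalIdeal A) A]

theorem S_inj {f : PowerSeries A} (hf0 : constantCoeff f = 0)
    (hg : f.map (IsLocalRing.residue A) ≠ 0) :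
    ∀ (K : ℕ) (e : Fin (f.map (IsLocalRing.residue A)).order.toNat → PowerSeries A),
      S f _ e = 0 → ∀ i k, k < K → coeff k (e i) = 0 := by
  intro K
  induction K with
  | zero => intro e _ i k hk; exact absurd hk (Nat.not_lt_zero _)
  | succ K ih =>
    intro e he i k hk
    have hpeel := S_peel hf0 _ e
    rw [he] at hpeel
    have H : IsWeierstrassDivision 0 f (S f _ (fun i => sh (e i))) (P0 _ e) :=
      ⟨P0_degree _ e, by rw [add_comm] at hpeel; exact hpeel⟩
    obtain ⟨hq0, hr0⟩ := H.eq_zero hg
    have hcc : ∀ i, constantCoeff (e i) = 0 := by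
      intro i
      rw [← P0_coeff _ e i, hr0, Polynomial.coeff_zero]
    cases k with
    | zero => rw [coeff_zero_eq_constantCoeff_apply, hcc i]
    | succ k' =>
      have := ih (fun i => sh (e i)) hq0 i k' (by omega)
      rw [sh, coeff_mk] at this
      exact this

theorem S_surj {f : PowerSeries A} (hf0 : constantCoeff f = 0)
    (hg : f.map (IsLocalRing.residue A) ≠ 0) (g₀ : PowerSeries A) :
    ∃ c : Fin (f.map (IsLocalRing.residue A)).order.toNat → PowerSeries A, g₀ = S f _ c := by
  obtain ⟨d, hd⟩ : ∃ d, d = (f.map (IsLocalRing.residue A)).order.toNat := ⟨_, rfl⟩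
  rw [← hd]
  obtain ⟨Q, hQ0, hQs⟩ : ∃ Q : ℕ → PowerSeries A, Q 0 = g₀ ∧ ∀ k, Q (k + 1) = Q k /ʷ f :=
    ⟨fun k => Nat.rec g₀ (fun _ q => q /ʷ f) k, rfl, fun _ => rfl⟩
  obtain ⟨R, hR⟩ : ∃ R : ℕ → Polynomial A, ∀ k, R k = Q k %ʷ f := ⟨fun k => Q k %ʷ f, fun _ => rfl⟩
  have hQR : ∀ k, Q k = f * Q (k + 1) + ((R k : Polynomial A) : PowerSeries A) := by
    intro k
    rw [hQs, hR]
    exact PowerSeries.eq_mul_weierstrassDiv_add_weierstrassMod (Q k) hg
  have hdeg : ∀ k, (R k).degree < d := by
    intro k
    rw [hR, hd]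
    exact PowerSeries.degree_weierstrassMod_lt (Q k) f
  obtain ⟨cs, hcs⟩ : ∃ cs : ℕ → Fin d → PowerSeries A,
      ∀ s i, cs s i = PowerSeries.mk (fun k => (R (k + s)).coeff i) := ⟨_, fun _ _ => rfl⟩
  have hcc : ∀ s i, constantCoeff (cs s i) = (R s).coeff i := by
    intro s i
    rw [hcs, ← coeff_zero_eq_constantCoeff_apply, coeff_mk, zero_add]
  have hsh : ∀ s, (fun i => sh (cs s i)) = cs (s + 1) := by
    intro s
    funext i
    refine PowerSeries.ext fun k => ?_
    rw [sh, coeff_mk, hcs, hcs, coeff_mk, coeff_mk, show k + 1 + s = k + (s + 1) by omega]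
  have hP0 : ∀ s, P0 d (cs s) = R s := by
    intro s
    rw [P0]
    have : ∀ i : Fin d, Polynomial.C (constantCoeff (cs s i)) * Polynomial.X ^ (i : ℕ) =
        Polynomial.C ((R s).coeff i) * Polynomial.X ^ (i : ℕ) := by
      intro i; rw [hcc]
    rw [Finset.sum_congr rfl (fun i _ => this i)]
    exact poly_eq_sum (R s) (hdeg s)
  obtain ⟨D, hD⟩ : ∃ D : ℕ → PowerSeries A, ∀ s, D s = Q s - S f d (cs s) := ⟨_, fun _ => rfl⟩
  have hDs : ∀ s, D s = f * D (s + 1) := by
    intro s
    rw [hD, hD, S_peel hf0 d (cs s), hsh, hP0]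
    conv_lhs => rw [hQR s]
    ring
  have hDK : ∀ K, D 0 = f ^ K * D K := by
    intro K
    induction K with
    | zero => rw [pow_zero, one_mul]
    | succ K ih => rw [ih, hDs K, pow_succ]; ring
  have hD0 : D 0 = 0 := by
    refine PowerSeries.ext fun j => ?_
    rw [map_zero]
    have h1 : (X : PowerSeries A) ^ (j + 1) ∣ D 0 := by
      rw [hDK (j + 1)]
      exact dvd_mul_of_dvd_left (pow_dvd_pow_of_dvd (X_dvd_iff.mpr hf0) (j + 1)) _
    exact X_pow_dvd_iff.mp h1 j (Nat.lt_succ_self j)
  refine ⟨cs 0, ?_⟩
  rw [hD, hQ0] at hD0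
  exact sub_eq_zero.mp hD0

theorem fin_of_not_mem (f : PowerSeries A) (hf0 : constantCoeff f = 0)
    (hex : ∃ N, coeff N f ∉ IsLocalRing.maximalIdeal A) :
    ∃ (n : ℕ) (b : Fin n → PowerSeries A), ∀ g : PowerSeries A,
      ∃! c : Fin n → PowerSeries A, g = ∑ i, PowerSeries.subst f (c i) * b i := by
  have hg : f.map (IsLocalRing.residue A) ≠ 0 := by
    intro h
    obtain ⟨N, hN⟩ := hex
    apply hN
    have := congrArg (coeff N) h
    rw [coeff_map, map_zero, IsLocalRing.residue_eq_zero_iff] at this
    exact this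
  refine ⟨(f.map (IsLocalRing.residue A)).order.toNat, fun i => X ^ (i : ℕ), ?_⟩
  intro g
  obtain ⟨c, hc⟩ := S_surj hf0 hg g
  refine ⟨c, hc, ?_⟩
  intro c' hc'
  have hc'' : g = S f _ c' := hc'
  have h0 : S f _ (fun i => c' i - c i) = 0 := by
    rw [S_sub hf0, ← hc'', ← hc, sub_self]
  funext i
  refine PowerSeries.ext fun k => ?_
  have := S_inj hf0 hg (k + 1) _ h0 i k (Nat.lt_succ_self k)
  rw [map_sub, sub_eq_zero] at this
  exact this

end Complete

section Residue
variable {A : Type*} [CommRing A] [IsLocalRing A]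

theorem not_fin_of_all_mem (f : PowerSeries A) (hf0 : constantCoeff f = 0)
    (hall : ∀ N, coeff N f ∈ IsLocalRing.maximalIdeal A)
    (n : ℕ) (b : Fin n → PowerSeries A)
    (hrep : ∀ g : PowerSeries A, ∃ c : Fin n → PowerSeries A,
      g = ∑ i, PowerSeries.subst f (c i) * b i) : False := by
  obtain ⟨ρ, hρ⟩ : ∃ ρ : A →+* IsLocalRing.ResidueField A, ρ = IsLocalRing.residue A := ⟨_, rfl⟩
  have hρs : Function.Surjective ρ := by rw [hρ]; exact IsLocalRing.residue_surjective
  have hMf : PowerSeries.map ρ f = 0 := by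
    refine PowerSeries.ext fun N => ?_
    rw [coeff_map, map_zero, hρ, IsLocalRing.residue_eq_zero_iff]
    exact hall N
  have hM : ∀ c : PowerSeries A, PowerSeries.map ρ (PowerSeries.subst f c) =
      C (ρ (constantCoeff c)) := by
    intro c
    rw [subst_peel hf0 c, map_add, map_mul, hMf, zero_mul, add_zero, map_C]
  obtain ⟨bbar, hbbar⟩ : ∃ bbar : Fin n → PowerSeries (IsLocalRing.ResidueField A),
      ∀ i, bbar i = PowerSeries.map ρ (b i) := ⟨_, fun _ => rfl⟩
  have hspan : Submodule.span (IsLocalRing.ResidueField A) (Set.range bbar) = ⊤ := by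
    rw [eq_top_iff]
    intro gbar _
    obtain ⟨g, hgdef⟩ : ∃ g : PowerSeries A, PowerSeries.map ρ g = gbar := by
      refine ⟨PowerSeries.mk (fun j => Classical.choose (hρs (coeff j gbar))), ?_⟩
      refine PowerSeries.ext fun j => ?_
      rw [coeff_map, coeff_mk]
      exact Classical.choose_spec (hρs (coeff j gbar))
    obtain ⟨c, hc⟩ := hrep g
    rw [← hgdef, hc, map_sum]
    refine Submodule.sum_mem _ fun i _ => ?_
    rw [map_mul, hM, ← hbbar, ← PowerSeries.smul_eq_C_mul]
    exact Submodule.smul_mem _ _ (Submodule.subset_span ⟨i, rfl⟩)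
  haveI hfin : Module.Finite (IsLocalRing.ResidueField A)
      (PowerSeries (IsLocalRing.ResidueField A)) := by
    rw [Module.finite_def, ← hspan]
    exact Submodule.fg_span (Set.finite_range bbar)
  have h1 : Module.finrank (IsLocalRing.ResidueField A)
      (PowerSeries (IsLocalRing.ResidueField A)) ≤ n := by
    have h := finrank_range_le_card (R := IsLocalRing.ResidueField A) bbar
    have h' : Module.finrank (IsLocalRing.ResidueField A)
        (Submodule.span (IsLocalRing.ResidueField A) (Set.range bbar)) ≤ Fintype.card (Fin n) := h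
    rw [hspan, finrank_top, Fintype.card_fin] at h'
    exact h'
  have hli : LinearIndependent (IsLocalRing.ResidueField A)
      (fun j : Fin (n + 1) => (X : PowerSeries (IsLocalRing.ResidueField A)) ^ (j : ℕ)) := by
    rw [Fintype.linearIndependent_iff]
    intro a ha j₀
    have h := congrArg (coeff (j₀ : ℕ)) ha
    rw [map_sum, map_zero, Finset.sum_eq_single j₀] at h
    · rw [map_smul, coeff_X_pow_self, smul_eq_mul, mul_one] at h
      exact h
    · intro j _ hj
      rw [map_smul, coeff_X_pow, if_neg, smul_zero]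
      intro hjj
      apply hj
      exact Fin.ext hjj.symm
    · intro h'; exact absurd (Finset.mem_univ _) h'
  have h2 := hli.fintype_card_le_finrank
  rw [Fintype.card_fin] at h2
  omega

end Residue



/-- Let O be a complete discrete valuation ring whose maximal ideal m contains the prime number p, and
let F be a one-dimensional formal group law over O, with multiplication-by-p series f = [p]_F(X) = X
+_F ⋯ +_F X ∈ O[[X]]. Then f has a coefficient outside m (f is not ≡ 0 mod m) if and only if F is
p-divisible in the sense that O[[X]] is free of finite rank over itself through the substitution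
endomorphism X ↦ f: there are finitely many power series b_1, …, b_n such that every power series g
can be written uniquely as Σ_i c_i(f(X))·b_i. (The published statement asserts instead that F is
p-divisible iff F does not reduce to X + Y modulo m; that is false — over the p-adic integers the
law φ⁻¹(φ(X) + φ(Y)) with φ = X + X^{p+1} is not congruent to X + Y modulo p, yet its
multiplication-by-p series φ⁻¹(pφ(X)) vanishes modulo p — and the printed proof establishes exactly
the criterion on f stated here.) The published setting is the valuation ring of a finite extension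
of ℚ_p; the argument uses only that O is a complete discrete valuation ring with p in its maximal
ideal. -/
theorem result
    (O : Type u) [CommRing O] [IsDomain O] [IsDiscreteValuationRing O]
    [IsAdicComplete (IsLocalRing.maximalIdeal O) O]
    (p : ℕ) [Fact p.Prime] (hp : (p : O) ∈ IsLocalRing.maximalIdeal O)
    (F : FormalGroup O) :
    (∃ n : ℕ, PowerSeries.coeff n
        ((p • (show F.Point Unit from ⟨PowerSeries.X, PowerSeries.HasSubst.X'⟩)).val) ∉
          IsLocalRing.maximalIdeal O) ↔
      ∃ (n : ℕ) (b : Fin n → PowerSeries O), ∀ g : PowerSeries O, ∃! c : Fin n → PowerSeries O,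
        g = ∑ i, PowerSeries.subst
          ((p • (show F.Point Unit from ⟨PowerSeries.X, PowerSeries.HasSubst.X'⟩)).val) (c i) * b i := by
  have hprop := (p • (show F.Point Unit from ⟨PowerSeries.X, PowerSeries.HasSubst.X'⟩)).prop
  generalize hfdef : (p • (show F.Point Unit from ⟨PowerSeries.X, PowerSeries.HasSubst.X'⟩)).val = f
    at hprop ⊢
  have hf0 : PowerSeries.constantCoeff (f : PowerSeries O) = 0 := IsNilpotent.eq_zero hprop
  constructor
  · intro hex
    exact fin_of_not_mem (f : PowerSeries O) hf0 hex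
  · rintro ⟨n, b, hb⟩
    by_contra hne
    push_neg at hne
    exact not_fin_of_all_mem (f : PowerSeries O) hf0 hne n b (fun g => (hb g).exists)


end Groth.Agent.S18476
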