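import Groth.Statements.S18479
import Mathlib
-- import your own Groth.Agent.* helpers here

set_option autoImplicit false
universe u v
open scoped TensorProduct
open OortTate

namespace Groth.Agent.S18479

/-- `map (l₁ ⬝ e₁) (l₂ ⬝ e₂)` on tensors. -/
theorem map_smulRight {R : Type u} [CommRing R] {A : Type v} [CommRing A] [Algebra R A]
    (l₁ l₂ : A →ₗ[R] R) (e₁ e₂ : A) (t : A ⊗[R] A) :
    TensorProduct.map (l₁.smulRight e₁) (l₂.smulRight e₂) t =
      (LinearMap.mul' R R (TensorProduct.map l₁ l₂ t)) • (e₁ ⊗ₜ[R] e₂) := by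
  induction t using TensorProduct.induction_on with
  | zero => simp
  | tmul a b =>
    simp only [TensorProduct.map_tmul, LinearMap.smulRight_apply, LinearMap.mul'_apply]
    rw [TensorProduct.smul_tmul_smul]
  | add t t' ht ht' => simp only [map_add, ht, ht', add_smul]

/-- coordinates on `A = R·1 ⊕ R·x` -/
theorem exists_coord (R : Type u) [CommRing R] (A : Type v) [CommRing A] [HopfAlgebra R A]
    (x : A) (hx : Bialgebra.counitAlgHom R A x = 0)
    (hgen : ∀ f : A, Bialgebra.counitAlgHom R A f = 0 → ∃ r : R, f = r • x)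
    (hfree : ∀ r : R, r • x = 0 → r = 0) :
    ∃ c : A →ₗ[R] R, c 1 = 0 ∧ c x = 1 ∧
      ∀ f : A, f = (Bialgebra.counitAlgHom R A f) • (1 : A) + c f • x := by
  set ε := Bialgebra.counitAlgHom R A with hε
  have hε1 : ε 1 = 1 := map_one ε
  have h1 : ∀ f : A, ∃ r : R, f - ε f • (1 : A) = r • x := by
    intro f
    apply hgen
    rw [map_sub, map_smul, hε1, smul_eq_mul, mul_one, sub_self]
  choose c hc using h1
  have huniq : ∀ (f : A) (β : R), f - ε f • (1 : A) = β • x → β = c f := by
    intro f β h
    have : (β - c f) • x = 0 := by rw [sub_smul, ← h, ← hc f, sub_self]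
    exact sub_eq_zero.mp (hfree _ this)
  refine ⟨{ toFun := c, map_add' := ?_, map_smul' := ?_ }, ?_, ?_, ?_⟩
  · intro f g
    symm
    apply huniq
    rw [map_add, add_smul, add_smul, ← hc f, ← hc g]
    abel
  · intro r f
    symm
    apply huniq
    rw [map_smul, RingHom.id_apply, smul_assoc, smul_assoc, ← hc f, smul_sub]
  · symm
    apply huniq
    rw [hε1, one_smul, sub_self, zero_smul]
  · symm
    apply huniq
    rw [hx, zero_smul, sub_zero, one_smul]
  · intro f
    change f = ε f • (1 : A) + c f • x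
    rw [← hc f]
    abel


/-- Let R be a commutative ring and A a commutative Hopf algebra over R whose augmentation ideal ker ε
is a free R-module of rank one with generator x (this is the situation of a group scheme of order 2
over a local ring: A free of rank 2, so ker ε is free of rank 1). Then there are a, b ∈ R with x² =
a·x, Δ(x) = x ⊗ 1 + 1 ⊗ x + b·(x ⊗ x), and ab = −2; thus A is the Hopf algebra R[T]/(T² − aT) with
comultiplication T ↦ T ⊗ 1 + 1 ⊗ T + b T ⊗ T. (The copy works over a Noetherian local ring to get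
freeness; the computation uses only that ker ε is free on x.) -/
theorem result
    (R : Type u) [CommRing R] (A : Type v) [CommRing A] [HopfAlgebra R A]
    (x : A) (hx : Bialgebra.counitAlgHom R A x = 0)
    (hgen : ∀ f : A, Bialgebra.counitAlgHom R A f = 0 → ∃ r : R, f = r • x)
    (hfree : ∀ r : R, r • x = 0 → r = 0) :
    ∃ a b : R, x * x = a • x ∧
      Bialgebra.comulAlgHom R A x = x ⊗ₜ[R] 1 + 1 ⊗ₜ[R] x + b • (x ⊗ₜ[R] x) ∧ a * b = -2 := by
  obtain ⟨c, hc1, hcx, hdec⟩ := exists_coord R A x hx hgen hfree
  have hε1 : (Coalgebra.counit (R := R) (1 : A)) = 1 := Bialgebra.counit_one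
  have hεx : (Coalgebra.counit (R := R) x) = 0 := hx
  have hdec' : ∀ f : A, f = (Coalgebra.counit (R := R) f) • (1 : A) + c f • x := hdec
  -- identity decomposition
  have hid : (LinearMap.id : A →ₗ[R] A) =
      (Coalgebra.counit (R := R) (A := A)).smulRight (1 : A) + c.smulRight x := by
    ext f
    simp only [LinearMap.id_apply, LinearMap.add_apply, LinearMap.smulRight_apply]
    exact hdec' f
  -- decomposition of tensors
  let E : (A →ₗ[R] R) → (A →ₗ[R] R) → A ⊗[R] A →ₗ[R] R :=
    fun l₁ l₂ => LinearMap.mul' R R ∘ₗ TensorProduct.map l₁ l₂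
  have hE : ∀ l₁ l₂ e₁ e₂, E l₁ l₂ (e₁ ⊗ₜ e₂) = l₁ e₁ * l₂ e₂ := fun l₁ l₂ e₁ e₂ => rfl
  have hten : ∀ t : A ⊗[R] A, t =
      E Coalgebra.counit Coalgebra.counit t • ((1 : A) ⊗ₜ[R] (1 : A)) +
        E Coalgebra.counit c t • ((1 : A) ⊗ₜ[R] x) +
        (E c Coalgebra.counit t • (x ⊗ₜ[R] (1 : A)) + E c c t • (x ⊗ₜ[R] x)) := by
    intro t
    have h := congrArg (fun φ : A →ₗ[R] A => TensorProduct.map φ φ t) hid
    simp only [TensorProduct.map_id, LinearMap.id_apply] at h
    rw [TensorProduct.map_add_left, TensorProduct.map_add_right, TensorProduct.map_add_right] at h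
    simp only [LinearMap.add_apply, map_smulRight] at h
    exact h
  -- values at `Δ x`
  have hL : ∀ l : A →ₗ[R] R, E Coalgebra.counit l (Coalgebra.comul x) = l x := by
    intro l
    have h := Coalgebra.rTensor_counit_comul (R := R) x
    have h2 : TensorProduct.map (Coalgebra.counit (R := R) (A := A)) l =
        l.lTensor R ∘ₗ (Coalgebra.counit (R := R) (A := A)).rTensor A := by
      rw [LinearMap.lTensor_comp_rTensor]
    change LinearMap.mul' R R (TensorProduct.map Coalgebra.counit l (Coalgebra.comul x)) = l x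
    rw [h2, LinearMap.comp_apply, h, LinearMap.lTensor_tmul, LinearMap.mul'_apply, one_mul]
  have hR : ∀ l : A →ₗ[R] R, E l Coalgebra.counit (Coalgebra.comul x) = l x := by
    intro l
    have h := Coalgebra.lTensor_counit_comul (R := R) x
    have h2 : TensorProduct.map l (Coalgebra.counit (R := R) (A := A)) =
        l.rTensor R ∘ₗ (Coalgebra.counit (R := R) (A := A)).lTensor A := by
      rw [LinearMap.rTensor_comp_lTensor]
    change LinearMap.mul' R R (TensorProduct.map l Coalgebra.counit (Coalgebra.comul x)) = l x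
    rw [h2, LinearMap.comp_apply, h, LinearMap.rTensor_tmul, LinearMap.mul'_apply, mul_one]
  set b := E c c (Coalgebra.comul x) with hb
  have hΔ : Coalgebra.comul (R := R) x = x ⊗ₜ[R] 1 + 1 ⊗ₜ[R] x + b • (x ⊗ₜ[R] x) := by
    have h := hten (Coalgebra.comul x)
    rw [hL, hL, hR, hεx, hcx, zero_smul, zero_add, one_smul, one_smul, ← hb] at h
    rw [h]
    abel
  -- `x * x = a • x`
  set a := c (x * x) with ha
  have hxx : x * x = a • x := by
    have h := hdec' (x * x)
    rw [Bialgebra.counit_mul, hεx, zero_mul, zero_smul, zero_add] at h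
    exact h
  refine ⟨a, b, hxx, hΔ, ?_⟩
  -- multiplicativity of `Δ` at `x * x`
  have h1 : a ^ 2 * b ^ 2 + 2 + 4 * (a * b) = a * b := by
    have hm : Coalgebra.comul (R := R) (x * x) = Coalgebra.comul x * Coalgebra.comul x :=
      Bialgebra.comul_mul x x
    rw [hxx, map_smul, hΔ] at hm
    have hm' := congrArg (E c c) hm
    simp only [add_mul, mul_add, smul_mul_assoc, mul_smul_comm, Algebra.TensorProduct.tmul_mul_tmul,
      mul_one, one_mul, hxx, map_add, map_smul, hE, hc1, hcx, smul_eq_mul, TensorProduct.smul_tmul',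
      TensorProduct.tmul_smul] at hm'
    linear_combination -hm'
  -- antipode
  have hS : HopfAlgebra.antipode R x = c (HopfAlgebra.antipode R x) • x := by
    have h := hdec' (HopfAlgebra.antipode R x)
    rw [HopfAlgebra.counit_antipode, hεx, zero_smul, zero_add] at h
    exact h
  set s := c (HopfAlgebra.antipode R x) with hs
  have h2 : s + 1 + a * b * s = 0 := by
    apply hfree
    have h := HopfAlgebra.mul_antipode_rTensor_comul_apply (R := R) x
    rw [hΔ, hεx, map_zero] at h
    simp only [map_add, map_smul, LinearMap.rTensor_tmul, LinearMap.mul'_apply, HopfAlgebra.antipode_one,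
      mul_one, one_mul] at h
    rw [hS, smul_mul_assoc, hxx] at h
    rw [← h]
    module
  linear_combination (a * b + 2) * h2 - s * h1

end Groth.Agent.S18479
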