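import Groth.Statements.S18480
import Mathlib
-- import your own Groth.Agent.* helpers here

set_option autoImplicit false
universe u v
open scoped TensorProduct
open OortTate

namespace Groth.Agent.S18480

section aux
variable {R : Type u} [CommRing R]

/-- the hypotheses on `(A, x, a, b)` -/
structure IsGen (R : Type u) [CommRing R] (A : Type v) [CommRing A] [HopfAlgebra R A]
    (x : A) (a b : R) : Prop where
  hx : Bialgebra.counitAlgHom R A x = 0
  hgen : ∀ f : A, Bialgebra.counitAlgHom R A f = 0 → ∃ r : R, f = r • x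
  hfree : ∀ r : R, r • x = 0 → r = 0
  hxa : x * x = a • x
  hxb : Bialgebra.comulAlgHom R A x = x ⊗ₜ[R] 1 + 1 ⊗ₜ[R] x + b • (x ⊗ₜ[R] x)

variable {A : Type v} [CommRing A] [HopfAlgebra R A] {x : A} {a b : R}
variable {A' : Type v} [CommRing A'] [HopfAlgebra R A'] {x' : A'} {a' b' : R}

lemma IsGen.decomp (h : IsGen R A x a b) (f : A) :
    ∃ β : R, f = algebraMap R A (Bialgebra.counitAlgHom R A f) + β • x := by
  have h0 : Bialgebra.counitAlgHom R A (f - algebraMap R A (Bialgebra.counitAlgHom R A f)) = 0 := by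
    rw [map_sub, AlgHom.commutes]
    simp
  obtain ⟨β, hβ⟩ := h.hgen _ h0
  exact ⟨β, by rw [← hβ]; ring⟩

lemma IsGen.alghom_ext (h : IsGen R A x a b) {C : Type*} [Semiring C] [Algebra R C]
    (F G : A →ₐ[R] C) (hFG : F x = G x) : F = G := by
  ext f
  obtain ⟨β, hβ⟩ := h.decomp f
  rw [hβ, map_add, map_add, AlgHom.commutes, AlgHom.commutes, map_smul, map_smul, hFG]

lemma IsGen.li (h : IsGen R A x a b) : LinearIndependent R ![(1 : A), x] := by
  rw [LinearIndependent.pair_iff]
  intro s t hst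
  have h1 := congrArg (Bialgebra.counitAlgHom R A) hst
  rw [map_add, map_smul, map_smul, h.hx, map_one, map_zero] at h1
  have hs : s = 0 := by simpa using h1
  refine ⟨hs, ?_⟩
  rw [hs, zero_smul, zero_add] at hst
  exact h.hfree t hst

lemma IsGen.sp (h : IsGen R A x a b) : ⊤ ≤ Submodule.span R (Set.range ![(1 : A), x]) := by
  intro f _
  obtain ⟨β, hβ⟩ := h.decomp f
  have hr : Set.range ![(1 : A), x] = {1, x} := by
    ext z
    simp only [Set.mem_range, Set.mem_insert_iff, Set.mem_singleton_iff]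
    constructor
    · rintro ⟨i, rfl⟩
      fin_cases i
      · left; rfl
      · right; rfl
    · rintro (rfl | rfl)
      · exact ⟨0, rfl⟩
      · exact ⟨1, rfl⟩
  rw [hr, Submodule.mem_span_pair]
  refine ⟨Bialgebra.counitAlgHom R A f, β, ?_⟩
  rw [Algebra.algebraMap_eq_smul_one] at hβ
  exact hβ.symm

/-- the basis `{1, x}` -/
noncomputable def IsGen.basis (h : IsGen R A x a b) : Module.Basis (Fin 2) R A :=
  Module.Basis.mk h.li h.sp

lemma IsGen.basis_zero (h : IsGen R A x a b) : h.basis 0 = 1 := by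
  simp [IsGen.basis]

lemma IsGen.basis_one (h : IsGen R A x a b) : h.basis 1 = x := by
  simp [IsGen.basis]

lemma IsGen.tmul_free (h : IsGen R A x a b) (r : R) (hr : r • (x ⊗ₜ[R] x) = 0) : r = 0 := by
  have h1 : x ⊗ₜ[R] x = (h.basis.tensorProduct h.basis) (1, 1) := by
    rw [Module.Basis.tensorProduct_apply, h.basis_one]
  rw [h1] at hr
  have h2 := congrArg (fun t => (h.basis.tensorProduct h.basis).repr t (1, 1)) hr
  simpa using h2

/-- the linear map `1 ↦ 1`, `x ↦ s • x'` -/
noncomputable def IsGen.lin (h : IsGen R A x a b) (x' : A') (s : R) : A →ₗ[R] A' :=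
  h.basis.constr R ![(1 : A'), s • x']

lemma IsGen.lin_one (h : IsGen R A x a b) (x' : A') (s : R) : h.lin x' s 1 = 1 := by
  rw [← h.basis_zero, IsGen.lin, Module.Basis.constr_basis]
  rfl

lemma IsGen.lin_x (h : IsGen R A x a b) (x' : A') (s : R) : h.lin x' s x = s • x' := by
  have h1 := Module.Basis.constr_basis h.basis R ![(1 : A'), s • x'] 1
  rw [h.basis_one] at h1
  exact h1

lemma IsGen.lin_apply (h : IsGen R A x a b) (x' : A') (s : R) (α β : R) :
    h.lin x' s (algebraMap R A α + β • x) = algebraMap R A' α + (β * s) • x' := by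
  rw [map_add, map_smul, h.lin_x, Algebra.algebraMap_eq_smul_one, map_smul, h.lin_one,
    Algebra.algebraMap_eq_smul_one, smul_smul]

lemma IsGen.lin_mul (h : IsGen R A x a b) (h' : IsGen R A' x' a' b') (s : R)
    (h1 : a = a' * s) (f g : A) : h.lin x' s (f * g) = h.lin x' s f * h.lin x' s g := by
  obtain ⟨β, hβ⟩ := h.decomp f
  obtain ⟨δ, hδ⟩ := h.decomp g
  set α := Bialgebra.counitAlgHom R A f
  set γ := Bialgebra.counitAlgHom R A g
  have hfg : f * g = algebraMap R A (α * γ) + (α * δ + β * γ + β * δ * a) • x := by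
    rw [hβ, hδ]
    simp only [Algebra.smul_def, map_mul, map_add]
    have hxa := h.hxa
    rw [Algebra.smul_def] at hxa
    linear_combination (algebraMap R A β * algebraMap R A δ) * hxa
  rw [hfg, h.lin_apply, hβ, hδ, h.lin_apply, h.lin_apply]
  simp only [Algebra.smul_def, map_mul, map_add]
  have hxa' := h'.hxa
  rw [Algebra.smul_def] at hxa'
  rw [h1]
  simp only [map_mul]
  linear_combination (-(algebraMap R A' β * algebraMap R A' δ * algebraMap R A' s * algebraMap R A' s)) * hxa'

/-- the algebra map -/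
noncomputable def IsGen.alg (h : IsGen R A x a b) (h' : IsGen R A' x' a' b') (s : R)
    (h1 : a = a' * s) : A →ₐ[R] A' :=
  AlgHom.ofLinearMap (h.lin x' s) (h.lin_one x' s) (h.lin_mul h' s h1)

lemma IsGen.alg_x (h : IsGen R A x a b) (h' : IsGen R A' x' a' b') (s : R)
    (h1 : a = a' * s) : h.alg h' s h1 x = s • x' := h.lin_x x' s

lemma IsGen.mk_hom (h : IsGen R A x a b) (h' : IsGen R A' x' a' b') (s : R)
    (h1 : a = a' * s) (h2 : b' = b * s) : ∃ φ : A →ₐc[R] A', φ x = s • x' := by
  refine ⟨BialgHom.ofAlgHom (h.alg h' s h1) ?_ ?_, h.alg_x h' s h1⟩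
  · apply h.alghom_ext
    rw [AlgHom.comp_apply, h.alg_x, map_smul, h'.hx, h.hx, smul_zero]
  · apply h.alghom_ext
    rw [AlgHom.comp_apply, AlgHom.comp_apply, h.hxb, h.alg_x, map_smul, h'.hxb, map_add, map_add,
      map_smul]
    simp only [Algebra.TensorProduct.map_tmul, h.alg_x, map_one]
    rw [h2]
    simp only [TensorProduct.smul_tmul', TensorProduct.tmul_smul, smul_add, smul_smul]
    congr 1
    rw [mul_comm s (b * s), mul_assoc]

end aux

/-- Let R be a commutative ring and let A and A' be commutative Hopf algebras over R whose augmentation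
ideals are free of rank one with generators x and x', with constants a, b and a', b' ∈ R such that
x² = a x, Δ(x) = x ⊗ 1 + 1 ⊗ x + b x ⊗ x and x'² = a' x', Δ(x') = x' ⊗ 1 + 1 ⊗ x' + b' x' ⊗ x' (the
group schemes of order two G_{a,b} and G_{a',b'}). Then A and A' are isomorphic as bialgebras over R
(G_{a,b} ≅ G_{a',b'} as group schemes) if and only if there is a unit s of R with a = a'·s and b' =
b·s. -/
theorem result
    (R : Type u) [CommRing R] (A : Type v) [CommRing A] [HopfAlgebra R A]
    (x : A) (hx : Bialgebra.counitAlgHom R A x = 0)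
    (hgen : ∀ f : A, Bialgebra.counitAlgHom R A f = 0 → ∃ r : R, f = r • x)
    (hfree : ∀ r : R, r • x = 0 → r = 0)
    (a b : R) (hxa : x * x = a • x)
    (hxb : Bialgebra.comulAlgHom R A x = x ⊗ₜ[R] 1 + 1 ⊗ₜ[R] x + b • (x ⊗ₜ[R] x))
    (A' : Type v) [CommRing A'] [HopfAlgebra R A']
    (x' : A') (hx' : Bialgebra.counitAlgHom R A' x' = 0)
    (hgen' : ∀ f : A', Bialgebra.counitAlgHom R A' f = 0 → ∃ r : R, f = r • x')
    (hfree' : ∀ r : R, r • x' = 0 → r = 0)
    (a' b' : R) (hxa' : x' * x' = a' • x')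
    (hxb' : Bialgebra.comulAlgHom R A' x' = x' ⊗ₜ[R] 1 + 1 ⊗ₜ[R] x' + b' • (x' ⊗ₜ[R] x')) :
    Nonempty (A ≃ₐc[R] A') ↔ ∃ s : Rˣ, a = a' * (s : R) ∧ b' = b * (s : R) := by
  have h : IsGen R A x a b := ⟨hx, hgen, hfree, hxa, hxb⟩
  have h' : IsGen R A' x' a' b' := ⟨hx', hgen', hfree', hxa', hxb'⟩
  constructor
  · rintro ⟨φ⟩
    -- φ x = s • x'
    have e1 : Bialgebra.counitAlgHom R A' (φ x) = 0 := by
      have := CoalgHomClass.counit_comp_apply φ x
      rw [Bialgebra.counitAlgHom_apply, this, ← Bialgebra.counitAlgHom_apply, hx]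
    obtain ⟨s, hs⟩ := hgen' _ e1
    have e2 : Bialgebra.counitAlgHom R A (φ.symm x') = 0 := by
      have := CoalgHomClass.counit_comp_apply φ.symm x'
      rw [Bialgebra.counitAlgHom_apply, this, ← Bialgebra.counitAlgHom_apply, hx']
    obtain ⟨s', hs'⟩ := hgen _ e2
    have hss : s * s' = 1 := by
      have h3 : φ.symm (φ x) = x := φ.symm_apply_apply x
      rw [hs, map_smul, hs', smul_smul] at h3
      have h4 : (s * s' - 1) • x = 0 := by rw [sub_smul, h3, one_smul, sub_self]
      have := hfree _ h4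
      linear_combination this
    refine ⟨Units.mkOfMulEqOne s s' hss, ?_, ?_⟩
    · -- a = a' * s
      have h3 : φ (x * x) = φ x * φ x := map_mul φ x x
      rw [hxa, map_smul, hs, smul_mul_smul_comm, hxa', smul_smul, smul_smul] at h3
      have h4 : (a * s - s * s * a') • x' = 0 := by rw [sub_smul, h3, sub_self]
      have h5 := hfree' _ h4
      show a = a' * s
      linear_combination s' * h5 - (a - a' * s) * hss
    · -- b' = b * s
      have h3 := CoalgHomClass.map_comp_comul_apply φ x
      rw [← Bialgebra.comulAlgHom_apply, ← Bialgebra.comulAlgHom_apply, hxb, hs, map_smul, hxb',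
        map_add, map_add, map_smul] at h3
      simp only [TensorProduct.map_tmul] at h3
      have h3' : (φ x) ⊗ₜ[R] (φ 1) + (φ 1) ⊗ₜ[R] (φ x) + b • ((φ x) ⊗ₜ[R] (φ x)) =
          s • (x' ⊗ₜ[R] (1 : A') + (1 : A') ⊗ₜ[R] x' + b' • (x' ⊗ₜ[R] x')) := h3
      rw [map_one, hs] at h3'
      simp only [TensorProduct.smul_tmul', TensorProduct.tmul_smul, smul_add, smul_smul] at h3'
      have h3 := h3'
      have h4 : (b * s * s - s * b') • (x' ⊗ₜ[R] x') = 0 := by
        rw [sub_smul]
        have := h3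
        rw [add_right_inj] at this
        rw [← TensorProduct.smul_tmul', ← TensorProduct.smul_tmul'] at this
        rw [sub_eq_zero]
        convert this using 2
        ring
      have h5 := h'.tmul_free _ h4
      show b' = b * s
      linear_combination (-s') * h5 - (b' - b * s) * hss
  · rintro ⟨s, h1, h2⟩
    have h1' : a' = a * ((s⁻¹ : Rˣ) : R) := by
      rw [h1, mul_assoc, Units.mul_inv, mul_one]
    have h2' : b = b' * ((s⁻¹ : Rˣ) : R) := by
      rw [h2, mul_assoc, Units.mul_inv, mul_one]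
    obtain ⟨φ, hφ⟩ := h.mk_hom h' (s : R) h1 h2
    obtain ⟨ψ, hψ⟩ := h'.mk_hom h ((s⁻¹ : Rˣ) : R) h1' h2'
    refine ⟨BialgEquiv.ofBialgHom φ ψ ?_ ?_⟩
    · have : ((φ.comp ψ : A' →ₐc[R] A') : A' →ₐ[R] A') = AlgHom.id R A' := by
        apply h'.alghom_ext
        show φ (ψ x') = x'
        rw [hψ, map_smul, hφ, smul_smul, Units.inv_mul, one_smul]
      ext f
      exact AlgHom.congr_fun this f
    · have : ((ψ.comp φ : A →ₐc[R] A) : A →ₐ[R] A) = AlgHom.id R A := by
        apply h.alghom_ext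
        show ψ (φ x) = x
        rw [hφ, map_smul, hψ, smul_smul, Units.mul_inv, one_smul]
      ext f
      exact AlgHom.congr_fun this f

end Groth.Agent.S18480
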