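import Groth.Statements.S18484
import Mathlib
import Groth.Agent.S18498

set_option autoImplicit false
universe u
open CategoryTheory CategoryTheory.Limits AlgebraicGeometry MonObj
open Neron

namespace Groth.Agent.S18484


theorem result' (R : Type u) [CommRing R] [IsDedekindDomain R]
    (X G : Over (Spec (CommRingCat.of R)))
    (hX : Neron.IsNeronModelOf R X ((Neron.genericFibre R).obj X) (Iso.refl _))
    (i : G ⟶ X) [IsClosedImmersion i.left] [Smooth G.hom] :
    Neron.IsNeronModelOf R G ((Neron.genericFibre R).obj G) (Iso.refl _) := by
  obtain ⟨hXs, hXsep, hXlft, hXqc, hXN⟩ := hX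
  have hw : i.left ≫ X.hom = G.hom := Over.w i
  have hGsep : IsSeparated G.hom := by rw [← hw]; infer_instance
  refine ⟨inferInstance, hGsep, ?_, ?_, ?_⟩
  · rw [← hw]; infer_instance
  · rw [← hw]; infer_instance
  · intro Y hY
    haveI : Flat Y.hom := inferInstance
    constructor
    · intro g₁ g₂ h12
      dsimp only at h12
      rw [Iso.refl_hom, Category.comp_id, Category.comp_id] at h12
      exact Groth.Agent.S18498.result' R Y G g₁ g₂ h12
    · intro u
      dsimp only
      obtain ⟨v, hv⟩ := (hXN Y hY).surjective (u ≫ (Neron.genericFibre R).map i)
      dsimp only at hv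
      rw [Iso.refl_hom, Category.comp_id] at hv
      -- the generic fibre inclusion is schematically dominant
      let p := pullback.fst Y.hom (Neron.genPt R)
      haveI := Groth.Agent.S18498.schDominant_genPt R
      haveI : IsSchemeTheoreticallyDominant p := inferInstance
      have e : ∀ {A B : Over (Spec (CommRingCat.of R))} (k : A ⟶ B),
          ((Neron.genericFibre R).map k).left ≫ pullback.fst B.hom (Neron.genPt R) =
          pullback.fst A.hom (Neron.genPt R) ≫ k.left := fun k => pullback.lift_fst _ _ _
      have hpv : p ≫ v.left = (u.left ≫ pullback.fst G.hom (Neron.genPt R)) ≫ i.left := by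
        rw [← e v, hv, Over.comp_left, Category.assoc, e i, Category.assoc]
      have hker : i.left.ker ≤ v.left.ker := by
        have h1 : (p ≫ v.left).ker = v.left.ker := by
          rw [Scheme.Hom.ker_comp, IsSchemeTheoreticallyDominant.ker_eq_bot p,
            Scheme.IdealSheafData.map_bot]
        rw [← h1, hpv]
        exact Scheme.Hom.le_ker_comp _ _
      let gl := IsClosedImmersion.lift i.left v.left hker
      have hgl : gl ≫ i.left = v.left := IsClosedImmersion.lift_fac _ _ _
      let g : Y ⟶ G := Over.homMk gl (by rw [← hw, ← Category.assoc, hgl]; exact Over.w v)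
      have hgi : g ≫ i = v := by ext1; exact hgl
      refine ⟨g, ?_⟩
      rw [Iso.refl_hom, Category.comp_id]
      -- `i_K` is a monomorphism
      haveI : Mono i := Over.mono_of_mono_left i
      haveI : Mono ((Neron.genericFibre R).map i) := inferInstance
      rw [← cancel_mono ((Neron.genericFibre R).map i), ← Functor.map_comp, hgi, hv]



/-- Let R be a Dedekind domain with fraction field K, X a Spec R-scheme which is a Néron model of its
generic fibre X_K, and i : G → X a closed immersion with G smooth over Spec R. Then G is a Néron
model of its generic fibre G_K: smooth, separated, of finite type, and for every smooth Spec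
R-scheme Y restriction to generic fibres is a bijection from R-morphisms Y → G onto K-morphisms Y_K
→ G_K. (The source states this for a closed subgroup scheme of a Néron model; the group laws play no
part and are not assumed. The converse direction of the source, that a Néron model is a closed
subgroup of a Néron model, is immediate and not stated.) -/
theorem result (R : Type u) [CommRing R] [IsDedekindDomain R]
    (X G : Over (Spec (CommRingCat.of R))) (hX : Neron.IsNeronModelOf R X ((Neron.genericFibre R).obj X) (Iso.refl _))
    (i : G ⟶ X) [IsClosedImmersion i.left] [Smooth G.hom] :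
    Neron.IsNeronModelOf R G ((Neron.genericFibre R).obj G) (Iso.refl _) := by
  exact Groth.Agent.S18484.result' R X G hX i

end Groth.Agent.S18484
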