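import Groth.Statements.S18485
import Groth.Agent.Lib.Helper1.GenFinN

set_option autoImplicit false
universe u
open CategoryTheory CategoryTheory.Limits AlgebraicGeometry MonObj
open Neron

namespace Groth.Agent.S18485

open CategoryTheory CategoryTheory.Limits AlgebraicGeometry

theorem isUnit_of_flat_of_dim_zero {A O : Type u} [CommRing A] [IsDomain A] [CommRing O]
    [IsLocalRing O] (φ : A →+* O) (hφ : φ.Flat) (hO : ringKrullDim O = 0) (a : A) (ha : a ≠ 0) :
    IsUnit (φ a) := by
  letI := φ.toAlgebra
  haveI : Module.Flat A O := hφ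
  haveI : Ring.KrullDimLE 0 O := Ring.krullDimLE_iff.mpr (by rw [hO]; rfl)
  have hreg : IsSMulRegular O a :=
    Module.Flat.isSMulRegular_of_nonZeroDivisors (mem_nonZeroDivisors_of_ne_zero ha)
  by_contra hu
  have hnil : IsNilpotent (φ a) := Ring.KrullDimLE.isNilpotent_iff_mem_nonunits.mpr hu
  obtain ⟨n, hn⟩ := hnil
  have h1 : IsSMulRegular O (a ^ n) := hreg.pow n
  have h2 : (a ^ n) • (1 : O) = (a ^ n) • (0 : O) := by
    rw [smul_zero, Algebra.smul_def, _root_.mul_one]
    show φ (a ^ n) = 0
    rw [map_pow, hn]
  exact one_ne_zero (h1 h2)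

theorem qf_at_generic (R : Type u) [CommRing R] [IsDomain R] {Hl : Scheme.{u}}
    (h : Hl ⟶ Spec (CommRingCat.of R)) [Flat h]
    (hgen : LocallyQuasiFinite (pullback.snd h
      (Spec.map (CommRingCat.ofHom (algebraMap R (FractionRing R))))))
    (ξ : Hl) (hξ : ringKrullDim (Hl.presheaf.stalk ξ) = 0) : h.QuasiFiniteAt ξ := by
  rw [Scheme.Hom.quasiFiniteAt_iff]
  have hρ : Spec.map (StructureSheaf.toStalk R (h ξ) ≫ h.stalkMap ξ) =
      Hl.fromSpecStalk ξ ≫ h := by
    have e1 : (Spec (CommRingCat.of R)).fromSpecStalk (h ξ) =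
        Spec.map (StructureSheaf.toStalk R (h ξ)) :=
      Spec.fromSpecStalk_eq' (CommRingCat.of R) (h ξ)
    rw [Spec.map_comp, ← e1]
    exact Scheme.SpecMap_stalkMap_fromSpecStalk h (x := ξ)
  letI : Algebra R ((Spec (CommRingCat.of R)).presheaf.stalk (h ξ)) :=
    StructureSheaf.stalkAlgebra (R := R) (h ξ)
  haveI : IsLocalization.AtPrime ((Spec (CommRingCat.of R)).presheaf.stalk (h ξ))
      (h ξ).asIdeal := StructureSheaf.IsLocalization.to_stalk (R := R) (h ξ)
  have hinj : Function.Injective (StructureSheaf.toStalk R (h ξ)).hom :=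
    IsLocalization.injective ((Spec (CommRingCat.of R)).presheaf.stalk (h ξ))
      (M := (h ξ).asIdeal.primeCompl) (Ideal.primeCompl_le_nonZeroDivisors _)
  have hunit : ∀ r : R, r ≠ 0 →
      IsUnit ((StructureSheaf.toStalk R (h ξ) ≫ h.stalkMap ξ).hom r) := by
    intro r hr
    have h0 : (StructureSheaf.toStalk R (h ξ)).hom r ≠ 0 := by
      intro h0
      exact hr (hinj (by rw [h0, map_zero]))
    exact isUnit_of_flat_of_dim_zero (h.stalkMap ξ).hom (Flat.stalkMap h ξ) hξ _ h0
  let ψ : FractionRing R →+* Hl.presheaf.stalk ξ :=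
    IsLocalization.lift (M := nonZeroDivisors R)
      (g := (StructureSheaf.toStalk R (h ξ) ≫ h.stalkMap ξ).hom)
      (fun y => hunit y (nonZeroDivisors.ne_zero y.2))
  have hψ : ψ.comp (algebraMap R (FractionRing R)) =
      (StructureSheaf.toStalk R (h ξ) ≫ h.stalkMap ξ).hom := IsLocalization.lift_comp _
  have hcomp : Hl.fromSpecStalk ξ ≫ h = Spec.map (CommRingCat.ofHom ψ) ≫
      Spec.map (CommRingCat.ofHom (algebraMap R (FractionRing R))) := by
    rw [← hρ, ← Spec.map_comp]
    congr 1
    ext x
    exact (congrArg (fun θ => θ x) hψ).symm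
  have h1 : Hl.fromSpecStalk ξ ≫ h =
      pullback.lift (Hl.fromSpecStalk ξ) (Spec.map (CommRingCat.ofHom ψ)) hcomp ≫
        pullback.snd h (Spec.map (CommRingCat.ofHom (algebraMap R (FractionRing R)))) ≫
          Spec.map (CommRingCat.ofHom (algebraMap R (FractionRing R))) := by
    rw [← pullback.condition, pullback.lift_fst_assoc]
  rw [h1]
  haveI : LocallyQuasiFinite
      (pullback.lift (Hl.fromSpecStalk ξ) (Spec.map (CommRingCat.ofHom ψ)) hcomp) := by
    haveI : LocallyQuasiFinite
        (pullback.lift (Hl.fromSpecStalk ξ) (Spec.map (CommRingCat.ofHom ψ)) hcomp ≫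
          pullback.fst h (Spec.map (CommRingCat.ofHom (algebraMap R (FractionRing R))))) := by
      rw [pullback.lift_fst]
      infer_instance
    exact LocallyQuasiFinite.of_comp _
      (pullback.fst h (Spec.map (CommRingCat.ofHom (algebraMap R (FractionRing R)))))
  haveI : LocallyQuasiFinite (Spec.map (CommRingCat.ofHom (algebraMap R (FractionRing R)))) :=
    (HasRingHomProperty.Spec_iff (P := @LocallyQuasiFinite)).mpr
      (RingHom.quasiFinite_algebraMap.mpr inferInstance)
  infer_instance

/-- Let R be a Dedekind domain with fraction field K and H a Spec R-scheme which is flat and locally of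
finite type over Spec R. If the generic fibre H_K is locally quasi-finite over K, then H is locally
quasi-finite over Spec R. (The published statement is about the schematic closure, in an S-group
algebraic space of finite type over a connected Dedekind scheme S, of a finite subgroup of the
generic fibre, which it asserts to be a quasi-finite S-group; this row is the statement about flat
schemes locally of finite type over an affine Dedekind base on which that rests. Locally
quasi-finite is meant here without a finite type clause, which is assumed separately.) -/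
theorem result (R : Type u) [CommRing R]
    [IsDedekindDomain R] (H : Over (Spec (CommRingCat.of R))) [Flat H.hom] [LocallyOfFiniteType H.hom]
    [LocallyQuasiFinite ((Neron.genericFibre R).obj H).hom] : LocallyQuasiFinite H.hom := by
  rw [← Scheme.Hom.quasiFiniteLocus_eq_top_iff, eq_top_iff]
  intro u _
  rw [Scheme.Hom.mem_quasiFiniteLocus]
  refine Groth.Agent.H1.GenFin.quasiFiniteAt_of_dim_le_one H.hom (H.hom u) ?_ ?_ u rfl
  · letI : Algebra R ((Spec (CommRingCat.of R)).presheaf.stalk (H.hom u)) :=
      StructureSheaf.stalkAlgebra (R := R) (H.hom u)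
    haveI : IsLocalization.AtPrime ((Spec (CommRingCat.of R)).presheaf.stalk (H.hom u))
        (H.hom u).asIdeal := StructureSheaf.IsLocalization.to_stalk (R := R) (H.hom u)
    rw [IsLocalization.AtPrime.ringKrullDim_eq_height (H.hom u).asIdeal
      ((Spec (CommRingCat.of R)).presheaf.stalk (H.hom u))]
    refine le_trans (Ideal.height_le_ringKrullDim_of_ne_top (H.hom u).isPrime.ne_top) ?_
    exact Ring.krullDimLE_iff.mp inferInstance
  · intro ξ hξ _
    exact qf_at_generic R H.hom
      (inferInstanceAs (LocallyQuasiFinite ((Neron.genericFibre R).obj H).hom)) ξ hξ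

end Groth.Agent.S18485
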