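import Groth.Statements.S18490
import Mathlib

set_option autoImplicit false
universe u
open CategoryTheory CategoryTheory.Limits AlgebraicGeometry
open FlatMor

namespace Groth.Agent.S18490

/-- Stalkwise retraction coming from a section. -/
theorem exists_stalk_retraction {X W : Scheme.{u}} (σ : X ⟶ W) (p : W ⟶ X) (hσ : σ ≫ p = 𝟙 X)
    (x : X) : ∃ c : (W.presheaf.stalk (σ x) : CommRingCat) ⟶ X.presheaf.stalk (p (σ x)),
      p.stalkMap (σ x) ≫ c = 𝟙 _ := by
  have hiso : IsOpenImmersion (σ ≫ p) := by rw [hσ]; infer_instance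
  have hiso' : IsIso ((σ ≫ p).stalkMap x) := inferInstance
  obtain ⟨c₀, hc₀⟩ : ∃ c₀ : X.presheaf.stalk x ⟶ X.presheaf.stalk ((σ ≫ p) x),
      (σ ≫ p).stalkMap x ≫ c₀ = 𝟙 _ := ⟨inv ((σ ≫ p).stalkMap x), IsIso.hom_inv_id _⟩
  refine ⟨σ.stalkMap x ≫ c₀, ?_⟩
  have h1 : p.stalkMap (σ x) ≫ σ.stalkMap x = (σ ≫ p).stalkMap x :=
    (Scheme.Hom.stalkMap_comp σ p x).symm
  change (p.stalkMap (σ x) ≫ σ.stalkMap x) ≫ c₀ = 𝟙 _
  rw [h1]
  exact hc₀

/-- A retract of a flat ring map is flat. -/
theorem flat_of_retract {R B C : Type u} [CommRing R] [CommRing B] [CommRing C]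
    (a : R →+* B) (b : B →+* C) (c : C →+* B) (hcb : c.comp b = RingHom.id B)
    (h : (b.comp a).Flat) : a.Flat := by
  let algB : Algebra R B := a.toAlgebra
  let algC : Algebra R C := (b.comp a).toAlgebra
  have hC : Module.Flat R C := h
  have hcb' : ∀ z, c (b z) = z := fun z => congrArg (fun φ : B →+* B => φ z) hcb
  let i : B →ₗ[R] C :=
    { toFun := b
      map_add' := map_add b
      map_smul' := fun r z => by
        change b (a r * z) = (b.comp a) r * b z
        rw [map_mul]
        rfl }
  let r : C →ₗ[R] B :=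
    { toFun := c
      map_add' := map_add c
      map_smul' := fun s z => by
        change c ((b.comp a) s * z) = a s * c z
        rw [map_mul]
        congr 1
        exact hcb' (a s) }
  exact Module.Flat.of_retract i r (LinearMap.ext fun z => hcb' z)


/-- Let f : X → S and g : Y → S be morphisms of schemes and suppose that g has a section y : S → Y. If
the structure morphism X ×_S Y → S (first projection followed by f) is quasi-compact, then so is f;
likewise for locally of finite type, for separated, and for flat. (Finite type, also listed in the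
source, is the conjunction of the first two.) -/
theorem result {X Y S : Scheme.{u}} (f : X ⟶ S) (g : Y ⟶ S)
    (y : S ⟶ Y) (hy : y ≫ g = 𝟙 S) :
    (QuasiCompact (pullback.fst f g ≫ f) → QuasiCompact f) ∧
    (LocallyOfFiniteType (pullback.fst f g ≫ f) → LocallyOfFiniteType f) ∧
    (IsSeparated (pullback.fst f g ≫ f) → IsSeparated f) ∧
    (Flat (pullback.fst f g ≫ f) → Flat f) := by
  obtain ⟨σ, hσ⟩ : ∃ σ : X ⟶ pullback f g, σ ≫ pullback.fst f g = 𝟙 X :=
    ⟨pullback.lift (𝟙 X) (f ≫ y) (by rw [Category.id_comp, Category.assoc, hy, Category.comp_id]),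
      pullback.lift_fst _ _ _⟩
  have hf : f = σ ≫ (pullback.fst f g ≫ f) := by rw [← Category.assoc, hσ, Category.id_comp]
  have hpt : ∀ x : X, (pullback.fst f g) (σ x) = x := by
    intro x
    have := congrArg (fun φ : X ⟶ X => φ x) hσ
    simpa using this
  refine ⟨?_, ?_, ?_, ?_⟩
  · intro hqc
    refine ⟨fun U hU hUc => ?_⟩
    have h1 := hqc.isCompact_preimage U hU hUc
    have h2 : (f ⁻¹' U : Set X) = (pullback.fst f g) '' ((pullback.fst f g ≫ f) ⁻¹' U) := by
      ext x
      constructor
      · intro hx
        refine ⟨σ x, ?_, hpt x⟩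
        change (pullback.fst f g ≫ f) (σ x) ∈ U
        rw [Scheme.Hom.comp_apply, hpt]
        exact hx
      · rintro ⟨w, hw, rfl⟩
        change f ((pullback.fst f g) w) ∈ U
        rw [← Scheme.Hom.comp_apply]
        exact hw
    rw [h2]
    exact h1.image (pullback.fst f g).continuous
  · intro hlft
    have : LocallyOfFiniteType (σ ≫ pullback.fst f g) := by rw [hσ]; infer_instance
    have hσlft : LocallyOfFiniteType σ := locallyOfFiniteType_of_comp σ (pullback.fst f g)
    rw [hf]
    infer_instance
  · intro hsep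
    have : IsSeparated (σ ≫ pullback.fst f g) := by rw [hσ]; infer_instance
    have hσsep : IsSeparated σ := IsSeparated.of_comp σ (pullback.fst f g)
    rw [hf]
    infer_instance
  · intro hflat
    rw [Flat.iff_flat_stalkMap]
    have key : ∀ x : X, (f.stalkMap ((pullback.fst f g) (σ x))).hom.Flat := by
      intro x
      have h0 : ((pullback.fst f g ≫ f).stalkMap (σ x)).hom.Flat :=
        Flat.stalkMap (pullback.fst f g ≫ f) (σ x)
      have hcomp : ((pullback.fst f g ≫ f).stalkMap (σ x)).hom =
          ((pullback.fst f g).stalkMap (σ x)).hom.comp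
            (f.stalkMap ((pullback.fst f g) (σ x))).hom :=
        (congrArg CommRingCat.Hom.hom
          (Scheme.Hom.stalkMap_comp (pullback.fst f g) f (σ x))).trans rfl
      have h1 : (((pullback.fst f g).stalkMap (σ x)).hom.comp
            (f.stalkMap ((pullback.fst f g) (σ x))).hom).Flat := by
        rw [← hcomp]
        exact h0
      obtain ⟨c, hc⟩ := exists_stalk_retraction σ (pullback.fst f g) hσ x
      refine flat_of_retract _ _ c.hom ?_ h1
      rw [← CommRingCat.hom_comp, hc, CommRingCat.hom_id]
    intro x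
    have := key x
    exact Eq.subst (motive := fun z => (f.stalkMap z).hom.Flat) (hpt x) this

end Groth.Agent.S18490
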