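import Groth.Statements.S18510
import Groth.Agent.Lib.Helper4.PBQuotMor

set_option autoImplicit false
universe u
open CategoryTheory MonoidalCategory CartesianMonoidalCategory MonObj GrpObj AlgebraicGeometry Topology
open EqInt

namespace Groth.Agent.S18510

/-- Over a field k, let an affine group scheme G of finite type act on X, on Y and on U (quasi-separated
schemes of finite type over k), let f : X → Y be G-equivariant, and let q_X : X × U → X_G and q_Y :
Y × U → Y_G be principal bundle quotients for the diagonal actions (each is invariant, flat and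
surjective, and (σ, p₂) into the fibre square over the quotient is an isomorphism), X_G and Y_G
being quasi-separated of finite type over k. Let f_G : X_G → Y_G satisfy f_G ∘ q_X = q_Y ∘ (f ×
id_U) as maps X × U → Y_G. If f is proper, resp. flat, resp. smooth, then so is f_G. (Stated for
schemes; the source allows algebraic spaces and also treats regular embeddings and local complete
intersection morphisms, which are not stated here.) -/
theorem result (k : Type u) [Field k]
    (G X Y U XG YG : Over (Spec (CommRingCat.of k))) [GrpObj G] [IsAffine G.left] [LocallyOfFiniteType G.hom]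
    [LocallyOfFiniteType X.hom] [QuasiCompact X.hom] [QuasiSeparated X.hom]
    [LocallyOfFiniteType Y.hom] [QuasiCompact Y.hom] [QuasiSeparated Y.hom]
    [LocallyOfFiniteType U.hom] [QuasiCompact U.hom] [QuasiSeparated U.hom]
    [LocallyOfFiniteType XG.hom] [QuasiCompact XG.hom] [QuasiSeparated XG.hom]
    [LocallyOfFiniteType YG.hom] [QuasiCompact YG.hom] [QuasiSeparated YG.hom]
    (a : AlgGrp.Action G X) (aY : AlgGrp.Action G Y) (b : AlgGrp.Action G U)
    (f : X ⟶ Y) (hf : AlgGrp.Action.IsEquivariant a aY f)
    (qX : X ⊗ U ⟶ XG) (hqX : GIT.IsInvariant (a.prod b) qX) [Flat qX.left] [Surjective qX.left]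
    (hcX : IsIso (GIT.PsiY (a.prod b) qX hqX))
    (qY : Y ⊗ U ⟶ YG) (hqY : GIT.IsInvariant (aY.prod b) qY) [Flat qY.left] [Surjective qY.left]
    (hcY : IsIso (GIT.PsiY (aY.prod b) qY hqY))
    (fG : XG ⟶ YG) (hfG : qX ≫ fG = (f ▷ U) ≫ qY) :
    (IsProper f.left → IsProper fG.left) ∧ (Flat f.left → Flat fG.left) ∧
      (Smooth f.left → Smooth fG.left) := by
  have hXU : QuasiCompact (X ⊗ U).hom := by
    rw [Over.tensorObj_hom]; infer_instance
  have hYU : QuasiCompact (Y ⊗ U).hom := by
    rw [Over.tensorObj_hom]; infer_instance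
  have hqc0 : QuasiCompact (qX.left ≫ XG.hom) := by rw [Over.w qX]; exact hXU
  have hqcX : QuasiCompact qX.left := QuasiCompact.of_comp qX.left XG.hom
  have hqc1 : QuasiCompact (qY.left ≫ YG.hom) := by rw [Over.w qY]; exact hYU
  have hqcY : QuasiCompact qY.left := QuasiCompact.of_comp qY.left YG.hom
  refine ⟨fun h => ?_, fun h => ?_, fun h => ?_⟩
  · exact Groth.Agent.Lib.Helper4.PBQuotMor.isProper_quot a aY b f hf qX hqX hcX qY hqY hcY fG hfG h
  · exact Groth.Agent.Lib.Helper4.PBQuotMor.prop_quot a aY b f hf qX hqX hcX qY hqY hcY fG hfG @Flat h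
  · exact Groth.Agent.Lib.Helper4.PBQuotMor.prop_quot a aY b f hf qX hqX hcX qY hqY hcY fG hfG @Smooth h

end Groth.Agent.S18510
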