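import Groth.Statements.S18519
import Mathlib
import Groth.Agent.Lib.Helper12.CSA8
import Groth.Agent.S13263
import Groth.Agent.S0193
-- import your own Groth.Agent.* helpers here

set_option autoImplicit false
universe u
open scoped TensorProduct
open Brauer

namespace Groth.Agent.S18519

section helpers
open Groth.Agent.Lib.helper12 Groth.Agent.Lib.helper12.CSA

/-- splitting is inherited by larger fields -/
theorem splits_of_tower (E F' M : Type*) [Field E] [Field F'] [Field M] [Algebra E F']
    [Algebra E M] [Algebra F' M] [IsScalarTower E F' M] (D : Type*) [Ring D] [Algebra E D]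
    (h : Curves.Splits E D F') : Curves.Splits E D M := by
  obtain ⟨n, hn, ⟨e⟩⟩ := h
  refine ⟨n, hn, ⟨?_⟩⟩
  exact (cancelBaseChangeAlg E F' M D).symm.trans
    ((Algebra.TensorProduct.congr (AlgEquiv.refl (R := M) (A₁ := M)) e).trans
      ((baseChangeMatrix F' M F' n).trans
        (AlgEquiv.mapMatrix (Algebra.TensorProduct.rid F' M M))))

/-- (a) ⇒ (b) -/
theorem dir1 (K F : Type u) [Field K] [Field F] [Algebra K F] [Algebra.IsSeparable K F]
    (ha : ∀ (F' : Type u) [Field F'] [Algebra F F'] [FiniteDimensional F F']
        [Algebra.IsSeparable F F']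
        (D : Type u) [DivisionRing D] [Algebra F' D] [Algebra.IsCentral F' D]
        [FiniteDimensional F' D], Module.finrank F' D = 1)
    (E : Type u) [Field E] [Algebra K E] [FiniteDimensional K E] [Algebra.IsSeparable K E]
    (D : Type u) [DivisionRing D] [Algebra E D] [Algebra.IsCentral E D] [FiniteDimensional E D]
    (M : Type u) [Field M] [Algebra K M] [Algebra E M] [Algebra F M] [IsScalarTower K E M]
    [IsScalarTower K F M] :
    ∃ n : ℕ, Nonempty ((M ⊗[E] D) ≃ₐ[M] Matrix (Fin n) (Fin n) M) := by
  classical
  let b := Module.finBasis K E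
  set S : Set M := (algebraMap E M) '' (Set.range b) with hS
  have hSfin : Finite S := (Set.finite_range b).image _
  have hint : ∀ x ∈ S, IsIntegral F x := by
    rintro _ ⟨e, -, rfl⟩
    have h1 : IsIntegral K e := Algebra.IsIntegral.isIntegral e
    have h2 : IsIntegral K (algebraMap E M e) := h1.map (IsScalarTower.toAlgHom K E M)
    exact h2.tower_top
  have hsep : ∀ x ∈ S, IsSeparable F x := by
    rintro _ ⟨e, -, rfl⟩
    have h1 : IsSeparable K e := Algebra.IsSeparable.isSeparable K e
    have h2 : IsSeparable K (algebraMap E M e) := by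
      unfold IsSeparable at h1 ⊢
      rw [minpoly.algebraMap_eq (algebraMap E M).injective]
      exact h1
    exact h2.tower_top F
  have hfd : FiniteDimensional F (IntermediateField.adjoin F S) :=
    IntermediateField.finiteDimensional_adjoin hint
  have hsepF' : Algebra.IsSeparable F (IntermediateField.adjoin F S) :=
    (IntermediateField.isSeparable_adjoin_iff_isSeparable F M).mpr hsep
  have hmem : ∀ e : E, algebraMap E M e ∈ IntermediateField.adjoin F S := by
    intro e
    rw [← b.sum_repr e, map_sum]
    apply sum_mem
    intro i _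
    rw [Algebra.smul_def, map_mul]
    apply mul_mem
    · rw [← IsScalarTower.algebraMap_apply, IsScalarTower.algebraMap_apply K F M]
      exact (IntermediateField.adjoin F S).algebraMap_mem _
    · exact IntermediateField.subset_adjoin F S ⟨b i, ⟨i, rfl⟩, rfl⟩
  let ι : E →+* IntermediateField.adjoin F S := (algebraMap E M).codRestrict _ hmem
  let _ : Algebra E (IntermediateField.adjoin F S) := ι.toAlgebra
  have htower : IsScalarTower E (IntermediateField.adjoin F S) M :=
    IsScalarTower.of_algebraMap_eq (fun _ => rfl)
  -- the base change to `F'` is split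
  have hcB : Algebra.IsCentral (IntermediateField.adjoin F S)
      ((IntermediateField.adjoin F S) ⊗[E] D) := isCentral_baseChange E _ D
  have hsB : IsSimpleRing ((IntermediateField.adjoin F S) ⊗[E] D) :=
    Groth.Agent.S0190.main E _ D
  obtain ⟨r, hr, D', _, _, _, _, ⟨w⟩⟩ := exists_algEquiv_matrix_central_divisionRing
    (IntermediateField.adjoin F S) ((IntermediateField.adjoin F S) ⊗[E] D)
  have h1 : Module.finrank (IntermediateField.adjoin F S) D' = 1 :=
    ha (IntermediateField.adjoin F S) D'
  obtain ⟨eD⟩ := Groth.Agent.S13263.algEquiv_of_finrank_one (IntermediateField.adjoin F S) D' h1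
  have hspl : Curves.Splits E D (IntermediateField.adjoin F S) :=
    ⟨r, hr, ⟨w.trans (AlgEquiv.mapMatrix eD)⟩⟩
  obtain ⟨n, -, hn⟩ := splits_of_tower E (IntermediateField.adjoin F S) M D hspl
  exact ⟨n, hn⟩

/-- (b) ⇒ (a) -/
theorem dir2 (K F : Type u) [Field K] [Field F] [Algebra K F] [Algebra.IsSeparable K F]
    (hb : ∀ (E : Type u) [Field E] [Algebra K E] [FiniteDimensional K E] [Algebra.IsSeparable K E]
        (D : Type u) [DivisionRing D] [Algebra E D] [Algebra.IsCentral E D]
        [FiniteDimensional E D]
        (M : Type u) [Field M] [Algebra K M] [Algebra E M] [Algebra F M] [IsScalarTower K E M]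
        [IsScalarTower K F M],
        ∃ n : ℕ, Nonempty ((M ⊗[E] D) ≃ₐ[M] Matrix (Fin n) (Fin n) M))
    (F' : Type u) [Field F'] [Algebra F F'] [FiniteDimensional F F'] [Algebra.IsSeparable F F']
    (D : Type u) [DivisionRing D] [Algebra F' D] [Algebra.IsCentral F' D]
    [FiniteDimensional F' D] :
    Module.finrank F' D = 1 := by
  classical
  let _ : Algebra K F' := ((algebraMap F F').comp (algebraMap K F)).toAlgebra
  have htKFF' : IsScalarTower K F F' := IsScalarTower.of_algebraMap_eq (fun _ => rfl)
  have hsepKF' : Algebra.IsSeparable K F' := Algebra.IsSeparable.trans K F F'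
  let b := Module.finBasis F' D
  set m := Module.finrank F' D with hm
  let S : Finset F' :=
    (Finset.univ.image fun q : Fin m × Fin m × Fin m => b.repr (b q.1 * b q.2.1) q.2.2) ∪
      (Finset.univ.image fun l : Fin m => b.repr 1 l)
  let E : IntermediateField K F' := IntermediateField.adjoin K (S : Set F')
  have hc : ∀ i j l, b.repr (b i * b j) l ∈ E := by
    intro i j l
    apply IntermediateField.subset_adjoin
    exact Finset.mem_coe.mpr (Finset.mem_union_left _
      (Finset.mem_image.mpr ⟨(i, j, l), Finset.mem_univ _, rfl⟩))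
  have ha1 : ∀ l, b.repr 1 l ∈ E := by
    intro l
    apply IntermediateField.subset_adjoin
    exact Finset.mem_coe.mpr (Finset.mem_union_right _
      (Finset.mem_image.mpr ⟨l, Finset.mem_univ _, rfl⟩))
  have hfdE : FiniteDimensional K E :=
    IntermediateField.finiteDimensional_adjoin
      (fun x _ => (Algebra.IsSeparable.isIntegral K x))
  have hsepE : Algebra.IsSeparable K E := Algebra.isSeparable_tower_bot_of_isSeparable K E F'
  -- the `E`-form of `D`
  let P : Submodule E D := Submodule.span E (Set.range b)
  have hbP : ∀ l, b l ∈ P := fun l => Submodule.subset_span ⟨l, rfl⟩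
  have hsum : ∀ (x : D), (∀ l, b.repr x l ∈ E) → x ∈ P := by
    intro x hx
    rw [← b.sum_repr x]
    apply Submodule.sum_mem
    intro l _
    have : b.repr x l • b l = (⟨b.repr x l, hx l⟩ : E) • b l := rfl
    rw [this]
    exact Submodule.smul_mem _ _ (hbP l)
  have hone : (1 : D) ∈ P := hsum 1 ha1
  have hmul : ∀ x y, x ∈ P → y ∈ P → x * y ∈ P := by
    intro x y hx hy
    induction hx, hy using Submodule.span_induction₂ with
    | mem_mem x y hx hy =>
      obtain ⟨i, rfl⟩ := hx
      obtain ⟨j, rfl⟩ := hy
      exact hsum _ (hc i j)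
    | zero_left y _ => rw [zero_mul]; exact P.zero_mem
    | zero_right x _ => rw [mul_zero]; exact P.zero_mem
    | add_left x y z _ _ _ h1 h2 => rw [add_mul]; exact P.add_mem h1 h2
    | add_right x y z _ _ _ h1 h2 => rw [mul_add]; exact P.add_mem h1 h2
    | smul_left r x y _ _ h => rw [smul_mul_assoc]; exact P.smul_mem _ h
    | smul_right r x y _ _ h => rw [mul_smul_comm]; exact P.smul_mem _ h
  let DE : Subalgebra E D := P.toSubalgebra hone hmul
  have hmemDE : ∀ x, x ∈ DE ↔ x ∈ P := fun x => Iff.rfl
  have hfdDE : FiniteDimensional E DE := by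
    have h1 : FiniteDimensional E P := FiniteDimensional.span_of_finite E (Set.finite_range b)
    have h2 : Subalgebra.toSubmodule DE = P := Submodule.toSubalgebra_toSubmodule P hone hmul
    have h3 : FiniteDimensional E (Subalgebra.toSubmodule DE) := by rw [h2]; exact h1
    exact Module.Finite.equiv (Subalgebra.toSubmoduleEquiv DE)
  have hdomDE : IsDomain DE := inferInstance
  let _ : DivisionRing DE := divisionRingOfFiniteDimensional E DE
  -- centrality
  have hcenDE : Algebra.IsCentral E DE := by
    refine ⟨fun z hz => ?_⟩
    rw [Subalgebra.mem_center_iff] at hz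
    have hzD : (z : D) ∈ Subalgebra.center F' D := by
      rw [Subalgebra.mem_center_iff]
      intro d
      rw [← b.sum_repr d, Finset.sum_mul, Finset.mul_sum]
      apply Finset.sum_congr rfl
      intro l _
      have h1 := congrArg Subtype.val (hz ⟨b l, hbP l⟩)
      simp only [MulMemClass.coe_mul] at h1
      rw [smul_mul_assoc, mul_smul_comm, h1]
    obtain ⟨lam, hlam⟩ := Algebra.mem_bot.mp (Algebra.IsCentral.out hzD)
    -- `lam ∈ E`
    obtain ⟨zc, hzc⟩ := (Submodule.mem_span_range_iff_exists_fun E).mp ((hmemDE z).mp z.2)
    have hcoord : ∀ l, ((zc l : E) : F') = lam * b.repr 1 l := by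
      intro l
      have h1 : b.repr (z : D) l = ((zc l : E) : F') := by
        rw [← hzc]
        have : (∑ i, zc i • b i) = ∑ i, ((zc i : E) : F') • b i := rfl
        rw [this, b.repr_sum_self]
      have h2 : b.repr (z : D) l = lam * b.repr 1 l := by
        rw [← hlam, Algebra.algebraMap_eq_smul_one, map_smul, Finsupp.smul_apply, smul_eq_mul]
      rw [← h1, h2]
    have hex : ∃ l, b.repr 1 l ≠ 0 := by
      by_contra hcon
      push Not at hcon
      have : (1 : D) = 0 := by
        rw [← b.sum_repr 1]
        apply Finset.sum_eq_zero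
        intro l _
        rw [hcon l, zero_smul]
      exact one_ne_zero this
    obtain ⟨l₀, hl₀⟩ := hex
    have hlamE : lam ∈ E := by
      have h := hcoord l₀
      have : lam = ((zc l₀ : E) : F') * (b.repr 1 l₀)⁻¹ := by
        rw [h, mul_assoc, mul_inv_cancel₀ hl₀, mul_one]
      rw [this]
      exact E.mul_mem (zc l₀).2 (E.inv_mem (ha1 l₀))
    rw [Algebra.mem_bot]
    refine ⟨⟨lam, hlamE⟩, ?_⟩
    apply Subtype.ext
    rw [← hlam]
    rfl
  -- the comparison isomorphism
  let μ : F' ⊗[E] DE →ₐ[F'] D :=
    Algebra.TensorProduct.lift (Algebra.ofId F' D) DE.val (fun x y => Algebra.commutes x _)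
  have hμsurj : Function.Surjective μ := by
    intro d
    refine ⟨∑ l, (b.repr d l) ⊗ₜ[E] (⟨b l, hbP l⟩ : DE), ?_⟩
    rw [map_sum]
    conv_rhs => rw [← b.sum_repr d]
    apply Finset.sum_congr rfl
    intro l _
    simp only [μ, Algebra.TensorProduct.lift_tmul, Algebra.ofId_apply, Subalgebra.coe_val]
    rw [Algebra.smul_def]
  have hrank1 : Module.finrank F' (F' ⊗[E] DE) ≤ m := by
    rw [Module.finrank_baseChange]
    have h2 : Subalgebra.toSubmodule DE = P := Submodule.toSubalgebra_toSubmodule P hone hmul
    rw [← (Subalgebra.toSubmoduleEquiv DE).finrank_eq, h2]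
    have := finrank_range_le_card (R := E) (b : Fin m → D)
    rwa [Fintype.card_fin] at this
  have hrank2 : m ≤ Module.finrank F' (F' ⊗[E] DE) :=
    LinearMap.finrank_le_finrank_of_surjective (f := μ.toLinearMap) hμsurj
  have hμinj : Function.Injective μ :=
    (LinearMap.injective_iff_surjective_of_finrank_eq_finrank (f := μ.toLinearMap)
      (le_antisymm hrank1 hrank2)).mpr hμsurj
  let χ₀ : F' ⊗[E] DE ≃ₐ[F'] D := AlgEquiv.ofBijective μ ⟨hμinj, hμsurj⟩
  obtain ⟨n, ⟨ψ⟩⟩ := hb E DE F'
  let χ : D ≃ₐ[F'] Matrix (Fin n) (Fin n) F' := χ₀.symm.trans ψ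
  have hn : n ≠ 0 := by
    rintro rfl
    have h1 : (1 : D) = 0 := χ.injective (Subsingleton.elim _ _)
    exact one_ne_zero h1
  obtain ⟨t⟩ := Groth.Agent.S0193.main F' D F' 1 n one_ne_zero hn
    ((oneByOneAlg F' D).trans χ)
  rw [hm, t.toLinearEquiv.finrank_eq, Module.finrank_self]

end helpers

/-- For a field K with maximal abelian extension K_ab, cd(K_ab) ≤ 1 if and only if for every etale
K-algebra E the restriction map Br(E) ⟶ Br(E ⊗_K K_ab) is trivial; the same holds with the maximal
solvable extension. Stated here for an arbitrary separable algebraic extension F of K in place of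
K_ab (the published lemma takes for F the maximal abelian or the maximal solvable extension of K;
this row allows any separable algebraic extension), with cd(F) ≤ 1 unfolded by the Brauer-group
criterion (every finite separable extension of F has trivial Brauer group) and with etale algebras
replaced by their field factors: (a) every finite-dimensional central division algebra over a finite
separable extension F′ of F is F′ itself; if and only if (b) for every finite separable extension E
of K, every finite-dimensional central division algebra D over E and every field M containing E and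
F compatibly over K, the base change M ⊗_E D is isomorphic over M to a matrix algebra over M. -/
theorem result
    (K F : Type u) [Field K] [Field F] [Algebra K F] [Algebra.IsSeparable K F] :
    (∀ (F' : Type u) [Field F'] [Algebra F F'] [FiniteDimensional F F'] [Algebra.IsSeparable F F']
        (D : Type u) [DivisionRing D] [Algebra F' D] [Algebra.IsCentral F' D] [FiniteDimensional F' D],
        Module.finrank F' D = 1) ↔
    (∀ (E : Type u) [Field E] [Algebra K E] [FiniteDimensional K E] [Algebra.IsSeparable K E]
        (D : Type u) [DivisionRing D] [Algebra E D] [Algebra.IsCentral E D] [FiniteDimensional E D]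
        (M : Type u) [Field M] [Algebra K M] [Algebra E M] [Algebra F M] [IsScalarTower K E M]
        [IsScalarTower K F M],
        ∃ n : ℕ, Nonempty ((M ⊗[E] D) ≃ₐ[M] Matrix (Fin n) (Fin n) M)) := by
  constructor
  · intro ha E _ _ _ _ D _ _ _ _ M _ _ _ _ _ _
    exact dir1 K F ha E D M
  · intro hb F' _ _ _ _ D _ _ _ _
    exact dir2 K F hb F' D

end Groth.Agent.S18519
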