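import Groth.Statements.S18535
import Groth.Agent.Lib.Helper22.InertiaLocalIff

set_option autoImplicit false
universe u
open EtAlg

namespace Groth.Agent.S18535

/-- Let R be a complete Noetherian local normal domain with maximal ideal m, let S be a normal domain
containing R on which a finite group G acts by R-algebra automorphisms, faithfully and with ring of
invariants exactly R (so that S is the integral closure of R in some finite Galois extension, with
group G, of Frac R), and let n be a maximal ideal of S over m. Then the inertia subgroup of n in G
(the elements g with g s - s ∈ n for all s ∈ S) is trivial if and only if mS = n and the residue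
field S/n is finite and separable over R/m. -/
theorem result
    (R S G : Type u) [CommRing R] [CommRing S] [IsDomain R] [IsDomain S]
    [IsNoetherianRing R] [IsLocalRing R] [IsIntegrallyClosed R]
    [IsAdicComplete (IsLocalRing.maximalIdeal R) R]
    [Algebra R S] [FaithfulSMul R S] [IsIntegrallyClosed S]
    [Group G] [Finite G] [MulSemiringAction G S] [SMulCommClass G R S] [IsGaloisGroup G R S]
    (n : Ideal S) [n.IsMaximal] [n.LiesOver (IsLocalRing.maximalIdeal R)] :
    n.toAddSubgroup.inertia G = ⊥ ↔
      ((IsLocalRing.maximalIdeal R).map (algebraMap R S) = n ∧
        Module.Finite (R ⧸ IsLocalRing.maximalIdeal R) (S ⧸ n) ∧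
        Algebra.IsSeparable (R ⧸ IsLocalRing.maximalIdeal R) (S ⧸ n)) := by
  haveI : Algebra.IsInvariant R S G := IsGaloisGroup.isInvariant
  haveI : FaithfulSMul G S := IsGaloisGroup.faithful R
  haveI : Algebra.IsIntegral R S := Algebra.IsInvariant.isIntegral R S G
  -- finiteness via the fraction fields
  letI : Algebra (FractionRing R) (FractionRing S) := FractionRing.liftAlgebra R (FractionRing S)
  haveI : IsScalarTower R (FractionRing R) (FractionRing S) :=
    FractionRing.isScalarTower_liftAlgebra R (FractionRing S)
  letI : MulSemiringAction G (FractionRing S) := IsFractionRing.mulSemiringAction G S (FractionRing S)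
  haveI : IsGaloisGroup G (FractionRing R) (FractionRing S) := IsGaloisGroup.toFractionRing G R S
  haveI : IsGalois (FractionRing R) (FractionRing S) := IsGaloisGroup.isGalois G _ _
  haveI : FiniteDimensional (FractionRing R) (FractionRing S) :=
    IsGaloisGroup.finiteDimensional G _ _
  haveI : IsIntegralClosure S R (FractionRing S) :=
    IsIntegralClosure.of_isIntegrallyClosed S R (FractionRing S)
  haveI : Module.Finite R S := IsIntegralClosure.finite R (FractionRing R) (FractionRing S) S
  haveI : IsNoetherianRing S := IsNoetherianRing.of_finite R S
  haveI : HenselianLocalRing R :=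
    Groth.Agent.Lib.helper3.HensFinite.henselianLocalRing_of_isAdicComplete R
  haveI : IsLocalRing S := Groth.Agent.Lib.helper3.HensFinite.isLocalRing_of_finite R S
  exact Groth.Agent.Lib.helper22.InertiaLocalIff.inertia_eq_bot_iff R S G n

end Groth.Agent.S18535
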