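import Groth.Statements.S18538
import Mathlib
-- import your own Groth.Agent.* helpers here

set_option autoImplicit false
universe u
open EtAlg

namespace Groth.Agent.S18538

/-- Let A ⊆ B be an injective finite extension of integrally closed domains, with fraction fields K ⊆ L
and L separable over K. Then A → B → B ⊗_A B is exact, the second map being b ↦ b ⊗ 1 - 1 ⊗ b: every
element of B whose two images in B ⊗_A B agree comes from A. -/
theorem result
    (A B K L : Type u) [CommRing A] [CommRing B] [IsDomain A] [IsDomain B]
    [IsIntegrallyClosed A] [IsIntegrallyClosed B] [Algebra A B] [FaithfulSMul A B] [Module.Finite A B]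
    [Field K] [Field L] [Algebra A K] [IsFractionRing A K] [Algebra B L] [IsFractionRing B L]
    [Algebra K L] [Algebra A L] [IsScalarTower A K L] [IsScalarTower A B L]
    [Algebra.IsSeparable K L] :
    Algebra.IsEffective A B := by
  intro b
  refine ⟨?_, Algebra.TensorProduct.includeLeftSubRight_zero_of_mem_range⟩
  intro hb
  -- additive map B ⊗[A] B → L ⊗[K] L
  let f : B →+ B →+ TensorProduct K L L :=
    { toFun := fun x =>
        { toFun := fun y => (algebraMap B L x) ⊗ₜ[K] (algebraMap B L y)
          map_zero' := by simp
          map_add' := fun y y' => by simp [TensorProduct.tmul_add] }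
      map_zero' := by ext y; simp
      map_add' := fun x x' => by ext y; simp [TensorProduct.add_tmul] }
  have hf : ∀ (a : A) (x y : B), f (a • x) y = f x (a • y) := by
    intro a x y
    show (algebraMap B L (a • x)) ⊗ₜ[K] (algebraMap B L y) =
      (algebraMap B L x) ⊗ₜ[K] (algebraMap B L (a • y))
    have e1 : algebraMap B L (a • x) = (algebraMap A K a) • algebraMap B L x := by
      rw [Algebra.smul_def, map_mul, ← IsScalarTower.algebraMap_apply A B L,
        IsScalarTower.algebraMap_apply A K L, Algebra.smul_def]
    have e2 : algebraMap B L (a • y) = (algebraMap A K a) • algebraMap B L y := by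
      rw [Algebra.smul_def, map_mul, ← IsScalarTower.algebraMap_apply A B L,
        IsScalarTower.algebraMap_apply A K L, Algebra.smul_def]
    rw [e1, e2, TensorProduct.smul_tmul]
  let Φ : TensorProduct A B B →+ TensorProduct K L L := TensorProduct.liftAddHom f hf
  have hΦ : ∀ x y : B, Φ (x ⊗ₜ[A] y) = (algebraMap B L x) ⊗ₜ[K] (algebraMap B L y) :=
    fun x y => rfl
  have hb' : (algebraMap B L b) ⊗ₜ[K] (1 : L) - (1 : L) ⊗ₜ[K] (algebraMap B L b) = 0 := by
    have := congrArg Φ hb
    rw [Algebra.TensorProduct.includeLeftSubRight_apply, map_sub, hΦ, hΦ, map_one, map_zero] at this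
    exact this
  have heff : Algebra.IsEffective K L := Algebra.IsEffective.of_faithfullyFlat K L
  obtain ⟨c, hc⟩ := (heff (algebraMap B L b)).mp hb'
  have hc' : algebraMap K L c = algebraMap B L b := hc
  -- c integral over A
  have hbint : IsIntegral A b := Algebra.IsIntegral.isIntegral b
  have hLint : IsIntegral A (algebraMap B L b) :=
    hbint.map (IsScalarTower.toAlgHom A B L)
  have hcint : IsIntegral A c := by
    rw [← hc'] at hLint
    exact (isIntegral_algebraMap_iff (algebraMap K L).injective).mp hLint
  obtain ⟨a, ha⟩ := IsIntegrallyClosed.isIntegral_iff.mp hcint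
  refine ⟨a, ?_⟩
  apply IsFractionRing.injective B L
  show algebraMap B L (algebraMap A B a) = algebraMap B L b
  rw [← hc', ← ha, ← IsScalarTower.algebraMap_apply A B L, ← IsScalarTower.algebraMap_apply A K L]

end Groth.Agent.S18538
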