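import Groth.Statements.S18539
import Mathlib.RingTheory.Regular.RegularSequence

set_option autoImplicit false
universe u v w
open CAlg

namespace Groth.Agent.S18539

/-- For a commutative ring R, R-modules M and N and elements r₁, r₂ of R such that r₁ is a
non-zero-divisor on N and r₂ is a non-zero-divisor on N/r₁N, the element r₁ is a non-zero-divisor on
the module Hom_R(M, N) and r₂ is a non-zero-divisor on Hom_R(M, N)/r₁Hom_R(M, N). (Weak regularity
on both sides: no condition that the quotient by (r₁, r₂) is nonzero, which would fail for M = 0.) -/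
theorem result
    (R : Type u) [CommRing R] (M : Type v) (N : Type w)
    [AddCommGroup M] [Module R M] [AddCommGroup N] [Module R N]
    (r₁ r₂ : R) (h : RingTheory.Sequence.IsWeaklyRegular N [r₁, r₂]) :
    RingTheory.Sequence.IsWeaklyRegular (M →ₗ[R] N) [r₁, r₂] := by
  rw [RingTheory.Sequence.isWeaklyRegular_cons_iff, RingTheory.Sequence.isWeaklyRegular_cons_iff] at h ⊢
  obtain ⟨h1, h2, -⟩ := h
  have h1' : ∀ n : N, r₁ • n = 0 → n = 0 := isSMulRegular_iff_right_eq_zero_of_smul.1 h1
  have h2' : ∀ n : QuotSMulTop r₁ N, r₂ • n = 0 → n = 0 :=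
    isSMulRegular_iff_right_eq_zero_of_smul.1 h2
  refine ⟨?_, ?_, RingTheory.Sequence.IsWeaklyRegular.nil R _⟩
  · intro φ ψ hφψ
    ext m
    have : r₁ • φ m = r₁ • ψ m := congrArg (fun χ : M →ₗ[R] N => χ m) hφψ
    exact h1 this
  · rw [isSMulRegular_iff_right_eq_zero_of_smul]
    intro q hq
    obtain ⟨φ, rfl⟩ := Submodule.Quotient.mk_surjective _ q
    rw [← Submodule.Quotient.mk_smul, Submodule.Quotient.mk_eq_zero,
      Submodule.mem_smul_pointwise_iff_exists] at hq
    obtain ⟨ψ, -, hψ⟩ := hq
    -- pointwise, `φ m` is divisible by `r₁`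
    have hdiv : ∀ m : M, ∃ n : N, r₁ • n = φ m := by
      intro m
      have hm : r₂ • (Submodule.Quotient.mk (φ m) : QuotSMulTop r₁ N) = 0 := by
        rw [← Submodule.Quotient.mk_smul, Submodule.Quotient.mk_eq_zero,
          Submodule.mem_smul_pointwise_iff_exists]
        refine ⟨ψ m, Submodule.mem_top, ?_⟩
        have := congrArg (fun χ : M →ₗ[R] N => χ m) hψ
        exact this
      have := h2' _ hm
      rw [Submodule.Quotient.mk_eq_zero, Submodule.mem_smul_pointwise_iff_exists] at this
      obtain ⟨n, -, hn⟩ := this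
      exact ⟨n, hn⟩
    choose χ hχ using hdiv
    rw [Submodule.Quotient.mk_eq_zero, Submodule.mem_smul_pointwise_iff_exists]
    refine ⟨{ toFun := χ, map_add' := fun a b => ?_, map_smul' := fun c a => ?_ },
      Submodule.mem_top, ?_⟩
    · apply h1
      change r₁ • χ (a + b) = r₁ • (χ a + χ b)
      rw [smul_add, hχ, hχ, hχ, map_add]
    · apply h1
      change r₁ • χ (c • a) = r₁ • ((RingHom.id R) c • χ a)
      rw [RingHom.id_apply, smul_comm, hχ, hχ, map_smul]
    · ext m
      exact hχ m

end Groth.Agent.S18539
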