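import Groth.Statements.S1854
import Mathlib
import Groth.Agent.S1838
import Groth.Agent.S1839

set_option autoImplicit false
universe u
open TensorProduct
open CycDet

namespace Groth.Agent.S1854


open CycDet IsLocalRing TensorProduct
open Groth.Agent.S1838 (mem_sb sb_le_iff sb_mono sb_congr sb_succ sb_top mkAdm sym_zero sym_b sym_c
  swap_lt rank_le)
open Groth.Agent.S1839 (sy sy_eq sy_zero sy_b sy_c c_low c_high sbB sb_zero
  length_span_singleton_le length_add Qs pr pr_self)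

universe v

section App
variable {L : Type*}

/-- Concatenate a prefix and a suffix. -/
def app {p q n : ℕ} (hn : p + q = n) (u : Fin p → L) (w : Fin q → L) : Fin n → L :=
  fun x => if h : (x : ℕ) < p then u ⟨x, h⟩ else w ⟨(x : ℕ) - p, by have := x.isLt; omega⟩

theorem app_lo {p q n : ℕ} (hn : p + q = n) (u : Fin p → L) (w : Fin q → L) (x : Fin n)
    (h : (x : ℕ) < p) : app hn u w x = u ⟨x, h⟩ := dif_pos h

theorem app_hi {p q n : ℕ} (hn : p + q = n) (u : Fin p → L) (w : Fin q → L) (x : Fin n)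
    (h : ¬ (x : ℕ) < p) :
    app hn u w x = w ⟨(x : ℕ) - p, by have := x.isLt; omega⟩ := dif_neg h

theorem app_left' {p q n : ℕ} (hn : p + q = n) (u : Fin p → L) (w : Fin q → L) (x : Fin n)
    (i : Fin p) (hx : (x : ℕ) = (i : ℕ)) : app hn u w x = u i := by
  have hlt : (x : ℕ) < p := by rw [hx]; exact i.isLt
  rw [app_lo hn u w x hlt]
  congr 1
  exact Fin.ext hx

theorem app_right' {p q n : ℕ} (hn : p + q = n) (u : Fin p → L) (w : Fin q → L) (x : Fin n)
    (j : Fin q) (hx : (x : ℕ) = p + (j : ℕ)) : app hn u w x = w j := by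
  have hnlt : ¬ (x : ℕ) < p := by omega
  rw [app_hi hn u w x hnlt]
  congr 1
  apply Fin.ext
  show (x : ℕ) - p = (j : ℕ)
  omega

theorem app_swap {p q n : ℕ} (hn : p + q = n) (u : Fin p → L) (w : Fin q → L) (a b : Fin p)
    (ah bh : Fin n) (hah : (ah : ℕ) = (a : ℕ)) (hbh : (bh : ℕ) = (b : ℕ)) :
    app hn (u ∘ Equiv.swap a b) w = (app hn u w) ∘ Equiv.swap ah bh := by
  funext x
  show app hn (u ∘ Equiv.swap a b) w x = app hn u w (Equiv.swap ah bh x)
  by_cases hxp : (x : ℕ) < p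
  · have hsw : ((Equiv.swap ah bh x : Fin n) : ℕ) =
        ((Equiv.swap a b ⟨x, hxp⟩ : Fin p) : ℕ) := by
      rw [Equiv.swap_apply_def, Equiv.swap_apply_def]
      by_cases h1 : x = ah
      · have h1' : (⟨x, hxp⟩ : Fin p) = a := Fin.ext (by
          show (x : ℕ) = (a : ℕ)
          rw [h1]
          exact hah)
        rw [if_pos h1, if_pos h1']
        exact hbh
      · have h1' : (⟨x, hxp⟩ : Fin p) ≠ a := fun h => h1 (Fin.ext (by
          have h3 : (x : ℕ) = (a : ℕ) := congrArg Fin.val h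
          omega))
        rw [if_neg h1, if_neg h1']
        by_cases h2 : x = bh
        · have h2' : (⟨x, hxp⟩ : Fin p) = b := Fin.ext (by
            show (x : ℕ) = (b : ℕ)
            rw [h2]
            exact hbh)
          rw [if_pos h2, if_pos h2']
          exact hah
        · have h2' : (⟨x, hxp⟩ : Fin p) ≠ b := fun h => h2 (Fin.ext (by
            have h3 : (x : ℕ) = (b : ℕ) := congrArg Fin.val h
            omega))
          rw [if_neg h2, if_neg h2']
    have hlt : ((Equiv.swap ah bh x : Fin n) : ℕ) < p := by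
      rw [hsw]
      exact (Equiv.swap a b ⟨x, hxp⟩).isLt
    rw [app_lo hn _ w x hxp, app_lo hn u w _ hlt]
    show u (Equiv.swap a b ⟨x, hxp⟩) = u ⟨_, hlt⟩
    congr 1
    exact Fin.ext hsw.symm
  · have hxa : x ≠ ah := fun h => hxp (by rw [h, hah]; exact a.isLt)
    have hxb : x ≠ bh := fun h => hxp (by rw [h, hbh]; exact b.isLt)
    rw [Equiv.swap_apply_of_ne_of_ne hxa hxb, app_hi hn _ w x hxp, app_hi hn u w x hxp]

theorem app_swap_hi {p q n : ℕ} (hn : p + q = n) (u : Fin p → L) (w : Fin q → L) (a b : Fin q)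
    (ah bh : Fin n) (hah : (ah : ℕ) = p + (a : ℕ)) (hbh : (bh : ℕ) = p + (b : ℕ)) :
    app hn u (w ∘ Equiv.swap a b) = (app hn u w) ∘ Equiv.swap ah bh := by
  funext x
  show app hn u (w ∘ Equiv.swap a b) x = app hn u w (Equiv.swap ah bh x)
  by_cases hxp : (x : ℕ) < p
  · have hxa : x ≠ ah := fun h => by rw [h, hah] at hxp; omega
    have hxb : x ≠ bh := fun h => by rw [h, hbh] at hxp; omega
    rw [Equiv.swap_apply_of_ne_of_ne hxa hxb, app_lo hn _ _ x hxp, app_lo hn u w x hxp]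
  · have hxq : (x : ℕ) - p < q := by have := x.isLt; omega
    have hsw : ((Equiv.swap ah bh x : Fin n) : ℕ) =
        p + ((Equiv.swap a b ⟨(x : ℕ) - p, hxq⟩ : Fin q) : ℕ) := by
      rw [Equiv.swap_apply_def, Equiv.swap_apply_def]
      by_cases h1 : x = ah
      · have h1' : (⟨(x : ℕ) - p, hxq⟩ : Fin q) = a := Fin.ext (by
          show (x : ℕ) - p = (a : ℕ)
          rw [h1, hah]
          omega)
        rw [if_pos h1, if_pos h1']
        exact hbh
      · have h1' : (⟨(x : ℕ) - p, hxq⟩ : Fin q) ≠ a := fun h => h1 (Fin.ext (by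
          have h3 : (x : ℕ) - p = (a : ℕ) := congrArg Fin.val h
          omega))
        rw [if_neg h1, if_neg h1']
        by_cases h2 : x = bh
        · have h2' : (⟨(x : ℕ) - p, hxq⟩ : Fin q) = b := Fin.ext (by
            show (x : ℕ) - p = (b : ℕ)
            rw [h2, hbh]
            omega)
          rw [if_pos h2, if_pos h2']
          exact hah
        · have h2' : (⟨(x : ℕ) - p, hxq⟩ : Fin q) ≠ b := fun h => h2 (Fin.ext (by
            have h3 : (x : ℕ) - p = (b : ℕ) := congrArg Fin.val h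
            omega))
          rw [if_neg h2, if_neg h2']
          show (x : ℕ) = p + ((x : ℕ) - p)
          omega
    have hnlt : ¬ ((Equiv.swap ah bh x : Fin n) : ℕ) < p := by rw [hsw]; omega
    rw [app_hi hn _ _ x hxp, app_hi hn u w _ hnlt]
    show w (Equiv.swap a b ⟨(x : ℕ) - p, hxq⟩) = w ⟨_, _⟩
    congr 1
    apply Fin.ext
    show ((Equiv.swap a b ⟨(x : ℕ) - p, hxq⟩ : Fin q) : ℕ) =
      ((Equiv.swap ah bh x : Fin n) : ℕ) - p
    rw [hsw]
    omega

end App

section Span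
variable {R : Type u} [CommRing R] [IsLocalRing R] {L : Type v} [AddCommGroup L] [Module R L]

theorem sb_app_lo {p q n : ℕ} (hn : p + q = n) (u : Fin p → L) (w : Fin q → L) (t : ℕ)
    (ht : t ≤ p) : spanBefore R L (app hn u w) t = spanBefore R L u t := by
  apply le_antisymm
  · rw [sb_le_iff]
    intro x hx
    have hxp : (x : ℕ) < p := lt_of_lt_of_le hx ht
    rw [app_lo hn u w x hxp]
    exact mem_sb u ⟨x, hxp⟩ t hx
  · rw [sb_le_iff]
    intro i hi
    obtain ⟨x, hx⟩ : ∃ x : Fin n, (x : ℕ) = (i : ℕ) :=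
      ⟨⟨i, by have := i.isLt; omega⟩, rfl⟩
    rw [← app_left' hn u w x i hx]
    exact mem_sb (app hn u w) x t (by rw [hx]; exact hi)

theorem sb_app_hi {p q n : ℕ} (hn : p + q = n) (u : Fin p → L) (w : Fin q → L) (t : ℕ) :
    spanBefore R L (app hn u w) (p + t) =
      Submodule.span R (Set.range u) ⊔ spanBefore R L w t := by
  apply le_antisymm
  · rw [sb_le_iff]
    intro x hx
    by_cases hxp : (x : ℕ) < p
    · rw [app_lo hn u w x hxp]
      exact Submodule.mem_sup_left (Submodule.subset_span ⟨_, rfl⟩)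
    · rw [app_hi hn u w x hxp]
      exact Submodule.mem_sup_right (mem_sb w _ t (by show (x : ℕ) - p < t; omega))
  · apply sup_le
    · rw [Submodule.span_le]
      rintro _ ⟨i, rfl⟩
      obtain ⟨x, hx⟩ : ∃ x : Fin n, (x : ℕ) = (i : ℕ) :=
        ⟨⟨i, by have := i.isLt; omega⟩, rfl⟩
      rw [← app_left' hn u w x i hx]
      exact mem_sb (app hn u w) x _ (by have := i.isLt; omega)
    · rw [sb_le_iff]
      intro j hj
      obtain ⟨x, hx⟩ : ∃ x : Fin n, (x : ℕ) = p + (j : ℕ) :=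
        ⟨⟨p + j, by have := j.isLt; omega⟩, rfl⟩
      rw [← app_right' hn u w x j hx]
      exact mem_sb (app hn u w) x _ (by omega)

variable {M : Type v} [AddCommGroup M] [Module R M]

theorem sb_map {l : ℕ} (g : L →ₗ[R] M) (w : Fin l → L) (t : ℕ) :
    spanBefore R M (g ∘ w) t = Submodule.map g (spanBefore R L w t) := by
  unfold spanBefore
  rw [Submodule.map_span, Set.image_comp]

theorem pre_eq {p q n : ℕ} (hn : p + q = n) (g : L →ₗ[R] M) (u : Fin p → L)
    (hker : Submodule.span R (Set.range u) = LinearMap.ker g) (w : Fin q → L) (t : ℕ) :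
    Submodule.comap g (spanBefore R M (g ∘ w) t) = spanBefore R L (app hn u w) (p + t) := by
  rw [sb_map, Submodule.comap_map_eq, sb_app_hi, hker, sup_comm]

theorem app_adm {p q n : ℕ} (hn : p + q = n) (g : L →ₗ[R] M) (u : Fin p → L)
    (hu : IsAdmissible R L u)
    (hker : Submodule.span R (Set.range u) = LinearMap.ker g) (w : Fin q → L)
    (hv : IsAdmissible R M (g ∘ w)) : IsAdmissible R L (app hn u w) := by
  intro x r hr
  by_cases hxp : (x : ℕ) < p
  · rw [app_lo hn u w x hxp, sb_app_lo hn u w x (le_of_lt hxp)]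
    exact hu ⟨x, hxp⟩ r hr
  · have hxq : (x : ℕ) - p < q := by have := x.isLt; omega
    have hsb : spanBefore R L (app hn u w) (x : ℕ) =
        Submodule.comap g (spanBefore R M (g ∘ w) ((x : ℕ) - p)) := by
      rw [pre_eq hn g u hker w ((x : ℕ) - p)]
      congr 1
      omega
    rw [app_hi hn u w x hxp, hsb]
    show g (r • w ⟨(x : ℕ) - p, hxq⟩) ∈ spanBefore R M (g ∘ w) ((x : ℕ) - p)
    rw [map_smul]
    exact hv ⟨(x : ℕ) - p, hxq⟩ r hr

theorem app_span {p q n : ℕ} (hn : p + q = n) (g : L →ₗ[R] M) (u : Fin p → L)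
    (hker : Submodule.span R (Set.range u) = LinearMap.ker g) (w : Fin q → L)
    (hv : Submodule.span R (Set.range (g ∘ w)) = ⊤) :
    Submodule.span R (Set.range (app hn u w)) = ⊤ := by
  subst hn
  rw [← sb_top, ← pre_eq _ g u hker w q, sb_top, hv, Submodule.comap_top]

theorem app_adm_of_sb {p q n : ℕ} (hn : p + q = n) (u u' : Fin p → L) (w : Fin q → L)
    (hu' : IsAdmissible R L u')
    (hsb : ∀ t, p ≤ t → spanBefore R L (app hn u w) t = spanBefore R L (app hn u' w) t)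
    (h : IsAdmissible R L (app hn u w)) : IsAdmissible R L (app hn u' w) := by
  intro x r hr
  by_cases hxp : (x : ℕ) < p
  · rw [app_lo hn u' w x hxp, sb_app_lo hn u' w x (le_of_lt hxp)]
    exact hu' ⟨x, hxp⟩ r hr
  · have h1 := h x r hr
    rw [app_hi hn u w x hxp, hsb x (not_lt.1 hxp)] at h1
    rw [app_hi hn u' w x hxp]
    exact h1

variable {K : Type v} [AddCommGroup K] [Module R K]

theorem comp_adm {l : ℕ} (f : K →ₗ[R] L) (e : Fin l → K) (he : IsAdmissible R K e) :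
    IsAdmissible R L (f ∘ e) := by
  intro i r hr
  rw [sb_map]
  exact Submodule.mem_map.2 ⟨r • e i, he i r hr, map_smul f r (e i)⟩

theorem comp_span {l : ℕ} (f : K →ₗ[R] L) (e : Fin l → K)
    (he : Submodule.span R (Set.range e) = ⊤) :
    Submodule.span R (Set.range (f ∘ e)) = LinearMap.range f := by
  rw [Set.range_comp, ← Submodule.map_span, he, Submodule.map_top]

theorem sy_not {N : Type v} [AddCommGroup N] [Module R N] {k : ℕ} (w : Fin k → N)
    (h : ¬ IsAdmissible R N w) : sy R w = 0 := by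
  unfold sy
  exact dif_neg h

end Span

section Flag
variable {R : Type u} [CommRing R] [IsLocalRing R]

theorem exists_socle (N : Type v) [AddCommGroup N] [Module R N] [IsArtinian R N]
    [Nontrivial N] : ∃ s : N, s ≠ 0 ∧ ∀ r ∈ maximalIdeal R, r • s = 0 := by
  obtain ⟨S, hS, hmin⟩ := IsArtinian.set_has_minimal (R := R) (M := N)
    {S : Submodule R N | S ≠ ⊥} ⟨⊤, top_ne_bot⟩
  have hS' : S ≠ ⊥ := hS
  obtain ⟨s, hsS, hs0⟩ := (Submodule.ne_bot_iff S).1 hS'
  refine ⟨s, hs0, fun r hr => ?_⟩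
  by_contra hrs
  have h1 : Submodule.span R ({r • s} : Set N) ≠ ⊥ := by
    rw [Ne, Submodule.span_singleton_eq_bot]
    exact hrs
  have h2 : Submodule.span R ({r • s} : Set N) ≤ S := by
    rw [Submodule.span_le, Set.singleton_subset_iff]
    exact S.smul_mem r hsS
  have h3 : ¬ Submodule.span R ({r • s} : Set N) < S := hmin _ h1
  have h4 : Submodule.span R ({r • s} : Set N) = S := by
    rcases lt_or_eq_of_le h2 with h | h
    · exact absurd h h3
    · exact h
  have h5 : s ∈ Submodule.span R ({r • s} : Set N) := by rw [h4]; exact hsS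
  rw [Submodule.mem_span_singleton] at h5
  obtain ⟨t, ht⟩ := h5
  have h6 : (1 - t * r) • s = 0 := by rw [sub_smul, one_smul, mul_smul, ht, sub_self]
  have h7 : IsUnit (1 - t * r) := by
    have htr : t * r ∈ maximalIdeal R := Ideal.mul_mem_left _ t hr
    by_contra hnu
    have hm : 1 - t * r ∈ maximalIdeal R := (IsLocalRing.mem_maximalIdeal _).2 hnu
    have h1m : (1 : R) ∈ maximalIdeal R := by
      have h8 := Ideal.add_mem _ hm htr
      rwa [sub_add_cancel] at h8
    exact (Ideal.ne_top_iff_one _).1 (IsLocalRing.maximalIdeal.isMaximal R).ne_top h1m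
  obtain ⟨w, hw⟩ := h7
  apply hs0
  have h9 : s = ((w⁻¹ : Rˣ) : R) • ((1 - t * r) • s) := by
    rw [← hw, smul_smul, Units.inv_mul, one_smul]
  rw [h9, h6, smul_zero]

theorem exists_flag (l : ℕ) : ∀ (N : Type v) [AddCommGroup N] [Module R N],
    Module.length R N = (l : ℕ∞) →
    ∃ e : Fin l → N, IsAdmissible R N e ∧ Submodule.span R (Set.range e) = ⊤ := by
  induction l with
  | zero =>
    intro N _ _ hl
    rw [Nat.cast_zero, Module.length_eq_zero_iff] at hl
    refine ⟨Fin.elim0, fun i => i.elim0, ?_⟩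
    exact Subsingleton.elim _ _
  | succ k ih =>
    intro N _ _ hl
    have hfin : IsFiniteLength R N :=
      Module.length_ne_top_iff.1 (by rw [hl]; exact ENat.natCast_ne_top _)
    obtain ⟨_, hart⟩ := isFiniteLength_iff_isNoetherian_isArtinian.1 hfin
    haveI : Nontrivial N :=
      (Module.length_pos_iff (R := R)).1 (by rw [hl]; exact_mod_cast Nat.succ_pos k)
    obtain ⟨s, hs0, hkill⟩ := exists_socle (R := R) N
    have hcyc := length_span_singleton_le R s hkill
    have hadd := length_add R s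
    rw [hl] at hadd
    have hpos : Module.length R (Submodule.span R ({s} : Set N)) ≠ 0 := by
      rw [Ne, Module.length_eq_zero_iff]
      intro hsub
      apply hs0
      have h0 : (⟨s, Submodule.mem_span_singleton_self s⟩ :
          Submodule.span R ({s} : Set N)) = 0 := Subsingleton.elim _ _
      exact congrArg Subtype.val h0
    have hQ : Module.length R (Qs R s) = (k : ℕ∞) := by
      have ha : Module.length R (Submodule.span R ({s} : Set N)) = 1 :=
        le_antisymm hcyc (Order.one_le_iff_ne_zero.2 hpos)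
      rw [ha] at hadd
      have hnt : Module.length R (Qs R s) ≠ ⊤ := by
        intro htop
        rw [htop, add_top] at hadd
        exact ENat.natCast_ne_top _ hadd
      obtain ⟨b', hb'⟩ := ENat.ne_top_iff_exists.1 hnt
      rw [← hb'] at hadd ⊢
      have h1 : k + 1 = 1 + b' := by exact_mod_cast hadd
      have h2 : b' = k := by omega
      rw [h2]
    obtain ⟨v, hv, hvspan⟩ := ih (Qs R s) hQ
    obtain ⟨w, hw⟩ : ∃ w : Fin k → N, (pr R s) ∘ w = v :=
      ⟨fun j => Function.surjInv (Submodule.mkQ_surjective _) (v j),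
        funext fun j => Function.surjInv_eq (Submodule.mkQ_surjective _) (v j)⟩
    have hker : Submodule.span R (Set.range (fun _ : Fin 1 => s)) =
        LinearMap.ker (pr R s) := by
      rw [Set.range_const, Submodule.ker_mkQ]
    have hu : IsAdmissible R N (fun _ : Fin 1 => s) := by
      intro i r hr
      rw [hkill r hr]
      exact Submodule.zero_mem _
    have hn : 1 + k = k + 1 := by omega
    exact ⟨app hn (fun _ : Fin 1 => s) w,
      app_adm hn (pr R s) _ hu hker w (by rw [hw]; exact hv),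
      app_span hn (pr R s) _ hker w (by rw [hw]; exact hvspan)⟩

end Flag

section Maps
variable {R : Type u} [CommRing R] [IsLocalRing R] {K L M : Type v}
  [AddCommGroup K] [Module R K] [AddCommGroup L] [Module R L] [AddCommGroup M] [Module R M]

theorem F2_A {p q n : ℕ} (hn : p + q = n) (f : K →ₗ[R] L) (w : Fin q → L) (eK : Adm R K p)
    (j : Fin p) (hj : eK.1 j ∈ spanBefore R K eK.1 j) :
    sy R (app hn (f ∘ eK.1) w) = 0 := by
  by_cases h : IsAdmissible R L (app hn (f ∘ eK.1) w)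
  · obtain ⟨x, hx⟩ : ∃ x : Fin n, (x : ℕ) = (j : ℕ) :=
      ⟨⟨j, by have := j.isLt; omega⟩, rfl⟩
    apply sy_zero R _ h x
    rw [app_left' hn (f ∘ eK.1) w x j hx, hx, sb_app_lo hn _ w j (le_of_lt j.isLt), sb_map]
    exact Submodule.mem_map_of_mem hj
  · exact sy_not _ h

theorem F2_B {p q n : ℕ} (hn : p + q = n) (f : K →ₗ[R] L) (w : Fin q → L)
    (eK eK' : Adm R K p) (a : Fin p) (c : Rˣ) (h1 : ∀ j, j ≠ a → eK.1 j = eK'.1 j)
    (h2 : eK.1 a - (c : R) • eK'.1 a ∈ spanBefore R K eK.1 a) :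
    sy R (app hn (f ∘ eK.1) w) = residue R (c : R) • sy R (app hn (f ∘ eK'.1) w) := by
  obtain ⟨ah, hah⟩ : ∃ ah : Fin n, (ah : ℕ) = (a : ℕ) :=
    ⟨⟨a, by have := a.isLt; omega⟩, rfl⟩
  have hahp : (ah : ℕ) < p := by rw [hah]; exact a.isLt
  have hA1 : ∀ x : Fin n, x ≠ ah →
      app hn (f ∘ eK.1) w x = app hn (f ∘ eK'.1) w x := by
    intro x hx
    by_cases hxp : (x : ℕ) < p
    · rw [app_lo hn _ w x hxp, app_lo hn _ w x hxp]
      show f (eK.1 ⟨x, hxp⟩) = f (eK'.1 ⟨x, hxp⟩)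
      have hne : (⟨x, hxp⟩ : Fin p) ≠ a := fun h => hx (Fin.ext (by
        have h3 : (x : ℕ) = (a : ℕ) := congrArg Fin.val h
        omega))
      rw [h1 _ hne]
    · rw [app_hi hn _ w x hxp, app_hi hn _ w x hxp]
  have hA2 : app hn (f ∘ eK.1) w ah - (c : R) • app hn (f ∘ eK'.1) w ah ∈
      spanBefore R L (app hn (f ∘ eK.1) w) ah := by
    rw [app_left' hn (f ∘ eK.1) w ah a hah, app_left' hn (f ∘ eK'.1) w ah a hah, hah,
      sb_app_lo hn _ w a (le_of_lt a.isLt), sb_map]
    show f (eK.1 a) - (c : R) • f (eK'.1 a) ∈ Submodule.map f (spanBefore R K eK.1 (a : ℕ))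
    rw [← map_smul, ← map_sub]
    exact Submodule.mem_map_of_mem h2
  have hsb := sbB (R := R) (app hn (f ∘ eK.1) w) (app hn (f ∘ eK'.1) w) ah c hA1 hA2
  by_cases h : IsAdmissible R L (app hn (f ∘ eK.1) w)
  · have h' : IsAdmissible R L (app hn (f ∘ eK'.1) w) :=
      app_adm_of_sb hn _ _ w (comp_adm f eK'.1 eK'.2) (fun t _ => hsb t) h
    exact sy_b R _ _ h h' ah c hA1 hA2
  · have h' : ¬ IsAdmissible R L (app hn (f ∘ eK'.1) w) := fun h' =>
      h (app_adm_of_sb hn _ _ w (comp_adm f eK.1 eK.2) (fun t _ => (hsb t).symm) h')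
    rw [sy_not _ h, sy_not _ h', smul_zero]

theorem F2_C {p q n : ℕ} (hn : p + q = n) (f : K →ₗ[R] L) (w : Fin q → L)
    (eK eK' : Adm R K p) (a b : Fin p) (hab : (b : ℕ) + 1 = (a : ℕ))
    (h1 : ∀ r ∈ maximalIdeal R, r • eK.1 a ∈ spanBefore R K eK.1 b)
    (h2 : eK'.1 = eK.1 ∘ Equiv.swap a b) :
    sy R (app hn (f ∘ eK.1) w) + sy R (app hn (f ∘ eK'.1) w) = 0 := by
  obtain ⟨ah, hah⟩ : ∃ ah : Fin n, (ah : ℕ) = (a : ℕ) :=
    ⟨⟨a, by have := a.isLt; omega⟩, rfl⟩
  obtain ⟨bh, hbh⟩ : ∃ bh : Fin n, (bh : ℕ) = (b : ℕ) :=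
    ⟨⟨b, by have := b.isLt; omega⟩, rfl⟩
  have hab' : (bh : ℕ) + 1 = (ah : ℕ) := by omega
  have happ : app hn (f ∘ eK'.1) w = (app hn (f ∘ eK.1) w) ∘ Equiv.swap ah bh := by
    rw [h2]
    exact app_swap hn (f ∘ eK.1) w a b ah bh hah hbh
  have hC1 : ∀ r ∈ maximalIdeal R,
      r • app hn (f ∘ eK.1) w ah ∈ spanBefore R L (app hn (f ∘ eK.1) w) bh := by
    intro r hr
    rw [app_left' hn (f ∘ eK.1) w ah a hah, hbh, sb_app_lo hn _ w b (le_of_lt b.isLt), sb_map]
    show r • f (eK.1 a) ∈ Submodule.map f (spanBefore R K eK.1 (b : ℕ))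
    rw [← map_smul]
    exact Submodule.mem_map_of_mem (h1 r hr)
  have hsb : ∀ t, p ≤ t → spanBefore R L (app hn (f ∘ eK.1) w) t =
      spanBefore R L (app hn (f ∘ eK'.1) w) t := by
    intro t ht
    rw [happ]
    have hat : (ah : ℕ) < t := by have := a.isLt; omega
    exact (c_high (R := R) (app hn (f ∘ eK.1) w) ah bh hab' t hat).symm
  by_cases h : IsAdmissible R L (app hn (f ∘ eK.1) w)
  · have h' := app_adm_of_sb hn _ _ w (comp_adm f eK'.1 eK'.2) hsb h
    rw [sy_c R _ _ h h' ah bh hab' hC1 happ, neg_add_cancel]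
  · have h' : ¬ IsAdmissible R L (app hn (f ∘ eK'.1) w) := fun h' =>
      h (app_adm_of_sb hn _ _ w (comp_adm f eK.1 eK.2) (fun t ht => (hsb t ht).symm) h')
    rw [sy_not _ h, sy_not _ h', add_zero]

theorem exists_Theta {p q n : ℕ} (hn : p + q = n) (f : K →ₗ[R] L) (w : Fin q → L) :
    ∃ Θ : DetOfLen R K p →ₗ[ResidueField R] DetOfLen R L n,
      ∀ eK : Adm R K p, Θ (Submodule.Quotient.mk (CycDet.sym R K eK)) =
        sy R (app hn (f ∘ eK.1) w) := by
  obtain ⟨φ₀, hφ₀⟩ : ∃ φ₀ : CycDet.Free R K p →ₗ[ResidueField R] DetOfLen R L n,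
      ∀ e : Adm R K p, φ₀ (CycDet.sym R K e) = sy R (app hn (f ∘ e.1) w) := by
    refine ⟨Finsupp.linearCombination (ResidueField R)
      (fun e : Adm R K p => sy R (app hn (f ∘ e.1) w)), fun e => ?_⟩
    rw [CycDet.sym, Finsupp.linearCombination_single, one_smul]
  have hker : Submodule.span (ResidueField R) (relSet R K p) ≤ LinearMap.ker φ₀ := by
    rw [Submodule.span_le]
    rintro x ((⟨e, a, h, rfl⟩ | ⟨e, e', a, c, h1, h2, rfl⟩) | ⟨e, e', a, b, hab, h1, h2, rfl⟩)
    · show φ₀ _ = 0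
      rw [hφ₀]
      exact F2_A hn f w e a h
    · show φ₀ _ = 0
      rw [map_sub, map_smul, hφ₀, hφ₀, F2_B hn f w e e' a c h1 h2, sub_self]
    · show φ₀ _ = 0
      rw [map_add, hφ₀, hφ₀]
      exact F2_C hn f w e e' a b hab h1 h2
  exact ⟨Submodule.liftQ _ φ₀ hker, fun e => (Submodule.liftQ_apply _ _ _).trans (hφ₀ e)⟩

/-! Suffix variation. -/

theorem G_adm {p q n : ℕ} (hn : p + q = n) (g : L →ₗ[R] M) (u : Fin p → L)
    (hu : IsAdmissible R L u) (hker : Submodule.span R (Set.range u) = LinearMap.ker g)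
    (σ : M → L) (hσ : ∀ y, g (σ y) = y) (eM : Adm R M q) :
    IsAdmissible R L (app hn u (σ ∘ eM.1)) := by
  have hgσ : g ∘ (σ ∘ eM.1) = eM.1 := funext fun j => hσ (eM.1 j)
  exact app_adm hn g u hu hker (σ ∘ eM.1) (by rw [hgσ]; exact eM.2)

theorem G_A {p q n : ℕ} (hn : p + q = n) (g : L →ₗ[R] M) (u : Fin p → L)
    (hu : IsAdmissible R L u) (hker : Submodule.span R (Set.range u) = LinearMap.ker g)
    (σ : M → L) (hσ : ∀ y, g (σ y) = y) (eM : Adm R M q) (j : Fin q)
    (hj : eM.1 j ∈ spanBefore R M eM.1 j) : sy R (app hn u (σ ∘ eM.1)) = 0 := by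
  have hgσ : g ∘ (σ ∘ eM.1) = eM.1 := funext fun j => hσ (eM.1 j)
  obtain ⟨x, hx⟩ : ∃ x : Fin n, (x : ℕ) = p + (j : ℕ) :=
    ⟨⟨p + j, by have := j.isLt; omega⟩, rfl⟩
  apply sy_zero R _ (G_adm hn g u hu hker σ hσ eM) x
  rw [app_right' hn u (σ ∘ eM.1) x j hx, hx, ← pre_eq hn g u hker (σ ∘ eM.1) j, hgσ]
  show g (σ (eM.1 j)) ∈ spanBefore R M eM.1 (j : ℕ)
  rw [hσ]
  exact hj

theorem G_B {p q n : ℕ} (hn : p + q = n) (g : L →ₗ[R] M) (u : Fin p → L)
    (hu : IsAdmissible R L u) (hker : Submodule.span R (Set.range u) = LinearMap.ker g)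
    (σ : M → L) (hσ : ∀ y, g (σ y) = y) (eM eM' : Adm R M q) (a : Fin q) (c : Rˣ)
    (h1 : ∀ j, j ≠ a → eM.1 j = eM'.1 j)
    (h2 : eM.1 a - (c : R) • eM'.1 a ∈ spanBefore R M eM.1 a) :
    sy R (app hn u (σ ∘ eM.1)) = residue R (c : R) • sy R (app hn u (σ ∘ eM'.1)) := by
  have hgσ : g ∘ (σ ∘ eM.1) = eM.1 := funext fun j => hσ (eM.1 j)
  obtain ⟨x, hx⟩ : ∃ x : Fin n, (x : ℕ) = p + (a : ℕ) :=
    ⟨⟨p + a, by have := a.isLt; omega⟩, rfl⟩
  have hB1 : ∀ y : Fin n, y ≠ x → app hn u (σ ∘ eM.1) y = app hn u (σ ∘ eM'.1) y := by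
    intro y hy
    by_cases hyp : (y : ℕ) < p
    · rw [app_lo hn u _ y hyp, app_lo hn u _ y hyp]
    · have hyq : (y : ℕ) - p < q := by have := y.isLt; omega
      rw [app_hi hn u _ y hyp, app_hi hn u _ y hyp]
      show σ (eM.1 ⟨(y : ℕ) - p, hyq⟩) = σ (eM'.1 ⟨(y : ℕ) - p, hyq⟩)
      have hne : (⟨(y : ℕ) - p, hyq⟩ : Fin q) ≠ a := fun h => hy (Fin.ext (by
        have h3 : (y : ℕ) - p = (a : ℕ) := congrArg Fin.val h
        omega))
      rw [h1 _ hne]
  have hB2 : app hn u (σ ∘ eM.1) x - (c : R) • app hn u (σ ∘ eM'.1) x ∈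
      spanBefore R L (app hn u (σ ∘ eM.1)) x := by
    rw [app_right' hn u (σ ∘ eM.1) x a hx, app_right' hn u (σ ∘ eM'.1) x a hx, hx,
      ← pre_eq hn g u hker (σ ∘ eM.1) a, hgσ]
    show g (σ (eM.1 a) - (c : R) • σ (eM'.1 a)) ∈ spanBefore R M eM.1 (a : ℕ)
    rw [map_sub, map_smul, hσ, hσ]
    exact h2
  exact sy_b R _ _ (G_adm hn g u hu hker σ hσ eM) (G_adm hn g u hu hker σ hσ eM') x c hB1 hB2

theorem G_C {p q n : ℕ} (hn : p + q = n) (g : L →ₗ[R] M) (u : Fin p → L)
    (hu : IsAdmissible R L u) (hker : Submodule.span R (Set.range u) = LinearMap.ker g)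
    (σ : M → L) (hσ : ∀ y, g (σ y) = y) (eM eM' : Adm R M q) (a b : Fin q)
    (hab : (b : ℕ) + 1 = (a : ℕ))
    (h1 : ∀ r ∈ maximalIdeal R, r • eM.1 a ∈ spanBefore R M eM.1 b)
    (h2 : eM'.1 = eM.1 ∘ Equiv.swap a b) :
    sy R (app hn u (σ ∘ eM.1)) + sy R (app hn u (σ ∘ eM'.1)) = 0 := by
  have hgσ : g ∘ (σ ∘ eM.1) = eM.1 := funext fun j => hσ (eM.1 j)
  obtain ⟨ah, hah⟩ : ∃ ah : Fin n, (ah : ℕ) = p + (a : ℕ) :=
    ⟨⟨p + a, by have := a.isLt; omega⟩, rfl⟩
  obtain ⟨bh, hbh⟩ : ∃ bh : Fin n, (bh : ℕ) = p + (b : ℕ) :=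
    ⟨⟨p + b, by have := b.isLt; omega⟩, rfl⟩
  have hab' : (bh : ℕ) + 1 = (ah : ℕ) := by omega
  have happ : app hn u (σ ∘ eM'.1) = (app hn u (σ ∘ eM.1)) ∘ Equiv.swap ah bh := by
    rw [h2]
    exact app_swap_hi hn u (σ ∘ eM.1) a b ah bh hah hbh
  have hC1 : ∀ r ∈ maximalIdeal R,
      r • app hn u (σ ∘ eM.1) ah ∈ spanBefore R L (app hn u (σ ∘ eM.1)) bh := by
    intro r hr
    rw [app_right' hn u (σ ∘ eM.1) ah a hah, hbh, ← pre_eq hn g u hker (σ ∘ eM.1) b, hgσ]
    show g (r • σ (eM.1 a)) ∈ spanBefore R M eM.1 (b : ℕ)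
    rw [map_smul, hσ]
    exact h1 r hr
  rw [sy_c R _ _ (G_adm hn g u hu hker σ hσ eM) (G_adm hn g u hu hker σ hσ eM') ah bh hab' hC1
    happ, neg_add_cancel]

theorem exists_Lambda {p q n : ℕ} (hn : p + q = n) (g : L →ₗ[R] M) (u : Fin p → L)
    (hu : IsAdmissible R L u) (hker : Submodule.span R (Set.range u) = LinearMap.ker g)
    (σ : M → L) (hσ : ∀ y, g (σ y) = y) :
    ∃ Λ : DetOfLen R M q →ₗ[ResidueField R] DetOfLen R L n,
      ∀ eM : Adm R M q, Λ (Submodule.Quotient.mk (CycDet.sym R M eM)) =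
        sy R (app hn u (σ ∘ eM.1)) := by
  obtain ⟨φ₀, hφ₀⟩ : ∃ φ₀ : CycDet.Free R M q →ₗ[ResidueField R] DetOfLen R L n,
      ∀ e : Adm R M q, φ₀ (CycDet.sym R M e) = sy R (app hn u (σ ∘ e.1)) := by
    refine ⟨Finsupp.linearCombination (ResidueField R)
      (fun e : Adm R M q => sy R (app hn u (σ ∘ e.1))), fun e => ?_⟩
    rw [CycDet.sym, Finsupp.linearCombination_single, one_smul]
  have hkerφ : Submodule.span (ResidueField R) (relSet R M q) ≤ LinearMap.ker φ₀ := by
    rw [Submodule.span_le]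
    rintro x ((⟨e, a, h, rfl⟩ | ⟨e, e', a, c, h1, h2, rfl⟩) | ⟨e, e', a, b, hab, h1, h2, rfl⟩)
    · show φ₀ _ = 0
      rw [hφ₀]
      exact G_A hn g u hu hker σ hσ e a h
    · show φ₀ _ = 0
      rw [map_sub, map_smul, hφ₀, hφ₀, G_B hn g u hu hker σ hσ e e' a c h1 h2, sub_self]
    · show φ₀ _ = 0
      rw [map_add, hφ₀, hφ₀]
      exact G_C hn g u hu hker σ hσ e e' a b hab h1 h2
  exact ⟨Submodule.liftQ _ φ₀ hkerφ, fun e => (Submodule.liftQ_apply _ _ _).trans (hφ₀ e)⟩

theorem hyb_step {p q n : ℕ} (hn : p + q = n) (g : L →ₗ[R] M) (u : Fin p → L)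
    (hu : IsAdmissible R L u) (hker : Submodule.span R (Set.range u) = LinearMap.ker g)
    (w₁ w₂ : Fin q → L) (m : Fin q) (hoff : ∀ j, j ≠ m → w₁ j = w₂ j)
    (hg : g ∘ w₁ = g ∘ w₂) (hv : IsAdmissible R M (g ∘ w₁)) :
    sy R (app hn u w₁) = sy R (app hn u w₂) := by
  have hadm₁ := app_adm hn g u hu hker w₁ hv
  have hadm₂ := app_adm hn g u hu hker w₂ (by rw [← hg]; exact hv)
  obtain ⟨x, hx⟩ : ∃ x : Fin n, (x : ℕ) = p + (m : ℕ) :=
    ⟨⟨p + m, by have := m.isLt; omega⟩, rfl⟩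
  have hB1 : ∀ y, y ≠ x → app hn u w₁ y = app hn u w₂ y := by
    intro y hy
    by_cases hyp : (y : ℕ) < p
    · rw [app_lo hn u w₁ y hyp, app_lo hn u w₂ y hyp]
    · rw [app_hi hn u w₁ y hyp, app_hi hn u w₂ y hyp]
      apply hoff
      intro h
      apply hy
      apply Fin.ext
      have h3 : (y : ℕ) - p = (m : ℕ) := congrArg Fin.val h
      omega
  have hB2 : app hn u w₁ x - ((1 : Rˣ) : R) • app hn u w₂ x ∈
      spanBefore R L (app hn u w₁) x := by
    rw [app_right' hn u w₁ x m hx, app_right' hn u w₂ x m hx, Units.val_one, one_smul, hx,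
      sb_app_hi hn u w₁ m]
    apply Submodule.mem_sup_left
    rw [hker, LinearMap.mem_ker, map_sub, sub_eq_zero]
    exact congrFun hg m
  have hstep := sy_b R _ _ hadm₁ hadm₂ x 1 hB1 hB2
  rw [Units.val_one, map_one, one_smul] at hstep
  exact hstep

theorem hyb {p q n : ℕ} (hn : p + q = n) (g : L →ₗ[R] M) (u : Fin p → L)
    (hu : IsAdmissible R L u) (hker : Submodule.span R (Set.range u) = LinearMap.ker g) :
    ∀ (S : Finset (Fin q)) (w w' : Fin q → L), (∀ j, j ∉ S → w j = w' j) →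
      g ∘ w = g ∘ w' → IsAdmissible R M (g ∘ w) →
      sy R (app hn u w) = sy R (app hn u w') := by
  classical
  intro S
  induction S using Finset.induction_on with
  | empty =>
    intro w w' h _ _
    have hww : w = w' := funext fun j => h j (Finset.notMem_empty j)
    rw [hww]
  | insert a S ha ih =>
    intro w w' h hg hv
    have hgu : g ∘ Function.update w a (w' a) = g ∘ w := by
      funext j
      show g (Function.update w a (w' a) j) = g (w j)
      by_cases hj : j = a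
      · rw [hj, Function.update_self]
        exact (congrFun hg a).symm
      · rw [Function.update_of_ne hj]
    have h1 : sy R (app hn u w) = sy R (app hn u (Function.update w a (w' a))) := by
      apply hyb_step hn g u hu hker w _ a
      · intro j hj
        rw [Function.update_of_ne hj]
      · exact hgu.symm
      · exact hv
    rw [h1]
    apply ih
    · intro j hj
      by_cases hja : j = a
      · rw [hja, Function.update_self]
      · rw [Function.update_of_ne hja]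
        apply h j
        rw [Finset.mem_insert]
        exact fun h' => h'.elim hja hj
    · rw [hgu]
      exact hg
    · rw [hgu]
      exact hv

end Maps

section Final

theorem one_dim {κ : Type*} [Field κ] {V : Type*} [AddCommGroup V] [Module κ V]
    (hrank : Module.rank κ V ≤ 1) (v₀ : V) (hv₀ : v₀ ≠ 0) : ∀ v : V, ∃ r : κ, v = r • v₀ := by
  rw [rank_le_one_iff] at hrank
  obtain ⟨v₁, hv₁⟩ := hrank
  obtain ⟨r₀, hr₀⟩ := hv₁ v₀
  have hr₀ne : r₀ ≠ 0 := by
    rintro rfl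
    rw [zero_smul] at hr₀
    exact hv₀ hr₀.symm
  intro v
  obtain ⟨r, hr⟩ := hv₁ v
  refine ⟨r * r₀⁻¹, ?_⟩
  rw [← hr, ← hr₀, smul_smul, mul_assoc, inv_mul_cancel₀ hr₀ne, mul_one]

theorem exists_lineEquiv {κ : Type*} [Field κ] {V : Type*} [AddCommGroup V] [Module κ V]
    (hrank : Module.rank κ V ≤ 1) (v₀ : V) (hv₀ : v₀ ≠ 0) :
    ∃ ε : κ ≃ₗ[κ] V, ∀ r : κ, ε r = r • v₀ := by
  have hinj : Function.Injective (LinearMap.toSpanSingleton κ V v₀) := by
    rw [injective_iff_map_eq_zero]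
    intro r hr
    rw [LinearMap.toSpanSingleton_apply, smul_eq_zero] at hr
    exact hr.resolve_right hv₀
  have hsurj : Function.Surjective (LinearMap.toSpanSingleton κ V v₀) := by
    intro v
    obtain ⟨r, hr⟩ := one_dim hrank v₀ hv₀ v
    exact ⟨r, by rw [LinearMap.toSpanSingleton_apply, hr]⟩
  exact ⟨LinearEquiv.ofBijective _ ⟨hinj, hsurj⟩, fun r => by
    rw [LinearEquiv.ofBijective_apply, LinearMap.toSpanSingleton_apply]⟩

variable {R : Type u} [CommRing R] [IsLocalRing R] {K L M : Type v}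
  [AddCommGroup K] [Module R K] [AddCommGroup L] [Module R L] [AddCommGroup M] [Module R M]

theorem main_aux (p q n : ℕ) (hn : p + q = n) (hK : Module.length R K = (p : ℕ∞))
    (hM : Module.length R M = (q : ℕ∞)) (hL : Module.length R L = (n : ℕ∞))
    (f : K →ₗ[R] L) (g : L →ₗ[R] M) (hg : Function.Surjective g)
    (hfg : LinearMap.range f = LinearMap.ker g) :
    ∃ γ : (DetOfLen R K p ⊗[ResidueField R] DetOfLen R M q) ≃ₗ[ResidueField R] DetOfLen R L n,
      ∀ (eK : Adm R K p) (eM : Adm R M q) (eL : Adm R L n),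
        (∀ (i : Fin p) (x : Fin n), (x : ℕ) = (i : ℕ) → eL.1 x = f (eK.1 i)) →
        (∀ (j : Fin q) (x : Fin n), (x : ℕ) = p + (j : ℕ) → g (eL.1 x) = eM.1 j) →
        γ ((Submodule.Quotient.mk (CycDet.sym R K eK) : DetOfLen R K p) ⊗ₜ
          (Submodule.Quotient.mk (CycDet.sym R M eM) : DetOfLen R M q)) =
          Submodule.Quotient.mk (CycDet.sym R L eL) := by
  obtain ⟨eK0, hK0adm, hK0span⟩ := exists_flag (R := R) p K hK
  obtain ⟨eM0, hM0adm, hM0span⟩ := exists_flag (R := R) q M hM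
  obtain ⟨EK, hEK⟩ : ∃ EK : Adm R K p, EK.1 = eK0 := ⟨mkAdm eK0 hK0adm, rfl⟩
  obtain ⟨EM, hEM⟩ : ∃ EM : Adm R M q, EM.1 = eM0 := ⟨mkAdm eM0 hM0adm, rfl⟩
  rw [← hEK] at hK0span
  rw [← hEM] at hM0span
  obtain ⟨σ, hσ⟩ : ∃ σ : M → L, ∀ y, g (σ y) = y :=
    ⟨Function.surjInv hg, Function.surjInv_eq hg⟩
  have hu0 : IsAdmissible R L (f ∘ EK.1) := comp_adm f EK.1 EK.2
  have hker : Submodule.span R (Set.range (f ∘ EK.1)) = LinearMap.ker g := by
    rw [comp_span f EK.1 hK0span, hfg]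
  have hgσ : ∀ v : Fin q → M, g ∘ (σ ∘ v) = v := fun v => funext fun j => hσ (v j)
  have hL0adm : IsAdmissible R L (app hn (f ∘ EK.1) (σ ∘ EM.1)) :=
    app_adm hn g _ hu0 hker _ (by rw [hgσ]; exact EM.2)
  have hL0span : Submodule.span R (Set.range (app hn (f ∘ EK.1) (σ ∘ EM.1))) = ⊤ :=
    app_span hn g _ hker _ (by rw [hgσ]; exact hM0span)
  obtain ⟨EL, hEL⟩ : ∃ EL : Adm R L n, EL.1 = app hn (f ∘ EK.1) (σ ∘ EM.1) :=
    ⟨mkAdm _ hL0adm, rfl⟩
  have hneK := Groth.Agent.S1839.main R p K hK EK hK0span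
  have hneM := Groth.Agent.S1839.main R q M hM EM hM0span
  have hneL := Groth.Agent.S1839.main R n L hL EL (by rw [hEL]; exact hL0span)
  have hrK := rank_le (R := R) (M := K) p hK
  have hrM := rank_le (R := R) (M := M) q hM
  have hrL := rank_le (R := R) (M := L) n hL
  obtain ⟨εK, hεK⟩ := exists_lineEquiv hrK _ hneK
  obtain ⟨εM, hεM⟩ := exists_lineEquiv hrM _ hneM
  obtain ⟨εL, hεL⟩ := exists_lineEquiv hrL _ hneL
  obtain ⟨Λ, hΛ⟩ := exists_Lambda hn g (f ∘ EK.1) hu0 hker σ hσ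
  refine ⟨(TensorProduct.congr εK.symm εM.symm).trans
    ((TensorProduct.lid (ResidueField R) (ResidueField R)).trans εL), fun eK eM eL h1 h2 => ?_⟩
  obtain ⟨α, hα⟩ := one_dim hrK _ hneK (Submodule.Quotient.mk (CycDet.sym R K eK))
  obtain ⟨β, hβ⟩ := one_dim hrM _ hneM (Submodule.Quotient.mk (CycDet.sym R M eM))
  obtain ⟨w, hw⟩ : ∃ w : Fin q → L, ∀ (j : Fin q) (x : Fin n), (x : ℕ) = p + (j : ℕ) →
      w j = eL.1 x := by
    refine ⟨fun j => eL.1 ⟨p + j, by have := j.isLt; omega⟩, fun j x hx => ?_⟩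
    exact congrArg eL.1 (Fin.ext hx.symm)
  have heL : eL.1 = app hn (f ∘ eK.1) w := by
    funext x
    by_cases hxp : (x : ℕ) < p
    · rw [app_lo hn _ w x hxp]
      exact h1 ⟨x, hxp⟩ x rfl
    · have hxq : (x : ℕ) - p < q := by have := x.isLt; omega
      rw [app_hi hn _ w x hxp]
      exact (hw ⟨(x : ℕ) - p, hxq⟩ x (by show (x : ℕ) = p + ((x : ℕ) - p); omega)).symm
  have hgw : g ∘ w = eM.1 := by
    funext j
    obtain ⟨x, hx⟩ : ∃ x : Fin n, (x : ℕ) = p + (j : ℕ) :=
      ⟨⟨p + j, by have := j.isLt; omega⟩, rfl⟩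
    show g (w j) = eM.1 j
    rw [hw j x hx]
    exact h2 j x hx
  obtain ⟨Θ, hΘ⟩ := exists_Theta hn f w
  have e1 : (Submodule.Quotient.mk (CycDet.sym R L eL) : DetOfLen R L n) =
      Θ (Submodule.Quotient.mk (CycDet.sym R K eK)) := by
    rw [hΘ, ← heL, sy_eq R eL.1 eL.2]
    rfl
  have e2 : Θ (Submodule.Quotient.mk (CycDet.sym R K eK)) =
      α • sy R (app hn (f ∘ EK.1) w) := by
    rw [hα, map_smul, hΘ]
  have e3 : sy R (app hn (f ∘ EK.1) w) = sy R (app hn (f ∘ EK.1) (σ ∘ eM.1)) :=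
    hyb hn g (f ∘ EK.1) hu0 hker Finset.univ w (σ ∘ eM.1)
      (fun j hj => absurd (Finset.mem_univ j) hj)
      (by rw [hgw, hgσ]) (by rw [hgw]; exact eM.2)
  have e4 : sy R (app hn (f ∘ EK.1) (σ ∘ eM.1)) =
      Λ (Submodule.Quotient.mk (CycDet.sym R M eM)) := (hΛ eM).symm
  have e5 : Λ (Submodule.Quotient.mk (CycDet.sym R M eM)) =
      β • Submodule.Quotient.mk (CycDet.sym R L EL) := by
    rw [hβ, map_smul, hΛ, sy_eq R _ hL0adm]
    congr 3
    exact Subtype.ext hEL.symm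
  have hxK : εK.symm (Submodule.Quotient.mk (CycDet.sym R K eK)) = α := by
    rw [LinearEquiv.symm_apply_eq, hεK, hα]
  have hxM : εM.symm (Submodule.Quotient.mk (CycDet.sym R M eM)) = β := by
    rw [LinearEquiv.symm_apply_eq, hεM, hβ]
  show εL ((TensorProduct.lid (ResidueField R) (ResidueField R))
    ((TensorProduct.congr εK.symm εM.symm)
      ((Submodule.Quotient.mk (CycDet.sym R K eK) : DetOfLen R K p) ⊗ₜ
        (Submodule.Quotient.mk (CycDet.sym R M eM) : DetOfLen R M q)))) = _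
  rw [TensorProduct.congr_tmul, TensorProduct.lid_tmul, hεL, hxK, hxM, e1, e2, e3, e4, e5,
    smul_eq_mul, mul_smul]

end Final


/-- Existence and the defining rule; the compatibilities (1)–(3) of the source are not restated: let 0 →
K → L → M → 0 be a short exact sequence of finite length modules over a local ring with residue
field κ. There is a κ-linear isomorphism γ : det_κ(K) ⊗ det_κ(M) → det_κ(L) such that whenever (e_i)
is an admissible tuple of K with nonzero symbol, (f̄_j) an admissible tuple of M, and (g) the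
admissible tuple of L consisting of the images of the e_i followed by lifts of the f̄_j, one has
γ([e] ⊗ [f̄]) = [g]. -/
theorem result (R : Type u) [CommRing R] [IsLocalRing R] (K L M : Type u) [AddCommGroup K] [Module R K] [AddCommGroup L] [Module R L] [AddCommGroup M] [Module R M] (hK : IsFiniteLength R K) (hM : IsFiniteLength R M) (f : K →ₗ[R] L) (g : L →ₗ[R] M) (hf : Function.Injective f) (hg : Function.Surjective g) (hfg : LinearMap.range f = LinearMap.ker g) (hlen : (Module.length R K).toNat + (Module.length R M).toNat = (Module.length R L).toNat) : ∃ γ : (CycDet.Det R K ⊗[IsLocalRing.ResidueField R] CycDet.Det R M) ≃ₗ[IsLocalRing.ResidueField R] CycDet.Det R L, ∀ (eK : CycDet.Adm R K (Module.length R K).toNat) (eM : CycDet.Adm R M (Module.length R M).toNat) (eL : CycDet.Adm R L (Module.length R L).toNat), CycDet.symbol R K eK ≠ 0 → (∀ i : Fin (Module.length R K).toNat, eL.1 (Fin.cast hlen (Fin.castAdd (Module.length R M).toNat i)) = f (eK.1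 i)) → (∀ j : Fin (Module.length R M).toNat, g (eL.1 (Fin.cast hlen (Fin.natAdd (Module.length R K).toNat j))) = eM.1 j) → γ (CycDet.symbol R K eK ⊗ₜ CycDet.symbol R M eM) = CycDet.symbol R L eL := by
  have hKl : Module.length R K = ((Module.length R K).toNat : ℕ∞) :=
    (ENat.natCast_toNat (Module.length_ne_top_iff.2 hK)).symm
  have hMl : Module.length R M = ((Module.length R M).toNat : ℕ∞) :=
    (ENat.natCast_toNat (Module.length_ne_top_iff.2 hM)).symm
  have hex : Function.Exact f g := LinearMap.exact_iff.2 hfg.symm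
  have hadd : Module.length R L = Module.length R K + Module.length R M :=
    Module.length_eq_add_of_exact f g hf hg hex
  have hLl : Module.length R L = ((Module.length R L).toNat : ℕ∞) := by
    refine (ENat.natCast_toNat ?_).symm
    rw [hadd, hKl, hMl]
    exact ENat.natCast_ne_top _
  obtain ⟨γ, hγ⟩ := main_aux (R := R) (K := K) (L := L) (M := M) (Module.length R K).toNat
    (Module.length R M).toNat (Module.length R L).toNat hlen hKl hMl hLl f g hg hfg
  refine ⟨γ, fun eK eM eL _ h1 h2 => ?_⟩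
  refine hγ eK eM eL (fun i x hx => ?_) (fun j x hx => ?_)
  · have hxe : x = Fin.cast hlen (Fin.castAdd (Module.length R M).toNat i) := Fin.ext hx
    rw [hxe]
    exact h1 i
  · have hxe : x = Fin.cast hlen (Fin.natAdd (Module.length R K).toNat j) := Fin.ext hx
    rw [hxe]
    exact h2 j


end Groth.Agent.S1854
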