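import Groth.Statements.S18543
import Mathlib
import Groth.Agent.Lib.Helper22.FinEtGrp
import Groth.Agent.Lib.Helper22.CartDualPts

set_option autoImplicit false
universe u
open Hopf

namespace Groth.Agent.S18543

/-- Let p be a prime number, k a field of characteristic p and A a finite-dimensional commutative,
cocommutative Hopf algebra over k — the coordinate ring of a finite commutative group scheme G over
k — such that A is étale over k and dim_k A = p^n for some n (G is an étale group scheme of p-power
order). Then the Cartier dual A^∨ = Hom_k(A, k), with its convolution ring structure, is a local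
ring; that is, the Cartier dual group scheme G^∨ = Spec A^∨ is infinitesimal (its underlying space
is a single point). -/
theorem result (p : ℕ) [Fact p.Prime]
    (k : Type u) [Field k] [CharP k p] (A : Type u) [CommRing A] [HopfAlgebra k A] [Coalgebra.IsCocomm k A]
    [Module.Finite k A] [Algebra.Etale k A] (n : ℕ) (hA : Module.finrank k A = p ^ n) :
    IsLocalRing (CartDual.D k A) := by
  classical
  let K := AlgebraicClosure k
  have hcharK : CharP K p := charP_of_injective_algebraMap (algebraMap k K).injective p
  have hred : IsReduced (TensorProduct k K A) := Algebra.FormallyUnramified.isReduced_of_field K (TensorProduct k K A)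
  have hfr : Module.finrank K (TensorProduct k K A) = p ^ n := by
    rw [Module.finrank_baseChange, hA]
  -- the group-like elements of `K ⊗ A` are trivial
  have hsub : Subsingleton (GroupLike K (TensorProduct k K A)) := by
    constructor
    intro g h
    apply GroupLike.val_injective
    rw [Groth.Agent.Lib.helper22.FinEtGrp.groupLike_eq_one K (TensorProduct k K A) p n hfr g.val g.2,
      Groth.Agent.Lib.helper22.FinEtGrp.groupLike_eq_one K (TensorProduct k K A) p n hfr h.val h.2]
  obtain ⟨e, -⟩ := Groth.Agent.Lib.helper22.CartDualPts.main k A K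
  have hsub2 : Subsingleton (WithConv (CartDual.D k A →ₐ[k] K)) := e.symm.injective.subsingleton
  have hpts : ∀ φ ψ : CartDual.D k A →ₐ[k] K, φ = ψ := by
    intro φ ψ
    exact WithConv.toConv_injective (Subsingleton.elim (WithConv.toConv φ) (WithConv.toConv ψ))
  -- nontriviality
  have hnt : Nontrivial (CartDual.D k A) := by
    refine ⟨⟨1, 0, fun h => ?_⟩⟩
    have := congrArg (fun x : CartDual.D k A => x (1 : A)) h
    simp only [LinearMap.convOne_apply, Bialgebra.counit_one, map_one] at this
    exact one_ne_zero this
  -- every maximal ideal is the kernel of a `K`-point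
  have hker : ∀ m : Ideal (CartDual.D k A), m.IsMaximal →
      ∃ φ : CartDual.D k A →ₐ[k] K, RingHom.ker φ = m := by
    intro m hm
    let _ : Field (CartDual.D k A ⧸ m) := Ideal.Quotient.field m
    have halg : Algebra.IsAlgebraic k (CartDual.D k A ⧸ m) := Algebra.IsAlgebraic.of_finite _ _
    let ψ : (CartDual.D k A ⧸ m) →ₐ[k] K := IsAlgClosed.lift
    refine ⟨ψ.comp (Ideal.Quotient.mkₐ k m), ?_⟩
    ext x
    rw [RingHom.mem_ker]
    change ψ (Ideal.Quotient.mk m x) = 0 ↔ _
    rw [map_eq_zero_iff ψ (RingHom.injective (ψ : (CartDual.D k A ⧸ m) →+* K)), Ideal.Quotient.eq_zero_iff_mem]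
  obtain ⟨m, hm⟩ := Ideal.exists_maximal (CartDual.D k A)
  refine IsLocalRing.of_unique_max_ideal ⟨m, hm, fun m' hm' => ?_⟩
  obtain ⟨φ, hφ⟩ := hker m hm
  obtain ⟨φ', hφ'⟩ := hker m' hm'
  rw [← hφ, ← hφ', hpts φ φ']

end Groth.Agent.S18543
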