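import Groth.Statements.S18544
import Mathlib
-- import your own Groth.Agent.* helpers here

set_option autoImplicit false
universe u
open CAlg

namespace Groth.Agent.S18544

open MvPolynomial Matrix in
/-- evaluation of `N` at a matrix -/
noncomputable def ev {F : Type u} [Field F] {n : ℕ} (N : MvPolynomial (Fin n × Fin n) F)
    (x : Matrix (Fin n) (Fin n) F) : F :=
  MvPolynomial.eval (fun ij : Fin n × Fin n => x ij.1 ij.2) N

open MvPolynomial Matrix in
/-- along an affine line of matrices, `ev` is a polynomial function -/
noncomputable def linePoly {F : Type u} [Field F] {n : ℕ} (N : MvPolynomial (Fin n × Fin n) F)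
    (A B : Matrix (Fin n) (Fin n) F) : Polynomial F :=
  MvPolynomial.aeval (fun ij : Fin n × Fin n =>
    Polynomial.C (A ij.1 ij.2) + Polynomial.X * Polynomial.C (B ij.1 ij.2)) N

open MvPolynomial Matrix in
theorem eval_linePoly {F : Type u} [Field F] {n : ℕ} (N : MvPolynomial (Fin n × Fin n) F)
    (A B : Matrix (Fin n) (Fin n) F) (c : F) :
    (linePoly N A B).eval c = ev N (A + c • B) := by
  unfold linePoly ev
  induction N using MvPolynomial.induction_on with
  | C a => simp
  | add p q hp hq => rw [map_add, map_add, Polynomial.eval_add, hp, hq]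
  | mul_X p i hp =>
    rw [map_mul, map_mul, Polynomial.eval_mul, hp, aeval_X, eval_X]
    simp only [Polynomial.eval_add, Polynomial.eval_C, Polynomial.eval_mul, Polynomial.eval_X,
      Matrix.add_apply, Matrix.smul_apply, smul_eq_mul]

theorem const_of_no_root {F : Type u} [Field F] [IsAlgClosed F] (p : Polynomial F)
    (h : ∀ c, p.eval c ≠ 0) : ∀ c, p.eval c = p.eval 0 := by
  have hd : p.degree = 0 := by
    by_contra hne
    obtain ⟨x, hx⟩ := IsAlgClosed.exists_root p hne
    exact h x hx
  intro c
  rw [Polynomial.eq_C_of_degree_eq_zero hd]; simp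

/-- a polynomial whose only possible root is `0` and with value `1` at `1` is a power of `X` -/
theorem eq_pow_of_roots {F : Type u} [Field F] [IsAlgClosed F] (g : Polynomial F)
    (h1 : g.eval 1 = 1) (h : ∀ t, t ≠ 0 → g.eval t ≠ 0) : ∃ m : ℕ, ∀ t, g.eval t = t ^ m := by
  have hg0 : g ≠ 0 := by
    rintro rfl
    simp at h1
  obtain ⟨q, hq, hndvd⟩ := Polynomial.exists_eq_pow_rootMultiplicity_mul_and_not_dvd g hg0 0
  simp only [map_zero, sub_zero] at hq hndvd
  have hqroot : ∀ c, q.eval c ≠ 0 := by
    intro c hc
    by_cases hc0 : c = 0
    · subst hc0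
      apply hndvd
      have := (Polynomial.dvd_iff_isRoot (p := q) (a := 0)).mpr hc
      simpa using this
    · apply h c hc0
      rw [hq, Polynomial.eval_mul, hc, mul_zero]
  have hconst := const_of_no_root q hqroot
  refine ⟨g.rootMultiplicity 0, fun t => ?_⟩
  have e1 : g.eval 1 = q.eval 0 := by
    conv_lhs => rw [hq]
    rw [Polynomial.eval_mul, Polynomial.eval_pow, Polynomial.eval_X, one_pow, one_mul, hconst 1]
  conv_lhs => rw [hq]
  rw [Polynomial.eval_mul, Polynomial.eval_pow, Polynomial.eval_X, hconst t, ← e1, h1, mul_one]

open MvPolynomial Matrix in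
theorem main {F : Type u} [Field F] [IsAlgClosed F] (n : ℕ) (N : MvPolynomial (Fin n × Fin n) F)
    (hN : N ≠ 0) (hmul : ∀ x y : Matrix (Fin n) (Fin n) F, ev N (x * y) = ev N x * ev N y) :
    ∃ m : ℕ, ∀ x : Matrix (Fin n) (Fin n) F, ev N x = x.det ^ m := by
  classical
  -- Step 1: ev 1 = 1
  have h1 : ev N 1 = 1 := by
    have h := hmul 1 1
    rw [one_mul] at h
    have h' : ev N 1 * (ev N 1 - 1) = 0 := by linear_combination -h
    rcases mul_eq_zero.mp h' with h0 | h0
    · exfalso
      apply hN
      apply MvPolynomial.funext
      intro f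
      have := hmul (Matrix.of fun i j => f (i, j)) 1
      rw [mul_one, h0, mul_zero] at this
      rw [map_zero, ← this]
      rfl
    · linear_combination h0
  -- Step 2: transvections
  have h2 : ∀ i j : Fin n, i ≠ j → ∀ c : F, ev N (transvection i j c) = 1 := by
    intro i j hij c
    have hp : ∀ c, (linePoly N 1 (Matrix.single i j (1 : F))).eval c = ev N (transvection i j c) := by
      intro c
      rw [eval_linePoly, transvection, Matrix.smul_single, smul_eq_mul, mul_one]
    have hne : ∀ c, (linePoly N 1 (Matrix.single i j (1 : F))).eval c ≠ 0 := by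
      intro c hc
      have := hmul (transvection i j c) (transvection i j (-c))
      rw [transvection_mul_transvection_same i j hij, add_neg_cancel, transvection_zero, h1,
        ← hp c, hc, zero_mul] at this
      exact one_ne_zero this
    have := const_of_no_root _ hne c
    rw [hp, hp, transvection_zero, h1] at this
    exact this
  have h3 : ∀ L : List (TransvectionStruct (Fin n) F),
      ev N (L.map TransvectionStruct.toMatrix).prod = 1 := by
    intro L
    induction L with
    | nil => simpa using h1
    | cons t L ih =>
      rw [List.map_cons, List.prod_cons, hmul, ih, mul_one]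
      exact h2 t.i t.j t.hij t.c
  -- Step 3: diagonal matrices
  have hψmul : ∀ d d' : Fin n → F, ev N (diagonal (d * d')) = ev N (diagonal d) * ev N (diagonal d') := by
    intro d d'
    rw [← hmul, diagonal_mul_diagonal]
    rfl
  have hψone : ev N (diagonal (1 : Fin n → F)) = 1 := by
    rw [show diagonal (1 : Fin n → F) = 1 from diagonal_one]; exact h1
  have hψprod : ∀ (s : Finset (Fin n)) (f : Fin n → (Fin n → F)),
      ev N (diagonal (∏ i ∈ s, f i)) = ∏ i ∈ s, ev N (diagonal (f i)) := by
    intro s f
    induction s using Finset.induction_on with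
    | empty => simpa using hψone
    | insert a s ha ih => rw [Finset.prod_insert ha, Finset.prod_insert ha, hψmul, ih]
  have hdiag : ∃ m : ℕ, ∀ d : Fin n → F, ev N (diagonal d) = (∏ i, d i) ^ m := by
    rcases n with _ | n
    · refine ⟨0, fun d => ?_⟩
      rw [pow_zero, Subsingleton.elim (diagonal d) 1, h1]
    · -- slot 0
      have hline : ∀ t : F, diagonal (Pi.mulSingle (0 : Fin (n + 1)) t) =
          diagonal (Pi.mulSingle (0 : Fin (n + 1)) (0 : F)) + t • Matrix.single 0 0 (1 : F) := by
        intro t
        ext a b
        by_cases hab : a = b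
        · subst hab
          by_cases ha : a = 0
          · subst ha; simp
          · simp [ha, Matrix.single, Ne.symm ha]
        · simp [hab, Matrix.single]
          intro h1 h2; exact absurd (h1.symm.trans h2) hab
      have hg : ∀ t : F, (linePoly N (diagonal (Pi.mulSingle (0 : Fin (n + 1)) (0 : F)))
          (Matrix.single 0 0 (1 : F))).eval t = ev N (diagonal (Pi.mulSingle 0 t)) := by
        intro t
        rw [eval_linePoly, hline t]
      obtain ⟨m, hm⟩ := eq_pow_of_roots (linePoly N (diagonal (Pi.mulSingle (0 : Fin (n + 1)) (0 : F)))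
          (Matrix.single 0 0 (1 : F)))
        (by rw [hg, Pi.mulSingle_one]; exact hψone)
        (by
          intro t ht h0
          have := hψmul (Pi.mulSingle 0 t) (Pi.mulSingle 0 t⁻¹)
          rw [← Pi.mulSingle_mul, mul_inv_cancel₀ ht, Pi.mulSingle_one, hψone, ← hg t, h0,
            zero_mul] at this
          exact one_ne_zero this)
      -- other slots via swaps
      have hswap : ∀ (i : Fin (n + 1)) (t : F),
          ev N (diagonal (Pi.mulSingle i t)) = ev N (diagonal (Pi.mulSingle 0 t)) := by
        intro i t
        set σ : Equiv.Perm (Fin (n + 1)) := Equiv.swap 0 i with hσ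
        set P : Matrix (Fin (n + 1)) (Fin (n + 1)) F := σ.toPEquiv.toMatrix with hP
        have hPP : P * P = 1 := by
          rw [hP, ← PEquiv.toMatrix_trans, ← Equiv.toPEquiv_trans, hσ, Equiv.swap_swap,
            Equiv.toPEquiv_refl, PEquiv.toMatrix_refl]
        have hconj : P * diagonal (Pi.mulSingle (0 : Fin (n + 1)) t) * P =
            diagonal (Pi.mulSingle i t) := by
          rw [hP, PEquiv.toMatrix_toPEquiv_mul, PEquiv.mul_toMatrix_toPEquiv]
          ext a b
          simp only [submatrix_apply, id_eq, diagonal_apply, hσ, Equiv.symm_swap]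
          by_cases hab : a = b
          · subst hab
            simp only [if_true, Pi.mulSingle_apply]
            by_cases ha : a = i
            · subst ha; simp
            · by_cases ha0 : a = 0
              · subst ha0
                rw [Equiv.swap_apply_left]
                simp [ha, Ne.symm ha]
              · rw [Equiv.swap_apply_of_ne_of_ne ha0 ha]
                simp [ha, ha0]
          · have : Equiv.swap 0 i a ≠ Equiv.swap 0 i b := fun h => hab ((Equiv.swap 0 i).injective h)
            simp [hab, this]
        have hP2 : ev N P * ev N P = 1 := by rw [← hmul, hPP, h1]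
        rw [← hconj, hmul, hmul]
        linear_combination (ev N (diagonal (Pi.mulSingle 0 t))) * hP2
      refine ⟨m, fun d => ?_⟩
      have hd : d = ∏ i, Pi.mulSingle i (d i) := (Finset.univ_prod_mulSingle d).symm
      conv_lhs => rw [hd]
      rw [hψprod, ← Finset.prod_pow]
      apply Finset.prod_congr rfl
      intro i _
      rw [hswap, ← hg, hm]
  obtain ⟨m, hm⟩ := hdiag
  refine ⟨m, fun x => ?_⟩
  obtain ⟨L, L', D, hx⟩ := Matrix.Pivot.exists_list_transvec_mul_diagonal_mul_list_transvec x
  rw [hx, hmul, hmul, h3, h3, one_mul, mul_one, hm, det_mul, det_mul,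
    TransvectionStruct.det_toMatrix_prod, TransvectionStruct.det_toMatrix_prod, one_mul, mul_one,
    det_diagonal]


/-- Let F be an algebraically closed field of characteristic zero, n a natural number, and N a nonzero
polynomial over F in the n² matrix entries whose evaluation on n × n matrices is multiplicative,
N(xy) = N(x)·N(y) for all x, y (a norm form on the matrix algebra M_n(F) over F). Then N is a
natural power of the determinant: for some m, N(x) = det(x)^m for every matrix x. The published
statement concerns norm forms of any central simple algebra over a subfield; this row is the case of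
the full matrix algebra over an algebraically closed field, which is the case its proof treats. -/
theorem result (F : Type u) [Field F] [IsAlgClosed F]
    [CharZero F] (n : ℕ) (N : MvPolynomial (Fin n × Fin n) F) (hN : N ≠ 0)
    (hmul : ∀ x y : Matrix (Fin n) (Fin n) F,
      MvPolynomial.eval (fun ij : Fin n × Fin n => (x * y) ij.1 ij.2) N =
        MvPolynomial.eval (fun ij : Fin n × Fin n => x ij.1 ij.2) N * MvPolynomial.eval (fun ij : Fin n × Fin n => y ij.1 ij.2) N) :
    ∃ m : ℕ, ∀ x : Matrix (Fin n) (Fin n) F,
      MvPolynomial.eval (fun ij : Fin n × Fin n => x ij.1 ij.2) N = x.det ^ m := by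
  exact main n N hN hmul

end Groth.Agent.S18544
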