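import Groth.Statements.S18545
import Mathlib
-- import your own Groth.Agent.* helpers here

set_option autoImplicit false
universe u
open AbVar

namespace Groth.Agent.S18545

section aux
open Module
variable {K : Type u} [Field K] {V : Type u} [AddCommGroup V] [Module K V]

/-- An `F`-stable subspace not contained in `W'` contains an `F`-eigenvector outside `W'`. -/
lemma exists_eig (F : Subalgebra K (Module.End K V)) (r : ℕ) (φ : F ≃ₐ[K] (Fin r → K))
    (U W' : Submodule K V) (hU : ∀ f ∈ F, ∀ w ∈ U, f w ∈ U) (hUW : ¬ U ≤ W') :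
    ∃ v ∈ U, v ∉ W' ∧ ∀ f ∈ F, ∃ a : K, f v = a • v := by
  classical
  by_contra hcon
  apply hUW
  intro v hv
  let ε : Fin r → F := fun i => φ.symm (Pi.single i 1)
  have hsum0 : ∑ i, ε i = 1 := by
    simp only [ε]
    rw [← map_sum]
    have h1 : ∑ i, (Pi.single i (1 : K) : Fin r → K) = 1 := by
      funext j
      simp [Finset.sum_apply, Pi.single_apply]
    rw [h1, map_one]
  have hsum : ∑ i, (ε i : Module.End K V) = 1 := by
    have h1 := congrArg (fun x : F => (x : Module.End K V)) hsum0
    simpa using h1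
  have hv' : v = ∑ i, (ε i : Module.End K V) v := by
    rw [← LinearMap.sum_apply, hsum]; rfl
  rw [hv']
  refine Submodule.sum_mem _ fun i _ => ?_
  by_contra hni
  apply hcon
  refine ⟨(ε i : Module.End K V) v, hU _ (ε i).2 v hv, hni, fun f hf => ⟨φ ⟨f, hf⟩ i, ?_⟩⟩
  have hmul : (⟨f, hf⟩ : F) * ε i = (φ ⟨f, hf⟩ i) • ε i := by
    apply φ.injective
    simp only [ε, map_mul, map_smul, AlgEquiv.apply_symm_apply]
    funext j
    by_cases h : j = i
    · subst h; simp
    · simp [Pi.single_apply, h]
  have h2 := congrArg (fun x : F => (x : Module.End K V) v) hmul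
  simpa using h2

variable [FiniteDimensional K V]

/-- adding an eigenvector of `W^⊥` outside `W` -/
lemma add_eig (e : LinearMap.BilinForm K V) (he : e.IsAlt)
    (F : Subalgebra K (Module.End K V)) (W : Submodule K V)
    (hWF : ∀ f ∈ F, ∀ w ∈ W, f w ∈ W) (hWiso : ∀ x ∈ W, ∀ y ∈ W, e x y = 0)
    (v : V) (hvP : v ∈ e.orthogonal W) (hvW : v ∉ W) (hve : ∀ f ∈ F, ∃ a : K, f v = a • v) :
    (∀ f ∈ F, ∀ w ∈ W ⊔ Submodule.span K {v}, f w ∈ W ⊔ Submodule.span K {v}) ∧
    (∀ x ∈ W ⊔ Submodule.span K {v}, ∀ y ∈ W ⊔ Submodule.span K {v}, e x y = 0) ∧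
    finrank K ↥(W ⊔ Submodule.span K {v}) = finrank K W + 1 := by
  refine ⟨?_, ?_, ?_⟩
  · intro f hf w hw
    obtain ⟨y, hy, z, hz, rfl⟩ := Submodule.mem_sup.1 hw
    obtain ⟨a, rfl⟩ := Submodule.mem_span_singleton.1 hz
    obtain ⟨b, hb⟩ := hve f hf
    rw [map_add, map_smul, hb]
    exact Submodule.add_mem _ (Submodule.mem_sup_left (hWF f hf y hy))
      (Submodule.mem_sup_right (Submodule.smul_mem _ _ (Submodule.smul_mem _ _
        (Submodule.mem_span_singleton_self v))))
  · intro x hx y hy
    obtain ⟨x1, hx1, z, hz, rfl⟩ := Submodule.mem_sup.1 hx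
    obtain ⟨a, rfl⟩ := Submodule.mem_span_singleton.1 hz
    obtain ⟨y1, hy1, z', hz', rfl⟩ := Submodule.mem_sup.1 hy
    obtain ⟨b, rfl⟩ := Submodule.mem_span_singleton.1 hz'
    have h1 : e x1 v = 0 := hvP x1 hx1
    have h2 : e v y1 = 0 := by
      have := he.neg_eq v y1
      rw [hvP y1 hy1] at this
      simpa using this
    simp only [map_add, map_smul, LinearMap.add_apply, LinearMap.smul_apply, smul_eq_mul,
      hWiso x1 hx1 y1 hy1, h1, h2, he.self_eq_zero v]
    ring
  · have hv0 : v ≠ 0 := fun h => hvW (h ▸ W.zero_mem)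
    have hdisj : W ⊓ Submodule.span K {v} = ⊥ := by
      rw [eq_bot_iff]
      rintro x ⟨hx1, hx2⟩
      obtain ⟨a, rfl⟩ := Submodule.mem_span_singleton.1 hx2
      by_cases ha : a = 0
      · simp [ha]
      · exfalso
        apply hvW
        have := W.smul_mem a⁻¹ hx1
        rwa [smul_smul, inv_mul_cancel₀ ha, one_smul] at this
    have h1 := Submodule.finrank_sup_add_finrank_inf_eq W (Submodule.span K {v})
    rw [hdisj, finrank_bot, add_zero, finrank_span_singleton hv0] at h1
    exact h1

lemma main (g : ℕ) (hV : Module.finrank K V = 2 * g)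
    (e : LinearMap.BilinForm K V) (he : e.IsAlt) (hnd : e.Nondegenerate)
    (F : Subalgebra K (Module.End K V)) (r : ℕ) (φ : F ≃ₐ[K] (Fin r → K))
    (S : Set (Module.End K V)) (hS : Submodule.span K S = Subalgebra.toSubmodule F)
    (hsim : ∀ s ∈ S, ∃ c : K, c ≠ 0 ∧ ∀ x y : V, e (s x) (s y) = c * e x y)
    (D : Set (Module.End K V))
    (hmax : ∀ W : Submodule K V, (∀ f ∈ F, ∀ w ∈ W, f w ∈ W) → (∀ x ∈ W, ∀ y ∈ W, e x y = 0) →
      Module.finrank K W = g → ∀ d ∈ D, ∀ w ∈ W, d w ∈ W) :
    ∀ k : ℕ, ∀ W : Submodule K V, (∀ f ∈ F, ∀ w ∈ W, f w ∈ W) →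
      (∀ x ∈ W, ∀ y ∈ W, e x y = 0) → finrank K W + k = g → ∀ d ∈ D, ∀ w ∈ W, d w ∈ W := by
  intro k
  induction k with
  | zero => intro W hWF hWiso hdim; exact hmax W hWF hWiso (by omega)
  | succ k ih =>
    intro W hWF hWiso hdim
    set P := e.orthogonal W with hP
    have hPdim : finrank K P = 2 * g - finrank K W := by
      rw [hP, LinearMap.BilinForm.finrank_orthogonal hnd, hV]
    have hPS : ∀ s ∈ S, ∀ y ∈ P, s y ∈ P := by
      intro s hs y hy
      obtain ⟨c, hc, hsc⟩ := hsim s hs
      have hsF : s ∈ F := by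
        have h1 : s ∈ Subalgebra.toSubmodule F := hS ▸ Submodule.subset_span hs
        exact h1
      have hsinj : Function.Injective s := by
        rw [← LinearMap.ker_eq_bot, eq_bot_iff]
        intro x hx
        have hx0 : ∀ y, e x y = 0 := fun y => by
          have h1 := hsc x y
          rw [LinearMap.mem_ker.1 hx] at h1
          simp only [map_zero, LinearMap.zero_apply] at h1
          exact (mul_eq_zero.1 h1.symm).resolve_left hc
        exact hnd.1 x hx0
      let sW : W →ₗ[K] W := s.restrict (fun w hw => hWF s hsF w hw)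
      have hsWinj : Function.Injective sW := by
        intro a b hab
        have h1 := congrArg Subtype.val hab
        exact Subtype.ext (hsinj h1)
      have hsWsurj : Function.Surjective sW := LinearMap.surjective_of_injective hsWinj
      intro w hw
      obtain ⟨w', hw'⟩ := hsWsurj ⟨w, hw⟩
      have hww : w = s w' := by
        have h1 := congrArg Subtype.val hw'
        exact h1.symm
      rw [hww, hsc, hy w' w'.2, mul_zero]
    have hPF' : ∀ f ∈ Submodule.span K S, ∀ y ∈ P, f y ∈ P := by
      intro f hf y hy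
      induction hf using Submodule.span_induction with
      | mem s hs => exact hPS s hs y hy
      | zero => simp
      | add a b _ _ ha hb => rw [LinearMap.add_apply]; exact P.add_mem ha hb
      | smul c a _ ha => rw [LinearMap.smul_apply]; exact P.smul_mem c ha
    have hPF : ∀ f ∈ F, ∀ y ∈ P, f y ∈ P := fun f hf => hPF' f (by rw [hS]; exact hf)
    have hnle : ¬ P ≤ W := by
      intro h
      have := Submodule.finrank_mono h
      omega
    obtain ⟨v1, hv1P, hv1W, hv1e⟩ := exists_eig F r φ P W hPF hnle
    obtain ⟨hF1, hiso1, hdim1⟩ := add_eig e he F W hWF hWiso v1 hv1P hv1W hv1e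
    have hnle1 : ¬ P ≤ W ⊔ Submodule.span K {v1} := by
      intro h
      have := Submodule.finrank_mono h
      omega
    obtain ⟨v2, hv2P, hv2W1, hv2e⟩ := exists_eig F r φ P _ hPF hnle1
    have hv2W : v2 ∉ W := fun h => hv2W1 (Submodule.mem_sup_left h)
    obtain ⟨hF2, hiso2, hdim2⟩ := add_eig e he F W hWF hWiso v2 hv2P hv2W hv2e
    intro d hd w hw
    have h1 := ih _ hF1 hiso1 (by omega) d hd w (Submodule.mem_sup_left hw)
    have h2 := ih _ hF2 hiso2 (by omega) d hd w (Submodule.mem_sup_left hw)
    obtain ⟨y, hy, z, hz, hyz⟩ := Submodule.mem_sup.1 h2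
    obtain ⟨b, rfl⟩ := Submodule.mem_span_singleton.1 hz
    by_cases hb : b = 0
    · rw [hb, zero_smul, add_zero] at hyz
      rw [← hyz]; exact hy
    · exfalso
      apply hv2W1
      have h3 : b • v2 = d w - y := by rw [← hyz]; abel
      have h4 : v2 = b⁻¹ • (d w - y) := by
        rw [← h3, smul_smul, inv_mul_cancel₀ hb, one_smul]
      rw [h4]
      exact Submodule.smul_mem _ _ (Submodule.sub_mem _ h1 (Submodule.mem_sup_left hy))

end aux

/-- A step in the proof of Tate's isogeny result over finite fields, in linear-algebra form. Let K be a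
field and V a K-vector space of finite dimension 2g carrying a nondegenerate alternating bilinear
form e. Let F be a K-subalgebra of End(V) which is isomorphic as a K-algebra to a finite product K ×
⋯ × K and which is spanned over K by a set S of similitudes of e (for each s in S there is a nonzero
scalar c with e(s x, s y) = c·e(x, y) for all x, y). Let D be a set of endomorphisms of V such that
every F-stable isotropic subspace W of dimension g (a maximal isotropic subspace) is D-stable. Then
every F-stable isotropic subspace of V is D-stable. (In the application V is the rational ℓ-adic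
Tate module of an abelian variety over a finite field with the Riemann form of a polarisation, F the
algebra generated by the Galois group, split for the chosen ℓ, and D the commutant of the image of
the endomorphism algebra; the hypothesis on maximal isotropic subspaces is the step obtained from
the finiteness of isomorphism classes.) -/
theorem result (K : Type u) [Field K]
    (V : Type u) [AddCommGroup V] [Module K V] [FiniteDimensional K V] (g : ℕ) (hV : Module.finrank K V = 2 * g)
    (e : LinearMap.BilinForm K V) (he : e.IsAlt) (hnd : e.Nondegenerate)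
    (F : Subalgebra K (Module.End K V)) (r : ℕ) (hF : Nonempty (F ≃ₐ[K] (Fin r → K)))
    (S : Set (Module.End K V)) (hS : Submodule.span K S = Subalgebra.toSubmodule F)
    (hsim : ∀ s ∈ S, ∃ c : K, c ≠ 0 ∧ ∀ x y : V, e (s x) (s y) = c * e x y)
    (D : Set (Module.End K V))
    (hmax : ∀ W : Submodule K V, (∀ f ∈ F, ∀ w ∈ W, f w ∈ W) → (∀ x ∈ W, ∀ y ∈ W, e x y = 0) →
      Module.finrank K W = g → ∀ d ∈ D, ∀ w ∈ W, d w ∈ W)
    (W : Submodule K V) (hWF : ∀ f ∈ F, ∀ w ∈ W, f w ∈ W) (hWiso : ∀ x ∈ W, ∀ y ∈ W, e x y = 0) :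
    ∀ d ∈ D, ∀ w ∈ W, d w ∈ W := by
  obtain ⟨φ⟩ := hF
  have hle : Module.finrank K W ≤ g := by
    have h1 : W ≤ e.orthogonal W := fun x hx n hn => hWiso n hn x hx
    have h2 := Submodule.finrank_mono h1
    rw [LinearMap.BilinForm.finrank_orthogonal hnd, hV] at h2
    omega
  exact main g hV e he hnd F r φ S hS hsim D hmax (g - Module.finrank K W) W hWF hWiso (by omega)

end Groth.Agent.S18545
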