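import Groth.Statements.S18546
import Mathlib

set_option autoImplicit false
open scoped TensorProduct
universe u v
open GalCoh

namespace Groth.Agent.S18546

open TensorProduct

theorem dec1 : ∀ a b c d : ZMod 2, ¬(a = 0 ∧ b = 0) → ¬(c = 0 ∧ d = 0) → ¬(a = c ∧ b = d) →
    a*c + c*a = 0 ∧ a*d + c*b = 1 ∧ b*c + d*a = 1 ∧ b*d + d*b = 0 ∧
    a*a + a*c + c*c = 1 ∧ b*b + b*d + d*d = 1 ∧
    ((a*b + a*d + c*d = 1 ∧ b*a + b*c + d*c = 0) ∨ (a*b + a*d + c*d = 0 ∧ b*a + b*c + d*c = 1)) := by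
  decide

theorem add_self2 : ∀ a : ZMod 2, a + a = 0 := by decide

section
variable {V : Type v} [AddCommGroup V] [Module (ZMod 2) V]

/-- linear combination of the four basic tensors -/
noncomputable def L (e1 e2 : V) (p q r u : ZMod 2) : V ⊗[ZMod 2] V :=
  p • (e1 ⊗ₜ[ZMod 2] e1) + q • (e1 ⊗ₜ[ZMod 2] e2) + r • (e2 ⊗ₜ[ZMod 2] e1) + u • (e2 ⊗ₜ[ZMod 2] e2)

theorem L_add (e1 e2 : V) (p q r u p' q' r' u' : ZMod 2) :
    L e1 e2 p q r u + L e1 e2 p' q' r' u' = L e1 e2 (p+p') (q+q') (r+r') (u+u') := by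
  unfold L
  simp only [add_smul]
  abel

theorem L_smul (e1 e2 : V) (m p q r u : ZMod 2) :
    m • L e1 e2 p q r u = L e1 e2 (m*p) (m*q) (m*r) (m*u) := by
  unfold L
  simp only [smul_add, smul_smul]

theorem L_congr (e1 e2 : V) {p q r u p' q' r' u' : ZMod 2} (hp : p = p') (hq : q = q')
    (hr : r = r') (hu : u = u') : L e1 e2 p q r u = L e1 e2 p' q' r' u' := by
  subst hp hq hr hu
  rfl

theorem tmul_L (e1 e2 : V) (x y : V) {x1 x2 y1 y2 : ZMod 2} (hx : x = x1 • e1 + x2 • e2)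
    (hy : y = y1 • e1 + y2 • e2) :
    x ⊗ₜ[ZMod 2] y = L e1 e2 (x1*y1) (x1*y2) (x2*y1) (x2*y2) := by
  subst hx hy
  unfold L
  rw [add_tmul, tmul_add, tmul_add]
  simp only [smul_tmul_smul]
  abel

theorem main (G : Type u) [Group G] (b : Module.Basis (Fin 2) (ZMod 2) V)
    (ρ : Representation (ZMod 2) G V) :
    ∃ W : Submodule (ZMod 2) (V ⊗[ZMod 2] V),
      (∀ g : G, ∀ w ∈ W, ρ.tprod ρ g w ∈ W) ∧
      W ⊓ Submodule.span (ZMod 2) (Set.range fun v : V => v ⊗ₜ[ZMod 2] v) =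
        Submodule.span (ZMod 2) (Set.range fun p : V × V => p.1 ⊗ₜ[ZMod 2] p.2 + p.2 ⊗ₜ[ZMod 2] p.1) ∧
      W ⊔ Submodule.span (ZMod 2) (Set.range fun v : V => v ⊗ₜ[ZMod 2] v) = ⊤ := by
  classical
  obtain ⟨e1, he1⟩ : ∃ e, e = b 0 := ⟨_, rfl⟩
  obtain ⟨e2, he2⟩ : ∃ e, e = b 1 := ⟨_, rfl⟩
  obtain ⟨c1, hc1⟩ : ∃ c, c = b.coord 0 := ⟨_, rfl⟩
  obtain ⟨c2, hc2⟩ : ∃ c, c = b.coord 1 := ⟨_, rfl⟩
  have h11 : c1 e1 = 1 := by
    rw [hc1, he1, Module.Basis.coord_apply, Module.Basis.repr_self, Finsupp.single_eq_same]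
  have h22 : c2 e2 = 1 := by
    rw [hc2, he2, Module.Basis.coord_apply, Module.Basis.repr_self, Finsupp.single_eq_same]
  have h12 : c1 e2 = 0 := by
    rw [hc1, he2, Module.Basis.coord_apply, Module.Basis.repr_self, Finsupp.single_apply,
      if_neg (by decide)]
  have h21 : c2 e1 = 0 := by
    rw [hc2, he1, Module.Basis.coord_apply, Module.Basis.repr_self, Finsupp.single_apply,
      if_neg (by decide)]
  have F1 : ∀ x : V, x = c1 x • e1 + c2 x • e2 := by
    intro x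
    have := b.sum_repr x
    rw [Fin.sum_univ_two] at this
    rw [hc1, hc2, he1, he2, Module.Basis.coord_apply, Module.Basis.coord_apply]
    exact this.symm
  have hs : L e1 e2 0 1 1 0 = e1 ⊗ₜ[ZMod 2] e2 + e2 ⊗ₜ[ZMod 2] e1 := by
    unfold L
    rw [zero_smul, one_smul, one_smul, zero_smul, zero_add, add_zero]
  have ht : L e1 e2 1 1 0 1 = e1 ⊗ₜ[ZMod 2] e1 + e1 ⊗ₜ[ZMod 2] e2 + e2 ⊗ₜ[ZMod 2] e2 := by
    unfold L
    rw [one_smul, one_smul, zero_smul, one_smul, add_zero]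
  obtain ⟨W, hW⟩ : ∃ W : Submodule (ZMod 2) (V ⊗[ZMod 2] V),
      W = Submodule.span (ZMod 2) {L e1 e2 0 1 1 0, L e1 e2 1 1 0 1} := ⟨_, rfl⟩
  have hsW : L e1 e2 0 1 1 0 ∈ W := by
    rw [hW]; exact Submodule.subset_span (Set.mem_insert _ _)
  have htW : L e1 e2 1 1 0 1 ∈ W := by
    rw [hW]; exact Submodule.subset_span (Set.mem_insert_of_mem _ rfl)
  -- the functional
  obtain ⟨lam, hlam⟩ : ∃ lam : V ⊗[ZMod 2] V →ₗ[ZMod 2] ZMod 2,
      ∀ x y, lam (x ⊗ₜ[ZMod 2] y) = c1 x * c2 y + c2 x * c1 y := by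
    refine ⟨TensorProduct.lift ((LinearMap.mul (ZMod 2) (ZMod 2)).compl₁₂ c1 c2 +
      (LinearMap.mul (ZMod 2) (ZMod 2)).compl₁₂ c2 c1), ?_⟩
    intro x y
    rw [TensorProduct.lift.tmul, LinearMap.add_apply, LinearMap.add_apply,
      LinearMap.compl₁₂_apply, LinearMap.compl₁₂_apply, LinearMap.mul_apply', LinearMap.mul_apply']
  have hlams : lam (L e1 e2 0 1 1 0) = 0 := by
    rw [hs, map_add, hlam, hlam, h11, h22, h12, h21]; decide
  have hlamt : lam (L e1 e2 1 1 0 1) = 1 := by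
    rw [ht, map_add, map_add, hlam, hlam, hlam, h11, h22, h12, h21]; decide
  have hlamN : ∀ z ∈ Submodule.span (ZMod 2) (Set.range fun v : V => v ⊗ₜ[ZMod 2] v),
      lam z = 0 := by
    have : Submodule.span (ZMod 2) (Set.range fun v : V => v ⊗ₜ[ZMod 2] v) ≤ LinearMap.ker lam := by
      rw [Submodule.span_le]
      rintro _ ⟨v, rfl⟩
      show lam (v ⊗ₜ[ZMod 2] v) = 0
      rw [hlam, mul_comm (c2 v)]
      exact add_self2 _
    intro z hz
    exact this hz
  refine ⟨W, ?_, ?_, ?_⟩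
  · -- stability
    intro g
    have hinj : Function.Injective (ρ g) := by
      have hl : Function.LeftInverse (ρ g⁻¹) (ρ g) := by
        intro x
        rw [← Module.End.mul_apply, ← map_mul, inv_mul_cancel, map_one, Module.End.one_apply]
      exact hl.injective
    obtain ⟨a, ha⟩ : ∃ a, a = c1 (ρ g e1) := ⟨_, rfl⟩
    obtain ⟨b', hb'⟩ : ∃ a, a = c2 (ρ g e1) := ⟨_, rfl⟩
    obtain ⟨c, hc⟩ : ∃ a, a = c1 (ρ g e2) := ⟨_, rfl⟩
    obtain ⟨d, hd⟩ : ∃ a, a = c2 (ρ g e2) := ⟨_, rfl⟩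
    have G1 : ρ g e1 = a • e1 + b' • e2 := by rw [ha, hb']; exact F1 _
    have G2 : ρ g e2 = c • e1 + d • e2 := by rw [hc, hd]; exact F1 _
    have hnd1 : ¬(a = 0 ∧ b' = 0) := by
      rintro ⟨h1, h2⟩
      rw [h1, h2, zero_smul, zero_smul, add_zero] at G1
      have : e1 = 0 := hinj (by rw [G1, map_zero])
      rw [he1] at this
      exact b.ne_zero 0 this
    have hnd2 : ¬(c = 0 ∧ d = 0) := by
      rintro ⟨h1, h2⟩
      rw [h1, h2, zero_smul, zero_smul, add_zero] at G2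
      have : e2 = 0 := hinj (by rw [G2, map_zero])
      rw [he2] at this
      exact b.ne_zero 1 this
    have hnd3 : ¬(a = c ∧ b' = d) := by
      rintro ⟨h1, h2⟩
      rw [h1, h2, ← G2] at G1
      have : e1 = e2 := hinj G1
      rw [he1, he2] at this
      exact absurd (b.injective this) (by decide)
    obtain ⟨D1, D2, D3, D4, D5, D6, D7⟩ := dec1 a b' c d hnd1 hnd2 hnd3
    have T11 := tmul_L e1 e2 (ρ g e1) (ρ g e1) G1 G1
    have T12 := tmul_L e1 e2 (ρ g e1) (ρ g e2) G1 G2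
    have T21 := tmul_L e1 e2 (ρ g e2) (ρ g e1) G2 G1
    have T22 := tmul_L e1 e2 (ρ g e2) (ρ g e2) G2 G2
    have hle : W ≤ W.comap (ρ.tprod ρ g) := by
      rw [hW, Submodule.span_le, Set.insert_subset_iff, Set.singleton_subset_iff, ← hW]
      constructor
      · show ρ.tprod ρ g (L e1 e2 0 1 1 0) ∈ W
        rw [hs, map_add, Representation.tprod_apply, TensorProduct.map_tmul, TensorProduct.map_tmul,
          T12, T21, L_add, D1, D2, D3, D4]
        exact hsW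
      · show ρ.tprod ρ g (L e1 e2 1 1 0 1) ∈ W
        rw [ht, map_add, map_add, Representation.tprod_apply, TensorProduct.map_tmul,
          TensorProduct.map_tmul, TensorProduct.map_tmul, T11, T12, T22, L_add, L_add, D5, D6]
        rcases D7 with ⟨D7, D8⟩ | ⟨D7, D8⟩
        · rw [D7, D8]
          exact htW
        · rw [D7, D8]
          have : L e1 e2 1 0 1 1 = L e1 e2 1 1 0 1 + L e1 e2 0 1 1 0 := by
            rw [L_add]
            exact L_congr e1 e2 (by decide) (by decide) (by decide) (by decide)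
          rw [this]
          exact W.add_mem htW hsW
    intro w hw
    exact hle hw
  · apply le_antisymm
    · rintro w ⟨hwW, hwN⟩
      have hwW' : w ∈ Submodule.span (ZMod 2) {L e1 e2 0 1 1 0, L e1 e2 1 1 0 1} := by
        rw [← hW]; exact hwW
      obtain ⟨α, β, rfl⟩ := Submodule.mem_span_pair.mp hwW'
      have h0 := hlamN _ hwN
      rw [map_add, map_smul, map_smul, hlams, hlamt, smul_eq_mul, smul_eq_mul, mul_zero, mul_one,
        zero_add] at h0
      rw [h0, zero_smul, add_zero, hs]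
      exact Submodule.smul_mem _ _ (Submodule.subset_span ⟨(e1, e2), rfl⟩)
    · rw [Submodule.span_le]
      rintro _ ⟨⟨x, y⟩, rfl⟩
      constructor
      · show x ⊗ₜ[ZMod 2] y + y ⊗ₜ[ZMod 2] x ∈ W
        rw [tmul_L e1 e2 x y (F1 x) (F1 y), tmul_L e1 e2 y x (F1 y) (F1 x), L_add]
        have : L e1 e2 (c1 x * c1 y + c1 y * c1 x) (c1 x * c2 y + c1 y * c2 x)
            (c2 x * c1 y + c2 y * c1 x) (c2 x * c2 y + c2 y * c2 x) =
            (c1 x * c2 y + c1 y * c2 x) • L e1 e2 0 1 1 0 := by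
          rw [L_smul]
          apply L_congr
          · rw [mul_zero, mul_comm (c1 y)]; exact add_self2 _
          · rw [mul_one]
          · rw [mul_one]; ring
          · rw [mul_zero, mul_comm (c2 y)]; exact add_self2 _
        rw [this]
        exact W.smul_mem _ hsW
      · show x ⊗ₜ[ZMod 2] y + y ⊗ₜ[ZMod 2] x ∈
          Submodule.span (ZMod 2) (Set.range fun v : V => v ⊗ₜ[ZMod 2] v)
        have : x ⊗ₜ[ZMod 2] y + y ⊗ₜ[ZMod 2] x =
            (x + y) ⊗ₜ[ZMod 2] (x + y) - x ⊗ₜ[ZMod 2] x - y ⊗ₜ[ZMod 2] y := by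
          rw [add_tmul, tmul_add, tmul_add]; abel
        rw [this]
        exact Submodule.sub_mem _ (Submodule.sub_mem _ (Submodule.subset_span ⟨x + y, rfl⟩)
          (Submodule.subset_span ⟨x, rfl⟩)) (Submodule.subset_span ⟨y, rfl⟩)
  · rw [eq_top_iff, ← TensorProduct.span_tmul_eq_top, Submodule.span_le]
    rintro _ ⟨x, y, rfl⟩
    have hE11 : e1 ⊗ₜ[ZMod 2] e1 ∈
        W ⊔ Submodule.span (ZMod 2) (Set.range fun v : V => v ⊗ₜ[ZMod 2] v) :=
      Submodule.mem_sup_right (Submodule.subset_span ⟨e1, rfl⟩)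
    have hE22 : e2 ⊗ₜ[ZMod 2] e2 ∈
        W ⊔ Submodule.span (ZMod 2) (Set.range fun v : V => v ⊗ₜ[ZMod 2] v) :=
      Submodule.mem_sup_right (Submodule.subset_span ⟨e2, rfl⟩)
    have hE12 : e1 ⊗ₜ[ZMod 2] e2 ∈
        W ⊔ Submodule.span (ZMod 2) (Set.range fun v : V => v ⊗ₜ[ZMod 2] v) := by
      have : e1 ⊗ₜ[ZMod 2] e2 = L e1 e2 1 1 0 1 - e1 ⊗ₜ[ZMod 2] e1 - e2 ⊗ₜ[ZMod 2] e2 := by
        rw [ht]; abel
      rw [this]
      exact Submodule.sub_mem _ (Submodule.sub_mem _ (Submodule.mem_sup_left htW) hE11) hE22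
    have hE21 : e2 ⊗ₜ[ZMod 2] e1 ∈
        W ⊔ Submodule.span (ZMod 2) (Set.range fun v : V => v ⊗ₜ[ZMod 2] v) := by
      have : e2 ⊗ₜ[ZMod 2] e1 = L e1 e2 0 1 1 0 - e1 ⊗ₜ[ZMod 2] e2 := by
        rw [hs]; abel
      rw [this]
      exact Submodule.sub_mem _ (Submodule.mem_sup_left hsW) hE12
    show x ⊗ₜ[ZMod 2] y ∈ W ⊔ Submodule.span (ZMod 2) (Set.range fun v : V => v ⊗ₜ[ZMod 2] v)
    rw [tmul_L e1 e2 x y (F1 x) (F1 y)]
    unfold L
    exact Submodule.add_mem _ (Submodule.add_mem _ (Submodule.add_mem _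
      (Submodule.smul_mem _ _ hE11) (Submodule.smul_mem _ _ hE12)) (Submodule.smul_mem _ _ hE21))
      (Submodule.smul_mem _ _ hE22)

end



/-- Let G be a group acting linearly on a vector space V of dimension 2 over the field 𝔽₂ with two
elements. Then the short exact sequence of G-modules 0 → V → S²V → Λ²V → 0 (v ↦ v·v, x·y ↦ x ∧ y)
splits G-equivariantly. Here, for a vector space V over the field with two elements carrying a
linear action ρ of a group G, write N_a ⊆ V ⊗ V for the span of the tensors v ⊗ v and N_s ⊆ N_a for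
the span of the tensors x ⊗ y + y ⊗ x, so that S²V = (V ⊗ V)/N_s, Λ²V = (V ⊗ V)/N_a and the
surjection S²V → Λ²V, x·y ↦ x ∧ y, is G-equivariant for the diagonal action; a G-equivariant linear
section of this surjection is the same thing as a G-stable subspace W of V ⊗ V with W ∩ N_a = N_s
and W + N_a = V ⊗ V, which is how the splitting is stated. (The source has the absolute Galois group
of a field acting continuously; any group is allowed here.) -/
theorem result (G : Type u) [Group G] (V : Type v)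
    [AddCommGroup V] [Module (ZMod 2) V] (hV : Module.finrank (ZMod 2) V = 2)
    (ρ : Representation (ZMod 2) G V) :
    ∃ W : Submodule (ZMod 2) (V ⊗[ZMod 2] V),
      (∀ g : G, ∀ w ∈ W, ρ.tprod ρ g w ∈ W) ∧
      W ⊓ Submodule.span (ZMod 2) (Set.range fun v : V => v ⊗ₜ[ZMod 2] v) =
        Submodule.span (ZMod 2) (Set.range fun p : V × V => p.1 ⊗ₜ[ZMod 2] p.2 + p.2 ⊗ₜ[ZMod 2] p.1) ∧
      W ⊔ Submodule.span (ZMod 2) (Set.range fun v : V => v ⊗ₜ[ZMod 2] v) = ⊤ := by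
  haveI : Fact (Nat.Prime 2) := ⟨Nat.prime_two⟩
  haveI : Module.Finite (ZMod 2) V := Module.finite_of_finrank_pos (by omega)
  exact main G (Module.finBasisOfFinrankEq (ZMod 2) V hV) ρ


end Groth.Agent.S18546
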