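import Groth.Statements.S18547
import Mathlib

set_option autoImplicit false
open scoped TensorProduct
universe u v
open GalCoh

namespace Groth.Agent.S18547

open TensorProduct

theorem add_self2 : ∀ a : ZMod 2, a + a = 0 := by decide

theorem sub_sym2 : ∀ a b p q : ZMod 2, a + b = p + q → b - q = a - p := by decide

theorem eq_of_add2 : ∀ a b : ZMod 2, a + b = 0 → b = a := by decide

/-- coordinates of a vector `x` with `x ∧ y = (γ, β, α)` -/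
def XX (γ β α : ZMod 2) : Fin 3 → ZMod 2 := ![γ + β + γ * β, (1 + γ) * α, γ * α]

/-- coordinates of a vector `y` with `x ∧ y = (γ, β, α)` -/
def YY (γ β α : ZMod 2) : Fin 3 → ZMod 2 := ![0, γ, γ * β + (1 + γ) * (β + α + α * β)]

theorem decXY : ∀ γ β α : ZMod 2,
    XX γ β α 0 * YY γ β α 1 + XX γ β α 1 * YY γ β α 0 = γ ∧
    XX γ β α 0 * YY γ β α 2 + XX γ β α 2 * YY γ β α 0 = β ∧
    XX γ β α 1 * YY γ β α 2 + XX γ β α 2 * YY γ β α 1 = α := by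
  decide

set_option maxRecDepth 100000 in
theorem decMain : ∀ γ β α a0 a1 a2 b0 b1 b2 : ZMod 2, ¬(γ = 0 ∧ β = 0 ∧ α = 0) →
    a0 * b1 + a1 * b0 = γ → a0 * b2 + a2 * b0 = β → a1 * b2 + a2 * b1 = α →
    ((a0 * a0 + a0 * b0 + b0 * b0) -
      (XX γ β α 0 * XX γ β α 0 + XX γ β α 0 * YY γ β α 0 + YY γ β α 0 * YY γ β α 0) = 0) ∧
    ((a1 * a1 + a1 * b1 + b1 * b1) -
      (XX γ β α 1 * XX γ β α 1 + XX γ β α 1 * YY γ β α 1 + YY γ β α 1 * YY γ β α 1) = 0) ∧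
    ((a2 * a2 + a2 * b2 + b2 * b2) -
      (XX γ β α 2 * XX γ β α 2 + XX γ β α 2 * YY γ β α 2 + YY γ β α 2 * YY γ β α 2) = 0) ∧
    ((a1 * a0 + a1 * b0 + b1 * b0) -
      (XX γ β α 1 * XX γ β α 0 + XX γ β α 1 * YY γ β α 0 + YY γ β α 1 * YY γ β α 0) =
     (a0 * a1 + a0 * b1 + b0 * b1) -
      (XX γ β α 0 * XX γ β α 1 + XX γ β α 0 * YY γ β α 1 + YY γ β α 0 * YY γ β α 1)) ∧
    ((a2 * a0 + a2 * b0 + b2 * b0) -
      (XX γ β α 2 * XX γ β α 0 + XX γ β α 2 * YY γ β α 0 + YY γ β α 2 * YY γ β α 0) =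
     (a0 * a2 + a0 * b2 + b0 * b2) -
      (XX γ β α 0 * XX γ β α 2 + XX γ β α 0 * YY γ β α 2 + YY γ β α 0 * YY γ β α 2)) ∧
    ((a2 * a1 + a2 * b1 + b2 * b1) -
      (XX γ β α 2 * XX γ β α 1 + XX γ β α 2 * YY γ β α 1 + YY γ β α 2 * YY γ β α 1) =
     (a1 * a2 + a1 * b2 + b1 * b2) -
      (XX γ β α 1 * XX γ β α 2 + XX γ β α 1 * YY γ β α 2 + YY γ β α 1 * YY γ β α 2)) := by
  decide

section
variable {V : Type v} [AddCommGroup V] [Module (ZMod 2) V]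

/-- the tensor with coefficient matrix `m` -/
noncomputable def T3 (e : Fin 3 → V) (m : Fin 3 → Fin 3 → ZMod 2) : V ⊗[ZMod 2] V :=
  ∑ i, ∑ j, m i j • (e i ⊗ₜ[ZMod 2] e j)

theorem T3_add (e : Fin 3 → V) (m m' : Fin 3 → Fin 3 → ZMod 2) :
    T3 e m + T3 e m' = T3 e (fun i j => m i j + m' i j) := by
  unfold T3
  simp only [add_smul, Finset.sum_add_distrib]

theorem T3_sub (e : Fin 3 → V) (m m' : Fin 3 → Fin 3 → ZMod 2) :
    T3 e m - T3 e m' = T3 e (fun i j => m i j - m' i j) := by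
  unfold T3
  simp only [sub_smul, Finset.sum_sub_distrib]

theorem tmul_T3 (e : Fin 3 → V) (a b' : Fin 3 → ZMod 2) :
    (∑ i, a i • e i) ⊗ₜ[ZMod 2] (∑ j, b' j • e j) = T3 e (fun i j => a i * b' j) := by
  unfold T3
  rw [TensorProduct.sum_tmul]
  refine Finset.sum_congr rfl fun i _ => ?_
  rw [TensorProduct.tmul_sum]
  refine Finset.sum_congr rfl fun j _ => ?_
  rw [TensorProduct.smul_tmul_smul]

theorem T3_expand (e : Fin 3 → V) (m : Fin 3 → Fin 3 → ZMod 2) (h10 : m 1 0 = m 0 1)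
    (h20 : m 2 0 = m 0 2) (h21 : m 2 1 = m 1 2) :
    T3 e m = m 0 0 • (e 0 ⊗ₜ[ZMod 2] e 0) + m 1 1 • (e 1 ⊗ₜ[ZMod 2] e 1) +
      m 2 2 • (e 2 ⊗ₜ[ZMod 2] e 2) +
      m 0 1 • (e 0 ⊗ₜ[ZMod 2] e 1 + e 1 ⊗ₜ[ZMod 2] e 0) +
      m 0 2 • (e 0 ⊗ₜ[ZMod 2] e 2 + e 2 ⊗ₜ[ZMod 2] e 0) +
      m 1 2 • (e 1 ⊗ₜ[ZMod 2] e 2 + e 2 ⊗ₜ[ZMod 2] e 1) := by
  unfold T3
  simp only [Fin.sum_univ_three, h10, h20, h21, smul_add]
  abel

theorem sym_mem_Ns (x y : V) : x ⊗ₜ[ZMod 2] y + y ⊗ₜ[ZMod 2] x ∈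
    Submodule.span (ZMod 2)
      (Set.range fun p : V × V => p.1 ⊗ₜ[ZMod 2] p.2 + p.2 ⊗ₜ[ZMod 2] p.1) :=
  Submodule.subset_span ⟨(x, y), rfl⟩

theorem sq_mem_Na (x : V) : x ⊗ₜ[ZMod 2] x ∈
    Submodule.span (ZMod 2) (Set.range fun v : V => v ⊗ₜ[ZMod 2] v) :=
  Submodule.subset_span ⟨x, rfl⟩

theorem sym_mem_Na (x y : V) : x ⊗ₜ[ZMod 2] y + y ⊗ₜ[ZMod 2] x ∈
    Submodule.span (ZMod 2) (Set.range fun v : V => v ⊗ₜ[ZMod 2] v) := by
  have : x ⊗ₜ[ZMod 2] y + y ⊗ₜ[ZMod 2] x =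
      (x + y) ⊗ₜ[ZMod 2] (x + y) - x ⊗ₜ[ZMod 2] x - y ⊗ₜ[ZMod 2] y := by
    rw [add_tmul, tmul_add, tmul_add]; abel
  rw [this]
  exact Submodule.sub_mem _ (Submodule.sub_mem _ (sq_mem_Na _) (sq_mem_Na _)) (sq_mem_Na _)

theorem T3_mem_Ns (e : Fin 3 → V) (m : Fin 3 → Fin 3 → ZMod 2) (h00 : m 0 0 = 0)
    (h11 : m 1 1 = 0) (h22 : m 2 2 = 0) (h10 : m 1 0 = m 0 1)
    (h20 : m 2 0 = m 0 2) (h21 : m 2 1 = m 1 2) :
    T3 e m ∈ Submodule.span (ZMod 2)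
      (Set.range fun p : V × V => p.1 ⊗ₜ[ZMod 2] p.2 + p.2 ⊗ₜ[ZMod 2] p.1) := by
  rw [T3_expand e m h10 h20 h21, h00, h11, h22, zero_smul, zero_smul, zero_smul, zero_add,
    zero_add]
  exact add_mem (add_mem (Submodule.smul_mem _ _ (sym_mem_Ns _ _))
    (Submodule.smul_mem _ _ (sym_mem_Ns _ _))) (Submodule.smul_mem _ _ (sym_mem_Ns _ _))

theorem T3_mem_Na (e : Fin 3 → V) (m : Fin 3 → Fin 3 → ZMod 2) (h10 : m 1 0 = m 0 1)
    (h20 : m 2 0 = m 0 2) (h21 : m 2 1 = m 1 2) :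
    T3 e m ∈ Submodule.span (ZMod 2) (Set.range fun v : V => v ⊗ₜ[ZMod 2] v) := by
  rw [T3_expand e m h10 h20 h21]
  exact add_mem (add_mem (add_mem (add_mem (add_mem (Submodule.smul_mem _ _ (sq_mem_Na _))
    (Submodule.smul_mem _ _ (sq_mem_Na _))) (Submodule.smul_mem _ _ (sq_mem_Na _)))
    (Submodule.smul_mem _ _ (sym_mem_Na _ _))) (Submodule.smul_mem _ _ (sym_mem_Na _ _)))
    (Submodule.smul_mem _ _ (sym_mem_Na _ _))

/-- the alternating functional attached to two linear forms -/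
noncomputable def Phi (c1 c2 : V →ₗ[ZMod 2] ZMod 2) : V ⊗[ZMod 2] V →ₗ[ZMod 2] ZMod 2 :=
  TensorProduct.lift ((LinearMap.mul (ZMod 2) (ZMod 2)).compl₁₂ c1 c2 +
    (LinearMap.mul (ZMod 2) (ZMod 2)).compl₁₂ c2 c1)

theorem Phi_tmul (c1 c2 : V →ₗ[ZMod 2] ZMod 2) (x y : V) :
    Phi c1 c2 (x ⊗ₜ[ZMod 2] y) = c1 x * c2 y + c2 x * c1 y := by
  unfold Phi
  rw [TensorProduct.lift.tmul, LinearMap.add_apply, LinearMap.add_apply,
    LinearMap.compl₁₂_apply, LinearMap.compl₁₂_apply, LinearMap.mul_apply', LinearMap.mul_apply']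

theorem Phi_Na (c1 c2 : V →ₗ[ZMod 2] ZMod 2) :
    ∀ z ∈ Submodule.span (ZMod 2) (Set.range fun v : V => v ⊗ₜ[ZMod 2] v), Phi c1 c2 z = 0 := by
  have : Submodule.span (ZMod 2) (Set.range fun v : V => v ⊗ₜ[ZMod 2] v) ≤
      LinearMap.ker (Phi c1 c2) := by
    rw [Submodule.span_le]
    rintro _ ⟨v, rfl⟩
    show Phi c1 c2 (v ⊗ₜ[ZMod 2] v) = 0
    rw [Phi_tmul, mul_comm (c2 v)]
    exact add_self2 _
  intro z hz
  exact this hz

theorem Na_stable {G : Type u} [Group G] (ρ : Representation (ZMod 2) G V) (g : G) :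
    ∀ z ∈ Submodule.span (ZMod 2) (Set.range fun v : V => v ⊗ₜ[ZMod 2] v),
      ρ.tprod ρ g z ∈ Submodule.span (ZMod 2) (Set.range fun v : V => v ⊗ₜ[ZMod 2] v) := by
  have : Submodule.span (ZMod 2) (Set.range fun v : V => v ⊗ₜ[ZMod 2] v) ≤
      (Submodule.span (ZMod 2) (Set.range fun v : V => v ⊗ₜ[ZMod 2] v)).comap (ρ.tprod ρ g) := by
    rw [Submodule.span_le]
    rintro _ ⟨v, rfl⟩
    show ρ.tprod ρ g (v ⊗ₜ[ZMod 2] v) ∈
      Submodule.span (ZMod 2) (Set.range fun v : V => v ⊗ₜ[ZMod 2] v)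
    rw [Representation.tprod_apply, TensorProduct.map_tmul]
    exact sq_mem_Na _
  intro z hz
  exact this hz

theorem exists_T3 (b : Module.Basis (Fin 3) (ZMod 2) V) (z : V ⊗[ZMod 2] V) :
    ∃ m, z = T3 b m := by
  induction z using TensorProduct.induction_on with
  | zero =>
    refine ⟨fun _ _ => 0, ?_⟩
    unfold T3
    simp only [zero_smul, Finset.sum_const_zero]
  | tmul x y =>
    refine ⟨fun i j => b.repr x i * b.repr y j, ?_⟩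
    rw [← tmul_T3, b.sum_repr, b.sum_repr]
  | add z w hz hw =>
    obtain ⟨m, rfl⟩ := hz
    obtain ⟨m', rfl⟩ := hw
    exact ⟨_, T3_add b m m'⟩

theorem coord_sum (b : Module.Basis (Fin 3) (ZMod 2) V) (X : Fin 3 → ZMod 2) (i : Fin 3) :
    b.coord i (∑ k, X k • b k) = X i := by
  rw [Module.Basis.coord_apply, b.repr_sum_self]

theorem main (G : Type u) [Group G] (b : Module.Basis (Fin 3) (ZMod 2) V)
    (ρ : Representation (ZMod 2) G V) (t : V ⊗[ZMod 2] V)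
    (ht : ∀ g : G, ρ.tprod ρ g t - t ∈
      Submodule.span (ZMod 2) (Set.range fun v : V => v ⊗ₜ[ZMod 2] v)) :
    ∃ t' : V ⊗[ZMod 2] V,
      t' - t ∈ Submodule.span (ZMod 2) (Set.range fun v : V => v ⊗ₜ[ZMod 2] v) ∧
      ∀ g : G, ρ.tprod ρ g t' - t' ∈ Submodule.span (ZMod 2)
        (Set.range fun p : V × V => p.1 ⊗ₜ[ZMod 2] p.2 + p.2 ⊗ₜ[ZMod 2] p.1) := by
  classical
  obtain ⟨m, rfl⟩ := exists_T3 b t
  obtain ⟨γ, hγ⟩ : ∃ γ, γ = m 0 1 + m 1 0 := ⟨_, rfl⟩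
  obtain ⟨β, hβ⟩ : ∃ β, β = m 0 2 + m 2 0 := ⟨_, rfl⟩
  obtain ⟨α, hα⟩ : ∃ α, α = m 1 2 + m 2 1 := ⟨_, rfl⟩
  by_cases h0 : γ = 0 ∧ β = 0 ∧ α = 0
  · obtain ⟨h1, h2, h3⟩ := h0
    refine ⟨0, ?_, ?_⟩
    · rw [zero_sub]
      exact Submodule.neg_mem _ (T3_mem_Na b m (eq_of_add2 _ _ (hγ.symm.trans h1))
        (eq_of_add2 _ _ (hβ.symm.trans h2)) (eq_of_add2 _ _ (hα.symm.trans h3)))
    · intro g
      rw [map_zero, sub_zero]
      exact zero_mem _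
  · obtain ⟨hXY1, hXY2, hXY3⟩ := decXY γ β α
    obtain ⟨X, hX⟩ : ∃ X, X = XX γ β α := ⟨_, rfl⟩
    obtain ⟨Y, hY⟩ : ∃ Y, Y = YY γ β α := ⟨_, rfl⟩
    rw [← hX, ← hY] at hXY1 hXY2 hXY3
    obtain ⟨x, hx⟩ : ∃ x : V, x = ∑ i, X i • b i := ⟨_, rfl⟩
    obtain ⟨y, hy⟩ : ∃ y : V, y = ∑ i, Y i • b i := ⟨_, rfl⟩
    have hxx : x ⊗ₜ[ZMod 2] x = T3 b (fun i j => X i * X j) := by rw [hx, tmul_T3]
    have hxy : x ⊗ₜ[ZMod 2] y = T3 b (fun i j => X i * Y j) := by rw [hx, hy, tmul_T3]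
    have hyy : y ⊗ₜ[ZMod 2] y = T3 b (fun i j => Y i * Y j) := by rw [hy, tmul_T3]
    have hcx : ∀ i, b.coord i x = X i := fun i => by rw [hx, coord_sum]
    have hcy : ∀ i, b.coord i y = Y i := fun i => by rw [hy, coord_sum]
    have hxyt : x ⊗ₜ[ZMod 2] y - T3 b m ∈
        Submodule.span (ZMod 2) (Set.range fun v : V => v ⊗ₜ[ZMod 2] v) := by
      rw [hxy, T3_sub]
      refine T3_mem_Na b _ ?_ ?_ ?_
      · exact sub_sym2 _ _ _ _ (hXY1.trans hγ)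
      · exact sub_sym2 _ _ _ _ (hXY2.trans hβ)
      · exact sub_sym2 _ _ _ _ (hXY3.trans hα)
    refine ⟨x ⊗ₜ[ZMod 2] x + x ⊗ₜ[ZMod 2] y + y ⊗ₜ[ZMod 2] y, ?_, ?_⟩
    · have e : x ⊗ₜ[ZMod 2] x + x ⊗ₜ[ZMod 2] y + y ⊗ₜ[ZMod 2] y - T3 b m =
          x ⊗ₜ[ZMod 2] x + (x ⊗ₜ[ZMod 2] y - T3 b m) + y ⊗ₜ[ZMod 2] y := by abel
      rw [e]
      exact add_mem (add_mem (sq_mem_Na x) hxyt) (sq_mem_Na y)
    · intro g
      obtain ⟨a, ha⟩ : ∃ a : Fin 3 → ZMod 2, a = fun i => b.repr (ρ g x) i := ⟨_, rfl⟩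
      obtain ⟨a', ha'⟩ : ∃ a' : Fin 3 → ZMod 2, a' = fun i => b.repr (ρ g y) i := ⟨_, rfl⟩
      have hgx : ρ g x = ∑ i, a i • b i := by rw [ha]; exact (b.sum_repr (ρ g x)).symm
      have hgy : ρ g y = ∑ i, a' i • b i := by rw [ha']; exact (b.sum_repr (ρ g y)).symm
      have hinv : ρ.tprod ρ g (x ⊗ₜ[ZMod 2] y) - x ⊗ₜ[ZMod 2] y ∈
          Submodule.span (ZMod 2) (Set.range fun v : V => v ⊗ₜ[ZMod 2] v) := by
        have e : ρ.tprod ρ g (x ⊗ₜ[ZMod 2] y) - x ⊗ₜ[ZMod 2] y =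
            ρ.tprod ρ g (x ⊗ₜ[ZMod 2] y - T3 b m) + (ρ.tprod ρ g (T3 b m) - T3 b m) -
              (x ⊗ₜ[ZMod 2] y - T3 b m) := by
          rw [map_sub]; abel
        rw [e]
        exact sub_mem (add_mem (Na_stable ρ g _ hxyt) (ht g)) hxyt
      have hΦ : ∀ i j : Fin 3, a i * a' j + a j * a' i = X i * Y j + X j * Y i := by
        intro i j
        have h1 := Phi_Na (b.coord i) (b.coord j) _ hinv
        rw [map_sub, Representation.tprod_apply, TensorProduct.map_tmul, Phi_tmul, Phi_tmul,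
          sub_eq_zero, hcx, hcx, hcy, hcy] at h1
        rw [ha, ha']
        exact h1
      obtain ⟨D00, D11, D22, D10, D20, D21⟩ := decMain γ β α (a 0) (a 1) (a 2) (a' 0) (a' 1) (a' 2)
        h0 ((hΦ 0 1).trans hXY1) ((hΦ 0 2).trans hXY2) ((hΦ 1 2).trans hXY3)
      rw [← hX, ← hY] at D00 D11 D22 D10 D20 D21
      have e : ρ.tprod ρ g (x ⊗ₜ[ZMod 2] x + x ⊗ₜ[ZMod 2] y + y ⊗ₜ[ZMod 2] y) -
          (x ⊗ₜ[ZMod 2] x + x ⊗ₜ[ZMod 2] y + y ⊗ₜ[ZMod 2] y) =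
          T3 b (fun i j => (a i * a j + a i * a' j + a' i * a' j) -
            (X i * X j + X i * Y j + Y i * Y j)) := by
        rw [map_add, map_add, Representation.tprod_apply, TensorProduct.map_tmul,
          TensorProduct.map_tmul, TensorProduct.map_tmul, hgx, hgy, tmul_T3, tmul_T3, tmul_T3,
          hxx, hxy, hyy, T3_add, T3_add, T3_add, T3_add, T3_sub]
      rw [e]
      exact T3_mem_Ns b _ D00 D11 D22 D10 D20 D21

end



/-- Let G be a group acting linearly on a vector space V of dimension 3 over the field 𝔽₂ with two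
elements. Then the connecting map (Λ²V)^G → H¹(G, V) of the short exact sequence of G-modules 0 → V
→ S²V → Λ²V → 0 (v ↦ v·v, x·y ↦ x ∧ y) is zero; equivalently, every G-invariant element of Λ²V is
the image of a G-invariant element of S²V. Here N_a ⊆ V ⊗ V is the span of the tensors v ⊗ v and N_s
⊆ N_a the span of the tensors x ⊗ y + y ⊗ x, so that S²V = (V ⊗ V)/N_s and Λ²V = (V ⊗ V)/N_a with
the diagonal action of G, and the statement reads: a tensor t whose class modulo N_a is G-invariant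
is congruent modulo N_a to a tensor whose class modulo N_s is G-invariant. (The source writes the
rank hypothesis on the lattice M with V = M/2M, which has the same rank, and has the absolute Galois
group of a field acting; any group is allowed here.) -/
theorem result (G : Type u) [Group G] (V : Type v)
    [AddCommGroup V] [Module (ZMod 2) V] (hV : Module.finrank (ZMod 2) V = 3)
    (ρ : Representation (ZMod 2) G V) (t : V ⊗[ZMod 2] V)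
    (ht : ∀ g : G, ρ.tprod ρ g t - t ∈ Submodule.span (ZMod 2) (Set.range fun v : V => v ⊗ₜ[ZMod 2] v)) :
    ∃ t' : V ⊗[ZMod 2] V, t' - t ∈ Submodule.span (ZMod 2) (Set.range fun v : V => v ⊗ₜ[ZMod 2] v) ∧
      ∀ g : G, ρ.tprod ρ g t' - t' ∈
        Submodule.span (ZMod 2) (Set.range fun p : V × V => p.1 ⊗ₜ[ZMod 2] p.2 + p.2 ⊗ₜ[ZMod 2] p.1) := by
  haveI : Fact (Nat.Prime 2) := ⟨Nat.prime_two⟩
  haveI : Module.Finite (ZMod 2) V := Module.finite_of_finrank_pos (by omega)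
  exact main G (Module.finBasisOfFinrankEq (ZMod 2) V hV) ρ t ht


end Groth.Agent.S18547
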