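import Groth.Statements.S18548
import Mathlib
-- import your own Groth.Agent.* helpers here

set_option autoImplicit false
open scoped TensorProduct
universe u v w
open GalCoh

namespace Groth.Agent.S18548

section aux
variable {V : Type v} [AddCommGroup V] [Module (ZMod 2) V]

/-- span of the squares `v ⊗ v` -/
def Na (V : Type v) [AddCommGroup V] [Module (ZMod 2) V] : Submodule (ZMod 2) (V ⊗[ZMod 2] V) :=
  Submodule.span (ZMod 2) (Set.range fun v : V => v ⊗ₜ[ZMod 2] v)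

/-- span of the symmetrised tensors -/
def Ns (V : Type v) [AddCommGroup V] [Module (ZMod 2) V] : Submodule (ZMod 2) (V ⊗[ZMod 2] V) :=
  Submodule.span (ZMod 2) (Set.range fun p : V × V => p.1 ⊗ₜ[ZMod 2] p.2 + p.2 ⊗ₜ[ZMod 2] p.1)

lemma add_self_zero {M : Type*} [AddCommGroup M] [Module (ZMod 2) M] (t : M) : t + t = 0 := by
  rw [← two_smul (ZMod 2) t]
  have : (2 : ZMod 2) = 0 := by decide
  rw [this, zero_smul]

lemma sq_eq (c : ZMod 2) : c * c = c := by
  revert c; decide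

lemma sym_mem_Ns (x y : V) : x ⊗ₜ[ZMod 2] y + y ⊗ₜ[ZMod 2] x ∈ Ns V :=
  Submodule.subset_span ⟨(x, y), rfl⟩

lemma sq_mem_Na (x : V) : x ⊗ₜ[ZMod 2] x ∈ Na V := Submodule.subset_span ⟨x, rfl⟩

lemma Ns_le_Na : Ns V ≤ Na V := by
  rw [Ns, Submodule.span_le]
  rintro _ ⟨⟨x, y⟩, rfl⟩
  have h1 : x ⊗ₜ[ZMod 2] y + y ⊗ₜ[ZMod 2] x =
      (x + y) ⊗ₜ[ZMod 2] (x + y) - x ⊗ₜ[ZMod 2] x - y ⊗ₜ[ZMod 2] y := by
    rw [TensorProduct.add_tmul, TensorProduct.tmul_add, TensorProduct.tmul_add]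
    abel
  show x ⊗ₜ[ZMod 2] y + y ⊗ₜ[ZMod 2] x ∈ Na V
  rw [h1]
  exact sub_mem (sub_mem (sq_mem_Na _) (sq_mem_Na _)) (sq_mem_Na _)

/-- the squaring map modulo a submodule containing `Ns` is linear over `𝔽₂` -/
noncomputable def sqMap (P : Submodule (ZMod 2) (V ⊗[ZMod 2] V)) (hP : Ns V ≤ P) :
    V →ₗ[ZMod 2] (V ⊗[ZMod 2] V) ⧸ P where
  toFun v := P.mkQ (v ⊗ₜ[ZMod 2] v)
  map_add' x y := by
    have h1 : (x + y) ⊗ₜ[ZMod 2] (x + y) =
        x ⊗ₜ[ZMod 2] x + y ⊗ₜ[ZMod 2] y + (x ⊗ₜ[ZMod 2] y + y ⊗ₜ[ZMod 2] x) := by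
      rw [TensorProduct.add_tmul, TensorProduct.tmul_add, TensorProduct.tmul_add]
      abel
    have h2 : P.mkQ (x ⊗ₜ[ZMod 2] y + y ⊗ₜ[ZMod 2] x) = 0 := by
      rw [Submodule.mkQ_apply, Submodule.Quotient.mk_eq_zero]
      exact hP (sym_mem_Ns x y)
    rw [h1, map_add, map_add, h2, add_zero]
  map_smul' c x := by
    rw [TensorProduct.smul_tmul_smul, sq_eq, map_smul]
    rfl

variable {ι : Type w} (b : Module.Basis ι (ZMod 2) V)

/-- off-diagonal basis tensors -/
def Wb : Submodule (ZMod 2) (V ⊗[ZMod 2] V) :=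
  Submodule.span (ZMod 2) ((b.tensorProduct b) '' {p : ι × ι | p.1 ≠ p.2})

/-- diagonal basis tensors -/
def Dg : Submodule (ZMod 2) (V ⊗[ZMod 2] V) :=
  Submodule.span (ZMod 2) ((b.tensorProduct b) '' {p : ι × ι | p.1 = p.2})

lemma off_mem_Wb {i j : ι} (h : i ≠ j) : b i ⊗ₜ[ZMod 2] b j ∈ Wb b :=
  Submodule.subset_span ⟨(i, j), h, by rw [Module.Basis.tensorProduct_apply]⟩

lemma diag_mem_Dg (i : ι) : b i ⊗ₜ[ZMod 2] b i ∈ Dg b :=
  Submodule.subset_span ⟨(i, i), rfl, by rw [Module.Basis.tensorProduct_apply]⟩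

lemma Ns_le_Wb : Ns V ≤ Wb b := by
  have key : ((TensorProduct.mk (ZMod 2) V V) + (TensorProduct.mk (ZMod 2) V V).flip).compr₂
      (Wb b).mkQ = 0 := by
    refine b.ext fun i => b.ext fun j => ?_
    simp only [LinearMap.compr₂_apply, LinearMap.add_apply, TensorProduct.mk_apply,
      LinearMap.flip_apply, LinearMap.zero_apply, Submodule.mkQ_apply]
    rw [Submodule.Quotient.mk_eq_zero]
    by_cases h : i = j
    · subst h
      rw [add_self_zero]
      exact Submodule.zero_mem _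
    · exact add_mem (off_mem_Wb b h) (off_mem_Wb b (Ne.symm h))
  rw [Ns, Submodule.span_le]
  rintro _ ⟨⟨x, y⟩, rfl⟩
  have h1 := LinearMap.congr_fun (LinearMap.congr_fun key x) y
  simp only [LinearMap.compr₂_apply, LinearMap.add_apply, TensorProduct.mk_apply,
    LinearMap.flip_apply, LinearMap.zero_apply, Submodule.mkQ_apply] at h1
  rw [Submodule.Quotient.mk_eq_zero] at h1
  exact h1

lemma Na_le : Na V ≤ Ns V ⊔ Dg b := by
  have key : sqMap (Ns V ⊔ Dg b) le_sup_left = 0 := by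
    refine b.ext fun i => ?_
    show (Ns V ⊔ Dg b).mkQ (b i ⊗ₜ[ZMod 2] b i) = 0
    rw [Submodule.mkQ_apply, Submodule.Quotient.mk_eq_zero]
    exact Submodule.mem_sup_right (diag_mem_Dg b i)
  rw [Na, Submodule.span_le]
  rintro _ ⟨x, rfl⟩
  have h1 := LinearMap.congr_fun key x
  have h2 : (Ns V ⊔ Dg b).mkQ (x ⊗ₜ[ZMod 2] x) = 0 := h1
  rw [Submodule.mkQ_apply, Submodule.Quotient.mk_eq_zero] at h2
  exact h2

lemma disj : Disjoint (Wb b) (Dg b) := by
  apply (b.tensorProduct b).linearIndependent.disjoint_span_image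
  rw [Set.disjoint_left]
  intro p hp hp'
  exact hp hp'

lemma Wb_sup_Na : Wb b ⊔ Na V = ⊤ := by
  rw [eq_top_iff, ← (b.tensorProduct b).span_eq, Submodule.span_le]
  rintro _ ⟨⟨i, j⟩, rfl⟩
  rw [Module.Basis.tensorProduct_apply]
  by_cases h : i = j
  · subst h
    exact Submodule.mem_sup_right (sq_mem_Na _)
  · exact Submodule.mem_sup_left (off_mem_Wb b h)

lemma Wb_inf_Na : Wb b ⊓ Na V = Ns V := by
  apply le_antisymm
  · rintro t ⟨htW, htN⟩
    obtain ⟨n, hn, d, hd, rfl⟩ := Submodule.mem_sup.1 (Na_le b htN)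
    have hdW : d ∈ Wb b := by
      have := sub_mem htW (Ns_le_Wb b hn)
      rwa [add_sub_cancel_left] at this
    have hd0 : d = 0 := by
      have := (disj b).le_bot ⟨hdW, hd⟩
      exact this
    rw [hd0, add_zero]
    exact hn
  · exact le_inf (Ns_le_Wb b) Ns_le_Na

end aux

/-- Let G be a group acting linearly on a vector space V over the field 𝔽₂ with two elements, and
suppose V is a permutation module: G permutes the vectors of some basis of V. Then the short exact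
sequence of G-modules 0 → V → S²V → Λ²V → 0 (v ↦ v·v, x·y ↦ x ∧ y) splits G-equivariantly. Here, for
a vector space V over the field with two elements carrying a linear action ρ of a group G, write N_a
⊆ V ⊗ V for the span of the tensors v ⊗ v and N_s ⊆ N_a for the span of the tensors x ⊗ y + y ⊗ x,
so that S²V = (V ⊗ V)/N_s, Λ²V = (V ⊗ V)/N_a and the surjection S²V → Λ²V, x·y ↦ x ∧ y, is
G-equivariant for the diagonal action; a G-equivariant linear section of this surjection is the same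
thing as a G-stable subspace W of V ⊗ V with W ∩ N_a = N_s and W + N_a = V ⊗ V, which is how the
splitting is stated. (The source has the absolute Galois group of a field acting continuously; any
group and any basis index set are allowed here.) -/
theorem result (G : Type u) [Group G] (V : Type v)
    [AddCommGroup V] [Module (ZMod 2) V] (ρ : Representation (ZMod 2) G V)
    (ι : Type w) (b : Module.Basis ι (ZMod 2) V) (hb : ∀ g : G, ∀ i : ι, ∃ j : ι, ρ g (b i) = b j) :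
    ∃ W : Submodule (ZMod 2) (V ⊗[ZMod 2] V),
      (∀ g : G, ∀ w ∈ W, ρ.tprod ρ g w ∈ W) ∧
      W ⊓ Submodule.span (ZMod 2) (Set.range fun v : V => v ⊗ₜ[ZMod 2] v) =
        Submodule.span (ZMod 2) (Set.range fun p : V × V => p.1 ⊗ₜ[ZMod 2] p.2 + p.2 ⊗ₜ[ZMod 2] p.1) ∧
      W ⊔ Submodule.span (ZMod 2) (Set.range fun v : V => v ⊗ₜ[ZMod 2] v) = ⊤ := by
  refine ⟨Wb b, ?_, Wb_inf_Na b, Wb_sup_Na b⟩
  intro g w hw
  have hle : (Wb b).map (ρ.tprod ρ g) ≤ Wb b := by
    rw [Wb, Submodule.map_span, Submodule.span_le]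
    rintro _ ⟨_, ⟨⟨i, j⟩, hij, rfl⟩, rfl⟩
    rw [Module.Basis.tensorProduct_apply]
    obtain ⟨i', hi'⟩ := hb g i
    obtain ⟨j', hj'⟩ := hb g j
    have h1 : ρ.tprod ρ g (b i ⊗ₜ[ZMod 2] b j) = b i' ⊗ₜ[ZMod 2] b j' := by
      rw [Representation.tprod_apply, TensorProduct.map_tmul, hi', hj']
    rw [h1]
    apply off_mem_Wb
    intro h
    apply hij
    have h2 : ρ g (b i) = ρ g (b j) := by rw [hi', hj', h]
    have h3 : ρ g⁻¹ (ρ g (b i)) = ρ g⁻¹ (ρ g (b j)) := by rw [h2]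
    rw [← Module.End.mul_apply, ← Module.End.mul_apply, ← map_mul, inv_mul_cancel, map_one,
      Module.End.one_apply, Module.End.one_apply] at h3
    exact b.injective h3
  exact hle ⟨w, hw, rfl⟩

end Groth.Agent.S18548
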