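import Groth.Statements.S18549
import Mathlib
import Groth.Agent.S18548

set_option autoImplicit false
open scoped TensorProduct
universe u v
open GalCoh

namespace Groth.Agent.S18549

set_option linter.style.haveILetI false


lemma add_self_zero' {M : Type*} [AddCommGroup M] [Module (ZMod 2) M] (t : M) : t + t = 0 := by
  rw [← two_smul (ZMod 2) t]
  have : (2 : ZMod 2) = 0 := by decide
  rw [this, zero_smul]

lemma bprod_inl {R M M' ι ι' : Type*} [Semiring R] [AddCommMonoid M] [Module R M]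
    [AddCommMonoid M'] [Module R M'] (b : Module.Basis ι R M) (b' : Module.Basis ι' R M') (i : ι) :
    (b.prod b') (Sum.inl i) = (b i, 0) :=
  Prod.ext (Module.Basis.prod_apply_inl_fst b b' i) (Module.Basis.prod_apply_inl_snd b b' i)

lemma bprod_inr {R M M' ι ι' : Type*} [Semiring R] [AddCommMonoid M] [Module R M]
    [AddCommMonoid M'] [Module R M'] (b : Module.Basis ι R M) (b' : Module.Basis ι' R M') (i : ι') :
    (b.prod b') (Sum.inr i) = (0, b' i) :=
  Prod.ext (Module.Basis.prod_apply_inr_fst b b' i) (Module.Basis.prod_apply_inr_snd b b' i)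

/-- an involution on a finite-dimensional `𝔽₂`-space permutes some basis -/
theorem exists_perm_basis {V : Type v} [AddCommGroup V] [Module (ZMod 2) V]
    [Module.Finite (ZMod 2) V] (T : V →ₗ[ZMod 2] V) (hT : ∀ x, T (T x) = x) :
    ∃ (ι : Type v) (b : Module.Basis ι (ZMod 2) V), ∀ i, ∃ j, T (b i) = b j := by
  let N : V →ₗ[ZMod 2] V := T + LinearMap.id
  have hN : ∀ x, N x = T x + x := fun x => rfl
  have hTN : ∀ x, T x = x + N x := by
    intro x
    rw [hN, add_comm x, add_assoc, add_self_zero', add_zero]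
  have hNN : ∀ x, N (N x) = 0 := by
    intro x
    rw [hN, hN, map_add, hT, add_comm (T x) x, add_self_zero']
  let K := LinearMap.ker N
  let R := LinearMap.range N
  have hRK : R ≤ K := by
    rintro _ ⟨x, rfl⟩
    exact LinearMap.mem_ker.2 (hNN x)
  obtain ⟨C, hC⟩ := Submodule.exists_isCompl K
  obtain ⟨D₀, hD₀⟩ := Submodule.exists_isCompl R
  let D := D₀ ⊓ K
  have hTD : ∀ d ∈ D, T d = d := by
    intro d hd
    have : N d = 0 := LinearMap.mem_ker.1 hd.2
    rw [hTN, this, add_zero]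
  -- the map e
  let e : (C × (C × D)) →ₗ[ZMod 2] V :=
    C.subtype.comp (LinearMap.fst _ _ _) +
      ((T.comp C.subtype).comp (LinearMap.fst _ _ _) +
        D.subtype.comp (LinearMap.snd _ _ _)).comp (LinearMap.snd _ _ _)
  have he : ∀ (c c' : C) (d : D), e (c, (c', d)) = (c : V) + (T (c' : V) + (d : V)) := fun _ _ _ => rfl
  have hinj : Function.Injective e := by
    rw [← LinearMap.ker_eq_bot, LinearMap.ker_eq_bot']
    rintro ⟨c, c', d⟩ h
    rw [he, hTN] at h
    have h1 : ((c : V) + (c' : V)) + (N (c' : V) + (d : V)) = 0 := by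
      rw [← h]; abel
    have hk : N (c' : V) + (d : V) ∈ K := K.add_mem (hRK ⟨_, rfl⟩) d.2.2
    have hc : (c : V) + (c' : V) ∈ C := C.add_mem c.2 c'.2
    have h2 : (c : V) + (c' : V) = 0 := by
      have : (c : V) + (c' : V) ∈ K := by
        have : (c : V) + (c' : V) = -(N (c' : V) + (d : V)) := eq_neg_of_add_eq_zero_left h1
        rw [this]; exact K.neg_mem hk
      exact (Submodule.disjoint_def.1 hC.disjoint) _ this hc
    rw [h2, zero_add] at h1
    have h3 : N (c' : V) = 0 := by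
      have : N (c' : V) ∈ D₀ := by
        have : N (c' : V) = -(d : V) := eq_neg_of_add_eq_zero_left h1
        rw [this]; exact D₀.neg_mem d.2.1
      exact (Submodule.disjoint_def.1 hD₀.disjoint) _ ⟨_, rfl⟩ this
    have h4 : (c' : V) = 0 :=
      (Submodule.disjoint_def.1 hC.disjoint) _ (LinearMap.mem_ker.2 h3) c'.2
    have h5 : (d : V) = 0 := by rw [h3, zero_add] at h1; exact h1
    have h6 : (c : V) = 0 := by rw [h4, add_zero] at h2; exact h2
    refine Prod.ext (Subtype.ext h6) (Prod.ext (Subtype.ext h4) (Subtype.ext h5))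
  have hsurj : Function.Surjective e := by
    intro x
    obtain ⟨k, hk, c, hc, rfl⟩ := Submodule.mem_sup.1 (hC.codisjoint.eq_top ▸ Submodule.mem_top : x ∈ K ⊔ C)
    obtain ⟨r, hr, d, hd, rfl⟩ := Submodule.mem_sup.1 (hD₀.codisjoint.eq_top ▸ Submodule.mem_top : k ∈ R ⊔ D₀)
    obtain ⟨w, rfl⟩ := hr
    obtain ⟨k', hk', c'', hc'', rfl⟩ := Submodule.mem_sup.1 (hC.codisjoint.eq_top ▸ Submodule.mem_top : w ∈ K ⊔ C)
    have hdK : d ∈ K := by
      have : d = (N (k' + c'') + d) - N (k' + c'') := by abel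
      rw [this]; exact K.sub_mem hk (hRK ⟨_, rfl⟩)
    refine ⟨(⟨c + c'', C.add_mem hc hc''⟩, (⟨c'', hc''⟩, ⟨d, hd, hdK⟩)), ?_⟩
    rw [he]
    show c + c'' + (T c'' + d) = N (k' + c'') + d + c
    rw [map_add, LinearMap.mem_ker.1 hk', zero_add, hTN c'']
    have := add_self_zero' c''
    calc c + c'' + (c'' + N c'' + d) = (c'' + c'') + (N c'' + d + c) := by abel
      _ = N c'' + d + c := by rw [this, zero_add]
  let E := LinearEquiv.ofBijective e ⟨hinj, hsurj⟩
  let bC := Module.Free.chooseBasis (ZMod 2) C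
  let bD := Module.Free.chooseBasis (ZMod 2) D
  let b := (bC.prod (bC.prod bD)).map E
  have hb1 : ∀ k, b (Sum.inl k) = (bC k : V) := by
    intro k
    show e ((bC.prod (bC.prod bD)) (Sum.inl k)) = _
    rw [bprod_inl, show (0 : C × D) = (0, 0) from rfl, he]; simp
  have hb2 : ∀ k, b (Sum.inr (Sum.inl k)) = T (bC k : V) := by
    intro k
    show e ((bC.prod (bC.prod bD)) (Sum.inr (Sum.inl k))) = _
    rw [bprod_inr, bprod_inl, he]; simp
  have hb3 : ∀ l, b (Sum.inr (Sum.inr l)) = (bD l : V) := by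
    intro l
    show e ((bC.prod (bC.prod bD)) (Sum.inr (Sum.inr l))) = _
    rw [bprod_inr, bprod_inr, he]; simp
  refine ⟨_, b, ?_⟩
  rintro (k | k | l)
  · exact ⟨Sum.inr (Sum.inl k), by rw [hb1, hb2]⟩
  · exact ⟨Sum.inl k, by rw [hb1, hb2, hT]⟩
  · exact ⟨Sum.inr (Sum.inr l), by rw [hb3, hTD _ (bD l).2]⟩

theorem main (G : Type u) [Group G] (hG : Nat.card G = 2)
    (V : Type v) [AddCommGroup V] [Module (ZMod 2) V] [Module.Finite (ZMod 2) V]
    (ρ : Representation (ZMod 2) G V) :
    ∃ W : Submodule (ZMod 2) (V ⊗[ZMod 2] V),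
      (∀ g : G, ∀ w ∈ W, ρ.tprod ρ g w ∈ W) ∧
      W ⊓ Submodule.span (ZMod 2) (Set.range fun v : V => v ⊗ₜ[ZMod 2] v) =
        Submodule.span (ZMod 2) (Set.range fun p : V × V => p.1 ⊗ₜ[ZMod 2] p.2 + p.2 ⊗ₜ[ZMod 2] p.1) ∧
      W ⊔ Submodule.span (ZMod 2) (Set.range fun v : V => v ⊗ₜ[ZMod 2] v) = ⊤ := by
  obtain ⟨g₀, hg₀, huniq⟩ := (Nat.card_eq_two_iff' (1 : G)).1 hG
  have hall : ∀ g : G, g = 1 ∨ g = g₀ := by
    intro g
    by_cases h : g = 1
    · exact Or.inl h
    · exact Or.inr (huniq g h)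
  have hsq : g₀ * g₀ = 1 := by
    rcases hall (g₀ * g₀) with h | h
    · exact h
    · exact absurd (mul_eq_right.1 h) hg₀
  have hT : ∀ x, ρ g₀ (ρ g₀ x) = x := by
    intro x
    rw [← Module.End.mul_apply, ← map_mul, hsq, map_one]; rfl
  obtain ⟨ι, b, hb⟩ := exists_perm_basis (ρ g₀) hT
  refine Groth.Agent.S18548.result G V ρ ι b ?_
  intro g i
  rcases hall g with rfl | rfl
  · exact ⟨i, by rw [map_one]; rfl⟩
  · exact hb i



/-- Over the real numbers, that is for the group G = Gal(ℂ/ℝ) of order 2 acting linearly on a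
finite-dimensional vector space V over the field 𝔽₂ with two elements, the short exact sequence of
G-modules 0 → V → S²V → Λ²V → 0 (v ↦ v·v, x·y ↦ x ∧ y) splits G-equivariantly. Here, for a vector
space V over the field with two elements carrying a linear action ρ of a group G, write N_a ⊆ V ⊗ V
for the span of the tensors v ⊗ v and N_s ⊆ N_a for the span of the tensors x ⊗ y + y ⊗ x, so that
S²V = (V ⊗ V)/N_s, Λ²V = (V ⊗ V)/N_a and the surjection S²V → Λ²V, x·y ↦ x ∧ y, is G-equivariant for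
the diagonal action; a G-equivariant linear section of this surjection is the same thing as a
G-stable subspace W of V ⊗ V with W ∩ N_a = N_s and W + N_a = V ⊗ V, which is how the splitting is
stated. (G is any group of order 2 here; V is taken finite-dimensional, the case covered by the
structure theory of finitely generated modules over 𝔽₂[G] that the argument uses.) -/
theorem result (G : Type u) [Group G] (hG : Nat.card G = 2)
    (V : Type v) [AddCommGroup V] [Module (ZMod 2) V] [Module.Finite (ZMod 2) V]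
    (ρ : Representation (ZMod 2) G V) :
    ∃ W : Submodule (ZMod 2) (V ⊗[ZMod 2] V),
      (∀ g : G, ∀ w ∈ W, ρ.tprod ρ g w ∈ W) ∧
      W ⊓ Submodule.span (ZMod 2) (Set.range fun v : V => v ⊗ₜ[ZMod 2] v) =
        Submodule.span (ZMod 2) (Set.range fun p : V × V => p.1 ⊗ₜ[ZMod 2] p.2 + p.2 ⊗ₜ[ZMod 2] p.1) ∧
      W ⊔ Submodule.span (ZMod 2) (Set.range fun v : V => v ⊗ₜ[ZMod 2] v) = ⊤ := by
  exact main G hG V ρ

end Groth.Agent.S18549
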