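import Groth.Statements.S18550
import Groth.Agent.Lib.Helper27.DerivedGhost
-- import your own Groth.Agent.* helpers here

set_option autoImplicit false
open CategoryTheory Limits
universe w v u
open CohDer

namespace Groth.Agent.S18550

section main

open Groth.Agent.Lib.helper27


open DerivedCategory Pretriangulated

variable {A : Type u} [Category.{v} A] [Abelian A] [HasDerivedCategory.{w} A]

theorem pow_comm_aux {X Y : DerivedCategory A} (f : End X) (g : End Y) (p : X ⟶ Y)
    (h : (f : X ⟶ X) ≫ p = p ≫ (g : Y ⟶ Y))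
    (k : ℕ) : ((f ^ k : End X) : X ⟶ X) ≫ p = p ≫ ((g ^ k : End Y) : Y ⟶ Y) := by
  induction k with
  | zero => simp [End.one_def]
  | succ k ih =>
    rw [pow_succ, pow_succ, End.mul_def, End.mul_def, Category.assoc, ih, reassoc_of% h]

theorem step_aux {X₁ X₂ X₃ : DerivedCategory A} (i : X₁ ⟶ X₂) (p : X₂ ⟶ X₃) (d : X₃ ⟶ X₁⟦(1 : ℤ)⟧)
    (hT : Triangle.mk i p d ∈ distTriang _) (a : ℤ) [X₁.IsLE a] [X₁.IsGE a] [X₃.IsGE (a + 1)]
    (f₁ : X₁ ⟶ X₁) (f₂ : X₂ ⟶ X₂) (f₃ : X₃ ⟶ X₃) (nat₁ : f₁ ≫ i = i ≫ f₂) (nat₃ : f₂ ≫ p = p ≫ f₃)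
    (hf : ∀ j, (homologyFunctor A j).map f₂ = 0) :
    f₁ = 0 ∧ ∀ j, (homologyFunctor A j).map f₃ = 0 := by
  constructor
  · apply ghost_zero a
    have hmono : Mono ((homologyFunctor A a).map i) := by
      refine (HomologySequence.mono_homologyMap_mor₁_iff _ hT (a - 1) a (by lia)).2 ?_
      exact (isZero_of_isGE X₃ (a + 1) (a - 1) (by lia)).eq_of_src _ _
    rw [← cancel_mono ((homologyFunctor A a).map i), zero_comp, ← Functor.map_comp, nat₁,
      Functor.map_comp, hf a, comp_zero]
  · intro j
    by_cases hj : j < a + 1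
    · exact (isZero_of_isGE X₃ (a + 1) j hj).eq_of_src _ _
    · have hepi : Epi ((homologyFunctor A j).map p) := by
        refine (HomologySequence.epi_homologyMap_mor₂_iff _ hT j (j + 1) rfl).2 ?_
        exact (isZero_of_isLE X₁ a (j + 1) (by lia)).eq_of_tgt _ _
      rw [← cancel_epi ((homologyFunctor A j).map p), comp_zero, ← Functor.map_comp, ← nat₃,
        Functor.map_comp, hf j, zero_comp]


theorem pow_zero_aux (n : ℕ) : ∀ (a b : ℤ) (_ : b = a + n) (X : DerivedCategory A) [X.IsGE a] [X.IsLE b]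
    (f : End X) (_ : ∀ i, (homologyFunctor A i).map f = 0), f ^ (n + 1) = 0 := by
  induction n with
  | zero =>
    intro a b hab X _ _ f hf
    have : X.IsLE a := by
      have : b = a := by simpa using hab
      subst this; infer_instance
    rw [zero_add, pow_one]
    exact ghost_zero a f (hf a)
  | succ n ih =>
    intro a b hab X _ _ f hf
    let t := TStructure.t (C := A)
    have hT := t.triangleLEGE_distinguished a (a + 1) rfl X
    let X₁ := (t.truncLE a).obj X
    let X₃ := (t.truncGE (a + 1)).obj X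
    let i : X₁ ⟶ X := (t.truncLEι a).app X
    let p : X ⟶ X₃ := (t.truncGEπ (a + 1)).app X
    let f₁ : X₁ ⟶ X₁ := (t.truncLE a).map f
    let f₃ : End X₃ := (t.truncGE (a + 1)).map f
    have nat₁ : f₁ ≫ i = i ≫ f := (t.truncLEι a).naturality f
    have nat₃ : (f : X ⟶ X) ≫ p = p ≫ f₃ := (t.truncGEπ (a + 1)).naturality f
    have h1LE : X₁.IsLE a := inferInstanceAs (t.IsLE ((t.truncLE a).obj X) a)
    have h1GE : X₁.IsGE a := inferInstanceAs (t.IsGE ((t.truncLE a).obj X) a)
    have h3GE : X₃.IsGE (a + 1) := inferInstanceAs (t.IsGE ((t.truncGE (a + 1)).obj X) (a + 1))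
    have h3LE : X₃.IsLE b := inferInstanceAs (t.IsLE ((t.truncGE (a + 1)).obj X) b)
    obtain ⟨hf₁, hf₃⟩ := step_aux i p _ hT a f₁ f f₃ nat₁ nat₃ hf
    have ih' := ih (a + 1) b (by rw [hab]; push_cast; ring) X₃ f₃ hf₃
    have h2 : ((f ^ (n + 1) : End X) : X ⟶ X) ≫ p = 0 := by
      rw [pow_comm_aux f f₃ p nat₃ (n + 1), ih']
      exact comp_zero
    obtain ⟨g, hg⟩ := coyoneda_clean i p _ hT _ h2
    rw [pow_succ', End.mul_def, hg, Category.assoc, ← nat₁, hf₁, zero_comp, comp_zero]

theorem main (X : DerivedCategory A) (a : ℤ) (n : ℕ)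
    (hX : ∀ i : ℤ, i < a ∨ a + n < i → IsZero ((DerivedCategory.homologyFunctor A i).obj X))
    (f : CategoryTheory.End X) (hf : ∀ i : ℤ, (DerivedCategory.homologyFunctor A i).map f = 0) :
    f ^ (n + 1) = 0 := by
  have h1 : X.IsGE a := by
    rw [isGE_iff]; intro i hi; exact hX i (Or.inl hi)
  have h2 : X.IsLE (a + n) := by
    rw [isLE_iff]; intro i hi; exact hX i (Or.inr hi)
  exact pow_zero_aux n a (a + n) rfl X f hf

end main

/-- Let A be an abelian category, X an object of its derived category whose cohomology objects H^i(X)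
are zero for all integers i outside the interval [a, a + n], and f : X → X an endomorphism in the
derived category such that H^i(f) = 0 for every i. Then f^(n+1) = 0. (The source works in the
bounded derived category; the statement in D(A) for an object with cohomology bounded in this way is
the same assertion, the bounded derived category being a full subcategory.) -/
theorem result (A : Type u) [Category.{v} A] [Abelian A]
    [HasDerivedCategory.{w} A] (X : DerivedCategory A) (a : ℤ) (n : ℕ)
    (hX : ∀ i : ℤ, i < a ∨ a + n < i → IsZero ((DerivedCategory.homologyFunctor A i).obj X))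
    (f : CategoryTheory.End X) (hf : ∀ i : ℤ, (DerivedCategory.homologyFunctor A i).map f = 0) :
    f ^ (n + 1) = 0 := by
  exact main X a n hX f hf

end Groth.Agent.S18550
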