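import Groth.Statements.S18561
import Mathlib
-- import your own Groth.Agent.* helpers here

set_option autoImplicit false
universe u v
open PtQuiv

namespace Groth.Agent.S18561


theorem mem_span_singleton_symm {K : Type*} [Field K] {V : Type*} [AddCommGroup V] [Module K V]
    {x y : V} (hx : x ≠ 0) (h : x ∈ K ∙ y) : y ∈ K ∙ x := by
  obtain ⟨c, rfl⟩ := Submodule.mem_span_singleton.mp h
  have hc : c ≠ 0 := by
    rintro rfl
    exact hx (zero_smul _ _)
  rw [Submodule.mem_span_singleton]
  exact ⟨c⁻¹, by rw [smul_smul, inv_mul_cancel₀ hc, one_smul]⟩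

theorem finrank_span_singleton_eq_one {K : Type*} [Field K] {V : Type*} [AddCommGroup V]
    [Module K V] {x : V} (hx : x ≠ 0) : Module.finrank K (K ∙ x) = 1 :=
  finrank_span_singleton hx

/-- forward direction -/
theorem forward (K : Type u) [Field K] (ι : Type v)
    [Fintype ι] (s : ι → (Fin 2 → K)) (hs : ∀ i, s i ≠ 0) (θ : ι → ℚ) (h0 : ∀ i, 0 ≤ θ i)
    (h2 : ∑ i, θ i = 2) (hst : PtQuiv.QStable (-1) θ s) :
    ∃ i j k : ι, s i ∉ K ∙ s j ∧ s j ∉ K ∙ s k ∧ s i ∉ K ∙ s k := by
  classical
  by_contra hno
  push Not at hno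
  obtain ⟨⟨-, hsub⟩, hstab⟩ := hst
  have hne : Nonempty ι := by
    by_contra hemp
    rw [not_nonempty_iff] at hemp
    simp at h2
  obtain ⟨i₀⟩ := hne
  -- weight bound for a line
  have hline : ∀ (x : ι) (I : Finset ι), (∀ i ∈ I, s i ∈ K ∙ s x) → ∑ i ∈ I, θ i ≤ 1 := by
    intro x I hI
    have h := hsub (K ∙ s x) I hI
    unfold PtQuiv.QWt at h
    rw [finrank_span_singleton (hs x)] at h
    push_cast at h
    linarith
  set I₁ : Finset ι := Finset.univ.filter (fun i => s i ∈ K ∙ s i₀) with hI₁
  by_cases hall : ∀ j, s j ∈ K ∙ s i₀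
  · have := hline i₀ Finset.univ (fun i _ => hall i)
    rw [h2] at this
    norm_num at this
  · push Not at hall
    obtain ⟨j₀, hj₀⟩ := hall
    set I₂ : Finset ι := Finset.univ.filter (fun i => s i ∈ K ∙ s j₀) with hI₂
    have hcover : ∀ k, s k ∈ K ∙ s i₀ ∨ s k ∈ K ∙ s j₀ := by
      intro k
      by_cases hk : s i₀ ∈ K ∙ s k
      · exact Or.inl (mem_span_singleton_symm (hs i₀) hk)
      · exact Or.inr (mem_span_singleton_symm (hs j₀) (hno j₀ i₀ k hj₀ hk))
    have hdisj : Disjoint I₁ I₂ := by
      rw [Finset.disjoint_left]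
      intro i hi1 hi2
      simp only [hI₁, hI₂, Finset.mem_filter, Finset.mem_univ, true_and] at hi1 hi2
      have h3 : s i₀ ∈ K ∙ s i := mem_span_singleton_symm (hs i) hi1
      have h4 : (K ∙ s i) ≤ K ∙ s j₀ := (Submodule.span_singleton_le_iff_mem _ _).mpr hi2
      exact hj₀ (mem_span_singleton_symm (hs i₀) (h4 h3))
    have hunion : I₁ ∪ I₂ = Finset.univ := by
      ext k
      simp only [hI₁, hI₂, Finset.mem_union, Finset.mem_filter, Finset.mem_univ, true_and, iff_true]
      exact hcover k
    have hs1 := hline i₀ I₁ (fun i hi => (Finset.mem_filter.mp hi).2)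
    have hs2 := hline j₀ I₂ (fun i hi => (Finset.mem_filter.mp hi).2)
    have hsum : ∑ i ∈ I₁, θ i + ∑ i ∈ I₂, θ i = 2 := by
      rw [← Finset.sum_union hdisj, hunion, h2]
    have hs1' : ∑ i ∈ I₁, θ i = 1 := by linarith
    have hw : PtQuiv.QWt K (-1) θ (K ∙ s i₀) I₁ = 0 := by
      unfold PtQuiv.QWt
      rw [finrank_span_singleton (hs i₀), hs1']
      norm_num
    rcases hstab (K ∙ s i₀) I₁ (fun i hi => (Finset.mem_filter.mp hi).2) hw with ⟨hbot, -⟩ | ⟨htop, -⟩
    · have : s i₀ ∈ K ∙ s i₀ := Submodule.mem_span_singleton_self _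
      rw [hbot, Submodule.mem_bot] at this
      exact hs i₀ this
    · have h5 := finrank_span_singleton (K := K) (hs i₀)
      rw [htop, finrank_top] at h5
      simp at h5


/-- backward direction -/
theorem backward (K : Type u) [Field K] (ι : Type v)
    [Fintype ι] (s : ι → (Fin 2 → K)) (hs : ∀ i, s i ≠ 0) (i j k : ι)
    (hij : s i ∉ K ∙ s j) (hjk : s j ∉ K ∙ s k) (hik : s i ∉ K ∙ s k) :
    ∃ θ : ι → ℚ, (∀ i, 0 ≤ θ i) ∧ (∀ i, θ i ≤ 1) ∧ ∑ i, θ i = 2 ∧ PtQuiv.QStable (-1) θ s := by
  classical
  have hji : s j ∉ K ∙ s i := fun h => hij (mem_span_singleton_symm (hs j) h)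
  have hkj : s k ∉ K ∙ s j := fun h => hjk (mem_span_singleton_symm (hs k) h)
  have hki : s k ∉ K ∙ s i := fun h => hik (mem_span_singleton_symm (hs k) h)
  have hne_ij : i ≠ j := by rintro rfl; exact hij (Submodule.mem_span_singleton_self _)
  have hne_jk : j ≠ k := by rintro rfl; exact hjk (Submodule.mem_span_singleton_self _)
  have hne_ik : i ≠ k := by rintro rfl; exact hik (Submodule.mem_span_singleton_self _)
  set T : Finset ι := {i, j, k} with hT
  have hTcard : T.card = 3 := by
    rw [hT, Finset.card_insert_of_notMem, Finset.card_insert_of_notMem, Finset.card_singleton]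
    · simpa using hne_jk
    · simp [hne_ij, hne_ik]
  have hTpair : ∀ x ∈ T, ∀ y ∈ T, x ≠ y → s x ∉ K ∙ s y := by
    intro x hx y hy hxy
    simp only [hT, Finset.mem_insert, Finset.mem_singleton] at hx hy
    rcases hx with rfl | rfl | rfl <;> rcases hy with rfl | rfl | rfl <;>
      first | exact absurd rfl hxy | assumption
  set N : ℚ := (Fintype.card ι : ℚ) with hN
  have hN3' : 3 ≤ Fintype.card ι := by
    have : T.card ≤ Fintype.card ι := Finset.card_le_univ T
    rwa [hTcard] at this
  have hN3 : 3 ≤ N := by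
    rw [hN]
    exact_mod_cast hN3'
  set ε : ℚ := 1 / (2 * N) with hε
  set a : ℚ := (2 - (N - 3) * ε) / 3 with ha
  have hNpos : 0 < N := by linarith
  have hεpos : 0 < ε := by positivity
  have hδ : (N - 3) * ε < 1 / 2 := by
    rw [hε, mul_one_div, div_lt_iff₀ (by positivity)]
    linarith
  have hδ0 : 0 ≤ (N - 3) * ε := mul_nonneg (by linarith) hεpos.le
  have hεle : ε ≤ 1 := by
    rw [hε, div_le_one (by positivity)]
    linarith
  have hapos : 0 < a := by rw [ha]; linarith
  have hale : a ≤ 1 := by rw [ha]; linarith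
  have ha3 : 3 * a + (N - 3) * ε = 2 := by rw [ha]; ring
  have haδ : a + (N - 3) * ε < 1 := by rw [ha]; linarith
  let θ : ι → ℚ := fun l => if l ∈ T then a else ε
  have hθpos : ∀ l, 0 < θ l := by
    intro l
    simp only [θ]
    split_ifs <;> assumption
  have hθT : ∀ l ∈ T, θ l = a := fun l hl => by simp only [θ, if_pos hl]
  have hθnT : ∀ l, l ∉ T → θ l = ε := fun l hl => by simp only [θ, if_neg hl]
  -- sums
  have hsumI : ∀ I : Finset ι, ∑ l ∈ I, θ l = a * (I ∩ T).card + ε * (I \ T).card := by
    intro I
    rw [← Finset.sum_inter_add_sum_sdiff I T θ]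
    congr 1
    · rw [Finset.sum_congr rfl (fun l hl => hθT l (Finset.mem_inter.mp hl).2), Finset.sum_const,
        nsmul_eq_mul, mul_comm]
    · rw [Finset.sum_congr rfl (fun l hl => hθnT l (Finset.mem_sdiff.mp hl).2), Finset.sum_const,
        nsmul_eq_mul, mul_comm]
  have hcompl : ((Finset.univ \ T).card : ℚ) = N - 3 := by
    rw [Finset.card_sdiff_of_subset (Finset.subset_univ T), Finset.card_univ, hTcard,
      Nat.cast_sub hN3']
    simp [hN]
  have htotal : ∑ l, θ l = 2 := by
    rw [hsumI Finset.univ, Finset.univ_inter, hTcard, hcompl]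
    push_cast
    linarith
  have hdiffle : ∀ I : Finset ι, ((I \ T).card : ℚ) ≤ N - 3 := by
    intro I
    rw [← hcompl]
    exact_mod_cast Finset.card_le_card (Finset.sdiff_subset_sdiff (Finset.subset_univ I) le_rfl)
  refine ⟨θ, fun l => (hθpos l).le, fun l => ?_, htotal, ?_⟩
  · simp only [θ]
    split_ifs <;> assumption
  -- analysis of sub-representations
  have key : ∀ (L : Submodule K (Fin 2 → K)) (I : Finset ι), PtQuiv.QSubrep s L I →
      PtQuiv.QWt K (-1) θ L I ≤ 0 ∧
        (PtQuiv.QWt K (-1) θ L I = 0 → (L = ⊥ ∧ I = ∅) ∨ (L = ⊤ ∧ I = Finset.univ)) := by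
    intro L I hLI
    unfold PtQuiv.QWt
    have hle : Module.finrank K L ≤ 2 := by
      have := Submodule.finrank_le L
      simpa using this
    interval_cases hd : Module.finrank K L
    · have hbot : L = ⊥ := Submodule.finrank_eq_zero.mp hd
      have hI : I = ∅ := by
        rw [Finset.eq_empty_iff_forall_notMem]
        intro l hl
        have := hLI l hl
        rw [hbot, Submodule.mem_bot] at this
        exact hs l this
      subst hI
      simp [hbot]
    · -- dimension one: at most one element of `T` in `I`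
      obtain ⟨v, -, hv⟩ := finrank_eq_one_iff'.mp hd
      have hmem : ∀ l ∈ I, s l ∈ K ∙ v.1 := by
        intro l hl
        obtain ⟨c, hc⟩ := hv ⟨s l, hLI l hl⟩
        rw [Submodule.mem_span_singleton]
        exact ⟨c, by simpa using congrArg Subtype.val hc⟩
      have hcard : (I ∩ T).card ≤ 1 := by
        rw [Finset.card_le_one]
        intro x hx y hy
        by_contra hxy
        have hxI := (Finset.mem_inter.mp hx)
        have hyI := (Finset.mem_inter.mp hy)
        refine hTpair x hxI.2 y hyI.2 hxy ?_
        have h1 : v.1 ∈ K ∙ s y := by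
          refine mem_span_singleton_symm ?_ ?_ |> fun h => h
          · exact hs y
          · exact hmem y hyI.1
        have h2 : (K ∙ v.1) ≤ K ∙ s y := (Submodule.span_singleton_le_iff_mem _ _).mpr h1
        exact h2 (hmem x hxI.1)
      have hcard' : ((I ∩ T).card : ℚ) ≤ 1 := by exact_mod_cast hcard
      have hlt : ∑ l ∈ I, θ l < 1 := by
        rw [hsumI I]
        have h1 : a * ((I ∩ T).card : ℚ) ≤ a := by nlinarith
        have h2 : ε * ((I \ T).card : ℚ) ≤ ε * (N - 3) :=
          mul_le_mul_of_nonneg_left (hdiffle I) hεpos.le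
        nlinarith
      push_cast
      constructor
      · linarith
      · intro h; exfalso; linarith
    · -- dimension two
      have htop : L = ⊤ := by
        apply Submodule.eq_top_of_finrank_eq
        rw [hd]; simp
      have hsumle : ∑ l ∈ I, θ l ≤ 2 := by
        rw [← htotal]
        exact Finset.sum_le_sum_of_subset_of_nonneg (Finset.subset_univ I)
          fun l _ _ => (hθpos l).le
      push_cast
      constructor
      · linarith
      · intro h
        right
        refine ⟨htop, ?_⟩
        by_contra hI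
        obtain ⟨l, hl⟩ : ∃ l, l ∉ I := by
          by_contra hcon
          push Not at hcon
          exact hI (Finset.eq_univ_iff_forall.mpr hcon)
        have : ∑ m ∈ I, θ m + θ l ≤ ∑ m, θ m := by
          rw [add_comm, ← Finset.sum_insert hl]
          exact Finset.sum_le_sum_of_subset_of_nonneg (Finset.subset_univ _)
            fun m _ _ => (hθpos m).le
        have := hθpos l
        linarith
  refine ⟨⟨?_, fun L I h => (key L I h).1⟩, fun L I h => (key L I h).2⟩
  rw [htotal]; norm_num

/-- Let K be a field and s i ∈ K² (i in a finite index type) nonzero vectors, regarded as a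
representation of the quiver with a central vertex carrying the plane and one vertex per i carrying
a line mapping to the plane by 1 ↦ s i. Then the representation is stable for some weight of the
hypersimplex (0 ≤ θ i ≤ 1, Σ θ i = 2, central weight -1) if and only if the s i fall into at least
three proportionality classes, i.e. three of them are pairwise non-proportional. (The published
statement is over an algebraically closed field and assumes semistability for some interior weight
instead of s i ≠ 0; any field is allowed here. Its further assertions, that the set of semistability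
weights is full-dimensional exactly in this case and is a wall otherwise, are not part of this row.) -/
theorem result (K : Type u) [Field K] (ι : Type v)
    [Fintype ι] (s : ι → (Fin 2 → K)) (hs : ∀ i, s i ≠ 0) :
    (∃ θ : ι → ℚ, (∀ i, 0 ≤ θ i) ∧ (∀ i, θ i ≤ 1) ∧ ∑ i, θ i = 2 ∧ PtQuiv.QStable (-1) θ s) ↔
      ∃ i j k : ι, s i ∉ K ∙ s j ∧ s j ∉ K ∙ s k ∧ s i ∉ K ∙ s k := by
  constructor
  · rintro ⟨θ, h0, -, h2, hst⟩
    exact forward K ι s hs θ h0 h2 hst
  · rintro ⟨i, j, k, hij, hjk, hik⟩
    exact backward K ι s hs i j k hij hjk hik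

end Groth.Agent.S18561
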