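import Groth.Statements.S18564
import Groth.Agent.Lib.Lead.GPB2
-- import your own Groth.Agent.* helpers here

set_option autoImplicit false
set_option backward.isDefEq.respectTransparency false
universe u
open CategoryTheory CategoryTheory.Limits AlgebraicGeometry
open ParSh

namespace Groth.Agent.S18564

open CategoryTheory AlgebraicGeometry CategoryTheory.Limits Module
open Groth.Agent.Lib.Lead.VBCurve Groth.Agent.Lib.Lead.GPB


/-- Let Y be a smooth proper integral curve (integral, smooth and proper over k, of dimension one) over
an algebraically closed field k, D an effective Cartier divisor on Y with ideal I, and α a real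
weight with 0 ≤ α < 1. A generalised parabolic structure on a finite locally free O_Y-module E is a
k-linear subspace F₁ of H⁰(Y, E ⊗ O_D); its parabolic degree in rank n is deg E + α·dim_k F₁ (deg E
= χ(E) − n·χ(O_Y)); a homomorphism f : E → E' is parabolic when the induced k-linear map H⁰(E ⊗ O_D)
→ H⁰(E' ⊗ O_D) carries F₁ into F₁'; a submodule G → E gets the preimage structure and (E, F₁) is
semistable (stable) when deg(G, preimage) · n ≤ (<) deg(E, F₁) · r for every finite locally free
submodule G of rank r ≥ 1 (with r < n for stability). Let E and F be finite locally free of the same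
rank n ≥ 1 with structures F₁ and F₁', and f : E → F a parabolic monomorphism (a monomorphism
between modules of equal rank, that is, a generic isomorphism). Then the parabolic degree of (E, F₁)
is at most that of (F, F₁'), and equality holds if and only if f is an isomorphism of O_Y-modules
which, when α > 0, also maps F₁ onto F₁'. The published statement asks in the equality case for an
isomorphism of generalised parabolic bundles (an isomorphism of modules mapping F₁ onto F₁') at
every weight 0 ≤ α < 1; at α = 0 this fails, since the identity of O_Y, from the zero structure to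
all of H⁰(O_D) with D a single point, has equal parabolic degrees on both sides without being one,
while the published proof shows only that the cokernel vanishes; so the condition on F₁ is asked
here only for α > 0. The published statement is also set on the normalisation of a singular curve
with D lying over its singular points; neither is used. -/
theorem result (k : Type u) [Field k] [IsAlgClosed k] (X : Scheme.{u}) [X.Over (Spec (CommRingCat.of k))]
    [AlgebraicGeometry.IsIntegral X] [IsProper (X ↘ Spec (CommRingCat.of k))] [Smooth (X ↘ Spec (CommRingCat.of k))]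
    (hdim : topologicalKrullDim X = 1)
    (I : X.IdealSheafData) (hD : FGA.IsEffCartier I) (α : ℝ) (hα0 : 0 ≤ α) (hα1 : α < 1)
    {E F : X.Modules} (n : ℕ) (hn : 0 < n) (hE : FlatMod.IsFinLocFreeOfRank n E) (hF : FlatMod.IsFinLocFreeOfRank n F)
    (F₁ : Submodule k (ParSh.fibD X I E)) (F₁' : Submodule k (ParSh.fibD X I F))
    (f : E ⟶ F) [Mono f] (hf : ParSh.IsGPHom k X I F₁ F₁' f) :
    ParSh.gpDeg k X α E F₁ n ≤ ParSh.gpDeg k X α F F₁' n ∧
      (ParSh.gpDeg k X α E F₁ n = ParSh.gpDeg k X α F F₁' n ↔
        (IsIso f ∧ (0 < α → Submodule.map (ParSh.fibDMap k X I f) F₁ = F₁'))) := by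
  haveI := finite_fibD k X I hE
  haveI := finite_fibD k X I hF
  have hle := Groth.Agent.Lib.Lead.VBCurve.deg_le k X hdim.le hE hF f
  have hAB := finrank_le_of_map_le k X hdim.le I hD hE hF f F₁ F₁' hf
  have hKL := finrank_ker_fibDMap_le k X hdim.le I hD hE hF f
  unfold ParSh.gpDeg ParSh.gpWt
  set a : ℕ := finrank k F₁
  set b : ℕ := finrank k F₁'
  set dE : ℤ := Curv2.deg k X E n
  set dF : ℤ := Curv2.deg k X F n
  have hleR : (dE : ℝ) ≤ (dF : ℝ) := by exact_mod_cast hle
  have hABR : (a : ℝ) ≤ ((dF : ℝ) - dE) + b := by exact_mod_cast hAB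
  have h1 : α * (a : ℝ) ≤ α * (((dF : ℝ) - dE) + b) := mul_le_mul_of_nonneg_left hABR hα0
  have h2 : α * ((dF : ℝ) - dE) ≤ (dF : ℝ) - dE := by
    have : α * ((dF : ℝ) - dE) ≤ 1 * ((dF : ℝ) - dE) :=
      mul_le_mul_of_nonneg_right hα1.le (by linarith)
    linarith
  have hinj_of : dE = dF → Function.Injective (ParSh.fibDMap k X I f) := by
    intro h
    rw [h, sub_self] at hKL
    have h0 : finrank k (LinearMap.ker (ParSh.fibDMap k X I f)) = 0 := by
      have : (finrank k (LinearMap.ker (ParSh.fibDMap k X I f)) : ℤ) = 0 :=
        le_antisymm hKL (Int.natCast_nonneg _)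
      exact_mod_cast this
    have hbot : LinearMap.ker (ParSh.fibDMap k X I f) = ⊥ := Submodule.finrank_eq_zero.mp h0
    exact LinearMap.ker_eq_bot.mp hbot
  refine ⟨by nlinarith [mul_add α ((dF : ℝ) - dE) (b : ℝ)], ?_⟩
  constructor
  · intro heq
    have h3 : (dF : ℝ) - dE = α * ((a : ℝ) - b) := by linarith
    have h4 : (1 - α) * ((dF : ℝ) - dE) ≤ 0 := by nlinarith
    have h5 : (dF : ℝ) - dE ≤ 0 := by
      by_contra hpos
      rw [not_le] at hpos
      have : 0 < (1 - α) * ((dF : ℝ) - dE) := mul_pos (by linarith) hpos
      linarith
    have h6 : (dE : ℝ) = dF := le_antisymm hleR (by linarith)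
    have h7 : dE = dF := by exact_mod_cast h6
    haveI : IsIso f := Groth.Agent.Lib.Lead.VBCurve.isIso_of_deg_eq k X hdim.le hE hF f h7
    refine ⟨inferInstance, fun hα => ?_⟩
    have h8 : α * ((a : ℝ) - b) = 0 := by rw [← h3, h6, sub_self]
    have h9 : (a : ℝ) = b := by
      rcases mul_eq_zero.mp h8 with h | h
      · exact absurd h hα.ne'
      · linarith
    have h10 : a = b := by exact_mod_cast h9
    have hinj := hinj_of h7
    have h11 : finrank k (Submodule.map (ParSh.fibDMap k X I f) F₁) = b := by
      rw [← h10]
      exact (Submodule.equivMapOfInjective _ hinj F₁).finrank_eq.symm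
    exact Submodule.eq_of_le_of_finrank_eq hf h11
  · rintro ⟨hiso, hmap⟩
    haveI := hiso
    have hge := Groth.Agent.Lib.Lead.VBCurve.deg_le k X hdim.le hF hE (inv f)
    have h7 : dE = dF := le_antisymm hle hge
    have h6 : (dE : ℝ) = dF := by exact_mod_cast h7
    rcases hα0.eq_or_lt with h0 | hpos
    · rw [← h0, zero_mul, zero_mul, h6]
    · have hinj := hinj_of h7
      have h11 : finrank k (Submodule.map (ParSh.fibDMap k X I f) F₁) = a :=
        (Submodule.equivMapOfInjective _ hinj F₁).finrank_eq.symm
      rw [hmap hpos] at h11
      have : (b : ℝ) = a := by exact_mod_cast h11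
      rw [h6, this]

end Groth.Agent.S18564
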