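import Groth.Statements.S18569
import Groth.Agent.Lib.Lead.VBCurve5
-- import your own Groth.Agent.* helpers here

set_option autoImplicit false
set_option backward.isDefEq.respectTransparency false
universe u
open CategoryTheory CategoryTheory.Limits AlgebraicGeometry
open ParSh

namespace Groth.Agent.S18569

open CategoryTheory AlgebraicGeometry CategoryTheory.Limits
open Groth.Agent.Lib.Lead.VBCurve


/-- Let Y be a smooth proper integral curve (integral, smooth and proper over k, of dimension one) over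
an algebraically closed field k and D an effective Cartier divisor on Y with ideal I, of degree d ≥
1 in the sense that H⁰(Y, G ⊗ O_D) has k-dimension r·d for every finite locally free G of rank r. A
generalised parabolic structure on a finite locally free E is a k-subspace F₁ of H⁰(E ⊗ O_D); with
weight α its parabolic degree in rank n is deg E + α·dim_k F₁ (deg E = χ(E) − n·χ(O_Y)); a submodule
G → E carries the preimage structure under H⁰(G ⊗ O_D) → H⁰(E ⊗ O_D), and (E, F₁) is α-semistable
(α-stable) when deg_α(G)·n ≤ (<) deg_α(E)·r for every finite locally free submodule G of rank r ≥ 1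
(with r < n for stability); weight α = 1 gives 1-semistability and 1-stability. Let E have rank n ≥
2 with structure F₁ and let 0 ≤ α < 1 satisfy 1 − 1/(d·n·(n−1)) < α. If (E, F₁) is 1-stable then it
is α-stable. The published statement is set on the normalisation of a singular curve, with
structures over several disjoint divisors D_i lying over its singular points and d their total
degree; here Y is any smooth proper integral curve with one structure over one divisor, which
contains the several-divisor case (D the sum of the D_i, F₁ the direct sum of the F₁^i). -/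
theorem result (k : Type u) [Field k] [IsAlgClosed k] (X : Scheme.{u}) [X.Over (Spec (CommRingCat.of k))]
    [AlgebraicGeometry.IsIntegral X] [IsProper (X ↘ Spec (CommRingCat.of k))] [Smooth (X ↘ Spec (CommRingCat.of k))]
    (hdim : topologicalKrullDim X = 1)
    (I : X.IdealSheafData) (hD : FGA.IsEffCartier I) (d : ℕ) (hd : 0 < d)
    (hdegD : ∀ (G : X.Modules) (r : ℕ), FlatMod.IsFinLocFreeOfRank r G → Module.finrank k (ParSh.fibD X I G) = r * d)
    {E : X.Modules} (n : ℕ) (hn : 2 ≤ n) (hE : FlatMod.IsFinLocFreeOfRank n E)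
    (F₁ : Submodule k (ParSh.fibD X I E))
    (α : ℝ) (hα0 : 0 ≤ α) (hα1 : α < 1) (hα : 1 - 1 / ((d : ℝ) * (n : ℝ) * ((n : ℝ) - 1)) < α)
    (hst : ParSh.IsGPStable k X I 1 F₁ n) :
    ParSh.IsGPStable k X I α F₁ n := by
  intro G r i hi hr hrn hG
  haveI := hi
  have h := hst G r i hi hr hrn hG
  unfold ParSh.gpDeg ParSh.gpWt at h ⊢
  have hfinE : Module.Finite k (ParSh.fibD X I E) := by
    apply Module.finite_of_finrank_pos
    rw [hdegD E n hE]
    positivity
  have hf : Module.finrank k F₁ ≤ n * d := by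
    have := Submodule.finrank_le F₁
    rwa [hdegD E n hE] at this
  set g : ℕ := Module.finrank k (ParSh.gpInduced k X I i F₁)
  set f : ℕ := Module.finrank k F₁
  set dG : ℤ := Curv2.deg k X G r
  set dE : ℤ := Curv2.deg k X E n
  have hdR : (0 : ℝ) < (d : ℝ) := by exact_mod_cast hd
  have hnR : (2 : ℝ) ≤ (n : ℝ) := by exact_mod_cast hn
  have hrR : (1 : ℝ) ≤ (r : ℝ) := by exact_mod_cast hr
  have hfR : (f : ℝ) ≤ (n : ℝ) * (d : ℝ) := by exact_mod_cast hf
  have hg0 : (0 : ℝ) ≤ (g : ℝ) := Nat.cast_nonneg _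
  have hf0 : (0 : ℝ) ≤ (f : ℝ) := Nat.cast_nonneg _
  have hc : (0 : ℝ) < (d : ℝ) * (n : ℝ) * ((n : ℝ) - 1) := by
    apply mul_pos (mul_pos hdR (by linarith)) (by linarith)
  have hβ : (1 - α) * ((d : ℝ) * (n : ℝ) * ((n : ℝ) - 1)) < 1 := by
    have h1 : 1 - α < 1 / ((d : ℝ) * (n : ℝ) * ((n : ℝ) - 1)) := by linarith
    have := mul_lt_mul_of_pos_right h1 hc
    rwa [one_div, inv_mul_cancel₀ hc.ne'] at this
  have hβ0 : 0 < 1 - α := by linarith
  rw [one_mul, one_mul] at h
  have hrR' : (r : ℝ) ≤ (n : ℝ) - 1 := by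
    have : r + 1 ≤ n := hrn
    have : ((r + 1 : ℕ) : ℝ) ≤ (n : ℝ) := by exact_mod_cast this
    push_cast at this; linarith
  have hA : ((dG + (g : ℤ)) * (n : ℤ) - (dE + (f : ℤ)) * (r : ℤ) : ℤ) < 0 := by
    have : (((dG + (g : ℤ)) * (n : ℤ) - (dE + (f : ℤ)) * (r : ℤ) : ℤ) : ℝ) < ((0 : ℤ) : ℝ) := by
      push_cast
      linarith
    exact_mod_cast this
  have hA' : (dG + (g : ℤ)) * (n : ℤ) - (dE + (f : ℤ)) * (r : ℤ) ≤ -1 := by omega
  have hA'' : (((dG + (g : ℤ)) * (n : ℤ) - (dE + (f : ℤ)) * (r : ℤ) : ℤ) : ℝ) ≤ ((-1 : ℤ) : ℝ) := by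
    exact_mod_cast hA'
  push_cast at hA''
  have e1 : ((dG : ℝ) + α * g) * n - ((dE : ℝ) + α * f) * r =
      (((dG : ℝ) + g) * n - ((dE : ℝ) + f) * r) + (1 - α) * ((f : ℝ) * r - g * n) := by ring
  have h2 : (1 - α) * ((f : ℝ) * r - g * n) ≤ (1 - α) * ((d : ℝ) * (n : ℝ) * ((n : ℝ) - 1)) := by
    apply mul_le_mul_of_nonneg_left _ hβ0.le
    have h3 : (f : ℝ) * r ≤ (n : ℝ) * d * r := by
      apply mul_le_mul_of_nonneg_right hfR (by linarith)
    have h4 : (n : ℝ) * d * r ≤ (n : ℝ) * d * ((n : ℝ) - 1) := by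
      apply mul_le_mul_of_nonneg_left hrR' (by positivity)
    have h5 : (0 : ℝ) ≤ (g : ℝ) * n := mul_nonneg hg0 (by linarith)
    nlinarith
  linarith

end Groth.Agent.S18569
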