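import Groth.Statements.S18570
import Groth.Agent.Lib.Lead.GPB3
import Groth.Agent.S18568
import Groth.Agent.S18569
-- import your own Groth.Agent.* helpers here

set_option autoImplicit false
set_option backward.isDefEq.respectTransparency false
universe u
open CategoryTheory CategoryTheory.Limits AlgebraicGeometry
open ParSh

namespace Groth.Agent.S18570

open CategoryTheory AlgebraicGeometry CategoryTheory.Limits Module
open Groth.Agent.Lib.Lead.VBCurve Groth.Agent.Lib.Lead.GPB


/-- Let Y be a smooth proper integral curve (integral, smooth and proper over k, of dimension one) over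
an algebraically closed field k and D an effective Cartier divisor on Y with ideal I, of degree d ≥
1 in the sense that H⁰(Y, G ⊗ O_D) has k-dimension r·d for every finite locally free G of rank r. A
generalised parabolic structure on a finite locally free E is a k-subspace F₁ of H⁰(E ⊗ O_D); with
weight α its parabolic degree in rank n is deg E + α·dim_k F₁ (deg E = χ(E) − n·χ(O_Y)); a submodule
G → E carries the preimage structure under H⁰(G ⊗ O_D) → H⁰(E ⊗ O_D), and (E, F₁) is α-semistable
(α-stable) when deg_α(G)·n ≤ (<) deg_α(E)·r for every finite locally free submodule G of rank r ≥ 1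
(with r < n for stability); weight α = 1 gives 1-semistability and 1-stability. Let E have rank n ≥
2 with structure F₁ and let 0 ≤ α < 1 satisfy 1 − 1/(d·n·(n−1)) < α. Suppose moreover that n and deg
E are coprime and that dim_k F₁ = a·n is a multiple of n. Then α-semistability, α-stability,
1-semistability and 1-stability of (E, F₁) are all equivalent. The published statement is set on the
normalisation of a singular curve, with structures over several disjoint divisors D_i lying over its
singular points, d their total degree and each dim F₁^i a multiple of n; here Y is any smooth proper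
integral curve with one structure over one divisor and only dim F₁ = a·n is assumed, which contains
the several-divisor case (D the sum of the D_i, F₁ the direct sum of the F₁^i). -/
theorem result (k : Type u) [Field k] [IsAlgClosed k] (X : Scheme.{u}) [X.Over (Spec (CommRingCat.of k))]
    [AlgebraicGeometry.IsIntegral X] [IsProper (X ↘ Spec (CommRingCat.of k))] [Smooth (X ↘ Spec (CommRingCat.of k))]
    (hdim : topologicalKrullDim X = 1)
    (I : X.IdealSheafData) (hD : FGA.IsEffCartier I) (d : ℕ) (hd : 0 < d)
    (hdegD : ∀ (G : X.Modules) (r : ℕ), FlatMod.IsFinLocFreeOfRank r G → Module.finrank k (ParSh.fibD X I G) = r * d)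
    {E : X.Modules} (n : ℕ) (hn : 2 ≤ n) (hE : FlatMod.IsFinLocFreeOfRank n E)
    (F₁ : Submodule k (ParSh.fibD X I E))
    (α : ℝ) (hα0 : 0 ≤ α) (hα1 : α < 1) (hα : 1 - 1 / ((d : ℝ) * (n : ℝ) * ((n : ℝ) - 1)) < α)
    (hcop : IsCoprime (n : ℤ) (Curv2.deg k X E n)) (a : ℕ) (ha : Module.finrank k F₁ = a * n) :
    (ParSh.IsGPSemistable k X I α F₁ n ↔ ParSh.IsGPSemistable k X I 1 F₁ n) ∧
      (ParSh.IsGPStable k X I α F₁ n ↔ ParSh.IsGPSemistable k X I 1 F₁ n) ∧
      (ParSh.IsGPStable k X I 1 F₁ n ↔ ParSh.IsGPSemistable k X I 1 F₁ n) := by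
  have hn0 : 0 < n := by omega
  have T1 : ParSh.IsGPSemistable k X I α F₁ n → ParSh.IsGPSemistable k X I 1 F₁ n :=
    Groth.Agent.S18568.result k X hdim I hD d hd hdegD n hn hE F₁ α hα0 hα1 hα
  have T2 : ParSh.IsGPStable k X I 1 F₁ n → ParSh.IsGPStable k X I α F₁ n :=
    Groth.Agent.S18569.result k X hdim I hD d hd hdegD n hn hE F₁ α hα0 hα1 hα
  have T3 : ∀ β : ℝ, 0 ≤ β → β ≤ 1 → ParSh.IsGPStable k X I β F₁ n →
      ParSh.IsGPSemistable k X I β F₁ n := by
    intro β hβ0 hβ1 hst G r i hi hr hG
    haveI := hi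
    have hrn : r ≤ n := rank_le_of_mono X hG hE i
    rcases Nat.lt_or_ge r n with hlt | hge
    · exact (hst G r i hi hr hlt hG).le
    · have hrn' : r = n := le_antisymm hrn hge
      subst hrn'
      have := gpDeg_induced_le_of_rank_eq k X hdim.le I hD β hβ0 hβ1 hG hE i F₁
      exact mul_le_mul_of_nonneg_right this (Nat.cast_nonneg _)
  have T4 : ParSh.IsGPSemistable k X I 1 F₁ n → ParSh.IsGPStable k X I 1 F₁ n := by
    intro hss G r i hi hr hrn hG
    have h := hss G r i hi hr hG
    refine lt_of_le_of_ne h ?_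
    intro heq
    unfold ParSh.gpDeg ParSh.gpWt at heq
    rw [one_mul, one_mul, ha] at heq
    set g : ℕ := finrank k (ParSh.gpInduced k X I i F₁)
    set dG : ℤ := Curv2.deg k X G r
    set dE : ℤ := Curv2.deg k X E n
    have hZ : (dG + (g : ℤ)) * (n : ℤ) = (dE + ((a * n : ℕ) : ℤ)) * (r : ℤ) := by exact_mod_cast heq
    have hdvd : (n : ℤ) ∣ (r : ℤ) * dE := by
      refine ⟨dG + (g : ℤ) - (a : ℤ) * (r : ℤ), ?_⟩
      push_cast at hZ
      linear_combination (-1 : ℤ) * hZ
    have hdvd' : (n : ℤ) ∣ (r : ℤ) := IsCoprime.dvd_of_dvd_mul_right hcop hdvd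
    have hle : (n : ℤ) ≤ (r : ℤ) := Int.le_of_dvd (by exact_mod_cast hr) hdvd'
    have : n ≤ r := by exact_mod_cast hle
    omega
  refine ⟨⟨T1, fun h => T3 α hα0 hα1.le (T2 (T4 h))⟩, ⟨fun h => T1 (T3 α hα0 hα1.le h), fun h => T2 (T4 h)⟩,
    ⟨fun h => T3 1 zero_le_one le_rfl h, T4⟩⟩


end Groth.Agent.S18570
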