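import Groth.Statements.S18572
import Groth.Agent.Lib.Helper14.P1Line

set_option autoImplicit false
universe u
open CategoryTheory AlgebraicGeometry
open REq

namespace Groth.Agent.S18572

/-- Let k be an infinite field and X an integral separated scheme of finite type over k which is retract
rational over k. Then X is almost R-trivial over k: there is a dense open subscheme U of X such
that, for every field K containing k (in the universe of k), U has a K-point and any two K-points of
X lying in U are R-equivalent on X. -/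
theorem result (k : Type u) [Field k] [Infinite k] (X : Scheme.{u})
    (f : X ⟶ Spec (CommRingCat.of k)) [IsIntegral X] [LocallyOfFiniteType f] [QuasiCompact f]
    [IsSeparated f] (hX : REq.IsRetractRational f) :
    REq.IsAlmostRTrivial f := by
  classical
  obtain ⟨U, n, V, a, b, hne, hab, ha, hb⟩ := hX
  refine ⟨U, U.2.dense hne, ?_⟩
  intro K _ _
  constructor
  · -- a K-point in U
    obtain ⟨x, hx⟩ := hne
    have hv : (V.ι (a ⟨x, hx⟩)) ∈ (V : Set (Spec (CommRingCat.of (MvPolynomial (Fin n) k)))) :=
      (a ⟨x, hx⟩).2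
    obtain ⟨_, ⟨g, rfl⟩, hvg, hgV⟩ :=
      PrimeSpectrum.isTopologicalBasis_basic_opens.exists_subset_of_mem_open hv V.2
    have hg0 : g ≠ 0 := by
      rintro rfl
      exact hvg (Ideal.zero_mem _)
    obtain ⟨c, hc⟩ : ∃ c : Fin n → k, MvPolynomial.eval c g ≠ 0 := by
      by_contra hall
      push_neg at hall
      exact hg0 (MvPolynomial.funext (fun c => by rw [hall c, map_zero]))
    let e : MvPolynomial (Fin n) k →+* K := (algebraMap k K).comp (MvPolynomial.eval c)
    let z' : Spec (CommRingCat.of K) ⟶ Spec (CommRingCat.of (MvPolynomial (Fin n) k)) :=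
      Spec.map (CommRingCat.ofHom e)
    have hz' : Set.range z' ⊆ Set.range V.ι := by
      rintro _ ⟨p, rfl⟩
      rw [Scheme.Opens.range_ι]
      apply hgV
      change g ∉ ((PrimeSpectrum.comap e) p).asIdeal
      rw [PrimeSpectrum.comap_asIdeal, Ideal.mem_comap]
      intro hmem
      have hu : IsUnit (e g) := by
        have : e g ≠ 0 := by
          change algebraMap k K (MvPolynomial.eval c g) ≠ 0
          rwa [Ne, map_eq_zero]
        exact this.isUnit
      exact p.2.ne_top (Ideal.eq_top_of_isUnit_mem _ hmem hu)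
    let z : Spec (CommRingCat.of K) ⟶ (V : Scheme.{u}) := IsOpenImmersion.lift V.ι z' hz'
    have hz : z ≫ V.ι = z' := IsOpenImmersion.lift_fac _ _ _
    refine ⟨⟨z ≫ b ≫ U.ι, ?_⟩, ?_⟩
    · rw [Category.assoc, Category.assoc, hb, ← Category.assoc, hz]
      change Spec.map _ ≫ Spec.map _ = Spec.map _
      rw [← Spec.map_comp, ← CommRingCat.ofHom_comp]
      congr 2
      apply RingHom.ext
      intro r
      simp [e]
    · rintro _ ⟨p, rfl⟩
      exact ((z ≫ b) p).2
  · intro A B hA hB
    apply Relation.EqvGen.rel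
    have hrA : Set.range A.1 ⊆ Set.range U.ι := by
      rw [Scheme.Opens.range_ι]; exact hA
    have hrB : Set.range B.1 ⊆ Set.range U.ι := by
      rw [Scheme.Opens.range_ι]; exact hB
    let AU : REq.Pts (U.ι ≫ f) K := ⟨IsOpenImmersion.lift U.ι A.1 hrA, by
      rw [← Category.assoc, IsOpenImmersion.lift_fac]; exact A.2⟩
    let BU : REq.Pts (U.ι ≫ f) K := ⟨IsOpenImmersion.lift U.ι B.1 hrB, by
      rw [← Category.assoc, IsOpenImmersion.lift_fac]; exact B.2⟩
    obtain ⟨L, h, α, β, h1, h2, h3, h4, h5⟩ :=
      Groth.Agent.Lib.Helper14.P1Line.elemLink_of_affine (U.ι ≫ f) V b hb AU BU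
        (AU.1 ≫ a) (BU.1 ≫ a) (by rw [Category.assoc, hab, Category.comp_id])
        (by rw [Category.assoc, hab, Category.comp_id])
    refine ⟨L, h ≫ U.ι, α, β, ?_, h2, h3, ?_, ?_⟩
    · rw [Category.assoc]; exact h1
    · rw [← Category.assoc, h4]; exact IsOpenImmersion.lift_fac _ _ _
    · rw [← Category.assoc, h5]; exact IsOpenImmersion.lift_fac _ _ _

end Groth.Agent.S18572
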