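import Groth.Statements.S18573
import Groth.Agent.Lib.Helper14.PnFibre
open Groth.Agent.Lib.Helper14.PnFibre

set_option autoImplicit false
universe u
open CategoryTheory AlgebraicGeometry
open REq

namespace Groth.Agent.S18573

/-- Let Y be a scheme over a field k and K a field containing k. Let V and W be closed subsets of Y with
V ∪ W = Y such that no K-point of Y has its image in V ∩ W. If p is a K-point of Y lying in V and q
a K-point of Y lying in W, then p and q are not R-equivalent on Y. (The published step concerns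
k-points of the special fibre of a proper flat scheme over a discrete valuation ring, that is K = k;
this row is stated for any scheme Y over k and K-points for any field K containing k.) -/
theorem result (k : Type u) [Field k] (Y : Scheme.{u})
    (g : Y ⟶ Spec (CommRingCat.of k)) (K : Type u) [Field K] [Algebra k K]
    (V W : Set Y) (hV : IsClosed V) (hW : IsClosed W) (hVW : V ∪ W = Set.univ)
    (hT : ∀ z : REq.Pts g K, ¬ (Set.range z.1.base ⊆ V ∩ W))
    (p q : REq.Pts g K) (hp : Set.range p.1.base ⊆ V) (hq : Set.range q.1.base ⊆ W) :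
    ¬ REq.REquiv g K p q := by
  classical
  haveI : Subsingleton ↥(Spec (CommRingCat.of K)) :=
    inferInstanceAs (Subsingleton (PrimeSpectrum K))
  let pt : ↥(Spec (CommRingCat.of K)) := (⊥ : PrimeSpectrum K)
  have hrange : ∀ (A : REq.Pts g K) (Z : Set Y), Set.range A.1.base ⊆ Z ↔ A.1 pt ∈ Z := by
    intro A Z
    constructor
    · intro h
      exact h ⟨pt, rfl⟩
    · rintro h _ ⟨t, rfl⟩
      rw [Subsingleton.elim t pt]
      exact h
  have hlink : ∀ A B : REq.Pts g K, REq.ElemLink g K A B → (A.1 pt ∈ V ↔ B.1 pt ∈ V) := by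
    rintro A B ⟨U, h, a, b, -, -, -, ha, hb⟩
    have hUpre : IsPreirreducible (U : Set (REq.P1K K)) :=
      (PreirreducibleSpace.isPreirreducible_univ).open_subset U.2 (Set.subset_univ _)
    haveI : PreirreducibleSpace ↥(U : Scheme.{u}) := Subtype.preirreducibleSpace hUpre
    have hcov : (Set.univ : Set ↥(U : Scheme.{u})) ⊆ (h ⁻¹' V) ∪ (h ⁻¹' W) := by
      rw [← Set.preimage_union, hVW]
      intro z _
      trivial
    have hVc : IsClosed (h ⁻¹' V) := hV.preimage h.continuous
    have hWc : IsClosed (h ⁻¹' W) := hW.preimage h.continuous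
    have hAeq : A.1 pt = h (a pt) := by rw [← ha]; rfl
    have hBeq : B.1 pt = h (b pt) := by rw [← hb]; rfl
    rcases isPreirreducible_iff_isClosed_union_isClosed.mp
      (PreirreducibleSpace.isPreirreducible_univ (X := ↥(U : Scheme.{u}))) _ _ hVc hWc hcov with h1 | h1
    · have hA : A.1 pt ∈ V := by rw [hAeq]; exact h1 (Set.mem_univ (a pt))
      have hB : B.1 pt ∈ V := by rw [hBeq]; exact h1 (Set.mem_univ (b pt))
      exact ⟨fun _ => hB, fun _ => hA⟩
    · have hA : A.1 pt ∈ W := by rw [hAeq]; exact h1 (Set.mem_univ (a pt))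
      have hB : B.1 pt ∈ W := by rw [hBeq]; exact h1 (Set.mem_univ (b pt))
      constructor
      · intro hAV
        exact absurd ((hrange A (V ∩ W)).mpr ⟨hAV, hA⟩) (hT A)
      · intro hBV
        exact absurd ((hrange B (V ∩ W)).mpr ⟨hBV, hB⟩) (hT B)
  have hequiv : ∀ A B : REq.Pts g K, REq.REquiv g K A B → (A.1 pt ∈ V ↔ B.1 pt ∈ V) := by
    intro A B hAB
    induction hAB with
    | rel x y hxy => exact hlink x y hxy
    | refl x => exact Iff.rfl
    | symm x y _ ih => exact ih.symm
    | trans x y z _ _ ih1 ih2 => exact ih1.trans ih2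
  intro hR
  have hqV : q.1 pt ∈ V := (hequiv p q hR).mp ((hrange p V).mp hp)
  exact hT q ((hrange q (V ∩ W)).mpr ⟨hqV, (hrange q W).mp hq⟩)

end Groth.Agent.S18573
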