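import Groth.Statements.S18579
import Mathlib

set_option autoImplicit false
universe u
open LogDiff

namespace Groth.Agent.S18579

section
variable {R : Type u} [CommRing R] [IsDomain R] {r : ℕ} (f : Fin r → R) (hf : ∀ i, Prime (f i))
include hf

theorem KL (s : Multiset (Fin r)) : ∀ a a' : R, a * a' = (s.map f).prod →
    ∃ (t : Multiset (Fin r)) (v : Rˣ), a = v * (t.map f).prod := by
  induction s using Multiset.induction_on with
  | empty =>
    intro a a' h
    rw [Multiset.map_zero, Multiset.prod_zero] at h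
    exact ⟨0, ⟨a, a', h, by rw [mul_comm]; exact h⟩, by simp⟩
  | cons i s ih =>
    intro a a' h
    rw [Multiset.map_cons, Multiset.prod_cons] at h
    have hd : f i ∣ a * a' := Dvd.intro _ h.symm
    rcases (hf i).dvd_or_dvd hd with ⟨a₁, rfl⟩ | ⟨a₁, rfl⟩
    · have h1 : a₁ * a' = (s.map f).prod := by
        apply mul_left_cancel₀ (hf i).ne_zero
        rw [← h]; ring
      obtain ⟨t, v, ht⟩ := ih a₁ a' h1
      refine ⟨i ::ₘ t, v, ?_⟩
      rw [Multiset.map_cons, Multiset.prod_cons, ht]; ring
    · have h1 : a * a₁ = (s.map f).prod := by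
        apply mul_left_cancel₀ (hf i).ne_zero
        rw [← h]; ring
      exact ih a a₁ h1

omit hf in
theorem prod_count (t : Multiset (Fin r)) : (t.map f).prod = ∏ i, f i ^ t.count i := by
  rw [Finset.prod_multiset_map_count]
  apply Finset.prod_subset (Finset.subset_univ _)
  intro i _ hi
  rw [Multiset.count_eq_zero_of_notMem (by simpa using hi), pow_zero]

theorem Dlem (hfa : ∀ i j, Associated (f i) (f j) → i = j) :
    ∀ (k : ℕ) (β : Fin r → ℕ) (u : Rˣ) (i : Fin r),
      f i ^ k ∣ (u : R) * ∏ j, f j ^ β j → k ≤ β i := by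
  intro k
  induction k with
  | zero => intros; exact Nat.zero_le _
  | succ k ih =>
    intro β u i h
    have hd1 : f i ∣ (u : R) * ∏ j, f j ^ β j :=
      dvd_trans (dvd_pow_self _ (Nat.succ_ne_zero k)) h
    have hd2 : f i ∣ ∏ j, f j ^ β j := by
      rcases (hf i).dvd_or_dvd hd1 with h1 | h1
      · exact absurd (isUnit_of_dvd_unit h1 u.isUnit) (hf i).not_isUnit
      · exact h1
    obtain ⟨j, -, hj⟩ := (hf i).exists_mem_finset_dvd hd2
    have hβj : β j ≠ 0 := by
      intro h0
      rw [h0, pow_zero] at hj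
      exact (hf i).not_isUnit (isUnit_of_dvd_one hj)
    have hij : i = j :=
      hfa i j ((hf i).associated_of_dvd (hf j) ((hf i).dvd_of_dvd_pow hj))
    subst hij
    have hprod : ∏ j, f j ^ β j = f i * ∏ j, f j ^ (Function.update β i (β i - 1)) j := by
      rw [← Finset.mul_prod_erase Finset.univ (fun j => f j ^ β j) (Finset.mem_univ i),
        ← Finset.mul_prod_erase Finset.univ
          (fun j => f j ^ (Function.update β i (β i - 1)) j) (Finset.mem_univ i)]
      rw [Function.update_self, ← mul_assoc, ← pow_succ',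
        Nat.sub_add_cancel (Nat.one_le_iff_ne_zero.mpr hβj)]
      congr 1
      apply Finset.prod_congr rfl
      intro j hj
      rw [Function.update_of_ne (Finset.ne_of_mem_erase hj)]
    rw [hprod, pow_succ', mul_left_comm, mul_dvd_mul_iff_left (hf i).ne_zero] at h
    have := ih _ u i h
    rw [Function.update_self] at this
    omega

theorem uniq {K : Type u} [Field K] [Algebra R K] (hinj : Function.Injective (algebraMap R K))
    (hfa : ∀ i j, Associated (f i) (f j) → i = j)
    (v v' : Rˣ) (b b' : Fin r → ℤ)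
    (h : algebraMap R K (v : R) * ∏ i, (algebraMap R K (f i)) ^ (b i)
      = algebraMap R K (v' : R) * ∏ i, (algebraMap R K (f i)) ^ (b' i)) :
    v = v' ∧ b = b' := by
  have hx0 : ∀ i, algebraMap R K (f i) ≠ 0 :=
    fun i => (map_ne_zero_iff _ hinj).mpr (hf i).ne_zero
  obtain ⟨β, hβ_def⟩ : ∃ β : Fin r → ℕ, β = fun i => (b i).toNat + (-(b' i)).toNat := ⟨_, rfl⟩
  obtain ⟨β', hβ'_def⟩ : ∃ β' : Fin r → ℕ, β' = fun i => (b' i).toNat + (-(b i)).toNat :=
    ⟨_, rfl⟩
  obtain ⟨γ, hγ_def⟩ : ∃ γ : Fin r → ℕ, γ = fun i => (-(b i)).toNat + (-(b' i)).toNat :=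
    ⟨_, rfl⟩
  have e1 : ∀ i, algebraMap R K (f i) ^ (b i) * algebraMap R K (f i) ^ (γ i)
      = algebraMap R K (f i) ^ (β i) := by
    intro i
    rw [← zpow_natCast, ← zpow_natCast, ← zpow_add₀ (hx0 i)]
    congr 1
    rw [hγ_def, hβ_def]; push_cast; omega
  have e2 : ∀ i, algebraMap R K (f i) ^ (b' i) * algebraMap R K (f i) ^ (γ i)
      = algebraMap R K (f i) ^ (β' i) := by
    intro i
    rw [← zpow_natCast, ← zpow_natCast, ← zpow_add₀ (hx0 i)]
    congr 1
    rw [hγ_def, hβ'_def]; push_cast; omega
  have h3 : algebraMap R K ((v : R) * ∏ i, f i ^ β i)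
      = algebraMap R K ((v' : R) * ∏ i, f i ^ β' i) := by
    rw [map_mul, map_mul, map_prod, map_prod]
    simp only [map_pow]
    rw [← Finset.prod_congr rfl (fun i _ => e1 i), ← Finset.prod_congr rfl (fun i _ => e2 i),
      Finset.prod_mul_distrib, Finset.prod_mul_distrib, ← mul_assoc, ← mul_assoc, h]
  have h4 := hinj h3
  have hβ : ∀ i, β i = β' i := by
    intro i
    apply le_antisymm
    · apply Dlem f hf hfa (β i) β' v' i
      rw [← h4]
      exact Dvd.dvd.mul_left (Finset.dvd_prod_of_mem (fun j => f j ^ β j) (Finset.mem_univ i)) _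
    · apply Dlem f hf hfa (β' i) β v i
      rw [h4]
      exact Dvd.dvd.mul_left (Finset.dvd_prod_of_mem (fun j => f j ^ β' j) (Finset.mem_univ i)) _
  have hb : b = b' := by
    funext i
    have := hβ i
    rw [hβ_def, hβ'_def] at this
    simp only at this
    omega
  subst hb
  have h5 : algebraMap R K (v : R) = algebraMap R K (v' : R) := by
    have hne : ∏ i, algebraMap R K (f i) ^ b i ≠ 0 :=
      Finset.prod_ne_zero_iff.mpr (fun i _ => zpow_ne_zero _ (hx0 i))
    exact mul_right_cancel₀ hne h
  exact ⟨Units.ext (hinj h5), rfl⟩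

end



/-- The exact sequence for units (first Milnor K-groups) when every component of the divisor is removed.
Let k be a field, B a smooth k-algebra, R the localization of B at a prime ideal, K the fraction
field of R and f_1, …, f_r pairwise non-associate prime elements of R. If w is a unit of K such that
w and w⁻¹ both lie in R[1/(f_1⋯f_r)], i.e. each becomes an element of R after multiplication by a
power of f_1⋯f_r, then there is exactly one pair (v, b) consisting of a unit v of R and integers
b_1, …, b_r with w = v · ∏ f_i^{b_i} in K. (This is the exactness of 0 → Γ(Spec R, O^×) → Γ(Spec R ∖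
V(f_1⋯f_r), O^×) → ℤ^r → 0, the last map being the orders along the f_i. The published statement
takes the f_i to be local equations of the components of a normal crossings divisor, over a field of
characteristic zero; this row allows arbitrary pairwise non-associate prime elements and any field.) -/
theorem result
    {k B R K : Type u} [Field k] [CommRing B] [Algebra k B] [Algebra.Smooth k B]
    (p : Ideal B) [p.IsPrime] [CommRing R] [Algebra B R] [IsLocalization.AtPrime R p]
    [Field K] [Algebra R K] [IsFractionRing R K]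
    {r : ℕ} (f : Fin r → R) (hf : ∀ i, Prime (f i)) (hfa : ∀ i j, Associated (f i) (f j) → i = j)
    (w : Kˣ)
    (hw : ∃ (a : R) (n : ℕ), (w : K) * algebraMap R K ((∏ i, f i) ^ n) = algebraMap R K a)
    (hw' : ∃ (a : R) (n : ℕ), (w⁻¹ : Kˣ) * algebraMap R K ((∏ i, f i) ^ n) = algebraMap R K a) :
    ∃! vb : Rˣ × (Fin r → ℤ),
      (w : K) = algebraMap R K (vb.1 : R) * ∏ i, (algebraMap R K (f i)) ^ (vb.2 i) := by
  classical
  have hinj : Function.Injective (algebraMap R K) := IsFractionRing.injective R K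
  haveI : IsDomain R := Function.Injective.isDomain (algebraMap R K) hinj
  obtain ⟨F, hF⟩ : ∃ F : R, F = ∏ i, f i := ⟨_, rfl⟩
  have hF0 : F ≠ 0 := by
    rw [hF]; exact Finset.prod_ne_zero_iff.mpr (fun i _ => (hf i).ne_zero)
  have hx0 : ∀ i, algebraMap R K (f i) ≠ 0 :=
    fun i => (map_ne_zero_iff _ hinj).mpr (hf i).ne_zero
  rw [← hF] at hw hw'
  obtain ⟨a, n, hw⟩ := hw
  obtain ⟨a', n', hw'⟩ := hw'
  have haa' : a * a' = F ^ (n + n') := by
    apply hinj
    rw [map_mul, ← hw, ← hw', pow_add, map_mul]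
    have h1 : (w : K) * ((w⁻¹ : Kˣ) : K) = 1 := by
      rw [← Units.val_mul, mul_inv_cancel, Units.val_one]
    calc (w : K) * algebraMap R K (F^n) * (((w⁻¹ : Kˣ) : K) * algebraMap R K (F^n'))
        = ((w : K) * ((w⁻¹ : Kˣ) : K)) * (algebraMap R K (F^n) * algebraMap R K (F^n')) := by
          ring
      _ = _ := by rw [h1, one_mul]
  have hFs : F ^ (n + n') = (((n + n') • (Finset.univ : Finset (Fin r)).val).map f).prod := by
    rw [Multiset.map_nsmul, Multiset.prod_nsmul, hF]; rfl
  rw [hFs] at haa'
  obtain ⟨t, v, hv⟩ := KL f hf _ a a' haa'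
  rw [prod_count] at hv
  refine ⟨(v, fun i => (t.count i : ℤ) - n), ?_, ?_⟩
  · show (w : K) = algebraMap R K (v : R) * ∏ i, algebraMap R K (f i) ^ ((t.count i : ℤ) - n)
    have h1 : ∀ i, algebraMap R K (f i) ^ ((t.count i : ℤ) - n)
        = algebraMap R K (f i) ^ (t.count i) / algebraMap R K (f i) ^ n := by
      intro i
      rw [zpow_sub₀ (hx0 i), zpow_natCast, zpow_natCast]
    rw [Finset.prod_congr rfl (fun i _ => h1 i), Finset.prod_div_distrib, ← mul_div_assoc]
    have h2 : algebraMap R K (F ^ n) = ∏ i, algebraMap R K (f i) ^ n := by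
      rw [hF, ← Finset.prod_pow, map_prod]; simp only [map_pow]
    rw [← h2, eq_div_iff ((map_ne_zero_iff _ hinj).mpr (pow_ne_zero _ hF0)), hw, hv, map_mul,
      map_prod]
    simp only [map_pow]
  · rintro ⟨v', b'⟩ hvb'
    have hvb : (w : K) = algebraMap R K (v : R)
        * ∏ i, algebraMap R K (f i) ^ ((t.count i : ℤ) - n) := by
      have h1 : ∀ i, algebraMap R K (f i) ^ ((t.count i : ℤ) - n)
          = algebraMap R K (f i) ^ (t.count i) / algebraMap R K (f i) ^ n := by
        intro i
        rw [zpow_sub₀ (hx0 i), zpow_natCast, zpow_natCast]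
      rw [Finset.prod_congr rfl (fun i _ => h1 i), Finset.prod_div_distrib, ← mul_div_assoc]
      have h2 : algebraMap R K (F ^ n) = ∏ i, algebraMap R K (f i) ^ n := by
        rw [hF, ← Finset.prod_pow, map_prod]; simp only [map_pow]
      rw [← h2, eq_div_iff ((map_ne_zero_iff _ hinj).mpr (pow_ne_zero _ hF0)), hw, hv, map_mul,
        map_prod]
      simp only [map_pow]
    have hvb'' : (w : K) = algebraMap R K (v' : R) * ∏ i, algebraMap R K (f i) ^ (b' i) := hvb'
    obtain ⟨h1, h2⟩ := uniq f hf hinj hfa v' v b' (fun i => (t.count i : ℤ) - n)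
      (hvb''.symm.trans hvb)
    rw [h1, h2]


end Groth.Agent.S18579
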