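import Groth.Statements.S18580
import Mathlib
import Groth.Agent.Lib.Helper18.FiberUnram

set_option autoImplicit false
universe u
open EtBase

namespace Groth.Agent.S18580

open AlgebraicGeometry CategoryTheory in
theorem isIso_ι_comp_of_section {X Y : Scheme.{u}} (f : X ⟶ Y) (s : Y ⟶ X) (hs : s ≫ f = 𝟙 Y)
    [IsOpenImmersion s] : IsIso (s.opensRange.ι ≫ f) := by
  have h1 : s.isoOpensRange.hom ≫ (s.opensRange.ι ≫ f) = 𝟙 Y := by
    rw [← Category.assoc, Scheme.Hom.isoOpensRange_hom_ι, hs]
  have h2 : s.opensRange.ι ≫ f = s.isoOpensRange.inv := by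
    rw [← cancel_epi s.isoOpensRange.hom, h1, Iso.hom_inv_id]
  rw [h2]
  infer_instance

open AlgebraicGeometry CategoryTheory in

open AlgebraicGeometry CategoryTheory in
/-- Let Y be a connected scheme and f : X ⟶ Y a separated morphism that is unramified (locally of finite
type and formally unramified). Then the sections of f correspond bijectively to the connected
components of X mapping isomorphically onto Y: there is a bijection from the set of sections s of f
to the set of open subschemes U of X whose underlying set is a connected component of X and for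
which U ⟶ X ⟶ Y is an isomorphism, sending s to its image. In particular every section is an
isomorphism onto a connected component of X and is determined by its image. (A connected component
mapping isomorphically onto Y is the image of a section, hence open, so restricting to open
components loses nothing. The published statement also assumes Y Noetherian; that hypothesis plays
no role and is omitted.) -/
theorem result {X Y : Scheme.{u}} (f : X ⟶ Y)
    [FormallyUnramified f] [LocallyOfFiniteType f] [IsSeparated f] [ConnectedSpace Y] :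
    ∃ e : {s : Y ⟶ X // s ≫ f = 𝟙 Y} ≃
        {U : X.Opens // (∃ x : X, (U : Set X) = connectedComponent x) ∧ IsIso (U.ι ≫ f)},
      ∀ s : {s : Y ⟶ X // s ≫ f = 𝟙 Y}, ((e s).1 : Set X) = Set.range s.1 := by
  have hopen : ∀ s : {s : Y ⟶ X // s ≫ f = 𝟙 Y}, IsOpenImmersion s.1 := fun s =>
    Groth.Agent.Lib.Helper18.FiberUnram.isOpenImmersion_of_section f s.1 s.2
  have hcomp : ∀ s : {s : Y ⟶ X // s ≫ f = 𝟙 Y},
      ∃ x : X, ((@Scheme.Hom.opensRange _ _ s.1 (hopen s) : X.Opens) : Set X) =
        connectedComponent x := by
    intro s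
    have := hopen s
    have hcl : IsClosedImmersion s.1 := by
      have : IsClosedImmersion (s.1 ≫ f) := by rw [s.2]; infer_instance
      exact IsClosedImmersion.of_comp s.1 f
    obtain ⟨y₀⟩ := (inferInstance : Nonempty Y)
    refine ⟨s.1 y₀, ?_⟩
    have hrange : ((s.1.opensRange : X.Opens) : Set X) = Set.range s.1 := rfl
    rw [hrange]
    have hclopen : IsClopen (Set.range s.1) :=
      ⟨s.1.isClosedEmbedding.isClosed_range, s.1.isOpenEmbedding.isOpen_range⟩
    have hconn : _root_.IsPreconnected (Set.range s.1) :=
      (isPreconnected_range s.1.continuous)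
    apply Set.Subset.antisymm
    · exact hconn.subset_connectedComponent ⟨y₀, rfl⟩
    · exact hclopen.connectedComponent_subset ⟨y₀, rfl⟩
  refine ⟨
    { toFun := fun s => ⟨@Scheme.Hom.opensRange _ _ s.1 (hopen s), hcomp s,
        @isIso_ι_comp_of_section _ _ f s.1 s.2 (hopen s)⟩
      invFun := fun U =>
        haveI := U.2.2
        ⟨inv (U.1.ι ≫ f) ≫ U.1.ι, by rw [Category.assoc, IsIso.inv_hom_id]⟩
      left_inv := ?_
      right_inv := ?_ }, ?_⟩
  · intro s
    have := hopen s
    apply Subtype.ext
    dsimp only
    have h1 : s.1.isoOpensRange.hom ≫ (s.1.opensRange.ι ≫ f) = 𝟙 Y := by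
      rw [← Category.assoc, Scheme.Hom.isoOpensRange_hom_ι, s.2]
    have := isIso_ι_comp_of_section f s.1 s.2
    have h2 : inv (s.1.opensRange.ι ≫ f) = s.1.isoOpensRange.hom := by
      rw [← cancel_mono (s.1.opensRange.ι ≫ f), IsIso.inv_hom_id, h1]
    rw [h2, Scheme.Hom.isoOpensRange_hom_ι]
  · intro U
    have := U.2.2
    apply Subtype.ext
    dsimp only
    apply TopologicalSpace.Opens.ext
    show Set.range (inv (U.1.ι ≫ f) ≫ U.1.ι) = (U.1 : Set X)
    have hsurj : Set.range (inv (U.1.ι ≫ f)) = Set.univ :=
      Set.range_eq_univ.mpr (inv (U.1.ι ≫ f)).homeomorph.surjective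
    rw [Scheme.Hom.comp_base, TopCat.coe_comp, Set.range_comp, hsurj, Set.image_univ,
      Scheme.Opens.range_ι]
  · intro s
    rfl

end Groth.Agent.S18580
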