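import Groth.Statements.S18589
import Mathlib.RingTheory.WittVector.StructurePolynomial

set_option autoImplicit false
open CAlg

namespace Groth.Agent.S18589

open MvPolynomial Finset

/-- The renamed Witt polynomial `W_n(x_b)` is weighted homogeneous of weighted degree `p ^ n`. -/
lemma rename_wittPolynomial_isWeightedHomogeneous (p : ℕ) (b : Fin 2) (n : ℕ) :
    IsWeightedHomogeneous (fun i : Fin 2 × ℕ => p ^ i.2)
      (rename (fun i => (b, i)) (wittPolynomial p ℚ n)) (p ^ n) := by
  rw [wittPolynomial_eq_sum_C_mul_X_pow, map_sum]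
  refine IsWeightedHomogeneous.sum _ _ _ fun i hi => ?_
  rw [Finset.mem_range] at hi
  have hren : rename (fun i => (b, i)) (C ((p : ℚ) ^ i) * X i ^ p ^ (n - i)) =
      C ((p : ℚ) ^ i) * X (b, i) ^ p ^ (n - i) := by
    rw [map_mul, rename_C, map_pow (rename fun i => (b, i)), rename_X]
  rw [hren]
  have h := ((isWeightedHomogeneous_X (R := ℚ) (fun i : Fin 2 × ℕ => p ^ i.2) (b, i)).pow
    (p ^ (n - i))).C_mul ((p : ℚ) ^ i)
  have e : p ^ (n - i) • p ^ i = p ^ n := by
    rw [smul_eq_mul, ← pow_add, Nat.sub_add_cancel (Nat.lt_succ_iff.1 hi)]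
  simpa only [e] using h

/-- The rational Witt structure polynomials of `X 0 + X 1` are weighted homogeneous. -/
lemma wittStructureRat_isWeightedHomogeneous (p : ℕ) [hp : Fact p.Prime] (n : ℕ) :
    IsWeightedHomogeneous (fun i : Fin 2 × ℕ => p ^ i.2)
      (wittStructureRat p (X 0 + X 1 : MvPolynomial (Fin 2) ℚ) n) (p ^ n) := by
  induction n using Nat.strong_induction_on with | h n IH => ?_
  rw [wittStructureRat_rec]
  refine IsWeightedHomogeneous.C_mul ?_ _
  refine IsWeightedHomogeneous.sub ?_ ?_
  · rw [map_add, bind₁_X_right, bind₁_X_right]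
    exact (rename_wittPolynomial_isWeightedHomogeneous p 0 n).add
      (rename_wittPolynomial_isWeightedHomogeneous p 1 n)
  · refine IsWeightedHomogeneous.sum _ _ _ fun i hi => ?_
    rw [Finset.mem_range] at hi
    have h := ((IH i hi).pow (p ^ (n - i))).C_mul ((p : ℚ) ^ i)
    have e : p ^ (n - i) • p ^ i = p ^ n := by
      rw [smul_eq_mul, ← pow_add, Nat.sub_add_cancel hi.le]
    simpa only [e] using h

/-- For a prime p and every natural number n, the n-th Witt addition polynomial over the integers (the
polynomial S_n with (x + y)_n = S_n(x_0, y_0, …, x_n, y_n) for p-typical Witt vectors x, y) is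
weighted homogeneous of weighted degree p ^ n for the grading in which the variables x_i and y_i
have weight p ^ i. -/
theorem result (p : ℕ) [Fact p.Prime] (n : ℕ) :
    MvPolynomial.IsWeightedHomogeneous (fun i : Fin 2 × ℕ => p ^ i.2) (WittVector.wittAdd p n) (p ^ n) := by
  have h := wittStructureRat_isWeightedHomogeneous p n
  have hmap : map (Int.castRingHom ℚ) (WittVector.wittAdd p n) =
      wittStructureRat p (X 0 + X 1 : MvPolynomial (Fin 2) ℚ) n := by
    rw [WittVector.wittAdd, map_wittStructureInt]
    simp only [map_add, map_X]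
  intro d hd
  apply h
  rw [← hmap, coeff_map]
  simpa using hd

end Groth.Agent.S18589
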