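import Groth.Statements.S18591
import Groth.Agent.Lib.Helper16.MonAdj
open Groth.Agent.Lib.helper16.MonAdj

set_option autoImplicit false
universe v u
open W4c5suslinpi1ab

namespace Groth.Agent.S18591

open CategoryTheory MonoidalCategory Functor.LaxMonoidal Functor.OplaxMonoidal in
/-- In a square of adjunctions between monoidal categories — fL ⊣ fR from the base S₀ to Y₁, pL ⊣ pR
from Y₁ to X (both left adjoints oplax monoidal, right adjoints with the induced lax structure), qL
⊣ qR from Y₂ to X, a functor gR : Y₂ ⥤ S₀ and a natural transformation ν : qR ⋙ gR ⟶ pR ⋙ fR from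
which the base change fL gR ⟶ pR qL is built, the adjoint under the composite adjunction fL ⋙ pL ⊣
pR ⋙ fR of the exterior product fR A ⊗ gR B ⟶ fR pR (pL A ⊗ qL B) is the oplax comparison map of fL
⋙ pL followed by (pL of the counit of adjf at A) ⊗ (pL of the base change at B, then the counit of
adjp at qL B). (The published statement assumes symmetric monoidal categories and monoidal pullbacks
and writes the domain of this map as a tensor product of pullbacks; here only oplax left adjoints
are assumed and the oplax comparison map is kept explicit.) -/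
theorem result {S₀ : Type u} [Category.{v} S₀] [MonoidalCategory S₀]
    {Y₁ : Type u} [Category.{v} Y₁] [MonoidalCategory Y₁]
    {Y₂ : Type u} [Category.{v} Y₂] [MonoidalCategory Y₂]
    {X : Type u} [Category.{v} X] [MonoidalCategory X]
    {fL : S₀ ⥤ Y₁} {fR : Y₁ ⥤ S₀} (adjf : fL ⊣ fR) [fL.OplaxMonoidal] [fR.LaxMonoidal]
    [adjf.IsMonoidal] {gR : Y₂ ⥤ S₀}
    {pL : Y₁ ⥤ X} {pR : X ⥤ Y₁} (adjp : pL ⊣ pR) [pL.OplaxMonoidal] [pR.LaxMonoidal]
    [adjp.IsMonoidal] {qL : Y₂ ⥤ X} {qR : X ⥤ Y₂} (adjq : qL ⊣ qR)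
    (ν : qR ⋙ gR ⟶ pR ⋙ fR) (A : Y₁) (B : Y₂) :
    ((adjf.comp adjp).homEquiv _ _).symm (W4c5suslinpi1ab.extProd adjf adjp adjq ν A B) =
      δ (fL ⋙ pL) (fR.obj A) (gR.obj B) ≫
        (pL.map (adjf.counit.app A) ⊗ₘ
          (pL.map ((W4c5suslinpi1ab.bcMor adjf adjq ν).app B) ≫ adjp.counit.app (qL.obj B))) := by
  rw [Adjunction.homEquiv_counit, Adjunction.comp_counit_app, extProd]
  dsimp only [Functor.comp_map, Functor.comp_obj]
  have e1 : fL.map (projR adjf A (gR.obj B) ≫ fR.map (A ◁ (bcMor adjf adjq ν).app B) ≫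
      fR.map (projL adjp A (qL.obj B))) ≫ adjf.counit.app (pR.obj (pL.obj A ⊗ qL.obj B)) =
      δ fL (fR.obj A) (gR.obj B) ≫ (adjf.counit.app A ▷ fL.obj (gR.obj B)) ≫
        (A ◁ (bcMor adjf adjq ν).app B) ≫ projL adjp A (qL.obj B) := by
    have n1 := adjf.counit.naturality (projL adjp A (qL.obj B))
    have n2 := adjf.counit.naturality (A ◁ (bcMor adjf adjq ν).app B)
    dsimp at n1 n2
    rw [fL.map_comp, fL.map_comp, Category.assoc, Category.assoc, n1, reassoc_of% n2,
      ← Category.assoc, map_projR_counit, Category.assoc]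
  rw [← pL.map_comp_assoc, e1]
  have d1 := δ_natural_left pL (adjf.counit.app A) (fL.obj (gR.obj B))
  have d2 := δ_natural_right pL A ((bcMor adjf adjq ν).app B)
  dsimp at d1 d2
  rw [pL.map_comp, pL.map_comp, pL.map_comp, Category.assoc, Category.assoc, Category.assoc,
    map_projL_counit, ← reassoc_of% d2, ← reassoc_of% d1, Functor.OplaxMonoidal.comp_δ,
    MonoidalCategory.tensorHom_def, MonoidalCategory.whiskerLeft_comp]
  simp

end Groth.Agent.S18591
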