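import Groth.Statements.S18598
import Mathlib

set_option autoImplicit false
universe u
open SSRed

namespace Groth.Agent.S18598

section aux
open Polynomial

variable {O : Type u} [CommRing O] [IsDomain O]

/-- `(1-β)^φ(p^(k+1)) ∣ p` for a primitive `p^(k+1)`-th root `β`. -/
lemma one_sub_pow_dvd_prime (p : ℕ) [hp : Fact p.Prime] (k : ℕ) (β : O)
    (hβ : IsPrimitiveRoot β (p ^ (k + 1))) :
    (1 - β) ^ Nat.totient (p ^ (k + 1)) ∣ (p : O) := by
  have hq : 0 < p ^ (k + 1) := pow_pos hp.out.pos _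
  have : NeZero (p ^ (k + 1)) := ⟨hq.ne'⟩
  have h1 := congrArg (eval 1) (cyclotomic_eq_prod_X_sub_primitiveRoots hβ)
  rw [eval_one_cyclotomic_prime_pow, eval_prod] at h1
  simp only [eval_sub, eval_X, eval_C] at h1
  rw [h1, ← hβ.card_primitiveRoots, ← Finset.prod_const]
  apply Finset.prod_dvd_prod_of_dvd
  intro ζ hζ
  rw [mem_primitiveRoots hq] at hζ
  obtain ⟨i, _, rfl⟩ := hβ.eq_pow_of_pow_eq_one hζ.pow_eq_one
  exact one_sub_dvd_one_sub_pow β i

lemma nat_dvd_of_cast_dvd [CharZero O] (a b : ℕ) (ha : 0 < a)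
    (hO : ∀ l : ℕ, l.Prime → l ∣ a → ¬ IsUnit (l : O)) (h : (a : O) ∣ (b : O)) : a ∣ b := by
  have hgpos : 0 < Nat.gcd a b := Nat.gcd_pos_of_pos_left _ ha
  have hbez : ((Nat.gcd a b : ℕ) : ℤ) = a * Nat.gcdA a b + b * Nat.gcdB a b :=
    Nat.gcd_eq_gcd_ab a b
  have hbezO : ((Nat.gcd a b : ℕ) : O)
      = (a : O) * ((Nat.gcdA a b : ℤ) : O) + (b : O) * ((Nat.gcdB a b : ℤ) : O) := by
    have := congrArg (Int.cast : ℤ → O) hbez
    push_cast at this
    exact this
  have hag : (a : O) ∣ ((Nat.gcd a b : ℕ) : O) := by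
    rw [hbezO]
    exact dvd_add (dvd_mul_right _ _) (dvd_mul_of_dvd_left h _)
  obtain ⟨a', ha'⟩ := Nat.gcd_dvd_left a b
  have e : (a : O) = ((Nat.gcd a b : ℕ) : O) * (a' : O) := by
    rw [← Nat.cast_mul, ← ha']
  have ha'unit : IsUnit (a' : O) := by
    obtain ⟨c, hc⟩ := hag
    rw [e, mul_assoc] at hc
    have hg0 : ((Nat.gcd a b : ℕ) : O) ≠ 0 := Nat.cast_ne_zero.2 hgpos.ne'
    have : (a' : O) * c = 1 := by
      apply mul_left_cancel₀ hg0
      rw [← hc, mul_one]
    exact IsUnit.of_mul_eq_one _ this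
  by_cases h1 : a' = 1
  · rw [ha', h1, mul_one]; exact Nat.gcd_dvd_right a b
  · exfalso
    obtain ⟨l, hl, hla'⟩ := Nat.exists_prime_and_dvd h1
    have hla : l ∣ a := by rw [ha']; exact Dvd.dvd.mul_left hla' _
    exact hO l hl hla (isUnit_of_dvd_unit (Nat.cast_dvd_cast hla') ha'unit)

lemma key [CharZero O] (n : ℕ) (hn : 0 < n)
    (hO : ∀ p : ℕ, p.Prime → p ∣ n → ¬ IsUnit (p : O))
    (α : O) (hα : IsOfFinOrder α) (h : (n : O) ∣ (α - 1) ^ 2) (p : ℕ) (hp : p.Prime) (k : ℕ)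
    (hdvd : p ^ (k + 1) ∣ orderOf α) : n ^ (p ^ k * (p - 1)) ∣ p ^ 2 := by
  have : Fact p.Prime := ⟨hp⟩
  have hm : 0 < orderOf α := hα.orderOf_pos
  obtain ⟨c, hc⟩ := hdvd
  have hβ : IsPrimitiveRoot (α ^ c) (p ^ (k + 1)) :=
    (IsPrimitiveRoot.orderOf α).pow hm (by rw [hc, mul_comm])
  have h1 := one_sub_pow_dvd_prime p k (α ^ c) hβ
  rw [Nat.totient_prime_pow_succ hp] at h1
  have h2 : (n : O) ∣ (1 - α ^ c) ^ 2 := by
    have h3 : (1 - α) ^ 2 ∣ (1 - α ^ c) ^ 2 :=
      pow_dvd_pow_of_dvd (one_sub_dvd_one_sub_pow α c) 2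
    have e : (α - 1) ^ 2 = (1 - α) ^ 2 := by ring
    rw [e] at h
    exact h.trans h3
  have h3 : ((n ^ (p ^ k * (p - 1)) : ℕ) : O) ∣ ((p ^ 2 : ℕ) : O) := by
    push_cast
    calc (n : O) ^ (p ^ k * (p - 1)) ∣ ((1 - α ^ c) ^ 2) ^ (p ^ k * (p - 1)) :=
          pow_dvd_pow_of_dvd h2 _
      _ = ((1 - α ^ c) ^ (p ^ k * (p - 1))) ^ 2 := by rw [← pow_mul, ← pow_mul, mul_comm]
      _ ∣ (p : O) ^ 2 := pow_dvd_pow_of_dvd h1 2
  apply nat_dvd_of_cast_dvd (O := O) _ _ (pow_pos hn _) _ h3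
  intro l hl hln
  exact hO l hl (hl.dvd_of_dvd_pow hln)

lemma five_pow_gt (t : ℕ) (ht : 1 ≤ t) : (t + 1) ^ 2 < 5 ^ t := by
  induction t, ht using Nat.le_induction with
  | base => norm_num
  | succ t ht ih =>
    rw [pow_succ 5 t]
    nlinarith

lemma two_le_pow {q k : ℕ} (hq : 2 ≤ q) (hk : k ≠ 0) : 2 ≤ q ^ k := by
  calc 2 ≤ q := hq
    _ = q ^ 1 := (pow_one q).symm
    _ ≤ q ^ k := Nat.pow_le_pow_right (by omega) (by omega)

end aux

/-- Let O be a commutative integral domain of characteristic zero, n a positive integer such that no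
prime number dividing n is a unit in O, and α an element of O of finite multiplicative order such
that (α − 1)² is divisible by n in O. Then α = 1 if n ≥ 5, α² = 1 if n = 4, α³ = 1 if n = 3, and α⁴
= 1 if n = 2. -/
theorem result (O : Type u) [CommRing O] [IsDomain O] [CharZero O]
    (n : ℕ) (hn : 0 < n) (hO : ∀ p : ℕ, p.Prime → p ∣ n → ¬ IsUnit (p : O))
    (α : O) (hα : IsOfFinOrder α) (h : (n : O) ∣ (α - 1) ^ 2) :
    (5 ≤ n → α = 1) ∧ (n = 4 → α ^ 2 = 1) ∧ (n = 3 → α ^ 3 = 1) ∧ (n = 2 → α ^ 4 = 1) := by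
  have hm : 0 < orderOf α := hα.orderOf_pos
  have K := key n hn hO α hα h
  refine ⟨?_, ?_, ?_, ?_⟩
  · intro h5
    rw [← orderOf_eq_one_iff]
    by_contra hne
    obtain ⟨p, hp, hpm⟩ := Nat.exists_prime_and_dvd hne
    have h1 := K p hp 0 (by simpa using hpm)
    simp only [pow_zero, one_mul] at h1
    have hle := Nat.le_of_dvd (by have := hp.pos; positivity) h1
    have h2 : 5 ^ (p - 1) ≤ p ^ 2 := le_trans (Nat.pow_le_pow_left h5 _) hle
    have h3 := five_pow_gt (p - 1) (by have := hp.two_le; omega)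
    have e : p - 1 + 1 = p := by have := hp.two_le; omega
    rw [e] at h3
    omega
  · rintro rfl
    rw [← orderOf_dvd_iff_pow_eq_one, Nat.dvd_iff_prime_pow_dvd_dvd]
    intro p k hp hpk
    cases k with
    | zero => simp
    | succ k =>
      have h1 := K p hp k hpk
      have hpos : p ^ k * (p - 1) ≠ 0 := by
        have := hp.two_le
        have : 0 < p ^ k := pow_pos hp.pos _
        have : 0 < p - 1 := by omega
        positivity
      have h2 : 2 ∣ p := by
        have : 2 ∣ p ^ 2 :=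
          dvd_trans (dvd_trans (by norm_num : 2 ∣ 4) (dvd_pow_self 4 hpos)) h1
        exact Nat.prime_two.dvd_of_dvd_pow this
      have hp2 : p = 2 := ((Nat.prime_dvd_prime_iff_eq Nat.prime_two hp).1 h2).symm
      subst hp2
      have h3 : (2 : ℕ) ^ (2 * (2 ^ k * (2 - 1))) ∣ 2 ^ 2 := by
        rw [pow_mul]; exact h1
      rw [Nat.pow_dvd_pow_iff_le_right (by norm_num)] at h3
      have hk : k = 0 := by
        by_contra hk
        have := two_le_pow (q := 2) le_rfl hk
        omega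
      subst hk; norm_num
  · rintro rfl
    rw [← orderOf_dvd_iff_pow_eq_one, Nat.dvd_iff_prime_pow_dvd_dvd]
    intro p k hp hpk
    cases k with
    | zero => simp
    | succ k =>
      have h1 := K p hp k hpk
      have hpos : p ^ k * (p - 1) ≠ 0 := by
        have := hp.two_le
        have : 0 < p ^ k := pow_pos hp.pos _
        have : 0 < p - 1 := by omega
        positivity
      have h2 : 3 ∣ p := by
        have : 3 ∣ p ^ 2 := dvd_trans (dvd_pow_self 3 hpos) h1
        exact Nat.prime_three.dvd_of_dvd_pow this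
      have hp3 : p = 3 := ((Nat.prime_dvd_prime_iff_eq Nat.prime_three hp).1 h2).symm
      subst hp3
      rw [Nat.pow_dvd_pow_iff_le_right (by norm_num)] at h1
      have hk : k = 0 := by
        by_contra hk
        have := two_le_pow (q := 3) (by norm_num) hk
        omega
      subst hk; norm_num
  · rintro rfl
    rw [← orderOf_dvd_iff_pow_eq_one, Nat.dvd_iff_prime_pow_dvd_dvd]
    intro p k hp hpk
    cases k with
    | zero => simp
    | succ k =>
      have h1 := K p hp k hpk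
      have hpos : p ^ k * (p - 1) ≠ 0 := by
        have := hp.two_le
        have : 0 < p ^ k := pow_pos hp.pos _
        have : 0 < p - 1 := by omega
        positivity
      have h2 : 2 ∣ p := by
        have : 2 ∣ p ^ 2 := dvd_trans (dvd_pow_self 2 hpos) h1
        exact Nat.prime_two.dvd_of_dvd_pow this
      have hp2 : p = 2 := ((Nat.prime_dvd_prime_iff_eq Nat.prime_two hp).1 h2).symm
      subst hp2
      rw [Nat.pow_dvd_pow_iff_le_right (by norm_num)] at h1
      have hk : k ≤ 1 := by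
        by_contra hk
        have h4 : (2 : ℕ) ^ 2 ≤ 2 ^ k := Nat.pow_le_pow_right (by norm_num) (by omega)
        omega
      interval_cases k <;> norm_num

end Groth.Agent.S18598
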