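import Groth.Statements.S18599
import Mathlib

set_option autoImplicit false
universe u
open SSRed

namespace Groth.Agent.S18599

open Pointwise

section
variable {ℓ : ℕ} [Fact ℓ.Prime]

open TensorProduct in
theorem card_quot (N : Type u) [AddCommGroup N] [Module ℤ_[ℓ] N]
    [Module.Free ℤ_[ℓ] N] [Module.Finite ℤ_[ℓ] N] :
    Nat.card (N ⧸ ((ℓ : ℤ_[ℓ]) • (⊤ : Submodule ℤ_[ℓ] N))) = ℓ ^ Module.finrank ℤ_[ℓ] N := by
  have h1 : ((ℓ : ℤ_[ℓ]) • (⊤ : Submodule ℤ_[ℓ] N)) =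
      (IsLocalRing.maximalIdeal ℤ_[ℓ]) • (⊤ : Submodule ℤ_[ℓ] N) := by
    rw [PadicInt.maximalIdeal_eq_span_p, Submodule.ideal_span_singleton_smul]
  rw [h1]
  have e : (IsLocalRing.ResidueField ℤ_[ℓ]) ⊗[ℤ_[ℓ]] N ≃
      N ⧸ ((IsLocalRing.maximalIdeal ℤ_[ℓ]) • (⊤ : Submodule ℤ_[ℓ] N)) :=
    (quotTensorEquivQuotSMul N (IsLocalRing.maximalIdeal ℤ_[ℓ])).toEquiv
  rw [← Nat.card_congr e]
  have h2 := Module.natCard_eq_pow_finrank (K := IsLocalRing.ResidueField ℤ_[ℓ])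
    (V := (IsLocalRing.ResidueField ℤ_[ℓ]) ⊗[ℤ_[ℓ]] N)
  rw [h2, Module.finrank_baseChange]
  have h3 : Nat.card (IsLocalRing.ResidueField ℤ_[ℓ]) = ℓ := by
    have := Nat.card_congr (PadicInt.residueField (p := ℓ)).toEquiv
    rw [Nat.card_zmod] at this
    exact this
  rw [h3]

theorem card_quot_range_pow {N : Type u} [AddCommGroup N] [Module ℤ_[ℓ] N]
    (φ : N →ₗ[ℤ_[ℓ]] N) (hinj : Function.Injective φ) (n : ℕ) :
    Nat.card (N ⧸ LinearMap.range (φ ^ n)) = (Nat.card (N ⧸ LinearMap.range φ)) ^ n := by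
  have key : ∀ S : Submodule ℤ_[ℓ] N, Nat.card (N ⧸ S) = S.toAddSubgroup.index := fun S => rfl
  induction n with
  | zero =>
    rw [pow_zero, pow_zero, Module.End.one_eq_id, LinearMap.range_id, key,
      Submodule.top_toAddSubgroup, AddSubgroup.index_top]
  | succ n ih =>
    have hr : LinearMap.range (φ ^ (n + 1)) = (LinearMap.range (φ ^ n)).map φ := by
      rw [pow_succ', Module.End.mul_eq_comp, LinearMap.range_comp]
    rw [key, hr, Submodule.map_toAddSubgroup, AddSubgroup.index_map_of_injective, ← key, ih,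
      pow_succ]
    · rfl
    · exact hinj

theorem end_smul_cancel {M : Type u} [AddCommGroup M] [Module ℤ_[ℓ] M] [Module.Free ℤ_[ℓ] M]
    {a : ℤ_[ℓ]} (ha : a ≠ 0) {X Y : Module.End ℤ_[ℓ] M} (h : a • X = a • Y) : X = Y := by
  ext x
  have := LinearMap.congr_fun h x
  rw [LinearMap.smul_apply, LinearMap.smul_apply] at this
  exact smul_right_injective M ha this

theorem end_pow_of_equiv (M : Type u) [AddCommGroup M] [Module ℤ_[ℓ] M]
    (A : M ≃ₗ[ℤ_[ℓ]] M) (n : ℕ) (hA : A ^ n = 1) :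
    ((A : M →ₗ[ℤ_[ℓ]] M) : Module.End ℤ_[ℓ] M) ^ n = 1 := by
  have := congrArg (LinearEquiv.automorphismGroup.toLinearMapMonoidHom (R := ℤ_[ℓ]) (M := M)) hA
  rw [map_pow, map_one] at this
  exact this

theorem abstract_main (M : Type u) [AddCommGroup M] [Module ℤ_[ℓ] M] [Module.Free ℤ_[ℓ] M]
    [Module.Finite ℤ_[ℓ] M]
    (f E W V : Module.End ℤ_[ℓ] M) (e' : ℕ)
    (hE : E * E = E) (hfE : f * E = 0) (hEf : E * f = 0)
    (hW : f ^ (e' + 1) = (ℓ : ℤ_[ℓ]) • W) (hEW : E * W = 0)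
    (hV : f ^ (e' + 1) * V = (ℓ : ℤ_[ℓ]) • (1 - E))
    (hV' : V * f ^ (e' + 1) = (ℓ : ℤ_[ℓ]) • (1 - E)) (hEV : E * V = 0)
    (c : ℕ) (hc : c = Module.finrank ℤ_[ℓ] M - Module.finrank ℤ_[ℓ] (LinearMap.ker f)) :
    (∀ x ∈ Submodule.torsion ℤ_[ℓ] (M ⧸ LinearMap.range f), (ℓ : ℤ_[ℓ]) • x = 0) ∧
      ∃ r : ℕ, r * (e' + 1) = c ∧
        Nat.card (Submodule.torsion ℤ_[ℓ] (M ⧸ LinearMap.range f)) = ℓ ^ r := by
  have hp : ℓ.Prime := Fact.out
  have hℓ : (ℓ : ℤ_[ℓ]) ≠ 0 := Nat.cast_ne_zero.2 hp.ne_zero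
  have pE : ∀ x, E (E x) = E x := fun x => by
    have := LinearMap.congr_fun hE x
    rw [Module.End.mul_apply] at this; exact this
  have pfE : ∀ x, f (E x) = 0 := fun x => by
    have := LinearMap.congr_fun hfE x
    rw [Module.End.mul_apply] at this; exact this
  have pEf : ∀ x, E (f x) = 0 := fun x => by
    have := LinearMap.congr_fun hEf x
    rw [Module.End.mul_apply] at this; exact this
  have pEW : ∀ x, E (W x) = 0 := fun x => by
    have := LinearMap.congr_fun hEW x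
    rw [Module.End.mul_apply] at this; exact this
  have pEV : ∀ x, E (V x) = 0 := fun x => by
    have := LinearMap.congr_fun hEV x
    rw [Module.End.mul_apply] at this; exact this
  have pW : ∀ x, (f ^ (e' + 1)) x = (ℓ : ℤ_[ℓ]) • W x := fun x => by
    rw [hW]; rfl
  have pV : ∀ x, (f ^ (e' + 1)) (V x) = (ℓ : ℤ_[ℓ]) • (x - E x) := fun x => by
    have := LinearMap.congr_fun hV x
    rw [Module.End.mul_apply, LinearMap.smul_apply, LinearMap.sub_apply,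
      Module.End.one_apply] at this
    exact this
  have pV' : ∀ x, V ((f ^ (e' + 1)) x) = (ℓ : ℤ_[ℓ]) • (x - E x) := fun x => by
    have := LinearMap.congr_fun hV' x
    rw [Module.End.mul_apply, LinearMap.smul_apply, LinearMap.sub_apply,
      Module.End.one_apply] at this
    exact this
  have k1 : ∀ x, f x = 0 → x = E x := by
    intro x hx
    have h1 : (f ^ (e' + 1)) x = 0 := by
      rw [pow_succ, Module.End.mul_apply, hx, map_zero]
    have h2 := pV' x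
    rw [h1, map_zero] at h2
    have h3 : x - E x = 0 := (smul_eq_zero_iff_right hℓ).1 h2.symm
    exact sub_eq_zero.1 h3
  have k2 : ∀ x, E x = 0 → (ℓ : ℤ_[ℓ]) • x ∈ LinearMap.range f := by
    intro x hx
    refine ⟨(f ^ e') (V x), ?_⟩
    have h := pV x
    rw [hx, sub_zero, pow_succ', Module.End.mul_apply] at h
    exact h
  obtain ⟨K, hK⟩ : ∃ K : Submodule ℤ_[ℓ] M, K = LinearMap.ker E := ⟨_, rfl⟩
  have memK : ∀ x, x ∈ K ↔ E x = 0 := fun x => by rw [hK, LinearMap.mem_ker]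
  have hfK : ∀ x ∈ K, f x ∈ K := fun x _ => (memK _).2 (pEf x)
  obtain ⟨φ, hφ⟩ : ∃ φ : K →ₗ[ℤ_[ℓ]] K, ∀ x : K, ((φ x : K) : M) = f (x : M) :=
    ⟨f.restrict hfK, fun x => LinearMap.coe_restrict_apply hfK x⟩
  have hφinj : Function.Injective φ := by
    rw [injective_iff_map_eq_zero]
    intro x hx
    have h1 : f (x : M) = 0 := by rw [← hφ, hx]; rfl
    have h2 := k1 _ h1
    rw [(memK _).1 x.2] at h2
    exact Subtype.ext h2
  have hφpow : ∀ (n : ℕ) (x : K), (((φ ^ n) x : K) : M) = (f ^ n) (x : M) := by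
    intro n
    induction n with
    | zero => intro x; rw [pow_zero, pow_zero]; rfl
    | succ n ih =>
      intro x
      rw [pow_succ', pow_succ', Module.End.mul_apply, Module.End.mul_apply, hφ, ih]
  have hrange : LinearMap.range (φ ^ (e' + 1)) = (ℓ : ℤ_[ℓ]) • (⊤ : Submodule ℤ_[ℓ] K) := by
    ext x
    constructor
    · rintro ⟨y, rfl⟩
      have hWy : W (y : M) ∈ K := (memK _).2 (pEW _)
      have : (φ ^ (e' + 1)) y = (ℓ : ℤ_[ℓ]) • (⟨W (y : M), hWy⟩ : K) := by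
        apply Subtype.ext
        rw [hφpow, pW]; rfl
      rw [this]
      exact Submodule.smul_mem_pointwise_smul _ _ _ Submodule.mem_top
    · intro hx
      rw [Submodule.mem_smul_pointwise_iff_exists] at hx
      obtain ⟨y, -, rfl⟩ := hx
      have hVy : V (y : M) ∈ K := (memK _).2 (pEV _)
      refine ⟨⟨V (y : M), hVy⟩, ?_⟩
      apply Subtype.ext
      rw [hφpow]
      show (f ^ (e' + 1)) (V (y : M)) = _
      rw [pV, (memK _).1 y.2, sub_zero]; rfl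
  have : Module.Finite ℤ_[ℓ] K := inferInstance
  have : Module.Free ℤ_[ℓ] K := inferInstance
  have hcount : (Nat.card (K ⧸ LinearMap.range φ)) ^ (e' + 1) =
      ℓ ^ Module.finrank ℤ_[ℓ] K := by
    rw [← card_quot_range_pow φ hφinj, hrange, card_quot]
  have hker : LinearMap.ker f = LinearMap.range E := by
    ext x
    constructor
    · intro hx
      exact ⟨x, (k1 x (LinearMap.mem_ker.1 hx)).symm⟩
    · rintro ⟨y, rfl⟩
      exact LinearMap.mem_ker.2 (pfE y)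
  have hrank : Module.finrank ℤ_[ℓ] K = c := by
    have h1 := Submodule.finrank_quotient_add_finrank (LinearMap.ker E)
    have h2 : Module.finrank ℤ_[ℓ] (M ⧸ LinearMap.ker E) =
        Module.finrank ℤ_[ℓ] (LinearMap.range E) :=
      (E.quotKerEquivRange).finrank_eq
    rw [hker] at hc
    rw [hK]
    omega
  obtain ⟨ψ, hψ⟩ : ∃ ψ : K →ₗ[ℤ_[ℓ]] (M ⧸ LinearMap.range f),
      ∀ x : K, ψ x = Submodule.Quotient.mk (x : M) :=
    ⟨(LinearMap.range f).mkQ ∘ₗ K.subtype, fun x => rfl⟩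
  have hT : Submodule.torsion ℤ_[ℓ] (M ⧸ LinearMap.range f) = LinearMap.range ψ := by
    ext y
    constructor
    · intro hy
      obtain ⟨x, rfl⟩ := Submodule.Quotient.mk_surjective _ y
      rw [Submodule.mem_torsion_iff] at hy
      obtain ⟨a, ha⟩ := hy
      have ha' : (a : ℤ_[ℓ]) • x ∈ LinearMap.range f := by
        have h0 := ha
        rw [Submonoid.smul_def, ← Submodule.Quotient.mk_smul, Submodule.Quotient.mk_eq_zero] at h0
        exact h0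
      obtain ⟨z, hz⟩ := ha'
      have h1 : (a : ℤ_[ℓ]) • E x = 0 := by rw [← map_smul, ← hz, pEf]
      have h2 : E x = 0 := (smul_eq_zero_iff_right (nonZeroDivisors.coe_ne_zero a)).1 h1
      exact ⟨⟨x, (memK _).2 h2⟩, hψ _⟩
    · rintro ⟨x, rfl⟩
      rw [Submodule.mem_torsion_iff]
      refine ⟨⟨(ℓ : ℤ_[ℓ]), mem_nonZeroDivisors_of_ne_zero hℓ⟩, ?_⟩
      rw [hψ]
      show (ℓ : ℤ_[ℓ]) • (Submodule.Quotient.mk (x : M) : M ⧸ LinearMap.range f) = 0
      rw [← Submodule.Quotient.mk_smul, Submodule.Quotient.mk_eq_zero]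
      exact k2 _ ((memK _).1 x.2)
  have hkerψ : LinearMap.ker ψ = LinearMap.range φ := by
    ext x
    rw [LinearMap.mem_ker, hψ, Submodule.Quotient.mk_eq_zero]
    constructor
    · rintro ⟨y, hy⟩
      have hz : y - E y ∈ K := (memK _).2 (by rw [map_sub, pE, sub_self])
      refine ⟨⟨y - E y, hz⟩, ?_⟩
      apply Subtype.ext
      rw [hφ]
      show f (y - E y) = _
      rw [map_sub, pfE, sub_zero, hy]
    · rintro ⟨z, rfl⟩
      exact ⟨(z : M), (hφ z).symm⟩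
  have hcard : Nat.card (Submodule.torsion ℤ_[ℓ] (M ⧸ LinearMap.range f)) =
      Nat.card (K ⧸ LinearMap.range φ) := by
    rw [hT, ← hkerψ]
    exact (Nat.card_congr ψ.quotKerEquivRange.toEquiv).symm
  refine ⟨?_, ?_⟩
  · intro y hy
    rw [hT] at hy
    obtain ⟨x, rfl⟩ := hy
    rw [hψ, ← Submodule.Quotient.mk_smul, Submodule.Quotient.mk_eq_zero]
    exact k2 _ ((memK _).1 x.2)
  · rw [hrank] at hcount
    have hdvd : Nat.card (K ⧸ LinearMap.range φ) ∣ ℓ ^ c := by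
      rw [← hcount]; exact dvd_pow_self _ (Nat.succ_ne_zero e')
    obtain ⟨r, -, hr⟩ := (Nat.dvd_prime_pow hp).1 hdvd
    refine ⟨r, ?_, by rw [hcard, hr]⟩
    rw [hr, ← pow_mul] at hcount
    exact Nat.pow_right_injective hp.two_le hcount

end

theorem case1 [Fact (Nat.Prime 2)] (M : Type u) [AddCommGroup M] [Module ℤ_[2] M]
    [Module.Free ℤ_[2] M] [Module.Finite ℤ_[2] M]
    (f B : Module.End ℤ_[2] M) (hff : f * f = -((2 : ℤ_[2]) • f)) (hB : f = (2 : ℤ_[2]) • B)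
    (c : ℕ) (hc : c = Module.finrank ℤ_[2] M - Module.finrank ℤ_[2] (LinearMap.ker f)) :
    (∀ x ∈ Submodule.torsion ℤ_[2] (M ⧸ LinearMap.range f), ((2 : ℕ) : ℤ_[2]) • x = 0) ∧
      ∃ r : ℕ, r * (2 - 1) = c ∧
        Nat.card (Submodule.torsion ℤ_[2] (M ⧸ LinearMap.range f)) = 2 ^ r := by
  have h2 : (2 : ℤ_[2]) ≠ 0 := two_ne_zero
  have h22 : ((2 : ℕ) : ℤ_[2]) = 2 := Nat.cast_ofNat
  have hBB : B * B = -B := by
    have h4 : (2 * 2 : ℤ_[2]) ≠ 0 := mul_ne_zero h2 h2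
    apply end_smul_cancel h4
    have h := hff
    rw [hB, smul_mul_smul_comm, smul_smul] at h
    rw [h, smul_neg]
  have hEE : (1 + B) * (1 + B) = 1 + B := by
    simp only [add_mul, mul_add, one_mul, mul_one, hBB]; abel
  have hfE : f * (1 + B) = 0 := by
    rw [hB, smul_mul_assoc, mul_add, mul_one, hBB, add_neg_cancel, smul_zero]
  have hEf : (1 + B) * f = 0 := by
    rw [hB, mul_smul_comm, add_mul, one_mul, hBB, add_neg_cancel, smul_zero]
  have hEW : (1 + B) * B = 0 := by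
    rw [add_mul, one_mul, hBB, add_neg_cancel]
  have hW : f ^ (0 + 1) = ((2 : ℕ) : ℤ_[2]) • B := by
    rw [zero_add, pow_one, h22, hB]
  have hV : f ^ (0 + 1) * B = ((2 : ℕ) : ℤ_[2]) • (1 - (1 + B)) := by
    rw [zero_add, pow_one, h22, hB, smul_mul_assoc, hBB, sub_add_cancel_left]
  have hV' : B * f ^ (0 + 1) = ((2 : ℕ) : ℤ_[2]) • (1 - (1 + B)) := by
    rw [zero_add, pow_one, h22, hB, mul_smul_comm, hBB, sub_add_cancel_left]
  have := abstract_main (ℓ := 2) M f (1 + B) B B 0 hEE hfE hEf hW hEW hV hV' hEW c hc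
  exact this

theorem hff_of [Fact (Nat.Prime 2)] (M : Type u) [AddCommGroup M] [Module ℤ_[2] M]
    (A : M ≃ₗ[ℤ_[2]] M) (hA : A ^ 2 = 1) (f : Module.End ℤ_[2] M)
    (hf : f = (A : M →ₗ[ℤ_[2]] M) - 1) : f * f = -((2 : ℤ_[2]) • f) := by
  have hA1 : ((A : M →ₗ[ℤ_[2]] M) : Module.End ℤ_[2] M) = f + 1 := by rw [hf, sub_add_cancel]
  have hA' := end_pow_of_equiv M A 2 hA
  rw [hA1] at hA'
  have e : (f + 1) ^ 2 = f * f + (2 : ℤ_[2]) • f + 1 := by rw [two_smul]; noncomm_ring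
  rw [e] at hA'
  have : f * f + (2 : ℤ_[2]) • f = 0 := by simpa using hA'
  exact eq_neg_of_add_eq_zero_left this

theorem case3 [Fact (Nat.Prime 3)] (M : Type u) [AddCommGroup M] [Module ℤ_[3] M]
    [Module.Free ℤ_[3] M] [Module.Finite ℤ_[3] M]
    (f B : Module.End ℤ_[3] M)
    (r2 : f * f * f + (3 : ℤ_[3]) • (f * f) + (3 : ℤ_[3]) • f = 0)
    (r1 : f * f = (3 : ℤ_[3]) • B)
    (c : ℕ) (hc : c = Module.finrank ℤ_[3] M - Module.finrank ℤ_[3] (LinearMap.ker f)) :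
    (∀ x ∈ Submodule.torsion ℤ_[3] (M ⧸ LinearMap.range f), ((3 : ℕ) : ℤ_[3]) • x = 0) ∧
      ∃ r : ℕ, r * (3 - 1) = c ∧
        Nat.card (Submodule.torsion ℤ_[3] (M ⧸ LinearMap.range f)) = 3 ^ r := by
  have h3 : (3 : ℤ_[3]) ≠ 0 := by norm_num
  have h33 : ((3 : ℕ) : ℤ_[3]) = 3 := Nat.cast_ofNat
  have c1 : f * B = B * f := by
    apply end_smul_cancel h3
    rw [← mul_smul_comm, ← smul_mul_assoc, ← r1, mul_assoc]
  obtain ⟨Q, hQ⟩ : ∃ Q : Module.End ℤ_[3] M, Q = 1 + f + B := ⟨_, rfl⟩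
  have hfQ : f * Q = 0 := by
    apply end_smul_cancel h3
    have : (3 : ℤ_[3]) • (f * Q) = f * f * f + (3 : ℤ_[3]) • (f * f) + (3 : ℤ_[3]) • f := by
      rw [hQ]
      simp only [mul_add, mul_one, smul_add]
      rw [← mul_smul_comm (3 : ℤ_[3]) f B, ← r1, ← mul_assoc]
      abel
    rw [this, r2, smul_zero]
  have hQf : Q * f = 0 := by
    have : Q * f = f * Q := by
      rw [hQ]; simp only [add_mul, mul_add, one_mul, mul_one, c1]
    rw [this, hfQ]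
  have hQB : Q * B = 0 := by
    apply end_smul_cancel h3
    rw [smul_zero, ← mul_smul_comm, ← r1, ← mul_assoc, hQf, zero_mul]
  have hQQ : Q * Q = Q := by
    have : Q * Q = Q * (1 + f + B) := by rw [← hQ]
    rw [this, mul_add, mul_add, mul_one, hQf, hQB, add_zero, add_zero]
  obtain ⟨V, hV0⟩ : ∃ V : Module.End ℤ_[3] M, V = (2 : ℤ_[3]) • (1 - Q) + f := ⟨_, rfl⟩
  have hQV : Q * V = 0 := by
    rw [hV0, mul_add, mul_smul_comm, mul_sub, mul_one, hQQ, sub_self, smul_zero, hQf, add_zero]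
  have t1 : (3 : ℤ_[3]) • (1 - Q) = -((3 : ℤ_[3]) • f) - f * f := by
    rw [hQ, r1, show (1 : Module.End ℤ_[3] M) - (1 + f + B) = -f - B by abel, smul_sub, smul_neg]
  have t2 : f * f * f = -((3 : ℤ_[3]) • (f * f)) - (3 : ℤ_[3]) • f := by
    rw [← sub_eq_zero, ← r2]; abel
  have hff1 : f * f * (1 - Q) = f * f := by
    rw [mul_sub, mul_one, mul_assoc, hfQ, mul_zero, sub_zero]
  have hff2 : (1 - Q) * (f * f) = f * f := by
    rw [sub_mul, one_mul, ← mul_assoc, hQf, zero_mul, sub_zero]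
  have hV : f ^ (1 + 1) * V = ((3 : ℕ) : ℤ_[3]) • (1 - Q) := by
    rw [h33, t1, pow_succ, pow_one, hV0, mul_add, mul_smul_comm, hff1, t2]
    module
  have hV' : V * f ^ (1 + 1) = ((3 : ℕ) : ℤ_[3]) • (1 - Q) := by
    rw [h33, t1, pow_succ, pow_one, hV0, add_mul, smul_mul_assoc, hff2, ← mul_assoc, t2]
    module
  have hW : f ^ (1 + 1) = ((3 : ℕ) : ℤ_[3]) • B := by rw [h33, pow_succ, pow_one, r1]
  have := abstract_main (ℓ := 3) M f Q B V 1 hQQ hfQ hQf hW hQB hV hV' hQV c hc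
  exact this

theorem r2_of [Fact (Nat.Prime 3)] (M : Type u) [AddCommGroup M] [Module ℤ_[3] M]
    (A : M ≃ₗ[ℤ_[3]] M) (hA : A ^ 3 = 1) (f : Module.End ℤ_[3] M)
    (hf : f = (A : M →ₗ[ℤ_[3]] M) - 1) :
    f * f * f + (3 : ℤ_[3]) • (f * f) + (3 : ℤ_[3]) • f = 0 := by
  have hA1 : ((A : M →ₗ[ℤ_[3]] M) : Module.End ℤ_[3] M) = f + 1 := by rw [hf, sub_add_cancel]
  have hA' := end_pow_of_equiv M A 3 hA
  rw [hA1] at hA'
  have t : ∀ X : Module.End ℤ_[3] M, (3 : ℤ_[3]) • X = X + X + X := fun X => by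
    rw [show (3 : ℤ_[3]) = 1 + 1 + 1 by norm_num, add_smul, add_smul, one_smul]
  have e : (f + 1) ^ 3 = f * f * f + (3 : ℤ_[3]) • (f * f) + (3 : ℤ_[3]) • f + 1 := by
    rw [t, t]; noncomm_ring
  rw [e] at hA'
  simpa using hA'



/-- Let ℓ be a prime number, M a free ℤ_ℓ-module of finite rank, A an automorphism of M with A^ℓ = 1,
and c the rank of M minus the rank of the submodule of A-invariants. Assume that ℓ = 2 and A − 1 ∈
2·End(M), or that ℓ = 2 and (A − 1)² ∈ 4·End(M), or that ℓ = 3 and (A − 1)² ∈ 3·End(M). Then the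
torsion submodule of M/(A − 1)M is a vector space over ℤ/ℓℤ of dimension c/(ℓ − 1): it is killed by
ℓ and has ℓ^r elements for some r with r(ℓ − 1) = c. -/
theorem result (ℓ : ℕ) [Fact ℓ.Prime]
    (M : Type u) [AddCommGroup M] [Module ℤ_[ℓ] M] [Module.Free ℤ_[ℓ] M] [Module.Finite ℤ_[ℓ] M]
    (A : M ≃ₗ[ℤ_[ℓ]] M) (hA : A ^ ℓ = 1) (f : Module.End ℤ_[ℓ] M) (hf : f = (A : M →ₗ[ℤ_[ℓ]] M) - 1)
    (hcase : (ℓ = 2 ∧ ∃ B : Module.End ℤ_[ℓ] M, f = (2 : ℤ_[ℓ]) • B) ∨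
      (ℓ = 2 ∧ ∃ B : Module.End ℤ_[ℓ] M, f ^ 2 = (4 : ℤ_[ℓ]) • B) ∨
      (ℓ = 3 ∧ ∃ B : Module.End ℤ_[ℓ] M, f ^ 2 = (3 : ℤ_[ℓ]) • B))
    (c : ℕ) (hc : c = Module.finrank ℤ_[ℓ] M - Module.finrank ℤ_[ℓ] (LinearMap.ker f)) :
    (∀ x ∈ Submodule.torsion ℤ_[ℓ] (M ⧸ LinearMap.range f), (ℓ : ℤ_[ℓ]) • x = 0) ∧
      ∃ r : ℕ, r * (ℓ - 1) = c ∧
        Nat.card (Submodule.torsion ℤ_[ℓ] (M ⧸ LinearMap.range f)) = ℓ ^ r := by
  rcases hcase with ⟨rfl, B, hB⟩ | ⟨rfl, B, hB⟩ | ⟨rfl, B, hB⟩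
  · exact case1 M f B (hff_of M A hA f hf) hB c hc
  · have hff := hff_of M A hA f hf
    have h2 : (2 : ℤ_[2]) ≠ 0 := two_ne_zero
    have h4 : (4 : ℤ_[2]) = 2 * 2 := by norm_num
    have e1 : (2 : ℤ_[2]) • f = (2 : ℤ_[2]) • ((2 : ℤ_[2]) • (-B)) := by
      have : -((2 : ℤ_[2]) • f) = (2 * 2 : ℤ_[2]) • B := by rw [← hff, ← pow_two, hB, h4]
      rw [smul_smul, smul_neg, ← this, neg_neg]
    have hB' : f = (2 : ℤ_[2]) • (-B) := end_smul_cancel h2 e1
    exact case1 M f (-B) hff hB' c hc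
  · have r2 := r2_of M A hA f hf
    have r1 : f * f = (3 : ℤ_[3]) • B := by rw [← pow_two, hB]
    exact case3 M f B r2 r1 c hc


end Groth.Agent.S18599
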