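import Groth.Statements.S18600
import Mathlib

set_option autoImplicit false
universe v
open SSRed

namespace Groth.Agent.S18600

open Polynomial

section SM
variable {R : Type*} [CommRing R] {m : Type*} [DecidableEq m] [Fintype m]

theorem map_charpoly_eq (φ : R[X] →+* R[X]) (hφ : ∀ r, φ (C r) = C r) (N : Matrix m m R) :
    φ N.charpoly = (Matrix.scalar m (φ X) - (C : R →+* R[X]).mapMatrix N).det := by
  rw [Matrix.charpoly, RingHom.map_det]
  congr 1
  ext i j
  by_cases h : i = j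
  · subst h
    simp [hφ]
  · simp [hφ, h]

theorem charpoly_sq_expand (A : Matrix m m R) :
    expand R 2 ((A - 1) ^ 2).charpoly =
      (-1) ^ Fintype.card m * A.charpoly.comp (X + 1) * A.charpoly.comp (1 - X) := by
  have h1 := map_charpoly_eq ((expand R 2 : R[X] →ₐ[R] R[X]) : R[X] →+* R[X])
    (fun r => by simp) ((A - 1) ^ 2)
  have h2 := map_charpoly_eq (compRingHom (X + 1 : R[X])) (fun r => by simp) A
  have h3 := map_charpoly_eq (compRingHom (1 - X : R[X])) (fun r => by simp) A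
  have e1 : ((expand R 2 : R[X] →ₐ[R] R[X]) : R[X] →+* R[X]) ((A - 1) ^ 2).charpoly =
      expand R 2 ((A - 1) ^ 2).charpoly := rfl
  have e1' : ((expand R 2 : R[X] →ₐ[R] R[X]) : R[X] →+* R[X]) X = X ^ 2 := by simp
  have e2 : (compRingHom (X + 1 : R[X])) A.charpoly = A.charpoly.comp (X + 1) := rfl
  have e2' : (compRingHom (X + 1 : R[X])) X = X + 1 := by simp
  have e3 : (compRingHom (1 - X : R[X])) A.charpoly = A.charpoly.comp (1 - X) := rfl
  have e3' : (compRingHom (1 - X : R[X])) X = 1 - X := by simp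
  rw [e1, e1'] at h1
  rw [e2, e2'] at h2
  rw [e3, e3'] at h3
  obtain ⟨P, hP⟩ : ∃ P : Matrix m m R[X], P = (C : R →+* R[X]).mapMatrix A := ⟨_, rfl⟩
  obtain ⟨t, ht⟩ : ∃ t : Matrix m m R[X], t = Matrix.scalar m (X : R[X]) := ⟨_, rfl⟩
  have hc : Commute t (P - 1) := by
    rw [ht]; exact Matrix.scalar_commute _ (fun r => Commute.all _ _) _
  have key : Matrix.scalar m ((X : R[X]) ^ 2) - (C : R →+* R[X]).mapMatrix ((A - 1) ^ 2) =
      (Matrix.scalar m (X + 1 : R[X]) - P) * (-(Matrix.scalar m (1 - X : R[X]) - P)) := by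
    rw [map_pow, map_pow, map_sub, map_one, map_add, map_sub, map_one, ← hP, ← ht]
    have a1 : t + 1 - P = t - (P - 1) := by abel
    have a2 : -(1 - t - P) = t + (P - 1) := by abel
    rw [a1, a2, pow_two, pow_two]
    exact hc.mul_self_sub_mul_self_eq'
  rw [h1, key, Matrix.det_mul, Matrix.det_neg, hP, ← h2, ← h3]
  ring

end SM

theorem charpoly_smul_coeff {R : Type*} [CommRing R] [IsDomain R] {m : Type*} [DecidableEq m]
    [Fintype m] (c : R) (hc : c ≠ 0) (B : Matrix m m R) (i : ℕ) (hi : i ≤ Fintype.card m) :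
    (c • B).charpoly.coeff i = c ^ (Fintype.card m - i) * B.charpoly.coeff i := by
  have h1 := map_charpoly_eq (compRingHom (C c * X : R[X])) (fun r => by simp) (c • B)
  have h2 : (Matrix.scalar m ((compRingHom (C c * X : R[X])) X) -
      (C : R →+* R[X]).mapMatrix (c • B)) = (C c) • B.charmatrix := by
    ext a b
    by_cases h : a = b
    · subst h
      simp [mul_sub]
    · simp [h]
  rw [h2, Matrix.det_smul] at h1
  have e : (compRingHom (C c * X : R[X])) (c • B).charpoly = (c • B).charpoly.comp (C c * X) := rfl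
  rw [e] at h1
  have h3 := congrArg (fun p => p.coeff i) h1
  have e4 : (B.charmatrix).det = B.charpoly := rfl
  simp only [comp_C_mul_X_coeff, ← C_pow, coeff_C_mul, e4] at h3
  apply mul_right_cancel₀ (pow_ne_zero i hc)
  rw [h3, mul_right_comm, pow_sub_mul_pow c hi]

theorem dvd_of_padic (n : ℕ) (k : ℕ) (a : ℤ)
    (h : ∀ (ℓ : ℕ) [Fact ℓ.Prime], ℓ ∣ n → ((n : ℤ_[ℓ]) ^ k ∣ (a : ℤ_[ℓ]))) : (n : ℤ) ^ k ∣ a := by
  have h1 : n ^ k ∣ a.natAbs := by
    rw [Nat.dvd_iff_prime_pow_dvd_dvd]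
    intro p j hp hpj
    rcases Nat.eq_zero_or_pos j with rfl | hj
    · simp
    · have hpn : p ∣ n := hp.dvd_of_dvd_pow (dvd_trans (dvd_pow_self p hj.ne') hpj)
      have : Fact p.Prime := ⟨hp⟩
      have h2 := h p hpn
      have h3 : ((p : ℤ_[p]) ^ j) ∣ ((n : ℤ_[p]) ^ k) := by
        obtain ⟨d, hd⟩ := hpj
        refine ⟨(d : ℤ_[p]), ?_⟩
        have := congrArg (fun x : ℕ => (x : ℤ_[p])) hd
        simpa using this
      have h4 := (PadicInt.pow_p_dvd_int_iff j a).1 (dvd_trans h3 h2)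
      rw [← Int.natCast_dvd]
      push_cast; exact h4
  have h5 : ((n ^ k : ℕ) : ℤ) ∣ a := Int.natCast_dvd.2 h1
  push_cast at h5; exact h5

theorem main (n : ℕ) (hn : 0 < n) (g : ℕ) (f : Polynomial ℤ)
    (hf : f.Monic)
    (hA : ∀ (ℓ : ℕ) [Fact ℓ.Prime], ℓ ∣ n → ∃ A : Matrix (Fin g) (Fin g) ℤ_[ℓ],
      A.charpoly = f.map (Int.castRingHom ℤ_[ℓ]) ∧
        ∃ B : Matrix (Fin g) (Fin g) ℤ_[ℓ], (A - 1) ^ 2 = (n : ℤ_[ℓ]) • B)
    (K : Type v) [Field K] [CharZero K] (α s : K) (hα : Polynomial.aeval α f = 0)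
    (hs : s ^ 2 = (n : K)) :
    IsIntegral ℤ ((α - 1) / s) := by
  apply IsIntegral.of_pow (n := 2) two_pos
  have hnK : (n : K) ≠ 0 := Nat.cast_ne_zero.2 hn.ne'
  have hβ : ((α - 1) / s) ^ 2 = (α - 1) ^ 2 / (n : K) := by rw [div_pow, hs]
  rw [hβ]
  have hαint : IsIntegral ℤ α := ⟨f, hf, by rw [← aeval_def]; exact hα⟩
  have hθint : IsIntegral ℤ ((α - 1) ^ 2) := (hαint.sub isIntegral_one).pow 2
  rcases Nat.eq_or_lt_of_le (Nat.succ_le_of_lt hn) with h1 | h1
  · have : (n : K) = 1 := by rw [← h1]; simp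
    rw [this, div_one]; exact hθint
  · obtain ⟨ℓ₀, hℓ₀, hℓ₀n⟩ := Nat.exists_prime_and_dvd (ne_of_gt h1)
    obtain ⟨F, hF⟩ : ∃ F : ℤ[X], F = (-1) ^ g * f.comp (X + 1) * f.comp (1 - X) := ⟨_, rfl⟩
    obtain ⟨G₀, hG₀def⟩ : ∃ G₀ : ℤ[X], G₀ = contract 2 F := ⟨_, rfl⟩
    have key : ∀ (ℓ : ℕ) [Fact ℓ.Prime], ℓ ∣ n → ∃ B : Matrix (Fin g) (Fin g) ℤ_[ℓ],
        G₀.map (Int.castRingHom ℤ_[ℓ]) = ((n : ℤ_[ℓ]) • B).charpoly ∧
        F.map (Int.castRingHom ℤ_[ℓ]) = expand ℤ_[ℓ] 2 (((n : ℤ_[ℓ]) • B).charpoly) := by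
      intro ℓ _ hℓ
      obtain ⟨A, hAc, B, hB⟩ := hA ℓ hℓ
      have e1 : F.map (Int.castRingHom ℤ_[ℓ]) = expand ℤ_[ℓ] 2 (((n : ℤ_[ℓ]) • B).charpoly) := by
        rw [← hB, charpoly_sq_expand, hAc, Fintype.card_fin, hF]
        simp [Polynomial.map_comp]
      refine ⟨B, ?_, e1⟩
      rw [hG₀def, map_contract (by norm_num), e1, contract_expand 2 (by norm_num)]
    have : Fact ℓ₀.Prime := ⟨hℓ₀⟩
    obtain ⟨B₀, hG₀, hF₀⟩ := key ℓ₀ hℓ₀n
    have hinj : Function.Injective (Int.castRingHom ℤ_[ℓ₀]) := (Int.castRingHom ℤ_[ℓ₀]).injective_int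
    have hG₀monic : G₀.Monic := by
      apply Polynomial.monic_of_injective hinj
      rw [hG₀]; exact Matrix.charpoly_monic _
    have hG₀deg : G₀.natDegree = g := by
      rw [← natDegree_map_eq_of_injective hinj, hG₀, Matrix.charpoly_natDegree_eq_dim,
        Fintype.card_fin]
    have hFexp : F = expand ℤ 2 G₀ := by
      apply Polynomial.map_injective _ hinj
      rw [map_expand, hG₀, hF₀]
    have hD : ∀ i ≤ g, (n : ℤ) ^ (g - i) ∣ G₀.coeff i := by
      intro i hi
      apply dvd_of_padic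
      intro ℓ _ hℓ
      obtain ⟨B, hG, -⟩ := key ℓ hℓ
      have : ((G₀.coeff i : ℤ) : ℤ_[ℓ]) = (G₀.map (Int.castRingHom ℤ_[ℓ])).coeff i := by
        rw [coeff_map]; rfl
      rw [this, hG, charpoly_smul_coeff _ (Nat.cast_ne_zero.2 hn.ne') B i
        (by rw [Fintype.card_fin]; exact hi), Fintype.card_fin]
      exact dvd_mul_right _ _
    have hroot : aeval ((α - 1) ^ 2) G₀ = 0 := by
      rw [← expand_aeval, ← hFexp, hF]
      have : aeval (α - 1) (f.comp (X + 1)) = 0 := by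
        rw [aeval_comp]; simp [hα]
      rw [map_mul, map_mul, this, mul_zero, zero_mul]
    obtain ⟨h, hh⟩ : ∃ h : ℕ → ℤ, ∀ i ≤ g, G₀.coeff i = h i * (n : ℤ) ^ (g - i) :=
      ⟨fun i => G₀.coeff i / (n : ℤ) ^ (g - i), fun i hi => (Int.ediv_mul_cancel (hD i hi)).symm⟩
    obtain ⟨H, hHdef⟩ : ∃ H : ℤ[X], H = ∑ i ∈ Finset.range (g + 1), monomial i (h i) := ⟨_, rfl⟩
    have hHcoeff : ∀ j, H.coeff j = if j ≤ g then h j else 0 := by
      intro j
      rw [hHdef, finsetSum_coeff]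
      simp only [coeff_monomial]
      rw [Finset.sum_ite_eq' (Finset.range (g + 1)) j]
      simp [Finset.mem_range]
    have hhg : h g = 1 := by
      have := hh g le_rfl
      rw [Nat.sub_self, pow_zero, mul_one] at this
      rw [← this, ← hG₀deg]; exact hG₀monic.coeff_natDegree
    have hHdeg : H.natDegree = g := by
      apply le_antisymm
      · rw [hHdef]
        apply natDegree_sum_le_of_forall_le
        intro i hi
        exact (natDegree_monomial_le _).trans (Nat.lt_succ_iff.1 (Finset.mem_range.1 hi))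
      · apply le_natDegree_of_ne_zero
        rw [hHcoeff, if_pos le_rfl, hhg]; exact one_ne_zero
    have hscale : scaleRoots H (n : ℤ) = G₀ := by
      ext j
      rw [coeff_scaleRoots, hHdeg, hHcoeff]
      split_ifs with hj
      · exact (hh j hj).symm
      · rw [zero_mul]; symm
        apply coeff_eq_zero_of_natDegree_lt
        rw [hG₀deg]; omega
    have hHmonic : H.Monic := by
      rw [← monic_scaleRoots_iff (n : ℤ), hscale]; exact hG₀monic
    refine ⟨H, hHmonic, ?_⟩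
    have hsc := scaleRoots_eval₂_mul (p := H) (algebraMap ℤ K) ((α - 1) ^ 2 / (n : K)) (n : ℤ)
    rw [hscale, hHdeg] at hsc
    have e2 : algebraMap ℤ K (n : ℤ) * ((α - 1) ^ 2 / (n : K)) = (α - 1) ^ 2 := by
      have : algebraMap ℤ K (n : ℤ) = (n : K) := by simp
      rw [this, mul_div_cancel₀ _ hnK]
    rw [e2, ← aeval_def, hroot] at hsc
    have hne : (algebraMap ℤ K (n : ℤ)) ^ g ≠ 0 := pow_ne_zero _ (by simpa using hnK)
    exact (mul_eq_zero.1 hsc.symm).resolve_left hne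



/-- Let n be a positive integer, g a natural number and f ∈ ℤ[x] a monic polynomial such that for every
prime ℓ dividing n there is a g × g matrix A_ℓ over ℤ_ℓ whose characteristic polynomial is f and
such that (A_ℓ − 1)² lies in n·M_g(ℤ_ℓ). Then for every root α of f in a field of characteristic
zero and every square root s of n in that field, (α − 1)/s is integral over ℤ. (The published
statement is for matrices of size 2d and speaks of the eigenvalues of the A_ℓ, which are the roots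
of their common characteristic polynomial f; the parity of the size plays no role.) -/
theorem result (n : ℕ) (hn : 0 < n) (g : ℕ) (f : Polynomial ℤ)
    (hf : f.Monic)
    (hA : ∀ (ℓ : ℕ) [Fact ℓ.Prime], ℓ ∣ n → ∃ A : Matrix (Fin g) (Fin g) ℤ_[ℓ],
      A.charpoly = f.map (Int.castRingHom ℤ_[ℓ]) ∧
        ∃ B : Matrix (Fin g) (Fin g) ℤ_[ℓ], (A - 1) ^ 2 = (n : ℤ_[ℓ]) • B)
    (K : Type v) [Field K] [CharZero K] (α s : K) (hα : Polynomial.aeval α f = 0) (hs : s ^ 2 = (n : K)) :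
    IsIntegral ℤ ((α - 1) / s) := by
  exact main n hn g f hf hA K α s hα hs


end Groth.Agent.S18600
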