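import Groth.Statements.S18615
import Groth.Agent.Lib.Helper7.LinTopDual

set_option autoImplicit false
universe u v
open LinTop

namespace Groth.Agent.S18615

/-- Let k be a field carrying the discrete topology and M a separated topological k-module with a
k-linear topology (open k-submodules form a basis of neighbourhoods of zero, M a topological
additive group). For closed submodules M₁ ⊆ M₂ there is a short exact sequence 0 → M₂^⊥ → M₁^⊥ →
(M₂/M₁)^* → 0 of plain k-modules, where ⊥ denotes the annihilator in the continuous dual of M and *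
the continuous dual. Stated here as its one non-formal part, surjectivity on the right: every
continuous functional on M₂ (subspace topology) that vanishes on M₁ is the restriction of a
continuous functional on M vanishing on M₁ (continuous functionals on M₂/M₁ being the continuous
functionals on M₂ that kill M₁). -/
theorem result (k : Type u) (M : Type v) [Field k]
    [TopologicalSpace k] [DiscreteTopology k] [AddCommGroup M] [Module k M] [TopologicalSpace M]
    [IsTopologicalAddGroup M] [IsLinearTopology k M] [T2Space M]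
    (M₁ M₂ : Submodule k M) (h₁₂ : M₁ ≤ M₂) (hM₁ : IsClosed (M₁ : Set M))
    (hM₂ : IsClosed (M₂ : Set M)) (ψ : M₂ →L[k] k)
    (hψ : ∀ m : M₂, (m : M) ∈ M₁ → ψ m = 0) :
    ∃ φ : M →L[k] k, (∀ m ∈ M₁, φ m = 0) ∧ ∀ m : M₂, φ (m : M) = ψ m := by
  by_cases hψ0 : ∀ m : M₂, ψ m = 0
  · exact ⟨0, fun _ _ => rfl, fun m => (hψ0 m).symm⟩
  push Not at hψ0
  obtain ⟨m₁, hm₁⟩ := hψ0
  -- normalise: `ψ m₀ = 1`
  let m₀ : M₂ := (ψ m₁)⁻¹ • m₁
  have hm₀ : ψ m₀ = 1 := by simp [m₀, inv_mul_cancel₀ hm₁]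
  -- the kernel of `ψ` is open in `M₂`
  have hker : IsOpen {m : M₂ | ψ m = 0} := (isOpen_discrete ({0} : Set k)).preimage ψ.continuous
  obtain ⟨O, hO, hOker⟩ := isOpen_induced_iff.mp hker
  have hO0 : O ∈ nhds (0 : M) := by
    apply hO.mem_nhds
    have : (0 : M₂) ∈ Subtype.val ⁻¹' O := by rw [hOker]; simp
    exact this
  obtain ⟨U, hU, hUO⟩ := (IsLinearTopology.hasBasis_submodule k).mem_iff.mp hO0
  have hUker : ∀ m : M₂, (m : M) ∈ U → ψ m = 0 := by
    intro m hm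
    have : m ∈ Subtype.val ⁻¹' O := hUO hm
    rw [hOker] at this
    exact this
  -- the kernel of `ψ` as a submodule of `M`
  let K : Submodule k M := (LinearMap.ker (ψ : M₂ →ₗ[k] k)).map M₂.subtype
  have hK : ∀ y : M, y ∈ K ↔ ∃ h : y ∈ M₂, ψ ⟨y, h⟩ = 0 := by
    intro y
    constructor
    · rintro ⟨m, hm, rfl⟩
      exact ⟨m.2, hm⟩
    · rintro ⟨h, hy⟩
      exact ⟨⟨y, h⟩, hy, rfl⟩
  have hm₀N : (m₀ : M) ∉ K ⊔ U := by
    intro hmem
    obtain ⟨κ, hκ, u, hu, hκu⟩ := Submodule.mem_sup.mp hmem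
    obtain ⟨hκ2, hκ0⟩ := (hK κ).mp hκ
    have hu2 : u ∈ M₂ := by
      have : u = (m₀ : M) - κ := by rw [← hκu]; abel
      rw [this]; exact M₂.sub_mem m₀.2 hκ2
    have hu0 : ψ ⟨u, hu2⟩ = 0 := hUker ⟨u, hu2⟩ hu
    have : m₀ = ⟨κ, hκ2⟩ + ⟨u, hu2⟩ := Subtype.ext hκu.symm
    rw [this, map_add, hκ0, hu0, add_zero] at hm₀
    exact zero_ne_one hm₀
  obtain ⟨φ, hφ1, hφN⟩ :=
    Groth.Agent.Lib.helper7.exists_clm_of_notMem (K ⊔ U) U hU le_sup_right (m₀ : M) hm₀N
  refine ⟨φ, fun m hm => hφN m (Submodule.mem_sup_left ((hK m).mpr ⟨h₁₂ hm, hψ ⟨m, h₁₂ hm⟩ hm⟩)),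
    fun m => ?_⟩
  -- `m - ψ m • m₀ ∈ ker ψ`
  have hmem : ((m - ψ m • m₀ : M₂) : M) ∈ K ⊔ U := by
    apply Submodule.mem_sup_left
    rw [hK]
    refine ⟨(m - ψ m • m₀).2, ?_⟩
    change ψ (m - ψ m • m₀) = 0
    rw [map_sub, map_smul, hm₀, smul_eq_mul, mul_one, sub_self]
  have h0 := hφN _ hmem
  have : ((m - ψ m • m₀ : M₂) : M) = (m : M) - ψ m • (m₀ : M) := by
    simp
  rw [this, map_sub, map_smul, hφ1, smul_eq_mul, mul_one, sub_eq_zero] at h0
  exact h0

end Groth.Agent.S18615
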