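import Groth.Statements.S18616
import Groth.Agent.Lib.Helper22.PoincareSeries
import Groth.Agent.Lib.Helper22.PoincareExt

set_option autoImplicit false
universe u
open DeRham

namespace Groth.Agent.S18616aux

theorem cons_sum {R M N ι : Type*} [CommRing R] [AddCommGroup M] [Module R M] [AddCommGroup N]
    [Module R N] {n : ℕ} (f : M [⋀^Fin (n + 1)]→ₗ[R] N) (s : Finset ι) (c : ι → R) (m : ι → M)
    (w : Fin n → M) :
    f (Fin.cons (∑ i ∈ s, c i • m i) w) = ∑ i ∈ s, c i • f (Fin.cons (m i) w) := by
  classical
  induction s using Finset.induction_on with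
  | empty =>
    simp only [Finset.sum_empty]
    exact f.map_coord_zero (i := 0) (by simp)
  | insert a s ha ih =>
    rw [Finset.sum_insert ha, Finset.sum_insert ha, ← ih]
    have h1 := f.toMultilinearMap.cons_add w (c a • m a) (∑ i ∈ s, c i • m i)
    have h2 := f.toMultilinearMap.cons_smul w (c a) (m a)
    simp only [AlternatingMap.coe_multilinearMap] at h1 h2
    rw [h1, h2]

end Groth.Agent.S18616aux

namespace Groth.Agent.S18616

open exteriorPower in
/-- The formal Poincaré lemma. The published statement is that for a complete separated linearly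
topologized commutative algebra K over a field k of characteristic zero the inclusion of the
separated de Rham complex of K into that of K[[t_1, ..., t_n]] is a quasi-isomorphism; this row is
the case K = k in positive degrees. Concretely: k is a field of characteristic 0, σ is finite, A =
k[[σ]]; the separated differentials are modelled by the free A-module of functions σ → A (the
coordinate dt_i being the i-th basis vector) with the derivation δ whose components are the formal
partial derivatives, so that δ(A) generates it; d is any family of k-linear maps between consecutive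
exterior powers of this module over A satisfying the de Rham rule with d ∘ d = 0. Then for every p ≥
1 the closed p-forms are exact. (Degree zero, that a power series with all partial derivatives zero
is constant, is omitted.) -/
theorem result (k : Type u) [Field k] [CharZero k]
    (σ : Type u) [Finite σ]
    (δ : Derivation k (MvPowerSeries σ k) (σ → MvPowerSeries σ k))
    (hδ : ∀ (f : MvPowerSeries σ k) (i : σ), δ f i = MvPowerSeries.pderiv k i f)
    (hgen : Submodule.span (MvPowerSeries σ k) (Set.range δ) = ⊤)
    (d : ∀ p : ℕ, ↥(⋀[MvPowerSeries σ k]^p (σ → MvPowerSeries σ k)) →ₗ[k]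
      ↥(⋀[MvPowerSeries σ k]^(p + 1) (σ → MvPowerSeries σ k)))
    (hd : DeRham.IsDiff δ d) (p : ℕ) :
    DeRham.cocycles d (p + 1) ≤ DeRham.coboundaries d (p + 1) := by
  cases nonempty_fintype σ
  let _ : LinearOrder σ := LinearOrder.lift' (Fintype.equivFin σ) (Equiv.injective _)
  have hX : ∀ j : σ, δ (MvPowerSeries.X j) = Groth.Agent.Lib.helper22.Poincare.e (MvPowerSeries σ k) j := by
    intro j
    funext i
    rw [hδ, MvPowerSeries.pderiv_X]
    simp [Groth.Agent.Lib.helper22.Poincare.e, Pi.single_apply, eq_comm]
  have hsum : ∀ g : MvPowerSeries σ k, δ g =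
      ∑ i, MvPowerSeries.pderiv k i g • Groth.Agent.Lib.helper22.Poincare.e (MvPowerSeries σ k) i := by
    intro g
    funext j
    rw [hδ, Finset.sum_apply, Finset.sum_eq_single j]
    · simp [Groth.Agent.Lib.helper22.Poincare.e]
    · intro i _ hi
      simp [Groth.Agent.Lib.helper22.Poincare.e, hi.symm]
    · simp
  refine Groth.Agent.Lib.helper22.Poincare.poincare_general (k := k) (A := MvPowerSeries σ k)
    (fun i => (MvPowerSeries.pderiv k i).toLinearMap) MvPowerSeries.X ?_ d ?_ p
    (Groth.Agent.Lib.helper22.Poincare.Phi (p + 1))
    (Groth.Agent.Lib.helper22.Poincare.Phi (p + 1 + 1)) ?_ ?_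
  · intro i j g
    change MvPowerSeries.pderiv k i (g * MvPowerSeries.X j) = MvPowerSeries.pderiv k i g * MvPowerSeries.X j + _
    rw [Derivation.leibniz, MvPowerSeries.pderiv_X, Pi.single_apply]
    by_cases h : i = j
    · subst h; simp [mul_comm, add_comm]
    · rw [if_neg h, if_neg (Ne.symm h)]; simp [mul_comm]
  · intro q g v
    have h := hd.1 q g (fun j => MvPowerSeries.X (v j))
    unfold DeRham.gen at h
    simp_rw [hX] at h
    change d q (g • ιMulti _ q fun j => Groth.Agent.Lib.helper22.Poincare.e (MvPowerSeries σ k) (v j)) = _
    rw [h, hsum]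
    rw [Groth.Agent.S18616aux.cons_sum]
    refine Finset.sum_congr rfl fun i _ => ?_
    rw [Groth.Agent.Lib.helper22.Poincare.W_cons]
    rfl
  · intro i g
    exact Groth.Agent.Lib.helper22.Poincare.pderiv_Phi (p + 1) i g
  · intro g
    exact Groth.Agent.Lib.helper22.Poincare.euler_Phi p g

end Groth.Agent.S18616
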