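import Groth.Statements.S18617
-- import your own Groth.Agent.* helpers here

set_option autoImplicit false
universe u
open LocRes

namespace Groth.Agent.S18617

/-- The published statement is that, for a complete separated linearly topologized commutative algebra K
over a field of characteristic zero, the separated de Rham complex of K tensored with the exterior
algebra on symbols α_1, ..., α_n maps quasi-isomorphically to the separated de Rham complex of the
iterated Laurent series ring K((t_1, ..., t_n)), α_i going to dlog t_i; this row is the case K = k
and n = 1, unpacked: over a field k of characteristic 0, a formal Laurent series f in k((t)) has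
term-by-term derivative zero if and only if it is the constant series on its coefficient of degree
0, and a Laurent series g is the derivative of some Laurent series if and only if its residue (the
coefficient of t⁻¹) vanishes; so H⁰ of the complex k((t)) → k((t)) dt is k and H¹ is the line
spanned by the class of dt/t, on which the residue is 1. -/
theorem result (k : Type u) [Field k] [CharZero k] :
    (∀ f : LaurentSeries k, LocRes.D k f = 0 ↔ f = HahnSeries.C (f.coeff 0)) ∧
      ∀ g : LaurentSeries k, (∃ f : LaurentSeries k, LocRes.D k f = g) ↔ LocRes.res k g = 0 := by
  have hC : ∀ (c : k) (n : ℤ), (HahnSeries.C c : LaurentSeries k).coeff n = if n = 0 then c else 0 := by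
    intro c n
    change (HahnSeries.single 0 c).coeff n = _
    rw [HahnSeries.coeff_single]
    split_ifs <;> rfl
  constructor
  · intro f
    constructor
    · intro hf
      ext n
      rw [hC]
      split_ifs with hn
      · rw [hn]
      · have h1 : (LocRes.D k f).coeff (n - 1) = 0 := by rw [hf]; rfl
        rw [LocRes.D_coeff, sub_add_cancel, zsmul_eq_mul] at h1
        rcases mul_eq_zero.mp h1 with h | h
        · exact absurd (by exact_mod_cast h) hn
        · exact h
    · intro hf
      rw [hf]
      exact LocRes.derivative_C k _
  · intro g
    constructor
    · rintro ⟨f, rfl⟩
      rw [LocRes.res_apply, LocRes.D_coeff]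
      simp
    · intro hres
      rw [LocRes.res_apply] at hres
      let c : ℤ → k := fun n => if n = 0 then 0 else g.coeff (n - 1) / (n : k)
      have hc : ∀ m : ℤ, m < g.order + 1 → c m = 0 := by
        intro m hm
        simp only [c]
        split_ifs with h0
        · rfl
        · rw [HahnSeries.coeff_eq_zero_of_lt_order (by omega), zero_div]
      have hbdd : BddBelow (Function.support c) :=
        ⟨g.order + 1, fun m hm => le_of_not_gt (fun h => hm (hc m h))⟩
      refine ⟨HahnSeries.ofSuppBddBelow c hbdd, ?_⟩
      ext n
      rw [LocRes.D_coeff, HahnSeries.coeff_ofSuppBddBelow, zsmul_eq_mul]
      simp only [c]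
      split_ifs with h0
      · have : n = -1 := by omega
        rw [this, hres, mul_zero]
      · rw [add_sub_cancel_right]
        have : ((n + 1 : ℤ) : k) ≠ 0 := by exact_mod_cast h0
        field_simp

end Groth.Agent.S18617
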