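import Groth.Statements.S18620
import Groth.Agent.Lib.Helper28.BlowPtsC
import Groth.Agent.S0844

set_option autoImplicit false
universe u
open VBPn

namespace Groth.Agent.S18620

open CategoryTheory CategoryTheory.Limits AlgebraicGeometry TopologicalSpace in
/-- Let k be an algebraically closed field of characteristic zero, n ≥ 3, Z = {p_1, …, p_s} distinct
closed points of P^n_k and π : X → P^n_k a blow-up of P^n_k in the ideal of the reduced set Z
(universal property). Write O_X(e₀) = π^*O(1), let e_t be the exceptional divisor over p_t, with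
ideal sheaf the inverse image of the ideal of p_t, and for c ∈ ℤ and integers d_t ≥ 0 put O_X(c e₀ −
Σ d_t e_t) = π^*O(c) ⊗ ⨂_t (ideal of e_t)^{⊗ d_t}. Then H^i(X, O_X(c e₀ − Σ d_t e_t)) = 0 for 2 ≤ i
≤ n − 1. -/
theorem result (k : Type u) [Field k] [IsAlgClosed k] [CharZero k]
    (n : ℕ) (hn : 3 ≤ n) (s : ℕ) (P : Fin s → ↥(CohB1.ProjSpace n k)) (hP : Function.Injective P)
    (hPc : ∀ i, IsClosed ({P i} : Set ↥(CohB1.ProjSpace n k))) (hZ : IsClosed (Set.range P))
    (X : Scheme.{u}) (π : X ⟶ CohB1.ProjSpace n k)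
    (hπ : BlowUp.IsBlowUp π (Scheme.IdealSheafData.vanishingIdeal ⟨Set.range P, hZ⟩))
    (c : ℤ) (d : Fin s → ℕ) (i : ℕ) (hi : 2 ≤ i) (hin : i + 1 ≤ n) :
    Subsingleton (Coh.HH X (CohB1.tensorMod ((Scheme.Modules.pullback π).obj (Twist.twistProjSpace n k c))
        (FGA.multiTwist (fun t : Fin s =>
          ClSub.idealMod ((Scheme.IdealSheafData.vanishingIdeal ⟨{P t}, hPc t⟩).comap π)) d)) i) := by
  have : IsLocallyNoetherian (CohB1.ProjSpace n k) :=
    Groth.Agent.Lib.Lead.SerreFin.isLocallyNoetherian_projSpace n k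
  have hgood : ∀ y, Groth.Agent.Lib.helper28.BlowUpDirect.GoodAt
      (Scheme.IdealSheafData.vanishingIdeal ⟨Set.range P, hZ⟩) y := fun y =>
    (Groth.Agent.Lib.helper28.PnPoints.goodAt2_projSpace n (by omega) ⟨Set.range P, hZ⟩
      (Set.finite_range P) (fun z hz => by obtain ⟨t, rfl⟩ := hz; exact hPc t) y).goodAt
  exact Groth.Agent.Lib.helper28.BlowPts.subsingleton_HH_multi P hP hPc hZ π hπ hgood _
    (Groth.Agent.Lib.helper28.TwistPn.isInvertible n k c) d i hi
    (Groth.Agent.S0844.result k n c i (by omega) (by omega))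

end Groth.Agent.S18620
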