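import Groth.Statements.S18636
import Mathlib
import Groth.Agent.Lib.Helper19.BassFlat3

set_option autoImplicit false
universe u
open GrLC

namespace Groth.Agent.S18636

-- MARK
open TensorProduct IsLocalRing LocCoh DirectSum Polynomial GrLC CategoryTheory
open Groth.Agent.Lib.helper26.Depth Groth.Agent.Lib.Helper24.FlatDepth
open Groth.Agent.Lib.helper19.GrTwist Groth.Agent.Lib.helper19.GrDepth
open Groth.Agent.Lib.helper19.BassFlat Groth.Agent.Lib.helper19.BassFlat3

/-- Laurent polynomials over a field have dimension at most one -/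
theorem ringKrullDim_laurent_le_one (K : Type u) [Field K] :
    ringKrullDim (AddMonoidAlgebra K ℤ) ≤ 1 := by
  rw [ringKrullDim_le_iff_height_le]
  intro J hJ
  have h1 : (J.under (Polynomial K)).height = J.height :=
    IsLocalization.height_under (Submonoid.powers (X : Polynomial K))
      (A := LaurentPolynomial K) J
  have h2 : ((J.under (Polynomial K)).height : WithBot ℕ∞) ≤ ringKrullDim (Polynomial K) :=
    Ideal.height_le_ringKrullDim_of_isPrime
  have h3 : ringKrullDim (Polynomial K) ≤ 1 := by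
    have : Ring.KrullDimLE 1 (Polynomial K) := inferInstance
    exact_mod_cast Ring.krullDimLE_iff.1 this
  rw [← h1]
  exact h2.trans h3

section F2
variable {R : Type u} [CommRing R] [IsNoetherianRing R] (𝒜 : ℤ → AddSubgroup R) [GradedRing 𝒜]
  (p : Ideal R) [p.IsPrime] [hq : (Ideal.homogeneousCore 𝒜 p).toIdeal.IsPrime]

theorem height_quot_core_int_le_one :
    (p.map (Ideal.Quotient.mk (Ideal.homogeneousCore 𝒜 p).toIdeal)).height ≤ 1 := by
  classical
  haveI := twoUniqueSums (ι := ℤ)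
  haveI := isNoetherianRing_addMonoidAlgebra (ι := ℤ) (R := R)
  set q := (Ideal.homogeneousCore 𝒜 p).toIdeal with hqdef
  have hqp : q ≤ p := Ideal.toIdeal_homogeneousCore_le 𝒜 p
  haveI hprime : (p.map (Ideal.Quotient.mk q)).IsPrime :=
    Ideal.map_isPrime_of_surjective Ideal.Quotient.mk_surjective (by rwa [Ideal.mk_ker])
  obtain ⟨d, hd⟩ := ENat.ne_top_iff_exists.1 (Ideal.height_ne_top_of_isPrime (I := p.map (Ideal.Quotient.mk q)))
  haveI := isRegularLocalRing_fibLoc_bigP 𝒜 p
  have h1 := spanFinrank_fibLoc_bigP 𝒜 p d hd.symm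
  have h2 := IsRegularLocalRing.spanFinrank_maximalIdeal
    (R := FibLoc R (AddMonoidAlgebra R ℤ) q (bigP 𝒜 p))
  rw [h1] at h2
  obtain ⟨q', hq', ⟨e⟩⟩ := exists_fibre_prime_equiv R (AddMonoidAlgebra R ℤ) q (bigP 𝒜 p)
  have h3 : ringKrullDim (Localization.AtPrime q') = q'.height :=
    IsLocalization.AtPrime.ringKrullDim_eq_height q' (Localization.AtPrime q')
  have h4 : (q'.height : WithBot ℕ∞) ≤ ringKrullDim (q.Fiber (AddMonoidAlgebra R ℤ)) :=
    Ideal.height_le_ringKrullDim_of_isPrime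
  have h5 : ringKrullDim (q.Fiber (AddMonoidAlgebra R ℤ)) =
      ringKrullDim (AddMonoidAlgebra q.ResidueField ℤ) :=
    ringKrullDim_eq_of_ringEquiv
      (AddMonoidAlgebra.scalarTensorEquiv R q.ResidueField (M := ℤ)).toRingEquiv
  have h6 := ringKrullDim_laurent_le_one q.ResidueField
  rw [← ringKrullDim_eq_of_ringEquiv e, h3] at h2
  have h7 : ((d : ℕ) : WithBot ℕ∞) ≤ 1 := by
    rw [h2]
    exact h4.trans (h5.le.trans h6)
  rw [← hd]
  exact_mod_cast h7

end F2



/-- Let R be a commutative Noetherian ℤ-graded ring, M a graded R-module (not necessarily finitely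
generated) and p a prime ideal of R which is not graded; write p* for the largest graded ideal
contained in p (a graded prime). Then μ_0(p, M) = 0 and μ_{i+1}(p, M) = μ_i(p*, M) for every i ≥ 0.
(Bass numbers μ_i(q, M) are taken as the k(q)-dimension of Ext^i over R_q of k(q) into M_q, as
extended natural numbers; the published text also recalls their description as multiplicities in a
minimal injective resolution, and the two agree over a Noetherian ring.) -/
theorem result (R : Type u) [CommRing R] [IsNoetherianRing R] (𝒜 : ℤ → AddSubgroup R) [GradedRing 𝒜] (M : Type u) [AddCommGroup M] [Module R M] (ℳ : ℤ → AddSubgroup M) [DirectSum.Decomposition ℳ] [SetLike.GradedSMul 𝒜 ℳ] (p : Ideal R) [p.IsPrime] (hp : ¬ Ideal.IsHomogeneous 𝒜 p) [(Ideal.homogeneousCore 𝒜 p).toIdeal.IsPrime] : GrLC.bassNum p M 0 = 0 ∧ ∀ i : ℕ, GrLC.bassNum p M (i + 1) = GrLC.bassNum (Ideal.homogeneousCore 𝒜 p).toIdeal M i := by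
  have hle := height_quot_core_int_le_one 𝒜 p
  have hqp : (Ideal.homogeneousCore 𝒜 p).toIdeal ≤ p := Ideal.toIdeal_homogeneousCore_le 𝒜 p
  have hne : ¬ p ≤ (Ideal.homogeneousCore 𝒜 p).toIdeal := by
    intro h
    apply hp
    have heq : (Ideal.homogeneousCore 𝒜 p).toIdeal = p := le_antisymm hqp h
    rw [← heq]
    exact (Ideal.homogeneousCore 𝒜 p).isHomogeneous
  haveI hprime : (p.map (Ideal.Quotient.mk (Ideal.homogeneousCore 𝒜 p).toIdeal)).IsPrime :=
    Ideal.map_isPrime_of_surjective Ideal.Quotient.mk_surjective (by rwa [Ideal.mk_ker])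
  have hbot : (⊥ : Ideal (R ⧸ (Ideal.homogeneousCore 𝒜 p).toIdeal)) <
      p.map (Ideal.Quotient.mk (Ideal.homogeneousCore 𝒜 p).toIdeal) := by
    rw [bot_lt_iff_ne_bot]
    intro h
    apply hne
    intro x hx
    have h1 : Ideal.Quotient.mk (Ideal.homogeneousCore 𝒜 p).toIdeal x ∈
        p.map (Ideal.Quotient.mk (Ideal.homogeneousCore 𝒜 p).toIdeal) := Ideal.mem_map_of_mem _ hx
    rw [h, Ideal.mem_bot, Ideal.Quotient.eq_zero_iff_mem] at h1
    exact h1
  haveI : (⊥ : Ideal (R ⧸ (Ideal.homogeneousCore 𝒜 p).toIdeal)).IsPrime := Ideal.isPrime_bot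
  have hpos : 0 < (p.map (Ideal.Quotient.mk (Ideal.homogeneousCore 𝒜 p).toIdeal)).height :=
    lt_of_le_of_lt zero_le (Ideal.height_strict_mono_of_isPrime hbot)
  have hd : (p.map (Ideal.Quotient.mk (Ideal.homogeneousCore 𝒜 p).toIdeal)).height =
      ((1 : ℕ) : ℕ∞) := by
    rw [Nat.cast_one]
    exact le_antisymm hle (Order.one_le_iff_pos.2 hpos)
  obtain ⟨h1, h2⟩ := bassNum_eq_bassNum_core_shift 𝒜 ℳ p 1 hd
  refine ⟨h1 0 Nat.zero_lt_one, fun i => ?_⟩
  rw [add_comm]
  exact h2 i

end Groth.Agent.S18636
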