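import Groth.Statements.S18635
import Mathlib
import Groth.Agent.Lib.Helper19.BassInj1
import Groth.Agent.S18636

set_option autoImplicit false
universe u
open GrLC

namespace Groth.Agent.S18635

-- MARK


/-- Let R be a commutative Noetherian ℤ-graded ring and M a *injective graded R-module (an injective
object of the category of graded R-modules). Then M fails to be injective as an ordinary R-module —
equivalently, since a *injective graded module has ordinary injective dimension at most 1, its
ordinary injective dimension is exactly 1 — if and only if there is a prime ideal p of R which is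
not graded and whose graded core p* (the largest graded ideal contained in p, itself a prime) is an
associated prime of M. -/
theorem result (R : Type u) [CommRing R] [IsNoetherianRing R] (𝒜 : ℤ → AddSubgroup R) [GradedRing 𝒜] (M : Type u) [AddCommGroup M] [Module R M] (ℳ : ℤ → AddSubgroup M) [DirectSum.Decomposition ℳ] [SetLike.GradedSMul 𝒜 ℳ] (hM : GrLC.IsStarInj 𝒜 ℳ) : ¬ Module.Injective R M ↔ ∃ p : Ideal R, p.IsPrime ∧ ¬ Ideal.IsHomogeneous 𝒜 p ∧ (Ideal.homogeneousCore 𝒜 p).toIdeal ∈ associatedPrimes R M := by
  constructor
  · intro hni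
    by_contra hcon
    push Not at hcon
    apply hni
    have hall : ∀ (p : Ideal R) [p.IsPrime] (j : ℕ), 0 + 1 ≤ j → bassNum p M j = 0 := by
      intro p _ j hj
      by_cases hj2 : 2 ≤ j
      · exact Groth.Agent.Lib.helper19.BassInj.bassNum_eq_zero_of_isStarInj_int 𝒜 ℳ hM p j hj2
      · obtain rfl : j = 0 + 1 := by omega
        by_cases hp : p.IsHomogeneous 𝒜
        · exact Groth.Agent.Lib.helper19.BassInj.bassNum_succ_eq_zero_of_isHomogeneous 𝒜 ℳ hM p hp 0
        · haveI hq : (Ideal.homogeneousCore 𝒜 p).toIdeal.IsPrime :=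
            Groth.Agent.Lib.helper19.GrTwist.homogeneousCore_isPrime 𝒜 p
          rw [(Groth.Agent.S18636.result R 𝒜 M ℳ p hp).2 0]
          exact (Groth.Agent.Lib.helper19.BassInj.bassNum_zero_eq_zero_iff R
            (Ideal.homogeneousCore 𝒜 p).toIdeal M).2 (hcon p ‹_› hp)
    haveI := Groth.Agent.Lib.helper19.BassInj.hasInjectiveDimensionLT_of_bassNum R M 0 hall
    have hinj : CategoryTheory.Injective (ModuleCat.of R M) := inferInstance
    exact (Module.injective_iff_injective_object R M).2 hinj
  · rintro ⟨p, hp, hph, hass⟩ hinj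
    haveI := hp
    haveI := hinj
    haveI hq : (Ideal.homogeneousCore 𝒜 p).toIdeal.IsPrime :=
      Groth.Agent.Lib.helper19.GrTwist.homogeneousCore_isPrime 𝒜 p
    have h1 := Groth.Agent.Lib.helper19.BassInj.bassNum_eq_zero_of_injective R p M 0
    rw [(Groth.Agent.S18636.result R 𝒜 M ℳ p hph).2 0] at h1
    exact (Groth.Agent.Lib.helper19.BassInj.bassNum_zero_eq_zero_iff R
      (Ideal.homogeneousCore 𝒜 p).toIdeal M).1 h1 hass

end Groth.Agent.S18635
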