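import Groth.Statements.S18639
import Mathlib
import Groth.Agent.Lib.Helper19.CanLoc1
import Groth.Agent.Lib.Helper19.GrHt2
import Groth.Agent.S13231
import Groth.Agent.S7700

set_option autoImplicit false
universe u
open GrLC

namespace Groth.Agent.S18639

-- MARK
open TensorProduct IsLocalRing CategoryTheory

section L
variable (R : Type u) [CommRing R] [IsNoetherianRing R] (p : Ideal R) [p.IsPrime]
  (M : Type u) [AddCommGroup M] [Module R M]

/-- Bass numbers vanish above the injective dimension -/
theorem bassNum_eq_zero_of_hasInjectiveDimensionLE (k : ℕ)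
    [HasInjectiveDimensionLE (ModuleCat.of R M) k] (j : ℕ) (hj : k < j) : bassNum p M j = 0 := by
  have h1 := ModuleCat.localizedModule_hasInjectiveDimensionLE k p.primeCompl (ModuleCat.of R M)
  haveI := ModuleCat.localizedModule_isLocalizedModule (ModuleCat.of R M) p.primeCompl
  let e0 : ((ModuleCat.of R M).localizedModule p.primeCompl) ≃ₗ[R] LocalizedModule p.primeCompl M :=
    IsLocalizedModule.linearEquiv p.primeCompl
      ((ModuleCat.of R M).localizedModuleMkLinearMap p.primeCompl)
      (LocalizedModule.mkLinearMap p.primeCompl M)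
  let e1 : ((ModuleCat.of R M).localizedModule p.primeCompl) ≃ₗ[Localization p.primeCompl]
      (ModuleCat.of (Localization p.primeCompl) (LocalizedModule p.primeCompl M)) :=
    LinearEquiv.extendScalarsOfIsLocalization p.primeCompl (Localization p.primeCompl) e0
  haveI h2 : HasInjectiveDimensionLE
      (ModuleCat.of (Localization p.primeCompl) (LocalizedModule p.primeCompl M)) k :=
    (ModuleCat.hasInjectiveDimensionLE_iff_of_linearEquiv e1 k).1 h1
  show Module.length _ _ = 0
  rw [Module.length_eq_zero_iff]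
  exact HasInjectiveDimensionLT.subsingleton
    (ModuleCat.of (Localization p.primeCompl) (LocalizedModule p.primeCompl M)) (k + 1) j
    (by omega) _

end L



/-- Let R be a graded ring defined over a field which is Cohen–Macaulay, with graded maximal ideal m and
canonical module K_R. Then (i) K_R is a Cohen–Macaulay R-module — stated here at m: the localisation
of K_R at m is a Cohen–Macaulay module over R_m, which is what the published proof computes (the Ext
groups of the residue field into K_R vanish outside degree n = dim R) — and (ii) K_R has finite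
injective dimension as an R-module. Here 'graded ring defined over a field' means R = ⊕_{n ≥ 0} R_n
is Noetherian with R_0 a field (so R is finitely generated over R_0), m = R_+ is its unique graded
maximal ideal and n = dim R; the canonical module K_R (the graded dual of H^n_m(R)) is represented
by a finitely generated graded module C together with a homogeneous isomorphism from Hom_R(C, E)
onto H^n_m(R), where E is a *injective envelope of R/m and H^n_m(R) is computed from a *injective
resolution of R in the graded category; by graded Matlis duality this says exactly that C ≅ K_R as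
graded modules. -/
theorem result (R : Type u) [CommRing R] [LocCoh.IsCohenMacaulayRing R] (𝒜 : ℤ → AddSubgroup R) [GradedRing 𝒜] (hpos : ∀ n : ℤ, n < 0 → 𝒜 n = ⊥) (h0 : IsField (GrLC.deg0 𝒜)) (m : HomogeneousIdeal 𝒜) (hm : GrLC.IsStarLocal 𝒜 m) (hmsp : m.toIdeal = Ideal.span (⋃ n ∈ Set.Ioi (0 : ℤ), (𝒜 n : Set R))) [m.toIdeal.IsMaximal] (n : ℕ) (hn : ringKrullDim R = n) (I : GrLC.StarInjRes 𝒜 𝒜) (E' : Type u) [AddCommGroup E'] [Module R E'] (𝓔 : ℤ → AddSubgroup E') [DirectSum.Decomposition 𝓔] [SetLike.GradedSMul 𝒜 𝓔] (e : (R ⧸ m.toIdeal) →ₗ[R] E') (he : GrLC.IsStarInjHull 𝒜 (GrLC.quotGr 𝒜 m) 𝓔 e) (C : Type u) [AddCommGroup C] [Module R C] (𝒞 : ℤ → AddSubgroup C) [DirectSum.Decomposition 𝒞] [SetLike.GradedSMul 𝒜 𝒞] (hC : GrLC.IsStarCanonical 𝒜 𝒞 𝓔 m n I) : LocCoh.IsCohenMacaulayModule (Localization.AtPrime m.toIdeal) (LocalizedModule m.toIdeal.primeCompl C) ∧ ∃ N : ℕ, CategoryTheory.HasInjectiveDimensionLT (ModuleCat.of R C) N := by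
  classical
  haveI hmp : m.toIdeal.IsPrime := Ideal.IsMaximal.isPrime inferInstance
  have hht : ringKrullDim R = m.toIdeal.height :=
    Groth.Agent.Lib.helper19.GrHt.ringKrullDim_eq_height 𝒜 hpos m hm
  have hmn : m.toIdeal.height = n := by
    rw [hn] at hht
    exact_mod_cast hht.symm
  haveI hCM : LocCoh.IsCohenMacaulayLocalRing (Localization.AtPrime m.toIdeal) :=
    LocCoh.IsCohenMacaulayRing.isCohenMacaulayLocalRing_localization m.toIdeal
  have hnA : ringKrullDim (Localization.AtPrime m.toIdeal) = n := by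
    rw [IsLocalization.AtPrime.ringKrullDim_eq_height m.toIdeal (Localization.AtPrime m.toIdeal),
      hmn]
    rfl
  have hhull := Groth.Agent.Lib.helper19.CanLoc.isInjectiveHull_resMap 𝒜 m 𝓔 e he
  obtain ⟨eK⟩ := Groth.Agent.S13231.result R 𝒜 m hm n hmn I E' 𝓔 e he C 𝒞 hC
    (LocalizedModule m.toIdeal.primeCompl E') (Groth.Agent.Lib.helper19.CanLoc.resMap 𝒜 m e) hhull
  haveI hCfin : Module.Finite R C := hC.1
  obtain ⟨h1, -, h3, -⟩ := Groth.Agent.S7700.result (Localization.AtPrime m.toIdeal) n hnA
    (LocalizedModule m.toIdeal.primeCompl E') (Groth.Agent.Lib.helper19.CanLoc.resMap 𝒜 m e) hhull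
    (LocalizedModule m.toIdeal.primeCompl C) eK
  refine ⟨h3, n + 3, ?_⟩
  apply Groth.Agent.Lib.helper19.BassInj.hasInjectiveDimensionLT_of_bassNum R C (n + 2)
  intro p _ j hj
  haveI hq : (Ideal.homogeneousCore 𝒜 p).toIdeal.IsPrime :=
    Groth.Agent.Lib.helper19.GrTwist.homogeneousCore_isPrime 𝒜 p
  have hqp : (Ideal.homogeneousCore 𝒜 p).toIdeal ≤ p := Ideal.toIdeal_homogeneousCore_le 𝒜 p
  haveI hprime : (p.map (Ideal.Quotient.mk (Ideal.homogeneousCore 𝒜 p).toIdeal)).IsPrime :=
    Ideal.map_isPrime_of_surjective Ideal.Quotient.mk_surjective (by rwa [Ideal.mk_ker])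
  obtain ⟨d, hd⟩ := ENat.ne_top_iff_exists.1 (Ideal.height_ne_top_of_isPrime
    (I := p.map (Ideal.Quotient.mk (Ideal.homogeneousCore 𝒜 p).toIdeal)))
  have hd1 : d ≤ 1 := by
    have := Groth.Agent.Lib.helper19.BassInj.height_quot_core_int_le_one 𝒜 p
    rw [← hd] at this
    exact_mod_cast this
  obtain ⟨-, h2⟩ := Groth.Agent.Lib.helper19.BassFlat3.bassNum_eq_bassNum_core_shift 𝒜 𝒞 p d hd.symm
  obtain ⟨j', rfl⟩ : ∃ j', j = d + j' := ⟨j - d, by omega⟩
  rw [h2]
  -- the core lies in `m`
  have hqm : (Ideal.homogeneousCore 𝒜 p).toIdeal ≤ m.toIdeal :=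
    Groth.Agent.Lib.helper19.GrHt.le_of_isHomogeneous_ne_top 𝒜 hpos m hm _
      (Ideal.homogeneousCore 𝒜 p).isHomogeneous hq.ne_top
  have hdisj : Disjoint (m.toIdeal.primeCompl : Set R)
      ((Ideal.homogeneousCore 𝒜 p).toIdeal : Set R) := by
    rw [Set.disjoint_left]
    intro x hx hxq
    exact hx (hqm hxq)
  haveI hP : ((Ideal.homogeneousCore 𝒜 p).toIdeal.map
      (algebraMap R (Localization.AtPrime m.toIdeal))).IsPrime :=
    IsLocalization.isPrime_of_isPrime_disjoint m.toIdeal.primeCompl _ _ hq hdisj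
  have hcomap : ((Ideal.homogeneousCore 𝒜 p).toIdeal.map
      (algebraMap R (Localization.AtPrime m.toIdeal))).comap
      (algebraMap R (Localization.AtPrime m.toIdeal)) = (Ideal.homogeneousCore 𝒜 p).toIdeal :=
    IsLocalization.under_map_of_isPrime_disjoint m.toIdeal.primeCompl _ hq hdisj
  have h4 := Groth.Agent.Lib.helper19.CanLoc.bassNum_localizedModule R m.toIdeal.primeCompl C
    ((Ideal.homogeneousCore 𝒜 p).toIdeal.map (algebraMap R (Localization.AtPrime m.toIdeal))) j'
  have h5 : bassNum (((Ideal.homogeneousCore 𝒜 p).toIdeal.map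
      (algebraMap R (Localization.AtPrime m.toIdeal))).comap
      (algebraMap R (Localization.AtPrime m.toIdeal))) C j' =
      bassNum (Ideal.homogeneousCore 𝒜 p).toIdeal C j' := by
    congr 1
  rw [← h5, ← h4]
  haveI : HasInjectiveDimensionLE (ModuleCat.of (Localization.AtPrime m.toIdeal)
      (LocalizedModule m.toIdeal.primeCompl C)) n := h1
  exact bassNum_eq_zero_of_hasInjectiveDimensionLE (Localization.AtPrime m.toIdeal) _ _ n j'
    (by omega)

end Groth.Agent.S18639
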