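import Groth.Statements.S1864
import Mathlib
import Groth.Agent.Lib.Helper3.GrpTransl

set_option autoImplicit false
universe u v
open CategoryTheory MonoidalCategory CartesianMonoidalCategory MonObj GrpObj AlgebraicGeometry
open GrpSch

namespace Groth.Agent.S1864

/-- Let G be a group scheme locally of finite type over an algebraically closed field and g₁, …, g_n
finitely many closed points of G. Then some affine open of G contains all the g_i. -/
theorem result (K : Type u) [Field K] [IsAlgClosed K] (G : Over (Spec (CommRingCat.of K))) [GrpObj G] [LocallyOfFiniteType G.hom] (n : ℕ) (g : Fin n → G.left) (hg : ∀ i, IsClosed ({g i} : Set G.left)) : ∃ U : G.left.Opens, IsAffineOpen U ∧ ∀ i, g i ∈ U := by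
  classical
  have hA := fun i => Groth.Agent.Lib.helper3.GrpTransl.exists_affineOpen_in_component G g hg i
  choose U hUaff hUsub hUmem using hA
  let s : Set (Set G.left) := Set.range fun i => connectedComponent (g i)
  have hs : s.Finite := Set.finite_range _
  let UU : Set G.left → G.left.Opens := fun C => if h : C ∈ s then U h.choose else ⊥
  have hUU : ∀ C (hC : C ∈ s), UU C = U hC.choose := fun C hC => dif_pos hC
  have hspec : ∀ C (hC : C ∈ s), connectedComponent (g hC.choose) = C := fun C hC => hC.choose_spec
  have haff : IsAffineOpen (⨆ C ∈ s, UU C) := by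
    apply IsAffineOpen.biSup_of_disjoint hs
    · intro C hC
      rw [hUU C hC]
      exact hUaff _
    · intro C hC C' hC' hne
      show Disjoint (UU C) (UU C')
      rw [← TopologicalSpace.Opens.coe_disjoint, hUU C hC, hUU C' hC']
      have h1 := hUsub hC.choose
      have h2 := hUsub hC'.choose
      rw [hspec C hC] at h1
      rw [hspec C' hC'] at h2
      refine Set.disjoint_of_subset h1 h2 ?_
      rw [← hspec C hC, ← hspec C' hC']
      apply connectedComponent_disjoint
      rw [hspec C hC, hspec C' hC']
      exact hne
  refine ⟨_, haff, fun j => ?_⟩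
  have hC : connectedComponent (g j) ∈ s := ⟨j, rfl⟩
  rw [TopologicalSpace.Opens.mem_iSup]
  refine ⟨connectedComponent (g j), ?_⟩
  rw [TopologicalSpace.Opens.mem_iSup]
  refine ⟨hC, ?_⟩
  rw [hUU _ hC]
  apply hUmem
  rw [hspec _ hC]
  exact mem_connectedComponent

end Groth.Agent.S1864
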