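import Groth.Statements.S18640
import Mathlib
import Groth.Agent.Lib.Helper19.CanLoc1
import Groth.Agent.Lib.Helper19.GrHt2
import Groth.Agent.Lib.Helper19.TypeCM1
import Groth.Agent.Lib.Helper19.BassFlat3
import Groth.Agent.S13231

set_option autoImplicit false
universe u
open scoped TensorProduct
open GrLC

namespace Groth.Agent.S18640

-- MARK
open TensorProduct IsLocalRing CategoryTheory

section B7
variable (R : Type u) [CommRing R] (m : Ideal R) [m.IsMaximal] (C : Type u) [AddCommGroup C]
  [Module R C] [Module.Finite R C]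

/-- `ℓ_{R_m}(k(m) ⊗ C_m) = dim_{R/m} (R/m ⊗ C)` -/
theorem length_residue_tensor :
    Module.length (Localization.AtPrime m)
      (ResidueField (Localization.AtPrime m) ⊗[Localization.AtPrime m]
        LocalizedModule m.primeCompl C) =
      (Module.finrank (R ⧸ m) ((R ⧸ m) ⊗[R] C) : ℕ∞) := by
  have h1 : Module.length (Localization.AtPrime m)
      (ResidueField (Localization.AtPrime m) ⊗[Localization.AtPrime m]
        LocalizedModule m.primeCompl C) =
      Module.length (ResidueField (Localization.AtPrime m))
      (ResidueField (Localization.AtPrime m) ⊗[Localization.AtPrime m]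
        LocalizedModule m.primeCompl C) :=
    Module.length_eq_of_surjective residue_surjective
  rw [h1, Module.length_eq_finrank]
  congr 1
  let e0 : LocalizedModule m.primeCompl C ≃ₗ[Localization.AtPrime m]
      (Localization.AtPrime m) ⊗[R] C :=
    (IsLocalizedModule.isBaseChange m.primeCompl (Localization.AtPrime m)
      (LocalizedModule.mkLinearMap m.primeCompl C)).equiv.symm
  let e1 : ResidueField (Localization.AtPrime m) ⊗[Localization.AtPrime m]
        LocalizedModule m.primeCompl C ≃ₗ[ResidueField (Localization.AtPrime m)]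
      ResidueField (Localization.AtPrime m) ⊗[Localization.AtPrime m]
        ((Localization.AtPrime m) ⊗[R] C) :=
    TensorProduct.AlgebraTensorModule.congr
      (LinearEquiv.refl (ResidueField (Localization.AtPrime m)) _) e0
  let e2 : ResidueField (Localization.AtPrime m) ⊗[Localization.AtPrime m]
        ((Localization.AtPrime m) ⊗[R] C) ≃ₗ[ResidueField (Localization.AtPrime m)]
      ResidueField (Localization.AtPrime m) ⊗[R] C :=
    TensorProduct.AlgebraTensorModule.cancelBaseChange R (Localization.AtPrime m)
      (ResidueField (Localization.AtPrime m)) (ResidueField (Localization.AtPrime m)) C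
  let e3 : m.ResidueField ⊗[R ⧸ m] ((R ⧸ m) ⊗[R] C) ≃ₗ[m.ResidueField]
      m.ResidueField ⊗[R] C :=
    TensorProduct.AlgebraTensorModule.cancelBaseChange R (R ⧸ m)
      m.ResidueField m.ResidueField C
  rw [(e1.trans (e2.trans e3.symm)).finrank_eq]
  letI : Field (R ⧸ m) := Ideal.Quotient.field m
  exact Module.finrank_baseChange

end B7



/-- Let R be a graded ring defined over a field which is Cohen–Macaulay, with graded maximal ideal m, n
= dim R, residue field k = R/m and canonical module K_R. Then (iii) the type of K_R is 1: the Bass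
number μ_n(m, K_R), the k-dimension of Ext^n over R_m of k into (K_R)_m, equals 1; and (iv) the type
of R, namely μ_n(m, R), equals ν(K_R) = dim_k (K_R / m K_R), the minimal number of generators of K_R
(written as the k-dimension of k ⊗_R K_R). Here 'graded ring defined over a field' means R = ⊕_{n ≥
0} R_n is Noetherian with R_0 a field (so R is finitely generated over R_0), m = R_+ is its unique
graded maximal ideal and n = dim R; the canonical module K_R (the graded dual of H^n_m(R)) is
represented by a finitely generated graded module C together with a homogeneous isomorphism from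
Hom_R(C, E) onto H^n_m(R), where E is a *injective envelope of R/m and H^n_m(R) is computed from a
*injective resolution of R in the graded category; by graded Matlis duality this says exactly that C
≅ K_R as graded modules. -/
theorem result (R : Type u) [CommRing R] [LocCoh.IsCohenMacaulayRing R] (𝒜 : ℤ → AddSubgroup R) [GradedRing 𝒜] (hpos : ∀ n : ℤ, n < 0 → 𝒜 n = ⊥) (h0 : IsField (GrLC.deg0 𝒜)) (m : HomogeneousIdeal 𝒜) (hm : GrLC.IsStarLocal 𝒜 m) (hmsp : m.toIdeal = Ideal.span (⋃ n ∈ Set.Ioi (0 : ℤ), (𝒜 n : Set R))) [m.toIdeal.IsMaximal] (n : ℕ) (hn : ringKrullDim R = n) (I : GrLC.StarInjRes 𝒜 𝒜) (E' : Type u) [AddCommGroup E'] [Module R E'] (𝓔 : ℤ → AddSubgroup E') [DirectSum.Decomposition 𝓔] [SetLike.GradedSMul 𝒜 𝓔] (e : (R ⧸ m.toIdeal) →ₗ[R] E') (he : GrLC.IsStarInjHull 𝒜 (GrLC.quotGr 𝒜 m) 𝓔 e) (C : Type u) [AddCommGroup C] [Module R C] (𝒞 : ℤ → AddSubgroup C) [DirectSum.Decomposition 𝒞] [SetLike.GradedSMul 𝒜 𝒞] (hC : GrLC.IsStarCanonical 𝒜 𝒞 𝓔 m n I) : GrLC.bassNum m.toIdeal C n = 1 ∧ GrLC.bassNum m.toIdeal R n = (Module.finrank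 (R ⧸ m.toIdeal) ((R ⧸ m.toIdeal) ⊗[R] C) : ℕ∞) := by
  classical
  haveI hmp : m.toIdeal.IsPrime := Ideal.IsMaximal.isPrime inferInstance
  have hht : ringKrullDim R = m.toIdeal.height :=
    Groth.Agent.Lib.helper19.GrHt.ringKrullDim_eq_height 𝒜 hpos m hm
  have hmn : m.toIdeal.height = n := by
    rw [hn] at hht
    exact_mod_cast hht.symm
  haveI hCM : LocCoh.IsCohenMacaulayLocalRing (Localization.AtPrime m.toIdeal) :=
    LocCoh.IsCohenMacaulayRing.isCohenMacaulayLocalRing_localization m.toIdeal
  have hnA : ringKrullDim (Localization.AtPrime m.toIdeal) = n := by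
    rw [IsLocalization.AtPrime.ringKrullDim_eq_height m.toIdeal (Localization.AtPrime m.toIdeal),
      hmn]
    rfl
  have hhull := Groth.Agent.Lib.helper19.CanLoc.isInjectiveHull_resMap 𝒜 m 𝓔 e he
  obtain ⟨eK⟩ := Groth.Agent.S13231.result R 𝒜 m hm n hmn I E' 𝓔 e he C 𝒞 hC
    (LocalizedModule m.toIdeal.primeCompl E') (Groth.Agent.Lib.helper19.CanLoc.resMap 𝒜 m e) hhull
  haveI hCfin : Module.Finite R C := hC.1
  constructor
  · exact Groth.Agent.Lib.helper19.TypeCM.bassNumLocal_canon_eq_one (Localization.AtPrime m.toIdeal)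
      n hnA (Groth.Agent.Lib.helper19.CanLoc.resMap 𝒜 m e) hhull
      (LocalizedModule m.toIdeal.primeCompl C) eK
  · have h1 := Groth.Agent.Lib.helper19.TypeCM.bassNumLocal_self_eq (Localization.AtPrime m.toIdeal)
      n hnA (Groth.Agent.Lib.helper19.CanLoc.resMap 𝒜 m e) hhull
      (LocalizedModule m.toIdeal.primeCompl C) eK
    rw [← length_residue_tensor R m.toIdeal C, ← h1]
    let e0 : LocalizedModule m.toIdeal.primeCompl R ≃ₗ[R] Localization.AtPrime m.toIdeal :=
      IsLocalizedModule.linearEquiv m.toIdeal.primeCompl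
        (LocalizedModule.mkLinearMap m.toIdeal.primeCompl R)
        (Algebra.linearMap R (Localization.AtPrime m.toIdeal))
    let e1 : LocalizedModule m.toIdeal.primeCompl R ≃ₗ[Localization.AtPrime m.toIdeal]
        Localization.AtPrime m.toIdeal :=
      LinearEquiv.extendScalarsOfIsLocalization m.toIdeal.primeCompl
        (Localization.AtPrime m.toIdeal) e0
    exact Groth.Agent.Lib.helper19.BassFlat3.bassNumLocal_congr e1 n

end Groth.Agent.S18640
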