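import Groth.Statements.S18643
import Groth.Agent.Lib.Helper26.GorS13
import Groth.Agent.S0341
import Groth.Agent.S18641

set_option autoImplicit false
universe u
open GrLC

namespace Groth.Agent.S18643

/-- Let R be a graded ring defined over a field k = R_0 which is Gorenstein and generated over k by R_1,
with dim R ≥ 1 and dim_k R_1 ≥ 2, and let q ≥ 1. Then the Veronese subring R^(q) is a Gorenstein
ring if and only if q divides the a-invariant a(R). Here 'graded ring defined over a field' means R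
= ⊕_{n ≥ 0} R_n is Noetherian with R_0 a field, and m = R_+ is its unique graded maximal ideal. The
a-invariant a(R) is the largest degree in which the graded local cohomology H^n_m(R) (n = dim R, m =
R_+), computed from a *injective resolution of R in the graded category, is nonzero. The Veronese
subring R^(q) = ⊕_j R_{jq}, regraded by (R^(q))_j = R_{jq}, is presented abstractly as a ℤ-graded
ring R' with an injective ring homomorphism φ : R' → R carrying R'_j onto R_{jq} for every j. -/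
theorem result (R : Type u) [CommRing R] [LocCoh.IsGorensteinRing R] (𝒜 : ℤ → AddSubgroup R) [GradedRing 𝒜] (hpos : ∀ n : ℤ, n < 0 → 𝒜 n = ⊥) (h0 : IsField (GrLC.deg0 𝒜)) (m : HomogeneousIdeal 𝒜) (hm : GrLC.IsStarLocal 𝒜 m) (hmsp : m.toIdeal = Ideal.span (⋃ n ∈ Set.Ioi (0 : ℤ), (𝒜 n : Set R))) (hstd : Ideal.span (⋃ n ∈ Set.Ioi (0 : ℤ), (𝒜 n : Set R)) = Ideal.span ((𝒜 1 : AddSubgroup R) : Set R)) (hR1 : 2 ≤ Module.finrank (GrLC.deg0 𝒜) (GrLC.comp 𝒜 𝒜 1)) (n : ℕ) (hn : ringKrullDim R = n) (h1 : 1 ≤ n) (I : GrLC.StarInjRes 𝒜 𝒜) (a : ℤ) (ha : GrLC.endDeg (I.Hgr m n) = ((a : WithTop ℤ) : WithBot (WithTop ℤ))) (q : ℕ) (hq : 0 < q) (R' : Type u) [CommRing R'] (𝒜' : ℤ → AddSubgroup R') [GradedRing 𝒜'] (φ : R' →+* R) (hφ : Function.Injective φ) (hdeg : ∀ j : ℤ, (𝒜' j).map (φ : R' →+ R) = 𝒜 (j * q)) : LocCoh.IsGorensteinRing R' ↔ (q : ℤ) ∣ a := by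
  classical
  constructor
  · intro hG'
    have hCM : LocCoh.IsCohenMacaulayRing R :=
      { isCohenMacaulayLocalRing_localization := fun p _ => by
          have := LocCoh.IsGorensteinRing.isGorensteinLocalRing_localization (A := R) p
          exact Groth.Agent.S0341.result (Localization.AtPrime p) }
    have hCM' : LocCoh.IsCohenMacaulayRing R' :=
      { isCohenMacaulayLocalRing_localization := fun p _ => by
          have := LocCoh.IsGorensteinRing.isGorensteinLocalRing_localization (A := R') p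
          exact Groth.Agent.S0341.result (Localization.AtPrime p) }
    let D : Groth.Agent.Lib.helper26.Ver.VerData 𝒜 𝒜' := ⟨q, hq, φ, hdeg⟩
    have hφ' : Function.Injective D.φ := hφ
    have hS := (Groth.Agent.Lib.helper26.GorS.gor_iff_simpleSoc 𝒜 hpos h0 m hmsp n hn I).mp
      inferInstance
    obtain ⟨I'⟩ := Groth.Agent.S13215.result R' 𝒜' R' 𝒜'
    have hpos' := Groth.Agent.Lib.helper26.Can.ver_pos' D hφ' hpos
    have h0' := Groth.Agent.Lib.helper26.Can.ver_isField_deg0' D hφ' h0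
    have hS' := (Groth.Agent.Lib.helper26.GorS.gor_iff_simpleSoc 𝒜' hpos' h0'
      (Groth.Agent.Lib.helper26.GorS.irrHom 𝒜') (Groth.Agent.Lib.helper26.GorS.irrHom_toIdeal 𝒜') n
      (by rw [Groth.Agent.Lib.helper26.GorS.ver_ringKrullDim D hφ', hn]) I').mp hG'
    obtain ⟨d, hd, x, hx, hall⟩ :=
      Groth.Agent.Lib.helper26.GorS.exists_regular_sop 𝒜 hpos h0 m hmsp n hn
    obtain ⟨hreg, -⟩ := hall 1 one_pos
    obtain ⟨n', rfl⟩ := Nat.exists_eq_succ_of_ne_zero (by omega : n ≠ 0)
    rw [List.ofFn_succ, RingTheory.Sequence.isWeaklyRegular_cons_iff, pow_one] at hreg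
    have hbig := Groth.Agent.Lib.helper26.GorS.two_le_finrank_std 𝒜 hpos h0 hstd (x 0) d hd
      (hx 0) hreg.1 hR1
    exact Groth.Agent.Lib.helper26.GorS.ver_dvd_of_simpleSoc D hpos h0 m hmsp
      (Groth.Agent.Lib.helper26.GorS.irrHom 𝒜') (Groth.Agent.Lib.helper26.GorS.irrHom_toIdeal 𝒜')
      hφ' (n' + 1) hn I I' hS hS' a ha hbig
  · intro hdvd
    exact Groth.Agent.S18641.result R 𝒜 hpos h0 m hm hmsp n hn I a ha q hq R' 𝒜' φ hφ hdeg hdvd

end Groth.Agent.S18643
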