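import Groth.Statements.S18644
import Mathlib
import Groth.Agent.Lib.Helper19.PolyChar1
import Groth.Agent.Lib.Helper19.PolyChar2
import Groth.Agent.Lib.Helper19.PolyChar3
import Groth.Agent.Lib.Helper19.PolyChar4
import Groth.Agent.Lib.Helper19.PolyChar5
import Groth.Agent.Lib.Helper19.PolyChar6
import Groth.Agent.S17772

set_option autoImplicit false
universe u
open GrLC

namespace Groth.Agent.S18644

-- MARK
theorem length_zero {R : Type u} [CommRing R] (𝒜 : ℤ → AddSubgroup R) [GradedRing 𝒜]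
    (h0 : IsField (deg0 𝒜)) : Module.length (deg0 𝒜) (comp 𝒜 𝒜 0) = 1 := by
  letI : Field (deg0 𝒜) := h0.toField
  let e : (comp 𝒜 𝒜 0) ≃ₗ[deg0 𝒜] (deg0 𝒜) :=
    { toFun := fun a => ⟨a.1, a.2⟩
      invFun := fun a => ⟨a.1, a.2⟩
      map_add' := fun a b => rfl
      map_smul' := fun c a => rfl
      left_inv := fun a => rfl
      right_inv := fun a => rfl }
  rw [e.length_eq, Module.length_eq_finrank (deg0 𝒜) (deg0 𝒜), Module.finrank_self]
  rfl

theorem length_neg {R : Type u} [CommRing R] (𝒜 : ℤ → AddSubgroup R) [GradedRing 𝒜]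
    (hpos : ∀ n : ℤ, n < 0 → 𝒜 n = ⊥) (n : ℤ) (hn : n < 0) :
    Module.length (deg0 𝒜) (comp 𝒜 𝒜 n) = 0 := by
  rw [Module.length_eq_zero_iff]
  constructor
  intro a b
  have h : ∀ c : comp 𝒜 𝒜 n, c = 0 := by
    intro c
    have h1 : (c : R) ∈ 𝒜 n := c.2
    rw [hpos n hn, AddSubgroup.mem_bot] at h1
    exact Subtype.ext h1
  rw [h a, h b]



/-- Let R be a graded ring defined over a field k = R_0 which is Cohen–Macaulay and generated over k by
R_1, of dimension r. Then a(R) = −r holds exactly when R is isomorphic to the polynomial ring over k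
in r variables. Here 'graded ring defined over a field' means R = ⊕_{n ≥ 0} R_n is Noetherian with
R_0 a field, and m = R_+ is its unique graded maximal ideal. The a-invariant a(R) is the largest
degree in which the graded local cohomology H^n_m(R) (n = dim R, m = R_+), computed from a
*injective resolution of R in the graded category, is nonzero. (The inequality a(R) ≥ −r of the same
lemma is stated separately.) -/
theorem result (R : Type u) [CommRing R] [LocCoh.IsCohenMacaulayRing R] (𝒜 : ℤ → AddSubgroup R) [GradedRing 𝒜] (hpos : ∀ n : ℤ, n < 0 → 𝒜 n = ⊥) (h0 : IsField (GrLC.deg0 𝒜)) (m : HomogeneousIdeal 𝒜) (hm : GrLC.IsStarLocal 𝒜 m) (hmsp : m.toIdeal = Ideal.span (⋃ n ∈ Set.Ioi (0 : ℤ), (𝒜 n : Set R))) (hstd : Ideal.span (⋃ n ∈ Set.Ioi (0 : ℤ), (𝒜 n : Set R)) = Ideal.span ((𝒜 1 : AddSubgroup R) : Set R)) (r : ℕ) (hr : ringKrullDim R = r) (I : GrLC.StarInjRes 𝒜 𝒜) : GrLC.endDeg (I.Hgr m r) = (((-(r : ℤ) : ℤ) : WithTop ℤ) : WithBot (WithTop ℤ)) ↔ Nonempty (R ≃+* MvPolynomial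 (Fin r) (GrLC.deg0 𝒜)) := by
  classical
  open Groth.Agent.Lib.helper19.PolyChar Groth.Agent.Lib.helper19.GrFin in
  have hirr : m.toIdeal = irr 𝒜 := hmsp
  have hstd' : irr 𝒜 = Ideal.span ((𝒜 1 : AddSubgroup R) : Set R) := hstd
  obtain ⟨N, x, hx, hspan, hlen⟩ := exists_gens 𝒜 hpos h0 hstd'
  have hsurj := phi_surjective 𝒜 x hpos hx hspan
  have hle : (r : WithBot ℕ∞) ≤ (N : WithBot ℕ∞) := hr ▸ le_of_surjective 𝒜 x h0 hsurj
  have hrN : r ≤ N := by exact_mod_cast hle
  have key : N ≤ r → N = r ∧ Function.Bijective (phi 𝒜 x) := by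
    intro hN
    exact ⟨le_antisymm hN hrN, phi_injective 𝒜 x h0 hsurj r hr hN, hsurj⟩
  constructor
  · intro hend
    haveI : IsArtinianRing (deg0 𝒜) := by
      letI : Field (deg0 𝒜) := h0.toField
      infer_instance
    obtain ⟨P, hP, hPdim⟩ := exists_hilbPoly 𝒜 x hx hpos h0 hsurj
    have hS := Groth.Agent.S17772.result R 𝒜 hpos hstd m hm r hr I P hP
    rw [hend] at hS
    have hagree : ∀ n : ℤ, -(r : ℤ) < n → P.eval (n : ℚ) =
        ((Module.length (GrLC.deg0 𝒜) (GrLC.comp 𝒜 𝒜 n)).toNat : ℚ) := by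
      intro n hn
      by_contra hne
      have h1 : ((n : WithTop ℤ) : WithBot (WithTop ℤ)) ≤
          ⨆ (n : ℤ) (_ : P.eval (n : ℚ) ≠ ((Module.length (GrLC.deg0 𝒜) (GrLC.comp 𝒜 𝒜 n)).toNat : ℚ)),
            ((n : WithTop ℤ) : WithBot (WithTop ℤ)) :=
        le_iSup₂ (f := fun (n : ℤ) (_ : P.eval (n : ℚ) ≠
          ((Module.length (GrLC.deg0 𝒜) (GrLC.comp 𝒜 𝒜 n)).toNat : ℚ)) =>
            ((n : WithTop ℤ) : WithBot (WithTop ℤ))) n hne
      rw [← hS] at h1
      have h2 : n ≤ -(r : ℤ) := by exact_mod_cast h1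
      omega
    have hH1 : ((Module.length (GrLC.deg0 𝒜) (GrLC.comp 𝒜 𝒜 1)).toNat : ℚ) = (N : ℚ) := by
      rw [hlen]
      simp
    have hH0 : ((Module.length (GrLC.deg0 𝒜) (GrLC.comp 𝒜 𝒜 0)).toNat : ℚ) = 1 := by
      rw [length_zero 𝒜 h0]
      simp
    have hN : N ≤ r := by
      rcases Nat.eq_zero_or_pos r with hr0 | hrpos
      · have hP0 : P = 0 := by
          by_contra h
          have h1 := hPdim h
          rw [hr, hr0] at h1
          have h2 : (0 : ℕ) = P.natDegree + 1 := by exact_mod_cast h1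
          omega
        have h1 := hagree 1 (by omega)
        rw [hP0, hH1] at h1
        simp only [Polynomial.eval_zero] at h1
        have h2 : N = 0 := by exact_mod_cast h1.symm
        omega
      · have hP0 : P ≠ 0 := by
          intro h
          have h1 := hagree 0 (by omega)
          rw [h, hH0] at h1
          simp at h1
        have hdeg := hPdim hP0
        rw [hr] at hdeg
        have hdeg' : r = P.natDegree + 1 := by exact_mod_cast hdeg
        have hroot : ∀ i : ℕ, 1 ≤ i → i ≤ r - 1 → P.eval (-(i : ℚ)) = 0 := by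
          intro i hi1 hi2
          have h1 := hagree (-(i : ℤ)) (by omega)
          rw [length_neg 𝒜 hpos _ (by omega)] at h1
          push_cast at h1
          simpa using h1
        have h00 : P.eval 0 = 1 := by
          have h1 := hagree 0 (by omega)
          rw [hH0] at h1
          simpa using h1
        have h1 := eval_one_eq P (r - 1) (by omega) hroot h00
        have h2 := hagree 1 (by omega)
        rw [hH1] at h2
        have h3 : (N : ℚ) = ((r - 1 : ℕ) : ℚ) + 1 := by
          rw [← h1, ← h2]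
          simp
        have h4 : ((r - 1 : ℕ) : ℚ) + 1 = (r : ℚ) := by
          rw [Nat.cast_sub hrpos]
          simp
        rw [h4] at h3
        have h5 : N = r := by exact_mod_cast h3
        omega
    obtain ⟨hNr, hbij⟩ := key hN
    subst hNr
    exact ⟨(RingEquiv.ofBijective (phi 𝒜 x) hbij).symm⟩
  · rintro ⟨e⟩
    obtain ⟨T, hcard, hsp⟩ := exists_span_of_ringEquiv 𝒜 hpos h0 m hm hirr r hr e
    have hlen' := length_le_of_span 𝒜 h0 (ι := T)
      (fun a => ((DirectSum.decompose 𝒜 (a : R) 1 : 𝒜 1) : R)) (fun a => SetLike.coe_mem _) hsp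
    rw [hlen, Fintype.card_coe] at hlen'
    have hN : N ≤ r := le_trans (by exact_mod_cast hlen') hcard
    obtain ⟨hNr, hbij⟩ := key hN
    subst hNr
    exact endDeg_top 𝒜 hpos m hm.1 x hx (hirr.trans hspan) hbij I

end Groth.Agent.S18644
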