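import Groth.Statements.S18645
import Mathlib
import Groth.Agent.Lib.Helper19.GrLes8
import Groth.Agent.Lib.Helper19.LCLoc
import Groth.Agent.Lib.Helper19.StarLocalArt
import Groth.Agent.Lib.Helper26.CM7
import Groth.Agent.Lib.Helper26.DepthLoc2
import Groth.Agent.Lib.Helper26.ReflexiveCrit2
import Groth.Agent.S13224

set_option autoImplicit false
universe u
open GrLC

namespace Groth.Agent.S18645

-- MARK
open Groth.Agent.Lib.helper19.GrLes in
theorem endDeg_bot_of_subsingleton {R : Type u} [CommRing R]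
    {𝒜 : ℤ → AddSubgroup R} [GradedRing 𝒜] {M : Type u} [AddCommGroup M] [Module R M]
    {ℳ : ℤ → AddSubgroup M} [DirectSum.Decomposition ℳ] [SetLike.GradedSMul 𝒜 ℳ]
    (E : StarInjRes 𝒜 ℳ) (a : HomogeneousIdeal 𝒜) (n : ℕ) (h : Subsingleton (E.H a n)) :
    GrLC.endDeg (E.Hgr a n) = ⊥ :=
  endDeg_eq_bot _ (fun g => eq_bot_of_subsingleton E a n g)

theorem lt_sub_of_add_eq {a : WithBot ℕ∞} {h : ℕ∞} {n t : ℕ}
    (h1 : a + ((t : ℕ) : WithBot ℕ∞) = (h : WithBot ℕ∞)) (h2 : h < (n : ℕ∞)) :
    a < ((n - t : ℕ) : WithBot ℕ∞) := by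
  induction a using WithBot.recBotCoe with
  | bot => exact WithBot.bot_lt_coe _
  | coe a' =>
    have h3 : ((a' + (t : ℕ∞) : ℕ∞) : WithBot ℕ∞) = (h : WithBot ℕ∞) := by
      rw [← h1]; rfl
    have h4 : a' + t = h := WithBot.coe_injective h3
    rw [← h4] at h2
    obtain ⟨a'', rfl⟩ := ENat.ne_top_iff_exists.1 (ne_top_of_lt (lt_of_le_of_lt le_self_add h2))
    have h5 : a'' + t < n := by exact_mod_cast h2
    have h6 : a'' < n - t := by omega
    have h7 : ((a'' : ℕ) : ℕ∞) < ((n - t : ℕ) : ℕ∞) := by exact_mod_cast h6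
    exact WithBot.coe_lt_coe.2 h7

open scoped Pointwise in
theorem ofList_ofFn_smul_top {R : Type u} [CommRing R] {t : ℕ} (f : Fin t → R) :
    Ideal.ofList (List.ofFn f) • (⊤ : Submodule R R) = Ideal.span (Set.range f) := by
  have h1 : Ideal.ofList (List.ofFn f) = Ideal.span (Set.range f) := by
    unfold Ideal.ofList
    congr 1
    ext x
    simp [List.mem_ofFn]
  rw [h1]
  exact Ideal.mul_top _



/-- Let R be a graded ring defined over a field which is Cohen–Macaulay, of dimension n, and let f_1, …,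
f_t be an R-regular sequence of homogeneous elements of positive degrees d_1, …, d_t, with S =
R/(f_1, …, f_t). The canonical module of S is (K_R/(f_1, …, f_t)K_R)(d_1 + ⋯ + d_t); consequently —
this is the form stated here — the a-invariants satisfy a(S) = a(R) + d_1 + ⋯ + d_t, where a(S) is
the largest nonzero degree of H^{n−t}_m(S) and a(R) that of H^n_m(R), both graded local cohomologies
over R with support in m = R_+ computed from *injective resolutions in the graded category, and S is
presented as a graded R-module N with a degree-preserving surjection π : R → N whose kernel is (f_1,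
…, f_t). Here 'graded ring defined over a field' means R = ⊕_{n ≥ 0} R_n is Noetherian with R_0 a
field, and m = R_+ is its unique graded maximal ideal. -/
theorem result (R : Type u) [CommRing R] [LocCoh.IsCohenMacaulayRing R] (𝒜 : ℤ → AddSubgroup R) [GradedRing 𝒜] (hpos : ∀ n : ℤ, n < 0 → 𝒜 n = ⊥) (h0 : IsField (GrLC.deg0 𝒜)) (m : HomogeneousIdeal 𝒜) (hm : GrLC.IsStarLocal 𝒜 m) (hmsp : m.toIdeal = Ideal.span (⋃ n ∈ Set.Ioi (0 : ℤ), (𝒜 n : Set R))) (n : ℕ) (hn : ringKrullDim R = n) (I : GrLC.StarInjRes 𝒜 𝒜) (t : ℕ) (htn : t ≤ n) (f : Fin t → R) (deg : Fin t → ℤ) (hfdeg : ∀ i, f i ∈ 𝒜 (deg i)) (hfm : ∀ i, f i ∈ m.toIdeal) (hreg : RingTheory.Sequence.IsRegular R (List.ofFn f)) (N : Type u) [AddCommGroup N] [Module R N] (𝒩 : ℤ → AddSubgroup N) [DirectSum.Decomposition 𝒩] [SetLike.GradedSMul 𝒜 𝒩] (π : R →ₗ[R] N) (hπ : GrLC.IsGrHom 𝒜 𝒩 π) (hπs : Function.Surjective π) (hπk : LinearMap.ker π = Ideal.span (Set.range f)) (F : GrLC.StarInjRes 𝒜 𝒩) : GrLC.endDeg (F.Hgr m (n - t)) = GrLC.endDeg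 (I.Hgr m n) + ((((Finset.univ : Finset (Fin t)).sum deg : ℤ) : WithTop ℤ) : WithBot (WithTop ℤ)) := by
  classical
  have hmax : m.toIdeal.IsMaximal :=
    Groth.Agent.Lib.helper19.StarLocalArt.isMaximal_of_isCoatom 𝒜 hpos m hm.1
  have hfst : (List.ofFn (fun i => (f i, deg i))).map Prod.fst = List.ofFn f := by
    rw [List.map_ofFn]; rfl
  have hsnd : (List.ofFn (fun i => (f i, deg i))).map Prod.snd = List.ofFn deg := by
    rw [List.map_ofFn]; rfl
  have hlen : (List.ofFn (fun i => (f i, deg i))).length = t := List.length_ofFn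
  have hsum : ((List.ofFn (fun i => (f i, deg i))).map Prod.snd).sum = Finset.univ.sum deg := by
    rw [hsnd, List.sum_ofFn]
  have hker0 : LinearMap.ker π = Ideal.ofList (List.ofFn f) • (⊤ : Submodule R R) := by
    rw [hπk, ofList_ofFn_smul_top]
  have hker : LinearMap.ker π =
      Ideal.ofList ((List.ofFn (fun i => (f i, deg i))).map Prod.fst) • (⊤ : Submodule R R) := by
    rw [hfst]; exact hker0
  have hmem : ∀ p ∈ List.ofFn (fun i => (f i, deg i)), p.1 ∈ 𝒜 p.2 ∧ p.1 ∈ m.toIdeal := by
    intro p hp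
    rw [List.mem_ofFn] at hp
    obtain ⟨i, rfl⟩ := hp
    exact ⟨hfdeg i, hfm i⟩
  have hwreg0 : RingTheory.Sequence.IsWeaklyRegular R (List.ofFn f) := hreg.toIsWeaklyRegular
  have hwreg : RingTheory.Sequence.IsWeaklyRegular R
      ((List.ofFn (fun i => (f i, deg i))).map Prod.fst) := by
    rw [hfst]; exact hwreg0
  have hht : m.toIdeal.height ≤ (n : ℕ∞) := by
    have h1 := Ideal.height_le_ringKrullDim_of_ne_top hmax.ne_top
    rw [hn] at h1
    exact_mod_cast h1
  rcases eq_or_lt_of_le hht with heq | hlt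
  · have hdepth : LocCoh.idealDepth m.toIdeal R = m.toIdeal.height :=
      ((Groth.Agent.Lib.helper26.Depth.isCohenMacaulayRing_iff_idealDepth_eq_height R).1 inferInstance)
        m.toIdeal hmax.ne_top
    have key := Groth.Agent.Lib.helper19.GrLes.endDeg_seq 𝒜 hpos m (List.ofFn (fun i => (f i, deg i)))
      R 𝒜 I N 𝒩 F π hπ hπs hker hmem n (by rw [hlen]; exact htn) hwreg (by rw [hdepth, heq])
    rw [hlen, hsum] at key
    exact key
  · have hself := Groth.Agent.Lib.helper26.Depth.supportDim_localizedModule_self (A := R) m.toIdeal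
    have h1 : Subsingleton (I.H m n) := by
      obtain ⟨e⟩ := Groth.Agent.S13224.result R 𝒜 m R 𝒜 I n
      have : Subsingleton (LocCoh.H m.toIdeal n R) := by
        apply Groth.Agent.Lib.helper19.LCLoc.H_subsingleton_of_supportDim_localization_lt
        rw [hself]
        exact_mod_cast hlt
      exact e.toEquiv.subsingleton
    have h2 : Subsingleton (F.H m (n - t)) := by
      obtain ⟨e⟩ := Groth.Agent.S13224.result R 𝒜 m N 𝒩 F (n - t)
      have : Subsingleton (LocCoh.H m.toIdeal (n - t) N) := by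
        apply Groth.Agent.Lib.helper19.LCLoc.H_subsingleton_of_supportDim_localization_lt
        have hq := (Groth.Agent.Lib.helper26.Depth.depth_supportDim_localization_quot_ofList m.toIdeal
          (List.ofFn f) R (by
            intro r hr
            rw [List.mem_ofFn] at hr
            obtain ⟨i, rfl⟩ := hr
            exact hfm i) hwreg0).2
        rw [hself, List.length_ofFn] at hq
        have eN : (R ⧸ (Ideal.ofList (List.ofFn f) • (⊤ : Submodule R R))) ≃ₗ[R] N :=
          (Submodule.quotEquivOfEq _ _ hker0.symm) ≪≫ₗ LinearMap.quotKerEquivOfSurjective π hπs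
        rw [← Module.supportDim_eq_of_equiv
          (Groth.Agent.Lib.helper26.Depth.localizedEquiv m.toIdeal eN)]
        exact lt_sub_of_add_eq hq hlt
      exact e.toEquiv.subsingleton
    rw [endDeg_bot_of_subsingleton F m (n - t) h2, endDeg_bot_of_subsingleton I m n h1]
    rfl

end Groth.Agent.S18645
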