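import Groth.Statements.S1865
import Mathlib
import Groth.Agent.S0351
import Groth.Agent.Lib.Helper28.GrpPts
import Groth.Agent.Lib.Helper28.GrpPts2
-- import your own Groth.Agent.* helpers here

set_option autoImplicit false
universe u v
open CategoryTheory MonoidalCategory CartesianMonoidalCategory MonObj GrpObj AlgebraicGeometry
open GrpSch

namespace Groth.Agent.S1865

open Groth.Agent.Lib.helper28.GrpPts

/-- the increasing sequence of powers -/
noncomputable def pw {K : Type u} [Field K] (G : Over (Spec (CommRingCat.of K))) [GrpObj G]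
    (U : Set G.left) : ℕ → Set G.left
  | 0 => U
  | n + 1 => mulSet G (pw G U n) U

/-- A group scheme over a field contains an open and closed subset containing the identity point which
is a countable union of affine opens. (The source does not mention the identity point; its
construction contains it, and without it the empty set would do.) -/
theorem result (K : Type u) [Field K] (G : Over (Spec (CommRingCat.of K))) [GrpObj G] : ∃ U : G.left.Opens, IsClosed (U : Set G.left) ∧ η[G].left (IsLocalRing.closedPoint K) ∈ U ∧ ∃ V : ℕ → G.left.Opens, (∀ n, IsAffineOpen (V n)) ∧ (U : Set G.left) = ⋃ n, (V n : Set G.left) := by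
  obtain ⟨e, he⟩ : ∃ e : G.left, e = η[G].left (IsLocalRing.closedPoint K) := ⟨_, rfl⟩
  rw [← he]
  obtain ⟨U₀, hU₀, heU₀⟩ : ∃ U : G.left.Opens, IsAffineOpen U ∧ e ∈ U := by
    obtain ⟨U', ⟨U, hU, rfl⟩, hxU, -⟩ :=
      (G.left.isBasis_affineOpens).exists_subset_of_mem_open (Set.mem_univ e) isOpen_univ
    exact ⟨U, hU, hxU⟩
  -- the symmetric compact open neighbourhood
  obtain ⟨U, hUdef⟩ : ∃ U : Set G.left, U = (U₀ : Set G.left) ∪ ι[G].left ⁻¹' (U₀ : Set G.left) :=
    ⟨_, rfl⟩
  have hpre : ι[G].left ⁻¹' (U₀ : Set G.left) = ι[G].left '' (U₀ : Set G.left) := by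
    ext g
    constructor
    · intro hg
      exact ⟨ι[G].left g, hg, inv_inv_apply G g⟩
    · rintro ⟨g', hg', rfl⟩
      show ι[G].left (ι[G].left g') ∈ (U₀ : Set G.left)
      rw [inv_inv_apply]
      exact hg'
  have hUc : IsCompact U ∧ IsOpen U := by
    rw [hUdef]
    refine ⟨hU₀.isCompact.union ?_, U₀.isOpen.union (U₀.isOpen.preimage (Scheme.Hom.continuous _))⟩
    rw [hpre]
    exact hU₀.isCompact.image (Scheme.Hom.continuous _)
  have heU : e ∈ U := by rw [hUdef]; exact Or.inl heU₀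
  have hsymm : ∀ g ∈ U, ι[G].left g ∈ U := by
    intro g hg
    rw [hUdef] at hg ⊢
    rcases hg with hg | hg
    · right
      show ι[G].left (ι[G].left g) ∈ (U₀ : Set G.left)
      rw [inv_inv_apply]
      exact hg
    · left
      exact hg
  have hP : ∀ n, IsCompact (pw G U n) ∧ IsOpen (pw G U n) := by
    intro n
    induction n with
    | zero => exact hUc
    | succ n ih => exact isCompact_isOpen_mulSet G _ _ ih hUc
  have hAo : IsOpen (⋃ n, pw G U n) := isOpen_iUnion fun n => (hP n).2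
  have hAc : IsClosed (⋃ n, pw G U n) := by
    rw [← closure_subset_iff_isClosed]
    intro r hr
    have hO := Groth.Agent.S0351.translate_open K G ⟨U, hUc.2⟩ r
    obtain ⟨e', he', hre'⟩ := Mul3.exists_unit G r
    have he'e : e' = e := by
      obtain ⟨x, rfl⟩ := he'
      rw [he]
      congr 1
      exact Subsingleton.elim (α := PrimeSpectrum K) _ _
    rw [he'e] at hre'
    have hrO : r ∈ {g₃ | ∃ g₂ ∈ (⟨U, hUc.2⟩ : G.left.Opens), Mul3 G r g₂ g₃} := ⟨e, heU, hre'⟩
    obtain ⟨y, ⟨u, huU, hruy⟩, hyA⟩ := mem_closure_iff.mp hr _ hO hrO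
    obtain ⟨n, hn⟩ := Set.mem_iUnion.mp hyA
    exact Set.mem_iUnion.mpr ⟨n + 1, y, hn, ι[G].left u, hsymm u huU, hruy.rot_right⟩
  have heA : e ∈ ⋃ n, pw G U n := Set.mem_iUnion.mpr ⟨0, heU⟩
  choose s hsfin hs using fun n =>
    isCompact_and_isOpen_iff_finite_and_eq_biUnion_affineOpens.mp (hP n)
  have hcount : (⋃ n, s n).Countable := Set.countable_iUnion fun n => (hsfin n).countable
  have hne : (⋃ n, s n).Nonempty := by
    have h0 : e ∈ ⋃ i ∈ s 0, ((i : G.left.Opens) : Set G.left) := by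
      rw [← hs 0]; exact heU
    obtain ⟨i, hi, -⟩ := Set.mem_iUnion₂.mp h0
    exact ⟨i, Set.mem_iUnion.mpr ⟨0, hi⟩⟩
  obtain ⟨f, hf⟩ := hcount.exists_eq_range hne
  refine ⟨⟨⋃ n, pw G U n, hAo⟩, hAc, heA, fun n => (f n).1, fun n => (f n).2, ?_⟩
  show (⋃ n, pw G U n) = ⋃ n, ((f n).1 : Set G.left)
  ext g
  simp only [Set.mem_iUnion]
  constructor
  · rintro ⟨n, hn⟩
    rw [hs n] at hn
    obtain ⟨i, hi, hgi⟩ := Set.mem_iUnion₂.mp hn
    have : i ∈ Set.range f := by rw [← hf]; exact Set.mem_iUnion.mpr ⟨n, hi⟩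
    obtain ⟨m, rfl⟩ := this
    exact ⟨m, hgi⟩
  · rintro ⟨m, hm⟩
    have : f m ∈ ⋃ n, s n := by rw [hf]; exact ⟨m, rfl⟩
    obtain ⟨n, hn⟩ := Set.mem_iUnion.mp this
    refine ⟨n, ?_⟩
    rw [hs n]
    exact Set.mem_iUnion₂.mpr ⟨f m, hn, hm⟩

end Groth.Agent.S1865
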