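import Groth.Statements.S18651
import Mathlib
import Groth.Agent.Lib.Helper19.CanPoly3
import Groth.Agent.Lib.Helper19.GrConv

set_option autoImplicit false
universe u
attribute [local instance] MvPolynomial.weightedGradedAlgebra
open GrLC

namespace Groth.Agent.S18651

-- MARK
open Groth.Agent.Lib.helper19.GrConv in
/-- weights of monomials are nonnegative -/
theorem weight_nonneg {N : ℕ} (w : Fin N → ℤ) (hw : ∀ i, 0 < w i) (d : Fin N →₀ ℕ) :
    0 ≤ Finsupp.weight w d := by
  rw [Finsupp.weight_apply]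
  apply Finsupp.sum_nonneg
  intro i _
  exact smul_nonneg (Nat.zero_le _) (le_of_lt (hw i))

theorem weight_pos {N : ℕ} (w : Fin N → ℤ) (hw : ∀ i, 0 < w i) (d : Fin N →₀ ℕ) (hd : d ≠ 0) :
    0 < Finsupp.weight w d := by
  obtain ⟨i, hi⟩ := Finsupp.ne_iff.1 hd
  rw [Finsupp.weight_apply, Finsupp.sum]
  have hi' : i ∈ d.support := Finsupp.mem_support_iff.2 hi
  refine Finset.sum_pos' (fun j _ => smul_nonneg (Nat.zero_le _) (le_of_lt (hw j))) ⟨i, hi', ?_⟩
  have : 0 < d i := Nat.pos_of_ne_zero hi
  exact smul_pos this (hw i)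

/-- the ideal generated by the positive degree part is generated by the variables -/
theorem span_pos_eq (k : Type u) [Field k] {N : ℕ} (w : Fin N → ℤ) (hw : ∀ i, 0 < w i) :
    Ideal.span (⋃ n ∈ Set.Ioi (0 : ℤ),
      (MvPolynomial.weightedHomogeneousSubmodule k w n : Set (MvPolynomial (Fin N) k))) =
    Ideal.span (MvPolynomial.X '' (Set.univ : Set (Fin N))) := by
  apply le_antisymm
  · rw [Ideal.span_le]
    intro f hf
    simp only [Set.mem_iUnion, Set.mem_Ioi] at hf
    obtain ⟨n, hn, hf⟩ := hf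
    rw [SetLike.mem_coe, MvPolynomial.mem_ideal_span_X_image]
    intro d hd
    have h1 : Finsupp.weight w d = n := hf (MvPolynomial.mem_support_iff.1 hd)
    have h2 : d ≠ 0 := by
      rintro rfl
      rw [map_zero] at h1
      omega
    obtain ⟨i, hi⟩ := Finsupp.ne_iff.1 h2
    exact ⟨i, Set.mem_univ _, hi⟩
  · rw [Ideal.span_le]
    rintro _ ⟨i, -, rfl⟩
    apply Ideal.subset_span
    simp only [Set.mem_iUnion, Set.mem_Ioi]
    exact ⟨w i, hw i, MvPolynomial.isWeightedHomogeneous_X k w i⟩

theorem isMaximal_span_X (k : Type u) [Field k] (N : ℕ) :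
    (Ideal.span (MvPolynomial.X '' (Set.univ : Set (Fin N))) :
      Ideal (MvPolynomial (Fin N) k)).IsMaximal := by
  classical
  have hmem : ∀ p : MvPolynomial (Fin N) k,
      p ∈ Ideal.span (MvPolynomial.X '' (Set.univ : Set (Fin N))) ↔ MvPolynomial.coeff 0 p = 0 := by
    intro p
    rw [MvPolynomial.mem_ideal_span_X_image]
    constructor
    · intro h
      by_contra hne
      obtain ⟨i, -, hi⟩ := h 0 (MvPolynomial.mem_support_iff.2 hne)
      exact hi rfl
    · intro h d hd
      have h2 : d ≠ 0 := by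
        rintro rfl
        exact (MvPolynomial.mem_support_iff.1 hd) h
      obtain ⟨i, hi⟩ := Finsupp.ne_iff.1 h2
      exact ⟨i, Set.mem_univ _, hi⟩
  rw [Ideal.isMaximal_iff]
  refine ⟨fun h => ?_, ?_⟩
  · rw [hmem] at h
    simp at h
  · intro J p hJ hp hpJ
    rw [hmem] at hp
    have h1 : p - MvPolynomial.C (MvPolynomial.coeff 0 p) ∈
        Ideal.span (MvPolynomial.X '' (Set.univ : Set (Fin N))) := by
      rw [hmem]
      simp
    have h2 : MvPolynomial.C (MvPolynomial.coeff 0 p) ∈ J := by
      have : MvPolynomial.C (MvPolynomial.coeff 0 p) =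
          p - (p - MvPolynomial.C (MvPolynomial.coeff 0 p)) := by ring
      rw [this]
      exact J.sub_mem hpJ (hJ h1)
    have h3 : (1 : MvPolynomial (Fin N) k) =
        MvPolynomial.C (MvPolynomial.coeff 0 p)⁻¹ * MvPolynomial.C (MvPolynomial.coeff 0 p) := by
      rw [← MvPolynomial.C_mul, inv_mul_cancel₀ hp, MvPolynomial.C_1]
    rw [h3]
    exact J.mul_mem_left _ h2

/-- a variable outside `S` is regular modulo the variables in `S` -/
theorem X_regular (k : Type u) [Field k] {N : ℕ} (S : Set (Fin N)) (j : Fin N) (hj : j ∉ S)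
    (r : MvPolynomial (Fin N) k)
    (h : MvPolynomial.X j * r ∈ Ideal.span (MvPolynomial.X '' S)) :
    r ∈ Ideal.span (MvPolynomial.X '' S) := by
  classical
  rw [MvPolynomial.mem_ideal_span_X_image] at h ⊢
  intro d hd
  have h1 : Finsupp.single j 1 + d ∈ (MvPolynomial.X j * r).support := by
    rw [MvPolynomial.mem_support_iff, MvPolynomial.coeff_X_mul]
    exact MvPolynomial.mem_support_iff.1 hd
  obtain ⟨l, hl, hl'⟩ := h _ h1
  refine ⟨l, hl, ?_⟩
  have hlj : l ≠ j := fun h => hj (h ▸ hl)
  rw [Finsupp.add_apply, Finsupp.single_apply, if_neg (Ne.symm hlj), zero_add] at hl'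
  exact hl'



/-- Let k be a field and R = k[X_1, …, X_N] the polynomial ring with deg X_i = w_i > 0. Then the
canonical module of R is K_R = X_1 X_2 ⋯ X_N · R ≅ R(−d) with d = w_1 + ⋯ + w_N; stated here as:
there is a bijective R-linear map R → K_R homogeneous of degree d. The canonical module is
represented by a finitely generated graded module C together with a homogeneous isomorphism from
Hom_R(C, E) onto H^N_m(R), where m = R_+, E is a *injective envelope of R/m and H^N_m(R) is computed
from a *injective resolution of R in the graded category; by graded Matlis duality this says exactly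
that C ≅ K_R as graded modules. -/
theorem result (k : Type u) [Field k] (N : ℕ) (w : Fin N → ℤ) (hw : ∀ i, 0 < w i) (m : HomogeneousIdeal (MvPolynomial.weightedHomogeneousSubmodule k w)) (hm : GrLC.IsStarLocal (MvPolynomial.weightedHomogeneousSubmodule k w) m) (hmsp : m.toIdeal = Ideal.span (⋃ n ∈ Set.Ioi (0 : ℤ), (MvPolynomial.weightedHomogeneousSubmodule k w n : Set (MvPolynomial (Fin N) k)))) (I : GrLC.StarInjRes (MvPolynomial.weightedHomogeneousSubmodule k w) (MvPolynomial.weightedHomogeneousSubmodule k w)) (E' : Type u) [AddCommGroup E'] [Module (MvPolynomial (Fin N) k) E'] (𝓔 : ℤ → AddSubgroup E') [DirectSum.Decomposition 𝓔] [SetLike.GradedSMul (MvPolynomial.weightedHomogeneousSubmodule k w) 𝓔] (e : (MvPolynomial (Fin N) k ⧸ m.toIdeal) →ₗ[MvPolynomial (Fin N) k] E') (he : GrLC.IsStarInjHull (MvPolynomial.weightedHomogeneousSubmodule k w) (GrLC.quotGr (MvPolynomial.weightedHomogeneousSubmodule k w) m) 𝓔 e) (C : Type u) [AddCommGroup C] [Module (MvPolynomial (Fin N) k) C] (𝒞 : ℤ → AddSubgroup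 C) [DirectSum.Decomposition 𝒞] [SetLike.GradedSMul (MvPolynomial.weightedHomogeneousSubmodule k w) 𝒞] (hC : GrLC.IsStarCanonical (MvPolynomial.weightedHomogeneousSubmodule k w) 𝒞 𝓔 m N I) : ∃ f : MvPolynomial (Fin N) k →ₗ[MvPolynomial (Fin N) k] C, Function.Bijective f ∧ GrLC.IsGrHomDeg (MvPolynomial.weightedHomogeneousSubmodule k w) 𝒞 f ((Finset.univ : Finset (Fin N)).sum w) := by
  classical
  -- the grading by additive subgroups
  haveI : SetLike.GradedSMul (Groth.Agent.Lib.helper19.GrConv.addGr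
      (MvPolynomial.weightedHomogeneousSubmodule k w)) 𝓔 :=
    ⟨fun {i j a b} ha hb => SetLike.GradedSMul.smul_mem
      (A := MvPolynomial.weightedHomogeneousSubmodule k w) (B := 𝓔) ha hb⟩
  haveI : SetLike.GradedSMul (Groth.Agent.Lib.helper19.GrConv.addGr
      (MvPolynomial.weightedHomogeneousSubmodule k w)) 𝒞 :=
    ⟨fun {i j a b} ha hb => SetLike.GradedSMul.smul_mem
      (A := MvPolynomial.weightedHomogeneousSubmodule k w) (B := 𝒞) ha hb⟩
  have hpos : ∀ n : ℤ, n < 0 → Groth.Agent.Lib.helper19.GrConv.addGr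
      (MvPolynomial.weightedHomogeneousSubmodule k w) n = ⊥ := by
    intro n hn
    rw [eq_bot_iff]
    intro p hp
    have hp' : MvPolynomial.IsWeightedHomogeneous w p n := hp
    rw [AddSubgroup.mem_bot]
    by_contra hne
    obtain ⟨d, hd⟩ := MvPolynomial.ne_zero_iff.1 hne
    have h1 := hp' hd
    have h2 := weight_nonneg w hw d
    omega
  have hsp := span_pos_eq k w hw
  have hmX : m.toIdeal = Ideal.span (MvPolynomial.X '' (Set.univ : Set (Fin N))) := by
    rw [hmsp, hsp]
  haveI hmax : (Groth.Agent.Lib.helper19.GrConv.idealAdd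
      (MvPolynomial.weightedHomogeneousSubmodule k w) m).toIdeal.IsMaximal := by
    show m.toIdeal.IsMaximal
    rw [hmX]
    exact isMaximal_span_X k N
  have he' : GrLC.IsStarInjHull (Groth.Agent.Lib.helper19.GrConv.addGr
      (MvPolynomial.weightedHomogeneousSubmodule k w))
      (GrLC.quotGr (Groth.Agent.Lib.helper19.GrConv.addGr
        (MvPolynomial.weightedHomogeneousSubmodule k w))
        (Groth.Agent.Lib.helper19.GrConv.idealAdd
          (MvPolynomial.weightedHomogeneousSubmodule k w) m)) 𝓔 e :=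
    { injective := he.injective
      grHom := fun g q hq => he.grHom g q hq
      essential := he.essential
      starInj := Groth.Agent.Lib.helper19.GrConv.isStarInj_toA
        (MvPolynomial.weightedHomogeneousSubmodule k w)
        (GrLC.GMod.of (MvPolynomial.weightedHomogeneousSubmodule k w) E' 𝓔) he.starInj }
  -- the regular sequence
  let x : ℕ → MvPolynomial (Fin N) k := fun i => if h : i < N then MvPolynomial.X ⟨i, h⟩ else 0
  let w' : ℕ → ℤ := fun i => if h : i < N then w ⟨i, h⟩ else 0
  have hximg : ∀ i ≤ N, x '' Set.Iio i = MvPolynomial.X '' {l : Fin N | (l : ℕ) < i} := by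
    intro i hi
    ext p
    constructor
    · rintro ⟨l, hl, rfl⟩
      have hlN : l < N := lt_of_lt_of_le hl hi
      exact ⟨⟨l, hlN⟩, hl, by simp only [x, dif_pos hlN]⟩
    · rintro ⟨l, hl, rfl⟩
      exact ⟨l, hl, by simp only [x, dif_pos l.2]⟩
  have hx : ∀ i < N, x i ∈ Groth.Agent.Lib.helper19.GrConv.addGr
      (MvPolynomial.weightedHomogeneousSubmodule k w) (w' i) := by
    intro i hi
    simp only [x, w', dif_pos hi]
    exact MvPolynomial.isWeightedHomogeneous_X k w _
  have hm' : (Groth.Agent.Lib.helper19.GrConv.idealAdd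
      (MvPolynomial.weightedHomogeneousSubmodule k w) m).toIdeal = Ideal.span (x '' Set.Iio N) := by
    show m.toIdeal = _
    rw [hmX, hximg N le_rfl]
    congr 2
    ext l
    simp
  have hreg : ∀ i < N, ∀ r : MvPolynomial (Fin N) k, x i * r ∈ Ideal.span (x '' Set.Iio i) →
      r ∈ Ideal.span (x '' Set.Iio i) := by
    intro i hi r hr
    rw [hximg i (le_of_lt hi)] at hr ⊢
    simp only [x, dif_pos hi] at hr
    exact X_regular k _ ⟨i, hi⟩ (fun h => lt_irrefl i h) r hr
  obtain ⟨-, θ, hθ, hθgr⟩ := Groth.Agent.Lib.helper19.CanPoly.main 𝓔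
    (Groth.Agent.Lib.helper19.GrConv.idealAdd (MvPolynomial.weightedHomogeneousSubmodule k w) m)
    e he' N x w' hx hm' hreg
    (Groth.Agent.Lib.helper19.GrConv.resAdd (MvPolynomial.weightedHomogeneousSubmodule k w)
      (MvPolynomial.weightedHomogeneousSubmodule k w) I)
  have hsum : ∑ l ∈ Finset.range N, w' l = (Finset.univ : Finset (Fin N)).sum w := by
    rw [← Fin.sum_univ_eq_sum_range]
    apply Finset.sum_congr rfl
    intro i _
    simp only [w', dif_pos i.2]
  rw [hsum] at hθgr
  obtain ⟨hfin, φ, hφ⟩ := hC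
  haveI := hfin
  obtain ⟨f, hf, hfgr⟩ := Groth.Agent.Lib.helper19.CanPoly.exists_bijective_of_hom_equiv
    (𝒜 := Groth.Agent.Lib.helper19.GrConv.addGr (MvPolynomial.weightedHomogeneousSubmodule k w))
    𝓔 𝒞 hpos
    (Groth.Agent.Lib.helper19.GrConv.idealAdd (MvPolynomial.weightedHomogeneousSubmodule k w) m)
    (by
      show m.toIdeal = _
      rw [hmsp]
      rfl) e he' ((Finset.univ : Finset (Fin N)).sum w) (θ ∘ₗ φ.toLinearMap)
    (hθ.comp φ.bijective) (fun g ψ hψ => hθgr g _ (hφ g ψ hψ))
  exact ⟨f, hf, fun g r hr => hfgr g r hr⟩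

end Groth.Agent.S18651
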