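import Groth.Statements.S18662
import Mathlib
import Groth.Agent.Lib.Helper19.LCFactor
import Groth.Agent.Lib.Helper19.LCGroth
import Groth.Agent.S13224

set_option autoImplicit false
universe u
open GrLC

namespace Groth.Agent.S18662



/-- Let R be a graded ring defined over a field, m = R_+, and M a graded R-module satisfying condition
(**): there is a homogeneous f ∈ R_d with d > 0 such that multiplication by f on M is bijective.
Then H^q_m(M) = 0 for every integer q (graded local cohomology, computed from any *injective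
resolution of M in the graded category). Here 'graded ring defined over a field' means R = ⊕_{n ≥ 0}
R_n is Noetherian with R_0 a field, and m = R_+ is its unique graded maximal ideal. -/
theorem result (R : Type u) [CommRing R] [IsNoetherianRing R] (𝒜 : ℤ → AddSubgroup R) [GradedRing 𝒜] (hpos : ∀ n : ℤ, n < 0 → 𝒜 n = ⊥) (h0 : IsField (GrLC.deg0 𝒜)) (m : HomogeneousIdeal 𝒜) (hm : GrLC.IsStarLocal 𝒜 m) (hmsp : m.toIdeal = Ideal.span (⋃ n ∈ Set.Ioi (0 : ℤ), (𝒜 n : Set R))) (M : Type u) [AddCommGroup M] [Module R M] (ℳ : ℤ → AddSubgroup M) [DirectSum.Decomposition ℳ] [SetLike.GradedSMul 𝒜 ℳ] (d : ℤ) (hd : 0 < d) (f : R) (hf : f ∈ 𝒜 d) (hbij : Function.Bijective (fun x : M => f • x)) (E : GrLC.StarInjRes 𝒜 ℳ) (q : ℕ) : Subsingleton (E.H m q) := by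
  classical
  obtain ⟨e⟩ := Groth.Agent.S13224.result R 𝒜 m M ℳ E q
  have hfm : f ∈ m.toIdeal := by
    rw [hmsp]
    apply Ideal.subset_span
    exact Set.mem_iUnion₂.mpr ⟨d, hd, hf⟩
  -- the inverse of multiplication by `f`
  let φ : M ≃ₗ[R] M := LinearEquiv.ofBijective (LinearMap.lsmul R M f) hbij
  have hinj : ∀ x : ((localCohomology m.toIdeal q).obj (ModuleCat.of R M) : ModuleCat.{u} R),
      f • x = 0 → x = 0 := by
    intro x hx
    have h1 : ((localCohomology m.toIdeal q).map
        (f • CategoryTheory.CategoryStruct.id (ModuleCat.of R M))).hom x = 0 :=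
      (Groth.Agent.Lib.helper19.LCFactor.H_map_smul_id m.toIdeal q (ModuleCat.of R M) f x).trans hx
    have h2 : f • CategoryTheory.CategoryStruct.id (ModuleCat.of R M) =
        ModuleCat.ofHom φ.toLinearMap := by
      apply ModuleCat.hom_ext
      apply LinearMap.ext
      intro y
      rfl
    rw [h2] at h1
    have h3 : CategoryTheory.CategoryStruct.comp (ModuleCat.ofHom φ.toLinearMap)
        (ModuleCat.ofHom φ.symm.toLinearMap) =
        CategoryTheory.CategoryStruct.id (ModuleCat.of R M) := by
      apply ModuleCat.hom_ext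
      apply LinearMap.ext
      intro y
      exact φ.symm_apply_apply y
    have h4 : ((localCohomology m.toIdeal q).map (CategoryTheory.CategoryStruct.comp
        (ModuleCat.ofHom φ.toLinearMap) (ModuleCat.ofHom φ.symm.toLinearMap))).hom x = x := by
      rw [h3, CategoryTheory.Functor.map_id]
      rfl
    rw [CategoryTheory.Functor.map_comp, ModuleCat.hom_comp, LinearMap.comp_apply, h1,
      map_zero] at h4
    exact h4.symm
  have := Groth.Agent.Lib.helper19.LCGroth.H_subsingleton_of_smul_injective m.toIdeal q
    (ModuleCat.of R M) f hfm hinj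
  exact e.toEquiv.subsingleton

end Groth.Agent.S18662
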