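import Groth.Statements.S18667
import Groth.Agent.Lib.Helper26.ExtCan9
import Groth.Agent.Lib.Helper26.SubGrK
import Groth.Agent.Lib.Helper26.CanConv
import Groth.Agent.Lib.Helper26.Can5

set_option autoImplicit false
universe u
open GrLC

namespace Groth.Agent.S18667

/-- Let R and S be graded rings defined over the same field k and f : R → S a degree-preserving k-linear
ring map (not necessarily injective), with R Cohen–Macaulay and S a finite R-module through f, and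
put t = dim R − dim S. Then K_S = Ext^t_R(S, K_R). Stated here as the existence of an R-linear
isomorphism between the canonical module of S (an S-module, viewed over R) and the R-module
Ext^t_R(S, K_R); the published isomorphism is natural and respects gradings. Here a graded ring
defined over a field is Noetherian, positively ℤ-graded with degree-zero part a field; that R and S
are defined over the same field and f is k-linear is expressed by asking f to carry R_0 onto S_0;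
and the canonical module is represented by a finitely generated graded module together with a
homogeneous isomorphism from its Hom into a *injective envelope of the residue field onto the top
graded local cohomology of the ring with support in its irrelevant ideal, computed from a *injective
resolution in the graded category (by graded Matlis duality this pins the module up to graded
isomorphism). -/
theorem result (R : Type u) [CommRing R] [LocCoh.IsCohenMacaulayRing R] (𝒜 : ℤ → AddSubgroup R) [GradedRing 𝒜] (hpos : ∀ n : ℤ, n < 0 → 𝒜 n = ⊥) (h0 : IsField (GrLC.deg0 𝒜)) (m : HomogeneousIdeal 𝒜) (hm : GrLC.IsStarLocal 𝒜 m) (hmsp : m.toIdeal = Ideal.span (⋃ n ∈ Set.Ioi (0 : ℤ), (𝒜 n : Set R))) (n : ℕ) (hn : ringKrullDim R = n) (I : GrLC.StarInjRes 𝒜 𝒜) (E' : Type u) [AddCommGroup E'] [Module R E'] (𝓔 : ℤ → AddSubgroup E') [DirectSum.Decomposition 𝓔] [SetLike.GradedSMul 𝒜 𝓔] (e : (R ⧸ m.toIdeal) →ₗ[R]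 E') (he : GrLC.IsStarInjHull 𝒜 (GrLC.quotGr 𝒜 m) 𝓔 e) (C : Type u) [AddCommGroup C] [Module R C] (𝒞 : ℤ → AddSubgroup C) [DirectSum.Decomposition 𝒞] [SetLike.GradedSMul 𝒜 𝒞] (hC : GrLC.IsStarCanonical 𝒜 𝒞 𝓔 m n I) (S : Type u) [CommRing S] [IsNoetherianRing S] [Algebra R S] [Module.Finite R S] (𝒜' : ℤ → AddSubgroup S) [GradedRing 𝒜'] (hf : ∀ j : ℤ, (𝒜 j).map (algebraMap R S : R →+ S) ≤ 𝒜' j) (hf0 : (𝒜 0).map (algebraMap R S : R →+ S) = 𝒜' 0) (hpos' : ∀ j : ℤ, j < 0 → 𝒜' j = ⊥) (h0' : IsField (GrLC.deg0 𝒜')) (m' : HomogeneousIdeal 𝒜') (hm' : GrLC.IsStarLocal 𝒜' m') (hm'sp : m'.toIdeal = Ideal.span (⋃ j ∈ Set.Ioi (0 : ℤ), (𝒜' j : Set S))) (n' : ℕ) (hn' : ringKrullDim S = n') (I' : GrLC.StarInjRes 𝒜' 𝒜') (E'' : Type u) [AddCommGroup E''] [Module S E''] (𝓔'' : ℤ → AddSubgroup E'') [DirectSum.Decomposition 𝓔''] [SetLike.GradedSMul 𝒜' 𝓔''] (e' : (S ⧸ m'.toIdeal) →ₗ[S] E'') (he' : GrLC.IsStarInjHull 𝒜' (GrLC.quotGr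 𝒜' m') 𝓔'' e') (C' : Type u) [AddCommGroup C'] [Module S C'] [Module R C'] [IsScalarTower R S C'] (𝒞' : ℤ → AddSubgroup C') [DirectSum.Decomposition 𝒞'] [SetLike.GradedSMul 𝒜' 𝒞'] (hC' : GrLC.IsStarCanonical 𝒜' 𝒞' 𝓔'' m' n' I') : Nonempty (C' ≃ₗ[R] CategoryTheory.Abelian.Ext.{u} (ModuleCat.of R S) (ModuleCat.of R C) (n - n')) := by
  classical
  letI : Field (GrLC.deg0 𝒜) := h0.toField
  have hKS : ∀ c : GrLC.deg0 𝒜, algebraMap (GrLC.deg0 𝒜) S c ∈ 𝒜' 0 :=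
    fun c => hf 0 ⟨(c : R), c.2, rfl⟩
  have hKS0 : ∀ x ∈ 𝒜' 0, ∃ c : GrLC.deg0 𝒜, algebraMap (GrLC.deg0 𝒜) S c = x := by
    intro x hx
    rw [← hf0] at hx
    obtain ⟨r, hr, rfl⟩ := hx
    exact ⟨⟨r, hr⟩, rfl⟩
  letI gaS : GradedAlgebra (Groth.Agent.Lib.helper26.SubK.subK 𝒜' hKS) :=
    Groth.Agent.Lib.helper26.SubK.subGradedAlgebraK 𝒜' hKS
  haveI : IsScalarTower (GrLC.deg0 𝒜) S C' := ⟨fun c s x => by
    show ((c : R) • s) • x = (c : R) • (s • x)
    exact smul_assoc _ _ _⟩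
  haveI := Groth.Agent.Lib.helper26.Can.gsmulSub 𝒜 𝓔
  haveI := Groth.Agent.Lib.helper26.Can.gsmulSub 𝒜 𝒞
  haveI := Groth.Agent.Lib.helper26.SubK.gsmulSubK 𝒜' hKS 𝓔''
  haveI := Groth.Agent.Lib.helper26.SubK.gsmulSubK 𝒜' hKS 𝒞'
  have hf' : ∀ j : ℤ, ∀ r ∈ Groth.Agent.Lib.helper26.Can.subGr 𝒜 j,
      algebraMap R S r ∈ Groth.Agent.Lib.helper26.SubK.subK 𝒜' hKS j :=
    fun j r hr => hf j ⟨r, hr, rfl⟩
  exact Groth.Agent.Lib.helper26.ExtCan.canonical_ext_k (k := GrLC.deg0 𝒜)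
    (Groth.Agent.Lib.helper26.Can.subGr 𝒜) (Groth.Agent.Lib.helper26.Can.subGr_eq_bot 𝒜 hpos)
    (Groth.Agent.Lib.helper26.Can.subGr_zero 𝒜) (Groth.Agent.Lib.helper26.Can.idealSub 𝒜 m) hmsp
    n hn (Groth.Agent.Lib.helper26.Can.resSubSelf 𝒜 I) 𝓔 e
    (Groth.Agent.Lib.helper26.Can.isStarInjHull_sub 𝒜 m 𝓔 e he) 𝒞
    (Groth.Agent.Lib.helper26.Can.isStarCanonical_sub 𝒜 m 𝓔 𝒞 n I hC)
    (Groth.Agent.Lib.helper26.SubK.subK 𝒜' hKS) hf'
    (fun j hj => Groth.Agent.Lib.helper26.SubK.subK_eq_bot 𝒜' hKS (hpos' j hj))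
    (Groth.Agent.Lib.helper26.SubK.subK_zero 𝒜' hKS hKS0)
    (Groth.Agent.Lib.helper26.SubK.idealSubK 𝒜' hKS m') hm'sp n' hn'
    (Groth.Agent.Lib.helper26.SubK.resSubSelfK 𝒜' hKS I') 𝓔'' e'
    (Groth.Agent.Lib.helper26.SubK.isStarInjHull_subK 𝒜' hKS m' 𝓔'' e' he') 𝒞'
    (Groth.Agent.Lib.helper26.SubK.isStarCanonical_subK 𝒜' hKS m' 𝓔'' 𝒞' n' I' hC')

end Groth.Agent.S18667
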