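import Groth.Statements.S18668
import Groth.Agent.Lib.Helper10.FunFld27

set_option autoImplicit false
universe u
open GrSect

namespace Groth.Agent.S18668

/-- Let X be a complete smooth curve of genus g ≥ 1 over an algebraically closed field k, P a closed
point, R = R_{X,P} = ⊕_{n ≥ 0} H^0(X, O_X(nP)) and H = H_{X,P} its Weierstrass semigroup. For any
nonzero t of degree one in R, t is prime in R and the quotient R/tR is isomorphic to k[H], the
semigroup algebra of H. Here the complete smooth curve X over the algebraically closed field k is
given by its function field K/k (a function field of one variable in which k is algebraically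
closed), the closed point P by a place of K/k, g ≥ 1 is the genus, H^0(X, O_X(nP)) = L(nP), and
R_{X,P} = ⊕_{n ≥ 0} L(nP)·T^n is realised as the k-subalgebra of K[T] of polynomials whose
coefficient of T^n lies in L(nP); the Weierstrass semigroup H_{X,P} is the set of n ≥ 0 with ℓ(nP) =
ℓ((n−1)P) + 1. The isomorphism is stated as a k-algebra isomorphism with the semigroup algebra of
the additive submonoid of ℕ generated by H_{X,P} (which is H_{X,P} itself). -/
theorem result (k : Type u) [Field k] [IsAlgClosed k] (K : Type u) [Field K] [Algebra k K] (hK : FunFld.IsFunctionField k K) (hg : 1 ≤ FunFld.genus k K) (P : FunFld.Place k K) (t : ↥(W4c6gradedringsgw.sectRing (Finsupp.single P 1 : FunFld.Divisor k K))) (a : K) (ha : a ≠ 0) (ht : (t : Polynomial K) = Polynomial.C a * Polynomial.X) : Prime t ∧ Nonempty ((↥(W4c6gradedringsgw.sectRing (Finsupp.single P 1 : FunFld.Divisor k K)) ⧸ Ideal.span {t}) ≃ₐ[k] AddMonoidAlgebra k ↥(AddSubmonoid.closure (W4c6gradedringsgw.poleOrders P))) := by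
  classical
  have hg' : 0 < FunFld.genus k K := hg
  obtain ⟨u, hu⟩ := P.2.2 (WithZero.exp (-1 : ℤ))
  have hker := Groth.Agent.Lib.helper10.FF.ker_leadHom hK P hu hg' t a ha ht
  have ht0 : t ≠ 0 := by
    intro h
    rw [h] at ht
    have h1 : ((0 : ↥(W4c6gradedringsgw.sectRing (Finsupp.single P 1 : FunFld.Divisor k K))) :
        Polynomial K).coeff 1 = (Polynomial.C a * Polynomial.X).coeff 1 := by rw [ht]
    rw [Polynomial.coeff_C_mul, Polynomial.coeff_X_one, mul_one] at h1
    exact ha h1.symm
  refine ⟨?_, ?_⟩
  · rw [← Ideal.span_singleton_prime ht0, ← hker]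
    exact RingHom.ker_isPrime _
  · set Φ := Groth.Agent.Lib.helper10.FF.leadHom hK P hu with hΦ
    set M := AddSubmonoid.closure (W4c6gradedringsgw.poleOrders P) with hM
    let ι : AddMonoidAlgebra k ↥M →ₐ[k] Polynomial k :=
      (Polynomial.toFinsuppIsoAlg k).symm.toAlgHom.comp
        (AddMonoidAlgebra.mapDomainAlgHom k k M.subtype)
    have hι : ∀ (m : ↥M) (c : k), ι (AddMonoidAlgebra.single m c) = Polynomial.monomial m.1 c := by
      intro m c
      simp only [ι, AlgHom.comp_apply, AddMonoidAlgebra.mapDomainAlgHom_apply,
        AddMonoidAlgebra.mapDomain_single]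
      rw [← Polynomial.ofFinsupp_single]
      rfl
    have hinj : Function.Injective ι := by
      intro x y h
      simp only [ι, AlgHom.comp_apply] at h
      have h2 := (Polynomial.toFinsuppIsoAlg k).symm.injective h
      exact AddMonoidAlgebra.mapDomain_injective Subtype.val_injective h2
    have hgen : ∀ n ∈ W4c6gradedringsgw.poleOrders P, Polynomial.monomial n (1 : k) ∈ Φ.range :=
      Groth.Agent.Lib.helper10.FF.monomial_mem_range_leadHom hK P hu
    have hcl : ∀ m ∈ M, Polynomial.monomial m (1 : k) ∈ Φ.range := by
      intro m hm
      induction hm using AddSubmonoid.closure_induction with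
      | mem x hx => exact hgen x hx
      | zero => rw [Polynomial.monomial_zero_one]; exact one_mem _
      | add x y _ _ hx hy =>
        have := mul_mem hx hy
        rwa [Polynomial.monomial_mul_monomial, mul_one] at this
    have hrange : Φ.range = ι.range := by
      apply le_antisymm
      · rintro _ ⟨p, rfl⟩
        show Φ p ∈ ι.range
        rw [Polynomial.as_sum_support (Φ p)]
        refine Subalgebra.sum_mem _ fun n hn => ?_
        have hn' : n ∈ W4c6gradedringsgw.poleOrders P :=
          Groth.Agent.Lib.helper10.FF.mem_poleOrders_of_coeff_leadHom hK P hu p n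
            (Polynomial.mem_support_iff.mp hn)
        exact ⟨AddMonoidAlgebra.single ⟨n, AddSubmonoid.subset_closure hn'⟩ _, hι _ _⟩
      · rintro _ ⟨x, rfl⟩
        induction x using AddMonoidAlgebra.induction_on with
        | of m =>
          rw [AddMonoidAlgebra.of_apply]
          show ι (AddMonoidAlgebra.single m 1) ∈ Φ.range
          rw [hι]
          exact hcl m.1 m.2
        | add x y hx hy =>
          show ι (x + y) ∈ Φ.range
          rw [map_add]; exact add_mem hx hy
        | smul r x hx =>
          show ι (r • x) ∈ Φ.range
          rw [map_smul]; exact Subalgebra.smul_mem _ hx r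
    exact ⟨(Ideal.quotientEquivAlgOfEq k hker.symm).trans
      ((Ideal.quotientKerEquivRange Φ).trans
        ((Subalgebra.equivOfEq _ _ hrange).trans (AlgEquiv.ofInjective ι hinj).symm))⟩

end Groth.Agent.S18668
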