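import Groth.Statements.S18672
import Mathlib

set_option autoImplicit false
universe u
open GrLC

namespace Groth.Agent.S18672

open DirectSum in
private theorem step {R : Type u} [CommRing R] (𝒜 : ℤ → AddSubgroup R) [GradedRing 𝒜]
    (hstd : Ideal.span (⋃ n ∈ Set.Ioi (0 : ℤ), (𝒜 n : Set R)) = Ideal.span ((𝒜 1 : AddSubgroup R) : Set R))
    (n : ℤ) (hn : 0 ≤ n) (x : R) (hx : x ∈ 𝒜 (n + 1)) :
    x ∈ AddSubgroup.closure {z : R | ∃ u ∈ 𝒜 n, ∃ y ∈ 𝒜 1, z = u * y} := by
  have hx' : x ∈ Ideal.span ((𝒜 1 : AddSubgroup R) : Set R) := by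
    rw [← hstd]
    refine Ideal.subset_span ?_
    simp only [Set.mem_iUnion, Set.mem_Ioi, SetLike.mem_coe, exists_prop]
    exact ⟨n + 1, by omega, hx⟩
  rw [Ideal.span, Submodule.mem_span_set'] at hx'
  obtain ⟨k, f, gg, hsum⟩ := hx'
  have h1 : (decompose 𝒜 x (n + 1) : R) = x := decompose_of_mem_same 𝒜 hx
  rw [← h1, ← hsum, decompose_sum, DFinsupp.finsetSum_apply, AddSubgroup.val_finsetSum]
  refine AddSubgroup.sum_mem _ fun i _ => ?_
  rw [smul_eq_mul, coe_decompose_mul_add_of_right_mem 𝒜 (gg i).2]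
  exact AddSubgroup.subset_closure ⟨_, (decompose 𝒜 (f i) n).2, _, (gg i).2, rfl⟩

private theorem mulspan {R : Type u} [CommRing R] (𝒜 : ℤ → AddSubgroup R) [GradedRing 𝒜]
    (hstd : Ideal.span (⋃ n ∈ Set.Ioi (0 : ℤ), (𝒜 n : Set R)) = Ideal.span ((𝒜 1 : AddSubgroup R) : Set R))
    (s : ℤ) (hs : 0 ≤ s) (t : ℕ) (x : R) (hx : x ∈ 𝒜 (s + t)) :
    x ∈ AddSubgroup.closure {z : R | ∃ v ∈ 𝒜 s, ∃ w ∈ 𝒜 (t : ℤ), z = v * w} := by
  induction t generalizing x with
  | zero =>
    refine AddSubgroup.subset_closure ⟨x, ?_, 1, ?_, (mul_one x).symm⟩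
    · simpa using hx
    · simpa using SetLike.GradedOne.one_mem (A := 𝒜)
  | succ t ih =>
    have hx1 : x ∈ 𝒜 ((s + t) + 1) := by
      have : s + ((t + 1 : ℕ) : ℤ) = (s + t) + 1 := by push_cast; ring
      rwa [this] at hx
    have h := step 𝒜 hstd (s + t) (by positivity) x hx1
    refine AddSubgroup.closure_induction (p := fun z _ => z ∈ AddSubgroup.closure {z : R | ∃ v ∈ 𝒜 s, ∃ w ∈ 𝒜 ((t + 1 : ℕ) : ℤ), z = v * w}) ?_ ?_ ?_ ?_ h
    · rintro z ⟨u, hu, y, hy, rfl⟩
      have hu' := ih u hu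
      refine AddSubgroup.closure_induction (p := fun u _ => u * y ∈ AddSubgroup.closure {z : R | ∃ v ∈ 𝒜 s, ∃ w ∈ 𝒜 ((t + 1 : ℕ) : ℤ), z = v * w}) ?_ ?_ ?_ ?_ hu'
      · rintro _ ⟨v, hv, w, hw, rfl⟩
        refine AddSubgroup.subset_closure ⟨v, hv, w * y, ?_, mul_assoc v w y⟩
        have := SetLike.GradedMul.mul_mem (A := 𝒜) hw hy
        push_cast
        exact this
      · rw [zero_mul]; exact zero_mem _
      · intro a b _ _ ha hb
        rw [add_mul]; exact add_mem ha hb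
      · intro a _ ha
        rw [neg_mul]; exact neg_mem ha
    · exact zero_mem _
    · intro a b _ _ ha hb
      exact add_mem ha hb
    · intro a _ ha
      exact neg_mem ha

/-- Let R be a graded ring defined over a field k = R_0 which is Cohen–Macaulay and generated over k by
R_1 (the standing hypotheses of this section; only generation in degree one is used), q ≥ 1, R' =
R^(q), and a an integer. Then the Veronese submodule [R(a)]^(q) = ⊕_j R_{a+jq} is generated over R'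
by its piece R(a)_n = R_{a+n}, where n is the smallest multiple of q with n + a ≥ 0. Here 'graded
ring defined over a field' means R = ⊕_{n ≥ 0} R_n is Noetherian with R_0 a field, and m = R_+ is
its unique graded maximal ideal. The Veronese subring R^(q) = ⊕_j R_{jq}, regraded by (R^(q))_j =
R_{jq}, is presented abstractly as a ℤ-graded ring R' with an injective ring homomorphism φ : R' → R
carrying R'_j onto R_{jq} for every j. The module [R(a)]^(q) is presented as a graded R'-module M'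
with an injective additive map g : M' → R, semilinear over φ, carrying M'_j onto R_{a+jq} for every
j; with n = j₀q, the conclusion is that the R'-span of M'_{j₀} is all of M'. -/
theorem result (R : Type u) [CommRing R] [LocCoh.IsCohenMacaulayRing R] (𝒜 : ℤ → AddSubgroup R) [GradedRing 𝒜] (hpos : ∀ n : ℤ, n < 0 → 𝒜 n = ⊥) (h0 : IsField (GrLC.deg0 𝒜)) (hstd : Ideal.span (⋃ n ∈ Set.Ioi (0 : ℤ), (𝒜 n : Set R)) = Ideal.span ((𝒜 1 : AddSubgroup R) : Set R)) (q : ℕ) (hq : 0 < q) (R' : Type u) [CommRing R'] (𝒜' : ℤ → AddSubgroup R') [GradedRing 𝒜'] (φ : R' →+* R) (hφ : Function.Injective φ) (hdeg : ∀ j : ℤ, (𝒜' j).map (φ : R' →+ R) = 𝒜 (j * q)) (a : ℤ) (M' : Type u) [AddCommGroup M'] [Module R' M'] (ℳ' : ℤ → AddSubgroup M') [DirectSum.Decomposition ℳ'] [SetLike.GradedSMul 𝒜' ℳ'] (g : M' →ₛₗ[φ] R) (hg : Function.Injective g) (hgdeg : ∀ j : ℤ, (ℳ' j).map (g : M' →+ R) = 𝒜 (a + j * q)) (j₀ : ℤ) (hj₀ : 0 ≤ a + j₀ * q) (hj₀' : a + (j₀ - 1) * q <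 0) : Submodule.span R' ((ℳ' j₀ : AddSubgroup M') : Set M') = ⊤ := by
  classical
  rw [eq_top_iff]
  intro x _
  -- reduce to homogeneous elements
  rw [← DirectSum.sum_support_decompose ℳ' x]
  refine Submodule.sum_mem _ fun j _ => ?_
  set m : M' := (DirectSum.decompose ℳ' x j : M') with hm_def
  have hm : m ∈ ℳ' j := (DirectSum.decompose ℳ' x j).2
  have hgm : g m ∈ 𝒜 (a + j * q) := by
    rw [← hgdeg j]
    exact ⟨m, hm, rfl⟩
  by_cases hj : j < j₀
  · have hneg : a + j * q < 0 := by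
      have h1 : j * (q : ℤ) ≤ (j₀ - 1) * q := by
        apply mul_le_mul_of_nonneg_right (by omega) (by positivity)
      omega
    rw [hpos _ hneg, AddSubgroup.mem_bot] at hgm
    have : m = 0 := hg (by rw [hgm, map_zero])
    rw [this]; exact zero_mem _
  · push Not at hj
    obtain ⟨t, ht⟩ : ∃ t : ℕ, (t : ℤ) = (j - j₀) * q := by
      refine ⟨((j - j₀) * q).toNat, Int.toNat_of_nonneg ?_⟩
      apply mul_nonneg (by omega) (by positivity)
    have hgm' : g m ∈ 𝒜 ((a + j₀ * q) + t) := by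
      have : (a + j₀ * q) + t = a + j * q := by rw [ht]; ring
      rwa [this]
    have h := mulspan 𝒜 hstd (a + j₀ * q) hj₀ t (g m) hgm'
    have key : ∀ z ∈ AddSubgroup.closure {z : R | ∃ v ∈ 𝒜 (a + j₀ * q), ∃ w ∈ 𝒜 (t : ℤ), z = v * w},
        ∃ m' ∈ Submodule.span R' ((ℳ' j₀ : AddSubgroup M') : Set M'), g m' = z := by
      intro z hz
      refine AddSubgroup.closure_induction (p := fun z _ => ∃ m' ∈ Submodule.span R' ((ℳ' j₀ : AddSubgroup M') : Set M'), g m' = z) ?_ ?_ ?_ ?_ hz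
      · rintro _ ⟨v, hv, w, hw, rfl⟩
        rw [← hgdeg j₀] at hv
        obtain ⟨m₀, hm₀, rfl⟩ := hv
        rw [ht, ← hdeg (j - j₀)] at hw
        obtain ⟨r', hr', rfl⟩ := hw
        refine ⟨r' • m₀, Submodule.smul_mem _ _ (Submodule.subset_span hm₀), ?_⟩
        rw [map_smulₛₗ, smul_eq_mul, mul_comm]
        rfl
      · exact ⟨0, zero_mem _, map_zero _⟩
      · rintro a b _ _ ⟨ma, hma, rfl⟩ ⟨mb, hmb, rfl⟩
        exact ⟨ma + mb, add_mem hma hmb, map_add _ _ _⟩
      · rintro a _ ⟨ma, hma, rfl⟩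
        exact ⟨-ma, neg_mem hma, map_neg _ _⟩
    obtain ⟨m', hm', hgm'⟩ := key _ h
    have : m = m' := hg hgm'.symm
    rw [this]; exact hm'

end Groth.Agent.S18672
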