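import Groth.Statements.S18685
import Mathlib
import Groth.Agent.Lib.Helper10.GLat5

set_option autoImplicit false
open GLat

namespace Groth.Agent.S18685

set_option linter.style.haveILetI false
set_option linter.unusedSectionVars false

open GLat Groth.Agent.Lib.helper10.GLatD Groth.Agent.S18675

theorem pack85 (G : Type) [Group G] [Finite G] (A : Type) [AddCommGroup A]
    (ρ : Representation ℤ G A)
    (P : Type) [iP : AddCommGroup P] [mP : Module ℤ P] (F : Type) [iF : AddCommGroup F]
    (fP : Module.Finite ℤ P) (frP : Module.Free ℤ P) (fF : Module.Finite ℤ F)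
    (frF : Module.Free ℤ F)
    (σ : Representation ℤ G P) (τ : Representation ℤ G F) (i : P →ₗ[ℤ] F) (π : F →ₗ[ℤ] A)
    (h1 : ∀ g m, i (σ g m) = τ g (i m)) (h2 : ∀ g m, π (τ g m) = ρ g (π m))
    (h3 : Function.Injective i) (h4 : Function.Surjective π)
    (h5 : LinearMap.range i = LinearMap.ker π)
    (h6 : ∃ (ι : Type) (b : Module.Basis ι ℤ P), ∀ (g : G) (i : ι), ∃ j : ι, σ g (b i) = b j)
    (h7 : Flq τ) :
    ∃ (P : Type) (_ : AddCommGroup P) (F : Type) (_ : AddCommGroup F)
      (_ : Module.Finite ℤ P) (_ : Module.Free ℤ P) (_ : Module.Finite ℤ F) (_ : Module.Free ℤ F)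
      (σ : Representation ℤ G P) (τ : Representation ℤ G F) (i : P →ₗ[ℤ] F) (π : F →ₗ[ℤ] A),
      GLat.IsEquivariant σ τ i ∧ GLat.IsEquivariant τ ρ π ∧ Function.Injective i ∧
      Function.Surjective π ∧
      LinearMap.range i = LinearMap.ker π ∧ GLat.IsPermutation σ ∧ GLat.IsFlasque τ := by
  obtain rfl : mP = AddCommGroup.toIntModule P := Subsingleton.elim _ _
  exact ⟨P, iP, F, iF, fP, frP, fF, frF, σ, τ, i, π, h1, h2, h3, h4, h5, h6,
    isFlasque_of_flq τ h7⟩

theorem main (G : Type) [Group G] [Finite G]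
    (A : Type) [AddCommGroup A] [Module.Finite ℤ A] (ρ : Representation ℤ G A) :
    ∃ (P : Type) (_ : AddCommGroup P) (F : Type) (_ : AddCommGroup F)
      (_ : Module.Finite ℤ P) (_ : Module.Free ℤ P) (_ : Module.Finite ℤ F) (_ : Module.Free ℤ F)
      (σ : Representation ℤ G P) (τ : Representation ℤ G F) (i : P →ₗ[ℤ] F) (π : F →ₗ[ℤ] A),
      GLat.IsEquivariant σ τ i ∧ GLat.IsEquivariant τ ρ π ∧ Function.Injective i ∧
      Function.Surjective π ∧
      LinearMap.range i = LinearMap.ker π ∧ GLat.IsPermutation σ ∧ GLat.IsFlasque τ := by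
  classical
  obtain ⟨I₁, hI₁fin, hI₁act, F, iF, hFfin, hFfree, τ, ι, π, h1, h2, h3, h4, h5, h6⟩ :=
    exists_perm_flasque_cover ρ
  haveI := hI₁fin
  letI := hI₁act
  refine pack85 G A ρ (I₁ →₀ ℤ) F inferInstance inferInstance hFfin hFfree
    tau τ ι.toIntLinearMap π.toIntLinearMap h1 h2 h3 h4 ?_
    ⟨I₁, Finsupp.basisSingleOne, fun g j => ⟨g • j, by simp [tau_single]⟩⟩ h6
  ext f
  rw [LinearMap.mem_ker]
  exact h5 f



/-- For a finite group G and a finitely generated G-module A there is an exact sequence 0 → P → F → A →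
0 of finitely generated G-modules with P a permutation lattice and F a flasque lattice; rendered by
equivariant ℤ-linear maps i : P → F injective, π : F → A surjective, with range i = ker π. -/
theorem result (G : Type) [Group G] [Finite G]
    (A : Type) [AddCommGroup A] [Module.Finite ℤ A] (ρ : Representation ℤ G A) :
    ∃ (P : Type) (_ : AddCommGroup P) (F : Type) (_ : AddCommGroup F)
      (_ : Module.Finite ℤ P) (_ : Module.Free ℤ P) (_ : Module.Finite ℤ F) (_ : Module.Free ℤ F)
      (σ : Representation ℤ G P) (τ : Representation ℤ G F) (i : P →ₗ[ℤ] F) (π : F →ₗ[ℤ] A),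
      GLat.IsEquivariant σ τ i ∧ GLat.IsEquivariant τ ρ π ∧ Function.Injective i ∧ Function.Surjective π ∧
      LinearMap.range i = LinearMap.ker π ∧ GLat.IsPermutation σ ∧ GLat.IsFlasque τ := by
  exact main G A ρ

end Groth.Agent.S18685
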