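import Groth.Statements.S18686
import Mathlib
import Groth.Agent.Lib.Helper10.GLat4

set_option autoImplicit false
open GLat

namespace Groth.Agent.S18686

set_option linter.style.haveILetI false
set_option linter.unusedSectionVars false

open GLat Groth.Agent.Lib.helper10.GLatD Groth.Agent.S18675

theorem pack86 (G : Type) [Group G] [Finite G] (A : Type) [AddCommGroup A]
    (ρ : Representation ℤ G A)
    (P : Type) [iP : AddCommGroup P] [mP : Module ℤ P] (F : Type) [iF : AddCommGroup F]
    (fP : Module.Finite ℤ P) (frP : Module.Free ℤ P) (fF : Module.Finite ℤ F)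
    (frF : Module.Free ℤ F)
    (σ : Representation ℤ G P) (τ : Representation ℤ G F) (i : A →ₗ[ℤ] P) (π : P →ₗ[ℤ] F)
    (h1 : ∀ g m, i (ρ g m) = σ g (i m)) (h2 : ∀ g m, π (σ g m) = τ g (π m))
    (h3 : Function.Injective i) (h4 : Function.Surjective π)
    (h5 : LinearMap.range i = LinearMap.ker π)
    (h6 : ∃ (ι : Type) (b : Module.Basis ι ℤ P), ∀ (g : G) (i : ι), ∃ j : ι, σ g (b i) = b j)
    (h7 : Flq τ) :
    ∃ (P : Type) (_ : AddCommGroup P) (F : Type) (_ : AddCommGroup F)
      (_ : Module.Finite ℤ P) (_ : Module.Free ℤ P) (_ : Module.Finite ℤ F) (_ : Module.Free ℤ F)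
      (σ : Representation ℤ G P) (τ : Representation ℤ G F) (i : A →ₗ[ℤ] P) (π : P →ₗ[ℤ] F),
      GLat.IsEquivariant ρ σ i ∧ GLat.IsEquivariant σ τ π ∧ Function.Injective i ∧
      Function.Surjective π ∧
      LinearMap.range i = LinearMap.ker π ∧ GLat.IsPermutation σ ∧ GLat.IsFlasque τ := by
  obtain rfl : mP = AddCommGroup.toIntModule P := Subsingleton.elim _ _
  exact ⟨P, iP, F, iF, fP, frP, fF, frF, σ, τ, i, π, h1, h2, h3, h4, h5, h6,
    isFlasque_of_flq τ h7⟩

theorem main (G : Type) [Group G] [Finite G]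
    (A : Type) [AddCommGroup A] [Module.Finite ℤ A] [Module.Free ℤ A]
    (ρ : Representation ℤ G A) :
    ∃ (P : Type) (_ : AddCommGroup P) (F : Type) (_ : AddCommGroup F)
      (_ : Module.Finite ℤ P) (_ : Module.Free ℤ P) (_ : Module.Finite ℤ F) (_ : Module.Free ℤ F)
      (σ : Representation ℤ G P) (τ : Representation ℤ G F) (i : A →ₗ[ℤ] P) (π : P →ₗ[ℤ] F),
      GLat.IsEquivariant ρ σ i ∧ GLat.IsEquivariant σ τ π ∧ Function.Injective i ∧
      Function.Surjective π ∧
      LinearMap.range i = LinearMap.ker π ∧ GLat.IsPermutation σ ∧ GLat.IsFlasque τ := by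
  classical
  obtain ⟨I, hIfin, hIact, i, hequiv, hinj, hK, hFfin, hFfree, hflq⟩ := exists_flasque_quot ρ
  haveI := hIfin
  letI := hIact
  refine pack86 G A ρ (I →₀ ℤ) ((I →₀ ℤ) ⧸ i.range) inferInstance inferInstance hFfin hFfree
    tau (quotRep tau i.range hK) i.toIntLinearMap (QuotientAddGroup.mk' i.range).toIntLinearMap
    hequiv (fun g m => rfl) hinj (QuotientAddGroup.mk'_surjective _) ?_
    ⟨I, Finsupp.basisSingleOne, fun g j => ⟨g • j, by simp [tau_single]⟩⟩ hflq
  ext y
  rw [LinearMap.mem_ker]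
  show y ∈ Set.range i ↔ QuotientAddGroup.mk' i.range y = 0
  exact (QuotientAddGroup.eq_zero_iff (N := i.range) y).symm



/-- For a finite group G and a G-lattice A (finitely generated and free over ℤ) there is an exact
sequence 0 → A → P → F → 0 of G-lattices with P a permutation lattice and F flasque (a flasque
resolution of A); rendered by equivariant ℤ-linear maps i : A → P injective, π : P → F surjective,
with range i = ker π. -/
theorem result (G : Type) [Group G] [Finite G]
    (A : Type) [AddCommGroup A] [Module.Finite ℤ A] [Module.Free ℤ A] (ρ : Representation ℤ G A) :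
    ∃ (P : Type) (_ : AddCommGroup P) (F : Type) (_ : AddCommGroup F)
      (_ : Module.Finite ℤ P) (_ : Module.Free ℤ P) (_ : Module.Finite ℤ F) (_ : Module.Free ℤ F)
      (σ : Representation ℤ G P) (τ : Representation ℤ G F) (i : A →ₗ[ℤ] P) (π : P →ₗ[ℤ] F),
      GLat.IsEquivariant ρ σ i ∧ GLat.IsEquivariant σ τ π ∧ Function.Injective i ∧ Function.Surjective π ∧
      LinearMap.range i = LinearMap.ker π ∧ GLat.IsPermutation σ ∧ GLat.IsFlasque τ := by
  exact main G A ρ

end Groth.Agent.S18686
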