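import Groth.Statements.S18710
import Mathlib
import Groth.Agent.Lib.Helper26.SkFlat2
import Groth.Agent.Lib.Helper26.DepthLoc

set_option autoImplicit false
universe u
open QGor

namespace Groth.Agent.S18710


open Groth.Agent.Lib.helper26.Depth Groth.Agent.Lib.helper26.SkFlat
  Groth.Agent.Lib.Helper24.FlatDepth IsLocalRing LocCoh TensorProduct

lemma mem_support_self {B : Type u} [CommRing B] (q : PrimeSpectrum B) :
    q ∈ Module.support B B := by
  rw [Module.mem_support_iff_of_finite]
  intro x hx
  have h1 := Module.mem_annihilator.mp hx (1 : B)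
  rw [smul_eq_mul, mul_one] at h1
  rw [h1]
  exact zero_mem _

/-- over a prime `p` in the image, there is a prime `q'` over `p` with zero-dimensional fibre
stalk. -/
lemma exists_prime_over (A B : Type u) [CommRing A] [CommRing B]
    [IsNoetherianRing A] [IsNoetherianRing B] [Algebra A B] [Module.Flat A B]
    (p : PrimeSpectrum A)
    (hp : ∃ q : PrimeSpectrum B, q.asIdeal.comap (algebraMap A B) = p.asIdeal) :
    ∃ (q' : Ideal B) (_ : q'.IsPrime), q'.comap (algebraMap A B) = p.asIdeal ∧
      q' ∈ (p.asIdeal.map (algebraMap A B)).minimalPrimes ∧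
      Nontrivial (EGA4.FibLocMod A B q' B) ∧
      Module.supportDim (Localization.AtPrime q') (EGA4.FibLocMod A B q' B) ≤ 0 := by
  obtain ⟨q0, hq0⟩ := hp
  have hpp : p.asIdeal.IsPrime := p.isPrime
  have hle : p.asIdeal.map (algebraMap A B) ≤ q0.asIdeal :=
    Ideal.map_le_iff_le_comap.mpr (le_of_eq hq0.symm)
  obtain ⟨q1, hq1min, hq1le⟩ := Ideal.exists_minimalPrimes_le hle
  have hq1prime : q1.IsPrime := hq1min.1.1
  have hcomap1 : p.asIdeal ≤ q1.comap (algebraMap A B) :=
    Ideal.map_le_iff_le_comap.mp hq1min.1.2
  obtain ⟨q', hq'prime, hq'le, hcomap, hq'supp, hdim⟩ :=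
    exists_prime_le_comap_eq A B B ⟨q1, hq1prime⟩ (mem_support_self _) p.asIdeal hcomap1
  have hq'q1 : q' = q1 := by
    refine le_antisymm hq'le (hq1min.2 ⟨hq'prime, ?_⟩ hq'le)
    exact Ideal.map_le_iff_le_comap.mpr (le_of_eq hcomap.symm)
  subst hq'q1
  exact ⟨q', hq'prime, hcomap, hq1min, nontrivial_fibLocMod A B B q' hq'supp, hdim⟩


open TensorProduct in
/-- Affine form. Let A → B be a flat homomorphism of Noetherian rings and I an ideal of A with V(I)
contained in the image of Spec B → Spec A (every prime containing I is a contraction of a prime of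
B). Then ht(IB) = ht(I) (codimension of the preimage equals codimension), and for every finite
A-module G one has depth_{IB} (B ⊗_A G) = depth_I G. -/
theorem result (A B : Type u) [CommRing A] [CommRing B]
    [IsNoetherianRing A] [IsNoetherianRing B] [Algebra A B] [Module.Flat A B] (I : Ideal A)
    (hI : ∀ p : PrimeSpectrum A, I ≤ p.asIdeal → ∃ q : PrimeSpectrum B, q.asIdeal.comap (algebraMap A B) = p.asIdeal)
    (G : Type u) [AddCommGroup G] [Module A G] [Module.Finite A G] :
    (I.map (algebraMap A B)).height = I.height ∧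
    LocCoh.idealDepth (I.map (algebraMap A B)) (B ⊗[A] G) = LocCoh.idealDepth I G := by
  have hfinT : Module.Finite B (B ⊗[A] G) := finite_tensor A B B G
  constructor
  · have hGD : Algebra.HasGoingDown A B := Algebra.HasGoingDown.of_flat
    apply le_antisymm
    · rw [Ideal.height_eq_inf_minimalPrimes I]
      refine le_iInf₂ fun p hp => ?_
      have hpprime : p.IsPrime := hp.1.1
      obtain ⟨q', hq'prime, hcomap, hq'min, -, -⟩ :=
        exists_prime_over A B ⟨p, hpprime⟩ (hI ⟨p, hpprime⟩ hp.1.2)
      have hlo : q'.LiesOver p := ⟨hcomap.symm⟩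
      have h1 := Ideal.height_eq_height_add_of_liesOver_of_hasGoingDown p q'
      have h2 : (q'.map (Ideal.Quotient.mk (p.map (algebraMap A B)))).height = 0 := by
        rw [Ideal.minimalPrimes_eq_comap] at hq'min
        obtain ⟨P', hP', hP'eq⟩ := hq'min
        have hP'prime : P'.IsPrime := hP'.1.1
        rw [← hP'eq, Ideal.map_comap_of_surjective _ Ideal.Quotient.mk_surjective]
        exact Ideal.height_eq_zero_iff.mpr hP'
      rw [h2, add_zero] at h1
      have hle : I.map (algebraMap A B) ≤ q' :=
        Ideal.map_le_iff_le_comap.mpr (hp.1.2.trans (le_of_eq hcomap.symm))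
      calc (I.map (algebraMap A B)).height ≤ q'.height := Ideal.height_mono hle
        _ = p.height := h1
    · rw [Ideal.height_eq_inf_minimalPrimes (I.map (algebraMap A B))]
      refine le_iInf₂ fun Q hQ => ?_
      have hQprime : Q.IsPrime := hQ.1.1
      have hlo : Q.LiesOver (Q.comap (algebraMap A B)) := ⟨rfl⟩
      have h1 := Ideal.height_eq_height_add_of_liesOver_of_hasGoingDown
        (Q.comap (algebraMap A B)) Q
      calc I.height ≤ (Q.comap (algebraMap A B)).height :=
            Ideal.height_mono (Ideal.map_le_iff_le_comap.mp hQ.1.2)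
        _ ≤ Q.height := by rw [h1]; exact le_self_add
  · rw [idealDepth_eq_iInf_depth_localization, idealDepth_eq_iInf_depth_localization]
    apply le_antisymm
    · refine le_iInf₂ fun p hp => ?_
      obtain ⟨q', hq'prime, hcomap, hq'min, hnt, hdim⟩ := exists_prime_over A B p (hI p hp)
      have hle : I.map (algebraMap A B) ≤ q' :=
        Ideal.map_le_iff_le_comap.mpr (hp.trans (le_of_eq hcomap.symm))
      refine (iInf₂_le (⟨q', hq'prime⟩ : PrimeSpectrum B) hle).trans ?_
      obtain ⟨hdepth, -⟩ := depth_supportDim_localization_tensor A B q' G B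
      obtain ⟨-, hd0⟩ := supportDim_depth_eq_zero_of_le A B B q' hdim
      change depth (Localization.AtPrime q') (LocalizedModule q'.primeCompl (B ⊗[A] G)) ≤ _
      rw [hdepth, hd0, add_zero]
      have hpp : p.asIdeal.IsPrime := p.isPrime
      obtain ⟨c1, -⟩ := Groth.Agent.Lib.helper26.SkAt.congr_prime G _ p.asIdeal hcomap
      rw [c1]
    · refine le_iInf₂ fun q hq => ?_
      have hqp : I ≤ q.asIdeal.comap (algebraMap A B) := Ideal.map_le_iff_le_comap.mp hq
      refine (iInf₂_le (⟨q.asIdeal.comap (algebraMap A B), inferInstance⟩ : PrimeSpectrum A)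
        hqp).trans ?_
      obtain ⟨hdepth, -⟩ := depth_supportDim_localization_tensor A B q.asIdeal G B
      rw [hdepth]
      exact le_self_add


end Groth.Agent.S18710
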