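import Groth.Statements.S18718
import Mathlib
import Groth.Agent.Lib.Helper26.QG2
import Groth.Agent.Lib.Helper26.QG3
import Groth.Agent.Lib.Helper26.QG4
import Groth.Agent.Lib.Helper26.QG5
import Groth.Agent.Lib.Helper26.QG6
import Groth.Agent.Lib.Helper26.ReflexivePres

set_option autoImplicit false
universe u
open QGor

namespace Groth.Agent.S18718

open TensorProduct in
/-- Affine form. Let A → B be a flat homomorphism of Noetherian rings, J an ideal of B such that the
fibre local ring B_q/pB_q has depth ≥ 2 at every prime q ⊇ J (p its contraction), A → A′ a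
homomorphism of Noetherian rings with Noetherian pushout B′ = A′ ⊗_A B, and F a finite B-module with
F_q free for every prime q not containing J. Then depth_J (F^∨∨) ≥ 2 (the double dual is the module
of sections of F off V(J)); the natural map (B′ ⊗_B F)^∨∨ → (B′ ⊗_B F^∨∨)^∨∨ obtained by dualising
twice the base change of F → F^∨∨ is bijective; and if moreover F is flat over A and the fibre
stalks F_q/pF_q have depth ≥ 2 at all primes q ⊇ J, then F and B′ ⊗_B F are reflexive. -/
theorem result (A B : Type u) [CommRing A] [CommRing B] [IsNoetherianRing A] [IsNoetherianRing B] [Algebra A B]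
    (A' B' : Type u) [CommRing A'] [CommRing B'] [IsNoetherianRing A'] [IsNoetherianRing B']
    [Algebra A A'] [Algebra B B'] [Algebra A' B'] [Algebra A B'] [IsScalarTower A B B'] [IsScalarTower A A' B']
    [Algebra.IsPushout A B A' B'] [Module.Flat A B] (J : Ideal B)
    (hZ : ∀ q : PrimeSpectrum B, J ≤ q.asIdeal →
      2 ≤ LocCoh.idealDepth (q.asIdeal.map (algebraMap B (EGA4.FibLocRing A B q.asIdeal))) (EGA4.FibLocRing A B q.asIdeal))
    (F : Type u) [AddCommGroup F] [Module B F] [Module A F] [IsScalarTower A B F] [Module.Finite B F]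
    (hFU : ∀ q : PrimeSpectrum B, ¬ J ≤ q.asIdeal → Module.Free (Localization.AtPrime q.asIdeal) (LocalizedModule q.asIdeal.primeCompl F)) :
    2 ≤ LocCoh.idealDepth J (Module.Dual B (Module.Dual B F)) ∧
    Function.Bijective (((Module.Dual.eval B F).baseChange B').dualMap.dualMap) ∧
    (Module.Flat A F →
      (∀ q : PrimeSpectrum B, J ≤ q.asIdeal →
        2 ≤ LocCoh.idealDepth (q.asIdeal.map (algebraMap B (EGA4.FibLocRing A B q.asIdeal))) (EGA4.FibLocMod A B q.asIdeal F)) →
      Module.IsReflexive B F ∧ Module.IsReflexive B' (B' ⊗[B] F)) := by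
  classical
  have h2B : 2 ≤ LocCoh.idealDepth J B :=
    Groth.Agent.Lib.helper26.QG.le_idealDepth_self_of_fibre A B J 2 hZ
  have h1B : 1 ≤ LocCoh.idealDepth J B := le_trans (by norm_num) h2B
  have hflatB' : Module.Flat A' B' := Groth.Agent.Lib.helper26.QG.flat_baseChange A B A' B'
  have hZ' := Groth.Agent.Lib.helper26.QG.fibre_depth_baseChange A B A' B' J 2 hZ
  have h2B' : 2 ≤ LocCoh.idealDepth (J.map (algebraMap B B')) B' :=
    Groth.Agent.Lib.helper26.QG.le_idealDepth_self_of_fibre A' B' _ 2 hZ'
  refine ⟨?_, ?_, ?_⟩
  · exact (Groth.Agent.Lib.helper26.Depth.idealDepth_hom (Module.Dual B F) B J).2 h2B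
  · -- approximate inverses of the evaluation map off `V(J)`
    have happ : ∀ p' : Ideal B', p'.IsPrime → ¬ J.map (algebraMap B B') ≤ p' →
        ∃ (ρ : Module.Dual B (Module.Dual B F) →ₗ[B] F) (s : B), algebraMap B B' s ∉ p' ∧
          ρ ∘ₗ Module.Dual.eval B F = s • LinearMap.id ∧
          Module.Dual.eval B F ∘ₗ ρ = s • LinearMap.id := by
      intro p' hp' hJp'
      have hprime : (p'.comap (algebraMap B B')).IsPrime := inferInstance
      have hJq : ¬ J ≤ p'.comap (algebraMap B B') :=
        fun h => hJp' (Ideal.map_le_iff_le_comap.mpr h)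
      have : Module.Free (Localization.AtPrime (p'.comap (algebraMap B B')))
          (LocalizedModule (p'.comap (algebraMap B B')).primeCompl F) := hFU ⟨_, hprime⟩ hJq
      have : Module.FinitePresentation B (Module.Dual B (Module.Dual B F)) :=
        Module.finitePresentation_of_finite B _
      have hbij := Groth.Agent.Lib.helper26.QG.bijective_map_eval (p'.comap (algebraMap B B')) F
      obtain ⟨ρ, s, hs, h1, h2⟩ := Groth.Agent.Lib.helper26.QG.exists_approx_inverse
        (p'.comap (algebraMap B B')).primeCompl
        (M' := LocalizedModule (p'.comap (algebraMap B B')).primeCompl F)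
        (N' := LocalizedModule (p'.comap (algebraMap B B')).primeCompl
          (Module.Dual B (Module.Dual B F)))
        (LocalizedModule.mkLinearMap (p'.comap (algebraMap B B')).primeCompl F)
        (LocalizedModule.mkLinearMap (p'.comap (algebraMap B B')).primeCompl
          (Module.Dual B (Module.Dual B F)))
        (Module.Dual.eval B F) hbij
      exact ⟨ρ, s, hs, h1, h2⟩
    have hφ' : Function.Bijective ((Module.Dual.eval B F).baseChange B').dualMap := by
      apply Groth.Agent.Lib.helper26.QG.dualMap_bijective_of_torsion (J.map (algebraMap B B')) h2B'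
      · intro x hx p' hp' hJp'
        obtain ⟨ρ, s, hs, h1, -⟩ := happ p' hp' hJp'
        refine ⟨algebraMap B B' s, hs, ?_⟩
        have h3 : (ρ.baseChange B') (((Module.Dual.eval B F).baseChange B') x) = s • x := by
          rw [← LinearMap.comp_apply, ← LinearMap.baseChange_comp, h1, LinearMap.baseChange_smul,
            LinearMap.baseChange_id]
          rfl
        rw [algebraMap_smul, ← h3, LinearMap.mem_ker.mp hx, map_zero]
      · intro y p' hp' hJp'
        obtain ⟨ρ, s, hs, -, h2⟩ := happ p' hp' hJp'
        refine ⟨algebraMap B B' s, hs, (ρ.baseChange B') y, ?_⟩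
        rw [← LinearMap.comp_apply, ← LinearMap.baseChange_comp, h2, LinearMap.baseChange_smul,
          LinearMap.baseChange_id, algebraMap_smul]
        rfl
    have hdd : ((Module.Dual.eval B F).baseChange B').dualMap.dualMap =
        ((LinearEquiv.ofBijective _ hφ').dualMap : _ →ₗ[B'] _) := by
      ext ξ l
      rfl
    rw [hdd]
    exact (LinearEquiv.ofBijective _ hφ').dualMap.bijective
  · intro hflat hK
    have hF2 : 2 ≤ LocCoh.idealDepth J F :=
      Groth.Agent.Lib.helper26.FibMod.le_idealDepth_of_fibre A B F J 2 hK
    have hUrefl : ∀ q : PrimeSpectrum B, ¬ J ≤ q.asIdeal →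
        Module.IsReflexive (Localization.AtPrime q.asIdeal)
          (LocalizedModule q.asIdeal.primeCompl F) := by
      intro q hq
      have := hFU q hq
      infer_instance
    have hFrefl : Module.IsReflexive B F :=
      Groth.Agent.Lib.helper26.Depth.isReflexive_of_two_le_idealDepth J h1B F hUrefl hF2
    obtain ⟨n, m, g, h, hg, hgh, hfree⟩ :=
      Groth.Agent.Lib.helper26.ReflexivePres.exists_fourTerm B J F hFU
    have huv : Function.Exact h (LinearMap.range h).mkQ := LinearMap.exact_map_mkQ_range h
    have hv : Function.Surjective (LinearMap.range h).mkQ := Submodule.mkQ_surjective _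
    have hGflat : Module.Flat A ((Fin m → B) ⧸ LinearMap.range h) :=
      Groth.Agent.Lib.helper26.QG.flat_coker_of_fibre_depth A B J g h (LinearMap.range h).mkQ
        hg hgh huv hv hZ hfree hK
    have : Module.Flat A (Fin m → B) := Module.Flat.trans A B (Fin m → B)
    obtain ⟨hinj', hex'⟩ := Groth.Agent.Lib.helper26.QG.baseChange_exact_of_flat_coker A B A' B'
      g h (LinearMap.range h).mkQ hg hgh huv hv
    have hf' : Function.Injective (LinearMap.ker (h.baseChange B')).subtype :=
      (LinearMap.ker (h.baseChange B')).injective_subtype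
    have hfu' : Function.Exact (LinearMap.ker (h.baseChange B')).subtype (h.baseChange B') :=
      LinearMap.exact_subtype_ker_map _
    have huv' : Function.Exact (h.baseChange B') ((LinearMap.range h).mkQ.baseChange B') :=
      lTensor_exact B' huv hv
    have hv' : Function.Surjective ((LinearMap.range h).mkQ.baseChange B') :=
      LinearMap.lTensor_surjective B' hv
    have hGU' : ∀ q' : PrimeSpectrum B', ¬ J.map (algebraMap B B') ≤ q'.asIdeal →
        Module.Free (Localization.AtPrime q'.asIdeal)
          (LocalizedModule q'.asIdeal.primeCompl (B' ⊗[B] ((Fin m → B) ⧸ LinearMap.range h))) := by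
      intro q' hq'
      apply Groth.Agent.Lib.helper26.QG.free_localizedModule_baseChange
      have hprime : (q'.asIdeal.comap (algebraMap B B')).IsPrime := inferInstance
      exact hfree ⟨_, hprime⟩ (fun h => hq' (Ideal.map_le_iff_le_comap.mpr h))
    have hT := Groth.Agent.Lib.helper26.QG.isReflexive_and_two_le_idealDepth A' B'
      (J.map (algebraMap B B')) (K := LinearMap.ker (h.baseChange B'))
      (LinearMap.ker (h.baseChange B')).subtype (h.baseChange B')
      ((LinearMap.range h).mkQ.baseChange B') hf' hfu' huv' hv' hZ' hGU'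
    have := hT.1
    let e : B' ⊗[B] F ≃ₗ[B'] LinearMap.ker (h.baseChange B') :=
      (LinearEquiv.ofInjective _ hinj').trans
        (LinearEquiv.ofEq _ _ (LinearMap.exact_iff.mp hex').symm)
    exact ⟨hFrefl, Module.equiv e.symm⟩

end Groth.Agent.S18718
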