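import Groth.Statements.S1873
import Groth.Agent.Lib.Helper2.IM8
import Groth.Agent.Lib.Helper2.IM12
import Groth.Agent.Lib.Helper7.SurfCartierReg

set_option autoImplicit false
universe u
open CategoryTheory AlgebraicGeometry
attribute [local instance] HasDerivedCategory.standard
open IntMult

namespace Groth.Agent.S1873

/-- If the multiplicity of Z in the closed subscheme V ∩ W is 1, i.e. length_{O_{X,ξ}}(O_{V∩W,ξ}) = 1,
then e(X, V·W, Z) = 1 and the local rings O_{V,ξ}, O_{W,ξ} are regular (V and W are smooth at a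
general point of Z). Here X is a nonsingular variety over an algebraically closed field K (smooth,
separated, of finite type, integral), V and W are closed subvarieties given by quasi-coherent ideal
sheaves with integral subschemes, of dimensions r and s with dim X = n, intersecting properly, and ξ
is the generic point of an irreducible component Z of V ∩ W; e(X, V·W, Z) is the alternating sum of
lengths of Tor over O_{X,ξ}. -/
theorem result (K : Type u) [Field K] [IsAlgClosed K] (X : Scheme.{u}) (f : X ⟶ Spec (CommRingCat.of K)) [Smooth f] [IsSeparated f] [QuasiCompact f] [IsIntegral X] (IV IW : X.IdealSheafData) [IsIntegral IV.subscheme] [IsIntegral IW.subscheme] (n r s : ℕ) (hn : topologicalKrullDim X = n) (hr : topologicalKrullDim IV.support = r) (hs : topologicalKrullDim IW.support = s) (hprop : IntMult.ProperInt (IV.support : Set X) (IW.support : Set X) n r s) (ξ : X) (hξV : ξ ∈ IV.support) (hξW : ξ ∈ IW.support) (hmax : ∀ ξ' : X, ξ' ∈ IV.support → ξ' ∈ IW.support → ξ' ⤳ ξ →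 ξ' = ξ) (h1 : Module.length (X.presheaf.stalk ξ) (↑(X.presheaf.stalk ξ) ⧸ (IntMult.stalkIdeal IV ξ ⊔ IntMult.stalkIdeal IW ξ)) = 1) : IntMult.mult IV IW ξ = 1 ∧ IsRegularLocalRing (↑(X.presheaf.stalk ξ) ⧸ IntMult.stalkIdeal IV ξ) ∧ IsRegularLocalRing (↑(X.presheaf.stalk ξ) ⧸ IntMult.stalkIdeal IW ξ) := by
  haveI : IsLocallyNoetherian X := LocallyOfFiniteType.isLocallyNoetherian f
  haveI hregA : IsRegularLocalRing (X.presheaf.stalk ξ) :=
    Groth.Agent.Lib.helper7.SurfCartier.isRegularLocalRing_stalk_of_smooth f ξ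
  obtain ⟨D, a, v, w, ha, hv, hw, h1', h2, h3, h4, h5⟩ :=
    Groth.Agent.Lib.helper2.IM.dim_package K f IV IW n r s hn hr hs hprop ξ hξV hξW
  have hPV := Groth.Agent.Lib.helper2.IM.isPrime_stalkIdeal IV ξ hξV
  have hPW := Groth.Agent.Lib.helper2.IM.isPrime_stalkIdeal IW ξ hξW
  have hsup : IntMult.stalkIdeal IV ξ ⊔ IntMult.stalkIdeal IW ξ =
      IsLocalRing.maximalIdeal (X.presheaf.stalk ξ) := by
    have hs' := Module.length_eq_one_iff.1 h1
    rw [isSimpleModule_iff_isCoatom, ← Ideal.isMaximal_def] at hs'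
    exact IsLocalRing.eq_maximalIdeal hs'
  haveI : IsLocalRing (↑(X.presheaf.stalk ξ) ⧸ IntMult.stalkIdeal IV ξ) :=
    Groth.Agent.Lib.helper15.isLocalRing_quotient _ hPV.ne_top
  haveI : IsLocalRing (↑(X.presheaf.stalk ξ) ⧸ IntMult.stalkIdeal IW ξ) :=
    Groth.Agent.Lib.helper15.isLocalRing_quotient _ hPW.ne_top
  obtain ⟨hrV, hrW, hsum⟩ := Groth.Agent.Lib.helper2.IM.regular_of_sup_eq_maximalIdeal
    (IntMult.stalkIdeal IV ξ) (IntMult.stalkIdeal IW ξ) hsup v w a ha hv hw (by omega)
  refine ⟨?_, hrV, hrW⟩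
  unfold IntMult.mult
  exact Groth.Agent.Lib.helper2.IM.chi_eq_one_of_regular (IntMult.stalkIdeal IV ξ)
    (IntMult.stalkIdeal IW ξ) hsup v w a ha hv hw hsum

end Groth.Agent.S1873
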