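import Groth.Statements.S18732
import Mathlib
import Groth.Agent.Lib.Helper16.EffCartier2

set_option autoImplicit false
universe u
open CategoryTheory CategoryTheory.Limits AlgebraicGeometry TopologicalSpace
open ModPair

namespace Groth.Agent.S18732


open Groth.Agent.Lib.helper16.EffCartier Groth.Agent.Lib.helper16.EffCartier2

theorem result' {X X' : Scheme.{u}}
    (I : X.IdealSheafData) (hI : BlowUp.IsEffCartierIdeal I) (f : X' ⟶ X)
    [IsSchemeTheoreticallyDominant (f ⁻¹ᵁ ModPair.interior I).ι] :
    (∀ W : X'.Opens, IsSchemeTheoreticallyDominant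
        (X'.homOfLE (inf_le_right : f ⁻¹ᵁ ModPair.interior I ⊓ W ≤ W))) ∧
      BlowUp.IsEffCartierIdeal (I.comap f) := by
  haveI : IsAffineHom (ModPair.interior I).ι := isAffineHom_interior_ι I hI
  haveI : IsAffineHom (f ⁻¹ᵁ ModPair.interior I).ι :=
    MorphismProperty.of_isPullback (isPullback_morphismRestrict f (ModPair.interior I))
      inferInstance
  refine ⟨fun W => ?_, ?_⟩
  · exact IsSchemeTheoreticallyDominant.of_isPullback
      (isPullback_opens_inf (f ⁻¹ᵁ ModPair.interior I) W)
  · intro x
    obtain ⟨V, hxV, t, ht, hV⟩ := hI (f x)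
    obtain ⟨_, ⟨V', hV', rfl⟩, hxV', hVU⟩ :=
      (X'.isBasis_affineOpens).exists_subset_of_mem_open
        (show x ∈ ((f ⁻¹ᵁ V.1 : X'.Opens) : Set X') from hxV) (f ⁻¹ᵁ V.1).2
    refine ⟨⟨V', hV'⟩, hxV', (f.appLE V.1 V' hVU).hom t, ?_, ?_⟩
    · apply appLE_mem_nonZeroDivisors_of_dominant (f ⁻¹ᵁ ModPair.interior I).ι f V.1 t V' hVU
      intro u hu
      rw [← interior_inf_chart I V t hV]
      exact ⟨u.2, hVU hu⟩
    · rw [Groth.Agent.Lib.helper7.IdealComap.ideal_comap f I V.2 hV' hVU, hV, Ideal.map_span,
        Set.image_singleton]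



/-- Let X be a scheme, I the quasi-coherent ideal sheaf of an effective Cartier divisor on X with open
complement U, and f : X' ⟶ X a morphism of schemes for which the open immersion of f⁻¹(U) into X'
has all of X' as its scheme-theoretic image. Then f⁻¹(U) is scheme-theoretically dense in X' (for
every open W of X' the inclusion of f⁻¹(U) ∩ W into W is scheme-theoretically dominant), and the
closed subscheme of X' pulled back from the divisor of I is an effective Cartier divisor: I.comap f
is the ideal sheaf of an effective Cartier divisor. -/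
theorem result {X X' : Scheme.{u}}
    (I : X.IdealSheafData) (hI : BlowUp.IsEffCartierIdeal I) (f : X' ⟶ X)
    [IsSchemeTheoreticallyDominant (f ⁻¹ᵁ ModPair.interior I).ι] :
    (∀ W : X'.Opens, IsSchemeTheoreticallyDominant
        (X'.homOfLE (inf_le_right : f ⁻¹ᵁ ModPair.interior I ⊓ W ≤ W))) ∧
      BlowUp.IsEffCartierIdeal (I.comap f) := by
  exact Groth.Agent.S18732.result' I hI f

end Groth.Agent.S18732
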