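import Groth.Statements.S18755
import Mathlib
import Groth.Agent.Lib.Helper16.ModPairLib2
import Groth.Agent.Lib.Helper16.IdealComapPow

set_option autoImplicit false
universe u
open CategoryTheory CategoryTheory.Limits AlgebraicGeometry TopologicalSpace
open ModPair

namespace Groth.Agent.S18755


open Groth.Agent.Lib.helper16.EffCartier Groth.Agent.Lib.helper16.EffCartier2
  Groth.Agent.Lib.helper16.ModPairLib Groth.Agent.Lib.helper16.ModPairLib2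

/-- cancellation of an effective Cartier ideal. -/
theorem eq_of_mul_eq_mul {X : Scheme.{u}} {A B E : X.IdealSheafData} (hE : BlowUp.IsEffCartierIdeal E)
    (h : A * E = B * E) : A = B := by
  refine Scheme.IdealSheafData.ext_of_iSup_eq_top (fun V : Charts E => V.1) (iSup_charts hE) (fun V => ?_)
  obtain ⟨V, e, he, hV⟩ := V
  show A.ideal V = B.ideal V
  have h1 : A.ideal V * Ideal.span {e} = B.ideal V * Ideal.span {e} := by
    have := congr(($h).ideal V)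
    rw [← hV]
    exact this
  have key : ∀ (A' B' : Ideal Γ(X, V.1)), A' * Ideal.span {e} = B' * Ideal.span {e} → A' ≤ B' := by
    intro A' B' h' a ha
    have : a * e ∈ B' * Ideal.span {e} := by
      rw [← h']
      exact Ideal.mul_mem_mul ha (Ideal.mem_span_singleton_self e)
    obtain ⟨z, hz, hze⟩ := Ideal.mem_mul_span_singleton.mp this
    have : a = z := by
      have h3 : (a - z) * e = 0 := by rw [sub_mul, hze, sub_self]
      have := (mem_nonZeroDivisors_iff_right.mp he) _ h3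
      exact sub_eq_zero.mp this
    rw [this]
    exact hz
  exact le_antisymm (key _ _ h1) (key _ _ h1.symm)


/-- functoriality of scheme-theoretic images of opens: kernel inclusion. -/
lemma ker_imageι_le_comp {P Q : Scheme.{u}} (U : P.Opens) (U' : Q.Opens) (m : P ⟶ Q)
    (h : U ≤ m ⁻¹ᵁ U') : U'.ι.imageι.ker ≤ (U.ι.imageι ≫ m).ker := by
  have hrange : Set.range (U.ι ≫ m) ⊆ Set.range U'.ι := by
    rintro _ ⟨x, rfl⟩
    rw [Scheme.Opens.range_ι]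
    exact h x.2
  have h1 : (U.ι.imageι ≫ m).ker = (U.ι ≫ m).ker := by
    rw [Scheme.Hom.ker_comp, Scheme.Hom.ker_comp]
    congr 1
    show U.ι.ker.subschemeι.ker = _
    rw [Scheme.IdealSheafData.ker_subschemeι]
  rw [h1, ← IsOpenImmersion.lift_fac U'.ι (U.ι ≫ m) hrange]
  show U'.ι.ker.subschemeι.ker ≤ _
  rw [Scheme.IdealSheafData.ker_subschemeι]
  exact Scheme.Hom.le_ker_comp _ _

lemma comap_comap_of_sq {Y₁ Y₀ M₁ M₀ : Scheme.{u}} {π₁ : Y₁ ⟶ M₁} {π₀ : Y₀ ⟶ M₀} {ψ : M₁ ⟶ M₀}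
    {φ : Y₁ ⟶ Y₀} (h : φ ≫ π₀ = π₁ ≫ ψ) (A : M₀.IdealSheafData) :
    (A.comap π₀).comap φ = (A.comap ψ).comap π₁ := by
  rw [← Scheme.IdealSheafData.comap_comp, h, Scheme.IdealSheafData.comap_comp]

/-- abstract form: two blow-up squares. -/
theorem main {X T Y₁ Y₀ M₁ M₀ : Scheme.{u}} (I : X.IdealSheafData) (J : T.IdealSheafData)
    (a₁ : M₁ ⟶ X) (b₁ : M₁ ⟶ T) (a₀ : M₀ ⟶ X) (b₀ : M₀ ⟶ T) (ψ : M₁ ⟶ M₀)
    (ha : ψ ≫ a₀ = a₁) (hb : ψ ≫ b₀ = b₁)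
    (π₁ : Y₁ ⟶ M₁) (K₁ : Y₁.IdealSheafData) (π₀ : Y₀ ⟶ M₀) (K₀ : Y₀.IdealSheafData)
    (h₁ : BlowUp.IsBlowUp π₁ (I.comap a₁ ⊔ J.comap b₁))
    (hK₁ : K₁ * (I.comap a₁ ⊔ J.comap b₁).comap π₁ = (I.comap a₁).comap π₁ * (J.comap b₁).comap π₁)
    (h₀ : BlowUp.IsBlowUp π₀ (I.comap a₀ ⊔ J.comap b₀))
    (hK₀ : K₀ * (I.comap a₀ ⊔ J.comap b₀).comap π₀ = (I.comap a₀).comap π₀ * (J.comap b₀).comap π₀) :
    (∃! φ : Y₁ ⟶ Y₀, φ ≫ π₀ = π₁ ≫ ψ) ∧
      ∀ φ : Y₁ ⟶ Y₀, φ ≫ π₀ = π₁ ≫ ψ → K₁ = K₀.comap φ := by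
  have hA : (I.comap a₀).comap ψ = I.comap a₁ := by
    rw [← Scheme.IdealSheafData.comap_comp, ha]
  have hB : (J.comap b₀).comap ψ = J.comap b₁ := by
    rw [← Scheme.IdealSheafData.comap_comp, hb]
  have hC : (I.comap a₀ ⊔ J.comap b₀).comap ψ = I.comap a₁ ⊔ J.comap b₁ := by
    rw [Scheme.IdealSheafData.comap_sup, hA, hB]
  refine ⟨?_, ?_⟩
  · apply h₀.2 Y₁ (π₁ ≫ ψ)
    rw [Scheme.IdealSheafData.comap_comp, hC]
    exact h₁.1
  · intro φ hφ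
    apply eq_of_mul_eq_mul h₁.1
    rw [hK₁]
    have := congr(Scheme.IdealSheafData.comap $hK₀ φ)
    rw [Groth.Agent.Lib.helper16.IdealComapPow.comap_mul,
      Groth.Agent.Lib.helper16.IdealComapPow.comap_mul, comap_comap_of_sq hφ, comap_comap_of_sq hφ,
      comap_comap_of_sq hφ, hA, hB, hC] at this
    exact this.symm


theorem result' {S₀ S₁ T X Y₁ Y₀ : Scheme.{u}}
    (J : T.IdealSheafData) (I : X.IdealSheafData)
    (f : X ⟶ S₁) (g : T ⟶ S₁) (σ : S₁ ⟶ S₀)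
    (π₁ : Y₁ ⟶ ModPair.mprod f g I J) (K₁ : Y₁.IdealSheafData) (hY₁ : ModPair.IsAmbProd f g I J π₁ K₁)
    (π₀ : Y₀ ⟶ ModPair.mprod (f ≫ σ) (g ≫ σ) I J) (K₀ : Y₀.IdealSheafData)
    (hY₀ : ModPair.IsAmbProd (f ≫ σ) (g ≫ σ) I J π₀ K₀) :
    (∃! φ : Y₁ ⟶ Y₀, φ ≫ π₀ ≫ ModPair.mprodι (f ≫ σ) (g ≫ σ) I J =
        π₁ ≫ ModPair.mprodι f g I J ≫ pullback.mapDesc f g σ) ∧
      ∀ φ : Y₁ ⟶ Y₀, φ ≫ π₀ ≫ ModPair.mprodι (f ≫ σ) (g ≫ σ) I J =
          π₁ ≫ ModPair.mprodι f g I J ≫ pullback.mapDesc f g σ →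
        ModPair.IsMinimal K₁ K₀ φ := by
  have hm1 : pullback.mapDesc f g σ ≫ pullback.fst (f ≫ σ) (g ≫ σ) = pullback.fst f g := by
    rw [pullback.mapDesc, pullback.map, pullback.lift_fst, Category.comp_id]
  have hm2 : pullback.mapDesc f g σ ≫ pullback.snd (f ≫ σ) (g ≫ σ) = pullback.snd f g := by
    rw [pullback.mapDesc, pullback.map, pullback.lift_snd, Category.comp_id]
  have hle : (ModPair.mprodι (f ≫ σ) (g ≫ σ) I J).ker ≤
      (ModPair.mprodι f g I J ≫ pullback.mapDesc f g σ).ker := by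
    apply ker_imageι_le_comp
    intro x hx
    refine ⟨?_, ?_⟩
    · show (pullback.fst (f ≫ σ) (g ≫ σ)) ((pullback.mapDesc f g σ) x) ∈ ModPair.interior I
      rw [← Scheme.Hom.comp_apply, hm1]
      exact hx.1
    · show (pullback.snd (f ≫ σ) (g ≫ σ)) ((pullback.mapDesc f g σ) x) ∈ ModPair.interior J
      rw [← Scheme.Hom.comp_apply, hm2]
      exact hx.2
  have hψ : IsClosedImmersion.lift (ModPair.mprodι (f ≫ σ) (g ≫ σ) I J)
      (ModPair.mprodι f g I J ≫ pullback.mapDesc f g σ) hle ≫ ModPair.mprodι (f ≫ σ) (g ≫ σ) I J =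
      ModPair.mprodι f g I J ≫ pullback.mapDesc f g σ := IsClosedImmersion.lift_fac _ _ _
  generalize IsClosedImmersion.lift (ModPair.mprodι (f ≫ σ) (g ≫ σ) I J)
      (ModPair.mprodι f g I J ≫ pullback.mapDesc f g σ) hle = ψ at hψ
  have ha : ψ ≫ (ModPair.mprodι (f ≫ σ) (g ≫ σ) I J ≫ pullback.fst (f ≫ σ) (g ≫ σ)) =
      ModPair.mprodι f g I J ≫ pullback.fst f g := by
    rw [← Category.assoc, hψ, Category.assoc, hm1]
  have hb : ψ ≫ (ModPair.mprodι (f ≫ σ) (g ≫ σ) I J ≫ pullback.snd (f ≫ σ) (g ≫ σ)) =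
      ModPair.mprodι f g I J ≫ pullback.snd f g := by
    rw [← Category.assoc, hψ, Category.assoc, hm2]
  have hiff : ∀ φ : Y₁ ⟶ Y₀, φ ≫ π₀ ≫ ModPair.mprodι (f ≫ σ) (g ≫ σ) I J =
          π₁ ≫ ModPair.mprodι f g I J ≫ pullback.mapDesc f g σ ↔ φ ≫ π₀ = π₁ ≫ ψ := by
    intro φ
    rw [← cancel_mono (ModPair.mprodι (f ≫ σ) (g ≫ σ) I J), Category.assoc, Category.assoc, hψ]
  obtain ⟨huniq, hmin⟩ := main I J _ _ _ _ ψ ha hb π₁ K₁ π₀ K₀ hY₁.1 hY₁.2 hY₀.1 hY₀.2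
  refine ⟨?_, fun φ hφ => hmin φ ((hiff φ).mp hφ)⟩
  obtain ⟨φ, hφ, hφu⟩ := huniq
  exact ⟨φ, (hiff φ).mpr hφ, fun φ' hφ' => hφu φ' ((hiff φ').mp hφ')⟩



/-- Let (S₀, I₀), (S₁, I₁), (T, J), (X, I) be schemes with quasi-coherent ideal sheaves of effective
Cartier divisors, f : X ⟶ S₁, g : T ⟶ S₁ and σ : S₁ ⟶ S₀ morphisms satisfying the modulus condition,
and let (Y₁, K₁) with π₁ and (Y₀, K₀) with π₀ be ambient products of (X, I) and (T, J) over S₁ and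
over S₀ (the latter for f ≫ σ and g ≫ σ): blow-ups of the scheme-theoretic image of the product of
the interiors inside X ×_{S₁} T, resp. X ×_{S₀} T, in the intersection of the pulled-back moduli,
with K·E = D_X·D_T. Then the ambient product is functorial in the base: there is a unique morphism φ
: Y₁ ⟶ Y₀ compatible with the maps to X ×_{S₀} T (through the canonical X ×_{S₁} T ⟶ X ×_{S₀} T),
and every such φ is minimal, K₁ = K₀.comap φ. -/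
theorem result {S₀ S₁ T X Y₁ Y₀ : Scheme.{u}} (I₀ : S₀.IdealSheafData)
    (I₁ : S₁.IdealSheafData) (J : T.IdealSheafData) (I : X.IdealSheafData)
    (h₀ : BlowUp.IsEffCartierIdeal I₀) (h₁ : BlowUp.IsEffCartierIdeal I₁)
    (hT : BlowUp.IsEffCartierIdeal J) (hX : BlowUp.IsEffCartierIdeal I)
    (f : X ⟶ S₁) (hf : ModPair.IsAmbient I I₁ f) (g : T ⟶ S₁) (hg : ModPair.IsAmbient J I₁ g)
    (σ : S₁ ⟶ S₀) (hσ : ModPair.IsAmbient I₁ I₀ σ)
    (π₁ : Y₁ ⟶ ModPair.mprod f g I J) (K₁ : Y₁.IdealSheafData) (hY₁ : ModPair.IsAmbProd f g I J π₁ K₁)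
    (π₀ : Y₀ ⟶ ModPair.mprod (f ≫ σ) (g ≫ σ) I J) (K₀ : Y₀.IdealSheafData)
    (hY₀ : ModPair.IsAmbProd (f ≫ σ) (g ≫ σ) I J π₀ K₀) :
    (∃! φ : Y₁ ⟶ Y₀, φ ≫ π₀ ≫ ModPair.mprodι (f ≫ σ) (g ≫ σ) I J =
        π₁ ≫ ModPair.mprodι f g I J ≫ pullback.mapDesc f g σ) ∧
      ∀ φ : Y₁ ⟶ Y₀, φ ≫ π₀ ≫ ModPair.mprodι (f ≫ σ) (g ≫ σ) I J =
          π₁ ≫ ModPair.mprodι f g I J ≫ pullback.mapDesc f g σ →
        ModPair.IsMinimal K₁ K₀ φ := by
  exact Groth.Agent.S18755.result' J I f g σ π₁ K₁ hY₁ π₀ K₀ hY₀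

end Groth.Agent.S18755
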