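import Groth.Statements.S18733
import Groth.Agent.Lib.Helper16.EffDiv
import Groth.Agent.S18755

set_option autoImplicit false
universe u
open CategoryTheory CategoryTheory.Limits AlgebraicGeometry TopologicalSpace
open ModPair

namespace Groth.Agent.S18733

lemma sup_mul' {X : Scheme.{u}} (A B C : X.IdealSheafData) : (A ⊔ B) * C = A * C ⊔ B * C := by
  ext1
  funext U
  simp only [Scheme.IdealSheafData.ideal_mul, Scheme.IdealSheafData.ideal_sup, Pi.mul_apply,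
    Pi.sup_apply]
  exact Ideal.sup_mul _ _ _

lemma inf_le_mul_of_sup_eq_top {X : Scheme.{u}} (A B : X.IdealSheafData) (h : A ⊔ B = ⊤) :
    A ⊓ B ≤ A * B := by
  intro U
  have h1 : A.ideal U ⊔ B.ideal U = ⊤ := by
    have := congr(($h).ideal U)
    simpa using this
  show (A ⊓ B).ideal U ≤ (A * B).ideal U
  simp only [Scheme.IdealSheafData.ideal_mul, Scheme.IdealSheafData.ideal_inf, Pi.mul_apply,
    Pi.inf_apply]
  rw [← Ideal.mul_eq_inf_of_isCoprime (Ideal.isCoprime_iff_sup_eq.mpr h1)]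

open Groth.Agent.Lib.helper16 in
theorem result' {X : Scheme.{u}} (I₁ I₂ : X.IdealSheafData)
    (h₁ : BlowUp.IsEffCartierIdeal I₁) (h₂ : BlowUp.IsEffCartierIdeal I₂)
    (hE : BlowUp.IsEffCartierIdeal (I₁ ⊔ I₂)) :
    ∃ I₁' I₂' : X.IdealSheafData, BlowUp.IsEffCartierIdeal I₁' ∧ BlowUp.IsEffCartierIdeal I₂' ∧
      I₁ = I₁' * (I₁ ⊔ I₂) ∧ I₂ = I₂' * (I₁ ⊔ I₂) ∧ I₁' ⊔ I₂' = ⊤ ∧
      ∀ D : X.IdealSheafData, BlowUp.IsEffCartierIdeal D → D ≤ I₁ → D ≤ I₂ →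
        D ≤ I₁' * I₂' * (I₁ ⊔ I₂) := by
  obtain ⟨I₁', h1', e1⟩ := EffDiv.exists_eq_mul h₁ hE le_sup_left
  obtain ⟨I₂', h2', e2⟩ := EffDiv.exists_eq_mul h₂ hE le_sup_right
  have hsup : I₁' ⊔ I₂' = ⊤ := by
    apply Groth.Agent.S18755.eq_of_mul_eq_mul hE
    rw [sup_mul', ← e1, ← e2, ← Scheme.IdealSheafData.one_eq_top, one_mul]
  refine ⟨I₁', I₂', h1', h2', e1, e2, hsup, ?_⟩
  intro D hD hD1 hD2
  obtain ⟨D', hD', eD⟩ := EffDiv.exists_eq_mul hD hE (hD1.trans le_sup_left)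
  have l1 : D' ≤ I₁' := EffDiv.le_of_mul_le_mul hE (by rw [← eD, ← e1]; exact hD1)
  have l2 : D' ≤ I₂' := EffDiv.le_of_mul_le_mul hE (by rw [← eD, ← e2]; exact hD2)
  have l3 : D' ≤ I₁' * I₂' := (le_inf l1 l2).trans (inf_le_mul_of_sup_eq_top _ _ hsup)
  rw [eD]
  exact mul_le_mul_left l3 _

/-- Let D₁, D₂ be effective Cartier divisors on a scheme X, with quasi-coherent ideal sheaves I₁, I₂,
such that the scheme-theoretic intersection E = D₁ ×_X D₂ (ideal sheaf I₁ ⊔ I₂) is again an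
effective Cartier divisor. Then (1) the divisors D₁ − E and D₂ − E are effective and disjoint: there
are ideal sheaves I₁', I₂' of effective Cartier divisors with I₁ = I₁'·(I₁ ⊔ I₂), I₂ = I₂'·(I₁ ⊔ I₂)
and I₁' ⊔ I₂' = ⊤; and (2) the effective Cartier divisor D₁ + D₂ − E, with ideal sheaf I₁'·I₂'·(I₁ ⊔
I₂), is contained in every effective Cartier divisor D of X containing D₁ and D₂: if the ideal sheaf
of D is ≤ I₁ and ≤ I₂ then it is ≤ I₁'·I₂'·(I₁ ⊔ I₂). -/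
theorem result {X : Scheme.{u}} (I₁ I₂ : X.IdealSheafData)
    (h₁ : BlowUp.IsEffCartierIdeal I₁) (h₂ : BlowUp.IsEffCartierIdeal I₂)
    (hE : BlowUp.IsEffCartierIdeal (I₁ ⊔ I₂)) :
    ∃ I₁' I₂' : X.IdealSheafData, BlowUp.IsEffCartierIdeal I₁' ∧ BlowUp.IsEffCartierIdeal I₂' ∧
      I₁ = I₁' * (I₁ ⊔ I₂) ∧ I₂ = I₂' * (I₁ ⊔ I₂) ∧ I₁' ⊔ I₂' = ⊤ ∧
      ∀ D : X.IdealSheafData, BlowUp.IsEffCartierIdeal D → D ≤ I₁ → D ≤ I₂ →
        D ≤ I₁' * I₂' * (I₁ ⊔ I₂) := by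
  exact result' I₁ I₂ h₁ h₂ hE

end Groth.Agent.S18733
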