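import Groth.Statements.S18735
import Mathlib
import Groth.Agent.Lib.Helper16.ModPairLib

set_option autoImplicit false
universe u
open CategoryTheory CategoryTheory.Limits AlgebraicGeometry TopologicalSpace
open ModPair

namespace Groth.Agent.S18735


open Groth.Agent.Lib.helper16.EffCartier Groth.Agent.Lib.helper16.EffCartier2
  Groth.Agent.Lib.helper16.ModPairLib

theorem result' {S T X : Scheme.{u}} (IS : S.IdealSheafData)
    (IT : T.IdealSheafData) (IX : X.IdealSheafData)
    (hT : BlowUp.IsEffCartierIdeal IT) (hX : BlowUp.IsEffCartierIdeal IX)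
    (g : T ⟶ S) (hg : ModPair.IsAmbient IT IS g) (s : X ⟶ S) (hs : ModPair.IsAdmBlowup IX IS s) :
    BlowUp.IsEffCartierIdeal (IT.comap (ModPair.mprodι s g IX IT ≫ pullback.snd s g)) ∧
      ModPair.IsAdmBlowup (IT.comap (ModPair.mprodι s g IX IT ≫ pullback.snd s g)) IT
        (ModPair.mprodι s g IX IT ≫ pullback.snd s g) ∧
      ModPair.IsAmbient (IT.comap (ModPair.mprodι s g IX IT ≫ pullback.snd s g)) IX
        (ModPair.mprodι s g IX IT ≫ pullback.fst s g) := by
  obtain ⟨hmin, hprop, hiso⟩ := hs
  haveI := isAffineHom_prodInterior_ι s g IX IT hX hT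
  refine ⟨?_, ⟨rfl, ?_, ?_⟩, ?_⟩
  · exact isEffCartier_comap_imageι IT hT (ModPair.prodInterior s g IX IT) (pullback.snd s g)
      inf_le_right
  · haveI : IsProper (pullback.snd s g) := MorphismProperty.pullback_snd _ _ hprop
    infer_instance
  · rw [morphismRestrict_comp]
    have h1 : IsIso (ModPair.mprodι s g IX IT ∣_ pullback.snd s g ⁻¹ᵁ ModPair.interior IT) :=
      isIso_imageι_morphismRestrict (ModPair.prodInterior s g IX IT)
        (pullback.snd s g ⁻¹ᵁ ModPair.interior IT) (prodInterior_eq_snd IS IT IX s hmin g hg).symm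
    have h2 : IsIso (pullback.snd s g ∣_ ModPair.interior IT) :=
      isIso_snd_morphismRestrict s g (ModPair.interior IS) (ModPair.interior IT)
        (fun _ hx => map_mem_interior hg hx)
    exact IsIso.comp_isIso' h1 h2
  · exact comap_snd_le_comap_fst IS IT IX s hmin g hg _



/-- Let (S, I_S), (T, I_T), (X, I_X) be schemes equipped with quasi-coherent ideal sheaves of effective
Cartier divisors, g : T ⟶ S a morphism satisfying the modulus condition I_T ≤ I_S.comap g, and s : X
⟶ S an abstract admissible blow-up (I_X = I_S.comap s, s proper and an isomorphism over the open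
complement of the support of I_S). Let Y be the scheme-theoretic image in X ×_S T of the open
pr₁⁻¹(X°) ∩ pr₂⁻¹(T°), where X°, T° are the open complements of the supports of I_X, I_T, with
projections q : Y ⟶ T and r : Y ⟶ X. Then I_T.comap q is the ideal sheaf of an effective Cartier
divisor on Y, q is an abstract admissible blow-up from (Y, I_T.comap q) to (T, I_T), and r satisfies
the modulus condition from (Y, I_T.comap q) to (X, I_X). -/
theorem result {S T X : Scheme.{u}} (IS : S.IdealSheafData)
    (IT : T.IdealSheafData) (IX : X.IdealSheafData) (hS : BlowUp.IsEffCartierIdeal IS)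
    (hT : BlowUp.IsEffCartierIdeal IT) (hX : BlowUp.IsEffCartierIdeal IX)
    (g : T ⟶ S) (hg : ModPair.IsAmbient IT IS g) (s : X ⟶ S) (hs : ModPair.IsAdmBlowup IX IS s) :
    BlowUp.IsEffCartierIdeal (IT.comap (ModPair.mprodι s g IX IT ≫ pullback.snd s g)) ∧
      ModPair.IsAdmBlowup (IT.comap (ModPair.mprodι s g IX IT ≫ pullback.snd s g)) IT
        (ModPair.mprodι s g IX IT ≫ pullback.snd s g) ∧
      ModPair.IsAmbient (IT.comap (ModPair.mprodι s g IX IT ≫ pullback.snd s g)) IX
        (ModPair.mprodι s g IX IT ≫ pullback.fst s g) := by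
  exact Groth.Agent.S18735.result' IS IT IX hT hX g hg s hs

end Groth.Agent.S18735
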