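import Groth.Statements.S18736
import Mathlib
import Groth.Agent.Lib.Helper16.EffCartier2

set_option autoImplicit false
universe u
open CategoryTheory CategoryTheory.Limits AlgebraicGeometry TopologicalSpace
open ModPair

namespace Groth.Agent.S18736


open Groth.Agent.Lib.helper16.EffCartier Groth.Agent.Lib.helper16.EffCartier2

/-- if `I ≤ J.comap f` then `f` maps the interior of `I` into the interior of `J`. -/
lemma map_mem_interior {X Y : Scheme.{u}} {I : X.IdealSheafData} {J : Y.IdealSheafData} {f : X ⟶ Y}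
    (h : ModPair.IsAmbient I J f) {x : X} (hx : x ∈ ModPair.interior I) : f x ∈ ModPair.interior J := by
  intro h'
  apply hx
  have : x ∈ (J.comap f).support := (mem_compl_support_comap J f x).mpr h'
  exact support_subset_of_le h this

/-- if `I = J.comap f` then the preimage of the interior of `J` is the interior of `I`. -/
lemma mem_interior_of_isMinimal {X Y : Scheme.{u}} {I : X.IdealSheafData} {J : Y.IdealSheafData}
    {f : X ⟶ Y} (h : ModPair.IsMinimal I J f) {x : X} (hx : f x ∈ ModPair.interior J) :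
    x ∈ ModPair.interior I := by
  intro h'
  apply hx
  have h'' : x ∈ (J.comap f).support := by
    have := h'
    rw [show I = J.comap f from h] at this
    exact this
  exact (mem_compl_support_comap J f x).mp h''

/-- in the minimal case the product interior is the preimage of the interior of `X`. -/
lemma prodInterior_eq {S T X : Scheme.{u}} (IS : S.IdealSheafData)
    (IT : T.IdealSheafData) (IX : X.IdealSheafData)
    (p : X ⟶ S) (hp : ModPair.IsAmbient IX IS p) (f : T ⟶ S) (hf : ModPair.IsMinimal IT IS f) :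
    ModPair.prodInterior p f IX IT = pullback.fst p f ⁻¹ᵁ ModPair.interior IX := by
  apply le_antisymm inf_le_left
  intro x hx
  refine ⟨hx, ?_⟩
  show (pullback.snd p f) x ∈ ModPair.interior IT
  apply mem_interior_of_isMinimal hf
  have hcomm : f ((pullback.snd p f) x) = p ((pullback.fst p f) x) := by
    rw [← Scheme.Hom.comp_apply, ← Scheme.Hom.comp_apply, pullback.condition]
  rw [hcomm]
  exact map_mem_interior hp hx


theorem qc_prodInterior_ι {S T X : Scheme.{u}} (IS : S.IdealSheafData)
    (IT : T.IdealSheafData) (IX : X.IdealSheafData) (hX : BlowUp.IsEffCartierIdeal IX)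
    (p : X ⟶ S) (hp : ModPair.IsAmbient IX IS p) (f : T ⟶ S) (hf : ModPair.IsMinimal IT IS f) :
    QuasiCompact (ModPair.prodInterior p f IX IT).ι := by
  rw [prodInterior_eq IS IT IX p hp f hf]
  haveI : IsAffineHom (ModPair.interior IX).ι := isAffineHom_interior_ι IX hX
  haveI : IsAffineHom (pullback.fst p f ⁻¹ᵁ ModPair.interior IX).ι :=
    MorphismProperty.of_isPullback (isPullback_morphismRestrict (pullback.fst p f) (ModPair.interior IX))
      inferInstance
  infer_instance

theorem part1 {S T X : Scheme.{u}} (IS : S.IdealSheafData)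
    (IT : T.IdealSheafData) (IX : X.IdealSheafData) (hX : BlowUp.IsEffCartierIdeal IX)
    (p : X ⟶ S) (hp : ModPair.IsAmbient IX IS p) (f : T ⟶ S) (hf : ModPair.IsMinimal IT IS f) :
    BlowUp.IsEffCartierIdeal (IX.comap (ModPair.mprodι p f IX IT ≫ pullback.fst p f)) := by
  haveI := qc_prodInterior_ι IS IT IX hX p hp f hf
  haveI := toImage_isSchemeTheoreticallyDominant (ModPair.prodInterior p f IX IT).ι
  set r := ModPair.mprodι p f IX IT ≫ pullback.fst p f with hr
  intro y
  obtain ⟨V, hyV, t, ht, hV⟩ := hX (r y)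
  obtain ⟨_, ⟨V', hV', rfl⟩, hyV', hVU⟩ :=
    ((ModPair.mprod p f IX IT).isBasis_affineOpens).exists_subset_of_mem_open
      (show y ∈ ((r ⁻¹ᵁ V.1 : (ModPair.mprod p f IX IT).Opens) : Set _) from hyV) (r ⁻¹ᵁ V.1).2
  refine ⟨⟨V', hV'⟩, hyV', (r.appLE V.1 V' hVU).hom t, ?_, ?_⟩
  · apply appLE_mem_nonZeroDivisors_of_dominant (ModPair.prodInterior p f IX IT).ι.toImage r V.1 t V' hVU
    intro u hu
    rw [← interior_inf_chart IX V t hV]
    refine ⟨?_, hVU hu⟩
    have h1 : r ((ModPair.prodInterior p f IX IT).ι.toImage u) =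
        (pullback.fst p f) ((ModPair.prodInterior p f IX IT).ι u) := by
      rw [hr, ← Scheme.Hom.comp_apply, ← Category.assoc]
      show ((_ ≫ (ModPair.prodInterior p f IX IT).ι.imageι) ≫ _) u = _
      rw [Scheme.Hom.toImage_imageι, Scheme.Hom.comp_apply]
    rw [h1]
    exact u.2.1
  · rw [Groth.Agent.Lib.helper7.IdealComap.ideal_comap r IX V.2 hV' hVU, hV, Ideal.map_span,
      Set.image_singleton]

lemma part2_aux {S T X Y : Scheme.{u}} (IS : S.IdealSheafData)
    (IT : T.IdealSheafData) (IX : X.IdealSheafData)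
    (p : X ⟶ S) (hp : ModPair.IsAmbient IX IS p) (f : T ⟶ S) (hf : ModPair.IsMinimal IT IS f)
    (ι : Y ⟶ pullback p f) :
    IX.comap (ι ≫ pullback.fst p f) ≤ IT.comap (ι ≫ pullback.snd p f) := by
  have h1 : IX.comap (pullback.fst p f) ≤ IT.comap (pullback.snd p f) := by
    have h2 : IT.comap (pullback.snd p f) = (IS.comap p).comap (pullback.fst p f) := by
      rw [show IT = IS.comap f from hf, ← Scheme.IdealSheafData.comap_comp,
        ← Scheme.IdealSheafData.comap_comp, pullback.condition]
    rw [h2]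
    exact Scheme.IdealSheafData.comap_mono _ hp
  rw [Scheme.IdealSheafData.comap_comp, Scheme.IdealSheafData.comap_comp]
  exact Scheme.IdealSheafData.comap_mono _ h1

theorem part2 {S T X : Scheme.{u}} (IS : S.IdealSheafData)
    (IT : T.IdealSheafData) (IX : X.IdealSheafData)
    (p : X ⟶ S) (hp : ModPair.IsAmbient IX IS p) (f : T ⟶ S) (hf : ModPair.IsMinimal IT IS f) :
    ModPair.IsAmbient (IX.comap (ModPair.mprodι p f IX IT ≫ pullback.fst p f)) IT
        (ModPair.mprodι p f IX IT ≫ pullback.snd p f) :=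
  part2_aux IS IT IX p hp f hf _


/-- a map from a modulus pair `(W, IW)` to `P` that sends the interior of `W` into an open `U₀`
factors through the scheme-theoretic image of `U₀`. -/
lemma ker_imageι_le {W P : Scheme.{u}} (IW : W.IdealSheafData) (hW : BlowUp.IsEffCartierIdeal IW)
    (U₀ : P.Opens) (c' : W ⟶ P) (h : ∀ w : W, w ∈ ModPair.interior IW → c' w ∈ U₀) :
    U₀.ι.imageι.ker ≤ c'.ker := by
  have h0 : (ModPair.interior IW).ι.ker = ⊥ :=
    ker_ι_eq_bot_of_isEffCartier IW hW (ModPair.interior IW) (fun x hx => hx)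
  have h1 : ((ModPair.interior IW).ι ≫ c').ker = c'.ker := by
    rw [Scheme.Hom.ker_comp, h0, Scheme.IdealSheafData.map_bot]
  have hrange : Set.range ((ModPair.interior IW).ι ≫ c') ⊆ Set.range U₀.ι := by
    rintro _ ⟨w, rfl⟩
    rw [Scheme.Opens.range_ι]
    exact h _ w.2
  have h2 : IsOpenImmersion.lift U₀.ι ((ModPair.interior IW).ι ≫ c') hrange ≫ U₀.ι =
      (ModPair.interior IW).ι ≫ c' := IsOpenImmersion.lift_fac _ _ _
  rw [← h1, ← h2]
  show U₀.ι.ker.subschemeι.ker ≤ _
  rw [Scheme.IdealSheafData.ker_subschemeι]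
  exact Scheme.Hom.le_ker_comp _ _

theorem part3 {S T X : Scheme.{u}}
    (IT : T.IdealSheafData) (IX : X.IdealSheafData)
    (p : X ⟶ S) (f : T ⟶ S)
    (W : Scheme.{u}) (IW : W.IdealSheafData) (hW : BlowUp.IsEffCartierIdeal IW)
    (a : W ⟶ T) (b : W ⟶ X) (ha : ModPair.IsAmbient IW IT a) (hb : ModPair.IsAmbient IW IX b)
    (hab : a ≫ f = b ≫ p) :
    ∃! c : W ⟶ ModPair.mprod p f IX IT,
      c ≫ ModPair.mprodι p f IX IT ≫ pullback.snd p f = a ∧
        c ≫ ModPair.mprodι p f IX IT ≫ pullback.fst p f = b ∧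
        ModPair.IsAmbient IW (IX.comap (ModPair.mprodι p f IX IT ≫ pullback.fst p f)) c := by
  have hle : (ModPair.mprodι p f IX IT).ker ≤ (pullback.lift b a hab.symm).ker := by
    apply ker_imageι_le IW hW
    intro w hw
    refine ⟨?_, ?_⟩
    · show (pullback.fst p f) ((pullback.lift b a hab.symm) w) ∈ ModPair.interior IX
      rw [← Scheme.Hom.comp_apply, pullback.lift_fst]
      exact map_mem_interior hb hw
    · show (pullback.snd p f) ((pullback.lift b a hab.symm) w) ∈ ModPair.interior IT
      rw [← Scheme.Hom.comp_apply, pullback.lift_snd]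
      exact map_mem_interior ha hw
  have hfac : IsClosedImmersion.lift (ModPair.mprodι p f IX IT) (pullback.lift b a hab.symm) hle ≫
      ModPair.mprodι p f IX IT = pullback.lift b a hab.symm := IsClosedImmersion.lift_fac _ _ _
  refine ⟨IsClosedImmersion.lift (ModPair.mprodι p f IX IT) (pullback.lift b a hab.symm) hle,
    ⟨?_, ?_, ?_⟩, ?_⟩
  · rw [← Category.assoc, hfac, pullback.lift_snd]
  · rw [← Category.assoc, hfac, pullback.lift_fst]
  · show _ ≤ _
    rw [← Scheme.IdealSheafData.comap_comp, ← Category.assoc, hfac, pullback.lift_fst]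
    exact hb
  · rintro c ⟨h1, h2, -⟩
    rw [← cancel_mono (ModPair.mprodι p f IX IT), hfac]
    apply pullback.hom_ext
    · rw [Category.assoc, h2, pullback.lift_fst]
    · rw [Category.assoc, h1, pullback.lift_snd]



/-- With the minimal-case product: let (S, I_S), (T, I_T), (X, I_X) be schemes equipped with
quasi-coherent ideal sheaves of effective Cartier divisors, p : X ⟶ S a morphism satisfying the
modulus condition I_X ≤ I_S.comap p, and f : T ⟶ S a minimal morphism, I_T = I_S.comap f. Let Y be
the scheme-theoretic image in X ×_S T of the open pr₁⁻¹(X°) ∩ pr₂⁻¹(T°) (X°, T° the open complements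
of the supports of I_X, I_T), with projections r : Y ⟶ X and q : Y ⟶ T, and put I_Y := I_X.comap r.
Then I_Y is the ideal sheaf of an effective Cartier divisor, q satisfies the modulus condition I_Y ≤
I_T.comap q, and (Y, I_Y) with q and r is the fibre product of (T, I_T) and (X, I_X) over (S, I_S)
among modulus pairs and morphisms satisfying the modulus condition: for every scheme W with the
ideal sheaf I_W of an effective Cartier divisor and morphisms a : W ⟶ T, b : W ⟶ X with I_W ≤
I_T.comap a, I_W ≤ I_X.comap b and a ≫ f = b ≫ p, there is a unique c : W ⟶ Y with c ≫ q = a, c ≫ r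
= b and I_W ≤ I_Y.comap c. -/
theorem result {S T X : Scheme.{u}} (IS : S.IdealSheafData)
    (IT : T.IdealSheafData) (IX : X.IdealSheafData) (hS : BlowUp.IsEffCartierIdeal IS)
    (hT : BlowUp.IsEffCartierIdeal IT) (hX : BlowUp.IsEffCartierIdeal IX)
    (p : X ⟶ S) (hp : ModPair.IsAmbient IX IS p) (f : T ⟶ S) (hf : ModPair.IsMinimal IT IS f) :
    BlowUp.IsEffCartierIdeal (IX.comap (ModPair.mprodι p f IX IT ≫ pullback.fst p f)) ∧
      ModPair.IsAmbient (IX.comap (ModPair.mprodι p f IX IT ≫ pullback.fst p f)) IT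
        (ModPair.mprodι p f IX IT ≫ pullback.snd p f) ∧
      ∀ (W : Scheme.{u}) (IW : W.IdealSheafData), BlowUp.IsEffCartierIdeal IW →
        ∀ (a : W ⟶ T) (b : W ⟶ X), ModPair.IsAmbient IW IT a → ModPair.IsAmbient IW IX b →
          a ≫ f = b ≫ p →
          ∃! c : W ⟶ ModPair.mprod p f IX IT,
            c ≫ ModPair.mprodι p f IX IT ≫ pullback.snd p f = a ∧
              c ≫ ModPair.mprodι p f IX IT ≫ pullback.fst p f = b ∧
              ModPair.IsAmbient IW (IX.comap (ModPair.mprodι p f IX IT ≫ pullback.fst p f)) c := by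
  exact ⟨Groth.Agent.S18736.part1 IS IT IX hX p hp f hf, Groth.Agent.S18736.part2 IS IT IX p hp f hf,
    fun W IW hW a b ha hb hab => Groth.Agent.S18736.part3 IT IX p f W IW hW a b ha hb hab⟩

end Groth.Agent.S18736
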