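import Groth.Statements.S18737
import Groth.Agent.Lib.Helper16.CoprodIdeal

set_option autoImplicit false
universe u
open CategoryTheory CategoryTheory.Limits AlgebraicGeometry TopologicalSpace
open ModPair

namespace Groth.Agent.S18737


open Groth.Agent.Lib.helper16.EffCartier Groth.Agent.Lib.helper16.EffCartier2
  Groth.Agent.Lib.helper16.ModPairLib Groth.Agent.Lib.helper16.ModPairLib2
  Groth.Agent.Lib.helper16.CoprodIdeal

/-- a clopen piece of the interior of an effective Cartier divisor has quasi-compact inclusion. -/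
theorem quasiCompact_ι_of_disjoint {X : Scheme.{u}} (I : X.IdealSheafData)
    (hI : BlowUp.IsEffCartierIdeal I) (U₀ U₁ : X.Opens)
    (hU : U₀ ⊔ U₁ = ModPair.interior I) (hd : Disjoint U₀ U₁) : QuasiCompact U₀.ι := by
  haveI := isAffineHom_interior_ι I hI
  rw [quasiCompact_iff_forall_isAffineOpen]
  intro W hW
  have h1 : IsCompact ((ModPair.interior I : Set X) ∩ W) := by
    have := (hW.preimage (ModPair.interior I).ι).isCompact
    have h2 := this.image (ModPair.interior I).ι.continuous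
    convert h2 using 1
    ext x
    simp only [Set.mem_inter_iff, SetLike.mem_coe, Set.mem_image]
    constructor
    · rintro ⟨hx, hxW⟩
      exact ⟨⟨x, hx⟩, hxW, rfl⟩
    · rintro ⟨y, hy, rfl⟩
      exact ⟨y.2, hy⟩
  have h2 : IsCompact ((U₀ : Set X) ∩ W) := by
    have h3 : ((U₀ : Set X) ∩ W) = ((ModPair.interior I : Set X) ∩ W) ∩ (U₁ : Set X)ᶜ := by
      ext x
      simp only [Set.mem_inter_iff, SetLike.mem_coe, Set.mem_compl_iff]
      constructor
      · rintro ⟨hx, hxW⟩
        refine ⟨⟨hU ▸ Or.inl hx, hxW⟩, fun hx1 => ?_⟩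
        exact (hd.le_bot (show x ∈ U₀ ⊓ U₁ from ⟨hx, hx1⟩) : x ∈ (⊥ : X.Opens)).elim
      · rintro ⟨⟨hx, hxW⟩, hx1⟩
        rw [← hU] at hx
        rcases hx with hx | hx
        · exact ⟨hx, hxW⟩
        · exact absurd hx hx1
    rw [h3]
    exact h1.inter_right U₁.2.isClosed_compl
  rw [U₀.ι.isOpenEmbedding.isEmbedding.isCompact_iff]
  convert h2 using 1
  ext x
  simp only [Set.mem_image, Set.mem_inter_iff, SetLike.mem_coe]
  constructor
  · rintro ⟨y, hy, rfl⟩
    exact ⟨y.2, hy⟩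
  · rintro ⟨hx, hxW⟩
    exact ⟨⟨x, hx⟩, hxW, rfl⟩


/-- the scheme-theoretic image of an open misses any disjoint open. -/
lemma imageι_not_mem {X : Scheme.{u}} (U₀ U₁ : X.Opens) [QuasiCompact U₁.ι] (hd : Disjoint U₀ U₁)
    (y : U₁.ι.image) : U₁.ι.imageι y ∉ U₀ := by
  intro hy
  have h1 : U₁.ι.imageι y ∈ (U₁.ι.ker.support : Set X) := by
    rw [← Scheme.IdealSheafData.range_subschemeι]
    exact ⟨y, rfl⟩
  rw [Scheme.Hom.support_ker, mem_closure_iff] at h1
  obtain ⟨z, hz0, ⟨w, rfl⟩⟩ := h1 U₀ U₀.2 hy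
  exact (hd.le_bot (show U₁.ι w ∈ U₀ ⊓ U₁ from ⟨hz0, w.2⟩) : U₁.ι w ∈ (⊥ : X.Opens)).elim

theorem result' {X : Scheme.{u}}
    (I : X.IdealSheafData) (hI : BlowUp.IsEffCartierIdeal I) (U₀ U₁ : X.Opens)
    (hU : U₀ ⊔ U₁ = ModPair.interior I) (hd : Disjoint U₀ U₁) :
    BlowUp.IsEffCartierIdeal (I.comap (coprod.desc U₀.ι.imageι U₁.ι.imageι)) ∧
      ModPair.IsAdmBlowup (I.comap (coprod.desc U₀.ι.imageι U₁.ι.imageι)) I
        (coprod.desc U₀.ι.imageι U₁.ι.imageι) := by
  haveI q0 := quasiCompact_ι_of_disjoint I hI U₀ U₁ hU hd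
  haveI q1 := quasiCompact_ι_of_disjoint I hI U₁ U₀ (by rw [sup_comm]; exact hU) hd.symm
  have e0 : BlowUp.IsEffCartierIdeal (I.comap U₀.ι.imageι) := by
    have := isEffCartier_comap_imageι I hI U₀ (𝟙 X) (by
      intro x hx
      show x ∈ ModPair.interior I
      rw [← hU]
      exact Or.inl hx)
    rwa [Category.comp_id] at this
  have e1 : BlowUp.IsEffCartierIdeal (I.comap U₁.ι.imageι) := by
    have := isEffCartier_comap_imageι I hI U₁ (𝟙 X) (by
      intro x hx
      show x ∈ ModPair.interior I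
      rw [← hU]
      exact Or.inr hx)
    rwa [Category.comp_id] at this
  have hE : BlowUp.IsEffCartierIdeal (I.comap (coprod.desc U₀.ι.imageι U₁.ι.imageι)) := by
    apply isEffCartier_of_comap_inl_inr
    · rw [← Scheme.IdealSheafData.comap_comp, coprod.inl_desc]
      exact e0
    · rw [← Scheme.IdealSheafData.comap_comp, coprod.inr_desc]
      exact e1
  refine ⟨hE, rfl, inferInstance, ?_⟩
  haveI : IsIso (U₀.ι.imageι ∣_ U₀) := isIso_imageι_morphismRestrict U₀ U₀ rfl
  haveI : IsIso (U₁.ι.imageι ∣_ U₁) := isIso_imageι_morphismRestrict U₁ U₁ rfl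
  haveI : IsIso (coprod.desc U₀.ι.imageι U₁.ι.imageι ∣_ U₀) :=
    isIso_desc_morphismRestrict_left _ _ U₀ (imageι_not_mem U₀ U₁ hd)
  haveI : IsIso (coprod.desc U₀.ι.imageι U₁.ι.imageι ∣_ U₁) :=
    isIso_desc_morphismRestrict_right _ _ U₁ (imageι_not_mem U₁ U₀ hd.symm)
  exact isIso_morphismRestrict_sup _ U₀ U₁ _ hU



/-- Let X be a scheme and I the quasi-coherent ideal sheaf of an effective Cartier divisor on X, with
open complement U, and suppose U is the disjoint union of two opens U₀, U₁ of X. Let X₀, X₁ ⊆ X be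
the scheme-theoretic images of U₀ and U₁ in X and p : X₀ ⨿ X₁ ⟶ X the morphism induced by the two
closed immersions. Then the pulled-back ideal I.comap p is the ideal sheaf of an effective Cartier
divisor, and p is an abstract admissible blow-up from (X₀ ⨿ X₁, I.comap p) to (X, I): proper, with
the pulled-back modulus, and an isomorphism over U. -/
theorem result {X : Scheme.{u}}
    (I : X.IdealSheafData) (hI : BlowUp.IsEffCartierIdeal I) (U₀ U₁ : X.Opens)
    (hU : U₀ ⊔ U₁ = ModPair.interior I) (hd : Disjoint U₀ U₁) :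
    BlowUp.IsEffCartierIdeal (I.comap (coprod.desc U₀.ι.imageι U₁.ι.imageι)) ∧
      ModPair.IsAdmBlowup (I.comap (coprod.desc U₀.ι.imageι U₁.ι.imageι)) I
        (coprod.desc U₀.ι.imageι U₁.ι.imageι) := by
  exact result' I hI U₀ U₁ hU hd

end Groth.Agent.S18737
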