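import Groth.Statements.S18738
import Mathlib
import Groth.Agent.Lib.Helper16.ModPairLib2
import Groth.Agent.S18735

set_option autoImplicit false
universe u
open CategoryTheory CategoryTheory.Limits AlgebraicGeometry TopologicalSpace
open ModPair

namespace Groth.Agent.S18738


open Groth.Agent.Lib.helper16.EffCartier Groth.Agent.Lib.helper16.EffCartier2
  Groth.Agent.Lib.helper16.ModPairLib Groth.Agent.Lib.helper16.ModPairLib2

theorem result' : (ModPair.Pair.admBlowup.{u}).HasRightCalculusOfFractions where
  id_mem P := isAdmBlowup_id P.mod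
  comp_mem f g hf hg := isAdmBlowup_comp hf hg
  exists_rightFraction := by
    intro T X φ
    -- φ.f : T ⟶ S ambient, φ.s : X ⟶ S admissible blow-up
    obtain ⟨h1, h2, h3⟩ := Groth.Agent.S18735.result φ.Y'.mod T.mod X.mod φ.Y'.isEffCartier
      T.isEffCartier X.isEffCartier φ.f.hom φ.f.cond φ.s.hom φ.hs
    refine ⟨⟨(⟨_, h2.1.le⟩ : ModPair.Pair.mk _ _ h1 ⟶ T), h2, ⟨_, h3⟩⟩, ?_⟩
    apply ModPair.Pair.Hom.ext
    show (ModPair.mprodι φ.s.hom φ.f.hom X.mod T.mod ≫ pullback.snd φ.s.hom φ.f.hom) ≫ φ.f.hom =
      (ModPair.mprodι φ.s.hom φ.f.hom X.mod T.mod ≫ pullback.fst φ.s.hom φ.f.hom) ≫ φ.s.hom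
    rw [Category.assoc, Category.assoc, pullback.condition]
  ext := by
    intro X Y Z f₁ f₂ s hs h
    refine ⟨X, 𝟙 X, isAdmBlowup_id X.mod, ?_⟩
    rw [Category.id_comp, Category.id_comp]
    apply ModPair.Pair.Hom.ext
    exact hom_ext_of_isAdmBlowup X.isEffCartier f₁.cond f₂.cond hs congr($(h).hom)



/-- In the category of modulus pairs and ambient morphisms, the class Σ of abstract admissible blow-ups
(minimal, proper, an isomorphism over the interior of the target) admits a calculus of right
fractions: it contains the identities and is stable under composition; every pair X' ⟶ X ⟵ Y with X'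
⟶ X in Σ can be completed to a commutative square with a morphism Y' ⟶ Y in Σ; and two ambient
morphisms f, g : X ⟶ Y equalized by some Y ⟶ Z in Σ are equalized by some X' ⟶ X in Σ. -/
theorem result :
    (ModPair.Pair.admBlowup.{u}).HasRightCalculusOfFractions := by
  exact Groth.Agent.S18738.result'

end Groth.Agent.S18738
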