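import Groth.Statements.S18749
import Mathlib
import Groth.Agent.Lib.Helper16.ModPairLib2
import Groth.Agent.S1683

set_option autoImplicit false
universe u
open CategoryTheory CategoryTheory.Limits AlgebraicGeometry TopologicalSpace
open ModPair

namespace Groth.Agent.S18749


open Groth.Agent.Lib.helper16.EffCartier Groth.Agent.Lib.helper16.EffCartier2
  Groth.Agent.Lib.helper16.ModPairLib Groth.Agent.Lib.helper16.ModPairLib2

/-- ideal-level cancellation of a nonzerodivisor. -/
lemma ideal_le_of_mul_le_mul {R : Type*} [CommRing R] {e : R} (he : e ∈ nonZeroDivisors R)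
    {A B : Ideal R} (h : A * Ideal.span {e} ≤ B * Ideal.span {e}) : A ≤ B := by
  intro a ha
  have : a * e ∈ B * Ideal.span {e} := h (Ideal.mul_mem_mul ha (Ideal.mem_span_singleton_self e))
  obtain ⟨z, hz, hze⟩ := Ideal.mem_mul_span_singleton.mp this
  have : a = z := by
    have h3 : (a - z) * e = 0 := by rw [sub_mul, hze, sub_self]
    have := (mem_nonZeroDivisors_iff_right.mp he) _ h3
    exact sub_eq_zero.mp this
  rw [this]
  exact hz

/-- cancellation of an effective Cartier ideal in an inequality. -/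
theorem le_of_mul_le_mul {X : Scheme.{u}} {A B E : X.IdealSheafData} (hE : BlowUp.IsEffCartierIdeal E)
    (h : A * E ≤ B * E) : A ≤ B := by
  rw [← sup_eq_right]
  refine Scheme.IdealSheafData.ext_of_iSup_eq_top (fun V : Charts E => V.1) (iSup_charts hE) (fun V => ?_)
  obtain ⟨V, e, he, hV⟩ := V
  show A.ideal V ⊔ B.ideal V = B.ideal V
  rw [sup_eq_right]
  apply ideal_le_of_mul_le_mul he
  rw [← hV]
  exact h V

/-- if `K * E = D` with `E`, `D` effective Cartier then `K` is effective Cartier. -/
theorem isEffCartier_of_mul_eq {X : Scheme.{u}} {K E D : X.IdealSheafData}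
    (hE : BlowUp.IsEffCartierIdeal E) (hD : BlowUp.IsEffCartierIdeal D) (h : K * E = D) :
    BlowUp.IsEffCartierIdeal K := by
  intro x
  obtain ⟨VE, hxE, e, he, hEV⟩ := hE x
  obtain ⟨V, hxV, hle, d, hd, hDV⟩ := exists_principal_le hD x VE.1 hxE
  obtain ⟨he', hEV'⟩ := principal_of_le E hle he hEV
  set e' := (X.presheaf.map (homOfLE hle).op).hom e with he'_def
  have h1 : K.ideal V * Ideal.span {e'} = Ideal.span {d} := by
    rw [← hEV', ← hDV, ← h]
    rfl
  have hd_mem : d ∈ K.ideal V * Ideal.span {e'} := h1 ▸ Ideal.mem_span_singleton_self d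
  obtain ⟨k, hk, hke⟩ := Ideal.mem_mul_span_singleton.mp hd_mem
  refine ⟨V, hxV, k, ?_, ?_⟩
  · have : k * e' ∈ nonZeroDivisors Γ(X, V.1) := hke ▸ hd
    exact (mul_mem_nonZeroDivisors.mp this).1
  · apply le_antisymm
    · apply ideal_le_of_mul_le_mul he'
      rw [h1, Ideal.span_singleton_mul_span_singleton, hke]
    · rw [Ideal.span_singleton_le_iff_mem]
      exact hk


theorem main {Y M X T : Scheme.{u}} (I : X.IdealSheafData) (J : T.IdealSheafData)
    (a : M ⟶ X) (b : M ⟶ T) (hA' : BlowUp.IsEffCartierIdeal (I.comap a))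
    (hB' : BlowUp.IsEffCartierIdeal (J.comap b)) (π : Y ⟶ M) (K : Y.IdealSheafData)
    (hπ : BlowUp.IsBlowUp π (I.comap a ⊔ J.comap b))
    (hK : K * (I.comap a ⊔ J.comap b).comap π = (I.comap a).comap π * (J.comap b).comap π) :
    BlowUp.IsEffCartierIdeal K ∧ K ≤ I.comap (π ≫ a) ∧ K ≤ J.comap (π ≫ b) ∧
      ∀ y : Y, y ∈ ModPair.interior K ↔ (a (π y) ∈ ModPair.interior I ∧ b (π y) ∈ ModPair.interior J) := by
  have hA : BlowUp.IsEffCartierIdeal ((I.comap a).comap π) :=
    Groth.Agent.S1683.isEffCartierIdeal_comap_of_isBlowUp _ π hπ _ hA'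
  have hB : BlowUp.IsEffCartierIdeal ((J.comap b).comap π) :=
    Groth.Agent.S1683.isEffCartierIdeal_comap_of_isBlowUp _ π hπ _ hB'
  have hE : BlowUp.IsEffCartierIdeal ((I.comap a ⊔ J.comap b).comap π) := hπ.1
  have hEsup : (I.comap a ⊔ J.comap b).comap π = (I.comap a).comap π ⊔ (J.comap b).comap π :=
    Scheme.IdealSheafData.comap_sup _ _ _
  have hKA : K ≤ (I.comap a).comap π := by
    apply le_of_mul_le_mul hE
    rw [hK]
    intro V
    show ((I.comap a).comap π).ideal V * ((J.comap b).comap π).ideal V ≤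
      ((I.comap a).comap π).ideal V * ((I.comap a ⊔ J.comap b).comap π).ideal V
    apply Ideal.mul_mono_right
    rw [hEsup]
    exact (le_sup_right : (J.comap b).comap π ≤ _) V
  have hKB : K ≤ (J.comap b).comap π := by
    apply le_of_mul_le_mul hE
    rw [hK]
    intro V
    show ((I.comap a).comap π).ideal V * ((J.comap b).comap π).ideal V ≤
      ((J.comap b).comap π).ideal V * ((I.comap a ⊔ J.comap b).comap π).ideal V
    rw [mul_comm]
    apply Ideal.mul_mono_right
    rw [hEsup]
    exact (le_sup_left : (I.comap a).comap π ≤ _) V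
  refine ⟨isEffCartier_of_mul_eq hE (isEffCartier_mul hA hB) hK, ?_, ?_, ?_⟩
  · rw [Scheme.IdealSheafData.comap_comp]; exact hKA
  · rw [Scheme.IdealSheafData.comap_comp]; exact hKB
  · intro y
    have e1 : a (π y) ∈ ModPair.interior I ↔ y ∉ ((I.comap a).comap π).support := by
      rw [mem_compl_support_comap, mem_compl_support_comap]
      rfl
    have e2 : b (π y) ∈ ModPair.interior J ↔ y ∉ ((J.comap b).comap π).support := by
      rw [mem_compl_support_comap, mem_compl_support_comap]
      rfl
    rw [e1, e2]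
    show y ∉ K.support ↔ _
    constructor
    · intro hy
      exact ⟨fun h => hy (support_subset_of_le hKA h), fun h => hy (support_subset_of_le hKB h)⟩
    · rintro ⟨h1, h2⟩ hy
      have h3 : y ∈ (K * (I.comap a ⊔ J.comap b).comap π).support := by
        rw [Scheme.IdealSheafData.support_mul]
        exact Or.inl hy
      rw [hK, Scheme.IdealSheafData.support_mul] at h3
      rcases h3 with h3 | h3
      · exact h1 h3
      · exact h2 h3


theorem result' {S T X Y : Scheme.{u}}
    (J : T.IdealSheafData) (I : X.IdealSheafData)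
    (hT : BlowUp.IsEffCartierIdeal J) (hX : BlowUp.IsEffCartierIdeal I)
    (f : X ⟶ S) (g : T ⟶ S)
    (π : Y ⟶ ModPair.mprod f g I J) (K : Y.IdealSheafData) (hY : ModPair.IsAmbProd f g I J π K) :
    BlowUp.IsEffCartierIdeal K ∧
      ModPair.IsAmbient K I (π ≫ ModPair.mprodι f g I J ≫ pullback.fst f g) ∧
      ModPair.IsAmbient K J (π ≫ ModPair.mprodι f g I J ≫ pullback.snd f g) ∧
      ModPair.interior K = (π ≫ ModPair.mprodι f g I J) ⁻¹ᵁ ModPair.prodInterior f g I J := by
  haveI := isAffineHom_prodInterior_ι f g I J hX hT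
  have hA' : BlowUp.IsEffCartierIdeal (I.comap (ModPair.mprodι f g I J ≫ pullback.fst f g)) :=
    isEffCartier_comap_imageι I hX (ModPair.prodInterior f g I J) (pullback.fst f g) inf_le_left
  have hB' : BlowUp.IsEffCartierIdeal (J.comap (ModPair.mprodι f g I J ≫ pullback.snd f g)) :=
    isEffCartier_comap_imageι J hT (ModPair.prodInterior f g I J) (pullback.snd f g) inf_le_right
  obtain ⟨h1, h2, h3, h4⟩ := main I J _ _ hA' hB' π K hY.1 hY.2
  refine ⟨h1, h2, h3, ?_⟩
  ext y
  rw [SetLike.mem_coe, h4 y]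
  rfl



/-- Let (S, I_S), (T, J), (X, I) be schemes with quasi-coherent ideal sheaves of effective Cartier
divisors and f : X ⟶ S, g : T ⟶ S morphisms satisfying the modulus condition. Let Y₀ be the
scheme-theoretic image of pr₁⁻¹(X°) ∩ pr₂⁻¹(T°) in X ×_S T, let π : Y ⟶ Y₀ be a blowing up of Y₀ in
the sum of the two ideal sheaves I, J pulled back to Y₀ (the intersection of the two pulled-back
divisors), and let K be an ideal sheaf on Y whose product with the exceptional ideal is the product
of the pull-backs of I and J to Y. Then K is the ideal sheaf of an effective Cartier divisor (the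
divisor D_X + D_T − E), the projections Y ⟶ X and Y ⟶ T satisfy the modulus condition with respect
to K, and the interior of (Y, K) is the preimage of pr₁⁻¹(X°) ∩ pr₂⁻¹(T°). -/
theorem result {S T X Y : Scheme.{u}} (IS : S.IdealSheafData)
    (J : T.IdealSheafData) (I : X.IdealSheafData) (hS : BlowUp.IsEffCartierIdeal IS)
    (hT : BlowUp.IsEffCartierIdeal J) (hX : BlowUp.IsEffCartierIdeal I)
    (f : X ⟶ S) (hf : ModPair.IsAmbient I IS f) (g : T ⟶ S) (hg : ModPair.IsAmbient J IS g)
    (π : Y ⟶ ModPair.mprod f g I J) (K : Y.IdealSheafData) (hY : ModPair.IsAmbProd f g I J π K) :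
    BlowUp.IsEffCartierIdeal K ∧
      ModPair.IsAmbient K I (π ≫ ModPair.mprodι f g I J ≫ pullback.fst f g) ∧
      ModPair.IsAmbient K J (π ≫ ModPair.mprodι f g I J ≫ pullback.snd f g) ∧
      ModPair.interior K = (π ≫ ModPair.mprodι f g I J) ⁻¹ᵁ ModPair.prodInterior f g I J := by
  exact Groth.Agent.S18749.result' J I hT hX f g π K hY

end Groth.Agent.S18749
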