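import Groth.Statements.S18750
import Groth.Agent.Lib.Helper16.BlowUpGlue
import Groth.Agent.Lib.Helper16.EffCartier

set_option autoImplicit false
universe u
open CategoryTheory CategoryTheory.Limits AlgebraicGeometry TopologicalSpace
open ModPair

namespace Groth.Agent.S18750


/-- for ideals with principal sum, `(a ⊓ b) (a ⊔ b) = a b`. -/
theorem inf_mul_sup_of_principal {C : Type*} [CommRing C] (a b : Ideal C) (e : C)
    (hab : a ⊔ b = Ideal.span {e}) : (a ⊓ b) * (a ⊔ b) = a * b := by
  apply le_antisymm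
  · rw [Ideal.mul_sup]
    refine sup_le ?_ ?_
    · rw [mul_comm a b]; exact Ideal.mul_mono inf_le_right le_rfl
    · exact Ideal.mul_mono inf_le_left le_rfl
  · rw [Ideal.mul_le]
    intro x hx y hy
    have hxe : x ∈ Ideal.span {e} := hab ▸ (le_sup_left : a ≤ a ⊔ b) hx
    have hye : y ∈ Ideal.span {e} := hab ▸ (le_sup_right : b ≤ a ⊔ b) hy
    obtain ⟨x', rfl⟩ := Ideal.mem_span_singleton'.mp hxe
    obtain ⟨y', rfl⟩ := Ideal.mem_span_singleton'.mp hye
    have h1 : x' * y' * e ∈ a ⊓ b := by
      refine ⟨?_, ?_⟩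
      · have : x' * y' * e = y' * (x' * e) := by ring
        rw [this]; exact Ideal.mul_mem_left _ _ hx
      · have : x' * y' * e = x' * (y' * e) := by ring
        rw [this]; exact Ideal.mul_mem_left _ _ hy
    have h2 : x' * e * (y' * e) = (x' * y' * e) * e := by ring
    rw [h2, hab]
    exact Ideal.mul_mem_mul h1 (Ideal.mem_span_singleton_self e)

open Groth.Agent.Lib.helper16.EffCartier in
/-- for ideal sheaves with effective Cartier sum, `(a ⊓ b) (a ⊔ b) = a b`. -/
theorem inf_mul_sup {Y : Scheme.{u}} (a b : Y.IdealSheafData) (h : BlowUp.IsEffCartierIdeal (a ⊔ b)) :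
    (a ⊓ b) * (a ⊔ b) = a * b := by
  refine Scheme.IdealSheafData.ext_of_iSup_eq_top (fun V : Charts (a ⊔ b) => V.1) (iSup_charts h)
    (fun V => ?_)
  obtain ⟨V, t, ht, hV⟩ := V
  exact inf_mul_sup_of_principal (a.ideal V) (b.ideal V) t hV

theorem result' {S T X : Scheme.{u}} (J : T.IdealSheafData) (I : X.IdealSheafData)
    (f : X ⟶ S) (g : T ⟶ S) :
    ∃ (Y : Scheme.{u}) (π : Y ⟶ ModPair.mprod f g I J) (K : Y.IdealSheafData),
      ModPair.IsAmbProd f g I J π K := by
  obtain ⟨Y, π, hπ⟩ := Groth.Agent.Lib.helper16.BlowUpGlue.exists_isBlowUp (ModPair.mprod f g I J)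
    (ModPair.prodCentre f g I J)
  have hE : (ModPair.prodCentre f g I J).comap π =
      (I.comap (ModPair.mprodι f g I J ≫ pullback.fst f g)).comap π ⊔
        (J.comap (ModPair.mprodι f g I J ≫ pullback.snd f g)).comap π :=
    Scheme.IdealSheafData.comap_sup ..
  refine ⟨Y, π, (I.comap (ModPair.mprodι f g I J ≫ pullback.fst f g)).comap π ⊓
    (J.comap (ModPair.mprodι f g I J ≫ pullback.snd f g)).comap π, hπ, ?_⟩
  rw [hE]
  exact inf_mul_sup _ _ (hE ▸ hπ.1)



/-- Let (S, I_S), (T, J), (X, I) be schemes with quasi-coherent ideal sheaves of effective Cartier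
divisors and f : X ⟶ S, g : T ⟶ S morphisms satisfying the modulus condition, and let Y₀ be the
scheme-theoretic image of pr₁⁻¹(X°) ∩ pr₂⁻¹(T°) in X ×_S T. Then the ambient product exists: there
are a blowing up π : Y ⟶ Y₀ of Y₀ in the sum of the two pulled-back moduli and an ideal sheaf K on Y
whose product with the exceptional ideal is the product of the pull-backs of I and J (the divisor
D_X + D_T − E exists). -/
theorem result {S T X : Scheme.{u}} (IS : S.IdealSheafData)
    (J : T.IdealSheafData) (I : X.IdealSheafData) (hS : BlowUp.IsEffCartierIdeal IS)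
    (hT : BlowUp.IsEffCartierIdeal J) (hX : BlowUp.IsEffCartierIdeal I)
    (f : X ⟶ S) (hf : ModPair.IsAmbient I IS f) (g : T ⟶ S) (hg : ModPair.IsAmbient J IS g) :
    ∃ (Y : Scheme.{u}) (π : Y ⟶ ModPair.mprod f g I J) (K : Y.IdealSheafData),
      ModPair.IsAmbProd f g I J π K := by
  exact Groth.Agent.S18750.result' J I f g

end Groth.Agent.S18750
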