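import Groth.Statements.S18752
import Groth.Agent.Lib.Helper16.LocPullback
import Groth.Agent.Lib.Helper16.BlowUpGlue
import Groth.Agent.Lib.Helper16.BlowUpProper
import Groth.Agent.Lib.Helper16.ModPairLib2
import Groth.Agent.Lib.Helper16.IdealComapPow
import Groth.Agent.S18750
import Groth.Agent.S18755
import Groth.Agent.S18736
import Groth.Agent.S18749
import Groth.Agent.S18738
import Groth.Agent.S8852
import Groth.Agent.S1683
import Groth.Agent.S1682
import Groth.Agent.S17083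

set_option autoImplicit false
universe u
open CategoryTheory CategoryTheory.Limits AlgebraicGeometry TopologicalSpace
open ModPair

namespace Groth.Agent.S18752


open Groth.Agent.Lib.helper16.EffCartier Groth.Agent.Lib.helper16.EffCartier2
  Groth.Agent.Lib.helper16.ModPairLib Groth.Agent.Lib.helper16.ModPairLib2

/-- a blow-up is an isomorphism over any open missing the centre. -/
theorem isIso_morphismRestrict_of_disjoint {X X' : Scheme.{u}} (𝓘 : X.IdealSheafData) (b : X' ⟶ X)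
    (hb : BlowUp.IsBlowUp b 𝓘) (U : X.Opens) (hmem : ∀ x : X, x ∈ U → x ∉ 𝓘.support) :
    IsIso (b ∣_ U) := by
  have h1 : 𝓘.comap U.ι = ⊤ := by
    apply Groth.Agent.S1682.comap_eq_top_of_disjoint
    intro y
    have : U.ι y ∈ U := by simpa using y.2
    exact hmem _ this
  obtain ⟨h, hh, -⟩ := hb.2 U U.ι (h1 ▸ Groth.Agent.S1682.isEffCartierIdeal_top _)
  have hrange : Set.range h ⊆ Set.range (b ⁻¹ᵁ U).ι := by
    rintro _ ⟨y, rfl⟩
    simp only [Scheme.Opens.range_ι, TopologicalSpace.Opens.map_coe, Set.mem_preimage, SetLike.mem_coe]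
    rw [← Scheme.Hom.comp_apply, hh]
    simpa using y.2
  let k : (U : Scheme) ⟶ (b ⁻¹ᵁ U : Scheme) := IsOpenImmersion.lift (b ⁻¹ᵁ U).ι h hrange
  have hk : k ≫ (b ⁻¹ᵁ U).ι = h := IsOpenImmersion.lift_fac _ _ _
  have h2 : 𝓘.comap ((b ⁻¹ᵁ U).ι ≫ b) = ⊤ := by
    apply Groth.Agent.S1682.comap_eq_top_of_disjoint
    intro y
    have : ((b ⁻¹ᵁ U).ι ≫ b) y ∈ U := by
      rw [Scheme.Hom.comp_apply]
      exact y.2
    exact hmem _ this
  obtain ⟨h', -, huniq⟩ := hb.2 _ ((b ⁻¹ᵁ U).ι ≫ b) (h2 ▸ Groth.Agent.S1682.isEffCartierIdeal_top _)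
  refine ⟨k, ?_, ?_⟩
  · rw [← cancel_mono (b ⁻¹ᵁ U).ι, Category.assoc, hk, Category.id_comp]
    have e1 := huniq ((b ∣_ U) ≫ h) (by
      show ((b ∣_ U) ≫ h) ≫ b = _
      rw [Category.assoc, hh, morphismRestrict_ι])
    have e2 := huniq (b ⁻¹ᵁ U).ι rfl
    rw [e1, e2]
  · rw [← cancel_mono U.ι, Category.assoc, morphismRestrict_ι, ← Category.assoc, hk, hh,
      Category.id_comp]

/-- blowing up the sum of two effective Cartier ideals containing the modulus is an
admissible blow-up. -/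
theorem isAdmBlowup_of_isBlowUp_sup {Z Z' : Scheme.{u}} (IZ A B : Z.IdealSheafData)
    (hZ : BlowUp.IsEffCartierIdeal IZ) (hA : BlowUp.IsEffCartierIdeal A)
    (hB : BlowUp.IsEffCartierIdeal B) (hZA : IZ ≤ A)
    (β : Z' ⟶ Z) (hβ : BlowUp.IsBlowUp β (A ⊔ B)) :
    BlowUp.IsEffCartierIdeal (IZ.comap β) ∧ ModPair.IsAdmBlowup (IZ.comap β) IZ β := by
  refine ⟨Groth.Agent.S1683.isEffCartierIdeal_comap_of_isBlowUp _ β hβ _ hZ, rfl, ?_, ?_⟩
  · apply Groth.Agent.Lib.helper16.BlowUpProper.isProper_of_isBlowUp _ β hβ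
    intro x
    obtain ⟨U, hxU, -, t, ht, hU⟩ := exists_principal_le hA x ⊤ trivial
    obtain ⟨V, hxV, hVU, s, -, hV⟩ := exists_principal_le hB x U.1 hxU
    refine ⟨V, hxV, ?_⟩
    obtain ⟨-, hA'⟩ := principal_of_le A hVU ht hU
    show (A.ideal V ⊔ B.ideal V).FG
    rw [hA', hV]
    exact Submodule.FG.sup (Submodule.fg_span_singleton _) (Submodule.fg_span_singleton _)
  · apply isIso_morphismRestrict_of_disjoint _ β hβ
    intro x hx hx'
    exact hx (support_subset_of_le (hZA.trans le_sup_left) hx')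


open Groth.Agent.Lib.helper16.IdealComapPow in
theorem lemmaA {S T X Y : Scheme.{u}} (J : T.IdealSheafData) (I : X.IdealSheafData)
    (hT : BlowUp.IsEffCartierIdeal J) (hX : BlowUp.IsEffCartierIdeal I) (f : X ⟶ S) (g : T ⟶ S)
    (π : Y ⟶ ModPair.mprod f g I J) (K : Y.IdealSheafData) (hY : ModPair.IsAmbProd f g I J π K)
    (Z : Scheme.{u}) (IZ : Z.IdealSheafData) (hZ : BlowUp.IsEffCartierIdeal IZ)
    (a' : Z ⟶ T) (b' : Z ⟶ X) (ha : ModPair.IsAmbient IZ J a') (hb : ModPair.IsAmbient IZ I b')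
    (hab : a' ≫ g = b' ≫ f) :
    ∃ (Z' : Scheme.{u}) (β : Z' ⟶ Z) (c : Z' ⟶ Y),
      BlowUp.IsEffCartierIdeal (IZ.comap β) ∧ ModPair.IsAdmBlowup (IZ.comap β) IZ β ∧
      c ≫ π ≫ ModPair.mprodι f g I J ≫ pullback.snd f g = β ≫ a' ∧
      c ≫ π ≫ ModPair.mprodι f g I J ≫ pullback.fst f g = β ≫ b' ∧
      ModPair.IsAmbient (IZ.comap β) K c := by
  obtain ⟨h₀, ⟨h₀a, h₀b, -⟩, -⟩ := Groth.Agent.S18736.part3 J I f g Z IZ hZ a' b' ha hb hab
  have hA : BlowUp.IsEffCartierIdeal (I.comap b') := isEffCartier_comap_of_le IZ I hZ hX b' hb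
  have hB : BlowUp.IsEffCartierIdeal (J.comap a') := isEffCartier_comap_of_le IZ J hZ hT a' ha
  obtain ⟨Z', β, hβ⟩ := Groth.Agent.Lib.helper16.BlowUpGlue.exists_isBlowUp Z (I.comap b' ⊔ J.comap a')
  obtain ⟨hZ', hadm⟩ := isAdmBlowup_of_isBlowUp_sup IZ _ _ hZ hA hB hb β hβ
  have hcentre : (ModPair.prodCentre f g I J).comap h₀ = I.comap b' ⊔ J.comap a' := by
    unfold ModPair.prodCentre
    rw [Scheme.IdealSheafData.comap_sup, ← Scheme.IdealSheafData.comap_comp,
      ← Scheme.IdealSheafData.comap_comp, h₀b, h₀a]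
  have hE : BlowUp.IsEffCartierIdeal ((ModPair.prodCentre f g I J).comap (β ≫ h₀)) := by
    rw [Scheme.IdealSheafData.comap_comp, hcentre]
    exact hβ.1
  obtain ⟨c, hc, -⟩ := hY.1.2 Z' (β ≫ h₀) hE
  refine ⟨Z', β, c, hZ', hadm, ?_, ?_, ?_⟩
  · rw [← Category.assoc c, hc, Category.assoc, h₀a]
  · rw [← Category.assoc c, hc, Category.assoc, h₀b]
  · have hK := congrArg (fun D => D.comap c) hY.2
    simp only [comap_mul, ← Scheme.IdealSheafData.comap_comp, hc] at hK
    have e1 : c ≫ π ≫ ModPair.mprodι f g I J ≫ pullback.fst f g = β ≫ b' := by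
      rw [← Category.assoc c, hc, Category.assoc, h₀b]
    have e2 : c ≫ π ≫ ModPair.mprodι f g I J ≫ pullback.snd f g = β ≫ a' := by
      rw [← Category.assoc c, hc, Category.assoc, h₀a]
    have e3 : (ModPair.prodCentre f g I J).comap (β ≫ h₀) = I.comap (β ≫ b') ⊔ J.comap (β ≫ a') := by
      rw [Scheme.IdealSheafData.comap_comp, hcentre, Scheme.IdealSheafData.comap_sup,
        ← Scheme.IdealSheafData.comap_comp, ← Scheme.IdealSheafData.comap_comp]
    rw [e1, e2, e3] at hK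
    have hE' : BlowUp.IsEffCartierIdeal (I.comap (β ≫ b') ⊔ J.comap (β ≫ a')) := e3 ▸ hE
    have hKeq : K.comap c = I.comap (β ≫ b') ⊓ J.comap (β ≫ a') :=
      Groth.Agent.S18755.eq_of_mul_eq_mul hE'
        (hK.trans (Groth.Agent.S18750.inf_mul_sup _ _ hE').symm)
    show IZ.comap β ≤ K.comap c
    rw [hKeq, Scheme.IdealSheafData.comap_comp, Scheme.IdealSheafData.comap_comp]
    exact le_inf (Scheme.IdealSheafData.comap_mono β hb) (Scheme.IdealSheafData.comap_mono β ha)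


open Groth.Agent.Lib.helper16.IdealComapPow in
theorem lemmaB {S T X Y : Scheme.{u}} (J : T.IdealSheafData) (I : X.IdealSheafData)
    (hT : BlowUp.IsEffCartierIdeal J) (hX : BlowUp.IsEffCartierIdeal I) (f : X ⟶ S) (g : T ⟶ S)
    (π : Y ⟶ ModPair.mprod f g I J) (K : Y.IdealSheafData) (hY : ModPair.IsAmbProd f g I J π K)
    (hX' : ModPair.IsAmbient K I (π ≫ ModPair.mprodι f g I J ≫ pullback.fst f g))
    (hT' : ModPair.IsAmbient K J (π ≫ ModPair.mprodι f g I J ≫ pullback.snd f g))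
    (Z : Scheme.{u}) (IZ : Z.IdealSheafData) (hZ : BlowUp.IsEffCartierIdeal IZ)
    (c₁ c₂ : Z ⟶ Y) (h₁ : ModPair.IsAmbient IZ K c₁)
    (e1 : c₁ ≫ π ≫ ModPair.mprodι f g I J ≫ pullback.snd f g =
      c₂ ≫ π ≫ ModPair.mprodι f g I J ≫ pullback.snd f g)
    (e2 : c₁ ≫ π ≫ ModPair.mprodι f g I J ≫ pullback.fst f g =
      c₂ ≫ π ≫ ModPair.mprodι f g I J ≫ pullback.fst f g) : c₁ = c₂ := by
  have hπ : c₁ ≫ π = c₂ ≫ π := by
    rw [← cancel_mono (ModPair.mprodι f g I J)]
    apply pullback.hom_ext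
    · simpa only [Category.assoc] using e2
    · simpa only [Category.assoc] using e1
  have hA : BlowUp.IsEffCartierIdeal (I.comap (c₁ ≫ π ≫ ModPair.mprodι f g I J ≫ pullback.fst f g)) := by
    apply isEffCartier_comap_of_le IZ I hZ hX
    rw [Scheme.IdealSheafData.comap_comp]
    exact h₁.trans (Scheme.IdealSheafData.comap_mono c₁ hX')
  have hB : BlowUp.IsEffCartierIdeal (J.comap (c₁ ≫ π ≫ ModPair.mprodι f g I J ≫ pullback.snd f g)) := by
    apply isEffCartier_comap_of_le IZ J hZ hT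
    rw [Scheme.IdealSheafData.comap_comp]
    exact h₁.trans (Scheme.IdealSheafData.comap_mono c₁ hT')
  have hK := congrArg (fun D => D.comap c₁) hY.2
  simp only [comap_mul, ← Scheme.IdealSheafData.comap_comp] at hK
  have hE : BlowUp.IsEffCartierIdeal ((ModPair.prodCentre f g I J).comap (c₁ ≫ π)) :=
    (Groth.Agent.S8852.result _ _ (hK ▸ isEffCartier_mul hA hB)).2
  obtain ⟨c, -, hc⟩ := hY.1.2 Z (c₁ ≫ π) hE
  rw [hc c₁ rfl, hc c₂ hπ.symm]

theorem result' (P T X : ModPair.Pair.{u}) (f : X ⟶ P) (g : T ⟶ P)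
    {Y : Scheme.{u}} (π : Y ⟶ ModPair.mprod f.hom g.hom X.mod T.mod) (K : Y.IdealSheafData)
    (hY : ModPair.IsAmbProd f.hom g.hom X.mod T.mod π K) (hK : BlowUp.IsEffCartierIdeal K)
    (hX : ModPair.IsAmbient K X.mod (π ≫ ModPair.mprodι f.hom g.hom X.mod T.mod ≫ pullback.fst f.hom g.hom))
    (hT : ModPair.IsAmbient K T.mod (π ≫ ModPair.mprodι f.hom g.hom X.mod T.mod ≫ pullback.snd f.hom g.hom)) :
    IsPullback
      ((ModPair.Pair.admBlowup.{u}).Q.map
        (ModPair.Pair.Hom.mk (P := ModPair.Pair.mk Y K hK) (Q := T)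
          (π ≫ ModPair.mprodι f.hom g.hom X.mod T.mod ≫ pullback.snd f.hom g.hom) hT))
      ((ModPair.Pair.admBlowup.{u}).Q.map
        (ModPair.Pair.Hom.mk (P := ModPair.Pair.mk Y K hK) (Q := X)
          (π ≫ ModPair.mprodι f.hom g.hom X.mod T.mod ≫ pullback.fst f.hom g.hom) hX))
      ((ModPair.Pair.admBlowup.{u}).Q.map g) ((ModPair.Pair.admBlowup.{u}).Q.map f) := by
  haveI : (ModPair.Pair.admBlowup.{u}).HasRightCalculusOfFractions := Groth.Agent.S18738.result'
  apply Groth.Agent.Lib.helper16.LocPullback.isPullback_map (ModPair.Pair.admBlowup.{u}).Q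
    (ModPair.Pair.admBlowup.{u})
  · apply ModPair.Pair.Hom.ext
    show (π ≫ ModPair.mprodι f.hom g.hom X.mod T.mod ≫ pullback.snd f.hom g.hom) ≫ g.hom =
      (π ≫ ModPair.mprodι f.hom g.hom X.mod T.mod ≫ pullback.fst f.hom g.hom) ≫ f.hom
    simp only [Category.assoc, pullback.condition]
  · intro Z a b hab
    obtain ⟨Z', β, c, hZ', hadm, hc1, hc2, hamb⟩ := lemmaA T.mod X.mod T.isEffCartier X.isEffCartier
      f.hom g.hom π K hY Z.total Z.mod Z.isEffCartier a.hom b.hom a.cond b.cond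
      (congrArg ModPair.Pair.Hom.hom hab)
    refine ⟨ModPair.Pair.mk Z' (Z.mod.comap β) hZ', ModPair.Pair.Hom.mk β le_rfl, hadm,
      ModPair.Pair.Hom.mk c hamb, ?_, ?_⟩
    · exact ModPair.Pair.Hom.ext hc1
    · exact ModPair.Pair.Hom.ext hc2
  · intro Z c₁ c₂ e1 e2
    apply ModPair.Pair.Hom.ext
    exact lemmaB T.mod X.mod T.isEffCartier X.isEffCartier f.hom g.hom π K hY hX hT
      Z.total Z.mod Z.isEffCartier c₁.hom c₂.hom c₁.cond
      (congrArg ModPair.Pair.Hom.hom e1) (congrArg ModPair.Pair.Hom.hom e2)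



/-- Let f : X ⟶ P and g : T ⟶ P be ambient morphisms of modulus pairs and let (Y, K), with π : Y ⟶ Y₀ ⊆
X ×_P T, be an ambient product of X and T over P: Y₀ is the scheme-theoretic image of the product of
the interiors, π a blowing up of Y₀ in the sum of the pulled-back moduli, and K the ideal sheaf of
an effective Cartier divisor with K times the exceptional ideal equal to the product of the
pulled-back moduli, the two projections satisfying the modulus condition. Then in the localization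
of the category of modulus pairs at the abstract admissible blow-ups, the square with vertex (Y, K),
sides the two projections to T and X, and g, f, is a pullback square. -/
theorem result (P T X : ModPair.Pair.{u}) (f : X ⟶ P) (g : T ⟶ P)
    {Y : Scheme.{u}} (π : Y ⟶ ModPair.mprod f.hom g.hom X.mod T.mod) (K : Y.IdealSheafData)
    (hY : ModPair.IsAmbProd f.hom g.hom X.mod T.mod π K) (hK : BlowUp.IsEffCartierIdeal K)
    (hX : ModPair.IsAmbient K X.mod (π ≫ ModPair.mprodι f.hom g.hom X.mod T.mod ≫ pullback.fst f.hom g.hom))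
    (hT : ModPair.IsAmbient K T.mod (π ≫ ModPair.mprodι f.hom g.hom X.mod T.mod ≫ pullback.snd f.hom g.hom)) :
    IsPullback
      ((ModPair.Pair.admBlowup.{u}).Q.map
        (ModPair.Pair.Hom.mk (P := ModPair.Pair.mk Y K hK) (Q := T)
          (π ≫ ModPair.mprodι f.hom g.hom X.mod T.mod ≫ pullback.snd f.hom g.hom) hT))
      ((ModPair.Pair.admBlowup.{u}).Q.map
        (ModPair.Pair.Hom.mk (P := ModPair.Pair.mk Y K hK) (Q := X)
          (π ≫ ModPair.mprodι f.hom g.hom X.mod T.mod ≫ pullback.fst f.hom g.hom) hX))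
      ((ModPair.Pair.admBlowup.{u}).Q.map g) ((ModPair.Pair.admBlowup.{u}).Q.map f) := by
  exact result' P T X f g π K hY hK hX hT

end Groth.Agent.S18752
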