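import Groth.Statements.S18739
import Groth.Agent.S18752

set_option autoImplicit false
universe u
open CategoryTheory CategoryTheory.Limits AlgebraicGeometry TopologicalSpace
open ModPair

namespace Groth.Agent.S18739


section generic
universe v u' v'
variable {C : Type u} [Category.{v} C] {D : Type u'} [Category.{v'} D]
  (L : C ⥤ D) (W : MorphismProperty C) [L.IsLocalization W] [W.HasRightCalculusOfFractions]

include W in
/-- the image of a terminal object under a localization functor (with right calculus of fractions)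
is terminal. -/
theorem nonempty_isTerminal_obj {t : C} (ht : IsTerminal t) : Nonempty (IsTerminal (L.obj t)) := by
  haveI : L.EssSurj := Localization.essSurj L W
  have key : ∀ (Z₀ : C) (d d' : L.obj Z₀ ⟶ L.obj t), d = d' := by
    intro Z₀ d d'
    obtain ⟨V, v, hv, d₁, d₂, hd₁, hd₂⟩ :=
      Groth.Agent.Lib.helper16.LocPullback.exists_common_denominator L W d d'
    haveI : IsIso (L.map v) := Localization.inverts L W v hv
    rw [← cancel_epi (L.map v), hd₁, hd₂, ht.hom_ext d₁ d₂]
  refine ⟨IsTerminal.ofUniqueHom (fun Z => (L.objObjPreimageIso Z).inv ≫ L.map (ht.from _)) ?_⟩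
  intro Z m
  rw [Iso.eq_inv_comp]
  exact key _ _ _

include W in
/-- pullbacks in the localization exist as soon as images of cospans in `C` have pullbacks. -/
theorem hasPullbacks_of_map
    (h : ∀ {X Y Z : C} (f : X ⟶ Z) (g : Y ⟶ Z), HasPullback (L.map f) (L.map g)) :
    HasPullbacks D := by
  haveI : L.EssSurj := Localization.essSurj L W
  suffices H : ∀ {X Y Z : D} {f : X ⟶ Z} {g : Y ⟶ Z}, HasLimit (cospan f g) from
    hasPullbacks_of_hasLimit_cospan D
  intro X Y Z f g
  let eX : L.obj (L.objPreimage X) ≅ X := L.objObjPreimageIso X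
  let eY : L.obj (L.objPreimage Y) ≅ Y := L.objObjPreimageIso Y
  let eZ : L.obj (L.objPreimage Z) ≅ Z := L.objObjPreimageIso Z
  obtain ⟨φ, hφ⟩ := Localization.exists_rightFraction L W (eX.hom ≫ f ≫ eZ.inv)
  obtain ⟨ψ, hψ⟩ := Localization.exists_rightFraction L W (eY.hom ≫ g ≫ eZ.inv)
  haveI := h φ.f ψ.f
  haveI : IsIso (L.map φ.s) := Localization.inverts L W _ φ.hs
  haveI : IsIso (L.map ψ.s) := Localization.inverts L W _ ψ.hs
  have e : cospan (L.map φ.f) (L.map ψ.f) ≅ cospan f g := by
    refine cospanExt (asIso (L.map φ.s) ≪≫ eX) (asIso (L.map ψ.s) ≪≫ eY) eZ ?_ ?_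
    · have := MorphismProperty.RightFraction.map_s_comp_map φ L (Localization.inverts L W)
      rw [← hφ] at this
      simp only [Iso.trans_hom, asIso_hom, Category.assoc]
      rw [← this]
      simp
    · have := MorphismProperty.RightFraction.map_s_comp_map ψ L (Localization.inverts L W)
      rw [← hψ] at this
      simp only [Iso.trans_hom, asIso_hom, Category.assoc]
      rw [← this]
      simp
  exact hasLimit_of_iso e

end generic


theorem hasPullback_map {P T X : ModPair.Pair.{u}} (g : T ⟶ P) (f : X ⟶ P) :
    HasPullback ((ModPair.Pair.admBlowup.{u}).Q.map g) ((ModPair.Pair.admBlowup.{u}).Q.map f) := by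
  obtain ⟨Y, π, K, hY⟩ := Groth.Agent.S18750.result' T.mod X.mod f.hom g.hom
  obtain ⟨hK, hX, hT, -⟩ := Groth.Agent.S18749.result P.mod T.mod X.mod P.isEffCartier T.isEffCartier
    X.isEffCartier f.hom f.cond g.hom g.cond π K hY
  exact (Groth.Agent.S18752.result P T X f g π K hY hK hX hT).hasPullback

theorem result' : HasFiniteLimits (ModPair.Pair.admBlowup.{u}).Localization := by
  haveI : (ModPair.Pair.admBlowup.{u}).HasRightCalculusOfFractions := Groth.Agent.S18738.result'
  let t : ModPair.Pair.{u} := ⟨⊤_ Scheme.{u}, ⊤, Groth.Agent.S1682.isEffCartierIdeal_top _⟩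
  have ht : IsTerminal t := IsTerminal.ofUniqueHom
    (fun Z => ⟨terminal.from Z.total, by
      show Z.mod ≤ _
      rw [Scheme.IdealSheafData.comap_top]
      exact le_top⟩)
    (fun Z m => ModPair.Pair.Hom.ext (terminal.hom_ext _ _))
  obtain ⟨ht'⟩ := nonempty_isTerminal_obj (ModPair.Pair.admBlowup.{u}).Q (ModPair.Pair.admBlowup.{u}) ht
  haveI : HasTerminal (ModPair.Pair.admBlowup.{u}).Localization := ht'.hasTerminal
  haveI : HasPullbacks (ModPair.Pair.admBlowup.{u}).Localization :=
    hasPullbacks_of_map (ModPair.Pair.admBlowup.{u}).Q (ModPair.Pair.admBlowup.{u})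
      (fun f g => hasPullback_map f g)
  exact hasFiniteLimits_of_hasTerminal_and_pullbacks



/-- The localization of the category of modulus pairs and ambient morphisms at the class of abstract
admissible blow-ups has all finite limits. -/
theorem result :
    HasFiniteLimits (ModPair.Pair.admBlowup.{u}).Localization := by
  exact result'

end Groth.Agent.S18739
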