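import Groth.Statements.S18741
import Mathlib
import Groth.Agent.Lib.Helper16.LocSlice

set_option autoImplicit false
universe v₁ v₂ v₃ u₁ u₂ u₃
open CategoryTheory
open ModPair

namespace Groth.Agent.S18741

section helpers

open Groth.Agent.Lib.helper16.LocSlice

variable {C : Type u₁} [Category.{v₁} C] (W : MorphismProperty C) [W.HasRightCalculusOfFractions] (S : C)

/-- the slice inherits the right calculus of fractions. -/
instance hasRightCalculusOfFractions_over :
    (W.inverseImage (Over.forget S)).HasRightCalculusOfFractions where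
  id_mem X := W.id_mem X.left
  comp_mem f g hf hg := W.comp_mem f.left g.left hf hg
  exists_rightFraction := by
    intro X Y φ
    obtain ⟨ψ, hψ⟩ := (MorphismProperty.LeftFraction.mk (W := W) φ.f.left φ.s.left φ.hs).exists_rightFraction
    dsimp at hψ
    have hw : ψ.f ≫ Y.hom = ψ.s ≫ X.hom := by
      rw [← Over.w φ.s, ← Category.assoc, ← hψ, Category.assoc, Over.w φ.f]
    refine ⟨⟨(Over.homMk ψ.s rfl : Over.mk (ψ.s ≫ X.hom) ⟶ X), ψ.hs, Over.homMk ψ.f hw⟩, ?_⟩
    ext
    exact hψ
  ext := by
    intro X Y Y' f₁ f₂ s hs h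
    obtain ⟨Z, t, ht, hft⟩ := MorphismProperty.HasRightCalculusOfFractions.ext f₁.left f₂.left s.left hs
      (congrArg CommaMorphism.left h)
    refine ⟨Over.mk (t ≫ X.hom), Over.homMk t rfl, ht, ?_⟩
    ext
    exact hft


variable {D : Type u₂} [Category.{v₂} D] (L : C ⥤ D) [L.IsLocalization W]

theorem P2 ⦃x y : Over S⦄ (f g : x ⟶ y) (h : (Over.post L).map f = (Over.post L).map g) :
    ∃ (z : Over S) (σ : z ⟶ x), (W.inverseImage (Over.forget S)) σ ∧ σ ≫ f = σ ≫ g := by
  have h1 : L.map f.left = L.map g.left := congrArg CommaMorphism.left h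
  obtain ⟨Z, t, ht, hft⟩ := (MorphismProperty.map_eq_iff_precomp L W f.left g.left).mp h1
  refine ⟨Over.mk (t ≫ x.hom), Over.homMk t rfl, ht, ?_⟩
  ext
  exact hft

theorem P1 ⦃x y : Over S⦄ (ψ : (Over.post L).obj x ⟶ (Over.post L).obj y) :
    ∃ (z : Over S) (σ : z ⟶ x) (_ : (W.inverseImage (Over.forget S)) σ) (φ : z ⟶ y),
      (Over.post L).map σ ≫ ψ = (Over.post L).map φ := by
  obtain ⟨ψl, hψl⟩ : ∃ ψl : L.obj x.left ⟶ L.obj y.left, ψl = ψ.left := ⟨ψ.left, rfl⟩
  obtain ⟨ρ, hρ⟩ := Localization.exists_rightFraction L W ψl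
  have h1 : L.map ρ.s ≫ ψl = L.map ρ.f := by
    rw [hρ]
    exact ρ.map_s_comp_map L _
  have hw : ψl ≫ L.map y.hom = L.map x.hom := by
    rw [hψl]
    exact Over.w ψ
  have h2 : L.map (ρ.f ≫ y.hom) = L.map (ρ.s ≫ x.hom) := by
    rw [L.map_comp, L.map_comp, ← h1, Category.assoc, hw]
  obtain ⟨Z, t, ht, hft⟩ := (MorphismProperty.map_eq_iff_precomp L W _ _).mp h2
  refine ⟨Over.mk (t ≫ ρ.s ≫ x.hom), Over.homMk (t ≫ ρ.s) (by simp), W.comp_mem _ _ ht ρ.hs,
    Over.homMk (t ≫ ρ.f) (by simpa using hft), ?_⟩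
  ext
  show L.map (t ≫ ρ.s) ≫ ψ.left = L.map (t ≫ ρ.f)
  have h3 : L.map (t ≫ ρ.s) ≫ ψl = L.map (t ≫ ρ.f) := by
    rw [L.map_comp, L.map_comp, Category.assoc, h1]
  rw [← hψl]
  exact h3

include W in
theorem essSurj_post : (Over.post (X := S) L).EssSurj where
  mem_essImage d := by
    haveI := Localization.essSurj L W
    obtain ⟨ρ, hρ⟩ := Localization.exists_rightFraction L W
      ((L.objObjPreimageIso d.left).hom ≫ d.hom)
    have h1 : L.map ρ.s ≫ (L.objObjPreimageIso d.left).hom ≫ d.hom = L.map ρ.f := by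
      rw [hρ, MorphismProperty.RightFraction.map_s_comp_map]
    exact ⟨Over.mk ρ.f, ⟨Over.isoMk (Localization.isoOfHom L W ρ.s ρ.hs ≪≫ L.objObjPreimageIso d.left)
      (by
        show (L.map ρ.s ≫ (L.objObjPreimageIso d.left).hom) ≫ d.hom = L.map ρ.f
        rw [Category.assoc]
        exact h1)⟩⟩

theorem result' {E : Type u₃} [Category.{v₃} E] (L' : Over S ⥤ E)
    [L'.IsLocalization (W.inverseImage (Over.forget S))]
    (Φ : E ⥤ Over (L.obj S)) (e : L' ⋙ Φ ≅ Over.post L) : Φ.IsEquivalence := by
  haveI := essSurj_post W S L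
  exact
    { faithful := faithful_of (W.inverseImage (Over.forget S)) L' (Over.post L) Φ e (P2 W S L)
      full := full_of (W.inverseImage (Over.forget S)) L' (Over.post L) Φ e (P1 W S L)
      essSurj := essSurj_of L' (Over.post L) Φ e }


end helpers


/-- Let C be a category, W a class of morphisms of C admitting a calculus of right fractions, and S an
object of C; let W_S be the class of morphisms of the slice category over S whose underlying
morphism lies in W. Then the canonical functor from the localization of the slice category C/S at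
W_S to the slice category over S of the localization of C at W is an equivalence: for every
localization functor L : C ⥤ D at W, every localization functor L' : C/S ⥤ E at W_S, and every
functor Φ : E ⥤ D/L(S) through which the functor C/S ⥤ D/L(S) induced by L factors up to
isomorphism, Φ is an equivalence of categories. -/
theorem result {C : Type u₁}
    [Category.{v₁} C] (W : MorphismProperty C) [W.HasRightCalculusOfFractions] (S : C)
    {D : Type u₂} [Category.{v₂} D] (L : C ⥤ D) [L.IsLocalization W]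
    {E : Type u₃} [Category.{v₃} E] (L' : Over S ⥤ E)
    [L'.IsLocalization (W.inverseImage (Over.forget S))]
    (Φ : E ⥤ Over (L.obj S)) (e : L' ⋙ Φ ≅ Over.post L) : Φ.IsEquivalence := by
  exact Groth.Agent.S18741.result' W S L L' Φ e

end Groth.Agent.S18741
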