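import Groth.Statements.S18743
import Mathlib
import Groth.Agent.Lib.Helper16.EffCartier

set_option autoImplicit false
universe u
open CategoryTheory CategoryTheory.Limits AlgebraicGeometry TopologicalSpace
open ModPair

namespace Groth.Agent.S18743


open Groth.Agent.Lib.helper16.EffCartier

theorem result' {S T X : Scheme.{u}} (IS : S.IdealSheafData)
    (IT : T.IdealSheafData) (IX : X.IdealSheafData) (hS : BlowUp.IsEffCartierIdeal IS)
    (hT : BlowUp.IsEffCartierIdeal IT) (hX : BlowUp.IsEffCartierIdeal IX)
    (p : X ⟶ S) (hp : ModPair.IsAmbient IX IS p) (f : T ⟶ S) (hf : ModPair.IsMinimal IT IS f) [Flat f] :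
    IsSchemeTheoreticallyDominant (ModPair.prodInterior p f IX IT).ι ∧
      IsIso (ModPair.mprodι p f IX IT) ∧
      BlowUp.IsEffCartierIdeal (IX.comap (pullback.fst p f)) := by
  have hc : BlowUp.IsEffCartierIdeal (IX.comap (pullback.fst p f)) :=
    isEffCartier_comap_of_flat IX hX (pullback.fst p f)
  have hker : (ModPair.prodInterior p f IX IT).ι.ker = ⊥ := by
    apply ker_ι_eq_bot_of_isEffCartier (IX.comap (pullback.fst p f)) hc
    intro x hx
    rw [mem_compl_support_comap] at hx
    refine ⟨hx, ?_⟩
    -- `pr₂ x ∉ support IT`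
    show (pullback.snd p f) x ∉ IT.support
    rw [hf, mem_compl_support_comap]
    intro h
    apply hx
    -- `f (pr₂ x) = p (pr₁ x)`
    have hcomm : f ((pullback.snd p f) x) = p ((pullback.fst p f) x) := by
      rw [← Scheme.Hom.comp_apply, ← Scheme.Hom.comp_apply, pullback.condition]
    rw [hcomm, ← mem_compl_support_comap] at h
    exact support_subset_of_le hp h
  refine ⟨⟨hker⟩, ?_, hc⟩
  show IsIso ((ModPair.prodInterior p f IX IT).ι.ker.subschemeι)
  rw [Scheme.isIso_subschemeι_iff_eq_bot]
  exact hker



/-- Let (S, I_S), (T, I_T), (X, I_X) be schemes equipped with quasi-coherent ideal sheaves of effective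
Cartier divisors, p : X ⟶ S a morphism with the modulus condition I_X ≤ I_S.comap p, and f : T ⟶ S a
minimal morphism (I_T = I_S.comap f) which is flat. Then the ambient product of (T, I_T) and (X,
I_X) over (S, I_S) has total space all of X ×_S T with modulus pulled back from X: the open
pr₁⁻¹(X°) ∩ pr₂⁻¹(T°) (X°, T° the complements of the supports) is scheme-theoretically dominant in X
×_S T, the closed immersion of its scheme-theoretic image is an isomorphism, and I_X.comap pr₁ is
the ideal sheaf of an effective Cartier divisor. -/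
theorem result {S T X : Scheme.{u}} (IS : S.IdealSheafData)
    (IT : T.IdealSheafData) (IX : X.IdealSheafData) (hS : BlowUp.IsEffCartierIdeal IS)
    (hT : BlowUp.IsEffCartierIdeal IT) (hX : BlowUp.IsEffCartierIdeal IX)
    (p : X ⟶ S) (hp : ModPair.IsAmbient IX IS p) (f : T ⟶ S) (hf : ModPair.IsMinimal IT IS f) [Flat f] :
    IsSchemeTheoreticallyDominant (ModPair.prodInterior p f IX IT).ι ∧
      IsIso (ModPair.mprodι p f IX IT) ∧
      BlowUp.IsEffCartierIdeal (IX.comap (pullback.fst p f)) := by
  exact Groth.Agent.S18743.result' IS IT IX hS hT hX p hp f hf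

end Groth.Agent.S18743
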