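import Groth.Statements.S18744
import Groth.Agent.Lib.Helper16.EffCartier
import Groth.Agent.Lib.Helper7.IdealComap
import Mathlib.AlgebraicGeometry.AffineTransitionLimit

set_option autoImplicit false
universe u
open CategoryTheory CategoryTheory.Limits AlgebraicGeometry TopologicalSpace
open ModPair

namespace Groth.Agent.S18744

open Groth.Agent.Lib.helper16.EffCartier

/-- two generators of the same principal ideal, one of which is a nonzerodivisor. -/
lemma mem_nonZeroDivisors_of_span_eq {R : Type*} [CommRing R] {s t : R}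
    (hs : s ∈ nonZeroDivisors R) (h : Ideal.span {t} = Ideal.span {s}) : t ∈ nonZeroDivisors R := by
  have h1 : s ∈ Ideal.span {t} := h ▸ Ideal.mem_span_singleton_self s
  obtain ⟨d, hd⟩ := Ideal.mem_span_singleton'.mp h1
  rw [← hd] at hs
  exact mem_nonZeroDivisors_of_mul_mem hs

/-- A generator of an effective Cartier ideal on an affine open is a nonzerodivisor. -/
theorem generator_mem_nonZeroDivisors {Y : Scheme.{u}} {K : Y.IdealSheafData}
    (hK : BlowUp.IsEffCartierIdeal K) (U : Y.affineOpens) (t : Γ(Y, U.1))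
    (hU : K.ideal U = Ideal.span {t}) : t ∈ nonZeroDivisors Γ(Y, U.1) := by
  rw [mem_nonZeroDivisors_iff_right]
  intro a ha
  -- locally zero
  apply Y.IsSheaf.section_ext
  intro y hy
  obtain ⟨V', hyV', hle, s, hs, hV'⟩ := exists_principal_le hK y U.1 hy
  refine ⟨V'.1, hle, hyV', ?_⟩
  rw [map_zero]
  have h1 : K.ideal V' = Ideal.span {(Y.presheaf.map (homOfLE hle).op).hom t} := by
    rw [← K.map_ideal (U := V') (V := U) hle, hU, Ideal.map_span, Set.image_singleton]
    rfl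
  have h2 : (Y.presheaf.map (homOfLE hle).op).hom t ∈ nonZeroDivisors Γ(Y, V'.1) :=
    mem_nonZeroDivisors_of_span_eq hs (h1.symm.trans hV')
  have h3 : (Y.presheaf.map (homOfLE hle).op).hom a * (Y.presheaf.map (homOfLE hle).op).hom t = 0 := by
    rw [← map_mul, ha, map_zero]
  exact (mem_nonZeroDivisors_iff_right.mp h2) _ h3

theorem app_eq_zero_of_appLE_eq_zero {X Y : Scheme.{u}} (f : X ⟶ Y) (U : Y.Opens) (V : X.Opens)
    (e : V ≤ f ⁻¹ᵁ U) (heq : V = f ⁻¹ᵁ U) (s : Γ(Y, U)) (h : (f.appLE U V e).hom s = 0) :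
    (f.app U).hom s = 0 := by
  subst heq
  simpa [Scheme.Hom.appLE] using h

section limit

variable {I : Type u} [SmallCategory I] [IsCofiltered I] (D : I ⥤ Scheme.{u}) (c : Cone D)
  (hc : IsLimit c) [∀ {i j : I} (t : i ⟶ j), IsAffineHom (D.map t)]

include hc in
/-- sections of the limit over the preimage of an affine open come from a finite stage. -/
theorem exists_appLE_eq (i : I) (W : (D.obj i).Opens) (hW : IsAffineOpen W)
    (a : Γ(c.pt, c.π.app i ⁻¹ᵁ W)) :
    ∃ (j : Over i) (b : Γ(D.obj j.left, D.map j.hom ⁻¹ᵁ W)),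
      ((c.π.app j.left).appLE (D.map j.hom ⁻¹ᵁ W) (c.π.app i ⁻¹ᵁ W)
        (by rw [← Scheme.Hom.comp_preimage, c.w])).hom b = a := by
  haveI : ∀ j, IsAffine ((opensDiagram D i W).obj j) := fun j => hW.preimage (D.map j.hom)
  obtain ⟨j, b', hb'⟩ := exists_appTop_π_eq_of_isAffine_of_isLimit (opensDiagram D i W)
    (opensCone D c i W) (isLimitOpensCone D c hc i W) ((c.π.app i ⁻¹ᵁ W).topIso.inv.hom a)
  refine ⟨j, (D.map j.hom ⁻¹ᵁ W).topIso.hom.hom b', ?_⟩
  have h1 : ((opensCone D c i W).π.app j).appTop =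
      (D.map j.hom ⁻¹ᵁ W).topIso.hom ≫ (c.π.app j.left).appLE (D.map j.hom ⁻¹ᵁ W)
        (c.π.app i ⁻¹ᵁ W) (by rw [← Scheme.Hom.comp_preimage, c.w]) ≫
        (c.π.app i ⁻¹ᵁ W).topIso.inv :=
    Scheme.Hom.resLE_app_top _ _
  rw [h1] at hb'
  have hinj : Function.Injective ((c.π.app i ⁻¹ᵁ W).topIso.inv.hom) :=
    (ConcreteCategory.bijective_of_isIso (c.π.app i ⁻¹ᵁ W).topIso.inv).1
  exact hinj hb'

end limit

open Groth.Agent.Lib.helper7.IdealComap in
theorem result' {I : Type u}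
    [SmallCategory I] [IsCofiltered I] (D : I ⥤ Scheme.{u}) (c : Cone D) (hc : IsLimit c)
    [∀ (i j : I) (t : i ⟶ j), IsAffineHom (D.map t)]
    (J : ∀ i, (D.obj i).IdealSheafData) (hJ : ∀ i, BlowUp.IsEffCartierIdeal (J i))
    (hmin : ∀ (i j : I) (t : i ⟶ j), ModPair.IsMinimal (J i) (J j) (D.map t)) (i : I) :
    BlowUp.IsEffCartierIdeal ((J i).comap (c.π.app i)) := by
  haveI : ∀ {i j : I} (t : i ⟶ j), IsAffineHom (D.map t) := fun t => inferInstance
  haveI := isAffineHom_π_app D c hc i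
  intro x
  obtain ⟨W, hxW, t, ht, hW⟩ := hJ i (c.π.app i x)
  have hV : IsAffineOpen (c.π.app i ⁻¹ᵁ W.1) := W.2.preimage (c.π.app i)
  have happ : ∀ {X Y : Scheme.{u}} (f : X ⟶ Y) (U : Y.Opens),
      f.appLE U (f ⁻¹ᵁ U) le_rfl = f.app U := fun f U => by simp [Scheme.Hom.appLE]
  refine ⟨⟨c.π.app i ⁻¹ᵁ W.1, hV⟩, hxW, ((c.π.app i).app W.1).hom t, ?_, ?_⟩
  · rw [mem_nonZeroDivisors_iff_right]
    intro a ha
    obtain ⟨j, b, rfl⟩ := exists_appLE_eq D c hc i W.1 W.2 a
    have hWjaff : IsAffineOpen (D.map j.hom ⁻¹ᵁ W.1) := W.2.preimage (D.map j.hom)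
    have e : c.π.app i ⁻¹ᵁ W.1 ≤ c.π.app j.left ⁻¹ᵁ (D.map j.hom ⁻¹ᵁ W.1) := by
      rw [← Scheme.Hom.comp_preimage, c.w]
    have h1 : ((c.π.app j.left).appLE (D.map j.hom ⁻¹ᵁ W.1) _ e).hom
        (((D.map j.hom).app W.1).hom t) = ((c.π.app i).app W.1).hom t := by
      rw [← happ (D.map j.hom) W.1, ← happ (c.π.app i) W.1, ← CommRingCat.comp_apply,
        Scheme.Hom.appLE_comp_appLE]
      congr 3
      exact c.w j.hom
    have h2 : ((c.π.app j.left).appLE (D.map j.hom ⁻¹ᵁ W.1) _ e).hom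
        (b * ((D.map j.hom).app W.1).hom t) = 0 := by
      rw [map_mul, h1, ha]
    have h3 : ((c.π.app j.left).app (D.map j.hom ⁻¹ᵁ W.1)).hom
        (b * ((D.map j.hom).app W.1).hom t) = 0 :=
      app_eq_zero_of_appLE_eq_zero _ _ _ e (by rw [← Scheme.Hom.comp_preimage, c.w]) _ h2
    obtain ⟨k, f, hk⟩ := exists_app_map_eq_zero_of_isLimit D c hc hWjaff.isCompact _ h3
    rw [map_mul] at hk
    have hWkaff : IsAffineOpen (D.map f ⁻¹ᵁ (D.map j.hom ⁻¹ᵁ W.1)) := hWjaff.preimage (D.map f)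
    have hj : (J j.left).ideal ⟨D.map j.hom ⁻¹ᵁ W.1, hWjaff⟩ =
        Ideal.span {((D.map j.hom).app W.1).hom t} := by
      rw [show J j.left = (J i).comap (D.map j.hom) from hmin j.left i j.hom,
        ideal_comap (D.map j.hom) (J i) W.2 hWjaff le_rfl, hW, Ideal.map_span,
        Set.image_singleton, happ]
    have hkk : (J k).ideal ⟨D.map f ⁻¹ᵁ (D.map j.hom ⁻¹ᵁ W.1), hWkaff⟩ =
        Ideal.span {((D.map f).app (D.map j.hom ⁻¹ᵁ W.1)).hom (((D.map j.hom).app W.1).hom t)} := by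
      rw [show J k = (J j.left).comap (D.map f) from hmin k j.left f,
        ideal_comap (D.map f) (J j.left) hWjaff hWkaff le_rfl, hj, Ideal.map_span,
        Set.image_singleton, happ]
    have hnzd := generator_mem_nonZeroDivisors (hJ k) ⟨_, hWkaff⟩ _ hkk
    have hb0 : ((D.map f).app (D.map j.hom ⁻¹ᵁ W.1)).hom b = 0 :=
      (mem_nonZeroDivisors_iff_right.mp hnzd) _ hk
    have e' : c.π.app i ⁻¹ᵁ W.1 ≤ c.π.app k ⁻¹ᵁ (D.map f ⁻¹ᵁ (D.map j.hom ⁻¹ᵁ W.1)) := by
      rw [← Scheme.Hom.comp_preimage, ← Scheme.Hom.comp_preimage, c.w, c.w]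
    have h4 : (c.π.app j.left).appLE (D.map j.hom ⁻¹ᵁ W.1) _ e =
        (D.map f).appLE (D.map j.hom ⁻¹ᵁ W.1) (D.map f ⁻¹ᵁ (D.map j.hom ⁻¹ᵁ W.1)) le_rfl ≫
          (c.π.app k).appLE (D.map f ⁻¹ᵁ (D.map j.hom ⁻¹ᵁ W.1)) _ e' := by
      rw [Scheme.Hom.appLE_comp_appLE]
      congr 1
      exact (c.w f).symm
    rw [h4, CommRingCat.comp_apply, happ, hb0, map_zero]
  · rw [ideal_comap (c.π.app i) (J i) W.2 hV le_rfl, hW, Ideal.map_span, Set.image_singleton,
      happ]

/-- Let (X_i, I_i) be a cofiltered system of schemes equipped with quasi-coherent ideal sheaves of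
effective Cartier divisors, with affine and minimal transition morphisms (the modulus of X_i is the
pull-back of the modulus of X_j along each transition morphism X_i ⟶ X_j), and let X be its limit
with projections π_i. Then the pulled-back ideal I_i.comap π_i is the ideal sheaf of an effective
Cartier divisor on X for every i; with this modulus X is a modulus pair mapping minimally to each
(X_i, I_i). (The source allows the conditions on the transition morphisms to hold only beyond some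
index; here they are assumed throughout.) -/
theorem result {I : Type u}
    [SmallCategory I] [IsCofiltered I] (D : I ⥤ Scheme.{u}) (c : Cone D) (hc : IsLimit c)
    [∀ (i j : I) (t : i ⟶ j), IsAffineHom (D.map t)]
    (J : ∀ i, (D.obj i).IdealSheafData) (hJ : ∀ i, BlowUp.IsEffCartierIdeal (J i))
    (hmin : ∀ (i j : I) (t : i ⟶ j), ModPair.IsMinimal (J i) (J j) (D.map t)) (i : I) :
    BlowUp.IsEffCartierIdeal ((J i).comap (c.π.app i)) := by
  exact result' D c hc J hJ hmin i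

end Groth.Agent.S18744
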