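import Groth.Statements.S18748
import Mathlib
import Groth.Agent.Lib.Helper16.CoprodPair2
import Groth.Agent.Lib.Helper16.LocCoprod
import Groth.Agent.S18738
import Groth.Agent.S18747


set_option autoImplicit false
universe u
open CategoryTheory CategoryTheory.Limits AlgebraicGeometry TopologicalSpace
open ModPair

namespace Groth.Agent.S18748


open Groth.Agent.Lib.helper16.EffCartier Groth.Agent.Lib.helper16.EffCartier2
  Groth.Agent.Lib.helper16.ModPairLib Groth.Agent.Lib.helper16.ModPairLib2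
  Groth.Agent.Lib.helper16.CoprodPair Groth.Agent.Lib.helper16.CoprodPair2

theorem admBlowup_of_iso {P Q : ModPair.Pair.{u}} (e : P ≅ Q) :
    ModPair.Pair.admBlowup.{u} e.hom := by
  have h1 : e.hom.hom ≫ e.inv.hom = 𝟙 _ := congrArg ModPair.Pair.Hom.hom e.hom_inv_id
  have h2 : e.inv.hom ≫ e.hom.hom = 𝟙 _ := congrArg ModPair.Pair.Hom.hom e.inv_hom_id
  haveI : IsIso e.hom.hom := ⟨e.inv.hom, h1, h2⟩
  refine ⟨?_, inferInstance, inferInstance⟩
  apply le_antisymm e.hom.cond
  have : Q.mod.comap e.hom.hom ≤ (P.mod.comap e.inv.hom).comap e.hom.hom :=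
    Scheme.IdealSheafData.comap_mono e.hom.hom e.inv.cond
  rw [← Scheme.IdealSheafData.comap_comp, h1, Scheme.IdealSheafData.comap_id] at this
  exact this

lemma inj_desc' {σ : Type u} (F : σ → ModPair.Pair.{u}) {P : ModPair.Pair.{u}}
    (g : ∀ j, F j ⟶ P) (j : σ) : inj F j ≫ desc F g = g j := by
  apply ModPair.Pair.Hom.ext
  show Limits.Sigma.ι (fun i => (F i).total) j ≫ (Limits.Sigma.desc fun j => (g j).hom) = _
  rw [Limits.Sigma.ι_desc]

lemma hom_ext' {σ : Type u} (F : σ → ModPair.Pair.{u}) {P : ModPair.Pair.{u}}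
    (m m' : Groth.Agent.Lib.helper16.CoprodPair.pair F ⟶ P)
    (h : ∀ j, inj F j ≫ m = inj F j ≫ m') : m = m' :=
  (isColimit F).hom_ext (fun ⟨j⟩ => h j)

section
variable {J : Type} (X : Discrete J ⥤ ModPair.Pair.{u})

/-- the family over the lifted index type. -/
noncomputable abbrev fam : ULift.{u} J → ModPair.Pair.{u} := fun i => X.obj ⟨i.down⟩

/-- the explicit colimit cocone. -/
noncomputable def cc : Cocone X where
  pt := Groth.Agent.Lib.helper16.CoprodPair.pair (fam X)
  ι := Discrete.natTrans (fun j => inj (fam X) ⟨j.as⟩)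

/-- it is a colimit. -/
noncomputable def isColimitCc : IsColimit (cc X) where
  desc s := desc (fam X) (fun i => s.ι.app ⟨i.down⟩)
  fac s j := by
    obtain ⟨j⟩ := j
    exact inj_desc' (fam X) (fun i => s.ι.app ⟨i.down⟩) ⟨j⟩
  uniq s m hm := by
    refine hom_ext' (fam X) _ _ (fun i => ?_)
    rw [inj_desc']
    exact hm ⟨i.down⟩

end

theorem stable (J : Type) : (ModPair.Pair.admBlowup.{u}).IsStableUnderCoproductsOfShape J where
  condition X₁ X₂ c₁ c₂ h₁ h₂ f hf φ hφ := by
    haveI := Groth.Agent.S18738.result'.{u}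
    let e₁ := h₁.coconePointUniqueUpToIso (isColimitCc X₁)
    let e₂ := h₂.coconePointUniqueUpToIso (isColimitCc X₂)
    let f' : ∀ i : ULift.{u} J, fam X₁ i ⟶ fam X₂ i := fun i => f.app ⟨i.down⟩
    have hmap : ModPair.Pair.admBlowup.{u}
        (Groth.Agent.Lib.helper16.CoprodPair2.map (fam X₁) (fam X₂) f') :=
      admBlowup_map _ _ _ (fun i => hf ⟨i.down⟩)
    have key : φ = e₁.hom ≫ Groth.Agent.Lib.helper16.CoprodPair2.map (fam X₁) (fam X₂) f' ≫
        e₂.inv := by
      apply h₁.hom_ext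
      intro j
      obtain ⟨j⟩ := j
      have h5 : (cc X₁).ι.app ⟨j⟩ ≫ Groth.Agent.Lib.helper16.CoprodPair2.map (fam X₁) (fam X₂) f' =
          f.app ⟨j⟩ ≫ (cc X₂).ι.app ⟨j⟩ := inj_map (fam X₁) (fam X₂) f' ⟨j⟩
      have h6 : c₁.ι.app ⟨j⟩ ≫ e₁.hom = (cc X₁).ι.app ⟨j⟩ :=
        IsColimit.comp_coconePointUniqueUpToIso_hom h₁ _ ⟨j⟩
      have h7 : (cc X₂).ι.app ⟨j⟩ ≫ e₂.inv = c₂.ι.app ⟨j⟩ :=
        IsColimit.comp_coconePointUniqueUpToIso_inv h₂ _ ⟨j⟩
      calc c₁.ι.app ⟨j⟩ ≫ φ = f.app ⟨j⟩ ≫ c₂.ι.app ⟨j⟩ := hφ _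
        _ = f.app ⟨j⟩ ≫ ((cc X₂).ι.app ⟨j⟩ ≫ e₂.inv) := by rw [h7]
        _ = (f.app ⟨j⟩ ≫ (cc X₂).ι.app ⟨j⟩) ≫ e₂.inv := (Category.assoc _ _ _).symm
        _ = ((cc X₁).ι.app ⟨j⟩ ≫
            Groth.Agent.Lib.helper16.CoprodPair2.map (fam X₁) (fam X₂) f') ≫ e₂.inv :=
          congrArg (fun t => t ≫ e₂.inv) h5.symm
        _ = ((c₁.ι.app ⟨j⟩ ≫ e₁.hom) ≫
            Groth.Agent.Lib.helper16.CoprodPair2.map (fam X₁) (fam X₂) f') ≫ e₂.inv := by
          rw [h6]
        _ = c₁.ι.app ⟨j⟩ ≫ e₁.hom ≫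
            Groth.Agent.Lib.helper16.CoprodPair2.map (fam X₁) (fam X₂) f' ≫ e₂.inv := by
          simp only [Category.assoc]
    rw [key]
    exact MorphismProperty.comp_mem _ _ _ (admBlowup_of_iso e₁)
      (MorphismProperty.comp_mem _ _ _ hmap (admBlowup_of_iso e₂.symm))

theorem result' :
    HasBinaryCoproducts (ModPair.Pair.admBlowup.{u}).Localization ∧
      PreservesColimitsOfShape (Discrete WalkingPair) (ModPair.Pair.admBlowup.{u}).Q := by
  haveI := Groth.Agent.S18738.result'.{u}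
  haveI : HasColimitsOfShape (Discrete WalkingPair) ModPair.Pair.{u} := by
    haveI := (Groth.Agent.S18747.result' (ULift.{u} WalkingPair)).1
    exact hasColimitsOfShape_of_equivalence (Discrete.equivalence Equiv.ulift)
  haveI := stable.{u} WalkingPair
  exact ⟨Groth.Agent.Lib.helper16.LocCoprod.hasCoproductsOfShape
      (ModPair.Pair.admBlowup.{u}).Q (ModPair.Pair.admBlowup.{u}) WalkingPair,
    Groth.Agent.Lib.helper16.LocCoprod.preservesCoproductsOfShape
      (ModPair.Pair.admBlowup.{u}).Q (ModPair.Pair.admBlowup.{u}) WalkingPair⟩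



/-- The localization of the category of modulus pairs and ambient morphisms at the class of abstract
admissible blow-ups has binary coproducts, and the localization functor carries the coproduct of two
modulus pairs (the disjoint union of the total spaces with the disjoint union of the moduli) to a
coproduct. (The source also states that the interior functor detects these coproducts; that part is
not included.) -/
theorem result :
    HasBinaryCoproducts (ModPair.Pair.admBlowup.{u}).Localization ∧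
      PreservesColimitsOfShape (Discrete WalkingPair) (ModPair.Pair.admBlowup.{u}).Q := by
  exact result'

end Groth.Agent.S18748
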