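import Groth.Statements.S18751
import Groth.Agent.Lib.Helper16.BlowUpProper
import Groth.Agent.Lib.Helper16.EffCartier

set_option autoImplicit false
universe u
open CategoryTheory CategoryTheory.Limits AlgebraicGeometry TopologicalSpace
open ModPair

namespace Groth.Agent.S18751


open Groth.Agent.Lib.helper16.EffCartier in
/-- the pull-back of an effective Cartier ideal is locally principal. -/
theorem exists_principal_comap {X Y : Scheme.{u}} (I : X.IdealSheafData) (hI : BlowUp.IsEffCartierIdeal I)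
    (p : Y ⟶ X) (y : Y) (W : Y.Opens) (hyW : y ∈ W) :
    ∃ V : Y.affineOpens, y ∈ V.1 ∧ V.1 ≤ W ∧ ∀ V' : Y.affineOpens, V'.1 ≤ V.1 → ((I.comap p).ideal V').FG := by
  obtain ⟨U, hxU, t, ht, hU⟩ := hI (p y)
  obtain ⟨_, ⟨V, hV, rfl⟩, hyV, hVW⟩ :=
    (Y.isBasis_affineOpens).exists_subset_of_mem_open
      (show y ∈ ((p ⁻¹ᵁ U.1 ⊓ W : Y.Opens) : Set Y) from ⟨hxU, hyW⟩) (p ⁻¹ᵁ U.1 ⊓ W).2
  refine ⟨⟨V, hV⟩, hyV, fun z hz => (hVW hz).2, fun V' hV' => ?_⟩
  have e : V'.1 ≤ p ⁻¹ᵁ U.1 := fun z hz => (hVW (hV' hz)).1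
  rw [Groth.Agent.Lib.helper7.IdealComap.ideal_comap p I U.2 V'.2 e, hU, Ideal.map_span, Set.image_singleton]
  exact Submodule.fg_span_singleton _

theorem result' {S T X Y : Scheme.{u}}
    (J : T.IdealSheafData) (I : X.IdealSheafData)
    (hT : BlowUp.IsEffCartierIdeal J) (hX : BlowUp.IsEffCartierIdeal I)
    (f : X ⟶ S) (g : T ⟶ S)
    (π : Y ⟶ ModPair.mprod f g I J) (K : Y.IdealSheafData) (hY : ModPair.IsAmbProd f g I J π K) :
    ((LocallyOfFiniteType f ∧ QuasiCompact f) →
        LocallyOfFiniteType (π ≫ ModPair.mprodι f g I J ≫ pullback.snd f g) ∧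
          QuasiCompact (π ≫ ModPair.mprodι f g I J ≫ pullback.snd f g)) ∧
      (UniversallyClosed f → UniversallyClosed (π ≫ ModPair.mprodι f g I J ≫ pullback.snd f g)) ∧
      (IsProper f → IsProper (π ≫ ModPair.mprodι f g I J ≫ pullback.snd f g)) := by
  have hπ : IsProper π := by
    refine Groth.Agent.Lib.helper16.BlowUpProper.isProper_of_isBlowUp _ π hY.1 (fun y => ?_)
    obtain ⟨V₁, hy₁, -, h₁⟩ := exists_principal_comap I hX
      (ModPair.mprodι f g I J ≫ pullback.fst f g) y ⊤ trivial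
    obtain ⟨V₂, hy₂, hle, h₂⟩ := exists_principal_comap J hT
      (ModPair.mprodι f g I J ≫ pullback.snd f g) y V₁.1 hy₁
    refine ⟨V₂, hy₂, ?_⟩
    show ((I.comap (ModPair.mprodι f g I J ≫ pullback.fst f g)).ideal V₂ ⊔
      (J.comap (ModPair.mprodι f g I J ≫ pullback.snd f g)).ideal V₂).FG
    exact Submodule.FG.sup (h₁ V₂ hle) (h₂ V₂ le_rfl)
  refine ⟨?_, ?_, ?_⟩
  · rintro ⟨h1, h2⟩
    exact ⟨inferInstance, inferInstance⟩
  · intro h
    infer_instance
  · intro h
    infer_instance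



/-- Let (S, I_S), (T, J), (X, I) be schemes with quasi-coherent ideal sheaves of effective Cartier
divisors, f : X ⟶ S and g : T ⟶ S morphisms satisfying the modulus condition, and (Y, K) together
with π : Y ⟶ Y₀ an ambient product of (X, I) and (T, J) over S (Y₀ the scheme-theoretic image of
pr₁⁻¹(X°) ∩ pr₂⁻¹(T°) in X ×_S T, π a blowing up of Y₀ in the sum of the pulled-back moduli, K times
the exceptional ideal equal to the product of the pulled-back moduli). Then the projection Y ⟶ T is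
of finite type if f is of finite type, universally closed if f is universally closed, and proper if
f is proper. -/
theorem result {S T X Y : Scheme.{u}}
    (IS : S.IdealSheafData) (J : T.IdealSheafData) (I : X.IdealSheafData)
    (hS : BlowUp.IsEffCartierIdeal IS) (hT : BlowUp.IsEffCartierIdeal J) (hX : BlowUp.IsEffCartierIdeal I)
    (f : X ⟶ S) (hf : ModPair.IsAmbient I IS f) (g : T ⟶ S) (hg : ModPair.IsAmbient J IS g)
    (π : Y ⟶ ModPair.mprod f g I J) (K : Y.IdealSheafData) (hY : ModPair.IsAmbProd f g I J π K) :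
    ((LocallyOfFiniteType f ∧ QuasiCompact f) →
        LocallyOfFiniteType (π ≫ ModPair.mprodι f g I J ≫ pullback.snd f g) ∧
          QuasiCompact (π ≫ ModPair.mprodι f g I J ≫ pullback.snd f g)) ∧
      (UniversallyClosed f → UniversallyClosed (π ≫ ModPair.mprodι f g I J ≫ pullback.snd f g)) ∧
      (IsProper f → IsProper (π ≫ ModPair.mprodι f g I J ≫ pullback.snd f g)) := by
  exact Groth.Agent.S18751.result' J I hT hX f g π K hY

end Groth.Agent.S18751
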