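import Groth.Statements.S18756
import Mathlib
import Groth.Agent.Lib.Helper12.LimOver12

set_option autoImplicit false
universe u
open CategoryTheory CategoryTheory.Limits AlgebraicGeometry TopologicalSpace
open ModPair

namespace Groth.Agent.S18756

/-- Let (X_i) be a cofiltered system of schemes with affine transition morphisms such that X_{i₀} is
quasi-compact and quasi-separated for some index i₀, let X be its limit, and let {U_a ⟶ X} be an
fppf covering: a jointly surjective family of morphisms which are flat and of finite presentation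
(flat, locally of finite presentation, quasi-compact and quasi-separated). Then the covering
descends: for some index i there is a finite fppf covering {V_j ⟶ X_i}_{j < n} such that every V_j
×_{X_i} X is one of the U_a, i.e. for each j some U_{a_j} ⟶ X is the base change of V_j ⟶ X_i along
X ⟶ X_i. (The source states the same for Zariski, Nisnevich and étale coverings; only the fppf case
is given here.) -/
theorem result {I : Type u} [SmallCategory I] [IsCofiltered I]
    (D : I ⥤ Scheme.{u}) (c : Cone D) (hc : IsLimit c)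
    [∀ (i j : I) (t : i ⟶ j), IsAffineHom (D.map t)] (i₀ : I) [CompactSpace (D.obj i₀)]
    [QuasiSeparatedSpace (D.obj i₀)] {ι : Type u} (U : ι → Scheme.{u}) (u : ∀ a, U a ⟶ c.pt)
    [∀ a, Flat (u a)] [∀ a, LocallyOfFinitePresentation (u a)] [∀ a, QuasiCompact (u a)]
    [∀ a, QuasiSeparated (u a)] (hcov : ∀ x : c.pt, ∃ (a : ι) (y : U a), (u a).base y = x) :
    ∃ (i : I) (n : ℕ) (V : Fin n → Scheme.{u}) (v : ∀ j, V j ⟶ D.obj i) (a : Fin n → ι)
      (e : ∀ j, U (a j) ⟶ V j),
      (∀ j, Flat (v j) ∧ LocallyOfFinitePresentation (v j) ∧ QuasiCompact (v j) ∧ QuasiSeparated (v j)) ∧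
      (∀ x : D.obj i, ∃ (j : Fin n) (y : V j), (v j).base y = x) ∧
      ∀ j, IsPullback (e j) (u (a j)) (v j) (c.π.app i) := by
  open Groth.Agent.Lib.helper12.LimOver in
  haveI : ∀ (i j : Over i₀) (f : i ⟶ j), IsAffineHom ((Over.forget i₀ ⋙ D).map f) :=
    fun i j f => inferInstanceAs (IsAffineHom (D.map f.left))
  haveI : ∀ i : Over i₀, CompactSpace ((Over.forget i₀ ⋙ D).obj i) :=
    fun i => QuasiCompact.compactSpace_of_compactSpace (D.map i.hom)
  haveI : ∀ i : Over i₀, QuasiSeparatedSpace ((Over.forget i₀ ⋙ D).obj i) :=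
    fun i => quasiSeparatedSpace_of_quasiSeparated (D.map i.hom)
  have hc' : IsLimit (c.whisker (Over.forget i₀)) :=
    (Functor.Initial.isLimitWhiskerEquiv _ _).symm hc
  obtain ⟨i, n, V, a, hV, hsurj⟩ := @exists_fppf_cover_descend (Over i₀) _ _ (Over.forget i₀ ⋙ D)
    (c.whisker (Over.forget i₀)) hc' _ _ _ ι (fun a => Over.mk (u a))
    (fun a => ⟨inferInstanceAs (LocallyOfFinitePresentation (u a)),
      inferInstanceAs (QuasiCompact (u a)), inferInstanceAs (QuasiSeparated (u a))⟩)
    (fun a => inferInstanceAs (Flat (u a)))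
    (fun x => by
      obtain ⟨a, y, hy⟩ := hcov x
      exact ⟨a, y, hy⟩)
  have key : ∀ j, ∃ e : U (a j) ⟶ (V j).left,
      IsPullback e (u (a j)) (V j).hom ((c.whisker (Over.forget i₀)).π.app i) := fun j => by
    obtain ⟨ε⟩ := (hV j).2.2
    have hw : ε.hom.left ≫ pullback.snd (V j).hom ((c.whisker (Over.forget i₀)).π.app i) =
        u (a j) := Over.w ε.hom
    refine ⟨ε.hom.left ≫ pullback.fst (V j).hom _,
      IsPullback.of_iso_pullback ⟨?_⟩ ((Over.forget _).mapIso ε) rfl hw⟩
    rw [Category.assoc, pullback.condition, ← Category.assoc, hw]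
  choose e he using key
  refine ⟨i.left, n, fun j => (V j).left, fun j => (V j).hom, a, e, ?_, ?_, he⟩
  · intro j
    exact ⟨(hV j).2.1, (hV j).1.lfp, (hV j).1.qc, (hV j).1.qs⟩
  · intro x
    obtain ⟨j, y, hy⟩ := hsurj x
    exact ⟨j, y, hy⟩

end Groth.Agent.S18756
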