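import Groth.Statements.S18758
import Mathlib
import Groth.Agent.Lib.Helper16.LocSlice
import Groth.Agent.S18741
import Groth.Agent.S18738

set_option autoImplicit false
universe w v u
open CategoryTheory CategoryTheory.Limits AlgebraicGeometry TopologicalSpace
open ModPair

namespace Groth.Agent.S18758

section helpers

open Groth.Agent.Lib.helper16.LocSlice

section general
universe v₁ u₁
variable {A : Type u₁} [Category.{v₁} A] (W : MorphismProperty A) [W.HasRightCalculusOfFractions]
  (P : ObjectProperty A) (hP : ∀ ⦃z x : A⦄ (σ : z ⟶ x), W σ → P x → P z)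

include hP in
/-- a full subcategory closed under sources of `W`-morphisms inherits the right calculus of fractions. -/
theorem hasRightCalculusOfFractions_fullSubcategory :
    (W.inverseImage P.ι).HasRightCalculusOfFractions where
  id_mem X := W.id_mem X.obj
  comp_mem f g hf hg := W.comp_mem (P.ι.map f) (P.ι.map g) hf hg
  exists_rightFraction := by
    intro X Y φ
    obtain ⟨ψ, hψ⟩ := (MorphismProperty.LeftFraction.mk (W := W) (P.ι.map φ.f) (P.ι.map φ.s)
      φ.hs).exists_rightFraction
    dsimp at hψ
    exact ⟨⟨(ObjectProperty.homMk ψ.s : (⟨ψ.X', hP ψ.s ψ.hs X.property⟩ : P.FullSubcategory) ⟶ X), ψ.hs,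
      ObjectProperty.homMk ψ.f⟩, by ext; exact hψ⟩
  ext := by
    intro X Y Y' f₁ f₂ s hs h
    obtain ⟨Z, t, ht, hft⟩ := MorphismProperty.HasRightCalculusOfFractions.ext (P.ι.map f₁) (P.ι.map f₂)
      (P.ι.map s) hs (by rw [← Functor.map_comp, ← Functor.map_comp, h])
    exact ⟨⟨Z, hP t ht X.property⟩, ObjectProperty.homMk t, ht, by ext; exact hft⟩

end general


/-- the finite type condition passes to the source of an admissible blow-up over `S`. -/
theorem closure (S : ModPair.Pair.{u}) ⦃z x : Over S⦄ (σ : z ⟶ x)
    (hσ : ((ModPair.Pair.admBlowup.{u}).inverseImage (Over.forget S)) σ)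
    (hx : LocallyOfFiniteType x.hom.hom ∧ QuasiCompact x.hom.hom) :
    LocallyOfFiniteType z.hom.hom ∧ QuasiCompact z.hom.hom := by
  obtain ⟨h1, h2⟩ := hx
  have hprop : IsProper σ.left.hom := hσ.2.1
  have hw : z.hom.hom = σ.left.hom ≫ x.hom.hom := by
    rw [← Over.w σ]
    rfl
  rw [hw]
  exact ⟨inferInstance, inferInstance⟩

theorem result' (S : ModPair.Pair.{u})
    {E : Type v} [Category.{w} E]
    (L' : (ObjectProperty.FullSubcategory
        ((fun X : Over S => LocallyOfFiniteType X.hom.hom ∧ QuasiCompact X.hom.hom) :
          ObjectProperty (Over S))) ⥤ E)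
    [L'.IsLocalization ((((ModPair.Pair.admBlowup.{u}).inverseImage (Over.forget S)).inverseImage
      (ObjectProperty.ι ((fun X : Over S => LocallyOfFiniteType X.hom.hom ∧ QuasiCompact X.hom.hom) :
          ObjectProperty (Over S)))))]
    (Φ : E ⥤ Over ((ModPair.Pair.admBlowup.{u}).Q.obj S))
    (e : L' ⋙ Φ ≅ ObjectProperty.ι ((fun X : Over S => LocallyOfFiniteType X.hom.hom ∧ QuasiCompact X.hom.hom) :
          ObjectProperty (Over S)) ⋙ Over.post (ModPair.Pair.admBlowup.{u}).Q) :
    Φ.Full ∧ Φ.Faithful := by
  haveI : (ModPair.Pair.admBlowup.{u}).HasRightCalculusOfFractions := Groth.Agent.S18738.result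
  haveI := hasRightCalculusOfFractions_fullSubcategory
    ((ModPair.Pair.admBlowup.{u}).inverseImage (Over.forget S))
    ((fun X : Over S => LocallyOfFiniteType X.hom.hom ∧ QuasiCompact X.hom.hom) : ObjectProperty (Over S))
    (closure S)
  refine ⟨?_, ?_⟩
  · refine full_of (((ModPair.Pair.admBlowup.{u}).inverseImage (Over.forget S)).inverseImage
      (ObjectProperty.ι ((fun X : Over S => LocallyOfFiniteType X.hom.hom ∧ QuasiCompact X.hom.hom) :
          ObjectProperty (Over S)))) L' _ Φ e ?_
    intro x y ψ
    obtain ⟨z, σ, hσ, φ, h⟩ := Groth.Agent.S18741.P1 (ModPair.Pair.admBlowup.{u}) S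
      (ModPair.Pair.admBlowup.{u}).Q ψ
    exact ⟨⟨z, closure S σ hσ x.property⟩, ObjectProperty.homMk σ, hσ, ObjectProperty.homMk φ, h⟩
  · refine faithful_of (((ModPair.Pair.admBlowup.{u}).inverseImage (Over.forget S)).inverseImage
      (ObjectProperty.ι ((fun X : Over S => LocallyOfFiniteType X.hom.hom ∧ QuasiCompact X.hom.hom) :
          ObjectProperty (Over S)))) L' _ Φ e ?_
    intro x y f g h
    obtain ⟨z, σ, hσ, hfg⟩ := Groth.Agent.S18741.P2 (ModPair.Pair.admBlowup.{u}) S
      (ModPair.Pair.admBlowup.{u}).Q (f.hom) (g.hom) h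
    exact ⟨⟨z, closure S σ hσ x.property⟩, ObjectProperty.homMk σ, hσ, by ext; exact congr($(hfg).left)⟩


end helpers


/-- Let S be a modulus pair and PSch_S the full subcategory of the slice category of modulus pairs over
S on the objects whose structure morphism is of finite type (locally of finite type and
quasi-compact); let Σ_ft be the class of morphisms of PSch_S whose underlying morphism of modulus
pairs is an abstract admissible blow-up, and Q the localization functor of modulus pairs at all
abstract admissible blow-ups. Then the canonical functor from the localization of PSch_S at Σ_ft to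
the slice category over Q S is fully faithful, so that it identifies the localization with the full
subcategory MSch_S of objects isomorphic to finite type ones: for every localization functor L' of
PSch_S at Σ_ft and every functor Φ to the slice over Q S through which the inclusion followed by Q
on slices factors up to isomorphism, Φ is full and faithful. -/
theorem result (S : ModPair.Pair.{u})
    {E : Type v} [Category.{w} E]
    (L' : (ObjectProperty.FullSubcategory
        ((fun X : Over S => LocallyOfFiniteType X.hom.hom ∧ QuasiCompact X.hom.hom) :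
          ObjectProperty (Over S))) ⥤ E)
    [L'.IsLocalization ((((ModPair.Pair.admBlowup.{u}).inverseImage (Over.forget S)).inverseImage
      (ObjectProperty.ι ((fun X : Over S => LocallyOfFiniteType X.hom.hom ∧ QuasiCompact X.hom.hom) :
          ObjectProperty (Over S)))))]
    (Φ : E ⥤ Over ((ModPair.Pair.admBlowup.{u}).Q.obj S))
    (e : L' ⋙ Φ ≅ ObjectProperty.ι ((fun X : Over S => LocallyOfFiniteType X.hom.hom ∧ QuasiCompact X.hom.hom) :
          ObjectProperty (Over S)) ⋙ Over.post (ModPair.Pair.admBlowup.{u}).Q) :
    Φ.Full ∧ Φ.Faithful := by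
  exact Groth.Agent.S18758.result' S L' Φ e

end Groth.Agent.S18758
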