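import Groth.Statements.S18764
import Groth.Agent.Lib.Helper4.TorsFibProd3

set_option autoImplicit false
universe u
open CategoryTheory CategoryTheory.Limits MonoidalCategory CartesianMonoidalCategory MonObj GrpObj AlgebraicGeometry
open NonAbH1

namespace Groth.Agent.S18764

/-- Let k be a field and X a quasi-compact k-scheme, connected and reduced, having a k-point x; let G,
G₁, G₂ be finite group schemes over k with homomorphisms φ₁ : G₁ → G and φ₂ : G₂ → G, and let T, T₁,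
T₂ be torsors over X (fppf-locally trivial) under the base changes to X of G, G₁, G₂ respectively,
each pointed by a k-point lying over x. Let f₁ : T₁ → T and f₂ : T₂ → T be morphisms of pointed
torsors: X-morphisms which intertwine the actions along φ₁, φ₂ and send the marked points of T₁, T₂
to that of T. Let P be the fibre product group scheme G₁ ×_G G₂ with its projections π₁, π₂. Then
the fibre product T₁ ×_T T₂ carries an action of the base change of P for which both projections to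
T₁ and T₂ are equivariant (along π₁, π₂) and which makes it a torsor over X (fppf-locally trivial).
(The published statement says that such an X has a fundamental group scheme; this row states the
closure of finite pointed torsors under fibre products to which it is reduced.) -/
theorem result
    (k : Type u) [Field k] (X : Scheme.{u}) [X.Over (Spec (CommRingCat.of k))] [ConnectedSpace X]
    [CompactSpace X] [AlgebraicGeometry.IsReduced X]
    (x : Spec (CommRingCat.of k) ⟶ X) (hx : x ≫ (X ↘ Spec (CommRingCat.of k)) = 𝟙 _)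
    (G G₁ G₂ : Over (Spec (CommRingCat.of k))) [GrpObj G] [GrpObj G₁] [GrpObj G₂]
    [IsFinite G.hom] [IsFinite G₁.hom] [IsFinite G₂.hom]
    (φ₁ : G₁ ⟶ G) (φ₂ : G₂ ⟶ G) [IsMonHom φ₁] [IsMonHom φ₂]
    (T T₁ T₂ : Over X)
    (a : AlgGrp.Action (Red.bc (X ↘ Spec (CommRingCat.of k)) G) T)
    (a₁ : AlgGrp.Action (Red.bc (X ↘ Spec (CommRingCat.of k)) G₁) T₁)
    (a₂ : AlgGrp.Action (Red.bc (X ↘ Spec (CommRingCat.of k)) G₂) T₂)
    (hT : NonAbH1.IsTorsorFor Scheme.fppfPrecoverage a)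
    (hT₁ : NonAbH1.IsTorsorFor Scheme.fppfPrecoverage a₁)
    (hT₂ : NonAbH1.IsTorsorFor Scheme.fppfPrecoverage a₂)
    (t : Spec (CommRingCat.of k) ⟶ T.left) (t₁ : Spec (CommRingCat.of k) ⟶ T₁.left)
    (t₂ : Spec (CommRingCat.of k) ⟶ T₂.left)
    (ht : t ≫ T.hom = x) (ht₁ : t₁ ≫ T₁.hom = x) (ht₂ : t₂ ≫ T₂.hom = x)
    (f₁ : T₁ ⟶ T) (f₂ : T₂ ⟶ T)
    (hf₁ : AlgGrp.Action.IsEquivariant a₁ (a.restrict ((Over.pullback (X ↘ Spec (CommRingCat.of k))).map φ₁)) f₁)
    (hf₂ : AlgGrp.Action.IsEquivariant a₂ (a.restrict ((Over.pullback (X ↘ Spec (CommRingCat.of k))).map φ₂)) f₂)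
    (hft₁ : t₁ ≫ f₁.left = t) (hft₂ : t₂ ≫ f₂.left = t)
    (P : Over (Spec (CommRingCat.of k))) [GrpObj P] (π₁ : P ⟶ G₁) (π₂ : P ⟶ G₂) [IsMonHom π₁] [IsMonHom π₂]
    (hP : IsPullback π₁ π₂ φ₁ φ₂) :
    ∃ c : AlgGrp.Action (Red.bc (X ↘ Spec (CommRingCat.of k)) P) (pullback f₁ f₂),
      AlgGrp.Action.IsEquivariant c (a₁.restrict ((Over.pullback (X ↘ Spec (CommRingCat.of k))).map π₁)) (pullback.fst f₁ f₂) ∧
      AlgGrp.Action.IsEquivariant c (a₂.restrict ((Over.pullback (X ↘ Spec (CommRingCat.of k))).map π₂)) (pullback.snd f₁ f₂) ∧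
      NonAbH1.IsTorsorFor Scheme.fppfPrecoverage c := by
  haveI : IsIso (lift a.act (snd _ T)) := hT.1
  haveI : IsIso (lift a₁.act (snd _ T₁)) := hT₁.1
  haveI : IsIso (lift a₂.act (snd _ T₂)) := hT₂.1
  have hP' : IsPullback ((Over.pullback (X ↘ Spec (CommRingCat.of k))).map π₁)
      ((Over.pullback (X ↘ Spec (CommRingCat.of k))).map π₂)
      ((Over.pullback (X ↘ Spec (CommRingCat.of k))).map φ₁)
      ((Over.pullback (X ↘ Spec (CommRingCat.of k))).map φ₂) :=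
    hP.map (Over.pullback (X ↘ Spec (CommRingCat.of k)))
  haveI hfinP : IsFinite P.hom :=
    Groth.Agent.Lib.helper4.TorsFibProd.finite_of_isPullback φ₁ φ₂ π₁ π₂ hP
  obtain ⟨hfin, -, -, -⟩ := Groth.Agent.Lib.helper4.TorsFibProd.torsor_props (X ↘ Spec (CommRingCat.of k)) G a hT
  obtain ⟨hfin₁, -, -, -⟩ :=
    Groth.Agent.Lib.helper4.TorsFibProd.torsor_props (X ↘ Spec (CommRingCat.of k)) G₁ a₁ hT₁
  obtain ⟨hfin₂, -, -, -⟩ :=
    Groth.Agent.Lib.helper4.TorsFibProd.torsor_props (X ↘ Spec (CommRingCat.of k)) G₂ a₂ hT₂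
  haveI : IsFinite (pullback f₁ f₂).hom :=
    Groth.Agent.Lib.helper4.TorsFibProd.finite_of_isPullback f₁ f₂ _ _ (IsPullback.of_hasPullback f₁ f₂)
  haveI : Surjective (pullback f₁ f₂).hom :=
    Groth.Agent.Lib.helper4.TorsFibProd.surjective_pullback (X ↘ Spec (CommRingCat.of k)) a a₁ a₂ hT hT₁ hT₂
      f₁ f₂ x t₁ t₂ ht₁ ht₂ (hft₁.trans hft₂.symm)
  refine ⟨Groth.Agent.Lib.helper4.TorsFibProd.fibAct _ _ _ _ hP' a a₁ a₂ f₁ f₂ hf₁ hf₂,
    Groth.Agent.Lib.helper4.TorsFibProd.isEquivariant_fst _ _ _ _ hP' a a₁ a₂ f₁ f₂ hf₁ hf₂,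
    Groth.Agent.Lib.helper4.TorsFibProd.isEquivariant_snd _ _ _ _ hP' a a₁ a₂ f₁ f₂ hf₁ hf₂, ?_⟩
  exact Groth.Agent.Lib.helper4.TorsFibProd.isTorsorFor_of_pseudoTorsor (X ↘ Spec (CommRingCat.of k)) _
    (Groth.Agent.Lib.helper4.TorsFibProd.isPseudoTorsorSch_fibAct _ _ _ _ hP' a a₁ a₂ f₁ f₂ hf₁ hf₂)

end Groth.Agent.S18764
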