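import Groth.Statements.S18774
import Mathlib
import Groth.Agent.S16754
import Groth.Agent.Lib.Lead.CurveEuler
import Groth.Agent.Lib.Lead.RankAdd
import Groth.Agent.Lib.Lead.VBCurve1
import Groth.Agent.Lib.Helper18.HHLES

set_option autoImplicit false
universe u
open CategoryTheory CategoryTheory.Limits AlgebraicGeometry
open VBCurve

namespace Groth.Agent.S18774

open Groth.Agent.Lib.Helper18 in

/-- Let k be a finite field and C a smooth proper geometrically integral curve over k (proper, smooth
and geometrically integral over k, of dimension one), and write g = dim_k H^1(C, O_C). Let E be a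
finite locally free O_C-module and F a finite locally free submodule of E of rank r' ≥ 1 (a
monomorphism F → E). Then deg F ≤ r' · (dim_k H^0(C, E) + g − 1), that is, the slope of F is at most
h^0(C, E) + g − 1; here the degree of a rank-n locally free module G is χ(G) − n·χ(O_C). -/
theorem result (k : Type u) [Field k] [Finite k] (X : Scheme.{u}) [X.Over (Spec (CommRingCat.of k))]
    [IsProper (X ↘ Spec (CommRingCat.of k))] [Smooth (X ↘ Spec (CommRingCat.of k))]
    [GeometricallyIntegral (X ↘ Spec (CommRingCat.of k))] (hdim : topologicalKrullDim ↥X = 1)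
    (E : X.Modules) (hE : FlatMod.IsFinLocFree E) (F : X.Modules) (r' : ℕ) (hr' : 0 < r')
    (hF : FlatMod.IsFinLocFreeOfRank r' F) (i : F ⟶ E) [Mono i] :
    Curv2.deg k X F r' ≤ (r' : ℤ) * ((Module.finrank k (Coh.HH X E 0) : ℤ) + (Curv2.genus k X : ℤ) - 1) := by
  have hEc := Groth.Agent.Lib.Lead.RankAdd.isCoh_of_isFinLocFree hE
  have hFc := Groth.Agent.Lib.Lead.RankAdd.isCoh_of_isFinLocFreeOfRank hF
  obtain ⟨h1, h2⟩ := Groth.Agent.S16754.result k X hdim
  have hO : Module.finrank k (Coh.HH X (Coh.structureModule X) 0) = 1 :=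
    h1.mpr (h2.mpr inferInstance)
  have hrr := Groth.Agent.Lib.Lead.CurveEuler.riemann_roch' k X hdim.le hO F hFc.1 r'
  -- h0(F) ≤ h0(E)
  have hS : (ShortComplex.mk i (cokernel.π i) (cokernel.condition i)).ShortExact :=
    { exact := ShortComplex.exact_cokernel i }
  have hinj := HH.injective_mapOver_f_zero hS k
  haveI : Module.Finite k (Coh.HH X E 0) := Groth.Agent.Lib.Lead.ProperEuler.finite_HH k X _ hEc 0
  have hle := LinearMap.finrank_le_finrank_of_injective hinj
  have hle' : (Module.finrank k (Coh.HH X F 0) : ℤ) ≤ (Module.finrank k (Coh.HH X E 0) : ℤ) := by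
    exact_mod_cast hle
  have h1nn : (0 : ℤ) ≤ (Module.finrank k (Coh.HH X F 1) : ℤ) := Int.natCast_nonneg _
  have h0nn : (0 : ℤ) ≤ (Module.finrank k (Coh.HH X E 0) : ℤ) := Int.natCast_nonneg _
  have hr1 : (1 : ℤ) ≤ (r' : ℤ) := by exact_mod_cast hr'
  nlinarith

end Groth.Agent.S18774
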