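import Groth.Statements.S18784
import Mathlib
import Groth.Agent.Lib.Helper13.CurveDual12
import Groth.Agent.Lib.Helper14.FibreH0
import Groth.Agent.Lib.Helper11.InvHom
import Groth.Agent.Lib.Helper11.TwistH1
import Groth.Agent.Lib.Lead.CurveEuler
-- import your own Groth.Agent.* helpers here

set_option autoImplicit false
universe u
open CategoryTheory CategoryTheory.Limits AlgebraicGeometry
attribute [local instance] HasDerivedCategory.standard
open Curves

namespace Groth.Agent.S18784

open Groth.Agent.Lib.helper11.InvMod Groth.Agent.Lib.helper11.GenLocus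
  Groth.Agent.Lib.helper11.InvHom Groth.Agent.Lib.helper11.IsoLocus Scheme.Modules in
/-- if `s : O ⟶ L` is a monomorphism into an invertible module and `s ≫ φ = 0` for `φ : L ⟶ O`, then `φ = 0` -/
theorem eq_zero_of_mono_comp_eq_zero {X : Scheme.{u}} {L : X.Modules} (hL : PicF.IsInvertible L)
    (s : Coh.structureModule X ⟶ L) [Mono s] (φ : L ⟶ Coh.structureModule X)
    (h : s ≫ φ = 0) : φ = 0 := by
  refine eq_zero_of_forall_exists_isZeroOn φ fun x => ?_
  obtain ⟨U, hxU, ⟨eL⟩⟩ := hL x
  refine ⟨U, hxU, ?_⟩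
  let eO : (Coh.structureModule X).restrict U.ι ≅ Coh.structureModule (↑U : Scheme.{u}) :=
    restrictUnitIso U.ι
  have h1 : localEnd s eO eL ≫ localEnd φ eL eO = 0 := by
    rw [← localEnd_comp, h, localEnd_zero]
  haveI : Mono ((restrictFunctor U.ι).map s) :=
    Groth.Agent.Lib.helper11.TwistH1.mono_restrict s U
  haveI : Mono (localEnd s eO eL) := by
    unfold localEnd
    infer_instance
  have h2 : localEnd φ eL eO ≫ localEnd s eO eL = 0 := by
    rw [← isZeroOn_top_iff, isZeroOn_iff_sec]
    change fn (localEnd φ eL eO ≫ localEnd s eO eL) ⊤ = 0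
    rw [fn_comp, mul_comm, ← fn_comp, h1, fn_zero]
  have h3 : localEnd φ eL eO = 0 := zero_of_comp_mono _ h2
  have h4 : IsZeroOn φ (U.ι ''ᵁ ⊤) := by
    rw [isZeroOn_image_iff φ eL eO ⊤, h3, fn_zero]
  have h5 : U.ι ''ᵁ ⊤ = U := by
    rw [Scheme.Hom.image_top_eq_opensRange, Scheme.Opens.opensRange_ι]
  rwa [h5] at h4


/-- Let k be a perfect field and X a proper scheme over k of dimension one which is geometrically
connected and geometrically reduced over k, Gorenstein with trivial dualizing sheaf: its dualizing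
module ω_X (the degree −1 cohomology sheaf of f^! O for the structure morphism f, assuming Rf_* on
D_QCoh and its right adjoint exist) is isomorphic to O_X. Let D be an effective Cartier divisor on X
of positive degree, given here as an invertible module L = O_X(D) with a monomorphism s : O_X → L
and deg L = χ(L) − χ(O_X) > 0. Then H^1(X, O_X(D)) = 0. (The first assertion of the lemma, H^0(X,
O_X) = k, is not restated.) -/
theorem result (k : Type u) [Field k] [PerfectField k]
    (X : Scheme.{u}) [X.Over (Spec (CommRingCat.of k))] [IsProper (X ↘ Spec (CommRingCat.of k))]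
    [GeometricallyConnected (X ↘ Spec (CommRingCat.of k))] [GeometricallyReduced (X ↘ Spec (CommRingCat.of k))]
    (hdim : topologicalKrullDim ↥X = 1)
    [DCoh.HasRpush (X ↘ Spec (CommRingCat.of k))] (h : DCoh.RpushPreservesQCoh (X ↘ Spec (CommRingCat.of k))) [DCoh.HasShriek (X ↘ Spec (CommRingCat.of k)) h]
    (OY : DCoh.DQCoh (Spec (CommRingCat.of k))) (hOY : Nonempty (OY.obj ≅ DCoh.inD (Spec (CommRingCat.of k)) (Coh.structureModule (Spec (CommRingCat.of k)))))
    (hω : Nonempty (DCoh.dualizingMod (X ↘ Spec (CommRingCat.of k)) h OY 1 ≅ Coh.structureModule X))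
    (L : X.Modules) (hL : PicF.IsInvertible L) (s : Coh.structureModule X ⟶ L) [Mono s]
    (hdeg : 0 < Curv2.deg k X L 1) :
    Subsingleton (Coh.HH X L 1) := by
  classical
  have hdim' : topologicalKrullDim X ≤ 1 := hdim.le
  obtain ⟨t, ht⟩ := Groth.Agent.Lib.helper13.CurveDual.exists_dualizing_pair k X hdim' h OY hOY
  obtain ⟨eω⟩ := hω
  haveI : IsReduced X :=
    (‹GeometricallyReduced (X ↘ Spec (CommRingCat.of k))›).geometrically_isReduced
      (𝟙 _) (𝟙 X) (X ↘ Spec (CommRingCat.of k)) (IsPullback.id_horiz _)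
  haveI : ConnectedSpace X :=
    (‹GeometricallyConnected (X ↘ Spec (CommRingCat.of k))›).geometrically_connectedSpace
      (𝟙 _) (𝟙 X) (X ↘ Spec (CommRingCat.of k)) (IsPullback.id_horiz _)
  have hfield : IsField Γ(X, ⊤) :=
    Groth.Agent.Lib.Helper14.FibreH0.isField_appTop k (X ↘ Spec (CommRingCat.of k))
  have hLq : L.IsQuasicoherent :=
    Groth.Agent.Lib.helper16.FLF.isQuasicoherent_of_isFinLocFree _
      (Groth.Agent.Lib.helper16.FLF.isFinLocFree_of_isInvertible hL)
  have hzero : ∀ φ : L ⟶ Coh.structureModule X, φ = 0 := by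
    intro φ
    by_contra hφ
    by_cases ha : s ≫ φ = 0
    · exact hφ (eq_zero_of_mono_comp_eq_zero hL s φ ha)
    · have hfn : Groth.Agent.Lib.helper11.GenLocus.fn (s ≫ φ) ⊤ ≠ 0 := fun h0 =>
        ha ((Groth.Agent.Lib.helper11.InvHom.isZeroOn_top_iff _).1
          ((Groth.Agent.Lib.helper11.InvHom.isZeroOn_iff_sec _ ⊤).2 h0))
      obtain ⟨b, hb⟩ := hfield.mul_inv_cancel hfn
      have hunit : IsUnit (Groth.Agent.Lib.helper11.GenLocus.fn (s ≫ φ) ⊤) :=
        IsUnit.of_mul_eq_one _ hb
      haveI : IsIso (s ≫ φ) :=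
        (Groth.Agent.Lib.helper11.InvHom.isIso_iff_isUnit_fn_top _).2 hunit
      haveI : IsIso s := (Groth.Agent.Lib.helper11.InvHom.isIso_of_isIso_comp
        (Groth.Agent.Lib.helper11.InvMod.isInvertible_structureModule X) hL
        (Groth.Agent.Lib.helper11.InvMod.isInvertible_structureModule X) s φ).1
      have hd := Groth.Agent.Lib.Lead.CurveEuler.deg_eq_of_iso k X (asIso s) 1
      have h0 : Curv2.deg k X (Coh.structureModule X) 1 = 0 := by
        unfold Curv2.deg
        push_cast
        ring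
      rw [← hd, h0] at hdeg
      exact lt_irrefl _ hdeg
  have hdual : ∀ ψ : Coh.HH X L 1 →ₗ[k] k, ψ = 0 := by
    intro ψ
    obtain ⟨φ, hφ⟩ := (ht L hLq).2 ψ
    have h1 : φ ≫ eω.hom = 0 := hzero _
    have h2 : φ = 0 := by
      rw [← cancel_mono eω.hom, h1, zero_comp]
    rw [← hφ, h2, Groth.Agent.Lib.Helper20.DualDev.Φ_zero]
  refine ⟨fun x y => ?_⟩
  haveI : Module.Free k (Coh.HH X L 1) := Module.Free.of_divisionRing k _
  haveI : Module.Projective k (Coh.HH X L 1) := Module.Projective.of_free
  have hxy : x - y = 0 := by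
    rw [← Module.forall_dual_apply_eq_zero_iff k]
    intro ψ
    rw [hdual ψ]
    rfl
  exact sub_eq_zero.1 hxy

end Groth.Agent.S18784
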