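import Groth.Statements.S18789
import Mathlib

set_option autoImplicit false
universe u v w x
open TorusGr

namespace Groth.Agent.S18789


open DirectSum

/-- component of `a • p` for homogeneous `p`. -/
theorem decompose_smul_of_mem
    {k : Type u} [Field k] {M : Type v} [AddCommGroup M] [DecidableEq M]
    {A : Type w} [CommRing A] [Algebra k A] (𝒜 : M → Submodule k A) [GradedAlgebra 𝒜]
    {P : Type x} [AddCommGroup P] [Module A P] [Module k P] [IsScalarTower k A P]
    (ℳ : M → Submodule k P) [Decomposition ℳ] [SetLike.GradedSMul 𝒜 ℳ]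
    (a : A) (μ : M) (p : P) (hp : p ∈ ℳ μ) (ν : M) :
    (decompose ℳ (a • p) ν : P) = (decompose 𝒜 a (ν - μ) : A) • p := by
  induction a using DirectSum.Decomposition.inductionOn 𝒜 with
  | zero => simp
  | @homogeneous e a =>
    have hmem : (a : A) • p ∈ ℳ (e + μ) := by
      have := SetLike.GradedSMul.smul_mem (A := 𝒜) (B := ℳ) a.2 hp
      rwa [vadd_eq_add] at this
    by_cases h : e + μ = ν
    · have he : ν - μ = e := by rw [← h]; abel
      rw [he, decompose_of_mem_same 𝒜 a.2]
      rw [h] at hmem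
      rw [decompose_of_mem_same ℳ hmem]
    · have he : e ≠ ν - μ := by
        intro h'; apply h; rw [h']; abel
      rw [decompose_of_mem_ne ℳ hmem h, decompose_of_mem_ne 𝒜 a.2 he, zero_smul]
  | add a b ha hb =>
    rw [add_smul, decompose_add, DirectSum.add_apply, AddMemClass.coe_add, ha, hb,
      decompose_add, DirectSum.add_apply, AddMemClass.coe_add, add_smul]

theorem main
    {k : Type u} [Field k] {M : Type v} [AddCommGroup M] [DecidableEq M]
    {A : Type w} [CommRing A] [Algebra k A] (𝒜 : M → Submodule k A) [GradedAlgebra 𝒜]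
    {P : Type x} [AddCommGroup P] [Module A P] [Module k P] [IsScalarTower k A P]
    (ℳ : M → Submodule k P) [Decomposition ℳ] [SetLike.GradedSMul 𝒜 ℳ]
    [Module.Finite A P] [Module.Projective A P]
    (m : Ideal A) [m.IsMaximal] (hm : m.IsHomogeneous 𝒜)
    {n : ℕ} (wt : Fin n → M) (f : Fin n → P) (hf : ∀ i, f i ∈ ℳ (wt i))
    (hli : LinearIndependent (A ⧸ m)
      (fun i => (Submodule.Quotient.mk (f i) : P ⧸ (m • (⊤ : Submodule A P)))))
    (hsp : Submodule.span A (Set.range f) ⊔ m • (⊤ : Submodule A P) = ⊤) :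
    ∃ s : A, SetLike.IsHomogeneousElem 𝒜 s ∧ s ∉ m ∧
      (∀ p : P, ∃ (N : ℕ) (c : Fin n → A), s ^ N • p = ∑ i, c i • f i) ∧
      (∀ c : Fin n → A, ∑ i, c i • f i = 0 → ∃ N : ℕ, ∀ i, s ^ N * c i = 0) := by
  classical
  -- relations have entries in m
  have hrel : ∀ c : Fin n → A, ∑ i, c i • f i = 0 → ∀ i, c i ∈ m := by
    intro c hc i
    have h1 : ∑ i, (Ideal.Quotient.mk m (c i)) •
        (Submodule.Quotient.mk (f i) : P ⧸ (m • (⊤ : Submodule A P))) = 0 := by
      have h2 := congrArg (Submodule.Quotient.mk (p := m • (⊤ : Submodule A P))) hc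
      rw [Submodule.Quotient.mk_zero] at h2
      rw [← h2, ← Submodule.mkQ_apply, map_sum]
      apply Finset.sum_congr rfl
      intro j _
      rfl
    have h3 := Fintype.linearIndependent_iff.mp hli _ h1 i
    exact Ideal.Quotient.eq_zero_iff_mem.mp h3
  -- Step 1
  obtain ⟨s₁, hs₁m, hs₁⟩ := Submodule.exists_sub_one_mem_and_smul_le_of_fg_of_le_sup
    (I := m) (N := Submodule.span A (Set.range f)) (N' := (⊤ : Submodule A P))
    (P := (⊤ : Submodule A P)) Module.Finite.fg_top le_rfl (by rw [hsp])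
  have hs₁' : ∀ p : P, ∃ c : Fin n → A, ∑ i, c i • f i = s₁ • p := by
    intro p
    rw [← Submodule.mem_span_range_iff_exists_fun]
    apply hs₁
    exact Submodule.smul_mem_pointwise_smul p s₁ ⊤ Submodule.mem_top
  -- Step 2
  obtain ⟨φ, hφ⟩ : ∃ φ : (Fin n → A) →ₗ[A] P, ∀ c, φ c = ∑ i, c i • f i :=
    ⟨Fintype.linearCombination A f, fun c => Fintype.linearCombination_apply A f c⟩
  have hrange : ∀ p : P, s₁ • p ∈ LinearMap.range φ := by
    intro p
    obtain ⟨c, hc⟩ := hs₁' p
    exact ⟨c, by rw [hφ, hc]⟩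
  obtain ⟨ψ, hψ⟩ : ∃ ψ : P →ₗ[A] (Fin n → A), ∀ p, φ (ψ p) = s₁ • p := by
    obtain ⟨h, hh⟩ := Module.projective_lifting_property φ.rangeRestrict
      (LinearMap.codRestrict (LinearMap.range φ) (s₁ • LinearMap.id) hrange)
      φ.surjective_rangeRestrict
    refine ⟨h, fun p => ?_⟩
    have := congrArg Subtype.val (LinearMap.congr_fun hh p)
    simpa using this
  obtain ⟨θ, hθ⟩ : ∃ θ : (Fin n → A) →ₗ[A] (Fin n → A), ∀ c, θ c = s₁ • c - ψ (φ c) :=
    ⟨s₁ • LinearMap.id - ψ.comp φ, fun c => rfl⟩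
  have hφθ : ∀ c, φ (θ c) = 0 := by
    intro c
    rw [hθ, map_sub, map_smul, hψ, sub_self]
  have hθker : ∀ c, φ c = 0 → θ c = s₁ • c := by
    intro c hc
    rw [hθ, hc, map_zero, sub_zero]
  have hKm : ∀ y ∈ LinearMap.range θ, s₁ • y ∈ m • LinearMap.range θ := by
    rintro y ⟨x, rfl⟩
    have h1 : φ (θ x) = 0 := hφθ x
    rw [← hθker _ h1]
    have hent : ∀ j, (θ x) j ∈ m := hrel _ (by rw [← hφ]; exact h1)
    have hsum : θ x = ∑ j, (θ x) j • (Pi.single j (1 : A) : Fin n → A) := by
      funext i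
      simp [Finset.sum_apply, Pi.single_apply]
    rw [hsum, map_sum]
    apply Submodule.sum_mem
    intro j _
    rw [map_smul]
    exact Submodule.smul_mem_smul (hent j) ⟨_, rfl⟩
  have hK : LinearMap.range θ ≤ m • LinearMap.range θ := by
    intro y hy
    have h1 : y = s₁ • y - (s₁ - 1) • y := by rw [sub_smul, one_smul]; abel
    rw [h1]
    exact Submodule.sub_mem _ (hKm y hy) (Submodule.smul_mem_smul hs₁m hy)
  obtain ⟨s₂, hs₂m, hs₂⟩ := Submodule.exists_sub_one_mem_and_smul_eq_zero_of_fg_of_le_smul m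
    (LinearMap.range θ) (by rw [LinearMap.range_eq_map]; exact Module.Finite.fg_top.map θ) hK
  -- Step 3
  obtain ⟨s', hs'⟩ : ∃ s' : A, s' = s₁ * s₂ := ⟨_, rfl⟩
  have hs'm : s' - 1 ∈ m := by
    have h1 : s' - 1 = (s₁ - 1) * s₂ + (s₂ - 1) := by rw [hs']; ring
    rw [h1]
    exact Ideal.add_mem _ (Ideal.mul_mem_right _ _ hs₁m) hs₂m
  have hA : ∀ p : P, ∃ c : Fin n → A, s' • p = ∑ i, c i • f i := by
    intro p
    obtain ⟨c, hc⟩ := hs₁' p
    refine ⟨fun i => s₂ * c i, ?_⟩
    rw [hs', mul_comm, mul_smul, ← hc, Finset.smul_sum]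
    apply Finset.sum_congr rfl
    intro i _
    rw [mul_smul]
  have hB : ∀ c : Fin n → A, ∑ i, c i • f i = 0 → ∀ i, s' * c i = 0 := by
    intro c hc i
    have h1 : φ c = 0 := by rw [hφ]; exact hc
    have h2 : s₂ • (s₁ • c) = 0 := by
      rw [← hθker c h1]
      exact hs₂ _ ⟨c, rfl⟩
    have h3 := congrFun h2 i
    simp only [Pi.smul_apply, smul_eq_mul, Pi.zero_apply] at h3
    rw [hs', mul_comm s₁ s₂, mul_assoc]
    exact h3
  -- Step 4
  obtain ⟨s, hs⟩ : ∃ s : A, s = (decompose 𝒜 s' 0 : A) := ⟨_, rfl⟩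
  have hone : (decompose 𝒜 (1 : A) 0 : A) = 1 :=
    decompose_of_mem_same 𝒜 (SetLike.GradedOne.one_mem)
  have hsm : s - 1 ∈ m := by
    have h1 := hm 0 hs'm
    rw [decompose_sub, DirectSum.sub_apply, AddSubgroupClass.coe_sub, hone, ← hs] at h1
    exact h1
  have hsnot : s ∉ m := by
    intro h
    have h1 : (1 : A) ∈ m := by
      have := Ideal.sub_mem _ h hsm
      rwa [sub_sub_cancel] at this
    exact (Ideal.IsMaximal.ne_top inferInstance) ((Ideal.eq_top_iff_one m).mpr h1)
  refine ⟨s, ⟨0, by rw [hs]; exact (decompose 𝒜 s' 0).2⟩, hsnot, ?_, ?_⟩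
  · intro p
    refine ⟨1, ?_⟩
    rw [pow_one]
    induction p using DirectSum.Decomposition.inductionOn ℳ with
    | zero => exact ⟨0, by simp⟩
    | @homogeneous μ p =>
      obtain ⟨c, hc⟩ := hA (p : P)
      refine ⟨fun i => (decompose 𝒜 (c i) (μ - wt i) : A), ?_⟩
      have h1 := congrArg (fun q => (decompose ℳ q μ : P)) hc
      simp only at h1
      rw [decompose_smul_of_mem 𝒜 ℳ s' μ p p.2 μ, sub_self, ← hs, decompose_sum] at h1
      rw [h1, DirectSum.sum_apply]  -- component of a sum
      rw [AddSubmonoidClass.coe_finsetSum]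
      apply Finset.sum_congr rfl
      intro i _
      exact decompose_smul_of_mem 𝒜 ℳ (c i) (wt i) (f i) (hf i) μ
    | add p q hp hq =>
      obtain ⟨c, hc⟩ := hp
      obtain ⟨d, hd⟩ := hq
      refine ⟨c + d, ?_⟩
      rw [smul_add, hc, hd, ← Finset.sum_add_distrib]
      apply Finset.sum_congr rfl
      intro i _
      rw [Pi.add_apply, add_smul]
  · intro c hc
    refine ⟨1, fun i => ?_⟩
    rw [pow_one]
    -- homogeneous relations
    have hcomp : ∀ μ : M, ∑ i, (decompose 𝒜 (c i) (μ - wt i) : A) • f i = 0 := by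
      intro μ
      have h1 := congrArg (fun q => (decompose ℳ q μ : P)) hc
      simp only at h1
      rw [decompose_sum, DirectSum.sum_apply, AddSubmonoidClass.coe_finsetSum, decompose_zero,
        DirectSum.zero_apply, ZeroMemClass.coe_zero] at h1
      rw [← h1]
      apply Finset.sum_congr rfl
      intro i _
      exact (decompose_smul_of_mem 𝒜 ℳ (c i) (wt i) (f i) (hf i) μ).symm
    have hν : ∀ ν : M, s * (decompose 𝒜 (c i) ν : A) = 0 := by
      intro ν
      have h1 : s' * (decompose 𝒜 (c i) (ν + wt i - wt i) : A) = 0 := hB _ (hcomp (ν + wt i)) i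
      rw [show ν + wt i - wt i = ν from add_sub_cancel_right _ _] at h1
      have h2 := congrArg (fun q => (decompose 𝒜 q (0 + ν) : A)) h1
      simp only at h2
      rw [coe_decompose_mul_add_of_right_mem 𝒜 (decompose 𝒜 (c i) ν).2, ← hs, decompose_zero,
        DirectSum.zero_apply, ZeroMemClass.coe_zero] at h2
      exact h2
    rw [← sum_support_decompose 𝒜 (c i), Finset.mul_sum]
    apply Finset.sum_eq_zero
    intro ν _
    exact hν ν


open DirectSum in
/-- Let `A` be a commutative algebra over a field `k`, graded by an additive commutative group `M` (for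
`M` the character group of a split torus `T` this is a `T`-action on `Spec A`, and an `M`-graded
`A`-module is a `T`-equivariant quasi-coherent sheaf), let `P` be a finitely generated projective
`A`-module with a compatible `M`-grading (a locally free `T`-sheaf of finite rank), and let `m` be a
homogeneous maximal ideal with residue field `k` (a `T`-fixed rational point). If homogeneous
elements `f i` of `P` reduce to a basis of `P/mP`, then there is a homogeneous `s ∉ m` such that
after inverting `s` the `f i` generate `P` and every relation among them is killed by a power of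
`s`: on the invariant open `D(s)` the module is free on the homogeneous sections `f i`, with the
weights of the fibre `P/mP`. (The published statement has `M ≅ ℤ^r`, a split torus; here `M` is any
additive commutative group, i.e. any diagonalizable group.) -/
theorem result
    {k : Type u} [Field k] {M : Type v} [AddCommGroup M] [DecidableEq M]
    {A : Type w} [CommRing A] [Algebra k A] (𝒜 : M → Submodule k A) [GradedAlgebra 𝒜]
    {P : Type x} [AddCommGroup P] [Module A P] [Module k P] [IsScalarTower k A P]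
    (ℳ : M → Submodule k P) [Decomposition ℳ] [SetLike.GradedSMul 𝒜 ℳ]
    [Module.Finite A P] [Module.Projective A P]
    (m : Ideal A) [m.IsMaximal] (hm : m.IsHomogeneous 𝒜)
    (hrat : Function.Surjective (algebraMap k (A ⧸ m)))
    {n : ℕ} (wt : Fin n → M) (f : Fin n → P) (hf : ∀ i, f i ∈ ℳ (wt i))
    (hli : LinearIndependent (A ⧸ m)
      (fun i => (Submodule.Quotient.mk (f i) : P ⧸ (m • (⊤ : Submodule A P)))))
    (hsp : Submodule.span A (Set.range f) ⊔ m • (⊤ : Submodule A P) = ⊤) :
    ∃ s : A, SetLike.IsHomogeneousElem 𝒜 s ∧ s ∉ m ∧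
      (∀ p : P, ∃ (N : ℕ) (c : Fin n → A), s ^ N • p = ∑ i, c i • f i) ∧
      (∀ c : Fin n → A, ∑ i, c i • f i = 0 → ∃ N : ℕ, ∀ i, s ^ N * c i = 0) := by
  exact main 𝒜 ℳ m hm wt f hf hli hsp


end Groth.Agent.S18789
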