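import Groth.Statements.S18790
import Mathlib
-- import your own Groth.Agent.* helpers here

set_option autoImplicit false
universe u v w
open TorusGr

namespace Groth.Agent.S18790

open DirectSum

/-- Let `A` be a commutative algebra over a field `k`, graded by an additive commutative group `M` (for
`M` the character group of a split torus `T`, a `T`-action on `Spec A`), let `J` be the ideal
generated by the homogeneous elements of non-zero degree (its zero locus is the fixed-point
subscheme) and let `m ⊇ J` be a maximal ideal with residue field `k` (a fixed rational point) at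
which the fixed-point subscheme is the reduced point: `J` and `m` agree after localizing at `m`.
Then the cotangent space `m/m²` has no part of weight zero: every degree-zero element of `m` lies in
`m²`. (The published statement has `M ≅ ℤ^r`, a split torus, and phrases the conclusion as the
non-vanishing of the weights of a semi-invariant basis of `m/m²`; here `M` is any additive
commutative group, i.e. any diagonalizable group.) -/
theorem result
    {k : Type u} [Field k] {M : Type v} [AddCommGroup M] [DecidableEq M]
    {A : Type w} [CommRing A] [Algebra k A] (𝒜 : M → Submodule k A) [GradedAlgebra 𝒜]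
    (m : Ideal A) [m.IsMaximal] (hrat : Function.Surjective (algebraMap k (A ⧸ m)))
    (hfix : ∀ i : M, i ≠ 0 → ∀ a ∈ 𝒜 i, a ∈ m)
    (hred : ∀ a ∈ m, ∃ s ∉ m, s * a ∈ Ideal.span {b : A | ∃ i : M, i ≠ 0 ∧ b ∈ 𝒜 i})
    {f : A} (hf0 : f ∈ 𝒜 0) (hfm : f ∈ m) : f ∈ m ^ 2 := by
  classical
  obtain ⟨s, hs, hsf⟩ := hred f hfm
  -- every element is congruent to its degree-zero component modulo `m`
  have hcong : ∀ x : A, x - (decompose 𝒜 x 0 : A) ∈ m := by
    intro x
    induction x using DirectSum.Decomposition.inductionOn 𝒜 with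
    | zero => simp
    | @homogeneous i x =>
      by_cases hi : i = 0
      · subst hi
        rw [decompose_of_mem_same 𝒜 x.2, sub_self]; exact m.zero_mem
      · rw [decompose_of_mem_ne 𝒜 x.2 hi, sub_zero]; exact hfix i hi _ x.2
    | add x y hx hy =>
      have : x + y - (decompose 𝒜 (x + y) 0 : A) =
          (x - (decompose 𝒜 x 0 : A)) + (y - (decompose 𝒜 y 0 : A)) := by
        rw [decompose_add, DirectSum.add_apply, AddMemClass.coe_add]; ring
      rw [this]; exact m.add_mem hx hy
  set s0 : A := (decompose 𝒜 s 0 : A) with hs0def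
  have hs0 : s0 ∉ m := fun h => hs (by
    have := m.add_mem (hcong s) h
    rwa [sub_add_cancel] at this)
  have h1 : (decompose 𝒜 (s * f) 0 : A) = s0 * f :=
    coe_decompose_mul_of_right_mem_zero 𝒜 hf0
  have h2 : ∀ x ∈ Ideal.span {b : A | ∃ i : M, i ≠ 0 ∧ b ∈ 𝒜 i},
      (decompose 𝒜 x 0 : A) ∈ m ^ 2 := by
    intro x hx
    rw [Ideal.span, Submodule.mem_span_set] at hx
    obtain ⟨c, hc, rfl⟩ := hx
    rw [Finsupp.sum, decompose_sum, DFinsupp.finsetSum_apply, AddSubmonoidClass.coe_finsetSum]
    refine Ideal.sum_mem _ fun b hb => ?_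
    obtain ⟨i, hi, hbi⟩ := hc hb
    have h0 : (0 : M) = -i + i := by simp
    rw [smul_eq_mul, h0, coe_decompose_mul_add_of_right_mem 𝒜 hbi, pow_two]
    exact Ideal.mul_mem_mul (hfix (-i) (neg_ne_zero.mpr hi) _ (SetLike.coe_mem _))
      (hfix i hi b hbi)
  have h3 : s0 * f ∈ m ^ 2 := h1 ▸ h2 _ hsf
  obtain ⟨t, j, hj, htj⟩ := Ideal.IsMaximal.exists_inv ‹m.IsMaximal› hs0
  have hf : f = t * (s0 * f) + j * f := by
    have : (t * s0 + j) * f = f := by rw [htj, one_mul]
    calc f = (t * s0 + j) * f := this.symm
      _ = t * (s0 * f) + j * f := by ring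
  rw [hf]
  exact Ideal.add_mem _ (Ideal.mul_mem_left _ _ h3)
    (by rw [pow_two]; exact Ideal.mul_mem_mul hj hfm)

end Groth.Agent.S18790
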