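import Groth.Statements.S18791
import Mathlib
-- import your own Groth.Agent.* helpers here

set_option autoImplicit false
universe u v w x
open TorusGr

namespace Groth.Agent.S18791

open DirectSum

/-- A degree-preserving homomorphism commutes with taking homogeneous components. -/
theorem decompose_map
    {k : Type u} [Field k] {M : Type v} [AddCommGroup M] [DecidableEq M]
    {A : Type w} [CommRing A] [Algebra k A] (𝒜 : M → Submodule k A) [GradedAlgebra 𝒜]
    {B : Type x} [CommRing B] [Algebra k B] (ℬ : M → Submodule k B) [GradedAlgebra ℬ]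
    (φ : B →ₐ[k] A) (hφ : ∀ i : M, ∀ b ∈ ℬ i, φ b ∈ 𝒜 i) (b : B) (j : M) :
    (decompose 𝒜 (φ b) j : A) = φ (decompose ℬ b j : B) := by
  induction b using DirectSum.Decomposition.inductionOn ℬ with
  | zero => simp
  | @homogeneous i b =>
    by_cases hij : i = j
    · subst hij
      rw [decompose_of_mem_same 𝒜 (hφ i _ b.2), decompose_of_mem_same ℬ b.2]
    · rw [decompose_of_mem_ne 𝒜 (hφ i _ b.2) hij, decompose_of_mem_ne ℬ b.2 hij, map_zero]
  | add b b' h h' =>
    rw [map_add, decompose_add, decompose_add, DirectSum.add_apply, DirectSum.add_apply,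
      AddMemClass.coe_add, AddMemClass.coe_add, map_add, h, h']

/-- Key step in `A`: if `s * a = 0` with `s ∉ m`, then every homogeneous component of `a` is
killed by an element outside `m`. -/
theorem exists_notMem_mul_component_eq_zero
    {k : Type u} [Field k] {M : Type v} [AddCommGroup M] [DecidableEq M]
    {A : Type w} [CommRing A] [Algebra k A] (𝒜 : M → Submodule k A) [GradedAlgebra 𝒜]
    (m : Ideal A) [m.IsMaximal] (hfix : ∀ i : M, i ≠ 0 → ∀ a ∈ 𝒜 i, a ∈ m)
    (a s : A) (hs : s ∉ m) (hsa : s * a = 0) :
    ∃ r : A, r ∉ m ∧ ∀ j : M, r * (decompose 𝒜 a j : A) = 0 := by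
  classical
  -- the degree-zero component of `s` is outside `m`
  have hs0in : (0 : M) ∈ (decompose 𝒜 s).support := by
    by_contra h0
    apply hs
    rw [← sum_support_decompose 𝒜 s]
    refine Ideal.sum_mem _ fun e he => ?_
    have hne : e ≠ 0 := fun h => h0 (h ▸ he)
    exact hfix e hne _ (SetLike.coe_mem _)
  set s0 : A := (decompose 𝒜 s 0 : A) with hs0def
  have hs0 : s0 ∉ m := by
    intro h
    apply hs
    rw [← sum_support_decompose 𝒜 s]
    refine Ideal.sum_mem _ fun e he => ?_
    by_cases hne : e = 0
    · subst hne; exact h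
    · exact hfix e hne _ (SetLike.coe_mem _)
  -- the convolution identity
  have hconv : ∀ j : M, ∑ e ∈ (decompose 𝒜 s).support,
      (decompose 𝒜 s e : A) * (decompose 𝒜 a (j - e) : A) = 0 := by
    intro j
    have h1 : (decompose 𝒜 (s * a) j : A) = 0 := by rw [hsa, decompose_zero]; rfl
    rw [← h1]
    conv_rhs => rw [← sum_support_decompose 𝒜 s, Finset.sum_mul, decompose_sum,
      DFinsupp.finsetSum_apply, AddSubmonoidClass.coe_finsetSum]
    refine Finset.sum_congr rfl fun e _ => ?_
    have hj : j = e + (j - e) := (add_sub_cancel e j).symm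
    conv_rhs => rw [hj]
    rw [coe_decompose_mul_add_of_left_mem 𝒜 (SetLike.coe_mem _)]
  -- the ideal generated by the components of `a`
  set T : Finset A := (decompose 𝒜 a).support.image (fun j => (decompose 𝒜 a j : A)) with hT
  set G : Ideal A := Ideal.span (T : Set A) with hG
  have hmemG : ∀ j : M, (decompose 𝒜 a j : A) ∈ G := by
    intro j
    by_cases hj : j ∈ (decompose 𝒜 a).support
    · exact Ideal.subset_span (Finset.mem_coe.mpr (Finset.mem_image_of_mem _ hj))
    · rw [DFinsupp.notMem_support_iff] at hj
      rw [hj]; exact G.zero_mem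
  obtain ⟨t, μ, hμ, htμ⟩ := Ideal.IsMaximal.exists_inv ‹m.IsMaximal› hs0
  have hle : G ≤ m • G := by
    rw [hG, Ideal.span_le]
    intro y hy
    obtain ⟨j, -, rfl⟩ := Finset.mem_image.mp (Finset.mem_coe.mp hy)
    have hsplit := hconv j
    rw [← Finset.add_sum_erase _ _ hs0in, sub_zero] at hsplit
    have hs0a : s0 * (decompose 𝒜 a j : A) ∈ m • G := by
      have : s0 * (decompose 𝒜 a j : A) = -∑ e ∈ (decompose 𝒜 s).support.erase 0,
          (decompose 𝒜 s e : A) * (decompose 𝒜 a (j - e) : A) := eq_neg_of_add_eq_zero_left hsplit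
      rw [this]
      refine Submodule.neg_mem _ (Submodule.sum_mem _ fun e he => ?_)
      have hne : e ≠ 0 := (Finset.mem_erase.mp he).1
      exact Submodule.smul_mem_smul (hfix e hne _ (SetLike.coe_mem _)) (hmemG _)
    have hdecomp : (decompose 𝒜 a j : A) =
        t * (s0 * (decompose 𝒜 a j : A)) + μ * (decompose 𝒜 a j : A) := by
      calc (decompose 𝒜 a j : A) = (t * s0 + μ) * (decompose 𝒜 a j : A) := by rw [htμ, one_mul]
        _ = _ := by ring
    show (decompose 𝒜 a j : A) ∈ m • G
    rw [hdecomp]
    exact Submodule.add_mem _ (Ideal.mul_mem_left _ _ hs0a)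
      (Submodule.smul_mem_smul hμ (hmemG j))
  obtain ⟨r, hr1, hr2⟩ := Submodule.exists_sub_one_mem_and_smul_eq_zero_of_fg_of_le_smul m G
    ⟨T, rfl⟩ hle
  refine ⟨r, fun hr => ?_, fun j => hr2 _ (hmemG j)⟩
  have : (1 : A) ∈ m := by
    have h2 : (1 : A) = r - (r - 1) := by ring
    rw [h2]; exact m.sub_mem hr hr1
  exact (Ideal.IsMaximal.ne_top ‹_›) ((Ideal.eq_top_iff_one m).mpr this)

/-- Let `φ : B → A` be a degree-preserving homomorphism of commutative algebras over a field `k` graded
by an additive commutative group `M` (for `M` the character group of a split torus, an equivariant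
morphism `Spec A → Spec B`), and let `m` be a maximal ideal of `A` containing all homogeneous
elements of non-zero degree (a fixed point). Then the ideal of those `b` whose image is zero in the
local ring `A_m` is homogeneous: the homogeneous (weight) components of such a `b` again die in
`A_m`. Since `A_m` embeds in its completion when `A` is Noetherian, these are the elements of `B`
that die in the completed local ring. (The published lemma asserts moreover that, for `B = k[Y_1, …,
Y_d]` mapping the `Y_i` to semi-invariant lifts of a basis of `m/m²`, the kernel of the induced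
surjection of completions `k[[Y]] → Â_m` is generated by semi-invariant polynomials; generation of
that kernel by polynomials can fail, so only the statement about polynomial elements of the kernel
is recorded here. The published statement has `M ≅ ℤ^r` (a split torus) and `B` the polynomial ring
on the lifts; here `M` is any additive commutative group and `B` any `M`-graded `k`-algebra.) -/
theorem result
    {k : Type u} [Field k] {M : Type v} [AddCommGroup M] [DecidableEq M]
    {A : Type w} [CommRing A] [Algebra k A] (𝒜 : M → Submodule k A) [GradedAlgebra 𝒜]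
    {B : Type x} [CommRing B] [Algebra k B] (ℬ : M → Submodule k B) [GradedAlgebra ℬ]
    (φ : B →ₐ[k] A) (hφ : ∀ i : M, ∀ b ∈ ℬ i, φ b ∈ 𝒜 i)
    (m : Ideal A) [m.IsMaximal] (hfix : ∀ i : M, i ≠ 0 → ∀ a ∈ 𝒜 i, a ∈ m) :
    (RingHom.ker ((algebraMap A (Localization.AtPrime m)).comp (φ : B →+* A))).IsHomogeneous ℬ := by
  intro j b hb
  rw [RingHom.mem_ker, RingHom.comp_apply] at hb ⊢
  obtain ⟨⟨s, hs⟩, hsa⟩ := (IsLocalization.map_eq_zero_iff m.primeCompl
    (Localization.AtPrime m) _).mp hb
  obtain ⟨r, hr, hrj⟩ := exists_notMem_mul_component_eq_zero 𝒜 m hfix (φ b) s hs hsa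
  rw [IsLocalization.map_eq_zero_iff m.primeCompl (Localization.AtPrime m)]
  refine ⟨⟨r, hr⟩, ?_⟩
  have := hrj j
  rw [decompose_map 𝒜 ℬ φ hφ b j] at this
  exact this

end Groth.Agent.S18791
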