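import Groth.Statements.S18794
import Mathlib
import Groth.Agent.Lib.Lead.DefModIrr
-- import your own Groth.Agent.* helpers here

set_option autoImplicit false
set_option backward.isDefEq.respectTransparency false
set_option backward.isDefEq.respectTransparency.types false
universe u v w
open scoped TensorProduct
open DefMod

namespace Groth.Agent.S18794

/-- Let E be a left module over an associative algebra D over a field K of characteristic zero. For a
field extension L of K, the base change L ⊗_K E is a module over L ⊗_K D, i.e. an L-vector space
with a commuting action of D; call it irreducible when it is nonzero and its only L-subspaces stable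
under every element of D are 0 and the whole space. Then E is absolutely irreducible (its base
change to an algebraic closure of K is irreducible) if and only if L ⊗_K E is irreducible for every
finite extension L of K. (Finite extensions are taken in the universe of K.) -/
theorem result
    {K : Type u} [Field K] [CharZero K]
    {D : Type v} [Ring D] [Algebra K D]
    {E : Type w} [AddCommGroup E] [Module K E] [Module D E] [IsScalarTower K D E] :
    (Nontrivial (AlgebraicClosure K ⊗[K] E) ∧ ∀ N : Submodule (AlgebraicClosure K) (AlgebraicClosure K ⊗[K] E), (∀ (d : D) (x : AlgebraicClosure K ⊗[K] E), x ∈ N → (DistribSMul.toLinearMap K E d).baseChange (AlgebraicClosure K) x ∈ N) → N = ⊥ ∨ N = ⊤) ↔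
      ∀ (L : Type u) [Field L] [Algebra K L] [FiniteDimensional K L],
        (Nontrivial (L ⊗[K] E) ∧ ∀ N : Submodule (L) (L ⊗[K] E), (∀ (d : D) (x : L ⊗[K] E), x ∈ N → (DistribSMul.toLinearMap K E d).baseChange (L) x ∈ N) → N = ⊥ ∨ N = ⊤) := by
  constructor
  · intro h L _ _ _
    have hirr : Groth.Agent.Lib.Lead.DefModIrr.Irr K D E (AlgebraicClosure K) := h
    have : Algebra.IsAlgebraic K L := Algebra.IsAlgebraic.of_finite K L
    exact Groth.Agent.Lib.Lead.DefModIrr.irr_of_algHom
      (IsAlgClosed.lift (R := K) (S := L) (M := AlgebraicClosure K)) hirr
  · intro h
    exact Groth.Agent.Lib.Lead.DefModIrr.irr_of_forall_finite (K := K) (D := D) (E := E)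
      (Ω := AlgebraicClosure K) (fun L _ _ _ => h L)

end Groth.Agent.S18794
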