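import Groth.Statements.S18795
import Mathlib
-- import your own Groth.Agent.* helpers here

set_option autoImplicit false
set_option backward.isDefEq.respectTransparency false
set_option backward.isDefEq.respectTransparency.types false
universe u v w
open scoped TensorProduct
open DefMod

namespace Groth.Agent.S18795

/-- Let E be a left module over an associative algebra D over a field K of characteristic zero. Assume
that the D-linear endomorphisms of E form a finite-dimensional K-vector space, that E has a finite
presentation over D, and that E is absolutely irreducible: its base change K̄ ⊗_K E to an algebraic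
closure K̄ of K is nonzero and its only K̄-subspaces stable under every element of D are 0 and the
whole space. Then End_D(E) = K: every D-linear endomorphism of E is multiplication by a scalar from
K. -/
theorem result
    {K : Type u} [Field K] [CharZero K]
    {D : Type v} [Ring D] [Algebra K D]
    {E : Type w} [AddCommGroup E] [Module K E] [Module D E] [IsScalarTower K D E]
    [Module.Finite K (E →ₗ[D] E)] [Module.FinitePresentation D E]
    (habs : (Nontrivial (AlgebraicClosure K ⊗[K] E) ∧ ∀ N : Submodule (AlgebraicClosure K) (AlgebraicClosure K ⊗[K] E), (∀ (d : D) (x : AlgebraicClosure K ⊗[K] E), x ∈ N → (DistribSMul.toLinearMap K E d).baseChange (AlgebraicClosure K) x ∈ N) → N = ⊥ ∨ N = ⊤))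
    (φ : E →ₗ[D] E) : ∃ c : K, ∀ x : E, φ x = c • x := by
  classical
  obtain ⟨hnt, hirr⟩ := habs
  -- restriction of scalars as an algebra homomorphism
  let rs : Module.End D E →ₐ[K] Module.End K E :=
    { toFun := fun f => f.restrictScalars K
      map_one' := rfl
      map_mul' := fun _ _ => rfl
      map_zero' := rfl
      map_add' := fun _ _ => rfl
      commutes' := fun c => by
        ext x
        simp [Algebra.algebraMap_eq_smul_one] }
  have hint : IsIntegral K φ := Algebra.IsIntegral.isIntegral (R := K) (A := Module.End D E) φ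
  have hp : Polynomial.aeval φ (minpoly K φ) = 0 := minpoly.aeval K φ
  have hmonic : (minpoly K φ).Monic := minpoly.monic hint
  set p := minpoly K φ with hpdef
  let Φ : Module.End K E := rs φ
  have hΦ : Polynomial.aeval Φ p = 0 := by
    rw [Polynomial.aeval_algHom_apply, hp, map_zero]
  let ΦL : Module.End (AlgebraicClosure K) (AlgebraicClosure K ⊗[K] E) :=
    Module.End.baseChangeHom K (AlgebraicClosure K) E Φ
  have hΦL : Polynomial.aeval ΦL p = 0 := by
    rw [Polynomial.aeval_algHom_apply, hΦ, map_zero]
  set q := p.map (algebraMap K (AlgebraicClosure K)) with hqdef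
  have hqΦ : Polynomial.aeval ΦL q = 0 := by
    rw [hqdef, Polynomial.aeval_map_algebraMap, hΦL]
  have hqm : q.Monic := hmonic.map _
  have hq0 : q ≠ 0 := hqm.ne_zero
  -- some factor is not injective
  have key : ∀ n : ℕ, ∀ r : Polynomial (AlgebraicClosure K), r.natDegree = n → r ≠ 0 →
      ¬ Function.Injective (Polynomial.aeval ΦL r) →
      ∃ a : AlgebraicClosure K, ¬ Function.Injective
        (ΦL - algebraMap (AlgebraicClosure K) (Module.End (AlgebraicClosure K) (AlgebraicClosure K ⊗[K] E)) a) := by
    intro n
    induction n with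
    | zero =>
      intro r hr hr0 hni
      exfalso
      apply hni
      rw [Polynomial.eq_C_of_natDegree_eq_zero hr] at hr0 ⊢
      have hc : r.coeff 0 ≠ 0 := fun h => hr0 (by rw [h, map_zero])
      rw [Polynomial.aeval_C]
      intro x y hxy
      simp only [Module.algebraMap_end_apply] at hxy
      exact smul_right_injective _ hc hxy
    | succ n ih =>
      intro r hr hr0 hni
      have hdeg : r.degree ≠ 0 := by
        rw [Polynomial.degree_eq_natDegree hr0, hr]
        exact_mod_cast Nat.succ_ne_zero n
      obtain ⟨a, ha⟩ := IsAlgClosed.exists_root r hdeg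
      have hfac : (Polynomial.X - Polynomial.C a) * (r /ₘ (Polynomial.X - Polynomial.C a)) = r :=
        Polynomial.mul_divByMonic_eq_iff_isRoot.2 ha
      set r' := r /ₘ (Polynomial.X - Polynomial.C a) with hr'def
      have hr'0 : r' ≠ 0 := by
        intro h
        rw [h, mul_zero] at hfac
        exact hr0 hfac.symm
      have hr'deg : r'.natDegree = n := by
        rw [hr'def, Polynomial.natDegree_divByMonic r (Polynomial.monic_X_sub_C a), hr,
          Polynomial.natDegree_X_sub_C]
        rfl
      by_cases h1 : Function.Injective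
          (ΦL - algebraMap (AlgebraicClosure K) (Module.End (AlgebraicClosure K) (AlgebraicClosure K ⊗[K] E)) a)
      · apply ih r' hr'deg hr'0
        intro h2
        apply hni
        rw [← hfac, map_mul]
        have h3 : Polynomial.aeval ΦL (Polynomial.X - Polynomial.C a) =
            ΦL - algebraMap (AlgebraicClosure K) (Module.End (AlgebraicClosure K) (AlgebraicClosure K ⊗[K] E)) a := by
          simp
        rw [h3]
        intro x y hxy
        exact h2 (h1 hxy)
      · exact ⟨a, h1⟩
  have hex : ∃ a : AlgebraicClosure K, ¬ Function.Injective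
      (ΦL - algebraMap (AlgebraicClosure K) (Module.End (AlgebraicClosure K) (AlgebraicClosure K ⊗[K] E)) a) := by
    apply key q.natDegree q rfl hq0
    intro h3
    rw [hqΦ] at h3
    obtain ⟨x, y, hxy⟩ := hnt
    exact hxy (h3 (by simp))
  obtain ⟨a, ha⟩ := hex
  -- the eigenspace is D-stable
  let N : Submodule (AlgebraicClosure K) (AlgebraicClosure K ⊗[K] E) :=
    LinearMap.ker (ΦL - algebraMap (AlgebraicClosure K) (Module.End (AlgebraicClosure K) (AlgebraicClosure K ⊗[K] E)) a)
  have hcomm : ∀ d : D, (DistribSMul.toLinearMap K E d).baseChange (AlgebraicClosure K) ∘ₗ ΦL =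
      ΦL ∘ₗ (DistribSMul.toLinearMap K E d).baseChange (AlgebraicClosure K) := by
    intro d
    show (DistribSMul.toLinearMap K E d).baseChange (AlgebraicClosure K) ∘ₗ Φ.baseChange (AlgebraicClosure K) =
      Φ.baseChange (AlgebraicClosure K) ∘ₗ (DistribSMul.toLinearMap K E d).baseChange (AlgebraicClosure K)
    rw [← LinearMap.baseChange_comp, ← LinearMap.baseChange_comp]
    congr 1
    ext x
    show d • φ x = φ (d • x)
    rw [map_smul]
  have hNstable : ∀ (d : D) (x : AlgebraicClosure K ⊗[K] E), x ∈ N →
      (DistribSMul.toLinearMap K E d).baseChange (AlgebraicClosure K) x ∈ N := by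
    intro d x hx
    rw [LinearMap.mem_ker] at hx ⊢
    have h5 := congrArg (fun f => f x) (hcomm d)
    simp only [LinearMap.comp_apply] at h5
    simp only [LinearMap.sub_apply, Module.algebraMap_end_apply] at hx ⊢
    rw [← h5, ← map_smul, ← map_sub, hx, map_zero]
  have hNtop : N = ⊤ := by
    rcases hirr N hNstable with h | h
    · exfalso
      apply ha
      rw [← LinearMap.ker_eq_bot]
      exact h
    · exact h
  have heig : ∀ z : AlgebraicClosure K ⊗[K] E, ΦL z = a • z := by
    intro z
    have : z ∈ N := by rw [hNtop]; exact Submodule.mem_top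
    rw [LinearMap.mem_ker] at this
    simp only [LinearMap.sub_apply, Module.algebraMap_end_apply] at this
    exact sub_eq_zero.1 this
  have hΦLt : ∀ x : E, ΦL (1 ⊗ₜ[K] x) = 1 ⊗ₜ[K] φ x := by
    intro x
    show (Φ.baseChange (AlgebraicClosure K)) (1 ⊗ₜ[K] x) = _
    rw [LinearMap.baseChange_tmul]
    rfl
  -- a comes from K
  have hEnt : Nontrivial E := by
    by_contra hE
    rw [not_nontrivial_iff_subsingleton] at hE
    have := hE
    have : Subsingleton (AlgebraicClosure K ⊗[K] E) := inferInstance
    exact not_subsingleton _ this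
  obtain ⟨x₀, hx₀⟩ := exists_ne (0 : E)
  obtain ⟨f, hf⟩ : ∃ f : Module.Dual K E, f x₀ ≠ 0 := by
    by_contra hcon
    push Not at hcon
    exact hx₀ ((Module.forall_dual_apply_eq_zero_iff K x₀).1 hcon)
  let g : AlgebraicClosure K ⊗[K] E →ₗ[K] AlgebraicClosure K :=
    (TensorProduct.rid K (AlgebraicClosure K)).toLinearMap ∘ₗ LinearMap.lTensor (AlgebraicClosure K) f
  have hg : ∀ (l : AlgebraicClosure K) (e : E), g (l ⊗ₜ[K] e) = f e • l := by
    intro l e
    simp [g]
  have h6 : g (ΦL (1 ⊗ₜ[K] x₀)) = g (a • (1 ⊗ₜ[K] x₀ : AlgebraicClosure K ⊗[K] E)) := by rw [heig]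
  rw [hΦLt, hg, TensorProduct.smul_tmul', hg, smul_eq_mul, mul_one] at h6
  have ha' : a = algebraMap K (AlgebraicClosure K) (f (φ x₀) / f x₀) := by
    have h7 : f x₀ • a = f (φ x₀) • (1 : AlgebraicClosure K) := h6.symm
    rw [Algebra.smul_def, Algebra.smul_def, mul_one] at h7
    rw [map_div₀, eq_div_iff ((map_ne_zero _).2 hf), mul_comm, h7]
  refine ⟨f (φ x₀) / f x₀, fun x => ?_⟩
  have hinjmk : Function.Injective (TensorProduct.mk K (AlgebraicClosure K) E 1) :=
    Module.FaithfullyFlat.tensorProduct_mk_injective (A := K) (B := AlgebraicClosure K) E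
  apply hinjmk
  show (1 : AlgebraicClosure K) ⊗ₜ[K] φ x = 1 ⊗ₜ[K] ((f (φ x₀) / f x₀) • x)
  rw [← hΦLt, heig, ha', TensorProduct.tmul_smul, algebraMap_smul]

end Groth.Agent.S18795
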