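import Groth.Statements.S18796
import Mathlib
-- import your own Groth.Agent.* helpers here

set_option autoImplicit false
set_option backward.isDefEq.respectTransparency false
set_option backward.isDefEq.respectTransparency.types false
universe u v w w' u'
open scoped TensorProduct
open DefMod

namespace Groth.Agent.S18796

/-- Let K be a field of characteristic zero, D an associative K-algebra, E a left D-module that is
finitely presented over D, F a left D-module and P a commutative K-algebra. The canonical P-linear
map Φ : P ⊗_K Hom_D(E, F) → Hom_P(P ⊗_K E, P ⊗_K F), determined by p ⊗ f ↦ p · (1_P ⊗ f), is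
injective, and its image consists exactly of the P-linear maps that commute with the action of every
element of D; in other words Φ identifies P ⊗_K Hom_D(E, F) with the module of homomorphisms P ⊗_K E
→ P ⊗_K F over P ⊗_K D. The map Φ is pinned here by its values on pure tensors. -/
theorem result
    {K : Type u} [Field K] [CharZero K]
    {D : Type v} [Ring D] [Algebra K D]
    {E : Type w} [AddCommGroup E] [Module K E] [Module D E] [IsScalarTower K D E]
    [Module.FinitePresentation D E]
    {F : Type w'} [AddCommGroup F] [Module K F] [Module D F] [IsScalarTower K D F]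
    (P : Type u') [CommRing P] [Algebra K P]
    (Φ : P ⊗[K] (E →ₗ[D] F) →ₗ[P] (P ⊗[K] E →ₗ[P] P ⊗[K] F))
    (hΦ : ∀ (p : P) (f : E →ₗ[D] F), Φ (p ⊗ₜ[K] f) = p • (f.restrictScalars K).baseChange P) :
    Function.Injective Φ ∧
      ∀ g : P ⊗[K] E →ₗ[P] P ⊗[K] F,
        g ∈ LinearMap.range Φ ↔
          ∀ d : D, g ∘ₗ (DistribSMul.toLinearMap K E d).baseChange P =
            (DistribSMul.toLinearMap K F d).baseChange P ∘ₗ g := by
  classical
  let B : Module.Basis (Module.Free.ChooseBasisIndex K P) K P := Module.Free.chooseBasis K P
  let eF : P ⊗[K] F ≃ₗ[K] (Module.Free.ChooseBasisIndex K P →₀ F) :=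
    TensorProduct.equivFinsuppOfBasisLeft B
  let eH : P ⊗[K] (E →ₗ[D] F) ≃ₗ[K] (Module.Free.ChooseBasisIndex K P →₀ (E →ₗ[D] F)) :=
    TensorProduct.equivFinsuppOfBasisLeft B
  -- coordinate formula
  have hform : ∀ (t : P ⊗[K] (E →ₗ[D] F)) (e : E) (i : Module.Free.ChooseBasisIndex K P),
      eF (Φ t (1 ⊗ₜ[K] e)) i = (eH t i) e := by
    intro t e i
    induction t using TensorProduct.induction_on with
    | zero => simp
    | tmul p f =>
      rw [hΦ]
      simp only [LinearMap.smul_apply, LinearMap.baseChange_tmul, LinearMap.coe_restrictScalars]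
      rw [TensorProduct.smul_tmul', smul_eq_mul, mul_one]
      simp only [eF, eH, TensorProduct.equivFinsuppOfBasisLeft_apply_tmul_apply]
      rfl
    | add x y hx hy =>
      simp only [map_add, LinearMap.add_apply, Finsupp.add_apply] at hx hy ⊢
      rw [hx, hy]
  have hinj : Function.Injective Φ := by
    rw [injective_iff_map_eq_zero]
    intro t ht
    apply eH.injective
    rw [map_zero]
    ext i e
    rw [← hform, ht]
    simp
  refine ⟨hinj, fun g => ⟨?_, ?_⟩⟩
  · rintro ⟨t, rfl⟩ d
    induction t using TensorProduct.induction_on with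
    | zero => simp
    | tmul p f =>
      rw [hΦ, LinearMap.smul_comp, LinearMap.comp_smul, ← LinearMap.baseChange_comp,
        ← LinearMap.baseChange_comp]
      congr 2
      ext x
      show f (d • x) = d • f x
      rw [map_smul]
    | add x y hx hy =>
      rw [map_add, LinearMap.add_comp, LinearMap.comp_add, hx, hy]
  · intro hg
    have hd : ∀ (d : D) (z : P ⊗[K] F) (i : Module.Free.ChooseBasisIndex K P),
        eF ((DistribSMul.toLinearMap K F d).baseChange P z) i = d • eF z i := by
      intro d z i
      induction z using TensorProduct.induction_on with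
      | zero => simp
      | tmul p n =>
        rw [LinearMap.baseChange_tmul]
        simp only [eF, TensorProduct.equivFinsuppOfBasisLeft_apply_tmul_apply]
        show B.repr p i • d • n = d • B.repr p i • n
        rw [smul_comm]
      | add x y hx hy =>
        simp only [map_add, Finsupp.add_apply, smul_add] at hx hy ⊢
        rw [hx, hy]
    let gi : Module.Free.ChooseBasisIndex K P → (E →ₗ[D] F) := fun i =>
      { toFun := fun e => eF (g (1 ⊗ₜ[K] e)) i
        map_add' := fun e e' => by
          simp only [TensorProduct.tmul_add, map_add, Finsupp.add_apply]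
        map_smul' := fun d e => by
          simp only [RingHom.id_apply]
          have h1 : (1 : P) ⊗ₜ[K] (d • e) = (DistribSMul.toLinearMap K E d).baseChange P (1 ⊗ₜ[K] e) := by
            rw [LinearMap.baseChange_tmul]; rfl
          have h2 := congrArg (fun f => f (1 ⊗ₜ[K] e)) (hg d)
          simp only [LinearMap.comp_apply] at h2
          rw [h1, h2, hd] }
    have : Module.Finite D E := inferInstance
    obtain ⟨s, hs⟩ := (Module.Finite.fg_top : (⊤ : Submodule D E).FG)
    let S : Finset (Module.Free.ChooseBasisIndex K P) :=
      s.biUnion fun e => (eF (g (1 ⊗ₜ[K] e))).support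
    have hgi0 : ∀ i, i ∉ S → gi i = 0 := by
      intro i hi
      apply LinearMap.ext_on hs
      intro e he
      show eF (g (1 ⊗ₜ[K] e)) i = 0
      by_contra hne
      apply hi
      rw [Finset.mem_biUnion]
      exact ⟨e, he, Finsupp.mem_support_iff.2 hne⟩
    refine ⟨∑ j ∈ S, B j ⊗ₜ[K] gi j, ?_⟩
    apply TensorProduct.AlgebraTensorModule.ext
    intro p e
    have hpe : p ⊗ₜ[K] e = p • ((1 : P) ⊗ₜ[K] e) := by
      rw [TensorProduct.smul_tmul', smul_eq_mul, mul_one]
    rw [hpe, map_smul, map_smul]
    congr 1
    apply eF.injective
    ext i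
    rw [hform, map_sum, Finsupp.finsetSum_apply]
    simp only [eH, TensorProduct.equivFinsuppOfBasisLeft_apply_tmul_apply, Module.Basis.repr_self]
    show (∑ j ∈ S, ((Finsupp.single j (1 : K)) i • gi j)) e = gi i e
    by_cases hi : i ∈ S
    · rw [Finset.sum_eq_single i]
      · simp
      · intro j _ hji
        rw [Finsupp.single_eq_of_ne hji.symm, zero_smul]
      · intro h; exact absurd hi h
    · rw [hgi0 i hi]
      have hz : (∑ j ∈ S, ((Finsupp.single j (1 : K)) i • gi j)) = 0 := by
        apply Finset.sum_eq_zero
        intro j hj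
        have hji : j ≠ i := fun h => hi (h ▸ hj)
        rw [Finsupp.single_eq_of_ne hji.symm, zero_smul]
      rw [hz]

end Groth.Agent.S18796
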