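import Groth.Statements.S18797


set_option autoImplicit false
universe u v w
open DefMod

namespace Groth.Agent.S18797

/-- Let K be a field of characteristic zero, O a commutative K-algebra with a K-linear derivation ∂, and
E a finite free O-module equipped with a K-linear map ∂_E satisfying the Leibniz rule ∂_E(a e) =
∂(a) e + a ∂_E(e) (a differential module). The induced derivation on End_O(E) sends φ to ∂_E ∘ φ − φ
∘ ∂_E, which is again O-linear; the trace End_O(E) → O is compatible with the two derivations:
tr(∂_E ∘ φ − φ ∘ ∂_E) = ∂(tr φ). Here the O-linear map ψ = ∂_E ∘ φ − φ ∘ ∂_E is given by its values.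
(The published lemma also asserts that the trace is split surjective and that it respects commutator
brackets; the split surjectivity fails for E = 0 over a nonzero ring and holds only in positive
rank, and neither clause is restated.) -/
theorem result
    {K : Type u} [Field K] [CharZero K]
    {O : Type v} [CommRing O] [Algebra K O] (δ : Derivation K O O)
    {E : Type w} [AddCommGroup E] [Module O E] [Module K E] [IsScalarTower K O E]
    [Module.Free O E] [Module.Finite O E]
    (δE : E →ₗ[K] E) (hδE : ∀ (a : O) (e : E), δE (a • e) = δ a • e + a • δE e)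
    (φ ψ : E →ₗ[O] E) (hψ : ∀ e : E, ψ e = δE (φ e) - φ (δE e)) :
    LinearMap.trace O E ψ = δ (LinearMap.trace O E φ) := by
  classical
  let b := Module.Free.chooseBasis O E
  have hΦ : ∀ i j, LinearMap.toMatrix b b φ i j = b.repr (φ (b j)) i := fun i j =>
    LinearMap.toMatrix_apply b b φ i j
  have hφb : ∀ j, φ (b j) = ∑ i, b.repr (φ (b j)) i • b i := fun j => (b.sum_repr _).symm
  have hNb : ∀ j, δE (b j) = ∑ i, b.repr (δE (b j)) i • b i := fun j => (b.sum_repr _).symm
  have hcoord : ∀ i j, b.repr (b i) j = if i = j then 1 else 0 := by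
    intro i j
    rw [b.repr_self, Finsupp.single_apply]
  have key : ∀ j, b.repr (ψ (b j)) j = δ (b.repr (φ (b j)) j) +
      ∑ i, b.repr (φ (b j)) i * b.repr (δE (b i)) j -
      ∑ i, b.repr (δE (b j)) i * b.repr (φ (b i)) j := by
    intro j
    have e1 : b.repr (δE (φ (b j))) j = δ (b.repr (φ (b j)) j) +
        ∑ i, b.repr (φ (b j)) i * b.repr (δE (b i)) j := by
      conv_lhs => rw [hφb j, map_sum]
      simp_rw [hδE]
      rw [map_sum, Finsupp.coe_finsetSum, Finset.sum_apply]
      simp_rw [map_add, map_smul, Finsupp.add_apply, Finsupp.smul_apply, hcoord, smul_eq_mul]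
      rw [Finset.sum_add_distrib]
      congr 1
      rw [Finset.sum_eq_single j]
      · simp
      · intro i _ hij; simp [hij]
      · intro h; exact absurd (Finset.mem_univ j) h
    have e2 : b.repr (φ (δE (b j))) j = ∑ i, b.repr (δE (b j)) i * b.repr (φ (b i)) j := by
      conv_lhs => rw [hNb j, map_sum]
      rw [map_sum, Finsupp.coe_finsetSum, Finset.sum_apply]
      simp_rw [map_smul, Finsupp.smul_apply, smul_eq_mul]
    rw [hψ, map_sub, Finsupp.sub_apply, e1, e2]
  rw [LinearMap.trace_eq_matrix_trace O b ψ, LinearMap.trace_eq_matrix_trace O b φ]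
  simp only [Matrix.trace, Matrix.diag, LinearMap.toMatrix_apply, map_sum]
  simp_rw [key]
  rw [Finset.sum_sub_distrib, Finset.sum_add_distrib]
  have hswap : ∑ j, ∑ i, b.repr (δE (b j)) i * b.repr (φ (b i)) j =
      ∑ j, ∑ i, b.repr (φ (b j)) i * b.repr (δE (b i)) j := by
    rw [Finset.sum_comm]
    refine Finset.sum_congr rfl fun i _ => Finset.sum_congr rfl fun j _ => ?_
    rw [mul_comm]
  rw [hswap]
  abel

end Groth.Agent.S18797
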