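import Groth.Statements.S18802
import Mathlib.LinearAlgebra.Basis.VectorSpace
import Mathlib.Algebra.Module.Projective
import Mathlib.LinearAlgebra.FreeModule.Basic

set_option autoImplicit false
universe u v w w' w''
open DefMod

namespace Groth.Agent.S18802


open W4c6defoisocp1

/-- Let K be a field of characteristic zero, D an associative K-algebra and E, F left D-modules. A
K-linear map s : D → Hom_K(E, F) with s(ab)(e) = a s(b)(e) + s(a)(b e) (a derivation into the
bimodule Hom_K(E, F), i.e. a Hochschild 1-cocycle) defines the twisted sum F ⊕_s E = F × E with a ·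
(f, e) = (a f + s(a) e, a e), an extension of E by F. Every extension of left D-modules 0 → F → Q →
E → 0 arises this way: there are such an s and a D-linear isomorphism Q ≅ F ⊕_s E carrying the given
map F → Q to the inclusion f ↦ (f, 0) and compatible with the two projections onto E. (Together with
the splitting criterion this identifies derivations modulo principal derivations with Ext¹_D(E, F);
the compatibility of that identification with addition and scalars is not restated.) -/
theorem result
    {K : Type u} [Field K] [CharZero K]
    {D : Type v} [Ring D] [Algebra K D]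
    {E : Type w} [AddCommGroup E] [Module K E] [Module D E] [IsScalarTower K D E]
    {F : Type w'} [AddCommGroup F] [Module K F] [Module D F] [IsScalarTower K D F]
    {Q : Type w''} [AddCommGroup Q] [Module D Q]
    (i : F →ₗ[D] Q) (p : Q →ₗ[D] E) (hi : Function.Injective i) (hp : Function.Surjective p)
    (hex : Function.Exact i p) :
    ∃ (s : D →ₗ[K] E →ₗ[K] F) (hs : W4c6defoisocp1.IsHomDerivation s) (Φ : Q ≃ₗ[D] W4c6defoisocp1.TwistExt s hs),
      (∀ f : F, Φ (i f) = W4c6defoisocp1.TwistExt.inl f) ∧ ∀ q : Q, W4c6defoisocp1.TwistExt.snd (Φ q) = p q := by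
  classical
  let _ : Module K Q := Module.compHom Q (algebraMap K D)
  have hKQ : ∀ (c : K) (q : Q), c • q = algebraMap K D c • q := fun c q => rfl
  let pK : Q →ₗ[K] E :=
    { toFun := p
      map_add' := p.map_add
      map_smul' := fun c q => by
        rw [hKQ, map_smul, algebraMap_smul]; rfl }
  obtain ⟨σ, hσ⟩ := LinearMap.exists_rightInverse_of_surjective pK
    (LinearMap.range_eq_top.mpr hp)
  have hpσ : ∀ e, p (σ e) = e := fun e => LinearMap.congr_fun hσ e
  have hσsmul : ∀ (c : K) (e : E), σ (c • e) = algebraMap K D c • σ e := fun c e => by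
    rw [map_smul, hKQ]
  have hpi : ∀ f, p (i f) = 0 := fun f => hex.apply_apply_eq_zero f
  have hlift : ∀ q : Q, p q = 0 → ∃ f : F, i f = q := fun q hq => (hex q).mp hq
  have hg : ∀ (a : D) (e : E), ∃ f : F, i f = a • σ e - σ (a • e) := fun a e =>
    hlift _ (by rw [map_sub, map_smul, hpσ, hpσ, sub_self])
  choose g hg using hg
  have hρ : ∀ q : Q, ∃ f : F, i f = q - σ (p q) := fun q =>
    hlift _ (by rw [map_sub, hpσ, sub_self])
  choose ρ hρ using hρ
  have hiK : ∀ (c : K) (f : F), i (c • f) = algebraMap K D c • i f := fun c f => by
    rw [← algebraMap_smul D c f, map_smul]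
  let s : D →ₗ[K] E →ₗ[K] F := LinearMap.mk₂ K g
    (by
      intro a₁ a₂ e; apply hi
      rw [map_add, hg, hg, hg, add_smul, add_smul, map_add]; abel)
    (by
      intro c a e; apply hi
      rw [hiK, hg, hg, Algebra.smul_def, mul_smul, mul_smul, algebraMap_smul D c (a • e), hσsmul,
        smul_sub])
    (by
      intro a e₁ e₂; apply hi
      rw [map_add, hg, hg, hg, map_add, smul_add, smul_add, map_add]; abel)
    (by
      intro c a e; apply hi
      rw [hiK, hg, hg, hσsmul, smul_algebra_smul_comm c a e, hσsmul, smul_sub, ← mul_smul,
        ← mul_smul, Algebra.commutes])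
  have hsg : ∀ a e, s a e = g a e := fun a e => rfl
  have hs : IsHomDerivation s := by
    intro a b e
    apply hi
    rw [hsg, hsg, hsg, map_add, map_smul, hg, hg, hg, mul_smul, mul_smul, smul_sub]; abel
  have hρi : ∀ f, ρ (i f) = f := fun f => hi (by rw [hρ, hpi, map_zero, sub_zero])
  let Φ : Q ≃ₗ[D] TwistExt s hs :=
    { toFun := fun q => TwistExt.mk (ρ q, p q)
      map_add' := by
        intro q₁ q₂
        apply TwistExt.ext
        · simp only [TwistExt.val_mk, TwistExt.val_add, Prod.fst_add]
          apply hi
          rw [map_add, hρ, hρ, hρ, map_add, map_add]; abel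
        · simp
      map_smul' := by
        intro a q
        apply TwistExt.ext
        · simp only [TwistExt.val_mk, TwistExt.val_smul, RingHom.id_apply, hsg]
          apply hi
          rw [hρ, map_add, map_smul i a (ρ q), hρ, hg, map_smul p a q, smul_sub]; abel
        · simp
      invFun := fun x => i (TwistExt.val x).1 + σ (TwistExt.val x).2
      left_inv := by
        intro q
        simp only [TwistExt.val_mk]
        rw [hρ]; abel
      right_inv := by
        intro x
        apply TwistExt.ext
        · simp only [TwistExt.val_mk]
          apply hi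
          rw [hρ, map_add, hpi, hpσ, zero_add]; abel
        · simp only [TwistExt.val_mk]
          rw [map_add, hpi, hpσ, zero_add] }
  refine ⟨s, hs, Φ, fun f => ?_, fun q => rfl⟩
  apply TwistExt.ext
  · change ρ (i f) = f
    exact hρi f
  · change p (i f) = 0
    exact hpi f

end Groth.Agent.S18802
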