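import Groth.Statements.S18806
import Groth.Agent.Lib.Helper22.ComodField

set_option autoImplicit false
universe u v v' w w' x
open TensorProduct
open HopfRep

namespace Groth.Agent.S18806

/-- Let k be a field, i : C → D an injective morphism of k-coalgebras and V a right D-comodule with
coaction ρ : V → V ⊗ D. If ρ(v) lies in the image of V ⊗ C → V ⊗ D (induced by i) for every v, then
V comes from a C-comodule: there is a C-comodule structure on V whose coaction, followed by V ⊗ C →
V ⊗ D, is ρ. (The source states this for left comodules over the coordinate bialgebras of an affine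
monoid scheme over k and of its group of units, assumed open and schematically dense, and uses that
assumption only through the injectivity of the restriction map of coordinate rings; the row is the
right-comodule mirror image for any injective coalgebra map. The converse direction is immediate.) -/
theorem result (k : Type u) [Field k]
    (C : Type v) [AddCommGroup C] [Module k C] [Coalgebra k C]
    (D : Type v') [AddCommGroup D] [Module k D] [Coalgebra k D]
    (i : C →ₗc[k] D) (hi : Function.Injective i)
    (V : Type w) [AddCommGroup V] [Module k V] [HopfRep.Comod k D V]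
    (h : ∀ v : V, HopfRep.Comod.coact (k := k) (A := D) v ∈ LinearMap.range ((i : C →ₗ[k] D).lTensor V)) :
    ∃ c : HopfRep.Comod k C V,
      (i : C →ₗ[k] D).lTensor V ∘ₗ c.coact = HopfRep.Comod.coact (k := k) (A := D) := by
  classical
  set j : V ⊗[k] C →ₗ[k] V ⊗[k] D := (i : C →ₗ[k] D).lTensor V with hjdef
  have hj : Function.Injective j :=
    Module.Flat.lTensor_preserves_injective_linearMap (i : C →ₗ[k] D) hi
  let ρ : V →ₗ[k] V ⊗[k] D := HopfRep.Comod.coact (k := k) (A := D)
  let co : V →ₗ[k] V ⊗[k] C :=
    (LinearEquiv.ofInjective j hj).symm.toLinearMap ∘ₗ LinearMap.codRestrict (LinearMap.range j) ρ h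
  have hco : j ∘ₗ co = ρ := by
    ext v
    simp only [co, LinearMap.comp_apply, LinearEquiv.coe_coe]
    have := LinearEquiv.apply_symm_apply (LinearEquiv.ofInjective j hj)
      (LinearMap.codRestrict (LinearMap.range j) ρ h v)
    exact congrArg Subtype.val this
  have hJ : Function.Injective ((TensorProduct.map (i : C →ₗ[k] D) (i : C →ₗ[k] D)).lTensor V) := by
    apply Module.Flat.lTensor_preserves_injective_linearMap
    exact TensorProduct.map_injective_of_flat_flat _ _ hi hi
  have hcomul : TensorProduct.map (i : C →ₗ[k] D) (i : C →ₗ[k] D) ∘ₗ Coalgebra.comul (R := k) (A := C) =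
      Coalgebra.comul (R := k) (A := D) ∘ₗ (i : C →ₗ[k] D) := i.map_comp_comul
  have hcounit : Coalgebra.counit (R := k) (A := D) ∘ₗ (i : C →ₗ[k] D) =
      Coalgebra.counit (R := k) (A := C) := i.counit_comp
  refine ⟨{ coact := co, coassoc := ?_, counit_comp := ?_ }, hco⟩
  · apply LinearMap.ext
    intro v
    apply hJ
    have h1 : ∀ y : (V ⊗[k] C) ⊗[k] C,
        (TensorProduct.map (i : C →ₗ[k] D) (i : C →ₗ[k] D)).lTensor V (TensorProduct.assoc k V C C y) =
        TensorProduct.assoc k V D D (TensorProduct.map j (i : C →ₗ[k] D) y) := by
      intro y
      induction y using TensorProduct.induction_on with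
      | zero => simp
      | add a b ha hb => simp only [map_add, ha, hb]
      | tmul a c =>
        induction a using TensorProduct.induction_on with
        | zero => simp
        | add a b ha hb => simp only [map_add, TensorProduct.add_tmul, ha, hb]
        | tmul v c' => simp [j]
    have h2 : ∀ y : V ⊗[k] C, TensorProduct.map j (i : C →ₗ[k] D) (co.rTensor C y) =
        ρ.rTensor D (j y) := by
      intro y
      induction y using TensorProduct.induction_on with
      | zero => simp
      | add a b ha hb => simp only [map_add, ha, hb]
      | tmul v c =>
        simp only [LinearMap.rTensor_tmul, TensorProduct.map_tmul, j, LinearMap.lTensor_tmul]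
        rw [← hco]
        rfl
    have h3 : ∀ y : V ⊗[k] C, (TensorProduct.map (i : C →ₗ[k] D) (i : C →ₗ[k] D)).lTensor V
        ((Coalgebra.comul (R := k) (A := C)).lTensor V y) =
        (Coalgebra.comul (R := k) (A := D)).lTensor V (j y) := by
      intro y
      induction y using TensorProduct.induction_on with
      | zero => simp
      | add a b ha hb => simp only [map_add, ha, hb]
      | tmul v c =>
        simp only [LinearMap.lTensor_tmul, j]
        congr 1
        exact LinearMap.congr_fun hcomul c
    simp only [LinearMap.comp_apply, LinearEquiv.coe_coe]
    rw [h1, h2]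
    change _ = (TensorProduct.map (i : C →ₗ[k] D) (i : C →ₗ[k] D)).lTensor V
        ((Coalgebra.comul (R := k) (A := C)).lTensor V (co v))
    rw [h3]
    have hv : j (co v) = ρ v := LinearMap.congr_fun hco v
    rw [hv]
    have := LinearMap.congr_fun (HopfRep.Comod.coassoc (k := k) (A := D) (V := V)) v
    simpa using this
  · apply LinearMap.ext
    intro v
    have h4 : ∀ y : V ⊗[k] C, (Coalgebra.counit (R := k) (A := C)).lTensor V y =
        (Coalgebra.counit (R := k) (A := D)).lTensor V (j y) := by
      intro y
      induction y using TensorProduct.induction_on with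
      | zero => simp
      | add a b ha hb => simp only [map_add, ha, hb]
      | tmul v c =>
        simp only [LinearMap.lTensor_tmul, j]
        congr 1
        exact (LinearMap.congr_fun hcounit c).symm
    simp only [LinearMap.comp_apply]
    change (Coalgebra.counit (R := k) (A := C)).lTensor V (co v) = _
    rw [h4]
    have hv : j (co v) = ρ v := LinearMap.congr_fun hco v
    rw [hv]
    exact LinearMap.congr_fun (HopfRep.Comod.counit_comp (k := k) (A := D) (V := V)) v

end Groth.Agent.S18806
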