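import Groth.Statements.S18808
import Groth.Agent.Lib.Helper22.ComodMod

set_option autoImplicit false
universe u v v' w w' x
open TensorProduct
open HopfRep

namespace Groth.Agent.S18808

/-- Let k be a field, i : C → D an injective morphism of k-coalgebras and V a right D-comodule with
coaction ρ. Call a D-subcomodule K of V admissible when the induced coaction of V/K, namely ρ
followed by the projection V ⊗ D → (V/K) ⊗ D, takes all its values in the image of (V/K) ⊗ C → (V/K)
⊗ D (so that V/K comes from a C-comodule). Then there is a least admissible D-subcomodule of V: V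
has a largest quotient D-comodule coming from C, through which every D-comodule map from V to a
comodule coming from C factors. (The source states this for left comodules over the coordinate
bialgebras of an affine monoid scheme and its open schematically dense group of units, as the
existence of a universal map from a representation of the unit group to a representation of the
monoid; it uses that assumption only through the injectivity of the restriction map.) -/
theorem result (k : Type u) [Field k]
    (C : Type v) [AddCommGroup C] [Module k C] [Coalgebra k C]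
    (D : Type v') [AddCommGroup D] [Module k D] [Coalgebra k D]
    (i : C →ₗc[k] D) (hi : Function.Injective i)
    (V : Type w) [AddCommGroup V] [Module k V] [HopfRep.Comod k D V] :
    ∃ K : Submodule k V, HopfRep.IsSubcomod (k := k) (A := D) K ∧
      (∀ v : V, K.mkQ.rTensor D (HopfRep.Comod.coact (k := k) (A := D) v) ∈
        LinearMap.range ((i : C →ₗ[k] D).lTensor (V ⧸ K))) ∧
      ∀ K' : Submodule k V, HopfRep.IsSubcomod (k := k) (A := D) K' →
        (∀ v : V, K'.mkQ.rTensor D (HopfRep.Comod.coact (k := k) (A := D) v) ∈
          LinearMap.range ((i : C →ₗ[k] D).lTensor (V ⧸ K'))) → K ≤ K' := by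
  classical
  let cD : HopfRep.Comod k D V := inferInstance
  have crit : ∀ K : Submodule k V,
      (∀ v : V, K.mkQ.rTensor D (HopfRep.Comod.coact (k := k) (A := D) v) ∈
        LinearMap.range ((i : C →ₗ[k] D).lTensor (V ⧸ K))) ↔
      ∀ f : Module.Dual k D, f ∘ₗ (i : C →ₗ[k] D) = 0 → ∀ v : V,
        Groth.Agent.Lib.helper22.actDual V f v ∈ K := by
    intro K
    constructor
    · intro h f hf v
      obtain ⟨y, hy⟩ := h v
      have h1 : Groth.Agent.Lib.helper22.slice f (K.mkQ.rTensor D (HopfRep.Comod.coact (k := k) (A := D) v)) =
          K.mkQ (Groth.Agent.Lib.helper22.slice f (HopfRep.Comod.coact (k := k) (A := D) v)) :=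
        Groth.Agent.Lib.helper22.slice_rTensor f K.mkQ _
      rw [← hy, Groth.Agent.Lib.helper22.slice_lTensor, hf] at h1
      have h0 : Groth.Agent.Lib.helper22.slice (0 : Module.Dual k C) y = 0 := by
        simp [Groth.Agent.Lib.helper22.slice]
      rw [h0] at h1
      exact (Submodule.Quotient.mk_eq_zero K).mp h1.symm
    · intro h v
      have hex : Function.Exact (i : C →ₗ[k] D) (LinearMap.range (i : C →ₗ[k] D)).mkQ :=
        LinearMap.exact_map_mkQ_range _
      have hex' := lTensor_exact (V ⧸ K) hex (Submodule.mkQ_surjective _)
      rw [← LinearMap.exact_iff.mp hex', LinearMap.mem_ker]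
      apply Groth.Agent.Lib.helper22.eq_zero_of_slice_eq_zero
      intro g
      rw [Groth.Agent.Lib.helper22.slice_lTensor, Groth.Agent.Lib.helper22.slice_rTensor,
        Submodule.mkQ_apply, Submodule.Quotient.mk_eq_zero]
      apply h (g ∘ₗ (LinearMap.range (i : C →ₗ[k] D)).mkQ) _ v
      ext x
      have hx : (Submodule.Quotient.mk (i x) : D ⧸ LinearMap.range (i : C →ₗ[k] D)) = 0 :=
        (Submodule.Quotient.mk_eq_zero _).mpr ⟨x, rfl⟩
      simp [hx]
  refine ⟨sInf {K' : Submodule k V | HopfRep.IsSubcomod (k := k) (A := D) K' ∧
      ∀ v : V, K'.mkQ.rTensor D (HopfRep.Comod.coact (k := k) (A := D) v) ∈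
        LinearMap.range ((i : C →ₗ[k] D).lTensor (V ⧸ K'))}, ?_, ?_, ?_⟩
  · exact (Groth.Agent.Lib.helper22.subL cD).sInfClosed (fun K' hK' => hK'.1)
  · rw [crit]
    intro f hf v
    rw [Submodule.mem_sInf]
    intro K' hK'
    exact (crit K').mp hK'.2 f hf v
  · intro K' h1 h2
    exact sInf_le ⟨h1, h2⟩

end Groth.Agent.S18808
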