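import Groth.Statements.S18810
import Groth.Agent.Lib.Helper22.ComodMod
import Groth.Agent.Lib.Helper22.IsoIndep

set_option autoImplicit false
universe u v v' w w' x
open TensorProduct
open HopfRep

namespace Groth.Agent.S18810

/-- Let k be a field, C a k-coalgebra, V a right C-comodule and (S_j) a family of simple C-comodules
which are pairwise non-isomorphic (for j ≠ j' no k-linear isomorphism S_j ≃ S_j' commutes with the
coactions). For each j let V[j] be the isotypic component of type S_j: the sum of the images of all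
comodule maps S_j → V (equivalently of all simple subcomodules of V isomorphic to S_j, a nonzero
such map being injective). Then the family j ↦ V[j] is independent, so that the socle of V is the
direct sum of its isotypic components. (The source states this for representations of an affine
monoid scheme over k, i.e. left comodules over its coordinate bialgebra; the row is the
right-comodule form over any coalgebra.) -/
theorem result (k : Type u) [Field k]
    (C : Type v) [AddCommGroup C] [Module k C] [Coalgebra k C]
    (V : Type w) [AddCommGroup V] [Module k V] [HopfRep.Comod k C V]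
    {ι : Type x} (S : ι → Type w') [∀ j, AddCommGroup (S j)] [∀ j, Module k (S j)]
    [∀ j, HopfRep.Comod k C (S j)] (hS : ∀ j, HopfRep.IsSimpleComod k C (S j))
    (hne : ∀ j j', j ≠ j' → ∀ e : S j ≃ₗ[k] S j', ¬ Hoch.IsComodHom C (e : S j →ₗ[k] S j')) :
    iSupIndep (fun j => ⨆ f : {f : S j →ₗ[k] V // Hoch.IsComodHom C f}, LinearMap.range f.1) := by
  classical
  let cV : HopfRep.Comod k C V := inferInstance
  let cS : ∀ j, HopfRep.Comod k C (S j) := fun j => inferInstance
  have hSs : ∀ j, IsSimpleModule (Groth.Agent.Lib.helper22.DualAlg k C)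
      (Groth.Agent.Lib.helper22.AsMod (cS j)) :=
    fun j => (Groth.Agent.Lib.helper22.isSimpleComod_iff (cS j)).mp (hS j)
  have hne' : ∀ j j', j ≠ j' → IsEmpty (Groth.Agent.Lib.helper22.AsMod (cS j) ≃ₗ[Groth.Agent.Lib.helper22.DualAlg k C]
      Groth.Agent.Lib.helper22.AsMod (cS j')) := by
    intro j j' hjj'
    refine ⟨fun e => ?_⟩
    let ψ := Groth.Agent.Lib.helper22.linToHom (cS j) (cS j') e.toLinearMap
    have hψ : Hoch.IsComodHom C ψ := Groth.Agent.Lib.helper22.isComodHom_linToHom (cS j) (cS j') _
    have hbij : Function.Bijective ψ := e.bijective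
    apply hne j j' hjj' (LinearEquiv.ofBijective ψ hbij)
    have : ((LinearEquiv.ofBijective ψ hbij : S j ≃ₗ[k] S j') : S j →ₗ[k] S j') = ψ :=
      LinearMap.ext fun x => rfl
    rw [this]
    exact hψ
  have key : ∀ j, (⨆ f : {f : S j →ₗ[k] V // Hoch.IsComodHom C f}, LinearMap.range f.1) =
      Groth.Agent.Lib.helper22.ofSub cV (⨆ g : Groth.Agent.Lib.helper22.AsMod (cS j) →ₗ[Groth.Agent.Lib.helper22.DualAlg k C]
        Groth.Agent.Lib.helper22.AsMod cV, LinearMap.range g) := by
    intro j
    rw [Groth.Agent.Lib.helper22.ofSub_iSup]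
    apply le_antisymm
    · apply iSup_le
      rintro ⟨f, hf⟩ _ ⟨s, rfl⟩
      exact (le_iSup (fun g : Groth.Agent.Lib.helper22.AsMod (cS j) →ₗ[Groth.Agent.Lib.helper22.DualAlg k C]
        Groth.Agent.Lib.helper22.AsMod cV => Groth.Agent.Lib.helper22.ofSub cV (LinearMap.range g))
        (Groth.Agent.Lib.helper22.homToLin (cS j) cV f hf)) ⟨s, rfl⟩
    · apply iSup_le
      rintro g v ⟨s, hs⟩
      exact (le_iSup (fun f : {f : S j →ₗ[k] V // Hoch.IsComodHom C f} => LinearMap.range f.1)
        ⟨Groth.Agent.Lib.helper22.linToHom (cS j) cV g,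
          Groth.Agent.Lib.helper22.isComodHom_linToHom (cS j) cV g⟩) ⟨s, hs⟩
  have hfam : (fun j => ⨆ f : {f : S j →ₗ[k] V // Hoch.IsComodHom C f}, LinearMap.range f.1) =
      fun j => Groth.Agent.Lib.helper22.ofSub cV (⨆ g : Groth.Agent.Lib.helper22.AsMod (cS j) →ₗ[Groth.Agent.Lib.helper22.DualAlg k C]
        Groth.Agent.Lib.helper22.AsMod cV, LinearMap.range g) := funext key
  rw [hfam, Groth.Agent.Lib.helper22.iSupIndep_ofSub_iff]
  exact Groth.Agent.Lib.helper22.iSupIndep_iSup_range
    (fun j => Groth.Agent.Lib.helper22.AsMod (cS j)) hne'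

end Groth.Agent.S18810
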