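import Groth.Statements.S18814
import Groth.Agent.Lib.Helper22.ComodMod

set_option autoImplicit false
universe u v v' w w'
open TensorProduct
open HopfRep

namespace Groth.Agent.S18814

/-- Let k be a field, C and D commutative bialgebras over k (coordinate rings of affine monoid schemes M
and N) and V a k-vector space carrying a right C-comodule structure with coaction ρ_C : V → V ⊗ C
and a right D-comodule structure with coaction ρ_D : V → V ⊗ D which commute: (ρ_C ⊗ id_D) ∘ ρ_D and
(ρ_D ⊗ id_C) ∘ ρ_C agree in V ⊗ C ⊗ D after reassociating and swapping the last two factors (the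
actions of M and N on V commute). Assume V is semisimple as a D-comodule. Then for every simple
D-comodule S the isotypic component of V of type S, the sum of the images of all D-comodule maps S →
V, is a C-subcomodule of V. (The source works with left comodules; this is the right-comodule form.) -/
theorem result (k : Type u) [Field k]
    (C : Type v) [CommRing C] [Bialgebra k C] (D : Type v') [CommRing D] [Bialgebra k D]
    (V : Type w) [AddCommGroup V] [Module k V] [HopfRep.Comod k C V] [HopfRep.Comod k D V]
    (hcomm : (TensorProduct.assoc k V C D).toLinearMap ∘ₗ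
        (HopfRep.Comod.coact (k := k) (A := C) (V := V)).rTensor D ∘ₗ HopfRep.Comod.coact (k := k) (A := D) =
      (TensorProduct.comm k D C).toLinearMap.lTensor V ∘ₗ (TensorProduct.assoc k V D C).toLinearMap ∘ₗ
        (HopfRep.Comod.coact (k := k) (A := D) (V := V)).rTensor C ∘ₗ HopfRep.Comod.coact (k := k) (A := C))
    (hV : HopfRep.IsSemisimpleComod k D V)
    (S : Type w') [AddCommGroup S] [Module k S] [HopfRep.Comod k D S] (hS : HopfRep.IsSimpleComod k D S) :
    HopfRep.IsSubcomod (k := k) (A := C)
      (⨆ f : {f : S →ₗ[k] V // Hoch.IsComodHom D f}, LinearMap.range f.1) := by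
  classical
  let cC : HopfRep.Comod k C V := inferInstance
  let cD : HopfRep.Comod k D V := inferInstance
  let cS : HopfRep.Comod k D S := inferInstance
  -- the two actions of functionals commute
  have hcommAct : ∀ (φ : Module.Dual k C) (ψ : Module.Dual k D) (v : V),
      Groth.Agent.Lib.helper22.actD cC φ (Groth.Agent.Lib.helper22.actD cD ψ v) =
        Groth.Agent.Lib.helper22.actD cD ψ (Groth.Agent.Lib.helper22.actD cC φ v) := by
    intro φ ψ v
    obtain ⟨χ, hχ⟩ : ∃ χ : Module.Dual k (TensorProduct k C D),
        χ = LinearMap.mul' k k ∘ₗ TensorProduct.map φ ψ := ⟨_, rfl⟩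
    have hχt : ∀ (c : C) (d : D), χ (c ⊗ₜ[k] d) = φ c * ψ d := by
      intro c d
      rw [hχ]
      simp
    have A0 : ∀ (d : D) (z : TensorProduct k V C), Groth.Agent.Lib.helper22.slice χ
        (TensorProduct.assoc k V C D (z ⊗ₜ[k] d)) = ψ d • Groth.Agent.Lib.helper22.slice φ z := by
      intro d z
      induction z using TensorProduct.induction_on with
      | zero => simp
      | tmul w c => simp [hχt, mul_smul, smul_comm (ψ d)]
      | add a b ha hb => simp only [map_add, TensorProduct.add_tmul, smul_add, ha, hb]
    have A : ∀ y : TensorProduct k V D, Groth.Agent.Lib.helper22.slice χ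
        (TensorProduct.assoc k V C D ((HopfRep.Comod.coact (k := k) (A := C) (V := V)).rTensor D y)) =
        Groth.Agent.Lib.helper22.actD cC φ (Groth.Agent.Lib.helper22.slice ψ y) := by
      intro y
      induction y using TensorProduct.induction_on with
      | zero => simp
      | tmul w d =>
        rw [LinearMap.rTensor_tmul, A0, Groth.Agent.Lib.helper22.slice_tmul, map_smul]
        rfl
      | add a b ha hb => simp only [map_add, ha, hb]
    have B0 : ∀ (c : C) (z : TensorProduct k V D), Groth.Agent.Lib.helper22.slice χ
        ((TensorProduct.comm k D C).toLinearMap.lTensor V (TensorProduct.assoc k V D C (z ⊗ₜ[k] c))) =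
        φ c • Groth.Agent.Lib.helper22.slice ψ z := by
      intro c z
      induction z using TensorProduct.induction_on with
      | zero => simp
      | tmul w d => simp [hχt, mul_smul]
      | add a b ha hb => simp only [map_add, TensorProduct.add_tmul, smul_add, ha, hb]
    have B : ∀ y : TensorProduct k V C, Groth.Agent.Lib.helper22.slice χ
        ((TensorProduct.comm k D C).toLinearMap.lTensor V (TensorProduct.assoc k V D C
          ((HopfRep.Comod.coact (k := k) (A := D) (V := V)).rTensor C y))) =
        Groth.Agent.Lib.helper22.actD cD ψ (Groth.Agent.Lib.helper22.slice φ y) := by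
      intro y
      induction y using TensorProduct.induction_on with
      | zero => simp
      | tmul w c =>
        rw [LinearMap.rTensor_tmul, B0, Groth.Agent.Lib.helper22.slice_tmul, map_smul]
        rfl
      | add a b ha hb => simp only [map_add, ha, hb]
    have h := congrArg (Groth.Agent.Lib.helper22.slice χ) (LinearMap.congr_fun hcomm v)
    simp only [LinearMap.comp_apply, LinearEquiv.coe_coe] at h
    rw [A, B] at h
    exact h
  rw [Groth.Agent.Lib.helper22.isSubcomod_iff' cC]
  intro φ
  have hφ : Hoch.IsComodHom D (Groth.Agent.Lib.helper22.actD cC φ) := by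
    rw [Groth.Agent.Lib.helper22.isComodHom_iff cD cD]
    intro ψ v
    exact hcommAct φ ψ v
  have hle : (⨆ f : {f : S →ₗ[k] V // Hoch.IsComodHom D f}, LinearMap.range f.1) ≤
      (⨆ f : {f : S →ₗ[k] V // Hoch.IsComodHom D f}, LinearMap.range f.1).comap
        (Groth.Agent.Lib.helper22.actD cC φ) := by
    apply iSup_le
    rintro ⟨f, hf⟩ _ ⟨s, rfl⟩
    have hcomp : Hoch.IsComodHom D (Groth.Agent.Lib.helper22.actD cC φ ∘ₗ f) := by
      rw [Groth.Agent.Lib.helper22.isComodHom_iff cS cD]
      intro ψ s
      rw [LinearMap.comp_apply, LinearMap.comp_apply,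
        (Groth.Agent.Lib.helper22.isComodHom_iff cS cD f).mp hf ψ s,
        (Groth.Agent.Lib.helper22.isComodHom_iff cD cD _).mp hφ ψ (f s)]
    exact (le_iSup (fun f : {f : S →ₗ[k] V // Hoch.IsComodHom D f} => LinearMap.range f.1)
      ⟨_, hcomp⟩) ⟨s, rfl⟩
  intro w hw
  exact hle hw

end Groth.Agent.S18814
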