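import Groth.Statements.S18818
import Groth.Agent.Lib.Helper22.ComodMod

set_option autoImplicit false
universe u v w
open TensorProduct
open HopfRep

namespace Groth.Agent.S18818

/-- Let k be a field, C a k-coalgebra and V a right C-comodule which is semisimple in the sense that
every subcomodule has a complementary subcomodule (equivalently every injective comodule map into V
splits). Then V is completely reducible: V is the sum of its simple subcomodules, the nonzero
subcomodules W whose only subcomodules are 0 and W. (The source states this for representations of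
an affine monoid scheme over k, i.e. left comodules over its coordinate bialgebra; the converse
implication and the stability of the class under subobjects and quotients are not part of this row.) -/
theorem result (k : Type u) [Field k]
    (C : Type v) [AddCommGroup C] [Module k C] [Coalgebra k C]
    (V : Type w) [AddCommGroup V] [Module k V] [HopfRep.Comod k C V] (hV : HopfRep.IsSemisimpleComod k C V) :
    (⨆ W : {W : Submodule k V // HopfRep.IsSubcomod (k := k) (A := C) W ∧ W ≠ ⊥ ∧
        ∀ W' : Submodule k V, HopfRep.IsSubcomod (k := k) (A := C) W' → W' ≤ W → W' = ⊥ ∨ W' = W},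
      (W.1 : Submodule k V)) = ⊤ := by
  let c : HopfRep.Comod k C V := inferInstance
  have hss := (Groth.Agent.Lib.helper22.isSemisimpleComod_iff c).mp hV
  obtain ⟨T, hT⟩ : ∃ T : Submodule k V, T = (⨆ W : {W : Submodule k V // HopfRep.IsSubcomod (k := k) (A := C) W ∧ W ≠ ⊥ ∧
        ∀ W' : Submodule k V, HopfRep.IsSubcomod (k := k) (A := C) W' → W' ≤ W → W' = ⊥ ∨ W' = W},
      (W.1 : Submodule k V)) := ⟨_, rfl⟩
  rw [← hT]
  have hTsub : HopfRep.IsSubcomod (k := k) (A := C) T := by
    rw [hT]
    have := (Groth.Agent.Lib.helper22.subL c).sSupClosed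
      (s := Set.range fun W : {W : Submodule k V // HopfRep.IsSubcomod (k := k) (A := C) W ∧ W ≠ ⊥ ∧
        ∀ W' : Submodule k V, HopfRep.IsSubcomod (k := k) (A := C) W' → W' ≤ W → W' = ⊥ ∨ W' = W} => W.1)
      (by rintro _ ⟨W, rfl⟩; exact W.2.1)
    exact this
  have hN : Groth.Agent.Lib.helper22.toSub c T hTsub = ⊤ := by
    rw [eq_top_iff, ← IsSemisimpleModule.sSup_simples_eq_top]
    apply sSup_le
    intro m hm
    have hatom : IsAtom m := isSimpleModule_iff_isAtom.mp hm
    have hle : Groth.Agent.Lib.helper22.ofSub c m ≤ T := by
      rw [hT]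
      refine le_iSup (fun W : {W : Submodule k V // HopfRep.IsSubcomod (k := k) (A := C) W ∧ W ≠ ⊥ ∧
        ∀ W' : Submodule k V, HopfRep.IsSubcomod (k := k) (A := C) W' → W' ≤ W → W' = ⊥ ∨ W' = W} => W.1)
        ⟨Groth.Agent.Lib.helper22.ofSub c m, Groth.Agent.Lib.helper22.isSubcomod_ofSub c m, ?_, ?_⟩
      · intro hbot
        apply hatom.1
        rw [eq_bot_iff]
        intro x hx
        have : (Groth.Agent.Lib.helper22.toAsMod c).symm x ∈ Groth.Agent.Lib.helper22.ofSub c m := hx
        rw [hbot] at this
        exact (Submodule.mem_bot _).mpr ((Submodule.mem_bot k).mp this)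
      · intro W' hW' hle
        have h1 : Groth.Agent.Lib.helper22.toSub c W' hW' ≤ m := fun x hx => hle hx
        rcases hatom.le_iff.mp h1 with h2 | h2
        · left
          rw [← Groth.Agent.Lib.helper22.ofSub_toSub c W' hW', h2]
          ext x
          exact Iff.rfl
        · right
          rw [← Groth.Agent.Lib.helper22.ofSub_toSub c W' hW', h2]
    intro x hx
    exact hle hx
  rw [eq_top_iff]
  intro v _
  have : Groth.Agent.Lib.helper22.toAsMod c v ∈ Groth.Agent.Lib.helper22.toSub c T hTsub := by
    rw [hN]; exact Submodule.mem_top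
  exact this

end Groth.Agent.S18818
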