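import Groth.Statements.S18819
import Groth.Agent.Lib.Helper22.ComodMod

set_option autoImplicit false
universe u v w w'
open TensorProduct
open HopfRep

namespace Groth.Agent.S18819

/-- Let k be a field, C a k-coalgebra and V a right C-comodule which is the sum of finitely many simple
subcomodules, given as the images of comodule maps g_i : K_i → V (i < n) from simple comodules K_i.
If S is a simple comodule and f : S → V a nonzero comodule map (so that its image is a simple
subcomodule of V), then S is isomorphic as a comodule to some K_i: there is a k-linear isomorphism S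
≃ K_i commuting with the coactions. (The source states this for representations of an affine monoid
scheme over k with the subrepresentations given as subspaces; here the simple subcomodules are
presented as images of maps from simple comodules.) -/
theorem result (k : Type u) [Field k]
    (C : Type v) [AddCommGroup C] [Module k C] [Coalgebra k C]
    (V : Type w) [AddCommGroup V] [Module k V] [HopfRep.Comod k C V]
    {n : ℕ} (K : Fin n → Type w') [∀ i, AddCommGroup (K i)] [∀ i, Module k (K i)] [∀ i, HopfRep.Comod k C (K i)]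
    (hK : ∀ i, HopfRep.IsSimpleComod k C (K i)) (g : ∀ i, K i →ₗ[k] V) (hg : ∀ i, Hoch.IsComodHom C (g i))
    (hsum : (⨆ i, LinearMap.range (g i)) = ⊤)
    (S : Type w') [AddCommGroup S] [Module k S] [HopfRep.Comod k C S] (hS : HopfRep.IsSimpleComod k C S)
    (f : S →ₗ[k] V) (hf : Hoch.IsComodHom C f) (hf0 : f ≠ 0) :
    ∃ (i : Fin n) (e : S ≃ₗ[k] K i), Hoch.IsComodHom C (e : S →ₗ[k] K i) := by
  let cV : HopfRep.Comod k C V := inferInstance
  let cS : HopfRep.Comod k C S := inferInstance
  let cK : ∀ i, HopfRep.Comod k C (K i) := fun i => inferInstance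
  have hSs : IsSimpleModule (Groth.Agent.Lib.helper22.DualAlg k C) (Groth.Agent.Lib.helper22.AsMod cS) :=
    (Groth.Agent.Lib.helper22.isSimpleComod_iff cS).mp hS
  have hKs : ∀ i, IsSimpleModule (Groth.Agent.Lib.helper22.DualAlg k C)
      (Groth.Agent.Lib.helper22.AsMod (cK i)) :=
    fun i => (Groth.Agent.Lib.helper22.isSimpleComod_iff (cK i)).mp (hK i)
  let G := fun i => Groth.Agent.Lib.helper22.homToLin (cK i) cV (g i) (hg i)
  let F := Groth.Agent.Lib.helper22.homToLin cS cV f hf
  have hF0 : F ≠ 0 := by
    intro h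
    apply hf0
    ext s
    exact LinearMap.congr_fun h s
  have hsup : (⨆ i, LinearMap.range (G i)) = ⊤ := by
    rw [eq_top_iff]
    intro x _
    have h1 : (⨆ i, LinearMap.range (g i)) ≤
        Groth.Agent.Lib.helper22.ofSub cV (⨆ i, LinearMap.range (G i)) := by
      apply iSup_le
      rintro i _ ⟨y, rfl⟩
      exact (le_iSup (fun i => LinearMap.range (G i)) i) ⟨y, rfl⟩
    rw [hsum] at h1
    exact h1 (Submodule.mem_top (x := (Groth.Agent.Lib.helper22.toAsMod cV).symm x))
  have : IsSemisimpleModule (Groth.Agent.Lib.helper22.DualAlg k C) (Groth.Agent.Lib.helper22.AsMod cV) :=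
    isSemisimpleModule_of_isSemisimpleModule_submodule' (fun i => IsSemisimpleModule.range (G i)) hsup
  obtain ⟨r, hr⟩ := IsSemisimpleModule.extension_property F (LinearMap.injective_of_ne_zero hF0)
    LinearMap.id
  have hex : ∃ i, r ∘ₗ G i ≠ 0 := by
    by_contra hcon
    simp only [not_exists, not_not] at hcon
    have hr0 : r = 0 := by
      apply LinearMap.ext
      intro x
      have hx : x ∈ (⨆ i, LinearMap.range (G i)) := by rw [hsup]; exact Submodule.mem_top
      have hle : (⨆ i, LinearMap.range (G i)) ≤ LinearMap.ker r := by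
        apply iSup_le
        rintro i _ ⟨y, rfl⟩
        exact LinearMap.congr_fun (hcon i) y
      exact hle hx
    rw [hr0, LinearMap.zero_comp] at hr
    have hnt : Nontrivial (Groth.Agent.Lib.helper22.AsMod cS) :=
      IsSimpleModule.nontrivial (Groth.Agent.Lib.helper22.DualAlg k C) _
    obtain ⟨s, hs⟩ := exists_ne (0 : Groth.Agent.Lib.helper22.AsMod cS)
    exact hs (LinearMap.congr_fun hr s).symm
  obtain ⟨i, hi⟩ := hex
  have hbij := LinearMap.bijective_of_ne_zero hi
  let ψ := Groth.Agent.Lib.helper22.linToHom (cK i) cS (r ∘ₗ G i)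
  have hψ : Hoch.IsComodHom C ψ := Groth.Agent.Lib.helper22.isComodHom_linToHom (cK i) cS (r ∘ₗ G i)
  have hψbij : Function.Bijective ψ := hbij
  refine ⟨i, (LinearEquiv.ofBijective ψ hψbij).symm, ?_⟩
  rw [Groth.Agent.Lib.helper22.isComodHom_iff]
  intro φ s
  obtain ⟨x, rfl⟩ := hψbij.2 s
  have h1 := (Groth.Agent.Lib.helper22.isComodHom_iff (cK i) cS ψ).mp hψ φ x
  change (LinearEquiv.ofBijective ψ hψbij).symm _ = Groth.Agent.Lib.helper22.actD _ φ
    ((LinearEquiv.ofBijective ψ hψbij).symm _)
  rw [← h1]
  have h2 : ∀ y, (LinearEquiv.ofBijective ψ hψbij).symm (ψ y) = y := fun y =>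
    (LinearEquiv.ofBijective ψ hψbij).symm_apply_apply y
  rw [h2, h2]

end Groth.Agent.S18819
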