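import Groth.Statements.S18821
import Mathlib

set_option autoImplicit false
universe u
open CategoryTheory MonoidalCategory CartesianMonoidalCategory MonObj AlgebraicGeometry
open AlgGrp

namespace Groth.Agent.S18821

/-- Let k be a commutative ring and M a monoid k-scheme (a monoid object in k-schemes). Then the group
k-functor of units T ↦ M(T)^× is representable by a k-scheme: there are a k-scheme G and a
monomorphism i : G → M such that, for every k-scheme T, a T-valued point of M factors through i if
and only if it is invertible in the monoid M(T). If moreover M is affine then G is affine. -/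
theorem result (k : Type u) [CommRing k]
    (M : Over (Spec (CommRingCat.of k))) [MonObj M] :
    ∃ (G : Over (Spec (CommRingCat.of k))) (i : G ⟶ M), Mono i ∧
      (∀ (T : Over (Spec (CommRingCat.of k))) (m : T ⟶ M), (∃ g : T ⟶ G, g ≫ i = m) ↔ IsUnit m) ∧
      (IsAffine M.left → IsAffine G.left) := by
  classical
  let f : M ⊗ M ⟶ M ⊗ M := lift μ[M] ((β_ M M).hom ≫ μ[M])
  let e : 𝟙_ (Over (Spec (CommRingCat.of k))) ⟶ M ⊗ M := lift η[M] η[M]
  have hβ : ∀ {T : Over (Spec (CommRingCat.of k))} (a b : T ⟶ M),
      lift a b ≫ (β_ M M).hom = lift b a := by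
    intro T a b
    apply CartesianMonoidalCategory.hom_ext <;> simp
  have hkey : ∀ {T : Over (Spec (CommRingCat.of k))} (g : T ⟶ Limits.pullback f e),
      (g ≫ Limits.pullback.fst f e ≫ fst M M) * (g ≫ Limits.pullback.fst f e ≫ snd M M) = 1 ∧
      (g ≫ Limits.pullback.fst f e ≫ snd M M) * (g ≫ Limits.pullback.fst f e ≫ fst M M) = 1 := by
    intro T g
    have hc : (g ≫ Limits.pullback.fst f e) ≫ f = toUnit T ≫ e := by
      rw [Category.assoc, Limits.pullback.condition, ← Category.assoc]
      congr 1
      exact toUnit_unique _ _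
    have h1 : (g ≫ Limits.pullback.fst f e) ≫ μ[M] = 1 := by
      have := congrArg (fun t => t ≫ fst M M) hc
      simp only [f, e, Category.assoc, lift_fst] at this
      rw [Category.assoc, this, Hom.one_def]
    have h2 : (g ≫ Limits.pullback.fst f e) ≫ (β_ M M).hom ≫ μ[M] = 1 := by
      have := congrArg (fun t => t ≫ snd M M) hc
      simp only [f, e, Category.assoc, lift_snd] at this
      rw [Category.assoc, this, Hom.one_def]
    constructor
    · rw [Hom.mul_def, ← Category.assoc, ← Category.assoc g, ← comp_lift, lift_fst_snd,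
        Category.comp_id]
      exact h1
    · rw [Hom.mul_def, ← Category.assoc, ← Category.assoc g, ← hβ, ← comp_lift, lift_fst_snd,
        Category.comp_id, Category.assoc]
      exact h2
  refine ⟨Limits.pullback f e, Limits.pullback.fst f e ≫ fst M M, ?_, ?_, ?_⟩
  · -- mono
    constructor
    intro T g₁ g₂ h
    apply Limits.pullback.hom_ext
    · apply CartesianMonoidalCategory.hom_ext
      · simpa only [Category.assoc] using h
      · have k1 := hkey g₁
        have k2 := hkey g₂
        rw [h] at k1
        have := left_inv_eq_right_inv k1.2 k2.1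
        simpa only [Category.assoc] using this
    · exact toUnit_unique _ _
  · intro T m
    constructor
    · rintro ⟨g, rfl⟩
      have hk := hkey g
      exact ⟨⟨g ≫ Limits.pullback.fst f e ≫ fst M M, g ≫ Limits.pullback.fst f e ≫ snd M M,
        hk.1, hk.2⟩, rfl⟩
    · rintro ⟨u, rfl⟩
      have hu1 : lift (u : T ⟶ M) ((u⁻¹ : (T ⟶ M)ˣ) : T ⟶ M) ≫ μ[M] = toUnit T ≫ η[M] := by
        rw [← Hom.mul_def, ← Hom.one_def]
        exact u.mul_inv
      have hu2 : lift ((u⁻¹ : (T ⟶ M)ˣ) : T ⟶ M) (u : T ⟶ M) ≫ μ[M] = toUnit T ≫ η[M] := by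
        rw [← Hom.mul_def, ← Hom.one_def]
        exact u.inv_mul
      refine ⟨Limits.pullback.lift (lift (u : T ⟶ M) ((u⁻¹ : (T ⟶ M)ˣ) : T ⟶ M)) (toUnit T) ?_, ?_⟩
      · apply CartesianMonoidalCategory.hom_ext
        · simp only [f, e, Category.assoc, lift_fst]
          exact hu1
        · simp only [f, e, Category.assoc, lift_snd]
          rw [← Category.assoc, hβ]
          exact hu2
      · rw [← Category.assoc, Limits.pullback.lift_fst, lift_fst]
  · intro hM
    have h1 : IsAffine (M ⊗ M).left := by
      show IsAffine (Limits.pullback _ _)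
      infer_instance
    have h2 : IsAffine (𝟙_ (Over (Spec (CommRingCat.of k)))).left := by
      show IsAffine (Spec (CommRingCat.of k))
      infer_instance
    have h3 : IsAffine (Limits.pullback f.left e.left) := inferInstance
    let j := Limits.PreservesPullback.iso (Over.forget (Spec (CommRingCat.of k))) f e
    have : IsIso j.hom := Iso.isIso_hom j
    exact @IsAffine.of_isIso _ _ j.hom this h3

end Groth.Agent.S18821
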