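import Groth.Statements.S18825
import Groth.Agent.Lib.Helper14.HomImage3

set_option autoImplicit false
universe u
open CategoryTheory MonoidalCategory CartesianMonoidalCategory MonObj AlgebraicGeometry
open AlgGrp

namespace Groth.Agent.S18825

/-- Let k be a field and f : H → G a homomorphism of locally algebraic groups over k (group k-schemes
locally of finite type) which is of finite type (equivalently quasi-compact). Let H → K → G be the
factorization of f through its scheme-theoretic image: i : K → G a closed immersion and g : H → K
with g followed by i equal to f and O_K → g_*O_H injective. Then (1) K is a closed subgroup scheme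
of G: the unit section of G factors through i and, for every k-scheme T and T-valued points k₁, k₂
of K, the T-valued point (i k₁)⁻¹ · (i k₂) of G factors through i; and (2) g : H → K is surjective.
(The source also records that g is a homomorphism for the group structure induced on K; this row
does not state it.) -/
theorem result (k : Type u) [Field k]
    (H G K : Over (Spec (CommRingCat.of k))) [GrpObj H] [GrpObj G]
    [LocallyOfFiniteType H.hom] [LocallyOfFiniteType G.hom]
    (f : H ⟶ G) [IsMonHom f] [QuasiCompact f.left]
    (i : K ⟶ G) [IsClosedImmersion i.left] (g : H ⟶ K) (hgi : g ≫ i = f)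
    [IsSchemeTheoreticallyDominant g.left] :
    ((∃ e : 𝟙_ (Over (Spec (CommRingCat.of k))) ⟶ K, e ≫ i = η[G]) ∧
      ∀ (T : Over (Spec (CommRingCat.of k))) (k₁ k₂ : T ⟶ K),
        ∃ k₃ : T ⟶ K, k₃ ≫ i = (k₁ ≫ i)⁻¹ * (k₂ ≫ i)) ∧
    Surjective g.left := by
  classical
  haveI : Mono i.left := inferInstance
  haveI : Mono i := Over.mono_of_mono_left i
  have hgi' : g.left ≫ i.left = f.left := by rw [← Over.comp_left, hgi]
  haveI : QuasiCompact (g.left ≫ i.left) := by rw [hgi']; infer_instance
  haveI : QuasiCompact g.left := QuasiCompact.of_comp g.left i.left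
  obtain ⟨d, hd⟩ := Groth.Agent.Lib.Helper14.HomImage.exists_div f i g hgi
  have he : (η[H] ≫ g) ≫ i = η[G] := by rw [Category.assoc, hgi, IsMonHom.one_hom]
  refine ⟨⟨⟨η[H] ≫ g, he⟩, fun T k₁ k₂ => ⟨lift k₁ k₂ ≫ d, ?_⟩⟩, ?_⟩
  · rw [Category.assoc, hd, MonObj.comp_mul, GrpObj.comp_inv, ← Category.assoc, lift_fst,
      ← Category.assoc, lift_snd]
  · obtain ⟨str, hstr⟩ := Groth.Agent.Lib.Helper14.HomImage.exists_grpObj_of_div i (η[H] ≫ g) he d hd
    letI := str
    haveI : IsMonHom i := hstr
    haveI : IsMonHom g := by
      constructor
      · rw [← cancel_mono i, Category.assoc, hgi, IsMonHom.one_hom, IsMonHom.one_hom]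
      · rw [← cancel_mono i, Category.assoc, hgi, IsMonHom.mul_hom, Category.assoc,
          IsMonHom.mul_hom, ← Category.assoc, tensorHom_comp_tensorHom, hgi]
    haveI : LocallyOfFiniteType K.hom := by
      rw [← Over.w i]
      infer_instance
    haveI : IsLocallyNoetherian K.left := LocallyOfFiniteType.isLocallyNoetherian K.hom
    haveI : LocallyOfFiniteType (g.left ≫ K.hom) := by
      rw [Over.w g]
      infer_instance
    haveI : LocallyOfFiniteType g.left := locallyOfFiniteType_of_comp g.left K.hom
    haveI : LocallyOfFinitePresentation g.left :=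
      LocallyOfFinitePresentation.iff_locallyOfFiniteType.mpr inferInstance
    exact Groth.Agent.Lib.Helper14.HomImage.surjective_of_dominant_hom g

end Groth.Agent.S18825
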