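import Groth.Statements.S18826
import Mathlib
import Groth.Agent.S18824
import Groth.Agent.Lib.Helper28.LargestOpen
-- import your own Groth.Agent.* helpers here

set_option autoImplicit false
universe u
open CategoryTheory MonoidalCategory CartesianMonoidalCategory MonObj AlgebraicGeometry
open AlgGrp

namespace Groth.Agent.S18826

open Groth.Agent.Lib.helper28.LargestOpen

/-- Let k be a field, G a locally algebraic group over k (a group k-scheme locally of finite type)
acting on k-schemes X and Y, and f : X → Y a G-equivariant k-morphism. Let P be a property of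
morphisms of schemes which is local on the target for the Zariski topology, stable under base
change, and descends along flat surjective universally open morphisms (the published hypothesis is
descent along fpqc morphisms; the printed argument descends only along the restriction G ×_k U → G·U
of the action, which is flat, surjective and universally open). Then there is a largest open subset
V of Y such that the restriction f⁻¹(V) → V of f has P, and this V is G-stable: the action G ×_k Y →
Y maps G ×_k V into V. -/
theorem result (k : Type u) [Field k]
    (G X Y : Over (Spec (CommRingCat.of k))) [GrpObj G] [LocallyOfFiniteType G.hom]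
    (aX : AlgGrp.Action G X) (aY : AlgGrp.Action G Y) (f : X ⟶ Y) (hf : (G ◁ f) ≫ aY.act = aX.act ≫ f)
    (P : MorphismProperty Scheme.{u}) [IsZariskiLocalAtTarget P] [P.IsStableUnderBaseChange]
    [P.DescendsAlong (@Flat ⊓ @Surjective ⊓ @UniversallyOpen)] :
    ∃ V : Y.left.Opens, P (f.left ∣_ V) ∧ (∀ V' : Y.left.Opens, P (f.left ∣_ V') → V' ≤ V) ∧
      (CartesianMonoidalCategory.snd G Y).left ⁻¹ᵁ V ≤ aY.act.left ⁻¹ᵁ V := by
  classical
  obtain ⟨V, hV, hmax⟩ := exists_largest f.left P
  refine ⟨V, hV, hmax, ?_⟩
  -- the shear isomorphisms
  have hσX : IsIso (lift (fst G X) aX.act) := Groth.Agent.S18824.shear_iso aX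
  have hσY : IsIso (lift (fst G Y) aY.act) := Groth.Agent.S18824.shear_iso aY
  have hσXl : IsIso (lift (fst G X) aX.act).left :=
    inferInstanceAs (IsIso ((Over.forget _).map (lift (fst G X) aX.act)))
  have hσYl : IsIso (lift (fst G Y) aY.act).left :=
    inferInstanceAs (IsIso ((Over.forget _).map (lift (fst G Y) aY.act)))
  have hcomm : lift (fst G X) aX.act ≫ (G ◁ f) = (G ◁ f) ≫ lift (fst G Y) aY.act := by
    apply CartesianMonoidalCategory.hom_ext
    · rw [Category.assoc, whiskerLeft_fst, lift_fst, Category.assoc, lift_fst, whiskerLeft_fst]
    · rw [Category.assoc, whiskerLeft_snd, ← Category.assoc, lift_snd, Category.assoc, lift_snd, hf]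
  have hcomml : (lift (fst G X) aX.act).left ≫ (G ◁ f).left =
      (G ◁ f).left ≫ (lift (fst G Y) aY.act).left := by
    rw [← Over.comp_left, ← Over.comp_left, hcomm]
  have haX : aX.act.left = (lift (fst G X) aX.act).left ≫ (snd G X).left := by
    rw [← Over.comp_left, lift_snd]
  have haY : aY.act.left = (lift (fst G Y) aY.act).left ≫ (snd G Y).left := by
    rw [← Over.comp_left, lift_snd]
  -- the projection square
  have h₁ : IsPullback (snd G X).left (G ◁ f).left f.left (snd G Y).left := by
    have hr : IsPullback (fst G Y).left (snd G Y).left G.hom Y.hom := by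
      rw [Over.fst_left, Over.snd_left]
      exact IsPullback.of_hasPullback _ _
    have ht : IsPullback (fst G X).left (snd G X).left G.hom X.hom := by
      rw [Over.fst_left, Over.snd_left]
      exact IsPullback.of_hasPullback _ _
    have e1 : (G ◁ f).left ≫ (fst G Y).left = (fst G X).left := by
      rw [← Over.comp_left, whiskerLeft_fst]
    have e2 : (G ◁ f).left ≫ (snd G Y).left = (snd G X).left ≫ f.left := by
      rw [← Over.comp_left, whiskerLeft_snd, Over.comp_left]
    have ht' : IsPullback ((G ◁ f).left ≫ (fst G Y).left) (snd G X).left G.hom (f.left ≫ Y.hom) := by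
      rw [e1, Over.w f]
      exact ht
    exact (IsPullback.of_right ht' e2 hr).flip
  -- the action square
  have h₂ : IsPullback aX.act.left (G ◁ f).left f.left aY.act.left := by
    rw [haX, haY]
    refine IsPullback.of_iso h₁ (asIso (lift (fst G X) aX.act).left).symm (Iso.refl _)
      (asIso (lift (fst G Y) aY.act).left).symm (Iso.refl _) ?_ ?_ ?_ ?_
    · simp
    · simp only [Iso.symm_hom, asIso_inv, IsIso.eq_inv_comp, ← Category.assoc, IsIso.comp_inv_eq]
      exact hcomml
    · simp
    · simp
  -- flatness and universal openness of the action
  haveI : Flat (snd G Y).left := by rw [Over.snd_left]; infer_instance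
  haveI : UniversallyOpen (snd G Y).left := by rw [Over.snd_left]; infer_instance
  haveI : Flat aY.act.left := by rw [haY]; infer_instance
  haveI : UniversallyOpen aY.act.left := by rw [haY]; infer_instance
  exact le_of_descends f.left (G ◁ f).left (snd G Y).left aY.act.left (snd G X).left aX.act.left
    h₁ h₂ P V hV hmax

end Groth.Agent.S18826
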