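import Groth.Statements.S18830
import Mathlib
import Groth.Agent.Lib.Helper15.MonUnits

set_option autoImplicit false
universe u
open CategoryTheory MonoidalCategory CartesianMonoidalCategory MonObj AlgebraicGeometry
open AlgGrp

namespace Groth.Agent.S18830

/-- Let k be a field and M an algebraic monoid over k (a monoid k-scheme of finite type). Let i : G → M
be its group of units: a monomorphism of k-schemes through which a T-valued point of M factors if
and only if it is invertible in the monoid M(T). Then G is of finite type over k, i.e. the unit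
group is an algebraic group. -/
theorem result (k : Type u) [Field k]
    (M G : Over (Spec (CommRingCat.of k))) [MonObj M] [LocallyOfFiniteType M.hom] [QuasiCompact M.hom]
    (i : G ⟶ M) [Mono i]
    (hi : ∀ (T : Over (Spec (CommRingCat.of k))) (m : T ⟶ M), (∃ g : T ⟶ G, g ≫ i = m) ↔ IsUnit m) :
    LocallyOfFiniteType G.hom ∧ QuasiCompact G.hom := by
  obtain ⟨b, hb⟩ := Groth.Agent.Lib.helper15.MonUnits.exists_iso_of_represents M G i hi
  -- the structure morphism of `M ⊗ M`
  have hMM : (M ⊗ M).hom = Limits.pullback.fst M.hom M.hom ≫ M.hom := rfl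
  have h1 : LocallyOfFiniteType (M ⊗ M).hom := by rw [hMM]; infer_instance
  have h2 : QuasiCompact (M ⊗ M).hom := by rw [hMM]; infer_instance
  -- the unit section
  have hone : (Groth.Agent.Lib.helper15.MonUnits.onePair M).left ≫ (M ⊗ M).hom =
      𝟙 (Spec (CommRingCat.of k)) := Over.w (Groth.Agent.Lib.helper15.MonUnits.onePair M)
  have h3 : LocallyOfFiniteType (Groth.Agent.Lib.helper15.MonUnits.onePair M).left := by
    have : LocallyOfFiniteType ((Groth.Agent.Lib.helper15.MonUnits.onePair M).left ≫ (M ⊗ M).hom) := by
      rw [hone]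
      have : IsIso (𝟙 (Spec (CommRingCat.of k))) := inferInstance
      infer_instance
    exact locallyOfFiniteType_of_comp _ (M ⊗ M).hom
  have h4 : QuasiCompact (Groth.Agent.Lib.helper15.MonUnits.onePair M).left := by
    have : TopologicalSpace.NoetherianSpace ↥(𝟙_ (Over (Spec (CommRingCat.of k)))).left := by
      show TopologicalSpace.NoetherianSpace ↥(Spec (CommRingCat.of k))
      infer_instance
    infer_instance
  -- the projection to `M × M`
  obtain ⟨j, hj⟩ : ∃ j : (Groth.Agent.Lib.helper15.MonUnits.unitsObj M).left ≅
      Limits.pullback (Groth.Agent.Lib.helper15.MonUnits.mulPair M).left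
        (Groth.Agent.Lib.helper15.MonUnits.onePair M).left,
      (Groth.Agent.Lib.helper15.MonUnits.unitsPair M).left = j.hom ≫
      Limits.pullback.fst (Groth.Agent.Lib.helper15.MonUnits.mulPair M).left
        (Groth.Agent.Lib.helper15.MonUnits.onePair M).left :=
    ⟨Limits.PreservesPullback.iso (Over.forget (Spec (CommRingCat.of k)))
      (Groth.Agent.Lib.helper15.MonUnits.mulPair M) (Groth.Agent.Lib.helper15.MonUnits.onePair M),
    (Limits.PreservesPullback.iso_hom_fst (Over.forget (Spec (CommRingCat.of k)))
      (Groth.Agent.Lib.helper15.MonUnits.mulPair M) (Groth.Agent.Lib.helper15.MonUnits.onePair M)).symm⟩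
  have h5 : LocallyOfFiniteType (Limits.pullback.fst (Groth.Agent.Lib.helper15.MonUnits.mulPair M).left
        (Groth.Agent.Lib.helper15.MonUnits.onePair M).left) := inferInstance
  have h6 : QuasiCompact (Limits.pullback.fst (Groth.Agent.Lib.helper15.MonUnits.mulPair M).left
        (Groth.Agent.Lib.helper15.MonUnits.onePair M).left) := inferInstance
  have hjiso : IsIso j.hom := Iso.isIso_hom j
  have h7 : LocallyOfFiniteType (Groth.Agent.Lib.helper15.MonUnits.unitsPair M).left := by
    rw [hj]; infer_instance
  have h8 : QuasiCompact (Groth.Agent.Lib.helper15.MonUnits.unitsPair M).left := by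
    rw [hj]; infer_instance
  have hG0 : (Groth.Agent.Lib.helper15.MonUnits.unitsObj M).hom =
      (Groth.Agent.Lib.helper15.MonUnits.unitsPair M).left ≫ (M ⊗ M).hom :=
    (Over.w (Groth.Agent.Lib.helper15.MonUnits.unitsPair M)).symm
  have hG : G.hom = b.hom.left ≫ (Groth.Agent.Lib.helper15.MonUnits.unitsObj M).hom :=
    (Over.w b.hom).symm
  have hbiso : IsIso b.hom.left := by
    have : IsIso b.hom := Iso.isIso_hom b
    exact inferInstanceAs (IsIso ((Over.forget _).map b.hom))
  constructor
  · rw [hG, hG0]; infer_instance
  · rw [hG, hG0]; infer_instance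

end Groth.Agent.S18830
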