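import Groth.Statements.S18832
import Groth.Agent.LibJet29
-- import your own Groth.Agent.* helpers here

set_option autoImplicit false
universe u
open Polynomial
open DefT

namespace Groth.Agent.S18832

open IsLocalRing Groth.Agent.LibJet29 Groth.Agent.Lib.helper11.QuasiReg

section common

variable (k : Type u) [Field k] [IsAlgClosed k]
    (A : Type u) [CommRing A] [Algebra k A] [Algebra.FiniteType k A]
    (m : Ideal A) [m.IsMaximal]

/-- a map sending `m` to nilpotents sends the complement to units. -/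
lemma isUnit_of_nilp {B : Type u} [CommRing B] [Algebra k B] (ψ : A →ₐ[k] B)
    (hψ : ∀ a ∈ m, IsNilpotent (ψ a)) (s : m.primeCompl) : IsUnit (ψ s) := by
  obtain ⟨c, hc⟩ := exists_scalar_of_maximal k A m (s : A)
  have hc0 : c ≠ 0 := by
    rintro rfl
    rw [map_zero, sub_zero] at hc
    exact s.2 hc
  have h1 : ψ s = algebraMap k B c + ψ ((s : A) - algebraMap k A c) := by
    rw [map_sub, AlgHom.commutes]; ring
  rw [h1]
  exact IsNilpotent.isUnit_add_left_of_commute (hψ _ hc)
    ((isUnit_iff_ne_zero.2 hc0).map (algebraMap k B)) (Commute.all _ _)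

end common

theorem forward (k : Type u) [Field k] [IsAlgClosed k]
    (A : Type u) [CommRing A] [Algebra k A] [Algebra.FiniteType k A]
    (m : Ideal A) [m.IsMaximal]
    (hreg : IsRegularLocalRing (Localization.AtPrime m)) (l : ℕ) (hl : 1 ≤ l)
    (φ : A →ₐ[k] T k l) (hφ : ∀ a ∈ m, IsNilpotent (φ a)) :
    ∃ ψ : A →ₐ[k] T k (l + 1), (fac k l).comp ψ = φ := by
  classical
  have hresR := exists_scalar_localization k A m
  obtain ⟨φR, hφR⟩ : ∃ φR : Localization.AtPrime m →ₐ[k] T k l,
      ∀ a, φR (algebraMap A _ a) = φ a :=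
    ⟨IsLocalization.liftAlgHom (M := m.primeCompl) (f := φ) (isUnit_of_nilp k A m φ hφ),
      fun a => IsLocalization.lift_eq _ a⟩
  obtain ⟨d, x, hx, hq⟩ := exists_params (Localization.AtPrime m)
  -- `φR` maps the maximal ideal to nilpotents
  have hnil : ∀ y ∈ maximalIdeal (Localization.AtPrime m), IsNilpotent (φR y) := by
    have h1 : maximalIdeal (Localization.AtPrime m) ≤ (nilradical (T k l)).comap φR.toRingHom := by
      rw [← Localization.AtPrime.map_eq_maximalIdeal, Ideal.map_le_iff_le_comap]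
      intro a ha
      rw [Ideal.mem_comap, Ideal.mem_comap, mem_nilradical]
      change IsNilpotent (φR (algebraMap A _ a))
      rw [hφR]
      exact hφ a ha
    intro y hy
    exact mem_nilradical.1 (h1 hy)
  have hxm : ∀ i, x i ∈ maximalIdeal (Localization.AtPrime m) := fun i => by
    rw [← hx]; exact Ideal.subset_span ⟨i, rfl⟩
  have hlift : ∀ i, ∃ b : T k (l + 1), fac k l b = φR (x i) := fun i => fac_surjective k l _
  choose b hb using hlift
  have hbnil : ∀ i, IsNilpotent (b i) := fun i =>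
    isNilpotent_of_fac k l hl (b i) (by rw [hb]; exact hnil _ (hxm i))
  obtain ⟨N, hN⟩ : ∃ N : ℕ, Ideal.span (Set.range b) ^ N = ⊥ := by
    have hfg : (Ideal.span (Set.range b)).FG := Submodule.fg_span (Set.finite_range b)
    have hle : Ideal.span (Set.range b) ≤ nilradical (T k (l + 1)) := by
      rw [Ideal.span_le]
      rintro _ ⟨i, rfl⟩
      exact mem_nilradical.2 (hbnil i)
    obtain ⟨N, hN⟩ := (Ideal.FG.isNilpotent_iff_le_nilradical hfg).2 hle
    exact ⟨N, hN⟩
  obtain ⟨g, hg⟩ := Groth.Agent.S11451.exists_algHom_of_nilp x hx hresR hq b N hN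
  have hgx : ∀ i, g (x i) = b i := fun i => by
    rw [hg (x i) (MvPolynomial.X i) (by rw [MvPolynomial.aeval_X, sub_self]; exact Ideal.zero_mem _),
      MvPolynomial.aeval_X]
  have hcomp : (fac k l).comp g = φR := by
    have hN' : Ideal.span (Set.range (fun i => φR (x i))) ^ N = ⊥ := by
      have h1 : (fun i => φR (x i)) = (fac k l).toRingHom ∘ b := by
        funext i; exact (hb i).symm
      rw [h1, Set.range_comp, ← Ideal.map_span, ← Ideal.map_pow, hN, Ideal.map_bot]
    apply AlgHom.ext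
    intro a
    obtain ⟨F, hF⟩ := Groth.Agent.S11451.exists_approx x hx hresR N a
    rw [algHom_apply_eq_aeval x hx φR N hN' a F hF, AlgHom.comp_apply, hg a F hF]
    have h2 := DFunLike.congr_fun (MvPolynomial.comp_aeval (R := k) b (fac k l)) F
    rw [AlgHom.comp_apply] at h2
    rw [h2]
    have hfun : (fun i => (fac k l) (b i)) = fun i => φR (x i) := funext hb
    rw [hfun]
  refine ⟨g.comp (IsScalarTower.toAlgHom k A (Localization.AtPrime m)), ?_⟩
  rw [← AlgHom.comp_assoc, hcomp]
  apply AlgHom.ext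
  intro a
  exact hφR a

section core

open MvPolynomial

/-- the algebraic core: a nonzero ideal inside `𝔪²` of a regular local algebra obstructs some curvilinear jet. -/
theorem no_jet (k : Type u) [Field k] [Infinite k]
    (P : Type u) [CommRing P] [IsRegularLocalRing P] [Algebra k P]
    (hresP : ∀ p : P, ∃ c : k, p - algebraMap k P c ∈ maximalIdeal P)
    (I : Ideal P) (hI2 : I ≤ maximalIdeal P ^ 2) (hI : I ≠ ⊥)
    (H : ∀ (r : ℕ), 1 ≤ r → ∀ g₀ : P →ₐ[k] T k r, (∀ y ∈ I, g₀ y = 0) →
      ∃ ψP : P →ₐ[k] T k (r + 1), (∀ y ∈ I, ψP y = 0) ∧ ∀ y, fac k r (ψP y) = g₀ y) : False := by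
  classical
  obtain ⟨d, x, hx, hq⟩ := exists_params P
  -- the order of `I`
  have hex : ∃ r : ℕ, ¬ I ≤ maximalIdeal P ^ (r + 1) := by
    by_contra hcon
    push Not at hcon
    apply hI
    rw [eq_bot_iff, ← Ideal.iInf_pow_eq_bot_of_isLocalRing (maximalIdeal P) Ideal.IsPrime.ne_top']
    refine le_iInf (fun i => ?_)
    rcases Nat.eq_zero_or_pos i with rfl | hi
    · rw [pow_zero, Ideal.one_eq_top]; exact le_top
    · obtain ⟨j, rfl⟩ := Nat.exists_eq_succ_of_ne_zero (Nat.pos_iff_ne_zero.1 hi)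
      exact hcon j
  obtain ⟨r, hr, hmin⟩ : ∃ r : ℕ, ¬ I ≤ maximalIdeal P ^ (r + 1) ∧
      ∀ r' < r, I ≤ maximalIdeal P ^ (r' + 1) := by
    refine ⟨Nat.find hex, Nat.find_spec hex, fun r' hr' => ?_⟩
    have := Nat.find_min hex hr'
    push Not at this
    exact this
  have hIr : I ≤ maximalIdeal P ^ r := by
    rcases Nat.eq_zero_or_pos r with rfl | hr0
    · rw [pow_zero, Ideal.one_eq_top]; exact le_top
    · obtain ⟨j, rfl⟩ := Nat.exists_eq_succ_of_ne_zero (Nat.pos_iff_ne_zero.1 hr0)
      exact hmin j (Nat.lt_succ_self j)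
  have hr2 : 2 ≤ r := by
    by_contra hlt
    apply hr
    exact hI2.trans (Ideal.pow_le_pow_right (by omega))
  obtain ⟨f, hfI, hfr⟩ := SetLike.not_le_iff_exists.1 hr
  -- the leading form of `f`
  obtain ⟨G, hG⟩ := Groth.Agent.S11451.exists_approx_step x hx hresP r f (hIr hfI)
  have hGr : aeval x G ∈ maximalIdeal P ^ r := by
    have h1 : f - aeval x G ∈ maximalIdeal P ^ r := Ideal.pow_le_pow_right (Nat.le_succ r) hG
    have := Ideal.sub_mem _ (hIr hfI) h1
    simpa using this
  have hGmem := Groth.Agent.S11451.mem_pow_of_aeval_mem x hx hq r G hGr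
  obtain ⟨Φ, hΦdef⟩ : ∃ Φ, Φ = homogeneousComponent r G := ⟨_, rfl⟩
  have hΦhom : Φ.IsHomogeneous r := by rw [hΦdef]; exact homogeneousComponent_isHomogeneous r G
  have hfΦ : f - aeval x Φ ∈ maximalIdeal P ^ (r + 1) := by
    have h1 := Groth.Agent.S11451.aeval_mem_pow x (r + 1) _ (sub_homogeneousComponent_mem r G hGmem)
    rw [hx, map_sub, ← hΦdef] at h1
    have := Ideal.add_mem _ hG h1
    have e : f - aeval x G + (aeval x G - aeval x Φ) = f - aeval x Φ := by ring
    rw [e] at this
    exact this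
  have hΦ0 : Φ ≠ 0 := by
    intro h0
    rw [h0, map_zero, sub_zero] at hfΦ
    exact hfr hfΦ
  obtain ⟨a, ha⟩ : ∃ a : Fin d → k, eval a Φ ≠ 0 := by
    by_contra hcon
    push Not at hcon
    exact hΦ0 (hΦhom.eq_zero_of_forall_eval_eq_zero hcon)
  -- the jet
  have hr1 : 1 ≤ r := by omega
  let b : Fin d → T k r := fun i => algebraMap k (T k r) (a i) * τ k r
  have hspan : ∀ (l : ℕ) (c : Fin d → T k l), (∀ i, ∃ z, c i = τ k l * z) →
      ∀ n, l ≤ n → Ideal.span (Set.range c) ^ n = ⊥ := by
    intro l c hc n hn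
    rw [eq_bot_iff]
    have h1 : Ideal.span (Set.range c) ≤ Ideal.span {τ k l} := by
      rw [Ideal.span_le]
      rintro _ ⟨i, rfl⟩
      obtain ⟨z, hz⟩ := hc i
      rw [hz]
      exact Ideal.mul_mem_right _ _ (Ideal.subset_span rfl)
    refine (Ideal.pow_right_mono h1 n).trans ?_
    rw [Ideal.span_singleton_pow, tau_pow_of_le k l n hn]
    simp
  have hbN : Ideal.span (Set.range b) ^ r = ⊥ :=
    hspan r b (fun i => ⟨algebraMap k (T k r) (a i), mul_comm _ _⟩) r le_rfl
  obtain ⟨g₀, hg₀⟩ := Groth.Agent.S11451.exists_algHom_of_nilp x hx hresP hq b r hbN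
  have hg₀x : ∀ i, g₀ (x i) = b i := fun i => by
    rw [hg₀ (x i) (MvPolynomial.X i) (by rw [MvPolynomial.aeval_X, sub_self]; exact Ideal.zero_mem _),
      MvPolynomial.aeval_X]
  have hg₀I : ∀ y ∈ I, g₀ y = 0 := by
    intro y hy
    rw [hg₀ y 0 (by rw [map_zero, sub_zero]; exact hIr hy), map_zero]
  obtain ⟨ψP, hψI, hψfac⟩ := H r hr1 g₀ hg₀I
  -- the values of `ψP` on the parameters
  have hu : ∀ i, ∃ u : T k (r + 1),
      ψP (x i) = algebraMap k (T k (r + 1)) (a i) * τ k (r + 1) + (τ k (r + 1)) ^ r * u := by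
    intro i
    have h1 : fac k r (ψP (x i) - algebraMap k (T k (r + 1)) (a i) * τ k (r + 1)) = 0 := by
      rw [map_sub, hψfac, hg₀x, map_mul, AlgHom.commutes, fac_tau, sub_self]
    obtain ⟨u, hu⟩ := exists_of_fac_eq_zero k r _ h1
    exact ⟨u, by rw [← hu]; ring⟩
  choose u hu using hu
  obtain ⟨r', rfl⟩ : ∃ r', r = r' + 2 := ⟨r - 2, by omega⟩
  let y : Fin d → T k (r' + 2 + 1) := fun i =>
    algebraMap k _ (a i) + τ k (r' + 2 + 1) * ((τ k (r' + 2 + 1)) ^ r' * u i)
  have hψy : ∀ i, ψP (x i) = τ k (r' + 2 + 1) * y i := by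
    intro i
    rw [hu i]
    change _ = τ k (r' + 2 + 1) * (algebraMap k _ (a i) + τ k (r' + 2 + 1) * ((τ k (r' + 2 + 1)) ^ r' * u i))
    ring
  have hψN : Ideal.span (Set.range (fun i => ψP (x i))) ^ (r' + 2 + 1) = ⊥ :=
    hspan (r' + 2 + 1) _ (fun i => ⟨y i, hψy i⟩) _ le_rfl
  have h1 := algHom_apply_eq_aeval x hx ψP (r' + 2 + 1) hψN f Φ hfΦ
  rw [hψI f hfI] at h1
  have hfun : (fun i => ψP (x i)) = fun i => τ k (r' + 2 + 1) * y i := funext hψy
  rw [hfun, aeval_mul_of_isHomogeneous Φ hΦhom] at h1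
  obtain ⟨w, hw⟩ := exists_aeval_add_mul Φ a (τ k (r' + 2 + 1))
    (fun i => (τ k (r' + 2 + 1)) ^ r' * u i)
  change aeval y Φ = _ at hw
  rw [hw, mul_add, ← mul_assoc, ← pow_succ, tau_pow, zero_mul, add_zero, mul_comm] at h1
  exact algebraMap_mul_tau_pow_ne_zero k (r' + 2) _ ha h1.symm

end core

section back

lemma nontrivial_T (k : Type u) [Field k] (l : ℕ) (hl : 1 ≤ l) : Nontrivial (T k l) := by
  rw [Ideal.Quotient.nontrivial_iff, Ne, Ideal.span_singleton_eq_top]
  intro h
  have h1 : IsUnit (X : k[X]) := by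
    obtain ⟨j, rfl⟩ := Nat.exists_eq_succ_of_ne_zero (Nat.pos_iff_ne_zero.1 hl)
    rw [pow_succ] at h
    exact isUnit_of_mul_isUnit_right h
  exact Polynomial.not_isUnit_X h1

/-- algebra maps from a local algebra with residue field `k` to `k[X]/(X^l)` send the maximal ideal to nilpotents. -/
lemma isNilpotent_of_mem_maximalIdeal (k : Type u) [Field k] {P : Type u} [CommRing P] [IsLocalRing P]
    [Algebra k P] (l : ℕ) (hl : 1 ≤ l) (g : P →ₐ[k] T k l) (y : P) (hy : y ∈ maximalIdeal P) :
    IsNilpotent (g y) := by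
  have := nontrivial_T k l hl
  obtain ⟨c, z, hcz⟩ := exists_const k l (g y)
  by_cases hc : c = 0
  · rw [hcz, hc, map_zero, zero_add]
    exact isNilpotent_tau_mul k l z
  · exfalso
    have hunit : IsUnit (y - algebraMap k P c) := by
      by_contra hnu
      have h1 : y - algebraMap k P c ∈ maximalIdeal P := hnu
      have h2 : algebraMap k P c ∈ maximalIdeal P := by
        have := Ideal.sub_mem _ hy h1
        simpa using this
      exact h2 ((isUnit_iff_ne_zero.2 hc).map (algebraMap k P))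
    have h3 : g (y - algebraMap k P c) = τ k l * z := by
      rw [map_sub, AlgHom.commutes, hcz]; ring
    have h4 : IsUnit (τ k l * z) := by rw [← h3]; exact hunit.map g
    obtain ⟨n, hn⟩ := isNilpotent_tau_mul k l z
    have h5 := h4.pow n
    rw [hn, isUnit_zero_iff] at h5
    exact zero_ne_one h5

theorem backward (k : Type u) [Field k] [IsAlgClosed k]
    (A : Type u) [CommRing A] [Algebra k A] [Algebra.FiniteType k A]
    (m : Ideal A) [m.IsMaximal]
    (H : ∀ (l : ℕ), 1 ≤ l → ∀ (φ : A →ₐ[k] T k l), (∀ a ∈ m, IsNilpotent (φ a)) →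
      ∃ ψ : A →ₐ[k] T k (l + 1), (fac k l).comp ψ = φ) :
    IsRegularLocalRing (Localization.AtPrime m) := by
  classical
  have hresR := exists_scalar_localization k A m
  obtain ⟨P, _, _, _, π, hπ, hI2⟩ := exists_min_presentation k (Localization.AtPrime m)
  have hlocal : ∀ p : P, π p ∈ maximalIdeal (Localization.AtPrime m) → p ∈ maximalIdeal P := by
    intro p hp
    by_contra hnu
    have h1 : IsUnit p := by
      by_contra h2
      exact hnu h2
    exact hp (h1.map π)
  have hresP : ∀ p : P, ∃ c : k, p - algebraMap k P c ∈ maximalIdeal P := by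
    intro p
    obtain ⟨c, hc⟩ := hresR (π p)
    refine ⟨c, hlocal _ ?_⟩
    rw [map_sub, AlgHom.commutes]
    exact hc
  have hker : RingHom.ker π = ⊥ := by
    by_contra hI
    refine no_jet k P hresP (RingHom.ker π) hI2 hI ?_
    intro r hr g₀ hg₀
    obtain ⟨φR, hφR⟩ := exists_algHom_of_ker_le π hπ g₀ hg₀
    have hφnil : ∀ a ∈ m, IsNilpotent
        ((φR.comp (IsScalarTower.toAlgHom k A (Localization.AtPrime m))) a) := by
      intro a ha
      have h1 : algebraMap A (Localization.AtPrime m) a ∈ maximalIdeal (Localization.AtPrime m) := by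
        rw [← Localization.AtPrime.map_eq_maximalIdeal]
        exact Ideal.mem_map_of_mem _ ha
      exact isNilpotent_of_mem_maximalIdeal k r hr φR _ h1
    obtain ⟨ψ, hψ⟩ := H r hr _ hφnil
    have hψa : ∀ a, fac k r (ψ a) = φR (algebraMap A _ a) := fun a =>
      DFunLike.congr_fun hψ a
    have hψnil : ∀ a ∈ m, IsNilpotent (ψ a) := by
      intro a ha
      apply isNilpotent_of_fac k r hr
      rw [hψa]
      exact hφnil a ha
    obtain ⟨ψR, hψR⟩ : ∃ ψR : Localization.AtPrime m →ₐ[k] T k (r + 1),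
        ∀ a, ψR (algebraMap A _ a) = ψ a :=
      ⟨IsLocalization.liftAlgHom (M := m.primeCompl) (f := ψ) (isUnit_of_nilp k A m ψ hψnil),
        fun a => IsLocalization.lift_eq _ a⟩
    have hfacψR : (fac k r).comp ψR = φR := by
      apply IsLocalization.algHom_ext m.primeCompl
      apply AlgHom.ext
      intro a
      change fac k r (ψR (algebraMap A _ a)) = φR (algebraMap A _ a)
      rw [hψR, hψa]
    refine ⟨ψR.comp π, fun y hy => ?_, fun y => ?_⟩
    · rw [AlgHom.comp_apply, (RingHom.mem_ker).1 hy, map_zero]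
    · rw [AlgHom.comp_apply, ← hφR]
      exact DFunLike.congr_fun hfacψR (π y)
  have hinj : Function.Injective (π : P →+* Localization.AtPrime m) :=
    (RingHom.injective_iff_ker_eq_bot (π : P →+* Localization.AtPrime m)).2 hker
  exact IsRegularLocalRing.of_ringEquiv (RingEquiv.ofBijective (π : P →+* _) ⟨hinj, hπ⟩)

end back


/-- Let k be an algebraically closed field of characteristic zero, A a finitely generated k-algebra and
m a maximal ideal of A. Then A_m is a regular local ring (the pointed scheme (Spec A, m) is smooth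
at m) if and only if, for every l ≥ 1, every k-algebra homomorphism φ : A → k[X]/(X^l) mapping m
into the nilpotent elements extends to a k-algebra homomorphism ψ : A → k[X]/(X^(l+1)) reducing to φ
modulo X^l. Only jets along Spec k[X]/(X^l) are tested, not all local Artinian algebras. -/
theorem result (k : Type u) [Field k] [IsAlgClosed k] [CharZero k]
    (A : Type u) [CommRing A] [Algebra k A] [Algebra.FiniteType k A]
    (m : Ideal A) [m.IsMaximal] :
    IsRegularLocalRing (Localization.AtPrime m) ↔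
      ∀ (l : ℕ), 1 ≤ l →
        ∀ (φ : A →ₐ[k] (k[X] ⧸ Ideal.span {(X : k[X]) ^ l})),
          (∀ a ∈ m, IsNilpotent (φ a)) →
          ∃ ψ : A →ₐ[k] (k[X] ⧸ Ideal.span {(X : k[X]) ^ (l + 1)}),
            (Ideal.Quotient.factorₐ k
                (Ideal.span_singleton_le_span_singleton.mpr (pow_dvd_pow (X : k[X]) (Nat.le_succ l)))).comp ψ = φ := by
  constructor
  · intro hreg l hl φ hφ
    exact forward k A m hreg l hl φ hφ
  · intro H
    exact backward k A m H

end Groth.Agent.S18832
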