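import Groth.Statements.S18838
import Groth.Agent.LibDef29
-- import your own Groth.Agent.* helpers here

set_option autoImplicit false
universe u
open Polynomial TensorProduct
open Deform

namespace Groth.Agent.S18838

open Groth.Agent.LibDef29


/-- Let k be an algebraically closed field of characteristic zero, n ≥ 1, D = k[X]/(X^(n+1)) (given with
a k-algebra isomorphism e identifying the class of X with τ ∈ D), and B a finitely generated
k-algebra which is a flat D-algebra such that B/tB is smooth over k, where t is the image of τ in B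
(an affine open of a flat deformation of a smooth k-scheme over Spec D); put B' = B/t^nB. The map μ
: B → B' × (B' ⊗_B Ω_(B/k)) sending f to (f mod t^n, 1 ⊗ df) is injective, and its image consists
exactly of the pairs (g, α) with dg = r(α) in Ω_(B'/k), r being the canonical map B' ⊗_B Ω_(B/k) →
Ω_(B'/k). Injectivity uses that n is invertible in k. The source works with a flat proper family
over Spec D with smooth central fibre; the statement is local and is given here on an affine open. -/
theorem result (k : Type u) [Field k] [IsAlgClosed k] [CharZero k] (n : ℕ) (hn : 1 ≤ n)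
    (D : Type u) [CommRing D] [Algebra k D] (τ : D)
    (e : (k[X] ⧸ Ideal.span {(X : k[X]) ^ (n + 1)}) ≃ₐ[k] D)
    (he : e (Ideal.Quotient.mk (Ideal.span {(X : k[X]) ^ (n + 1)}) X) = τ)
    (B : Type u) [CommRing B] [Algebra k B] [Algebra D B] [IsScalarTower k D B]
    [Algebra.FiniteType k B] [Module.Flat D B]
    (t : B) (ht : t = algebraMap D B τ) (hsm : Algebra.Smooth k (B ⧸ Ideal.span {t})) :
    Function.Injective (fun f : B =>
      ((Ideal.Quotient.mk (Ideal.span {t ^ n}) f,
        (1 : (B ⧸ Ideal.span {t ^ n})) ⊗ₜ[B] KaehlerDifferential.D k B f) : (B ⧸ Ideal.span {t ^ n}) × ((B ⧸ Ideal.span {t ^ n}) ⊗[B] Ω[B⁄k]))) ∧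
    Set.range (fun f : B =>
      ((Ideal.Quotient.mk (Ideal.span {t ^ n}) f,
        (1 : (B ⧸ Ideal.span {t ^ n})) ⊗ₜ[B] KaehlerDifferential.D k B f) : (B ⧸ Ideal.span {t ^ n}) × ((B ⧸ Ideal.span {t ^ n}) ⊗[B] Ω[B⁄k]))) =
      {p | KaehlerDifferential.D k (B ⧸ Ideal.span {t ^ n}) p.1 = KaehlerDifferential.mapBaseChange k B (B ⧸ Ideal.span {t ^ n}) p.2} := by
  have hsmD : Algebra.Smooth D B := smooth_of_fibre e he t ht hsm
  have hfs : Algebra.FormallySmooth D B := hsmD.formallySmooth
  obtain ⟨δ, hδ⟩ := exists_derivation (n := n) e he t ht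
  obtain ⟨r, hr⟩ := exists_retraction t δ hδ
  have hinj : Function.Injective
      (LinearMap.toSpanSingleton (B ⧸ Ideal.span {t ^ n}) ((B ⧸ Ideal.span {t ^ n}) ⊗[B] Ω[B⁄k])
        ((1 : (B ⧸ Ideal.span {t ^ n})) ⊗ₜ[B] KaehlerDifferential.D k B t)) :=
    Function.LeftInverse.injective hr
  have htpow : t ^ (n + 1) = 0 := by
    rw [ht, ← map_pow, tau_pow e he, map_zero]
  constructor
  · intro f g hfg
    have h1 : Ideal.Quotient.mk (Ideal.span {t ^ n}) f = Ideal.Quotient.mk (Ideal.span {t ^ n}) g :=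
      congrArg Prod.fst hfg
    have h2 : ((1 : (B ⧸ Ideal.span {t ^ n})) ⊗ₜ[B] KaehlerDifferential.D k B f :
        (B ⧸ Ideal.span {t ^ n}) ⊗[B] Ω[B⁄k]) =
        (1 : (B ⧸ Ideal.span {t ^ n})) ⊗ₜ[B] KaehlerDifferential.D k B g :=
      congrArg Prod.snd hfg
    have h3 : f - g ∈ Ideal.span {t ^ n} := Ideal.Quotient.eq.1 h1
    obtain ⟨c, hc⟩ := Ideal.mem_span_singleton'.1 h3
    have h4 : ((1 : (B ⧸ Ideal.span {t ^ n})) ⊗ₜ[B] KaehlerDifferential.D k B (c * t ^ n) :
        (B ⧸ Ideal.span {t ^ n}) ⊗[B] Ω[B⁄k]) = 0 := by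
      rw [hc, map_sub, TensorProduct.tmul_sub, h2, sub_self]
    rw [tmul_D_mul_pow] at h4
    have h5 := hinj (h4.trans (map_zero _).symm)
    rw [Ideal.Quotient.eq_zero_iff_mem] at h5
    obtain ⟨u, hu⟩ := Ideal.mem_span_singleton'.1 h5
    have hn0 : (n : k) ≠ 0 := Nat.cast_ne_zero.2 (by omega)
    have h6 : c * t ^ (n - 1) = algebraMap k B ((n : k)⁻¹) * (u * t ^ n) := by
      rw [hu, nsmul_eq_mul, ← mul_assoc]
      have : algebraMap k B ((n : k)⁻¹) * (n : B) = 1 := by
        rw [← map_natCast (algebraMap k B), ← map_mul, inv_mul_cancel₀ hn0, map_one]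
      rw [this, one_mul]
    have h7 : t ^ n = t ^ (n - 1) * t := by
      rw [← pow_succ]; congr 1; omega
    have h8 : f - g = 0 := by
      rw [← hc, h7, ← mul_assoc, h6]
      have : algebraMap k B ((n : k)⁻¹) * (u * t ^ n) * t =
          algebraMap k B ((n : k)⁻¹) * u * t ^ (n + 1) := by ring
      rw [this, htpow, mul_zero]
    exact sub_eq_zero.1 h8
  · ext ⟨g, α⟩
    constructor
    · rintro ⟨f, hf⟩
      have h1 : Ideal.Quotient.mk (Ideal.span {t ^ n}) f = g := congrArg Prod.fst hf
      have h2 : ((1 : (B ⧸ Ideal.span {t ^ n})) ⊗ₜ[B] KaehlerDifferential.D k B f :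
          (B ⧸ Ideal.span {t ^ n}) ⊗[B] Ω[B⁄k]) = α := congrArg Prod.snd hf
      change KaehlerDifferential.D k (B ⧸ Ideal.span {t ^ n}) g =
        KaehlerDifferential.mapBaseChange k B (B ⧸ Ideal.span {t ^ n}) α
      rw [← h1, ← h2, KaehlerDifferential.mapBaseChange_tmul, one_smul, KaehlerDifferential.map_D]
      rfl
    · intro hgα
      change KaehlerDifferential.D k (B ⧸ Ideal.span {t ^ n}) g =
        KaehlerDifferential.mapBaseChange k B (B ⧸ Ideal.span {t ^ n}) α at hgα
      obtain ⟨f₀, rfl⟩ := Ideal.Quotient.mk_surjective g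
      have hsurj : Function.Surjective (algebraMap B (B ⧸ Ideal.span {t ^ n})) :=
        Ideal.Quotient.mk_surjective
      have hex := KaehlerDifferential.exact_kerCotangentToTensor_mapBaseChange k B
        (B ⧸ Ideal.span {t ^ n}) hsurj
      have h1 : KaehlerDifferential.mapBaseChange k B (B ⧸ Ideal.span {t ^ n})
          (α - (1 : (B ⧸ Ideal.span {t ^ n})) ⊗ₜ[B] KaehlerDifferential.D k B f₀) = 0 := by
        rw [map_sub, ← hgα, KaehlerDifferential.mapBaseChange_tmul, one_smul,
          KaehlerDifferential.map_D]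
        exact sub_self _
      obtain ⟨x, hx⟩ := (hex _).1 h1
      obtain ⟨y, rfl⟩ := Ideal.toCotangent_surjective _ x
      rw [KaehlerDifferential.kerCotangentToTensor_toCotangent] at hx
      refine ⟨f₀ + y.1, ?_⟩
      have hy : Ideal.Quotient.mk (Ideal.span {t ^ n}) y.1 = 0 := RingHom.mem_ker.1 y.2
      apply Prod.ext
      · change Ideal.Quotient.mk (Ideal.span {t ^ n}) (f₀ + y.1) =
          Ideal.Quotient.mk (Ideal.span {t ^ n}) f₀
        rw [map_add, hy, add_zero]
      · change ((1 : (B ⧸ Ideal.span {t ^ n})) ⊗ₜ[B] KaehlerDifferential.D k B (f₀ + y.1) :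
          (B ⧸ Ideal.span {t ^ n}) ⊗[B] Ω[B⁄k]) = α
        rw [map_add, TensorProduct.tmul_add, hx]
        abel

end Groth.Agent.S18838
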