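import Groth.Statements.S18839
import Groth.Agent.LibDef29
-- import your own Groth.Agent.* helpers here

set_option autoImplicit false
universe u
open Polynomial TensorProduct
open Deform

namespace Groth.Agent.S18839

open Groth.Agent.LibDef29


/-- Let k be an algebraically closed field of characteristic zero, n ≥ 1, D = k[X]/(X^(n+1)) (given with
a k-algebra isomorphism e identifying the class of X with τ ∈ D), and B a finitely generated
k-algebra which is a flat D-algebra such that B/tB is smooth over k, where t is the image of τ in B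
(an affine open of a flat deformation of a smooth k-scheme over Spec D); put B' = B/t^nB. The map ν
: Ω_(B/k) → Ω_(B/D) × (B' ⊗_B Ω_(B/k)), η ↦ (η relative to D, 1 ⊗ η), is injective, and its image
consists exactly of the pairs (α, β) with the same image in Ω_(B'/D) under the canonical maps
Ω_(B/D) → Ω_(B'/D) and B' ⊗_B Ω_(B/k) → Ω_(B'/k) → Ω_(B'/D). Injectivity uses that n + 1 is
invertible in k (so that t^n dt = 0 in Ω_(B/k)). The source works with a flat proper family over
Spec D with smooth central fibre; the statement is local and is given here on an affine open. -/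
theorem result (k : Type u) [Field k] [IsAlgClosed k] [CharZero k] (n : ℕ) (hn : 1 ≤ n)
    (D : Type u) [CommRing D] [Algebra k D] (τ : D)
    (e : (k[X] ⧸ Ideal.span {(X : k[X]) ^ (n + 1)}) ≃ₐ[k] D)
    (he : e (Ideal.Quotient.mk (Ideal.span {(X : k[X]) ^ (n + 1)}) X) = τ)
    (B : Type u) [CommRing B] [Algebra k B] [Algebra D B] [IsScalarTower k D B]
    [Algebra.FiniteType k B] [Module.Flat D B]
    (t : B) (ht : t = algebraMap D B τ) (hsm : Algebra.Smooth k (B ⧸ Ideal.span {t})) :
    Function.Injective (fun η : Ω[B⁄k] =>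
      ((KaehlerDifferential.map k D B B η, (1 : (B ⧸ Ideal.span {t ^ n})) ⊗ₜ[B] η) : Ω[B⁄D] × ((B ⧸ Ideal.span {t ^ n}) ⊗[B] Ω[B⁄k]))) ∧
    Set.range (fun η : Ω[B⁄k] =>
      ((KaehlerDifferential.map k D B B η, (1 : (B ⧸ Ideal.span {t ^ n})) ⊗ₜ[B] η) : Ω[B⁄D] × ((B ⧸ Ideal.span {t ^ n}) ⊗[B] Ω[B⁄k]))) =
      {p | KaehlerDifferential.map D D B (B ⧸ Ideal.span {t ^ n}) p.1 =
        KaehlerDifferential.map k D (B ⧸ Ideal.span {t ^ n}) (B ⧸ Ideal.span {t ^ n}) (KaehlerDifferential.mapBaseChange k B (B ⧸ Ideal.span {t ^ n}) p.2)} := by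
  have hsmD : Algebra.Smooth D B := smooth_of_fibre e he t ht hsm
  have hfs : Algebra.FormallySmooth D B := hsmD.formallySmooth
  obtain ⟨δ, hδ⟩ := exists_derivation (n := n) e he t ht
  obtain ⟨r, hr⟩ := exists_retraction t δ hδ
  have hinj : Function.Injective
      (LinearMap.toSpanSingleton (B ⧸ Ideal.span {t ^ n}) ((B ⧸ Ideal.span {t ^ n}) ⊗[B] Ω[B⁄k])
        ((1 : (B ⧸ Ideal.span {t ^ n})) ⊗ₜ[B] KaehlerDifferential.D k B t)) :=
    Function.LeftInverse.injective hr
  have hgen := exists_aeval e he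
  have hex := exact_mid (k := k) hgen t ht (Ideal.span {t ^ n})
  have htpow : t ^ (n + 1) = 0 := by
    rw [ht, ← map_pow, tau_pow e he, map_zero]
  have hker := ker_map_eq (k := k) hgen t ht
  -- `tⁿ dt = 0`
  have htdt : (t ^ n) • KaehlerDifferential.D k B t = 0 := by
    have h1 : KaehlerDifferential.D k B (t ^ (n + 1)) = 0 := by rw [htpow, map_zero]
    rw [Derivation.leibniz_pow, Nat.add_sub_cancel] at h1
    have hn0 : ((n + 1 : ℕ) : k) ≠ 0 := Nat.cast_ne_zero.2 (by omega)
    have h2 : ((n + 1 : ℕ) : k) • (t ^ n) • KaehlerDifferential.D k B t = 0 := by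
      rw [Nat.cast_smul_eq_nsmul]; exact h1
    have h3 := congrArg (fun x => (((n + 1 : ℕ) : k))⁻¹ • x) h2
    simp only [smul_zero] at h3
    rwa [smul_smul, inv_mul_cancel₀ hn0, one_smul] at h3
  constructor
  · intro η₁ η₂ h12
    have h1 : KaehlerDifferential.map k D B B η₁ = KaehlerDifferential.map k D B B η₂ :=
      congrArg Prod.fst h12
    have h2 : ((1 : (B ⧸ Ideal.span {t ^ n})) ⊗ₜ[B] η₁ : (B ⧸ Ideal.span {t ^ n}) ⊗[B] Ω[B⁄k]) =
        (1 : (B ⧸ Ideal.span {t ^ n})) ⊗ₜ[B] η₂ := congrArg Prod.snd h12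
    have h3 : η₁ - η₂ ∈ LinearMap.ker (KaehlerDifferential.map k D B B) := by
      rw [LinearMap.mem_ker, map_sub, h1, sub_self]
    rw [hker, Submodule.mem_span_singleton] at h3
    obtain ⟨c, hc⟩ := h3
    have h4 : LinearMap.toSpanSingleton (B ⧸ Ideal.span {t ^ n})
        ((B ⧸ Ideal.span {t ^ n}) ⊗[B] Ω[B⁄k])
        ((1 : (B ⧸ Ideal.span {t ^ n})) ⊗ₜ[B] KaehlerDifferential.D k B t)
        (Ideal.Quotient.mk _ c) = 0 := by
      rw [LinearMap.toSpanSingleton_apply, TensorProduct.smul_tmul', smul_eq_mul, mul_one]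
      have h5 : (Ideal.Quotient.mk (Ideal.span {t ^ n}) c) = c • (1 : B ⧸ Ideal.span {t ^ n}) := by
        change _ = Ideal.Quotient.mk _ c * 1
        rw [mul_one]
      rw [h5, TensorProduct.smul_tmul, hc, TensorProduct.tmul_sub, h2, sub_self]
    have h6 := hinj (h4.trans (map_zero _).symm)
    rw [Ideal.Quotient.eq_zero_iff_mem] at h6
    obtain ⟨u, hu⟩ := Ideal.mem_span_singleton'.1 h6
    have h7 : η₁ - η₂ = 0 := by
      rw [← hc, ← hu, mul_smul, htdt, smul_zero]
    exact sub_eq_zero.1 h7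
  · ext ⟨α, β⟩
    constructor
    · rintro ⟨η, hη⟩
      have h1 : KaehlerDifferential.map k D B B η = α := congrArg Prod.fst hη
      have h2 : ((1 : (B ⧸ Ideal.span {t ^ n})) ⊗ₜ[B] η : (B ⧸ Ideal.span {t ^ n}) ⊗[B] Ω[B⁄k]) = β :=
        congrArg Prod.snd hη
      change KaehlerDifferential.map D D B (B ⧸ Ideal.span {t ^ n}) α =
        KaehlerDifferential.map k D (B ⧸ Ideal.span {t ^ n}) (B ⧸ Ideal.span {t ^ n})
          (KaehlerDifferential.mapBaseChange k B (B ⧸ Ideal.span {t ^ n}) β)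
      rw [← h1, ← h2, KaehlerDifferential.mapBaseChange_tmul, one_smul, map_map_eq]
    · intro hαβ
      change KaehlerDifferential.map D D B (B ⧸ Ideal.span {t ^ n}) α =
        KaehlerDifferential.map k D (B ⧸ Ideal.span {t ^ n}) (B ⧸ Ideal.span {t ^ n})
          (KaehlerDifferential.mapBaseChange k B (B ⧸ Ideal.span {t ^ n}) β) at hαβ
      obtain ⟨η₀, rfl⟩ := KaehlerDifferential.map_surjective k D B α
      have h1 : LinearMap.baseChange (B ⧸ Ideal.span {t ^ n}) (KaehlerDifferential.map k D B B)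
          (β - (1 : (B ⧸ Ideal.span {t ^ n})) ⊗ₜ[B] η₀) = 0 := by
        apply injective_mapBaseChange_D t ht n
        rw [map_zero, ← map_mapBaseChange_eq, map_sub, map_sub, ← hαβ,
          KaehlerDifferential.mapBaseChange_tmul, one_smul, map_map_eq]
        exact sub_self _
      obtain ⟨b', hb'⟩ := (hex _).1 h1
      obtain ⟨b, rfl⟩ := Ideal.Quotient.mk_surjective b'
      refine ⟨η₀ + b • KaehlerDifferential.D k B t, ?_⟩
      apply Prod.ext
      · change KaehlerDifferential.map k D B B (η₀ + b • KaehlerDifferential.D k B t) =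
          KaehlerDifferential.map k D B B η₀
        rw [map_add, map_smul, map_D_t t ht, smul_zero, add_zero]
      · change ((1 : (B ⧸ Ideal.span {t ^ n})) ⊗ₜ[B] (η₀ + b • KaehlerDifferential.D k B t) :
          (B ⧸ Ideal.span {t ^ n}) ⊗[B] Ω[B⁄k]) = β
        rw [LinearMap.toSpanSingleton_apply, TensorProduct.smul_tmul', smul_eq_mul, mul_one] at hb'
        have h5 : (Ideal.Quotient.mk (Ideal.span {t ^ n}) b) = b • (1 : B ⧸ Ideal.span {t ^ n}) := by
          change _ = Ideal.Quotient.mk _ b * 1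
          rw [mul_one]
        rw [h5, TensorProduct.smul_tmul] at hb'
        rw [TensorProduct.tmul_add, hb']
        abel

end Groth.Agent.S18839
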