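import Groth.Statements.S18840
import Groth.Agent.Lib.Lead.VBCurve25
import Groth.Agent.Lib.Helper9.CurveAmple
-- import your own Groth.Agent.* helpers here

set_option autoImplicit false
set_option backward.isDefEq.respectTransparency false
universe u
open CategoryTheory CategoryTheory.Limits AlgebraicGeometry Polynomial
open VBCurve

namespace Groth.Agent.S18840

open Groth.Agent.Lib.Lead.VBCurve Groth.Agent.Lib.helper9.CurveVanish Groth.Agent.Lib.Lead.ModTensor
  Groth.Agent.Lib.Helper20.TensorEquiv Module


/-- Let k be an algebraically closed field of characteristic zero, X a smooth projective integral curve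
over k with an ample invertible sheaf L, N ≥ 0 and P a rational polynomial. There is an integer l,
depending only on X, L, N and P, such that for every vector bundle F of rank r ≥ 1 on X which is a
quotient of O_X^N with Hilbert polynomial P (with respect to L), F is slope-semistable if and only
if dim H^0(X, F'(l)) / r' ≤ dim H^0(X, F(l)) / r for every sub-bundle (finite locally free
submodule) F' ⊂ F of rank r' ≥ 1; here G(l) = G ⊗ L^(⊗l). The source polarises X by a very ample
O_X(1); only the positivity of its degree enters, so an ample L is taken. -/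
theorem result (k : Type u) [Field k] [IsAlgClosed k] [CharZero k]
    (X : Scheme.{u}) [X.Over (Spec (CommRingCat.of k))]
    [IsIntegral X] [IsProper (X ↘ Spec (CommRingCat.of k))] [Smooth (X ↘ Spec (CommRingCat.of k))]
    (hdim : topologicalKrullDim X = 1)
    (L : X.Modules) (hLi : PicF.IsInvertible L) (hL : CohB1.IsAmple L)
    (N : ℕ) (P : ℚ[X]) :
    ∃ l : ℕ, ∀ (r : ℕ) (F : X.Modules) (q : FlatMod.freeMod X N ⟶ F),
      0 < r → FlatMod.IsFinLocFreeOfRank r F → Epi q → ShStab.IsHilbPoly k X L F P →
        (ModFun.IsSlopeSemistable k X F r ↔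
          ∀ (F' : X.Modules) (r' : ℕ) (i : F' ⟶ F), Mono i → 0 < r' → FlatMod.IsFinLocFreeOfRank r' F' →
            (Module.finrank k (Coh.HH X (ShStab.twist X L F' l) 0) : ℚ) / (r' : ℚ) ≤
              (Module.finrank k (Coh.HH X (ShStab.twist X L F l) 0) : ℚ) / (r : ℚ)) := by
  have hP := pidStalks_of_smooth k X hdim.le
  have h0 := finrank_H0_structureModule_eq_one k X
  have hδ := Groth.Agent.Lib.helper9.CurveAmple.deg_pos_of_isAmple k X hdim hL
  refine ⟨3 * Curv2.genus k X, ?_⟩
  intro r F q hr hF hq _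
  haveI := hq
  obtain ⟨hLl, hdLl⟩ := tensorPow_data k X hdim.le hLi (3 * Curv2.genus k X)
  have hg0 : (0 : ℤ) ≤ (Curv2.genus k X : ℤ) := Int.natCast_nonneg _
  have hdl : 3 * (Curv2.genus k X : ℤ) ≤ Curv2.deg k X (CohB1.tensorPow L (3 * Curv2.genus k X)) 1 := by
    rw [hdLl]
    push_cast
    nlinarith
  have hH1 : Subsingleton (Coh.HH X (CohB1.tensorMod F (CohB1.tensorPow L (3 * Curv2.genus k X))) 1) :=
    subsingleton_H1_tensor_of_epi_freeMod k X hP hdim hF q hLl (by linarith)
  obtain ⟨hFl, hdFl⟩ := deg_tensor_invertible k X hdim.le hF hLl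
  have hFlc := Groth.Agent.Lib.Lead.RankAdd.isCoh_of_isFinLocFreeOfRank hFl
  have hrrF := Groth.Agent.Lib.Lead.CurveEuler.riemann_roch' k X hdim.le h0 _ hFlc.1 r
  have hz1 : finrank k (Coh.HH X (CohB1.tensorMod F (CohB1.tensorPow L (3 * Curv2.genus k X))) 1) = 0 :=
    finrank_zero_of_subsingleton
  rw [hz1, hdFl] at hrrF
  have hr0 : (0 : ℤ) < (r : ℤ) := by exact_mod_cast hr
  obtain ⟨A, hA, ⟨e⟩, -⟩ := Groth.Agent.Lib.helper12.InvDual.exists_inverse hLl
  simp only [ShStab.twist]
  constructor
  · intro hss F' r' i hi hr' hF'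
    haveI := hi
    have hr'0 : (0 : ℤ) < (r' : ℤ) := by exact_mod_cast hr'
    -- `deg F ≥ 0`
    have hdF : 0 ≤ Curv2.deg k X F r := by
      obtain ⟨j, hj⟩ : ∃ j : Fin N, Sigma.ι (fun _ : Fin N => Coh.structureModule X) j ≫ q ≠ 0 := by
        by_contra hall
        push Not at hall
        have hq0 : q = 0 := by
          refine Sigma.hom_ext _ _ (fun j => ?_)
          rw [hall j, Limits.comp_zero]
        apply not_isZero_of_rank_pos hr hF
        rw [IsZero.iff_id_eq_zero, ← cancel_epi q, hq0, Limits.zero_comp, Limits.zero_comp]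
      have hO1 := (Groth.Agent.Lib.helper16.FLF.isInvertible_iff_isFinLocFreeOfRank_one _).mp
        (Groth.Agent.Lib.helper11.InvMod.isInvertible_structureModule X)
      have hmono : Mono (Sigma.ι (fun _ : Fin N => Coh.structureModule X) j ≫ q) := by
        obtain ⟨rK, rI, -, -, hrr, -, hpos, hmono, -⟩ := kernel_image_data k X hP hO1 hF
          (Sigma.ι (fun _ : Fin N => Coh.structureModule X) j ≫ q)
        have := hpos hj
        exact hmono (by omega)
      have h1 := hss _ 1 _ hmono one_pos hO1
      rw [Groth.Agent.Lib.Lead.CurveEuler.deg_structureModule k X] at h1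
      simpa using h1
    have hD : 2 * (Curv2.genus k X : ℤ) * r ≤
        Curv2.deg k X (CohB1.tensorMod F (CohB1.tensorPow L (3 * Curv2.genus k X))) r +
          r * (1 - (Curv2.genus k X : ℤ)) := by
      rw [hdFl]
      nlinarith
    have hssl := slope_tensor_invertible k X hdim.le 0 hF hLl (fun H n j hj hn hH => by
      have := hss H n j hj hn hH
      simpa using this)
    haveI : Mono (tensorMap i (𝟙 (CohB1.tensorPow L (3 * Curv2.genus k X)))) := mono_tensorMap e i
    obtain ⟨hF'l, -⟩ := deg_tensor_invertible k X hdim.le hF' hLl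
    have key := finrank_H0_mul_le k X hP hdim r _ hD r' _ hF'l (fun H n j hj hn hH => by
      haveI := hj
      have := hssl H n (j ≫ tensorMap i (𝟙 (CohB1.tensorPow L (3 * Curv2.genus k X))))
        (mono_comp _ _) hn hH
      simpa using this)
    rw [hdFl] at key
    rw [div_le_div_iff₀ (by exact_mod_cast hr') (by exact_mod_cast hr)]
    have h2 : (finrank k (Coh.HH X (CohB1.tensorMod F' (CohB1.tensorPow L (3 * Curv2.genus k X))) 0) : ℤ) * r ≤
        (finrank k (Coh.HH X (CohB1.tensorMod F (CohB1.tensorPow L (3 * Curv2.genus k X))) 0) : ℤ) * r' := by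
      push_cast at hrrF key ⊢
      nlinarith
    exact_mod_cast h2
  · intro hall F' r' i hi hr' hF'
    haveI := hi
    have h1 := hall F' r' i hi hr' hF'
    rw [div_le_div_iff₀ (by exact_mod_cast hr') (by exact_mod_cast hr)] at h1
    have h1' : (finrank k (Coh.HH X (CohB1.tensorMod F' (CohB1.tensorPow L (3 * Curv2.genus k X))) 0) : ℤ) * r ≤
        (finrank k (Coh.HH X (CohB1.tensorMod F (CohB1.tensorPow L (3 * Curv2.genus k X))) 0) : ℤ) * r' := by
      exact_mod_cast h1
    obtain ⟨hF'l, hdF'l⟩ := deg_tensor_invertible k X hdim.le hF' hLl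
    have hF'lc := Groth.Agent.Lib.Lead.RankAdd.isCoh_of_isFinLocFreeOfRank hF'l
    have hrr' := Groth.Agent.Lib.Lead.CurveEuler.riemann_roch' k X hdim.le h0 _ hF'lc.1 r'
    rw [hdF'l] at hrr'
    have h3 : (0 : ℤ) ≤
        (finrank k (Coh.HH X (CohB1.tensorMod F' (CohB1.tensorPow L (3 * Curv2.genus k X))) 1) : ℤ) :=
      Int.natCast_nonneg _
    push_cast at hrrF hrr' h1'
    nlinarith


end Groth.Agent.S18840
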