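import Groth.Statements.S18841
import Groth.Agent.Lib.Helper20.MumfordUnif4
import Groth.Agent.Lib.Helper12.PullAmple
import Groth.Agent.Lib.Lead.RankAdd

set_option autoImplicit false
universe u
open CategoryTheory CategoryTheory.Limits AlgebraicGeometry Polynomial
open Variety

namespace Groth.Agent.S18841

/-- Let k be an algebraically closed field of characteristic zero, X a projective k-scheme embedded in
projective n-space by a closed immersion ι, with L ≅ ι^*O(1), and fix N ≥ 0 and a rational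
polynomial P. There is an integer l_0 such that for every coherent O_X-module F which is a quotient
q : O_X^N → F with Hilbert polynomial P with respect to L, writing G for the kernel of q, one has
for all l ≥ l_0: H^i(X, F(l)) = 0 and H^i(X, G(l)) = 0 for every i > 0, and G(l) is generated by its
global sections (twists M(l) = M ⊗ L^(⊗l)). -/
theorem result
    (k : Type u) [Field k] [IsAlgClosed k] [CharZero k]
    (X : Scheme.{u}) [X.Over (Spec (CommRingCat.of k))] [IsProper (X ↘ Spec (CommRingCat.of k))]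
    (n : ℕ) (ι : X ⟶ CohB1.ProjSpace n k) [IsClosedImmersion ι]
    (hι : ι ≫ CohB1.ProjSpace.toSpec n k = X ↘ Spec (CommRingCat.of k))
    (L : X.Modules) (hL : Nonempty (L ≅ (Scheme.Modules.pullback ι).obj (Twist.twistProjSpace n k 1)))
    (N : ℕ) (P : ℚ[X]) :
    ∃ l₀ : ℕ, ∀ (F : X.Modules) (q : FlatMod.freeMod X N ⟶ F),
      Coh.IsCoh F → Epi q → ShStab.IsHilbPoly k X L F P →
        ∀ l : ℕ, l₀ ≤ l →
          (∀ i : ℕ, 0 < i → Subsingleton (Coh.HH X (ShStab.twist X L F l) i)) ∧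
          (∀ i : ℕ, 0 < i → Subsingleton (Coh.HH X (ShStab.twist X L (kernel q) l) i)) ∧
          Curv2.IsGloballyGenerated (ShStab.twist X L (kernel q) l) := by
  haveI : IsLocallyNoetherian (CohB1.ProjSpace n k) :=
    Groth.Agent.Lib.Lead.SerreFin.isLocallyNoetherian_projSpace n k
  obtain ⟨eL⟩ := hL
  have hE : Coh.IsCoh (FlatMod.freeMod X N) :=
    Groth.Agent.Lib.Lead.RankAdd.isCoh_of_isFinLocFreeOfRank
      (Groth.Agent.Lib.helper16.FLF.isFinLocFreeOfRank_freeMod X N)
  -- `F ⊗ ι^* O(d) ≅ F ⊗ L^{⊗ d}`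
  have tw_iso : ∀ (M : X.Modules) (d : ℕ),
      Nonempty (Pic13.twistOn k ι M (d : ℤ) ≅ ShStab.twist X L M d) := fun M d =>
    ⟨Groth.Agent.Lib.Lead.ModTensor.tensorIso (Iso.refl M)
      ((Scheme.Modules.pullback ι).mapIso (Groth.Agent.Lib.helper28.TwistPn.powIso n k d) ≪≫
        Groth.Agent.Lib.helper12.PullAmple.pullTensorPowIso ι
          (Groth.Agent.Lib.helper28.TwistPn.isInvertible n k 1) d ≪≫
        Groth.Agent.Lib.Lead.ModTensor.tensorPowIso eL.symm d)⟩
  obtain ⟨m₀, hm₀0, hm₀⟩ :=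
    Groth.Agent.Lib.Helper20.MumfordUnif.exists_regular_kernel ι hι (FlatMod.freeMod X N) hE P
  refine ⟨m₀.toNat, ?_⟩
  intro F q hF hq hP l hl
  haveI : F.IsQuasicoherent := hF.1
  haveI : (FlatMod.freeMod X N).IsQuasicoherent := hE.1
  haveI hGq : (kernel q).IsQuasicoherent :=
    Groth.Agent.Lib.helper7.CohKer.isQuasicoherent_kernel q
  have hχ : ∀ d : ℕ, (Curv2.euler k X (Pic13.twistOn k ι F (d : ℤ)) : ℚ) = P.eval (d : ℚ) := by
    intro d
    obtain ⟨e⟩ := tw_iso F d
    rw [Groth.Agent.Lib.Helper20.MumfordUnif.euler_of_iso' e]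
    exact hP d
  obtain ⟨hG, hFv⟩ := hm₀ F q hF hq hχ
  have hml : m₀ ≤ (l : ℤ) := by omega
  -- coherence of `ι_* G`
  let SX : ShortComplex X.Modules := ShortComplex.mk (kernel.ι q) q (kernel.condition q)
  have hSX : SX.ShortExact :=
    ShortComplex.ShortExact.mk' (ShortComplex.exact_of_f_is_kernel SX (kernelIsKernel q))
      (inferInstanceAs (Mono (kernel.ι q))) hq
  haveI : SX.X₁.IsQuasicoherent := hGq
  have hSP := Groth.Agent.Lib.helper20.PushReg.shortExact_push ι hSX
  have hGP : Coh.IsCoh ((Scheme.Modules.pushforward ι).obj (kernel q)) :=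
    Groth.Agent.Lib.Helper20.MumfordUnif.isCoh_X₁ hSP
      (Groth.Agent.Lib.Lead.ProjectiveCoh.isCoh_push ι hE)
      (Groth.Agent.Lib.Lead.ProjectiveCoh.isCoh_push ι hF)
  refine ⟨fun i hi => ?_, fun i hi => ?_, ?_⟩
  · obtain ⟨e⟩ := tw_iso F l
    refine Groth.Agent.Lib.Helper20.TwistEquivPn.subsingleton_of_iso e i ?_
    exact (Groth.Agent.Lib.helper20.PushReg.subsingleton_twist_iff ι F (l : ℤ) i).2
      (hFv (l : ℤ) hml i hi)
  · obtain ⟨e⟩ := tw_iso (kernel q) l
    refine Groth.Agent.Lib.Helper20.TwistEquivPn.subsingleton_of_iso e i ?_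
    refine (Groth.Agent.Lib.helper20.PushReg.subsingleton_twist_iff ι (kernel q) (l : ℤ) i).2 ?_
    have := Groth.Agent.Lib.helper20.CMReg.vanish_of_regular hGP hG ((l : ℤ) + i) (by omega) i hi
    have e' : (l : ℤ) + (i : ℤ) - i = l := by ring
    rwa [e'] at this
  · obtain ⟨e⟩ := tw_iso (kernel q) l
    refine Groth.Agent.Lib.helper20.CMGG.gg_of_iso e ?_
    haveI : (Pic13.twistOn k ι (kernel q) (l : ℤ)).IsQuasicoherent :=
      Groth.Agent.Lib.Lead.ProjectiveVan.isQuasicoherent_twistOn ι (kernel q) (l : ℤ)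
    refine Groth.Agent.Lib.helper20.PushReg.gg_of_gg_push ι _ ?_
    obtain ⟨e2⟩ := Groth.Agent.Lib.Lead.ProjectiveVan.nonempty_pushTwistIso ι (kernel q) (l : ℤ)
    refine Groth.Agent.Lib.helper20.CMGG.gg_of_iso e2 ?_
    exact Groth.Agent.Lib.helper20.CMGG.gg_of_regular hGP
      (Groth.Agent.Lib.helper20.CMReg.regular_of_le hGP hG (l : ℤ) hml)

end Groth.Agent.S18841
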