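import Groth.Statements.S18842
import Mathlib
import Groth.Agent.Lib.Helper18.TFQuot
import Groth.Agent.Lib.Helper20.GenericZero
import Groth.Agent.Lib.Helper8.GEMid
import Groth.Agent.Lib.Lead.ProperEuler
import Groth.Agent.Lib.Lead.CurveEuler
import Groth.Agent.Lib.Helper7.CohKer

set_option autoImplicit false
universe u
open CategoryTheory AlgebraicGeometry
open TFOne

namespace Groth.Agent.S18842

open CategoryTheory.Limits TopologicalSpace
open Groth.Agent.S10961 Groth.Agent.Lib.Helper18.TFQuot Groth.Agent.Lib.Helper25.StalkExact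

variable {X : Scheme.{u}}

/-- injectivity of the stalk map of a factorization -/
theorem injective_stalk_factor {M G G' : X.Modules} (π : M ⟶ G) (π' : M ⟶ G') [Epi π]
    (ρ : G ⟶ G') (h : π ≫ ρ = π') (η : X)
    (hinj : Function.Injective ((DerSch.stalkFunctor X η).map π').hom) :
    Function.Injective ((DerSch.stalkFunctor X η).map ρ).hom := by
  rw [injective_iff_map_eq_zero]
  intro g hg
  obtain ⟨m, rfl⟩ := surjective_stalk_of_epi π η g
  have h1 : ((DerSch.stalkFunctor X η).map π').hom m = 0 := by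
    rw [← h, Functor.map_comp]
    exact hg
  rw [hinj (h1.trans (map_zero _).symm), map_zero]

theorem stalk_comp_apply {A B C : X.Modules} (f : A ⟶ B) (g : B ⟶ C) (h : A ⟶ C) (w : f ≫ g = h)
    (η : X) (a : (DerSch.stalkFunctor X η).obj A) :
    ((DerSch.stalkFunctor X η).map g).hom (((DerSch.stalkFunctor X η).map f).hom a) =
      ((DerSch.stalkFunctor X η).map h).hom a := by
  rw [← w, Functor.map_comp]
  rfl

theorem stalk_biprod_total {A B : X.Modules} (η : X) (x : (DerSch.stalkFunctor X η).obj (A ⊞ B)) :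
    x = ((DerSch.stalkFunctor X η).map biprod.inl).hom
          (((DerSch.stalkFunctor X η).map biprod.fst).hom x) +
        ((DerSch.stalkFunctor X η).map biprod.inr).hom
          (((DerSch.stalkFunctor X η).map biprod.snd).hom x) := by
  have h := biprod.total (X := A) (Y := B)
  have h1 := congrArg (fun f => ((DerSch.stalkFunctor X η).map f).hom x) h
  simp only [Functor.map_add, Functor.map_comp] at h1
  rw [CategoryTheory.Functor.map_id] at h1
  exact h1.symm

theorem euler_mono_cokernel (k : Type u) [Field k] (X : Scheme.{u}) [X.Over (Spec (CommRingCat.of k))]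
    [IsProper (X ↘ Spec (CommRingCat.of k))] {A B : X.Modules} (α : A ⟶ B) [Mono α]
    (hA : Coh.IsCoh A) (hB : Coh.IsCoh B) :
    Curv2.euler k X B = Curv2.euler k X A + Curv2.euler k X (cokernel α) := by
  have hS : (ShortComplex.mk α (cokernel.π α) (cokernel.condition α)).ShortExact :=
    { exact := ShortComplex.exact_cokernel α
      mono_f := inferInstance
      epi_g := inferInstance }
  exact Groth.Agent.Lib.Lead.ProperEuler.euler_additive k
    (S := ShortComplex.mk α (cokernel.π α) (cokernel.condition α)) hS hA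
    (Groth.Agent.Lib.helper7.CohKer.isCoh_cokernel hA hB α)

theorem euler_epi_kernel (k : Type u) [Field k] (X : Scheme.{u}) [X.Over (Spec (CommRingCat.of k))]
    [IsProper (X ↘ Spec (CommRingCat.of k))] [IsLocallyNoetherian X]
    {A B : X.Modules} (β : A ⟶ B) [Epi β]
    (hA : Coh.IsCoh A) (hB : Coh.IsCoh B) :
    Curv2.euler k X A = Curv2.euler k X (kernel β) + Curv2.euler k X B := by
  have hS : (ShortComplex.mk (kernel.ι β) β (kernel.condition β)).ShortExact :=
    { exact := ShortComplex.exact_kernel β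
      mono_f := inferInstance
      epi_g := inferInstance }
  exact Groth.Agent.Lib.Lead.ProperEuler.euler_additive k
    (S := ShortComplex.mk (kernel.ι β) β (kernel.condition β)) hS
    (Groth.Agent.Lib.helper7.CohKer.isCoh_kernel hA hB β) hB

/-- the inequality in abstract form -/
theorem main (k : Type u) [Field k] (X : Scheme.{u}) [X.Over (Spec (CommRingCat.of k))]
    [IsProper (X ↘ Spec (CommRingCat.of k))] [IsReduced X]
    (hpure : ∀ C ∈ irreducibleComponents (X : Type u), topologicalKrullDim C = 1)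
    (M : X.Modules) (hM : TFOne.IsRkOne X M) (Y Z W : Set X)
    (hWY : W ⊆ Y) (hWZ : W ⊆ Z) (hWgen : ∀ η : X, IsGen η → η ∈ Y → η ∈ Z → η ∈ W)
    (GY GZ GU GW : X.Modules) (πY : M ⟶ GY) (πZ : M ⟶ GZ) (πU : M ⟶ GU) (πW : M ⟶ GW)
    (hGY : TFOne.IsQuotOn X M Y GY πY) (hGZ : TFOne.IsQuotOn X M Z GZ πZ)
    (hGU : TFOne.IsQuotOn X M (Y ∪ Z) GU πU) (hGW : TFOne.IsQuotOn X M W GW πW) :
    Curv2.euler k X GU + Curv2.euler k X GW ≤ Curv2.euler k X GY + Curv2.euler k X GZ := by
  haveI := Groth.Agent.Lib.Lead.CurveEuler.isNoetherian k X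
  haveI := Groth.Agent.Lib.Lead.ProperEuler.compactSpace k X
  haveI := Groth.Agent.Lib.Lead.ProperEuler.quasiSeparatedSpace k X
  have hfin : (irreducibleComponents (X : Type u)).Finite :=
    TopologicalSpace.NoetherianSpace.finite_irreducibleComponents
  obtain ⟨hY1, hY2, hY3, hY4⟩ := hGY
  obtain ⟨hZ1, hZ2, hZ3, hZ4⟩ := hGZ
  obtain ⟨hU1, hU2, hU3, hU4⟩ := hGU
  obtain ⟨hW1, hW2, hW3, hW4⟩ := hGW
  haveI : GY.IsQuasicoherent := hY2.1
  haveI : GZ.IsQuasicoherent := hZ2.1
  haveI : GU.IsQuasicoherent := hU2.1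
  haveI : GW.IsQuasicoherent := hW2.1
  -- the factorizations
  obtain ⟨ρUY, hUY⟩ := exists_factor hfin hM πU πY hY3
    (fun η _ h => by rw [hU4]; rw [hY4] at h; exact Or.inl h)
  obtain ⟨ρUZ, hUZ⟩ := exists_factor hfin hM πU πZ hZ3
    (fun η _ h => by rw [hU4]; rw [hZ4] at h; exact Or.inr h)
  obtain ⟨ρYW, hYW⟩ := exists_factor hfin hM πY πW hW3
    (fun η _ h => by rw [hY4]; rw [hW4] at h; exact hWY h)
  obtain ⟨ρZW, hZW⟩ := exists_factor hfin hM πZ πW hW3
    (fun η _ h => by rw [hZ4]; rw [hW4] at h; exact hWZ h)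
  haveI : Epi ρYW := epi_of_epi_fac hYW
  set α : GU ⟶ GY ⊞ GZ := biprod.lift ρUY ρUZ with hα
  set β : GY ⊞ GZ ⟶ GW := biprod.desc ρYW (-ρZW) with hβ
  have hαfst : α ≫ biprod.fst = ρUY := biprod.lift_fst _ _
  have hαsnd : α ≫ biprod.snd = ρUZ := biprod.lift_snd _ _
  have hαβ : α ≫ β = 0 := by
    have h1 : πU ≫ (ρUY ≫ ρYW) = πW := by rw [← Category.assoc, hUY, hYW]
    have h2 : πU ≫ (ρUZ ≫ ρZW) = πW := by rw [← Category.assoc, hUZ, hZW]
    rw [← cancel_epi πU, comp_zero, hα, hβ, biprod.lift_desc, Preadditive.comp_neg,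
      Preadditive.comp_add, Preadditive.comp_neg, h1, h2, add_neg_cancel]
  haveI : Epi β := epi_of_epi_fac (biprod.inl_desc ρYW (-ρZW))
  -- stalkwise bijectivity
  have bY : ∀ η : X, IsGen η → η ∈ Y → Function.Bijective ((DerSch.stalkFunctor X η).map πY).hom :=
    fun η hg h => bijective_stalk_of_gen hfin hM πY η hg (by rw [hY4]; exact h)
  have bZ : ∀ η : X, IsGen η → η ∈ Z → Function.Bijective ((DerSch.stalkFunctor X η).map πZ).hom :=
    fun η hg h => bijective_stalk_of_gen hfin hM πZ η hg (by rw [hZ4]; exact h)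
  have bW : ∀ η : X, IsGen η → η ∈ W → Function.Bijective ((DerSch.stalkFunctor X η).map πW).hom :=
    fun η hg h => bijective_stalk_of_gen hfin hM πW η hg (by rw [hW4]; exact h)
  have sY : ∀ η : X, η ∉ Y → Subsingleton ((DerSch.stalkFunctor X η).obj GY) :=
    fun η h => subsingleton_of_not_mem_support (by rw [hY4]; exact h)
  have sZ : ∀ η : X, η ∉ Z → Subsingleton ((DerSch.stalkFunctor X η).obj GZ) :=
    fun η h => subsingleton_of_not_mem_support (by rw [hZ4]; exact h)
  -- `α` is a monomorphism
  haveI : Mono α := by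
    apply Preadditive.mono_of_kernel_zero
    apply hom_eq_zero_of_stalk_gen hfin hU3
    intro η hgen
    by_cases hη : η ∈ CohB1.support GU
    · rw [hU4] at hη
      have key : ∀ (G' : X.Modules) (π' : M ⟶ G') (ρ : GU ⟶ G') (p : GY ⊞ GZ ⟶ G'),
          πU ≫ ρ = π' → α ≫ p = ρ →
          Function.Injective ((DerSch.stalkFunctor X η).map π').hom →
          (DerSch.stalkFunctor X η).map (kernel.ι α) = 0 := by
        intro G' π' ρ p h1 h2 h3
        have hinj := injective_stalk_factor πU π' ρ h1 η h3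
        haveI hmono : Mono ((DerSch.stalkFunctor X η).map ρ) :=
          (ModuleCat.mono_iff_injective _).2 hinj
        have h4 : (DerSch.stalkFunctor X η).map (kernel.ι α) ≫ (DerSch.stalkFunctor X η).map ρ = 0 := by
          rw [← Functor.map_comp, ← h2, ← Category.assoc, kernel.condition, zero_comp,
            Functor.map_zero]
        rw [← cancel_mono ((DerSch.stalkFunctor X η).map ρ), h4, zero_comp]
      rcases hη with hη | hη
      · exact key GY πY ρUY biprod.fst hUY hαfst (bY η hgen hη).1
      · exact key GZ πZ ρUZ biprod.snd hUZ hαsnd (bZ η hgen hη).1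
    · exact map_eq_zero_of_not_mem_support _ hη
  -- the cokernel of `α`
  set Q := cokernel α with hQ
  set q : GY ⊞ GZ ⟶ Q := cokernel.π α with hq
  set β' : Q ⟶ GW := cokernel.desc α β hαβ with hβ'
  have hqβ : q ≫ β' = β := cokernel.π_desc α β hαβ
  haveI : Epi β' := epi_of_epi_fac hqβ
  set N := kernel β' with hN
  have hcoh2 : Coh.IsCoh (GY ⊞ GZ) := Groth.Agent.Lib.helper8.GEMid.isCoh_biprod hY2 hZ2
  have hcohQ : Coh.IsCoh Q := Groth.Agent.Lib.helper7.CohKer.isCoh_cokernel hU2 hcoh2 α
  have hcohN : Coh.IsCoh N := Groth.Agent.Lib.helper7.CohKer.isCoh_kernel hcohQ hW2 β'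
  -- `N` vanishes at the generic points
  have hgenN : ∀ η : X, closure ({η} : Set X) ∈ irreducibleComponents X →
      η ∉ CohB1.support N := by
    intro η hgen hmem
    apply hmem
    change Subsingleton ((DerSch.stalkFunctor X η).obj N)
    have hinjN : Function.Injective ((DerSch.stalkFunctor X η).map (kernel.ι β')).hom := by
      have : Mono ((DerSch.stalkFunctor X η).map (kernel.ι β')) := inferInstance
      exact (ModuleCat.mono_iff_injective _).1 this
    refine ⟨fun n n' => hinjN ?_⟩
    suffices hz : ∀ n : (DerSch.stalkFunctor X η).obj N,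
        ((DerSch.stalkFunctor X η).map (kernel.ι β')).hom n = 0 from (hz n).trans (hz n').symm
    intro n
    set c := ((DerSch.stalkFunctor X η).map (kernel.ι β')).hom n with hc
    have hc0 : ((DerSch.stalkFunctor X η).map β').hom c = 0 := by
      rw [hc, stalk_comp_apply (kernel.ι β') β' 0 (kernel.condition β'), Functor.map_zero]
      rfl
    obtain ⟨ab, hab⟩ := surjective_stalk_of_epi q η c
    have hβab : ((DerSch.stalkFunctor X η).map β).hom ab = 0 := by
      rw [← stalk_comp_apply q β' β hqβ, hab, hc0]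
    set a := ((DerSch.stalkFunctor X η).map biprod.fst).hom ab with ha
    set b := ((DerSch.stalkFunctor X η).map biprod.snd).hom ab with hb
    have hab' : ((DerSch.stalkFunctor X η).map ρYW).hom a =
        ((DerSch.stalkFunctor X η).map ρZW).hom b := by
      have h1 : β = biprod.fst ≫ ρYW - biprod.snd ≫ ρZW := by
        rw [hβ, biprod.desc_eq, Preadditive.comp_neg, sub_eq_add_neg]
      have h2 := hβab
      rw [h1, Functor.map_sub, Functor.map_comp, Functor.map_comp] at h2
      exact sub_eq_zero.mp h2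
    -- find `u`
    have hu : ∃ u : (DerSch.stalkFunctor X η).obj GU,
        ((DerSch.stalkFunctor X η).map ρUY).hom u = a ∧
          ((DerSch.stalkFunctor X η).map ρUZ).hom u = b := by
      by_cases hηY : η ∈ Y
      · obtain ⟨m, hm⟩ := (bY η hgen hηY).2 a
        refine ⟨((DerSch.stalkFunctor X η).map πU).hom m, ?_, ?_⟩
        · rw [stalk_comp_apply πU ρUY πY hUY, hm]
        · rw [stalk_comp_apply πU ρUZ πZ hUZ]
          by_cases hηZ : η ∈ Z
          · obtain ⟨m', hm'⟩ := (bZ η hgen hηZ).2 b
            have h1 : ((DerSch.stalkFunctor X η).map πW).hom m =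
                ((DerSch.stalkFunctor X η).map πW).hom m' := by
              rw [← stalk_comp_apply πY ρYW πW hYW, ← stalk_comp_apply πZ ρZW πW hZW, hm, hm', hab']
            rw [(bW η hgen (hWgen η hgen hηY hηZ)).1 h1, hm']
          · haveI := sZ η hηZ
            exact Subsingleton.elim _ _
      · haveI := sY η hηY
        obtain ⟨m', hm'⟩ := surjective_stalk_of_epi πZ η b
        refine ⟨((DerSch.stalkFunctor X η).map πU).hom m', Subsingleton.elim _ _, ?_⟩
        rw [stalk_comp_apply πU ρUZ πZ hUZ, hm']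
    obtain ⟨u, hu1, hu2⟩ := hu
    have habu : ab = ((DerSch.stalkFunctor X η).map α).hom u := by
      rw [stalk_biprod_total η ab, stalk_biprod_total η (((DerSch.stalkFunctor X η).map α).hom u),
        stalk_comp_apply α biprod.fst ρUY hαfst, stalk_comp_apply α biprod.snd ρUZ hαsnd, hu1, hu2]
    rw [← hab, habu, stalk_comp_apply α q 0 (cokernel.condition α), Functor.map_zero]
    rfl
  -- Euler characteristic of `N`
  have heq : ∀ C ∈ irreducibleComponents (X : Type u),
      topologicalKrullDim ↥C ≤ ((0 + 1 : ℕ) : WithBot ℕ∞) := by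
    intro C hC
    rw [hpure C hC]
    norm_num
  have hZcl : IsClosed (CohB1.support N) := by
    haveI : N.IsQuasicoherent := hcohN.1
    have h1 := Groth.Agent.Lib.helper8.SchemeSupport.annIdeal_support N hcohN.2
    have h2 : CohB1.support N =
        ((Groth.Agent.Lib.helper8.SchemeSupport.annIdeal N hcohN.2).support : Set X) := h1.symm
    rw [h2]
    exact (Groth.Agent.Lib.helper8.SchemeSupport.annIdeal N hcohN.2).support.isClosed
  have hdimN := Groth.Agent.Lib.Helper20.GenericZero.dim_le_of_no_generic_succ 0 heq _ hZcl hgenN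
  have hvan : ∀ i : ℕ, 0 < i → Subsingleton (Coh.HH X N i) := fun i hi =>
    Groth.Agent.Lib.Helper20.GenericZero.subsingleton_HH_of_dim_support_le N hcohN _ (le_refl _) 0
      hdimN i hi
  have hχN : 0 ≤ Curv2.euler k X N := by
    rw [Groth.Agent.Lib.Helper18.HH.euler_eq_sum k N 0 hvan, zero_add, Finset.sum_range_one,
      pow_zero, one_mul]
    exact Int.natCast_nonneg _
  -- additivity
  have e1 : Curv2.euler k X (GY ⊞ GZ) = Curv2.euler k X GY + Curv2.euler k X GZ :=
    Groth.Agent.Lib.Lead.ProperEuler.euler_additive k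
      (S := ShortComplex.mk (biprod.inl : GY ⟶ GY ⊞ GZ) biprod.snd biprod.inl_snd)
      (ShortComplex.Splitting.ofHasBinaryBiproduct GY GZ).shortExact hY2 hZ2
  have e2 : Curv2.euler k X (GY ⊞ GZ) = Curv2.euler k X GU + Curv2.euler k X Q :=
    euler_mono_cokernel k X α hU2 hcoh2
  have e3 : Curv2.euler k X Q = Curv2.euler k X N + Curv2.euler k X GW :=
    euler_epi_kernel k X β' hcohQ hW2
  linarith

/-- Let X be a proper reduced scheme of pure dimension one over a field k and M a torsion-free rank-1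
sheaf on X. For closed subcurves Y and Z of X (non-empty unions of irreducible components) let W be
the union of the irreducible components of X contained in Y ∩ Z (W may be empty). Writing M_T for
the torsion-free quotient of M on a closed subset T (pinned by its defining property; M_W = 0 when W
is empty), one has χ(M_{Y ∪ Z}) + χ(M_W) ≤ χ(M_Y) + χ(M_Z). (The source states this for curves that
are moreover geometrically reduced with geometrically integral components and notes the equivalent
form with β in place of χ; neither is needed for the inequality as stated.) -/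
theorem result (k : Type u) [Field k] (X : Scheme.{u}) [X.Over (Spec (CommRingCat.of k))] [IsProper (X ↘ Spec (CommRingCat.of k))] [IsReduced X] (hpure : ∀ C ∈ irreducibleComponents (X : Type u), topologicalKrullDim C = 1) (M : X.Modules) (hM : TFOne.IsTF1 X M) (Y Z W : Set X) (hY : IsClosed Y) (hZ : IsClosed Z) (hYs : VecSt.IsSubcurve X Y) (hZs : VecSt.IsSubcurve X Z) (hW : W = ⋃₀ {C | C ∈ irreducibleComponents (X : Type u) ∧ C ⊆ Y ∩ Z}) (GY GZ GU GW : X.Modules) (πY : M ⟶ GY) (πZ : M ⟶ GZ) (πU : M ⟶ GU) (πW : M ⟶ GW) (hGY : TFOne.IsQuotOn X M Y GY πY) (hGZ : TFOne.IsQuotOn X M Z GZ πZ) (hGU : TFOne.IsQuotOn X M (Y ∪ Z) GU πU) (hGW : TFOne.IsQuotOn X M W GW πW) : Curv2.euler k X GU + Curv2.euler k X GW ≤ Curv2.euler k X GY + Curv2.euler k X GZ := by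
  have hWsub : W ⊆ Y ∩ Z := by
    rw [hW]
    rintro x ⟨C, ⟨-, hC⟩, hx⟩
    exact hC hx
  refine main k X hpure M hM.2.2 Y Z W (fun x hx => (hWsub hx).1) (fun x hx => (hWsub hx).2) ?_
    GY GZ GU GW πY πZ πU πW hGY hGZ hGU hGW
  intro η hgen hηY hηZ
  rw [hW]
  refine ⟨closure ({η} : Set X), ⟨hgen, ?_⟩, subset_closure (Set.mem_singleton η)⟩
  exact (hY.inter hZ).closure_subset_iff.mpr (Set.singleton_subset_iff.mpr ⟨hηY, hηZ⟩)

end Groth.Agent.S18842
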