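import Groth.Statements.S18843
import Mathlib
import Groth.Agent.Lib.Helper18.TFQuot
import Groth.Agent.Lib.Helper8.FormalBasic
import Groth.Agent.Lib.Lead.CurveEuler

set_option autoImplicit false
universe u
open CategoryTheory AlgebraicGeometry
open TFOne

namespace Groth.Agent.S18843

open CategoryTheory.Limits TopologicalSpace
open Groth.Agent.S10961 Groth.Agent.Lib.Helper18.TFQuot Groth.Agent.Lib.Helper25.StalkExact
open Groth.Agent.Lib.helper8.FF

/-- abstract form: simplicity from simplicity of two torsion-free quotients whose supports cover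
`X` and have a common generic point -/
theorem main (k : Type u) [Field k] (X : Scheme.{u}) [X.Over (Spec (CommRingCat.of k))]
    [IsReduced X] (hfin : (irreducibleComponents (X : Type u)).Finite)
    (M : X.Modules) (hM : TFOne.IsTF1 X M) (Y Z : Set X) (hcov : Y ∪ Z = Set.univ)
    (η₀ : X) (hη₀ : IsGen η₀) (hη₀Y : η₀ ∈ Y) (hη₀Z : η₀ ∈ Z)
    (GY GZ : X.Modules) (πY : M ⟶ GY) (πZ : M ⟶ GZ)
    (hGY : TFOne.IsQuotOn X M Y GY πY) (hGZ : TFOne.IsQuotOn X M Z GZ πZ)
    (hsY : TFOne.IsSimple X k (X ↘ Spec (CommRingCat.of k)) GY)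
    (hsZ : TFOne.IsSimple X k (X ↘ Spec (CommRingCat.of k)) GZ) :
    TFOne.IsSimple X k (X ↘ Spec (CommRingCat.of k)) M := by
  obtain ⟨hY1, hY2, hY3, hY4⟩ := hGY
  obtain ⟨hZ1, hZ2, hZ3, hZ4⟩ := hGZ
  obtain ⟨hMc, hMtf, hM1⟩ := hM
  haveI : GY.IsQuasicoherent := hY2.1
  haveI : GZ.IsQuasicoherent := hZ2.1
  haveI : M.IsQuasicoherent := hMc.1
  have bY : ∀ η : X, IsGen η → η ∈ Y → Function.Bijective ((DerSch.stalkFunctor X η).map πY).hom :=
    fun η hg h => bijective_stalk_of_gen hfin hM1 πY η hg (by rw [hY4]; exact h)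
  have bZ : ∀ η : X, IsGen η → η ∈ Z → Function.Bijective ((DerSch.stalkFunctor X η).map πZ).hom :=
    fun η hg h => bijective_stalk_of_gen hfin hM1 πZ η hg (by rw [hZ4]; exact h)
  refine ⟨?_, ?_⟩
  · intro h0
    apply hsY.1
    have h1 : πY = 0 := h0.eq_of_src πY 0
    exact IsZero.of_epi_eq_zero πY h1
  · intro φ
    obtain ⟨φY, hφY⟩ := exists_factor hfin hM1 πY (φ ≫ πY) hY3 (fun _ _ h => h)
    obtain ⟨φZ, hφZ⟩ := exists_factor hfin hM1 πZ (φ ≫ πZ) hZ3 (fun _ _ h => h)
    obtain ⟨cY, hcY⟩ := hsY.2 φY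
    obtain ⟨cZ, hcZ⟩ := hsZ.2 φZ
    -- `φ - c` is killed by the projections
    have kY : (φ - Formal.smulMod k M cY) ≫ πY = 0 := by
      rw [Preadditive.sub_comp, smulMod_naturality, ← hφY, hcY]
      exact sub_self _
    have kZ : (φ - Formal.smulMod k M cZ) ≫ πZ = 0 := by
      rw [Preadditive.sub_comp, smulMod_naturality, ← hφZ, hcZ]
      exact sub_self _
    -- stalkwise vanishing
    have vY : ∀ η : X, IsGen η → η ∈ Y →
        (DerSch.stalkFunctor X η).map (φ - Formal.smulMod k M cY) = 0 := by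
      intro η hg hη
      haveI : Mono ((DerSch.stalkFunctor X η).map πY) := (ModuleCat.mono_iff_injective _).2 (bY η hg hη).1
      rw [← cancel_mono ((DerSch.stalkFunctor X η).map πY), ← Functor.map_comp, kY, Functor.map_zero,
        zero_comp]
    have vZ : ∀ η : X, IsGen η → η ∈ Z →
        (DerSch.stalkFunctor X η).map (φ - Formal.smulMod k M cZ) = 0 := by
      intro η hg hη
      haveI : Mono ((DerSch.stalkFunctor X η).map πZ) := (ModuleCat.mono_iff_injective _).2 (bZ η hg hη).1
      rw [← cancel_mono ((DerSch.stalkFunctor X η).map πZ), ← Functor.map_comp, kZ, Functor.map_zero,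
        zero_comp]
    -- the scalars agree
    have hc : cY = cZ := by
      by_contra hne
      have ha : cY - cZ ≠ 0 := sub_ne_zero.mpr hne
      have h1 : (DerSch.stalkFunctor X η₀).map (Formal.smulMod k M (cY - cZ)) = 0 := by
        have e : Formal.smulMod k M (cY - cZ) =
            (φ - Formal.smulMod k M cZ) - (φ - Formal.smulMod k M cY) := by
          rw [sub_eq_add_neg cY cZ, smulMod_add]
          have : Formal.smulMod k M (-cZ) = - Formal.smulMod k M cZ := by
            rw [eq_neg_iff_add_eq_zero, ← smulMod_add, neg_add_cancel, smulMod_zero]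
          rw [this]
          abel
        rw [e, Functor.map_sub, vY η₀ hη₀ hη₀Y, vZ η₀ hη₀ hη₀Z, sub_self]
      have h2 : Formal.smulMod k M (cY - cZ) ≫ Formal.smulMod k M (cY - cZ)⁻¹ = 𝟙 M := by
        rw [← smulMod_mul', mul_inv_cancel₀ ha, smulMod_one]
      have h3 : 𝟙 ((DerSch.stalkFunctor X η₀).obj M) = 0 := by
        rw [← CategoryTheory.Functor.map_id, ← h2, Functor.map_comp, h1, zero_comp]
      obtain ⟨e⟩ := hM1 η₀ hη₀
      haveI : Nontrivial (X.presheaf.stalk η₀) := inferInstance
      have h4 : (e.symm 1 : M.presheaf.stalk η₀) = 0 := by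
        have := congrArg (fun f => f.hom (e.symm 1 : (DerSch.stalkFunctor X η₀).obj M)) h3
        exact this
      have h5 : (1 : X.presheaf.stalk η₀) = 0 := by
        have := congrArg e h4
        rwa [LinearEquiv.apply_symm_apply, map_zero] at this
      exact one_ne_zero h5
    refine ⟨cY, ?_⟩
    rw [← sub_eq_zero]
    apply hom_eq_zero_of_stalk_gen hfin hMtf
    intro η hgen
    have hη : η ∈ Y ∪ Z := by rw [hcov]; trivial
    rcases hη with hη | hη
    · exact vY η hgen hη
    · rw [hc]; exact vZ η hgen hη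

/-- Let X be a proper, geometrically reduced scheme of pure dimension one over a field k whose
irreducible components (with their reduced structure) are geometrically integral over k, and let M
be a torsion-free rank-1 sheaf on X. Let Y and Z be closed subcurves (non-empty unions of
irreducible components) with Y ∪ Z = X which have an irreducible component in common. If the
torsion-free quotients M_Y and M_Z of M on Y and on Z (pinned by their defining property) are both
simple over k, then M is simple over k. -/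
theorem result (k : Type u) [Field k] (X : Scheme.{u}) [X.Over (Spec (CommRingCat.of k))] [IsProper (X ↘ Spec (CommRingCat.of k))] [IsReduced X] [GeometricallyReduced (X ↘ Spec (CommRingCat.of k))] (hpure : ∀ C ∈ irreducibleComponents (X : Type u), topologicalKrullDim C = 1) (hgi : ∀ (C : Set X) (hC : C ∈ irreducibleComponents (X : Type u)), GeometricallyIntegral (VecSt.subschι X C (isClosed_of_mem_irreducibleComponents C hC) ≫ (X ↘ Spec (CommRingCat.of k)))) (M : X.Modules) (hM : TFOne.IsTF1 X M) (Y Z : Set X) (hY : IsClosed Y) (hZ : IsClosed Z) (hYs : VecSt.IsSubcurve X Y) (hZs : VecSt.IsSubcurve X Z) (hcov : Y ∪ Z = Set.univ) (hmeet : ∃ C ∈ irreducibleComponents (X : Type u), C ⊆ Y ∩ Z) (GY GZ : X.Modules) (πY : M ⟶ GY) (πZ : M ⟶ GZ) (hGY : TFOne.IsQuotOn X M Y GY πY) (hGZ : TFOne.IsQuotOn X M Z GZ πZ) (hsY : TFOne.IsSimple X k (X ↘ Spec (CommRingCat.of k)) GY) (hsZ : TFOne.IsSimple X k (X ↘ Spec (CommRingCat.of k)) GZ) : TFOne.IsSimple X k (X ↘ Spec (CommRingCat.of k)) M := by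
  haveI := Groth.Agent.Lib.Lead.CurveEuler.isNoetherian k X
  have hfin : (irreducibleComponents (X : Type u)).Finite :=
    TopologicalSpace.NoetherianSpace.finite_irreducibleComponents
  obtain ⟨C, hC, hCsub⟩ := hmeet
  obtain ⟨η₀, hη₀⟩ := QuasiSober.sober hC.1 (isClosed_of_mem_irreducibleComponents C hC)
  have hgen : IsGen η₀ := by
    change closure ({η₀} : Set X) ∈ irreducibleComponents X
    rw [hη₀.def]
    exact hC
  have hmem : η₀ ∈ C := hη₀.mem
  exact main k X hfin M hM Y Z hcov η₀ hgen (hCsub hmem).1 (hCsub hmem).2 GY GZ πY πZ hGY hGZ hsY hsZ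

end Groth.Agent.S18843
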