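import Groth.Statements.S18844
import Mathlib
import Groth.Agent.Lib.Helper18.GenScalar
import Groth.Agent.Lib.Lead.KrullSchmidt3
import Groth.Agent.Lib.Lead.CurveEuler

set_option autoImplicit false
universe u
open CategoryTheory CategoryTheory.Limits AlgebraicGeometry
open TFOne

namespace Groth.Agent.S18844

open TopologicalSpace Groth.Agent.S10961 Groth.Agent.Lib.Helper18.TFQuot
  Groth.Agent.Lib.Helper18.GenScalar Groth.Agent.Lib.Helper18.AlgClosedIn
  Groth.Agent.Lib.helper8.FF

/-- the generic scalars of an endomorphism of a torsion-free rank one module lie in `k` -/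
theorem exists_scalar (k : Type u) [Field k] (X : Scheme.{u}) [X.Over (Spec (CommRingCat.of k))]
    [IsProper (X ↘ Spec (CommRingCat.of k))] [IsReduced X]
    (hfin : (irreducibleComponents (X : Type u)).Finite)
    (hgi : ∀ (C : Set X) (hC : C ∈ irreducibleComponents (X : Type u)),
      GeometricallyIntegral (VecSt.subschι X C (isClosed_of_mem_irreducibleComponents C hC) ≫
        (X ↘ Spec (CommRingCat.of k))))
    (M : X.Modules) (hM : TFOne.IsTF1 X M) (φ : M ⟶ M) (η : X) (hgen : IsGen η) :
    ∃ c : k, Sc η φ (stalkGlobal (X ↘ Spec (CommRingCat.of k)) η c) := by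
  obtain ⟨a, ha⟩ := exists_sc hM.2.2 hgen φ
  haveI : Module.Finite k (End M) := Groth.Agent.Lib.Lead.KS.finite_hom k X hM.1 hM.1
  let φ' : End M := φ
  have hint : _root_.IsIntegral k φ' := _root_.IsIntegral.of_finite k φ'
  obtain ⟨P, hP, hev⟩ := hint
  have h1 : Sc η (Polynomial.aeval (R := k) (A := End M) φ' P)
      (P.eval₂ (stalkGlobal (X ↘ Spec (CommRingCat.of k)) η) a) := Sc.aeval k ha P
  rw [Polynomial.aeval_def, hev] at h1
  have h2 : P.eval₂ (stalkGlobal (X ↘ Spec (CommRingCat.of k)) η) a = 0 :=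
    sc_unique hM.2.2 hgen h1 Sc.zero
  have hC : closure ({η} : Set X) ∈ irreducibleComponents (X : Type u) := hgen
  haveI := hgi _ hC
  obtain ⟨c, hc⟩ := exists_eq_stalkGlobal_of_closed (X ↘ Spec (CommRingCat.of k)) _
    (isClosed_of_mem_irreducibleComponents _ hC) η (subset_closure rfl) (hgen.isField hfin)
    a P hP h2
  exact ⟨c, hc ▸ ha⟩

/-- a zero module has empty support -/
theorem support_eq_empty_of_id_eq_zero {X : Scheme.{u}} (G : X.Modules) (h : 𝟙 G = 0) :
    CohB1.support G = ∅ := by
  ext x
  simp only [Set.mem_empty_iff_false, iff_false]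
  intro hx
  apply hx
  suffices h0 : ∀ g : (DerSch.stalkFunctor X x).obj G, g = 0 from
    ⟨fun a b => (h0 a).trans (h0 b).symm⟩
  intro g
  have h1 : (DerSch.stalkFunctor X x).map (𝟙 G) = 0 := by rw [h, Functor.map_zero]
  rw [CategoryTheory.Functor.map_id] at h1
  have := congrArg (fun f => f.hom g) h1
  exact this

theorem subcurve_nonempty {X : Scheme.{u}} {Y : Set X} (hY : VecSt.IsSubcurve X Y) : Y.Nonempty := by
  obtain ⟨𝒮, hsub, ⟨C, hC⟩, rfl⟩ := hY
  obtain ⟨x, hx⟩ := (hsub hC).1.nonempty
  exact ⟨x, C, hC, hx⟩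

/-- simple modules are indecomposable -/
theorem forward (k : Type u) [Field k] (X : Scheme.{u}) [X.Over (Spec (CommRingCat.of k))]
    (I : X.Modules) (hs : TFOne.IsSimple X k (X ↘ Spec (CommRingCat.of k)) I) :
    ¬ ∃ (Y Z : Set X) (hY : IsClosed Y) (hZ : IsClosed Z) (GY GZ : X.Modules) (πY : I ⟶ GY)
      (πZ : I ⟶ GZ), VecSt.IsSubcurve X Y ∧ VecSt.IsSubcurve X Z ∧ Y ≠ Set.univ ∧ Z ≠ Set.univ ∧
      TFOne.IsQuotOn X I Y GY πY ∧ TFOne.IsQuotOn X I Z GZ πZ ∧ IsIso (biprod.lift πY πZ) := by
  rintro ⟨Y, Z, hY, hZ, GY, GZ, πY, πZ, hYs, hZs, -, -, hQY, hQZ, hiso⟩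
  obtain ⟨hY1, -, -, hY4⟩ := hQY
  obtain ⟨hZ1, -, -, hZ4⟩ := hQZ
  have hGY : 𝟙 GY ≠ 0 := by
    intro h
    have := support_eq_empty_of_id_eq_zero GY h
    rw [hY4] at this
    exact (subcurve_nonempty hYs).ne_empty this
  have hGZ : 𝟙 GZ ≠ 0 := by
    intro h
    have := support_eq_empty_of_id_eq_zero GZ h
    rw [hZ4] at this
    exact (subcurve_nonempty hZs).ne_empty this
  set θ := biprod.lift πY πZ with hθ
  let s : GY ⟶ I := biprod.inl ≫ inv θ
  have hsθ : s ≫ θ = biprod.inl := by simp [s]
  have hsY : s ≫ πY = 𝟙 GY := by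
    have : θ ≫ biprod.fst = πY := biprod.lift_fst _ _
    rw [← this, ← Category.assoc, hsθ, biprod.inl_fst]
  have hsZ : s ≫ πZ = 0 := by
    have : θ ≫ biprod.snd = πZ := biprod.lift_snd _ _
    rw [← this, ← Category.assoc, hsθ, biprod.inl_snd]
  obtain ⟨c, hc₀⟩ := hs.2 (πY ≫ s)
  have hc : πY ≫ s = Formal.smulMod k I c := hc₀
  have h1 : πY ≫ Formal.smulMod k GY c = πY := by
    rw [← smulMod_naturality, ← hc, Category.assoc, hsY, Category.comp_id]
  have h2 : πZ ≫ Formal.smulMod k GZ c = 0 := by
    rw [← smulMod_naturality, ← hc, Category.assoc, hsZ, comp_zero]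
  have h1' : Formal.smulMod k GY c = 𝟙 GY := by
    rw [← cancel_epi πY, h1, Category.comp_id]
  have h2' : Formal.smulMod k GZ c = 0 := by
    rw [← cancel_epi πZ, h2, comp_zero]
  by_cases hc0 : c = 0
  · apply hGY
    rw [← h1', hc0, smulMod_zero]
  · apply hGZ
    have : Formal.smulMod k GZ c ≫ Formal.smulMod k GZ c⁻¹ = 𝟙 GZ := by
      rw [← smulMod_mul', mul_inv_cancel₀ hc0, smulMod_one]
    rw [← this, h2', zero_comp]

/-- the generic points form a finite set -/
theorem finite_gen {X : Scheme.{u}} (hfin : (irreducibleComponents (X : Type u)).Finite) :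
    {η : X | IsGen η}.Finite := by
  refine Set.Finite.of_finite_image (f := fun η : X => closure ({η} : Set X))
    (hfin.subset ?_) ?_
  · rintro C ⟨η, hgen, rfl⟩
    exact hgen
  · intro a ha b hb hab
    have h1 : b ⤳ a := by
      rw [specializes_iff_mem_closure]
      have : a ∈ closure ({a} : Set X) := subset_closure rfl
      change closure {a} = closure {b} at hab
      rwa [hab] at this
    exact IsGen.eq_of_specializes ha hb h1

/-- indecomposable torsion-free rank one modules are simple -/
theorem backward (k : Type u) [Field k] (X : Scheme.{u}) [X.Over (Spec (CommRingCat.of k))]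
    [IsProper (X ↘ Spec (CommRingCat.of k))] [IsReduced X]
    (hfin : (irreducibleComponents (X : Type u)).Finite)
    (hgi : ∀ (C : Set X) (hC : C ∈ irreducibleComponents (X : Type u)),
      GeometricallyIntegral (VecSt.subschι X C (isClosed_of_mem_irreducibleComponents C hC) ≫
        (X ↘ Spec (CommRingCat.of k))))
    [Nonempty X] (I : X.Modules) (hI : TFOne.IsTF1 X I)
    (hno : ¬ ∃ (Y Z : Set X) (hY : IsClosed Y) (hZ : IsClosed Z) (GY GZ : X.Modules) (πY : I ⟶ GY)
      (πZ : I ⟶ GZ), VecSt.IsSubcurve X Y ∧ VecSt.IsSubcurve X Z ∧ Y ≠ Set.univ ∧ Z ≠ Set.univ ∧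
      TFOne.IsQuotOn X I Y GY πY ∧ TFOne.IsQuotOn X I Z GZ πZ ∧ IsIso (biprod.lift πY πZ)) :
    TFOne.IsSimple X k (X ↘ Spec (CommRingCat.of k)) I := by
  classical
  obtain ⟨hIc, hItf, hI1⟩ := hI
  haveI : I.IsQuasicoherent := hIc.1
  obtain ⟨x₀⟩ := (inferInstance : Nonempty X)
  obtain ⟨η₀, hgen₀, -⟩ := exists_gen_specializes x₀
  refine ⟨?_, ?_⟩
  · intro h0
    have h1 : 𝟙 I = 0 := h0.eq_of_src _ _
    have h2 : Sc η₀ (𝟙 I) 0 := h1 ▸ Sc.zero
    have h3 := sc_unique hI1 hgen₀ h2 Sc.id
    haveI : Nontrivial (X.presheaf.stalk η₀) := inferInstance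
    exact zero_ne_one h3
  · intro φ
    change ∃ c : k, φ = Formal.smulMod k I c
    by_contra hφ
    -- the generic scalars
    have hex : ∀ η : X, ∃ c : k, IsGen η →
        Sc η φ (stalkGlobal (X ↘ Spec (CommRingCat.of k)) η c) := by
      intro η
      by_cases hgen : IsGen η
      · obtain ⟨c, hc⟩ := exists_scalar k X hfin hgi I ⟨hIc, hItf, hI1⟩ φ η hgen
        exact ⟨c, fun _ => hc⟩
      · exact ⟨0, fun h => (hgen h).elim⟩
    choose cf hcf using hex
    set c₁ := cf η₀ with hc₁
    let T : X → Prop := fun η => cf η = c₁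
    by_cases hall : ∀ η : X, IsGen η → T η
    · apply hφ
      refine ⟨c₁, ?_⟩
      rw [← sub_eq_zero]
      apply eq_zero_of_sc hfin hItf
      intro η hgen
      have h1 := hcf η hgen
      rw [hall η hgen] at h1
      have h2 := Sc.sub h1 (Sc.smulMod (M := I) (η := η) k c₁)
      rwa [sub_self] at h2
    · push Not at hall
      obtain ⟨η₂, hgen₂, hT₂⟩ := hall
      apply hno
      -- the interpolation polynomial
      let vals : Finset k := (finite_gen hfin).toFinset.image cf
      have hc₁mem : c₁ ∈ vals :=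
        Finset.mem_image.mpr ⟨η₀, (Set.Finite.mem_toFinset _).mpr hgen₀, rfl⟩
      let P : Polynomial k := Lagrange.basis vals _root_.id c₁
      have hP1 : P.eval c₁ = 1 :=
        Lagrange.eval_basis_self (v := _root_.id) (Function.injective_id.injOn) hc₁mem
      have hP0 : ∀ η : X, IsGen η → ¬ T η → P.eval (cf η) = 0 := by
        intro η hgen hT
        have hmem : cf η ∈ vals :=
          Finset.mem_image.mpr ⟨η, (Set.Finite.mem_toFinset _).mpr hgen, rfl⟩
        exact Lagrange.eval_basis_of_ne (v := _root_.id) (fun h => hT h.symm) hmem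
      let φ' : End I := φ
      let e : I ⟶ I := Polynomial.aeval (R := k) (A := End I) φ' P
      have hSc : ∀ η : X, IsGen η → Sc η e
          (stalkGlobal (X ↘ Spec (CommRingCat.of k)) η (P.eval (cf η))) := by
        intro η hgen
        have := Sc.aeval k (hcf η hgen) P
        rwa [Polynomial.eval₂_at_apply] at this
      have h1 : ∀ η : X, IsGen η → T η → Sc η e 1 := by
        intro η hgen hT
        have := hSc η hgen
        rw [show cf η = c₁ from hT, hP1, map_one] at this
        exact this
      have h0 : ∀ η : X, IsGen η → ¬ T η → Sc η e 0 := by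
        intro η hgen hT
        have := hSc η hgen
        rw [hP0 η hgen hT, map_zero] at this
        exact this
      -- `e` is idempotent
      have he : e ≫ e = e := by
        rw [← sub_eq_zero]
        apply eq_zero_of_sc hfin hItf
        intro η hgen
        by_cases hT : T η
        · have := Sc.sub (Sc.comp (h1 η hgen hT) (h1 η hgen hT)) (h1 η hgen hT)
          rwa [mul_one, sub_self] at this
        · have := Sc.sub (Sc.comp (h0 η hgen hT) (h0 η hgen hT)) (h0 η hgen hT)
          rwa [mul_zero, sub_self] at this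
      have he' : (𝟙 I - e) ≫ (𝟙 I - e) = 𝟙 I - e := by
        rw [Preadditive.sub_comp, Preadditive.comp_sub, Preadditive.comp_sub, Category.id_comp,
          Category.comp_id, Category.id_comp, he, sub_self, sub_zero]
      obtain ⟨G, i, p, hip, hpi⟩ :=
        CategoryTheory.IsIdempotentComplete.idempotents_split I e he
      obtain ⟨G', i', p', hip', hpi'⟩ :=
        CategoryTheory.IsIdempotentComplete.idempotents_split I (𝟙 I - e) he'
      have hie : i ≫ e = i := by rw [← hpi, ← Category.assoc, hip, Category.id_comp]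
      have hie' : i' ≫ (𝟙 I - e) = i' := by rw [← hpi', ← Category.assoc, hip', Category.id_comp]
      have hip0 : i ≫ p' = 0 := by
        have : i ≫ p' = (i ≫ (𝟙 I - e)) ≫ p' := by
          rw [← hpi', Category.assoc, Category.assoc, hip', Category.comp_id]
        rw [this, Preadditive.comp_sub, Category.comp_id, hie, sub_self, zero_comp]
      have hi'p0 : i' ≫ p = 0 := by
        have : i' ≫ p = (i' ≫ e) ≫ p := by
          rw [← hpi, Category.assoc, Category.assoc, hip, Category.comp_id]
        have h2 : i' ≫ e = 0 := by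
          have := hie'
          rw [Preadditive.comp_sub, Category.comp_id, sub_eq_self] at this
          exact this
        rw [this, h2, zero_comp]
      have hiso : IsIso (biprod.lift p p') := by
        refine ⟨biprod.desc i i', ?_, ?_⟩
        · rw [biprod.lift_desc, hpi, hpi']
          abel
        · apply biprod.hom_ext' <;> apply biprod.hom_ext <;> simp [hip, hip', hip0, hi'p0]
      have hcoh := Groth.Agent.Lib.Lead.KS.isCoh_of_biprod
        (Groth.Agent.Lib.helper21.ShHomCoh.isCoh_of_iso' (@asIso _ _ _ _ _ hiso) hIc)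
      have hQ : TFOne.IsQuotOn X I (compUnion T) G p :=
        isQuotOn_of_split hfin hI1 hItf hcoh.1 e i p hip hpi T h1 h0
      have hQ' : TFOne.IsQuotOn X I (compUnion fun η => ¬ T η) G' p' := by
        refine isQuotOn_of_split hfin hI1 hItf hcoh.2 (𝟙 I - e) i' p' hip' hpi'
          (fun η => ¬ T η) ?_ ?_
        · intro η hgen hT
          have := Sc.sub (Sc.id (M := I) (η := η)) (h0 η hgen hT)
          rwa [sub_zero] at this
        · intro η hgen hT
          have := Sc.sub (Sc.id (M := I) (η := η)) (h1 η hgen (not_not.mp hT))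
          rwa [sub_self] at this
      exact ⟨compUnion T, compUnion fun η => ¬ T η, isClosed_compUnion hfin _,
        isClosed_compUnion hfin _, G, G', p, p',
        isSubcurve_compUnion T ⟨η₀, hgen₀, rfl⟩,
        isSubcurve_compUnion _ ⟨η₂, hgen₂, hT₂⟩,
        compUnion_ne_univ T ⟨η₂, hgen₂, hT₂⟩,
        compUnion_ne_univ _ ⟨η₀, hgen₀, not_not.mpr rfl⟩, hQ, hQ', hiso⟩

/-- Let X be a proper, geometrically reduced scheme of pure dimension one over a field k whose
irreducible components (with their reduced structure) are geometrically integral over k, assume X is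
non-empty, and take a torsion-free sheaf I of rank one on X. Then I is simple over k (every
endomorphism of I is multiplication by a scalar) exactly when I is not decomposable, that is, when
there do not exist closed proper subcurves Y and Z of X (non-empty unions of irreducible components,
each different from X) together with the torsion-free quotients I_Y, I_Z of I on them (pinned by
their defining property) such that the canonical map I ⟶ I_Y ⊞ I_Z is an isomorphism. -/
theorem result (k : Type u) [Field k] (X : Scheme.{u}) [X.Over (Spec (CommRingCat.of k))] [IsProper (X ↘ Spec (CommRingCat.of k))] [IsReduced X] [GeometricallyReduced (X ↘ Spec (CommRingCat.of k))] (hpure : ∀ C ∈ irreducibleComponents (X : Type u), topologicalKrullDim C = 1) (hgi : ∀ (C : Set X) (hC : C ∈ irreducibleComponents (X : Type u)), GeometricallyIntegral (VecSt.subschι X C (isClosed_of_mem_irreducibleComponents C hC) ≫ (X ↘ Spec (CommRingCat.of k)))) [Nonempty X] (I : X.Modules) (hI : TFOne.IsTF1 X I) : TFOne.IsSimple X k (X ↘ Spec (CommRingCat.of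 k)) I ↔ ¬ ∃ (Y Z : Set X) (hY : IsClosed Y) (hZ : IsClosed Z) (GY GZ : X.Modules) (πY : I ⟶ GY) (πZ : I ⟶ GZ), VecSt.IsSubcurve X Y ∧ VecSt.IsSubcurve X Z ∧ Y ≠ Set.univ ∧ Z ≠ Set.univ ∧ TFOne.IsQuotOn X I Y GY πY ∧ TFOne.IsQuotOn X I Z GZ πZ ∧ IsIso (biprod.lift πY πZ) := by
  haveI := Groth.Agent.Lib.Lead.CurveEuler.isNoetherian k X
  have hfin : (irreducibleComponents (X : Type u)).Finite :=
    TopologicalSpace.NoetherianSpace.finite_irreducibleComponents
  exact ⟨forward k X I, backward k X hfin hgi I hI⟩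

end Groth.Agent.S18844
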