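import Groth.Statements.S18845
import Mathlib
import Groth.Agent.Lib.Helper18.GenScalar
import Groth.Agent.Lib.Helper18.PushTF
import Groth.Agent.Lib.Helper21.ClosedFF
import Groth.Agent.Lib.Lead.CurveEuler

set_option autoImplicit false
universe u
open CategoryTheory CategoryTheory.Limits AlgebraicGeometry
open TFOne

namespace Groth.Agent.S18845

open TopologicalSpace Groth.Agent.S10961 Groth.Agent.Lib.Helper18.TFQuot
  Groth.Agent.Lib.Helper18.GenScalar Groth.Agent.Lib.Helper18.PushTF
  Groth.Agent.Lib.helper8.FF Groth.Agent.Lib.Helper25.StalkExact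

/-- abstract form: an extension of two "simple" modules, the quotient being torsion-free, with
middle term torsion-free of rank one, is simple iff it does not split -/
theorem main (k : Type u) [Field k] (X : Scheme.{u}) [X.Over (Spec (CommRingCat.of k))]
    [IsReduced X] (hfin : (irreducibleComponents (X : Type u)).Finite) [Nonempty X]
    (M A B : X.Modules) (hM : TFOne.IsTF1 X M) [B.IsQuasicoherent]
    (hBtf : TorSh.IsTorsionFree B) (hA0 : ¬ IsZero A) (hB0 : ¬ IsZero B)
    (hAs : ∀ φ : A ⟶ A, ∃ c : k, φ = Formal.smulMod k A c)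
    (hBs : ∀ φ : B ⟶ B, ∃ c : k, φ = Formal.smulMod k B c)
    (a : A ⟶ M) (b : M ⟶ B) (w : a ≫ b = 0) (hex : (ShortComplex.mk a b w).ShortExact) :
    TFOne.IsSimple X k (X ↘ Spec (CommRingCat.of k)) M ↔ ¬ IsSplitEpi b := by
  haveI : Mono a := hex.mono_f
  haveI : Epi b := hex.epi_g
  obtain ⟨hMc, hMtf, hM1⟩ := hM
  haveI : M.IsQuasicoherent := hMc.1
  constructor
  · rintro ⟨-, hs⟩ hsplit
    haveI := hsplit
    set s := section_ b with hs_def
    have hsb : s ≫ b = 𝟙 B := IsSplitEpi.id b
    obtain ⟨c, hc₀⟩ := hs (b ≫ s)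
    have hc : b ≫ s = Formal.smulMod k M c := hc₀
    have h1 : b ≫ Formal.smulMod k B c = b := by
      rw [← smulMod_naturality, ← hc, Category.assoc, hsb, Category.comp_id]
    have h2 : Formal.smulMod k A c ≫ a = 0 := by
      rw [smulMod_naturality, ← hc, ← Category.assoc, w, zero_comp]
    have h2' : Formal.smulMod k A c = 0 := by
      rw [← cancel_mono a, h2, zero_comp]
    by_cases hc0 : c = 0
    · apply hB0
      rw [hc0, smulMod_zero, comp_zero] at h1
      exact IsZero.of_epi_eq_zero b h1.symm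
    · apply hA0
      rw [IsZero.iff_id_eq_zero]
      have : Formal.smulMod k A c ≫ Formal.smulMod k A c⁻¹ = 𝟙 A := by
        rw [← smulMod_mul', mul_inv_cancel₀ hc0, smulMod_one]
      rw [← this, h2', zero_comp]
  · intro hns
    obtain ⟨x₀⟩ := (inferInstance : Nonempty X)
    obtain ⟨η₀, hgen₀, -⟩ := exists_gen_specializes x₀
    refine ⟨?_, ?_⟩
    · intro h0
      have h1 : 𝟙 M = 0 := h0.eq_of_src _ _
      have h2 : Sc η₀ (𝟙 M) 0 := h1 ▸ Sc.zero
      have h3 := sc_unique hM1 hgen₀ h2 Sc.id
      haveI : Nontrivial (X.presheaf.stalk η₀) := inferInstance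
      exact zero_ne_one h3
    · intro φ
      change ∃ c : k, φ = Formal.smulMod k M c
      -- `φ` preserves the extension
      have hstep1 : a ≫ φ ≫ b = 0 := by
        apply hom_eq_zero_of_stalk_gen hfin hBtf
        intro η hgen
        obtain ⟨d, hd⟩ := exists_sc hM1 hgen φ
        ext m
        rw [Functor.map_comp, Functor.map_comp]
        change ((DerSch.stalkFunctor X η).map b).hom (((DerSch.stalkFunctor X η).map φ).hom
          (((DerSch.stalkFunctor X η).map a).hom m)) = 0
        rw [hd, map_smul]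
        have : ((DerSch.stalkFunctor X η).map b).hom (((DerSch.stalkFunctor X η).map a).hom m) = 0 := by
          have h := congrArg (fun f => f.hom m)
            (show (DerSch.stalkFunctor X η).map a ≫ (DerSch.stalkFunctor X η).map b = 0 by
              rw [← Functor.map_comp, w, Functor.map_zero])
          exact h
        rw [this, smul_zero]
      let φA : A ⟶ A := hex.exact.lift (a ≫ φ) (by rw [Category.assoc]; exact hstep1)
      have hφA : φA ≫ a = a ≫ φ := hex.exact.lift_f _ _
      let φB : B ⟶ B := hex.exact.desc (φ ≫ b) hstep1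
      have hφB : b ≫ φB = φ ≫ b := hex.exact.g_desc _ _
      obtain ⟨cA, hcA⟩ := hAs φA
      obtain ⟨cB, hcB⟩ := hBs φB
      set ψ := φ - Formal.smulMod k M cA with hψ
      have hψa : a ≫ ψ = 0 := by
        rw [hψ, Preadditive.comp_sub, ← hφA, hcA, smulMod_naturality, sub_self]
      have hsub : Formal.smulMod k B cB - Formal.smulMod k B cA = Formal.smulMod k B (cB - cA) := by
        have := smulMod_add (A := k) B cA (cB - cA)
        rw [add_sub_cancel] at this
        rw [this, add_sub_cancel_left]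
      have hψb : ψ ≫ b = b ≫ Formal.smulMod k B (cB - cA) := by
        rw [hψ, Preadditive.sub_comp, ← hφB, hcB, smulMod_naturality, ← Preadditive.comp_sub, hsub]
      by_cases hcc : cA = cB
      · -- `φ - cA` vanishes
        refine ⟨cA, ?_⟩
        rw [← sub_eq_zero]
        have hψb0 : ψ ≫ b = 0 := by
          rw [hψb, hcc, sub_self, smulMod_zero, comp_zero]
        let ψ₁ : M ⟶ A := hex.exact.lift ψ hψb0
        have hψ₁ : ψ₁ ≫ a = ψ := hex.exact.lift_f _ _
        have hsq : ψ ≫ ψ = 0 := by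
          have : ψ ≫ ψ = ψ₁ ≫ (a ≫ ψ) := by rw [← Category.assoc, hψ₁]
          rw [this, hψa, comp_zero]
        apply eq_zero_of_sc hfin hMtf
        intro η hgen
        obtain ⟨d, hd⟩ := exists_sc hM1 hgen ψ
        suffices hd0 : d = 0 from hd0 ▸ hd
        have h1 : Sc η (ψ ≫ ψ) (d * d) := Sc.comp hd hd
        rw [hsq] at h1
        have h2 : d * d = 0 := sc_unique hM1 hgen h1 Sc.zero
        letI := (hgen.isField hfin).toField
        exact mul_self_eq_zero.mp h2
      · exfalso
        apply hns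
        let σ₀ : B ⟶ M := hex.exact.desc ψ hψa
        have hσ₀ : b ≫ σ₀ = ψ := hex.exact.g_desc _ _
        have h1 : σ₀ ≫ b = Formal.smulMod k B (cB - cA) := by
          rw [← cancel_epi b, ← Category.assoc, hσ₀, hψb]
        have hu : cB - cA ≠ 0 := sub_ne_zero.mpr (Ne.symm hcc)
        refine IsSplitEpi.mk' ⟨Formal.smulMod k B (cB - cA)⁻¹ ≫ σ₀, ?_⟩
        rw [Category.assoc, h1, ← smulMod_mul', inv_mul_cancel₀ hu, smulMod_one]

/-- data attached to the direct image of a simple module from a closed subscheme -/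
theorem push_simple (k : Type u) [Field k] (X : Scheme.{u}) [X.Over (Spec (CommRingCat.of k))]
    {W : Scheme.{u}} (j : W ⟶ X) [IsClosedImmersion j] (I : W.Modules)
    (hIs : TFOne.IsSimple W k (j ≫ (X ↘ Spec (CommRingCat.of k))) I) :
    ¬ IsZero ((Coh.push j).obj I) ∧
      ∀ φ : (Coh.push j).obj I ⟶ (Coh.push j).obj I, ∃ c : k,
        φ = Formal.smulMod k ((Coh.push j).obj I) c := by
  haveI := Groth.Agent.Lib.helper21.ClosedFF.full_pushforward j
  haveI := Groth.Agent.Lib.helper21.ClosedFF.faithful_pushforward j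
  letI : W.Over (Spec (CommRingCat.of k)) := ⟨j ≫ (X ↘ Spec (CommRingCat.of k))⟩
  haveI : j.IsOver (Spec (CommRingCat.of k)) := ⟨rfl⟩
  obtain ⟨h0, hs⟩ := hIs
  refine ⟨fun hz => h0 ?_, fun φ => ?_⟩
  · rw [IsZero.iff_id_eq_zero]
    apply (Scheme.Modules.pushforward j).map_injective
    rw [CategoryTheory.Functor.map_id, Functor.map_zero]
    exact (IsZero.iff_id_eq_zero _).mp hz
  · obtain ⟨φ', rfl⟩ := (Scheme.Modules.pushforward j).map_surjective φ
    obtain ⟨c, hc₀⟩ := hs φ'
    have hc : φ' = Formal.smulMod k I c := hc₀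
    refine ⟨c, ?_⟩
    rw [hc, ← KLin.smul_id, ← KLin.smul_id, Functor.map_smul, CategoryTheory.Functor.map_id]

theorem subcurve_nonempty {X : Scheme.{u}} {Y : Set X} (hY : VecSt.IsSubcurve X Y) : Y.Nonempty := by
  obtain ⟨𝒮, hsub, ⟨C, hC⟩, rfl⟩ := hY
  obtain ⟨x, hx⟩ := (hsub hC).1.nonempty
  exact ⟨x, C, hC, hx⟩

/-- Let X be a proper, geometrically reduced scheme of pure dimension one over a field k whose
irreducible components (with their reduced structure) are geometrically integral over k, let Y and Z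
be closed subcurves (non-empty unions of irreducible components) with Y ∪ Z = X, and let M be a
torsion-free sheaf of rank one on X. Suppose M sits in a short exact sequence 0 ⟶ i_{Y*} I ⟶ M ⟶
i_{Z*} J ⟶ 0 of modules on X, where I is a simple torsion-free sheaf of rank one on the reduced
closed subscheme Y, J is a simple torsion-free sheaf of rank one on the reduced closed subscheme Z,
and i_{Y*}, i_{Z*} are the direct images. Then M is simple over k exactly when the sequence does not
split (the epimorphism M ⟶ i_{Z*} J has no section). -/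
theorem result (k : Type u) [Field k] (X : Scheme.{u}) [X.Over (Spec (CommRingCat.of k))] [IsProper (X ↘ Spec (CommRingCat.of k))] [IsReduced X] [GeometricallyReduced (X ↘ Spec (CommRingCat.of k))] (hpure : ∀ C ∈ irreducibleComponents (X : Type u), topologicalKrullDim C = 1) (hgi : ∀ (C : Set X) (hC : C ∈ irreducibleComponents (X : Type u)), GeometricallyIntegral (VecSt.subschι X C (isClosed_of_mem_irreducibleComponents C hC) ≫ (X ↘ Spec (CommRingCat.of k)))) (Y Z : Set X) (hY : IsClosed Y) (hZ : IsClosed Z) (hYs : VecSt.IsSubcurve X Y) (hZs : VecSt.IsSubcurve X Z) (hcov : Y ∪ Z = Set.univ) (M : X.Modules) (hM : TFOne.IsTF1 X M) (I : (VecSt.subsch X Y hY).Modules) (hI : TFOne.IsTF1 (VecSt.subsch X Y hY) I) (hIs : TFOne.IsSimple (VecSt.subsch X Y hY) k (VecSt.subschι X Y hY ≫ (X ↘ Spec (CommRingCat.of k))) I) (J : (VecSt.subsch X Z hZ).Modules) (hJ : TFOne.IsTF1 (VecSt.subsch X Z hZ) J) (hJs : TFOne.IsSimple (VecSt.subsch X Z hZ) k (VecSt.subschι X Z hZ ≫ (X ↘ Spec (CommRingCat.of k))) J) (a : (Coh.push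 (VecSt.subschι X Y hY)).obj I ⟶ M) (b : M ⟶ (Coh.push (VecSt.subschι X Z hZ)).obj J) (w : a ≫ b = 0) (hex : (ShortComplex.mk a b w).ShortExact) : TFOne.IsSimple X k (X ↘ Spec (CommRingCat.of k)) M ↔ ¬ IsSplitEpi b := by
  haveI := Groth.Agent.Lib.Lead.CurveEuler.isNoetherian k X
  have hfin : (irreducibleComponents (X : Type u)).Finite :=
    TopologicalSpace.NoetherianSpace.finite_irreducibleComponents
  haveI : Nonempty X := by
    obtain ⟨x, -⟩ := subcurve_nonempty hYs
    exact ⟨x⟩
  have hfinW : (irreducibleComponents (VecSt.subsch X Z hZ : Type u)).Finite := by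
    letI : (VecSt.subsch X Z hZ).Over (Spec (CommRingCat.of k)) :=
      ⟨VecSt.subschι X Z hZ ≫ (X ↘ Spec (CommRingCat.of k))⟩
    haveI : IsProper ((VecSt.subsch X Z hZ) ↘ Spec (CommRingCat.of k)) :=
      (inferInstance : IsProper (VecSt.subschι X Z hZ ≫ (X ↘ Spec (CommRingCat.of k))))
    haveI := Groth.Agent.Lib.Lead.CurveEuler.isNoetherian k (VecSt.subsch X Z hZ)
    exact TopologicalSpace.NoetherianSpace.finite_irreducibleComponents
  haveI : J.IsQuasicoherent := hJ.1.1
  haveI : ((Coh.push (VecSt.subschι X Z hZ)).obj J).IsQuasicoherent :=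
    Groth.Agent.Lib.helper7.QCohPushQC.isQuasicoherent_pushforward _ J
  obtain ⟨𝒮, h𝒮, -, hZ𝒮⟩ := hZs
  have hBtf := isTorsionFree_push_subsch hfin hZ 𝒮 h𝒮 hZ𝒮 hfinW J hJ.2.1
  obtain ⟨hA0, hAs⟩ := push_simple k X (VecSt.subschι X Y hY) I hIs
  obtain ⟨hB0, hBs⟩ := push_simple k X (VecSt.subschι X Z hZ) J hJs
  exact main k X hfin M _ _ hM hBtf hA0 hB0 hAs hBs a b w hex

end Groth.Agent.S18845
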