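import Groth.Statements.S7453
import Mathlib
import Groth.Agent.S7457
-- import your own Groth.Agent.* helpers here

set_option autoImplicit false
universe u
open CategoryTheory CategoryTheory.Limits AlgebraicGeometry
open Grpd

namespace Groth.Agent.S7453

lemma eq_of_cmp_inv_eq {S : Scheme.{u}} (G : Grpd.GroupoidScheme S) {T : Scheme.{u}}
    (a b : T ⟶ G.R) (v : T ⟶ G.U) (hab : a ≫ G.s = b ≫ G.s)
    (h1 : a ≫ G.s = (b ≫ G.i) ≫ G.t)
    (h : Groth.Agent.S7457.cmp G a (b ≫ G.i) h1 = v ≫ G.e) : a = b ∧ v = b ≫ G.t := by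
  have hu : v = b ≫ G.t := by
    have := congrArg (· ≫ G.s) h
    simp only [Groth.Agent.S7457.cmp_s, Category.assoc, G.e_s, G.i_s, Category.comp_id] at this
    exact this.symm
  refine ⟨?_, hu⟩
  have h3 := Groth.Agent.S7457.L3 G a b hab h1
    (by rw [Groth.Agent.S7457.cmp_s, Category.assoc, G.i_s])
  rw [← h3]
  have e1 : Groth.Agent.S7457.cmp G a (b ≫ G.i) h1 = b ≫ G.t ≫ G.e := by
    rw [h, hu, Category.assoc]
  rw [Groth.Agent.S7457.cmp_congr G _ e1 rfl]
  exact G.e_comp b

/-- Let (U, R, s, t, c) be a groupoid scheme over S with U the spectrum of a field. Then R is a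
separated scheme. (A groupoid scheme carries U, R, s, t, c, e, i over S with the groupoid axioms on
T-points; c is defined on the fibre product of s and t and sends a pair (a, b) with s(a) = t(b) to a
composed with b.) -/
theorem result (S : Scheme.{u}) (G : Grpd.GroupoidScheme S) (k : Type u) [Field k] (eU : G.U ≅ Spec (CommRingCat.of k)) : G.R.IsSeparated := by
  have hsub : Subsingleton G.U := eU.hom.homeomorph.subsingleton
  have haff : IsAffine G.U := .of_isIso eU.hom
  have he : IsClosedImmersion G.e := isClosedImmersion_of_comp_eq_id G.s G.e G.e_s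
  -- δ (a, b) = a ∘ b⁻¹
  have hδc : pullback.fst G.s G.s ≫ G.s = (pullback.snd G.s G.s ≫ G.i) ≫ G.t := by
    rw [Category.assoc, G.i_t, pullback.condition]
  have hw : pullback.diagonal G.s ≫
      Groth.Agent.S7457.cmp G (pullback.fst G.s G.s) (pullback.snd G.s G.s ≫ G.i) hδc =
      G.t ≫ G.e := by
    rw [Groth.Agent.S7457.pre_cmp]
    have e1 : pullback.diagonal G.s ≫ pullback.fst G.s G.s = 𝟙 _ := pullback.diagonal_fst _
    have e2 : pullback.diagonal G.s ≫ pullback.snd G.s G.s ≫ G.i = 𝟙 _ ≫ G.i := by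
      rw [← Category.assoc, pullback.diagonal_snd]
    rw [Groth.Agent.S7457.cmp_congr G _ e1 e2]
    exact (G.comp_i (𝟙 G.R)).trans (Category.id_comp _)
  have key : ∀ σ : PullbackCone
      (Groth.Agent.S7457.cmp G (pullback.fst G.s G.s) (pullback.snd G.s G.s ≫ G.i) hδc) G.e,
      σ.fst ≫ pullback.fst G.s G.s = σ.fst ≫ pullback.snd G.s G.s ∧
        σ.snd = (σ.fst ≫ pullback.snd G.s G.s) ≫ G.t := by
    intro σ
    have hc := σ.condition
    rw [Groth.Agent.S7457.pre_cmp] at hc
    have e2 : σ.fst ≫ pullback.snd G.s G.s ≫ G.i = (σ.fst ≫ pullback.snd G.s G.s) ≫ G.i :=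
      (Category.assoc _ _ _).symm
    rw [Groth.Agent.S7457.cmp_congr G _ rfl e2] at hc
    exact eq_of_cmp_inv_eq G _ _ _
      (by rw [Category.assoc, Category.assoc, pullback.condition]) _ hc
  have hpb : IsPullback (pullback.diagonal G.s) G.t
      (Groth.Agent.S7457.cmp G (pullback.fst G.s G.s) (pullback.snd G.s G.s ≫ G.i) hδc) G.e := by
    refine ⟨⟨hw⟩, ⟨PullbackCone.IsLimit.mk hw (fun σ => σ.fst ≫ pullback.fst G.s G.s) ?_ ?_ ?_⟩⟩
    · intro σ
      apply pullback.hom_ext
      · rw [Category.assoc, pullback.diagonal_fst, Category.comp_id]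
      · rw [Category.assoc, pullback.diagonal_snd, Category.comp_id]
        exact (key σ).1
    · intro σ
      rw [(key σ).2, (key σ).1]
    · intro σ m hm1 hm2
      rw [← hm1, Category.assoc, pullback.diagonal_fst, Category.comp_id]
  have hdiag : IsClosedImmersion (pullback.diagonal G.s) :=
    MorphismProperty.of_isPullback (P := @IsClosedImmersion) hpb.flip he
  have hsep : IsSeparated G.s := ⟨hdiag⟩
  refine ⟨?_⟩
  rw [← terminal.comp_from G.s]
  infer_instance

end Groth.Agent.S7453
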