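import Groth.Statements.S1886
import Mathlib
import Groth.Agent.S7457
import Groth.Agent.S7453
-- import your own Groth.Agent.* helpers here

set_option autoImplicit false
universe u
open CategoryTheory CategoryTheory.Limits AlgebraicGeometry
open Grpd

namespace Groth.Agent.S1886

open Groth.Agent.S7457 in
lemma key {S : Scheme.{u}} (G : Grpd.GroupoidScheme S) {Z : Scheme.{u}} (g : Z ⟶ G.R) (v : Z ⟶ G.U)
    (hZ : IsPullback g v G.j G.diag) (ε : G.U ⟶ Z) (hε1 : ε ≫ g = G.e) (hε2 : ε ≫ v = 𝟙 _) :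
    ∃ σ : pullback G.j G.j ⟶ Z, IsPullback (pullback.diagonal G.j) G.t σ ε := by
  have hjt : G.j ≫ pullback.fst G.pU G.pU = G.t := pullback.lift_fst _ _ _
  have hjs : G.j ≫ pullback.snd G.pU G.pU = G.s := pullback.lift_snd _ _ _
  have hdf : G.diag ≫ pullback.fst G.pU G.pU = 𝟙 _ := pullback.lift_fst _ _ _
  have hds : G.diag ≫ pullback.snd G.pU G.pU = 𝟙 _ := pullback.lift_snd _ _ _
  have ht : pullback.fst G.j G.j ≫ G.t = pullback.snd G.j G.j ≫ G.t := by
    rw [← hjt, ← Category.assoc, ← Category.assoc, pullback.condition]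
  have hs : pullback.fst G.j G.j ≫ G.s = pullback.snd G.j G.j ≫ G.s := by
    rw [← hjs, ← Category.assoc, ← Category.assoc, pullback.condition]
  have hγc : pullback.fst G.j G.j ≫ G.s = (pullback.snd G.j G.j ≫ G.i) ≫ G.t := by
    rw [Category.assoc, G.i_t, hs]
  have hγj : cmp G (pullback.fst G.j G.j) (pullback.snd G.j G.j ≫ G.i) hγc ≫ G.j
      = (pullback.snd G.j G.j ≫ G.t) ≫ G.diag := by
    apply pullback.hom_ext
    · simp only [Category.assoc, hjt, hdf, Category.comp_id, cmp_t]
      exact ht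
    · simp only [Category.assoc, hjs, hds, Category.comp_id, cmp_s, G.i_s]
  obtain ⟨σ, hσ1, hσ2⟩ : ∃ σ : pullback G.j G.j ⟶ Z,
      σ ≫ g = cmp G (pullback.fst G.j G.j) (pullback.snd G.j G.j ≫ G.i) hγc ∧
      σ ≫ v = pullback.snd G.j G.j ≫ G.t :=
    ⟨hZ.lift _ _ hγj, hZ.lift_fst _ _ _, hZ.lift_snd _ _ _⟩
  refine ⟨σ, ?_⟩
  have hw : pullback.diagonal G.j ≫ σ = G.t ≫ ε := by
    apply hZ.hom_ext
    · rw [Category.assoc, hσ1, Category.assoc, hε1, pre_cmp]
      have e1 : pullback.diagonal G.j ≫ pullback.fst G.j G.j = 𝟙 _ := pullback.diagonal_fst _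
      have e2 : pullback.diagonal G.j ≫ pullback.snd G.j G.j ≫ G.i = 𝟙 _ ≫ G.i := by
        rw [← Category.assoc, pullback.diagonal_snd]
      rw [cmp_congr G _ e1 e2]
      exact (G.comp_i (𝟙 G.R)).trans (Category.id_comp _)
    · rw [Category.assoc, hσ2, Category.assoc, hε2, Category.comp_id, ← Category.assoc,
        pullback.diagonal_snd, Category.id_comp]
  have hkey : ∀ τ : PullbackCone σ ε,
      τ.fst ≫ pullback.fst G.j G.j = τ.fst ≫ pullback.snd G.j G.j ∧
        τ.snd = (τ.fst ≫ pullback.snd G.j G.j) ≫ G.t := by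
    intro τ
    have hc := congrArg (· ≫ g) τ.condition
    simp only [Category.assoc, hσ1, hε1] at hc
    rw [pre_cmp] at hc
    have e2 : τ.fst ≫ pullback.snd G.j G.j ≫ G.i = (τ.fst ≫ pullback.snd G.j G.j) ≫ G.i :=
      (Category.assoc _ _ _).symm
    rw [cmp_congr G _ rfl e2] at hc
    exact Groth.Agent.S7453.eq_of_cmp_inv_eq G _ _ _
      (by rw [Category.assoc, Category.assoc, hs]) _ hc
  refine ⟨⟨hw⟩, ⟨PullbackCone.IsLimit.mk hw (fun τ => τ.fst ≫ pullback.fst G.j G.j) ?_ ?_ ?_⟩⟩
  · intro τ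
    apply pullback.hom_ext
    · rw [Category.assoc, pullback.diagonal_fst, Category.comp_id]
    · rw [Category.assoc, pullback.diagonal_snd, Category.comp_id]
      exact (hkey τ).1
  · intro τ
    rw [(hkey τ).2, (hkey τ).1]
  · intro τ m hm1 hm2
    rw [← hm1, Category.assoc, pullback.diagonal_fst, Category.comp_id]

/-- Let (U, R, s, t, c) be a groupoid scheme over S with stabilizer group scheme G → U and identity
section e : U → G. Then j = (t, s) : R → U ×_S U is separated iff G → U is separated iff e is a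
closed immersion; and j is quasi-separated iff G → U is quasi-separated iff e is quasi-compact. (A
groupoid scheme carries U, R, s, t, c, e, i over S with the groupoid axioms on T-points; 'finite
locally free' is finite, flat and locally of finite presentation; C ⊂ Γ(U) is the ring of functions
a with s♯(a) = t♯(a) and M = Spec C.) -/
theorem result (S : Scheme.{u}) (G : Grpd.GroupoidScheme S) : ((IsSeparated G.j ↔ IsSeparated G.stabilizerToU) ∧ (IsSeparated G.stabilizerToU ↔ IsClosedImmersion G.eStab)) ∧ ((QuasiSeparated G.j ↔ QuasiSeparated G.stabilizerToU) ∧ (QuasiSeparated G.stabilizerToU ↔ QuasiCompact G.eStab)) := by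
  have hε1 : G.eStab ≫ pullback.fst G.j G.diag = G.e := pullback.lift_fst _ _ _
  have hε2 : G.eStab ≫ G.stabilizerToU = 𝟙 _ := pullback.lift_snd _ _ _
  obtain ⟨σ, hσ⟩ := key G (pullback.fst G.j G.diag) G.stabilizerToU
    (IsPullback.of_hasPullback G.j G.diag) G.eStab hε1 hε2
  have h1 : IsSeparated G.j → IsSeparated G.stabilizerToU := by
    intro h
    exact MorphismProperty.pullback_snd (P := @IsSeparated) _ _ h
  have h2 : IsSeparated G.stabilizerToU → IsClosedImmersion G.eStab := by
    intro h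
    have : IsClosedImmersion (G.eStab ≫ G.stabilizerToU) := by rw [hε2]; infer_instance
    exact IsClosedImmersion.of_comp G.eStab G.stabilizerToU
  have h3 : IsClosedImmersion G.eStab → IsSeparated G.j := by
    intro h
    exact ⟨MorphismProperty.of_isPullback (P := @IsClosedImmersion) hσ.flip h⟩
  have h1' : QuasiSeparated G.j → QuasiSeparated G.stabilizerToU := by
    intro h
    exact MorphismProperty.pullback_snd (P := @QuasiSeparated) _ _ h
  have h2' : QuasiSeparated G.stabilizerToU → QuasiCompact G.eStab := by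
    intro h
    have : QuasiCompact (G.eStab ≫ G.stabilizerToU) := by rw [hε2]; infer_instance
    exact QuasiCompact.of_comp G.eStab G.stabilizerToU
  have h3' : QuasiCompact G.eStab → QuasiSeparated G.j := by
    intro h
    exact ⟨MorphismProperty.of_isPullback (P := @QuasiCompact) hσ.flip h⟩
  exact ⟨⟨⟨h1, fun h => h3 (h2 h)⟩, ⟨h2, fun h => h1 (h3 h)⟩⟩,
    ⟨⟨h1', fun h => h3' (h2' h)⟩, ⟨h2', fun h => h1' (h3' h)⟩⟩⟩

end Groth.Agent.S1886
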