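import Groth.Statements.S18861
-- import your own Groth.Agent.* helpers here

set_option autoImplicit false
universe u
open CategoryTheory MonoidalCategory CartesianMonoidalCategory MonObj GrpObj AlgebraicGeometry
open AlgGrp

namespace Groth.Agent.S18861

section
variable {S : Scheme.{u}} {G X : Over S} [GrpObj G] (a : AlgGrp.Action G X)

theorem act_mul {T : Over S} (g h : T ⟶ G) (x : T ⟶ X) :
    lift (g * h) x ≫ a.act = lift g (lift h x ≫ a.act) ≫ a.act := by
  have h1 : lift (g * h) x = lift (lift g h) x ≫ (μ[G] ▷ X) := by
    rw [Hom.mul_def]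
    ext <;> simp
  rw [h1, Category.assoc, a.mul_act]
  simp

theorem act_one {T : Over S} (x : T ⟶ X) : lift (1 : T ⟶ G) x ≫ a.act = x := by
  have h1 : lift (1 : T ⟶ G) x = lift (toUnit T) x ≫ (η[G] ▷ X) := by
    rw [Hom.one_def]
    ext <;> simp
  rw [h1, Category.assoc, a.one_act]
  simp

/-- The shear map `(g, x) ↦ (g, g • x)`. -/
noncomputable def shear : G ⊗ X ⟶ G ⊗ X := lift (fst G X) a.act

/-- The inverse shear map `(g, x) ↦ (g, g⁻¹ • x)`. -/
noncomputable def shearInv : G ⊗ X ⟶ G ⊗ X :=
  lift (fst G X) (lift ((fst G X)⁻¹) (snd G X) ≫ a.act)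

theorem shear_shearInv : shear a ≫ shearInv a = 𝟙 _ := by
  unfold shear shearInv
  apply CartesianMonoidalCategory.hom_ext
  · simp
  · simp only [comp_lift, lift_fst, lift_snd, Category.id_comp]
    have h1 : lift (fst G X) a.act ≫ (fst G X)⁻¹ = (fst G X)⁻¹ := by
      change lift (fst G X) a.act ≫ (fst G X ≫ ι) = fst G X ≫ ι
      rw [← Category.assoc, lift_fst]
    rw [← Category.assoc, comp_lift, h1, lift_snd]
    calc lift (fst G X)⁻¹ a.act ≫ a.act
        = lift (fst G X)⁻¹ (lift (fst G X) (snd G X) ≫ a.act) ≫ a.act := by simp
      _ = snd G X := by rw [← act_mul, inv_mul_cancel, act_one]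

theorem shearInv_shear : shearInv a ≫ shear a = 𝟙 _ := by
  unfold shear shearInv
  apply CartesianMonoidalCategory.hom_ext
  · simp
  · simp only [comp_lift, lift_fst, lift_snd, Category.id_comp]
    rw [← act_mul, mul_inv_cancel, act_one]

theorem act_eq : a.act = shear a ≫ snd G X := by
  unfold shear
  simp

theorem act_left_of_hom (P : MorphismProperty Scheme.{u}) [P.IsStableUnderBaseChange]
    [P.RespectsIso] (h : P G.hom) : P a.act.left := by
  have hiso : IsIso (shear a) := ⟨shearInv a, shear_shearInv a, shearInv_shear a⟩
  have hiso' : IsIso (shear a).left := (Over.forget S).map_isIso (shear a)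
  rw [act_eq a, Over.comp_left, P.cancel_left_of_respectsIso]
  exact P.pullback_snd _ _ h

end

/-- Let S be a scheme and G a group scheme over S acting on an S-scheme X, with action morphism G ×_S X
→ X. If G → S is surjective, resp. flat, resp. affine, resp. proper, resp. finite, resp. smooth,
then so is the action morphism. (The source works over a field, where G → S is automatically
faithfully flat, with G and X of finite type, and concludes that the action morphism is faithfully
flat, and smooth, affine, proper or finite when G is; the base and the finiteness conditions play no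
role.) -/
theorem result {S : Scheme.{u}} {G X : Over S} [GrpObj G]
    (a : AlgGrp.Action G X) :
    (Surjective G.hom → Surjective a.act.left) ∧ (Flat G.hom → Flat a.act.left) ∧
      (IsAffineHom G.hom → IsAffineHom a.act.left) ∧ (IsProper G.hom → IsProper a.act.left) ∧
      (IsFinite G.hom → IsFinite a.act.left) ∧ (Smooth G.hom → Smooth a.act.left) := by
  exact ⟨fun h => act_left_of_hom a @Surjective h, fun h => act_left_of_hom a @Flat h,
    fun h => act_left_of_hom a @IsAffineHom h, fun h => act_left_of_hom a @IsProper h,
    fun h => act_left_of_hom a @IsFinite h, fun h => act_left_of_hom a @Smooth h⟩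

end Groth.Agent.S18861
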