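import Groth.Statements.S18864
import Mathlib.RingTheory.Flat.Basic
import Mathlib.RingTheory.Flat.FaithfullyFlat.Basic
import Mathlib.RingTheory.Adjoin.Basic
import Mathlib.LinearAlgebra.Basis.VectorSpace
import Mathlib.RingTheory.Flat.Stability

set_option autoImplicit false
universe u v w
open HopfRep

namespace Groth.Agent.S18864

/-- Let k be a field and G = lim G_i a pro-algebraic group scheme over k, so that G = Spec A with A the
direct limit of the Hopf algebras A_i of the affine group schemes G_i of finite type; assume
moreover that the maps A_i → A are injective, so that A is the directed union of the A_i, here given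
as injective bialgebra maps A_i → A with directed, jointly covering images. Then every homomorphism
from G to an affine group scheme H = Spec B of finite type over k factors through some projection G
→ G_i: every bialgebra map f : B → A with B finitely generated as a k-algebra is the composite of
A_i → A with a bialgebra map B → A_i for some i. (The published statement allows arbitrary
transition maps in the system; this row assumes each A_i → A injective, the case the printed
argument treats. The source also states the pro-finite variant with H finite, which is the case of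
finite-dimensional A_i and B; finite generation of the A_i is not used.) -/
theorem result (k : Type u) [Field k]
    (A : Type v) [CommRing A] [HopfAlgebra k A] {ι : Type v} (Aι : ι → Type v)
    [∀ i, CommRing (Aι i)] [∀ i, HopfAlgebra k (Aι i)] (emb : ∀ i, Aι i →ₐc[k] A)
    (hinj : ∀ i, Function.Injective (emb i))
    (hdir : ∀ i j, ∃ l, Set.range (emb i) ⊆ Set.range (emb l) ∧ Set.range (emb j) ⊆ Set.range (emb l))
    (hcov : ∀ a : A, ∃ i, a ∈ Set.range (emb i))
    (B : Type w) [CommRing B] [HopfAlgebra k B] [Algebra.FiniteType k B] (f : B →ₐc[k] A) :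
    ∃ (i : ι) (g : B →ₐc[k] Aι i), (emb i).comp g = f := by
  classical
  -- a finite generating set of `B`
  obtain ⟨s, hs⟩ := (Algebra.FiniteType.out : (⊤ : Subalgebra k B).FG)
  -- a common stage for the images of the generators
  have hne : Nonempty ι := by
    obtain ⟨i, -⟩ := hcov 0
    exact ⟨i⟩
  have key : ∀ t : Finset B, ∃ l, ∀ b ∈ t, f b ∈ Set.range (emb l) := by
    intro t
    induction t using Finset.induction_on with
    | empty => exact ⟨hne.some, by simp⟩
    | insert b t _ ih =>
      obtain ⟨l₁, h₁⟩ := ih
      obtain ⟨l₂, h₂⟩ := hcov (f b)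
      obtain ⟨l, hl₁, hl₂⟩ := hdir l₁ l₂
      refine ⟨l, fun c hc => ?_⟩
      rcases Finset.mem_insert.mp hc with rfl | hc
      · exact hl₂ h₂
      · exact hl₁ (h₁ c hc)
  obtain ⟨l, hl⟩ := key s
  -- the image of `f` lies in the range of `emb l`
  have hrange : ∀ b : B, f b ∈ ((emb l : Aι l →ₐ[k] A)).range := by
    intro b
    have hb : b ∈ Algebra.adjoin k (s : Set B) := hs ▸ Algebra.mem_top
    induction hb using Algebra.adjoin_induction with
    | mem x hx => exact hl x hx
    | algebraMap r => 
      rw [AlgHomClass.commutes]
      exact Subalgebra.algebraMap_mem _ r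
    | add x y _ _ hx hy => rw [map_add]; exact Subalgebra.add_mem _ hx hy
    | mul x y _ _ hx hy => rw [map_mul]; exact Subalgebra.mul_mem _ hx hy
  choose g₀ hg₀ using hrange
  have hg₀' : ∀ b, emb l (g₀ b) = f b := hg₀
  let g₁ : B →ₐ[k] Aι l :=
    { toFun := g₀
      map_one' := hinj l (by rw [hg₀', map_one, map_one])
      map_mul' := fun x y => hinj l (by rw [hg₀', map_mul, map_mul, hg₀', hg₀'])
      map_zero' := hinj l (by rw [hg₀', map_zero, map_zero])
      map_add' := fun x y => hinj l (by rw [hg₀', map_add, map_add, hg₀', hg₀'])
      commutes' := fun r => hinj l (by rw [hg₀', AlgHomClass.commutes, AlgHomClass.commutes]) }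
  have hg₁ : ((emb l : Aι l →ₐ[k] A)).comp g₁ = (f : B →ₐ[k] A) := AlgHom.ext hg₀'
  have hinj2 : Function.Injective
      (Algebra.TensorProduct.map (emb l : Aι l →ₐ[k] A) (emb l : Aι l →ₐ[k] A)) := by
    have := TensorProduct.map_injective_of_flat_flat
      ((emb l : Aι l →ₐ[k] A).toLinearMap) ((emb l : Aι l →ₐ[k] A).toLinearMap) (hinj l) (hinj l)
    exact this
  refine ⟨l, BialgHom.ofAlgHom g₁ ?_ ?_, ?_⟩
  · rw [← BialgHom.counitAlgHom_comp (emb l), AlgHom.comp_assoc, hg₁, BialgHom.counitAlgHom_comp]
  · apply AlgHom.ext
    intro b
    apply hinj2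
    have h1 := congrArg (fun φ => φ b) (BialgHom.map_comp_comulAlgHom f)
    have h2 := congrArg (fun φ => φ (g₁ b)) (BialgHom.map_comp_comulAlgHom (emb l))
    simp only [AlgHom.comp_apply] at h1 h2 ⊢
    rw [h2, ← AlgHom.comp_apply, ← Algebra.TensorProduct.map_comp, hg₁, h1]
    exact congrArg _ (hg₀' b).symm
  · ext b
    exact hg₀' b

end Groth.Agent.S18864
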