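import Groth.Statements.S18878
import Mathlib
import Groth.Agent.Lib.Helper12.LimOver11

set_option autoImplicit false
universe u
open Lim

namespace Groth.Agent.S18878

open CategoryTheory AlgebraicGeometry in
/-- Let S = lim S_i be a cofiltered limit of schemes with affine transition morphisms over a
quasi-compact quasi-separated stage S_{i₀}, let G₀ be a group scheme separated and of finite
presentation over S_{i₀} and H₀ ⊆ G₀ a closed subscheme whose immersion is of finite presentation,
and write G, H (resp. G_i, H_i) for the base changes to S (resp. to a stage S_i). If H is a closed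
subgroup scheme of G, that is H carries a group structure over S for which H → G is a homomorphism,
then H_i is a closed subgroup scheme of G_i for some stage i → i₀; if moreover H is normal in G, the
stage can be chosen so that H_i is normal in G_i. (The published statement is for separated finitely
presented group algebraic spaces and an arbitrary closed subspace H₀; this row is the case of
schemes and assumes H₀ → G₀ of finite presentation: over the limit Spec k of the spectra of k[x_1,
x_2, …]/(x_1, …, x_n), k of characteristic zero, the closed subscheme of the additive group cut out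
by all x_m t^m becomes the whole additive group over Spec k but is a subgroup over no stage, so a
finiteness condition on H₀ is needed, and finite presentation is what the published limit argument
uses.) -/
theorem result
    {I : Type u} [SmallCategory I] [IsCofiltered I]
    (D : I ⥤ Scheme.{u}) (c : Limits.Cone D) (hc : Limits.IsLimit c)
    [∀ (i j : I) (a : i ⟶ j), IsAffineHom (D.map a)] (i₀ : I)
    [CompactSpace (D.obj i₀)] [QuasiSeparatedSpace (D.obj i₀)]
    (G₀ : Over (D.obj i₀)) [GrpObj G₀] [IsSeparated G₀.hom] [QuasiCompact G₀.hom]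
    [LocallyOfFinitePresentation G₀.hom]
    (H₀ : Over (D.obj i₀)) (ι₀ : H₀ ⟶ G₀) [IsClosedImmersion ι₀.left]
    [LocallyOfFinitePresentation ι₀.left]
    (hH : ∃ _ : GrpObj (Red.bc (c.π.app i₀) H₀), IsMonHom ((Over.pullback (c.π.app i₀)).map ι₀)) :
    (∃ (i : I) (a : i ⟶ i₀) (_ : GrpObj (Red.bc (D.map a) H₀)),
        IsMonHom ((Over.pullback (D.map a)).map ι₀)) ∧
    ((∃ (_ : GrpObj (Red.bc (c.π.app i₀) H₀)) (_ : IsMonHom ((Over.pullback (c.π.app i₀)).map ι₀)),
        AlgGrp.IsNormalHom ((Over.pullback (c.π.app i₀)).map ι₀)) →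
      ∃ (i : I) (a : i ⟶ i₀) (_ : GrpObj (Red.bc (D.map a) H₀))
        (_ : IsMonHom ((Over.pullback (D.map a)).map ι₀)),
        AlgGrp.IsNormalHom ((Over.pullback (D.map a)).map ι₀)) := by
  open Groth.Agent.Lib.helper12.LimOver in
  haveI : FP G₀ := ⟨inferInstance, inferInstance, inferInstance⟩
  haveI : FP H₀ := by
    have e : H₀.hom = ι₀.left ≫ G₀.hom := (Over.w ι₀).symm
    refine ⟨?_, ?_, ?_⟩
    · rw [e]; infer_instance
    · rw [e]; infer_instance
    · rw [e]; infer_instance
  haveI : Mono ι₀ := Over.mono_of_mono_left ι₀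
  constructor
  · have h0 : GrpFactsAt (c.π.app i₀) ι₀ := grpFactsAt_of_grp _ ι₀ hH
    obtain ⟨i, a, hia⟩ := exists_subgroup_stage' D c hc i₀ ι₀ h0
    haveI : Mono ((Over.pullback (D.map a)).map ι₀) := inferInstance
    obtain ⟨inst, hm⟩ := grp_of_grpFactsAt (D.map a) ι₀ hia
    exact ⟨i, a, inst, hm⟩
  · rintro ⟨inst, hm, hn⟩
    have h0 : GrpFactsAt (c.π.app i₀) ι₀ := grpFactsAt_of_grp _ ι₀ ⟨inst, hm⟩
    obtain ⟨i, a, hia, hna⟩ := exists_normal_subgroup_stage' D c hc i₀ ι₀ h0 hn
    haveI : Mono ((Over.pullback (D.map a)).map ι₀) := inferInstance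
    obtain ⟨inst', hm'⟩ := grp_of_grpFactsAt (D.map a) ι₀ hia
    exact ⟨i, a, inst', hm', hna⟩

end Groth.Agent.S18878
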