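import Groth.Statements.S18879
import Mathlib
import Groth.Agent.S9687
import Groth.Agent.Lib.Helper3.DimIneqSch2

set_option autoImplicit false
universe u
open CategoryTheory AlgebraicGeometry
open Resolve

namespace Groth.Agent.S18879

/-- Let f : Y ⟶ X be a morphism locally of finite type between Noetherian separated schemes which is
birational: it maps the maximal points of Y bijectively onto the maximal points of X, and over every
maximal point of X its fibre is one point with the same residue field. Then for every point y of Y,
the Krull dimension of the local ring of Y at y is at most the Krull dimension of the local ring of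
X at f y (the codimension of a point does not increase along f). -/
theorem result {X Y : Scheme.{u}} (f : Y ⟶ X)
    [IsNoetherian X] [X.IsSeparated] [IsNoetherian Y] [Y.IsSeparated] [LocallyOfFiniteType f]
    (hf : RadPt.IsBirational f) (y : Y) :
    ringKrullDim (Y.presheaf.stalk y) ≤ ringKrullDim (X.presheaf.stalk (f.base y)) := by
  haveI : IsLocallyNoetherian X := inferInstance
  obtain ⟨n, hn⟩ := Groth.Agent.Lib.helper3.DimIneq.exists_nat_td_residueFieldMap f y
  have key := Groth.Agent.S9687.result f y n 0 hn (by
    intro ξ hξ _
    have hξg : ξ ∈ genericPoints Y := hξ
    have h1 : f.base ξ ∈ genericPoints X := hf.1.mapsTo hξg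
    have h2 := (hf.2 (f.base ξ) h1).2 ξ rfl
    letI := (f.residueFieldMap ξ).hom.toAlgebra
    haveI : Algebra.IsAlgebraic (X.residueField (f.base ξ)) (Y.residueField ξ) :=
      Groth.Agent.Lib.helper3.DimIneq.isAlgebraic_of_surjective _ h2.2
    rw [_root_.trdeg_eq_zero]
    simp)
  simp only [Nat.cast_zero, add_zero] at key
  exact le_trans (le_add_of_nonneg_right (by exact_mod_cast Nat.zero_le n)) key

end Groth.Agent.S18879
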