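import Groth.Statements.S1888
import Mathlib
import Groth.Agent.S7457
-- import your own Groth.Agent.* helpers here

set_option autoImplicit false
universe u
open CategoryTheory CategoryTheory.Limits AlgebraicGeometry
open Grpd

namespace Groth.Agent.S1888

open Groth.Agent.S7457

/-- Let (U, R, s, t, c) be a groupoid scheme over S with U the spectrum of a field k, and r a point of R
such that both s and t induce isomorphisms from k to κ(r). Then there is an automorphism of the
scheme R carrying the identity point e to r. (The source's automorphism is x ↦ c(r, x); only the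
existence of an automorphism moving e to r is stated here.) (A groupoid scheme carries U, R, s, t,
c, e, i over S with the groupoid axioms on T-points; 'finite locally free' is finite, flat and
locally of finite presentation; C ⊂ Γ(U) is the ring of functions a with s♯(a) = t♯(a) and M = Spec
C.) -/
theorem result (S : Scheme.{u}) (G : Grpd.GroupoidScheme S) (k : Type u) [Field k] (eU : G.U ≅ Spec (CommRingCat.of k)) (r : G.R) (hs : IsIso (G.s.residueFieldMap r)) (ht : IsIso (G.t.residueFieldMap r)) : ∃ φ : G.R ≅ G.R, φ.hom (G.e (eU.inv (IsLocalRing.closedPoint k))) = r := by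
  classical
  -- the point r as a morphism from the spectrum of its residue field
  set ζ : Spec (G.R.residueField r) ⟶ G.R := G.R.fromSpecResidueField r with hζ
  have hζr : ∀ z, ζ z = r := fun z => Scheme.fromSpecResidueField_apply r z
  -- ζ ≫ s and ζ ≫ t are isomorphisms
  have key : ∀ (f : G.R ⟶ G.U), IsIso (f.residueFieldMap r) → IsIso (ζ ≫ f) := by
    intro f hf
    have h1 : ζ ≫ f = Spec.map (f.residueFieldMap r) ≫ G.U.fromSpecResidueField (f r) := by
      rw [hζ, Scheme.Hom.SpecMap_residueFieldMap_fromSpecResidueField]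
    -- G.U is the spectrum of a field, so fromSpecResidueField is an isomorphism
    have h2 : IsIso (G.U.fromSpecResidueField (f r)) := by
      haveI : Subsingleton ↥G.U := by
        haveI : Subsingleton ↥(Spec (CommRingCat.of k)) :=
          (inferInstance : Subsingleton (PrimeSpectrum k))
        exact (eU.hom.homeomorph.injective).subsingleton
      haveI : IsReduced G.U := isReduced_of_isOpenImmersion eU.hom
      haveI : IsClosedImmersion (G.U.fromSpecResidueField (f r)) :=
        isClosed_singleton_iff_isClosedImmersion.mp (Set.subsingleton_of_subsingleton.isClosed)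
      haveI : Surjective (G.U.fromSpecResidueField (f r)) := ⟨fun y => by
        have : y ∈ Set.range (G.U.fromSpecResidueField (f r)) := by
          rw [Scheme.range_fromSpecResidueField]
          exact Subsingleton.elim _ _
        exact this⟩
      exact isIso_of_isClosedImmersion_of_surjective _
    rw [h1]
    infer_instance
  haveI hsI : IsIso (ζ ≫ G.s) := key G.s hs
  haveI htI : IsIso (ζ ≫ G.t) := key G.t ht
  set σ : G.U ⟶ G.R := inv (ζ ≫ G.s) ≫ ζ with hσ
  have hσs : σ ≫ G.s = 𝟙 G.U := by rw [hσ, Category.assoc, IsIso.inv_hom_id]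
  set a : G.U ⟶ G.U := σ ≫ G.t with ha
  haveI haI : IsIso a := by
    rw [ha, hσ, Category.assoc]; infer_instance
  have hσpt : ∀ u, σ u = r := by
    intro u
    rw [hσ, Scheme.Hom.comp_apply, hζr]
  -- the two translations
  have hφ : (G.t ≫ σ) ≫ G.s = 𝟙 G.R ≫ G.t := by
    rw [Category.assoc, hσs, Category.comp_id, Category.id_comp]
  have hψ : ((G.t ≫ inv a ≫ σ) ≫ G.i) ≫ G.s = 𝟙 G.R ≫ G.t := by
    rw [Category.assoc, G.i_s, Category.assoc, Category.assoc, ← ha, IsIso.inv_hom_id,
      Category.comp_id, Category.id_comp]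
  set φ : G.R ⟶ G.R := cmp G (G.t ≫ σ) (𝟙 G.R) hφ with hφdef
  set ψ : G.R ⟶ G.R := cmp G ((G.t ≫ inv a ≫ σ) ≫ G.i) (𝟙 G.R) hψ with hψdef
  have hφt : φ ≫ G.t = G.t ≫ a := by
    rw [hφdef, cmp_t, Category.assoc]
  have hψt : ψ ≫ G.t = G.t ≫ inv a := by
    rw [hψdef, cmp_t, Category.assoc, G.i_t, Category.assoc, Category.assoc, hσs, Category.comp_id]
  have h12 : φ ≫ ψ = 𝟙 G.R := by
    have e1 : φ ≫ (G.t ≫ inv a ≫ σ) ≫ G.i = (G.t ≫ σ) ≫ G.i := by
      rw [Category.assoc, Category.assoc, ← Category.assoc φ, hφt]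
      simp only [Category.assoc, IsIso.hom_inv_id_assoc]
    rw [hψdef, pre_cmp, cmp_congr G _ e1 (Category.comp_id φ)]
    exact L2 G (G.t ≫ σ) (𝟙 G.R) hφ _
  have h21 : ψ ≫ φ = 𝟙 G.R := by
    have e1 : ψ ≫ G.t ≫ σ = G.t ≫ inv a ≫ σ := by
      rw [← Category.assoc, hψt, Category.assoc]
    rw [hφdef, pre_cmp, cmp_congr G _ e1 (Category.comp_id ψ)]
    refine L1 G (G.t ≫ inv a ≫ σ) (𝟙 G.R) ?_ hψ _
    rw [Category.assoc, Category.assoc, ← ha, IsIso.inv_hom_id, Category.comp_id, Category.id_comp]
  refine ⟨⟨φ, ψ, h12, h21⟩, ?_⟩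
  -- e ≫ φ = σ
  have heφ : G.e ≫ φ = σ := by
    have e1 : G.e ≫ G.t ≫ σ = σ := by rw [← Category.assoc, G.e_t, Category.id_comp]
    have e2 : G.e ≫ 𝟙 G.R = σ ≫ G.s ≫ G.e := by
      rw [Category.comp_id, ← Category.assoc, hσs, Category.id_comp]
    rw [hφdef, pre_cmp, cmp_congr G _ e1 e2]
    exact G.comp_e σ
  show φ (G.e (eU.inv (IsLocalRing.closedPoint k))) = r
  rw [← Scheme.Hom.comp_apply, heφ, hσpt]

end Groth.Agent.S1888
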