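import Groth.Statements.S18887
import Mathlib
-- import your own Groth.Agent.* helpers here

set_option autoImplicit false
universe u v
open DblCov

namespace Groth.Agent.S18887

/-- Polarised Cayley–Hamilton for `2 × 2` matrices. -/
theorem polarized_CH {A : Type u} [CommRing A] (X Y : Matrix (Fin 2) (Fin 2) A) :
    X * Y + Y * X = X.trace • Y + Y.trace • X - (X.trace * Y.trace - (X * Y).trace) • 1 := by
  ext i j
  fin_cases i <;> fin_cases j <;>
    simp [Matrix.mul_apply, Fin.sum_univ_two, Matrix.trace_fin_two] <;> ring

/-- The key identity in a free algebra of rank two. -/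
theorem two_mul_mul {A : Type u} {B : Type v} [CommRing A] [CommRing B] [Algebra A B]
    (bas : Module.Basis (Fin 2) A B) (b b' : B) :
    2 * (b * b') = Algebra.trace A B b • b' + Algebra.trace A B b' • b -
      (Algebra.trace A B b * Algebra.trace A B b' - Algebra.trace A B (b * b')) • (1 : B) := by
  apply Algebra.leftMulMatrix_injective bas
  have h := polarized_CH (Algebra.leftMulMatrix bas b) (Algebra.leftMulMatrix bas b')
  rw [← map_mul, ← map_mul, ← Algebra.trace_eq_matrix_trace bas,
    ← Algebra.trace_eq_matrix_trace bas, ← Algebra.trace_eq_matrix_trace bas,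
    mul_comm b' b, ← two_mul] at h
  rw [map_mul, map_sub, map_add, map_smul, map_smul, map_smul, map_one, map_ofNat]
  exact h

/-- Let A be a commutative ring in which 2 is invertible and B a commutative A-algebra which is free of
rank 2 as an A-module and whose trace form tr : B → A has kernel free of rank 1 over A. Then σ(b) =
tr(b) − b defines an A-algebra endomorphism σ of B with σ ≠ id and σ ∘ σ = id, and the elements
fixed by σ are exactly the image of A in B. -/
theorem result {A : Type u} {B : Type v} [CommRing A] [CommRing B]
    [Algebra A B] (h2 : IsUnit (2 : A)) [Module.Free A B] [Module.Finite A B]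
    (hrk : Module.finrank A B = 2)
    [Module.Free A (LinearMap.ker (Algebra.trace A B))]
    (hker : Module.finrank A (LinearMap.ker (Algebra.trace A B)) = 1) :
    ∃ σ : B →ₐ[A] B, (∀ b : B, σ b = algebraMap A B (Algebra.trace A B b) - b) ∧
      σ ≠ AlgHom.id A B ∧ σ.comp σ = AlgHom.id A B ∧
      ∀ b : B, σ b = b ↔ b ∈ Set.range (algebraMap A B) := by
  classical
  have hnt : Nontrivial A := by
    by_contra hn
    rw [not_nontrivial_iff_subsingleton] at hn
    haveI := hn
    have h1 := Module.finrank_subsingleton (R := A) (M := B)
    omega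
  have bas : Module.Basis (Fin 2) A B := Module.finBasisOfFinrankEq A B hrk
  have htr1 : ∀ a : A, Algebra.trace A B (algebraMap A B a) = 2 * a := by
    intro a
    rw [Algebra.trace_algebraMap, hrk, nsmul_eq_mul]; norm_num
  -- the linear map
  let σl : B →ₗ[A] B := (Algebra.linearMap A B).comp (Algebra.trace A B) - LinearMap.id
  have hσl : ∀ b, σl b = algebraMap A B (Algebra.trace A B b) - b := fun b => rfl
  have hone : σl 1 = 1 := by
    rw [hσl, ← map_one (algebraMap A B), htr1, ← map_sub]
    congr 1; ring
  have hmul : ∀ b b', σl (b * b') = σl b * σl b' := by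
    intro b b'
    rw [hσl, hσl, hσl]
    have key := two_mul_mul bas b b'
    simp only [Algebra.smul_def, mul_one] at key
    have : (algebraMap A B (Algebra.trace A B b) - b) * (algebraMap A B (Algebra.trace A B b') - b') -
        (algebraMap A B (Algebra.trace A B (b * b')) - b * b') =
        2 * (b * b') - (algebraMap A B (Algebra.trace A B b) * b' +
          algebraMap A B (Algebra.trace A B b') * b -
          algebraMap A B (Algebra.trace A B b * Algebra.trace A B b' -
            Algebra.trace A B (b * b'))) := by
      rw [RingHom.map_sub, RingHom.map_mul]; ring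
    rw [← key, sub_self] at this
    exact (sub_eq_zero.mp this).symm
  let σ : B →ₐ[A] B := AlgHom.ofLinearMap σl hone hmul
  have hσ : ∀ b, σ b = algebraMap A B (Algebra.trace A B b) - b := fun b => rfl
  obtain ⟨u, hu⟩ := h2
  have h2B : IsUnit (2 : B) := by
    have : (2 : B) = algebraMap A B (2 : A) := (map_ofNat (algebraMap A B) 2).symm
    rw [this, ← hu]; exact (u.isUnit).map (algebraMap A B)
  refine ⟨σ, hσ, ?_, ?_, ?_⟩
  · -- σ ≠ id
    intro hid
    have hkernt : Nontrivial (LinearMap.ker (Algebra.trace A B)) := by
      apply Module.nontrivial_of_finrank_pos (R := A)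
      omega
    obtain ⟨⟨w, hw⟩, hw0⟩ := exists_ne (0 : LinearMap.ker (Algebra.trace A B))
    have hw' : Algebra.trace A B w = 0 := hw
    have h1 : σ w = w := by rw [hid]; rfl
    rw [hσ, hw', map_zero, zero_sub] at h1
    have h2w : 2 * w = 0 := by
      have : w + w = 0 := by nth_rw 1 [← h1]; exact neg_add_cancel w
      rw [two_mul]; exact this
    have : w = 0 := (h2B.mul_right_eq_zero).mp h2w
    exact hw0 (Subtype.ext this)
  · -- involution
    ext b
    simp only [AlgHom.comp_apply, AlgHom.id_apply]
    rw [hσ, hσ, map_sub, htr1, map_sub, map_mul]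
    have : algebraMap A B 2 = 2 := map_ofNat (algebraMap A B) 2
    rw [this]; ring
  · intro b
    constructor
    · intro hb
      rw [hσ] at hb
      have h2b : 2 * b = algebraMap A B (Algebra.trace A B b) := by
        rw [two_mul]; nth_rw 1 [← hb]; ring
      refine ⟨(↑u⁻¹ : A) * Algebra.trace A B b, ?_⟩
      rw [map_mul, ← h2b, ← mul_assoc]
      have : algebraMap A B (↑u⁻¹ : A) * 2 = 1 := by
        have h3 : (2 : B) = algebraMap A B (u : A) := by
          rw [hu]; exact (map_ofNat (algebraMap A B) 2).symm
        rw [h3, ← map_mul, Units.inv_mul, map_one]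
      rw [this, one_mul]
    · rintro ⟨a, rfl⟩
      rw [hσ, htr1, ← map_sub]
      congr 1; ring

end Groth.Agent.S18887
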