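import Groth.Statements.S18888
import Mathlib

set_option autoImplicit false
universe u v w
open CAlg

namespace Groth.Agent.S18888

/-- Let A be a unique factorisation domain in which 2 is invertible, with fraction field K, and let L ⊇
K be a quadratic extension field (of degree 2 over K) containing an element y ∉ K whose square is a
squarefree element d of A. Then the integral closure of A in L equals the A-subalgebra A[y]
generated by y. -/
theorem result {A : Type u} {K : Type v} {L : Type w}
    [CommRing A] [IsDomain A] [UniqueFactorizationMonoid A] [Field K] [Algebra A K] [IsFractionRing A K]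
    [Field L] [Algebra K L] [Algebra A L] [IsScalarTower A K L]
    (h2 : IsUnit (2 : A)) (hL : Module.finrank K L = 2)
    (d : A) (hd : Squarefree d) (y : L) (hy : y * y = algebraMap A L d)
    (hyK : y ∉ Set.range (algebraMap K L)) :
    integralClosure A L = Algebra.adjoin A {y} := by
  classical
  have hic : IsIntegrallyClosed A := UniqueFactorizationMonoid.instIsIntegrallyClosed
  have hinjKL : Function.Injective (algebraMap K L) := (algebraMap K L).injective
  have hinjAK : Function.Injective (algebraMap A K) := IsFractionRing.injective A K
  have hAL : ∀ a : A, algebraMap A L a = algebraMap K L (algebraMap A K a) := fun a =>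
    IsScalarTower.algebraMap_apply A K L a
  -- y is integral
  have hyint : IsIntegral A y := by
    refine ⟨Polynomial.X ^ 2 - Polynomial.C d, Polynomial.monic_X_pow_sub_C d (by norm_num), ?_⟩
    simp [pow_two, hy]
  -- basis 1, y
  have hli : LinearIndependent K ![(1 : L), y] := by
    rw [LinearIndependent.pair_iff]
    intro s t h
    by_cases ht : t = 0
    · subst ht
      simp only [zero_smul, add_zero] at h
      have : algebraMap K L s = 0 := by rw [Algebra.algebraMap_eq_smul_one]; exact h
      exact ⟨hinjKL (by rw [this, map_zero]), rfl⟩
    · exfalso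
      apply hyK
      refine ⟨-s / t, ?_⟩
      have h1 : algebraMap K L s + algebraMap K L t * y = 0 := by
        rw [Algebra.algebraMap_eq_smul_one, ← Algebra.smul_def]; exact h
      have ht' : algebraMap K L t ≠ 0 := fun h0 => ht (hinjKL (by rw [h0, map_zero]))
      rw [map_div₀, map_neg]
      field_simp
      linear_combination -h1
  have hfd : FiniteDimensional K L := Module.finite_of_finrank_pos (by rw [hL]; norm_num)
  have hspan : Submodule.span K (Set.range ![(1 : L), y]) = ⊤ := by
    apply hli.span_eq_top_of_card_eq_finrank'
    simp [hL]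
  have hdecomp : ∀ z : L, ∃ a b : K, z = algebraMap K L a + algebraMap K L b * y := by
    intro z
    have hz : z ∈ Submodule.span K (Set.range ![(1 : L), y]) := by rw [hspan]; trivial
    have hr : Set.range ![(1 : L), y] = {1, y} := by
      ext w; simp [eq_comm, or_comm]
    rw [hr, Submodule.mem_span_pair] at hz
    obtain ⟨a, b, hab⟩ := hz
    refine ⟨a, b, ?_⟩
    rw [← hab, Algebra.algebraMap_eq_smul_one, Algebra.smul_def b y]
  apply le_antisymm
  · intro z hz
    have hzint : IsIntegral A z := hz
    obtain ⟨a, b, rfl⟩ := hdecomp z
    -- show a, b in A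
    suffices hab : a ∈ Set.range (algebraMap A K) ∧ b ∈ Set.range (algebraMap A K) by
      obtain ⟨⟨a', rfl⟩, ⟨b', rfl⟩⟩ := hab
      rw [← hAL, ← hAL]
      refine Subalgebra.add_mem _ (Subalgebra.algebraMap_mem _ a') ?_
      exact Subalgebra.mul_mem _ (Subalgebra.algebraMap_mem _ b') (Algebra.subset_adjoin rfl)
    by_cases hb : b = 0
    · subst hb
      simp only [map_zero, zero_mul, add_zero] at hzint
      refine ⟨?_, ⟨0, map_zero _⟩⟩
      have : IsIntegral A a := by
        rwa [isIntegral_algebraMap_iff hinjKL] at hzint
      exact IsIntegrallyClosed.isIntegral_iff.mp this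
    · set z := algebraMap K L a + algebraMap K L b * y with hzdef
      have hb' : algebraMap K L b ≠ 0 := fun h0 => hb (hinjKL (by rw [h0, map_zero]))
      have hzK : z ∉ Set.range (algebraMap K L) := by
        rintro ⟨c, hc⟩
        apply hyK
        refine ⟨(c - a) / b, ?_⟩
        rw [map_div₀, map_sub, hc, hzdef]
        field_simp
        ring
      have hzintK : IsIntegral K z := hzint.tower_top
      have hdeg : 2 ≤ (minpoly K z).natDegree := (minpoly.two_le_natDegree_iff hzintK).mpr hzK
      set q : Polynomial K := Polynomial.C 1 * Polynomial.X ^ 2 + Polynomial.C (-(2 * a)) * Polynomial.X +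
        Polynomial.C (a ^ 2 - b ^ 2 * algebraMap A K d) with hq
      have hqz : Polynomial.aeval z q = 0 := by
        simp only [hq, map_add, map_sub, map_mul, map_pow, map_neg, Polynomial.aeval_X, Polynomial.aeval_C,
          ← hAL, map_ofNat, map_one]
        rw [hzdef]
        linear_combination (algebraMap K L b) ^ 2 * hy
      have hqdeg : q.natDegree = 2 := Polynomial.natDegree_quadratic one_ne_zero
      have hqmonic : q.Monic := Polynomial.leadingCoeff_quadratic one_ne_zero
      have hmin : q = minpoly K z :=
        Polynomial.eq_of_monic_of_dvd_of_natDegree_le (minpoly.monic hzintK) hqmonic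
          (minpoly.dvd K z hqz) (hqdeg ▸ hdeg)
      have hmin2 : minpoly K z = (minpoly A z).map (algebraMap A K) :=
        minpoly.isIntegrallyClosed_eq_field_fractions' K hzint
      have hc1 : -(2 * a) = algebraMap A K ((minpoly A z).coeff 1) := by
        have := congrArg (fun p => Polynomial.coeff p 1) (hmin.trans hmin2)
        rw [hq] at this
        simp only [Polynomial.coeff_add, Polynomial.coeff_C_mul, Polynomial.coeff_X_pow,
          Polynomial.coeff_X, Polynomial.coeff_C, Polynomial.coeff_map] at this
        norm_num at this
        exact this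
      have hc0 : a ^ 2 - b ^ 2 * algebraMap A K d = algebraMap A K ((minpoly A z).coeff 0) := by
        have := congrArg (fun p => Polynomial.coeff p 0) (hmin.trans hmin2)
        rw [hq] at this
        simp only [Polynomial.coeff_add, Polynomial.coeff_C_mul, Polynomial.coeff_X_pow,
          Polynomial.coeff_X, Polynomial.coeff_C, Polynomial.coeff_map] at this
        norm_num at this
        exact this
      obtain ⟨t, ht⟩ := h2
      have ha : a = algebraMap A K (↑t⁻¹ * -((minpoly A z).coeff 1)) := by
        have h2' : algebraMap A K (↑t⁻¹ : A) * 2 = 1 := by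
          rw [← map_ofNat (algebraMap A K) 2, ← map_mul, ← ht, Units.inv_mul, map_one]
        rw [map_mul, map_neg, ← hc1]
        linear_combination (-a) * h2'
      refine ⟨⟨_, ha.symm⟩, ?_⟩
      set a' := (↑t⁻¹ * -((minpoly A z).coeff 1) : A) with ha'
      have hbd : b ^ 2 * algebraMap A K d = algebraMap A K (a' ^ 2 - (minpoly A z).coeff 0) := by
        rw [map_sub, map_pow, ← ha, ← hc0]; ring
      obtain ⟨u, v, hrel, huv⟩ := IsFractionRing.exists_reduced_fraction (A := A) (K := K) b
      have hv0 : algebraMap A K (v : A) ≠ 0 :=
        IsFractionRing.to_map_ne_zero_of_mem_nonZeroDivisors v.2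
      have hb2 : b * algebraMap A K (v : A) = algebraMap A K u := by
        rw [← huv, IsLocalization.mk'_spec]
      have heq : u * u * d = (a' ^ 2 - (minpoly A z).coeff 0) * ((v : A) * v) := by
        apply hinjAK
        simp only [map_mul]
        rw [← hbd, ← hb2]; ring
      have hvu : IsRelPrime (v : A) u := hrel.symm
      have h1 : IsRelPrime ((v : A) * v) (u * u) :=
        (hvu.mul_right hvu).mul_left (hvu.mul_right hvu)
      have h2 : (v : A) * v ∣ d := h1.dvd_of_dvd_mul_left ⟨_, heq.trans (mul_comm _ _)⟩
      have hvunit : IsUnit (v : A) := hd _ h2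
      obtain ⟨w, hw⟩ := hvunit
      refine ⟨u * ↑w⁻¹, ?_⟩
      rw [map_mul, ← hb2, ← hw, mul_assoc, ← map_mul, Units.mul_inv, map_one, mul_one]
  · apply Algebra.adjoin_le
    rintro w rfl
    exact hyint


end Groth.Agent.S18888
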