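import Groth.Statements.S18889
import Mathlib

set_option autoImplicit false
universe u v w
open CAlg

namespace Groth.Agent.S18889

universe u₀ v₀

open scoped TensorProduct

section Reynolds
variable {S : Type*} {M : Type*} [CommRing S] [CommRing M] [Algebra S M]
  (G : Type*) [Group G] [Fintype G] [MulSemiringAction G M] [SMulCommClass G S M]

/-- Reynolds-type operator `m ↦ c • ∑ g, g • m`. -/
noncomputable def rey (c : S) : M →ₗ[S] M :=
  c • ∑ g : G, DistribMulAction.toLinearMap S M g

variable {G}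

theorem rey_apply (c : S) (m : M) : rey G c m = c • ∑ g : G, g • m := by
  unfold rey
  rw [LinearMap.smul_apply, LinearMap.sum_apply]
  rfl

theorem smul_rey (c : S) (h : G) (m : M) : h • rey G c m = rey G c m := by
  rw [rey_apply, smul_comm h c]
  congr 1
  rw [Finset.smul_sum]
  exact Fintype.sum_equiv (Equiv.mulLeft h) _ _ (fun g => (mul_smul h g m).symm)

theorem rey_fixed (c : S) (hc : ((Fintype.card G : ℕ) : S) * c = 1) (m : M)
    (hm : ∀ g : G, g • m = m) : rey G c m = m := by
  have h1 : ∑ g : G, g • m = ∑ _g : G, m := Finset.sum_congr rfl (fun g _ => hm g)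
  rw [rey_apply, h1, Finset.sum_const, Finset.card_univ, ← Nat.cast_smul_eq_nsmul S, smul_smul,
    mul_comm, hc, one_smul]

theorem rey_mul (c : S) (b m : M) (hb : ∀ g : G, g • b = b) :
    rey G c (b * m) = b * rey G c m := by
  have h1 : ∑ g : G, g • (b * m) = ∑ g : G, b * g • m :=
    Finset.sum_congr rfl (fun g _ => by rw [smul_mul', hb g])
  rw [rey_apply, rey_apply, h1, ← Finset.mul_sum, mul_smul_comm]

end Reynolds

/-- `G` acts on `MvPolynomial (G × ι) S` by left translation of the variables. -/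
noncomputable def polyAct (G : Type*) [Group G] (ι : Type*) (S : Type*) [CommRing S] :
    MulSemiringAction G (MvPolynomial (G × ι) S) where
  smul g p := MvPolynomial.rename (fun q : G × ι => (g * q.1, q.2)) p
  one_smul p := by
    show MvPolynomial.rename (fun q : G × ι => ((1 : G) * q.1, q.2)) p = p
    have h : (fun q : G × ι => ((1 : G) * q.1, q.2)) = id := by
      funext q
      rw [one_mul]
      rfl
    rw [h, MvPolynomial.rename_id_apply]
  mul_smul g h p := by
    show MvPolynomial.rename (fun q : G × ι => (g * h * q.1, q.2)) p =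
      MvPolynomial.rename (fun q : G × ι => (g * q.1, q.2))
        (MvPolynomial.rename (fun q : G × ι => (h * q.1, q.2)) p)
    have hh : (fun q : G × ι => (g * h * q.1, q.2)) =
        (fun q : G × ι => (g * q.1, q.2)) ∘ (fun q : G × ι => (h * q.1, q.2)) := by
      funext q
      show (g * h * q.1, q.2) = (g * (h * q.1), q.2)
      rw [mul_assoc]
    rw [MvPolynomial.rename_rename, hh]
  smul_zero g := by
    show MvPolynomial.rename (fun q : G × ι => (g * q.1, q.2)) (0 : MvPolynomial (G × ι) S) = 0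
    exact map_zero _
  smul_add g p q := by
    show MvPolynomial.rename (fun q : G × ι => (g * q.1, q.2)) (p + q) =
      MvPolynomial.rename (fun q : G × ι => (g * q.1, q.2)) p +
        MvPolynomial.rename (fun q : G × ι => (g * q.1, q.2)) q
    exact map_add _ p q
  smul_one g := by
    show MvPolynomial.rename (fun q : G × ι => (g * q.1, q.2)) (1 : MvPolynomial (G × ι) S) = 1
    exact map_one _
  smul_mul g p q := by
    show MvPolynomial.rename (fun q : G × ι => (g * q.1, q.2)) (p * q) =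
      MvPolynomial.rename (fun q : G × ι => (g * q.1, q.2)) p *
        MvPolynomial.rename (fun q : G × ι => (g * q.1, q.2)) q
    exact map_mul _ p q

theorem polyAct_smulComm (G : Type*) [Group G] (ι : Type*) (S : Type*) [CommRing S] :
    letI := polyAct G ι S
    SMulCommClass G S (MvPolynomial (G × ι) S) :=
  letI := polyAct G ι S
  ⟨fun g r p => map_smul (MvPolynomial.rename (fun q : G × ι => (g * q.1, q.2))) r p⟩

theorem aeval_equivariant {R₀ : Type*} {R : Type*} {A : Type*} {G : Type*}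
    [CommRing R₀] [CommRing R] [Algebra R₀ R] [CommRing A] [Algebra R A]
    [Algebra R₀ A] [IsScalarTower R₀ R A]
    [Group G] [MulSemiringAction G A] [SMulCommClass G R A]
    {ι : Type*} (a : ι → A) (g : G) (p : MvPolynomial (G × ι) R₀) :
    MvPolynomial.aeval (R := R₀) (fun q : G × ι => q.1 • a q.2)
        (MvPolynomial.rename (fun q : G × ι => (g * q.1, q.2)) p) =
      g • MvPolynomial.aeval (R := R₀) (fun q : G × ι => q.1 • a q.2) p := by
  induction p using MvPolynomial.induction_on with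
  | C r =>
    rw [MvPolynomial.rename_C, MvPolynomial.aeval_C, IsScalarTower.algebraMap_apply R₀ R A,
      smul_algebraMap]
  | add p q hp hq => rw [map_add, map_add, hp, hq, map_add, smul_add]
  | mul_X p i hp =>
    rw [map_mul, MvPolynomial.rename_X, map_mul, hp, MvPolynomial.aeval_X, map_mul,
      MvPolynomial.aeval_X, smul_mul']
    congr 1
    exact mul_smul g i.1 (a i.2)

theorem lemX {R₀ : Type u₀} {R : Type u} {A : Type v} {P₀ : Type v₀} {G : Type w}
    [CommRing R₀] [IsNoetherianRing R₀] [CommRing R] [Algebra R₀ R] [CommRing A] [Algebra R A]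
    [Algebra R₀ A] [IsScalarTower R₀ R A] [Algebra.FinitePresentation R A]
    [CommRing P₀] [Algebra R₀ P₀] [Algebra.FinitePresentation R₀ P₀]
    [Group G] [Fintype G] [MulSemiringAction G A] [SMulCommClass G R A]
    [MulSemiringAction G P₀] [SMulCommClass G R₀ P₀]
    (B₀ : Subalgebra R₀ P₀) (hB₀ : ∀ p : P₀, p ∈ B₀ ↔ ∀ g : G, g • p = p)
    (u₀ : R₀) (hu₀ : ((Fintype.card G : ℕ) : R₀) * u₀ = 1)
    (φ₀ : P₀ →ₐ[R₀] A) (hφ₀ : ∀ (g : G) (p : P₀), φ₀ (g • p) = g • φ₀ p)
    (hsurj : Function.Surjective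
      (Algebra.TensorProduct.lift (Algebra.ofId R A) φ₀ (fun _ _ => Commute.all _ _))) :
    Algebra.FinitePresentation R (FixedPoints.subalgebra R A G) := by
  classical
  set Φ : R ⊗[R₀] P₀ →ₐ[R] A :=
    Algebra.TensorProduct.lift (Algebra.ofId R A) φ₀ (fun _ _ => Commute.all _ _) with hΦdef
  have hΦ : ∀ (r : R) (p : P₀), Φ (r ⊗ₜ[R₀] p) = algebraMap R A r * φ₀ p := fun r p => rfl
  have hmemA : ∀ a : A, a ∈ FixedPoints.subalgebra R A G ↔ ∀ g : G, g • a = a :=
    fun a => Iff.rfl
  -- the inverse of `|G|` in `R`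
  set u : R := algebraMap R₀ R u₀ with hudef
  have hu : ((Fintype.card G : ℕ) : R) * u = 1 := by
    have := congrArg (algebraMap R₀ R) hu₀
    rwa [map_mul, map_natCast, map_one] at this
  -- Step 1: `B₀` is finitely presented over `R₀` and `P₀` is finite over `B₀`
  haveI : Algebra.FiniteType R₀ P₀ := Algebra.FiniteType.of_finitePresentation
  haveI hinv : Algebra.IsInvariant B₀ P₀ G := ⟨fun b hb => ⟨⟨b, (hB₀ b).2 hb⟩, rfl⟩⟩
  haveI : Algebra.IsIntegral B₀ P₀ := Algebra.IsInvariant.isIntegral B₀ P₀ G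
  haveI : Algebra.FiniteType B₀ P₀ :=
    Algebra.FiniteType.of_restrictScalars_finiteType (R := R₀) (S := B₀) (A := P₀)
  haveI hfin : Module.Finite B₀ P₀ := Algebra.IsIntegral.finite
  haveI : Algebra.FiniteType R₀ B₀ :=
    ⟨fg_of_fg_of_fg (A := R₀) (B := B₀) (C := P₀) Algebra.FiniteType.out hfin.fg_top
      (fun x y h => Subtype.ext h)⟩
  haveI : Algebra.FinitePresentation R₀ B₀ :=
    Algebra.FinitePresentation.of_finiteType.mp inferInstance
  -- Reynolds operators
  set ρ₀ : P₀ →ₗ[R₀] P₀ := rey G u₀ with hρ₀def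
  have ρ₀_mem : ∀ p, ρ₀ p ∈ B₀ := fun p => (hB₀ _).2 (fun g => smul_rey u₀ g p)
  let ρ₀' : P₀ →ₗ[R₀] B₀ :=
    { toFun := fun p => ⟨ρ₀ p, ρ₀_mem p⟩
      map_add' := fun p q => Subtype.ext (map_add ρ₀ p q)
      map_smul' := fun c p => Subtype.ext (map_smul ρ₀ c p) }
  have hρ₀' : ∀ p, ((ρ₀' p : B₀) : P₀) = ρ₀ p := fun p => rfl
  let ρT : R ⊗[R₀] P₀ →ₗ[R] R ⊗[R₀] B₀ :=
    TensorProduct.AlgebraTensorModule.map (LinearMap.id : R →ₗ[R] R) ρ₀'
  have hρT : ∀ (r : R) (p : P₀), ρT (r ⊗ₜ[R₀] p) = r ⊗ₜ[R₀] ρ₀' p := fun r p => rfl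
  let ι : R ⊗[R₀] B₀ →ₐ[R] R ⊗[R₀] P₀ := Algebra.TensorProduct.map (AlgHom.id R R) B₀.val
  have hι : ∀ (r : R) (b : B₀), ι (r ⊗ₜ[R₀] b) = r ⊗ₜ[R₀] (b : P₀) := fun r b => rfl
  have T1 : ∀ y : R ⊗[R₀] B₀, ρT (ι y) = y := by
    intro y
    induction y using TensorProduct.induction_on with
    | zero => simp only [map_zero]
    | tmul r b =>
      rw [hι, hρT]
      rw [show ρ₀' (b : P₀) = b from
        Subtype.ext (rey_fixed u₀ hu₀ (b : P₀) ((hB₀ _).1 b.2))]
    | add x y hx hy => rw [map_add, map_add, hx, hy]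
  have T2 : ∀ (y : R ⊗[R₀] B₀) (x : R ⊗[R₀] P₀), ρT (ι y * x) = y * ρT x := by
    intro y x
    induction y using TensorProduct.induction_on with
    | zero => simp only [map_zero, zero_mul]
    | add y₁ y₂ h₁ h₂ => rw [map_add, add_mul, map_add, h₁, h₂, add_mul]
    | tmul r b =>
      induction x using TensorProduct.induction_on with
      | zero => simp only [map_zero, mul_zero]
      | add x₁ x₂ h₁ h₂ => rw [mul_add, map_add, h₁, h₂, map_add, mul_add]
      | tmul r' p =>
        rw [hι, Algebra.TensorProduct.tmul_mul_tmul, hρT, hρT,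
          Algebra.TensorProduct.tmul_mul_tmul]
        rw [show ρ₀' ((b : P₀) * p) = b * ρ₀' p from
          Subtype.ext (rey_mul u₀ (b : P₀) p ((hB₀ _).1 b.2))]
  set ρA : A →ₗ[R] A := rey G u with hρAdef
  have T3 : ∀ x : R ⊗[R₀] P₀, Φ (ι (ρT x)) = ρA (Φ x) := by
    intro x
    induction x using TensorProduct.induction_on with
    | zero => simp only [map_zero]
    | add x₁ x₂ h₁ h₂ => simp only [map_add, h₁, h₂]
    | tmul r p =>
      rw [hρT, hι, hΦ, hΦ]
      have h1 : φ₀ ((ρ₀' p : B₀) : P₀) = ρA (φ₀ p) := by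
        rw [hρ₀', hρ₀def, hρAdef, rey_apply, rey_apply, map_smul, map_sum]
        rw [Finset.sum_congr rfl (fun g _ => hφ₀ g p)]
        exact (algebraMap_smul R u₀ _).symm
      rw [h1, ← Algebra.smul_def, ← Algebra.smul_def, map_smul]
  have hΨmem : ∀ y : R ⊗[R₀] B₀, (Φ.comp ι) y ∈ FixedPoints.subalgebra R A G := by
    intro y
    refine (hmemA _).2 (fun g => ?_)
    have h := T3 (ι y)
    rw [T1] at h
    show g • Φ (ι y) = Φ (ι y)
    rw [h]
    exact smul_rey u g _
  let Ψ : R ⊗[R₀] B₀ →ₐ[R] FixedPoints.subalgebra R A G :=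
    (Φ.comp ι).codRestrict (FixedPoints.subalgebra R A G) hΨmem
  have hΨ : ∀ y, ((Ψ y : FixedPoints.subalgebra R A G) : A) = Φ (ι y) := fun y => rfl
  have hΨsurj : Function.Surjective Ψ := by
    rintro ⟨a, ha⟩
    obtain ⟨x, hx⟩ := hsurj a
    refine ⟨ρT x, Subtype.ext ?_⟩
    rw [hΨ, T3, hx]
    exact rey_fixed u hu a ((hmemA a).1 ha)
  -- generators of the kernel
  obtain ⟨s, e, he⟩ := Module.Finite.exists_fin (R := B₀) (M := P₀)
  have hJ : (RingHom.ker Φ.toRingHom).FG :=
    Algebra.FinitePresentation.ker_fG_of_surjective Φ hsurj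
  obtain ⟨S, hS⟩ := hJ
  have T5 : ∀ t : R ⊗[R₀] P₀, ∃ y : Fin s → R ⊗[R₀] B₀,
      t = ∑ j, ι (y j) * ((1 : R) ⊗ₜ[R₀] e j) := by
    intro t
    induction t using TensorProduct.induction_on with
    | zero => exact ⟨fun _ => 0, by simp only [map_zero, zero_mul, Finset.sum_const_zero]⟩
    | add t₁ t₂ h₁ h₂ =>
      obtain ⟨y₁, hy₁⟩ := h₁
      obtain ⟨y₂, hy₂⟩ := h₂
      refine ⟨fun j => y₁ j + y₂ j, ?_⟩
      simp only [map_add, add_mul, Finset.sum_add_distrib]
      rw [← hy₁, ← hy₂]
    | tmul r p =>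
      have hp : p ∈ Submodule.span B₀ (Set.range e) := by
        rw [he]
        exact Submodule.mem_top
      obtain ⟨c, hc⟩ := (Submodule.mem_span_range_iff_exists_fun B₀).1 hp
      refine ⟨fun j => r ⊗ₜ[R₀] c j, ?_⟩
      simp only [hι, Algebra.TensorProduct.tmul_mul_tmul, mul_one]
      rw [← TensorProduct.tmul_sum, ← hc]
      rfl
  let gens : Finset (R ⊗[R₀] B₀) :=
    (Finset.univ ×ˢ S).image
      (fun q : Fin s × (R ⊗[R₀] P₀) => ρT (((1 : R) ⊗ₜ[R₀] e q.1) * q.2))
  have hker : RingHom.ker Ψ.toRingHom = Ideal.span (gens : Set (R ⊗[R₀] B₀)) := by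
    apply le_antisymm
    · intro y hy
      have hy0 : Φ (ι y) = 0 := by
        have h := (RingHom.mem_ker).1 hy
        rw [← hΨ]
        exact congrArg Subtype.val h
      have hιy : ι y ∈ Ideal.span (S : Set (R ⊗[R₀] P₀)) := by
        rw [hS]
        exact (RingHom.mem_ker).2 hy0
      obtain ⟨f, -, hf⟩ := Submodule.mem_span_finset.1 hιy
      rw [← T1 y, ← hf, map_sum]
      refine Ideal.sum_mem _ (fun a ha => ?_)
      obtain ⟨c, hc⟩ := T5 (f a)
      rw [smul_eq_mul, hc, Finset.sum_mul, map_sum]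
      refine Ideal.sum_mem _ (fun j _ => ?_)
      rw [mul_assoc, T2]
      refine Ideal.mul_mem_left _ _ (Ideal.subset_span ?_)
      exact Finset.mem_coe.2 (Finset.mem_image.2
        ⟨(j, a), Finset.mem_product.2 ⟨Finset.mem_univ _, ha⟩, rfl⟩)
    · rw [Ideal.span_le]
      intro y hy
      obtain ⟨q, hq, rfl⟩ := Finset.mem_image.1 (Finset.mem_coe.1 hy)
      have hq2 : q.2 ∈ RingHom.ker Φ.toRingHom := by
        rw [← hS]
        exact Ideal.subset_span (Finset.mem_coe.2 (Finset.mem_product.1 hq).2)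
      refine (RingHom.mem_ker).2 (Subtype.ext ?_)
      show Φ (ι (ρT (((1 : R) ⊗ₜ[R₀] e q.1) * q.2))) = 0
      rw [T3, map_mul, show Φ q.2 = 0 from (RingHom.mem_ker).1 hq2, mul_zero, map_zero]
  haveI : Algebra.FinitePresentation R (R ⊗[R₀] B₀) := inferInstance
  refine Algebra.FinitePresentation.of_surjective (f := Ψ) hΨsurj ?_
  rw [hker]
  exact ⟨gens, rfl⟩

theorem main {R₀ : Type u₀} {R : Type u} {A : Type v} {G : Type w}
    [CommRing R₀] [IsNoetherianRing R₀] [CommRing R] [Algebra R₀ R] [CommRing A] [Algebra R A]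
    [Algebra R₀ A] [IsScalarTower R₀ R A] [Algebra.FinitePresentation R A]
    [Group G] [Fintype G] [MulSemiringAction G A] [SMulCommClass G R A]
    (u₀ : R₀) (hu₀ : ((Fintype.card G : ℕ) : R₀) * u₀ = 1) :
    Algebra.FinitePresentation R (FixedPoints.subalgebra R A G) := by
  classical
  obtain ⟨n, f, hf, -⟩ := Algebra.FinitePresentation.out (R := R) (A := A)
  letI := polyAct G (Fin n) R₀
  haveI := polyAct_smulComm G (Fin n) R₀
  refine lemX (FixedPoints.subalgebra R₀ (MvPolynomial (G × Fin n) R₀) G) (fun p => Iff.rfl)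
    u₀ hu₀
    (MvPolynomial.aeval (R := R₀) (fun q : G × Fin n => q.1 • f (MvPolynomial.X q.2)))
    (fun g p => aeval_equivariant (R := R) (fun i => f (MvPolynomial.X i)) g p) ?_
  intro x
  obtain ⟨q, rfl⟩ := hf x
  induction q using MvPolynomial.induction_on with
  | C r =>
    refine ⟨r ⊗ₜ 1, ?_⟩
    rw [Algebra.TensorProduct.lift_tmul, map_one, mul_one]
    exact (f.commutes r).symm
  | add p q hp hq =>
    obtain ⟨x, hx⟩ := hp
    obtain ⟨y, hy⟩ := hq
    exact ⟨x + y, by rw [map_add, hx, hy, map_add]⟩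
  | mul_X p i hp =>
    obtain ⟨x, hx⟩ := hp
    refine ⟨x * ((1 : R) ⊗ₜ MvPolynomial.X ((1 : G), i)), ?_⟩
    rw [map_mul, hx, Algebra.TensorProduct.lift_tmul, map_one, one_mul, map_mul,
      MvPolynomial.aeval_X]
    congr 1
    exact one_smul G _



/-- Let R be a commutative ring, A a commutative R-algebra of finite presentation, and G a finite group
acting on A by R-algebra automorphisms such that the order of G is invertible in R. Then the ring of
invariants A^G is an R-algebra of finite presentation. (The source takes G to be a group of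
automorphisms of A; here G acts through a possibly non-faithful action, which changes nothing since
the invariants and the invertibility of the order only depend on the image of G.) -/
theorem result {R : Type u} {A : Type v} [CommRing R] [CommRing A]
    [Algebra R A] [Algebra.FinitePresentation R A]
    {G : Type w} [Group G] [Finite G] [MulSemiringAction G A] [SMulCommClass G R A]
    (hG : IsUnit ((Nat.card G : ℕ) : R)) :
    Algebra.FinitePresentation R (FixedPoints.subalgebra R A G) := by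
  cases nonempty_fintype G
  obtain ⟨u, hu⟩ := hG.exists_right_inv
  rw [Nat.card_eq_fintype_card] at hu
  haveI : Algebra.FiniteType ℤ (Algebra.adjoin ℤ ({u} : Set R)) :=
    (Subalgebra.fg_iff_finiteType _).1 ⟨{u}, by rw [Finset.coe_singleton]⟩
  haveI : IsNoetherianRing (Algebra.adjoin ℤ ({u} : Set R)) :=
    Algebra.FiniteType.isNoetherianRing ℤ _
  refine main (R₀ := Algebra.adjoin ℤ ({u} : Set R))
    (⟨u, Algebra.subset_adjoin (Set.mem_singleton u)⟩ : Algebra.adjoin ℤ ({u} : Set R))
    (Subtype.ext ?_)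
  show ((Fintype.card G : ℕ) : R) * u = 1
  exact hu


end Groth.Agent.S18889
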