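import Groth.Statements.S18890
import Mathlib
-- import your own Groth.Agent.* helpers here

set_option autoImplicit false
universe u v w w'
open CAlg

namespace Groth.Agent.S18890

open TensorProduct

section avg
variable {R : Type u} [CommRing R] {G : Type v} [Group G] [Fintype G]
  {V : Type w} [AddCommGroup V] [Module R V]

/-- the averaging operator with normalising constant `c`. -/
noncomputable def avg (c : R) (ρ : Representation R G V) : V →ₗ[R] V := c • ∑ g : G, ρ g

lemma avg_apply (c : R) (ρ : Representation R G V) (v : V) :
    avg c ρ v = c • ∑ g : G, ρ g v := by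
  simp [avg, LinearMap.sum_apply]

lemma avg_mem (c : R) (ρ : Representation R G V) (v : V) : avg c ρ v ∈ ρ.invariants := by
  intro h
  rw [avg_apply, map_smul, map_sum]
  congr 1
  rw [← Equiv.sum_comp (Equiv.mulLeft h) (fun g => ρ g v)]
  refine Finset.sum_congr rfl fun g _ => ?_
  simp [map_mul]

lemma avg_of_mem (c : R) (hc : c * (Fintype.card G : R) = 1) (ρ : Representation R G V) (v : V)
    (hv : v ∈ ρ.invariants) : avg c ρ v = v := by
  rw [avg_apply]
  have : ∀ g : G, ρ g v = v := hv
  simp only [this, Finset.sum_const, Finset.card_univ]
  rw [← Nat.cast_smul_eq_nsmul R, smul_smul, hc, one_smul]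

end avg

/-- Let R be a commutative ring, G a finite group whose order is invertible in R, M an R-module with an
R-linear action ρ of G and N an arbitrary R-module. Then the natural map M^G ⊗_R N → M ⊗_R N induced
by the inclusion of the invariants is injective, and its image is the submodule of invariants of M
⊗_R N under the action ρ ⊗ 1 (G acting on the first factor). (The source lets G be a group of
R-automorphisms of M; a possibly non-faithful linear action changes nothing.) -/
theorem result {R : Type u} [CommRing R]
    {G : Type v} [Group G] [Finite G] (hG : IsUnit ((Nat.card G : ℕ) : R))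
    {M : Type w} {N : Type w'} [AddCommGroup M] [Module R M] [AddCommGroup N] [Module R N]
    (ρ : Representation R G M) :
    Function.Injective (LinearMap.rTensor N ρ.invariants.subtype) ∧
      LinearMap.range (LinearMap.rTensor N ρ.invariants.subtype) =
        (ρ.tprod (Representation.trivial R G N)).invariants := by
  classical
  haveI : Fintype G := Fintype.ofFinite G
  obtain ⟨u, hu⟩ := hG
  set c : R := ((u⁻¹ : Rˣ) : R) with hc
  have hcard : c * (Fintype.card G : R) = 1 := by
    rw [← Nat.card_eq_fintype_card, ← hu, hc, Units.inv_mul]
  set ι := ρ.invariants.subtype with hι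
  let e' : M →ₗ[R] ρ.invariants := LinearMap.codRestrict ρ.invariants (avg c ρ) (avg_mem c ρ)
  have he'ι : e' ∘ₗ ι = LinearMap.id := by
    apply LinearMap.ext
    intro v
    apply Subtype.ext
    exact avg_of_mem c hcard ρ v.1 v.2
  have hιe' : ι ∘ₗ e' = avg c ρ := by
    apply LinearMap.ext
    intro v
    rfl
  have htp : ∀ g : G, (ρ.tprod (Representation.trivial R G N)) g = LinearMap.rTensor N (ρ g) := by
    intro g
    rfl
  have havg : avg c (ρ.tprod (Representation.trivial R G N)) = LinearMap.rTensor N (avg c ρ) := by
    simp only [avg, htp, LinearMap.rTensor_smul]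
    congr 1
    exact (map_sum (LinearMap.rTensorHom N (N := M) (P := M) (R := R)) (fun g => ρ g) Finset.univ).symm
  constructor
  · have : (LinearMap.rTensor N e') ∘ₗ (LinearMap.rTensor N ι) = LinearMap.id := by
      rw [← LinearMap.rTensor_comp, he'ι, LinearMap.rTensor_id]
    exact Function.LeftInverse.injective (g := LinearMap.rTensor N e')
      (fun z => LinearMap.congr_fun this z)
  · apply le_antisymm
    · rintro _ ⟨z, rfl⟩
      intro g
      rw [htp, ← LinearMap.comp_apply, ← LinearMap.rTensor_comp]
      congr 2
      apply LinearMap.ext
      intro v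
      exact v.2 g
    · intro w hw
      have h1 := avg_of_mem c hcard _ w hw
      rw [havg, ← hιe', LinearMap.rTensor_comp] at h1
      exact ⟨_, h1⟩

end Groth.Agent.S18890
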