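import Groth.Statements.S18895
import Mathlib
import Groth.Agent.Lib.Helper18.Clifford
import Groth.Agent.Lib.Lead.VBCurve4

set_option autoImplicit false
universe u
open CategoryTheory CategoryTheory.Limits AlgebraicGeometry
open Curves

namespace Groth.Agent.S18895



/-- Let k be an algebraically closed field of characteristic different from 2 (the standing convention
of the section; it plays no role here) and X a connected smooth proper curve over k of genus dim_k
H¹(X, O_X) ≥ 1. For every invertible O_X-module L of positive degree one has dim_k H⁰(X, L) ≤ deg L. -/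
theorem result (k : Type u) [Field k] [IsAlgClosed k] (h2 : (2 : k) ≠ 0)
    (X : Scheme.{u}) [X.Over (Spec (CommRingCat.of k))]
    [IsProper (X ↘ Spec (CommRingCat.of k))] [Smooth (X ↘ Spec (CommRingCat.of k))] [ConnectedSpace ↥X]
    (hX : topologicalKrullDim ↥X = 1) (hg : 1 ≤ Curv2.genus k X)
    (L : X.Modules) (hL : PicF.IsInvertible L) (hdeg : 0 < Curv2.deg k X L 1) :
    (Module.finrank k (Coh.HH X L 0) : ℤ) ≤ Curv2.deg k X L 1 := by
  haveI : IsIntegral X := by
    haveI := Groth.Agent.Lib.Lead.CurveEuler.isNoetherian k X
    refine Groth.Agent.Lib.helper13.Normal.isIntegral_of_connected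
      (Groth.Agent.Lib.Lead.VBCurve.isNormalScheme_of_smooth k X) (fun U _ => ?_)
    haveI : TopologicalSpace.NoetherianSpace ((U : Set X) : Type u) :=
      TopologicalSpace.NoetherianSpace.set _
    exact TopologicalSpace.NoetherianSpace.finite_irreducibleComponents
  by_cases h0 : Nontrivial (Coh.HH X L 0)
  · by_cases h1 : Nontrivial (Coh.HH X L 1)
    · have hc := Groth.Agent.Lib.Helper18.Clifford.clifford k X hX.le hL h0 h1
      omega
    · rw [not_nontrivial_iff_subsingleton] at h1
      have := Groth.Agent.Lib.Helper18.Clifford.h0_eq_of_h1_subsingleton k X hX.le hL h1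
      omega
  · rw [not_nontrivial_iff_subsingleton] at h0
    have : Module.finrank k (Coh.HH X L 0) = 0 := Module.finrank_zero_of_subsingleton
    omega

end Groth.Agent.S18895
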