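import Groth.Statements.S18896
import Mathlib
import Groth.Agent.Lib.Helper18.NNRank
import Groth.Agent.Lib.Helper7.SteinU2
import Groth.Agent.Lib.Helper8.PullModComp2

set_option autoImplicit false
universe u
open CategoryTheory CategoryTheory.Limits AlgebraicGeometry
open Curves

namespace Groth.Agent.S18896

open Groth.Agent.Lib.Helper18.NNUnit Groth.Agent.Lib.Helper18.NNRank

/-- Let f : X → S be a smooth curve of genus g over a scheme S, i.e. f is proper and smooth and its
fibres are geometrically connected of dimension one and genus g (g the dimension of H¹ of the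
structure sheaf of each fibre over its residue field). Then R¹f_*(O_X) is a locally free O_S-module
of rank g. -/
theorem result {X S : Scheme.{u}} (f : X ⟶ S)
    [IsProper f] [Smooth f] [GeometricallyConnected f]
    (hdim : ∀ s : S, topologicalKrullDim ↥(f.fiber s) = 1) (g : ℕ)
    (hgen : ∀ s : S, letI : (f.fiber s).Over (Spec (S.residueField s)) := ⟨f.fiberToSpecResidueField s⟩
      Curv2.genus (S.residueField s) (f.fiber s) = g)
    [HasInjectiveResolutions X.Modules] :
    FlatMod.IsFinLocFreeOfRank g ((Coh.Rpush f 1).obj (Coh.structureModule X)) := by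
  haveI : LocallyOfFinitePresentation f := inferInstance
  have hdim' : ∀ s : S, topologicalKrullDim ↥(f.fiber s) ≤ 1 := fun s => (hdim s).le
  have h0 : ∀ s : S, IsIso (f.fiberToSpecResidueField s).appTop := by
    intro s
    haveI : IsProper (f.fiberToSpecResidueField s) :=
      MorphismProperty.of_isPullback (IsPullback.of_hasPullback f (S.fromSpecResidueField s))
        inferInstance
    haveI : Smooth (f.fiberToSpecResidueField s) :=
      MorphismProperty.of_isPullback (IsPullback.of_hasPullback f (S.fromSpecResidueField s))
        inferInstance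
    haveI : GeometricallyReduced (f.fiberToSpecResidueField s) :=
      Groth.Agent.Lib.helper7.SteinU.geometricallyReduced_of_smooth _
    exact Groth.Agent.Lib.helper7.SteinU.isIso_app (f.fiberToSpecResidueField s) ⊤
  have hflf := isFinLocFree_rpush_one_structureModule f hdim' h0
  haveI : (Coh.structureModule X).IsQuasicoherent := inferInstance
  refine isFinLocFreeOfRank_rpush f (Coh.structureModule X) (isFP_structureModule X)
    (isFlatOver_structureModule f) 1 g hflf
    (fun s => subsingleton_fiberH_of_dim_le f _ 1 s (hdim' s) 2 (by norm_num)) (fun s => ?_)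
  rw [← hgen s]
  letI : (f.fiber s).Over (Spec (S.residueField s)) := ⟨f.fiberToSpecResidueField s⟩
  let φ := Groth.Agent.Lib.helper8.PullModComp.mapEquiv
    (Groth.Agent.Lib.helper11.InvMod.pullbackUnitIso (f.fiberι s)) 1
  let ψ : CohIII.fiberH f (Coh.structureModule X) s 1 ≃ₗ[S.residueField s]
      Coh.HH (f.fiber s) (Coh.structureModule (f.fiber s)) 1 :=
    { φ with
      map_smul' := fun r x => φ.map_smul (Coh.toGlobal (f.fiberToSpecResidueField s) r) x }
  exact ψ.finrank_eq

end Groth.Agent.S18896
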