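import Groth.Statements.S18899
import Mathlib

set_option autoImplicit false
universe u v w
open CAlg

namespace Groth.Agent.S18899

/-- Let A be a commutative ring on which a finite group G acts by ring automorphisms, with ring of
invariants A^G, and let K be a field. If two ring homomorphisms f₁, f₂ : A → K have the same
restriction to A^G, then f₂ = f₁ ∘ γ for some γ ∈ G. -/
theorem result {A : Type u} [CommRing A] {G : Type v} [Group G] [Finite G]
    [MulSemiringAction G A] {K : Type w} [Field K] (f₁ f₂ : A →+* K)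
    (h : ∀ a : A, (∀ g : G, g • a = a) → f₁ a = f₂ a) :
    ∃ γ : G, ∀ a : A, f₂ a = f₁ (γ • a) := by
  open Pointwise in
  (
    classical
    have : Fintype G := Fintype.ofFinite G
    let A₀ : Subring A := FixedPoints.subring A G
    have hA₀ : ∀ a : A₀, ∀ g : G, g • (a : A) = a := fun a g => a.2 g
    have : SMulCommClass G A₀ A := ⟨fun g a b => by
      change g • ((a : A) * b) = (a : A) * (g • b)
      rw [smul_mul', a.2 g]⟩
    have : Algebra.IsInvariant A₀ A G := ⟨fun b hb => ⟨⟨b, fun g => hb g⟩, rfl⟩⟩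
    -- charpoly trick
    have trick : ∀ (φ ψ : A →+* K), (∀ a : A₀, φ a = ψ a) → ∀ a : A, ∃ g : G, ψ a = φ (g • a) := by
      intro φ ψ hφψ a
      obtain ⟨Q₀, hQ₀⟩ := Algebra.IsInvariant.charpoly_mem_lifts A₀ A G a
      have hmap : (MulSemiringAction.charpoly G a).map φ = (MulSemiringAction.charpoly G a).map ψ := by
        have hQ₀' : Q₀.map (algebraMap A₀ A) = MulSemiringAction.charpoly G a := hQ₀
        rw [← hQ₀', Polynomial.map_map, Polynomial.map_map]
        congr 1
        ext a₀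
        exact hφψ a₀
      have h0 : ((MulSemiringAction.charpoly G a).map φ).eval (ψ a) = 0 := by
        rw [hmap, Polynomial.eval_map, Polynomial.eval₂_at_apply,
          MulSemiringAction.eval_charpoly, map_zero]
      rw [MulSemiringAction.charpoly_eq, Polynomial.map_prod, Polynomial.eval_prod,
        Finset.prod_eq_zero_iff] at h0
      obtain ⟨g, -, hg⟩ := h0
      refine ⟨g, ?_⟩
      simpa [sub_eq_zero] using hg
    -- kernels are conjugate
    let P₁ : Ideal A := RingHom.ker f₁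
    let P₂ : Ideal A := RingHom.ker f₂
    have hP₁ : P₁.IsPrime := RingHom.ker_isPrime f₁
    have hP₂ : P₂.IsPrime := RingHom.ker_isPrime f₂
    have hunder : P₁.under A₀ = P₂.under A₀ := by
      ext a
      rw [Ideal.mem_comap, Ideal.mem_comap]
      change f₁ (a : A) = 0 ↔ f₂ (a : A) = 0
      rw [h (a : A) (fun g => a.2 g)]
    obtain ⟨g, hg⟩ := Algebra.IsInvariant.exists_smul_of_under_eq A₀ A G P₁ P₂ hunder
    let f₁' : A →+* K := f₁.comp (MulSemiringAction.toRingHom G A g⁻¹)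
    have hf₁' : ∀ a, f₁' a = f₁ (g⁻¹ • a) := fun a => rfl
    have hker : RingHom.ker f₁' = P₂ := by
      ext a
      rw [hg, RingHom.mem_ker, hf₁', ← inv_inv g, Ideal.mem_inv_pointwise_smul_iff, inv_inv]
      rfl
    have hagree : ∀ a : A₀, f₁' a = f₂ a := by
      intro a
      rw [hf₁', a.2 g⁻¹]
      exact h (a : A) (fun g => a.2 g)
    -- the two embeddings of A ⧸ P₂
    let ι₁ : A ⧸ P₂ →+* K := Ideal.Quotient.lift P₂ f₁' (fun a ha => by
      rw [← hker] at ha; exact ha)
    let ι₂ : A ⧸ P₂ →+* K := Ideal.Quotient.lift P₂ f₂ (fun a ha => ha)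
    have hι₁ : ∀ a, ι₁ (Ideal.Quotient.mk P₂ a) = f₁' a := fun a => rfl
    have hι₂ : ∀ a, ι₂ (Ideal.Quotient.mk P₂ a) = f₂ a := fun a => rfl
    have hι₁inj : Function.Injective ι₁ :=
      RingHom.lift_injective_of_ker_le_ideal P₂ _ (le_of_eq hker)
    have hι₂inj : Function.Injective ι₂ :=
      RingHom.lift_injective_of_ker_le_ideal P₂ _ le_rfl
    have hr12 : ∀ x : A ⧸ P₂, ∃ y : A ⧸ P₂, ι₁ y = ι₂ x := by
      intro x
      obtain ⟨a, rfl⟩ := Ideal.Quotient.mk_surjective x
      obtain ⟨γ, hγ⟩ := trick f₁' f₂ hagree a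
      exact ⟨Ideal.Quotient.mk P₂ (γ • a), by rw [hι₁, hι₂, hγ]⟩
    have hr21 : ∀ x : A ⧸ P₂, ∃ y : A ⧸ P₂, ι₂ y = ι₁ x := by
      intro x
      obtain ⟨a, rfl⟩ := Ideal.Quotient.mk_surjective x
      obtain ⟨γ, hγ⟩ := trick f₂ f₁' (fun a => (hagree a).symm) a
      exact ⟨Ideal.Quotient.mk P₂ (γ • a), by rw [hι₁, hι₂, hγ]⟩
    -- τ = ι₁⁻¹ ∘ ι₂
    let τf : A ⧸ P₂ → A ⧸ P₂ := fun x => (hr12 x).choose
    have hτf : ∀ x, ι₁ (τf x) = ι₂ x := fun x => (hr12 x).choose_spec
    let p : Ideal A₀ := P₂.under A₀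
    let τhom : (A ⧸ P₂) →ₐ[A₀ ⧸ p] (A ⧸ P₂) :=
      { toFun := τf
        map_one' := hι₁inj (by rw [hτf, map_one, map_one])
        map_mul' := fun x y => hι₁inj (by rw [hτf, map_mul, map_mul, hτf, hτf])
        map_zero' := hι₁inj (by rw [hτf, map_zero, map_zero])
        map_add' := fun x y => hι₁inj (by rw [hτf, map_add, map_add, hτf, hτf])
        commutes' := fun r => hι₁inj (by
          obtain ⟨a, rfl⟩ := Ideal.Quotient.mk_surjective r
          rw [hτf]
          change ι₂ (Ideal.Quotient.mk P₂ (a : A)) = ι₁ (Ideal.Quotient.mk P₂ (a : A))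
          rw [hι₁, hι₂, hagree]) }
    have hτbij : Function.Bijective τhom := by
      constructor
      · intro x y hxy
        apply hι₂inj
        have hx := hτf x
        have hy := hτf y
        have : τf x = τf y := hxy
        rw [← hx, ← hy, this]
      · intro y
        obtain ⟨x, hx⟩ := hr21 y
        refine ⟨x, hι₁inj ?_⟩
        change ι₁ (τf x) = ι₁ y
        rw [hτf, hx]
    let τ : (A ⧸ P₂) ≃ₐ[A₀ ⧸ p] (A ⧸ P₂) := AlgEquiv.ofBijective τhom hτbij
    obtain ⟨σ, hσ⟩ := Ideal.Quotient.stabilizerHom_surjective G p P₂ τ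
    refine ⟨g⁻¹ * (σ : G), fun a => ?_⟩
    have h1 := DFunLike.congr_fun hσ (Ideal.Quotient.mk P₂ a)
    rw [Ideal.Quotient.stabilizerHom_apply] at h1
    have h2 : τ (Ideal.Quotient.mk P₂ a) = τf (Ideal.Quotient.mk P₂ a) := rfl
    rw [h2] at h1
    have h3 := hτf (Ideal.Quotient.mk P₂ a)
    rw [← h1, hι₂] at h3
    rw [← h3]
    change f₁' ((σ : G) • a) = _
    rw [hf₁', mul_smul]
  )

end Groth.Agent.S18899
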