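import Groth.Statements.S1890
-- import your own Groth.Agent.* helpers here

set_option autoImplicit false
universe u
open CategoryTheory CategoryTheory.Limits AlgebraicGeometry
open Grpd

namespace Groth.Agent.S1890

/-- Take a quasi-compact immersion j : V → Spec A and an element f ∈ A such that j⁻¹(D(f)) is affine and
j(V) ∩ V(f) is closed in Spec A. Then V is affine. -/
theorem result (A : Type u) [CommRing A] (V : Scheme.{u}) (j : V ⟶ Spec (CommRingCat.of A)) [IsImmersion j] [QuasiCompact j] (f : A) (haff : IsAffineOpen (j ⁻¹ᵁ PrimeSpectrum.basicOpen f)) (hcl : IsClosed (Set.range ⇑j ∩ PrimeSpectrum.zeroLocus {f})) : IsAffine V := by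
  classical
  -- the closed complement of the coborder
  have hT : IsClosed (coborder (Set.range ⇑j))ᶜ :=
    j.isLocallyClosed_range.isOpen_coborder.isClosed_compl
  have hdisj : (Set.range ⇑j ∩ PrimeSpectrum.zeroLocus {f}) ∩ (coborder (Set.range ⇑j))ᶜ = ∅ := by
    ext x
    simp only [Set.mem_inter_iff, Set.mem_compl_iff, Set.mem_empty_iff_false, iff_false, not_and,
      not_not]
    intro hx
    exact subset_coborder hx.1
  obtain ⟨K, hK⟩ := (PrimeSpectrum.isClosed_iff_zeroLocus_ideal _).mp hcl
  obtain ⟨J, hJ⟩ := (PrimeSpectrum.isClosed_iff_zeroLocus_ideal _).mp hT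
  have hKJ : K ⊔ J = ⊤ := by
    rw [← PrimeSpectrum.zeroLocus_empty_iff_eq_top, PrimeSpectrum.zeroLocus_sup]
    rw [hK, hJ] at hdisj
    exact hdisj
  obtain ⟨k, hk, h, hh, hkh⟩ := Submodule.mem_sup.mp ((Ideal.eq_top_iff_one _).mp hKJ)
  -- pointwise forms
  have hCk : ∀ q : PrimeSpectrum A, q ∈ Set.range ⇑j → f ∈ q.asIdeal → k ∈ q.asIdeal := by
    intro q hq hf
    have h0 : q ∈ PrimeSpectrum.zeroLocus ({f} : Set A) :=
      (PrimeSpectrum.mem_zeroLocus q {f}).mpr (Set.singleton_subset_iff.mpr hf)
    have h1 : q ∈ Set.range ⇑j ∩ PrimeSpectrum.zeroLocus {f} := ⟨hq, h0⟩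
    rw [hK] at h1
    exact (PrimeSpectrum.mem_zeroLocus q (K : Set A)).mp h1 hk
  have hTh : ∀ q : PrimeSpectrum A, q ∉ coborder (Set.range ⇑j) → h ∈ q.asIdeal := by
    intro q hq
    have h1 : q ∈ (coborder (Set.range ⇑j))ᶜ := hq
    rw [hJ] at h1
    exact (PrimeSpectrum.mem_zeroLocus q (J : Set A)).mp h1 hh
  -- the two global sections
  let φ : A →+* Γ(V, ⊤) := (j.appTop.hom).comp (Scheme.ΓSpecIso (CommRingCat.of A)).inv.hom
  have hbo : ∀ a : A, V.basicOpen (φ a) = j ⁻¹ᵁ PrimeSpectrum.basicOpen a := by
    intro a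
    have h1 := Scheme.preimage_basicOpen_top j ((Scheme.ΓSpecIso (CommRingCat.of A)).inv.hom a)
    rw [basicOpen_eq_of_affine] at h1
    exact h1.symm
  refine isAffine_of_isAffineOpen_basicOpen {φ k, φ h} ?_ ?_
  · rw [Ideal.eq_top_iff_one]
    have : (1 : Γ(V, ⊤)) = φ k + φ h := by rw [← map_add, hkh, map_one]
    rw [this]
    exact Ideal.add_mem _ (Ideal.subset_span (by simp)) (Ideal.subset_span (by simp))
  · intro i hi
    simp only [Set.mem_insert_iff, Set.mem_singleton_iff] at hi
    rcases hi with rfl | rfl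
    · -- `V_k` is a basic open of the affine `j⁻¹ D(f)`
      rw [hbo]
      have hle : j ⁻¹ᵁ PrimeSpectrum.basicOpen k ≤ j ⁻¹ᵁ PrimeSpectrum.basicOpen f := by
        intro x hx
        change j x ∈ PrimeSpectrum.basicOpen f
        change j x ∈ PrimeSpectrum.basicOpen k at hx
        by_contra hxf
        refine hx (hCk (j x) ⟨x, rfl⟩ ?_)
        by_contra h'
        exact hxf h'
      have h2 := haff.basicOpen (V.presheaf.map (homOfLE le_top).op (φ k))
      rw [Scheme.basicOpen_res] at h2
      have h3 : j ⁻¹ᵁ PrimeSpectrum.basicOpen f ⊓ V.basicOpen (φ k) =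
          j ⁻¹ᵁ PrimeSpectrum.basicOpen k := by
        rw [hbo]
        exact inf_eq_right.mpr hle
      rwa [h3] at h2
    · -- `V_h → D(h)` is a closed immersion
      rw [hbo]
      let D : (Spec (CommRingCat.of A)).Opens := PrimeSpectrum.basicOpen h
      have hD : IsAffineOpen D := by
        have := (isAffineOpen_top (Spec (CommRingCat.of A))).basicOpen ((Scheme.ΓSpecIso (CommRingCat.of A)).inv.hom h)
        rwa [basicOpen_eq_of_affine] at this
      haveI : IsImmersion (j ∣_ D) := MorphismProperty.of_isPullback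
        (isPullback_morphismRestrict j D).flip inferInstance
      have hcr : IsClosed (Set.range ⇑(j ∣_ D)) := by
        have hr : Set.range ⇑(j ∣_ D) =
            (fun y : D => (y.1 : Spec (CommRingCat.of A))) ⁻¹' (closure (Set.range ⇑j)) := by
          ext y
          constructor
          · rintro ⟨x, rfl⟩
            apply subset_closure
            exact ⟨x.1, (morphismRestrict_base_coe j D x).symm⟩
          · intro hy
            have hyD : y.1 ∈ D := y.2
            have hyc : y.1 ∈ coborder (Set.range ⇑j) := by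
              by_contra hc
              exact hyD (hTh _ hc)
            rw [coborder_eq_union_closure_compl] at hyc
            rcases hyc with ⟨x, hx⟩ | hyc
            · have hxD : x ∈ j ⁻¹ᵁ D := by
                change j x ∈ D
                rw [hx]; exact hyD
              refine ⟨⟨x, hxD⟩, ?_⟩
              apply Subtype.ext
              exact (morphismRestrict_base_coe j D ⟨x, hxD⟩).trans hx
            · exact (hyc hy).elim
        rw [hr]
        exact isClosed_closure.preimage continuous_subtype_val
      haveI : IsClosedImmersion (j ∣_ D) := IsClosedImmersion.of_isPreimmersion _ hcr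
      haveI : IsAffine (D : Scheme.{u}) := hD
      exact isAffine_of_isAffineHom (j ∣_ D)

end Groth.Agent.S1890
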