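import Groth.Statements.S18905
import Groth.Agent.Lib.Helper14.DualNumUnram1

set_option autoImplicit false
universe u
open CategoryTheory CategoryTheory.Limits AlgebraicGeometry
open Mor

namespace Groth.Agent.S18905

/-- Let k be an algebraically closed field and X a scheme locally of finite type over k. Then X → Spec k
is formally unramified if and only if the map Hom_k(Spec k[ε], X) → Hom_k(Spec k, X) given by
restricting along the closed immersion of Spec k into Spec k[ε] (k[ε] the ring of dual numbers, ε ↦
0), is bijective; since that map is always surjective, the condition is stated as injectivity: two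
k-morphisms from Spec k[ε] to X which agree on Spec k are equal. -/
theorem result (k : Type u) [Field k] [IsAlgClosed k]
    {X : Scheme.{u}} (p : X ⟶ Spec (CommRingCat.of k)) [LocallyOfFiniteType p] :
    FormallyUnramified p ↔
      ∀ v₁ v₂ : Spec (CommRingCat.of (DualNumber k)) ⟶ X,
        v₁ ≫ p = Spec.map (CommRingCat.ofHom (algebraMap k (DualNumber k))) →
        v₂ ≫ p = Spec.map (CommRingCat.ofHom (algebraMap k (DualNumber k))) →
        Spec.map (CommRingCat.ofHom (TrivSqZeroExt.fstHom k k k).toRingHom) ≫ v₁ =
          Spec.map (CommRingCat.ofHom (TrivSqZeroExt.fstHom k k k).toRingHom) ≫ v₂ →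
        v₁ = v₂ := by
  constructor
  · intro hp v₁ v₂ h1 h2 h3
    have hs : Function.Surjective
        (CommRingCat.ofHom (TrivSqZeroExt.fstHom k k k).toRingHom).hom :=
      fun x => ⟨TrivSqZeroExt.inl x, rfl⟩
    haveI : IsClosedImmersion
        (Spec.map (CommRingCat.ofHom (TrivSqZeroExt.fstHom k k k).toRingHom)) :=
      IsClosedImmersion.spec_of_surjective _ hs
    have hnil := Groth.Agent.Lib.Helper14.DualNumUnram.isNilpotent_ker_SpecMap
      (CommRingCat.ofHom (TrivSqZeroExt.fstHom k k k).toRingHom) hs
      ⟨2, TrivSqZeroExt.kerIdeal_sq k k⟩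
    exact FormallyUnramified.hom_ext _ hnil p h3 (h1.trans h2.symm)
  · intro H
    rw [IsZariskiLocalAtSource.iff_of_openCover (P := @FormallyUnramified) X.affineCover]
    intro i
    haveI : IsOpenImmersion (X.affineCover.f i) := inferInstance
    haveI : LocallyOfFiniteType (X.affineCover.f i) := inferInstance
    have hlft : LocallyOfFiniteType (X.affineCover.f i ≫ p) :=
      MorphismProperty.comp_mem _ _ _ inferInstance inferInstance
    refine @Groth.Agent.Lib.Helper14.DualNumUnram.formallyUnramified_Spec_of_dualNumber k _ _ _
      (X.affineCover.f i ≫ p) hlft ?_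
    intro v₁ v₂ h1 h2 h3
    have h := H (v₁ ≫ X.affineCover.f i) (v₂ ≫ X.affineCover.f i)
      (by rw [Category.assoc]; exact h1) (by rw [Category.assoc]; exact h2)
      (by rw [← Category.assoc, ← Category.assoc, h3])
    exact (cancel_mono (X.affineCover.f i)).mp h

end Groth.Agent.S18905
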