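import Groth.Statements.S18908
import Mathlib

set_option autoImplicit false
universe u v w
open scoped TensorProduct
open CAlg

namespace Groth.Agent.S18908


section
variable (k : Type u) (K : Type v) (Ω : Type w)
    [Field k] [Field K] [Algebra k K] [FiniteDimensional k K]
    [Field Ω] [Algebra k Ω] [IsAlgClosed Ω]

/-- the canonical map `Ω ⊗ K → ∏_σ Ω`. -/
noncomputable def Φ : Ω ⊗[k] K →ₐ[Ω] ((K →ₐ[k] Ω) → Ω) :=
  AlgHom.pi (fun σ => Algebra.TensorProduct.lift (AlgHom.id Ω Ω) σ (fun _ _ => Commute.all _ _))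

lemma Φ_tmul (b : Ω) (a : K) (σ : K →ₐ[k] Ω) : Φ k K Ω (b ⊗ₜ a) σ = b * σ a := by
  simp [Φ]

lemma Φ_surjective : Function.Surjective (Φ k K Ω) := by
  classical
  haveI : Fintype (K →ₐ[k] Ω) := minpoly.AlgHom.fintype k K Ω
  have hΨ := Φ_tmul k K Ω
  show Function.Surjective (Φ k K Ω).toLinearMap
  rw [← LinearMap.range_eq_top]
  by_contra hne
  obtain ⟨f, hf0, hle⟩ := Submodule.exists_le_ker_of_lt_top _ (lt_top_iff_ne_top.mpr hne)
  apply hf0
  have hsum : ∀ a : K, ∑ σ : K →ₐ[k] Ω,
      (f fun τ => if σ = τ then 1 else 0) * σ a = 0 := by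
    intro a
    have hmem : (Φ k K Ω).toLinearMap (1 ⊗ₜ a) ∈ LinearMap.ker f := hle ⟨_, rfl⟩
    rw [LinearMap.mem_ker, LinearMap.pi_apply_eq_sum_univ f] at hmem
    refine Eq.trans ?_ hmem
    refine Finset.sum_congr rfl fun σ _ => ?_
    rw [AlgHom.toLinearMap_apply, hΨ, one_mul, smul_eq_mul, mul_comm]
  have hli := linearIndependent_toLinearMap k K Ω
  rw [Fintype.linearIndependent_iff] at hli
  have hc := hli (fun σ => f fun τ => if σ = τ then 1 else 0) (by
    ext a
    simp only [LinearMap.coe_sum, Finset.sum_apply, LinearMap.smul_apply, AlgHom.toLinearMap_apply,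
      smul_eq_mul, LinearMap.zero_apply]
    exact hsum a)
  refine LinearMap.ext fun w => ?_
  rw [LinearMap.pi_apply_eq_sum_univ f w]
  simp [hc]

lemma Φ_bijective [Algebra.IsSeparable k K] : Function.Bijective (Φ k K Ω) := by
  classical
  haveI : Fintype (K →ₐ[k] Ω) := minpoly.AlgHom.fintype k K Ω
  have hsurj := Φ_surjective k K Ω
  have hfin : Module.finrank Ω (Ω ⊗[k] K) = Module.finrank Ω ((K →ₐ[k] Ω) → Ω) := by
    rw [Module.finrank_baseChange, Module.finrank_fintype_fun_eq_card, Fintype.card_eq_nat_card,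
      AlgHom.natCard_of_splits k K Ω (fun _ => IsAlgClosed.splits _)]
  have hinj : Function.Injective (Φ k K Ω).toLinearMap :=
    (LinearMap.injective_iff_surjective_of_finrank_eq_finrank hfin).mpr hsurj
  exact ⟨hinj, hsurj⟩

end

/-- Let K ⊇ k be a finite field extension of degree n and Ω ⊇ k an algebraically closed extension. Then
K is separable over k if and only if Ω ⊗_k K is isomorphic, as an Ω-algebra, to the product of n
copies of Ω. (The source says 'for every (some) algebraically closed extension Ω'; the equivalence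
is stated for each fixed Ω, which gives both readings.) -/
theorem result (k : Type u) (K : Type v) (Ω : Type w)
    [Field k] [Field K] [Algebra k K] [FiniteDimensional k K]
    [Field Ω] [Algebra k Ω] [IsAlgClosed Ω] :
    Algebra.IsSeparable k K ↔ Nonempty ((Ω ⊗[k] K) ≃ₐ[Ω] (Fin (Module.finrank k K) → Ω)) := by
  classical
  haveI : Fintype (K →ₐ[k] Ω) := minpoly.AlgHom.fintype k K Ω
  constructor
  · intro hsep
    have hcard : Fintype.card (K →ₐ[k] Ω) = Module.finrank k K := by
      rw [Fintype.card_eq_nat_card, AlgHom.natCard_of_splits k K Ω (fun _ => IsAlgClosed.splits _)]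
    let e1 : (Ω ⊗[k] K) ≃ₐ[Ω] ((K →ₐ[k] Ω) → Ω) :=
      AlgEquiv.ofBijective (Φ k K Ω) (Φ_bijective k K Ω)
    let e2 : (K →ₐ[k] Ω) ≃ Fin (Module.finrank k K) := Fintype.equivFinOfCardEq hcard
    exact ⟨e1.trans (AlgEquiv.piCongrLeft' Ω (fun _ : (K →ₐ[k] Ω) => Ω) e2)⟩
  · rintro ⟨e⟩
    rw [← Field.finSepDegree_eq_finrank_iff]
    apply le_antisymm (Field.finSepDegree_le_finrank k K)
    rw [Field.finSepDegree_eq_of_isAlgClosed k K Ω, ← Fintype.card_eq_nat_card]
    -- construct an injection Fin n → (K →ₐ[k] Ω)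
    let τ : Fin (Module.finrank k K) → ((Ω ⊗[k] K) →ₐ[Ω] Ω) := fun i =>
      (Pi.evalAlgHom Ω (fun _ : Fin (Module.finrank k K) => Ω) i).comp e.toAlgHom
    let g : Fin (Module.finrank k K) → (K →ₐ[k] Ω) := fun i =>
      ((τ i).restrictScalars k).comp Algebra.TensorProduct.includeRight
    have hg : Function.Injective g := by
      intro i j hij
      have h1 : τ i = τ j := by
        apply Algebra.TensorProduct.ext'
        intro b a
        have hb : ∀ l, τ l (b ⊗ₜ[k] a) = b * g l a := by
          intro l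
          have : (b ⊗ₜ[k] a : Ω ⊗[k] K) = b • ((1 : Ω) ⊗ₜ[k] a) := by
            rw [TensorProduct.smul_tmul', smul_eq_mul, mul_one]
          rw [this, map_smul, smul_eq_mul]
          rfl
        rw [hb, hb, hij]
      by_contra hne
      have h2 := congrArg (fun t => t (e.symm (Pi.single i 1))) h1
      simp only [τ, AlgHom.comp_apply, Pi.evalAlgHom_apply] at h2
      have h3 : ((e : Ω ⊗[k] K →ₐ[Ω] (Fin (Module.finrank k K) → Ω))
          (e.symm (Pi.single i 1))) = Pi.single i 1 :=
        e.apply_symm_apply _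
      rw [h3, Pi.single_eq_same, Pi.single_eq_of_ne (Ne.symm hne)] at h2
      exact one_ne_zero h2
    simpa using Fintype.card_le_of_injective g hg

end Groth.Agent.S18908
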