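import Groth.Statements.S18912
import Mathlib

set_option autoImplicit false
universe u
open CategoryTheory CategoryTheory.Limits AlgebraicGeometry
open TFNodal

namespace Groth.Agent.S18912

/-- Let k be an algebraically closed field of characteristic zero, X a reduced scheme locally of finite
type over k, F an O_X-module, d ≥ 1 an integer and τ, τ' : F → O_X two O_X-linear maps whose d-th
symmetric powers agree, in the sense that for every open U and all sections a_1, …, a_d of F over U
the products τ(a_1)⋯τ(a_d) and τ'(a_1)⋯τ'(a_d) coincide in Γ(U, O_X). Then for every point η of X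
whose local ring is a field (a generic point of an irreducible component) there is a d-th root of
unity ξ in k such that, for every section a of F over an open containing η, the germ of τ'(a) at η
is ξ times the germ of τ(a). The published statement is for a coherent module on a projective nodal
curve and concludes that τ' = ξ τ with one root of unity ξ on each connected component; that form
fails for the union of two lines meeting at a node, F the ideal of the node, τ the inclusion and τ'
equal to τ on one line and to −τ on the other (d = 2), so the conclusion is stated here at each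
generic point, i.e. per irreducible component, which is what the stalkwise argument yields. -/
theorem result
    (k : Type u) [Field k] [IsAlgClosed k] [CharZero k]
    (X : Scheme.{u}) [X.Over (Spec (CommRingCat.of k))]
    [LocallyOfFiniteType (X ↘ Spec (CommRingCat.of k))] [AlgebraicGeometry.IsReduced X]
    (F : X.Modules) (τ τ' : F ⟶ Coh.structureModule X) (d : ℕ) (hd : 1 ≤ d)
    (hS : ∀ (U : X.Opens) (a : Fin d → Γ(F, U)),
      (∏ i, (τ.app U (a i) : Γ(X, U)) : Γ(X, U)) = (∏ i, (τ'.app U (a i) : Γ(X, U)) : Γ(X, U)))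
    (η : X) (hη : IsField (X.presheaf.stalk η)) :
    ∃ ξ : k, ξ ^ d = 1 ∧ ∀ (U : X.Opens) (hU : η ∈ U) (a : Γ(F, U)),
      (X.presheaf.germ U η hU (τ'.app U a : Γ(X, U)) : X.presheaf.stalk η) =
        Curv2.stalkMap k X η ξ * X.presheaf.germ U η hU (τ.app U a : Γ(X, U)) := by
  classical
  haveI : IsDomain (X.presheaf.stalk η) := hη.isDomain
  let φ : k →+* X.presheaf.stalk η := Curv2.stalkMap k X η
  have hres : ∀ (σ : F ⟶ Coh.structureModule X) (U V : X.Opens) (hV : η ∈ V) (i : V ⟶ U)
      (a : Γ(F, U)),
      (X.presheaf.germ V η hV (σ.app V (F.presheaf.map i.op a) : Γ(X, V)) : X.presheaf.stalk η) =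
        X.presheaf.germ U η (i.le hV) (σ.app U a : Γ(X, U)) := by
    intro σ U V hV i a
    have hnat : σ.app V (F.presheaf.map i.op a) =
        (Coh.structureModule X).presheaf.map i.op (σ.app U a) := by
      have := σ.mapPresheaf.naturality i.op
      exact congrArg (fun f => f a) this
    rw [hnat]
    exact TopCat.Presheaf.germ_res_apply X.presheaf i η hV _
  obtain ⟨e, rfl⟩ : ∃ e, d = e + 1 := ⟨d - 1, by omega⟩
  -- the basic identity on one open
  have hB : ∀ (W : X.Opens) (hW : η ∈ W) (b c : Γ(F, W)),
      (X.presheaf.germ W η hW (τ.app W b : Γ(X, W)) : X.presheaf.stalk η) *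
          (X.presheaf.germ W η hW (τ.app W c : Γ(X, W))) ^ e =
        (X.presheaf.germ W η hW (τ'.app W b : Γ(X, W)) : X.presheaf.stalk η) *
          (X.presheaf.germ W η hW (τ'.app W c : Γ(X, W))) ^ e := by
    intro W hW b c
    have h1 := congrArg (fun s : Γ(X, W) => (X.presheaf.germ W η hW s : X.presheaf.stalk η))
      (hS W (Fin.cons b (fun _ => c)))
    simp only [Fin.prod_univ_succ, Fin.cons_zero, Fin.cons_succ, Finset.prod_const,
      Finset.card_univ, Fintype.card_fin, map_mul, map_pow] at h1
    exact h1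
  by_cases hall : ∀ (U : X.Opens) (hU : η ∈ U) (a : Γ(F, U)),
      (X.presheaf.germ U η hU (τ.app U a : Γ(X, U)) : X.presheaf.stalk η) = 0
  · refine ⟨1, one_pow _, fun U hU a => ?_⟩
    have h1 := hB U hU a a
    rw [hall U hU a, ← pow_succ', ← pow_succ', zero_pow (Nat.succ_ne_zero e)] at h1
    have h2 := pow_eq_zero_iff (Nat.succ_ne_zero e) |>.mp h1.symm
    rw [h2, hall U hU a, mul_zero]
  · push Not at hall
    obtain ⟨U₀, hU₀, a₀, hu⟩ := hall
    set u : X.presheaf.stalk η := X.presheaf.germ U₀ η hU₀ (τ.app U₀ a₀ : Γ(X, U₀)) with hu_def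
    set u' : X.presheaf.stalk η := X.presheaf.germ U₀ η hU₀ (τ'.app U₀ a₀ : Γ(X, U₀)) with hu'_def
    obtain ⟨v, hv⟩ := hη.mul_inv_cancel hu
    have huu : u ^ (e + 1) = u' ^ (e + 1) := by
      have := hB U₀ hU₀ a₀ a₀
      rw [← pow_succ', ← pow_succ'] at this
      exact this
    set ζ : X.presheaf.stalk η := u' * v with hζ_def
    have hζu : ζ * u = u' := by
      rw [hζ_def, mul_assoc, mul_comm v u, hv, mul_one]
    have hζd : ζ ^ (e + 1) = 1 := by
      rw [hζ_def, mul_pow, ← huu, ← mul_pow, hv, one_pow]
    -- ζ comes from k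
    letI : Algebra k (X.presheaf.stalk η) := φ.toAlgebra
    have hint : IsIntegral k ζ := by
      refine ⟨Polynomial.X ^ (e + 1) - 1, Polynomial.monic_X_pow_sub_C (1 : k) (Nat.succ_ne_zero e), ?_⟩
      simp [hζd]
    haveI : Algebra.IsIntegral k (Algebra.adjoin k {ζ}) :=
      Algebra.IsIntegral.adjoin (fun x hx => by rw [Set.mem_singleton_iff.mp hx]; exact hint)
    obtain ⟨ξ, hξ⟩ := (IsAlgClosed.algebraMap_bijective_of_isIntegral (k := k)
      (K := Algebra.adjoin k {ζ})).2 ⟨ζ, Algebra.subset_adjoin (Set.mem_singleton ζ)⟩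
    have hξζ : φ ξ = ζ := congrArg Subtype.val hξ
    have hφinj : Function.Injective φ := φ.injective
    refine ⟨ξ, hφinj (by rw [map_pow, hξζ, hζd, map_one]), fun U hU a => ?_⟩
    show _ = φ ξ * _
    rw [hξζ]
    -- restrict to W = U ⊓ U₀
    have hW : η ∈ U ⊓ U₀ := ⟨hU, hU₀⟩
    have h1 := hB (U ⊓ U₀) hW (F.presheaf.map (homOfLE inf_le_left).op a)
      (F.presheaf.map (homOfLE inf_le_right).op a₀)
    rw [hres τ U (U ⊓ U₀) hW (homOfLE inf_le_left) a,
      hres τ U₀ (U ⊓ U₀) hW (homOfLE inf_le_right) a₀,
      hres τ' U (U ⊓ U₀) hW (homOfLE inf_le_left) a,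
      hres τ' U₀ (U ⊓ U₀) hW (homOfLE inf_le_right) a₀] at h1
    change _ * u ^ e = _ * u' ^ e at h1
    rw [← hζu, mul_pow, ← mul_assoc] at h1
    have hue : u ^ e ≠ 0 := pow_ne_zero e hu
    have h2 := mul_right_cancel₀ hue h1
    -- h2 : t a = t' a * ζ^e
    rw [h2, mul_comm ζ, mul_assoc, ← pow_succ, hζd, mul_one]

end Groth.Agent.S18912
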