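import Groth.Statements.S18915
import Groth.Agent.Lib.Helper24.HartogsProd

set_option autoImplicit false
universe u
open CategoryTheory CategoryTheory.Limits AlgebraicGeometry
open TFNodal

namespace Groth.Agent.S18915

/-- Let k be an algebraically closed field of characteristic zero, X a reduced proper curve over k (a
proper k-scheme of dimension one) without isolated points (no closed point is open, i.e. X is
one-dimensional at every point), C a smooth irreducible k-scheme of dimension one and c a closed
point of C. Put Z = X ×_k C with projections p_X and p_C, let Y be a nonempty finite set of closed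
points of Z lying over c, and let j : U → Z be the inclusion of the open complement of Y. Then for
every coherent torsion free O_X-module F (every stalk a torsion free module over the local ring),
the unit map p_X^* F → j_* j^* (p_X^* F) is an isomorphism. -/
theorem result
    (k : Type u) [Field k] [IsAlgClosed k] [CharZero k]
    (X : Scheme.{u}) [X.Over (Spec (CommRingCat.of k))] [IsProper (X ↘ Spec (CommRingCat.of k))]
    [AlgebraicGeometry.IsReduced X] (hdim : topologicalKrullDim X = 1)
    (hpure : ∀ x : X, IsClosed ({x} : Set X) → ¬ IsOpen ({x} : Set X))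
    (C : Scheme.{u}) [C.Over (Spec (CommRingCat.of k))] [Smooth (C ↘ Spec (CommRingCat.of k))]
    [IrreducibleSpace C] (hdimC : topologicalKrullDim C = 1)
    (c : C) (hc : IsClosed ({c} : Set C))
    (Y : Set ↑(pullback (X ↘ Spec (CommRingCat.of k)) (C ↘ Spec (CommRingCat.of k))))
    (hYfin : Y.Finite) (hYne : Y.Nonempty) (hYcl : ∀ z ∈ Y, IsClosed ({z} : Set _))
    (hYc : ∀ z ∈ Y, (pullback.snd (X ↘ Spec (CommRingCat.of k)) (C ↘ Spec (CommRingCat.of k))).base z = c)
    (U : (pullback (X ↘ Spec (CommRingCat.of k)) (C ↘ Spec (CommRingCat.of k))).Opens)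
    (hU : (U : Set _) = Yᶜ)
    (F : X.Modules) (hF : Coh.IsCoh F) (htF : TorSh.IsTorsionFree F) :
    IsIso ((Scheme.Modules.restrictAdjunction U.ι).unit.app
      ((Scheme.Modules.pullback (pullback.fst (X ↘ Spec (CommRingCat.of k)) (C ↘ Spec (CommRingCat.of k)))).obj F)) := by
  haveI : IsLocallyNoetherian X :=
    LocallyOfFiniteType.isLocallyNoetherian (X ↘ Spec (CommRingCat.of k))
  haveI : LocallyOfFiniteType (C ↘ Spec (CommRingCat.of k)) := inferInstance
  haveI : IsLocallyNoetherian
      (pullback (X ↘ Spec (CommRingCat.of k)) (C ↘ Spec (CommRingCat.of k))) :=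
    LocallyOfFiniteType.isLocallyNoetherian
      (pullback.fst (X ↘ Spec (CommRingCat.of k)) (C ↘ Spec (CommRingCat.of k)))
  haveI : Flat (C ↘ Spec (CommRingCat.of k)) := inferInstance
  haveI : AlgebraicGeometry.IsReduced C :=
    Groth.Agent.H1.SmoothReduced.isReduced_of_smooth (C ↘ Spec (CommRingCat.of k))
  haveI : IsIntegral C := isIntegral_of_irreducibleSpace_of_isReduced C
  haveI : JacobsonSpace X := LocallyOfFiniteType.jacobsonSpace (X ↘ Spec (CommRingCat.of k))
  haveI : F.IsQuasicoherent := hF.1
  have hG : Coh.IsCoh ((Scheme.Modules.pullback (pullback.fst (X ↘ Spec (CommRingCat.of k))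
      (C ↘ Spec (CommRingCat.of k)))).obj F) :=
    ⟨Groth.Agent.Lib.helper16.QCohPullback.isQuasicoherent_pullback _ F,
      Groth.Agent.Lib.helper16.QCohPullback2.isFiniteType_pullback _ F hF.2⟩
  refine Groth.Agent.Lib.helper2.Hartogs.isIso_resPushUnit_of_depth _ hG U ?_
  intro z hzU
  have hzY : z ∈ Y := by
    by_contra h
    exact hzU (by rw [← SetLike.mem_coe, hU]; exact h)
  have hzcl := hYcl z hzY
  have hzc := hYc z hzY
  have hxcl : IsClosed ({pullback.fst (X ↘ Spec (CommRingCat.of k))
      (C ↘ Spec (CommRingCat.of k)) z} : Set X) :=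
    (pullback.fst (X ↘ Spec (CommRingCat.of k))
      (C ↘ Spec (CommRingCat.of k))).closePoints_subset_preimage_closedPoints hzcl
  rw [Groth.Agent.Lib.Helper24.HartogsProd.depth_pullback_eq_add _ F hF z]
  have h1 := Groth.Agent.Lib.Helper24.HartogsProd.one_le_depth_of_isTorsionFree F htF _ hxcl
    (hpure _ hxcl)
  have hccl : IsClosed ({pullback.snd (X ↘ Spec (CommRingCat.of k))
      (C ↘ Spec (CommRingCat.of k)) z} : Set C) := by
    rw [show pullback.snd (X ↘ Spec (CommRingCat.of k)) (C ↘ Spec (CommRingCat.of k)) z = c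
      from hzc]
    exact hc
  have h2 : Groth.Agent.Lib.Helper24.HartogsProd.FibDepthPos
      (pullback.fst (X ↘ Spec (CommRingCat.of k)) (C ↘ Spec (CommRingCat.of k))) z :=
    Groth.Agent.Lib.Helper24.HartogsProd.fibDepthPos _ _ (fun x => inferInstance) z
      (Groth.Agent.Lib.Helper24.HartogsProd.exists_mem_maximalIdeal_ne_zero hdimC _ hccl)
  rw [← one_add_one_eq_two]
  exact add_le_add h1 h2

end Groth.Agent.S18915
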