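import Groth.Statements.S18918
import Groth.Agent.Lib.Helper14.FreeAct2
import Groth.Agent.Lib.Helper15.FinCovTr8

set_option autoImplicit false
universe u
open CategoryTheory CategoryTheory.Limits AlgebraicGeometry
open FEt

namespace Groth.Agent.S18918

/-- Let f : X → Y be a finite étale morphism of degree n (f_*O_X locally free of rank n) and φ : X' → Y
a morphism from a nonempty connected scheme X'. Then the Y-morphisms X' → X (equivalently, the
sections of X ×_Y X' → X') form a finite set with at most n elements, and there are exactly n of
them if and only if the covering X ×_Y X' → X' is trivial, i.e. X ×_Y X' is isomorphic over X' to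
the disjoint union of n copies of X'. The source works with separated Noetherian schemes over an
algebraically closed field of characteristic zero; that setting is not needed for the statement. -/
theorem result
    {X Y X' : Scheme.{u}} (f : X ⟶ Y) [IsFinite f] [Etale f] (n : ℕ)
    (hdeg : FlatMod.IsFinLocFreeOfRank n ((Scheme.Modules.pushforward f).obj (Coh.structureModule X)))
    (φ : X' ⟶ Y) [Nonempty X'] [ConnectedSpace X'] :
    Finite (Over.mk φ ⟶ Over.mk f) ∧ Nat.card (Over.mk φ ⟶ Over.mk f) ≤ n ∧
      (Nat.card (Over.mk φ ⟶ Over.mk f) = n ↔
        ∃ e : pullback f φ ≅ ∐ fun _ : Fin n => X',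
          e.hom ≫ Sigma.desc (fun _ : Fin n => 𝟙 X') = pullback.snd f φ) := by
  have hcov : FinCov.IsCover f n :=
    (Groth.Agent.Lib.helper15.FinCovTr.isCover_iff f n).mpr ⟨inferInstance, hdeg⟩
  have hrank : ∀ y, f.finrank y = n := hcov.2
  have hp : ∀ y, (pullback.snd f φ).finrank y = n := fun y => by
    rw [Scheme.Hom.finrank_pullback_snd]
    exact hrank _
  let E : (Over.mk φ ⟶ Over.mk f) ≃ Groth.Agent.Lib.helper14.SplitCov.Sec (pullback.snd f φ) :=
    { toFun := fun m => ⟨pullback.lift m.left (𝟙 X') (by
          have := Over.w m
          simp only [Over.mk_hom] at this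
          rw [this, Category.id_comp]), pullback.lift_snd _ _ _⟩
      invFun := fun θ => Over.homMk (θ.1 ≫ pullback.fst f φ) (by
          show (θ.1 ≫ pullback.fst f φ) ≫ f = φ
          rw [Category.assoc, pullback.condition, ← Category.assoc, θ.2, Category.id_comp])
      left_inv := fun m => by
        apply Over.OverMorphism.ext
        exact pullback.lift_fst _ _ _
      right_inv := fun θ => by
        apply Subtype.ext
        apply pullback.hom_ext
        · exact pullback.lift_fst _ _ _
        · rw [pullback.lift_snd]
          exact θ.2.symm }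
  obtain ⟨h1, h2, h3⟩ := Groth.Agent.Lib.helper14.SplitCov.sections_card (pullback.snd f φ) hp
  haveI := h1
  refine ⟨Finite.of_equiv _ E.symm, ?_, ?_⟩
  · rw [Nat.card_congr E]
    exact h2
  · rw [Nat.card_congr E]
    exact h3

end Groth.Agent.S18918
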