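import Groth.Statements.S1892
import Mathlib
import Groth.Agent.Lib.Helper28.GrpdPts
-- import your own Groth.Agent.* helpers here

set_option autoImplicit false
universe u
open CategoryTheory CategoryTheory.Limits AlgebraicGeometry
open Grpd

namespace Groth.Agent.S1892

open Groth.Agent.Lib.helper28.GrpdPts

/-- Let (U₁, R₁, s, t, c) and (U₂, R₂, s, t, c) be groupoid schemes over S with U₂ isomorphic to Spec k
for a field k, and a : R₁ → R₂ a morphism of groupoid schemes which is an isomorphism on objects. If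
a(R₁) is locally closed in R₂ then it is closed. (A groupoid scheme carries U, R, s, t, c, e, i over
S satisfying the groupoid axioms on T-points.) -/
theorem result (S : Scheme.{u}) (G₁ G₂ : Grpd.GroupoidScheme S) (k : Type u) [Field k] (eU : G₂.U ≅ Spec (CommRingCat.of k)) (a : Grpd.GroupoidScheme.Hom G₁ G₂) [IsIso a.fU] (hlc : IsLocallyClosed (Set.range ⇑a.fR)) : IsClosed (Set.range ⇑a.fR) := by
  rw [← closure_subset_iff_isClosed]
  intro r hr
  have hVo : IsOpen (coborder (Set.range a.fR)) := hlc.isOpen_coborder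
  have hVA : coborder (Set.range a.fR) ∩ closure (Set.range a.fR) = Set.range a.fR :=
    coborder_inter_closure
  obtain ⟨e, he, hre⟩ := Mul3.exists_unit G₂ r
  have heA : e ∈ Set.range a.fR := unit_mem_range a he
  obtain ⟨V, hV⟩ : ∃ V : G₂.R.Opens, (V : Set G₂.R) = coborder (Set.range a.fR) :=
    ⟨⟨_, hVo⟩, rfl⟩
  have hO := translate_open G₂ k eU V r
  have hrO : r ∈ {g₃ | ∃ g₂ ∈ V, Mul3 G₂ r g₂ g₃} :=
    ⟨e, by rw [← SetLike.mem_coe, hV]; exact subset_coborder heA, hre⟩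
  obtain ⟨y, ⟨w, hwV, hrwy⟩, hyA⟩ := mem_closure_iff.mp hr _ hO hrO
  have hwZ : w ∈ closure (Set.range a.fR) := by
    by_contra hw
    obtain ⟨W₂, hW₂⟩ : ∃ W₂ : G₂.R.Opens,
        ∀ g, g ∈ W₂ ↔ G₂.i g ∉ closure (Set.range a.fR) :=
      ⟨G₂.i ⁻¹ᵁ ⟨(closure (Set.range a.fR))ᶜ, isClosed_closure.isOpen_compl⟩,
        fun g => Iff.rfl⟩
    have hO₂ := translate_open G₂ k eU W₂ y
    have hrO₂ : r ∈ {g₃ | ∃ g₂ ∈ W₂, Mul3 G₂ y g₂ g₃} :=
      ⟨G₂.i w, by rw [hW₂, i_i_apply]; exact hw, hrwy.rot_right⟩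
    obtain ⟨y₂, ⟨v, hvW, hyv⟩, hy₂A⟩ := mem_closure_iff.mp hr _ hO₂ hrO₂
    have hvA : v ∈ Set.range a.fR := hyv.rot_left.mem_range a (inv_mem_range a hyA) hy₂A
    exact (hW₂ v).mp hvW (subset_closure (inv_mem_range a hvA))
  have hwA : w ∈ Set.range a.fR := by
    rw [← hVA]
    exact ⟨by rw [← hV]; exact hwV, hwZ⟩
  exact hrwy.rot_right.mem_range a hyA (inv_mem_range a hwA)

end Groth.Agent.S1892
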