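import Groth.Statements.S18920
import Mathlib

set_option autoImplicit false
universe u
open CAlg

namespace Groth.Agent.S18920

/-- Let M be a commutative monoid, s ≥ 1, and ξ_1, …, ξ_s elements of M with ξ_i ^ (s!/i) = 1 for 1 ≤ i
≤ s (an (s!/i)-th root of unity for each i). Suppose that for every finitely supported function d on
{1, …, s} with Σ_i i · d_i = s! the product ∏_i ξ_i ^ d_i equals 1. Then ξ_1 ^ j = ξ_j for every 1 ≤
j ≤ s. (The source works with roots of unity in the complex numbers.) -/
theorem result
    {M : Type u} [CommMonoid M] (s : ℕ) (hs : 1 ≤ s) (ξ : ℕ → M)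
    (hξ : ∀ i : ℕ, 1 ≤ i → i ≤ s → ξ i ^ (s.factorial / i) = 1)
    (hprod : ∀ d : ℕ →₀ ℕ, (∀ i ∈ d.support, 1 ≤ i ∧ i ≤ s) →
      (d.sum fun i n => i * n) = s.factorial → (d.prod fun i n => ξ i ^ n) = 1)
    (j : ℕ) (hj : 1 ≤ j) (hjs : j ≤ s) :
    ξ 1 ^ j = ξ j := by
  classical
  rcases Nat.lt_or_ge 1 j with hj2 | hj1
  · have hdvd : j ∣ s.factorial := Nat.dvd_factorial (by omega) hjs
    obtain ⟨q, hq⟩ := hdvd
    have hq1 : 1 ≤ q := by
      rcases Nat.eq_zero_or_pos q with h0 | h0
      · rw [h0, mul_zero] at hq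
        exact absurd hq (Nat.factorial_ne_zero s)
      · exact h0
    have hdiv : s.factorial / j = q := by
      rw [hq]; exact Nat.mul_div_cancel_left q (by omega)
    let d : ℕ →₀ ℕ := Finsupp.single j (q - 1) + Finsupp.single 1 j
    have hsupp : ∀ i ∈ d.support, 1 ≤ i ∧ i ≤ s := by
      intro i hi
      have := Finsupp.support_add hi
      rw [Finset.mem_union] at this
      rcases this with h | h
      · have := Finsupp.support_single_subset h
        rw [Finset.mem_singleton] at this
        subst this; exact ⟨hj, hjs⟩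
      · have := Finsupp.support_single_subset h
        rw [Finset.mem_singleton] at this
        subst this; exact ⟨le_refl _, hs⟩
    have hsum : (d.sum fun i n => i * n) = s.factorial := by
      rw [Finsupp.sum_add_index' (by intro i; simp) (by intro i a b; ring),
        Finsupp.sum_single_index (by simp), Finsupp.sum_single_index (by simp), hq]
      have : j * (q - 1) + 1 * j = j * (q - 1 + 1) := by ring
      rw [this, Nat.sub_add_cancel hq1]
    have hp := hprod d hsupp hsum
    rw [Finsupp.prod_add_index' (by intro i; simp) (by intro i a b; exact pow_add _ _ _),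
      Finsupp.prod_single_index (by simp), Finsupp.prod_single_index (by simp)] at hp
    have hξj := hξ j hj hjs
    rw [hdiv] at hξj
    calc ξ 1 ^ j = (ξ j ^ q) * ξ 1 ^ j := by rw [hξj, one_mul]
      _ = ξ j ^ (q - 1 + 1) * ξ 1 ^ j := by rw [Nat.sub_add_cancel hq1]
      _ = ξ j * (ξ j ^ (q - 1) * ξ 1 ^ j) := by rw [pow_succ]; simp only [mul_assoc, mul_comm, mul_left_comm]
      _ = ξ j := by rw [hp, mul_one]
  · have : j = 1 := le_antisymm hj1 hj
    subst this
    exact pow_one _

end Groth.Agent.S18920
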