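import Groth.Statements.S18927
import Mathlib

set_option linter.style.haveILetI false

set_option autoImplicit false
universe u v
open W4c6secantcecovers

namespace Groth.Agent.S18927

section Aux

variable {R : Type u} [CommRing R] {r : ℕ}

lemma contractLeft_list_prod_mul (d : Module.Dual R (Fin r → R)) (l : List (Fin r → R))
    (η : ExteriorAlgebra R (Fin r → R)) :
    CliffordAlgebra.contractLeft (Q := (0 : QuadraticForm R (Fin r → R))) d
        ((l.map (ExteriorAlgebra.ι R)).prod * η) =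
      CliffordAlgebra.contractLeft (Q := (0 : QuadraticForm R (Fin r → R))) d
          ((l.map (ExteriorAlgebra.ι R)).prod) * η +
        (-1 : R) ^ l.length •
          ((l.map (ExteriorAlgebra.ι R)).prod *
            CliffordAlgebra.contractLeft (Q := (0 : QuadraticForm R (Fin r → R))) d η) := by
  induction l with
  | nil => simp
  | cons a l ih =>
    simp only [List.map_cons, List.prod_cons, List.length_cons]
    have h1 : ExteriorAlgebra.ι R a * (l.map (ExteriorAlgebra.ι R)).prod * η =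
        CliffordAlgebra.ι (0 : QuadraticForm R (Fin r → R)) a *
          ((l.map (ExteriorAlgebra.ι R)).prod * η) := by
      rw [mul_assoc]
    have h2 : ExteriorAlgebra.ι R a * (l.map (ExteriorAlgebra.ι R)).prod =
        CliffordAlgebra.ι (0 : QuadraticForm R (Fin r → R)) a *
          ((l.map (ExteriorAlgebra.ι R)).prod) := rfl
    rw [h1, CliffordAlgebra.contractLeft_ι_mul, ih, h2, CliffordAlgebra.contractLeft_ι_mul]
    simp only [mul_add, sub_mul, smul_mul_assoc, mul_smul_comm, pow_succ, mul_assoc]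
    module

lemma ιMulti_eq_zero_of_lt {n : ℕ} (hn : r < n) (v : Fin n → (Fin r → R)) :
    ExteriorAlgebra.ιMulti R n v = 0 := by
  have h : ExteriorAlgebra.ιMulti R n (M := Fin r → R) = 0 := by
    refine Module.Basis.ext_alternating (Pi.basisFun R (Fin r)) fun w hw => ?_
    exfalso
    have := Fintype.card_le_of_injective w hw
    simp only [Fintype.card_fin] at this
    omega
  rw [h]; rfl

lemma ιMulti_mul_ιMulti {p q : ℕ} (e : Fin p → (Fin r → R)) (f : Fin q → (Fin r → R)) :
    ExteriorAlgebra.ιMulti R p e * ExteriorAlgebra.ιMulti R q f =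
      ExteriorAlgebra.ιMulti R (p + q) (Fin.append e f) := by
  rw [ExteriorAlgebra.ιMulti_apply, ExteriorAlgebra.ιMulti_apply, ExteriorAlgebra.ιMulti_apply,
    ← List.prod_append, ← List.ofFn_fin_append]
  congr 2
  funext i
  refine Fin.addCases (fun i => ?_) (fun i => ?_) i <;> simp

end Aux


open TensorProduct in
/-- Let R be a commutative ring, E = R^r the free module with its coordinate basis, S = R[X_1, …, X_r]
(the symmetric algebra of E), and N an R-module carrying R-linear operators φ_j (the action of the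
j-th basis vector of E) and an R-bilinear form β with β(φ_j n, m) = β(n, φ_j m) for every j. On (ΛE
⊗ S) ⊗ N — all terms Λ^k(S ⊗ E) ⊗ N of the Scheja–Storch complex at once — let δ be the differential
sending (e_1 ∧ ⋯ ∧ e_k) ⊗ s ⊗ n to Σ_i (-1)^(i-1) (e_1 ∧ ⋯ ê_i ⋯ ∧ e_k) ⊗ x(e_i) s ⊗ n + Σ_i (-1)^i
(e_1 ∧ ⋯ ê_i ⋯ ∧ e_k) ⊗ s ⊗ e_i · n, and pair a term u = ω ⊗ s ⊗ n of degree k with v = η ⊗ t ⊗ m by
⟨u, v⟩_k = (-1)^(k choose 2) β(n, m) · (ω ∧ η) ⊗ s t. Then the differential is adjoint to itself for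
this pairing in complementary degrees: for u = (e_0 ∧ ⋯ ∧ e_k) ⊗ s ⊗ n of degree k + 1 ≤ r and v =
(f_1 ∧ ⋯ ∧ f_(r-k)) ⊗ t ⊗ m of degree r - k, ⟨δ u, v⟩_k = ⟨u, δ v⟩_(k+1). (The source takes E
finitely generated projective and N a module over the ambient algebra with a pairing satisfying ⟨f,
g h⟩ = ⟨g f, h⟩; the proof runs on a basis, which is the form stated here, with the action of E
recorded by the operators φ_j.) -/
theorem result
    (R : Type u) [CommRing R] (r : ℕ) (N : Type v) [AddCommGroup N] [Module R N]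
    (φ : Fin r → (N →ₗ[R] N)) (β : N →ₗ[R] N →ₗ[R] R)
    (hβ : ∀ (j : Fin r) (n m : N), β (φ j n) m = β n (φ j m))
    (k : ℕ) (hk : k < r)
    (e : Fin (k + 1) → (Fin r → R)) (f : Fin (r - k) → (Fin r → R))
    (s t : MvPolynomial (Fin r) R) (n m : N) :
    W4c6secantcecovers.ssPair R r N β k
        (W4c6secantcecovers.ssDelta R r N φ ((ExteriorAlgebra.ιMulti R (k + 1) e ⊗ₜ[R] s) ⊗ₜ[R] n))
        ((ExteriorAlgebra.ιMulti R (r - k) f ⊗ₜ[R] t) ⊗ₜ[R] m) =
      W4c6secantcecovers.ssPair R r N β (k + 1)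
        ((ExteriorAlgebra.ιMulti R (k + 1) e ⊗ₜ[R] s) ⊗ₜ[R] n)
        (W4c6secantcecovers.ssDelta R r N φ ((ExteriorAlgebra.ιMulti R (r - k) f ⊗ₜ[R] t) ⊗ₜ[R] m)) := by
  have hpair : ∀ (c : ℕ) (a b : SSLam R r) (s' t' : MvPolynomial (Fin r) R) (n' m' : N),
      ssPair R r N β c ((a ⊗ₜ[R] s') ⊗ₜ[R] n') ((b ⊗ₜ[R] t') ⊗ₜ[R] m') =
        ((-1 : R) ^ (c.choose 2) * β n' m') • ((a * b) ⊗ₜ[R] (s' * t')) := by
    intro c a b s' t' n' m'
    simp only [ssPair, ssPairAux, LinearMap.smul_apply, TensorProduct.curry_apply,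
      LinearMap.coe_comp, LinearEquiv.coe_coe, Function.comp_apply,
      TensorProduct.tensorTensorTensorComm_tmul, TensorProduct.map_tmul, LinearMap.mul'_apply,
      TensorProduct.lift.tmul, TensorProduct.rid_tmul, Algebra.TensorProduct.tmul_mul_tmul,
      smul_smul]
  have hdelta : ∀ (a : SSLam R r) (s' : MvPolynomial (Fin r) R) (n' : N),
      ssDelta R r N φ ((a ⊗ₜ[R] s') ⊗ₜ[R] n') =
        ∑ j, (((ssContr R r j a) ⊗ₜ[R] (MvPolynomial.X j * s')) ⊗ₜ[R] n' +
          (-1 : R) • (((ssContr R r j a) ⊗ₜ[R] s') ⊗ₜ[R] (φ j n'))) := by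
    intro a s' n'
    simp only [ssDelta, ssDKoszul, ssDAct, LinearMap.sum_apply, LinearMap.add_apply,
      LinearMap.smul_apply, TensorProduct.map_tmul, LinearMap.mulLeft_apply, LinearMap.id_apply]
  obtain ⟨ω, hω⟩ : ∃ ω, ω = ExteriorAlgebra.ιMulti R (k + 1) e := ⟨_, rfl⟩
  obtain ⟨η, hη⟩ : ∃ η, η = ExteriorAlgebra.ιMulti R (r - k) f := ⟨_, rfl⟩
  have hzero : ω * η = 0 := by
    rw [hω, hη, ιMulti_mul_ιMulti]
    exact ιMulti_eq_zero_of_lt (by omega) _
  have hleib : ∀ j, ssContr R r j ω * η = (-1 : R) ^ k • (ω * ssContr R r j η) := by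
    intro j
    have h1 := contractLeft_list_prod_mul (LinearMap.proj (R := R) (φ := fun _ : Fin r => R) j)
      (List.ofFn e) η
    have hω' : ((List.ofFn e).map (ExteriorAlgebra.ι R)).prod = ω := by
      rw [hω, List.map_ofFn, ExteriorAlgebra.ιMulti_apply]
      rfl
    rw [hω', hzero, map_zero, List.length_ofFn, eq_comm, add_eq_zero_iff_eq_neg] at h1
    unfold ssContr
    rw [h1, pow_succ]
    module
  have hsign : (-1 : R) ^ ((k + 1).choose 2) = (-1) ^ (k.choose 2) * (-1) ^ k := by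
    have h1 : (k + 1).choose 2 = k.choose 1 + k.choose 2 := Nat.choose_succ_succ' k 1
    rw [h1, Nat.choose_one_right, pow_add, mul_comm]
  rw [← hω, ← hη, hdelta, hdelta, map_sum, LinearMap.sum_apply, map_sum]
  refine Finset.sum_congr rfl fun j _ => ?_
  rw [map_add, LinearMap.add_apply, map_smul, LinearMap.smul_apply, map_add, map_smul, hpair,
    hpair, hpair, hpair, hleib j, hβ j, hsign]
  simp only [TensorProduct.smul_tmul', smul_smul]
  have e1 : MvPolynomial.X j * s * t = s * (MvPolynomial.X j * t) := by ring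
  have e2 : (-1 : R) ^ k.choose 2 * (β n) m * (-1) ^ k =
      (-1) ^ k.choose 2 * (-1) ^ k * (β n) m := by ring
  have e3 : (-1 * ((-1 : R) ^ k.choose 2 * (β n) ((φ j) m) * (-1) ^ k)) =
      (-1 * ((-1) ^ k.choose 2 * (-1) ^ k * (β n) ((φ j) m))) := by ring
  rw [e1, e2, e3]

end Groth.Agent.S18927
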