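import Groth.Statements.S18928
import Mathlib

set_option autoImplicit false
universe u
open DPow

namespace Groth.Agent.S18928

/-- Let B be a commutative ring, I an ideal of B with a divided power structure, p a prime, r a natural
number, b an element of B and δ an element of I. Then (b + δ)^(p^r) − b^(p^r) lies in the ideal p^r
I. (The source states this for a divided power thickening over the Witt vectors of length n and 0 ≤
r ≤ n; neither restriction is used.) -/
theorem result {B : Type u} [CommRing B] {I : Ideal B}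
    (hI : DividedPowers I) (p : ℕ) [Fact p.Prime] (r : ℕ) (b δ : B) (hδ : δ ∈ I) :
    (b + δ) ^ (p ^ r) - b ^ (p ^ r) ∈ Ideal.span {((p : B) ^ r)} * I := by
  classical
  set N : ℕ := p ^ r with hN
  have hNpos : 0 < N := pow_pos (Fact.out : p.Prime).pos r
  have hNcast : (N : B) = (p : B) ^ r := by rw [hN, Nat.cast_pow]
  have hterm : ∀ m : ℕ, m ≠ 0 →
      δ ^ m * b ^ (N - m) * (N.choose m : B) ∈ Ideal.span {((p : B) ^ r)} * I := by
    intro m hm
    obtain ⟨m', rfl⟩ := Nat.exists_eq_succ_of_ne_zero hm
    obtain ⟨N', hN'⟩ := Nat.exists_eq_succ_of_ne_zero hNpos.ne'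
    have h1 : δ ^ (m' + 1) = ((m' + 1).factorial : B) * hI.dpow (m' + 1) δ :=
      (hI.factorial_mul_dpow_eq_pow hδ).symm
    have h2 : ((m' + 1).factorial : B) * (N.choose (m' + 1) : B) =
        (N : B) * (N'.descFactorial m' : B) := by
      rw [← Nat.cast_mul, ← Nat.cast_mul, ← Nat.descFactorial_eq_factorial_mul_choose, hN',
        Nat.succ_descFactorial_succ]
    have h3 : δ ^ (m' + 1) * b ^ (N - (m' + 1)) * (N.choose (m' + 1) : B) =
        (p : B) ^ r * ((N'.descFactorial m' : B) * b ^ (N - (m' + 1)) * hI.dpow (m' + 1) δ) := by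
      rw [h1, ← hNcast]
      calc ((m' + 1).factorial : B) * hI.dpow (m' + 1) δ * b ^ (N - (m' + 1)) * (N.choose (m' + 1) : B)
          = (((m' + 1).factorial : B) * (N.choose (m' + 1) : B)) *
              (b ^ (N - (m' + 1)) * hI.dpow (m' + 1) δ) := by ring
        _ = _ := by rw [h2]; ring
    rw [h3]
    exact Ideal.mul_mem_mul (Ideal.subset_span rfl)
      (I.mul_mem_left _ (hI.dpow_mem (Nat.succ_ne_zero m') hδ))
  have hsum : (b + δ) ^ N - b ^ N =
      ∑ m ∈ Finset.range N, δ ^ (m + 1) * b ^ (N - (m + 1)) * (N.choose (m + 1) : B) := by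
    rw [add_comm b δ, add_pow, Finset.sum_range_succ']
    simp
  rw [hsum]
  exact Ideal.sum_mem _ (fun m _ => hterm (m + 1) (Nat.succ_ne_zero m))

end Groth.Agent.S18928
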