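import Groth.Statements.S18929
import Mathlib
import Groth.Agent.S18928

set_option autoImplicit false
universe u
open DPow

namespace Groth.Agent.S18929

/-- Let p be a prime, n a natural number, B a commutative ring in which p^n = 0, and I an ideal of B
equipped with divided powers. There is a ring homomorphism θ from the truncated Witt vectors
W_n(B/I) to B such that, for every Witt vector x over B, θ applied to the truncation of the image of
x in W_n(B/I) equals Σ_{i<n} p^i x_i^(p^(n−i)); in particular this sum depends only on the residues
of x_0, …, x_{n−1} modulo I. (The source works with a divided power thickening of an algebra over a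
perfect field and also checks linearity over the Witt vectors of that field; only the ring
homomorphism is asserted here. θ is unique, the truncation-of-reduction map being surjective.) -/
theorem result (p : ℕ) [Fact p.Prime] (n : ℕ)
    {B : Type u} [CommRing B] (hp : (p : B) ^ n = 0) {I : Ideal B} (hI : DividedPowers I) :
    ∃ θ : TruncatedWittVector p n (B ⧸ I) →+* B, ∀ x : WittVector p B, θ (WittVector.truncate n (WittVector.map (Ideal.Quotient.mk I) x)) =
        ∑ i : Fin n, (p : B) ^ (i : ℕ) * (x.coeff i) ^ (p ^ (n - i)) := by
  classical
  let g : WittVector p B →+* TruncatedWittVector p n (B ⧸ I) :=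
    (WittVector.truncate n).comp (WittVector.map (Ideal.Quotient.mk I))
  have hgsurj : Function.Surjective g :=
    (WittVector.truncate_surjective (p := p) n (B ⧸ I)).comp
      (WittVector.map_surjective (p := p) _ Ideal.Quotient.mk_surjective)
  have hw : ∀ x : WittVector p B, WittVector.ghostComponent n x =
      ∑ i : Fin n, (p : B) ^ (i : ℕ) * (x.coeff i) ^ (p ^ (n - i)) := by
    intro x
    rw [WittVector.ghostComponent_apply, aeval_wittPolynomial, Finset.sum_range_succ, hp, zero_mul,
      add_zero, Fin.sum_univ_eq_sum_range (fun i => (p : B) ^ i * (x.coeff i) ^ (p ^ (n - i)))]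
  have hker : RingHom.ker g ≤ RingHom.ker (WittVector.ghostComponent (p := p) (R := B) n) := by
    intro x hx
    rw [RingHom.mem_ker] at hx ⊢
    rw [hw]
    refine Finset.sum_eq_zero (fun i _ => ?_)
    have hxi : x.coeff i ∈ I := by
      have := congrArg (TruncatedWittVector.coeff i) hx
      rw [TruncatedWittVector.coeff_zero] at this
      change Ideal.Quotient.mk I (x.coeff i) = 0 at this
      exact Ideal.Quotient.eq_zero_iff_mem.1 this
    have h1 := Groth.Agent.S18928.result hI p (n - i) 0 (x.coeff i) hxi
    rw [zero_add, zero_pow (pow_pos (Fact.out : p.Prime).pos _).ne', sub_zero,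
      Ideal.mem_span_singleton_mul] at h1
    obtain ⟨t, -, ht⟩ := h1
    rw [← ht, ← mul_assoc, ← pow_add, Nat.add_sub_cancel' (le_of_lt i.2), hp, zero_mul]
  refine ⟨RingHom.liftOfSurjective g hgsurj ⟨WittVector.ghostComponent n, hker⟩, fun x => ?_⟩
  have := RingHom.liftOfRightInverse_comp_apply g _ (Function.rightInverse_surjInv hgsurj)
    ⟨WittVector.ghostComponent n, hker⟩ x
  rw [← hw]
  exact this

end Groth.Agent.S18929
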