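import Groth.Statements.S1893
import Mathlib
-- import your own Groth.Agent.* helpers here

set_option autoImplicit false
universe u
open CategoryTheory CategoryTheory.Limits AlgebraicGeometry
open Grpd

namespace Groth.Agent.S1893


open TopologicalSpace

/-- separation: a compact set disjoint from a closed set lies in a qc open disjoint from it -/
lemma exists_qc_open {X : Scheme.{u}} (K : Set X) (hK : IsCompact K) (C : Set X) (hC : IsClosed C)
    (hd : Disjoint K C) :
    ∃ V : X.Opens, IsCompact (V : Set X) ∧ K ⊆ (V : Set X) ∧ Disjoint (V : Set X) C := by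
  classical
  have hb : ∀ {U : X.Opens} {x : X}, x ∈ U → ∃ U' ∈ X.affineOpens, x ∈ U' ∧ U' ≤ U :=
    Opens.isBasis_iff_nbhd.mp X.isBasis_affineOpens
  have hch : ∀ y : X, ∃ Uy : X.Opens, (y ∈ K → (IsAffineOpen Uy ∧ y ∈ Uy ∧ Uy ≤ ⟨Cᶜ, hC.isOpen_compl⟩)) := by
    intro y
    by_cases hy : y ∈ K
    · have hyC : y ∈ (⟨Cᶜ, hC.isOpen_compl⟩ : X.Opens) := fun h => (Set.disjoint_left.mp hd hy h)
      obtain ⟨U', hU', h1, h2⟩ := hb hyC
      exact ⟨U', fun _ => ⟨hU', h1, h2⟩⟩
    · exact ⟨⊥, fun h => absurd h hy⟩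
  choose Uy hUy using hch
  obtain ⟨t, ht, htK⟩ := hK.elim_nhds_subcover (fun y => (Uy y : Set X))
    (fun y hy => (Uy y).isOpen.mem_nhds (hUy y hy).2.1)
  refine ⟨⨆ y ∈ t, Uy y, ?_, ?_, ?_⟩
  · simp only [Opens.coe_iSup]
    exact t.finite_toSet.isCompact_biUnion fun y hy => (hUy y (ht y hy)).1.isCompact
  · simpa only [Opens.coe_iSup] using htK
  · simp only [Opens.coe_iSup, Set.disjoint_iUnion_left]
    intro y hy
    have := (hUy y (ht y hy)).2.2
    exact Set.disjoint_left.mpr fun z hz hzC => this hz hzC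

lemma compact_gen_eq_iInter {X : Scheme.{u}} (K : Set X) (hK : IsCompact K)
    (hg : StableUnderGeneralization K) :
    ∃ (ι : Type u) (_ : Nonempty ι) (V : ι → X.Opens), (∀ i, IsCompact (V i : Set X)) ∧
      K = ⋂ i, (V i : Set X) := by
  refine ⟨{V : X.Opens // IsCompact (V : Set X) ∧ K ⊆ (V : Set X)}, ?_, fun V => V.1,
    fun V => V.2.1, ?_⟩
  · obtain ⟨V, h1, h2, -⟩ := exists_qc_open K hK ∅ isClosed_empty (Set.disjoint_empty _)
    exact ⟨⟨V, h1, h2⟩⟩
  · apply Set.Subset.antisymm
    · exact Set.subset_iInter fun V => V.2.2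
    · intro x hx
      by_contra hxK
      have hd : Disjoint K (closure {x}) := by
        rw [Set.disjoint_left]
        intro y hyK hy
        exact hxK (hg (specializes_iff_mem_closure.mpr hy) hyK)
      obtain ⟨V, h1, h2, h3⟩ := exists_qc_open K hK _ isClosed_closure hd
      have hxV : x ∈ (V : Set X) := Set.mem_iInter.mp hx ⟨V, h1, h2⟩
      exact Set.disjoint_left.mp h3 hxV (subset_closure rfl)

/-- Let (U, R, s, t, c) be a groupoid scheme over S with s, t quasi-compact and flat and U
quasi-separated, and W ⊆ U a quasi-compact open. Then the saturation t(s⁻¹(W)) can be written as an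
intersection of quasi-compact opens of U, indexed by a nonempty set. (A groupoid scheme carries U,
R, s, t, c, e, i over S with the groupoid axioms on T-points; 'finite locally free' is finite, flat
and locally of finite presentation; C ⊂ Γ(U) is the ring of functions a with s♯(a) = t♯(a) and M =
Spec C.) -/
theorem result (S : Scheme.{u}) (G : Grpd.GroupoidScheme S) [QuasiCompact G.s] [Flat G.s] [QuasiCompact G.t] [Flat G.t] [QuasiSeparatedSpace G.U] (W : G.U.Opens) (hW : IsCompact (W : Set G.U)) : ∃ (ι : Type u) (_ : Nonempty ι) (V : ι → G.U.Opens), (∀ i, IsCompact (V i : Set G.U)) ∧ ⇑G.t '' (⇑G.s ⁻¹' (W : Set G.U)) = ⋂ i, (V i : Set G.U) := by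
  have hK : IsCompact (⇑G.t '' (⇑G.s ⁻¹' (W : Set G.U))) :=
    (G.s.isCompact_preimage hW).image G.t.continuous
  have hg : StableUnderGeneralization (⇑G.t '' (⇑G.s ⁻¹' (W : Set G.U))) :=
    (G.s ⁻¹ᵁ W).isOpen.stableUnderGeneralization.image (Flat.generalizingMap G.t)
  exact compact_gen_eq_iInter _ hK hg

end Groth.Agent.S1893
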