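import Groth.Statements.S18930
import Mathlib

set_option autoImplicit false
universe u
open DPow

namespace Groth.Agent.S18930

/-- Let p be a prime, n ≥ 1, B a commutative ring with p^n = 0 and A = B/pB. Let θ : W_n(A) → B be the
ring homomorphism which sends the reduction of a Witt vector (x_0, …, x_{n−1}) over B to Σ_{i<n} p^i
x_i^(p^(n−i)), let J_n be its kernel and let I_n be the set of a in W_n(A) whose zeroth component
satisfies a_0^(p^n) = 0. Then J_n + (p) ⊆ I_n. (In the source B is the ring of global sections of a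
scheme over the Witt vectors of length n of a perfect field.) -/
theorem result (p : ℕ) [Fact p.Prime] (n : ℕ) (hn : 0 < n)
    {B : Type u} [CommRing B] (hp : (p : B) ^ n = 0)
    (θ : TruncatedWittVector p n (B ⧸ (Ideal.span {(p : B)})) →+* B)
    (hθ : ∀ x : WittVector p B, θ (WittVector.truncate n (WittVector.map (Ideal.Quotient.mk (Ideal.span {(p : B)})) x)) =
        ∑ i : Fin n, (p : B) ^ (i : ℕ) * (x.coeff i) ^ (p ^ (n - i)))
    (a : TruncatedWittVector p n (B ⧸ (Ideal.span {(p : B)})))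
    (ha : a ∈ RingHom.ker θ ⊔ Ideal.span {(p : TruncatedWittVector p n (B ⧸ (Ideal.span {(p : B)})))}) :
    (TruncatedWittVector.coeff ⟨0, hn⟩ a) ^ (p ^ n) = 0 := by
  classical
  obtain ⟨n', rfl⟩ := Nat.exists_eq_succ_of_ne_zero hn.ne'
  set P : Ideal B := Ideal.span {(p : B)} with hP
  obtain ⟨j, hj, q, hq, rfl⟩ := Submodule.mem_sup.1 ha
  obtain ⟨c, rfl⟩ := Ideal.mem_span_singleton'.1 hq
  obtain ⟨J, rfl⟩ := WittVector.truncate_surjective (p := p) (n' + 1) (B ⧸ P) j
  obtain ⟨Cc, rfl⟩ := WittVector.truncate_surjective (p := p) (n' + 1) (B ⧸ P) c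
  obtain ⟨x, rfl⟩ := WittVector.map_surjective (p := p) (Ideal.Quotient.mk P) Ideal.Quotient.mk_surjective J
  have hpA : ((p : ℕ) : B ⧸ P) = 0 := by
    have : ((p : ℕ) : B ⧸ P) = Ideal.Quotient.mk P (p : B) := by simp
    rw [this, Ideal.Quotient.eq_zero_iff_mem]
    exact Ideal.subset_span rfl
  have hcoeff : TruncatedWittVector.coeff ⟨0, hn⟩
      (WittVector.truncate (n' + 1) (WittVector.map (Ideal.Quotient.mk P) x) +
        WittVector.truncate (n' + 1) Cc * (p : TruncatedWittVector p (n' + 1) (B ⧸ P))) =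
      Ideal.Quotient.mk P (x.coeff 0) := by
    have h1 : WittVector.truncate (n' + 1) (WittVector.map (Ideal.Quotient.mk P) x) +
        WittVector.truncate (n' + 1) Cc * (p : TruncatedWittVector p (n' + 1) (B ⧸ P)) =
        WittVector.truncate (n' + 1) (WittVector.map (Ideal.Quotient.mk P) x + Cc * (p : WittVector p (B ⧸ P))) := by
      rw [map_add, map_mul, map_natCast]
    rw [h1, WittVector.coeff_truncate]
    change WittVector.constantCoeff (WittVector.map (Ideal.Quotient.mk P) x + Cc * (p : WittVector p (B ⧸ P))) = _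
    rw [map_add, map_mul, map_natCast, hpA, mul_zero, add_zero]
    rfl
  rw [hcoeff, ← map_pow, Ideal.Quotient.eq_zero_iff_mem]
  have hθx := hθ x
  rw [(RingHom.mem_ker).1 hj, Fin.sum_univ_succ] at hθx
  simp only [Fin.val_zero, pow_zero, one_mul, Nat.sub_zero, Fin.val_succ] at hθx
  have hx0 : x.coeff 0 ^ p ^ (n' + 1) = - ∑ i : Fin n', (p : B) ^ ((i : ℕ) + 1) * x.coeff ((i : ℕ) + 1) ^ p ^ (n' + 1 - ((i : ℕ) + 1)) := by
    rw [eq_neg_iff_add_eq_zero]
    exact hθx.symm
  rw [hx0]
  refine P.neg_mem (P.sum_mem (fun i _ => ?_))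
  rw [pow_succ, mul_comm ((p : B) ^ (i : ℕ)) (p : B), mul_assoc]
  exact P.mul_mem_right _ (Ideal.subset_span rfl)

end Groth.Agent.S18930
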