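import Groth.Statements.S18932
import Mathlib

set_option autoImplicit false
universe u
open DPow

namespace Groth.Agent.S18932

lemma pow_surj {A : Type u} [CommRing A] (p : ℕ) (P : Ideal A)
    (hF : Function.Surjective (fun y : A ⧸ P => y ^ p)) (k : ℕ) :
    ∀ y : A ⧸ P, ∃ z : A ⧸ P, z ^ (p ^ k) = y := by
  induction k with
  | zero => intro y; exact ⟨y, by simp⟩
  | succ k ih =>
    intro y
    obtain ⟨z, hz⟩ := ih y
    obtain ⟨w, hw⟩ := hF z
    refine ⟨w, ?_⟩
    rw [pow_succ', pow_mul]
    simp only at hw
    rw [hw, hz]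

lemma decomp {A : Type u} [CommRing A] (p : ℕ)
    (hF : Function.Surjective (fun y : A ⧸ (Ideal.span {(p : A)}) => y ^ p)) (n : ℕ) :
    ∀ b : A, ∃ (x : ℕ → A) (b' : A),
      b = ∑ i ∈ Finset.range n, (p : A) ^ i * (x i) ^ (p ^ (n - i)) + (p : A) ^ n * b' := by
  induction n with
  | zero => intro b; exact ⟨fun _ => 0, b, by simp⟩
  | succ n ih =>
    intro b
    obtain ⟨z, hz⟩ := pow_surj p _ hF (n + 1) (Ideal.Quotient.mk _ b)
    obtain ⟨y, rfl⟩ := Ideal.Quotient.mk_surjective z
    rw [← map_pow] at hz
    have hz' := hz.symm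
    rw [Ideal.Quotient.eq, Ideal.mem_span_singleton'] at hz'
    obtain ⟨c, hc⟩ := hz'
    obtain ⟨x, c', hx⟩ := ih c
    refine ⟨fun i => Nat.casesOn i y (fun j => x j), c', ?_⟩
    rw [Finset.sum_range_succ']
    simp only [pow_zero, one_mul, Nat.sub_zero, Nat.add_sub_add_right, Nat.rec_zero,
      Nat.rec_add_one]
    have hb : b = y ^ p ^ (n + 1) + c * (p : A) := by rw [hc]; ring
    rw [hb, hx]
    have : ∑ i ∈ Finset.range n, (p : A) ^ (i + 1) * x i ^ p ^ (n - i) =
        (p : A) * ∑ i ∈ Finset.range n, (p : A) ^ i * x i ^ p ^ (n - i) := by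
      rw [Finset.mul_sum]
      refine Finset.sum_congr rfl (fun i _ => ?_)
      ring
    rw [this]
    ring

/-- Let p be a prime, k a perfect field of characteristic p, n a natural number and A a commutative
W_n(k)-algebra, W_n(k) the truncated Witt vectors, which is flat over W_n(k) and whose reduction
A/pA has surjective p-th power map. Let θ : W_n(A/pA) → A be the ring homomorphism which sends the
reduction of a Witt vector (x_0, …, x_{n−1}) over A to Σ_{i<n} p^i x_i^(p^(n−i)). Then θ is
surjective, so A is the quotient of W_n(A/pA) by the kernel of θ. (This is the step of the source's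
proposition establishing that Spec of the divided power envelope of that kernel is a thickening of
Spec A; the assertion that it is a final object of the crystalline site is not stated here.) -/
theorem result (p : ℕ) [Fact p.Prime]
    (k : Type u) [Field k] [CharP k p] [PerfectRing k p] (n : ℕ)
    (A : Type u) [CommRing A] [Algebra (TruncatedWittVector p n k) A] [Module.Flat (TruncatedWittVector p n k) A]
    (hF : Function.Surjective (fun y : A ⧸ (Ideal.span {(p : A)}) => y ^ p))
    (θ : TruncatedWittVector p n (A ⧸ (Ideal.span {(p : A)})) →+* A)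
    (hθ : ∀ x : WittVector p A, θ (WittVector.truncate n (WittVector.map (Ideal.Quotient.mk (Ideal.span {(p : A)})) x)) =
        ∑ i : Fin n, (p : A) ^ (i : ℕ) * (x.coeff i) ^ (p ^ (n - i))) :
    Function.Surjective θ := by
  classical
  have hpn : (p : A) ^ n = 0 := by
    have h0 : (p : TruncatedWittVector p n k) ^ n = 0 := by
      have : (p : TruncatedWittVector p n k) ^ n = WittVector.truncate n ((p : WittVector p k) ^ n) := by
        rw [map_pow, map_natCast]
      rw [this]
      apply TruncatedWittVector.ext
      intro i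
      rw [WittVector.coeff_truncate, TruncatedWittVector.coeff_zero]
      exact WittVector.coeff_p_pow_eq_zero p k (ne_of_lt i.2)
    have : (p : A) ^ n = algebraMap (TruncatedWittVector p n k) A ((p : TruncatedWittVector p n k) ^ n) := by
      rw [map_pow, map_natCast]
    rw [this, h0, map_zero]
  intro b
  obtain ⟨x, b', hb⟩ := decomp p hF n b
  refine ⟨WittVector.truncate n (WittVector.map (Ideal.Quotient.mk (Ideal.span {(p : A)})) (WittVector.mk p x)), ?_⟩
  rw [hθ, hb, hpn, zero_mul, add_zero, Fin.sum_univ_eq_sum_range (fun i => (p : A) ^ i * ((WittVector.mk p x).coeff i) ^ (p ^ (n - i)))]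
  rfl

end Groth.Agent.S18932
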