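import Groth.Statements.S18931
import Mathlib
import Groth.Agent.S18932

set_option autoImplicit false
universe u
open DPow

namespace Groth.Agent.S18931

/-- Let p be a prime, n ≥ 1, B a commutative ring with p^n = 0 and A = B/pB, and assume that the p-th
power map of A is surjective. Let θ : W_n(A) → B be the ring homomorphism which sends the reduction
of a Witt vector (x_0, …, x_{n−1}) over B to Σ_{i<n} p^i x_i^(p^(n−i)). Then every a in W_n(A) with
a_0^(p^n) = 0 lies in ker θ + (p); together with the reverse inclusion, ker θ + (p) is exactly the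
set of such a. (In the source B is the ring of global sections of a scheme over the Witt vectors of
length n of a perfect field. The printed argument subtracts a single correction term, which suffices
for n ≤ 2; in general one corrects the components one at a time.) -/
theorem result (p : ℕ) [Fact p.Prime]
    (n : ℕ) (hn : 0 < n) {B : Type u} [CommRing B] (hp : (p : B) ^ n = 0)
    (hF : Function.Surjective (fun y : B ⧸ (Ideal.span {(p : B)}) => y ^ p))
    (θ : TruncatedWittVector p n (B ⧸ (Ideal.span {(p : B)})) →+* B)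
    (hθ : ∀ x : WittVector p B, θ (WittVector.truncate n (WittVector.map (Ideal.Quotient.mk (Ideal.span {(p : B)})) x)) =
        ∑ i : Fin n, (p : B) ^ (i : ℕ) * (x.coeff i) ^ (p ^ (n - i)))
    (a : TruncatedWittVector p n (B ⧸ (Ideal.span {(p : B)}))) (ha : (TruncatedWittVector.coeff ⟨0, hn⟩ a) ^ (p ^ n) = 0) :
    a ∈ RingHom.ker θ ⊔ Ideal.span {(p : TruncatedWittVector p n (B ⧸ (Ideal.span {(p : B)})))} := by
  classical
  -- θ is surjective
  have hsurj : Function.Surjective θ := by
    intro b
    obtain ⟨x, b', hb⟩ := Groth.Agent.S18932.decomp p hF n b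
    refine ⟨WittVector.truncate n (WittVector.map (Ideal.Quotient.mk (Ideal.span {(p : B)})) (WittVector.mk p x)), ?_⟩
    rw [hθ, hb, hp, zero_mul, add_zero,
      Fin.sum_univ_eq_sum_range (fun i => (p : B) ^ i * ((WittVector.mk p x).coeff i) ^ (p ^ (n - i)))]
    rfl
  obtain ⟨n', rfl⟩ := Nat.exists_eq_succ_of_ne_zero hn.ne'
  obtain ⟨J, rfl⟩ := WittVector.truncate_surjective (p := p) (n' + 1) (B ⧸ Ideal.span {(p : B)}) a
  obtain ⟨x, rfl⟩ := WittVector.map_surjective (p := p) (Ideal.Quotient.mk (Ideal.span {(p : B)})) Ideal.Quotient.mk_surjective J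
  rw [WittVector.coeff_truncate] at ha
  change (Ideal.Quotient.mk (Ideal.span {(p : B)}) (x.coeff 0)) ^ (p ^ (n' + 1)) = 0 at ha
  rw [← map_pow, Ideal.Quotient.eq_zero_iff_mem, Ideal.mem_span_singleton'] at ha
  obtain ⟨t, ht⟩ := ha
  have hθx := hθ x
  rw [Fin.sum_univ_succ] at hθx
  simp only [Fin.val_zero, pow_zero, one_mul, Nat.sub_zero, Fin.val_succ] at hθx
  set y : B := t + ∑ i : Fin n', (p : B) ^ (i : ℕ) * x.coeff ((i : ℕ) + 1) ^ p ^ (n' + 1 - ((i : ℕ) + 1)) with hy
  have hθy : θ (WittVector.truncate (n' + 1) (WittVector.map (Ideal.Quotient.mk (Ideal.span {(p : B)})) x)) = y * (p : B) := by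
    rw [hθx, ← ht, hy, add_mul, Finset.sum_mul]
    congr 1
    refine Finset.sum_congr rfl (fun i _ => ?_)
    ring
  obtain ⟨c, hc⟩ := hsurj y
  set a := WittVector.truncate (n' + 1) (WittVector.map (Ideal.Quotient.mk (Ideal.span {(p : B)})) x) with ha'
  have hsplit : a = (a - c * (p : TruncatedWittVector p (n' + 1) (B ⧸ Ideal.span {(p : B)}))) +
      c * (p : TruncatedWittVector p (n' + 1) (B ⧸ Ideal.span {(p : B)})) := by ring
  rw [hsplit]
  refine Submodule.add_mem_sup ?_ (Ideal.mem_span_singleton'.2 ⟨c, rfl⟩)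
  rw [RingHom.mem_ker, map_sub, map_mul, map_natCast, hθy, hc, sub_self]

end Groth.Agent.S18931
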