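import Groth.Statements.S18935
import Mathlib
import Groth.Agent.S15822
import Groth.Agent.S15816
import Groth.Agent.Lib.Helper3.KosPerf
import Groth.Agent.Lib.Helper26.Kos9

set_option autoImplicit false
universe u
open LCI

namespace Groth.Agent.S18935

open CategoryTheory CategoryTheory.Limits

section Aux

variable {R : Type u} [CommRing R]

/-- vanishing of the homology of the module-coefficient Koszul model with coefficients `R`. -/
def Q (l : List R) (e : ℤ) : Prop :=
  IsZero ((CohIII.koszulCx (ModuleCat.of R R) l).homology e)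

lemma Q_iff (l : List R) (e : ℤ) : Q l e ↔ IsZero ((Koszul.koszul R l).homology e) := by
  unfold Q
  have i : (Koszul.koszul R l).homology e ≅ (CohIII.koszulCx (ModuleCat.of R R) l).homology e :=
    (HomologicalComplex.homologyFunctor _ _ e).mapIso (eqToIso (Groth.Agent.S15816.koszul_eq l))
  exact ⟨fun h => h.of_iso i, fun h => h.of_iso i.symm⟩

lemma Q_perm {l l' : List R} (h : l.Perm l') (e : ℤ) (hl : Q l e) : Q l' e := by
  obtain ⟨i⟩ := Groth.Agent.Lib.helper26.Kos.nonempty_iso_of_perm (ModuleCat.of R R) h
  exact IsZero.of_iso hl ((HomologicalComplex.homologyFunctor _ _ e).mapIso i.symm)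

lemma Q_append_of_forall (xs ys : List R) (hy : ∀ y ∈ ys, y ∈ Ideal.span {a | a ∈ xs}) (e : ℤ)
    (h : ∀ j : ℕ, j ≤ ys.length → Q xs (e + j)) : Q (ys ++ xs) e := by
  obtain ⟨φ⟩ := Groth.Agent.S15822.key (ModuleCat.of R R) xs ys hy e
  have φ' : ((CohIII.koszulCx (ModuleCat.of R R) (ys ++ xs)).homology e) ≃ₗ[R]
      ((i : ℕ) → Fin (ys.length.choose i) →
        ((CohIII.koszulCx (ModuleCat.of R R) xs).homology (e + i) : Type u)) := φ
  haveI : ∀ j : ℕ, Subsingleton (Fin (ys.length.choose j) →
      ((CohIII.koszulCx (ModuleCat.of R R) xs).homology (e + j) : Type u)) := fun j => by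
    by_cases hj : j ≤ ys.length
    · haveI := ModuleCat.subsingleton_of_isZero (h j hj)
      infer_instance
    · haveI : IsEmpty (Fin (ys.length.choose j)) := by
        rw [Nat.choose_eq_zero_of_lt (not_le.mp hj)]; infer_instance
      infer_instance
  haveI : Subsingleton ((CohIII.koszulCx (ModuleCat.of R R) (ys ++ xs)).homology e) :=
    φ'.toEquiv.subsingleton
  exact ModuleCat.isZero_of_subsingleton _

lemma Q_of_append (xs ys : List R) (hy : ∀ y ∈ ys, y ∈ Ideal.span {a | a ∈ xs}) (e : ℤ)
    (h : Q (ys ++ xs) e) (j : ℕ) (hj : j ≤ ys.length) (e' : ℤ) (he' : e' = e + j) : Q xs e' := by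
  subst he'
  obtain ⟨φ⟩ := Groth.Agent.S15822.key (ModuleCat.of R R) xs ys hy e
  have φ' : ((CohIII.koszulCx (ModuleCat.of R R) (ys ++ xs)).homology e) ≃ₗ[R]
      ((i : ℕ) → Fin (ys.length.choose i) →
        ((CohIII.koszulCx (ModuleCat.of R R) xs).homology (e + i) : Type u)) := φ
  haveI : Subsingleton ((CohIII.koszulCx (ModuleCat.of R R) (ys ++ xs)).homology e) :=
    ModuleCat.subsingleton_of_isZero h
  have hP : Subsingleton ((i : ℕ) → Fin (ys.length.choose i) →
        ((CohIII.koszulCx (ModuleCat.of R R) xs).homology (e + i) : Type u)) :=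
    φ'.symm.toEquiv.subsingleton
  haveI : Subsingleton ((CohIII.koszulCx (ModuleCat.of R R) xs).homology (e + j)) := by
    refine ⟨fun x y => ?_⟩
    have k0 : Fin (ys.length.choose j) := ⟨0, Nat.choose_pos hj⟩
    have := hP.elim (Function.update (0 : (i : ℕ) → Fin (ys.length.choose i) →
        ((CohIII.koszulCx (ModuleCat.of R R) xs).homology (e + i) : Type u)) j (fun _ => x))
      (Function.update 0 j (fun _ => y))
    have h2 := congrFun (congrFun this j) k0
    simpa using h2
  exact ModuleCat.isZero_of_subsingleton _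

end Aux



/-- Let R be a commutative ring and I a proper ideal of R which is generated by some Koszul-regular
sequence. A finite sequence f of generators of I is Koszul-regular if and only if f has the smallest
possible length among all finite generating sequences of I. (Properness of I is needed: the
sequences (1) and (1, 1) are both Koszul-regular and generate the unit ideal.) -/
theorem result {R : Type u} [CommRing R] {I : Ideal R} (hI : I ≠ ⊤)
    (g : List R) (hg : LCI.IsKoszulRegularSeq R g) (hgI : Ideal.ofList g = I)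
    (f : List R) (hfI : Ideal.ofList f = I) :
    LCI.IsKoszulRegularSeq R f ↔ ∀ h : List R, Ideal.ofList h = I → f.length ≤ h.length := by
  have hsub : ∀ l : List R, Ideal.ofList l = I → ∀ l' : List R, Ideal.ofList l' = I →
      ∀ y ∈ l, y ∈ Ideal.span {a | a ∈ l'} := by
    intro l hl l' hl' y hy
    have : y ∈ Ideal.ofList l := Ideal.subset_span hy
    rw [hl, ← hl'] at this
    exact this
  have fwd : ∀ f' : List R, LCI.IsKoszulRegularSeq R f' → Ideal.ofList f' = I →
      ∀ h : List R, Ideal.ofList h = I → f'.length ≤ h.length := by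
    intro f' hf' hf'I h hhI
    by_contra hlt
    have hlt' : h.length < f'.length := not_le.mp hlt
    have s1 : Q (h ++ f') (-(f'.length : ℤ)) := by
      apply Q_append_of_forall f' h (hsub h hhI f' hf'I)
      intro j hj
      rw [Q_iff]
      have : (j : ℤ) < f'.length := by exact_mod_cast lt_of_le_of_lt hj hlt'
      exact hf' _ (by omega)
    have s2 : Q (f' ++ h) (-(f'.length : ℤ)) := Q_perm List.perm_append_comm _ s1
    have s3 : Q h 0 :=
      Q_of_append h f' (hsub f' hf'I h hhI) _ s2 f'.length le_rfl 0 (by ring)
    obtain ⟨i⟩ := Groth.Agent.Lib.helper3.KosPerf.nonempty_homology_zero_iso h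
    have s4 : IsZero ((Koszul.koszul R h).homology 0) := (Q_iff h 0).mp s3
    have s5 : IsZero (ModuleCat.of R (R ⧸ Ideal.span {x | x ∈ h})) := s4.of_iso i.symm
    have s6 : Subsingleton (R ⧸ Ideal.span {x | x ∈ h}) := ModuleCat.subsingleton_of_isZero s5
    apply hI
    rw [← hhI]
    exact Ideal.Quotient.subsingleton_iff.mp s6
  constructor
  · intro hf h hh
    exact fwd f hf hfI h hh
  · intro hmin e he
    have hle : f.length ≤ g.length := hmin g hgI
    have hge : g.length ≤ f.length := fwd g hg hgI f hfI
    have hlen : g.length = f.length := le_antisymm hge hle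
    rcases lt_or_gt_of_ne he with hneg | hpos
    · rw [← Q_iff]
      have s1 : Q (f ++ g) (e - f.length) := by
        apply Q_append_of_forall g f (hsub f hfI g hgI)
        intro j hj
        rw [Q_iff]
        have : (j : ℤ) ≤ f.length := by exact_mod_cast hj
        exact hg _ (by omega)
      have s2 : Q (g ++ f) (e - f.length) := Q_perm List.perm_append_comm _ s1
      exact Q_of_append f g (hsub g hgI f hfI) _ s2 g.length le_rfl e (by rw [hlen]; ring)
    · exact ShortComplex.isZero_homology_of_isZero_X₂ _
        ((Groth.Agent.Lib.helper3.KosPerf.koszul_terms f e).2 (Or.inr hpos))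


end Groth.Agent.S18935
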