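import Groth.Statements.S18936
import Mathlib

set_option autoImplicit false
universe u
open CAlg

namespace Groth.Agent.S18936

/-- Let A be a Noetherian commutative ring, q a prime ideal of A and f an element of A whose image in
the localization A_q is a non-zero-divisor. Then there is an element b of A not in q such that the
image of f in A[1/b] is a non-zero-divisor. -/
theorem result {A : Type u} [CommRing A] [IsNoetherianRing A]
    (q : Ideal A) [q.IsPrime] (f : A)
    (hf : algebraMap A (Localization.AtPrime q) f ∈ nonZeroDivisors (Localization.AtPrime q)) :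
    ∃ b : A, b ∉ q ∧ algebraMap A (Localization.Away b) f ∈ nonZeroDivisors (Localization.Away b) := by
  classical
  -- the annihilator of f
  let K : Ideal A := (Ideal.span ({f} : Set A)).annihilator
  have hKmem : ∀ x : A, x ∈ K ↔ x * f = 0 := fun x => by
    simp only [K, Ideal.span, Submodule.mem_annihilator_span_singleton, smul_eq_mul]
  have hKfg : K.FG := IsNoetherian.noetherian K
  -- every element of K is killed by something outside q
  have hloc : ∀ x ∈ K, ∃ s : A, s ∉ q ∧ s * x = 0 := by
    intro x hx
    have h0 : algebraMap A (Localization.AtPrime q) x * algebraMap A (Localization.AtPrime q) f = 0 := by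
      rw [← map_mul, (hKmem x).1 hx, map_zero]
    have h1 : algebraMap A (Localization.AtPrime q) x = 0 :=
      (mem_nonZeroDivisors_iff_right.1 hf) _ h0
    obtain ⟨m, hm⟩ := (IsLocalization.map_eq_zero_iff q.primeCompl (Localization.AtPrime q) x).1 h1
    exact ⟨m, m.2, hm⟩
  obtain ⟨S, hS⟩ := hKfg
  have hb : ∃ b : A, b ∉ q ∧ ∀ x ∈ K, b * x = 0 := by
    choose! t ht using hloc
    refine ⟨∏ x ∈ S, t x, ?_, ?_⟩
    · intro hmem
      obtain ⟨x, hxS, hx⟩ := (Ideal.IsPrime.prod_mem_iff (hp := inferInstance)).1 hmem
      exact (ht x (hS ▸ Submodule.subset_span hxS)).1 hx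
    · intro x hx
      rw [← hS] at hx
      induction hx using Submodule.span_induction with
      | mem x hx =>
        have hxK : x ∈ K := hS ▸ Submodule.subset_span hx
        rw [← Finset.mul_prod_erase S t hx, mul_comm (t x), mul_assoc, (ht x hxK).2, mul_zero]
      | zero => exact mul_zero _
      | add x y _ _ hx hy => rw [mul_add, hx, hy, add_zero]
      | smul a x _ hx => rw [smul_eq_mul, mul_left_comm, hx, mul_zero]
  obtain ⟨b, hbq, hbK⟩ := hb
  refine ⟨b, hbq, ?_⟩
  rw [mem_nonZeroDivisors_iff_right]
  intro z hz
  obtain ⟨y, s, rfl⟩ := IsLocalization.exists_mk'_eq (Submonoid.powers b) z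
  rw [← IsLocalization.mk'_one (M := Submonoid.powers b) (Localization.Away b) f,
    ← IsLocalization.mk'_mul, IsLocalization.mk'_eq_zero_iff] at hz
  obtain ⟨m, hm⟩ := hz
  rw [IsLocalization.mk'_eq_zero_iff]
  have hK : (m : A) * y ∈ K := by
    rw [hKmem, mul_assoc]; exact hm
  refine ⟨⟨b, Submonoid.mem_powers b⟩ * m, ?_⟩
  have := hbK _ hK
  simpa [mul_assoc] using this

end Groth.Agent.S18936
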