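import Groth.Statements.S18937
import Groth.Agent.S18944
import Groth.Agent.LibRegImmSpec29
import Groth.Agent.LibRegPres29
import Groth.Agent.Lib.Helper17.RegNear
import Groth.Agent.Lib.Helper17.RegTwoOfThree
-- import your own Groth.Agent.* helpers here

set_option autoImplicit false
universe u
open CategoryTheory AlgebraicGeometry
open RegImm

namespace Groth.Agent.S18937

open MvPolynomial RingTheory.Sequence Groth.Agent.LibRegPres29 Groth.Agent.LibAwayPres29


/-- Let A be a Noetherian commutative ring, n a natural number, I an ideal of the polynomial ring A[X_1,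
…, X_n] and B = A[X_1, …, X_n]/I, and assume that the closed immersion Spec B → Spec A[X_1, …, X_n]
is a regular immersion (kind: successive non-zero-divisors). Then Spec B is covered by basic opens
D(g) with B[1/g] isomorphic, as an A-algebra, to a quotient A[X_0, …, X_n]/(P_1, …, P_d) of the
polynomial ring in one more variable by a regular sequence P_1, …, P_d. -/
theorem result
    (A : Type u) [CommRing A] [IsNoetherianRing A] (n : ℕ) (I : Ideal (MvPolynomial (Fin n) A))
    (h : RegImm.IsRegularImmersion RegImm.Kind.regular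
      (Spec.map (CommRingCat.ofHom (Ideal.Quotient.mk I))))
    (q : PrimeSpectrum (MvPolynomial (Fin n) A ⧸ I)) :
    ∃ g : MvPolynomial (Fin n) A ⧸ I, g ∉ q.asIdeal ∧
      ∃ (d : ℕ) (P : Fin d → MvPolynomial (Fin (n + 1)) A),
        RingTheory.Sequence.IsRegular (MvPolynomial (Fin (n + 1)) A) (List.ofFn P) ∧
        Nonempty (Localization.Away g ≃ₐ[A] (MvPolynomial (Fin (n + 1)) A ⧸ Ideal.ofList (List.ofFn P))) := by
  classical
  set f : CommRingCat.of (MvPolynomial (Fin n) A) ⟶ CommRingCat.of (MvPolynomial (Fin n) A ⧸ I) :=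
    CommRingCat.ofHom (Ideal.Quotient.mk I) with hf
  have hfs : Function.Surjective f.hom := Ideal.Quotient.mk_surjective
  obtain ⟨rs, hrs, hker⟩ := Groth.Agent.S18944.result (Spec.map f) h q
  letI a1 : Algebra (MvPolynomial (Fin n) A)
      ((Spec (CommRingCat.of (MvPolynomial (Fin n) A))).presheaf.stalk ((Spec.map f) q)) :=
    StructureSheaf.stalkAlgebra (MvPolynomial (Fin n) A) (q.comap f.hom)
  have l1 : IsLocalization.AtPrime
      ((Spec (CommRingCat.of (MvPolynomial (Fin n) A))).presheaf.stalk ((Spec.map f) q))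
      (q.comap f.hom).asIdeal :=
    StructureSheaf.IsLocalization.to_stalk (MvPolynomial (Fin n) A) (q.comap f.hom)
  have hk := Groth.Agent.LibRegImmSpec29.ker_stalkMap_SpecMap_of_surjective f hfs q
  have hkerf : RingHom.ker f.hom = I := Ideal.mk_ker
  rw [hkerf] at hk
  have hIQ : I ≤ (q.comap f.hom).asIdeal := by
    intro x hx
    change Ideal.Quotient.mk I x ∈ q.asIdeal
    rw [Ideal.Quotient.eq_zero_iff_mem.mpr hx]
    exact Ideal.zero_mem _
  obtain ⟨g₀, hg₀, ks, hlen, hksI, hB⟩ :=
    Groth.Agent.Lib.helper17.RegNear.spread_regular' (q.comap f.hom).asIdeal I hIQ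
      ((Spec (CommRingCat.of (MvPolynomial (Fin n) A))).presheaf.stalk ((Spec.map f) q))
      rs hrs.toIsWeaklyRegular (hk.symm.trans hker)
  have hrangeK : Set.range (fun i : Fin ks.length => ks.get i) = {x | x ∈ ks} := by
    ext x
    constructor
    · rintro ⟨i, rfl⟩; exact List.get_mem ks i
    · intro hx
      obtain ⟨i, rfl⟩ := List.mem_iff_get.mp hx
      exact ⟨i, rfl⟩
  have hJI : Ideal.span (Set.range (fun i : Fin ks.length => ks.get i)) ≤ I := by
    rw [Ideal.span_le]
    rintro _ ⟨i, rfl⟩
    exact hksI _ (List.get_mem ks i)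
  have hmul : ∀ b ∈ I, ∃ k : ℕ,
      g₀ ^ k * b ∈ Ideal.span (Set.range (fun i : Fin ks.length => ks.get i)) := by
    intro b hb
    have h1 := (hB (Localization.Away g₀)).2
    have h2 : algebraMap _ (Localization.Away g₀) b ∈
        (Ideal.ofList ks).map (algebraMap (MvPolynomial (Fin n) A) (Localization.Away g₀)) := by
      rw [Ideal.map_ofList, ← h1]
      exact Ideal.mem_map_of_mem _ hb
    rw [IsLocalization.mem_map_algebraMap_iff (Submonoid.powers g₀)] at h2
    obtain ⟨⟨⟨a, ha⟩, ⟨_, k, rfl⟩⟩, hak⟩ := h2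
    rw [← map_mul, IsLocalization.eq_iff_exists (Submonoid.powers g₀)] at hak
    obtain ⟨⟨_, m, rfl⟩, hm⟩ := hak
    refine ⟨m + k, ?_⟩
    have h3 : g₀ ^ (m + k) * b = g₀ ^ m * a := by
      rw [← hm]; ring
    rw [h3, hrangeK]
    exact Ideal.mul_mem_left _ _ ha
  obtain ⟨Φ⟩ := nonempty_away_equiv' (fun i : Fin ks.length => ks.get i) I hJI g₀ hmul
  set Pseq : Fin (ks.length + 1) → MvPolynomial (Fin (n + 1)) A :=
    Fin.cons (rel g₀) (fun i => rename Fin.castSucc (ks.get i)) with hPseq
  have hofFn : List.ofFn Pseq = rel g₀ :: ks.map (rename Fin.castSucc) := by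
    rw [List.ofFn_succ]
    congr 1
    have : (fun i : Fin ks.length => Pseq i.succ) =
        fun i : Fin ks.length => rename Fin.castSucc (ks.get i) := by
      funext i
      simp [hPseq]
    rw [this]
    apply List.ext_get
    · simp
    · intro i h1 h2
      simp
  have hideal : Ideal.span (Set.range (eqsPlus (fun i : Fin ks.length => ks.get i) g₀)) =
      Ideal.ofList (List.ofFn Pseq) := by
    rw [Groth.Agent.Lib.helper17.RegTwoOfThree.ofList_ofFn]
    congr 1
    rw [hPseq, Fin.range_cons, eqsPlus, Fin.range_snoc]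
    rfl
  refine ⟨Ideal.Quotient.mk I g₀, hg₀, ks.length + 1, Pseq, ?_, ⟨?_⟩⟩
  · rw [hofFn]
    exact isRegular_cons_rename g₀ ks (fun B _ _ _ => (hB B).1)
  · exact Φ.trans (Ideal.quotientEquivAlgOfEq A hideal)

end Groth.Agent.S18937
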