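import Groth.Statements.S18938
import Groth.Agent.LibRegPres29
import Groth.Agent.S2237
import Groth.Agent.LibRelGCIMain29b
import Groth.Agent.Lib.Helper17.RegSpread2
-- import your own Groth.Agent.* helpers here

set_option autoImplicit false
universe u
open Synt

namespace Groth.Agent.S18938

open MvPolynomial RingTheory.Sequence Groth.Agent.LibRegPres29 Groth.Agent.LibAwayPres29
  Groth.Agent.Lib.helper17.CIField Groth.Agent.LibSyntKey29


/-- Let A be a Noetherian commutative ring and B a syntomic A-algebra. Then Spec B is covered by basic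
opens D(g) with B[1/g] isomorphic, as an A-algebra, to A[T_1, …, T_n]/(P_1, …, P_d) for a regular
sequence P_1, …, P_d (successive non-zero-divisors with nonzero last quotient) in the polynomial
ring A[T_1, …, T_n]. (The source states this for a syntomic scheme over Spec A, syntomic meaning
flat, locally of finite presentation and locally a Koszul-regular immersion into a smooth scheme;
here syntomic is the ring-map notion with local complete intersection fibres, which agrees with it.) -/
theorem result
    (A : Type u) [CommRing A] [IsNoetherianRing A] (B : Type u) [CommRing B] [Algebra A B]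
    (h : Synt.IsSyntomic A B) (q : PrimeSpectrum B) :
    ∃ g : B, g ∉ q.asIdeal ∧
      ∃ (n d : ℕ) (P : Fin d → MvPolynomial (Fin n) A),
        RingTheory.Sequence.IsRegular (MvPolynomial (Fin n) A) (List.ofFn P) ∧
        Nonempty (Localization.Away g ≃ₐ[A] (MvPolynomial (Fin n) A ⧸ Ideal.ofList (List.ofFn P))) := by
  classical
  obtain ⟨h₁, hh₁, n, c, F, hF, ⟨e⟩⟩ :=
    Groth.Agent.S2237.exists_away_relGCI_of_isSyntomic A B h q.asIdeal
  obtain ⟨qT, hqTp, hqT⟩ := exists_prime_away h₁ q.asIdeal hh₁
  have hIq : Ideal.span (Set.range F) ≤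
      (qT.comap (e.symm : Synt.RelGCIRing A n c F →+* Localization.Away h₁)).comap
        (Ideal.Quotient.mk (Ideal.span (Set.range F))) := by
    intro x hx
    rw [Ideal.mem_comap, Ideal.Quotient.eq_zero_iff_mem.mpr hx]
    exact Ideal.zero_mem _
  obtain ⟨hwr, -⟩ := Groth.Agent.LibRelGCIMain29.main A n c F hF _ hIq
  have hK : (Ideal.span (Set.range F)).map (algebraMap (MvPolynomial (Fin n) A)
      (Localization.AtPrime ((qT.comap (e.symm : Synt.RelGCIRing A n c F →+*
        Localization.Away h₁)).comap (Ideal.Quotient.mk (Ideal.span (Set.range F)))))) =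
      Ideal.ofList ((List.ofFn F).map (algebraMap (MvPolynomial (Fin n) A)
      (Localization.AtPrime ((qT.comap (e.symm : Synt.RelGCIRing A n c F →+*
        Localization.Away h₁)).comap (Ideal.Quotient.mk (Ideal.span (Set.range F))))))) := by
    rw [← Ideal.map_ofList, Groth.Agent.Lib.helper17.RegTwoOfThree.ofList_ofFn]
  obtain ⟨g₀, hg₀, ks, hlen, hksI, hB⟩ :=
    Groth.Agent.Lib.helper17.RegSpread.spread_regular _ (Ideal.span (Set.range F)) hIq _ hwr hK
  have hrangeK : Set.range (fun i : Fin ks.length => ks.get i) = {x | x ∈ ks} := by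
    ext x
    constructor
    · rintro ⟨i, rfl⟩; exact List.get_mem ks i
    · intro hx
      obtain ⟨i, rfl⟩ := List.mem_iff_get.mp hx
      exact ⟨i, rfl⟩
  have hJI : Ideal.span (Set.range (fun i : Fin ks.length => ks.get i)) ≤
      Ideal.span (Set.range F) := by
    rw [Ideal.span_le]
    rintro _ ⟨i, rfl⟩
    exact hksI _ (List.get_mem ks i)
  have hmul : ∀ b ∈ Ideal.span (Set.range F), ∃ k : ℕ,
      g₀ ^ k * b ∈ Ideal.span (Set.range (fun i : Fin ks.length => ks.get i)) := by
    intro b hb
    have h1 := (hB (Localization.Away g₀)).2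
    have h2 : algebraMap _ (Localization.Away g₀) b ∈
        (Ideal.ofList ks).map (algebraMap (MvPolynomial (Fin n) A) (Localization.Away g₀)) := by
      rw [Ideal.map_ofList, ← h1]
      exact Ideal.mem_map_of_mem _ hb
    rw [IsLocalization.mem_map_algebraMap_iff (Submonoid.powers g₀)] at h2
    obtain ⟨⟨⟨a, ha⟩, ⟨_, k, rfl⟩⟩, hak⟩ := h2
    rw [← map_mul, IsLocalization.eq_iff_exists (Submonoid.powers g₀)] at hak
    obtain ⟨⟨_, m, rfl⟩, hm⟩ := hak
    refine ⟨m + k, ?_⟩
    have h3 : g₀ ^ (m + k) * b = g₀ ^ m * a := by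
      rw [← hm]; ring
    rw [h3, hrangeK]
    exact Ideal.mul_mem_left _ _ ha
  obtain ⟨Φ⟩ := nonempty_away_equiv' (fun i : Fin ks.length => ks.get i)
    (Ideal.span (Set.range F)) hJI g₀ hmul
  have hx : (e.symm (Ideal.Quotient.mk (Ideal.span (Set.range F)) g₀)) ∉ qT := hg₀
  obtain ⟨g, hg, ⟨Ψ⟩⟩ := exists_away_equiv_away (A := A) q.asIdeal h₁ qT hqT hh₁
    (e.symm (Ideal.Quotient.mk (Ideal.span (Set.range F)) g₀)) hx
  set Pseq : Fin (ks.length + 1) → MvPolynomial (Fin (n + 1)) A :=
    Fin.cons (rel g₀) (fun i => rename Fin.castSucc (ks.get i)) with hPseq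
  have hofFn : List.ofFn Pseq = rel g₀ :: ks.map (rename Fin.castSucc) := by
    rw [List.ofFn_succ]
    congr 1
    have : (fun i : Fin ks.length => Pseq i.succ) =
        fun i : Fin ks.length => rename Fin.castSucc (ks.get i) := by
      funext i
      simp [hPseq]
    rw [this]
    apply List.ext_get
    · simp
    · intro i h1 h2
      simp
  have hideal : Ideal.span (Set.range (eqsPlus (fun i : Fin ks.length => ks.get i) g₀)) =
      Ideal.ofList (List.ofFn Pseq) := by
    rw [Groth.Agent.Lib.helper17.RegTwoOfThree.ofList_ofFn]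
    congr 1
    rw [hPseq, Fin.range_cons, eqsPlus, Fin.range_snoc]
    rfl
  refine ⟨g, hg, n + 1, ks.length + 1, Pseq, ?_, ⟨?_⟩⟩
  · rw [hofFn]
    exact isRegular_cons_rename g₀ ks (fun B _ _ _ => (hB B).1)
  · exact Ψ.trans ((awayEquivOfAlgEquiv e.symm
      (Ideal.Quotient.mk (Ideal.span (Set.range F)) g₀)).symm.trans
      (Φ.trans (Ideal.quotientEquivAlgOfEq A hideal)))

end Groth.Agent.S18938
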