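import Groth.Statements.S1894
import Mathlib
import Groth.Agent.S7456
import Groth.Agent.S1893
import Groth.Agent.Lib.Helper28.QCClosure
-- import your own Groth.Agent.* helpers here

set_option autoImplicit false
universe u
open CategoryTheory CategoryTheory.Limits AlgebraicGeometry
open Grpd

namespace Groth.Agent.S1894


open TopologicalSpace Groth.Agent.Lib.helper28.QCClosure

/-- Let (U, R, s, t, c) be a groupoid scheme over S with s, t quasi-compact and flat and U
quasi-separated, and W ⊆ U a quasi-compact open. Then there are an R-invariant open V (s⁻¹V = t⁻¹V)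
and a quasi-compact open W' with W ⊆ V ⊆ W'. (A groupoid scheme carries U, R, s, t, c, e, i over S
with the groupoid axioms on T-points; 'finite locally free' is finite, flat and locally of finite
presentation; C ⊂ Γ(U) is the ring of functions a with s♯(a) = t♯(a) and M = Spec C.) -/
theorem result (S : Scheme.{u}) (G : Grpd.GroupoidScheme S) [QuasiCompact G.s] [Flat G.s] [QuasiCompact G.t] [Flat G.t] [QuasiSeparatedSpace G.U] (W : G.U.Opens) (hW : IsCompact (W : Set G.U)) : ∃ V W' : G.U.Opens, G.s ⁻¹ᵁ V = G.t ⁻¹ᵁ V ∧ IsCompact (W' : Set G.U) ∧ W ≤ V ∧ V ≤ W' := by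
  classical
  have hinv := (Groth.Agent.S7456.result S G).1
  -- E and its properties
  set E : Set G.U := ⇑G.t '' (⇑G.s ⁻¹' (W : Set G.U)) with hE
  have hEK : IsCompact E := (G.s.isCompact_preimage hW).image G.t.continuous
  have hEg : StableUnderGeneralization E :=
    (G.s ⁻¹ᵁ W).isOpen.stableUnderGeneralization.image (Flat.generalizingMap G.t)
  have hEinv : ⇑G.s ⁻¹' E = ⇑G.t ⁻¹' E := hinv (W : Set G.U)
  have hes : ∀ x : G.U, G.s (G.e x) = x := fun x => by
    rw [← Scheme.Hom.comp_apply, G.e_s]; rfl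
  have het : ∀ x : G.U, G.t (G.e x) = x := fun x => by
    rw [← Scheme.Hom.comp_apply, G.e_t]; rfl
  have his : ∀ r : G.R, G.s (G.i r) = G.t r := fun r => by
    rw [← Scheme.Hom.comp_apply, G.i_s]
  have hit : ∀ r : G.R, G.t (G.i r) = G.s r := fun r => by
    rw [← Scheme.Hom.comp_apply, G.i_t]
  have hWE : (W : Set G.U) ⊆ E := fun w hw => ⟨G.e w, by simpa [hes w] using hw, het w⟩
  obtain ⟨W', hW'c, hEW', -⟩ :=
    Groth.Agent.S1893.exists_qc_open E hEK ∅ isClosed_empty (Set.disjoint_empty _)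
  -- T
  set Z : Set G.U := (W' : Set G.U)ᶜ with hZ
  have hZc : IsClosed Z := W'.isOpen.isClosed_compl
  set T : Set G.U := ⇑G.t '' (⇑G.s ⁻¹' Z) with hT
  have hTinv : ⇑G.s ⁻¹' T = ⇑G.t ⁻¹' T := hinv Z
  have hZT : Z ⊆ T := fun z hz => ⟨G.e z, by simpa [hes z] using hz, het z⟩
  have hET : Disjoint E T := by
    rw [Set.disjoint_left]
    rintro _ hxE ⟨r, hr, rfl⟩
    have h1 : r ∈ ⇑G.s ⁻¹' E := by rw [hEinv]; exact hxE
    exact hr (hEW' h1)
  have hspec : ∀ ξ ∈ closure T, ∃ ξ' ∈ T, ξ' ⤳ ξ := by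
    intro ξ hξ
    obtain ⟨z, hz, hsp⟩ := exists_specializes_of_mem_closure_image G.t (⇑G.s ⁻¹' Z)
      (hZc.preimage G.s.continuous) ξ hξ
    exact ⟨G.t z, ⟨z, hz, rfl⟩, hsp⟩
  have hETc : Disjoint E (closure T) := by
    rw [Set.disjoint_left]
    intro ξ hξE hξT
    obtain ⟨ξ', hξ'T, hsp⟩ := hspec ξ hξT
    exact Set.disjoint_left.mp hET (hEg hsp hξE) hξ'T
  have hst : ∀ r : G.R, G.s r ∈ closure T → G.t r ∈ closure T := by
    intro r hr
    obtain ⟨ξ', hξ'T, hsp⟩ := hspec _ hr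
    obtain ⟨r', hr'sp, hr's⟩ := Flat.generalizingMap G.s hsp
    have h1 : r' ∈ ⇑G.t ⁻¹' T := by rw [← hTinv]; show G.s r' ∈ T; rw [hr's]; exact hξ'T
    exact isClosed_closure.stableUnderSpecialization (hr'sp.map G.t.continuous) (subset_closure h1)
  have hts : ∀ r : G.R, G.t r ∈ closure T → G.s r ∈ closure T := by
    intro r hr
    have := hst (G.i r) (by rw [his]; exact hr)
    rwa [hit] at this
  refine ⟨⟨(closure T)ᶜ, isClosed_closure.isOpen_compl⟩, W', ?_, hW'c, ?_, ?_⟩
  · ext r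
    change G.s r ∈ (closure T)ᶜ ↔ G.t r ∈ (closure T)ᶜ
    exact not_congr ⟨hst r, hts r⟩
  · intro w hw
    exact fun h => Set.disjoint_left.mp hETc (hWE hw) h
  · intro v hv
    by_contra hvW
    exact hv (subset_closure (hZT hvW))

end Groth.Agent.S1894
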