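import Groth.Statements.S18942
import Mathlib
-- import your own Groth.Agent.* helpers here

set_option autoImplicit false
universe u
open DPow

namespace Groth.Agent.S18942

open WittVector in
/-- Let p be a prime, k a perfect field of characteristic p, n a natural number and x an element of
W_n(k), written here as the truncation of a Witt vector x over k. For any Witt vectors y_0, …,
y_{n−1} over k lifting the components of x under the map y ↦ (y_0)^(p^n) (that is, (y_i)_0^(p^n) =
x_i), one has x = Σ_{i<n} p^i y_i^(p^(n−i)) in W_n(k). -/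
theorem result (p : ℕ) [Fact p.Prime]
    (k : Type u) [Field k] [CharP k p] [PerfectRing k p] (n : ℕ) (x : WittVector p k)
    (y : Fin n → WittVector p k) (hy : ∀ i : Fin n, ((y i).coeff 0) ^ (p ^ n) = x.coeff i) :
    WittVector.truncate n x =
      WittVector.truncate n (∑ i : Fin n, (p : WittVector p k) ^ (i : ℕ) * (y i) ^ (p ^ (n - i))) := by
  classical
  rcases Nat.eq_zero_or_pos n with rfl | hn
  · ext i; exact i.elim0
  set z := ∑ i : Fin n, (p : WittVector p k) ^ (i : ℕ) * (y i) ^ (p ^ (n - i)) with hz
  -- Teichmüller expansion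
  have h1 := dvd_sub_sum_teichmuller_iterateFrobeniusEquiv_coeff (p := p) x (n - 1)
  rw [Nat.sub_add_cancel hn] at h1
  have hIic : Finset.Iic (n - 1) = Finset.range n := by
    ext i; simp only [Finset.mem_Iic, Finset.mem_range]; omega
  rw [hIic, Finset.sum_range
    (fun i => teichmuller p (((_root_.frobeniusEquiv k p).symm ^ i) (x.coeff i)) *
      (p : WittVector p k) ^ i)] at h1
  -- compare termwise
  have h2 : (p : WittVector p k) ^ n ∣
      (∑ i : Fin n, teichmuller p (((_root_.frobeniusEquiv k p).symm ^ (i : ℕ)) (x.coeff i)) *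
        (p : WittVector p k) ^ (i : ℕ)) - z := by
    rw [hz, ← Finset.sum_sub_distrib]
    refine Finset.dvd_sum fun i _ => ?_
    have hi : (i : ℕ) < n := i.2
    -- the Teichmüller coefficient
    have hco : ((_root_.frobeniusEquiv k p).symm ^ (i : ℕ)) (x.coeff i) =
        ((y i).coeff 0) ^ (p ^ (n - i)) := by
      rw [← iterateFrobeniusEquiv_symm, RingEquiv.symm_apply_eq, iterateFrobeniusEquiv_def,
        ← hy i, ← pow_mul, ← pow_add]
      congr 2; omega
    rw [hco, map_pow]
    -- y i ≡ teichmuller (y i).coeff 0 mod p
    have hp : (p : WittVector p k) ∣ teichmuller p ((y i).coeff 0) - y i := by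
      have := (mem_span_p_pow_iff_le_coeff_eq_zero (p := p)
        (teichmuller p ((y i).coeff 0) - y i) 1)
      rw [pow_one, Ideal.mem_span_singleton] at this
      rw [this]
      intro m hm
      obtain rfl : m = 0 := by omega
      have h0 := (le_coeff_eq_iff_le_sub_coeff_eq_zero (p := p)
        (x := teichmuller p ((y i).coeff 0)) (y := y i) (n := 1)).mp (by
          intro j hj
          obtain rfl : j = 0 := by omega
          rw [teichmuller_coeff_zero])
      exact h0 0 Nat.zero_lt_one
    have hpk := dvd_sub_pow_of_dvd_sub hp (n - i)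
    have hmul : (p : WittVector p k) ^ (i : ℕ) * (p : WittVector p k) ^ (n - i + 1) ∣
        (p : WittVector p k) ^ (i : ℕ) *
          (teichmuller p ((y i).coeff 0) ^ p ^ (n - i) - y i ^ p ^ (n - i)) :=
      mul_dvd_mul_left _ hpk
    have hpow : (p : WittVector p k) ^ n ∣
        (p : WittVector p k) ^ (i : ℕ) * (p : WittVector p k) ^ (n - i + 1) := by
      rw [← pow_add]
      exact pow_dvd_pow _ (by omega)
    have := hpow.trans hmul
    convert this using 1
    ring
  have hdiv : (p : WittVector p k) ^ n ∣ x - z := by
    have := dvd_add h1 h2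
    convert this using 1
    ring
  have hmem : x - z ∈ RingHom.ker (truncate (p := p) (R := k) n) := by
    rw [mem_ker_truncate]
    exact (mem_span_p_pow_iff_le_coeff_eq_zero _ n).mp (Ideal.mem_span_singleton.mpr hdiv)
  rw [RingHom.mem_ker, map_sub, sub_eq_zero] at hmem
  exact hmem

end Groth.Agent.S18942
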