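import Groth.Statements.S18943
import Mathlib.Analysis.Calculus.ParametricIntervalIntegral
import Mathlib.MeasureTheory.Integral.IntervalIntegral.FundThmCalculus
import Mathlib.Analysis.Calculus.ContDiff.Basic
import Mathlib.Analysis.Calculus.ContDiff.Deriv
import Mathlib.Analysis.Calculus.ContDiff.Operations
import Mathlib.Analysis.Calculus.Deriv.Mul
import Mathlib.Tactic.Ring
import Mathlib.Tactic.Linarith

set_option autoImplicit false
open scoped ContDiff
open CInfGerm

namespace Groth.Agent.S18943

open MeasureTheory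

/-- The auxiliary parametric integral `x ↦ ∫₀¹ t^k h(t x) dt`. -/
noncomputable def G (k : ℕ) (h : ℝ → ℝ) (x : ℝ) : ℝ := ∫ t in (0:ℝ)..1, t ^ k * h (t * x)

theorem hasDerivAt_G (k : ℕ) (h : ℝ → ℝ) (hh : ContDiff ℝ ∞ h) (x₀ : ℝ) :
    HasDerivAt (G k h) (G (k + 1) (deriv h) x₀) x₀ := by
  have hh' : Continuous (deriv h) := hh.continuous_deriv (by simp)
  have hd : Differentiable ℝ h := hh.differentiable (by simp)
  have hc : Continuous h := hh.continuous
  obtain ⟨M, hM⟩ := (isCompact_Icc (a := -(|x₀| + 1)) (b := |x₀| + 1)).exists_bound_of_continuousOn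
    hh'.continuousOn
  have key := intervalIntegral.hasDerivAt_integral_of_dominated_loc_of_deriv_le (μ := volume)
    (a := (0:ℝ)) (b := 1)
    (F := fun x t => t ^ k * h (t * x)) (F' := fun x t => t ^ (k + 1) * deriv h (t * x))
    (x₀ := x₀) (s := Metric.ball x₀ 1) (bound := fun _ => M)
    (Metric.ball_mem_nhds x₀ one_pos)
    (Filter.Eventually.of_forall fun x => (Continuous.aestronglyMeasurable (by fun_prop)))
    (Continuous.intervalIntegrable (by fun_prop) _ _)
    (Continuous.aestronglyMeasurable (by fun_prop))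
    (Filter.Eventually.of_forall fun t ht x hx => ?_)
    intervalIntegrable_const
    (Filter.Eventually.of_forall fun t ht x hx => ?_)
  · exact key.2
  · rw [Set.uIoc_of_le zero_le_one] at ht
    obtain ⟨ht0, ht1⟩ := ht
    rw [Metric.mem_ball, Real.dist_eq] at hx
    have hx' : |x| < |x₀| + 1 := by
      have := abs_sub_abs_le_abs_sub x x₀
      linarith
    have htx : |t * x| ≤ |x₀| + 1 := by
      rw [abs_mul, abs_of_pos ht0]
      calc t * |x| ≤ 1 * |x| := by gcongr
        _ = |x| := one_mul _
        _ ≤ |x₀| + 1 := hx'.le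
    have hmem : t * x ∈ Set.Icc (-(|x₀| + 1)) (|x₀| + 1) := abs_le.1 htx
    have h1 := hM (t * x) hmem
    have hM0 : 0 ≤ M := (norm_nonneg _).trans h1
    rw [norm_mul, norm_pow, Real.norm_eq_abs, abs_of_pos ht0]
    calc t ^ (k + 1) * ‖deriv h (t * x)‖ ≤ 1 * M := by
          gcongr
          exact pow_le_one₀ ht0.le ht1
      _ = M := one_mul _
  · have h1 : HasDerivAt (fun y => t * y) t x := by
      simpa using (hasDerivAt_id x).const_mul t
    have h2 := ((hd (t * x)).hasDerivAt.comp x h1).const_mul (t ^ k)
    exact h2.congr_deriv (by ring)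

theorem contDiff_deriv_of_smooth (h : ℝ → ℝ) (hh : ContDiff ℝ ∞ h) : ContDiff ℝ ∞ (deriv h) :=
  (contDiff_infty_iff_deriv.1 hh).2

theorem contDiff_G (n : ℕ) : ∀ (k : ℕ) (h : ℝ → ℝ), ContDiff ℝ ∞ h → ContDiff ℝ n (G k h) := by
  induction n with
  | zero =>
    intro k h hh
    rw [Nat.cast_zero, contDiff_zero]
    exact continuous_iff_continuousAt.2 fun x => (hasDerivAt_G k h hh x).continuousAt
  | succ n ih =>
    intro k h hh
    rw [show ((n + 1 : ℕ) : WithTop ℕ∞) = (n : WithTop ℕ∞) + 1 by norm_cast, contDiff_succ_iff_deriv]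
    refine ⟨fun x => (hasDerivAt_G k h hh x).differentiableAt, by simp, ?_⟩
    have : deriv (G k h) = G (k + 1) (deriv h) := funext fun x => (hasDerivAt_G k h hh x).deriv
    rw [this]
    exact ih (k + 1) (deriv h) (contDiff_deriv_of_smooth h hh)

/-- Let f be an infinitely differentiable real-valued function on the real line with f(0) = 0. Then f(x)
= x·g(x) for an infinitely differentiable function g. (The source phrases this for germs at 0: the
maximal ideal of the local ring of germs of smooth functions at the origin is generated by the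
coordinate t; the global form stated here is what its argument, smooth extension of f(x)/x across 0,
gives.) -/
theorem result (f : ℝ → ℝ) (hf : ContDiff ℝ ∞ f) (h0 : f 0 = 0) :
    ∃ g : ℝ → ℝ, ContDiff ℝ ∞ g ∧ ∀ x : ℝ, f x = x * g x := by
  have hf' : ContDiff ℝ ∞ (deriv f) := contDiff_deriv_of_smooth f hf
  have hd : Differentiable ℝ f := hf.differentiable (by simp)
  refine ⟨G 0 (deriv f), contDiff_infty.2 fun n => contDiff_G n 0 (deriv f) hf', fun x => ?_⟩
  unfold G
  rw [← intervalIntegral.integral_const_mul]
  have hderiv : ∀ t ∈ Set.uIcc (0:ℝ) 1,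
      HasDerivAt (fun t => f (t * x)) (x * (t ^ 0 * deriv f (t * x))) t := by
    intro t _
    have h1 : HasDerivAt (fun y => y * x) x t := by
      simpa using (hasDerivAt_id t).mul_const x
    have h2 := (hd (t * x)).hasDerivAt.comp t h1
    exact h2.congr_deriv (by ring)
  have hint : IntervalIntegrable (fun t => x * (t ^ 0 * deriv f (t * x))) volume 0 1 := by
    apply Continuous.intervalIntegrable
    have : Continuous (deriv f) := hf'.continuous
    fun_prop
  rw [intervalIntegral.integral_eq_sub_of_hasDerivAt hderiv hint]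
  simp [h0]

end Groth.Agent.S18943
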