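import Groth.Statements.S18945
import Mathlib
import Groth.Agent.S18934
import Groth.Agent.LibSyntTransport29

set_option autoImplicit false
universe u
open CategoryTheory AlgebraicGeometry
open Synt

namespace Groth.Agent.S18945


section helpers

variable (p : ℕ) (Z : Scheme.{u}) (a : Γ(Z, ⊤))

/-- the restriction of `a` to an affine open -/
noncomputable def aV (V : Z.affineOpens) : Γ(Z, V.1) := Z.presheaf.map (homOfLE le_top).op a

/-- the ring `Γ(Z,V)[T]/(T^p - a)` -/
noncomputable abbrev SV (V : Z.affineOpens) : Type u :=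
  AdjoinRoot (Polynomial.X ^ p - Polynomial.C (aV Z a V))

/-- its spectrum -/
noncomputable abbrev YV (V : Z.affineOpens) : Scheme.{u} := Spec (CommRingCat.of (SV p Z a V))

/-- the structure ring map as a morphism of `CommRingCat` -/
noncomputable def φV (V : Z.affineOpens) : Γ(Z, V.1) ⟶ CommRingCat.of (SV p Z a V) :=
  CommRingCat.ofHom (algebraMap Γ(Z, V.1) (SV p Z a V))

/-- the map to `Z` -/
noncomputable def fV (V : Z.affineOpens) : YV p Z a V ⟶ Z :=
  Spec.map (φV p Z a V) ≫ V.2.fromSpec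

lemma fV_mem (V : Z.affineOpens) (y : YV p Z a V) : fV p Z a V y ∈ V.1 := by
  have h : fV p Z a V y ∈ Set.range V.2.fromSpec := ⟨Spec.map (φV p Z a V) y, rfl⟩
  rw [V.2.range_fromSpec] at h
  exact h

lemma le_preimage (V : Z.affineOpens) : (⊤ : (YV p Z a V).Opens) ≤ fV p Z a V ⁻¹ᵁ V.1 :=
  fun y _ => fV_mem p Z a V y

lemma appLE_eq (V : Z.affineOpens) :
    (fV p Z a V).appLE V.1 ⊤ (le_preimage p Z a V) =
      φV p Z a V ≫ (Scheme.ΓSpecIso (CommRingCat.of (SV p Z a V))).inv := by
  apply Spec.map_injective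
  have h := IsAffineOpen.SpecMap_appLE_fromSpec (fV p Z a V) V.2
    (isAffineOpen_top (YV p Z a V)) (le_preimage p Z a V)
  have h2 : (isAffineOpen_top (YV p Z a V)).fromSpec =
      Spec.map (Scheme.ΓSpecIso (CommRingCat.of (SV p Z a V))).inv := by
    rw [IsAffineOpen.fromSpec_top, Scheme.isoSpec_Spec]
    rfl
  rw [h2] at h
  unfold fV at h ⊢
  rw [← Category.assoc, ← Spec.map_comp] at h
  exact (cancel_mono V.2.fromSpec).mp h

lemma isSyntomicMor_fV [Fact p.Prime] (V : Z.affineOpens) :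
    Synt.IsSyntomicMor (fV p Z a V) := by
  intro y
  refine ⟨⟨⊤, isAffineOpen_top _⟩, V, le_preimage p Z a V, trivial, ?_⟩
  letI alg : Algebra Γ(Z, V.1) Γ(YV p Z a V, ⊤) :=
    ((fV p Z a V).appLE V.1 ⊤ (le_preimage p Z a V)).hom.toAlgebra
  have hS := (Groth.Agent.S18934.result p Γ(Z, V.1) (aV Z a V)).1
  let e : SV p Z a V ≃ₐ[Γ(Z, V.1)] Γ(YV p Z a V, ⊤) :=
    { (Scheme.ΓSpecIso (CommRingCat.of (SV p Z a V))).symm.commRingCatIsoToRingEquiv with
      commutes' := fun r => by
        show _ = ((fV p Z a V).appLE V.1 ⊤ (le_preimage p Z a V)).hom r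
        rw [appLE_eq]
        rfl }
  exact Groth.Agent.LibSyntTransport29.isSyntomic_of_algEquiv e hS

lemma covers [Fact p.Prime] (x : Z) :
    ∃ (V : Z.affineOpens) (y : YV p Z a V), fV p Z a V y = x := by
  obtain ⟨_, ⟨V, hV, rfl⟩, hxV, -⟩ :=
    (Z.isBasis_affineOpens).exists_subset_of_mem_open (Set.mem_univ x) isOpen_univ
  have hx : x ∈ Set.range hV.fromSpec := by rw [hV.range_fromSpec]; exact hxV
  obtain ⟨z, rfl⟩ := hx
  have hff := (Groth.Agent.S18934.result p Γ(Z, V) (aV Z a ⟨V, hV⟩)).2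
  obtain ⟨w, hw⟩ := PrimeSpectrum.comap_surjective_of_faithfullyFlat
    (A := Γ(Z, V)) (B := SV p Z a ⟨V, hV⟩) z
  refine ⟨⟨V, hV⟩, w, ?_⟩
  show hV.fromSpec (Spec.map (φV p Z a ⟨V, hV⟩) w) = hV.fromSpec z
  congr 1

lemma root_pow (V : Z.affineOpens) :
    (AdjoinRoot.root (Polynomial.X ^ p - Polynomial.C (aV Z a V))) ^ p =
      algebraMap Γ(Z, V.1) (SV p Z a V) (aV Z a V) := by
  have h := AdjoinRoot.eval₂_root (Polynomial.X ^ p - Polynomial.C (aV Z a V))
  simp only [Polynomial.eval₂_sub, Polynomial.eval₂_pow, Polynomial.eval₂_X,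
    Polynomial.eval₂_C] at h
  exact sub_eq_zero.mp h

lemma appTop_eq (V : Z.affineOpens) :
    (fV p Z a V).appTop.hom a =
      (Scheme.ΓSpecIso (CommRingCat.of (SV p Z a V))).inv.hom
        (algebraMap Γ(Z, V.1) (SV p Z a V) (aV Z a V)) := by
  have h := (fV p Z a V).map_appLE (le_preimage p Z a V) (homOfLE (le_top : V.1 ≤ ⊤)).op
  rw [appLE_eq] at h
  have h2 : (fV p Z a V).appTop = (fV p Z a V).appLE ⊤ ⊤ le_top := by
    rw [Scheme.Hom.appTop, Scheme.Hom.app_eq_appLE]
    rfl
  rw [h2]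
  have h3 := congrArg (fun ψ => ψ.hom a) h
  exact h3.symm

theorem result' [Fact p.Prime] :
    ∃ 𝒰 : Scheme.Cover.{u} (Scheme.precoverage @Synt.IsSyntomicMor) Z,
      ∀ i : 𝒰.I₀, ∃ b : Γ(𝒰.X i, ⊤), b ^ p = (𝒰.f i).appTop a := by
  refine ⟨Scheme.Cover.mkOfCovers Z.affineOpens (fun V => YV p Z a V) (fun V => fV p Z a V)
    (fun x => covers p Z a x) (fun V => isSyntomicMor_fV p Z a V), ?_⟩
  intro V'
  let V : Z.affineOpens := V'
  show ∃ b : Γ(YV p Z a V, ⊤), b ^ p = (fV p Z a V).appTop.hom a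
  refine ⟨(Scheme.ΓSpecIso (CommRingCat.of (SV p Z a V))).inv.hom (AdjoinRoot.root _), ?_⟩
  rw [appTop_eq, ← map_pow, root_pow]

end helpers



/-- Let p be a prime, X a scheme and a a global section of the structure sheaf of X. There is a covering
of X for the syntomic topology, that is a jointly surjective family of syntomic morphisms X_i → X,
such that the restriction of a to each X_i is a p-th power. (The source states the surjectivity of
the p-th power map of the structure sheaf on the small syntomic site of a syntomic scheme over a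
perfect field of characteristic p; the covering it uses elsewhere, adjoining a p-th root T^p = a
over affine pieces, gives the statement for every scheme, which is the form given here.) -/
theorem result (p : ℕ) [Fact p.Prime] (X : Scheme.{u}) (a : Γ(X, ⊤)) :
    ∃ 𝒰 : Scheme.Cover.{u} (Scheme.precoverage @Synt.IsSyntomicMor) X,
      ∀ i : 𝒰.I₀, ∃ b : Γ(𝒰.X i, ⊤), b ^ p = (𝒰.f i).appTop a := by
  exact Groth.Agent.S18945.result' p X a

end Groth.Agent.S18945
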