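import Groth.Statements.S18946
-- import your own Groth.Agent.* helpers here

set_option autoImplicit false
universe u
open scoped BigOperators
open InvQ

namespace Groth.Agent.S18946

/-- Let k be an algebraically closed field of characteristic zero and n a natural number, and let the
torus of (n+1)-tuples of units of k with product 1 act on the polynomial ring k[t_0, ..., t_n] by
rescaling each variable t_i by the i-th unit. A polynomial is fixed by every such rescaling if and
only if it lies in the k-subalgebra generated by the product t_0 t_1 ... t_n. (This is the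
computation of the ring of functions on affine (n+1)-space invariant under the maximal diagonal
torus of the special linear group, identified with the polynomial ring in the single coordinate t =
t_0 ... t_n of the line it maps to by the product map; invariance is tested on k-valued points of
the torus, which over an infinite field is the same as invariance under the group scheme.) -/
theorem result
    (k : Type u) [Field k] [IsAlgClosed k] [CharZero k] (n : ℕ)
    (f : MvPolynomial (Fin (n + 1)) k) :
    (∀ σ : Fin (n + 1) → kˣ, ∏ i, (σ i : k) = 1 →
        MvPolynomial.aeval (fun i => MvPolynomial.C (σ i : k) * MvPolynomial.X i) f = f) ↔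
      f ∈ Algebra.adjoin k ({∏ i : Fin (n + 1), MvPolynomial.X i} : Set (MvPolynomial (Fin (n + 1)) k)) := by
  classical
  set P : MvPolynomial (Fin (n + 1)) k := ∏ i : Fin (n + 1), MvPolynomial.X i with hP
  -- the rescaling maps
  have hmono : ∀ (σ : Fin (n + 1) → kˣ) (m : Fin (n + 1) →₀ ℕ) (c : k),
      MvPolynomial.aeval (fun i => MvPolynomial.C (σ i : k) * MvPolynomial.X i)
        (MvPolynomial.monomial m c) =
      MvPolynomial.monomial m (c * ∏ i, (σ i : k) ^ m i) := by
    intro σ m c
    rw [MvPolynomial.aeval_monomial, Finsupp.prod_fintype _ _ (fun i => pow_zero _)]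
    simp_rw [mul_pow, Finset.prod_mul_distrib, ← MvPolynomial.C_pow]
    rw [← map_prod, MvPolynomial.algebraMap_eq, ← mul_assoc, ← MvPolynomial.C_mul,
      MvPolynomial.monomial_eq, Finsupp.prod_fintype _ _ (fun i => pow_zero _)]
  have hcoeff : ∀ (σ : Fin (n + 1) → kˣ) (g : MvPolynomial (Fin (n + 1)) k) (m : Fin (n + 1) →₀ ℕ),
      MvPolynomial.coeff m
        (MvPolynomial.aeval (fun i => MvPolynomial.C (σ i : k) * MvPolynomial.X i) g) =
      MvPolynomial.coeff m g * ∏ i, (σ i : k) ^ m i := by
    intro σ g m
    induction g using MvPolynomial.induction_on' with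
    | monomial m' c =>
      rw [hmono, MvPolynomial.coeff_monomial, MvPolynomial.coeff_monomial]
      by_cases h : m' = m
      · subst h; simp
      · simp [h]
    | add p q hp hq => rw [map_add, MvPolynomial.coeff_add, hp, hq, MvPolynomial.coeff_add, add_mul]
  constructor
  · intro hinv
    -- every monomial in the support has all exponents equal
    have hsupp : ∀ m ∈ f.support, ∀ i j : Fin (n + 1), m i = m j := by
      intro m hm i j
      by_contra hij
      have hcm : MvPolynomial.coeff m f ≠ 0 := MvPolynomial.mem_support_iff.mp hm
      have hne : i ≠ j := fun h => hij (by rw [h])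
      have h2 : (2 : k) ≠ 0 := two_ne_zero
      let u : kˣ := Units.mk0 2 h2
      let σ : Fin (n + 1) → kˣ := Pi.mulSingle i u * Pi.mulSingle j u⁻¹
      have hσ1 : ∏ l, (σ l : k) = 1 := by
        rw [← Units.coe_prod]
        simp only [σ, Pi.mul_apply, Finset.prod_mul_distrib, Fintype.prod_pi_mulSingle']
        simp
      have h1 := hinv σ hσ1
      have h3 := hcoeff σ f m
      rw [h1] at h3
      have h4 : ∏ l, (σ l : k) ^ m l = 1 := by
        have : MvPolynomial.coeff m f * 1 = MvPolynomial.coeff m f * ∏ l, (σ l : k) ^ m l := by
          rw [mul_one]; exact h3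
        exact (mul_left_cancel₀ hcm this).symm
      have h5 : ∏ l, (σ l : k) ^ m l = (u : k) ^ m i * ((u⁻¹ : kˣ) : k) ^ m j := by
        simp only [σ, Pi.mul_apply, Units.val_mul, mul_pow, Finset.prod_mul_distrib]
        congr 1
        · rw [Finset.prod_eq_single i]
          · simp
          · intro b _ hb
            simp [Pi.mulSingle_apply, hb]
          · intro h; exact absurd (Finset.mem_univ i) h
        · rw [Finset.prod_eq_single j]
          · simp
          · intro b _ hb
            simp [Pi.mulSingle_apply, hb]
          · intro h; exact absurd (Finset.mem_univ j) h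
      rw [h5] at h4
      have h6 : (u : k) ^ m i = (u : k) ^ m j := by
        have hu : ((u⁻¹ : kˣ) : k) ^ m j * (u : k) ^ m j = 1 := by
          rw [← mul_pow, ← Units.val_mul, inv_mul_cancel, Units.val_one, one_pow]
        calc (u : k) ^ m i = (u : k) ^ m i * (((u⁻¹ : kˣ) : k) ^ m j * (u : k) ^ m j) := by
              rw [hu, mul_one]
          _ = ((u : k) ^ m i * ((u⁻¹ : kˣ) : k) ^ m j) * (u : k) ^ m j := by ring
          _ = (u : k) ^ m j := by rw [h4, one_mul]
      have h7 : ((2 ^ m i : ℕ) : k) = ((2 ^ m j : ℕ) : k) := by
        push_cast
        exact h6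
      have h8 := Nat.cast_injective h7
      exact hij (Nat.pow_right_injective (le_refl 2) h8)
    rw [f.as_sum]
    apply Subalgebra.sum_mem
    intro m hm
    have hm' : MvPolynomial.monomial m (MvPolynomial.coeff m f) =
        MvPolynomial.C (MvPolynomial.coeff m f) * P ^ (m 0) := by
      rw [MvPolynomial.monomial_eq, Finsupp.prod_fintype _ _ (fun i => pow_zero _), hP,
        ← Finset.prod_pow]
      congr 1
      apply Finset.prod_congr rfl
      intro i _
      rw [hsupp m hm i 0]
    rw [hm']
    apply Subalgebra.mul_mem
    · exact Subalgebra.algebraMap_mem _ _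
    · exact Subalgebra.pow_mem _ (Algebra.subset_adjoin (Set.mem_singleton _)) _
  · intro hf σ hσ
    set φ := MvPolynomial.aeval (R := k) (fun i => MvPolynomial.C (σ i : k) * MvPolynomial.X i) with hφ
    have hle : Algebra.adjoin k ({P} : Set (MvPolynomial (Fin (n + 1)) k)) ≤
        AlgHom.equalizer φ (AlgHom.id k _) := by
      apply Algebra.adjoin_le
      intro x hx
      rw [Set.mem_singleton_iff] at hx
      subst hx
      rw [SetLike.mem_coe, AlgHom.mem_equalizer, AlgHom.id_apply, hP, map_prod]
      simp_rw [hφ, MvPolynomial.aeval_X, Finset.prod_mul_distrib, ← map_prod]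
      rw [hσ, map_one, one_mul]
    exact hle hf

end Groth.Agent.S18946
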