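import Groth.Statements.S18948
import Mathlib.Tactic.Group

set_option autoImplicit false
universe u v
open CExt

namespace Groth.Agent.S18948

theorem mem_orbit_iff {G : Type*} [Group G] (a b : G) :
    a ∈ MulAction.orbit (ConjAct G) b ↔ ∃ c : G, c * b * c⁻¹ = a := by
  rw [ConjAct.mem_orbit_conjAct, isConj_comm, isConj_iff]

/-- Let f : E → G be a surjective homomorphism of groups whose kernel is central in E, and let x ∈ E.
Then f maps the conjugacy class of x bijectively onto the conjugacy class of f(x) if and only if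
every element of G commuting with f(x) is the image of some element of E commuting with x. (In the
source E → G is the central extension, with kernel the roots of unity, attached to a Brauer class of
the classifying stack of a finite tame étale group scheme, and a conjugacy class of E mapping
bijectively onto a given class of G is a marking; the equivalence is stated here for an arbitrary
central extension of abstract groups.) -/
theorem result {E : Type u} {G : Type v} [Group E] [Group G]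
    (f : E →* G) (hf : Function.Surjective f) (hker : f.ker ≤ Subgroup.center E) (x : E) :
    Set.BijOn f (MulAction.orbit (ConjAct E) x) (MulAction.orbit (ConjAct G) (f x)) ↔
      ∀ g : G, g * f x = f x * g → ∃ e : E, f e = g ∧ e * x = x * e := by
  constructor
  · rintro ⟨-, hinj, -⟩ g hg
    obtain ⟨e, rfl⟩ := hf g
    refine ⟨e, rfl, ?_⟩
    have h1 : e * x * e⁻¹ ∈ MulAction.orbit (ConjAct E) x := (mem_orbit_iff _ _).mpr ⟨e, rfl⟩
    have h2 : x ∈ MulAction.orbit (ConjAct E) x := (mem_orbit_iff _ _).mpr ⟨1, by simp⟩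
    have h3 : f (e * x * e⁻¹) = f x := by
      rw [map_mul, map_mul, map_inv, hg, mul_inv_cancel_right]
    have h4 := hinj h1 h2 h3
    calc e * x = e * x * e⁻¹ * e := by group
      _ = x * e := by rw [h4]
  · intro H
    refine ⟨?_, ?_, ?_⟩
    · intro a ha
      obtain ⟨c, rfl⟩ := (mem_orbit_iff _ _).mp ha
      exact (mem_orbit_iff _ _).mpr ⟨f c, by simp⟩
    · intro a ha b hb hab
      obtain ⟨e₁, rfl⟩ := (mem_orbit_iff _ _).mp ha
      obtain ⟨e₂, rfl⟩ := (mem_orbit_iff _ _).mp hb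
      -- e := e₂⁻¹ * e₁
      have hg : f (e₂⁻¹ * e₁) * f x = f x * f (e₂⁻¹ * e₁) := by
        simp only [map_mul, map_inv] at hab ⊢
        calc (f e₂)⁻¹ * f e₁ * f x = (f e₂)⁻¹ * (f e₁ * f x * (f e₁)⁻¹) * f e₁ := by group
          _ = (f e₂)⁻¹ * (f e₂ * f x * (f e₂)⁻¹) * f e₁ := by rw [hab]
          _ = f x * ((f e₂)⁻¹ * f e₁) := by group
      obtain ⟨e', he', hcomm⟩ := H _ hg
      -- z := e'⁻¹ * (e₂⁻¹ * e₁) ∈ ker f ≤ center
      have hz : e'⁻¹ * (e₂⁻¹ * e₁) ∈ Subgroup.center E := by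
        apply hker
        rw [MonoidHom.mem_ker, map_mul, map_inv, he', inv_mul_cancel]
      have hzx := (Subgroup.mem_center_iff.mp hz) x
      -- (e₂⁻¹ e₁) x = x (e₂⁻¹ e₁)
      have key : e₂⁻¹ * e₁ * x = x * (e₂⁻¹ * e₁) := by
        calc e₂⁻¹ * e₁ * x = e' * (e'⁻¹ * (e₂⁻¹ * e₁)) * x := by group
          _ = e' * (e'⁻¹ * (e₂⁻¹ * e₁) * x) := by group
          _ = e' * (x * (e'⁻¹ * (e₂⁻¹ * e₁))) := by rw [← hzx]
          _ = (e' * x) * (e'⁻¹ * (e₂⁻¹ * e₁)) := by group
          _ = (x * e') * (e'⁻¹ * (e₂⁻¹ * e₁)) := by rw [hcomm]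
          _ = x * (e₂⁻¹ * e₁) := by group
      calc e₁ * x * e₁⁻¹ = e₂ * (e₂⁻¹ * e₁ * x) * e₁⁻¹ := by group
        _ = e₂ * (x * (e₂⁻¹ * e₁)) * e₁⁻¹ := by rw [key]
        _ = e₂ * x * e₂⁻¹ := by group
    · intro y hy
      obtain ⟨g, rfl⟩ := (mem_orbit_iff _ _).mp hy
      obtain ⟨e, rfl⟩ := hf g
      exact ⟨e * x * e⁻¹, (mem_orbit_iff _ _).mpr ⟨e, rfl⟩, by simp⟩

end Groth.Agent.S18948
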