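import Groth.Statements.S18949
import Mathlib.GroupTheory.Subgroup.Center
import Mathlib.Algebra.Group.Subgroup.Ker
import Mathlib.Tactic.Group
import Mathlib.Logic.Function.Basic

set_option autoImplicit false
universe u v
open CExt

namespace Groth.Agent.S18949

/-- Automorphisms over the base: let f : E → G be a surjective homomorphism of groups with central
kernel A. For every homomorphism χ : G → A the map e ↦ χ(f(e)) · e is an endomorphism of E over G
which is the identity on A; and every endomorphism α of E with f ∘ α = f and α equal to the identity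
on A is of this form for exactly one χ. (In the source this identifies the automorphisms of a
central extension fixing its kernel with Hom(G, A), for extensions of profinite étale group schemes
over a field; stated here for abstract groups.) -/
theorem result {E : Type u} {G : Type v} [Group E] [Group G]
    (f : E →* G) (hf : Function.Surjective f) (hker : f.ker ≤ Subgroup.center E) :
    (∀ χ : G →* f.ker, ∃ α : E →* E, f.comp α = f ∧ (∀ a ∈ f.ker, α a = a) ∧
        ∀ e : E, α e = (χ (f e) : E) * e) ∧
      ∀ α : E →* E, f.comp α = f → (∀ a ∈ f.ker, α a = a) →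
        ∃! χ : G →* f.ker, ∀ e : E, α e = (χ (f e) : E) * e := by
  have hcent : ∀ a ∈ f.ker, ∀ e : E, a * e = e * a := fun a ha e =>
    ((Subgroup.mem_center_iff.1 (hker ha)) e).symm
  refine ⟨fun χ => ?_, fun α hα hαk => ?_⟩
  · refine ⟨{ toFun := fun e => (χ (f e) : E) * e, map_one' := by simp, map_mul' := ?_ }, ?_, ?_, ?_⟩
    · intro x y
      have h1 : ((χ (f y) : f.ker) : E) * x = x * (χ (f y) : E) := hcent _ (χ (f y)).2 x
      simp only [map_mul, Subgroup.coe_mul]
      calc (χ (f x) : E) * (χ (f y) : E) * (x * y)
          = (χ (f x) : E) * ((χ (f y) : E) * x) * y := by group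
        _ = (χ (f x) : E) * (x * (χ (f y) : E)) * y := by rw [h1]
        _ = (χ (f x) : E) * x * ((χ (f y) : E) * y) := by group
    · ext e
      have : f (χ (f e) : E) = 1 := (χ (f e)).2
      simp [this]
    · intro a ha
      have : f a = 1 := ha
      simp [this]
    · intro e; rfl
  · -- the cocycle e ↦ α e * e⁻¹
    have hmem : ∀ e : E, α e * e⁻¹ ∈ f.ker := by
      intro e
      have h1 : f (α e) = f e := by
        have := congrArg (fun g => g e) hα
        simpa using this
      rw [MonoidHom.mem_ker, map_mul, map_inv, h1, mul_inv_cancel]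
    let s : G → E := Function.surjInv hf
    have hs : ∀ g, f (s g) = g := Function.surjInv_eq hf
    have hwd : ∀ e e' : E, f e = f e' → α e * e⁻¹ = α e' * e'⁻¹ := by
      intro e e' hee
      have ha : e⁻¹ * e' ∈ f.ker := by
        rw [MonoidHom.mem_ker, map_mul, map_inv, hee, inv_mul_cancel]
      have h2 : e' = e * (e⁻¹ * e') := by group
      have h3 : α (e⁻¹ * e') = e⁻¹ * e' := hαk _ ha
      have h4 : α e' = α e * (e⁻¹ * e') := by
        conv_lhs => rw [h2, map_mul, h3]
      rw [h4]; group
    have hχmul : ∀ e e' : E, α (e * e') * (e * e')⁻¹ = (α e * e⁻¹) * (α e' * e'⁻¹) := by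
      intro e e'
      have hc := hcent _ (hmem e') e⁻¹
      calc α (e * e') * (e * e')⁻¹ = α e * ((α e' * e'⁻¹) * e⁻¹) := by
            rw [map_mul]; group
        _ = α e * (e⁻¹ * (α e' * e'⁻¹)) := by rw [hc]
        _ = (α e * e⁻¹) * (α e' * e'⁻¹) := by group
    let χ : G →* f.ker :=
      { toFun := fun g => ⟨α (s g) * (s g)⁻¹, hmem (s g)⟩
        map_one' := by
          apply Subtype.ext
          have : α (s 1) * (s 1)⁻¹ = α 1 * (1 : E)⁻¹ := hwd _ _ (by rw [hs, map_one])
          simpa using this
        map_mul' := by
          intro g g'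
          apply Subtype.ext
          have h5 : α (s (g * g')) * (s (g * g'))⁻¹ = α (s g * s g') * (s g * s g')⁻¹ :=
            hwd _ _ (by rw [hs, map_mul, hs, hs])
          simp only [Subgroup.coe_mul]
          rw [h5, hχmul] }
    have hχ : ∀ e : E, α e = (χ (f e) : E) * e := by
      intro e
      have h6 : α (s (f e)) * (s (f e))⁻¹ = α e * e⁻¹ := hwd _ _ (hs (f e))
      change α e = (α (s (f e)) * (s (f e))⁻¹) * e
      rw [h6]; group
    refine ⟨χ, hχ, fun χ' hχ' => ?_⟩
    ext g
    obtain ⟨e, rfl⟩ := hf g
    have h7 := hχ e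
    have h8 := hχ' e
    rw [h7] at h8
    exact (mul_right_cancel h8).symm

end Groth.Agent.S18949
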