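import Groth.Statements.S18954
import Mathlib.GroupTheory.GroupAction.Quotient
import Mathlib.Algebra.BigOperators.Field
import Mathlib.Tactic.FieldSimp
import Mathlib.Tactic.Ring
import Mathlib.Algebra.CharZero.Defs
import Mathlib.Data.Nat.Cast.Field

set_option autoImplicit false
universe u v w
open Classical
open BGCount

namespace Groth.Agent.S18954

/-- Let a finite group G act on a finite set X, let W be a finite set of orbits and f a function on
orbits with values in a field of characteristic zero. Then Σ_{O ∈ W} f(O)/|Stab(x_O)|, with x_O any
point of O, equals |G|⁻¹ · Σ f(orbit(x)) over the points x of X whose orbit lies in W. (In the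
source X is the set of 1-cocycles of the absolute Galois group of a field in a finite étale group
scheme G, acted on by the geometric points of G, the orbits are the isomorphism classes of G-torsors
and the stabilisers their automorphism groups; stated here for an arbitrary action of a finite group
on a finite set, the representative x_O being chosen by Quotient.out.) -/
theorem result {G : Type u} {X : Type v} (𝕜 : Type w)
    [Group G] [Fintype G] [MulAction G X] [Fintype X] [Field 𝕜] [CharZero 𝕜]
    (W : Finset (MulAction.orbitRel.Quotient G X)) (f : MulAction.orbitRel.Quotient G X → 𝕜) :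
    (∑ O ∈ W, f O / (Nat.card (MulAction.stabilizer G O.out) : 𝕜)) =
      (Fintype.card G : 𝕜)⁻¹ *
        ∑ x ∈ Finset.univ.filter (fun x : X => (Quotient.mk (MulAction.orbitRel G X) x) ∈ W),
          f (Quotient.mk (MulAction.orbitRel G X) x) := by
  classical
  have hG0 : (Fintype.card G : 𝕜) ≠ 0 := by
    exact_mod_cast Fintype.card_ne_zero
  -- regroup the right-hand sum by orbits
  have hfib : ∑ x ∈ Finset.univ.filter (fun x : X => (Quotient.mk (MulAction.orbitRel G X) x) ∈ W),
      f (Quotient.mk (MulAction.orbitRel G X) x) =
      ∑ O ∈ W, ∑ x ∈ (Finset.univ.filter (fun x : X => (Quotient.mk (MulAction.orbitRel G X) x) ∈ W)).filter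
        (fun x => Quotient.mk (MulAction.orbitRel G X) x = O),
        f (Quotient.mk (MulAction.orbitRel G X) x) := by
    rw [Finset.sum_fiberwise_of_maps_to]
    intro x hx
    exact (Finset.mem_filter.1 hx).2
  rw [hfib, Finset.mul_sum]
  refine Finset.sum_congr rfl fun O hO => ?_
  -- the fibre over O is the orbit of O.out
  have hset : (Finset.univ.filter (fun x : X => (Quotient.mk (MulAction.orbitRel G X) x) ∈ W)).filter
        (fun x => Quotient.mk (MulAction.orbitRel G X) x = O) =
      Finset.univ.filter (fun x : X => x ∈ MulAction.orbit G O.out) := by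
    ext x
    simp only [Finset.mem_filter, Finset.mem_univ, true_and]
    constructor
    · rintro ⟨_, hx⟩
      have h1 : Quotient.mk (MulAction.orbitRel G X) x = Quotient.mk (MulAction.orbitRel G X) O.out := by
        rw [hx, Quotient.out_eq]
      exact Quotient.exact h1
    · intro hx
      have h1 : Quotient.mk (MulAction.orbitRel G X) x = O := by
        rw [← Quotient.out_eq O]
        exact Quotient.sound hx
      exact ⟨by rw [h1]; exact hO, h1⟩
  rw [hset]
  have hconst : ∑ x ∈ Finset.univ.filter (fun x : X => x ∈ MulAction.orbit G O.out),
      f (Quotient.mk (MulAction.orbitRel G X) x) =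
      ((Finset.univ.filter (fun x : X => x ∈ MulAction.orbit G O.out)).card : 𝕜) * f O := by
    rw [← nsmul_eq_mul, ← Finset.sum_const]
    refine Finset.sum_congr rfl fun x hx => ?_
    have hx' := (Finset.mem_filter.1 hx).2
    rw [← Quotient.out_eq O]
    exact congrArg f (Quotient.sound hx')
  rw [hconst]
  have hcard : (Finset.univ.filter (fun x : X => x ∈ MulAction.orbit G O.out)).card *
      Nat.card (MulAction.stabilizer G O.out) = Fintype.card G := by
    have := MulAction.card_orbit_mul_card_stabilizer_eq_card_group G O.out
    rw [← this, Nat.card_eq_fintype_card]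
    congr 1
    rw [Fintype.card_subtype]
  have hS0 : (Nat.card (MulAction.stabilizer G O.out) : 𝕜) ≠ 0 := by
    have : Nat.card (MulAction.stabilizer G O.out) ≠ 0 := Nat.card_pos.ne'
    exact_mod_cast this
  have hcard' : ((Finset.univ.filter (fun x : X => x ∈ MulAction.orbit G O.out)).card : 𝕜) *
      (Nat.card (MulAction.stabilizer G O.out) : 𝕜) = (Fintype.card G : 𝕜) := by
    exact_mod_cast hcard
  field_simp
  rw [← hcard']
  ring

end Groth.Agent.S18954
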