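import Groth.Statements.S18957
import Mathlib
import Groth.Agent.Lib.Helper21.MagnetSch
-- import your own Groth.Agent.* helpers here

set_option autoImplicit false
universe u
open CategoryTheory MonoidalCategory CartesianMonoidalCategory MonObj AlgebraicGeometry Opposite
open Magnet

namespace Groth.Agent.S18957

/-- Let k be a field, M a monoid k-scheme with an action a on a k-scheme X, G a group k-scheme and i : G
→ M a homomorphism of monoids which is a quasi-compact open immersion with scheme-theoretically
dense image. Let j : Z → X be a closed immersion and b an action of G on Z for which j is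
equivariant, G acting on X through i and a (a closed G-stable subscheme). Then the G-action on Z
extends to an M-action making j equivariant: there is an action c of M on Z such that j is
equivariant for c and a and the restriction of c along i is b. (The published statement takes G to
be the group of units of M, schematically dense in M; here it is assumed only that i is a
homomorphism of monoids and a quasi-compact, scheme-theoretically dominant open immersion.) -/
theorem result (k : Type u) [Field k]
    (M G X Z : Over (Spec (CommRingCat.of k))) [MonObj M] [GrpObj G]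
    (i : G ⟶ M) [IsMonHom i] [IsOpenImmersion i.left] [QuasiCompact i.left]
    [IsSchemeTheoreticallyDominant i.left]
    (a : Magnet.MonAct M X) (b : AlgGrp.Action G Z) (j : Z ⟶ X) [IsClosedImmersion j.left]
    (hj : Magnet.MonAct.IsEquivariant (Magnet.MonAct.ofAction b) (a.restrict i) j) :
    ∃ c : Magnet.MonAct M Z, Magnet.MonAct.IsEquivariant c a j ∧ c.restrict i = Magnet.MonAct.ofAction b := by
  have : Mono j := by
    have : Mono j.left := inferInstance
    exact (Over.forget _).mono_of_mono_map this
  have hj' := hj
  unfold Magnet.MonAct.IsEquivariant at hj'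
  have key : (i ▷ Z) ≫ ((M ◁ j) ≫ a.act) = b.act ≫ j := by
    have : (Magnet.MonAct.ofAction b).act = b.act := rfl
    rw [← this, hj', Magnet.MonAct.restrict_act, ← whisker_exchange_assoc]
  have : IsSchemeTheoreticallyDominant (i ▷ Z).left :=
    Groth.Agent.Lib.Helper21.MagnetSch.dominant_whiskerRight i Z
  obtain ⟨ψ, hψ⟩ := Groth.Agent.Lib.Helper21.MagnetSch.exists_factor j ((M ◁ j) ≫ a.act)
    (i ▷ Z) b.act key
  have hpt : ∀ (T : Over (Spec (CommRingCat.of k))) (g : T ⟶ M) (x : T ⟶ Z),
      (lift g x ≫ ψ) ≫ j = lift g (x ≫ j) ≫ a.act := by
    intro T g x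
    rw [Category.assoc, hψ, lift_whiskerLeft_assoc]
  refine ⟨Magnet.MonAct.mk' ψ ?_ ?_, ?_, ?_⟩
  · intro T x
    rw [← cancel_mono j, hpt, a.lift_one_act]
  · intro T g h x
    rw [← cancel_mono j, hpt, hpt, hpt, a.lift_mul_act]
  · unfold Magnet.MonAct.IsEquivariant
    exact hψ
  · apply Magnet.MonAct.ext'
    rw [Magnet.MonAct.restrict_act, Magnet.MonAct.mk'_act, ← cancel_mono j, Category.assoc, hψ, key]
    rfl

end Groth.Agent.S18957
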