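import Groth.Statements.S18958
import Mathlib
import Groth.Agent.Lib.Helper21.MagnetPB
-- import your own Groth.Agent.* helpers here

set_option autoImplicit false
universe u
open CategoryTheory MonoidalCategory CartesianMonoidalCategory MonObj AlgebraicGeometry Opposite
open Magnet

namespace Groth.Agent.S18958

section helpers
open Limits

theorem isPullback_whiskerLeft {C : Type*} [Category C] [CartesianMonoidalCategory C] (A : C)
    {Y Z : C} (f : Y ⟶ Z) : IsPullback (A ◁ f) (snd A Y) (snd A Z) f := by
  refine ⟨⟨by simp⟩, ⟨PullbackCone.IsLimit.mk _ (fun s => lift (s.fst ≫ fst A Z) s.snd) ?_ ?_ ?_⟩⟩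
  · intro s
    apply CartesianMonoidalCategory.hom_ext
    · simp
    · simp [s.condition]
  · intro s
    simp
  · intro s m h1 h2
    apply CartesianMonoidalCategory.hom_ext
    · simp [← h1]
    · simpa using h2

/-- the open range of an equivariant open immersion is stable -/
theorem stable_opensRange {S : Scheme.{u}} {G X U : Over S} [GrpObj G]
    (aX : AlgGrp.Action G X) (aU : AlgGrp.Action G U) (j : U ⟶ X) [IsOpenImmersion j.left]
    (hj : Magnet.MonAct.IsEquivariant (Magnet.MonAct.ofAction aU) (Magnet.MonAct.ofAction aX) j) :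
    (snd G X).left ⁻¹ᵁ j.left.opensRange ≤ aX.act.left ⁻¹ᵁ j.left.opensRange := by
  intro p hp
  obtain ⟨q, hq⟩ := hp
  have hpb : IsPullback (G ◁ j).left (snd G U).left (snd G X).left j.left :=
    (isPullback_whiskerLeft G j).map (Over.forget _)
  obtain ⟨r, hr1, hr2⟩ := Scheme.exists_preimage_of_isPullback hpb p q hq.symm
  have hj' : aU.act ≫ j = (G ◁ j) ≫ aX.act := hj
  have hj'' : aU.act.left ≫ j.left = (G ◁ j).left ≫ aX.act.left := by
    rw [← Over.comp_left, ← Over.comp_left, hj']
  refine ⟨aU.act.left r, ?_⟩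
  rw [← hr1, ← Scheme.Hom.comp_apply, ← Scheme.Hom.comp_apply, hj'']

end helpers

/-- Let k be a field, G a group k-scheme and M a monoid k-scheme with a homomorphism of monoids i : G →
M and a zero o : Spec k → M (m·o = o = o·m for every point m of M). Assume that for every k-scheme T
whose underlying scheme is the spectrum of a field K, every open subset of M ×_k T which is stable
under G acting by left multiplication through i on the first factor and which contains the zero
section T → M ×_k T is the whole of M ×_k T. Let X be a k-scheme with an action aX of G and j : U →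
X an open immersion, G-equivariant for an action aU of G on U (an open G-stable subscheme). For a
G-scheme W write D_W for the functor on k-schemes whose value at Y is the set of k-morphisms M ×_k Y
→ W that are G-equivariant for G acting on M ×_k Y by left multiplication through i on the first
factor. Then the square of presheaves formed by D_U → D_X (composition with j), the restrictions D_U
→ U and D_X → X to the zero section of M, and j is cartesian. (In the source M is a Kempf monoid
with G its group of units, and the restriction to the zero section is viewed as the retraction of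
D_X onto the fixed points X^G; the displayed property of the open G-stable subsets of M over field
extensions is what the argument uses about M, and the square over X^G is cartesian exactly when the
one over X is, U^G being X^G ×_X U.) -/
theorem result (k : Type u) [Field k]
    (M G X U : Over (Spec (CommRingCat.of k))) [MonObj M] [GrpObj G] (i : G ⟶ M) [IsMonHom i]
    (o : 𝟙_ (Over (Spec (CommRingCat.of k))) ⟶ M)
    (ho : ∀ (T : Over (Spec (CommRingCat.of k))) (m : T ⟶ M), m * (toUnit T ≫ o) = toUnit T ≫ o ∧ (toUnit T ≫ o) * m = toUnit T ≫ o)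
    (hM : ∀ (T : Over (Spec (CommRingCat.of k))) (K : Type u) [Field K] (eT : T.left ≅ Spec (CommRingCat.of K))
      (W : (M ⊗ T).left.Opens),
      (CartesianMonoidalCategory.snd G (M ⊗ T)).left ⁻¹ᵁ W ≤
          ((((Magnet.MonAct.regular M).restrict i).prod (Magnet.MonAct.trivial G T)).act).left ⁻¹ᵁ W →
      (CartesianMonoidalCategory.lift (toUnit T ≫ o) (𝟙 T)).left ⁻¹ᵁ W = ⊤ → W = ⊤)
    (aX : AlgGrp.Action G X) (aU : AlgGrp.Action G U) (j : U ⟶ X) [IsOpenImmersion j.left]
    (hj : Magnet.MonAct.IsEquivariant (Magnet.MonAct.ofAction aU) (Magnet.MonAct.ofAction aX) j) :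
    IsPullback
      (Magnet.MonAct.eqvHom.postcomp ((Magnet.MonAct.regular M).restrict i) j hj)
      (Magnet.MonAct.eqvHom.evalAt ((Magnet.MonAct.regular M).restrict i) (Magnet.MonAct.ofAction aU) o)
      (Magnet.MonAct.eqvHom.evalAt ((Magnet.MonAct.regular M).restrict i) (Magnet.MonAct.ofAction aX) o)
      (yoneda.map j) := by
  have : Mono j := by
    have : Mono j.left := inferInstance
    exact (Over.forget _).mono_of_mono_map this
  apply Groth.Agent.Lib.Helper21.MagnetPB.isPullback_postcomp_evalAt
  intro T φ hφ z hz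
  have hstab := stable_opensRange aX aU j hj
  -- key: the preimage of the open `U` under `φ` is everything
  have hW : φ.left ⁻¹ᵁ j.left.opensRange = ⊤ := by
    rw [eq_top_iff]
    rintro x -
    let t : T.left := (snd M T).left x
    let T' : Over (Spec (CommRingCat.of k)) := Over.mk (T.left.fromSpecResidueField t ≫ T.hom)
    let τ : T' ⟶ T := Over.homMk (T.left.fromSpecResidueField t) rfl
    have hpb : IsPullback (M ◁ τ).left (snd M T').left (snd M T).left τ.left :=
      (isPullback_whiskerLeft M τ).map (Over.forget _)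
    obtain ⟨s, hs⟩ : ∃ s : T'.left, τ.left s = t := by
      have : t ∈ Set.range (T.left.fromSpecResidueField t) := by
        rw [Scheme.range_fromSpecResidueField]; rfl
      exact this
    obtain ⟨x', hx'1, hx'2⟩ := Scheme.exists_preimage_of_isPullback hpb x s hs.symm
    -- the equivariant map over T'
    have hφ' : Magnet.MonAct.IsEquivariant
        (((Magnet.MonAct.regular M).restrict i).prod (Magnet.MonAct.trivial G T'))
        (Magnet.MonAct.ofAction aX) ((M ◁ τ) ≫ φ) :=
      ((Magnet.MonAct.eqvHom ((Magnet.MonAct.regular M).restrict i)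
        (Magnet.MonAct.ofAction aX)).map τ.op ⟨φ, hφ⟩).2
    have hW' : ((M ◁ τ) ≫ φ).left ⁻¹ᵁ j.left.opensRange = ⊤ := by
      refine hM T' (T.left.residueField t) (Iso.refl _) _ ?_ ?_
      · have e1 : ((((Magnet.MonAct.regular M).restrict i).prod
            (Magnet.MonAct.trivial G T')).act) ≫ ((M ◁ τ) ≫ φ) =
            (G ◁ ((M ◁ τ) ≫ φ)) ≫ aX.act := hφ'
        have e2 : (G ◁ ((M ◁ τ) ≫ φ)) ≫ snd G X = snd G (M ⊗ T') ≫ ((M ◁ τ) ≫ φ) :=
          whiskerLeft_snd _ _
        have e1' : ((((Magnet.MonAct.regular M).restrict i).prod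
            (Magnet.MonAct.trivial G T')).act ≫ ((M ◁ τ) ≫ φ)).left ⁻¹ᵁ j.left.opensRange =
            ((G ◁ ((M ◁ τ) ≫ φ)) ≫ aX.act).left ⁻¹ᵁ j.left.opensRange := by rw [e1]
        have e2' : ((G ◁ ((M ◁ τ) ≫ φ)) ≫ snd G X).left ⁻¹ᵁ j.left.opensRange =
            (snd G (M ⊗ T') ≫ ((M ◁ τ) ≫ φ)).left ⁻¹ᵁ j.left.opensRange := by rw [e2]
        intro p hp
        have hp' : p ∈ (snd G (M ⊗ T') ≫ ((M ◁ τ) ≫ φ)).left ⁻¹ᵁ j.left.opensRange := hp
        rw [← e2'] at hp'
        have h3 : p ∈ ((G ◁ ((M ◁ τ) ≫ φ)) ≫ aX.act).left ⁻¹ᵁ j.left.opensRange := hstab hp'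
        rw [← e1'] at h3
        exact h3
      · have e3 : lift (toUnit T' ≫ o) (𝟙 T') ≫ ((M ◁ τ) ≫ φ) = (τ ≫ z) ≫ j := by
          have : lift (toUnit T' ≫ o) (𝟙 T') ≫ (M ◁ τ) = τ ≫ lift (toUnit T ≫ o) (𝟙 T) := by
            rw [lift_whiskerLeft, comp_lift, Category.id_comp, Category.comp_id, ← Category.assoc,
              toUnit_unique (τ ≫ toUnit T) (toUnit T')]
          rw [← Category.assoc, this, Category.assoc, hz, Category.assoc]
        have e3' : (lift (toUnit T' ≫ o) (𝟙 T') ≫ ((M ◁ τ) ≫ φ)).left ⁻¹ᵁ j.left.opensRange =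
            ((τ ≫ z) ≫ j).left ⁻¹ᵁ j.left.opensRange := by rw [e3]
        change (lift (toUnit T' ≫ o) (𝟙 T') ≫ ((M ◁ τ) ≫ φ)).left ⁻¹ᵁ j.left.opensRange = ⊤
        rw [e3']
        change (τ ≫ z).left ⁻¹ᵁ (j.left ⁻¹ᵁ j.left.opensRange) = ⊤
        rw [Scheme.Hom.preimage_opensRange]
        rfl
    have hx'mem : x' ∈ ((M ◁ τ) ≫ φ).left ⁻¹ᵁ j.left.opensRange := by
      rw [hW']; trivial
    have : ((M ◁ τ) ≫ φ).left x' = φ.left x := by
      rw [Over.comp_left, Scheme.Hom.comp_apply, hx'1]
    change ((M ◁ τ) ≫ φ).left x' ∈ j.left.opensRange at hx'mem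
    rw [this] at hx'mem
    exact hx'mem
  have hsub : Set.range φ.left ⊆ Set.range j.left := by
    rintro _ ⟨x, rfl⟩
    have : x ∈ φ.left ⁻¹ᵁ j.left.opensRange := by rw [hW]; trivial
    exact this
  refine ⟨Over.homMk (IsOpenImmersion.lift j.left φ.left hsub) ?_, ?_⟩
  · rw [← Over.w j, ← Category.assoc, IsOpenImmersion.lift_fac, Over.w φ]
  · ext
    simp only [Over.comp_left, Over.homMk_left]
    exact IsOpenImmersion.lift_fac _ _ _

end Groth.Agent.S18958
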