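import Groth.Statements.S1896
import Groth.Agent.Lib.Helper8.StalkLen
import Groth.Agent.Lib.Helper8.StalkExact

set_option autoImplicit false
universe u
open CategoryTheory AlgebraicGeometry
open Cyc

namespace Groth.Agent.S1896

/-- For a short exact sequence 0 → F → G → H → 0 of coherent O_X-modules (X locally Noetherian with
dimension function δ) whose supports have δ-dimension at most k, one has [G]_k = [F]_k + [H]_k
coefficientwise. Here (X, δ) satisfies Cyc.IsSetup (X locally Noetherian with universally catenary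
local rings, δ a dimension function). -/
theorem result (X : Scheme.{u}) (δ : X → ℤ) (hX : Cyc.IsSetup X δ) (k : ℤ) (T : ShortComplex X.Modules) (hT : T.ShortExact) (h₁ : Coh.IsCoh T.X₁) (h₂ : Coh.IsCoh T.X₂) (h₃ : Coh.IsCoh T.X₃) (hdim : ∀ x : X, Nontrivial (T.X₂.presheaf.stalk x) → δ x ≤ k) : Cyc.sheafFun δ k T.X₂ = Cyc.sheafFun δ k T.X₁ + Cyc.sheafFun δ k T.X₃ := by
  obtain ⟨hLN, -, hdimf⟩ := hX
  haveI := hLN
  haveI : T.X₂.IsQuasicoherent := h₂.1
  haveI : T.X₃.IsQuasicoherent := h₃.1
  funext x
  unfold Cyc.sheafFun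
  simp only [Pi.add_apply]
  by_cases hx : δ x = k
  · rw [if_pos hx, if_pos hx, if_pos hx]
    have hadd := Groth.Agent.Lib.helper8.StalkLen.length_stalk_add T hT x
    have hfin : Module.length (X.presheaf.stalk x) (T.X₂.presheaf.stalk x) ≠ ⊤ := by
      by_cases hnt : Nontrivial (T.X₂.presheaf.stalk x)
      · have hmin : ∀ y : X, Nontrivial ↑(T.X₂.presheaf.stalk y) → y ⤳ x → y = x := by
          intro y hy hyx
          by_contra hne
          have h1 := (hdimf y x hyx hne).1
          have h2 := hdim y hy
          omega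
        exact Module.length_ne_top_iff.mpr
          ((Groth.Agent.Lib.helper8.StalkLen.minimal_iff_isFiniteLength T.X₂ h₂ x).mp ⟨hnt, hmin⟩).2
      · haveI : Subsingleton (T.X₂.presheaf.stalk x) := not_nontrivial_iff_subsingleton.mp hnt
        rw [Module.length_eq_zero]
        exact ENat.zero_ne_top
    have h1 : Module.length (X.presheaf.stalk x) (T.X₁.presheaf.stalk x) ≠ ⊤ := by
      intro h
      rw [hadd, h, top_add] at hfin
      exact hfin rfl
    have h3 : Module.length (X.presheaf.stalk x) (T.X₃.presheaf.stalk x) ≠ ⊤ := by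
      intro h
      rw [hadd, h, add_top] at hfin
      exact hfin rfl
    rw [hadd, ENat.toNat_add h1 h3]
    push_cast
    rfl
  · rw [if_neg hx, if_neg hx, if_neg hx]
    rfl

end Groth.Agent.S1896
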