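import Groth.Statements.S18960
import Mathlib

set_option autoImplicit false
universe w' w v u
open CategoryTheory Limits
open CatLim

namespace Groth.Agent.S18960

section

variable {C : Type u} [Category.{v} C] (T : C ⥤ C)

/-- The property of having invertible structure map. -/
abbrev isoProp : ObjectProperty (Endofunctor.Algebra T) := fun A => IsIso A.str

/-- The forgetful functor from iso-algebras. -/
abbrev forgetIso : (isoProp T).FullSubcategory ⥤ C :=
  (ObjectProperty.ι (isoProp T)) ⋙ Endofunctor.Algebra.forget T

variable {T} {J : Type w} [Category.{w'} J] [PreservesColimitsOfShape J T]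
  (K : J ⥤ (isoProp T).FullSubcategory)

/-- The natural isomorphism given by the structure maps. -/
noncomputable def strIso : (K ⋙ forgetIso T) ⋙ T ≅ K ⋙ forgetIso T :=
  NatIso.ofComponents (fun j => @asIso _ _ _ _ (K.obj j).obj.str (K.obj j).property)
    (fun {j j'} f => by
      exact (K.map f).hom.h)

variable (c : Cocone (K ⋙ forgetIso T)) (t : IsColimit c)

/-- The structure iso on the colimit point. -/
noncomputable def ptIso : T.obj c.pt ≅ c.pt :=
  (isColimitOfPreserves T t).coconePointsIsoOfNatIso t (strIso K)

theorem ptIso_spec (j : J) :
    T.map (c.ι.app j) ≫ (ptIso K c t).hom = (K.obj j).obj.str ≫ c.ι.app j := by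
  exact IsColimit.comp_coconePointsIsoOfNatIso_hom (isColimitOfPreserves T t) t (strIso K) j

/-- The lifted point. -/
noncomputable def liftPt : (isoProp T).FullSubcategory :=
  ⟨⟨c.pt, (ptIso K c t).hom⟩, (inferInstance : IsIso (ptIso K c t).hom)⟩

/-- The lifted cocone. -/
noncomputable def liftCocone : Cocone K where
  pt := liftPt K c t
  ι :=
    { app := fun j => ObjectProperty.homMk ⟨c.ι.app j, ptIso_spec K c t j⟩
      naturality := fun {j j'} f => by
        apply ObjectProperty.hom_ext
        apply Endofunctor.Algebra.Hom.ext
        change (K.map f).hom.f ≫ c.ι.app j' = c.ι.app j ≫ 𝟙 _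
        rw [Category.comp_id]
        exact c.w f }

/-- The lifted cocone is a colimit. -/
noncomputable def liftIsColimit : IsColimit (liftCocone K c t) where
  desc s := ObjectProperty.homMk
    ⟨(t.desc ((forgetIso T).mapCocone s) : c.pt ⟶ s.pt.obj.a), by
      apply (isColimitOfPreserves T t).hom_ext
      intro j
      have key : ∀ (ιj : (K.obj j).obj.a ⟶ c.pt) (d : c.pt ⟶ s.pt.obj.a)
          (fj : (K.obj j).obj.a ⟶ s.pt.obj.a) (_ : ιj ≫ d = fj)
          (_ : T.map fj ≫ s.pt.obj.str = (K.obj j).obj.str ≫ fj)
          (_ : T.map ιj ≫ (ptIso K c t).hom = (K.obj j).obj.str ≫ ιj),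
          T.map ιj ≫ T.map d ≫ s.pt.obj.str = T.map ιj ≫ (ptIso K c t).hom ≫ d := by
        intro ιj d fj h1 h2 h3
        rw [← Category.assoc, ← T.map_comp, h1, h2, ← Category.assoc, h3, Category.assoc, h1]
      exact key _ _ _ (t.fac ((forgetIso T).mapCocone s) j) (s.ι.app j).hom.h (ptIso_spec K c t j)⟩
  fac s j := by
    apply ObjectProperty.hom_ext
    apply Endofunctor.Algebra.Hom.ext
    exact t.fac ((forgetIso T).mapCocone s) j
  uniq s m hm := by
    apply ObjectProperty.hom_ext
    apply Endofunctor.Algebra.Hom.ext
    apply t.uniq ((forgetIso T).mapCocone s) m.hom.f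
    intro j
    have := hm j
    exact congrArg (fun g => g.hom.f) this

end


/-- Let C be a category and T an endofunctor of C; let C(T) be the category whose objects are pairs (X,
u) with u : T X → X an isomorphism and whose morphisms (X, u) → (Y, w) are the morphisms X → Y
compatible with u and w — the full subcategory of T-algebras with invertible structure map — and let
π : C(T) → C be the forgetful functor. If T preserves colimits of shape J then π creates colimits of
shape J. (The source assumes T preserves all small colimits and concludes for all small shapes; the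
argument is shape by shape.) -/
theorem result {C : Type u} [Category.{v} C] (T : C ⥤ C)
    (J : Type w) [Category.{w'} J] [PreservesColimitsOfShape J T] :
    Nonempty (CreatesColimitsOfShape J
      ((ObjectProperty.ι (fun A : Endofunctor.Algebra T => IsIso A.str)) ⋙ Endofunctor.Algebra.forget T)) := by
  refine ⟨⟨fun {K} => ?_⟩⟩
  exact createsColimitOfReflectsIso fun c t =>
    { liftedCocone := liftCocone K c t
      validLift := Cocone.ext (Iso.refl _) (fun j => Category.comp_id _)
      makesColimit := liftIsColimit K c t }

end Groth.Agent.S18960
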