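import Groth.Statements.S18961
import Mathlib
import Groth.Agent.Lib.Helper15.GradedPoly
import Groth.Agent.Lib.Helper15.SmoothZero
import Groth.Agent.Lib.Helper15.PolyAug

set_option autoImplicit false
universe u
open BBDec

namespace Groth.Agent.S18961

/-- Let k be a field, A a finitely generated k-algebra and B a finitely generated A-algebra graded by
the natural numbers as an A-algebra, with degree-zero part equal to the image of A and A → B
injective; let B₊ be the irrelevant ideal. So Spec B → Spec A is the retraction of an affine scheme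
with an action of the multiplicative monoid of the affine line onto its fixed-point scheme, with
zero section cut out by B₊; this is the affine-local graded form, for that monoid, of the published
statement, which covers any Kempf monoid M with unit group G and a k-scheme X locally of finite
type, and concludes that the retraction X⁺ → X^G is an affine-space bundle near a fixed point at
whose section value it is smooth. Assume that A → B is smooth at every prime ideal containing B₊ and
that B₊/B₊² is a free A-module of finite rank. Then B is isomorphic, as an A-algebra, to the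
polynomial ring over A in (rank of B₊/B₊²) variables. (The published statement also makes the
isomorphism equivariant for a suitable linear action when G is linearly reductive; only the
existence of an A-algebra isomorphism is stated here. Freeness of the conormal module holds after
shrinking the base, which is how the published proof reaches this situation.) -/
theorem result (k : Type u) [Field k]
    (A B : Type u) [CommRing A] [CommRing B] [Algebra k A] [Algebra k B] [Algebra A B] [IsScalarTower k A B]
    [Algebra.FiniteType k A] [Algebra.FiniteType A B] (𝒜 : ℕ → Submodule A B) [GradedAlgebra 𝒜]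
    (h0 : ∀ b : B, b ∈ 𝒜 0 ↔ b ∈ Set.range (algebraMap A B)) (hinj : Function.Injective (algebraMap A B))
    (hsm : ∀ (P : Ideal B) [P.IsPrime], (HomogeneousIdeal.irrelevant 𝒜).toIdeal ≤ P → Algebra.IsSmoothAt A P)
    [Module.Free A (HomogeneousIdeal.irrelevant 𝒜).toIdeal.Cotangent]
    [Module.Finite A (HomogeneousIdeal.irrelevant 𝒜).toIdeal.Cotangent] :
    Nonempty (B ≃ₐ[A]
      MvPolynomial (Fin (Module.finrank A (HomogeneousIdeal.irrelevant 𝒜).toIdeal.Cotangent)) A) := by
  classical
  have hNoeth : IsNoetherianRing A := Algebra.FiniteType.isNoetherianRing k A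
  have hFP : Algebra.FinitePresentation A B :=
    Algebra.FinitePresentation.of_finiteType.1 inferInstance
  rcases subsingleton_or_nontrivial A with hA | hA
  · -- trivial case
    have hB : Subsingleton B := Module.subsingleton A B
    have hS : Subsingleton (MvPolynomial (Fin (Module.finrank A
        (HomogeneousIdeal.irrelevant 𝒜).toIdeal.Cotangent)) A) := Module.subsingleton A _
    exact ⟨{ toFun := fun _ => 0, invFun := fun _ => 0,
             left_inv := fun _ => Subsingleton.elim _ _, right_inv := fun _ => Subsingleton.elim _ _,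
             map_mul' := fun _ _ => Subsingleton.elim _ _, map_add' := fun _ _ => Subsingleton.elim _ _,
             commutes' := fun _ => Subsingleton.elim _ _ }⟩
  set Bp : Ideal B := (HomogeneousIdeal.irrelevant 𝒜).toIdeal with hBp
  set n := Module.finrank A Bp.Cotangent with hn
  let e : Module.Basis (Fin n) A Bp.Cotangent := Module.finBasis A _
  obtain ⟨s, hs1, hs2, hs3⟩ := Groth.Agent.Lib.helper15.GradedPoly.exists_section 𝒜
  let b' : Fin n → B := fun i => s (e i)
  let φ : MvPolynomial (Fin n) A →ₐ[A] B := MvPolynomial.aeval b'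
  have hφX : ∀ i, φ (MvPolynomial.X i) = s (e i) := fun i => MvPolynomial.aeval_X _ i
  have hφC : ∀ a, φ (MvPolynomial.C a) = algebraMap A B a := fun a => MvPolynomial.aeval_C _ a
  -- surjectivity
  have hφsurj : Function.Surjective φ := by
    rw [← AlgHom.range_eq_top]
    refine Groth.Agent.Lib.helper15.GradedPoly.subalgebra_eq_top 𝒜 s hs1 hs2 φ.range
      (fun m => ?_) ?_
    · have : m = ∑ i, e.repr m i • e i := (e.sum_repr m).symm
      rw [this, map_sum]
      refine sum_mem fun i _ => ?_
      rw [map_smul]
      have hmem : s (e i) ∈ φ.range := ⟨MvPolynomial.X i, hφX i⟩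
      exact Subalgebra.smul_mem _ hmem _
    · intro x hx
      obtain ⟨a, rfl⟩ := (h0 x).1 hx
      exact φ.range.algebraMap_mem a
  set Sp : Ideal (MvPolynomial (Fin n) A) := Groth.Agent.Lib.helper15.PolyAug.Sp (Fin n) A with hSp
  have hφSp : ∀ f ∈ Sp, φ f ∈ Bp := by
    intro f hf
    have : Sp ≤ Bp.comap φ := by
      rw [hSp, Ideal.span_le]
      rintro _ ⟨i, rfl⟩
      show φ (MvPolynomial.X i) ∈ Bp
      rw [hφX]; exact hs3 _
    exact this hf
  have hφSp2 : ∀ f ∈ Sp * Sp, φ f ∈ Bp ^ 2 := by
    intro f hf
    rw [pow_two]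
    refine Submodule.mul_induction_on hf (fun a ha b hb => ?_) (fun x y hx hy => ?_)
    · rw [map_mul]; exact Ideal.mul_mem_mul (hφSp a ha) (hφSp b hb)
    · rw [map_add]; exact add_mem hx hy
  have hdeg0 : ∀ a : A, algebraMap A B a ∈ Bp → a = 0 := by
    intro a ha
    have hm : algebraMap A B a ∈ 𝒜 0 := (h0 _).2 ⟨a, rfl⟩
    have := (Groth.Agent.Lib.helper15.GradedPoly.mem_Bp_iff 𝒜 _).1 ha
    rw [Groth.Agent.Lib.helper15.GradedPoly.proj_of_mem 𝒜 hm, if_pos rfl] at this
    exact hinj (this.trans (map_zero _).symm)
  -- the kernel lies in Sp²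
  have hK : RingHom.ker φ ≤ Sp * Sp := by
    intro f hf
    obtain ⟨a, h, hh, hfe⟩ := Groth.Agent.Lib.helper15.PolyAug.decomp f
    have hφf : φ f = 0 := hf
    have e1 : φ f = algebraMap A B (MvPolynomial.constantCoeff f) + ∑ i, a i • b' i + φ h := by
      conv_lhs => rw [hfe]
      rw [map_add, map_add, hφC, map_sum]
      congr 2
      refine Finset.sum_congr rfl fun i _ => ?_
      rw [map_mul, hφC, hφX, Algebra.smul_def]
    have hlin : ∑ i, a i • b' i ∈ Bp :=
      sum_mem fun i _ => Submodule.smul_of_tower_mem _ _ (hs3 _)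
    have hφh : φ h ∈ Bp ^ 2 := hφSp2 h hh
    have hc : MvPolynomial.constantCoeff f = 0 := hdeg0 _ (by
      have : algebraMap A B (MvPolynomial.constantCoeff f) = -(∑ i, a i • b' i + φ h) := by
        rw [eq_neg_iff_add_eq_zero, ← add_assoc, ← e1, hφf]
      rw [this]; exact neg_mem (add_mem hlin (Ideal.pow_le_self two_ne_zero hφh)))
    have hl2 : ∑ i, a i • b' i ∈ Bp ^ 2 := by
      have : ∑ i, a i • b' i = - φ h := by
        rw [eq_neg_iff_add_eq_zero]
        rw [e1, hc, map_zero, zero_add] at hφf
        exact hφf
      rw [this]; exact neg_mem hφh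
    have hcl : Groth.Agent.Lib.helper15.GradedPoly.cl 𝒜 (∑ i, a i • b' i) = 0 := by
      rw [Groth.Agent.Lib.helper15.GradedPoly.cl_eq_zero_iff,
        (Groth.Agent.Lib.helper15.GradedPoly.mem_Bp_iff 𝒜 _).1 hlin, sub_zero]
      exact hl2
    rw [map_sum] at hcl
    simp only [map_smul, b', hs1] at hcl
    have ha : ∀ i, a i = 0 := fun i =>
      Fintype.linearIndependent_iff.1 e.linearIndependent a hcl i
    rw [hfe, hc, map_zero, zero_add]
    simp only [ha, map_zero, zero_mul, Finset.sum_const_zero, zero_add]
    exact hh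
  -- the smooth neighbourhood of the zero section
  obtain ⟨g, hg1, hgsm⟩ : ∃ g : B, g - 1 ∈ Bp ∧
      Algebra.FormallySmooth A (Localization.Away g) := by
    have hopen := Algebra.isOpen_smoothLocus (R := A) (A := B)
    have hclosed : IsClosed (Algebra.smoothLocus A B)ᶜ := hopen.isClosed_compl
    obtain ⟨I', hI'⟩ := (PrimeSpectrum.isClosed_iff_zeroLocus_ideal _).1 hclosed
    have hdisj : PrimeSpectrum.zeroLocus ((I' ⊔ Bp : Ideal B) : Set B) = ∅ := by
      rw [PrimeSpectrum.zeroLocus_sup, ← hI']
      ext P
      simp only [Set.mem_inter_iff, Set.mem_compl_iff, PrimeSpectrum.mem_zeroLocus,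
        Set.mem_empty_iff_false, iff_false, not_and]
      intro hP hP'
      exact hP (hsm P.asIdeal hP')
    rw [PrimeSpectrum.zeroLocus_empty_iff_eq_top] at hdisj
    obtain ⟨g, hg, b, hb, hgb⟩ := Submodule.mem_sup.1 ((Ideal.eq_top_iff_one _).1 hdisj)
    refine ⟨g, ?_, ?_⟩
    · have : g - 1 = -b := by rw [← hgb]; ring
      rw [this]; exact neg_mem hb
    · rw [← Algebra.basicOpen_subset_smoothLocus_iff]
      intro P hP
      by_contra hPs
      have : P ∈ PrimeSpectrum.zeroLocus (I' : Set B) := by rw [← hI']; exact hPs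
      exact hP (this hg)
  obtain ⟨g₁, rfl⟩ := hφsurj g
  have hg₁ : g₁ - 1 ∈ Sp := by
    have h1 := Groth.Agent.Lib.helper15.PolyAug.sub_C_mem_Sp g₁
    have h2 : φ (g₁ - MvPolynomial.C (MvPolynomial.constantCoeff g₁)) ∈ Bp := hφSp _ h1
    rw [map_sub, hφC] at h2
    have h3 : algebraMap A B (MvPolynomial.constantCoeff g₁ - 1) ∈ Bp := by
      have : algebraMap A B (MvPolynomial.constantCoeff g₁ - 1) =
          (φ g₁ - 1) - (φ g₁ - algebraMap A B (MvPolynomial.constantCoeff g₁)) := by
        rw [map_sub, map_one]; ring
      rw [this]; exact sub_mem hg1 h2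
    have h4 : MvPolynomial.constantCoeff g₁ = 1 := sub_eq_zero.1 (hdeg0 _ h3)
    rw [h4, map_one] at h1
    exact h1
  have hKle := Groth.Agent.Lib.helper15.SmoothZero.ker_le_mul φ hφsurj Sp hK g₁ hg₁
    (Localization.Away (φ g₁))
  have hKbot : RingHom.ker φ = ⊥ := Groth.Agent.Lib.helper15.PolyAug.eq_bot_of_le_mul _ hKle
  have hinjφ : Function.Injective φ := (RingHom.injective_iff_ker_eq_bot _).2 hKbot
  exact ⟨(AlgEquiv.ofBijective φ ⟨hinjφ, hφsurj⟩).symm⟩

end Groth.Agent.S18961
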