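import Groth.Statements.S18962
import Mathlib

set_option autoImplicit false
universe u
open BBDec

namespace Groth.Agent.S18962

section aux

open TensorProduct

theorem sq_mem {R₀ M : Type*} [CommRing R₀] [AddCommGroup M] (I : Ideal R₀) (N : AddSubgroup M)
    (δ : R₀ →+ M) (h : ∀ u ∈ I, ∀ v ∈ I, δ (u * v) ∈ N) : ∀ z ∈ I ^ 2, δ z ∈ N := by
  intro z hz
  rw [pow_two] at hz
  refine Submodule.mul_induction_on hz (fun u hu v hv => h u hu v hv) (fun x y hx hy => ?_)
  rw [map_add]; exact N.add_mem hx hy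

variable (A B C : Type u) [CommRing A] [CommRing B] [CommRing C] [Algebra A B] [Algebra A C]
    [Algebra C B] [IsScalarTower A C B] (P : Ideal B) [P.IsPrime]

noncomputable abbrev TT := Localization.AtPrime P
noncomputable abbrev WW := (TT B P) ⊗[C] Ω[C⁄A]
noncomputable abbrev bT (b₁ : Ideal B) : Ideal (TT B P) := b₁.map (algebraMap B (TT B P))
noncomputable abbrev NN (b₁ : Ideal B) : Submodule (TT B P) (WW A B C P) := (bT B P b₁) • ⊤
noncomputable abbrev QQ (b₁ : Ideal B) := (WW A B C P) ⧸ (NN A B C P b₁)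

theorem bT_le_jacobson (b₁ : Ideal B) (hP : b₁ ≤ P) : bT B P b₁ ≤ Ideal.jacobson ⊥ := by
  rw [IsLocalRing.jacobson_eq_maximalIdeal ⊥ bot_ne_top]
  refine Ideal.map_le_iff_le_comap.mpr (fun x hx => ?_)
  exact (IsLocalization.AtPrime.to_map_mem_maximal_iff (TT B P) P x).mpr (hP hx)

theorem unramified_aux [Algebra.FiniteType A B] (σ₁ : B →ₐ[A] A) (b₂ : Ideal C)
    (hsurj : ∀ y ∈ RingHom.ker σ₁, ∃ c ∈ b₂, y - algebraMap C B c ∈ (RingHom.ker σ₁) ^ 2)
    (hP : RingHom.ker σ₁ ≤ P) : Subsingleton Ω[Localization.AtPrime P⁄C] := by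
  classical
  set b₁ : Ideal B := RingHom.ker σ₁ with hb₁
  haveI : Algebra.FiniteType C B := Algebra.FiniteType.of_restrictScalars_finiteType A C B
  haveI : Algebra.EssFiniteType B (TT B P) :=
    Algebra.EssFiniteType.of_isLocalization (TT B P) P.primeCompl
  haveI : Algebra.EssFiniteType C (TT B P) := Algebra.EssFiniteType.comp C B (TT B P)
  have hmem_b₁ : ∀ x : B, x - algebraMap A B (σ₁ x) ∈ b₁ := by
    intro x
    rw [hb₁, RingHom.mem_ker, map_sub, AlgHom.commutes]
    simp
  let dT : B →+ Ω[TT B P⁄C] :=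
    { toFun := fun x => KaehlerDifferential.D C (TT B P) (algebraMap B (TT B P) x)
      map_zero' := by simp
      map_add' := fun x y => by simp }
  have hdT : ∀ x, dT x = KaehlerDifferential.D C (TT B P) (algebraMap B (TT B P) x) := fun _ => rfl
  have hC : ∀ c : C, dT (algebraMap C B c) = 0 := by
    intro c
    rw [hdT, ← IsScalarTower.algebraMap_apply C B (TT B P), Derivation.map_algebraMap]
  have hAd : ∀ a : A, dT (algebraMap A B a) = 0 := by
    intro a
    rw [IsScalarTower.algebraMap_apply A C B, hC]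
  have hsq : ∀ z ∈ b₁ ^ 2, dT z ∈ (bT B P b₁) • (⊤ : Submodule (TT B P) Ω[TT B P⁄C]) := by
    intro z hz
    refine sq_mem b₁ ((bT B P b₁) • (⊤ : Submodule (TT B P) Ω[TT B P⁄C])).toAddSubgroup dT
      (fun u hu v hv => ?_) z hz
    show dT (u * v) ∈ (bT B P b₁) • (⊤ : Submodule (TT B P) Ω[TT B P⁄C])
    rw [hdT, map_mul, Derivation.leibniz]
    exact add_mem (Submodule.smul_mem_smul (Ideal.mem_map_of_mem _ hu) Submodule.mem_top)
      (Submodule.smul_mem_smul (Ideal.mem_map_of_mem _ hv) Submodule.mem_top)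
  have hall : ∀ x : B, dT x ∈ (bT B P b₁) • (⊤ : Submodule (TT B P) Ω[TT B P⁄C]) := by
    intro x
    obtain ⟨c, _, hc2⟩ := hsurj _ (hmem_b₁ x)
    have : dT x = dT (x - algebraMap A B (σ₁ x) - algebraMap C B c) := by
      rw [map_sub, map_sub, hAd, hC, sub_zero, sub_zero]
    rw [this]
    exact hsq _ hc2
  have htop : (⊤ : Submodule (TT B P) Ω[TT B P⁄C]) ≤
      (bT B P b₁) • (⊤ : Submodule (TT B P) Ω[TT B P⁄C]) := by
    have hspan := KaehlerDifferential.span_range_map_derivation_of_isLocalization C B (TT B P)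
      P.primeCompl
    intro ω _
    have hω : ω ∈ Submodule.span (TT B P) (Set.range
        (KaehlerDifferential.map C C B (TT B P) ∘ KaehlerDifferential.D C B)) := by
      rw [hspan]; trivial
    refine Submodule.span_le.mpr ?_ hω
    rintro _ ⟨x, rfl⟩
    show (KaehlerDifferential.map C C B (TT B P)) (KaehlerDifferential.D C B x) ∈ _
    rw [KaehlerDifferential.map_D]
    exact hall x
  have h0 := Submodule.eq_bot_of_le_smul_of_le_jacobson_bot (bT B P b₁)
    (⊤ : Submodule (TT B P) Ω[TT B P⁄C]) (Module.finite_def.mp inferInstance) htop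
    (bT_le_jacobson B P b₁ hP)
  exact (Submodule.subsingleton_iff (TT B P)).mp (subsingleton_of_bot_eq_top h0.symm)

theorem inj_aux [Algebra.FiniteType A C] (σ₁ : B →ₐ[A] A) (σ₂ : C →ₐ[A] A)
    (hσ : ∀ c, σ₁ (algebraMap C B c) = σ₂ c)
    (hsurj : ∀ y ∈ RingHom.ker σ₁, ∃ c ∈ RingHom.ker σ₂,
      y - algebraMap C B c ∈ (RingHom.ker σ₁) ^ 2)
    (hinj : ∀ c ∈ RingHom.ker σ₂, algebraMap C B c ∈ (RingHom.ker σ₁) ^ 2 →
      c ∈ (RingHom.ker σ₂) ^ 2)
    (hP : RingHom.ker σ₁ ≤ P)
    [Algebra.FormallySmooth A (Localization.AtPrime P)]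
    [Subsingleton Ω[Localization.AtPrime P⁄C]] :
    Function.Injective (KaehlerDifferential.mapBaseChange A C (Localization.AtPrime P)) := by
  classical
  set b₁ : Ideal B := RingHom.ker σ₁ with hb₁
  set b₂ : Ideal C := RingHom.ker σ₂ with hb₂
  letI iQB : Module B (QQ A B C P b₁) := Submodule.Quotient.module' _
  letI iQA : Module A (QQ A B C P b₁) := Submodule.Quotient.module' _
  haveI : Algebra.FormallyEtale B (TT B P) := Algebra.FormallyEtale.of_isLocalization P.primeCompl
  -- basic facts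
  have hmem_b₁ : ∀ x : B, x - algebraMap A B (σ₁ x) ∈ b₁ := by
    intro x
    rw [hb₁, RingHom.mem_ker, map_sub, AlgHom.commutes]
    simp
  have hf : ∀ c ∈ b₂, algebraMap C B c ∈ b₁ := by
    intro c hc
    rw [hb₁, RingHom.mem_ker, hσ]; exact hc
  have halg : ∀ c : C, algebraMap C (TT B P) c = algebraMap B (TT B P) (algebraMap C B c) :=
    fun c => IsScalarTower.algebraMap_apply C B (TT B P) c
  have hbT : ∀ c ∈ b₂, algebraMap C (TT B P) c ∈ bT B P b₁ := by
    intro c hc; rw [halg]; exact Ideal.mem_map_of_mem _ (hf c hc)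
  -- the map e
  let e : C →+ WW A B C P :=
    { toFun := fun c => (1 : TT B P) ⊗ₜ[C] KaehlerDifferential.D A C c
      map_zero' := by simp
      map_add' := fun x y => by simp [TensorProduct.tmul_add] }
  have he_apply : ∀ c, e c = (1 : TT B P) ⊗ₜ[C] KaehlerDifferential.D A C c := fun c => rfl
  have he_mul : ∀ u v : C, e (u * v) =
      algebraMap C (TT B P) u • e v + algebraMap C (TT B P) v • e u := by
    intro u v
    rw [he_apply, he_apply, he_apply, Derivation.leibniz, TensorProduct.tmul_add,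
      TensorProduct.tmul_smul, TensorProduct.tmul_smul, algebraMap_smul, algebraMap_smul]
  have he_alg : ∀ a : A, e (algebraMap A C a) = 0 := by
    intro a; rw [he_apply, Derivation.map_algebraMap, TensorProduct.tmul_zero]
  have key1 : ∀ c ∈ b₂, algebraMap C B c ∈ b₁ ^ 2 → e c ∈ NN A B C P b₁ := by
    intro c hc hc2
    have h2 := hinj c hc hc2
    refine sq_mem b₂ (NN A B C P b₁).toAddSubgroup e (fun u hu v hv => ?_) c h2
    show e (u * v) ∈ NN A B C P b₁
    rw [he_mul]
    exact add_mem (Submodule.smul_mem_smul (hbT u hu) Submodule.mem_top)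
      (Submodule.smul_mem_smul (hbT v hv) Submodule.mem_top)
  -- the choice
  have hex : ∀ x : B, ∃ c ∈ b₂, x - algebraMap A B (σ₁ x) - algebraMap C B c ∈ b₁ ^ 2 :=
    fun x => hsurj _ (hmem_b₁ x)
  choose cx hcx hcx2 using hex
  let mkQ : WW A B C P →ₗ[TT B P] QQ A B C P b₁ := (NN A B C P b₁).mkQ
  have hmkQ0 : ∀ w, w ∈ NN A B C P b₁ → mkQ w = 0 :=
    fun w hw => (Submodule.Quotient.mk_eq_zero _).mpr hw
  have key2 : ∀ (x : B) (c : C), c ∈ b₂ →
      x - algebraMap A B (σ₁ x) - algebraMap C B c ∈ b₁ ^ 2 → mkQ (e (cx x)) = mkQ (e c) := by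
    intro x c hc hc2
    have h1 : e (cx x - c) ∈ NN A B C P b₁ := by
      refine key1 _ (sub_mem (hcx x) hc) ?_
      have : algebraMap C B (cx x - c) = (x - algebraMap A B (σ₁ x) - algebraMap C B c) -
          (x - algebraMap A B (σ₁ x) - algebraMap C B (cx x)) := by rw [map_sub]; ring
      rw [this]; exact sub_mem hc2 (hcx2 x)
    have h3 := hmkQ0 _ h1
    rw [map_sub, map_sub, sub_eq_zero] at h3
    exact h3
  -- x acts on Q via σ₁
  have hact : ∀ (x : B) (q : QQ A B C P b₁), x • q = (σ₁ x) • q := by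
    intro x q
    obtain ⟨w, rfl⟩ := Submodule.Quotient.mk_surjective _ q
    have h0 : (x - algebraMap A B (σ₁ x)) • (Submodule.Quotient.mk w : QQ A B C P b₁) = 0 := by
      rw [← Submodule.Quotient.mk_smul, Submodule.Quotient.mk_eq_zero,
        ← algebraMap_smul (TT B P) (x - algebraMap A B (σ₁ x)) w]
      exact Submodule.smul_mem_smul (Ideal.mem_map_of_mem _ (hmem_b₁ x)) Submodule.mem_top
    rw [sub_smul, sub_eq_zero, algebraMap_smul] at h0
    exact h0
  let D₁fun : B → QQ A B C P b₁ := fun x => mkQ (e (cx x))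
  have hD_add : ∀ x y, D₁fun (x + y) = D₁fun x + D₁fun y := by
    intro x y
    have h := key2 (x + y) (cx x + cx y) (add_mem (hcx x) (hcx y)) (by
      have : x + y - algebraMap A B (σ₁ (x + y)) - algebraMap C B (cx x + cx y) =
        (x - algebraMap A B (σ₁ x) - algebraMap C B (cx x)) +
        (y - algebraMap A B (σ₁ y) - algebraMap C B (cx y)) := by
        simp only [map_add]; ring
      rw [this]; exact add_mem (hcx2 x) (hcx2 y))
    show mkQ (e (cx (x + y))) = mkQ (e (cx x)) + mkQ (e (cx y))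
    rw [h, map_add, map_add]
  have hD_mul : ∀ x y, D₁fun (x * y) = x • D₁fun y + y • D₁fun x := by
    intro x y
    have hcmem : algebraMap A C (σ₁ x) * cx y + algebraMap A C (σ₁ y) * cx x ∈ b₂ :=
      add_mem (Ideal.mul_mem_left _ _ (hcx y)) (Ideal.mul_mem_left _ _ (hcx x))
    have hc2 : x * y - algebraMap A B (σ₁ (x * y)) -
        algebraMap C B (algebraMap A C (σ₁ x) * cx y + algebraMap A C (σ₁ y) * cx x) ∈ b₁ ^ 2 := by
      have hAB : ∀ a : A, algebraMap C B (algebraMap A C a) = algebraMap A B a :=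
        fun a => (IsScalarTower.algebraMap_apply A C B a).symm
      have : x * y - algebraMap A B (σ₁ (x * y)) -
          algebraMap C B (algebraMap A C (σ₁ x) * cx y + algebraMap A C (σ₁ y) * cx x) =
          (x - algebraMap A B (σ₁ x)) * (y - algebraMap A B (σ₁ y)) +
          algebraMap A B (σ₁ x) * (y - algebraMap A B (σ₁ y) - algebraMap C B (cx y)) +
          algebraMap A B (σ₁ y) * (x - algebraMap A B (σ₁ x) - algebraMap C B (cx x)) := by
        simp only [map_add, map_mul, hAB]; ring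
      rw [this]
      refine add_mem (add_mem ?_ (Ideal.mul_mem_left _ _ (hcx2 y)))
        (Ideal.mul_mem_left _ _ (hcx2 x))
      rw [pow_two]; exact Ideal.mul_mem_mul (hmem_b₁ x) (hmem_b₁ y)
    have h1 := key2 (x * y) _ hcmem hc2
    show mkQ (e (cx (x * y))) = x • mkQ (e (cx y)) + y • mkQ (e (cx x))
    rw [h1, hact x, hact y]
    simp only [map_add, he_mul, he_alg, smul_zero, add_zero, map_smul]
    congr 1
    · rw [← IsScalarTower.algebraMap_apply A C (TT B P), algebraMap_smul]
    · rw [← IsScalarTower.algebraMap_apply A C (TT B P), algebraMap_smul]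
  have hD_alg : ∀ a : A, D₁fun (algebraMap A B a) = 0 := by
    intro a
    have h := key2 (algebraMap A B a) 0 (zero_mem _) (by
      rw [AlgHom.commutes, map_zero, sub_zero]; simp)
    show mkQ (e (cx (algebraMap A B a))) = 0
    rw [h, map_zero, map_zero]
  let D₁lin : B →ₗ[A] QQ A B C P b₁ :=
    { toFun := D₁fun
      map_add' := hD_add
      map_smul' := fun a x => by
        show D₁fun (a • x) = a • D₁fun x
        rw [Algebra.smul_def, hD_mul, hD_alg, smul_zero, add_zero, algebraMap_smul] }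
  let D₁ : Derivation A B (QQ A B C P b₁) := Derivation.mk' D₁lin hD_mul
  let ψ₀ : Ω[B⁄A] →ₗ[B] QQ A B C P b₁ := D₁.liftKaehlerDifferential
  let ψ₁ : (TT B P) ⊗[B] Ω[B⁄A] →ₗ[TT B P] QQ A B C P b₁ :=
    LinearMap.liftBaseChange (TT B P) ψ₀
  let eT := KaehlerDifferential.tensorKaehlerEquivOfFormallyEtale A B (TT B P)
  let ψ : Ω[TT B P⁄A] →ₗ[TT B P] QQ A B C P b₁ := ψ₁ ∘ₗ eT.symm.toLinearMap
  have hψ : ∀ x : B,
      ψ (KaehlerDifferential.D A (TT B P) (algebraMap B (TT B P) x)) = D₁fun x := by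
    intro x
    show ψ₁ (eT.symm (KaehlerDifferential.D A (TT B P) (algebraMap B (TT B P) x))) = D₁fun x
    rw [KaehlerDifferential.tensorKaehlerEquivOfFormallyEtale_symm_D_algebraMap]
    show ψ₁ (1 ⊗ₜ _) = _
    rw [LinearMap.liftBaseChange_tmul, one_smul]
    exact Derivation.liftKaehlerDifferential_comp_D D₁ x
  let φ := KaehlerDifferential.mapBaseChange A C (TT B P)
  have hD₁f : ∀ c : C, D₁fun (algebraMap C B c) = mkQ (e c) := by
    intro c
    have h := key2 (algebraMap C B c) (c - algebraMap A C (σ₂ c)) (by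
        rw [hb₂, RingHom.mem_ker, map_sub, AlgHom.commutes]; simp) (by
        have : algebraMap C B c - algebraMap A B (σ₁ (algebraMap C B c)) -
            algebraMap C B (c - algebraMap A C (σ₂ c)) = 0 := by
          rw [hσ, map_sub, ← IsScalarTower.algebraMap_apply A C B]; ring
        rw [this]; exact zero_mem _)
    show mkQ (e (cx (algebraMap C B c))) = mkQ (e c)
    rw [h, map_sub, he_alg, sub_zero]
  have key3 : ∀ (ω : Ω[C⁄A]) (t : TT B P), ψ (φ (t ⊗ₜ[C] ω)) = mkQ (t ⊗ₜ[C] ω) := by
    intro ω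
    have hω : ω ∈ Submodule.span C (Set.range (KaehlerDifferential.D A C)) := by
      rw [KaehlerDifferential.span_range_derivation]; trivial
    induction hω using Submodule.span_induction with
    | mem ω h =>
      obtain ⟨c, rfl⟩ := h
      intro t
      rw [KaehlerDifferential.mapBaseChange_tmul, KaehlerDifferential.map_D, map_smul, halg, hψ,
        hD₁f, ← map_smul, he_apply, TensorProduct.smul_tmul', smul_eq_mul, mul_one]
    | zero => intro t; simp
    | add x y _ _ hx hy =>
      intro t; rw [TensorProduct.tmul_add, map_add, map_add, map_add, hx, hy]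
    | smul c' x _ hx =>
      intro t
      rw [← TensorProduct.smul_tmul]
      exact hx (c' • t)
  have h1 : ∀ w : WW A B C P, ψ (φ w) = mkQ w := by
    intro w
    induction w using TensorProduct.induction_on with
    | zero => simp
    | tmul t ω => exact key3 ω t
    | add x y hx hy => rw [map_add, map_add, map_add, hx, hy]
  have hK : ∀ w : WW A B C P, φ w = 0 → w ∈ NN A B C P b₁ := by
    intro w hw
    have h2 := h1 w
    rw [hw, map_zero] at h2
    exact (Submodule.Quotient.mk_eq_zero _).mp h2.symm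
  -- φ surjective
  have hφsurj : Function.Surjective φ := by
    intro v
    have hex := KaehlerDifferential.exact_mapBaseChange_map A C (TT B P)
    exact (hex v).mp (Subsingleton.elim _ _)
  obtain ⟨s, hs⟩ := Module.projective_lifting_property φ LinearMap.id hφsurj
  let π : WW A B C P →ₗ[TT B P] WW A B C P := LinearMap.id - s ∘ₗ φ
  have hπker : ∀ w, φ (π w) = 0 := by
    intro w
    show φ (w - s (φ w)) = 0
    rw [map_sub, sub_eq_zero]
    exact (LinearMap.congr_fun hs (φ w)).symm
  have hπid : ∀ w, φ w = 0 → π w = w := by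
    intro w hw
    show w - s (φ w) = w
    rw [hw, map_zero, sub_zero]
  let N : Submodule (TT B P) (WW A B C P) := LinearMap.ker φ
  have hNfg : N.FG := by
    have hNr : N = LinearMap.range π := by
      ext w; constructor
      · intro hw; exact ⟨w, hπid w hw⟩
      · rintro ⟨w', rfl⟩; exact hπker w'
    rw [hNr, LinearMap.range_eq_map]
    exact Submodule.FG.map _ (Module.finite_def.mp inferInstance)
  have hNle : N ≤ bT B P b₁ • N := by
    intro n hn
    have hn' : n ∈ NN A B C P b₁ := hK n hn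
    have hπn : π n ∈ bT B P b₁ • N := by
      refine Submodule.smul_induction_on hn' (fun r hr w _ => ?_) (fun x y hx hy => ?_)
      · rw [map_smul]; exact Submodule.smul_mem_smul hr (hπker w)
      · rw [map_add]; exact add_mem hx hy
    rwa [hπid n hn] at hπn
  have hN0 : N = ⊥ := Submodule.eq_bot_of_le_smul_of_le_jacobson_bot _ N hNfg hNle
    (bT_le_jacobson B P b₁ hP)
  exact LinearMap.ker_eq_bot.mp hN0

theorem h1_aux {T' : Type u} [CommRing T'] [Algebra A T'] [Algebra C T'] [IsScalarTower A C T']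
    [Algebra.FormallySmooth A T']
    (hinj : Function.Injective (KaehlerDifferential.mapBaseChange A C T')) :
    Subsingleton (Algebra.H1Cotangent C T') := by
  have hδ : ∀ z : Algebra.H1Cotangent C T', Algebra.H1Cotangent.δ A C T' z = 0 := by
    intro z
    apply hinj
    rw [map_zero]
    exact (Algebra.H1Cotangent.exact_δ_mapBaseChange A C T' _).mpr ⟨z, rfl⟩
  have hz : ∀ z : Algebra.H1Cotangent C T', z = 0 := by
    intro z
    obtain ⟨w, hw⟩ := (Algebra.H1Cotangent.exact_map_δ A C T' z).mp (hδ z)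
    rw [← hw, Subsingleton.elim w 0, map_zero]
  exact ⟨fun x y => by rw [hz x, hz y]⟩

end aux



/-- Let A be a commutative ring (the base V = Spec A) and B₁, B₂ commutative A-algebras (V-schemes X₁,
X₂) with A-algebra maps σ₁ : B₁ → A and σ₂ : B₂ → A (sections s₁, s₂ of the structure maps, closed
immersions with ideals b₁ = ker σ₁, b₂ = ker σ₂), and let B₂ → B₁ be an A-algebra map (a V-morphism
f : X₁ → X₂) with σ₁ ∘ (B₂ → B₁) = σ₂ (f s₁ = s₂). Assume B₁ is finitely presented over A and smooth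
over A at every prime containing b₁ (r₁ smooth along s₁(V)), B₂ is of finite type over A, and the
induced map b₂/b₂² → b₁/b₁² of conormal modules is bijective. Then B₂ → B₁ is étale at every prime
of B₁ containing b₁ (f étale along s₁(V)). (The published statement puts no finiteness condition on
B₂ over A, and in that generality the conclusion fails: over a field k, the square-zero extension of
k[x] by k[x, 1/x] mapping onto k[y] by x ↦ y, with the zero sections, satisfies every other
hypothesis and is not étale at the origin. Here B₂ is assumed of finite type over A.) -/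
theorem result (A B₁ B₂ : Type u)
    [CommRing A] [CommRing B₁] [CommRing B₂] [Algebra A B₁] [Algebra A B₂] [Algebra B₂ B₁]
    [IsScalarTower A B₂ B₁] [Algebra.FinitePresentation A B₁] [Algebra.FiniteType A B₂]
    (σ₁ : B₁ →ₐ[A] A) (σ₂ : B₂ →ₐ[A] A) (hσ : σ₁.comp (IsScalarTower.toAlgHom A B₂ B₁) = σ₂)
    (hle : RingHom.ker σ₂ ≤ (RingHom.ker σ₁).comap (IsScalarTower.toAlgHom A B₂ B₁))
    (hcot : Function.Bijective
      (Ideal.mapCotangent (RingHom.ker σ₂) (RingHom.ker σ₁) (IsScalarTower.toAlgHom A B₂ B₁) hle))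
    (hsm : ∀ (P : Ideal B₁) [P.IsPrime], RingHom.ker σ₁ ≤ P → Algebra.IsSmoothAt A P)
    (P : Ideal B₁) [P.IsPrime] (hP : RingHom.ker σ₁ ≤ P) : Algebra.IsEtaleAt B₂ P := by
  classical
  have hσ' : ∀ c, σ₁ (algebraMap B₂ B₁ c) = σ₂ c := fun c => AlgHom.congr_fun hσ c
  have hsurj : ∀ y ∈ RingHom.ker σ₁, ∃ c ∈ RingHom.ker σ₂,
      y - algebraMap B₂ B₁ c ∈ (RingHom.ker σ₁) ^ 2 := by
    intro y hy
    obtain ⟨z, hz⟩ := hcot.2 ((RingHom.ker σ₁).toCotangent ⟨y, hy⟩)
    obtain ⟨c, rfl⟩ := (RingHom.ker σ₂).toCotangent_surjective z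
    rw [Ideal.mapCotangent_toCotangent] at hz
    refine ⟨c.1, c.2, ?_⟩
    exact (Ideal.toCotangent_eq (I := RingHom.ker σ₁)).mp hz.symm
  have hinj : ∀ c ∈ RingHom.ker σ₂, algebraMap B₂ B₁ c ∈ (RingHom.ker σ₁) ^ 2 →
      c ∈ (RingHom.ker σ₂) ^ 2 := by
    intro c hc hc2
    have h0 : Ideal.mapCotangent (RingHom.ker σ₂) (RingHom.ker σ₁)
        (IsScalarTower.toAlgHom A B₂ B₁) hle ((RingHom.ker σ₂).toCotangent ⟨c, hc⟩) = 0 := by
      rw [Ideal.mapCotangent_toCotangent, Ideal.toCotangent_eq_zero]; exact hc2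
    have h1 := hcot.1 (h0.trans (map_zero _).symm)
    exact (Ideal.toCotangent_eq_zero _ _).mp h1
  haveI hsmP : Algebra.FormallySmooth A (Localization.AtPrime P) := hsm P hP
  haveI : Algebra.FiniteType A B₁ := inferInstance
  haveI hU : Subsingleton Ω[Localization.AtPrime P⁄B₂] :=
    unramified_aux A B₁ B₂ P σ₁ (RingHom.ker σ₂) hsurj hP
  have hI := inj_aux A B₁ B₂ P σ₁ σ₂ hσ' hsurj hinj hP
  haveI hH : Subsingleton (Algebra.H1Cotangent B₂ (Localization.AtPrime P)) :=
    h1_aux A B₂ hI
  exact ⟨hU, hH⟩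


end Groth.Agent.S18962
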