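import Groth.Statements.S18965
import Groth.Agent.Lib.Lead.HilbPos11
-- import your own Groth.Agent.* helpers here

set_option autoImplicit false
set_option backward.isDefEq.respectTransparency false
open CategoryTheory CategoryTheory.Limits AlgebraicGeometry Polynomial
universe u
open ShStab

namespace Groth.Agent.S18965

/-- Let k be an algebraically closed field of characteristic zero, X a smooth projective integral
variety of dimension n ≥ 1 over k polarised by an ample invertible sheaf L, and F, G torsion-free
coherent O_X-modules (pure of dimension n) which are slope-semistable with respect to L. If μ_L(G) <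
μ_L(F) then Hom(F, G) = 0. Slopes are compared through the quantity α_(n−1)/α_n of the Hilbert
polynomials with respect to L, which on a fixed polarised X is an increasing affine function of the
slope det · L^(n−1)/rank. -/
theorem result (k : Type u) [Field k] [IsAlgClosed k] [CharZero k]
    (X : Scheme.{u}) [X.Over (Spec (CommRingCat.of k))] [IsIntegral X]
    [IsProper (X ↘ Spec (CommRingCat.of k))] [Smooth (X ↘ Spec (CommRingCat.of k))]
    (n : ℕ) (hn : 1 ≤ n) (hX : topologicalKrullDim X = (n : WithBot ℕ∞))
    (L : X.Modules) (hLi : PicF.IsInvertible L) (hL : CohB1.IsAmple L)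
    (F G : X.Modules) (hFt : ShStab.IsPure X F n) (hGt : ShStab.IsPure X G n)
    (hF : ShStab.IsMuSemistable k X L F n) (hG : ShStab.IsMuSemistable k X L G n)
    (pF pG : ℚ[X]) (hpF : ShStab.IsHilbPoly k X L F pF) (hpG : ShStab.IsHilbPoly k X L G pG)
    (hlt : StabCat.hatSlope n pG < StabCat.hatSlope n pF) (φ : F ⟶ G) : φ = 0 := by
  by_contra hφ
  have hFc := hF.1
  have hGc := hG.1
  have hIc : Coh.IsCoh (Abelian.image φ) := Groth.Agent.Lib.Lead.HilbPos.isCoh_image k X hFc hGc φ
  have hI0 : ¬ IsZero (Abelian.image φ) := Groth.Agent.Lib.Lead.HilbPos.not_isZero_image φ hφ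
  obtain ⟨pI, hpI⟩ := Groth.Agent.Lib.Lead.HilbPos.exists_isHilbPoly_of_mono_pure k X hL.1 hGt
    (Abelian.image.ι φ) hIc
  have aI : 0 < StabCat.alpha n pI := Groth.Agent.Lib.Lead.HilbPos.alpha_pos_of_mono_pure k X hL
    hGt (Abelian.image.ι φ) hIc hI0 hpI
  have h1 := Groth.Agent.Lib.Lead.HilbPos.hatSlope_le_image_of_isMuSS k X hL hFc hFt hF.2.2.2.2 hGc φ
    hpF hpI aI
  have h2 := Groth.Agent.Lib.Lead.HilbPos.hatSlope_le_of_mono_of_isMuSS k X hL hn hGc hGt hG.2.2.2.2
    (Abelian.image.ι φ) hIc hI0 hpI hpG
  linarith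

end Groth.Agent.S18965
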