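import Groth.Statements.S18966
import Groth.Agent.Lib.Lead.TorsPure
import Groth.Agent.Lib.Lead.HilbPos13
import Groth.Agent.Lib.Lead.HilbPos11
import Groth.Agent.Lib.Helper20.SurfKernel
import Groth.Agent.Lib.Helper20.DimFormulaInt

set_option autoImplicit false
open CategoryTheory CategoryTheory.Limits AlgebraicGeometry Polynomial
universe u
open ShStab

namespace Groth.Agent.S18966


theorem quot_gt {aK aI bK bI : ℚ} (hK : 0 < aK) (hI : 0 < aI)
    (h : bK / aK < (bK + bI) / (aK + aI)) : (bK + bI) / (aK + aI) < bI / aI := by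
  have hKI : 0 < aK + aI := add_pos hK hI
  rw [div_lt_div_iff₀ hK hKI] at h
  rw [div_lt_div_iff₀ hKI hI]
  nlinarith

theorem alpha_eq_zero_iff (d : ℕ) (P : ℚ[X]) : StabCat.alpha d P = 0 ↔ P.coeff d = 0 := by
  unfold StabCat.alpha
  constructor
  · intro h
    rcases mul_eq_zero.mp h with h | h
    · exact absurd h (by exact_mod_cast (Nat.factorial_pos d).ne')
    · exact h
  · intro h
    rw [h, mul_zero]

theorem alpha_nonneg_of_coeff (d : ℕ) (P : ℚ[X]) (h : 0 ≤ P.coeff d) : 0 ≤ StabCat.alpha d P := by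
  unfold StabCat.alpha
  exact mul_nonneg (by exact_mod_cast (Nat.factorial_pos d).le) h

open Groth.Agent.Lib.Lead.HilbPos in
/-- if `dim Supp Q ≤ d` and the degree `d` coefficient of the Hilbert polynomial vanishes, then
`dim Supp Q < d` -/
theorem dim_lt_of_coeff_eq_zero (k : Type u) [Field k]
    (X : Scheme.{u}) [X.Over (Spec (CommRingCat.of k))]
    [IsProper (X ↘ Spec (CommRingCat.of k))] {L : X.Modules} (hL : CohB1.IsAmple L)
    {Q : X.Modules} (hQ : Coh.IsCoh Q) (d : ℕ)
    (hd : topologicalKrullDim (CohB1.support Q) ≤ ((d : ℕ) : WithBot ℕ∞)) {P : ℚ[X]}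
    (hP : ShStab.IsHilbPoly k X L Q P) (h0 : P.coeff d = 0) :
    topologicalKrullDim (CohB1.support Q) < ((d : ℕ) : WithBot ℕ∞) := by
  rcases lt_or_eq_of_le hd with h | h
  · exact h
  · exact absurd h0 (coeff_pos k X hL hQ d h hP).ne'


/-- Let k be an algebraically closed field of characteristic zero, X a smooth projective integral
variety of dimension n ≥ 1 over k polarised by an ample invertible sheaf L, and F, G reflexive
coherent O_X-modules which are slope-stable with respect to L. If μ_L(G) ≤ μ_L(F) then every nonzero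
morphism F → G is an isomorphism. Slopes are compared through the quantity α_(n−1)/α_n of the
Hilbert polynomials with respect to L, an increasing affine function of the slope det ·
L^(n−1)/rank; reflexive means that the canonical map to the double dual is an isomorphism. -/
theorem result (k : Type u) [Field k] [IsAlgClosed k] [CharZero k]
    (X : Scheme.{u}) [X.Over (Spec (CommRingCat.of k))] [IsIntegral X]
    [IsProper (X ↘ Spec (CommRingCat.of k))] [Smooth (X ↘ Spec (CommRingCat.of k))]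
    (n : ℕ) (hn : 1 ≤ n) (hX : topologicalKrullDim X = (n : WithBot ℕ∞))
    (L : X.Modules) (hLi : PicF.IsInvertible L) (hL : CohB1.IsAmple L)
    (F G : X.Modules) (hFr : RefHull.IsReflexive F) (hGr : RefHull.IsReflexive G)
    (hF : ShStab.IsMuStable k X L F n) (hG : ShStab.IsMuStable k X L G n)
    (pF pG : ℚ[X]) (hpF : ShStab.IsHilbPoly k X L F pF) (hpG : ShStab.IsHilbPoly k X L G pG)
    (hle : StabCat.hatSlope n pG ≤ StabCat.hatSlope n pF) (φ : F ⟶ G) (hφ : φ ≠ 0) : IsIso φ := by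
  haveI := Groth.Agent.Lib.Lead.CurveEuler.isNoetherian k X
  haveI : LocallyOfFiniteType (X ↘ Spec (CommRingCat.of k)) := inferInstance
  have hFc : Coh.IsCoh F := hF.1
  have hGc : Coh.IsCoh G := hG.1
  haveI : F.IsQuasicoherent := hFc.1
  haveI : G.IsQuasicoherent := hGc.1
  have hFt : TorSh.IsTorsionFree F := Groth.Agent.Lib.Lead.TorsPure.isTorsionFree_of_isReflexive F hFr
  have hGt : TorSh.IsTorsionFree G := Groth.Agent.Lib.Lead.TorsPure.isTorsionFree_of_isReflexive G hGr
  have hFp : ShStab.IsPure X F n :=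
    Groth.Agent.Lib.Lead.TorsPure.isPure_of_isTorsionFree n hX F hFt
  have hGp : ShStab.IsPure X G n :=
    Groth.Agent.Lib.Lead.TorsPure.isPure_of_isTorsionFree n hX G hGt
  have hKc : Coh.IsCoh (kernel φ) := Groth.Agent.Lib.Lead.HilbPos.isCoh_kernel k X hFc hGc φ
  have hIc : Coh.IsCoh (Abelian.image φ) := Groth.Agent.Lib.Lead.HilbPos.isCoh_image k X hFc hGc φ
  have hQc : Coh.IsCoh (cokernel φ) := Groth.Agent.Lib.helper7.CohKer.isCoh_cokernel hFc hGc φ
  obtain ⟨pK, hpK⟩ := Groth.Agent.Lib.Lead.HilbPos.exists_isHilbPoly_of_mono_pure k X hLi hFp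
    (kernel.ι φ) hKc
  obtain ⟨pI, hpI⟩ := Groth.Agent.Lib.Lead.HilbPos.exists_isHilbPoly_of_mono_pure k X hLi hGp
    (Abelian.image.ι φ) hIc
  have hQdim : topologicalKrullDim (CohB1.support (cokernel φ)) ≤ ((n : ℕ) : WithBot ℕ∞) := by
    rw [← hX]; exact topologicalKrullDim_subspace_le _ _
  obtain ⟨pQ, hpQ, -⟩ := Groth.Agent.Lib.Lead.HilbPos.exists_isHilbPoly k X hLi hQc n hQdim
  have hsumF : ShStab.IsHilbPoly k X L F (pK + pI) :=
    Groth.Agent.Lib.Lead.HilbPos.isHilbPoly_add k X hLi _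
      (Groth.Agent.Lib.Lead.HilbPos.shortExact_kernel_image φ) hKc hIc hpK hpI
  have hsumG : ShStab.IsHilbPoly k X L G (pI + pQ) :=
    Groth.Agent.Lib.Lead.HilbPos.isHilbPoly_add k X hLi _
      (Groth.Agent.Lib.Lead.HilbPos.shortExact_image_cokernel φ) hIc hQc hpI hpQ
  have eF : pF = pK + pI := Groth.Agent.Lib.Lead.HilbPos.isHilbPoly_unique k X hpF hsumF
  have eG : pG = pI + pQ := Groth.Agent.Lib.Lead.HilbPos.isHilbPoly_unique k X hpG hsumG
  have hI0 : ¬ IsZero (Abelian.image φ) := Groth.Agent.Lib.Lead.HilbPos.not_isZero_image φ hφ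
  have aI : 0 < StabCat.alpha n pI :=
    Groth.Agent.Lib.Lead.HilbPos.alpha_pos_of_mono_pure k X hL hGp (Abelian.image.ι φ) hIc hI0 hpI
  have aQ : 0 ≤ StabCat.alpha n pQ :=
    alpha_nonneg_of_coeff n pQ (Groth.Agent.Lib.Lead.HilbPos.coeff_nonneg k X hL hQc n hQdim hpQ)
  -- consequences of `alpha n pQ = 0`
  have hQ1 : StabCat.alpha n pQ = 0 →
      topologicalKrullDim (CohB1.support (cokernel φ)) ≤ (((n - 1 : ℕ)) : WithBot ℕ∞) := by
    intro h0
    exact Groth.Agent.Lib.Lead.HilbPos.lt_coe_iff_le_pred hn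
      (dim_lt_of_coeff_eq_zero k X hL hQc n hQdim hpQ ((alpha_eq_zero_iff n pQ).mp h0))
  have bQ : StabCat.alpha n pQ = 0 → 0 ≤ StabCat.alpha (n - 1) pQ := fun h0 =>
    alpha_nonneg_of_coeff (n - 1) pQ
      (Groth.Agent.Lib.Lead.HilbPos.coeff_nonneg k X hL hQc (n - 1) (hQ1 h0) hpQ)
  have hslF : StabCat.hatSlope n pF =
      (StabCat.alpha (n - 1) pK + StabCat.alpha (n - 1) pI) /
        (StabCat.alpha n pK + StabCat.alpha n pI) := by
    rw [eF]; unfold StabCat.hatSlope
    rw [Groth.Agent.Lib.Lead.HilbPos.alpha_add, Groth.Agent.Lib.Lead.HilbPos.alpha_add]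
  have hslG : StabCat.hatSlope n pG =
      (StabCat.alpha (n - 1) pI + StabCat.alpha (n - 1) pQ) /
        (StabCat.alpha n pI + StabCat.alpha n pQ) := by
    rw [eG]; unfold StabCat.hatSlope
    rw [Groth.Agent.Lib.Lead.HilbPos.alpha_add, Groth.Agent.Lib.Lead.HilbPos.alpha_add]
  have aFeq : StabCat.alpha n pF = StabCat.alpha n pK + StabCat.alpha n pI := by
    rw [eF, Groth.Agent.Lib.Lead.HilbPos.alpha_add]
  have aGeq : StabCat.alpha n pG = StabCat.alpha n pI + StabCat.alpha n pQ := by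
    rw [eG, Groth.Agent.Lib.Lead.HilbPos.alpha_add]
  -- stability of `G` applied to the image
  have stI : 0 < StabCat.alpha n pQ → StabCat.hatSlope n pI < StabCat.hatSlope n pG := fun h =>
    hG.2.2.2.2 (Abelian.image φ) (Abelian.image.ι φ) inferInstance hIc pI pG hpI hpG aI
      (by rw [aGeq]; linarith)
  -- when `alpha n pQ = 0`: `hatSlope pI ≤ hatSlope pG`
  have leI : StabCat.alpha n pQ = 0 → StabCat.hatSlope n pI ≤ StabCat.hatSlope n pG := by
    intro h0
    rw [hslG, h0, add_zero]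
    unfold StabCat.hatSlope
    rw [div_le_div_iff_of_pos_right aI]
    linarith [bQ h0]
  -- Step 1: the kernel vanishes
  have hK0 : IsZero (kernel φ) := by
    by_contra hK0
    have aK : 0 < StabCat.alpha n pK :=
      Groth.Agent.Lib.Lead.HilbPos.alpha_pos_of_mono_pure k X hL hFp (kernel.ι φ) hKc hK0 hpK
    have h1 : StabCat.hatSlope n pK < StabCat.hatSlope n pF :=
      hF.2.2.2.2 (kernel φ) (kernel.ι φ) inferInstance hKc pK pF hpK hpF aK
        (by rw [aFeq]; linarith)
    have h2 : StabCat.hatSlope n pF < StabCat.hatSlope n pI := by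
      rw [hslF] at h1 ⊢
      exact quot_gt aK aI h1
    rcases lt_or_eq_of_le aQ with h | h
    · exact lt_irrefl _ (lt_of_lt_of_le (lt_trans h2 (stI h)) hle)
    · exact lt_irrefl _ (lt_of_lt_of_le (lt_of_lt_of_le h2 (leI h.symm)) hle)
  have epK : pK = 0 := Groth.Agent.Lib.Lead.HilbPos.isHilbPoly_unique k X hpK
    (Groth.Agent.Lib.Lead.HilbPos.isHilbPoly_zero_of_isZero k X hK0)
  have eFI : pF = pI := by rw [eF, epK, zero_add]
  haveI : Mono φ := Groth.Agent.Lib.Lead.HilbPos.mono_of_isZero_kernel φ hK0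
  -- Step 2: `alpha n pQ = 0`
  have aQ0 : StabCat.alpha n pQ = 0 := by
    rcases lt_or_eq_of_le aQ with h | h
    · exfalso
      have := lt_of_lt_of_le (stI h) hle
      rw [eFI] at this
      exact lt_irrefl _ this
    · exact h.symm
  -- Step 3: `alpha (n-1) pQ = 0`
  have bQ0 : StabCat.alpha (n - 1) pQ = 0 := by
    have h1 := hle
    rw [hslG, aQ0, add_zero, eFI] at h1
    unfold StabCat.hatSlope at h1
    rw [div_le_div_iff_of_pos_right aI] at h1
    linarith [bQ aQ0]
  have hQ2 : topologicalKrullDim (CohB1.support (cokernel φ)) < (((n - 1 : ℕ)) : WithBot ℕ∞) :=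
    dim_lt_of_coeff_eq_zero k X hL hQc (n - 1) (hQ1 aQ0) hpQ ((alpha_eq_zero_iff (n - 1) pQ).mp bQ0)
  -- Step 4: Hartogs
  have hcl : IsClosed (CohB1.support (cokernel φ)) :=
    Groth.Agent.Lib.helper8.Dev.isClosed_support_of_isCoh _ hQc
  exact Groth.Agent.Lib.Helper20.SurfKernel.isIso_of_mono_of_support_cokernel
    (fun x => Groth.Agent.Lib.Helper20.SurfKernel.isRegularLocalRing_stalk_of_smooth k X x)
    hFc hFr hGc hGr φ
    (fun x hx => Groth.Agent.Lib.Helper20.DimFormulaInt.two_le_ringKrullDim_stalk_of_dim_lt k X n hX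
      hcl hQ2 x hx)

end Groth.Agent.S18966
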