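import Groth.Statements.S18967
import Groth.Agent.Lib.Lead.HilbPos12
-- import your own Groth.Agent.* helpers here

set_option autoImplicit false
set_option backward.isDefEq.respectTransparency false
open CategoryTheory CategoryTheory.Limits AlgebraicGeometry Polynomial
universe u
open ShStab

namespace Groth.Agent.S18967

/-- Let k be an algebraically closed field of characteristic zero, X a smooth projective integral
variety of dimension n ≥ 1 over k polarised by an ample invertible sheaf L, and 0 → F → H → G → 0 a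
short exact sequence of O_X-modules with F and G torsion-free coherent (pure of dimension n) and
slope-semistable with respect to L of the same slope μ. Then H is slope-semistable of slope μ; in
particular this applies to H = F ⊕ G. Slopes are compared through the quantity α_(n−1)/α_n of the
Hilbert polynomials with respect to L, an increasing affine function of the slope det ·
L^(n−1)/rank. -/
theorem result (k : Type u) [Field k] [IsAlgClosed k] [CharZero k]
    (X : Scheme.{u}) [X.Over (Spec (CommRingCat.of k))] [IsIntegral X]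
    [IsProper (X ↘ Spec (CommRingCat.of k))] [Smooth (X ↘ Spec (CommRingCat.of k))]
    (n : ℕ) (hn : 1 ≤ n) (hX : topologicalKrullDim X = (n : WithBot ℕ∞))
    (L : X.Modules) (hLi : PicF.IsInvertible L) (hL : CohB1.IsAmple L)
    (T : ShortComplex X.Modules) (hT : T.ShortExact)
    (hFt : ShStab.IsPure X T.X₁ n) (hGt : ShStab.IsPure X T.X₃ n)
    (hF : ShStab.IsMuSemistable k X L T.X₁ n) (hG : ShStab.IsMuSemistable k X L T.X₃ n)
    (pF pG : ℚ[X]) (hpF : ShStab.IsHilbPoly k X L T.X₁ pF) (hpG : ShStab.IsHilbPoly k X L T.X₃ pG)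
    (hμ : StabCat.hatSlope n pF = StabCat.hatSlope n pG) :
    ShStab.IsMuSemistable k X L T.X₂ n ∧
      ∀ pH : ℚ[X], ShStab.IsHilbPoly k X L T.X₂ pH → StabCat.hatSlope n pH = StabCat.hatSlope n pF := by
  haveI := Groth.Agent.Lib.Lead.CurveEuler.isNoetherian k X
  have h₁ := hF.1
  have h₃ := hG.1
  have h₂ : Coh.IsCoh T.X₂ := Groth.Agent.Lib.Lead.HilbPos.isCoh_of_extension T hT h₁ h₃
  haveI := hT.mono_f
  have aF : 0 < StabCat.alpha n pF := Groth.Agent.Lib.Lead.HilbPos.alpha_pos_of_mono_pure k X hL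
    hFt (𝟙 T.X₁) h₁ hF.2.1 hpF
  have aG : 0 < StabCat.alpha n pG := Groth.Agent.Lib.Lead.HilbPos.alpha_pos_of_mono_pure k X hL
    hGt (𝟙 T.X₃) h₃ hG.2.1 hpG
  have hpH : ShStab.IsHilbPoly k X L T.X₂ (pF + pG) :=
    Groth.Agent.Lib.Lead.HilbPos.isHilbPoly_add k X hL.1 T hT h₁ h₃ hpF hpG
  have hsl : StabCat.hatSlope n (pF + pG) = StabCat.hatSlope n pF :=
    Groth.Agent.Lib.Lead.HilbPos.hatSlope_add_eq aF aG rfl hμ.symm
  have hpure : ShStab.IsPure X T.X₂ n :=
    Groth.Agent.Lib.Lead.HilbPos.isPure_of_extension k X hX.le T hT h₁ h₃ hFt hGt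
  have h0 : ¬ IsZero T.X₂ := fun hz => hF.2.1 (IsZero.of_mono T.f hz)
  have hdim : topologicalKrullDim (CohB1.support T.X₂) = ((n : ℕ) : WithBot ℕ∞) :=
    Groth.Agent.Lib.Lead.HilbPos.dim_support_of_isPure hpure (𝟙 T.X₂) h₂ h0
  refine ⟨⟨h₂, h0, hdim, ?_, ?_⟩, ?_⟩
  · intro S σ hσ hS
    haveI := hσ
    by_cases hS0 : IsZero S
    · rw [Groth.Agent.Lib.Lead.HilbPos.support_eq_empty_of_isZero hS0]
      have h1 : topologicalKrullDim (∅ : Set X) = ⊥ := by
        unfold topologicalKrullDim
        rw [Order.krullDim_eq_bot_iff]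
        refine ⟨fun z => ?_⟩
        obtain ⟨x, hx⟩ := z.2.nonempty
        exact x.2.elim
      rw [h1, WithBot.bot_add]
      exact WithBot.bot_ne_coe
    · rw [Groth.Agent.Lib.Lead.HilbPos.dim_support_of_isPure hpure σ hS hS0]
      intro h
      exact Groth.Agent.Lib.helper8.DimLt.not_add_one_le n h.le
  · intro S σ hσ hS pS pH hpS hpH' a1 _
    haveI := hσ
    have hpHeq : pH = pF + pG := Groth.Agent.Lib.Lead.HilbPos.isHilbPoly_unique k X hpH' hpH
    rw [hpHeq, hsl]
    exact Groth.Agent.Lib.Lead.HilbPos.hatSlope_le_of_mono_extension k X hL hn T hT h₁ h₃ hFt hGt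
      hF.2.2.2.2 hG.2.2.2.2 hpF hpG le_rfl hμ.ge σ hS hpS a1
  · intro pH hpH'
    have hpHeq : pH = pF + pG := Groth.Agent.Lib.Lead.HilbPos.isHilbPoly_unique k X hpH' hpH
    rw [hpHeq, hsl]

end Groth.Agent.S18967
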