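import Groth.Statements.S18968
import Groth.Agent.Lib.Lead.TorsPure
import Groth.Agent.Lib.Lead.HilbPos12
import Groth.Agent.Lib.Lead.HilbPos9
-- import your own Groth.Agent.* helpers here

set_option autoImplicit false
set_option backward.isDefEq.respectTransparency false
open CategoryTheory CategoryTheory.Limits AlgebraicGeometry Polynomial
universe u
open ShStab

namespace Groth.Agent.S18968


open Groth.Agent.Lib.Lead.HilbPos StabCat in
/-- strict weighted-average inequality for `hatSlope` -/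
theorem hatSlope_add_lt {d : ℕ} {P Q : ℚ[X]} {μ : ℚ} (aP : 0 < StabCat.alpha d P)
    (aQ : 0 < StabCat.alpha d Q) (hP : StabCat.hatSlope d P < μ) (hQ : StabCat.hatSlope d Q < μ) :
    StabCat.hatSlope d (P + Q) < μ := by
  unfold StabCat.hatSlope at hP hQ ⊢
  rw [alpha_add, alpha_add]
  rw [div_lt_iff₀ aP] at hP
  rw [div_lt_iff₀ aQ] at hQ
  rw [div_lt_iff₀ (add_pos aP aQ)]
  nlinarith

/-- a nonzero endomorphism of a slope-stable torsion-free module is an isomorphism -/
theorem isIso_of_ne_zero (k : Type u) [Field k]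
    (X : Scheme.{u}) [X.Over (Spec (CommRingCat.of k))] [IsIntegral X]
    [IsProper (X ↘ Spec (CommRingCat.of k))]
    (n : ℕ) (hX : topologicalKrullDim X = (n : WithBot ℕ∞))
    (L : X.Modules) (hL : CohB1.IsAmple L)
    (F : X.Modules) (hFt : TorSh.IsTorsionFree F) (hF : ShStab.IsMuStable k X L F n)
    (ψ : F ⟶ F) (hψ : ψ ≠ 0) : IsIso ψ := by
  haveI := Groth.Agent.Lib.Lead.CurveEuler.isNoetherian k X
  have hFc : Coh.IsCoh F := hF.1
  haveI : F.IsQuasicoherent := hFc.1
  have hpure : ShStab.IsPure X F n :=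
    Groth.Agent.Lib.Lead.TorsPure.isPure_of_isTorsionFree n hX F hFt
  have hKc : Coh.IsCoh (kernel ψ) := Groth.Agent.Lib.Lead.HilbPos.isCoh_kernel k X hFc hFc ψ
  have hIc : Coh.IsCoh (Abelian.image ψ) := Groth.Agent.Lib.Lead.HilbPos.isCoh_image k X hFc hFc ψ
  obtain ⟨pF, hpF⟩ := Groth.Agent.Lib.Lead.HilbPos.exists_isHilbPoly_of_mono_pure k X hL.1 hpure
    (𝟙 F) hFc
  obtain ⟨pK, hpK⟩ := Groth.Agent.Lib.Lead.HilbPos.exists_isHilbPoly_of_mono_pure k X hL.1 hpure
    (kernel.ι ψ) hKc
  obtain ⟨pI, hpI⟩ := Groth.Agent.Lib.Lead.HilbPos.exists_isHilbPoly_of_mono_pure k X hL.1 hpure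
    (Abelian.image.ι ψ) hIc
  have hT := Groth.Agent.Lib.Lead.HilbPos.shortExact_kernel_image ψ
  have hsum : ShStab.IsHilbPoly k X L F (pK + pI) :=
    Groth.Agent.Lib.Lead.HilbPos.isHilbPoly_add k X hL.1 _ hT hKc hIc hpK hpI
  have hpFeq : pF = pK + pI := Groth.Agent.Lib.Lead.HilbPos.isHilbPoly_unique k X hpF hsum
  have hI0 : ¬ IsZero (Abelian.image ψ) := Groth.Agent.Lib.Lead.HilbPos.not_isZero_image ψ hψ
  have aI : 0 < StabCat.alpha n pI :=
    Groth.Agent.Lib.Lead.HilbPos.alpha_pos_of_mono_pure k X hL hpure (Abelian.image.ι ψ) hIc hI0 hpI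
  have hK0 : IsZero (kernel ψ) := by
    by_contra hK0
    have aK : 0 < StabCat.alpha n pK :=
      Groth.Agent.Lib.Lead.HilbPos.alpha_pos_of_mono_pure k X hL hpure (kernel.ι ψ) hKc hK0 hpK
    have aF : StabCat.alpha n pF = StabCat.alpha n pK + StabCat.alpha n pI := by
      rw [hpFeq, Groth.Agent.Lib.Lead.HilbPos.alpha_add]
    have h1 : StabCat.hatSlope n pK < StabCat.hatSlope n pF :=
      hF.2.2.2.2 (kernel ψ) (kernel.ι ψ) inferInstance hKc pK pF hpK hpF aK (by rw [aF]; linarith)
    have h2 : StabCat.hatSlope n pI < StabCat.hatSlope n pF :=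
      hF.2.2.2.2 (Abelian.image ψ) (Abelian.image.ι ψ) inferInstance hIc pI pF hpI hpF aI
        (by rw [aF]; linarith)
    have h3 := hatSlope_add_lt aK aI h1 h2
    rw [← hpFeq] at h3
    exact lt_irrefl _ h3
  haveI : Mono ψ := Groth.Agent.Lib.Lead.HilbPos.mono_of_isZero_kernel ψ hK0
  exact Groth.Agent.Lib.Lead.HilbPos.isIso_of_mono_of_isHilbPoly_eq k X hL hFc hFc n hF.2.2.1.le
    hpF hpF ψ


/-- Let k be an algebraically closed field of characteristic zero, X a smooth projective integral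
variety of dimension n ≥ 1 over k polarised by an ample invertible sheaf L, and F a locally free or,
more generally, reflexive coherent O_X-module which is slope-stable with respect to L. Then End(F)
consists of the homotheties: for every endomorphism φ of F there is c ∈ k with φ(s) = c·s for every
local section s of F. Slope stability is tested through the quantity α_(n−1)/α_n of Hilbert
polynomials with respect to L. -/
theorem result (k : Type u) [Field k] [IsAlgClosed k] [CharZero k]
    (X : Scheme.{u}) [X.Over (Spec (CommRingCat.of k))] [IsIntegral X]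
    [IsProper (X ↘ Spec (CommRingCat.of k))] [Smooth (X ↘ Spec (CommRingCat.of k))]
    (n : ℕ) (hn : 1 ≤ n) (hX : topologicalKrullDim X = (n : WithBot ℕ∞))
    (L : X.Modules) (hLi : PicF.IsInvertible L) (hL : CohB1.IsAmple L)
    (F : X.Modules) (hFr : RefHull.IsReflexive F) (hF : ShStab.IsMuStable k X L F n) (φ : F ⟶ F) :
    ∃ c : k, ∀ (V : X.Opens) (s : F.val.obj (Opposite.op V)),
        (φ.val.app (Opposite.op V)) s =
          (X.ringCatSheaf.obj.map (homOfLE (le_top : V ≤ ⊤)).op
            (Coh.toGlobal (X ↘ Spec (CommRingCat.of k)) c : X.ringCatSheaf.obj.obj (Opposite.op ⊤))) • s := by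
  haveI : LocallyOfFiniteType (X ↘ Spec (CommRingCat.of k)) := inferInstance
  have hFt : TorSh.IsTorsionFree F := Groth.Agent.Lib.Lead.TorsPure.isTorsionFree_of_isReflexive F hFr
  obtain ⟨c, hc⟩ := Groth.Agent.Lib.Lead.HilbPos.exists_eq_smulMod_of_forall_isIso k X hF.1 hF.2.1
    (fun ψ hψ => isIso_of_ne_zero k X n hX L hL F hFt hF ψ hψ) φ
  refine ⟨c, fun V s => ?_⟩
  rw [hc]
  rfl

end Groth.Agent.S18968
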