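import Groth.Statements.S18974
import Mathlib

set_option autoImplicit false
universe u
open CAlg

namespace Groth.Agent.S18974

section helpers
open Polynomial

variable {A : Type u} [CommRing A] [Algebra ℚ A] (D : Derivation ℚ A A)

/-- iterate -/
def Dn (n : ℕ) (x : A) : A := ((D : A →ₗ[ℚ] A) ^ n) x

lemma Dn_zero (x : A) : Dn D 0 x = x := by simp [Dn]
lemma Dn_succ (n : ℕ) (x : A) : Dn D (n + 1) x = D (Dn D n x) := by
  simp only [Dn, pow_succ', Module.End.mul_apply]; rfl
lemma Dn_succ' (n : ℕ) (x : A) : Dn D (n + 1) x = Dn D n (D x) := by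
  simp only [Dn, pow_succ, Module.End.mul_apply]; rfl
lemma Dn_add (m n : ℕ) (x : A) : Dn D (m + n) x = Dn D m (Dn D n x) := by
  simp only [Dn, pow_add, Module.End.mul_apply]
lemma Dn_map_add (n : ℕ) (x y : A) : Dn D n (x + y) = Dn D n x + Dn D n y := by simp [Dn]
lemma Dn_map_zero (n : ℕ) : Dn D n (0 : A) = 0 := by simp [Dn]
lemma Dn_smul (n : ℕ) (c : ℚ) (x : A) : Dn D n (c • x) = c • Dn D n x := by simp [Dn]

lemma Dn_eq_zero_of_le {x : A} {N n : ℕ} (h : Dn D N x = 0) (hn : N ≤ n) : Dn D n x = 0 := by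
  obtain ⟨k, rfl⟩ := Nat.exists_eq_add_of_le hn
  rw [add_comm, Dn_add, h, Dn_map_zero]

lemma Dn_mul (n : ℕ) (x y : A) :
    Dn D n (x * y) = ∑ ij ∈ Finset.HasAntidiagonal.antidiagonal n, (n.choose ij.1 : A) * (Dn D ij.1 x * Dn D ij.2 y) := by
  induction n with
  | zero => simp [Dn_zero]
  | succ n ih =>
    rw [Dn_succ, ih, map_sum, Finset.sum_antidiagonal_choose_succ_mul (fun i j => Dn D i x * Dn D j y) n,
      ← Finset.sum_add_distrib]
    apply Finset.sum_congr rfl
    intro ij hij
    have hsymm : n.choose ij.2 = n.choose ij.1 := by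
      rw [Finset.HasAntidiagonal.mem_antidiagonal] at hij
      rw [← hij, Nat.add_comm, Nat.choose_symm_add]
    rw [hsymm, Derivation.leibniz, Derivation.leibniz, Dn_succ, Dn_succ]
    have hc : D ((n.choose ij.1 : A)) = 0 := by
      have : ((n.choose ij.1 : ℕ) : A) = algebraMap ℚ A (n.choose ij.1 : ℚ) := by simp
      rw [this, Derivation.map_algebraMap]
    rw [hc]
    simp only [smul_eq_mul, mul_zero, add_zero]
    ring


noncomputable def cn (A : Type u) [CommRing A] [Algebra ℚ A] (n : ℕ) : A :=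
  algebraMap ℚ A ((n.factorial : ℚ)⁻¹)

lemma cn_mul_factorial (n : ℕ) : cn A n * (n.factorial : A) = 1 := by
  have h : ((n.factorial : ℕ) : A) = algebraMap ℚ A (n.factorial : ℚ) := by simp
  rw [cn, h, ← map_mul, inv_mul_cancel₀ (by exact_mod_cast n.factorial_ne_zero), map_one]

lemma cn_zero : cn A 0 = 1 := by simp [cn]

lemma choose_mul_cn (i j : ℕ) : ((i + j).choose i : A) * cn A (i + j) = cn A i * cn A j := by
  have h : (((i + j).choose i : ℕ) : A) = algebraMap ℚ A ((i + j).choose i : ℚ) := by simp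
  rw [cn, cn, cn, h, ← map_mul, ← map_mul]
  congr 1
  have h1 : ((i + j).factorial : ℚ) ≠ 0 := by exact_mod_cast (i + j).factorial_ne_zero
  have h2 : (i.factorial : ℚ) ≠ 0 := by exact_mod_cast i.factorial_ne_zero
  have h3 : (j.factorial : ℚ) ≠ 0 := by exact_mod_cast j.factorial_ne_zero
  have h4 : ((i + j).choose i : ℚ) * i.factorial * j.factorial = (i + j).factorial := by
    rw [Nat.choose_symm_add]
    exact_mod_cast Nat.add_choose_mul_factorial_mul_factorial i j
  field_simp
  linear_combination h4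

lemma succ_mul_cn (n : ℕ) : ((n + 1 : ℕ) : A) * cn A (n + 1) = cn A n := by
  have h : ((n + 1 : ℕ) : A) = algebraMap ℚ A ((n + 1 : ℕ) : ℚ) := by simp
  rw [cn, cn, h, ← map_mul]
  congr 1
  rw [Nat.factorial_succ]
  have h2 : (n.factorial : ℚ) ≠ 0 := by exact_mod_cast n.factorial_ne_zero
  have h3 : ((n + 1 : ℕ) : ℚ) ≠ 0 := by exact_mod_cast (Nat.succ_ne_zero n)
  push_cast
  field_simp

noncomputable def En (n : ℕ) (x : A) : A := cn A n * Dn D n x

lemma En_zero (x : A) : En D 0 x = x := by rw [En, cn_zero, one_mul, Dn_zero]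

lemma En_mul (n : ℕ) (x y : A) :
    En D n (x * y) = ∑ ij ∈ Finset.HasAntidiagonal.antidiagonal n, En D ij.1 x * En D ij.2 y := by
  rw [En, Dn_mul, Finset.mul_sum]
  apply Finset.sum_congr rfl
  intro ij hij
  rw [Finset.HasAntidiagonal.mem_antidiagonal] at hij
  subst hij
  rw [En, En, ← mul_assoc, mul_comm (cn A _), choose_mul_cn]
  ring

variable (hnil : ∀ x : A, ∃ n : ℕ, Dn D n x = 0)

open Classical in
noncomputable def Phi0 (x : A) : A[X] :=
  ∑ n ∈ Finset.range (Nat.find (hnil x)), monomial n (En D n x)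

open Classical in
include hnil in
lemma coeff_Phi0 (x : A) (n : ℕ) : (Phi0 D hnil x).coeff n = En D n x := by
  rw [Phi0, finsetSum_coeff]
  simp only [coeff_monomial]
  rw [Finset.sum_ite_eq' (Finset.range (Nat.find (hnil x))) n]
  split_ifs with h
  · rfl
  · rw [Finset.mem_range, not_lt] at h
    rw [En, Dn_eq_zero_of_le D (Nat.find_spec (hnil x)) h, mul_zero]

lemma Dn_one (n : ℕ) : Dn D (n + 1) (1 : A) = 0 := by
  rw [Dn_succ', Derivation.map_one_eq_zero, Dn_map_zero]

noncomputable def Phi : A →+* A[X] where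
  toFun := Phi0 D hnil
  map_one' := by
    ext n
    rw [coeff_Phi0, coeff_one]
    rcases n with _ | n
    · simp [En_zero]
    · rw [En, Dn_one, mul_zero, if_neg (Nat.succ_ne_zero n)]
  map_mul' := by
    intro x y
    ext n
    rw [coeff_Phi0, coeff_mul, En_mul]
    apply Finset.sum_congr rfl
    intro ij _
    rw [coeff_Phi0, coeff_Phi0]
  map_zero' := by
    ext n
    rw [coeff_Phi0, En, Dn_map_zero, mul_zero, coeff_zero]
  map_add' := by
    intro x y
    ext n
    rw [coeff_add, coeff_Phi0, coeff_Phi0, coeff_Phi0, En, En, En, Dn_map_add, mul_add]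

lemma coeff_Phi (x : A) (n : ℕ) : (Phi D hnil x).coeff n = En D n x := coeff_Phi0 D hnil x n


lemma Dn_algebraMap_mul (n : ℕ) (q : ℚ) (x : A) :
    Dn D n (algebraMap ℚ A q * x) = algebraMap ℚ A q * Dn D n x := by
  rw [← Algebra.smul_def, Dn_smul, Algebra.smul_def]

lemma D_algebraMap_mul (q : ℚ) (x : A) : D (algebraMap ℚ A q * x) = algebraMap ℚ A q * D x := by
  rw [← Algebra.smul_def, Derivation.map_smul, Algebra.smul_def]

lemma En_En (m n : ℕ) (x : A) : En D m (En D n x) = ((m + n).choose n : A) * En D (m + n) x := by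
  have h1 : Dn D m (cn A n * Dn D n x) = cn A n * Dn D (m + n) x := by
    unfold cn
    rw [Dn_algebraMap_mul, ← Dn_add]
  have h2 := choose_mul_cn (A := A) m n
  rw [Nat.choose_symm_add] at h2
  rw [En, En, En, h1]
  linear_combination (-Dn D (m + n) x) * h2

lemma En_D (m : ℕ) (x : A) : En D m (D x) = En D (m + 1) x * ((m + 1 : ℕ) : A) := by
  rw [En, En, ← Dn_succ', ← succ_mul_cn m]
  ring

lemma D_En (m : ℕ) (x : A) : D (En D m x) = En D m (D x) := by
  rw [En, En]
  unfold cn
  rw [D_algebraMap_mul, ← Dn_succ, ← Dn_succ']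

lemma Phi_En (n : ℕ) (x : A) : Phi D hnil (En D n x) = hasseDeriv n (Phi D hnil x) := by
  ext m
  rw [coeff_Phi, hasseDeriv_coeff, coeff_Phi, En_En]

lemma Phi_D (x : A) : Phi D hnil (D x) = derivative (Phi D hnil x) := by
  ext m
  rw [coeff_Phi, coeff_derivative, coeff_Phi, En_D]
  push_cast
  ring

noncomputable def eps (a : A) : A →+* A := (evalRingHom (-a)).comp (Phi D hnil)

lemma eps_apply (a x : A) : eps D hnil a x = eval (-a) (Phi D hnil x) := rfl

lemma Phi_a (a : A) (ha : D a = 1) : Phi D hnil a = C a + X := by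
  ext n
  rw [coeff_Phi, coeff_add, coeff_C, coeff_X]
  rcases n with _ | _ | n
  · simp [En_zero]
  · simp [En, Dn_succ', Dn_zero, ha, cn]
  · rw [En, Dn_succ', ha, Dn_one, mul_zero]
    simp

lemma eps_a (a : A) (ha : D a = 1) : eps D hnil a a = 0 := by
  rw [eps_apply, Phi_a D hnil a ha]
  simp

/-- Taylor -/
lemma taylor_formula (a x : A) :
    eval₂ (eps D hnil a) a (Phi D hnil x) = x := by
  set P := Phi D hnil x with hP
  have h1 : ∀ n, eps D hnil a (P.coeff n) = (taylor (-a) P).coeff n := by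
    intro n
    rw [hP, coeff_Phi, eps_apply, Phi_En, taylor_coeff]
  rw [eval₂_eq_sum_range]
  simp only [h1]
  have h2 : (taylor (-a) P).natDegree = P.natDegree := natDegree_taylor P (-a)
  rw [← h2, ← eval_eq_sum_range, taylor_eval, add_neg_cancel, ← coeff_zero_eq_eval_zero, hP, coeff_Phi,
    En_zero]

/-- D (eps x) = 0 -/
lemma D_eval_Phi (r x : A) :
    D (eval r (Phi D hnil x)) =
      eval r (derivative (Phi D hnil x)) + eval r (derivative (Phi D hnil x)) * D r := by
  set P := Phi D hnil x with hP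
  set N := P.natDegree + 1 with hN
  have hdeg' : (derivative P).natDegree < N := by
    have := natDegree_derivative_le P
    omega
  have hdeg : P.natDegree < N + 1 := by omega
  rw [eval_eq_sum_range' hdeg, map_sum]
  have h1 : ∀ n ∈ Finset.range (N + 1), D (P.coeff n * r ^ n) =
      (derivative P).coeff n * r ^ n + (P.coeff n * (n : A) * r ^ (n - 1)) * D r := by
    intro n _
    rw [Derivation.leibniz, Derivation.leibniz_pow, hP, coeff_Phi, D_En, ← coeff_Phi D hnil (D x) n,
      Phi_D]
    simp only [smul_eq_mul, nsmul_eq_mul]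
    ring
  rw [Finset.sum_congr rfl h1, Finset.sum_add_distrib, ← Finset.sum_mul]
  congr 1
  · rw [eval_eq_sum_range' (lt_trans hdeg' (Nat.lt_succ_self N))]
  · congr 1
    rw [Finset.sum_range_succ', eval_eq_sum_range' hdeg']
    simp only [Nat.cast_zero, mul_zero, zero_mul, add_zero]
    apply Finset.sum_congr rfl
    intro n _
    rw [coeff_derivative]
    simp only [Nat.add_sub_cancel]
    push_cast
    ring

lemma D_eps (a x : A) (ha : D a = 1) : D (eps D hnil a x) = 0 := by
  rw [eps_apply, D_eval_Phi, map_neg, ha]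
  ring

lemma eps_sub_mem (a x : A) : eps D hnil a x - x ∈ Ideal.span ({a} : Set A) := by
  rw [eps_apply]
  have h := divX_mul_X_add (Phi D hnil x)
  have h2 : eval (-a) (Phi D hnil x) = eval (-a) (divX (Phi D hnil x)) * (-a) + x := by
    conv_lhs => rw [← h]
    rw [eval_add, eval_mul, eval_X, eval_C, coeff_Phi, En_zero]
  rw [h2, add_sub_cancel_right, Ideal.mem_span_singleton']
  exact ⟨-eval (-a) (divX (Phi D hnil x)), by ring⟩


lemma Phi_eq_sum (x : A) (N : ℕ) (h : Dn D N x = 0) :
    Phi D hnil x = ∑ n ∈ Finset.range N, monomial n (En D n x) := by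
  ext m
  rw [coeff_Phi, finsetSum_coeff]
  simp only [coeff_monomial]
  rw [Finset.sum_ite_eq' (Finset.range N) m]
  split_ifs with hm
  · rfl
  · rw [Finset.mem_range, not_lt] at hm
    rw [En, Dn_eq_zero_of_le D h hm, mul_zero]


end helpers

/-- Let A be a commutative algebra over the rationals, D a locally nilpotent derivation of A and a an
element with D a = 1; write A' for the quotient of A by the ideal generated by a. Then there is a
ring isomorphism from A onto the polynomial ring A'[Y] which sends every x to the (finite) sum over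
n of (1/n!) (class of D^n x) Y^n; its inverse sends Y to a and the constant polynomial on the class
of x to the sum over n of ((-1)^n/n!) (D^n x) a^n, and under it D corresponds to the derivative
d/dY. (The source says only that A is a ring, in a setting over a field of characteristic zero; the
rational coefficients 1/n! require an algebra over the rationals, which is the hypothesis taken
here. Both sums are written over any range beyond which the iterates of D vanish at x.) -/
theorem result
    (A : Type u) [CommRing A] [Algebra ℚ A] (D : Derivation ℚ A A)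
    (hnil : ∀ x : A, ∃ n : ℕ, ((D : A →ₗ[ℚ] A) ^ n) x = 0) (a : A) (ha : D a = 1) :
    ∃ χ : A ≃+* Polynomial (A ⧸ Ideal.span ({a} : Set A)),
      (∀ (x : A) (N : ℕ), ((D : A →ₗ[ℚ] A) ^ N) x = 0 →
        χ x = ∑ n ∈ Finset.range N,
          ((n.factorial : ℚ)⁻¹ • Polynomial.C (Ideal.Quotient.mk (Ideal.span ({a} : Set A)) (((D : A →ₗ[ℚ] A) ^ n) x))) *
            Polynomial.X ^ n) ∧
      χ.symm Polynomial.X = a ∧
      (∀ (x : A) (N : ℕ), ((D : A →ₗ[ℚ] A) ^ N) x = 0 →
        χ.symm (Polynomial.C (Ideal.Quotient.mk (Ideal.span ({a} : Set A)) x)) =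
          ∑ n ∈ Finset.range N, (((-1 : ℚ) ^ n * (n.factorial : ℚ)⁻¹) • ((((D : A →ₗ[ℚ] A) ^ n) x) * a ^ n))) ∧
      ∀ p : Polynomial (A ⧸ Ideal.span ({a} : Set A)), χ (D (χ.symm p)) = Polynomial.derivative p := by
  open Polynomial in
  have hnil' : ∀ x, ∃ n, Dn D n x = 0 := hnil
  obtain ⟨I, hI⟩ : ∃ I : Ideal A, I = Ideal.span ({a} : Set A) := ⟨_, rfl⟩
  rw [← hI]
  let ε := eps D hnil' a
  have hεI : ∀ x ∈ I, ε x = 0 := by
    intro x hx
    rw [hI, Ideal.mem_span_singleton'] at hx
    obtain ⟨y, rfl⟩ := hx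
    rw [map_mul, eps_a D hnil' a ha, mul_zero]
  let εbar : A ⧸ I →+* A := Ideal.Quotient.lift I ε hεI
  have hεbar : ∀ x, εbar (Ideal.Quotient.mk I x) = ε x := fun x => Ideal.Quotient.lift_mk I ε hεI
  let ψ : (A ⧸ I)[X] →+* A := eval₂RingHom εbar a
  let φ : A →+* (A ⧸ I)[X] := (mapRingHom (Ideal.Quotient.mk I)).comp (Phi D hnil')
  have hφval : ∀ x, φ x = map (Ideal.Quotient.mk I) (Phi D hnil' x) := fun x => rfl
  have hψval : ∀ p, ψ p = eval₂ εbar a p := fun p => rfl
  have hψφ : ∀ x, ψ (φ x) = x := by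
    intro x
    rw [hφval, hψval, eval₂_map]
    have h1 : εbar.comp (Ideal.Quotient.mk I) = ε := by
      ext y; exact hεbar y
    rw [h1]
    exact taylor_formula D hnil' a x
  have hφε : ∀ x, φ (ε x) = C (Ideal.Quotient.mk I x) := by
    intro x
    ext n
    rw [hφval, coeff_map, coeff_Phi, coeff_C]
    rcases n with _ | n
    · rw [En_zero, if_pos rfl]
      apply Ideal.Quotient.eq.mpr
      rw [hI]
      exact eps_sub_mem D hnil' a x
    · rw [if_neg (Nat.succ_ne_zero n), En, Dn_succ']
      have h0 : D (ε x) = 0 := D_eps D hnil' a x ha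
      rw [h0, Dn_map_zero, mul_zero, map_zero]
  have hmka : Ideal.Quotient.mk I a = 0 := by
    rw [Ideal.Quotient.eq_zero_iff_mem, hI]
    exact Ideal.mem_span_singleton_self a
  have hφψ : ∀ p, φ (ψ p) = p := by
    intro p
    have h1 : φ.comp ψ = RingHom.id _ := by
      apply Polynomial.ringHom_ext
      · intro y
        obtain ⟨x, rfl⟩ := Ideal.Quotient.mk_surjective y
        rw [RingHom.comp_apply, hψval, eval₂_C, hεbar, hφε]
        rfl
      · rw [RingHom.comp_apply, hψval, eval₂_X, hφval, Phi_a D hnil' a ha, Polynomial.map_add,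
          map_C, map_X, hmka, C_0, zero_add]
        rfl
    exact RingHom.congr_fun h1 p
  let χ : A ≃+* (A ⧸ I)[X] := RingEquiv.ofRingHom φ ψ
    (RingHom.ext fun p => hφψ p) (RingHom.ext fun x => hψφ x)
  have hχ : ∀ x, χ x = φ x := fun x => rfl
  have hχs : ∀ p, χ.symm p = ψ p := fun p => rfl
  have hmk_smul : ∀ (q : ℚ) (y : A), Ideal.Quotient.mk I (algebraMap ℚ A q * y) =
      q • Ideal.Quotient.mk I y := by
    intro q y
    rw [← Algebra.smul_def]
    exact map_smul (Ideal.Quotient.mkₐ ℚ I) q y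
  refine ⟨χ, ?_, ?_, ?_, ?_⟩
  · intro x N hN
    rw [hχ, hφval, Phi_eq_sum D hnil' x N hN, Polynomial.map_sum]
    apply Finset.sum_congr rfl
    intro n _
    rw [map_monomial, ← C_mul_X_pow_eq_monomial, En]
    unfold cn
    rw [hmk_smul, smul_C]
    rfl
  · rw [hχs, hψval, eval₂_X]
  · intro x N hN
    rw [hχs, hψval, eval₂_C, hεbar]
    change eval (-a) (Phi D hnil' x) = _
    rw [Phi_eq_sum D hnil' x N hN, eval_finsetSum]
    apply Finset.sum_congr rfl
    intro n _
    rw [eval_monomial, En]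
    unfold cn
    rw [Algebra.smul_def, map_mul, map_pow, map_neg, map_one]
    change _ = _ * (Dn D n x * a ^ n)
    rw [neg_pow a n]
    ring
  · intro p
    rw [hχ, hχs, hφval, Phi_D, ← Polynomial.derivative_map, ← hφval, hφψ]


end Groth.Agent.S18974
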