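import Groth.Statements.S18981
import Groth.Agent.Lib.Helper14.OrbitInv1

set_option autoImplicit false
universe u
open CategoryTheory MonoidalCategory CartesianMonoidalCategory MonObj AlgebraicGeometry Topology
open NRQuot

namespace Groth.Agent.S18981

/-- Over an algebraically closed field k of characteristic zero, let G be an affine group scheme of
finite type over k acting on a k-scheme X locally of finite type, and let φ : X → Y be a good
quotient (affine and invariant, functions on every open of Y are exactly the invariant functions on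
its preimage, invariant closed subsets have closed images, images commute with intersections of
families of invariant closed subsets). If the orbit of every k-point of X is closed in X, then φ is
a geometric quotient; this row states the one clause that a good quotient lacks: fibres are orbits,
read on k-points — two k-points of X with the same image in Y are translates of each other by a
k-point of G. (Surjectivity and submersiveness of a good quotient are the content of the companion
statement on good quotients; X locally of finite type is what the argument on closed points uses.) -/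
theorem result
    (k : Type u) [Field k] [IsAlgClosed k] [CharZero k]
    (G X Y : Over (Spec (CommRingCat.of k))) [GrpObj G] [IsAffine G.left] [LocallyOfFiniteType G.hom]
    [LocallyOfFiniteType X.hom]
    (a : AlgGrp.Action G X) (φ : X ⟶ Y) (h : NRQuot.IsGoodQuot a φ)
    (hcl : ∀ x : 𝟙_ (Over (Spec (CommRingCat.of k))) ⟶ X, IsClosed (Set.range (a.orbitMap x).left.base))
    (x₁ x₂ : 𝟙_ (Over (Spec (CommRingCat.of k))) ⟶ X) (hφ : x₁ ≫ φ = x₂ ≫ φ) :
    ∃ g : 𝟙_ (Over (Spec (CommRingCat.of k))) ⟶ G, lift g x₁ ≫ a.act = x₂ := by
  classical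
  have hne := (Groth.Agent.Lib.Helper14.OrbitInv.goodQuot_orbit_closures k G X Y a φ h x₁ x₂).mpr hφ
  rw [(hcl x₁).closure_eq, (hcl x₂).closure_eq] at hne
  haveI : JacobsonSpace ↥X.left := LocallyOfFiniteType.jacobsonSpace X.hom
  haveI : JacobsonSpace ↥G.left := LocallyOfFiniteType.jacobsonSpace G.hom
  obtain ⟨z, hzF, hz⟩ := nonempty_inter_closedPoints (X := ↥X.left) hne
    ((hcl x₁).inter (hcl x₂)).isLocallyClosed
  have hz' : IsClosed ({z} : Set ↥X.left) := hz
  let pt : (𝟙_ (Over (Spec (CommRingCat.of k)))).left := IsLocalRing.closedPoint k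
  -- k-points of G in the fibres of the orbit maps over z
  have key : ∀ x : 𝟙_ (Over (Spec (CommRingCat.of k))) ⟶ X,
      z ∈ Set.range (a.orbitMap x).left.base →
      ∃ gam : 𝟙_ (Over (Spec (CommRingCat.of k))) ⟶ G, (lift gam x ≫ a.act).left pt = z := by
    intro x hx
    have hFc : IsClosed ((a.orbitMap x).left.base ⁻¹' {z}) :=
      hz'.preimage (a.orbitMap x).left.continuous
    have hFne : ((a.orbitMap x).left.base ⁻¹' {z}).Nonempty := by
      obtain ⟨g, hg⟩ := hx
      exact ⟨g, hg⟩
    obtain ⟨g, hgF, hg⟩ := nonempty_inter_closedPoints (X := ↥G.left) hFne hFc.isLocallyClosed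
    have hg' : IsClosed ({g} : Set ↥G.left) := hg
    let gam : 𝟙_ (Over (Spec (CommRingCat.of k))) ⟶ G :=
      Over.homMk (pointOfClosedPoint G.hom g hg') (pointOfClosedPoint_comp G.hom g hg')
    refine ⟨gam, ?_⟩
    have h1 : gam ≫ a.orbitMap x = lift gam x ≫ a.act := by
      rw [AlgGrp.Action.comp_orbitMap, toUnit_unique (toUnit (𝟙_ (Over (Spec (CommRingCat.of k)))))
        (𝟙 _), Category.id_comp]
    rw [← h1, ← Groth.Agent.Lib.Helper14.OrbitInv.left_apply_comp]
    have h2 : gam.left pt = g := pointOfClosedPoint_apply G.hom g hg' pt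
    rw [h2]
    exact hgF
  obtain ⟨gam1, hgam1⟩ := key x₁ hzF.1
  obtain ⟨gam2, hgam2⟩ := key x₂ hzF.2
  -- the two k-points of X agree
  have heq : lift gam1 x₁ ≫ a.act = lift gam2 x₂ ≫ a.act := by
    apply Over.OverMorphism.ext
    exact Groth.Agent.Lib.Helper14.OrbitInv.section_ext X.hom _ _
      (Over.w (lift gam1 x₁ ≫ a.act)) (Over.w (lift gam2 x₂ ≫ a.act)) (hgam1.trans hgam2.symm)
  refine ⟨gam2⁻¹ * gam1, ?_⟩
  rw [AlgGrp.Action.lift_mul_act, heq, ← AlgGrp.Action.lift_mul_act, inv_mul_cancel,
    AlgGrp.Action.lift_one_act]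

end Groth.Agent.S18981
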