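import Groth.Statements.S18983
import Mathlib

set_option autoImplicit false
universe u v w
open CAlg

namespace Groth.Agent.S18983


open DirectSum

section Peel
variable {k : Type u} [Field k] {V : Type w} [AddCommGroup V] [Module k V]

theorem peel2 {I I1 I2 : Type*} {V' : Type*} [AddCommGroup V'] [Module k V']
    (g : I → V) (f : V →ₗ[k] V') (σ1 : I1 → I) (σ2 : I2 → I)
    (h1 : LinearIndependent k (f ∘ (g ∘ σ1)))
    (h2 : LinearIndependent k (g ∘ σ2))
    (h0 : ∀ q, f (g (σ2 q)) = 0)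
    (hsurj : ∀ p, (∃ q, σ1 q = p) ∨ (∃ q, σ2 q = p)) :
    LinearIndependent k g := by
  have hτ : Function.Surjective (Sum.elim σ1 σ2) := by
    intro p
    rcases hsurj p with ⟨q, rfl⟩ | ⟨q, rfl⟩
    · exact ⟨Sum.inl q, rfl⟩
    · exact ⟨Sum.inr q, rfl⟩
  have hLI : LinearIndependent k (g ∘ Sum.elim σ1 σ2) := by
    rw [linearIndependent_sum]
    refine ⟨LinearIndependent.of_comp f h1, h2, ?_⟩
    have hd := Submodule.range_ker_disjoint h1
    refine hd.mono_right ?_
    rw [Submodule.span_le]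
    rintro _ ⟨q, rfl⟩
    exact h0 q
  have := hLI.comp (Function.surjInv hτ) (Function.injective_surjInv hτ)
  convert this using 1
  funext p
  simp only [Function.comp]
  rw [Function.surjInv_eq hτ p]

theorem pow_mem_of_stable (A : Module.End k V) (W : Submodule k V) (hst : ∀ v ∈ W, A v ∈ W)
    (j : ℕ) (v : V) (hv : v ∈ W) : (A ^ j) v ∈ W := by
  induction j with
  | zero => simpa using hv
  | succ j ih => rw [pow_succ', Module.End.mul_apply]; exact hst _ ih

end Peel

section Step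
variable {k : Type u} [Field k] {V : Type w} [AddCommGroup V] [Module k V]
  (A : Module.End k V) {ι : Type w} (F : Type w) (n : ι → ℕ) (x u : ι → V) (fv : F → V)

@[reducible] def hts : ι ⊕ F → ℕ := Sum.elim (fun i => n i + 1) (fun _ => 0)

def fam : (Σ i : ι, Fin (n i + 1)) → V := fun p => (A ^ (p.2 : ℕ)) (x p.1)

def s1 : (Σ i : ι, Fin (n i + 1)) → (Σ i' : ι ⊕ F, Fin (hts F n i' + 1)) :=
  fun p => ⟨Sum.inl p.1, p.2.castSucc⟩

def s2 : ι ⊕ F → (Σ i' : ι ⊕ F, Fin (hts F n i' + 1)) :=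
  fun q => match q with
    | Sum.inl i => ⟨Sum.inl i, Fin.last _⟩
    | Sum.inr f => ⟨Sum.inr f, 0⟩

theorem fam_s1 (hu : ∀ i, A (u i) = x i) (p : Σ i : ι, Fin (n i + 1)) :
    A (fam A (hts F n) (Sum.elim u fv) (s1 F n p)) = fam A n x p := by
  obtain ⟨i, l⟩ := p
  show A ((A ^ ((l.castSucc : Fin (n i + 1 + 1)) : ℕ)) (u i)) = (A ^ (l : ℕ)) (x i)
  rw [Fin.val_castSucc, ← Module.End.mul_apply, ← pow_succ', pow_succ, Module.End.mul_apply, hu]

theorem fam_s2 (hu : ∀ i, A (u i) = x i) (q : ι ⊕ F) :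
    fam A (hts F n) (Sum.elim u fv) (s2 F n q) = Sum.elim (fun i => (A ^ n i) (x i)) fv q := by
  rcases q with i | f
  · show (A ^ ((Fin.last (n i + 1) : Fin (n i + 1 + 1)) : ℕ)) (u i) = (A ^ n i) (x i)
    rw [Fin.val_last, pow_succ, Module.End.mul_apply, hu]
  · show (A ^ ((0 : Fin (0 + 1)) : ℕ)) (fv f) = fv f
    simp

theorem s_surj (p : Σ i' : ι ⊕ F, Fin (hts F n i' + 1)) :
    (∃ q, s1 F n q = p) ∨ (∃ q, s2 F n q = p) := by
  obtain ⟨i', l⟩ := p
  rcases i' with i | f
  · induction l using Fin.lastCases with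
    | last => exact Or.inr ⟨Sum.inl i, rfl⟩
    | cast l' => exact Or.inl ⟨⟨i, l'⟩, rfl⟩
  · right
    refine ⟨Sum.inr f, ?_⟩
    have hl : (l : ℕ) < 0 + 1 := l.2
    have : l = 0 := Fin.ext (by rw [Fin.val_zero]; omega)
    subst this
    rfl

theorem step_LI (hu : ∀ i, A (u i) = x i) (hkill : ∀ i, (A ^ (n i + 1)) (x i) = 0)
    (hF0 : ∀ f, A (fv f) = 0)
    (hLI : LinearIndependent k (fam A n x))
    (hLI2 : LinearIndependent k (Sum.elim (fun i => (A ^ n i) (x i)) fv)) :
    LinearIndependent k (fam A (hts F n) (Sum.elim u fv)) := by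
  refine peel2 (fam A (hts F n) (Sum.elim u fv)) A (s1 F n) (s2 F n) ?_ ?_ ?_ (s_surj F n)
  · have : (A ∘ (fam A (hts F n) (Sum.elim u fv) ∘ s1 F n)) = fam A n x := by
      funext p; exact fam_s1 A F n x u fv hu p
    rw [this]; exact hLI
  · have : (fam A (hts F n) (Sum.elim u fv) ∘ s2 F n)
        = Sum.elim (fun i => (A ^ n i) (x i)) fv := by
      funext q; exact fam_s2 A F n x u fv hu q
    rw [this]; exact hLI2
  · intro q
    rw [fam_s2 A F n x u fv hu q]
    rcases q with i | f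
    · show A ((A ^ n i) (x i)) = 0
      rw [← Module.End.mul_apply, ← pow_succ']; exact hkill i
    · exact hF0 f

theorem step_span (W : Submodule k V) (hst : ∀ v ∈ W, A v ∈ W) (hu : ∀ i, A (u i) = x i)
    (huW : ∀ i, u i ∈ W)
    (hsp1 : Submodule.span k (Set.range (fam A n x)) = W.map A)
    (hsp2 : Submodule.span k (Set.range (Sum.elim (fun i => (A ^ n i) (x i)) fv))
      = W ⊓ LinearMap.ker A) :
    Submodule.span k (Set.range (fam A (hts F n) (Sum.elim u fv))) = W := by
  have hle : Submodule.span k (Set.range (fam A (hts F n) (Sum.elim u fv))) ≤ W := by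
    rw [Submodule.span_le]
    rintro _ ⟨⟨i', l⟩, rfl⟩
    show (A ^ (l : ℕ)) (Sum.elim u fv i') ∈ W
    apply pow_mem_of_stable A W hst
    rcases i' with i | f
    · exact huW i
    · have : fv f ∈ Submodule.span k (Set.range (Sum.elim (fun i => (A ^ n i) (x i)) fv)) :=
        Submodule.subset_span ⟨Sum.inr f, rfl⟩
      rw [hsp2] at this
      exact (Submodule.mem_inf.1 this).1
  refine le_antisymm hle ?_
  intro w hw
  have h1 : A w ∈ Submodule.span k (Set.range (fam A n x)) := by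
    rw [hsp1]; exact Submodule.mem_map_of_mem hw
  have h2 : fam A n x = A ∘ (fam A (hts F n) (Sum.elim u fv) ∘ s1 F n) := by
    funext p; exact (fam_s1 A F n x u fv hu p).symm
  rw [h2, Set.range_comp, ← Submodule.map_span] at h1
  obtain ⟨z, hz, hzw⟩ := Submodule.mem_map.1 h1
  have hz' : z ∈ Submodule.span k (Set.range (fam A (hts F n) (Sum.elim u fv))) :=
    Submodule.span_mono (Set.range_comp_subset_range _ _) hz
  have h3 : w - z ∈ W ⊓ LinearMap.ker A := by
    refine Submodule.mem_inf.2 ⟨W.sub_mem hw (hle hz'), ?_⟩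
    rw [LinearMap.mem_ker, map_sub, hzw, sub_self]
  rw [← hsp2] at h3
  have h4 : Sum.elim (fun i => (A ^ n i) (x i)) fv
      = fam A (hts F n) (Sum.elim u fv) ∘ s2 F n := by
    funext q; exact (fam_s2 A F n x u fv hu q).symm
  rw [h4] at h3
  have h5 := Submodule.span_mono (R := k)
    (Set.range_comp_subset_range (s2 F n) (fam A (hts F n) (Sum.elim u fv))) h3
  have : w = z + (w - z) := by abel
  rw [this]
  exact Submodule.add_mem _ hz' h5

end Step

section Graded
variable {k : Type u} [Field k] {Λ : Type v} [AddCommGroup Λ] [DecidableEq Λ]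
  {V : Type w} [AddCommGroup V] [Module k V]
  (𝒱 : Λ → Submodule k V)
  (A : Module.End k V) (χ : Λ)

theorem pow_hom (hhom : ∀ (μ : Λ) (v : V), v ∈ 𝒱 μ → A v ∈ 𝒱 (μ + χ)) (j : ℕ) (v : V)
    (hv : ∃ μ, v ∈ 𝒱 μ) : ∃ μ, (A ^ j) v ∈ 𝒱 μ := by
  induction j with
  | zero => simpa using hv
  | succ j ih =>
    obtain ⟨μ, hμ⟩ := ih
    refine ⟨μ + χ, ?_⟩
    rw [pow_succ', Module.End.mul_apply]
    exact hhom μ _ hμ

variable [DirectSum.Decomposition 𝒱]

theorem proj_A (hhom : ∀ (μ : Λ) (v : V), v ∈ 𝒱 μ → A v ∈ 𝒱 (μ + χ)) (μ ν : Λ) (h : ν = μ + χ)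
    (v : V) : ((decompose 𝒱 (A v) ν : 𝒱 ν) : V) = A ((decompose 𝒱 v μ : 𝒱 μ) : V) := by
  subst h
  induction v using DirectSum.Decomposition.inductionOn 𝒱 with
  | zero => simp
  | @homogeneous e m =>
    by_cases h : e = μ
    · subst h
      rw [decompose_of_mem_same 𝒱 (hhom _ _ m.2), decompose_of_mem_same 𝒱 m.2]
    · rw [decompose_of_mem_ne 𝒱 (hhom _ _ m.2) (fun h' => h (add_right_cancel h')),
        decompose_of_mem_ne 𝒱 m.2 h, map_zero]
  | add m m' h1 h2 =>
    rw [map_add, decompose_add, decompose_add, DirectSum.add_apply, DirectSum.add_apply,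
      Submodule.coe_add, Submodule.coe_add, map_add, h1, h2]

theorem jb_ind [FiniteDimensional k V]
    (hhom : ∀ (μ : Λ) (v : V), v ∈ 𝒱 μ → A v ∈ 𝒱 (μ + χ)) (hA : IsNilpotent A) :
    ∀ (d : ℕ) (W : Submodule k V), Module.finrank k W = d →
      (∀ v ∈ W, ∀ μ, ((decompose 𝒱 v μ : 𝒱 μ) : V) ∈ W) → (∀ v ∈ W, A v ∈ W) →
      ∃ (ι : Type w) (_ : Finite ι) (n : ι → ℕ) (x : ι → V),
        (∀ i, ∃ μ, x i ∈ 𝒱 μ) ∧ (∀ i, (A ^ (n i + 1)) (x i) = 0) ∧
        LinearIndependent k (fam A n x) ∧ Submodule.span k (Set.range (fam A n x)) = W := by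
  intro d
  induction d using Nat.strong_induction_on with
  | _ d ih =>
  intro W hd hgr hst
  subst hd
  by_cases hW : W = ⊥
  · subst hW
    refine ⟨PEmpty.{w+1}, inferInstance, fun _ => 0, fun _ => 0, fun i => i.elim,
      fun i => i.elim, ?_, ?_⟩
    · exact linearIndependent_empty_type
    · rw [Set.range_eq_empty, Submodule.span_empty]
  · set W1 : Submodule k V := W.map A with hW1def
    have hW1le : W1 ≤ W := by
      rintro _ ⟨w, hw, rfl⟩
      exact hst w hw
    have hW1ne : W1 ≠ W := by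
      intro h
      obtain ⟨N, hN⟩ := hA
      have hall : ∀ m : ℕ, W.map (A ^ m) = W := by
        intro m
        induction m with
        | zero => rw [pow_zero, Module.End.one_eq_id, Submodule.map_id]
        | succ m ihm =>
          rw [pow_succ, Module.End.mul_eq_comp, Submodule.map_comp]
          rw [show W.map A = W from h, ihm]
      have h3 := hall N
      rw [hN] at h3
      exact hW (by rw [← h3]; exact Submodule.map_zero W)
    have hlt : Module.finrank k W1 < Module.finrank k W :=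
      Submodule.finrank_lt_finrank_of_lt (lt_of_le_of_ne hW1le hW1ne)
    have hW1gr : ∀ v ∈ W1, ∀ μ, ((decompose 𝒱 v μ : 𝒱 μ) : V) ∈ W1 := by
      rintro _ ⟨w, hw, rfl⟩ μ
      rw [proj_A 𝒱 A χ hhom (μ - χ) μ (by abel) w]
      exact Submodule.mem_map_of_mem (hgr w hw (μ - χ))
    have hW1st : ∀ v ∈ W1, A v ∈ W1 := by
      rintro _ ⟨w, hw, rfl⟩
      exact Submodule.mem_map_of_mem (hst w hw)
    obtain ⟨ι, hfin, n, x, hxhom, hxkill, hLI, hspan⟩ := ih _ hlt W1 rfl hW1gr hW1st
    have := hfin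
    have hfam_mem : ∀ p, fam A n x p ∈ W1 := fun p => by
      rw [← hspan]; exact Submodule.subset_span ⟨p, rfl⟩
    have hu : ∀ i, ∃ u, u ∈ W ∧ (∃ μ, u ∈ 𝒱 μ) ∧ A u = x i := by
      intro i
      have hx : x i ∈ W1 := by
        have := hfam_mem ⟨i, 0⟩
        simpa [fam] using this
      obtain ⟨w0, hw0, hw0x⟩ := Submodule.mem_map.1 hx
      obtain ⟨μ, hμ⟩ := hxhom i
      refine ⟨((decompose 𝒱 w0 (μ - χ) : 𝒱 (μ - χ)) : V), hgr w0 hw0 _,
        ⟨μ - χ, Submodule.coe_mem _⟩, ?_⟩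
      rw [← proj_A 𝒱 A χ hhom (μ - χ) μ (by abel) w0, hw0x, decompose_of_mem_same 𝒱 hμ]
    choose u huW huhom huA using hu
    have hyK : ∀ i, (A ^ n i) (x i) ∈ W ⊓ LinearMap.ker A := by
      intro i
      refine Submodule.mem_inf.2 ⟨?_, ?_⟩
      · have h1 := hfam_mem ⟨i, Fin.last _⟩
        have h2 : fam A n x ⟨i, Fin.last _⟩ = (A ^ n i) (x i) := by
          simp [fam]
        rw [h2] at h1
        exact hW1le h1
      · rw [LinearMap.mem_ker, ← Module.End.mul_apply, ← pow_succ']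
        exact hxkill i
    have hyLI : LinearIndependent k (fun i => (A ^ n i) (x i)) := by
      have h1 := hLI.comp (fun i => (⟨i, Fin.last _⟩ : Σ i : ι, Fin (n i + 1)))
        (fun i j h => congrArg Sigma.fst h)
      convert h1 using 1
      funext i
      simp [fam]
    classical
    set S : Set V := Set.range (fun i => (A ^ n i) (x i)) with hS
    obtain ⟨t, ht_mem⟩ : ∃ t : Set V, ∀ v, v ∈ t ↔ (v ∈ W ⊓ LinearMap.ker A ∧ ∃ μ, v ∈ 𝒱 μ) :=
      ⟨{v | v ∈ W ⊓ LinearMap.ker A ∧ ∃ μ, v ∈ 𝒱 μ}, fun v => Iff.rfl⟩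
    have hst' : S ⊆ t := by
      rintro _ ⟨i, rfl⟩
      exact (ht_mem _).2 ⟨hyK i, pow_hom 𝒱 A χ hhom (n i) (x i) (hxhom i)⟩
    obtain ⟨b, hbt, hsb, htb, hbLI⟩ :=
      exists_linearIndepOn_id_extension hyLI.linearIndepOn_id hst'
    have hKt : W ⊓ LinearMap.ker A ≤ Submodule.span k t := by
      intro v hv
      rw [← DirectSum.sum_support_decompose 𝒱 v]
      refine Submodule.sum_mem _ (fun μ _ => Submodule.subset_span
        ((ht_mem _).2 ⟨Submodule.mem_inf.2 ⟨hgr v (Submodule.mem_inf.1 hv).1 μ, ?_⟩, μ, Submodule.coe_mem _⟩))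
      rw [LinearMap.mem_ker, ← proj_A 𝒱 A χ hhom μ (μ + χ) rfl v, LinearMap.mem_ker.1 (Submodule.mem_inf.1 hv).2,
        decompose_zero, DirectSum.zero_apply]
      rfl
    have hspanb : Submodule.span k b = W ⊓ LinearMap.ker A :=
      le_antisymm (Submodule.span_le.2 (fun v hv => ((ht_mem _).1 (hbt hv)).1))
        (hKt.trans (Submodule.span_le.2 htb))
    have hbLI' : LinearIndependent k (fun v : b => (v : V)) := hbLI
    have hbfin : b.Finite := hbLI'.setFinite
    have hFfin : Finite ↥(b \ S) := (hbfin.subset Set.sdiff_subset).to_subtype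
    have hFb : ∀ f : ↥(b \ S), (f : V) ∈ b := fun f => ((Set.mem_sdiff _).1 f.2).1
    have hFS : ∀ f : ↥(b \ S), (f : V) ∉ S := fun f => ((Set.mem_sdiff _).1 f.2).2
    have hFK : ∀ f : ↥(b \ S), (f : V) ∈ W ∧ (f : V) ∈ LinearMap.ker A := fun f =>
      Submodule.mem_inf.1 ((ht_mem _).1 (hbt (hFb f))).1
    have hLI2 : LinearIndependent k
        (Sum.elim (fun i => (A ^ n i) (x i)) (fun f : ↥(b \ S) => (f : V))) := by
      let θ : ι ⊕ ↥(b \ S) → b := fun q => match q with
        | Sum.inl i => ⟨(A ^ n i) (x i), hsb ⟨i, rfl⟩⟩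
        | Sum.inr f => ⟨f.1, hFb f⟩
      have hθ : Function.Injective θ := by
        rintro (i | f) (j | f') h
        · have h' : (A ^ n i) (x i) = (A ^ n j) (x j) := congrArg Subtype.val h
          exact congrArg Sum.inl (hyLI.injective h')
        · exfalso
          have h' : (A ^ n i) (x i) = f'.1 := congrArg Subtype.val h
          exact hFS f' ⟨i, h'⟩
        · exfalso
          have h' : f.1 = (A ^ n j) (x j) := congrArg Subtype.val h
          exact hFS f ⟨j, h'.symm⟩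
        · have h' : (f : V) = (f' : V) := congrArg (fun z : ↥b => (z : V)) h
          exact congrArg Sum.inr (Subtype.ext h')
      have h1 := hbLI'.comp θ hθ
      convert h1 using 1
      funext q
      rcases q with i | f <;> rfl
    have hsp2 : Submodule.span k (Set.range
        (Sum.elim (fun i => (A ^ n i) (x i)) (fun f : ↥(b \ S) => (f : V))))
        = W ⊓ LinearMap.ker A := by
      rw [← hspanb]
      congr 1
      ext v
      constructor
      · rintro ⟨(i | f), rfl⟩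
        · exact hsb ⟨i, rfl⟩
        · exact hFb f
      · intro hv
        by_cases hvs : v ∈ S
        · obtain ⟨i, rfl⟩ := hvs
          exact ⟨Sum.inl i, rfl⟩
        · exact ⟨Sum.inr ⟨v, (Set.mem_sdiff _).2 ⟨hv, hvs⟩⟩, rfl⟩
    refine ⟨ι ⊕ ↥(b \ S), inferInstance, hts ↥(b \ S) n, Sum.elim u (fun f => (f : V)),
      ?_, ?_, ?_, ?_⟩
    · rintro (i | f)
      · exact huhom i
      · exact ((ht_mem _).1 (hbt (hFb f))).2
    · rintro (i | f)
      · show (A ^ (n i + 1 + 1)) (u i) = 0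
        rw [pow_succ, Module.End.mul_apply, huA, hxkill]
      · show (A ^ (0 + 1)) (f : V) = 0
        rw [zero_add, pow_one]
        exact LinearMap.mem_ker.1 (hFK f).2
    · exact step_LI A _ n x u _ huA hxkill (fun f => LinearMap.mem_ker.1 (hFK f).2) hLI hLI2
    · exact step_span A _ n x u _ W hst huA huW hspan hsp2

end Graded

theorem main (k : Type u) [Field k] (Λ : Type v) [AddCommGroup Λ] [DecidableEq Λ]
    (V : Type w) [AddCommGroup V] [Module k V] [FiniteDimensional k V]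
    (𝒱 : Λ → Submodule k V) (h𝒱 : DirectSum.IsInternal 𝒱)
    (A : Module.End k V) (hA : IsNilpotent A) (χ : Λ)
    (hhom : ∀ (μ : Λ) (v : V), v ∈ 𝒱 μ → A v ∈ 𝒱 (μ + χ)) :
    ∃ (ι : Type w) (_ : Finite ι) (n : ι → ℕ) (b : Module.Basis (Σ i : ι, Fin (n i + 1)) k V),
      (∀ (i : ι) (l : Fin (n i + 1)), ∃ μ : Λ, b ⟨i, l⟩ ∈ 𝒱 μ) ∧
      (∀ i : ι, A (b ⟨i, 0⟩) = 0) ∧
      ∀ (i : ι) (l : Fin (n i)), A (b ⟨i, l.succ⟩) = b ⟨i, l.castSucc⟩ := by
  let _ : DirectSum.Decomposition 𝒱 := h𝒱.chooseDecomposition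
  obtain ⟨ι, hfin, n, x, hxhom, hxkill, hLI, hspan⟩ :=
    jb_ind 𝒱 A χ hhom hA _ ⊤ rfl (fun _ _ _ => Submodule.mem_top) (fun _ _ => Submodule.mem_top)
  let ρ : (Σ i : ι, Fin (n i + 1)) → (Σ i : ι, Fin (n i + 1)) := fun p => ⟨p.1, Fin.rev p.2⟩
  have hρρ : ∀ p, ρ (ρ p) = p := by
    rintro ⟨i, l⟩
    show (⟨i, Fin.rev (Fin.rev l)⟩ : Σ i : ι, Fin (n i + 1)) = ⟨i, l⟩
    rw [Fin.rev_rev]
  have hρinj : Function.Injective ρ := fun p q h => by rw [← hρρ p, h, hρρ]
  have hρsurj : Function.Surjective ρ := fun p => ⟨ρ p, hρρ p⟩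
  have hLIe : LinearIndependent k (fam A n x ∘ ρ) := hLI.comp ρ hρinj
  have hspe : ⊤ ≤ Submodule.span k (Set.range (fam A n x ∘ ρ)) := by
    rw [hρsurj.range_comp, hspan]
  refine ⟨ι, hfin, n, Module.Basis.mk hLIe hspe, ?_, ?_, ?_⟩
  · intro i l
    rw [Module.Basis.mk_apply]
    exact pow_hom 𝒱 A χ hhom _ (x i) (hxhom i)
  · intro i
    rw [Module.Basis.mk_apply]
    show A ((A ^ ((Fin.rev (0 : Fin (n i + 1))) : ℕ)) (x i)) = 0
    have h0 : ((Fin.rev (0 : Fin (n i + 1))) : ℕ) = n i := by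
      rw [Fin.val_rev]; simp
    rw [h0, ← Module.End.mul_apply, ← pow_succ']
    exact hxkill i
  · intro i l
    rw [Module.Basis.mk_apply, Module.Basis.mk_apply]
    show A ((A ^ ((Fin.rev l.succ : Fin (n i + 1)) : ℕ)) (x i))
      = (A ^ ((Fin.rev l.castSucc : Fin (n i + 1)) : ℕ)) (x i)
    rw [Fin.rev_succ, Fin.rev_castSucc, Fin.val_succ, Fin.val_castSucc,
      ← Module.End.mul_apply, ← pow_succ']


/-- Let k be a field, Λ an additive commutative group, V a finite-dimensional k-vector space which is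
the internal direct sum of subspaces V_μ indexed by Λ (a representation of a torus with character
group Λ), and A a nilpotent endomorphism of V mapping each V_μ into V_{μ+χ} for a fixed χ (the
infinitesimal generator of an action of the additive group on which the torus acts through the
character χ). Then V has a basis consisting of homogeneous vectors e_{i,l}, 0 ≤ l ≤ n_i, with A
e_{i,0} = 0 and A e_{i,l+1} = e_{i,l}: a weight basis bringing A into Jordan normal form. (The
source states this, over an algebraically closed field of characteristic zero, as a decomposition of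
every representation of the semidirect product of the additive group with a torus into twists of
symmetric powers of the standard two-dimensional representation by characters; the first line of its
proof reduces that to the present statement, which is what is proved, and which holds over any
field.) -/
theorem result
    (k : Type u) [Field k] (Λ : Type v) [AddCommGroup Λ] [DecidableEq Λ]
    (V : Type w) [AddCommGroup V] [Module k V] [FiniteDimensional k V]
    (𝒱 : Λ → Submodule k V) (h𝒱 : DirectSum.IsInternal 𝒱)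
    (A : Module.End k V) (hA : IsNilpotent A) (χ : Λ)
    (hhom : ∀ (μ : Λ) (v : V), v ∈ 𝒱 μ → A v ∈ 𝒱 (μ + χ)) :
    ∃ (ι : Type w) (_ : Finite ι) (n : ι → ℕ) (b : Module.Basis (Σ i : ι, Fin (n i + 1)) k V),
      (∀ (i : ι) (l : Fin (n i + 1)), ∃ μ : Λ, b ⟨i, l⟩ ∈ 𝒱 μ) ∧
      (∀ i : ι, A (b ⟨i, 0⟩) = 0) ∧
      ∀ (i : ι) (l : Fin (n i)), A (b ⟨i, l.succ⟩) = b ⟨i, l.castSucc⟩ := by
  exact main k Λ V 𝒱 h𝒱 A hA χ hhom


end Groth.Agent.S18983
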