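import Groth.Statements.S18988
import Mathlib
import Groth.Agent.Lib.Helper15.LieStable

set_option autoImplicit false
universe u
open TensorProduct
open HopfRep

namespace Groth.Agent.S18988

/-- In Hopf-algebra form, over an algebraically closed field k of characteristic zero, let A be a
finitely generated commutative Hopf algebra which is unipotent in the fixed-vector sense (the
coordinate ring of a unipotent group U), coacting multiplicatively on a finitely generated
commutative k-algebra R. Then a k-subspace V of R is a subcomodule (is invariant under U) if and
only if it is stable under the infinitesimal action of every ε-derivation ξ : A → k: for every v in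
V, applying ξ to the A-factor of the coaction of v gives an element of the image of V ⊗ k in R ⊗ k. -/
theorem result
    (k : Type u) [Field k] [IsAlgClosed k] [CharZero k]
    (A : Type u) [CommRing A] [HopfAlgebra k A] [Algebra.FiniteType k A] (hU : HopfRep.IsUnipotent k A)
    (R : Type u) [CommRing R] [Algebra k R] [Algebra.FiniteType k R]
    [HopfRep.Comod k A R] [GLin.IsCoactAlg k A R] (V : Submodule k R) :
    HopfRep.IsSubcomod (k := k) (A := A) V ↔
      ∀ (ξ : LieHopf.Lie k A) (v : R), v ∈ V →
        LinearMap.lTensor R (ξ.toLinearMap.restrictScalars k) (HopfRep.Comod.coact (k := k) (A := A) v) ∈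
          LinearMap.range (LinearMap.rTensor (LieHopf.K k A) V.subtype) := by
  constructor
  · intro hV ξ v hv
    obtain ⟨t, ht⟩ := hV v hv
    refine ⟨LinearMap.lTensor V (ξ.toLinearMap.restrictScalars k) t, ?_⟩
    rw [← ht, ← LinearMap.comp_apply, ← LinearMap.comp_apply, LinearMap.rTensor_comp_lTensor,
      LinearMap.lTensor_comp_rTensor]
  · intro h
    apply Groth.Agent.Lib.helper15.LieStable.isSubcomod_of_lieStable hU R V
    intro φ hφ v hv
    let ξ : LieHopf.Lie k A := Derivation.mk' (φ : A →ₗ[k] LieHopf.K k A) (by
      intro a b
      rw [LieHopf.smul_def, LieHopf.smul_def]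
      have := hφ a b
      show φ (a * b) = CoalgebraStruct.counit (R := k) a * φ b + CoalgebraStruct.counit (R := k) b * φ a
      rw [this]; ring)
    obtain ⟨t, ht⟩ := h ξ v hv
    have ht' : LinearMap.rTensor k V.subtype t =
        LinearMap.lTensor R φ (HopfRep.Comod.coact (k := k) (A := A) v) := ht
    show (TensorProduct.rid k R) (LinearMap.lTensor R φ (HopfRep.Comod.coact (k := k) (A := A) v)) ∈ V
    rw [← ht']
    have key : ∀ s : V ⊗[k] k, (TensorProduct.rid k R) (LinearMap.rTensor k V.subtype s) ∈ V := by
      intro s
      induction s with
      | zero => simp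
      | tmul w a =>
        simp only [LinearMap.rTensor_tmul, Submodule.subtype_apply, TensorProduct.rid_tmul]
        exact V.smul_mem _ w.2
      | add x y hx hy => simp only [map_add]; exact V.add_mem hx hy
    exact key t

end Groth.Agent.S18988
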