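import Groth.Statements.S18989
import Mathlib
import Groth.Agent.Lib.Helper15.ProdComod

set_option autoImplicit false
universe u
open TensorProduct
open HopfRep

namespace Groth.Agent.S18989

/-- An action of a unipotent group on an affine scheme is determined by its infinitesimal action. Over
an algebraically closed field k of characteristic zero, let A be a finitely generated commutative
Hopf algebra, unipotent in the fixed-vector sense, coacting multiplicatively on two finitely
generated commutative k-algebras R₁ and R₂, and let e : R₁ → R₂ be an algebra isomorphism which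
intertwines the two infinitesimal actions: for every ε-derivation ξ : A → k and every f in R₁,
applying ξ to the A-factor of the coaction of e(f) equals e ⊗ id applied to the same for f. Then e
intertwines the coactions: the coaction of e(f) is (e ⊗ id) of the coaction of f for all f. (With R₁
= R₂ and e the identity this says that two actions with the same infinitesimal action coincide,
which is the printed assertion.) -/
theorem result
    (k : Type u) [Field k] [IsAlgClosed k] [CharZero k]
    (A : Type u) [CommRing A] [HopfAlgebra k A] [Algebra.FiniteType k A] (hU : HopfRep.IsUnipotent k A)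
    (R₁ R₂ : Type u) [CommRing R₁] [Algebra k R₁] [Algebra.FiniteType k R₁]
    [HopfRep.Comod k A R₁] [GLin.IsCoactAlg k A R₁]
    [CommRing R₂] [Algebra k R₂] [Algebra.FiniteType k R₂]
    [HopfRep.Comod k A R₂] [GLin.IsCoactAlg k A R₂]
    (e : R₁ ≃ₐ[k] R₂)
    (h : ∀ (ξ : LieHopf.Lie k A) (f : R₁),
      LinearMap.lTensor R₂ (ξ.toLinearMap.restrictScalars k) (HopfRep.Comod.coact (k := k) (A := A) (e f)) =
        LinearMap.rTensor (LieHopf.K k A) e.toLinearMap
          (LinearMap.lTensor R₁ (ξ.toLinearMap.restrictScalars k) (HopfRep.Comod.coact (k := k) (A := A) f))) :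
    ∀ f : R₁, HopfRep.Comod.coact (k := k) (A := A) (e f) =
      LinearMap.rTensor A e.toLinearMap (HopfRep.Comod.coact (k := k) (A := A) f) := by
  intro f
  have key := Groth.Agent.Lib.helper15.ProdComod.coact_eq_of_lie_eq hU R₁ R₂ e.toLinearMap (by
    intro φ hφ f
    let ξ : LieHopf.Lie k A := Derivation.mk' (φ : A →ₗ[k] LieHopf.K k A) (by
      intro a b
      rw [LieHopf.smul_def, LieHopf.smul_def]
      have := hφ a b
      show φ (a * b) = CoalgebraStruct.counit (R := k) a * φ b + CoalgebraStruct.counit (R := k) b * φ a
      rw [this]; ring)
    have h1 : LinearMap.lTensor R₂ φ (HopfRep.Comod.coact (k := k) (A := A) (e f)) =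
        LinearMap.rTensor k e.toLinearMap
          (LinearMap.lTensor R₁ φ (HopfRep.Comod.coact (k := k) (A := A) f)) := h ξ f
    show (TensorProduct.rid k R₂)
        (LinearMap.lTensor R₂ φ (HopfRep.Comod.coact (k := k) (A := A) (e.toLinearMap f))) =
      e.toLinearMap ((TensorProduct.rid k R₁)
        (LinearMap.lTensor R₁ φ (HopfRep.Comod.coact (k := k) (A := A) f)))
    have h2 : ∀ s : R₁ ⊗[k] k, (TensorProduct.rid k R₂) (LinearMap.rTensor k e.toLinearMap s) =
        e.toLinearMap ((TensorProduct.rid k R₁) s) := by
      intro s
      induction s with
      | zero => simp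
      | tmul w a => simp
      | add x y hx hy => simp only [map_add, hx, hy]
    rw [← h2, ← h1]
    rfl) f
  exact key

end Groth.Agent.S18989
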