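import Groth.Statements.S18994
import Mathlib


set_option autoImplicit false
universe u
open TernForm

namespace Groth.Agent.S18994

set_option linter.style.haveILetI false

open MvPolynomial

variable {R : Type u} [CommRing R]

/-- the family -/
noncomputable def fam (j : Fin 3) (q : MvPolynomial (Fin 3) R) (n : ℕ) :
    ({m : Fin 3 →₀ ℕ // m.degree = n ∧ m j < 2} ⊕ {m : Fin 3 →₀ ℕ // m.degree + 2 = n}) →
      MvPolynomial (Fin 3) R :=
  Sum.elim (fun m => MvPolynomial.monomial m.1 (1 : R)) (fun m => q * MvPolynomial.monomial m.1 (1 : R))

theorem fam_homog (j : Fin 3) (q : MvPolynomial (Fin 3) R) (hq : q.IsHomogeneous 2) (n : ℕ)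
    (i) : (fam j q n i).IsHomogeneous n := by
  rcases i with ⟨m, hm, _⟩ | ⟨m, hm⟩
  · exact isHomogeneous_monomial _ hm
  · have h1 : (monomial m (1 : R)).IsHomogeneous m.degree := isHomogeneous_monomial _ rfl
    have h2 := hq.mul h1
    rw [add_comm, hm] at h2
    exact h2

theorem monomial_mem (j : Fin 3) (q : MvPolynomial (Fin 3) R) (hq : q.IsHomogeneous 2)
    (hqj : IsUnit (q.coeff (Finsupp.single j 2))) (n : ℕ) :
    ∀ k : ℕ, ∀ m : Fin 3 →₀ ℕ, m j = k → m.degree = n →
      monomial m (1 : R) ∈ Submodule.span R (Set.range (fam j q n)) := by
  classical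
  intro k
  induction k using Nat.strong_induction_on with
  | _ k ih =>
    intro m hmk hmn
    by_cases hk : k < 2
    · exact Submodule.subset_span ⟨Sum.inl ⟨m, hmn, hmk ▸ hk⟩, rfl⟩
    · rw [not_lt] at hk
      let e2 : Fin 3 →₀ ℕ := Finsupp.single j 2
      let m' : Fin 3 →₀ ℕ := m - e2
      have hle : e2 ≤ m := by
        intro i
        by_cases hi : i = j
        · subst hi; simp only [e2, Finsupp.single_eq_same]; omega
        · simp [e2, Finsupp.single_eq_of_ne hi]
      have hm : e2 + m' = m := add_tsub_cancel_of_le hle
      have hm'deg : m'.degree + 2 = n := by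
        have h1 := congrArg Finsupp.degree hm
        rw [map_add, Finsupp.degree_single] at h1
        omega
      have hm'j : m' j + 2 = k := by
        have h1 := congrArg (fun f : Fin 3 →₀ ℕ => f j) hm
        simp only [Finsupp.add_apply, e2, Finsupp.single_eq_same] at h1
        omega
      set u := q.coeff e2 with hu
      let q' : MvPolynomial (Fin 3) R := q - monomial e2 u
      have hq' : q = monomial e2 u + q' := by simp [q']
      have hcoeff' : q'.coeff e2 = 0 := by simp [q', hu]
      have hmem : q * monomial m' (1 : R) ∈ Submodule.span R (Set.range (fam j q n)) :=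
        Submodule.subset_span ⟨Sum.inr ⟨m', hm'deg⟩, rfl⟩
      have hterm : ∀ s ∈ q'.support, monomial (s + m') (q'.coeff s) ∈
          Submodule.span R (Set.range (fam j q n)) := by
        intro s hs
        have hs0 : q'.coeff s ≠ 0 := mem_support_iff.mp hs
        have hne : s ≠ e2 := by
          intro h0
          rw [h0] at hs0
          exact hs0 hcoeff'
        have hqs : q.coeff s ≠ 0 := by
          intro h0
          apply hs0
          simp only [q', coeff_sub, coeff_monomial, h0, if_neg (Ne.symm hne), sub_zero]
        have hsdeg : s.degree = 2 := by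
          rw [Finsupp.degree_eq_weight_one]; exact hq hqs
        have hsj : s j < 2 := by
          by_contra hge
          rw [not_lt] at hge
          have h1 : s j ≤ s.degree := Finsupp.le_degree j s
          have h2 : s j = 2 := by omega
          apply hne
          -- s = single j 2
          have h3 : e2 ≤ s := by
            intro i
            by_cases hi : i = j
            · subst hi; simp only [e2, Finsupp.single_eq_same]; omega
            · simp [e2, Finsupp.single_eq_of_ne hi]
          have h4 : e2 + (s - e2) = s := add_tsub_cancel_of_le h3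
          have h5 := congrArg Finsupp.degree h4
          rw [map_add, Finsupp.degree_single, hsdeg] at h5
          have h6 : (s - e2).degree = 0 := by omega
          have h7 : s - e2 = 0 := (Finsupp.degree_eq_zero_iff _).mp h6
          rw [h7, add_zero] at h4
          exact h4.symm
        have h1 : monomial (s + m') (q'.coeff s) = (q'.coeff s) • monomial (s + m') (1 : R) := by
          rw [smul_monomial, smul_eq_mul, mul_one]
        rw [h1]
        apply Submodule.smul_mem
        apply ih ((s + m') j)
        · simp only [Finsupp.add_apply]; omega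
        · rfl
        · rw [map_add, hsdeg]; omega
      have hq'mul : q' * monomial m' (1 : R) ∈ Submodule.span R (Set.range (fam j q n)) := by
        have h1 : q' * monomial m' (1 : R) =
            q'.support.sum (fun s => monomial (s + m') (q'.coeff s)) := by
          conv_lhs => rw [q'.as_sum, Finset.sum_mul]
          apply Finset.sum_congr rfl
          intro s _
          rw [monomial_mul, mul_one]
        rw [h1]
        exact Submodule.sum_mem _ hterm
      have h2 : monomial m u = q * monomial m' (1 : R) - q' * monomial m' (1 : R) := by
        conv_rhs => rw [hq']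
        rw [add_mul, add_sub_cancel_right, monomial_mul, mul_one, hm]
      have h3 : monomial m u ∈ Submodule.span R (Set.range (fam j q n)) := by
        rw [h2]; exact Submodule.sub_mem _ hmem hq'mul
      obtain ⟨v, hv⟩ := hqj.exists_left_inv
      have h4 : monomial m (1 : R) = v • monomial m u := by
        rw [smul_monomial, smul_eq_mul, hv]
      rw [h4]
      exact Submodule.smul_mem _ _ h3

theorem span_eq (j : Fin 3) (q : MvPolynomial (Fin 3) R) (hq : q.IsHomogeneous 2)
    (hqj : IsUnit (q.coeff (Finsupp.single j 2))) (n : ℕ) :
    Submodule.span R (Set.range (fam j q n)) = homogeneousSubmodule (Fin 3) R n := by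
  apply le_antisymm
  · apply Submodule.span_le.mpr
    rintro _ ⟨i, rfl⟩
    exact fam_homog j q hq n i
  · intro p hp
    rw [mem_homogeneousSubmodule] at hp
    rw [p.as_sum]
    apply Submodule.sum_mem
    intro m hm
    have hdeg : m.degree = n := by
      rw [Finsupp.degree_eq_weight_one]; exact hp (mem_support_iff.mp hm)
    have h1 : monomial m (p.coeff m) = (p.coeff m) • monomial m (1 : R) := by
      rw [smul_monomial, smul_eq_mul, mul_one]
    rw [h1]
    exact Submodule.smul_mem _ _ (monomial_mem j q hq hqj n (m j) m rfl hdeg)

/-- the index bijection -/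
noncomputable def idx (j : Fin 3) (n : ℕ) :
    ({m : Fin 3 →₀ ℕ // m.degree = n ∧ m j < 2} ⊕ {m : Fin 3 →₀ ℕ // m.degree + 2 = n}) →
      {m : Fin 3 →₀ ℕ // m.degree = n} :=
  Sum.elim (fun a => ⟨a.1, a.2.1⟩)
    (fun b => ⟨b.1 + Finsupp.single j 2, by rw [map_add, Finsupp.degree_single]; exact b.2⟩)

theorem idx_bijective (j : Fin 3) (n : ℕ) : Function.Bijective (idx j n) := by
  constructor
  · rintro (⟨a, ha⟩ | ⟨b, hb⟩) (⟨a', ha'⟩ | ⟨b', hb'⟩) h
    · have h1 : a = a' := congrArg Subtype.val h
      subst h1; rfl
    · exfalso
      have h1 : a = b' + Finsupp.single j 2 := congrArg Subtype.val h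
      have h2 := congrArg (fun f : Fin 3 →₀ ℕ => f j) h1
      simp only [Finsupp.add_apply, Finsupp.single_eq_same] at h2
      have := ha.2
      omega
    · exfalso
      have h1 : b + Finsupp.single j 2 = a' := congrArg Subtype.val h
      have h2 := congrArg (fun f : Fin 3 →₀ ℕ => f j) h1
      simp only [Finsupp.add_apply, Finsupp.single_eq_same] at h2
      have := ha'.2
      omega
    · have h1 : b + Finsupp.single j 2 = b' + Finsupp.single j 2 := congrArg Subtype.val h
      have h2 : b = b' := add_right_cancel h1
      subst h2; rfl
  · rintro ⟨c, hc⟩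
    by_cases h : c j < 2
    · exact ⟨Sum.inl ⟨c, hc, h⟩, rfl⟩
    · rw [not_lt] at h
      have hle : Finsupp.single j 2 ≤ c := by
        intro i
        by_cases hi : i = j
        · subst hi; simp only [Finsupp.single_eq_same]; omega
        · simp [Finsupp.single_eq_of_ne hi]
      have h1 : c - Finsupp.single j 2 + Finsupp.single j 2 = c := tsub_add_cancel_of_le hle
      have h2 : (c - Finsupp.single j 2).degree + 2 = n := by
        have h3 := congrArg Finsupp.degree h1
        rw [map_add, Finsupp.degree_single, hc] at h3
        exact h3
      refine ⟨Sum.inr ⟨c - Finsupp.single j 2, h2⟩, ?_⟩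
      apply Subtype.ext
      exact h1

theorem main
    (R : Type u) [CommRing R] (j : Fin 3) (q : MvPolynomial (Fin 3) R)
    (hq : q.IsHomogeneous 2) (hqj : IsUnit (q.coeff (Finsupp.single j 2))) (n : ℕ) :
    LinearIndependent R (Sum.elim (fun m : {m : Fin 3 →₀ ℕ // m.degree = n ∧ m j < 2} => MvPolynomial.monomial m.1 (1 : R)) (fun m : {m : Fin 3 →₀ ℕ // m.degree + 2 = n} => q * MvPolynomial.monomial m.1 (1 : R))) ∧
      Submodule.span R (Set.range (Sum.elim (fun m : {m : Fin 3 →₀ ℕ // m.degree = n ∧ m j < 2} => MvPolynomial.monomial m.1 (1 : R)) (fun m : {m : Fin 3 →₀ ℕ // m.degree + 2 = n} => q * MvPolynomial.monomial m.1 (1 : R)))) = MvPolynomial.homogeneousSubmodule (Fin 3) R n := by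
  change LinearIndependent R (fam j q n) ∧ Submodule.span R (Set.range (fam j q n)) = _
  refine ⟨?_, span_eq j q hq hqj n⟩
  rcases subsingleton_or_nontrivial R with hR | hR
  · exact Function.injective_of_subsingleton _
  · haveI hC : Finite {m : Fin 3 →₀ ℕ // m.degree = n} := (Finsupp.finite_of_degree_eq n).to_subtype
    haveI hI : Finite ({m : Fin 3 →₀ ℕ // m.degree = n ∧ m j < 2} ⊕
        {m : Fin 3 →₀ ℕ // m.degree + 2 = n}) :=
      Finite.of_injective (idx j n) (idx_bijective j n).injective
    letI : Fintype ↑{d : Fin 3 →₀ ℕ | d.degree = n} :=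
      Fintype.ofFinite {m : Fin 3 →₀ ℕ // m.degree = n}
    letI := Fintype.ofFinite ({m : Fin 3 →₀ ℕ // m.degree = n ∧ m j < 2} ⊕
        {m : Fin 3 →₀ ℕ // m.degree + 2 = n})
    rw [linearIndependent_iff_card_eq_finrank_span]
    change _ = Module.finrank R (Submodule.span R (Set.range (fam j q n)))
    rw [span_eq j q hq hqj n, homogeneousSubmodule_eq_finsupp_supported,
      LinearEquiv.finrank_eq (AddMonoidAlgebra.supportedEquivFinsupp (R := R) (S := R)
        {d : Fin 3 →₀ ℕ | d.degree = n})]
    rw [Module.finrank_finsupp_self, ← Nat.card_eq_fintype_card, ← Nat.card_eq_fintype_card]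
    exact Nat.card_congr (Equiv.ofBijective _ (idx_bijective j n))



/-- Let R be a commutative ring, j ∈ {0, 1, 2}, q a homogeneous polynomial of degree 2 in R[X_0, X_1,
X_2] whose coefficient of X_j^2 is a unit, and n a natural number. Then the family consisting of the
monomials of degree n not divisible by X_j^2 (exponent of X_j at most 1) together with the products
q · m, m running over the monomials of degree n − 2 (indexed by exponents m with |m| + 2 = n), is
linearly independent over R and spans exactly the homogeneous polynomials of degree n; in particular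
it is a basis of that module and the two parts are disjoint. (The published lemma is stated over a
field with the coefficient nonzero, the special case of a field R here; the version over a ring with
the coefficient invertible is what its change-of-basis argument gives — ordering monomials by
decreasing exponent of X_j makes the matrix triangular with diagonal entries 1 and that coefficient
— and is the form used to trivialise the bundle of degree-n forms modulo multiples of q over the
locus where the coefficient is invertible. The published lemma also allows an arbitrary monomial of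
degree 2 in place of X_j^2; for the mixed monomial X_1X_2, the form q = X_1^2 + X_1X_2 + X_2^2 and n
= 3 give the linear relation q·X_1 − q·X_2 = X_1^3 − X_2^3 among members of the family, so the claim
fails there and is stated here for the square of a variable.) -/
theorem result
    (R : Type u) [CommRing R] (j : Fin 3) (q : MvPolynomial (Fin 3) R)
    (hq : q.IsHomogeneous 2) (hqj : IsUnit (q.coeff (Finsupp.single j 2))) (n : ℕ) :
    LinearIndependent R (Sum.elim (fun m : {m : Fin 3 →₀ ℕ // m.degree = n ∧ m j < 2} => MvPolynomial.monomial m.1 (1 : R)) (fun m : {m : Fin 3 →₀ ℕ // m.degree + 2 = n} => q * MvPolynomial.monomial m.1 (1 : R))) ∧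
      Submodule.span R (Set.range (Sum.elim (fun m : {m : Fin 3 →₀ ℕ // m.degree = n ∧ m j < 2} => MvPolynomial.monomial m.1 (1 : R)) (fun m : {m : Fin 3 →₀ ℕ // m.degree + 2 = n} => q * MvPolynomial.monomial m.1 (1 : R)))) = MvPolynomial.homogeneousSubmodule (Fin 3) R n := by
  exact main R j q hq hqj n

end Groth.Agent.S18994
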