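import Groth.Statements.S19004
import Mathlib

set_option autoImplicit false
open GIT

namespace Groth.Agent.S19004

section helpers
open MvPolynomial Matrix Equiv

lemma prodX (n : ℕ) (a : Fin n → ℕ) :
    (∏ i : Fin n, (X i : MvPolynomial (Fin n) ℤ) ^ a i) = monomial (Finsupp.equivFunOnFinite.symm a) 1 := by
  rw [MvPolynomial.monomial_eq, map_one, one_mul, Finsupp.prod_fintype _ _ (fun i => pow_zero _)]
  rfl

lemma detV (n : ℕ) : (projVandermonde (fun i : Fin n => (X i : MvPolynomial (Fin n) ℤ)) (fun _ => 1)).det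
    = ∑ σ : Perm (Fin n), (Perm.sign σ : ℤ) • monomial (Finsupp.equivFunOnFinite.symm (fun i => ((σ i : Fin n) : ℕ))) (1 : ℤ) := by
  rw [← det_transpose, det_apply']
  apply Finset.sum_congr rfl
  intro σ _
  rw [← prodX, zsmul_eq_mul]
  congr 1
  apply Finset.prod_congr rfl
  intro i _
  rw [transpose_apply, projVandermonde_apply, one_pow, mul_one]

lemma detW (n : ℕ) : (projVandermonde (fun _ => 1) (fun i : Fin n => (X i : MvPolynomial (Fin n) ℤ))).det
    = ∑ σ : Perm (Fin n), (Perm.sign σ : ℤ) • monomial (Finsupp.equivFunOnFinite.symm (fun i => (((σ i).rev : Fin n) : ℕ))) (1 : ℤ) := by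
  rw [← det_transpose, det_apply']
  apply Finset.sum_congr rfl
  intro σ _
  rw [← prodX, zsmul_eq_mul]
  congr 1
  apply Finset.prod_congr rfl
  intro i _
  rw [transpose_apply, projVandermonde_apply, one_pow, one_mul]

theorem main (n : ℕ) :
    MvPolynomial.coeff (Finsupp.equivFunOnFinite.symm (fun _ : Fin n => n - 1))
      (∏ i : Fin n, ∏ j ∈ Finset.univ.erase i, (MvPolynomial.X i - MvPolynomial.X j : MvPolynomial (Fin n) ℤ)) = (n.factorial : ℤ) := by
  classical
  have h1 : (∏ i : Fin n, ∏ j ∈ Finset.univ.erase i, (X i - X j : MvPolynomial (Fin n) ℤ))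
      = (projVandermonde (fun i : Fin n => (X i : MvPolynomial (Fin n) ℤ)) (fun _ => 1)).det *
        (projVandermonde (fun _ => 1) (fun i : Fin n => (X i : MvPolynomial (Fin n) ℤ))).det := by
    rw [det_projVandermonde, det_projVandermonde, ← Finset.prod_mul_distrib]
    have := Finset.prod_prod_Ioi_mul_eq_prod_prod_off_diag
      (fun a b : Fin n => (X b - X a : MvPolynomial (Fin n) ℤ))
    simp only [Finset.compl_singleton] at this
    rw [← this]
    apply Finset.prod_congr rfl
    intro i _
    rw [← Finset.prod_mul_distrib]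
    apply Finset.prod_congr rfl
    intro j _
    ring
  rw [h1, detV, detW, Finset.sum_mul_sum]
  simp only [smul_mul_smul_comm, monomial_mul, mul_one, coeff_sum, coeff_smul, coeff_monomial]
  have h2 : ∀ σ τ : Perm (Fin n),
      ((Finsupp.equivFunOnFinite.symm (fun i => ((σ i : Fin n) : ℕ)) +
        Finsupp.equivFunOnFinite.symm (fun i => (((τ i).rev : Fin n) : ℕ)) : Fin n →₀ ℕ)
        = Finsupp.equivFunOnFinite.symm (fun _ : Fin n => n - 1)) ↔ σ = τ := by
    intro σ τ
    constructor
    · intro h
      ext i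
      have := DFunLike.congr_fun h i
      simp only [Finsupp.coe_add, Pi.add_apply, Finsupp.equivFunOnFinite_symm_apply_apply,
        Fin.val_rev] at this
      have h1 := (σ i).isLt
      have h2 := (τ i).isLt
      omega
    · rintro rfl
      ext i
      simp only [Finsupp.coe_add, Pi.add_apply, Finsupp.equivFunOnFinite_symm_apply_apply,
        Fin.val_rev]
      have h1 := (σ i).isLt
      omega
  simp only [h2]
  simp only [smul_eq_mul, mul_ite, mul_one, mul_zero, Finset.sum_ite_eq, Finset.mem_univ, if_true]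
  have h3 : ∀ σ : Perm (Fin n), ((Perm.sign σ : ℤ) * (Perm.sign σ : ℤ)) = 1 := by
    intro σ
    rcases Int.units_eq_one_or (Perm.sign σ) with h | h <;> simp [h]
  simp only [h3]
  simp [Fintype.card_perm]


end helpers

/-- For the group PGL(n) acting on the space of n × n matrices the T-quotient is (P^{n−1})^n with Chow
ring ℚ[t_1,…,t_n]/(t_1^n,…,t_n^n), the class c_top(g/t) is the product of all roots t_i − t_j (i ≠
j), and the computation in the proof shows that this product equals n!·t_1^{n−1}⋯t_n^{n−1} in that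
ring. Stated here as the equivalent coefficient identity in ℤ[t_1,…,t_n]: the coefficient of
t_1^{n−1}⋯t_n^{n−1} in the product over ordered pairs i ≠ j of (t_i − t_j) is n!. -/
theorem result (n : ℕ) :
    MvPolynomial.coeff (Finsupp.equivFunOnFinite.symm (fun _ : Fin n => n - 1))
      (∏ i : Fin n, ∏ j ∈ Finset.univ.erase i, (MvPolynomial.X i - MvPolynomial.X j : MvPolynomial (Fin n) ℤ)) = (n.factorial : ℤ) := by
  exact main n

end Groth.Agent.S19004
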