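import Groth.Statements.S19005
import Mathlib

set_option autoImplicit false
open scoped TensorProduct
open K2Cent

namespace Groth.Agent.S19005

/-- For abelian groups X and M and ε in M with 2ε = 0 (in the source X is the character group of a split
torus and ε is the class of −1 among the units), the map x ↦ (x ⊗ x, −(x ⊗ ε)) into (X ⊗ X) × (X ⊗
M) is quadratic over ℤ, i.e. it underlies an integer quadratic map with exactly these values. -/
theorem smul_eq_sq_smul {M : Type*} [AddCommGroup M] (ε : M) (hε : 2 • ε = 0) (a : ℤ) :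
    a • ε = (a * a) • ε := by
  have h1 : Even (a * a - a) := by
    have : a * a - a = a * (a - 1) := by ring
    rw [this]
    exact Int.even_mul_pred_self a
  obtain ⟨k, hk⟩ := h1
  have h2 : (a * a - a) • ε = 0 := by
    rw [hk, ← two_mul, mul_comm, mul_smul]
    have : (2 : ℤ) • ε = 0 := by
      rw [two_zsmul]
      rw [two_nsmul] at hε
      exact hε
    rw [this, smul_zero]
  rw [sub_smul, sub_eq_zero] at h2
  exact h2.symm

theorem result (X M : Type*) [AddCommGroup X]
    [AddCommGroup M] (ε : M) (hε : 2 • ε = 0) :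
    ∃ R : QuadraticMap ℤ X (TensorProduct ℤ X X × TensorProduct ℤ X M),
      ∀ x : X, R x = (x ⊗ₜ[ℤ] x, -(x ⊗ₜ[ℤ] ε)) := by
  refine ⟨{ toFun := fun x => (x ⊗ₜ[ℤ] x, -(x ⊗ₜ[ℤ] ε))
            toFun_smul := ?_
            exists_companion' := ?_ }, fun x => rfl⟩
  · intro a x
    refine Prod.ext ?_ ?_
    · simp only [Prod.smul_fst]
      rw [TensorProduct.smul_tmul_smul]
    · simp only [Prod.smul_snd]
      rw [smul_neg, TensorProduct.smul_tmul, smul_eq_sq_smul ε hε a, ← TensorProduct.tmul_smul]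
  · refine ⟨((TensorProduct.mk ℤ X X) + (TensorProduct.mk ℤ X X).flip).compr₂
      (LinearMap.inl ℤ (TensorProduct ℤ X X) (TensorProduct ℤ X M)), ?_⟩
    intro x y
    refine Prod.ext ?_ ?_
    · change (x + y) ⊗ₜ[ℤ] (x + y) = x ⊗ₜ[ℤ] x + y ⊗ₜ[ℤ] y + (x ⊗ₜ[ℤ] y + y ⊗ₜ[ℤ] x)
      rw [TensorProduct.add_tmul, TensorProduct.tmul_add, TensorProduct.tmul_add]
      abel
    · change -((x + y) ⊗ₜ[ℤ] ε) = -(x ⊗ₜ[ℤ] ε) + -(y ⊗ₜ[ℤ] ε) + 0
      rw [TensorProduct.add_tmul, neg_add, add_zero]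

end Groth.Agent.S19005
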