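import Groth.Statements.S2952
-- import your own Groth.Agent.* helpers here

set_option autoImplicit false
open RootPairing
open scoped Pointwise
universe u
open RootD

namespace Groth.Agent.S2952

theorem reflection_conj {ι R M N : Type*} [CommRing R] [AddCommGroup M] [Module R M]
    [AddCommGroup N] [Module R N] (P : RootPairing ι R M N) (i j : ι) :
    Equiv.reflection P (P.reflectionPerm j i) =
      Equiv.reflection P j * Equiv.reflection P i * Equiv.reflection P j := by
  apply Equiv.weightHom_injective P
  rw [map_mul, map_mul]
  simp only [Equiv.weightHom_apply, Equiv.reflection_weightEquiv]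
  exact P.reflection_reflectionPerm

theorem reflection_neg {ι R M N : Type*} [CommRing R] [AddCommGroup M] [Module R M]
    [AddCommGroup N] [Module R N] (P : RootPairing ι R M N) (i : ι) :
    Equiv.reflection P (P.reflectionPerm i i) = Equiv.reflection P i := by
  rw [reflection_conj]
  have h : Equiv.reflection P i * Equiv.reflection P i = 1 := by
    rw [mul_eq_one_iff_inv_eq, Equiv.reflection_inv]
  rw [h, one_mul]

theorem reflection_mem_closure {ι R M N : Type*} [CommRing R] [CharZero R] [IsDomain R]
    [AddCommGroup M] [Module R M]
    [AddCommGroup N] [Module R N] (P : RootPairing ι R M N) [Finite ι] [P.IsCrystallographic]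
    [P.IsReduced] (b : P.Base) (i : ι) :
    Equiv.reflection P i ∈
      Subgroup.closure ((fun i : ι => Equiv.reflection P i) '' (b.support : Set ι)) := by
  refine b.induction_reflect i (p := fun i => Equiv.reflection P i ∈
      Subgroup.closure ((fun i : ι => Equiv.reflection P i) '' (b.support : Set ι))) ?_ ?_ ?_
  · intro i hi
    rwa [reflection_neg]
  · intro i hi
    exact Subgroup.subset_closure ⟨i, hi, rfl⟩
  · intro i j hi hj
    rw [reflection_conj]
    have hj' := Subgroup.subset_closure (k := (fun i : ι => Equiv.reflection P i) '' (b.support : Set ι)) ⟨j, hj, rfl⟩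
    exact mul_mem (mul_mem hj' hi) hj'

/-- For a finite crystallographic reduced root pairing over a characteristic-zero domain with a base b:
(1) the Weyl group is generated by the reflections in the simple roots; (2) every root is the image
of a simple root under an element of the Weyl group (acting on the indexing type). (The published
statement also covers the non-reduced case.) -/
theorem result {ι R M N : Type*} [CommRing R] [CharZero R] [IsDomain R] [AddCommGroup M] [Module R M]
    [AddCommGroup N] [Module R N] (P : RootPairing ι R M N) [Finite ι] [P.IsCrystallographic] [P.IsReduced]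
    (b : P.Base) :
    Subgroup.closure ((fun i : ι => Equiv.reflection P i) '' (b.support : Set ι)) = P.weylGroup ∧
    ∀ i : ι, ∃ g : P.Aut, g ∈ P.weylGroup ∧ ∃ j ∈ b.support, g • j = i := by
  refine ⟨?_, ?_⟩
  · apply le_antisymm
    · exact Subgroup.closure_mono (by rintro _ ⟨i, -, rfl⟩; exact ⟨i, rfl⟩)
    · rw [RootPairing.weylGroup, Subgroup.closure_le]
      rintro _ ⟨i, rfl⟩
      exact reflection_mem_closure P b i
  · intro i
    refine b.induction_reflect i (p := fun i => ∃ g : P.Aut, g ∈ P.weylGroup ∧ ∃ j ∈ b.support, g • j = i)
      ?_ ?_ ?_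
    · rintro i ⟨g, hg, j, hj, rfl⟩
      exact ⟨Equiv.reflection P (g • j) * g, mul_mem (P.reflection_mem_weylGroup _) hg, j, hj,
        by rw [mul_smul]; rfl⟩
    · intro i hi
      exact ⟨1, one_mem _, i, hi, one_smul _ _⟩
    · rintro i j ⟨g, hg, k, hk, rfl⟩ hj
      exact ⟨Equiv.reflection P j * g, mul_mem (P.reflection_mem_weylGroup _) hg, k, hk,
        by rw [mul_smul]; rfl⟩

end Groth.Agent.S2952
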