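import Groth.Statements.S19007
import Groth.Agent.S2952

set_option autoImplicit false
universe u v w x
open RootD

namespace Groth.Agent.S19007

lemma Q_coreflection {ι R M N : Type*} [CommRing R] [AddCommGroup M] [Module R M]
    [AddCommGroup N] [Module R N] (P : RootPairing ι R M N) (Q : QuadraticMap R N R) (i : ι)
    (y : N) :
    Q (P.coreflection i y) = Q y + (P.root' i y) *
      ((P.root' i y) * Q (P.coroot i) - QuadraticMap.polar Q y (P.coroot i)) := by
  rw [P.coreflection_apply, sub_eq_add_neg, ← neg_smul, QuadraticMap.map_add (⇑Q),
    QuadraticMap.map_smul, QuadraticMap.polar_smul_right]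
  simp only [smul_eq_mul]
  ring

/-- the linear functional whose vanishing on the coroot span expresses invariance under `s_i` -/
noncomputable def lam {ι R M N : Type*} [CommRing R] [AddCommGroup M] [Module R M]
    [AddCommGroup N] [Module R N] (P : RootPairing ι R M N) (Q : QuadraticMap R N R) (i : ι) :
    N →ₗ[R] R :=
  Q (P.coroot i) • P.root' i - (QuadraticMap.polarBilin Q).flip (P.coroot i)

lemma lam_apply {ι R M N : Type*} [CommRing R] [AddCommGroup M] [Module R M]
    [AddCommGroup N] [Module R N] (P : RootPairing ι R M N) (Q : QuadraticMap R N R) (i : ι)
    (y : N) : lam P Q i y = (P.root' i y) * Q (P.coroot i) - QuadraticMap.polar Q y (P.coroot i) := by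
  simp [lam, mul_comm]

lemma Q_coreflection' {ι R M N : Type*} [CommRing R] [AddCommGroup M] [Module R M]
    [AddCommGroup N] [Module R N] (P : RootPairing ι R M N) (Q : QuadraticMap R N R) (i : ι)
    (y : N) : Q (P.coreflection i y) = Q y + (P.root' i y) * lam P Q i y := by
  rw [Q_coreflection, lam_apply]

lemma toLinearMap_weightMap {ι R M N : Type*} [CommRing R] [AddCommGroup M] [Module R M]
    [AddCommGroup N] [Module R N] (P : RootPairing ι R M N) (g : P.Aut) (m : M) (n : N) :
    P.toLinearMap (g.weightMap m) n = P.toLinearMap m (g.coweightMap n) := by
  have := LinearMap.congr_fun (RootPairing.Hom.weight_coweight_transpose_apply P P n g.toHom) m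
  simpa using this

lemma coweightMap_mem_span {ι R M N : Type*} [CommRing R] [AddCommGroup M] [Module R M]
    [AddCommGroup N] [Module R N] (P : RootPairing ι R M N) (g : P.Aut) (y : N)
    (hy : y ∈ Submodule.span R (Set.range P.coroot)) :
    g.coweightMap y ∈ Submodule.span R (Set.range P.coroot) := by
  induction hy using Submodule.span_induction with
  | mem x hx =>
    obtain ⟨i, rfl⟩ := hx
    rw [RootPairing.Hom.coroot_coweightMap_apply P P i g.toHom]
    exact Submodule.subset_span (Set.mem_range_self _)
  | zero => rw [map_zero]; exact Submodule.zero_mem _
  | add x y _ _ hx hy => rw [map_add]; exact Submodule.add_mem _ hx hy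
  | smul t x _ hx => rw [map_smul]; exact Submodule.smul_mem _ _ hx

lemma coreflection_mem_span {ι R M N : Type*} [CommRing R] [AddCommGroup M] [Module R M]
    [AddCommGroup N] [Module R N] (P : RootPairing ι R M N) (i : ι) (y : N)
    (hy : y ∈ Submodule.span R (Set.range P.coroot)) :
    P.coreflection i y ∈ Submodule.span R (Set.range P.coroot) := by
  rw [P.coreflection_apply]
  exact Submodule.sub_mem _ hy
    (Submodule.smul_mem _ _ (Submodule.subset_span (Set.mem_range_self i)))

lemma coweightMap_coreflection {ι R M N : Type*} [CommRing R] [AddCommGroup M] [Module R M]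
    [AddCommGroup N] [Module R N] (P : RootPairing ι R M N) (g : P.Aut) (i j : ι)
    (hgj : g • j = i) (y : N) :
    g.coweightMap (P.coreflection i y) = P.coreflection j (g.coweightMap y) := by
  have h1 : g.coweightMap (P.coroot i) = P.coroot j := by
    rw [RootPairing.Hom.coroot_coweightMap_apply P P i g.toHom]
    congr 1
    rw [Equiv.symm_apply_eq]
    exact hgj.symm
  have h2 : P.root' i y = P.root' j (g.coweightMap y) := by
    change P.toLinearMap (P.root i) y = P.toLinearMap (P.root j) (g.coweightMap y)
    rw [← toLinearMap_weightMap, RootPairing.Hom.root_weightMap_apply P P j g.toHom]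
    have h3 : g.indexEquiv j = i := hgj
    rw [h3]
  rw [P.coreflection_apply, P.coreflection_apply, map_sub, map_smul, h1, h2]

/-- Let P be a finite reduced crystallographic root pairing over an integral domain of characteristic
zero, b a base of P (a system of simple roots) and Q a quadratic form on the coweight module with
polar form B. Then Q is invariant under all root reflections (equivalently under the Weyl group) on
the span of the coroots if and only if for all pairs of distinct simple roots α_i ≠ α_j one has
B(α_i^∨, α_j^∨) = ⟨α_j, α_i^∨⟩ Q(α_j^∨). (In the source the form is integer-valued on the lattice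
spanned by the coroots and the condition says that the bilinear form lies in the kernel of the last
map of a three-term complex built from the Bruhat cells of codimension at most two; here the form
takes values in the base ring.) -/
theorem result {ι : Type u} {R : Type v} {M : Type w} {N : Type x} [CommRing R] [IsDomain R] [CharZero R]
    [AddCommGroup M] [Module R M] [AddCommGroup N] [Module R N] (P : RootPairing ι R M N)
    [Finite ι] [P.IsCrystallographic] [P.IsReduced] (b : P.Base) (Q : QuadraticMap R N R) :
    (∀ i : ι, ∀ y ∈ Submodule.span R (Set.range P.coroot), Q (P.coreflection i y) = Q y) ↔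
      ∀ i ∈ b.support, ∀ j ∈ b.support, i ≠ j →
        QuadraticMap.polar Q (P.coroot i) (P.coroot j) = P.pairing j i * Q (P.coroot j) := by
  classical
  have htwo : ∀ j : ι, P.root' j (P.coroot j) = 2 := fun j => P.root_coroot_two j
  have hlamself : ∀ j : ι, lam P Q j (P.coroot j) = 0 := by
    intro j
    rw [lam_apply, QuadraticMap.polar_self, htwo, two_smul]
    ring
  constructor
  · intro hinv i hi j hj hij
    have key : ∀ y ∈ Submodule.span R (Set.range P.coroot), P.root' j y ≠ 0 →
        lam P Q j y = 0 := by
      intro y hy hne
      have h1 := hinv j y hy
      rw [Q_coreflection'] at h1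
      have h2 : P.root' j y * lam P Q j y = 0 := by linear_combination h1
      exact (mul_eq_zero.mp h2).resolve_left hne
    have hlam : ∀ y ∈ Submodule.span R (Set.range P.coroot), lam P Q j y = 0 := by
      intro y hy
      by_cases hne : P.root' j y = 0
      · have hc : P.coroot j ∈ Submodule.span R (Set.range P.coroot) :=
          Submodule.subset_span (Set.mem_range_self j)
        have h3 := key (y + P.coroot j) (Submodule.add_mem _ hy hc) (by
          rw [map_add, hne, zero_add, htwo]
          exact two_ne_zero)
        rw [map_add, hlamself, add_zero] at h3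
        exact h3
      · exact key y hy hne
    have h4 := hlam (P.coroot i) (Submodule.subset_span (Set.mem_range_self i))
    rw [lam_apply] at h4
    have e : P.root' j (P.coroot i) = P.pairing j i := rfl
    rw [e] at h4
    linear_combination -h4
  · intro hrel
    have hlam : ∀ j ∈ b.support, ∀ y ∈ Submodule.span R (Set.range P.coroot),
        lam P Q j y = 0 := by
      intro j hj y hy
      have hy' : y ∈ Submodule.span R (P.coroot '' (b.support : Set ι)) := by
        rw [b.span_coroot_support]
        exact hy
      have hle : Submodule.span R (P.coroot '' (b.support : Set ι)) ≤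
          LinearMap.ker (lam P Q j) := by
        rw [Submodule.span_le]
        rintro _ ⟨i, hi, rfl⟩
        rw [SetLike.mem_coe, LinearMap.mem_ker]
        by_cases hij : i = j
        · rw [hij]
          exact hlamself j
        · rw [lam_apply, hrel i hi j hj hij]
          have e : P.root' j (P.coroot i) = P.pairing j i := rfl
          rw [e]
          ring
      exact hle hy'
    have hsimple : ∀ j ∈ b.support, ∀ y ∈ Submodule.span R (Set.range P.coroot),
        Q (P.coreflection j y) = Q y := by
      intro j hj y hy
      rw [Q_coreflection', hlam j hj y hy, mul_zero, add_zero]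
    have hgrp : ∀ g : P.Aut,
        g ∈ Subgroup.closure ((fun i : ι => RootPairing.Equiv.reflection P i) ''
          (b.support : Set ι)) →
        ∀ y ∈ Submodule.span R (Set.range P.coroot), Q (g.coweightMap y) = Q y := by
      intro g hg
      induction hg using Subgroup.closure_induction with
      | mem x hx =>
        obtain ⟨j, hj, rfl⟩ := hx
        intro y hy
        exact hsimple j hj y hy
      | one => intro y _; rfl
      | mul a c _ _ iha ihc =>
        intro y hy
        have h1 : (a * c).coweightMap y = c.coweightMap (a.coweightMap y) := rfl
        rw [h1, ihc _ (coweightMap_mem_span P a y hy), iha y hy]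
      | inv a _ iha =>
        intro y hy
        have h1 : a.coweightMap (a⁻¹.coweightMap y) = y := by
          have h2 : (a⁻¹ * a).coweightMap y = a.coweightMap (a⁻¹.coweightMap y) := rfl
          rw [← h2, inv_mul_cancel]
          rfl
        rw [← iha _ (coweightMap_mem_span P a⁻¹ y hy), h1]
    intro i y hy
    obtain ⟨g, hg, j, hj, hgj⟩ := (Groth.Agent.S2952.result P b).2 i
    rw [← (Groth.Agent.S2952.result P b).1] at hg
    rw [← hgrp g hg _ (coreflection_mem_span P i y hy), coweightMap_coreflection P g i j hgj,
      hsimple j hj _ (coweightMap_mem_span P g y hy), hgrp g hg y hy]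

end Groth.Agent.S19007
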