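import Groth.Statements.S19008
import Mathlib

set_option autoImplicit false
universe u v w x
open RootD

namespace Groth.Agent.S19008

section

open RootPairing

variable {ι R M N : Type*} [CommRing R] [IsDomain R] [CharZero R]
    [AddCommGroup M] [Module R M] [AddCommGroup N] [Module R N] {P : RootPairing ι R M N}
    [Finite ι] [P.IsCrystallographic] [P.IsReduced] (b : P.Base)

theorem pair_facts {i j : ι} (hi : i ∈ b.support) (hj : j ∈ b.support) (hij : i ≠ j) :
    P.pairingIn ℤ i j ≤ 0 ∧ P.pairingIn ℤ j i ≤ 0 ∧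
      (P.pairingIn ℤ i j = 0 ↔ P.pairingIn ℤ j i = 0) ∧
      (P.pairingIn ℤ i j ≤ -2 → P.pairingIn ℤ j i = -1) := by
  have h1 := b.pairingIn_le_zero_of_ne hij hi hj
  have h2 := b.pairingIn_le_zero_of_ne hij.symm hj hi
  have h3 := P.pairingIn_pairingIn_mem_set_of_isCrystal_of_isRed' i j
    (fun h => hij (P.root.injective h)) (b.root_ne_neg_of_ne hi hj hij)
  simp only [Set.mem_insert_iff, Set.mem_singleton_iff, Prod.mk.injEq] at h3
  refine ⟨h1, h2, ⟨fun h => ?_, fun h => ?_⟩, fun h => ?_⟩ <;> omega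

/-- positivity of the canonical form: no nonzero nonnegative vector with all "pairings" nonpositive -/
theorem no_nonpos_vector (T : Finset ι) (hT : T ⊆ b.support) (c : ι → ℤ)
    (hc0 : ∀ v ∈ T, 0 ≤ c v) (hc1 : ∃ v ∈ T, c v ≠ 0)
    (hE : ∀ v ∈ T, ∑ w ∈ T, c w * P.pairingIn ℤ w v ≤ 0) : False := by
  classical
  let _i : Fintype ι := Fintype.ofFinite ι
  obtain ⟨B, hB⟩ : ∃ B : LinearMap.BilinForm ℤ (P.rootSpan ℤ), B = (P.posRootForm ℤ).posForm :=
    ⟨_, rfl⟩
  have hG2 : ∀ i j, 2 * B (P.rootSpanMem ℤ i) (P.rootSpanMem ℤ j) =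
      P.pairingIn ℤ i j * B (P.rootSpanMem ℤ j) (P.rootSpanMem ℤ j) := by
    intro i j
    rw [hB]
    apply FaithfulSMul.algebraMap_injective ℤ R
    have h := (P.posRootForm ℤ).toInvariantForm.two_mul_apply_root_root i j
    rw [map_mul, map_mul, RootPositiveForm.algebraMap_posForm, RootPositiveForm.algebraMap_posForm,
      algebraMap_pairingIn, map_ofNat]
    exact h
  have hGpos : ∀ i, 0 < B (P.rootSpanMem ℤ i) (P.rootSpanMem ℤ i) := by
    intro i
    rw [hB]
    exact (P.posRootForm ℤ).zero_lt_posForm_apply_root i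
  obtain ⟨x, hxdef⟩ : ∃ x : P.rootSpan ℤ, x = ∑ w ∈ T, c w • P.rootSpanMem ℤ w := ⟨_, rfl⟩
  have hx : x ≠ 0 := by
    intro hx0
    obtain ⟨v, hvT, hcv⟩ := hc1
    have h0 : ((x : P.rootSpan ℤ) : M) = 0 := by rw [hx0]; rfl
    rw [hxdef] at h0
    simp only [Submodule.coe_sum, Submodule.coe_smul] at h0
    have h1 : ∑ w ∈ T, ((c w : ℤ) : R) • P.root w = 0 := by
      simp only [Int.cast_smul_eq_zsmul]
      exact h0
    have h2 := linearIndepOn_iff'.mp b.linearIndepOn_root T (fun w => ((c w : ℤ) : R))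
      (by exact_mod_cast hT) h1 v hvT
    exact hcv (by exact_mod_cast h2)
  have hpos : 0 < B x x := by
    rw [hB]; exact P.posRootForm_posForm_pos_of_ne_zero ℤ hx
  have hBx : ∀ v, B x (P.rootSpanMem ℤ v) =
      ∑ w ∈ T, c w * B (P.rootSpanMem ℤ w) (P.rootSpanMem ℤ v) := by
    intro v
    rw [hxdef, map_sum, LinearMap.sum_apply]
    refine Finset.sum_congr rfl (fun w _ => ?_)
    rw [map_smul, LinearMap.smul_apply, smul_eq_mul]
  have hBxx : B x x = ∑ v ∈ T, c v * B x (P.rootSpanMem ℤ v) := by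
    have h : B x x = B x (∑ v ∈ T, c v • P.rootSpanMem ℤ v) := by rw [← hxdef]
    rw [h, map_sum]
    refine Finset.sum_congr rfl (fun v _ => ?_)
    rw [map_smul, smul_eq_mul]
  have hBx2 : ∀ v, 2 * B x (P.rootSpanMem ℤ v) =
      (∑ w ∈ T, c w * P.pairingIn ℤ w v) * B (P.rootSpanMem ℤ v) (P.rootSpanMem ℤ v) := by
    intro v
    rw [hBx v, Finset.mul_sum, Finset.sum_mul]
    refine Finset.sum_congr rfl (fun w _ => ?_)
    have := hG2 w v
    linear_combination c w * this
  have hfinal : 2 * B x x ≤ 0 := by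
    rw [hBxx, Finset.mul_sum]
    apply Finset.sum_nonpos
    intro v hv
    have h1 := hc0 v hv
    have h2 := hE v hv
    have h3 := hGpos v
    have h4 := hBx2 v
    have h5 : (∑ w ∈ T, c w * P.pairingIn ℤ w v) *
        B (P.rootSpanMem ℤ v) (P.rootSpanMem ℤ v) ≤ 0 := by
      have := mul_nonneg (neg_nonneg.2 h2) h3.le
      linarith
    have h6 : 2 * B x (P.rootSpanMem ℤ v) ≤ 0 := by rw [h4]; exact h5
    have h7 := mul_nonneg h1 (neg_nonneg.2 h6)
    linarith
  linarith

/-- every nonempty set of simple roots contains a "good leaf" -/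
theorem exists_good (T : Finset ι) (hT : T ⊆ b.support) (hne : T.Nonempty) :
    ∃ v ∈ T, ∀ u ∈ T, u ≠ v → P.pairingIn ℤ u v ≠ 0 →
      (P.pairingIn ℤ v u = -1 ∧ ∀ u' ∈ T, u' ≠ v → P.pairingIn ℤ u' v ≠ 0 → u' = u) := by
  classical
  by_contra hcon
  have hbad : ∀ v ∈ T, ¬ (∀ u ∈ T, u ≠ v → P.pairingIn ℤ u v ≠ 0 →
      (P.pairingIn ℤ v u = -1 ∧ ∀ u' ∈ T, u' ≠ v → P.pairingIn ℤ u' v ≠ 0 → u' = u)) :=
    fun v hv hgood => hcon ⟨v, hv, hgood⟩
  obtain ⟨nb, hnb⟩ : ∃ nb : ι → Finset ι,
      nb = fun v => T.filter (fun u => u ≠ v ∧ P.pairingIn ℤ u v ≠ 0) := ⟨_, rfl⟩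
  have mem_nb : ∀ v u, u ∈ nb v ↔ u ∈ T ∧ u ≠ v ∧ P.pairingIn ℤ u v ≠ 0 := by
    intro v u; rw [hnb]; exact Finset.mem_filter
  have nb_symm : ∀ v u, v ∈ T → u ∈ nb v → v ∈ nb u := by
    intro v u hv hu
    obtain ⟨huT, huv, hauv⟩ := (mem_nb v u).1 hu
    refine (mem_nb u v).2 ⟨hv, huv.symm, ?_⟩
    have := (pair_facts b (hT huT) (hT hv) huv).2.2.1
    exact fun h => hauv (this.2 h)
  -- a non-good vertex with at most one neighbour
  have NG : ∀ w ∈ T, (nb w).card ≤ 1 → ∀ v ∈ nb w, P.pairingIn ℤ w v ≤ -2 := by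
    intro w hw hcard v hv
    by_contra hlt
    apply hbad w hw
    intro u hu huw hauw
    have hu_nb : u ∈ nb w := (mem_nb w u).2 ⟨hu, huw, hauw⟩
    have huv : u = v := Finset.card_le_one.mp hcard u hu_nb v hv
    rw [huv]
    obtain ⟨hvT, hvw, havw⟩ := (mem_nb w v).1 hv
    have pf := pair_facts b (hT hvT) (hT hw) hvw
    refine ⟨?_, ?_⟩
    · have h1 := pf.2.1
      have h2 : P.pairingIn ℤ w v ≠ 0 := fun h => havw (pf.2.2.1.2 h)
      omega
    · intro u' hu' hu'w hau'w
      exact Finset.card_le_one.mp hcard u' ((mem_nb w u').2 ⟨hu', hu'w, hau'w⟩) v hv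
  obtain ⟨c, hc⟩ : ∃ c : ι → ℤ, c = fun v => if 2 ≤ (nb v).card then 2 else 1 := ⟨_, rfl⟩
  have hc2 : ∀ v, 2 ≤ (nb v).card → c v = 2 := by
    intro v h; rw [hc]; simp [h]
  have hc1 : ∀ v, ¬ 2 ≤ (nb v).card → c v = 1 := by
    intro v h; rw [hc]; simp [h]
  have hcpos : ∀ v, 1 ≤ c v := by
    intro v
    by_cases h : 2 ≤ (nb v).card
    · rw [hc2 v h]; norm_num
    · rw [hc1 v h]
  -- each neighbour contributes at most -2
  have T1 : ∀ v ∈ T, ∀ w ∈ nb v, c w * P.pairingIn ℤ w v ≤ -2 := by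
    intro v hv w hw
    obtain ⟨hwT, hwv, hawv⟩ := (mem_nb v w).1 hw
    have pf := pair_facts b (hT hwT) (hT hv) hwv
    by_cases h : 2 ≤ (nb w).card
    · rw [hc2 w h]
      have := pf.1
      omega
    · rw [hc1 w h]
      have := NG w hwT (by omega) v (nb_symm v w hv hw)
      omega
  -- degree is at least one
  have hdeg : ∀ v ∈ T, 1 ≤ (nb v).card := by
    intro v hv
    by_contra h0
    have hempty : nb v = ∅ := Finset.card_eq_zero.mp (by omega)
    apply hbad v hv
    intro u hu huv hauv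
    have : u ∈ nb v := (mem_nb v u).2 ⟨hu, huv, hauv⟩
    rw [hempty] at this
    exact absurd this (Finset.notMem_empty u)
  apply no_nonpos_vector b T hT c (fun v _ => by have := hcpos v; omega)
    (by obtain ⟨v, hv⟩ := hne; exact ⟨v, hv, by have := hcpos v; omega⟩)
  intro v hv
  rw [← Finset.add_sum_erase T _ hv]
  have hsub : nb v ⊆ T.erase v := by
    intro u hu
    obtain ⟨huT, huv, -⟩ := (mem_nb v u).1 hu
    exact Finset.mem_erase.2 ⟨huv, huT⟩
  have hzero : ∀ u ∈ T.erase v, u ∉ nb v → c u * P.pairingIn ℤ u v = 0 := by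
    intro u hu hunb
    obtain ⟨huv, huT⟩ := Finset.mem_erase.1 hu
    have : P.pairingIn ℤ u v = 0 := by
      by_contra h
      exact hunb ((mem_nb v u).2 ⟨huT, huv, h⟩)
    rw [this, mul_zero]
  rw [← Finset.sum_subset hsub hzero, P.pairingIn_same ℤ v]
  have hsum : ∑ w ∈ nb v, c w * P.pairingIn ℤ w v ≤ (nb v).card • (-2 : ℤ) :=
    Finset.sum_le_card_nsmul _ _ _ (T1 v hv)
  rw [nsmul_eq_mul] at hsum
  have h1 := hdeg v hv
  by_cases h : 2 ≤ (nb v).card
  · rw [hc2 v h]
    have : (2 : ℤ) ≤ ((nb v).card : ℤ) := by exact_mod_cast h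
    linarith
  · rw [hc1 v h]
    have : (1 : ℤ) ≤ ((nb v).card : ℤ) := by exact_mod_cast h1
    linarith

/-- solvability of the edge system on every set of simple roots -/
theorem solve (d : ι → ι → ℤ)
    (hd : ∀ i ∈ b.support, ∀ j ∈ b.support, i ≠ j → P.pairingIn ℤ i j = 0 → d i j = d j i) :
    ∀ (n : ℕ) (T : Finset ι), T.card = n → T ⊆ b.support →
      ∃ q : ι → ℤ, ∀ i ∈ T, ∀ j ∈ T, i ≠ j →
        d i j + P.pairingIn ℤ j i * q j = d j i + P.pairingIn ℤ i j * q i := by
  classical
  intro n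
  induction n with
  | zero =>
    intro T hcard _
    rw [Finset.card_eq_zero] at hcard
    exact ⟨fun _ => 0, fun i hi => by rw [hcard] at hi; exact absurd hi (Finset.notMem_empty i)⟩
  | succ n ih =>
    intro T hcard hT
    have hne : T.Nonempty := Finset.card_pos.mp (by omega)
    obtain ⟨v, hv, hgood⟩ := exists_good b T hT hne
    obtain ⟨q, hq⟩ := ih (T.erase v) (by rw [Finset.card_erase_of_mem hv]; omega)
      (fun x hx => hT (Finset.mem_of_mem_erase hx))
    -- zero-pairing pairs are automatic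
    have hzero : ∀ (q' : ι → ℤ) i j, i ∈ T → j ∈ T → i ≠ j → P.pairingIn ℤ i j = 0 →
        d i j + P.pairingIn ℤ j i * q' j = d j i + P.pairingIn ℤ i j * q' i := by
      intro q' i j hi hj hij h0
      have h0' : P.pairingIn ℤ j i = 0 := (pair_facts b (hT hi) (hT hj) hij).2.2.1.1 h0
      rw [h0, h0', zero_mul, zero_mul, hd i (hT hi) j (hT hj) hij h0]
    by_cases hn : ∃ u ∈ T, u ≠ v ∧ P.pairingIn ℤ u v ≠ 0
    · obtain ⟨u, hu, huv, hauv⟩ := hn
      obtain ⟨hvu1, huniq⟩ := hgood u hu huv hauv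
      refine ⟨Function.update q v (d u v - d v u - P.pairingIn ℤ u v * q u), ?_⟩
      -- the equation for pairs (v, j)
      have hvj : ∀ j ∈ T, j ≠ v →
          d v j + P.pairingIn ℤ j v *
              Function.update q v (d u v - d v u - P.pairingIn ℤ u v * q u) j =
            d j v + P.pairingIn ℤ v j *
              Function.update q v (d u v - d v u - P.pairingIn ℤ u v * q u) v := by
        intro j hj hjv
        by_cases hju : j = u
        · rw [hju, Function.update_self, Function.update_of_ne huv, hvu1]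
          ring
        · have h0 : P.pairingIn ℤ j v = 0 := by
            by_contra h
            exact hju (huniq j hj hjv h)
          have h0' : P.pairingIn ℤ v j = 0 :=
            (pair_facts b (hT hj) (hT hv) hjv).2.2.1.1 h0
          exact hzero _ v j hv hj (Ne.symm hjv) h0'
      intro i hi j hj hij
      by_cases hiv : i = v
      · rw [hiv] at hij ⊢
        exact hvj j hj (Ne.symm hij)
      · by_cases hjv : j = v
        · rw [hjv]
          exact (hvj i hi hiv).symm
        · rw [Function.update_of_ne hiv, Function.update_of_ne hjv]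
          exact hq i (Finset.mem_erase.2 ⟨hiv, hi⟩) j (Finset.mem_erase.2 ⟨hjv, hj⟩) hij
    · push Not at hn
      refine ⟨q, ?_⟩
      intro i hi j hj hij
      by_cases hiv : i = v
      · have h0 : P.pairingIn ℤ j v = 0 := hn j hj (by rw [← hiv]; exact Ne.symm hij)
        have h0' : P.pairingIn ℤ i j = 0 := by
          rw [hiv]
          exact (pair_facts b (hT hj) (hT hv) (by rw [← hiv]; exact Ne.symm hij)).2.2.1.1 h0
        exact hzero q i j hi hj hij h0'
      · by_cases hjv : j = v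
        · have h0 : P.pairingIn ℤ i j = 0 := by rw [hjv]; exact hn i hi hiv
          exact hzero q i j hi hj hij h0
        · exact hq i (Finset.mem_erase.2 ⟨hiv, hi⟩) j (Finset.mem_erase.2 ⟨hjv, hj⟩) hij

end



/-- Let P be a finite reduced crystallographic root pairing over an integral domain of characteristic
zero and b a base (simple roots α_i, i in the support of b), with Cartan integers a_ij = ⟨α_i,
α_j^∨⟩. An integer-valued bilinear form C on the lattice with basis the simple coroots is an integer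
matrix C_ij = C(α_i^∨, α_j^∨), and the component of the last map of the complex at the pair (i, j),
i ≠ j, is C ↦ C(α_i^∨, α_j^∨) + C(α_j^∨, s_j(α_i^∨)) = C_ij + C_ji − a_ji C_jj; the pairs (i, j) and
(j, i) index the same component exactly when α_i and α_j are orthogonal. This map is surjective: for
every family of integers d_ij (i ≠ j in the support) with d_ij = d_ji whenever a_ij = 0 there is an
integer matrix C with C_ij + C_ji − a_ji C_jj = d_ij for all i ≠ j in the support. -/
theorem result {ι : Type u} {R : Type v} {M : Type w} {N : Type x} [CommRing R] [IsDomain R] [CharZero R]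
    [AddCommGroup M] [Module R M] [AddCommGroup N] [Module R N] (P : RootPairing ι R M N)
    [Finite ι] [P.IsCrystallographic] [P.IsReduced] (b : P.Base) (d : ι → ι → ℤ)
    (hd : ∀ i ∈ b.support, ∀ j ∈ b.support, i ≠ j → P.pairingIn ℤ i j = 0 → d i j = d j i) :
    ∃ C : ι → ι → ℤ, ∀ i ∈ b.support, ∀ j ∈ b.support, i ≠ j →
      C i j + C j i - P.pairingIn ℤ j i * C j j = d i j := by
  classical
  obtain ⟨q, hq⟩ := solve b d hd b.support.card b.support rfl (Finset.Subset.refl _)
  obtain ⟨e, he⟩ := Countable.exists_injective_nat ι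
  refine ⟨fun i j => if i = j then q i else if e i < e j then d i j + P.pairingIn ℤ j i * q j else 0,
    ?_⟩
  intro i hi j hj hij
  have hji : j ≠ i := Ne.symm hij
  have hne : e i ≠ e j := fun h => hij (he h)
  have hE := hq i hi j hj hij
  simp only [if_neg hij, if_neg hji, if_true]
  by_cases hlt : e i < e j
  · have hnlt : ¬ e j < e i := by omega
    rw [if_pos hlt, if_neg hnlt]
    ring
  · have hlt' : e j < e i := by omega
    rw [if_neg hlt, if_pos hlt']
    linarith


end Groth.Agent.S19008
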