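import Groth.Statements.S19010
import Groth.Agent.Lib.Helper10.RootQuad

set_option autoImplicit false
universe u v w x
open RootD

namespace Groth.Agent.S19010

/-- Let P be a root pairing over an integral domain R of characteristic zero (roots α acting on the
coweight module N through reflections y ↦ y − ⟨α, y⟩ α^∨), D ⊆ N a submodule containing every coroot
and such that every element of D has a positive integer multiple in the span of the coroots (the
derived part), and Y₀ a complement of D in N. Let Q' be a quadratic form on N invariant under all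
root reflections. Then restriction to Y₀ is a bijection from the set of quadratic forms on N that
are invariant under all root reflections and agree with Q' on D onto the set of all quadratic forms
on Y₀. (In the source R = ℤ and N = Y₀ ⊕ Y_der is the cocharacter lattice of a split reductive
group; forms take values in R here.) -/
theorem result {ι : Type u} {R : Type v} {M : Type w} {N : Type x} [CommRing R] [IsDomain R] [CharZero R]
    [AddCommGroup M] [Module R M] [AddCommGroup N] [Module R N] (P : RootPairing ι R M N)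
    (D Y₀ : Submodule R N) (hD : ∀ i : ι, P.coroot i ∈ D)
    (hDsat : ∀ y ∈ D, ∃ n : ℕ, 0 < n ∧ n • y ∈ Submodule.span R (Set.range P.coroot))
    (hc : IsCompl Y₀ D)
    (Q' : QuadraticMap R N R) (hQ' : ∀ (i : ι) (y : N), Q' (P.coreflection i y) = Q' y) :
    Set.BijOn (fun Q : QuadraticMap R N R => Q.comp Y₀.subtype)
      {Q | (∀ (i : ι) (y : N), Q (P.coreflection i y) = Q y) ∧ ∀ y ∈ D, Q y = Q' y} Set.univ := by
  refine ⟨fun _ _ => Set.mem_univ _, ?_, ?_⟩
  · -- injectivity
    rintro Q₁ ⟨h1inv, h1D⟩ Q₂ ⟨h2inv, h2D⟩ hres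
    have hres' : ∀ y₀ ∈ Y₀, Q₁ y₀ = Q₂ y₀ := by
      intro y₀ hy₀
      have := congrArg (fun q : QuadraticMap R Y₀ R => q ⟨y₀, hy₀⟩) hres
      simpa using this
    -- polar forms agree on Y₀ × D
    have hpol : ∀ y₀ : N, ∀ d ∈ D, QuadraticMap.polar Q₁ y₀ d = QuadraticMap.polar Q₂ y₀ d := by
      intro y₀ d hd
      obtain ⟨n, hn, hnd⟩ := hDsat d hd
      have hlin : Set.EqOn (QuadraticMap.polarBilin Q₁ y₀) (QuadraticMap.polarBilin Q₂ y₀)
          (Submodule.span R (Set.range P.coroot)) := by
        apply LinearMap.eqOn_span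
        rintro _ ⟨i, rfl⟩
        change QuadraticMap.polar Q₁ y₀ (P.coroot i) = QuadraticMap.polar Q₂ y₀ (P.coroot i)
        rw [Groth.Agent.Lib.helper10.polar_coroot_of_invariant_on P Q₁ i ⊤ Submodule.mem_top
            (fun y _ => h1inv i y) y₀ Submodule.mem_top,
          Groth.Agent.Lib.helper10.polar_coroot_of_invariant_on P Q₂ i ⊤ Submodule.mem_top
            (fun y _ => h2inv i y) y₀ Submodule.mem_top, h1D _ (hD i), h2D _ (hD i)]
      have h3 := hlin hnd
      change QuadraticMap.polar Q₁ y₀ (n • d) = QuadraticMap.polar Q₂ y₀ (n • d) at h3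
      rw [← Nat.cast_smul_eq_nsmul R n d, QuadraticMap.polar_smul_right,
        QuadraticMap.polar_smul_right] at h3
      simp only [smul_eq_mul] at h3
      have hn0 : (n : R) ≠ 0 := Nat.cast_ne_zero.mpr (Nat.pos_iff_ne_zero.mp hn)
      exact mul_left_cancel₀ hn0 h3
    ext y
    obtain ⟨y₀, hy₀, d, hd, rfl⟩ : ∃ y₀ ∈ Y₀, ∃ d ∈ D, y₀ + d = y := by
      have : y ∈ Y₀ ⊔ D := hc.sup_eq_top ▸ Submodule.mem_top
      exact Submodule.mem_sup.mp this
    rw [QuadraticMap.map_add (⇑Q₁), QuadraticMap.map_add (⇑Q₂), hres' y₀ hy₀, h1D d hd, h2D d hd,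
      hpol y₀ d hd]
  · -- surjectivity
    intro q _
    set pY : N →ₗ[R] Y₀ := Y₀.projectionOnto D hc with hpY
    have hpYD : ∀ d ∈ D, pY d = 0 := fun d hd => Submodule.projectionOnto_apply_of_mem_right hc hd
    refine ⟨Q' + (q - Q'.comp Y₀.subtype).comp pY, ⟨?_, ?_⟩, ?_⟩
    · intro i y
      have e1 : pY (P.coreflection i y) = pY y := by
        rw [P.coreflection_apply, map_sub, map_smul, hpYD _ (hD i), smul_zero, sub_zero]
      simp only [add_apply, QuadraticMap.comp_apply]
      rw [e1, hQ']
    · intro d hd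
      simp only [add_apply, QuadraticMap.comp_apply]
      rw [hpYD d hd, QuadraticMap.map_zero, add_zero]
    · ext y₀
      simp only [add_apply, QuadraticMap.comp_apply, sub_apply, Submodule.subtype_apply]
      rw [Submodule.projectionOnto_apply_left]
      ring

end Groth.Agent.S19010
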