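import Groth.Statements.S19011
import Groth.Agent.Lib.Helper3.IntForm
import Groth.Agent.S5508

set_option autoImplicit false
universe u v w x
open RootD

namespace Groth.Agent.S19011

open Groth.Agent.Lib.helper3.RootDLib

/-- For a finite reduced crystallographic root pairing over an integral domain of characteristic zero,
the additive group generated by the coroots admits the presentation with one generator [β] for each
root β and the relations [s_α(β)] = [β] − ⟨α, β^∨⟩ [α] for all roots α, β, where ⟨α, β^∨⟩ is the
Cartan integer. Concretely: the kernel of the ℤ-linear map from the free abelian group on the index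
type of the roots to the coweight module sending the generator of index β to the coroot β^∨ is the
subgroup generated by the elements [s_α(β)] − [β] + ⟨α, β^∨⟩ [α]. (The source states this for the
cocharacter lattice of a split semi-simple simply connected group, which is the group generated by
the coroots.) -/
theorem result {ι : Type u} {R : Type v} {M : Type w} {N : Type x} [CommRing R] [IsDomain R] [CharZero R]
    [AddCommGroup M] [Module R M] [AddCommGroup N] [Module R N] (P : RootPairing ι R M N)
    [Finite ι] [P.IsCrystallographic] [P.IsReduced] :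
    LinearMap.ker (Finsupp.linearCombination ℤ (fun i : ι => (P.coroot i : N))) =
      Submodule.span ℤ (Set.range fun p : ι × ι =>
        Finsupp.single (P.reflectionPerm p.1 p.2) (1 : ℤ) - Finsupp.single p.2 1 +
          P.pairingIn ℤ p.1 p.2 • Finsupp.single p.1 1) := by
  classical
  haveI : Module.IsTorsionFree ℤ M := isTorsionFree_int_left P
  set rel : ι × ι → (ι →₀ ℤ) := fun p =>
    Finsupp.single (P.reflectionPerm p.1 p.2) (1 : ℤ) - Finsupp.single p.2 1 +
      P.pairingIn ℤ p.1 p.2 • Finsupp.single p.1 1 with hrel
  set K : Submodule ℤ (ι →₀ ℤ) := Submodule.span ℤ (Set.range rel) with hK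
  have hKker : K ≤ LinearMap.ker (Finsupp.linearCombination ℤ (fun i : ι => (P.coroot i : N))) := by
    rw [hK, Submodule.span_le]
    rintro _ ⟨⟨i, j⟩, rfl⟩
    rw [SetLike.mem_coe, LinearMap.mem_ker, hrel]
    simp only [map_add, map_sub, map_smul, Finsupp.linearCombination_single, one_smul]
    rw [P.coroot_reflectionPerm, P.coreflection_apply_coroot, ← intCast_pairingIn,
      Int.cast_smul_eq_zsmul]
    abel
  apply le_antisymm _ hKker
  -- the integral form and a simple system
  obtain ⟨Δ, hΔ⟩ := exists_isSimpleSys (intForm P)
  set Sp : Submodule ℤ (ι →₀ ℤ) :=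
    Submodule.span ℤ ((fun a : ι => Finsupp.single a (1 : ℤ)) '' Δ) with hSp
  -- every basis vector lies in K ⊔ Sp
  have hstep : ∀ (i : ι), i ∈ Δ → ∀ β : ι, Finsupp.single β (1 : ℤ) ∈ K ⊔ Sp →
      Finsupp.single (P.reflectionPerm i β) (1 : ℤ) ∈ K ⊔ Sp := by
    intro i hi β hβ
    have h1 : Finsupp.single (P.reflectionPerm i β) (1 : ℤ) =
        rel (i, β) + Finsupp.single β 1 - P.pairingIn ℤ i β • Finsupp.single i 1 := by
      rw [hrel]
      simp only
      module
    rw [h1]
    apply Submodule.sub_mem
    · apply Submodule.add_mem _ _ hβ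
      exact Submodule.mem_sup_left (Submodule.subset_span ⟨(i, β), rfl⟩)
    · apply Submodule.smul_mem
      exact Submodule.mem_sup_right (Submodule.subset_span ⟨i, hi, rfl⟩)
  have hword : ∀ L : List ι, (∀ a ∈ L, a ∈ Δ) → ∀ β : ι, Finsupp.single β (1 : ℤ) ∈ K ⊔ Sp →
      Finsupp.single (prodRefl (intForm P) L • β) (1 : ℤ) ∈ K ⊔ Sp := by
    intro L
    induction L with
    | nil => intro _ β hβ; simpa using hβ
    | cons i L ih =>
      intro hL β hβ
      rw [prodRefl_cons, mul_smul]
      have h2 : RootPairing.Equiv.reflection (intForm P) i • (prodRefl (intForm P) L • β) =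
          P.reflectionPerm i (prodRefl (intForm P) L • β) := intForm_reflectionPerm P i _
      rw [h2]
      exact hstep i (hL i (by simp)) _ (ih (fun b hb => hL b (by simp [hb])) β hβ)
  have hsingle : ∀ k : ι, Finsupp.single k (1 : ℤ) ∈ K ⊔ Sp := by
    intro k
    obtain ⟨g, hg, a, ha, hga⟩ :=
      (Groth.Agent.S5508.result (intForm P) Δ hΔ).2 k (intForm_isIndiv P k)
    rw [← (Groth.Agent.S5508.result (intForm P) Δ hΔ).1] at hg
    obtain ⟨L, hL, rfl⟩ := exists_list_of_mem_closure (intForm P) g hg
    rw [← hga]
    exact hword L hL a (Submodule.mem_sup_right (Submodule.subset_span ⟨a, ha, rfl⟩))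
  have hall : ∀ x : ι →₀ ℤ, x ∈ K ⊔ Sp := by
    intro x
    induction x using Finsupp.induction_linear with
    | zero => exact Submodule.zero_mem _
    | add x y hx hy => exact Submodule.add_mem _ hx hy
    | single k c =>
      have : Finsupp.single k c = c • Finsupp.single k (1 : ℤ) := by
        rw [Finsupp.smul_single, smul_eq_mul, mul_one]
      rw [this]
      exact Submodule.smul_mem _ _ (hsingle k)
  -- elements of Sp killed by the coroot map vanish
  have hSp0 : ∀ z ∈ Sp, Finsupp.linearCombination ℤ (fun i : ι => (P.coroot i : N)) z = 0 →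
      z = 0 := by
    intro z hz hz0
    have hzsupp : z ∈ Finsupp.supported ℤ ℤ Δ := by
      rw [Finsupp.supported_eq_span_single]
      exact hz
    have hli := linearIndepOn_coroot (intForm P) hΔ
    rw [linearIndepOn_iff] at hli
    apply hli z hzsupp
    apply LinearMap.ext
    intro x
    have hinj : Function.Injective ((Int.cast : ℤ → R)) := Int.cast_injective
    apply hinj
    have h1 : ((Finsupp.linearCombination ℤ (intForm P).coroot z x : ℤ) : R) =
        P.toLinearMap (x : M) (Finsupp.linearCombination ℤ (fun i : ι => (P.coroot i : N)) z) := by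
      rw [Finsupp.linearCombination_apply, Finsupp.linearCombination_apply, Finsupp.sum,
        Finsupp.sum, LinearMap.sum_apply, Int.cast_sum, map_sum]
      apply Finset.sum_congr rfl
      intro a _
      rw [LinearMap.smul_apply, intForm_coroot, smul_eq_mul, Int.cast_mul, intCast_coroot'In,
        ← Int.cast_smul_eq_zsmul R (z a), map_smul, smul_eq_mul]
    rw [h1, hz0, map_zero]
    simp
  intro x hx
  obtain ⟨y, hy, z, hz, rfl⟩ := Submodule.mem_sup.mp (hall x)
  have hz0 : Finsupp.linearCombination ℤ (fun i : ι => (P.coroot i : N)) z = 0 := by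
    have h1 := LinearMap.mem_ker.mp hx
    rw [map_add, LinearMap.mem_ker.mp (hKker hy), zero_add] at h1
    exact h1
  rw [hSp0 z hz hz0, add_zero]
  exact hy

end Groth.Agent.S19011
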