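import Groth.Statements.S19012
import Groth.Agent.Lib.Helper10.RootQuad

set_option autoImplicit false
universe u v w x
open RootD

namespace Groth.Agent.S19012

/-- Let P be a finite reduced crystallographic root pairing over a field of characteristic zero which is
irreducible, and b a base. A quadratic form on the coweight module that is invariant under all root
reflections and vanishes on some simple coroot is zero; in other words an invariant form is
determined by its value on a single simple coroot. (The source proves, component by component of the
Dynkin diagram, that an invariant integer-valued form on the coroot lattice with prescribed value on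
the first simple coroot of each component is unique; here the system is irreducible, the coroots
span the coweight module, and forms take values in the base field.) -/
theorem result {ι : Type u} {K : Type v} {M : Type w} {N : Type x} [Field K] [CharZero K]
    [AddCommGroup M] [Module K M] [AddCommGroup N] [Module K N] (P : RootPairing ι K M N)
    [Finite ι] [P.IsCrystallographic] [P.IsReduced] [P.IsIrreducible] (b : P.Base)
    (Q : QuadraticMap K N K) (hQ : ∀ (i : ι) (y : N), Q (P.coreflection i y) = Q y)
    (i₀ : ι) (hi₀ : i₀ ∈ b.support) (h0 : Q (P.coroot i₀) = 0) : Q = 0 := by
  -- the radical of the polar form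
  set q : Submodule K N := LinearMap.ker (QuadraticMap.polarBilin Q) with hq
  have hmem : ∀ y : N, y ∈ q ↔ ∀ z : N, QuadraticMap.polar Q y z = 0 := by
    intro y
    rw [hq, LinearMap.mem_ker]
    constructor
    · intro h z
      have := LinearMap.congr_fun h z
      simpa using this
    · intro h
      ext z
      simpa using h z
  -- polar form is invariant
  have hpol : ∀ (i : ι) (a c : N),
      QuadraticMap.polar Q (P.coreflection i a) (P.coreflection i c) = QuadraticMap.polar Q a c := by
    intro i a c
    unfold QuadraticMap.polar
    rw [← map_add, hQ, hQ, hQ]
  have hinv : ∀ i, q ∈ Module.End.invtSubmodule (P.coreflection i).toLinearMap := by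
    intro i
    rw [Module.End.mem_invtSubmodule_iff_mapsTo]
    intro y hy
    rw [SetLike.mem_coe, hmem] at hy ⊢
    intro z
    have := hpol i y (P.coreflection i z)
    rw [P.coreflection_same] at this
    change QuadraticMap.polar Q (P.coreflection i y) z = 0
    rw [this]
    exact hy _
  have hne : q ≠ ⊥ := by
    intro hbot
    have h1 : P.coroot i₀ ∈ q := by
      rw [hmem]
      intro z
      rw [QuadraticMap.polar_comm]
      rw [Groth.Agent.Lib.helper10.polar_coroot_of_invariant_on P Q i₀ ⊤ Submodule.mem_top
        (fun y _ => hQ i₀ y) z Submodule.mem_top, h0, mul_zero]
    rw [hbot, Submodule.mem_bot] at h1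
    exact P.ne_zero' i₀ h1
  have htop : q = ⊤ := RootPairing.IsIrreducible.eq_top_of_invtSubmodule_coreflection q hinv hne
  ext y
  have hy : y ∈ q := htop ▸ Submodule.mem_top
  rw [hmem] at hy
  have h2 := hy y
  rw [QuadraticMap.polar_self] at h2
  simp only [nsmul_eq_mul, Nat.cast_ofNat, mul_eq_zero, OfNat.ofNat_ne_zero, false_or] at h2
  simpa using h2

end Groth.Agent.S19012
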