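import Groth.Statements.S19013
import Groth.Agent.Lib.Helper10.MilnorK

set_option autoImplicit false
universe u v
open MilnorK

namespace Groth.Agent.S19013

/-- Let A ⊆ B be discrete valuation rings, the inclusion being a local homomorphism, with fraction
fields E ⊆ F compatibly, with the induced homomorphism of residue fields κ(A) → κ(B), and with
ramification index e, the natural number such that the maximal ideal of A generates the e-th power
of the maximal ideal of B. Let ∂_A : K_{n+1}(E) → K_n(κ(A)) and ∂_B : K_{n+1}(F) → K_n(κ(B)) be the
residue maps (tame symbols) on Milnor K-groups. Then for every x in K_{n+1}(E) one has ∂_B(x_F) = e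
· (∂_A x)_{κ(B)}, where the subscripts denote the change-of-fields maps along E → F and κ(A) → κ(B).
(The published statement concerns discrete valuations of geometric type on fields finitely generated
over a base field; it is stated here for an arbitrary pair of discrete valuation rings, which is all
the printed computation uses.) -/
theorem result
    (A B : Type u) [CommRing A] [IsDomain A] [IsDiscreteValuationRing A]
    [CommRing B] [IsDomain B] [IsDiscreteValuationRing B] [Algebra A B] [IsLocalHom (algebraMap A B)]
    (E F : Type v) [Field E] [Field F] [Algebra A E] [IsFractionRing A E] [Algebra B F] [IsFractionRing B F]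
    [Algebra E F] [Algebra A F] [IsScalarTower A E F] [IsScalarTower A B F]
    (e : ℕ) (he : Ideal.map (algebraMap A B) (IsLocalRing.maximalIdeal A) = IsLocalRing.maximalIdeal B ^ e)
    (n : ℕ) (dA : MilK.K E (n + 1) →+ MilK.K (IsLocalRing.ResidueField A) n) (hdA : MilK.IsTameSymbol A E n dA)
    (dB : MilK.K F (n + 1) →+ MilK.K (IsLocalRing.ResidueField B) n) (hdB : MilK.IsTameSymbol B F n dB)
    (x : MilK.K E (n + 1)) :
    dB (MilK.map (algebraMap E F) (n + 1) x) =
      e • MilK.map (IsLocalRing.ResidueField.map (algebraMap A B)) n (dA x) := by
  obtain ⟨ϖA, hϖA⟩ := IsDiscreteValuationRing.exists_irreducible A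
  obtain ⟨ϖB, hϖB⟩ := IsDiscreteValuationRing.exists_irreducible B
  -- the uniformizer of A is a unit times the e-th power of the uniformizer of B
  have hass : Associated (ϖB ^ e) (algebraMap A B ϖA) := by
    rw [hϖA.maximalIdeal_eq, hϖB.maximalIdeal_eq, Ideal.map_span, Set.image_singleton,
      Ideal.span_singleton_pow, Ideal.span_singleton_eq_span_singleton] at he
    exact he.symm
  obtain ⟨w, hw⟩ := hass
  have hunit : ∀ u : Aˣ, Units.map (algebraMap E F : E →* F) (MilK.unitToFrac A E u) =
      MilK.unitToFrac B F (Units.map (algebraMap A B : A →* B) u) := by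
    intro u
    ext
    simp only [MilK.unitToFrac, Units.coe_map, MonoidHom.coe_coe]
    rw [← IsScalarTower.algebraMap_apply A E F, ← IsScalarTower.algebraMap_apply A B F]
  have hres : ∀ u : Aˣ, Units.map (IsLocalRing.ResidueField.map (algebraMap A B) :
      IsLocalRing.ResidueField A →* IsLocalRing.ResidueField B) (MilK.unitResidue A u) =
      MilK.unitResidue B (Units.map (algebraMap A B : A →* B) u) := by
    intro u
    ext
    simp [MilK.unitResidue]
  have key : dB.comp (MilK.map (algebraMap E F) (n + 1)) =
      e • ((MilK.map (IsLocalRing.ResidueField.map (algebraMap A B)) n).comp dA) := by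
    apply Groth.Agent.Lib.helper10.MilKL.hom_ext_stdGens ϖA hϖA n
    · intro u
      simp only [AddMonoidHom.comp_apply, AddMonoidHom.smul_apply]
      rw [hdA ϖA hϖA u, MilK.map_symbol, MilK.map_symbol]
      have e1 : (fun i => Units.map (algebraMap E F : E →* F)
          ((Fin.cons (MilK.unitFrac A E ϖA hϖA.ne_zero) fun i => MilK.unitToFrac A E (u i) :
            Fin (n + 1) → Eˣ) i)) =
          (Fin.cons (MilK.unitToFrac B F w * MilK.unitFrac B F ϖB hϖB.ne_zero ^ e)
            (fun i => MilK.unitToFrac B F (Units.map (algebraMap A B : A →* B) (u i))) :
              Fin (n + 1) → Fˣ) := by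
        funext k
        cases k using Fin.cases with
        | zero =>
          simp only [Fin.cons_zero]
          ext
          simp only [Units.coe_map, MonoidHom.coe_coe, MilK.coe_unitFrac, Units.val_mul,
            Units.val_pow_eq_pow_val, MilK.unitToFrac]
          rw [← IsScalarTower.algebraMap_apply A E F, IsScalarTower.algebraMap_apply A B F, ← hw,
            map_mul, map_pow, mul_comm]
        | succ k =>
          simp only [Fin.cons_succ]
          exact hunit (u k)
      rw [e1, Groth.Agent.Lib.helper10.MilKL.symbol_cons_mul,
        Groth.Agent.Lib.helper10.MilKL.symbol_cons_pow, map_add, map_nsmul,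
        hdB ϖB hϖB (fun i => Units.map (algebraMap A B : A →* B) (u i))]
      have e2 : (Fin.cons (MilK.unitToFrac B F w)
          (fun i => MilK.unitToFrac B F (Units.map (algebraMap A B : A →* B) (u i))) :
            Fin (n + 1) → Fˣ) =
          fun i => MilK.unitToFrac B F ((Fin.cons w
            (fun i => Units.map (algebraMap A B : A →* B) (u i)) : Fin (n + 1) → Bˣ) i) := by
        funext k
        cases k using Fin.cases <;> simp
      rw [e2, Groth.Agent.Lib.helper10.MilKL.tame_unit_symbol hdB, zero_add]
      congr 2
    · intro u
      simp only [AddMonoidHom.comp_apply, AddMonoidHom.smul_apply]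
      rw [Groth.Agent.Lib.helper10.MilKL.tame_unit_symbol hdA, map_zero, smul_zero,
        MilK.map_symbol]
      have e3 : (fun i => Units.map (algebraMap E F : E →* F) (MilK.unitToFrac A E (u i))) =
          fun i => MilK.unitToFrac B F (Units.map (algebraMap A B : A →* B) (u i)) := by
        funext i
        exact hunit (u i)
      rw [e3]
      exact Groth.Agent.Lib.helper10.MilKL.tame_unit_symbol hdB _
  have := DFunLike.congr_fun key x
  simpa using this

end Groth.Agent.S19013
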