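import Groth.Statements.S19017
import Groth.Agent.Lib.Helper16.CycMV

set_option autoImplicit false
universe u
open CategoryTheory AlgebraicGeometry
open IntTh

namespace Groth.Agent.S19017

/-- Let k be an arbitrary field and X a scheme separated and of finite type over k, with the dimension
function δ induced from Spec k. Let i_1 : X_1 → X and i_2 : X_2 → X be closed subschemes whose
images cover X, and let Y be their intersection: closed immersions j_1 : Y → X_1, j_2 : Y → X_2 with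
i_1 ∘ j_1 = i_2 ∘ j_2 whose image in X is the intersection of the images of X_1 and X_2. Then the
sequence CH_n(Y) → CH_n(X_1) ⊕ CH_n(X_2) → CH_n(X) → 0, with first map γ ↦ (j_{1*}γ, −j_{2*}γ) and
second map the sum of the push-forwards, is exact for every integer n: every n-cycle on X is a sum
i_{1*}α_1 + i_{2*}α_2 of n-cycles on X_1 and X_2, and whenever such a sum is rationally equivalent
to zero on X there is an n-cycle γ on Y with α_1 rationally equivalent to j_{1*}γ on X_1 and α_2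
rationally equivalent to −j_{2*}γ on X_2. (The published statement does not require the two closed
subschemes to cover X; without that requirement the surjectivity fails already for two empty closed
subschemes of a point, and the printed argument uses the covering, so it is assumed here. The
published statement also calls the sequence one of rings graded by codimension; stated here is the
additive sequence graded by dimension, which is what the printed argument gives.) -/
theorem result (k : Type u) [Field k]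
    (X : Scheme.{u}) [X.Over (Spec (CommRingCat.of k))]
    [IsSeparated (X ↘ Spec (CommRingCat.of k))] [LocallyOfFiniteType (X ↘ Spec (CommRingCat.of k))]
    [QuasiCompact (X ↘ Spec (CommRingCat.of k))]
    (δ : X → ℤ) (hδ : Cyc.DeltaCompat (X ↘ Spec (CommRingCat.of k)) δ (fun _ => 0))
    {X₁ X₂ Y : Scheme.{u}} (i₁ : X₁ ⟶ X) (i₂ : X₂ ⟶ X) [IsClosedImmersion i₁] [IsClosedImmersion i₂]
    (hcov : Set.range i₁ ∪ Set.range i₂ = Set.univ)
    (j₁ : Y ⟶ X₁) (j₂ : Y ⟶ X₂) [IsClosedImmersion j₁] [IsClosedImmersion j₂]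
    (hcomm : j₁ ≫ i₁ = j₂ ≫ i₂) (hY : Set.range (j₁ ≫ i₁) = Set.range i₁ ∩ Set.range i₂) (n : ℤ) :
    (∀ α : AlgebraicCycle X ℤ, α ∈ Cyc.Zk X δ n →
      ∃ (α₁ : AlgebraicCycle X₁ ℤ) (α₂ : AlgebraicCycle X₂ ℤ),
        α₁ ∈ Cyc.Zk X₁ (fun x => δ (i₁ x)) n ∧ α₂ ∈ Cyc.Zk X₂ (fun x => δ (i₂ x)) n ∧
        α = AlgebraicCycle.map i₁ (fun x => δ (i₁ x)) δ α₁ + AlgebraicCycle.map i₂ (fun x => δ (i₂ x)) δ α₂) ∧
    (∀ (α₁ : AlgebraicCycle X₁ ℤ) (α₂ : AlgebraicCycle X₂ ℤ),
      α₁ ∈ Cyc.Zk X₁ (fun x => δ (i₁ x)) n → α₂ ∈ Cyc.Zk X₂ (fun x => δ (i₂ x)) n →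
      Cyc.RatEquivZero δ n
        (AlgebraicCycle.map i₁ (fun x => δ (i₁ x)) δ α₁ + AlgebraicCycle.map i₂ (fun x => δ (i₂ x)) δ α₂) →
      ∃ γ : AlgebraicCycle Y ℤ, γ ∈ Cyc.Zk Y (fun y => δ (i₁ (j₁ y))) n ∧
        Cyc.RatEquiv (fun x => δ (i₁ x)) n α₁
          (AlgebraicCycle.map j₁ (fun y => δ (i₁ (j₁ y))) (fun x => δ (i₁ x)) γ) ∧
        Cyc.RatEquiv (fun x => δ (i₂ x)) n α₂
          (-AlgebraicCycle.map j₂ (fun y => δ (i₁ (j₁ y))) (fun x => δ (i₂ x)) γ)) := by
  haveI : IsLocallyNoetherian X :=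
    LocallyOfFiniteType.isLocallyNoetherian (X ↘ Spec (CommRingCat.of k))
  have hdim : Cyc.IsDimFun X δ :=
    Groth.Agent.Lib.helper16.CycMV.isDimFun_of_field k (X ↘ Spec (CommRingCat.of k)) δ hδ
  constructor
  · intro α hα
    obtain ⟨α₁, α₂, h1, h2, h3⟩ := Groth.Agent.Lib.helper16.CycMV.exists_decomp i₁ i₂ hcov δ α
    refine ⟨α₁, α₂, ?_, ?_, h3⟩
    · intro z hz
      rw [h1]
      exact hα _ hz
    · intro z hz
      by_contra hne
      have := h2 z hne
      rw [this] at hne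
      exact hne (hα _ hz)
  · intro α₁ α₂ hα₁ hα₂ hrat
    obtain ⟨J, ξ, f, hδξ, hf, hlf, hsum⟩ := hrat
    obtain ⟨β₁, β₂, hb1k, hb2k, hb1r, hb2r, hb⟩ :=
      Groth.Agent.Lib.helper16.CycMV.exists_split_family i₁ i₂ δ hdim n hcov ξ f hδξ hf hlf
    have hzero : ∀ x, AlgebraicCycle.map i₁ (fun z => δ (i₁ z)) δ (α₁ - β₁) x +
        AlgebraicCycle.map i₂ (fun z => δ (i₂ z)) δ (α₂ - β₂) x = 0 := by
      intro x
      rw [Groth.Agent.Lib.helper16.CycMV.map_sub_apply i₁ _ δ (fun _ => rfl),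
        Groth.Agent.Lib.helper16.CycMV.map_sub_apply i₂ _ δ (fun _ => rfl)]
      have h1 := hsum x
      have h2 := hb x
      have h3 : (AlgebraicCycle.map i₁ (fun x => δ (i₁ x)) δ α₁ +
          AlgebraicCycle.map i₂ (fun x => δ (i₂ x)) δ α₂) x =
          AlgebraicCycle.map i₁ (fun x => δ (i₁ x)) δ α₁ x +
          AlgebraicCycle.map i₂ (fun x => δ (i₂ x)) δ α₂ x := rfl
      rw [h3] at h1
      linarith
    obtain ⟨γ, hγ, e1, e2⟩ := Groth.Agent.Lib.helper16.CycMV.exists_of_map_add_map_eq_zero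
      i₁ i₂ j₁ j₂ hcomm hY δ (α₁ - β₁) (α₂ - β₂) hzero
    refine ⟨γ, ?_, ?_, ?_⟩
    · intro y hy
      rw [hγ]
      have h1 : α₁ (j₁ y) = 0 := hα₁ _ hy
      have h2 : β₁ (j₁ y) = 0 := hb1k _ hy
      change α₁ (j₁ y) - β₁ (j₁ y) = 0
      rw [h1, h2, sub_zero]
    · unfold Cyc.RatEquiv
      rw [← e1, sub_sub_cancel]
      exact hb1r
    · unfold Cyc.RatEquiv
      rw [← e2, sub_sub_cancel]
      exact hb2r

end Groth.Agent.S19017
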