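import Groth.Statements.S19018
import Mathlib

set_option autoImplicit false
universe u
open TensorProduct
open SymTen

namespace Groth.Agent.S19018

open scoped Pointwise



/-- Suppose k is a field in which 2 ≠ 0 and R is a commutative k-algebra. Write I for the ideal of the
diagonal, i.e. the kernel of multiplication R ⊗_k R → R, and write S for the subalgebra of R ⊗_k R
consisting of elements invariant under interchanging the two tensor factors. Then, viewed as ideals
of S, the swap-invariant elements of I^4 form precisely the square of the ideal of swap-invariant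
elements of I^2. (The source is stated over the complex numbers; the proof needs only that 2 is
invertible.) -/
theorem result
    (k R : Type u) [Field k] [NeZero (2 : k)] [CommRing R] [Algebra k R] :
    Ideal.comap
        (AlgHom.equalizer ((Algebra.TensorProduct.comm k R R : R ⊗[k] R ≃ₐ[k] R ⊗[k] R) : R ⊗[k] R →ₐ[k] R ⊗[k] R)
          (AlgHom.id k (R ⊗[k] R))).val
        (KaehlerDifferential.ideal k R ^ 4) =
      (Ideal.comap
        (AlgHom.equalizer ((Algebra.TensorProduct.comm k R R : R ⊗[k] R ≃ₐ[k] R ⊗[k] R) : R ⊗[k] R →ₐ[k] R ⊗[k] R)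
          (AlgHom.id k (R ⊗[k] R))).val
        (KaehlerDifferential.ideal k R ^ 2)) ^ 2 := by
  classical
  obtain ⟨τ, hτ⟩ : ∃ τ : R ⊗[k] R →ₐ[k] R ⊗[k] R, τ =
    ((Algebra.TensorProduct.comm k R R : R ⊗[k] R ≃ₐ[k] R ⊗[k] R) :
      R ⊗[k] R →ₐ[k] R ⊗[k] R) := ⟨_, rfl⟩
  rw [← hτ]
  have hτt : ∀ a b : R, τ (a ⊗ₜ[k] b) = b ⊗ₜ[k] a := by
    intro a b; rw [hτ]; rfl
  have hττ : ∀ x, τ (τ x) = x := by
    intro x
    induction x using TensorProduct.induction_on with
    | zero => rw [map_zero, map_zero]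
    | tmul a b => rw [hτt, hτt]
    | add x y hx hy => rw [map_add, map_add, hx, hy]
  obtain ⟨S, hS⟩ : ∃ S, S = AlgHom.equalizer τ (AlgHom.id k (R ⊗[k] R)) := ⟨_, rfl⟩
  rw [← hS]
  have hSmem : ∀ x, x ∈ S ↔ τ x = x := by
    intro x; rw [hS]; exact AlgHom.mem_equalizer _ _ x
  obtain ⟨I, hI⟩ : ∃ I, I = KaehlerDifferential.ideal k R := ⟨_, rfl⟩
  rw [← hI]
  obtain ⟨G, hG⟩ : ∃ G : Set (R ⊗[k] R),
    G = Set.range (fun s : R => (1 : R) ⊗ₜ[k] s - s ⊗ₜ[k] (1 : R)) := ⟨_, rfl⟩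
  have hIG : I = Ideal.span G := by
    rw [hI, hG]; exact (KaehlerDifferential.span_range_eq_ideal k R).symm
  have hτG : ∀ g ∈ G, τ g = -g := by
    intro g hg
    rw [hG] at hg
    obtain ⟨s, rfl⟩ := hg
    rw [map_sub, hτt, hτt, neg_sub]
  have hτGG : ∀ p ∈ G * G, τ p = p := by
    intro p hp
    obtain ⟨g, hg, g', hg', rfl⟩ := Set.mem_mul.mp hp
    rw [map_mul, hτG g hg, hτG g' hg']; ring
  have hI2 : I ^ 2 = Ideal.span (G * G) := by rw [pow_two, hIG, Ideal.span_mul_span']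
  have hI22 : I ^ 4 = I ^ 2 * I ^ 2 := by rw [← pow_add]
  have hI4 : I ^ 4 = Ideal.span ((G * G) * (G * G)) := by
    rw [hI22, hI2, Ideal.span_mul_span']
  obtain ⟨J, hJ⟩ : ∃ J, J = Ideal.comap S.val (I ^ 2) := ⟨_, rfl⟩
  rw [← hJ]
  have hJmem : ∀ y : S, y ∈ J ↔ (y : R ⊗[k] R) ∈ I ^ 2 := by
    intro y; rw [hJ]; exact Ideal.mem_comap
  apply le_antisymm
  · intro y hy
    have hy' : (y : R ⊗[k] R) ∈ Ideal.span (G * G * (G * G)) := by
      rw [← hI4]; exact hy
    have L : ∀ m ∈ (G * G) * (G * G), ∃ hm : m ∈ S, (⟨m, hm⟩ : S) ∈ J ^ 2 := by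
      intro m hm
      obtain ⟨p, hp, q, hq, rfl⟩ := Set.mem_mul.mp hm
      have hpS : p ∈ S := (hSmem p).mpr (hτGG p hp)
      have hqS : q ∈ S := (hSmem q).mpr (hτGG q hq)
      refine ⟨S.mul_mem hpS hqS, ?_⟩
      have hpJ : (⟨p, hpS⟩ : S) ∈ J :=
        (hJmem _).mpr (by rw [hI2]; exact Ideal.subset_span hp)
      have hqJ : (⟨q, hqS⟩ : S) ∈ J :=
        (hJmem _).mpr (by rw [hI2]; exact Ideal.subset_span hq)
      have e : (⟨p * q, S.mul_mem hpS hqS⟩ : S) = ⟨p, hpS⟩ * ⟨q, hqS⟩ := rfl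
      rw [e, pow_two]
      exact Ideal.mul_mem_mul hpJ hqJ
    obtain ⟨n, f, g, hfg⟩ := Submodule.mem_span_set'.mp hy'
    have L' := fun i => L (g i) (g i).2
    choose hgS hgJ using L'
    obtain ⟨h, hh⟩ : ∃ h : R ⊗[k] R, h = algebraMap k (R ⊗[k] R) (2⁻¹ : k) := ⟨_, rfl⟩
    have hτh : τ h = h := by rw [hh]; exact τ.commutes _
    have h2 : h * 2 = 1 := by
      rw [hh]
      have e : (2 : R ⊗[k] R) = algebraMap k (R ⊗[k] R) 2 := by rw [map_ofNat]
      rw [e, ← map_mul, inv_mul_cancel₀ (NeZero.ne (2 : k)), map_one]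
    have hsym : ∀ r, h * (r + τ r) ∈ S := by
      intro r
      rw [hSmem, map_mul, hτh, map_add, hττ, add_comm]
    have hyS : τ (y : R ⊗[k] R) = y := (hSmem _).mp y.2
    have key : y = ∑ i, (⟨h * (f i + τ (f i)), hsym (f i)⟩ : S) * ⟨g i, hgS i⟩ := by
      apply Subtype.ext
      rw [AddSubmonoidClass.coe_finsetSum]
      simp only [MulMemClass.coe_mul]
      have e1 : ∀ i, τ ((g i : R ⊗[k] R)) = g i := fun i => (hSmem _).mp (hgS i)
      have e2 : τ (y : R ⊗[k] R) = ∑ i, τ (f i) * (g i : R ⊗[k] R) := by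
        rw [← hfg, map_sum]
        apply Finset.sum_congr rfl
        intro i _
        rw [smul_eq_mul, map_mul, e1]
      calc (y : R ⊗[k] R) = h * 2 * y := by rw [h2, one_mul]
        _ = h * (y + τ y) := by rw [hyS]; ring
        _ = h * (∑ i, f i * (g i : R ⊗[k] R) + ∑ i, τ (f i) * (g i : R ⊗[k] R)) := by
            rw [e2, ← hfg]; simp only [smul_eq_mul]
        _ = ∑ i, h * (f i + τ (f i)) * (g i : R ⊗[k] R) := by
            rw [← Finset.sum_add_distrib, Finset.mul_sum]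
            apply Finset.sum_congr rfl
            intro i _
            ring
    rw [key]
    exact Ideal.sum_mem _ (fun i _ => Ideal.mul_mem_left _ _ (hgJ i))
  · rw [pow_two, Ideal.mul_le]
    intro r hr s hs
    rw [Ideal.mem_comap, map_mul, hI22]
    exact Ideal.mul_mem_mul ((hJmem r).mp hr) ((hJmem s).mp hs)


end Groth.Agent.S19018
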