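import Groth.Statements.S19019
import Mathlib

set_option autoImplicit false
open scoped ComplexOrder
open Toeplitz

namespace Groth.Agent.S19019

set_option linter.style.haveILetI false
set_option linter.unusedSectionVars false
set_option linter.unusedVariables false

open Complex MeasureTheory intervalIntegral
open scoped ComplexOrder

/-- the character `y ↦ exp (i n y)` -/
noncomputable def φ (n : ℤ) (y : ℝ) : ℂ := Complex.exp (Complex.I * (n : ℂ) * (y : ℂ))

theorem φ_add (a b : ℤ) (y : ℝ) : φ a y * φ b y = φ (a + b) y := by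
  unfold φ
  rw [← Complex.exp_add]; congr 1; push_cast; ring

theorem φ_zero (y : ℝ) : φ 0 y = 1 := by
  unfold φ; simp

theorem φ_conj (a : ℤ) (y : ℝ) : (starRingEnd ℂ) (φ a y) = φ (-a) y := by
  unfold φ
  rw [← Complex.exp_conj]; congr 1
  simp [Complex.conj_ofReal]

theorem φ_cont (a : ℤ) : Continuous (φ a) := by
  unfold φ
  fun_prop

theorem φ_integral (a : ℤ) : ∫ y in (0 : ℝ)..2 * Real.pi, φ a y =
    if a = 0 then (2 * Real.pi : ℂ) else 0 := by
  by_cases ha : a = 0
  · subst ha
    simp [φ_zero]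
  · rw [if_neg ha]
    unfold φ
    have hc : Complex.I * (a : ℂ) ≠ 0 := mul_ne_zero Complex.I_ne_zero (by exact_mod_cast ha)
    rw [integral_exp_mul_complex hc]
    have : Complex.exp (Complex.I * (a : ℂ) * ((2 * Real.pi : ℝ) : ℂ)) = 1 := by
      have := Complex.exp_int_mul_two_pi_mul_I a
      rw [← this]; congr 1; push_cast; ring
    rw [this]; simp


theorem G_pointwise (m : ℕ) (t : ℤ → ℂ) (x : Fin m → ℂ) (y : ℝ) :
    (∑ k ∈ Finset.Ioo (-(m : ℤ)) (m : ℤ), t k * φ k y) *
        ((starRingEnd ℂ) (∑ j : Fin m, x j * φ (-(j : ℤ)) y) *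
          (∑ j : Fin m, x j * φ (-(j : ℤ)) y)) =
      ∑ i : Fin m, ∑ j : Fin m, ∑ k ∈ Finset.Ioo (-(m : ℤ)) (m : ℤ),
        ((starRingEnd ℂ) (x i) * x j * t k) * φ (k + (i : ℤ) - (j : ℤ)) y := by
  rw [map_sum, Finset.sum_mul_sum, Finset.mul_sum]
  refine Finset.sum_congr rfl fun i _ => ?_
  rw [Finset.mul_sum]
  refine Finset.sum_congr rfl fun j _ => ?_
  rw [Finset.sum_mul]
  refine Finset.sum_congr rfl fun k _ => ?_
  have h1 : φ (k + (i : ℤ) - (j : ℤ)) y = φ k y * φ (i : ℤ) y * φ (-(j : ℤ)) y := by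
    rw [φ_add, φ_add]; congr 1
  rw [h1, map_mul, φ_conj, neg_neg]
  ring

theorem G_integral (m : ℕ) (t : ℤ → ℂ) (x : Fin m → ℂ) :
    ∫ y in (0 : ℝ)..2 * Real.pi, (∑ k ∈ Finset.Ioo (-(m : ℤ)) (m : ℤ), t k * φ k y) *
        ((starRingEnd ℂ) (∑ j : Fin m, x j * φ (-(j : ℤ)) y) *
          (∑ j : Fin m, x j * φ (-(j : ℤ)) y)) =
      (2 * Real.pi : ℂ) * ∑ i : Fin m, ∑ j : Fin m,
        (starRingEnd ℂ) (x i) * t ((j : ℤ) - (i : ℤ)) * x j := by
  simp_rw [G_pointwise]
  have hint : ∀ (c : ℂ) (n : ℤ), IntervalIntegrable (fun y : ℝ => c * φ n y) volume 0 (2 * Real.pi) :=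
    fun c n => (continuous_const.mul (φ_cont n)).intervalIntegrable _ _
  rw [intervalIntegral.integral_finsetSum]
  · rw [Finset.mul_sum]
    refine Finset.sum_congr rfl fun i _ => ?_
    rw [intervalIntegral.integral_finsetSum]
    · rw [Finset.mul_sum]
      refine Finset.sum_congr rfl fun j _ => ?_
      rw [intervalIntegral.integral_finsetSum]
      · simp_rw [intervalIntegral.integral_const_mul, φ_integral]
        have hmem : (j : ℤ) - (i : ℤ) ∈ Finset.Ioo (-(m : ℤ)) (m : ℤ) := by
          rw [Finset.mem_Ioo]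
          have hi := i.2; have hj := j.2
          constructor <;> omega
        rw [Finset.sum_eq_single ((j : ℤ) - (i : ℤ))]
        · rw [if_pos (by ring)]; ring
        · intro k _ hk
          rw [if_neg (by intro h; apply hk; linarith), mul_zero]
        · intro h; exact absurd hmem h
      · intro k _; exact hint _ _
    · intro j _
      exact (continuous_finsetSum _ fun k _ => continuous_const.mul (φ_cont _)).intervalIntegrable _ _
  · intro i _
    exact (continuous_finsetSum _ fun j _ => continuous_finsetSum _ fun k _ =>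
      continuous_const.mul (φ_cont _)).intervalIntegrable _ _


theorem main (m : ℕ) (t : ℤ → ℂ) (A : Matrix (Fin m) (Fin m) ℂ)
    (hA : ∀ i j : Fin m, A i j = t ((j : ℤ) - (i : ℤ))) (hH : A.IsHermitian)
    (hpos : Set.Countable {y : ℝ | ¬ 0 < (∑ k ∈ Finset.Ioo (-(m : ℤ)) (m : ℤ),
        t k * Complex.exp (Complex.I * (k : ℂ) * (y : ℂ))).re}) :
    A.PosDef := by
  classical
  rw [Matrix.posDef_iff_dotProduct_mulVec]
  refine ⟨hH, fun x hx => ?_⟩
  set z : ℂ := star x ⬝ᵥ A.mulVec x with hz
  have hstar : star z = z := by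
    rw [hz, ← Matrix.star_dotProduct, Matrix.star_mulVec, hH.eq, Matrix.dotProduct_mulVec]
  have him : z.im = 0 := by
    have := congrArg Complex.im hstar
    simp only [Complex.star_def, Complex.conj_im] at this
    linarith
  have hz2 : z = ∑ i : Fin m, ∑ j : Fin m,
      (starRingEnd ℂ) (x i) * t ((j : ℤ) - (i : ℤ)) * x j := by
    simp only [hz, dotProduct, Matrix.mulVec, hA, Finset.mul_sum, Pi.star_apply, mul_assoc]
    rfl
  set S : Set ℝ := {y : ℝ | ¬ 0 < (∑ k ∈ Finset.Ioo (-(m : ℤ)) (m : ℤ),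
        t k * Complex.exp (Complex.I * (k : ℂ) * (y : ℂ))).re} with hS
  set f : ℝ → ℂ := fun y => ∑ k ∈ Finset.Ioo (-(m : ℤ)) (m : ℤ), t k * φ k y with hf
  set p : ℝ → ℂ := fun y => ∑ j : Fin m, x j * φ (-(j : ℤ)) y with hp
  have hfS : ∀ y, y ∉ S → 0 < (f y).re := by
    intro y hy
    rw [hS, Set.mem_ofPred_eq, not_not] at hy
    exact hy
  have hfc : Continuous f :=
    continuous_finsetSum _ fun k _ => continuous_const.mul (φ_cont _)
  have hpc : Continuous p :=
    continuous_finsetSum _ fun k _ => continuous_const.mul (φ_cont _)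
  have hdense : Dense Sᶜ := hpos.dense_compl ℝ
  have hfnonneg : ∀ y, 0 ≤ (f y).re := by
    have hcl : IsClosed {y : ℝ | 0 ≤ (f y).re} :=
      isClosed_le continuous_const (Complex.continuous_re.comp hfc)
    have hsub : Sᶜ ⊆ {y : ℝ | 0 ≤ (f y).re} := fun y hy => (hfS y hy).le
    have := hcl.closure_subset_iff.mpr hsub
    rw [hdense.closure_eq] at this
    exact fun y => this (Set.mem_univ y)
  set h : ℝ → ℝ := fun y => (f y).re * Complex.normSq (p y) with hh
  have hhc : Continuous h :=
    (Complex.continuous_re.comp hfc).mul (Complex.continuous_normSq.comp hpc)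
  have hhnonneg : ∀ y, 0 ≤ h y := fun y => mul_nonneg (hfnonneg y) (Complex.normSq_nonneg _)
  -- the integral formula
  have hG := G_integral m t x
  rw [← hz2] at hG
  have hGpt : ∀ y : ℝ, ((∑ k ∈ Finset.Ioo (-(m : ℤ)) (m : ℤ), t k * φ k y) *
        ((starRingEnd ℂ) (∑ j : Fin m, x j * φ (-(j : ℤ)) y) *
          (∑ j : Fin m, x j * φ (-(j : ℤ)) y))).re = h y := by
    intro y
    show (f y * ((starRingEnd ℂ) (p y) * p y)).re = h y
    rw [← Complex.normSq_eq_conj_mul_self, Complex.re_mul_ofReal]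
  have hGint : IntervalIntegrable (fun y : ℝ => f y * ((starRingEnd ℂ) (p y) * p y)) volume 0
      (2 * Real.pi) :=
    (hfc.mul ((Complex.continuous_conj.comp hpc).mul hpc)).intervalIntegrable _ _
  have hre : ∫ y in (0 : ℝ)..2 * Real.pi, h y = 2 * Real.pi * z.re := by
    have h1 := Complex.reCLM.intervalIntegral_comp_comm hGint
    simp only [Complex.reCLM_apply] at h1
    have h2 : ∫ y in (0 : ℝ)..2 * Real.pi, (f y * ((starRingEnd ℂ) (p y) * p y)).re =
        ∫ y in (0 : ℝ)..2 * Real.pi, h y :=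
      intervalIntegral.integral_congr fun y _ => hGpt y
    rw [← h2, h1]
    have h3 : (∫ y in (0 : ℝ)..2 * Real.pi, f y * ((starRingEnd ℂ) (p y) * p y)) =
        2 * Real.pi * z := hG
    rw [h3]
    have : (2 * (Real.pi : ℂ)) = ((2 * Real.pi : ℝ) : ℂ) := by push_cast; ring
    rw [this, Complex.re_ofReal_mul]
  -- positivity
  have hexists : ∃ c ∈ Set.Icc (0 : ℝ) (2 * Real.pi), 0 < h c := by
    by_contra hcon
    push Not at hcon
    have hh0 : ∀ c ∈ Set.Icc (0 : ℝ) (2 * Real.pi), h c = 0 :=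
      fun c hc => le_antisymm (hcon c hc) (hhnonneg c)
    -- p vanishes on Ioo ∩ Sᶜ
    have hp0 : ∀ c ∈ Set.Ioo (0 : ℝ) (2 * Real.pi) ∩ Sᶜ, p c = 0 := by
      rintro c ⟨hc1, hc2⟩
      have := hh0 c (Set.Ioo_subset_Icc_self hc1)
      rcases mul_eq_zero.mp this with h1 | h1
      · exact absurd h1 (hfS c hc2).ne'
      · exact Complex.normSq_eq_zero.mp h1
    have hcl : IsClosed {y : ℝ | p y = 0} := isClosed_eq hpc continuous_const
    have hsub : Set.Ioo (0 : ℝ) (2 * Real.pi) ⊆ {y : ℝ | p y = 0} := by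
      have h1 := hdense.open_subset_closure_inter (isOpen_Ioo (a := (0 : ℝ)) (b := 2 * Real.pi))
      exact h1.trans (hcl.closure_subset_iff.mpr hp0)
    have hsub2 : Set.Icc (0 : ℝ) (2 * Real.pi) ⊆ {y : ℝ | p y = 0} := by
      rw [← closure_Ioo (by positivity : (0 : ℝ) ≠ 2 * Real.pi)]
      exact hcl.closure_subset_iff.mpr hsub
    -- Parseval
    have hPars := G_integral m (fun k => if k = 0 then 1 else 0) x
    have hzero : ∫ y in (0 : ℝ)..2 * Real.pi,
        (∑ k ∈ Finset.Ioo (-(m : ℤ)) (m : ℤ), (fun k : ℤ => if k = 0 then (1 : ℂ) else 0) k * φ k y) *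
        ((starRingEnd ℂ) (∑ j : Fin m, x j * φ (-(j : ℤ)) y) *
          (∑ j : Fin m, x j * φ (-(j : ℤ)) y)) = ∫ y in (0 : ℝ)..2 * Real.pi, (0 : ℂ) := by
      refine intervalIntegral.integral_congr fun y hy => ?_
      rw [Set.uIcc_of_le (by positivity)] at hy
      have : p y = 0 := hsub2 hy
      show _ * (_ * p y) = 0
      rw [this]; simp
    rw [hzero] at hPars
    simp only [intervalIntegral.integral_zero] at hPars
    have h2pi : (2 * (Real.pi : ℂ)) ≠ 0 := by
      have := Real.pi_ne_zero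
      simp [this]
    have hsum0 : ∑ i : Fin m, ∑ j : Fin m,
        (starRingEnd ℂ) (x i) * (if ((j : ℤ) - (i : ℤ)) = 0 then (1 : ℂ) else 0) * x j = 0 := by
      rcases mul_eq_zero.mp hPars.symm with h1 | h1
      · exact absurd h1 h2pi
      · exact h1
    have hsum1 : ∑ i : Fin m, ((Complex.normSq (x i) : ℝ) : ℂ) = 0 := by
      rw [← hsum0]
      refine Finset.sum_congr rfl fun i _ => ?_
      rw [Finset.sum_eq_single i]
      · simp [Complex.normSq_eq_conj_mul_self]
      · intro j _ hj
        rw [if_neg]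
        · simp
        · intro h; apply hj; apply Fin.ext; omega
      · intro h; exact absurd (Finset.mem_univ i) h
    have hsum2 : ∑ i : Fin m, Complex.normSq (x i) = 0 := by
      have : ((∑ i : Fin m, Complex.normSq (x i) : ℝ) : ℂ) = 0 := by
        push_cast; exact hsum1
      exact_mod_cast this
    apply hx
    ext i
    have := (Finset.sum_eq_zero_iff_of_nonneg (fun i _ => Complex.normSq_nonneg (x i))).mp hsum2 i
      (Finset.mem_univ i)
    exact Complex.normSq_eq_zero.mp this
  have hint_pos : 0 < ∫ y in (0 : ℝ)..2 * Real.pi, h y :=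
    intervalIntegral.integral_pos (by positivity) hhc.continuousOn (fun y _ => hhnonneg y) hexists
  rw [hre] at hint_pos
  have hzre : 0 < z.re := by
    have h2pi : (0 : ℝ) < 2 * Real.pi := by positivity
    rcases (mul_pos_iff.mp hint_pos) with ⟨_, h2⟩ | ⟨h1, _⟩
    · exact h2
    · exact absurd h1 (not_lt.mpr h2pi.le)
  rw [Complex.pos_iff]
  exact ⟨hzre, him.symm⟩



/-- Let A be an m × m complex Hermitian Toeplitz matrix, with entries A i j = t (j - i) constant along
diagonals, and let f(y) = Σ_{-m < k < m} t k · exp(i k y) be the trigonometric polynomial attached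
to it. If f has positive real part at every real y outside a countable set, then A is positive
definite (hence nondegenerate). (The source also states the mirror case: f negative off a countable
set gives A negative definite, which is this statement for -A.) -/
theorem result
    (m : ℕ) (t : ℤ → ℂ) (A : Matrix (Fin m) (Fin m) ℂ)
    (hA : ∀ i j : Fin m, A i j = t ((j : ℤ) - (i : ℤ))) (hH : A.IsHermitian)
    (hpos : Set.Countable {y : ℝ | ¬ 0 < (∑ k ∈ Finset.Ioo (-(m : ℤ)) (m : ℤ),
        t k * Complex.exp (Complex.I * (k : ℂ) * (y : ℂ))).re}) :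
    A.PosDef := by
  exact main m t A hA hH hpos

end Groth.Agent.S19019
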