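import Groth.Statements.S19020
import Mathlib.Data.Nat.Choose.Vandermonde
import Mathlib.Tactic.Ring
import Mathlib.Tactic.Linarith

set_option autoImplicit false
open Toeplitz

namespace Groth.Agent.S19020

open Finset

/-- The shifted binomial coefficient `C(n, l - i)`, zero when `l < i`. -/
def b (n l i : ℕ) : ℕ := if i ≤ l then n.choose (l - i) else 0

/-- A shifted form of Vandermonde's identity. -/
lemma vandermonde_shift (n d : ℕ) :
    ∑ t ∈ range (n + 1), n.choose (d + t) * n.choose t = (2 * n).choose (n + d) := by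
  have hV : (2 * n).choose (n + d) =
      ∑ a ∈ range (d + (n + 1)), n.choose a * n.choose (n + d - a) := by
    rw [two_mul, Nat.add_choose_eq, Finset.Nat.sum_antidiagonal_eq_sum_range_succ_mk]
    have hnd : (n + d).succ = d + (n + 1) := by omega
    rw [hnd]
  rw [hV, Finset.sum_range_add _ d (n + 1)]
  have h0 : ∑ a ∈ range d, n.choose a * n.choose (n + d - a) = 0 := by
    apply Finset.sum_eq_zero
    intro a ha
    rw [Finset.mem_range] at ha
    have : n.choose (n + d - a) = 0 := Nat.choose_eq_zero_of_lt (by omega)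
    rw [this, mul_zero]
  rw [h0, zero_add]
  apply Finset.sum_congr rfl
  intro t ht
  rw [Finset.mem_range] at ht
  have e : n + d - (d + t) = n - t := by omega
  rw [e, Nat.choose_symm (by omega)]

lemma sum_b_mul_b (n i j N : ℕ) (hij : i ≤ j) (hN : j + n < N) :
    ∑ l ∈ range N, b n l i * b n l j = (2 * n).choose (n + (j - i)) := by
  obtain ⟨r, rfl⟩ : ∃ r, N = j + (n + 1) + r := ⟨N - (j + (n + 1)), by omega⟩
  rw [Finset.sum_range_add, Finset.sum_range_add]
  have h1 : ∑ l ∈ range j, b n l i * b n l j = 0 := by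
    apply Finset.sum_eq_zero
    intro l hl
    rw [Finset.mem_range] at hl
    have : b n l j = 0 := by unfold b; rw [if_neg (by omega)]
    rw [this, mul_zero]
  have h3 : ∑ x ∈ range r, b n (j + (n + 1) + x) i * b n (j + (n + 1) + x) j = 0 := by
    apply Finset.sum_eq_zero
    intro x _
    have : b n (j + (n + 1) + x) j = 0 := by
      unfold b; rw [if_pos (by omega), Nat.choose_eq_zero_of_lt (by omega)]
    rw [this, mul_zero]
  rw [h1, h3, zero_add, add_zero, ← vandermonde_shift]
  apply Finset.sum_congr rfl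
  intro t _
  unfold b
  rw [if_pos (by omega), if_pos (by omega)]
  have e1 : j + t - i = (j - i) + t := by omega
  have e2 : j + t - j = t := by omega
  rw [e1, e2]

lemma sum_b_mul_b_dist (n i j N : ℕ) (hi : i + n < N) (hj : j + n < N) :
    ∑ l ∈ range N, b n l i * b n l j = (2 * n).choose (n + Nat.dist i j) := by
  rcases le_total i j with h | h
  · rw [sum_b_mul_b n i j N h hj, Nat.dist_eq_sub_of_le h]
  · rw [Nat.dist_eq_sub_of_le_right h, ← sum_b_mul_b n j i N h hi]
    exact Finset.sum_congr rfl fun l _ => mul_comm _ _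

/-- For natural numbers n and m, the m × m real Toeplitz matrix with (i, j) entry (-1)^(i+j) · C(2n, n +
|i - j|), i.e. with t_k = (-1)^k C(2n, n + k) on the k-th diagonal for |k| ≤ n and zero beyond, is
positive definite; in particular it is nondegenerate, which is the printed assertion (positive
definiteness is what the printed proof establishes; m = 0 is the empty matrix). -/
theorem result (n m : ℕ) :
    (Matrix.of fun i j : Fin m =>
        (-1 : ℝ) ^ ((i : ℕ) + (j : ℕ)) * (Nat.choose (2 * n) (n + Nat.dist i j) : ℝ)).PosDef := by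
  classical
  set M : Matrix (Fin m) (Fin m) ℝ := Matrix.of fun i j : Fin m =>
    (-1 : ℝ) ^ ((i : ℕ) + (j : ℕ)) * (Nat.choose (2 * n) (n + Nat.dist i j) : ℝ) with hM
  have hq : ∀ x : Fin m → ℝ, star x ⬝ᵥ (M.mulVec x) =
      ∑ l ∈ range (m + n), (∑ i : Fin m, (-1 : ℝ) ^ (i : ℕ) * x i * (b n l i : ℝ)) ^ 2 := by
    intro x
    have hL : star x ⬝ᵥ (M.mulVec x) = ∑ i, ∑ j, x i * (M i j * x j) := by
      simp only [dotProduct, Matrix.mulVec, Pi.star_apply, star_trivial, Finset.mul_sum]
    have hR : ∑ l ∈ range (m + n), (∑ i : Fin m, (-1 : ℝ) ^ (i : ℕ) * x i * (b n l i : ℝ)) ^ 2 =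
        ∑ i : Fin m, ∑ j : Fin m, ∑ l ∈ range (m + n),
          ((-1 : ℝ) ^ (i : ℕ) * x i * (b n l i : ℝ)) * ((-1 : ℝ) ^ (j : ℕ) * x j * (b n l j : ℝ)) := by
      simp only [sq, Finset.sum_mul_sum]
      rw [Finset.sum_comm]
      refine Finset.sum_congr rfl fun i _ => ?_
      rw [Finset.sum_comm]
    rw [hL, hR]
    refine Finset.sum_congr rfl fun i _ => Finset.sum_congr rfl fun j _ => ?_
    have hV := sum_b_mul_b_dist n i j (m + n) (by have := i.2; omega) (by have := j.2; omega)
    have hsum : ∑ l ∈ range (m + n),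
          ((-1 : ℝ) ^ (i : ℕ) * x i * (b n l i : ℝ)) * ((-1 : ℝ) ^ (j : ℕ) * x j * (b n l j : ℝ)) =
        (-1 : ℝ) ^ ((i : ℕ) + (j : ℕ)) * x i * x j *
          ((∑ l ∈ range (m + n), b n l i * b n l j : ℕ) : ℝ) := by
      push_cast
      rw [Finset.mul_sum]
      refine Finset.sum_congr rfl fun l _ => ?_
      rw [pow_add]; ring
    rw [hsum, hV]
    simp only [hM, Matrix.of_apply]
    ring
  refine Matrix.PosDef.of_dotProduct_mulVec_pos ?_ ?_
  · ext i j
    simp only [hM, Matrix.conjTranspose_apply, Matrix.of_apply, star_trivial]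
    rw [Nat.dist_comm, add_comm (j : ℕ)]
  · intro x hx
    rw [hq x]
    have hnn : ∀ l ∈ range (m + n),
        0 ≤ (∑ i : Fin m, (-1 : ℝ) ^ (i : ℕ) * x i * (b n l i : ℝ)) ^ 2 := fun l _ => sq_nonneg _
    rcases (Finset.sum_nonneg hnn).lt_or_eq with h | h
    · exact h
    · exfalso
      apply hx
      have hz := (Finset.sum_eq_zero_iff_of_nonneg hnn).1 h.symm
      have hs : ∀ l, l < m + n → ∑ i : Fin m, (-1 : ℝ) ^ (i : ℕ) * x i * (b n l i : ℝ) = 0 := by
        intro l hl
        have := hz l (Finset.mem_range.2 hl)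
        exact (pow_eq_zero_iff two_ne_zero).1 this
      have key : ∀ k (hk : k < m), x ⟨k, hk⟩ = 0 := by
        intro k
        induction k using Nat.strong_induction_on with | h k IH => ?_
        intro hk
        have h1 := hs k (by omega)
        rw [Finset.sum_eq_single ⟨k, hk⟩] at h1
        · have hb : b n k k = 1 := by unfold b; simp
          simp only [hb, Nat.cast_one, mul_one] at h1
          rcases mul_eq_zero.1 h1 with h2 | h2
          · exact absurd h2 (pow_ne_zero _ (by norm_num))
          · exact h2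
        · intro i _ hik
          have hik' : (i : ℕ) ≠ k := fun h => hik (Fin.ext h)
          rcases lt_or_gt_of_ne hik' with hlt | hgt
          · have : x i = 0 := IH i hlt i.2
            rw [this]; ring
          · have : b n k i = 0 := by unfold b; rw [if_neg (by omega)]
            rw [this]; simp
        · intro h; exact absurd (Finset.mem_univ _) h
      ext i
      exact key i i.2

end Groth.Agent.S19020
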