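import Groth.Statements.S19021
import Mathlib

set_option autoImplicit false
open Toeplitz

namespace Groth.Agent.S19021

set_option linter.style.haveILetI false
set_option linter.unusedSectionVars false
set_option linter.unusedVariables false

open Polynomial

/-- A polynomial with at most `k` monomials that vanishes to order `k` at a nonzero point is zero. -/
theorem fewnomial (c : ℤ) (hc : c ≠ 0) : ∀ (k : ℕ) (P : ℤ[X]), P.support.card ≤ k →
    (X - C c) ^ k ∣ P → P = 0 := by
  intro k
  induction k with
  | zero =>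
    intro P hP _
    have : P.support = ∅ := Finset.card_eq_zero.mp (Nat.le_zero.mp hP)
    exact Polynomial.support_eq_empty.mp this
  | succ k ih =>
    intro P hP hdvd
    by_contra hP0
    set e := P.natDegree with he
    have hemem : e ∈ P.support := Polynomial.natDegree_mem_support_of_nonzero hP0
    set Q : ℤ[X] := X * derivative P - C (e : ℤ) * P with hQ
    have coeffQ : ∀ j, Q.coeff j = ((j : ℤ) - e) * P.coeff j := by
      intro j
      rw [hQ, coeff_sub, coeff_C_mul]
      cases j with
      | zero => simp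
      | succ i =>
        rw [coeff_X_mul, coeff_derivative]
        push_cast
        ring
    have hsupp : Q.support ⊆ P.support.erase e := by
      intro j hj
      rw [mem_support_iff, coeffQ] at hj
      rw [Finset.mem_erase, mem_support_iff]
      refine ⟨?_, right_ne_zero_of_mul hj⟩
      rintro rfl
      exact hj (by simp)
    have hcard : Q.support.card ≤ k := by
      have := Finset.card_le_card hsupp
      rw [Finset.card_erase_of_mem hemem] at this
      omega
    have hdvdQ : (X - C c) ^ k ∣ Q := by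
      rw [hQ]
      refine dvd_sub (Dvd.dvd.mul_left ?_ _) (Dvd.dvd.mul_left ?_ _)
      · have := pow_sub_one_dvd_derivative_of_pow_dvd hdvd
        simpa using this
      · exact dvd_trans (pow_dvd_pow _ (Nat.le_succ k)) hdvd
    have hQ0 : Q = 0 := ih Q hcard hdvdQ
    have hcoef : ∀ j, j ≠ e → P.coeff j = 0 := by
      intro j hj
      have := coeffQ j
      rw [hQ0, coeff_zero] at this
      rcases mul_eq_zero.mp this.symm with h | h
      · exact absurd (by exact_mod_cast sub_eq_zero.mp h) hj
      · exact h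
    have hPe : P = C (P.coeff e) * X ^ e := by
      ext j
      rw [coeff_C_mul_X_pow]
      by_cases hj : j = e
      · simp [hj]
      · simp [hj, hcoef j hj]
    have hroot : P.eval c = 0 := by
      have : (X - C c) ∣ P := dvd_trans (dvd_pow_self _ (Nat.succ_ne_zero k)) hdvd
      exact (Polynomial.dvd_iff_isRoot.mp this)
    rw [hPe] at hroot
    simp only [eval_mul, eval_C, eval_pow, eval_X] at hroot
    rcases mul_eq_zero.mp hroot with h | h
    · exact (mem_support_iff.mp hemem) h
    · exact hc (pow_eq_zero_iff (by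
        intro he0
        rw [he0] at h; simp at h) |>.mp h)


theorem main (n m : ℕ) :
    (Matrix.of fun i j : Fin m =>
        (-1 : ℤ) ^ ((i : ℕ) + (j : ℕ)) *
          (if (j : ℕ) ≤ (i : ℕ) then (Nat.choose (2 * n + 1) (n + 1 + ((i : ℕ) - (j : ℕ))) : ℤ)
            else (Nat.choose (2 * n + 1) (n + ((j : ℕ) - (i : ℕ))) : ℤ))).det ≠ 0 := by
  classical
  intro hdet
  rw [← Matrix.exists_mulVec_eq_zero_iff] at hdet
  obtain ⟨v, hv0, hTv⟩ := hdet
  apply hv0
  -- entries
  have hentry : ∀ i j : ℕ,
      (if j ≤ i then (Nat.choose (2 * n + 1) (n + 1 + (i - j)) : ℤ)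
        else (Nat.choose (2 * n + 1) (n + (j - i)) : ℤ)) =
      (if j ≤ n + 1 + i then (Nat.choose (2 * n + 1) (n + 1 + i - j) : ℤ) else 0) := by
    intro i j
    by_cases h1 : j ≤ i
    · have h2 : j ≤ n + 1 + i := by omega
      rw [if_pos h1, if_pos h2]
      congr 2; omega
    · rw [if_neg h1]
      by_cases h2 : j ≤ n + 1 + i
      · rw [if_pos h2]
        congr 1
        apply Nat.choose_symm_of_eq_add
        omega
      · rw [if_neg h2]
        rw [Nat.choose_eq_zero_of_lt (by omega)]; rfl
  set w : Fin m → ℤ := fun j => (-1) ^ (j : ℕ) * v j with hw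
  set W : ℤ[X] := ∑ j : Fin m, C (w j) * X ^ (j : ℕ) with hW
  set F : ℤ[X] := (1 + X) ^ (2 * n + 1) * W with hF
  have coeffF : ∀ k, F.coeff k =
      ∑ j : Fin m, w j * (if (j : ℕ) ≤ k then (Nat.choose (2 * n + 1) (k - j) : ℤ) else 0) := by
    intro k
    have : F = ∑ j : Fin m, C (w j) * ((1 + X) ^ (2 * n + 1) * X ^ (j : ℕ)) := by
      rw [hF, hW, Finset.mul_sum]
      refine Finset.sum_congr rfl fun j _ => ?_
      ring
    rw [this, finsetSum_coeff]
    refine Finset.sum_congr rfl fun j _ => ?_
    rw [coeff_C_mul, coeff_mul_X_pow', coeff_one_add_X_pow]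
  have hzero : ∀ i : Fin m, F.coeff (n + 1 + i) = 0 := by
    intro i
    have h1 := congrFun hTv i
    simp only [Matrix.mulVec, dotProduct, Matrix.of_apply, Pi.zero_apply] at h1
    rw [coeffF]
    have h2 : ∑ j : Fin m, w j * (if (j : ℕ) ≤ n + 1 + i then
        (Nat.choose (2 * n + 1) (n + 1 + i - j) : ℤ) else 0) =
        (-1) ^ (i : ℕ) * ∑ j : Fin m, (-1 : ℤ) ^ ((i : ℕ) + (j : ℕ)) *
          (if (j : ℕ) ≤ (i : ℕ) then (Nat.choose (2 * n + 1) (n + 1 + ((i : ℕ) - (j : ℕ))) : ℤ)
            else (Nat.choose (2 * n + 1) (n + ((j : ℕ) - (i : ℕ))) : ℤ)) * v j := by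
      rw [Finset.mul_sum]
      refine Finset.sum_congr rfl fun j _ => ?_
      rw [hentry i j]
      simp only [hw]
      have hs : (-1 : ℤ) ^ (i : ℕ) * (-1) ^ ((i : ℕ) + (j : ℕ)) = (-1) ^ (j : ℕ) := by
        rw [← pow_add, ← add_assoc, ← two_mul, pow_add, pow_mul]; simp
      rw [← hs]; ring
    rw [h2, h1, mul_zero]
  have hbig : ∀ k, 2 * n + 1 + m ≤ k → F.coeff k = 0 := by
    intro k hk
    rw [coeffF]
    refine Finset.sum_eq_zero fun j _ => ?_
    have hj : (j : ℕ) < m := j.2
    rw [if_pos (by omega), Nat.choose_eq_zero_of_lt (by omega)]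
    simp
  have hsupp : F.support ⊆ Finset.range (n + 1) ∪ Finset.Ico (n + m + 1) (2 * n + m + 1) := by
    intro k hk
    rw [mem_support_iff] at hk
    rw [Finset.mem_union, Finset.mem_range, Finset.mem_Ico]
    by_contra hcon
    push Not at hcon
    obtain ⟨h1, h2⟩ := hcon
    by_cases h3 : k < n + 1 + m
    · have hi : k - (n + 1) < m := by omega
      have := hzero ⟨k - (n + 1), hi⟩
      simp only at this
      rw [show n + 1 + (k - (n + 1)) = k by omega] at this
      exact hk this
    · have h4 : n + m + 1 ≤ k := by omega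
      have h5 := h2 h4
      exact hk (hbig k (by omega))
  have hcard : F.support.card ≤ 2 * n + 1 := by
    refine (Finset.card_le_card hsupp).trans ((Finset.card_union_le _ _).trans ?_)
    rw [Finset.card_range, Nat.card_Ico]
    omega
  have hdvd : (X - C (-1 : ℤ)) ^ (2 * n + 1) ∣ F := by
    have : (X - C (-1 : ℤ)) = 1 + X := by
      rw [C_neg, C_1]; ring
    rw [this, hF]
    exact Dvd.intro _ rfl
  have hF0 : F = 0 := fewnomial (-1) (by norm_num) _ F hcard hdvd
  have hW0 : W = 0 := by
    rw [hF] at hF0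
    rcases mul_eq_zero.mp hF0 with h | h
    · exfalso
      have h1 : (1 + X : ℤ[X]) = 0 := pow_eq_zero_iff (by omega) |>.mp h
      have := congrArg (fun p => coeff p 1) h1
      simp [coeff_one] at this
    · exact h
  ext j
  have hcoef : W.coeff (j : ℕ) = w j := by
    rw [hW, finsetSum_coeff]
    rw [Finset.sum_eq_single j]
    · rw [coeff_C_mul_X_pow]; simp
    · intro b _ hb
      rw [coeff_C_mul_X_pow, if_neg]
      intro h; exact hb (Fin.ext h.symm)
    · intro h; exact absurd (Finset.mem_univ j) h
  rw [hW0, coeff_zero] at hcoef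
  have : (-1 : ℤ) ^ (j : ℕ) * v j = 0 := hcoef.symm
  rcases mul_eq_zero.mp this with h | h
  · exact absurd h (pow_ne_zero _ (by norm_num))
  · simpa using h



/-- For natural numbers n and m, the m × m integer Toeplitz matrix with (i, j) entry (-1)^(i+j) ·
C(2n+1, n+1+i-j) (the binomial coefficient being 0 outside the range 0 ≤ n+1+i-j ≤ 2n+1;
equivalently s_k = (-1)^k C(2n+1, n+k+1) on the diagonal i - j = k for -n-1 ≤ k ≤ n and zero beyond)
is nondegenerate: its determinant is nonzero (m = 0 is the empty matrix, of determinant 1). -/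
theorem result (n m : ℕ) :
    (Matrix.of fun i j : Fin m =>
        (-1 : ℤ) ^ ((i : ℕ) + (j : ℕ)) *
          (if (j : ℕ) ≤ (i : ℕ) then (Nat.choose (2 * n + 1) (n + 1 + ((i : ℕ) - (j : ℕ))) : ℤ)
            else (Nat.choose (2 * n + 1) (n + ((j : ℕ) - (i : ℕ))) : ℤ))).det ≠ 0 := by
  exact main n m

end Groth.Agent.S19021
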