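import Groth.Statements.S19022
import Mathlib
import Groth.Agent.Lib.Helper18.SemiLocalGen
import Groth.Agent.Lib.Helper28.LocalGen

set_option autoImplicit false
universe u
open CategoryTheory AlgebraicGeometry
open PicF

namespace Groth.Agent.S19022

open Groth.Agent.Lib.Helper18.InvGen Groth.Agent.Lib.Helper18.SemiLocalGen
  Groth.Agent.Lib.helper16.FLF TopologicalSpace

/-- a stalkwise generator over an affine open trivialises the module there -/
theorem isTrivOn_of_isGen {X : Scheme.{u}} {L : X.Modules} (hL : PicF.IsInvertible L) {U : X.Opens}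
    (hU : IsAffineOpen U) (ℓ : Γ(L, U)) (hℓ : IsGen L U ℓ) :
    Nonempty (L.restrict U.ι ≅ Coh.structureModule (↑U : Scheme.{u})) := by
  have hM := (isInvertible_iff_isFinLocFreeOfRank_one L).1 hL
  haveI := isQuasicoherent_of_isFinLocFree L (isFinLocFree_of_isFinLocFreeOfRank hM)
  refine Groth.Agent.Lib.helper28.LocalGen.isTrivOn_of_local_generator L U ℓ (fun _ : Unit => U)
    (fun _ => hU) (fun _ => le_rfl) (le_iSup (fun _ : Unit => U) ()) (fun _ => ⟨?_, ?_⟩)
  · intro a b hab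
    exact hℓ.smul_injective le_rfl a b hab
  · intro m
    exact hℓ.exists_smul_eq le_rfl m

/-- a finite set of points of an affine open inside an open lies in a basic open inside it -/
theorem exists_basicOpen_le {X : Scheme.{u}} {W : X.Opens} (hW : IsAffineOpen W) (D : X.Opens)
    (T : Finset X) (hTW : ∀ x ∈ T, x ∈ W) (hTD : ∀ x ∈ T, x ∈ D) :
    ∃ f : Γ(X, W), X.basicOpen f ≤ D ∧ ∀ x ∈ T, x ∈ X.basicOpen f := by
  classical
  let O : Set (PrimeSpectrum Γ(X, W)) := hW.fromSpec ⁻¹' (D : Set X)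
  have hO : IsOpen O := D.2.preimage hW.fromSpec.continuous
  let I : Ideal Γ(X, W) := PrimeSpectrum.vanishingIdeal Oᶜ
  let T' : Finset (PrimeSpectrum Γ(X, W)) :=
    T.attach.image (fun x => hW.primeIdealOf ⟨x.1, hTW x.1 x.2⟩)
  have hT'O : ∀ p ∈ T', p ∈ O := by
    intro p hp
    obtain ⟨x, -, rfl⟩ := Finset.mem_image.mp hp
    show hW.fromSpec (hW.primeIdealOf ⟨x.1, hTW x.1 x.2⟩) ∈ D
    rw [hW.fromSpec_primeIdealOf]
    exact hTD x.1 x.2
  have hnot : ¬ ((I : Set Γ(X, W)) ⊆ ⋃ p ∈ (↑T' : Set (PrimeSpectrum Γ(X, W))), (p.asIdeal : Set _)) := by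
    intro hsub
    rcases T'.eq_empty_or_nonempty with hemp | ⟨p₀, hp₀⟩
    · have h0 := hsub I.zero_mem
      rw [hemp] at h0
      simp at h0
    · obtain ⟨p, hp, hIp⟩ := (Ideal.subset_union_prime (s := T')
        (f := fun p : PrimeSpectrum Γ(X, W) => p.asIdeal) p₀ p₀
        (fun p _ _ _ => p.2)).mp hsub
      have h1 : p ∈ PrimeSpectrum.zeroLocus (I : Set Γ(X, W)) := hIp
      rw [PrimeSpectrum.zeroLocus_vanishingIdeal_eq_closure, hO.isClosed_compl.closure_eq] at h1
      exact h1 (hT'O p hp)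
  obtain ⟨f, hfI, hfT⟩ := Set.not_subset.mp hnot
  have hfT' : ∀ p ∈ T', f ∉ p.asIdeal := by
    intro p hp hfp
    exact hfT (Set.mem_biUnion (Finset.mem_coe.mpr hp) hfp)
  have hpre := hW.fromSpec_preimage_basicOpen f
  refine ⟨f, fun x hx => ?_, fun x hx => ?_⟩
  · have hxW : x ∈ W := X.basicOpen_le f hx
    have h1 : hW.primeIdealOf ⟨x, hxW⟩ ∈ hW.fromSpec ⁻¹ᵁ X.basicOpen f := by
      show hW.fromSpec (hW.primeIdealOf ⟨x, hxW⟩) ∈ X.basicOpen f
      rw [hW.fromSpec_primeIdealOf]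
      exact hx
    rw [hpre] at h1
    have h2 : f ∉ (hW.primeIdealOf ⟨x, hxW⟩).asIdeal := h1
    by_contra hxD
    apply h2
    have h3 : hW.primeIdealOf ⟨x, hxW⟩ ∈ Oᶜ := by
      intro h4
      apply hxD
      have h5 : hW.fromSpec (hW.primeIdealOf ⟨x, hxW⟩) ∈ D := h4
      rwa [hW.fromSpec_primeIdealOf] at h5
    exact (PrimeSpectrum.mem_vanishingIdeal _ _).mp hfI _ h3
  · have hp : hW.primeIdealOf ⟨x, hTW x hx⟩ ∈ T' :=
      Finset.mem_image.mpr ⟨⟨x, hx⟩, Finset.mem_attach _ _, rfl⟩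
    have h1 : hW.primeIdealOf ⟨x, hTW x hx⟩ ∈ hW.fromSpec ⁻¹ᵁ X.basicOpen f := by
      rw [hpre]
      exact hfT' _ hp
    have h2 : hW.fromSpec (hW.primeIdealOf ⟨x, hTW x hx⟩) ∈ X.basicOpen f := h1
    rwa [hW.fromSpec_primeIdealOf] at h2

/-- Let X be a scheme, L an invertible O_X-module and T a finite set of closed points of X that lies in
some affine open of X. Then T lies in an affine open U of X on which L is trivial (L restricted to U
is isomorphic to the structure sheaf). (The source states this for a smooth quasi-projective complex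
surface, where every finite set of points lies in an affine open, and phrases it as: X^n and the
symmetric product S^n X are covered by the opens U^n and S^n U with U affine and L trivial on U; the
printed argument uses only that the finitely many points lie in one affine open, which is taken as
the hypothesis here.) -/
theorem result
    (X : Scheme.{u}) (L : X.Modules) (hL : PicF.IsInvertible L)
    (T : Finset X) (hT : ∀ x ∈ T, IsClosed ({x} : Set X))
    (hU : ∃ U : X.Opens, IsAffineOpen U ∧ ∀ x ∈ T, x ∈ U) :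
    ∃ U : X.Opens, IsAffineOpen U ∧ (∀ x ∈ T, x ∈ U) ∧
      Nonempty (L.restrict U.ι ≅ Coh.structureModule (↑U : Scheme.{u})) := by
  classical
  obtain ⟨W, hW, hTW⟩ := hU
  let T' : Finset (PrimeSpectrum Γ(X, W)) :=
    T.attach.image (fun x => hW.primeIdealOf ⟨x.1, hTW x.1 x.2⟩)
  have hinc : ∀ p ∈ T', ∀ q ∈ T', q.asIdeal ≤ p.asIdeal → q = p := by
    intro p hp q hq hle
    obtain ⟨y, -, rfl⟩ := Finset.mem_image.mp hq
    have hmax := hW.primeIdealOf_isMaximal_of_isClosed ⟨y.1, hTW y.1 y.2⟩ (hT y.1 y.2)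
    exact PrimeSpectrum.ext (hmax.eq_of_le p.2.ne_top hle)
  obtain ⟨D, ℓ, hℓ, hD⟩ := exists_isGen_of_finset hL hW T' hinc
  have hTD : ∀ x ∈ T, x ∈ D := by
    intro x hx
    have h1 := hD (hW.primeIdealOf ⟨x, hTW x hx⟩)
      (Finset.mem_image.mpr ⟨⟨x, hx⟩, Finset.mem_attach _ _, rfl⟩)
    rwa [hW.fromSpec_primeIdealOf] at h1
  obtain ⟨f, hfD, hfT⟩ := exists_basicOpen_le hW D T hTW hTD
  exact ⟨X.basicOpen f, hW.basicOpen f, hfT,
    isTrivOn_of_isGen hL (hW.basicOpen f) _ (hℓ.res hfD)⟩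

end Groth.Agent.S19022
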