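import Groth.Statements.S19025
import Mathlib

set_option autoImplicit false
universe u
open HigherRestr

namespace Groth.Agent.S19025

section aux
variable {S : Type u} [CommRing S]

/-- shift operator on sequences -/
def E : Module.End S (ℕ → S) where
  toFun f := fun n => f (n + 1)
  map_add' _ _ := rfl
  map_smul' _ _ := rfl

/-- difference operator -/
def D : Module.End S (ℕ → S) := E - 1

theorem D_apply (f : ℕ → S) : D f = fwdDiff (1 : ℕ) f := by
  funext n
  simp [D, E, fwdDiff]

theorem D_pow_apply (k : ℕ) (f : ℕ → S) : (D ^ k) f = (fwdDiff (1 : ℕ))^[k] f := by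
  rw [Module.End.pow_apply]
  have : (⇑(D : Module.End S (ℕ → S))) = fwdDiff (1 : ℕ) := funext D_apply
  rw [this]

theorem E_pow_apply (k : ℕ) (f : ℕ → S) (n : ℕ) : ((E : Module.End S (ℕ → S)) ^ k) f n = f (n + k) := by
  induction k generalizing f n with
  | zero => simp
  | succ k ih =>
    rw [pow_succ, Module.End.mul_apply, ih]
    simp only [E, LinearMap.coe_mk, AddHom.coe_mk]
    congr 1

theorem smul_pow_apply (a : S) (A : Module.End S (ℕ → S)) (k : ℕ) (f : ℕ → S) (n : ℕ) :
    ((a • A) ^ k) f n = a ^ k * (A ^ k) f n := by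
  rw [smul_pow]
  simp

theorem commute_E_D : Commute (E : Module.End S (ℕ → S)) D :=
  (Commute.refl E).sub_right (Commute.one_right E)

end aux

/-- In abstract form, the estimate its proof establishes. Let S be a commutative ring, I an ideal of S,
g₀ and g₁ elements with g₁ - g₀ ∈ I, N a natural number and y a sequence in S such that, for 1 ≤ i ≤
N, the (N-i)-fold unit-step forward difference of y taken at i lies in I^(N-i). Then g₀^N times the
N-fold forward difference of y at 0, minus the N-fold forward difference at 0 of the twisted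
sequence j ↦ g₀^(N-j) g₁^j y_j, lies in I^N. (In the source S is the ring of functions on an affine
chart of X^n, I the ideal of a pairwise diagonal, g₀ and g₁ the two pullbacks of a transition unit
of L, and y_j the components x_λ along the compositions a₀^(N-j) a₁^j μ; the estimate is what makes
the higher order restrictions D^l_L well defined on ker D^(l-1)_L independently of the
trivialisation.) -/
theorem result
    (S : Type u) [CommRing S] (I : Ideal S) (g₀ g₁ : S) (hg : g₁ - g₀ ∈ I)
    (N : ℕ) (y : ℕ → S)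
    (hy : ∀ i : ℕ, 1 ≤ i → i ≤ N → (fwdDiff (1 : ℕ))^[N - i] y i ∈ I ^ (N - i)) :
    g₀ ^ N * (fwdDiff (1 : ℕ))^[N] y 0 -
        (fwdDiff (1 : ℕ))^[N] (fun j : ℕ => g₀ ^ (N - j) * g₁ ^ j * y j) 0 ∈ I ^ N := by
  -- the operator A = g₁ E - g₀
  have hA : (g₁ • (E : Module.End S (ℕ → S)) + (-g₀) • 1) = (g₁ - g₀) • E + g₀ • D := by
    rw [D]
    module
  -- first expansion
  have h1 : ((g₁ • (E : Module.End S (ℕ → S)) + (-g₀) • 1) ^ N) y 0 =
      (fwdDiff (1 : ℕ))^[N] (fun j : ℕ => g₀ ^ (N - j) * g₁ ^ j * y j) 0 := by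
    have hc : Commute (g₁ • (E : Module.End S (ℕ → S))) ((-g₀) • 1) :=
      (Commute.one_right _).smul_right _
    rw [hc.add_pow, fwdDiff_iter_eq_sum_shift, LinearMap.sum_apply, Finset.sum_apply]
    refine Finset.sum_congr rfl fun k hk => ?_
    rw [Module.End.mul_apply, Module.End.mul_apply, smul_pow_apply, E_pow_apply, smul_pow, one_pow]
    simp only [Module.End.natCast_apply, LinearMap.smul_apply, Module.End.one_apply, Pi.smul_apply,
      smul_eq_mul, zero_add, nsmul_eq_mul, mul_one, Pi.natCast_def, Pi.mul_apply, zsmul_eq_mul,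
      Int.cast_mul, Int.cast_pow, Int.cast_neg, Int.cast_one, Int.cast_natCast]
    rw [neg_pow g₀]
    ring
  -- second expansion
  have h2 : (((g₁ - g₀) • E + g₀ • D : Module.End S (ℕ → S)) ^ N) y 0 =
      ∑ m ∈ Finset.range (N + 1), (g₁ - g₀) ^ m * g₀ ^ (N - m) * (N.choose m : S) *
        (fwdDiff (1 : ℕ))^[N - m] y m := by
    have hc : Commute ((g₁ - g₀) • (E : Module.End S (ℕ → S))) (g₀ • D) :=
      (commute_E_D.smul_right _).smul_left _
    rw [hc.add_pow, LinearMap.sum_apply, Finset.sum_apply]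
    refine Finset.sum_congr rfl fun m hm => ?_
    rw [← Nat.cast_comm, Module.End.mul_apply, Module.End.natCast_apply, Module.End.mul_apply,
      Pi.smul_apply, smul_pow_apply, E_pow_apply, smul_pow]
    simp only [LinearMap.smul_apply, Pi.smul_apply, smul_eq_mul, zero_add,
      nsmul_eq_mul]
    rw [D_pow_apply]
    ring
  rw [← h1, hA, h2, Finset.sum_range_succ']
  simp only [pow_zero, one_mul, Nat.sub_zero, Nat.choose_zero_right, Nat.cast_one, mul_one]
  rw [sub_add_cancel_right]
  refine (I ^ N).neg_mem (Ideal.sum_mem _ fun m hm => ?_)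
  have hm' : m + 1 ≤ N := Finset.mem_range.mp hm
  have e1 : I ^ N = I ^ (m + 1) * I ^ (N - (m + 1)) := by
    rw [← pow_add]; congr 1; omega
  rw [e1]
  have e2 : (g₁ - g₀) ^ (m + 1) * g₀ ^ (N - (m + 1)) * (N.choose (m + 1) : S) *
      (fwdDiff (1 : ℕ))^[N - (m + 1)] y (m + 1) =
      (g₁ - g₀) ^ (m + 1) * ((g₀ ^ (N - (m + 1)) * (N.choose (m + 1) : S)) *
      (fwdDiff (1 : ℕ))^[N - (m + 1)] y (m + 1)) := by ring
  rw [e2]
  exact Ideal.mul_mem_mul (Ideal.pow_mem_pow hg _) (Ideal.mul_mem_left _ _ (hy (m + 1) (by omega) hm'))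

end Groth.Agent.S19025
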