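import Groth.Statements.S19026
import Mathlib
import Groth.Agent.Lib.Helper18.AdjD

set_option autoImplicit false
universe u
open CategoryTheory CategoryTheory.Limits AlgebraicGeometry
attribute [local instance] HasDerivedCategory.standard
open Curves

namespace Groth.Agent.S19026

open Groth.Agent.Lib.Helper18.AdjD

-- S19026 (⇒) part 1
theorem n1 (g d gJ kJ dJ wJ : ℤ) (hg : 2 ≤ g) (hgJ : 0 ≤ gJ) (hkJ : 0 ≤ kJ)
    (hadj : wJ = 2 * gJ - 2 + kJ) (hfull : kJ = 0 → gJ = g ∧ dJ = d ∧ wJ = 2 * g - 2)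
    (hb : |2 * (2 * g - 2) * dJ - 2 * d * wJ| ≤ (2 * g - 2) * kJ)
    (hn : 0 ≤ dJ) (hd : g - 1 < d) : 0 ≤ wJ := by
  by_contra hw
  push Not at hw
  rcases eq_or_lt_of_le hkJ with hk0 | hkpos
  · obtain ⟨-, -, h3⟩ := hfull hk0.symm
    omega
  · have hk1 : kJ = 1 := by omega
    have hw1 : wJ = -1 := by omega
    subst hk1 hw1
    have hb' := (abs_le.mp hb).2
    nlinarith [mul_nonneg (by linarith : (0:ℤ) ≤ 2 * g - 2) hn]

-- S19026 (⇒) part 2
theorem n2 (g d gJ kJ dJ wJ : ℤ) (hg : 2 ≤ g) (hgJ : 0 ≤ gJ) (hkJ : 0 ≤ kJ)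
    (hadj : wJ = 2 * gJ - 2 + kJ) (hfull : kJ = 0 → gJ = g ∧ dJ = d ∧ wJ = 2 * g - 2)
    (hb : |2 * (2 * g - 2) * dJ - 2 * d * wJ| ≤ (2 * g - 2) * kJ)
    (hn : 0 ≤ dJ) (hw0 : wJ = 0) : dJ = 0 ∨ dJ = 1 := by
  rcases eq_or_lt_of_le hkJ with hk0 | hkpos
  · obtain ⟨-, -, h3⟩ := hfull hk0.symm
    omega
  · have hk2 : kJ = 2 := by omega
    subst hk2 hw0
    have hb' := (abs_le.mp hb).2
    have : dJ ≤ 1 := by
      by_contra hlt
      push Not at hlt
      nlinarith [mul_nonneg (by linarith : (0:ℤ) ≤ 2 * g - 2) (by linarith : (0:ℤ) ≤ dJ - 2)]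
    omega

-- S19026 (⇐)
theorem n3 (g d gJ kJ dJ wJ : ℤ) (hg : 2 ≤ g) (hgJ : 0 ≤ gJ) (hkJ : 0 ≤ kJ)
    (hadj : wJ = 2 * gJ - 2 + kJ)
    (hb : |2 * (2 * g - 2) * dJ - 2 * d * wJ| ≤ (2 * g - 2) * kJ)
    (hw : 0 ≤ wJ) (hexc : wJ = 0 → dJ = 0 ∨ dJ = 1) (hd : g - 1 < d) : 0 ≤ dJ := by
  rcases eq_or_lt_of_le hw with hw0 | hwpos
  · rcases hexc hw0.symm with h | h <;> omega
  · by_contra hlt
    push Not at hlt
    have hb' := (abs_le.mp hb).1
    have h1 : (0 : ℤ) ≤ (2 * d - (2 * g - 2) - 2) * wJ := mul_nonneg (by linarith) hw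
    have h2 : (0 : ℤ) ≤ (2 * g - 2) * (wJ - (kJ - 2)) := mul_nonneg (by linarith) (by linarith)
    have h3 : (0 : ℤ) ≤ (2 * g - 2) * (-1 - dJ) := mul_nonneg (by linarith) (by linarith)
    nlinarith

/-- Let k be an algebraically closed field and X a connected reduced Gorenstein curve over k of genus g
≥ 2: X is proper over k, reduced, connected, of dimension one, and its dualizing module ω_X (the
degree −1 cohomology sheaf of f^! O for the structure morphism f, for any choice of the data Rf_* on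
D_QCoh with its right adjoint) is invertible; g = dim_k H^1(X, O_X). A connected subcurve Z of X is
a reduced connected closed subscheme of dimension one, deg_Z of a module means the degree of its
pullback to Z, g_Z = dim_k H^1(Z, O_Z), and k_Z is the length (k-dimension of global sections of the
structure sheaf) of the scheme-theoretic intersection of Z with the reduced closed subscheme
supported on the closure of X ∖ Z. Let L be an invertible module of degree d which is balanced: for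
every connected subcurve Z, |deg_Z L − (d/(2g−2)) deg_Z ω_X| ≤ k_Z/2 (written cleared of
denominators). Assume d > g − 1. Then L is nef (deg_Z L ≥ 0 for every connected subcurve Z) if and
only if X is G-semistable (deg_Z ω_X ≥ 0 for every connected subcurve Z) and every exceptional
subcurve Z (connected, with deg_Z ω_X = 0) has deg_Z L = 0 or 1. -/
theorem result (k : Type u) [Field k] [IsAlgClosed k] (X : Scheme.{u}) [X.Over (Spec (CommRingCat.of k))]
    [IsProper (X ↘ (Spec (CommRingCat.of k)))] [AlgebraicGeometry.IsReduced X] [ConnectedSpace X] (hdim : topologicalKrullDim X = 1)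
    [DCoh.HasRpush (X ↘ (Spec (CommRingCat.of k)))] (h : DCoh.RpushPreservesQCoh (X ↘ (Spec (CommRingCat.of k)))) [DCoh.HasShriek (X ↘ (Spec (CommRingCat.of k))) h]
    (OY : DCoh.DQCoh (Spec (CommRingCat.of k)))
    (hOY : Nonempty (OY.obj ≅ DCoh.inD (Spec (CommRingCat.of k)) (Coh.structureModule (Spec (CommRingCat.of k)))))
    (hGor : PicF.IsInvertible (DCoh.dualizingMod (X ↘ (Spec (CommRingCat.of k))) h OY 1)) (hg : 2 ≤ Curv2.genus k X)
    (L : X.Modules) (hL : PicF.IsInvertible L)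
    (hbal : ∀ J : X.IdealSheafData, AlgebraicGeometry.IsReduced J.subscheme → ConnectedSpace J.subscheme →
      topologicalKrullDim J.subscheme = 1 →
      |2 * (2 * (Curv2.genus k X : ℤ) - 2) * @Curv2.deg k _ J.subscheme ⟨J.subschemeι ≫ (X ↘ (Spec (CommRingCat.of k)))⟩ ((Scheme.Modules.pullback J.subschemeι).obj L) 1
          - 2 * Curv2.deg k X L 1 * @Curv2.deg k _ J.subscheme ⟨J.subschemeι ≫ (X ↘ (Spec (CommRingCat.of k)))⟩ ((Scheme.Modules.pullback J.subschemeι).obj (DCoh.dualizingMod (X ↘ (Spec (CommRingCat.of k))) h OY 1)) 1|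
        ≤ (2 * (Curv2.genus k X : ℤ) - 2) * (Module.finrank k (Coh.HH X (ClSub.quotMod (J ⊔ (Scheme.IdealSheafData.vanishingIdeal ⟨closure ((J.support : Set X)ᶜ), isClosed_closure⟩))) 0) : ℤ))
    (hd : (Curv2.genus k X : ℤ) - 1 < Curv2.deg k X L 1) :
    (∀ J : X.IdealSheafData, AlgebraicGeometry.IsReduced J.subscheme → ConnectedSpace J.subscheme →
      topologicalKrullDim J.subscheme = 1 →
      0 ≤ @Curv2.deg k _ J.subscheme ⟨J.subschemeι ≫ (X ↘ (Spec (CommRingCat.of k)))⟩ ((Scheme.Modules.pullback J.subschemeι).obj L) 1) ↔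
      ((∀ J : X.IdealSheafData, AlgebraicGeometry.IsReduced J.subscheme → ConnectedSpace J.subscheme →
      topologicalKrullDim J.subscheme = 1 →
        0 ≤ @Curv2.deg k _ J.subscheme ⟨J.subschemeι ≫ (X ↘ (Spec (CommRingCat.of k)))⟩ ((Scheme.Modules.pullback J.subschemeι).obj (DCoh.dualizingMod (X ↘ (Spec (CommRingCat.of k))) h OY 1)) 1) ∧
      (∀ J : X.IdealSheafData, AlgebraicGeometry.IsReduced J.subscheme → ConnectedSpace J.subscheme →
      topologicalKrullDim J.subscheme = 1 →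
        @Curv2.deg k _ J.subscheme ⟨J.subschemeι ≫ (X ↘ (Spec (CommRingCat.of k)))⟩ ((Scheme.Modules.pullback J.subschemeι).obj (DCoh.dualizingMod (X ↘ (Spec (CommRingCat.of k))) h OY 1)) 1 = 0 →
        (@Curv2.deg k _ J.subscheme ⟨J.subschemeι ≫ (X ↘ (Spec (CommRingCat.of k)))⟩ ((Scheme.Modules.pullback J.subschemeι).obj L) 1 = 0 ∨ @Curv2.deg k _ J.subscheme ⟨J.subschemeι ≫ (X ↘ (Spec (CommRingCat.of k)))⟩ ((Scheme.Modules.pullback J.subschemeι).obj L) 1 = 1))) := by
  have hG : (2 : ℤ) ≤ (Curv2.genus k X : ℤ) := by exact_mod_cast hg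
  constructor
  · intro hnef
    refine ⟨fun J hJr hJc hJd => ?_, fun J hJr hJc hJd hw0 => ?_⟩
    · obtain ⟨gJ, kJ, dJ, wJ, e1, e2, e3, e4, hgJ, hkJ, hadj, hfull⟩ :=
        package k X hdim h OY hOY hGor hL J hJr hJc hJd
      have hb := hbal J hJr hJc hJd
      have hn := hnef J hJr hJc hJd
      rw [e2, e3, e4] at hb
      rw [e3] at hn
      rw [e4]
      exact n1 _ _ gJ kJ dJ wJ hG hgJ hkJ hadj hfull hb hn hd
    · obtain ⟨gJ, kJ, dJ, wJ, e1, e2, e3, e4, hgJ, hkJ, hadj, hfull⟩ :=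
        package k X hdim h OY hOY hGor hL J hJr hJc hJd
      have hb := hbal J hJr hJc hJd
      have hn := hnef J hJr hJc hJd
      rw [e2, e3, e4] at hb
      rw [e3] at hn
      rw [e4] at hw0
      rw [e3]
      exact n2 _ _ gJ kJ dJ wJ hG hgJ hkJ hadj hfull hb hn hw0
  · rintro ⟨hss, hexc⟩ J hJr hJc hJd
    obtain ⟨gJ, kJ, dJ, wJ, e1, e2, e3, e4, hgJ, hkJ, hadj, hfull⟩ :=
      package k X hdim h OY hOY hGor hL J hJr hJc hJd
    have hb := hbal J hJr hJc hJd
    have hw := hss J hJr hJc hJd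
    have hx := hexc J hJr hJc hJd
    rw [e2, e3, e4] at hb
    rw [e4] at hw
    rw [e3, e4] at hx
    rw [e3]
    exact n3 _ _ gJ kJ dJ wJ hG hgJ hkJ hadj hb hw hx hd

end Groth.Agent.S19026
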