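import Groth.Statements.S19028
import Mathlib
import Groth.Agent.Lib.Helper18.AdjE

set_option autoImplicit false
universe u
open CategoryTheory CategoryTheory.Limits AlgebraicGeometry
attribute [local instance] HasDerivedCategory.standard
open Curves

namespace Groth.Agent.S19028

open Groth.Agent.Lib.Helper18.AdjD Groth.Agent.Lib.Helper18.AdjE

-- S19028
theorem n4 (g d gJ kJ dJ wJ : ℤ) (hg : 2 ≤ g) (hgJ : 0 ≤ gJ) (hkJ : 0 ≤ kJ)
    (hadj : wJ = 2 * gJ - 2 + kJ) (hfull : kJ = 0 → gJ = g ∧ dJ = d ∧ wJ = 2 * g - 2)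
    (hb : |2 * (2 * g - 2) * dJ - 2 * d * wJ| ≤ (2 * g - 2) * kJ)
    (hw : 0 ≤ wJ) (hle : dJ ≤ 2 * gJ - 2) (hd : 2 * g - 2 < d) : False := by
  rcases eq_or_lt_of_le hkJ with hk0 | hkpos
  · obtain ⟨h1, h2, h3⟩ := hfull hk0.symm
    omega
  · have hb' := (abs_le.mp hb).1
    have h1 : (0 : ℤ) ≤ (d - (2 * g - 2)) * wJ := mul_nonneg (by linarith) hw
    have h2 : (0 : ℤ) < (2 * g - 2) * kJ := mul_pos (by linarith) hkpos
    have h3 : (0 : ℤ) ≤ (2 * g - 2) * (wJ - kJ - dJ) := mul_nonneg (by linarith) (by linarith)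
    nlinarith

/-- Let k be an algebraically closed field and X a connected reduced Gorenstein curve over k of genus g
≥ 2: X is proper over k, reduced, connected, of dimension one, and its dualizing module ω_X (the
degree −1 cohomology sheaf of f^! O for the structure morphism f, for any choice of the data Rf_* on
D_QCoh with its right adjoint) is invertible; g = dim_k H^1(X, O_X). A connected subcurve Z of X is
a reduced connected closed subscheme of dimension one, deg_Z of a module means the degree of its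
pullback to Z, g_Z = dim_k H^1(Z, O_Z), and k_Z is the length (k-dimension of global sections of the
structure sheaf) of the scheme-theoretic intersection of Z with the reduced closed subscheme
supported on the closure of X ∖ Z. Let L be an invertible module of degree d which is balanced: for
every connected subcurve Z, |deg_Z L − (d/(2g−2)) deg_Z ω_X| ≤ k_Z/2 (written cleared of
denominators). If X is G-semistable, i.e. deg_Z ω_X ≥ 0 for every connected subcurve Z, and d > 2g −
2, then L is non-special: H^1(X, L) = 0. -/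
theorem result (k : Type u) [Field k] [IsAlgClosed k] (X : Scheme.{u}) [X.Over (Spec (CommRingCat.of k))]
    [IsProper (X ↘ (Spec (CommRingCat.of k)))] [AlgebraicGeometry.IsReduced X] [ConnectedSpace X] (hdim : topologicalKrullDim X = 1)
    [DCoh.HasRpush (X ↘ (Spec (CommRingCat.of k)))] (h : DCoh.RpushPreservesQCoh (X ↘ (Spec (CommRingCat.of k)))) [DCoh.HasShriek (X ↘ (Spec (CommRingCat.of k))) h]
    (OY : DCoh.DQCoh (Spec (CommRingCat.of k)))
    (hOY : Nonempty (OY.obj ≅ DCoh.inD (Spec (CommRingCat.of k)) (Coh.structureModule (Spec (CommRingCat.of k)))))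
    (hGor : PicF.IsInvertible (DCoh.dualizingMod (X ↘ (Spec (CommRingCat.of k))) h OY 1)) (hg : 2 ≤ Curv2.genus k X)
    (L : X.Modules) (hL : PicF.IsInvertible L)
    (hbal : ∀ J : X.IdealSheafData, AlgebraicGeometry.IsReduced J.subscheme → ConnectedSpace J.subscheme →
      topologicalKrullDim J.subscheme = 1 →
      |2 * (2 * (Curv2.genus k X : ℤ) - 2) * @Curv2.deg k _ J.subscheme ⟨J.subschemeι ≫ (X ↘ (Spec (CommRingCat.of k)))⟩ ((Scheme.Modules.pullback J.subschemeι).obj L) 1
          - 2 * Curv2.deg k X L 1 * @Curv2.deg k _ J.subscheme ⟨J.subschemeι ≫ (X ↘ (Spec (CommRingCat.of k)))⟩ ((Scheme.Modules.pullback J.subschemeι).obj (DCoh.dualizingMod (X ↘ (Spec (CommRingCat.of k))) h OY 1)) 1|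
        ≤ (2 * (Curv2.genus k X : ℤ) - 2) * (Module.finrank k (Coh.HH X (ClSub.quotMod (J ⊔ (Scheme.IdealSheafData.vanishingIdeal ⟨closure ((J.support : Set X)ᶜ), isClosed_closure⟩))) 0) : ℤ))
    (hss : ∀ J : X.IdealSheafData, AlgebraicGeometry.IsReduced J.subscheme → ConnectedSpace J.subscheme →
      topologicalKrullDim J.subscheme = 1 →
      0 ≤ @Curv2.deg k _ J.subscheme ⟨J.subschemeι ≫ (X ↘ (Spec (CommRingCat.of k)))⟩ ((Scheme.Modules.pullback J.subschemeι).obj (DCoh.dualizingMod (X ↘ (Spec (CommRingCat.of k))) h OY 1)) 1)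
    (hd : 2 * (Curv2.genus k X : ℤ) - 2 < Curv2.deg k X L 1) :
    Subsingleton (Coh.HH X L 1) := by
  have hG : (2 : ℤ) ≤ (Curv2.genus k X : ℤ) := by exact_mod_cast hg
  by_contra hns
  rw [not_subsingleton_iff_nontrivial] at hns
  obtain ⟨J, hJr, hJc, hJd, hle⟩ := exists_sub_of_H1 k X hdim hL hns
  obtain ⟨gJ, kJ, dJ, wJ, e1, e2, e3, e4, hgJ, hkJ, hadj, hfull⟩ :=
    package k X hdim h OY hOY hGor hL J hJr hJc hJd
  have hb := hbal J hJr hJc hJd
  have hw := hss J hJr hJc hJd
  rw [e2, e3, e4] at hb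
  rw [e4] at hw
  rw [e1, e3] at hle
  exact n4 _ _ gJ kJ dJ wJ hG hgJ hkJ hadj hfull hb hw hle hd

end Groth.Agent.S19028
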