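import Groth.Statements.S19030
import Mathlib
import Groth.Agent.Lib.Helper18.AdjF

set_option autoImplicit false
universe u
open CategoryTheory CategoryTheory.Limits AlgebraicGeometry
attribute [local instance] HasDerivedCategory.standard
open Curves

namespace Groth.Agent.S19030

open Groth.Agent.Lib.Helper18.AdjD Groth.Agent.Lib.Helper18.AdjE Groth.Agent.Lib.Helper18.AdjF
  Groth.Agent.Lib.Helper18.NefPull

-- S19030
theorem n8 (g d gJ kJ dJ wJ : ℤ) (hg : 2 ≤ g) (hgJ : 0 ≤ gJ) (hkJ : 0 ≤ kJ)
    (hadj : wJ = 2 * gJ - 2 + kJ) (hfull : kJ = 0 → gJ = g ∧ dJ = d ∧ wJ = 2 * g - 2)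
    (hb : |2 * (2 * g - 2) * dJ - 2 * d * wJ| ≤ (2 * g - 2) * kJ)
    (hpos : 0 < dJ) (hd : 5 * (g - 1) < d) : 2 * gJ < dJ := by
  rcases eq_or_lt_of_le hkJ with hk0 | hkpos
  · obtain ⟨h1, h2, h3⟩ := hfull hk0.symm
    omega
  · obtain ⟨hb1, hb2⟩ := abs_le.mp hb
    rcases le_or_gt wJ 0 with hw0 | hwpos
    · have : gJ = 0 := by omega
      omega
    · by_contra hlt
      push Not at hlt
      have h1 : (0 : ℤ) ≤ (2 * d - 5 * (2 * g - 2) - 1) * (wJ - 1) :=
        mul_nonneg (by linarith) (by linarith)
      have h2 : (0 : ℤ) ≤ (2 * g - 2) * (2 * gJ - dJ) := mul_nonneg (by linarith) (by linarith)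
      rcases eq_or_lt_of_le hgJ with hg0 | hgpos
      · have hk3 : 3 ≤ kJ := by omega
        have h3 : (0 : ℤ) ≤ (2 * g - 2) * (kJ - 3) := mul_nonneg (by linarith) (by linarith)
        nlinarith
      · have h3 : (0 : ℤ) ≤ (2 * g - 2) * (kJ - 1) := mul_nonneg (by linarith) (by linarith)
        have h4 : (0 : ℤ) ≤ (2 * g - 2) * (gJ - 1) := mul_nonneg (by linarith) (by linarith)
        nlinarith

/-- Let k be an algebraically closed field and X a connected reduced Gorenstein curve over k of genus g
≥ 2: X is proper over k, reduced, connected, of dimension one, and its dualizing module ω_X (the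
degree −1 cohomology sheaf of f^! O for the structure morphism f, for any choice of the data Rf_* on
D_QCoh with its right adjoint) is invertible; g = dim_k H^1(X, O_X). A connected subcurve Z of X is
a reduced connected closed subscheme of dimension one, deg_Z of a module means the degree of its
pullback to Z, g_Z = dim_k H^1(Z, O_Z), and k_Z is the length (k-dimension of global sections of the
structure sheaf) of the scheme-theoretic intersection of Z with the reduced closed subscheme
supported on the closure of X ∖ Z. Let L be an invertible module of degree d which is balanced: for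
every connected subcurve Z, |deg_Z L − (d/(2g−2)) deg_Z ω_X| ≤ k_Z/2 (written cleared of
denominators). If L is ample and d > 5(g − 1), then deg_Z L > 2 g_Z for every connected subcurve Z
of X. (The source concludes that L is very ample and normally generated; what its proof establishes
is the inequality stated here, from which it derives those properties by a criterion for reduced
Gorenstein curves that it cites without proof.) -/
theorem result (k : Type u) [Field k] [IsAlgClosed k] (X : Scheme.{u}) [X.Over (Spec (CommRingCat.of k))]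
    [IsProper (X ↘ (Spec (CommRingCat.of k)))] [AlgebraicGeometry.IsReduced X] [ConnectedSpace X] (hdim : topologicalKrullDim X = 1)
    [DCoh.HasRpush (X ↘ (Spec (CommRingCat.of k)))] (h : DCoh.RpushPreservesQCoh (X ↘ (Spec (CommRingCat.of k)))) [DCoh.HasShriek (X ↘ (Spec (CommRingCat.of k))) h]
    (OY : DCoh.DQCoh (Spec (CommRingCat.of k)))
    (hOY : Nonempty (OY.obj ≅ DCoh.inD (Spec (CommRingCat.of k)) (Coh.structureModule (Spec (CommRingCat.of k)))))
    (hGor : PicF.IsInvertible (DCoh.dualizingMod (X ↘ (Spec (CommRingCat.of k))) h OY 1)) (hg : 2 ≤ Curv2.genus k X)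
    (L : X.Modules) (hL : PicF.IsInvertible L)
    (hbal : ∀ J : X.IdealSheafData, AlgebraicGeometry.IsReduced J.subscheme → ConnectedSpace J.subscheme →
      topologicalKrullDim J.subscheme = 1 →
      |2 * (2 * (Curv2.genus k X : ℤ) - 2) * @Curv2.deg k _ J.subscheme ⟨J.subschemeι ≫ (X ↘ (Spec (CommRingCat.of k)))⟩ ((Scheme.Modules.pullback J.subschemeι).obj L) 1
          - 2 * Curv2.deg k X L 1 * @Curv2.deg k _ J.subscheme ⟨J.subschemeι ≫ (X ↘ (Spec (CommRingCat.of k)))⟩ ((Scheme.Modules.pullback J.subschemeι).obj (DCoh.dualizingMod (X ↘ (Spec (CommRingCat.of k))) h OY 1)) 1|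
        ≤ (2 * (Curv2.genus k X : ℤ) - 2) * (Module.finrank k (Coh.HH X (ClSub.quotMod (J ⊔ (Scheme.IdealSheafData.vanishingIdeal ⟨closure ((J.support : Set X)ᶜ), isClosed_closure⟩))) 0) : ℤ))
    (hamp : CohB1.IsAmple L)
    (hd : 5 * ((Curv2.genus k X : ℤ) - 1) < Curv2.deg k X L 1) :
    ∀ J : X.IdealSheafData, AlgebraicGeometry.IsReduced J.subscheme → ConnectedSpace J.subscheme →
      topologicalKrullDim J.subscheme = 1 →
      2 * (@Curv2.genus k _ J.subscheme ⟨J.subschemeι ≫ (X ↘ (Spec (CommRingCat.of k)))⟩ : ℤ) < @Curv2.deg k _ J.subscheme ⟨J.subschemeι ≫ (X ↘ (Spec (CommRingCat.of k)))⟩ ((Scheme.Modules.pullback J.subschemeι).obj L) 1 := by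
  have hG : (2 : ℤ) ≤ (Curv2.genus k X : ℤ) := by exact_mod_cast hg
  intro J hJr hJc hJd
  obtain ⟨gJ, kJ, dJ, wJ, e1, e2, e3, e4, hgJ, hkJ, hadj, hfull⟩ :=
    package k X hdim h OY hOY hGor hL J hJr hJc hJd
  have hb := hbal J hJr hJc hJd
  have hpos := degJ_pos_of_isAmple k X hdim hamp J hJc hJd
  rw [e2, e3, e4] at hb
  rw [e3] at hpos
  rw [e1, e3]
  exact n8 _ _ gJ kJ dJ wJ hG hgJ hkJ hadj hfull hb hpos hd

end Groth.Agent.S19030
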