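import Groth.Statements.S19032
import Mathlib
import Groth.Agent.Lib.Helper18.AdjF

set_option autoImplicit false
universe u
open CategoryTheory CategoryTheory.Limits AlgebraicGeometry
attribute [local instance] HasDerivedCategory.standard
open Curves

namespace Groth.Agent.S19032

open Groth.Agent.Lib.Helper18.AdjD Groth.Agent.Lib.Helper18.AdjE Groth.Agent.Lib.Helper18.AdjF
  Groth.Agent.Lib.Helper18.NefPull

-- S19032
theorem n6 (g gJ kJ wJ i : ℤ) (hg : 2 ≤ g) (hgJ : 0 ≤ gJ) (hkJ : 0 ≤ kJ)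
    (hadj : wJ = 2 * gJ - 2 + kJ) (hfull : kJ = 0 → wJ = 2 * g - 2)
    (hw : 0 ≤ wJ) (hi : 2 ≤ i) (hle : i * wJ ≤ 2 * gJ - 2) : False := by
  have h1 : (0 : ℤ) ≤ (i - 2) * wJ := mul_nonneg (by linarith) hw
  rcases eq_or_lt_of_le hkJ with hk0 | hkpos
  · have h3 := hfull hk0.symm
    nlinarith
  · nlinarith

theorem n7 (g gJ kJ wJ i : ℤ) (hg : 2 ≤ g) (hgJ : 0 ≤ gJ) (hkJ : 0 ≤ kJ)
    (hadj : wJ = 2 * gJ - 2 + kJ) (hfull : kJ = 0 → wJ = 2 * g - 2)
    (hw : 0 ≤ wJ) (hi : 2 ≤ i) (hle : i * wJ ≤ 2 * gJ - 1) : False := by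
  have h1 : (0 : ℤ) ≤ (i - 2) * wJ := mul_nonneg (by linarith) hw
  rcases eq_or_lt_of_le hkJ with hk0 | hkpos
  · have h3 := hfull hk0.symm
    nlinarith
  · have hw0 : wJ = 0 := by nlinarith
    rw [hw0, mul_zero] at hle
    omega

/-- Let k be an algebraically closed field and X a connected reduced Gorenstein curve over k of genus g
≥ 2: X is proper over k, reduced, connected, of dimension one, and its dualizing module ω_X (the
degree −1 cohomology sheaf of f^! O for the structure morphism f, for any choice of the data Rf_* on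
D_QCoh with its right adjoint) is invertible; g = dim_k H^1(X, O_X). If X is G-semistable, i.e. the
pullback of ω_X to every reduced connected closed subscheme of dimension one has non-negative
degree, then for every i ≥ 2 the tensor power ω_X^{⊗ i} is non-special (H^1(X, ω_X^{⊗ i}) = 0) and
globally generated. -/
theorem result (k : Type u) [Field k] [IsAlgClosed k] (X : Scheme.{u}) [X.Over (Spec (CommRingCat.of k))]
    [IsProper (X ↘ (Spec (CommRingCat.of k)))] [AlgebraicGeometry.IsReduced X] [ConnectedSpace X] (hdim : topologicalKrullDim X = 1)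
    [DCoh.HasRpush (X ↘ (Spec (CommRingCat.of k)))] (h : DCoh.RpushPreservesQCoh (X ↘ (Spec (CommRingCat.of k)))) [DCoh.HasShriek (X ↘ (Spec (CommRingCat.of k))) h]
    (OY : DCoh.DQCoh (Spec (CommRingCat.of k)))
    (hOY : Nonempty (OY.obj ≅ DCoh.inD (Spec (CommRingCat.of k)) (Coh.structureModule (Spec (CommRingCat.of k)))))
    (hGor : PicF.IsInvertible (DCoh.dualizingMod (X ↘ (Spec (CommRingCat.of k))) h OY 1)) (hg : 2 ≤ Curv2.genus k X)
    (hss : ∀ J : X.IdealSheafData, AlgebraicGeometry.IsReduced J.subscheme → ConnectedSpace J.subscheme →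
      topologicalKrullDim J.subscheme = 1 →
      0 ≤ @Curv2.deg k _ J.subscheme ⟨J.subschemeι ≫ (X ↘ (Spec (CommRingCat.of k)))⟩ ((Scheme.Modules.pullback J.subschemeι).obj (DCoh.dualizingMod (X ↘ (Spec (CommRingCat.of k))) h OY 1)) 1)
    (i : ℕ) (hi : 2 ≤ i) :
    Subsingleton (Coh.HH X (CohB1.tensorPow (DCoh.dualizingMod (X ↘ (Spec (CommRingCat.of k))) h OY 1) i) 1) ∧ Curv2.IsGloballyGenerated (CohB1.tensorPow (DCoh.dualizingMod (X ↘ (Spec (CommRingCat.of k))) h OY 1) i) := by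
  have hG : (2 : ℤ) ≤ (Curv2.genus k X : ℤ) := by exact_mod_cast hg
  have hi' : (2 : ℤ) ≤ (i : ℤ) := by exact_mod_cast hi
  have hLi : PicF.IsInvertible
      (CohB1.tensorPow (DCoh.dualizingMod (X ↘ (Spec (CommRingCat.of k))) h OY 1) i) :=
    Groth.Agent.Lib.helper12.TensorInv.isInvertible_tensorPow hGor i
  have key : ∀ J : X.IdealSheafData,
      @Curv2.deg k _ J.subscheme ⟨J.subschemeι ≫ (X ↘ (Spec (CommRingCat.of k)))⟩
        ((Scheme.Modules.pullback J.subschemeι).obj
          (CohB1.tensorPow (DCoh.dualizingMod (X ↘ (Spec (CommRingCat.of k))) h OY 1) i)) 1 =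
      i * @Curv2.deg k _ J.subscheme ⟨J.subschemeι ≫ (X ↘ (Spec (CommRingCat.of k)))⟩
        ((Scheme.Modules.pullback J.subschemeι).obj
          (DCoh.dualizingMod (X ↘ (Spec (CommRingCat.of k))) h OY 1)) 1 := by
    intro J
    rw [← nefq_eq_deg k X J _ (Groth.Agent.Lib.helper16.FLF.isFinLocFree_of_isInvertible hLi),
      ← nefq_eq_deg k X J _ (Groth.Agent.Lib.helper16.FLF.isFinLocFree_of_isInvertible hGor)]
    exact nefq_tensorPow k X hdim.le hGor J i
  constructor
  · by_contra hns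
    rw [not_subsingleton_iff_nontrivial] at hns
    obtain ⟨J, hJr, hJc, hJd, hle⟩ := exists_sub_of_H1 k X hdim hLi hns
    obtain ⟨gJ, kJ, dJ, wJ, e1, e2, e3, e4, hgJ, hkJ, hadj, hfull⟩ :=
      package k X hdim h OY hOY hGor hLi J hJr hJc hJd
    have hw := hss J hJr hJc hJd
    rw [e4] at hw
    rw [key J, e1, e4] at hle
    exact n6 _ gJ kJ wJ i hG hgJ hkJ hadj (fun hk => (hfull hk).2.2) hw hi' hle
  · by_contra hng
    obtain ⟨J, hJr, hJc, hJd, hle⟩ := exists_sub_of_not_gg k X hdim hLi hng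
    obtain ⟨gJ, kJ, dJ, wJ, e1, e2, e3, e4, hgJ, hkJ, hadj, hfull⟩ :=
      package k X hdim h OY hOY hGor hLi J hJr hJc hJd
    have hw := hss J hJr hJc hJd
    rw [e4] at hw
    rw [key J, e1, e4] at hle
    exact n7 _ gJ kJ wJ i hG hgJ hkJ hadj (fun hk => (hfull hk).2.2) hw hi' hle

end Groth.Agent.S19032
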