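import Groth.Statements.S19033
import Mathlib

set_option autoImplicit false
universe u
open LabGraph

namespace Groth.Agent.S19033


section
variable {V E : Type u} [Fintype V] [Fintype E] [DecidableEq V] [DecidableEq E]

theorem twist_empty (ends : E → V × V) (v : V) :
    twist ends (fun u => if u ∈ (∅ : Finset V) then (1:ℤ) else 0) v = 0 := by
  simp [twist]

theorem twist_univ (ends : E → V × V) (v : V) :
    twist ends (fun u => if u ∈ (Finset.univ : Finset V) then (1:ℤ) else 0) v = 0 := by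
  simp [twist]

theorem twist_term_le (ends : E → V × V) (Z : Finset V) (v : V) (hv : v ∈ Z) (e : E) :
    ((if (ends e).1 = v then (if (ends e).2 ∈ Z then (1:ℤ) else 0) -
        (if (ends e).1 ∈ Z then (1:ℤ) else 0) else 0) +
     (if (ends e).2 = v then (if (ends e).1 ∈ Z then (1:ℤ) else 0) -
        (if (ends e).2 ∈ Z then (1:ℤ) else 0) else 0)) ≤ 0 := by
  have hv1 : (ends e).1 = v → (ends e).1 ∈ Z := fun h => by rw [h]; exact hv
  have hv2 : (ends e).2 = v → (ends e).2 ∈ Z := fun h => by rw [h]; exact hv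
  split_ifs <;> first | omega | (exfalso; tauto)

theorem twist_term_le_neg_one (ends : E → V × V) (Z : Finset V) (v : V) (hv : v ∈ Z) (e : E)
    (he : ((ends e).1 = v ∧ (ends e).2 ∉ Z) ∨ ((ends e).2 = v ∧ (ends e).1 ∉ Z)) :
    ((if (ends e).1 = v then (if (ends e).2 ∈ Z then (1:ℤ) else 0) -
        (if (ends e).1 ∈ Z then (1:ℤ) else 0) else 0) +
     (if (ends e).2 = v then (if (ends e).1 ∈ Z then (1:ℤ) else 0) -
        (if (ends e).2 ∈ Z then (1:ℤ) else 0) else 0)) ≤ -1 := by
  have hv1 : (ends e).1 = v → (ends e).1 ∈ Z := fun h => by rw [h]; exact hv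
  have hv2 : (ends e).2 = v → (ends e).2 ∈ Z := fun h => by rw [h]; exact hv
  rcases he with ⟨h1, h2⟩ | ⟨h1, h2⟩ <;> split_ifs <;> first | omega | (exfalso; tauto)

theorem twist_ind_nonpos (ends : E → V × V) (Z : Finset V) (v : V) (hv : v ∈ Z) :
    twist ends (fun u => if u ∈ Z then (1:ℤ) else 0) v ≤ 0 := by
  unfold twist
  exact Finset.sum_nonpos (fun e _ => twist_term_le ends Z v hv e)

theorem twist_ind_le_neg_one (ends : E → V × V) (Z : Finset V) (v : V) (hv : v ∈ Z) (e0 : E)
    (he0 : ((ends e0).1 = v ∧ (ends e0).2 ∉ Z) ∨ ((ends e0).2 = v ∧ (ends e0).1 ∉ Z)) :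
    twist ends (fun u => if u ∈ Z then (1:ℤ) else 0) v ≤ -1 := by
  unfold twist
  calc _ ≤ ∑ e : E, (if e = e0 then (-1:ℤ) else 0) := Finset.sum_le_sum (fun e _ => ?_)
    _ = -1 := by simp
  by_cases h : e = e0
  · rw [if_pos h, h]; exact twist_term_le_neg_one ends Z v hv e0 he0
  · rw [if_neg h]; exact twist_term_le ends Z v hv e

theorem endCount_exc (ends : E → V × V) (w : V → ℕ) (u : V) (hu : IsExceptional ends w u) :
    endCount ends Finset.univ u = 2 := by
  obtain ⟨_, hloop, hcut⟩ := hu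
  rw [← hcut]
  unfold endCount cut
  rw [Finset.card_filter]
  refine Finset.sum_congr rfl (fun e _ => ?_)
  have hl := hloop e
  have hne : ¬ ((ends e).1 = u ∧ (ends e).2 = u) := fun h => hl (Prod.ext h.1 h.2)
  simp only [Finset.mem_singleton]
  split_ifs <;> first | omega | (exfalso; tauto)

theorem exists_cut_edge (ends : E → V × V) (hconn : Connected ends) (A : Finset V)
    (hA1 : A.Nonempty) (hA2 : A ≠ Finset.univ) :
    ∃ e : E, ((ends e).1 ∈ A ∧ (ends e).2 ∉ A) ∨ ((ends e).1 ∉ A ∧ (ends e).2 ∈ A) := by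
  obtain ⟨v, hv⟩ := hA1
  obtain ⟨u, hu⟩ : ∃ u, u ∉ A := by
    by_contra h
    push Not at h
    exact hA2 (Finset.eq_univ_iff_forall.2 h)
  have key : ∀ x, Relation.ReflTransGen (Adj ends) v x → x ∉ A →
      ∃ e : E, ((ends e).1 ∈ A ∧ (ends e).2 ∉ A) ∨ ((ends e).1 ∉ A ∧ (ends e).2 ∈ A) := by
    intro x hx
    induction hx with
    | refl => intro h; exact absurd hv h
    | @tail b c hab hbc ih =>
      intro hc
      by_cases hb : b ∈ A
      · obtain ⟨e, he | he⟩ := hbc
        · exact ⟨e, Or.inl (by rw [he]; exact ⟨hb, hc⟩)⟩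
        · exact ⟨e, Or.inr (by rw [he]; exact ⟨hc, hb⟩)⟩
      · exact ih hb
  exact key u (hconn.2 v u) hu

theorem canDeg_univ_eq (ends : E → V × V) (w : V → ℕ) :
    canDeg ends w Finset.univ = 2 * (genus ends w - 1) := by
  have h : ∑ v : V, (endCount ends Finset.univ v : ℤ) = 2 * (Fintype.card E : ℤ) := by
    have h' : ∑ v : V, endCount ends Finset.univ v = 2 * Fintype.card E := by
      unfold endCount
      rw [Finset.sum_comm]
      have h2 : ∀ e : E, ∑ v : V, ((if (ends e).1 = v then 1 else 0) +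
          (if (ends e).2 = v then 1 else 0)) = 2 := by
        intro e
        rw [Finset.sum_add_distrib, Finset.sum_ite_eq, Finset.sum_ite_eq]
        simp
      rw [Finset.sum_congr rfl (fun e _ => h2 e)]
      simp [mul_comm]
    rw [← Nat.cast_sum, h']; push_cast; ring
  unfold canDeg genus
  rw [Finset.sum_add_distrib, Finset.sum_sub_distrib, h, ← Finset.mul_sum]
  simp only [Finset.sum_const, Finset.card_univ, nsmul_eq_mul]
  ring

theorem core (ends : E → V × V) (w : V → ℕ) (hconn : Connected ends)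
    (hK : 0 < canDeg ends w Finset.univ) (d : V → ℤ)
    (hBI : SatisfiesBI ends w d) (hone : ∀ v : V, IsExceptional ends w v → d v = 1)
    (A : Finset V) (hA1 : A.Nonempty) (hA2 : A ≠ Finset.univ)
    (hextA : 2 * (canDeg ends w Finset.univ * (∑ v ∈ A, d v) - (∑ v, d v) * canDeg ends w A)
          = (cut ends A : ℤ) * canDeg ends w Finset.univ)
    (hcutA : ∀ e : E, ((ends e).1 ∈ A → (ends e).2 ∉ A → IsExceptional ends w (ends e).2) ∧
       ((ends e).1 ∉ A → (ends e).2 ∈ A → IsExceptional ends w (ends e).1)) : False := by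
  classical
  obtain ⟨U, hU⟩ : ∃ U : Finset V, ∀ u, u ∈ U ↔ (u ∉ A ∧ IsExceptional ends w u) :=
    ⟨Finset.univ.filter (fun u => u ∉ A ∧ IsExceptional ends w u), fun u => by simp⟩
  have hdisj : Disjoint A U := by
    rw [Finset.disjoint_left]; intro x hxA hxU; exact ((hU x).1 hxU).1 hxA
  have hdY : ∑ v ∈ A ∪ U, d v = ∑ v ∈ A, d v + (U.card : ℤ) := by
    rw [Finset.sum_union hdisj, Finset.sum_congr rfl (fun u hu => hone u ((hU u).1 hu).2)]
    simp
  have hcY : canDeg ends w (A ∪ U) = canDeg ends w A := by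
    unfold canDeg
    rw [Finset.sum_union hdisj]
    have h0 : ∑ v ∈ U, (2 * (w v : ℤ) - 2 + (endCount ends Finset.univ v : ℤ)) = 0 := by
      refine Finset.sum_eq_zero (fun u hu => ?_)
      have hex := ((hU u).1 hu).2
      rw [endCount_exc ends w u hex, hex.1]; norm_num
    rw [h0, add_zero]
  obtain ⟨CA, hCA⟩ : ∃ C : Finset E, C = Finset.univ.filter (fun e : E =>
      ((ends e).1 ∈ A ∧ (ends e).2 ∉ A) ∨ ((ends e).1 ∉ A ∧ (ends e).2 ∈ A)) := ⟨_, rfl⟩
  obtain ⟨CY, hCY⟩ : ∃ C : Finset E, C = Finset.univ.filter (fun e : E =>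
      ((ends e).1 ∈ A ∪ U ∧ (ends e).2 ∉ A ∪ U) ∨ ((ends e).1 ∉ A ∪ U ∧ (ends e).2 ∈ A ∪ U)) :=
    ⟨_, rfl⟩
  have hcutA_eq : cut ends A = CA.card := by rw [hCA]; rfl
  have hcutY_eq : cut ends (A ∪ U) = CY.card := by rw [hCY]; rfl
  have memCA : ∀ e, e ∈ CA ↔
      (((ends e).1 ∈ A ∧ (ends e).2 ∉ A) ∨ ((ends e).1 ∉ A ∧ (ends e).2 ∈ A)) := by
    intro e; rw [hCA]; simp only [Finset.mem_filter, Finset.mem_univ, true_and]
  have memCY : ∀ e, e ∈ CY ↔ (((ends e).1 ∈ A ∪ U ∧ (ends e).2 ∉ A ∪ U) ∨
      ((ends e).1 ∉ A ∪ U ∧ (ends e).2 ∈ A ∪ U)) := by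
    intro e; rw [hCY]; simp only [Finset.mem_filter, Finset.mem_univ, true_and]
  have hdisjC : Disjoint CA CY := by
    rw [Finset.disjoint_left]
    intro e heA heY
    rcases (memCA e).1 heA with ⟨h1, h2⟩ | ⟨h1, h2⟩
    · have hex := (hcutA e).1 h1 h2
      have h2U : (ends e).2 ∈ A ∪ U := Finset.mem_union_right _ ((hU _).2 ⟨h2, hex⟩)
      have h1U : (ends e).1 ∈ A ∪ U := Finset.mem_union_left _ h1
      rcases (memCY e).1 heY with ⟨_, h⟩ | ⟨h, _⟩
      · exact h h2U
      · exact h h1U
    · have hex := (hcutA e).2 h1 h2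
      have h1U : (ends e).1 ∈ A ∪ U := Finset.mem_union_right _ ((hU _).2 ⟨h1, hex⟩)
      have h2U : (ends e).2 ∈ A ∪ U := Finset.mem_union_left _ h2
      rcases (memCY e).1 heY with ⟨_, h⟩ | ⟨h, _⟩
      · exact h h2U
      · exact h h1U
  have hsub : CA ∪ CY ⊆ U.biUnion (fun u => Finset.univ.filter (fun e : E =>
      ((ends e).1 ∈ ({u} : Finset V) ∧ (ends e).2 ∉ ({u} : Finset V)) ∨
      ((ends e).1 ∉ ({u} : Finset V) ∧ (ends e).2 ∈ ({u} : Finset V)))) := by
    intro e he
    rw [Finset.mem_biUnion]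
    have key : ∃ u ∈ U, ((ends e).1 = u ∧ (ends e).2 ≠ u) ∨ ((ends e).1 ≠ u ∧ (ends e).2 = u) := by
      rcases Finset.mem_union.1 he with heA | heY
      · rcases (memCA e).1 heA with ⟨h1, h2⟩ | ⟨h1, h2⟩
        · refine ⟨(ends e).2, (hU _).2 ⟨h2, (hcutA e).1 h1 h2⟩, Or.inr ⟨?_, rfl⟩⟩
          intro h; rw [h] at h1; exact h2 h1
        · refine ⟨(ends e).1, (hU _).2 ⟨h1, (hcutA e).2 h1 h2⟩, Or.inl ⟨rfl, ?_⟩⟩
          intro h; rw [h] at h2; exact h1 h2
      · rcases (memCY e).1 heY with ⟨h1, h2⟩ | ⟨h1, h2⟩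
        · have h2A : (ends e).2 ∉ A := fun h => h2 (Finset.mem_union_left _ h)
          rcases Finset.mem_union.1 h1 with h1A | h1U
          · exact absurd (Finset.mem_union_right _ ((hU _).2 ⟨h2A, (hcutA e).1 h1A h2A⟩)) h2
          · refine ⟨(ends e).1, h1U, Or.inl ⟨rfl, ?_⟩⟩
            intro h; rw [h] at h2; exact h2 h1
        · have h1A : (ends e).1 ∉ A := fun h => h1 (Finset.mem_union_left _ h)
          rcases Finset.mem_union.1 h2 with h2A | h2U
          · exact absurd (Finset.mem_union_right _ ((hU _).2 ⟨h1A, (hcutA e).2 h1A h2A⟩)) h1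
          · refine ⟨(ends e).2, h2U, Or.inr ⟨?_, rfl⟩⟩
            intro h; rw [h] at h1; exact h1 h2
    obtain ⟨u, huU, hu⟩ := key
    refine ⟨u, huU, ?_⟩
    simp only [Finset.mem_filter, Finset.mem_univ, true_and, Finset.mem_singleton]
    exact hu
  have hcard : CA.card + CY.card ≤ 2 * U.card := by
    rw [← Finset.card_union_of_disjoint hdisjC]
    refine le_trans (Finset.card_le_card hsub) ?_
    refine le_trans Finset.card_biUnion_le ?_
    have h2 : ∀ u ∈ U, (Finset.univ.filter (fun e : E =>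
      ((ends e).1 ∈ ({u} : Finset V) ∧ (ends e).2 ∉ ({u} : Finset V)) ∨
      ((ends e).1 ∉ ({u} : Finset V) ∧ (ends e).2 ∈ ({u} : Finset V)))).card = 2 := by
      intro u hu
      exact ((hU u).1 hu).2.2.2
    rw [Finset.sum_congr rfl h2]
    simp [mul_comm]
  have ha : 1 ≤ CA.card := by
    obtain ⟨e, he⟩ := exists_cut_edge ends hconn A hA1 hA2
    exact Finset.card_pos.2 ⟨e, (memCA e).2 he⟩
  have hb := hBI (A ∪ U)
  have hb2 := le_abs_self (canDeg ends w Finset.univ * (∑ v ∈ A ∪ U, d v) -
    (∑ v : V, d v) * canDeg ends w (A ∪ U))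
  rw [hdY, hcY] at hb2 hb
  rw [hcutY_eq] at hb
  rw [hcutA_eq] at hextA
  have hcard' : (CA.card : ℤ) + (CY.card : ℤ) ≤ 2 * (U.card : ℤ) := by exact_mod_cast hcard
  have ha' : (1 : ℤ) ≤ (CA.card : ℤ) := by exact_mod_cast ha
  have p1 := mul_nonneg (sub_nonneg.2 hcard') hK.le
  have p2 := mul_le_mul_of_nonneg_right ha' hK.le
  nlinarith

theorem main (ends : E → V × V) (w : V → ℕ) (hX : IsQuasistableGraph ends w)
    (hg : 2 ≤ genus ends w) (d d' : V → ℤ)
    (hBI : SatisfiesBI ends w d)
    (hone : ∀ v : V, IsExceptional ends w v → d v = 1)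
    (hone' : ∀ v : V, IsExceptional ends w v → d' v = 1)
    (hstrict : ∀ Y : Finset V, Y.Nonempty → Y ≠ Finset.univ →
      2 * (canDeg ends w Finset.univ * (∑ v ∈ Y, d v) - (∑ v, d v) * canDeg ends w Y)
          = (cut ends Y : ℤ) * canDeg ends w Finset.univ →
      ∀ e : E, (((ends e).1 ∈ Y ∧ (ends e).2 ∉ Y) ∨ ((ends e).1 ∉ Y ∧ (ends e).2 ∈ Y)) →
        (IsExceptional ends w (ends e).1 ∨ IsExceptional ends w (ends e).2)) :
    ∀ (m : ℕ) (Z : Fin m → Finset V), (∀ i j : Fin m, i ≤ j → Z i ⊆ Z j) →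
    (∀ i : Fin m, 2 * (canDeg ends w Finset.univ * (∑ v ∈ Z i, d v) -
        (∑ v, d v) * canDeg ends w (Z i))
          = (cut ends (Z i) : ℤ) * canDeg ends w Finset.univ) →
    (∀ v : V, d' v = d v +
      ∑ i : Fin m, twist ends (fun u => if u ∈ Z i then (1 : ℤ) else 0) v) →
    d = d' := by
  have hK : 0 < canDeg ends w Finset.univ := by rw [canDeg_univ_eq]; linarith
  intro m
  induction m with
  | zero =>
    intro Z _ _ hsum
    funext v
    rw [hsum v]; simp
  | succ m ih =>
    intro Z hmono hext hsum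
    by_cases hZ0 : Z 0 = ∅ ∨ Z 0 = Finset.univ
    · refine ih (fun i => Z i.succ) (fun i j hij => hmono _ _ (Fin.succ_le_succ_iff.2 hij))
        (fun i => hext i.succ) ?_
      intro v
      rw [hsum v, Fin.sum_univ_succ]
      have h0 : twist ends (fun u => if u ∈ Z 0 then (1:ℤ) else 0) v = 0 := by
        rcases hZ0 with h | h
        · rw [h]; exact twist_empty ends v
        · rw [h]; exact twist_univ ends v
      rw [h0, zero_add]
    · exfalso
      push Not at hZ0
      have hA1 : (Z 0).Nonempty := hZ0.1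
      have hstr := hstrict (Z 0) hA1 hZ0.2 (hext 0)
      have F1 : ∀ v ∈ Z 0, IsExceptional ends w v → ∀ e : E,
          (((ends e).1 = v ∧ (ends e).2 ∉ Z 0) ∨ ((ends e).2 = v ∧ (ends e).1 ∉ Z 0)) →
          False := by
        intro v hv hex e he
        have h1 : d' v = d v := by rw [hone v hex, hone' v hex]
        have h2 := hsum v
        have h3 : ∑ i : Fin (m+1), twist ends (fun u => if u ∈ Z i then (1:ℤ) else 0) v
            ≤ -1 := by
          calc _ ≤ ∑ i : Fin (m+1), (if i = 0 then (-1:ℤ) else 0) :=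
                Finset.sum_le_sum (fun i _ => ?_)
            _ = -1 := by simp
          by_cases hi : i = 0
          · rw [if_pos hi, hi]; exact twist_ind_le_neg_one ends (Z 0) v hv e he
          · rw [if_neg hi]
            exact twist_ind_nonpos ends (Z i) v (hmono 0 i (Fin.zero_le i) hv)
        linarith
      refine core ends w hX.1.1 hK d hBI hone (Z 0) hA1 hZ0.2 (hext 0) ?_
      intro e
      constructor
      · intro h1 h2
        rcases hstr e (Or.inl ⟨h1, h2⟩) with hex | hex
        · exact (F1 _ h1 hex e (Or.inl ⟨rfl, h2⟩)).elim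
        · exact hex
      · intro h1 h2
        rcases hstr e (Or.inr ⟨h1, h2⟩) with hex | hex
        · exact hex
        · exact (F1 _ h2 hex e (Or.inr ⟨rfl, h1⟩)).elim

end


open LabGraph in
/-- Let X be a quasi-wp-stable curve of genus g ≥ 2 over an algebraically closed field, encoded by a
weighted multigraph: vertices are the irreducible components C_v, with the weight w v and the loops
at v chosen so that w v plus the number of loops at v is the arithmetic genus of C_v; two distinct
components are joined by one edge for each node and by two edges for each tacnode at which they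
meet. For a set Y of vertices (a subcurve) canDeg Y is then deg_Y ω_X = 2 g_Y − 2 + k_Y and cut Y is
k_Y, the length of the intersection of Y with its complementary subcurve; a vertex is exceptional
(weight zero, loopless, exactly two edges to other vertices) exactly when C_v is an exceptional
component; the twist of the indicator function of Y is the multidegree Σ_{C ⊆ Y} C of the degree
class group construction; and the graph is a connected quasistable graph. Let d, d' be properly
balanced multidegrees of the same total degree D (each satisfies the Basic Inequality 2·|K·d_Y −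
D·canDeg Y| ≤ cut Y·K for every Y, where K = 2g − 2 = canDeg of the whole graph, and takes the value
1 on every exceptional vertex), with d strictly balanced: for every nonempty proper Y with d_Y equal
to the upper extreme, i.e. 2(K·d_Y − D·canDeg Y) = K·cut Y, every edge with exactly one endpoint in
Y has an exceptional endpoint. Suppose d' = d + Σ_i twist(1_{Z_i}) for nested vertex sets Z_1 ⊆ ⋯ ⊆
Z_m, each with d at its upper extreme, such that for j < i no edge joins a vertex of Z_j to a vertex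
outside Z_i. Then d = d'. (The source assumes only that d − d' lies in the lattice generated by the
multidegrees of the components and takes the existence of such a nested family from an earlier paper
it cites without proof; this row carries that description as its hypothesis.) -/
theorem result {V E : Type u} [Fintype V] [Fintype E]
    [DecidableEq V] [DecidableEq E] (ends : E → V × V) (w : V → ℕ) (hX : IsQuasistableGraph ends w)
    (hg : 2 ≤ genus ends w) (d d' : V → ℤ) (hD : ∑ v, d v = ∑ v, d' v)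
    (hBI : SatisfiesBI ends w d) (hBI' : SatisfiesBI ends w d')
    (hone : ∀ v : V, IsExceptional ends w v → d v = 1) (hone' : ∀ v : V, IsExceptional ends w v → d' v = 1)
    (hstrict : ∀ Y : Finset V, Y.Nonempty → Y ≠ Finset.univ →
      2 * (canDeg ends w Finset.univ * (∑ v ∈ Y, d v) - (∑ v, d v) * canDeg ends w Y)
          = (cut ends Y : ℤ) * canDeg ends w Finset.univ →
      ∀ e : E, (((ends e).1 ∈ Y ∧ (ends e).2 ∉ Y) ∨ ((ends e).1 ∉ Y ∧ (ends e).2 ∈ Y)) →
        (IsExceptional ends w (ends e).1 ∨ IsExceptional ends w (ends e).2))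
    (m : ℕ) (Z : Fin m → Finset V) (hmono : ∀ i j : Fin m, i ≤ j → Z i ⊆ Z j)
    (hext : ∀ i : Fin m, 2 * (canDeg ends w Finset.univ * (∑ v ∈ Z i, d v) - (∑ v, d v) * canDeg ends w (Z i))
          = (cut ends (Z i) : ℤ) * canDeg ends w Finset.univ)
    (hsep : ∀ i j : Fin m, j < i → ∀ e : E,
      ¬ (((ends e).1 ∈ Z j ∧ (ends e).2 ∉ Z i) ∨ ((ends e).2 ∈ Z j ∧ (ends e).1 ∉ Z i)))
    (hsum : ∀ v : V, d' v = d v + ∑ i : Fin m, twist ends (fun u => if u ∈ Z i then (1 : ℤ) else 0) v) :
    d = d' := by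
  exact main ends w hX hg d d' hBI hone hone' hstrict m Z hmono hext hsum


end Groth.Agent.S19033
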