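import Groth.Statements.S19034
import Mathlib
import Groth.Agent.S19033

set_option autoImplicit false
universe u
open LabGraph

namespace Groth.Agent.S19034


section
variable {V E : Type u} [Fintype V] [Fintype E] [DecidableEq V] [DecidableEq E]

theorem cut_le (ends : E → V × V) (S Y T : Finset V)
    (h0 : ∀ v, v ∉ S → (v ∈ T ↔ v ∈ Y))
    (h1 : ∀ e : E, (ends e).1 ∈ S → (ends e).2 ∉ S)
    (h2 : ∀ v ∈ S, v ∈ T → ∀ e : E,
      ((ends e).1 = v → (ends e).2 ∈ T) ∧ ((ends e).2 = v → (ends e).1 ∈ T))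
    (h3 : ∀ v ∈ S, v ∉ T → ∃ e0 : E,
      ((ends e0).1 = v ∧ (ends e0).2 ∉ T) ∨ ((ends e0).2 = v ∧ (ends e0).1 ∉ T))
    (h4 : ∀ v ∈ S,
      (Finset.univ.filter (fun e : E => (ends e).1 = v ∨ (ends e).2 = v)).card ≤ 2) :
    cut ends T ≤ cut ends Y := by
  classical
  unfold cut
  have inc_cases : ∀ (e : E) (v : V), v ∈ S → ((ends e).1 = v ∨ (ends e).2 = v) →
      ∃ x, x ∉ S ∧ (ends e = (v, x) ∨ ends e = (x, v)) := by
    intro e v hv h
    rcases h with h | h
    · exact ⟨(ends e).2, h1 e (by rw [h]; exact hv), Or.inl (Prod.ext h rfl)⟩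
    · exact ⟨(ends e).1, fun hx => h1 e hx (by rw [h]; exact hv), Or.inr (Prod.ext rfl h)⟩
  have inc_of : ∀ (e : E) (v x : V), (ends e = (v, x) ∨ ends e = (x, v)) →
      ((ends e).1 = v ∨ (ends e).2 = v) := by
    intro e v x h
    rcases h with h | h
    · exact Or.inl (by rw [h])
    · exact Or.inr (by rw [h])
  have cut_iff : ∀ (R : Finset V) (e : E) (v x : V), (ends e = (v, x) ∨ ends e = (x, v)) →
      ((((ends e).1 ∈ R ∧ (ends e).2 ∉ R) ∨ ((ends e).1 ∉ R ∧ (ends e).2 ∈ R)) ↔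
        ((v ∈ R ∧ x ∉ R) ∨ (v ∉ R ∧ x ∈ R))) := by
    intro R e v x h
    rcases h with h | h <;> simp only [h] <;> tauto
  have h2' : ∀ v ∈ S, v ∈ T → ∀ (e : E) (x : V), (ends e = (v, x) ∨ ends e = (x, v)) →
      x ∈ T := by
    intro v hv hvT e x h
    have h' := h2 v hv hvT e
    rcases h with h | h
    · rw [h] at h'; exact h'.1 rfl
    · rw [h] at h'; exact h'.2 rfl
  have h3' : ∀ v ∈ S, v ∉ T → ∃ (e0 : E) (x0 : V), x0 ∉ S ∧
      (ends e0 = (v, x0) ∨ ends e0 = (x0, v)) ∧ x0 ∉ T := by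
    intro v hv hvT
    obtain ⟨e0, h | h⟩ := h3 v hv hvT
    · exact ⟨e0, (ends e0).2, h1 e0 (by rw [h.1]; exact hv), Or.inl (Prod.ext h.1 rfl), h.2⟩
    · exact ⟨e0, (ends e0).1, fun hx => h1 e0 hx (by rw [h.1]; exact hv),
        Or.inr (Prod.ext rfl h.1), h.2⟩
  have hT_inc : ∀ (e : E) (v x : V), v ∈ S → (ends e = (v, x) ∨ ends e = (x, v)) →
      (((ends e).1 ∈ T ∧ (ends e).2 ∉ T) ∨ ((ends e).1 ∉ T ∧ (ends e).2 ∈ T)) →
      v ∉ T ∧ x ∈ T := by
    intro e v x hv hends hcut
    rcases (cut_iff T e v x hends).1 hcut with ⟨hvT, hxT⟩ | h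
    · exact absurd (h2' v hv hvT e x hends) hxT
    · exact h
  refine Finset.card_le_card_of_forall_subsingleton
    (fun e e' : E => (e' = e ∧ (ends e).1 ∉ S ∧ (ends e).2 ∉ S) ∨
      (∃ v ∈ S, ((ends e).1 = v ∨ (ends e).2 = v) ∧ ((ends e').1 = v ∨ (ends e').2 = v))) ?_ ?_
  · intro e he
    have hcut := (Finset.mem_filter.1 he).2
    by_cases hSe : ∃ v ∈ S, ((ends e).1 = v ∨ (ends e).2 = v)
    · obtain ⟨v, hvS, hinc⟩ := hSe
      obtain ⟨x, hxS, hends⟩ := inc_cases e v hvS hinc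
      obtain ⟨hvT, hxT⟩ := hT_inc e v x hvS hends hcut
      have hxY : x ∈ Y := (h0 x hxS).1 hxT
      by_cases hvY : v ∈ Y
      · obtain ⟨e0, x0, hx0S, hends0, hx0T⟩ := h3' v hvS hvT
        have hx0Y : x0 ∉ Y := fun h => hx0T ((h0 x0 hx0S).2 h)
        refine ⟨e0, ?_, Or.inr ⟨v, hvS, hinc, inc_of e0 v x0 hends0⟩⟩
        rw [Finset.mem_filter]
        exact ⟨Finset.mem_univ _, (cut_iff Y e0 v x0 hends0).2 (Or.inl ⟨hvY, hx0Y⟩)⟩
      · refine ⟨e, ?_, Or.inr ⟨v, hvS, hinc, hinc⟩⟩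
        rw [Finset.mem_filter]
        exact ⟨Finset.mem_univ _, (cut_iff Y e v x hends).2 (Or.inr ⟨hvY, hxY⟩)⟩
    · have hS1 : (ends e).1 ∉ S := fun h => hSe ⟨_, h, Or.inl rfl⟩
      have hS2 : (ends e).2 ∉ S := fun h => hSe ⟨_, h, Or.inr rfl⟩
      refine ⟨e, ?_, Or.inl ⟨rfl, hS1, hS2⟩⟩
      rw [Finset.mem_filter]
      refine ⟨Finset.mem_univ _, ?_⟩
      rw [← h0 _ hS1, ← h0 _ hS2]; exact hcut
  · intro e' he' e1 he1 e2 he2
    obtain ⟨he1C, hr1⟩ := he1
    obtain ⟨he2C, hr2⟩ := he2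
    rcases hr1 with ⟨h1e, h1a, h1b⟩ | ⟨v, hvS, hinc1, hinc'⟩
    · rcases hr2 with ⟨h2e, _, _⟩ | ⟨v', hv'S, hinc2, hinc2'⟩
      · exact h1e.symm.trans h2e
      · exfalso
        rw [h1e] at hinc2'
        rcases hinc2' with h | h
        · exact h1a (by rw [h]; exact hv'S)
        · exact h1b (by rw [h]; exact hv'S)
    · rcases hr2 with ⟨h2e, h2a, h2b⟩ | ⟨v', hv'S, hinc2, hinc2'⟩
      · exfalso
        rw [h2e] at hinc'
        rcases hinc' with h | h
        · exact h2a (by rw [h]; exact hvS)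
        · exact h2b (by rw [h]; exact hvS)
      · have hvv' : v = v' := by
          rcases hinc' with h | h <;> rcases hinc2' with h' | h'
          · exact h.symm.trans h'
          · exfalso; exact h1 e' (by rw [h]; exact hvS) (by rw [h']; exact hv'S)
          · exfalso; exact h1 e' (by rw [h']; exact hv'S) (by rw [h]; exact hvS)
          · exact h.symm.trans h'
        subst hvv'
        obtain ⟨x1, hx1S, hends1⟩ := inc_cases e1 v hvS hinc1
        obtain ⟨x2, hx2S, hends2⟩ := inc_cases e2 v hvS hinc2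
        have hc1 := (Finset.mem_filter.1 he1C).2
        have hc2 := (Finset.mem_filter.1 he2C).2
        obtain ⟨hvT, hx1T⟩ := hT_inc e1 v x1 hvS hends1 hc1
        obtain ⟨e0, x0, hx0S, hends0, hx0T⟩ := h3' v hvS hvT
        by_contra hne
        have hnot0 : ¬ (((ends e0).1 ∈ T ∧ (ends e0).2 ∉ T) ∨
            ((ends e0).1 ∉ T ∧ (ends e0).2 ∈ T)) := by
          intro h
          rcases (cut_iff T e0 v x0 hends0).1 h with ⟨h, _⟩ | ⟨_, h⟩
          · exact hvT h
          · exact hx0T h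
        have hne01 : e0 ≠ e1 := fun h => hnot0 (by rw [h]; exact hc1)
        have hne02 : e0 ≠ e2 := fun h => hnot0 (by rw [h]; exact hc2)
        have hsub : ({e0, e1, e2} : Finset E) ⊆
            Finset.univ.filter (fun e : E => (ends e).1 = v ∨ (ends e).2 = v) := by
          intro e he
          simp only [Finset.mem_insert, Finset.mem_singleton] at he
          rw [Finset.mem_filter]
          refine ⟨Finset.mem_univ _, ?_⟩
          rcases he with he | he | he
          · rw [he]; exact inc_of e0 v x0 hends0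
          · rw [he]; exact hinc1
          · rw [he]; exact hinc2
        have hcard3 : ({e0, e1, e2} : Finset E).card = 3 :=
          Finset.card_eq_three.2 ⟨e0, e1, e2, hne01, hne02, hne, rfl⟩
        have hle := Finset.card_le_card hsub
        have h42 := h4 v hvS
        omega

theorem main (ends : E → V × V) (w : V → ℕ) (hZ : IsQuasistableGraph ends w)
    (hg : 2 ≤ genus ends w) (S : Finset V) (hS : ∀ v ∈ S, IsExceptional ends w v)
    (dt : V → ℤ) (hzero : ∀ v ∈ S, dt v = 0)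
    (hBI : ∀ W : Finset V, Disjoint W S →
      2 * |canDeg ends w Finset.univ * (∑ v ∈ W, dt v) - (∑ v, dt v) * canDeg ends w (Finset.univ.filter (fun v : V => v ∈ W ∨ (v ∈ S ∧ ∀ e : E, ((ends e).1 = v → (ends e).2 ∈ W) ∧ ((ends e).2 = v → (ends e).1 ∈ W))))|
        ≤ (cut ends (Finset.univ.filter (fun v : V => v ∈ W ∨ (v ∈ S ∧ ∀ e : E, ((ends e).1 = v → (ends e).2 ∈ W) ∧ ((ends e).2 = v → (ends e).1 ∈ W)))) : ℤ) * canDeg ends w Finset.univ) :
    SatisfiesBI ends w dt := by
  classical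
  have hK : 0 < canDeg ends w Finset.univ := by
    rw [Groth.Agent.S19033.canDeg_univ_eq]; linarith
  intro Y
  obtain ⟨W, hW⟩ : ∃ W : Finset V, ∀ v, v ∈ W ↔ (v ∈ Y ∧ v ∉ S) :=
    ⟨Y.filter (fun v => v ∉ S), fun v => by simp⟩
  have hdisj : Disjoint W S := by
    rw [Finset.disjoint_left]; intro v hvW hvS; exact ((hW v).1 hvW).2 hvS
  obtain ⟨T, hT, hTmem⟩ : ∃ T : Finset V,
      (2 * |canDeg ends w Finset.univ * (∑ v ∈ W, dt v) - (∑ v, dt v) * canDeg ends w T|
        ≤ (cut ends T : ℤ) * canDeg ends w Finset.univ) ∧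
      ∀ v, v ∈ T ↔ (v ∈ W ∨ (v ∈ S ∧ ∀ e : E,
        ((ends e).1 = v → (ends e).2 ∈ W) ∧ ((ends e).2 = v → (ends e).1 ∈ W))) :=
    ⟨_, hBI W hdisj, fun v => by simp⟩
  have hWY : W ⊆ Y := fun v hv => ((hW v).1 hv).1
  have hWT : W ⊆ T := fun v hv => (hTmem v).2 (Or.inl hv)
  have ha : ∑ v ∈ W, dt v = ∑ v ∈ Y, dt v := by
    refine Finset.sum_subset hWY (fun v hvY hvW => ?_)
    refine hzero v ?_
    by_contra hvS
    exact hvW ((hW v).2 ⟨hvY, hvS⟩)
  have hc0 : ∀ v ∈ S, (2 * (w v : ℤ) - 2 + (endCount ends Finset.univ v : ℤ)) = 0 := by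
    intro v hv
    have hex := hS v hv
    rw [Groth.Agent.S19033.endCount_exc ends w v hex, hex.1]; norm_num
  have hbT : ∑ v ∈ W, (2 * (w v : ℤ) - 2 + (endCount ends Finset.univ v : ℤ)) =
      ∑ v ∈ T, (2 * (w v : ℤ) - 2 + (endCount ends Finset.univ v : ℤ)) := by
    refine Finset.sum_subset hWT (fun v hvT hvW => ?_)
    rcases (hTmem v).1 hvT with h | h
    · exact absurd h hvW
    · exact hc0 v h.1
  have hbY : ∑ v ∈ W, (2 * (w v : ℤ) - 2 + (endCount ends Finset.univ v : ℤ)) =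
      ∑ v ∈ Y, (2 * (w v : ℤ) - 2 + (endCount ends Finset.univ v : ℤ)) := by
    refine Finset.sum_subset hWY (fun v hvY hvW => ?_)
    refine hc0 v ?_
    by_contra hvS
    exact hvW ((hW v).2 ⟨hvY, hvS⟩)
  have hb : canDeg ends w T = canDeg ends w Y := by
    unfold canDeg
    rw [← hbT, ← hbY]
  have h1 : ∀ e : E, (ends e).1 ∈ S → (ends e).2 ∉ S := by
    intro e ha' hb'
    have hexa := hS _ ha'
    have hexb := hS _ hb'
    have hne : (ends e).1 ≠ (ends e).2 := by
      intro h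
      exact hexa.2.1 e (Prod.ext rfl h.symm)
    exact hZ.2 e hne ⟨hexa, hexb⟩
  have h0 : ∀ v, v ∉ S → (v ∈ T ↔ v ∈ Y) := by
    intro v hvS
    rw [hTmem v, hW v]
    constructor
    · rintro (h | h)
      · exact h.1
      · exact absurd h.1 hvS
    · intro h; exact Or.inl ⟨h, hvS⟩
  have h2 : ∀ v ∈ S, v ∈ T → ∀ e : E,
      ((ends e).1 = v → (ends e).2 ∈ T) ∧ ((ends e).2 = v → (ends e).1 ∈ T) := by
    intro v hvS hvT e
    rcases (hTmem v).1 hvT with h | h
    · exact absurd hvS ((hW v).1 h).2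
    · exact ⟨fun h' => hWT ((h.2 e).1 h'), fun h' => hWT ((h.2 e).2 h')⟩
  have h3 : ∀ v ∈ S, v ∉ T → ∃ e0 : E,
      ((ends e0).1 = v ∧ (ends e0).2 ∉ T) ∨ ((ends e0).2 = v ∧ (ends e0).1 ∉ T) := by
    intro v hvS hvT
    by_contra hcon
    apply hvT
    refine (hTmem v).2 (Or.inr ⟨hvS, fun e => ⟨fun h' => ?_, fun h' => ?_⟩⟩)
    · have hT2 : (ends e).2 ∈ T := by
        by_contra hn; exact hcon ⟨e, Or.inl ⟨h', hn⟩⟩
      have hS2 : (ends e).2 ∉ S := h1 e (by rw [h']; exact hvS)
      rcases (hTmem _).1 hT2 with h | h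
      · exact h
      · exact absurd h.1 hS2
    · have hT1 : (ends e).1 ∈ T := by
        by_contra hn; exact hcon ⟨e, Or.inr ⟨h', hn⟩⟩
      have hS1 : (ends e).1 ∉ S := fun hx => h1 e hx (by rw [h']; exact hvS)
      rcases (hTmem _).1 hT1 with h | h
      · exact h
      · exact absurd h.1 hS1
  have h4 : ∀ v ∈ S,
      (Finset.univ.filter (fun e : E => (ends e).1 = v ∨ (ends e).2 = v)).card ≤ 2 := by
    intro v hv
    obtain ⟨_, hloop, hcut⟩ := hS v hv
    rw [← hcut]; unfold cut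
    refine Finset.card_le_card ?_
    intro e he
    rw [Finset.mem_filter] at he ⊢
    refine ⟨Finset.mem_univ _, ?_⟩
    have hl := hloop e
    have hne : ¬ ((ends e).1 = v ∧ (ends e).2 = v) := fun h => hl (Prod.ext h.1 h.2)
    simp only [Finset.mem_singleton]
    tauto
  have hcut : cut ends T ≤ cut ends Y := cut_le ends S Y T h0 h1 h2 h3 h4
  rw [← ha, ← hb]
  refine le_trans hT ?_
  exact mul_le_mul_of_nonneg_right (by exact_mod_cast hcut) hK.le

end


open LabGraph in
/-- Let σ : Z → X be the contraction of some exceptional components of a quasi-wp-stable curve Z of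
genus g ≥ 2 onto a quasi-wp-stable curve X, and d a properly balanced multidegree on X; then the
pull-back d̃ of d to Z (d̃_W = d_{σ(W)} when σ(W) is a curve, d̃ = 0 on contracted components) is
balanced. Encode Z by its weighted multigraph (vertices = irreducible components, weight plus number
of loops = arithmetic genus of the component, one edge per node and two per tacnode joining distinct
components; canDeg Y = deg_Y ω_Z, cut Y = k_Y, K = canDeg of all vertices = 2g − 2; exceptional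
vertex = exceptional component), and let S be the set of contracted components, each an exceptional
vertex. The components of X are the vertices outside S; for a set W of them, the subcurve σ(W) of X
has deg ω_X equal to canDeg Ŵ and k equal to cut Ŵ, where Ŵ is W together with the vertices of S all
of whose edges end in W, and the exceptional components of X are the exceptional vertices outside S.
So the hypotheses below say that d̃ vanishes on S and that d = d̃|_{V∖S} is properly balanced on X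
(Basic Inequality 2·|K·d_W − D·canDeg Ŵ| ≤ cut Ŵ·K for every W disjoint from S, D the total degree,
and value 1 on exceptional vertices outside S); the conclusion is the Basic Inequality for d̃ on Z,
for every set of vertices. -/
theorem result {V E : Type u} [Fintype V] [Fintype E]
    [DecidableEq V] [DecidableEq E] (ends : E → V × V) (w : V → ℕ) (hZ : IsQuasistableGraph ends w)
    (hg : 2 ≤ genus ends w) (S : Finset V) (hS : ∀ v ∈ S, IsExceptional ends w v)
    (dt : V → ℤ) (hzero : ∀ v ∈ S, dt v = 0)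
    (hBI : ∀ W : Finset V, Disjoint W S →
      2 * |canDeg ends w Finset.univ * (∑ v ∈ W, dt v) - (∑ v, dt v) * canDeg ends w (Finset.univ.filter (fun v : V => v ∈ W ∨ (v ∈ S ∧ ∀ e : E, ((ends e).1 = v → (ends e).2 ∈ W) ∧ ((ends e).2 = v → (ends e).1 ∈ W))))|
        ≤ (cut ends (Finset.univ.filter (fun v : V => v ∈ W ∨ (v ∈ S ∧ ∀ e : E, ((ends e).1 = v → (ends e).2 ∈ W) ∧ ((ends e).2 = v → (ends e).1 ∈ W)))) : ℤ) * canDeg ends w Finset.univ)
    (hone : ∀ v : V, v ∉ S → IsExceptional ends w v → dt v = 1) :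
    SatisfiesBI ends w dt := by
  exact main ends w hZ hg S hS dt hzero hBI


end Groth.Agent.S19034
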