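import Groth.Statements.S19037
import Mathlib

set_option autoImplicit false
universe u v
open scoped Polynomial LaurentPolynomial
open Instab

namespace Groth.Agent.S19037

/-- Affine form over a ring R. Let A be a commutative ℤ-graded R-algebra and t an element of degree −1
(so A is a graded algebra over R[t] with t in degree −1), and let ψ : A[1/t] → R[T, T⁻¹] be an
R-algebra map sending t to T which is graded, in the sense that each homogeneous element of degree n
of A goes to an element of R times T^(−n). Then ψ is obtained by inverting t from an R-algebra map χ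
: A → R[T] (compared through the inclusion of R[T] in R[T, T⁻¹]) if and only if ψ kills t·a for
every homogeneous a of degree 1; such a χ is unique. (The source states this for quasi-coherent
graded algebras over an arbitrary base scheme; the statement is local on the base and is given here
over an affine base.) -/
theorem result
    {R : Type u} {A : Type v} [CommRing R] [CommRing A] [Algebra R A]
    (𝒜 : ℤ → Submodule R A) [GradedAlgebra 𝒜] (t : A) (ht : t ∈ 𝒜 (-1))
    (ψ : Localization.Away t →ₐ[R] R[T;T⁻¹])
    (hψt : ψ (algebraMap A (Localization.Away t) t) = LaurentPolynomial.T 1)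
    (hψ : ∀ (n : ℤ) (a : A), a ∈ 𝒜 n →
      ∃ r : R, ψ (algebraMap A (Localization.Away t) a) = LaurentPolynomial.C r * LaurentPolynomial.T (-n)) :
    (∃! χ : A →ₐ[R] R[X], ∀ a : A,
        ψ (algebraMap A (Localization.Away t) a) = Polynomial.toLaurentAlg (χ a)) ↔
      ∀ a ∈ 𝒜 1, ψ (algebraMap A (Localization.Away t) (t * a)) = 0 := by
  classical
  obtain ⟨ι, hι⟩ : ∃ ι : A →ₐ[R] Localization.Away t,
      ∀ a, ι a = algebraMap A (Localization.Away t) a :=
    ⟨IsScalarTower.toAlgHom R A (Localization.Away t), fun _ => rfl⟩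
  have hinj : Function.Injective (Polynomial.toLaurentAlg : R[X] →ₐ[R] R[T;T⁻¹]) := by
    intro p q h
    rw [Polynomial.toLaurentAlg_apply, Polynomial.toLaurentAlg_apply] at h
    exact Polynomial.toLaurent_injective h
  constructor
  · rintro ⟨χ, hχ, -⟩ a ha
    obtain ⟨r, hr⟩ := hψ 1 a ha
    have h1 := hχ a
    rw [hr, Polynomial.toLaurentAlg_apply] at h1
    have h2 : (Polynomial.toLaurent (Polynomial.C r) : R[T;T⁻¹]) =
        Polynomial.toLaurent (χ a * Polynomial.X) := by
      rw [map_mul, ← h1, Polynomial.toLaurent_X, Polynomial.toLaurent_C, mul_assoc,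
        ← LaurentPolynomial.T_add]
      norm_num
    have h3 := Polynomial.toLaurent_injective h2
    have h4 := congrArg (fun p => Polynomial.coeff p 0) h3
    simp only [Polynomial.coeff_C_zero, Polynomial.coeff_mul_X_zero] at h4
    rw [map_mul (algebraMap A (Localization.Away t)), map_mul ψ, hψt, hr, h4, map_zero, zero_mul,
      mul_zero]
  · intro h
    -- positive degree goes to zero
    have hpos : ∀ (n : ℕ) (a : A), a ∈ 𝒜 ((n : ℤ) + 1) →
        ψ (algebraMap A (Localization.Away t) a) = 0 := by
      intro n a ha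
      have htn : t ^ n ∈ 𝒜 (n • (-1 : ℤ)) := SetLike.pow_mem_graded n ht
      have hb : t ^ n * a ∈ 𝒜 1 := by
        have := SetLike.mul_mem_graded htn ha
        have hdeg : n • (-1 : ℤ) + ((n : ℤ) + 1) = 1 := by
          simp
        rw [hdeg] at this
        exact this
      have h1 := h _ hb
      rw [map_mul (algebraMap A (Localization.Away t)), map_mul (algebraMap A (Localization.Away t)),
        map_pow (algebraMap A (Localization.Away t)), map_mul ψ, map_mul ψ, map_pow ψ, hψt,
        ← mul_assoc, ← pow_succ'] at h1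
      exact ((LaurentPolynomial.isUnit_T 1).pow (n + 1)).mul_right_eq_zero.mp h1
    have hhom : ∀ (n : ℤ) (a : A), a ∈ 𝒜 n →
        ψ (algebraMap A (Localization.Away t) a) ∈
          (Polynomial.toLaurentAlg : R[X] →ₐ[R] R[T;T⁻¹]).range := by
      intro n a ha
      rcases le_or_gt n 0 with hn | hn
      · obtain ⟨r, hr⟩ := hψ n a ha
        obtain ⟨m, hm⟩ : ∃ m : ℕ, -n = (m : ℤ) := ⟨(-n).toNat, by omega⟩
        refine ⟨Polynomial.monomial m r, ?_⟩
        show Polynomial.toLaurentAlg (Polynomial.monomial m r) = _
        rw [Polynomial.toLaurentAlg_apply, Polynomial.toLaurent_C_mul_T, hr, hm]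
      · obtain ⟨m, hm⟩ : ∃ m : ℕ, n = (m : ℤ) + 1 := ⟨(n - 1).toNat, by omega⟩
        rw [hm] at ha
        rw [hpos m a ha]
        exact Subalgebra.zero_mem _
    have hrange : ∀ a : A, (ψ.comp ι) a ∈
        (Polynomial.toLaurentAlg : R[X] →ₐ[R] R[T;T⁻¹]).range := by
      intro a
      rw [AlgHom.comp_apply, hι, ← DirectSum.sum_support_decompose 𝒜 a, map_sum, map_sum]
      apply Subalgebra.sum_mem
      intro n _
      exact hhom n _ (SetLike.coe_mem _)
    obtain ⟨χ, hχ⟩ : ∃ χ : A →ₐ[R] R[X], ∀ a, Polynomial.toLaurentAlg (χ a) = (ψ.comp ι) a := by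
      refine ⟨(AlgEquiv.ofInjective Polynomial.toLaurentAlg hinj).symm.toAlgHom.comp
        ((ψ.comp ι).codRestrict _ hrange), fun a => ?_⟩
      have := congrArg Subtype.val (AlgEquiv.apply_symm_apply
        (AlgEquiv.ofInjective Polynomial.toLaurentAlg hinj) ((ψ.comp ι).codRestrict _ hrange a))
      exact this
    refine ⟨χ, fun a => ?_, fun χ' hχ' => ?_⟩
    · rw [hχ a, AlgHom.comp_apply, hι]
    · ext a : 1
      apply hinj
      rw [hχ a, ← hχ' a, AlgHom.comp_apply, hι]

end Groth.Agent.S19037
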