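import Groth.Statements.S19060
import Groth.Agent.Lib.Helper11.H0Proj
import Groth.Agent.Lib.Helper11.GCM6
import Groth.Agent.Lib.Helper11.NegCxRows
import Groth.Agent.Lib.Helper21.GCFibre
import Groth.Agent.Lib.Lead.GrothVanish
import Groth.Agent.S0002

set_option autoImplicit false
universe u
open CategoryTheory CategoryTheory.Limits AlgebraicGeometry Opposite
open Curves

namespace Groth.Agent.S19060

/-- Let R be a Noetherian ring and X a relative curve over Spec R (proper and smooth, with geometrically
connected fibres of dimension one, and projective: X carries an ample invertible module). Let F be a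
coherent O_X-module which is flat over Spec R (every stalk is a flat module over the local ring of
the base). If H^1(X, F) is a projective R-module, then H^0(X, F) is a projective R-module. (The
source says only that F is an O_X-module flat over the base; F is taken coherent here, as the
finiteness of its cohomology over R used there requires.) -/
theorem result (R : Type u) [CommRing R] [IsNoetherianRing R]
    (X : Scheme.{u}) [X.Over (Spec (CommRingCat.of R))] [IsProper (X ↘ Spec (CommRingCat.of R))]
    [Smooth (X ↘ Spec (CommRingCat.of R))] [GeometricallyConnected (X ↘ Spec (CommRingCat.of R))]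
    (hdim : ∀ s : Spec (CommRingCat.of R), topologicalKrullDim ↥((X ↘ Spec (CommRingCat.of R)).fiber s) = 1)
    (hproj : ∃ M : X.Modules, CohB1.IsAmple M)
    (F : X.Modules) (hF : Coh.IsCoh F) (hfl : FlatMod.IsFlatOver (X ↘ Spec (CommRingCat.of R)) F)
    (h1 : Module.Projective R (Coh.HH X F 1)) :
    Module.Projective R (Coh.HH X F 0) := by
  classical
  obtain ⟨L, hL, ⟨N, hN⟩, hneg, hH, hBneg, hB, hM⟩ :=
    Groth.Agent.Lib.helper11.GCM.exists_grothendieck_complex_module R X F hF hfl
  have hLff : ∀ i, Module.Finite R (L.X i) ∧ Module.Flat R (L.X i) := fun i => by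
    obtain ⟨h1, h2⟩ := hL i
    exact ⟨h1, inferInstance⟩
  have hP := Groth.Agent.Lib.helper11.NegCx.neg_fin_flat L hLff
  have hfib : ∀ p : ℕ, 2 ≤ p → ∀ x : PrimeSpectrum R, CohIII.dRank L (p : ℤ) x = 0 := by
    intro p hp x
    rw [Groth.Agent.Lib.helper21.GCFibre.dRank_eq_fiberRank hB x p]
    unfold CohIII.fiberRank
    have : CompactSpace ↥((X ↘ Spec (CommRingCat.of R)).fiber x) :=
      QuasiCompact.compactSpace_of_compactSpace
        ((X ↘ Spec (CommRingCat.of R)).fiberToSpecResidueField x)
    have : IsSeparated ((X ↘ Spec (CommRingCat.of R)).fiberToSpecResidueField x) :=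
      inferInstanceAs (IsSeparated (Limits.pullback.snd (X ↘ Spec (CommRingCat.of R))
        ((Spec (CommRingCat.of R)).fromSpecResidueField x)))
    have : QuasiSeparatedSpace ↥((X ↘ Spec (CommRingCat.of R)).fiber x) :=
      quasiSeparatedSpace_of_quasiSeparated
        ((X ↘ Spec (CommRingCat.of R)).fiberToSpecResidueField x)
    have := Groth.Agent.Lib.Lead.GrothVanish.subsingleton_HH_of_dim_le
      ((X ↘ Spec (CommRingCat.of R)).fiber x) 1 (by rw [hdim x]; exact le_rfl)
      (CohIII.fiberMod (X ↘ Spec (CommRingCat.of R)) F x) p (by omega)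
    exact Module.finrank_zero_of_subsingleton
  have hb : ∀ j < -(N : ℤ) + 1, IsZero ((Groth.Agent.Lib.helper11.NegCx.neg L).X j) :=
    fun j hj => hN (-j) (by omega)
  have hpos : ∀ M : ModuleCat.{u} R,
      IsZero ((CohIII.TFun (Groth.Agent.Lib.helper11.NegCx.neg L) 1).obj M) := fun M =>
    IsZero.of_iso (hneg M (-1) (by norm_num))
      ((Groth.Agent.Lib.helper11.NegCx.TFunIso L 1).app M)
  have h2 : ∀ q : ℤ, q ≤ -2 → ∀ x : PrimeSpectrum R,
      CohIII.dRank (Groth.Agent.Lib.helper11.NegCx.neg L) q x = 0 := by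
    intro q hq x
    obtain ⟨p, rfl⟩ : ∃ p : ℕ, q = -(p : ℤ) := ⟨(-q).toNat, by omega⟩
    rw [Groth.Agent.Lib.helper11.GCLoc.dRank_neg_apply]
    exact hfib p (by omega) x
  obtain ⟨e1⟩ := hH 1
  obtain ⟨e0⟩ := hH 0
  have h1' : Module.Flat R (Coh.HH X F 1) := Module.Flat.of_projective
  have h1 : Module.Flat R ((Groth.Agent.Lib.helper11.NegCx.neg L).homology (-1)) :=
    Module.Flat.of_linearEquiv
      ((Groth.Agent.Lib.helper11.GCLoc.negHomologyEquiv L ((1 : ℕ) : ℤ)).trans e1)
  have h0 := Groth.Agent.Lib.helper11.H0Proj.flat_H0_of_flat_H1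
    (Groth.Agent.Lib.helper11.NegCx.neg L) hP (-(N : ℤ) + 1) hb hpos h2 h1
  have h0' : Module.Flat R ((Groth.Agent.Lib.helper11.NegCx.neg L).homology (-((0 : ℕ) : ℤ))) := h0
  have h0'' : Module.Flat R (Coh.HH X F 0) :=
    Module.Flat.of_linearEquiv
      (e0.symm.trans (Groth.Agent.Lib.helper11.GCLoc.negHomologyEquiv L ((0 : ℕ) : ℤ)).symm)
  have : Module.Finite R (Coh.HH X F 0) := Groth.Agent.S0002.result R X F hF 0
  have : Module.FinitePresentation R (Coh.HH X F 0) := Module.finitePresentation_of_finite R _
  exact Module.Flat.projective_of_finitePresentation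

end Groth.Agent.S19060
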