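import Groth.Statements.S1907
import Groth.Agent.Lib.Helper16.DivSum3
import Groth.Agent.Lib.Helper16.CycFlat4
import Groth.Agent.Lib.Helper16.CycFlat3
import Groth.Agent.Lib.Helper24.FlatDimFormula
import Groth.Agent.S1861

set_option autoImplicit false
universe u
open CategoryTheory AlgebraicGeometry
open Cyc

namespace Groth.Agent.S1907

open Groth.Agent.Lib.helper16.DivSum Groth.Agent.Lib.helper16.OrdGen
  Groth.Agent.Lib.helper16.CycFlat Groth.Agent.Lib.helper16.CycOpen
  Groth.Agent.Lib.helper17.FibreStalk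

theorem residueFieldMap_congr_div {X Y : Scheme.{u}} (f : X ⟶ Y) {x ξ : X} (h : ξ ⤳ x)
    (η' : Y) (e : f ξ = η') (hη : η' ⤳ f x) (a' b' : Y.presheaf.stalk (f x)) :
    f.residueFieldMap ξ ((Y.residueFieldCongr e.symm).hom
      (Cyc.specMap (f x) η' hη a' / Cyc.specMap (f x) η' hη b')) =
    Cyc.specMap x ξ h (f.stalkMap x a') / Cyc.specMap x ξ h (f.stalkMap x b') := by
  subst e
  rw [show (Y.residueFieldCongr (Eq.refl (f ξ)).symm) = Iso.refl _ from
    Scheme.residueFieldCongr_refl]
  simp only [Iso.refl_hom, CommRingCat.hom_id, RingHom.id_apply]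
  rw [specMap_stalkMap f x ξ h hη a', specMap_stalkMap f x ξ h hη b']
  exact map_div₀ _ _ _

theorem isMaxPt_of_coheight_le_one {X : Scheme.{u}} {x ξ : X} (hx : Order.coheight x ≤ 1)
    (h : ξ ⤳ x) (hne : ξ ≠ x) : ∀ x' : X, x' ⤳ ξ → x' = ξ := by
  have hle : x ≤ ξ := h
  have hlt : x < ξ :=
    lt_of_le_not_ge hle (fun hge => hne ((h.antisymm (show x ⤳ ξ from hge)).eq))
  have h1 := (Order.coheight_le_coe_iff (n := 1)).mp (by exact_mod_cast hx) ξ hlt
  have h0 : Order.coheight ξ = 0 := by
    have : Order.coheight ξ < 1 := by exact_mod_cast h1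
    exact Order.lt_one_iff.mp this
  rw [Order.coheight_eq_zero] at h0
  intro x' hx'
  have h1 : ξ ⤳ x' := h0 (show ξ ≤ x' from hx')
  exact (hx'.antisymm h1).eq

open Classical in
/-- Let Y be integral with δY(η_Y) = k, f : X → Y flat, locally of finite type, of relative dimension r,
and g a nonzero rational function on Y. Then f^*(div_Y g) = Σ_j n_j · div_{X_j}(g|_{X_j}) as (k + r
− 1)-cycles on X, the sum over the irreducible components X_j of X (generic points ξ_j, which map to
η_Y) with n_j the length of O_{X,ξ_j}, and g|_{X_j} the image of g in κ(ξ_j). A pair (X, δ) with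
Cyc.IsSetup plays the role of a scheme locally of finite type over a fixed base with a dimension
function (X locally Noetherian with universally catenary local rings, δ a dimension function), and
Cyc.DeltaCompat records that the dimension function upstairs is the induced one. -/
theorem result (X Y : Scheme.{u}) [IsIntegral Y] (δX : X → ℤ) (δY : Y → ℤ) (hX : Cyc.IsSetup X δX) (hY : Cyc.IsSetup Y δY) (f : X ⟶ Y) [Flat f] [LocallyOfFiniteType f] (r : ℕ) (hr : Cyc.HasRelDim f r) (hδ : Cyc.DeltaCompat f δX δY) (k : ℤ) (hk : δY (genericPoint Y) = k) (g : Y.residueField (genericPoint Y)) (hg : g ≠ 0) (x : X) : Cyc.pullFun f δX δY r (Cyc.divFun δY (genericPoint Y) g) x = ∑ᶠ ξ : {ξ : X // (∀ x' : X, x' ⤳ ξ → x' = ξ) ∧ f ξ = genericPoint Y}, ((Module.length (X.presheaf.stalk ξ.1) (X.presheaf.stalk ξ.1)).toNat : ℤ) * Cyc.divFun δX ξ.1 (f.residueFieldMap ξ.1 ((Y.residueFieldCongr ξ.2.2.symm).hom g)) x := by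
  haveI : IsLocallyNoetherian X := hX.1
  haveI : IsLocallyNoetherian Y := hY.1
  -- maximal points
  have hmaxpt : ∀ ξ : X, (∀ x' : X, x' ⤳ ξ → x' = ξ) →
      f ξ = genericPoint Y ∧ δX ξ = k + r := by
    intro ξ hξ
    obtain ⟨h1, h2⟩ := Groth.Agent.S1861.result X Y δX δY hX hY f r hr hδ (genericPoint Y) ξ
      (by rw [show closure {genericPoint Y} = Set.univ from genericPoint_spec Y]; trivial)
      (fun x' _ hx' => hξ x' hx')
    exact ⟨h1, by rw [h2, hk]⟩
  have hηy : genericPoint Y ⤳ f x := genericPoint_specializes _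
  obtain ⟨n, b, hn, hnb, hb⟩ := deltaCompat_fibre f δX δY r hr hδ x
  have hflat : (f.stalkMap x).hom.Flat := (Flat.iff_flat_stalkMap (f := f)).1 inferInstance x
  show (if δX x = δY (f x) + r then
      (if h : genericPoint Y ⤳ f x ∧ δY (f x) + 1 = δY (genericPoint Y) then
        Cyc.ordAt (f x) (genericPoint Y) h.1 g else 0) *
        ((Module.length (X.presheaf.stalk x) (FibRing f x)).toNat : ℤ) else 0) =
    ∑ᶠ ξ : {ξ : X // (∀ x' : X, x' ⤳ ξ → x' = ξ) ∧ f ξ = genericPoint Y},
      ((Module.length (X.presheaf.stalk ξ.1) (X.presheaf.stalk ξ.1)).toNat : ℤ) *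
        (if h : ξ.1 ⤳ x ∧ δX x + 1 = δX ξ.1 then Cyc.ordAt x ξ.1 h.1
          (f.residueFieldMap ξ.1 ((Y.residueFieldCongr ξ.2.2.symm).hom g)) else 0)
  by_cases hA : δX x + 1 = k + r
  · by_cases hA1 : δX x = δY (f x) + r
    · -- the main case
      have hyk : δY (f x) + 1 = δY (genericPoint Y) := by omega
      rw [if_pos hA1, dif_pos ⟨hηy, hyk⟩]
      have hyc : Order.coheight (f x) ≤ 1 :=
        coheight_le_one' δY hY.2.2 (f x) (by omega)
      haveI : Ring.KrullDimLE 1 (Y.presheaf.stalk (f x)) :=
        krullDimLE_of_coheight_le (n := 1) (by exact_mod_cast hyc)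
      have hb0 : b = 0 := by omega
      subst hb0
      letI := (f.stalkMap x).hom.toAlgebra
      haveI : Module.Flat (Y.presheaf.stalk (f x)) (X.presheaf.stalk x) := hflat
      haveI : IsLocalHom (algebraMap (Y.presheaf.stalk (f x)) (X.presheaf.stalk x)) :=
        inferInstanceAs (IsLocalHom (f.stalkMap x).hom)
      haveI hBdim : Ring.KrullDimLE 1 (X.presheaf.stalk x) := by
        rw [Ring.krullDimLE_iff,
          Groth.Agent.Lib.Helper24.FlatDimFormula.ringKrullDim_eq_add_of_flat
            (Y.presheaf.stalk (f x)) (X.presheaf.stalk x)]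
        have h1 : ringKrullDim (Y.presheaf.stalk (f x)) ≤ 1 := Ring.krullDimLE_iff.mp inferInstance
        have h2 : ringKrullDim (X.presheaf.stalk x ⧸ (IsLocalRing.maximalIdeal
            (Y.presheaf.stalk (f x))).map (algebraMap _ (X.presheaf.stalk x))) = 0 := by
          change ringKrullDim (FibRing f x) = 0
          simpa using hb
        rw [h2, add_zero]
        exact h1
      have hxc : Order.coheight x ≤ 1 := by
        have := ringKrullDim_stalk_eq_coheight x
        have h1 : ringKrullDim (X.presheaf.stalk x) ≤ 1 := Ring.krullDimLE_iff.mp hBdim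
        rw [this] at h1
        exact_mod_cast h1
      obtain ⟨a', b', ha', hb', hg'⟩ := Groth.Agent.Lib.helper16.CycFlat.exists_div_eq
        (f x) hηy g hg
      rw [hg', Groth.Agent.Lib.helper16.CycFlat.ordAt_div (f x) hηy hyc a' b' ha' hb']
      -- nonzerodivisors upstairs
      have hnzd : ∀ c : Y.presheaf.stalk (f x), c ≠ 0 →
          (f.stalkMap x).hom c ∈ nonZeroDivisors (X.presheaf.stalk x) := by
        intro c hc
        have hreg : IsSMulRegular (X.presheaf.stalk x) c :=
          Module.Flat.isSMulRegular_of_nonZeroDivisors (mem_nonZeroDivisors_iff_ne_zero.mpr hc)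
        rw [mem_nonZeroDivisors_iff_right]
        intro z hz
        apply hreg
        change (f.stalkMap x).hom c * z = (f.stalkMap x).hom c * 0
        rw [mul_zero, mul_comm]
        exact hz
      -- the sum
      let ι : {ξ : X // ξ ⤳ x ∧ ξ ≠ x} →
          {ξ : X // (∀ x' : X, x' ⤳ ξ → x' = ξ) ∧ f ξ = genericPoint Y} := fun ξ =>
        ⟨ξ.1, isMaxPt_of_coheight_le_one hxc ξ.2.1 ξ.2.2,
          (hmaxpt ξ.1 (isMaxPt_of_coheight_le_one hxc ξ.2.1 ξ.2.2)).1⟩
      have hι : Function.Injective ι := by
        intro ξ ξ' h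
        exact Subtype.ext (congrArg (fun z => z.1) h)
      rw [← finsum_mem_univ, finsum_mem_inter_support_eq' _ Set.univ (Set.range ι) (by
        intro ξ hξ
        simp only [Set.mem_univ, true_iff]
        by_cases h : ξ.1 ⤳ x ∧ δX x + 1 = δX ξ.1
        · have hne : ξ.1 ≠ x := by
            intro he
            have := h.2
            rw [he] at this
            omega
          exact ⟨⟨ξ.1, h.1, hne⟩, Subtype.ext rfl⟩
        · exfalso
          apply hξ
          show _ * _ = (0 : ℤ)
          rw [dif_neg h, mul_zero]), finsum_mem_range hι]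
      have hterm : ∀ j : {ξ : X // ξ ⤳ x ∧ ξ ≠ x},
          ((Module.length (X.presheaf.stalk (ι j).1) (X.presheaf.stalk (ι j).1)).toNat : ℤ) *
            (if h : (ι j).1 ⤳ x ∧ δX x + 1 = δX (ι j).1 then Cyc.ordAt x (ι j).1 h.1
              (f.residueFieldMap (ι j).1 ((Y.residueFieldCongr (ι j).2.2.symm).hom
                (Cyc.specMap (f x) (genericPoint Y) hηy a' /
                  Cyc.specMap (f x) (genericPoint Y) hηy b'))) else 0) =
          ((Module.length (X.presheaf.stalk j.1) (X.presheaf.stalk j.1)).toNat : ℤ) *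
            Cyc.ordAt x j.1 j.2.1 (Cyc.specMap x j.1 j.2.1 ((f.stalkMap x).hom a') /
              Cyc.specMap x j.1 j.2.1 ((f.stalkMap x).hom b')) := by
        intro j
        have hδj : δX x + 1 = δX j.1 := by
          rw [(hmaxpt j.1 (isMaxPt_of_coheight_le_one hxc j.2.1 j.2.2)).2]
          exact hA
        rw [dif_pos (⟨j.2.1, hδj⟩ : (ι j).1 ⤳ x ∧ δX x + 1 = δX (ι j).1)]
        rw [residueFieldMap_congr_div f j.2.1 (genericPoint Y) (ι j).2.2 hηy a' b']
      rw [finsum_congr hterm, finsum_mul_ordAt_eq x _ _ (hnzd a' ha') (hnzd b' hb')]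
      have hfl : ∀ c : Y.presheaf.stalk (f x), c ≠ 0 →
          IsFiniteLength (Y.presheaf.stalk (f x)) (Y.presheaf.stalk (f x) ⧸ Ideal.span {c}) :=
        fun c hc => isFiniteLength_quotient_span_singleton _
          (mem_nonZeroDivisors_iff_ne_zero.mpr hc)
      have e1 := length_quot_span_map (B := X.presheaf.stalk x) a' (hfl a' ha')
      have e2 := length_quot_span_map (B := X.presheaf.stalk x) b' (hfl b' hb')
      have e1' : Module.length (X.presheaf.stalk x)
          (X.presheaf.stalk x ⧸ Ideal.span {(f.stalkMap x).hom a'}) = _ := e1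
      have e2' : Module.length (X.presheaf.stalk x)
          (X.presheaf.stalk x ⧸ Ideal.span {(f.stalkMap x).hom b'}) = _ := e2
      rw [e1', e2', ENat.toNat_mul, ENat.toNat_mul]
      push_cast
      have e3 : (algebraMap (Y.presheaf.stalk (f x)) (X.presheaf.stalk x)) =
        (f.stalkMap x).hom := rfl
      rw [e3]
      ring
    · -- `f x` is the generic point and `g` is a unit there
      rw [if_neg hA1]
      symm
      apply finsum_eq_zero_of_forall_eq_zero
      intro ξ
      by_cases h : ξ.1 ⤳ x ∧ δX x + 1 = δX ξ.1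
      · rw [dif_pos h]
        have hyη : f x = genericPoint Y := by
          by_contra hne
          have := (hY.2.2 _ _ hηy (Ne.symm hne)).1
          omega
        have hfield : IsField (Y.presheaf.stalk (f x)) :=
          hyη.symm ▸ (Field.toIsField Y.functionField)
        obtain ⟨a', b', ha', hb', hg'⟩ := Groth.Agent.Lib.helper16.CycFlat.exists_div_eq
          (f x) hηy g hg
        have hua : IsUnit a' := by
          letI := hfield.toField
          exact isUnit_iff_ne_zero.mpr ha'
        have hub : IsUnit b' := by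
          letI := hfield.toField
          exact isUnit_iff_ne_zero.mpr hb'
        rw [hg', residueFieldMap_congr_div f h.1 (genericPoint Y) ξ.2.2 hηy a' b']
        have hub' : IsUnit ((f.stalkMap x).hom b') := hub.map _
        obtain ⟨v, hv⟩ := hub'
        have e : Cyc.specMap x ξ.1 h.1 ((f.stalkMap x).hom a') /
            Cyc.specMap x ξ.1 h.1 ((f.stalkMap x).hom b') =
            Cyc.specMap x ξ.1 h.1 ((f.stalkMap x).hom a' * ((v⁻¹ : (X.presheaf.stalk x)ˣ) :
              X.presheaf.stalk x)) := by
          rw [map_mul, div_eq_mul_inv]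
          congr 1
          rw [← hv]
          symm
          apply eq_inv_of_mul_eq_one_left
          rw [← map_mul]
          simp
        rw [e, ordAt_specMap_of_isUnit h.1 _ ((hua.map _).mul (Units.isUnit _)), mul_zero]
      · rw [dif_neg h, mul_zero]
  · -- both sides vanish
    have hL : (if δX x = δY (f x) + r then
        (if h : genericPoint Y ⤳ f x ∧ δY (f x) + 1 = δY (genericPoint Y) then
          Cyc.ordAt (f x) (genericPoint Y) h.1 g else 0) *
          ((Module.length (X.presheaf.stalk x) (FibRing f x)).toNat : ℤ) else 0) = 0 := by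
      by_cases h1 : δX x = δY (f x) + r
      · rw [if_pos h1, dif_neg (fun h => hA (by have := h.2; omega)), zero_mul]
      · rw [if_neg h1]
    rw [hL]
    symm
    apply finsum_eq_zero_of_forall_eq_zero
    intro ξ
    rw [dif_neg (fun h => hA (by rw [← (hmaxpt ξ.1 ξ.2.1).2]; exact h.2)), mul_zero]

end Groth.Agent.S1907
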