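import Groth.Statements.S19093
import Groth.Agent.LibPS29a
import Groth.Agent.LibPS29b
import Mathlib.RingTheory.Localization.AtPrime.Basic
import Mathlib.Algebra.CharP.Algebra
-- import your own Groth.Agent.* helpers here

set_option autoImplicit false
universe u
open FrobAlg

namespace Groth.Agent.S19093

open Groth.Agent.LibPS29 in
lemma fGen_powerSeries (p : ℕ) [hp : Fact p.Prime] (k : Type u) [Field k] [PerfectField k]
    [CharP k p] [CharP (PowerSeries k) p] : FGen p (PowerSeries k) := by
  classical
  refine ⟨{PowerSeries.X}, ?_⟩
  rw [eq_top_iff]
  intro g _
  rw [decomp p k g]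
  refine sum_mem (fun i _ => mul_mem ?_ (pow_mem ?_ _))
  · exact Subring.subset_closure (Or.inl ⟨_, rfl⟩)
  · exact Subring.subset_closure (Or.inr (by simp))

open Groth.Agent.LibPS29 in

/-- Let p be a prime, k a finite field of characteristic p, A a commutative k[[t]]-algebra of finite
type over the power series ring k[[t]], and P a prime ideal of A. Then the absolute Frobenius a ↦
a^p of the local ring A_P is a finite ring homomorphism. In particular every local ring of a scheme
of finite type over k[[t]] has finite absolute Frobenius. (The instance hypothesis that A_P has
characteristic p always holds, A_P being a nonzero algebra over k.) The published statement is for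
the local rings of a projective strictly semistable scheme over k[[t]] and adds that such a scheme
is regular with F-finite local rings; its proof uses only that the scheme is of finite type over
k[[t]], which is the form stated here. -/
theorem result (p : ℕ) [Fact p.Prime]
    (k : Type u) [Field k] [Finite k] [CharP k p]
    (A : Type u) [CommRing A] [Algebra (PowerSeries k) A] [Algebra.FiniteType (PowerSeries k) A]
    (P : Ideal A) [P.IsPrime] [CharP (Localization.AtPrime P) p] :
    (frobenius (Localization.AtPrime P) p).Finite := by
  classical
  have hpk : CharP (PowerSeries k) p :=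
    charP_of_injective_ringHom (PowerSeries.C : k →+* PowerSeries k).injective p
  apply frobenius_finite_of_fGen
  obtain ⟨s, hs⟩ := (Algebra.FiniteType.out : (⊤ : Subalgebra (PowerSeries k) A).FG)
  refine fGen_of_hom p (algebraMap (PowerSeries k) (Localization.AtPrime P))
    (s.image (algebraMap A (Localization.AtPrime P))) ?_ (fGen_powerSeries p k)
  rw [eq_top_iff]
  intro z _
  set T := Subring.closure (Set.range (algebraMap (PowerSeries k) (Localization.AtPrime P)) ∪
    Set.range (frobenius (Localization.AtPrime P) p) ∪
    ((s.image (algebraMap A (Localization.AtPrime P)) : Finset _) : Set (Localization.AtPrime P)))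
    with hT
  have hA : ∀ a : A, algebraMap A (Localization.AtPrime P) a ∈ T := by
    intro a
    have ha : a ∈ Algebra.adjoin (PowerSeries k) (s : Set A) := by rw [hs]; trivial
    induction ha using Algebra.adjoin_induction with
    | mem x hx =>
      apply Subring.subset_closure
      right
      rw [Finset.coe_image]
      exact ⟨x, hx, rfl⟩
    | algebraMap r =>
      apply Subring.subset_closure
      left; left
      exact ⟨r, by rw [← IsScalarTower.algebraMap_apply]⟩
    | add x y _ _ hx hy => rw [map_add]; exact add_mem hx hy
    | mul x y _ _ hx hy => rw [map_mul]; exact mul_mem hx hy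
  obtain ⟨a, b, rfl⟩ := IsLocalization.exists_mk'_eq P.primeCompl z
  have hp1 : p - 1 + 1 = p := Nat.sub_add_cancel (Fact.out : p.Prime).one_le
  have hz : IsLocalization.mk' (Localization.AtPrime P) a b =
      algebraMap A (Localization.AtPrime P) (a * (b : A) ^ (p - 1)) *
        (IsLocalization.mk' (Localization.AtPrime P) (1 : A) b) ^ p := by
    rw [eq_comm, IsLocalization.eq_mk'_iff_mul_eq]
    have h1 : IsLocalization.mk' (Localization.AtPrime P) (1 : A) b *
        algebraMap A (Localization.AtPrime P) (b : A) = 1 := by
      rw [IsLocalization.mk'_spec, map_one]
    calc algebraMap A (Localization.AtPrime P) (a * (b : A) ^ (p - 1)) *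
          (IsLocalization.mk' (Localization.AtPrime P) (1 : A) b) ^ p *
          algebraMap A (Localization.AtPrime P) (b : A)
        = algebraMap A (Localization.AtPrime P) a *
          (IsLocalization.mk' (Localization.AtPrime P) (1 : A) b *
            algebraMap A (Localization.AtPrime P) (b : A)) ^ p := by
          rw [map_mul, map_pow, mul_pow]
          conv_rhs => rw [← hp1, pow_succ (algebraMap A (Localization.AtPrime P) (b : A)), hp1]
          ring
      _ = algebraMap A (Localization.AtPrime P) a := by rw [h1, one_pow, mul_one]
  rw [hz]
  exact mul_mem (hA _) (Subring.subset_closure (Or.inl (Or.inr ⟨_, rfl⟩)))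

end Groth.Agent.S19093
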