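import Groth.Statements.S19094
import Groth.Agent.LibPS29c
import Groth.Agent.LibCart29e
import Groth.Agent.LibFrob29a
-- import your own Groth.Agent.* helpers here

set_option autoImplicit false
universe u
open FrobAlg

namespace Groth.Agent.S19094

open Groth.Agent.LibCart29 Groth.Agent.LibFrob29 Groth.Agent.LibPS29 Module EGA41 in
theorem main (p : ℕ) [Fact p.Prime] {k F K : Type u} [Field k] [PerfectField k] [Field F]
    [Field K] [Algebra k F] [Algebra F K] [Algebra k K] [IsScalarTower k F K] [CharP K p]
    [Algebra.EssFiniteType F K]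
    (hF : Module.Finite F (Ω[F⁄ℤ]) ∧ finrank F (Ω[F⁄ℤ]) = 1) (d : ℕ)
    (hd : Algebra.trdeg F K = d) :
    finrank (pPowerSubalgebra p k K) K = p ^ (d + 1) := by
  obtain ⟨hFfin, hF1⟩ := hF
  obtain ⟨⟨h1, h2⟩, h3⟩ := fg_eq_int F K
  have hfred := (fred_iff_finCart ℤ F K).2 ⟨h1, h2⟩
  have hfinT : Module.Finite K (TensorProduct F K (Ω[F⁄ℤ])) := inferInstance
  have hfinK : Module.Finite K (Ω[K⁄ℤ]) := by
    have hr : Module.Finite K (LinearMap.range (KaehlerDifferential.mapBaseChange ℤ F K)) :=
      inferInstance
    have hq := hfred.2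
    exact Module.Finite.of_submodule_quotient
      (LinearMap.range (KaehlerDifferential.mapBaseChange ℤ F K))
  have hi := ind_eq_finrank_sub (KaehlerDifferential.mapBaseChange ℤ F K)
  rw [ind_eq_chi, Module.finrank_baseChange] at hi
  have hKZ : finrank K (Ω[K⁄ℤ]) = d + 1 := by
    rw [hd] at h3
    simp only [Cardinal.toNat_natCast] at h3
    have : (finrank K (Ω[K⁄ℤ]) : ℤ) = d + 1 := by
      change (_ : ℤ) = (finrank K (Ω[K⁄ℤ]) : ℤ) - finrank F (Ω[F⁄ℤ]) at hi
      rw [hF1] at hi
      omega
    exact_mod_cast this
  -- `Ω_{K/ℤ} ≅ Ω_{K/k}`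
  have hsub := subsingleton_kaehler_int_of_perfect p k K
  have hsub2 : Subsingleton (TensorProduct k K (Ω[k⁄ℤ])) := by
    rw [subsingleton_iff]
    intro a b
    have h0 : ∀ z : TensorProduct k K (Ω[k⁄ℤ]), z = 0 := by
      intro z
      induction z using TensorProduct.induction_on with
      | zero => rfl
      | tmul x y => rw [Subsingleton.elim y 0, TensorProduct.tmul_zero]
      | add x y hx hy => rw [hx, hy, add_zero]
    rw [h0 a, h0 b]
  have hinj : Function.Injective (KaehlerDifferential.map ℤ k K K) := by
    rw [← LinearMap.ker_eq_bot, (LinearMap.exact_iff.1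
      (KaehlerDifferential.exact_mapBaseChange_map ℤ k K)), LinearMap.range_eq_bot]
    apply LinearMap.ext
    intro z
    rw [Subsingleton.elim z 0, map_zero]
    rfl
  let e : Ω[K⁄ℤ] ≃ₗ[K] Ω[K⁄k] :=
    LinearEquiv.ofBijective (KaehlerDifferential.map ℤ k K K)
      ⟨hinj, KaehlerDifferential.map_surjective ℤ k K⟩
  have hfinKk : Module.Finite K (Ω[K⁄k]) := Module.Finite.equiv e
  rw [finrank_pPowerSubalgebra p k K, ← LinearEquiv.finrank_eq e, hKZ]

open Groth.Agent.LibPS29 EGA41 in

/-- Let p be a prime, k a finite field of characteristic p and K a finitely generated field extension of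
the Laurent series field k((t)) of finite transcendence degree d. Then [K : K^p] = p^(d+1), where
K^p ⊆ K is the subfield of p-th powers (the image of the Frobenius). The case of interest is the
residue field of a generic point of a projective strictly semistable scheme of relative dimension d
over k[[t]], which is such an extension. -/
theorem result (p : ℕ) [Fact p.Prime]
    (k : Type u) [Field k] [Finite k] [CharP k p]
    (K : Type u) [Field K] [Algebra (LaurentSeries k) K] [CharP K p]
    (hfg : (⊤ : IntermediateField (LaurentSeries k) K).FG)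
    (d : ℕ) (hd : Algebra.trdeg (LaurentSeries k) K = d) :
    Module.finrank (↥(frobenius K p).fieldRange) K = p ^ (d + 1) := by
  have hperf : PerfectField k := inferInstance
  have hcF : CharP (LaurentSeries k) p := charP_laurent p k
  let _ : Algebra k K :=
    ((algebraMap (LaurentSeries k) K).comp (algebraMap k (LaurentSeries k))).toAlgebra
  have hst := IsScalarTower.of_algebraMap_eq (R := k) (S := LaurentSeries k) (A := K)
    (fun _ => rfl)
  have hess : Algebra.EssFiniteType (LaurentSeries k) K := IntermediateField.fg_top_iff.1 hfg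
  have hF := finrank_kaehler_of_decomp p k (tt k) (laurent_decomp p k)
    (tt_ne_pow p k (Fact.out : p.Prime).one_lt)
  have hmain := main p (k := k) (F := LaurentSeries k) (K := K) hF d hd
  rw [← hmain]
  have hset : ∀ x : K, x ∈ (frobenius K p).fieldRange ↔ x ∈ pPowerSubalgebra p k K := by
    intro x
    constructor
    · rintro ⟨y, rfl⟩
      exact Algebra.subset_adjoin ⟨y, rfl⟩
    · intro hx
      induction hx using Algebra.adjoin_induction with
      | mem x hx =>
        obtain ⟨y, rfl⟩ := hx
        exact ⟨y, rfl⟩
      | algebraMap a =>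
        exact ⟨algebraMap k K ((frobeniusEquiv k p).symm a), by
          rw [frobenius_def, ← map_pow, frobeniusEquiv_symm_pow_p]⟩
      | add x y _ _ hx hy => exact add_mem hx hy
      | mul x y _ _ hx hy => exact mul_mem hx hy
  let i : ↥(frobenius K p).fieldRange ≃+* ↥(pPowerSubalgebra p k K) :=
    { toFun := fun x => ⟨x.1, (hset x.1).1 x.2⟩
      invFun := fun x => ⟨x.1, (hset x.1).2 x.2⟩
      left_inv := fun _ => rfl
      right_inv := fun _ => rfl
      map_mul' := fun _ _ => rfl
      map_add' := fun _ _ => rfl }
  exact Algebra.finrank_eq_of_equiv_equiv i (RingEquiv.refl K) (by ext; rfl)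

end Groth.Agent.S19094
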