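import Groth.Statements.S19098
import Groth.Agent.Lib.Helper4.ActPts4
import Groth.Agent.Lib.Helper4.BalProd

set_option autoImplicit false
universe u
open CategoryTheory MonoidalCategory CartesianMonoidalCategory MonObj AlgebraicGeometry
open ChGrp

namespace Groth.Agent.S19098

/-- Let S be a scheme, G an S-group scheme acting on an S-scheme X through a, and h an S-point of G. Let
i : Z → G be a homomorphism and ψ : Ψ → G a monomorphism with a G-action on Ψ under which ψ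
intertwines with conjugation, and o an S-point of Ψ over h, such that (Ψ, o) is the homogeneous
space G/Z for the fppf topology through the orbit map g ↦ g h g⁻¹ (so Z is the centralizer of h and
Ψ its conjugacy class). Let incl : X^h → X be a monomorphism whose points are the points of X fixed
by h, with the Z-action restricted from a; let σ : S_Ψ → G ×_S X be a monomorphism whose points are
the pairs (g, x) with g a point of Ψ and g x = x (the part of the global stabilizer over Ψ), with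
the G-action by conjugation on the first entry and by a on the second; and let Φ : G ×_S X^h → S_Ψ
be the morphism (g, x) ↦ (g h g⁻¹, g x). Then Φ makes S_Ψ, with its G-action, the balanced product G
×^Z X^h for the fppf topology: Φ is G-equivariant, it is a Z-torsor for the action z (g, x) = (g
z⁻¹, z x), and it has sections fppf-locally on S_Ψ. (The source works with algebraic spaces of
finite type over the complex numbers and a semisimple conjugacy class Ψ, where the identification of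
Ψ with G/Z comes from the theory of algebraic groups; here that identification is the hypothesis
hhom, the base is arbitrary and X is a scheme.) -/
theorem result
    {S : Scheme.{u}} {G X Z Ψ Xh SΨ : Over S} [GrpObj G] [GrpObj Z]
    (a : AlgGrp.Action G X) (h : 𝟙_ (Over S) ⟶ G)
    (i : Z ⟶ G) [IsMonHom i]
    (ψ : Ψ ⟶ G) [Mono ψ] (aΨ : AlgGrp.Action G Ψ)
    (hψ : aΨ.act ≫ ψ = fst G Ψ * (snd G Ψ ≫ ψ) * (fst G Ψ)⁻¹)
    (o : 𝟙_ (Over S) ⟶ Ψ) (ho : o ≫ ψ = h)
    (hhom : ChGrp.IsHomog Scheme.fppfPrecoverage i aΨ o)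
    (incl : Xh ⟶ X) [Mono incl]
    (hXh : ∀ (T : Over S) (x : T ⟶ X), (∃ y : T ⟶ Xh, y ≫ incl = x) ↔ lift (toUnit T ≫ h) x ≫ a.act = x)
    (aXh : AlgGrp.Action Z Xh) (hincl : AlgGrp.Action.IsEquivariant aXh (a.restrict i) incl)
    (σ : SΨ ⟶ G ⊗ X) [Mono σ]
    (hSΨ : ∀ (T : Over S) (g : T ⟶ G) (x : T ⟶ X),
      (∃ q : T ⟶ SΨ, q ≫ σ = lift g x) ↔ ((∃ y : T ⟶ Ψ, y ≫ ψ = g) ∧ lift g x ≫ a.act = x))
    (aS : AlgGrp.Action G SΨ)
    (hσ : aS.act ≫ σ = lift (fst G SΨ * (snd G SΨ ≫ σ ≫ fst G X) * (fst G SΨ)⁻¹)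
      (lift (fst G SΨ) (snd G SΨ ≫ σ ≫ snd G X) ≫ a.act))
    (Φ : G ⊗ Xh ⟶ SΨ)
    (hΦ : Φ ≫ σ = lift (fst G Xh * (toUnit (G ⊗ Xh) ≫ h) * (fst G Xh)⁻¹)
      (lift (fst G Xh) (snd G Xh ≫ incl) ≫ a.act)) :
    ChGrp.IsBalProd Scheme.fppfPrecoverage i aXh aS Φ := by
  obtain ⟨hiM, hcartΨ, hlocΨ⟩ := hhom
  -- points forms
  have hψp : ∀ {T : Over S} (g : T ⟶ G) (y : T ⟶ Ψ), (lift g y ≫ aΨ.act) ≫ ψ = g * (y ≫ ψ) * g⁻¹ := by
    intro T g y
    rw [Category.assoc, hψ, MonObj.comp_mul, MonObj.comp_mul, GrpObj.comp_inv, lift_fst, lift_snd_assoc]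
  have horb : ∀ {T : Over S} (g : T ⟶ G), (g ≫ aΨ.orbitMap o) ≫ ψ = g * (toUnit T ≫ h) * g⁻¹ := by
    intro T g
    rw [AlgGrp.Action.comp_orbitMap, hψp, Category.assoc, ho]
  have hσp : ∀ {T : Over S} (g : T ⟶ G) (s : T ⟶ SΨ), (lift g s ≫ aS.act) ≫ σ =
      lift (g * (s ≫ σ ≫ fst G X) * g⁻¹) (lift g (s ≫ σ ≫ snd G X) ≫ a.act) := by
    intro T g s
    rw [Category.assoc, hσ, comp_lift, MonObj.comp_mul, MonObj.comp_mul, GrpObj.comp_inv, lift_fst, lift_snd_assoc,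
      comp_lift_assoc, lift_fst, lift_snd_assoc]
  have hΦp : ∀ {T : Over S} (g : T ⟶ G) (x : T ⟶ Xh), (lift g x ≫ Φ) ≫ σ =
      lift (g * (toUnit T ≫ h) * g⁻¹) (lift g (x ≫ incl) ≫ a.act) := by
    intro T g x
    rw [Category.assoc, hΦ, comp_lift, MonObj.comp_mul, MonObj.comp_mul, GrpObj.comp_inv, lift_fst,
      ← Category.assoc (lift g x) (toUnit (G ⊗ Xh)) h, toUnit_unique (lift g x ≫ toUnit (G ⊗ Xh)) (toUnit T),
      comp_lift_assoc, lift_fst, lift_snd_assoc]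
  have hinclp : ∀ {T : Over S} (z : T ⟶ Z) (x : T ⟶ Xh), (lift z x ≫ aXh.act) ≫ incl =
      lift (z ≫ i) (x ≫ incl) ≫ a.act := by
    intro T z x
    have e : aXh.act ≫ incl = (Z ◁ incl) ≫ (a.restrict i).act := hincl
    rw [Category.assoc, e, lift_whiskerLeft_assoc, AlgGrp.Action.lift_restrict_act]
  have hmulpt : ∀ {T : Over S} (g : T ⟶ G) (z : T ⟶ Z), lift g z ≫ (G ◁ i) ≫ μ[G] = g * (z ≫ i) := by
    intro T g z
    rw [lift_whiskerLeft_assoc, ← Hom.mul_def]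
  have horbZ : ∀ {T : Over S} (g : T ⟶ G) (z : T ⟶ Z), (g * (z ≫ i)) ≫ aΨ.orbitMap o = g ≫ aΨ.orbitMap o := by
    intro T g z
    calc (g * (z ≫ i)) ≫ aΨ.orbitMap o = (lift g z ≫ (G ◁ i) ≫ μ[G]) ≫ aΨ.orbitMap o := by rw [hmulpt]
      _ = lift g z ≫ ((G ◁ i) ≫ μ[G]) ≫ aΨ.orbitMap o := Category.assoc _ _ _
      _ = lift g z ≫ fst G Z ≫ aΨ.orbitMap o := by rw [hcartΨ.w]
      _ = g ≫ aΨ.orbitMap o := by rw [lift_fst_assoc]
  have hZc : ∀ {T : Over S} (z : T ⟶ Z), (z ≫ i) * (toUnit T ≫ h) = (toUnit T ≫ h) * (z ≫ i) := by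
    intro T z
    have e1 : (z ≫ i) ≫ aΨ.orbitMap o = (1 : T ⟶ G) ≫ aΨ.orbitMap o := by
      have := horbZ (1 : T ⟶ G) z
      rwa [_root_.one_mul] at this
    have h1 := horb (z ≫ i)
    rw [e1, horb, _root_.one_mul, inv_one, _root_.mul_one] at h1
    exact mul_inv_eq_iff_eq_mul.1 h1.symm
  -- equivariance
  have heqv : AlgGrp.Action.IsEquivariant ((NonAbH1.trivialAction G).prod (AlgGrp.Action.trivial G Xh)) aS Φ := by
    show ((NonAbH1.trivialAction G).prod (AlgGrp.Action.trivial G Xh)).act ≫ Φ = (G ◁ Φ) ≫ aS.act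
    apply AlgGrp.Action.hom_ext_lift₂
    intro T g' p
    obtain ⟨g, x, rfl⟩ := Groth.Agent.Lib.Helper4.ActPts4.exists_lift₂ p
    have e : lift g' g ≫ (NonAbH1.trivialAction G).act = g' * g := (Hom.mul_def g' g).symm
    have L : lift g' (lift g x) ≫ ((NonAbH1.trivialAction G).prod (AlgGrp.Action.trivial G Xh)).act ≫ Φ =
        lift (g' * g) x ≫ Φ := by
      rw [← Category.assoc, AlgGrp.Action.lift_prod_act, AlgGrp.Action.lift_trivial_act, e]
    have R : lift g' (lift g x) ≫ (G ◁ Φ) ≫ aS.act = lift g' (lift g x ≫ Φ) ≫ aS.act := by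
      rw [lift_whiskerLeft_assoc]
    have f1 : (lift g x ≫ Φ) ≫ σ ≫ fst G X = g * (toUnit T ≫ h) * g⁻¹ := by
      rw [← Category.assoc, hΦp, lift_fst]
    have f2 : (lift g x ≫ Φ) ≫ σ ≫ snd G X = lift g (x ≫ incl) ≫ a.act := by
      rw [← Category.assoc, hΦp, lift_snd]
    rw [L, R, ← cancel_mono σ, hΦp, hσp, f1, f2, AlgGrp.Action.lift_mul_act]
    congr 1
    group
  -- the cartesian square
  have hcart : IsPullback (ChGrp.twist i aXh).act (snd Z (G ⊗ Xh)) Φ Φ := by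
    apply Groth.Agent.Lib.Helper4.ActPts4.isPullback_of_pts
    · apply AlgGrp.Action.hom_ext_lift₂
      intro T z p
      obtain ⟨g, x, rfl⟩ := Groth.Agent.Lib.Helper4.ActPts4.exists_lift₂ p
      have L : lift z (lift g x) ≫ (ChGrp.twist i aXh).act ≫ Φ =
          lift (g * (z ≫ i)⁻¹) (lift z x ≫ aXh.act) ≫ Φ := by
        rw [← Category.assoc, ChGrp.lift_twist_act]
      have R : lift z (lift g x) ≫ snd Z (G ⊗ Xh) ≫ Φ = lift g x ≫ Φ := by rw [lift_snd_assoc]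
      rw [L, R, ← cancel_mono σ, hΦp, hΦp, hinclp, ← AlgGrp.Action.lift_mul_act, inv_mul_cancel_right]
      congr 1
      have hc := hZc z
      calc (g * (z ≫ i)⁻¹) * (toUnit T ≫ h) * (g * (z ≫ i)⁻¹)⁻¹
          = g * ((z ≫ i)⁻¹ * ((toUnit T ≫ h) * (z ≫ i))) * g⁻¹ := by group
        _ = g * (toUnit T ≫ h) * g⁻¹ := by rw [← hc, inv_mul_cancel_left]
    · intro T p₁ p₂ hp
      obtain ⟨g₁, x₁, rfl⟩ := Groth.Agent.Lib.Helper4.ActPts4.exists_lift₂ p₁
      obtain ⟨g₂, x₂, rfl⟩ := Groth.Agent.Lib.Helper4.ActPts4.exists_lift₂ p₂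
      have hp' : (lift g₁ x₁ ≫ Φ) ≫ σ = (lift g₂ x₂ ≫ Φ) ≫ σ := by rw [hp]
      rw [hΦp, hΦp] at hp'
      have E1 : g₁ * (toUnit T ≫ h) * g₁⁻¹ = g₂ * (toUnit T ≫ h) * g₂⁻¹ := by
        have := congrArg (fun m => m ≫ fst G X) hp'
        simpa only [lift_fst] using this
      have E2 : lift g₁ (x₁ ≫ incl) ≫ a.act = lift g₂ (x₂ ≫ incl) ≫ a.act := by
        have := congrArg (fun m => m ≫ snd G X) hp'
        simpa only [lift_snd] using this
      have horbeq : g₁ ≫ aΨ.orbitMap o = g₂ ≫ aΨ.orbitMap o := by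
        rw [← cancel_mono ψ, horb, horb, E1]
      have hw : hcartΨ.lift g₁ g₂ horbeq = lift g₁ (hcartΨ.lift g₁ g₂ horbeq ≫ snd G Z) := by
        apply CartesianMonoidalCategory.hom_ext
        · rw [lift_fst, hcartΨ.lift_fst]
        · rw [lift_snd]
      have hg₂ : g₁ * ((hcartΨ.lift g₁ g₂ horbeq ≫ snd G Z) ≫ i) = g₂ := by
        rw [← hmulpt, ← hw, hcartΨ.lift_snd]
      generalize hcartΨ.lift g₁ g₂ horbeq ≫ snd G Z = z at hg₂
      subst hg₂
      have hx₁ : lift z x₂ ≫ aXh.act = x₁ := by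
        rw [← cancel_mono incl, hinclp]
        rw [AlgGrp.Action.lift_mul_act] at E2
        exact (Groth.Agent.Lib.Helper4.ActPts4.act_cancel a g₁ _ _ E2).symm
      refine ⟨lift z (lift (g₁ * (z ≫ i)) x₂), ?_, lift_snd _ _⟩
      rw [ChGrp.lift_twist_act, mul_inv_cancel_right, hx₁]
    · intro T t t' h1 h2
      obtain ⟨z, g, x, rfl⟩ := Groth.Agent.Lib.Helper4.ActPts4.exists_lift₃ t
      obtain ⟨z', g', x', rfl⟩ := Groth.Agent.Lib.Helper4.ActPts4.exists_lift₃ t'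
      rw [lift_snd, lift_snd] at h2
      have hg : g = g' := by simpa using congrArg (fun m => m ≫ fst G Xh) h2
      have hx : x = x' := by simpa using congrArg (fun m => m ≫ snd G Xh) h2
      subst hg hx
      rw [ChGrp.lift_twist_act, ChGrp.lift_twist_act] at h1
      have e1 : g * (z ≫ i)⁻¹ = g * (z' ≫ i)⁻¹ := by simpa using congrArg (fun m => m ≫ fst G Xh) h1
      have e2 : z ≫ i = z' ≫ i := inv_injective (mul_left_cancel e1)
      have e3 : lift g z = lift g z' := by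
        apply hcartΨ.hom_ext
        · rw [lift_fst, lift_fst]
        · rw [hmulpt, hmulpt, e2]
      have e4 : z = z' := by simpa using congrArg (fun m => m ≫ snd G Z) e3
      rw [e4]
  -- local sections
  have hloc : NonAbH1.IsLocallyTrivialFor Scheme.fppfPrecoverage (Over.mk Φ.left : Over SΨ.left) := by
    obtain ⟨⟨y, hy⟩, hfix⟩ := (hSΨ SΨ (σ ≫ fst G X) (σ ≫ snd G X)).1 ⟨𝟙 SΨ, by
      rw [Category.id_comp]; exact Groth.Agent.Lib.Helper4.BalProd.pts₂ σ⟩
    refine Groth.Agent.Lib.Helper4.ActPts4.isLocallyTrivialFor_of_lift_over Scheme.fppfPrecoverage y hlocΨ ?_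
    intro T t s hst
    have hγ : s * (toUnit T ≫ h) * s⁻¹ = t ≫ σ ≫ fst G X := by
      rw [← horb, hst, Category.assoc, hy]
    have hfix' : lift (t ≫ σ ≫ fst G X) (t ≫ σ ≫ snd G X) ≫ a.act = t ≫ σ ≫ snd G X := by
      have := congrArg (fun m => t ≫ m) hfix
      rwa [← Category.assoc, comp_lift] at this
    have hfx : lift (toUnit T ≫ h) (lift s⁻¹ (t ≫ σ ≫ snd G X) ≫ a.act) ≫ a.act =
        lift s⁻¹ (t ≫ σ ≫ snd G X) ≫ a.act := by
      have e : (toUnit T ≫ h) * s⁻¹ = s⁻¹ * (t ≫ σ ≫ fst G X) := by rw [← hγ]; group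
      rw [← AlgGrp.Action.lift_mul_act, e, AlgGrp.Action.lift_mul_act, hfix']
    obtain ⟨y', hy'⟩ := (hXh T _).2 hfx
    refine ⟨lift s y', ?_⟩
    rw [← cancel_mono σ, hΦp, hy', ← AlgGrp.Action.lift_mul_act, mul_inv_cancel, AlgGrp.Action.lift_one_act, hγ]
    apply CartesianMonoidalCategory.hom_ext
    · rw [lift_fst, Category.assoc]
    · rw [lift_snd, Category.assoc]
  exact ⟨heqv, hcart, hloc⟩

end Groth.Agent.S19098
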