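import Groth.Statements.S19099
import Groth.Agent.Lib.Helper4.ActPts4
import Groth.Agent.Lib.Helper4.BalProdSub
import Groth.Agent.Lib.Helper4.BalProdFix
import Groth.Agent.Lib.Helper4.FppfFamDescent
import Groth.Agent.Lib.Helper4.AffineDescent

set_option autoImplicit false
universe u
open CategoryTheory MonoidalCategory CartesianMonoidalCategory MonObj AlgebraicGeometry
open ChGrp

namespace Groth.Agent.S19099

/-- Let S be a scheme, i : G → Q a monomorphic homomorphism of S-group schemes (a closed subgroup), h an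
S-point of G whose image in Q is central, and X an S-scheme with a G-action a. Let incl : X^h → X be
a monomorphism whose points are the points of X fixed by h, with a G-action making incl equivariant
(X^h is G-stable since h is central in G). Let Y with its Q-action and j : Q ×_S X → Y be the
balanced product Q ×^G X for the fppf topology, Y' with j' : Q ×_S X^h → Y' the balanced product Q
×^G X^h, and m : Y' → Y the morphism under which j' followed by m is Q × incl followed by j. Then m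
is a monomorphism, a point of Y factors through m exactly when it is fixed by h acting on Y through
the Q-action, and m is a closed immersion if incl is one: Q ×^G X^h is the fixed locus of h in Q ×^G
X. (The source states this for a smooth algebraic space X of finite type over the complex numbers,
as an equality of closed subspaces, and argues on closed points; the form here is the one its
computation gives for the fppf quotients over any base, with X a scheme.) -/
theorem result
    {S : Scheme.{u}} {Q G X Xh Y Y' : Over S} [GrpObj Q] [GrpObj G]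
    (i : G ⟶ Q) [IsMonHom i] [Mono i]
    (h : 𝟙_ (Over S) ⟶ G)
    (hcent : ∀ (T : Over S) (q : T ⟶ Q), q * (toUnit T ≫ h ≫ i) = (toUnit T ≫ h ≫ i) * q)
    (a : AlgGrp.Action G X)
    (incl : Xh ⟶ X) [Mono incl]
    (hXh : ∀ (T : Over S) (x : T ⟶ X), (∃ y : T ⟶ Xh, y ≫ incl = x) ↔ lift (toUnit T ≫ h) x ≫ a.act = x)
    (aXh : AlgGrp.Action G Xh) (hincl : AlgGrp.Action.IsEquivariant aXh a incl)
    (aY : AlgGrp.Action Q Y) (j : Q ⊗ X ⟶ Y) (hY : ChGrp.IsBalProd Scheme.fppfPrecoverage i a aY j)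
    (aY' : AlgGrp.Action Q Y') (j' : Q ⊗ Xh ⟶ Y') (hY' : ChGrp.IsBalProd Scheme.fppfPrecoverage i aXh aY' j')
    (m : Y' ⟶ Y) (hm : j' ≫ m = (Q ◁ incl) ≫ j) :
    Mono m ∧
      (∀ (T : Over S) (y : T ⟶ Y), (∃ y' : T ⟶ Y', y' ≫ m = y) ↔ lift (toUnit T ≫ h ≫ i) y ≫ aY.act = y) ∧
      (IsClosedImmersion incl.left → IsClosedImmersion m.left) := by
  obtain ⟨heqY, hcartY, hlocY⟩ := hY
  obtain ⟨heqY', hcartY', hlocY'⟩ := hY'
  have hlocYq : NonAbH1.IsLocallyTrivialFor Scheme.fpqcPrecoverage (Over.mk j.left : Over Y.left) :=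
    Groth.Agent.Lib.Helper4.QuotSectionSch.isLocallyTrivialFor_mono Scheme.fppfPrecoverage_le_fpqcPrecoverage _ hlocY
  have hlocY'q : NonAbH1.IsLocallyTrivialFor Scheme.fpqcPrecoverage (Over.mk j'.left : Over Y'.left) :=
    Groth.Agent.Lib.Helper4.QuotSectionSch.isLocallyTrivialFor_mono Scheme.fppfPrecoverage_le_fpqcPrecoverage _ hlocY'
  -- points forms
  have hinclp : ∀ {T : Over S} (g : T ⟶ G) (x : T ⟶ Xh),
      (lift g x ≫ aXh.act) ≫ incl = lift g (x ≫ incl) ≫ a.act := by
    intro T g x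
    have e : aXh.act ≫ incl = (G ◁ incl) ≫ a.act := hincl
    rw [Category.assoc, e, lift_whiskerLeft_assoc]
  have hmp : ∀ {T : Over S} (q : T ⟶ Q) (x : T ⟶ Xh), (lift q x ≫ j') ≫ m = lift q (x ≫ incl) ≫ j := by
    intro T q x
    rw [Category.assoc, hm, lift_whiskerLeft_assoc]
  have hK1 : ∀ {T : Over S} (q : T ⟶ Q) (x : T ⟶ X),
      lift (toUnit T ≫ h ≫ i) (lift q x ≫ j) ≫ aY.act = lift q (lift (toUnit T ≫ h) x ≫ a.act) ≫ j := by
    intro T q x
    rw [← Groth.Agent.Lib.Helper4.BalProd.equivariant_pts aY j heqY, ← hcent T q]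
    have h1 := Groth.Agent.Lib.Helper4.BalProd.invariant_pts i a j hcartY.w (toUnit T ≫ h)⁻¹ q
      (lift (toUnit T ≫ h) x ≫ a.act)
    rw [← AlgGrp.Action.lift_mul_act a, inv_mul_cancel, AlgGrp.Action.lift_one_act, GrpObj.inv_comp, inv_inv,
      Category.assoc] at h1
    exact h1
  have hK2 : ∀ {T : Over S} (q : T ⟶ Q) (x₁ x₂ : T ⟶ X), lift q x₁ ≫ j = lift q x₂ ≫ j → x₁ = x₂ := by
    intro T q x₁ x₂ he
    obtain ⟨g, hg⟩ := Groth.Agent.Lib.Helper4.BalProd.exists_of_eq i a j hcartY (lift q x₁) (lift q x₂) he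
    rw [ChGrp.lift_twist_act] at hg
    have e1 : q * (g ≫ i)⁻¹ = q := by simpa using congrArg (fun m => m ≫ fst Q X) hg
    have e2 : lift g x₂ ≫ a.act = x₁ := by simpa using congrArg (fun m => m ≫ snd Q X) hg
    have e3 : g ≫ i = 1 := inv_eq_one.1 (mul_eq_left.1 e1)
    have e4 : g = 1 := by rw [← cancel_mono i, e3, MonObj.one_comp]
    rw [← e2, e4, AlgGrp.Action.lift_one_act]
  -- (A)
  have hA : Mono m := by
    refine Groth.Agent.Lib.Helper4.BalProdFix.mono_of_inj_on_cover j' hlocY'q m ?_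
    intro T p₁ p₂ he
    obtain ⟨q₁, x₁, rfl⟩ := Groth.Agent.Lib.Helper4.ActPts4.exists_lift₂ p₁
    obtain ⟨q₂, x₂, rfl⟩ := Groth.Agent.Lib.Helper4.ActPts4.exists_lift₂ p₂
    rw [hmp, hmp] at he
    obtain ⟨g, hg⟩ := Groth.Agent.Lib.Helper4.BalProd.exists_of_eq i a j hcartY _ _ he
    rw [ChGrp.lift_twist_act] at hg
    have e1 : q₂ * (g ≫ i)⁻¹ = q₁ := by simpa using congrArg (fun m => m ≫ fst Q X) hg
    have e2 : lift g (x₂ ≫ incl) ≫ a.act = x₁ ≫ incl := by simpa using congrArg (fun m => m ≫ snd Q X) hg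
    have e3 : lift g x₂ ≫ aXh.act = x₁ := by rw [← cancel_mono incl, hinclp, e2]
    rw [← e1, ← e3]
    exact Groth.Agent.Lib.Helper4.BalProd.invariant_pts i aXh j' hcartY'.w g q₂ x₂
  -- (B), first direction
  have hB1 : ∀ (T : Over S) (y' : T ⟶ Y'), lift (toUnit T ≫ h ≫ i) (y' ≫ m) ≫ aY.act = y' ≫ m := by
    intro T y'
    have hπ : Epi (Limits.pullback.fst y' j') := Groth.Agent.Lib.Helper4.TorsorDesc.epi_of_isLocallyTrivialFor _
      (Groth.Agent.Lib.Helper4.BalProdFix.isLocallyTrivialFor_pullback_fst y' j' _ hlocY'q)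
    rw [← cancel_epi (Limits.pullback.fst y' j')]
    obtain ⟨q, x, hqx⟩ := Groth.Agent.Lib.Helper4.ActPts4.exists_lift₂ (Limits.pullback.snd y' j')
    have hc : Limits.pullback.fst y' j' ≫ y' = lift q x ≫ j' := by rw [← hqx]; exact Limits.pullback.condition
    have hfix : lift (toUnit _ ≫ h) (x ≫ incl) ≫ a.act = x ≫ incl := (hXh _ (x ≫ incl)).1 ⟨x, rfl⟩
    rw [comp_lift_assoc, ← Category.assoc _ (toUnit T) (h ≫ i),
      toUnit_unique (Limits.pullback.fst y' j' ≫ toUnit T) (toUnit _), ← Category.assoc _ y' m, hc, hmp, hK1, hfix]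
  -- (B), second direction
  have hB2 : ∀ (T : Over S) (y : T ⟶ Y), lift (toUnit T ≫ h ≫ i) y ≫ aY.act = y → ∃ y' : T ⟶ Y', y' ≫ m = y := by
    intro T y hy
    have hlocπ := Groth.Agent.Lib.Helper4.BalProdFix.isLocallyTrivialFor_pullback_fst y j _ hlocYq
    have hπ : Epi (Limits.pullback.fst y j) := Groth.Agent.Lib.Helper4.TorsorDesc.epi_of_isLocallyTrivialFor _ hlocπ
    obtain ⟨q, x, hqx⟩ := Groth.Agent.Lib.Helper4.ActPts4.exists_lift₂ (Limits.pullback.snd y j)
    have hc : Limits.pullback.fst y j ≫ y = lift q x ≫ j := by rw [← hqx]; exact Limits.pullback.condition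
    have hx : lift (toUnit _ ≫ h) x ≫ a.act = x := by
      apply hK2 q
      rw [← hK1, ← hc]
      have h2 : Limits.pullback.fst y j ≫ lift (toUnit T ≫ h ≫ i) y ≫ aY.act = Limits.pullback.fst y j ≫ y := by
        rw [hy]
      rw [comp_lift_assoc, ← Category.assoc _ (toUnit T) (h ≫ i),
        toUnit_unique (Limits.pullback.fst y j ≫ toUnit T) (toUnit _)] at h2
      exact h2
    obtain ⟨x', hx'⟩ := (hXh _ x).2 hx
    have hinv : ∀ (W : Over S) (t₁ t₂ : W ⟶ Limits.pullback y j), t₁ ≫ Limits.pullback.fst y j = t₂ ≫ Limits.pullback.fst y j →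
        t₁ ≫ lift q x' ≫ j' = t₂ ≫ lift q x' ≫ j' := by
      intro W t₁ t₂ ht
      have he : lift (t₁ ≫ q) (t₁ ≫ x) ≫ j = lift (t₂ ≫ q) (t₂ ≫ x) ≫ j := by
        rw [← comp_lift, ← comp_lift, Category.assoc, Category.assoc, ← hc, ← Category.assoc, ← Category.assoc, ht]
      obtain ⟨g, hg⟩ := Groth.Agent.Lib.Helper4.BalProd.exists_of_eq i a j hcartY _ _ he
      rw [ChGrp.lift_twist_act] at hg
      have e1 : (t₂ ≫ q) * (g ≫ i)⁻¹ = t₁ ≫ q := by simpa using congrArg (fun m => m ≫ fst Q X) hg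
      have e2 : lift g (t₂ ≫ x) ≫ a.act = t₁ ≫ x := by simpa using congrArg (fun m => m ≫ snd Q X) hg
      have e3 : lift g (t₂ ≫ x') ≫ aXh.act = t₁ ≫ x' := by
        rw [← cancel_mono incl, hinclp, Category.assoc, Category.assoc, hx', e2]
      rw [← Category.assoc, ← Category.assoc, comp_lift, comp_lift, ← e1, ← e3]
      exact Groth.Agent.Lib.Helper4.BalProd.invariant_pts i aXh j' hcartY'.w g (t₂ ≫ q) (t₂ ≫ x')
    obtain ⟨y', hy', -⟩ := Groth.Agent.Lib.Helper4.TorsorDesc.existsUnique_desc (Limits.pullback.fst y j) hlocπ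
      (lift q x' ≫ j') hinv
    refine ⟨y', ?_⟩
    rw [← cancel_epi (Limits.pullback.fst y j), ← Category.assoc, hy', hmp, hx', hc]
  -- the cartesian square
  have hSq : IsPullback j' (Q ◁ incl) m j := by
    apply Groth.Agent.Lib.Helper4.ActPts4.isPullback_of_pts hm
    · intro T y' p hyp
      obtain ⟨q, x, rfl⟩ := Groth.Agent.Lib.Helper4.ActPts4.exists_lift₂ p
      have hfix := hB1 T y'
      rw [hyp, hK1] at hfix
      have hx := hK2 q _ _ hfix
      obtain ⟨x', hx'⟩ := (hXh _ x).2 hx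
      refine ⟨lift q x', ?_, ?_⟩
      · rw [← cancel_mono m, hmp, hx', hyp]
      · rw [lift_whiskerLeft, hx']
    · intro T l l' _ h2
      have : Mono (Q ◁ incl) := Groth.Agent.Lib.Helper4.BalProd.mono_whiskerLeft Q incl
      exact (cancel_mono (Q ◁ incl)).1 h2
  refine ⟨hA, fun T y => ⟨?_, hB2 T y⟩, ?_⟩
  · rintro ⟨y', rfl⟩
    exact hB1 T y'
  · intro hcl
    obtain ⟨R, hR, hsec⟩ := hlocY
    refine Groth.Agent.Lib.helper4.FppfFamDescent.of_fppf_presieve @IsClosedImmersion m.left R hR ?_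
    intro T f hf
    obtain ⟨s, hs⟩ := hsec f hf
    have hs' : s ≫ j.left = f := hs
    have hci : IsClosedImmersion (Q ◁ incl).left :=
      MorphismProperty.of_isPullback ((AlgSt.isPullback_whiskerLeft (G := Q) incl).flip.map (Over.forget S)) hcl
    refine ⟨Limits.pullback (Q ◁ incl).left s, Limits.pullback.fst _ _ ≫ j'.left, Limits.pullback.snd _ _, ?_, inferInstance⟩
    have sq1 : IsPullback (Limits.pullback.fst (Q ◁ incl).left s) (Limits.pullback.snd (Q ◁ incl).left s) (Q ◁ incl).left s :=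
      IsPullback.of_hasPullback _ _
    have sq2 : IsPullback j'.left (Q ◁ incl).left m.left j.left := hSq.map (Over.forget S)
    have sq3 := sq1.paste_horiz sq2
    rw [hs'] at sq3
    exact sq3

end Groth.Agent.S19099
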