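import Groth.Statements.S19104
import Mathlib
import Groth.Agent.LibCurveDivAlg29
-- import your own Groth.Agent.* helpers here

set_option autoImplicit false
open CategoryTheory CategoryTheory.Limits AlgebraicGeometry
universe u
open HilbD

namespace Groth.Agent.S19104

/-- Let f : X ⟶ S be smooth of relative dimension 1, μ a non-empty Young diagram and n a reversed plane
partition of shape μ (a labelling of the cells by naturals, non-decreasing along rows and columns).
Call relative divisor of degree d a closed subscheme of X, given by a quasi-coherent ideal sheaf,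
whose projection to S is finite locally free of degree d; sums of divisors are products of ideal
sheaves. Then every flag (Z_c)_{c ∈ μ} of relative divisors of degrees n_c which grows along rows
and columns has exactly one system of edge data of type n — the corner divisor Z_00, for each cell
(i,j) with i ≥ 1 a divisor X_ij of degree n_ij − n_{i−1,j} with Z_ij = Z_{i−1,j} + X_ij, and for
each cell with j ≥ 1 a divisor Y_ij of degree n_ij − n_{i,j−1} with Z_ij = Z_{i,j−1} + Y_ij — and
this edge data satisfies X_ij + Y_{i−1,j} = Y_ij + X_{i,j−1} for every cell with i, j ≥ 1. (The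
published statement is for X = C × T ⟶ T with C a smooth irreducible quasi-projective complex curve
and T a complex scheme, and identifies, through T-points, the scheme of such flags with the zero
scheme of a section of a vector bundle on the product of symmetric powers that carries the edge
data; the vanishing of the pulled-back section at a T-point amounts to the containment of Y_ij +
X_{i,j−1} in X_ij + Y_{i−1,j}, which for divisors of equal degree is the equality stated last. Here
f is any smooth morphism of relative dimension 1, and neither the bundle nor its section is formed.) -/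
theorem result {X S : Scheme.{u}} (f : X ⟶ S) [SmoothOfRelativeDimension 1 f]
    (μ : YoungDiagram) (h00 : ((0, 0) : ℕ × ℕ) ∈ μ) (n : ℕ × ℕ → ℕ) (hn : HilbD.IsRevPlanePartition μ n)
    (Z : ∀ c : ℕ × ℕ, c ∈ μ → X.IdealSheafData) (hZ : HilbD.IsDnFlag f μ n Z) :
    (∃! E : HilbD.DnEdgeData μ X, E.IsOfType f n ∧ E.IsEdgesOf h00 Z) ∧
      ∀ E : HilbD.DnEdgeData μ X, E.IsOfType f n → E.IsEdgesOf h00 Z →
        ∀ (c : ℕ × ℕ) (hc : c ∈ μ) (hi : 1 ≤ c.1) (hj : 1 ≤ c.2), E.gammaOne c hc hi hj = E.gammaTwo c hc hi hj := by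
  obtain ⟨hdeg, hmono⟩ := hZ
  have hv : ∀ (c : ℕ × ℕ) (hc : c ∈ μ) (hi : 1 ≤ c.1), ∃ I : X.IdealSheafData,
      Mor2.IsFinLocFreeOfDeg (n c - n (c.1 - 1, c.2)) (I.subschemeι ≫ f) ∧
        Z c hc = Z (c.1 - 1, c.2) (HilbD.mem_up hc) * I := by
    intro c hc hi
    exact Groth.Agent.LibCurveDivAlg29.div_sub f
      (hmono (c.1 - 1, c.2) c (HilbD.mem_up hc) hc ⟨Nat.sub_le _ _, le_rfl⟩) (hdeg _ _) (hdeg _ _)
  have hh : ∀ (c : ℕ × ℕ) (hc : c ∈ μ) (hj : 1 ≤ c.2), ∃ I : X.IdealSheafData,
      Mor2.IsFinLocFreeOfDeg (n c - n (c.1, c.2 - 1)) (I.subschemeι ≫ f) ∧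
        Z c hc = Z (c.1, c.2 - 1) (HilbD.mem_left hc) * I := by
    intro c hc hj
    exact Groth.Agent.LibCurveDivAlg29.div_sub f
      (hmono (c.1, c.2 - 1) c (HilbD.mem_left hc) hc ⟨le_rfl, Nat.sub_le _ _⟩) (hdeg _ _) (hdeg _ _)
  choose V hV1 hV2 using hv
  choose H hH1 hH2 using hh
  refine ⟨⟨⟨Z (0, 0) h00, V, H⟩, ⟨⟨hdeg _ _, hV1, hH1⟩, ⟨rfl, hV2, hH2⟩⟩, ?_⟩, ?_⟩
  · rintro E' ⟨-, ⟨hb, hv', hh'⟩⟩
    apply HilbD.DnEdgeData.ext
    · exact hb.symm
    · funext c hc hi
      exact Groth.Agent.LibCurveDivAlg29.mul_left_cancel_of_div f (hdeg _ (HilbD.mem_up hc))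
        ((hv' c hc hi).symm.trans (hV2 c hc hi))
    · funext c hc hj
      exact Groth.Agent.LibCurveDivAlg29.mul_left_cancel_of_div f (hdeg _ (HilbD.mem_left hc))
        ((hh' c hc hj).symm.trans (hH2 c hc hj))
  · intro E _ hE2 c hc hi hj
    obtain ⟨-, hv', hh'⟩ := hE2
    have e1 := hv' c hc hi
    have e2 := hh' (c.1 - 1, c.2) (HilbD.mem_up hc) hj
    have e3 := hh' c hc hj
    have e4 := hv' (c.1, c.2 - 1) (HilbD.mem_left hc) hi
    apply Groth.Agent.LibCurveDivAlg29.mul_left_cancel_of_div f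
      (hdeg (c.1 - 1, c.2 - 1) (HilbD.mem_left (HilbD.mem_up hc)))
    unfold HilbD.DnEdgeData.gammaOne HilbD.DnEdgeData.gammaTwo
    calc Z (c.1 - 1, c.2 - 1) (HilbD.mem_left (HilbD.mem_up hc)) *
          (E.vert c hc hi * E.horiz (c.1 - 1, c.2) (HilbD.mem_up hc) hj)
        = (Z (c.1 - 1, c.2 - 1) (HilbD.mem_left (HilbD.mem_up hc)) *
            E.horiz (c.1 - 1, c.2) (HilbD.mem_up hc) hj) * E.vert c hc hi := by ring
      _ = Z (c.1 - 1, c.2) (HilbD.mem_up hc) * E.vert c hc hi := by rw [e2]
      _ = Z c hc := e1.symm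
      _ = Z (c.1, c.2 - 1) (HilbD.mem_left hc) * E.horiz c hc hj := e3
      _ = (Z (c.1 - 1, c.2 - 1) (HilbD.mem_left (HilbD.mem_up hc)) *
            E.vert (c.1, c.2 - 1) (HilbD.mem_left hc) hi) * E.horiz c hc hj := by rw [e4]
      _ = _ := by ring

end Groth.Agent.S19104
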