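import Groth.Statements.S19106
-- import your own Groth.Agent.* helpers here

set_option autoImplicit false
open HilbD

namespace Groth.Agent.S19106

/-- Let μ be a non-empty Young diagram, V the number of its cells, E the number of unordered pairs of
cells sharing a side (a cell together with the cell immediately below it, or immediately to its
right, both in μ) and Q the number of 2 × 2 blocks of cells of μ (cells c such that the cell
diagonally below-right of c is in μ, the other two corners being in μ automatically). Then V − E + Q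
− 1 = 0, stated as V + Q = E + 1 in the naturals. (The empty diagram, for which the count reads 0 −
0 + 0 − 1, is excluded.) -/
theorem result (μ : YoungDiagram) (hμ : μ ≠ ⊥) :
    μ.cells.card + (μ.cells.filter (fun c => (c.1 + 1, c.2 + 1) ∈ μ)).card =
      (μ.cells.filter (fun c => (c.1 + 1, c.2) ∈ μ)).card + (μ.cells.filter (fun c => (c.1, c.2 + 1) ∈ μ)).card + 1 := by
  classical
  -- (0,0) is a cell
  have h00 : ((0, 0) : ℕ × ℕ) ∈ μ := by
    have hne : μ.cells.Nonempty := by
      rw [Finset.nonempty_iff_ne_empty]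
      intro h
      apply hμ
      apply YoungDiagram.ext
      rw [h, YoungDiagram.cells_bot]
    obtain ⟨c, hc⟩ := hne
    exact μ.up_left_mem (Nat.zero_le c.1) (Nat.zero_le c.2) ((YoungDiagram.mem_cells c).mp hc)
  -- shifting bijections
  have hD : (μ.cells.filter (fun c => (c.1 + 1, c.2) ∈ μ)).card =
      (μ.cells.filter (fun c => 1 ≤ c.1)).card := by
    rw [← Finset.card_image_of_injective (μ.cells.filter (fun c => (c.1 + 1, c.2) ∈ μ))
      (f := fun c : ℕ × ℕ => (c.1 + 1, c.2)) (by
        intro a b hab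
        simp only [Prod.mk.injEq, add_left_inj] at hab
        exact Prod.ext hab.1 hab.2)]
    congr 1
    ext c'
    simp only [Finset.mem_image, Finset.mem_filter, YoungDiagram.mem_cells]
    constructor
    · rintro ⟨c, ⟨_, hc⟩, rfl⟩
      exact ⟨hc, Nat.le_add_left 1 c.1⟩
    · rintro ⟨hc', h1⟩
      refine ⟨(c'.1 - 1, c'.2), ⟨μ.up_left_mem (Nat.sub_le _ _) le_rfl hc', ?_⟩, ?_⟩
      · simp only
        rw [Nat.sub_add_cancel h1]
        exact hc'
      · simp only
        rw [Nat.sub_add_cancel h1]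
  have hR : (μ.cells.filter (fun c => (c.1, c.2 + 1) ∈ μ)).card =
      (μ.cells.filter (fun c => 1 ≤ c.2)).card := by
    rw [← Finset.card_image_of_injective (μ.cells.filter (fun c => (c.1, c.2 + 1) ∈ μ))
      (f := fun c : ℕ × ℕ => (c.1, c.2 + 1)) (by
        intro a b hab
        simp only [Prod.mk.injEq, add_left_inj] at hab
        exact Prod.ext hab.1 hab.2)]
    congr 1
    ext c'
    simp only [Finset.mem_image, Finset.mem_filter, YoungDiagram.mem_cells]
    constructor
    · rintro ⟨c, ⟨_, hc⟩, rfl⟩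
      exact ⟨hc, Nat.le_add_left 1 c.2⟩
    · rintro ⟨hc', h1⟩
      refine ⟨(c'.1, c'.2 - 1), ⟨μ.up_left_mem le_rfl (Nat.sub_le _ _) hc', ?_⟩, ?_⟩
      · simp only
        rw [Nat.sub_add_cancel h1]
        exact hc'
      · simp only
        rw [Nat.sub_add_cancel h1]
  have hQ : (μ.cells.filter (fun c => (c.1 + 1, c.2 + 1) ∈ μ)).card =
      (μ.cells.filter (fun c => 1 ≤ c.1 ∧ 1 ≤ c.2)).card := by
    rw [← Finset.card_image_of_injective (μ.cells.filter (fun c => (c.1 + 1, c.2 + 1) ∈ μ))
      (f := fun c : ℕ × ℕ => (c.1 + 1, c.2 + 1)) (by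
        intro a b hab
        simp only [Prod.mk.injEq, add_left_inj] at hab
        exact Prod.ext hab.1 hab.2)]
    congr 1
    ext c'
    simp only [Finset.mem_image, Finset.mem_filter, YoungDiagram.mem_cells]
    constructor
    · rintro ⟨c, ⟨_, hc⟩, rfl⟩
      exact ⟨hc, Nat.le_add_left 1 c.1, Nat.le_add_left 1 c.2⟩
    · rintro ⟨hc', h1, h2⟩
      refine ⟨(c'.1 - 1, c'.2 - 1), ⟨μ.up_left_mem (Nat.sub_le _ _) (Nat.sub_le _ _) hc', ?_⟩, ?_⟩
      · simp only
        rw [Nat.sub_add_cancel h1, Nat.sub_add_cancel h2]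
        exact hc'
      · simp only
        rw [Nat.sub_add_cancel h1, Nat.sub_add_cancel h2]
  rw [hD, hR, hQ]
  -- inclusion-exclusion
  have hUI := Finset.card_union_add_card_inter (μ.cells.filter (fun c => 1 ≤ c.1))
    (μ.cells.filter (fun c => 1 ≤ c.2))
  have hU : μ.cells.filter (fun c => 1 ≤ c.1) ∪ μ.cells.filter (fun c => 1 ≤ c.2) =
      μ.cells.filter (fun c => 1 ≤ c.1 ∨ 1 ≤ c.2) := (Finset.filter_or _ _ _).symm
  have hI : μ.cells.filter (fun c => 1 ≤ c.1) ∩ μ.cells.filter (fun c => 1 ≤ c.2) =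
      μ.cells.filter (fun c => 1 ≤ c.1 ∧ 1 ≤ c.2) := by
    ext c
    simp only [Finset.mem_inter, Finset.mem_filter]
    tauto
  rw [hU, hI] at hUI
  have hsplit := Finset.card_filter_add_card_filter_not (s := μ.cells) (fun c : ℕ × ℕ => 1 ≤ c.1 ∨ 1 ≤ c.2)
  have hzero : μ.cells.filter (fun c => ¬ (1 ≤ c.1 ∨ 1 ≤ c.2)) = {((0, 0) : ℕ × ℕ)} := by
    ext c
    simp only [Finset.mem_filter, YoungDiagram.mem_cells, Finset.mem_singleton]
    constructor
    · rintro ⟨_, hc⟩
      push Not at hc
      apply Prod.ext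
      · simp only; omega
      · simp only; omega
    · rintro rfl
      exact ⟨h00, by simp⟩
  rw [hzero, Finset.card_singleton] at hsplit
  omega

end Groth.Agent.S19106
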