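import Groth.Statements.S19136
-- import your own Groth.Agent.* helpers here

set_option autoImplicit false
universe u
open Instab

namespace Groth.Agent.S19136

/-- Let p be a seminorm and ℓ a linear form on a real vector space, let y₀ and y₁ be vectors at which p
is positive and ℓ is non-negative, and let y = t y₀ + (1 - t) y₁ with 0 < t < 1 be a point of the
open segment at which p is positive. Then ℓ(y)/p(y) is at least the smaller of ℓ(y₀)/p(y₀) and
ℓ(y₁)/p(y₁), and if it equals that smaller value then ℓ(y₀)/p(y₀) = ℓ(y₁)/p(y₁). (The published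
lemma concerns the numerical invariant attached to a degree-two cohomology class and a semi-norm on
graded points of a stack; restricted to one rational simplex that invariant is the quotient of a
linear form by a semi-norm on the non-negative orthant of a real coordinate space, and local
quasi-concavity there amounts to this inequality with its equality clause, the set where the linear
form is non-negative being automatically convex; the lemma's further assertion, that the invariant
is positive at no pair of antipodal points, is not stated here. The vector space is arbitrary here.) -/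
theorem result {E : Type u} [AddCommGroup E] [Module ℝ E]
    (p : Seminorm ℝ E) (ℓ : E →ₗ[ℝ] ℝ) (y₀ y₁ : E) (h₀ : 0 < p y₀) (h₁ : 0 < p y₁)
    (hℓ₀ : 0 ≤ ℓ y₀) (hℓ₁ : 0 ≤ ℓ y₁) (t : ℝ) (ht₀ : 0 < t) (ht₁ : t < 1)
    (hy : 0 < p (t • y₀ + (1 - t) • y₁)) :
    min (ℓ y₀ / p y₀) (ℓ y₁ / p y₁) ≤ ℓ (t • y₀ + (1 - t) • y₁) / p (t • y₀ + (1 - t) • y₁) ∧
      (ℓ (t • y₀ + (1 - t) • y₁) / p (t • y₀ + (1 - t) • y₁) = min (ℓ y₀ / p y₀) (ℓ y₁ / p y₁) →
        ℓ y₀ / p y₀ = ℓ y₁ / p y₁) := by
  have hc : p (t • y₀ + (1 - t) • y₁) ≤ t * p y₀ + (1 - t) * p y₁ := by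
    calc p (t • y₀ + (1 - t) • y₁) ≤ p (t • y₀) + p ((1 - t) • y₁) := map_add_le_add p _ _
      _ = t * p y₀ + (1 - t) * p y₁ := by
        rw [map_smul_eq_mul, map_smul_eq_mul, Real.norm_of_nonneg ht₀.le,
          Real.norm_of_nonneg (by linarith : (0:ℝ) ≤ 1 - t)]
  have hℓ : ℓ (t • y₀ + (1 - t) • y₁) = t * ℓ y₀ + (1 - t) * ℓ y₁ := by
    simp [map_add, map_smul, smul_eq_mul]
  rw [hℓ]
  generalize p (t • y₀ + (1 - t) • y₁) = c at hc hy
  generalize p y₀ = a at *
  generalize p y₁ = b at *
  generalize ℓ y₀ = A at *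
  generalize ℓ y₁ = B at *
  have h1t : 0 < 1 - t := by linarith
  have hA : A / a * a = A := div_mul_cancel₀ A h₀.ne'
  have hB : B / b * b = B := div_mul_cancel₀ B h₁.ne'
  have hra : 0 ≤ A / a := div_nonneg hℓ₀ h₀.le
  have hrb : 0 ≤ B / b := div_nonneg hℓ₁ h₁.le
  set r₀ := A / a with hr₀
  set r₁ := B / b with hr₁
  have key : ∀ μ : ℝ, 0 ≤ μ → μ ≤ r₀ → μ ≤ r₁ → μ * c ≤ t * A + (1 - t) * B := by
    intro μ hμ h0 h1
    have e1 : μ * a ≤ A := by rw [← hA]; exact mul_le_mul_of_nonneg_right h0 h₀.le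
    have e2 : μ * b ≤ B := by rw [← hB]; exact mul_le_mul_of_nonneg_right h1 h₁.le
    have e3 : μ * c ≤ μ * (t * a + (1 - t) * b) := mul_le_mul_of_nonneg_left hc hμ
    nlinarith [mul_le_mul_of_nonneg_left e1 ht₀.le, mul_le_mul_of_nonneg_left e2 h1t.le]
  have hmin_nonneg : 0 ≤ min r₀ r₁ := le_min hra hrb
  refine ⟨?_, ?_⟩
  · rw [le_div_iff₀ hy]
    exact key _ hmin_nonneg (min_le_left _ _) (min_le_right _ _)
  · intro heq
    by_contra hne
    have hstrict : min r₀ r₁ * c < t * A + (1 - t) * B := by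
      rcases lt_or_gt_of_ne hne with hlt | hgt
      · rw [min_eq_left hlt.le]
        have e3 : r₀ * c ≤ r₀ * (t * a + (1 - t) * b) := mul_le_mul_of_nonneg_left hc hra
        have e4 : r₀ * b < r₁ * b := mul_lt_mul_of_pos_right hlt h₁
        nlinarith [mul_lt_mul_of_pos_left e4 h1t]
      · rw [min_eq_right hgt.le]
        have e3 : r₁ * c ≤ r₁ * (t * a + (1 - t) * b) := mul_le_mul_of_nonneg_left hc hrb
        have e4 : r₁ * a < r₀ * a := mul_lt_mul_of_pos_right hgt h₀
        nlinarith [mul_lt_mul_of_pos_left e4 ht₀]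
    rw [div_eq_iff hy.ne'] at heq
    linarith

end Groth.Agent.S19136
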