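import Groth.Statements.S19157
import Mathlib

set_option autoImplicit false
open scoped TensorProduct
universe u v w
open FiltMod

namespace Groth.Agent.S19157

section
variable {Γ : Type w} {R : Type u} [CommRing R] {M : Type v} [AddCommGroup M] [Module R M]

theorem exists_proj [DecidableEq Γ] [Module.Finite R M] (G : Γ → Submodule R M) (hG : DirectSum.IsInternal G) :
    ∃ (π : Γ → (M →ₗ[R] M)) (D : Finset Γ),
      (∀ ν x, π ν x ∈ G ν) ∧ (∀ ν, ∀ x ∈ G ν, π ν x = x) ∧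
      (∀ ν η, η ≠ ν → ∀ x ∈ G η, π ν x = 0) ∧ (∀ x, x = ∑ ν ∈ D, π ν x) := by
  haveI : ∀ (i : Γ) (x : G i), Decidable (x ≠ 0) := fun _ _ => Classical.propDecidable _
  haveI := hG.chooseDecomposition
  let π : Γ → (M →ₗ[R] M) := fun ν => (G ν).subtype ∘ₗ
    (DirectSum.component R Γ (fun i => G i) ν) ∘ₗ (DirectSum.decomposeLinearEquiv G).toLinearMap
  have hπ : ∀ ν x, π ν x = (DirectSum.decompose G x ν : M) := fun ν x => rfl
  obtain ⟨n, gen, hgen⟩ := Module.Finite.exists_fin (R := R) (M := M)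
  let D : Finset Γ := Finset.univ.biUnion (fun j => (DirectSum.decompose G (gen j)).support)
  have hD : ∀ ν, ν ∉ D → ∀ x, π ν x = 0 := by
    intro ν hν x
    have hx : x ∈ Submodule.span R (Set.range gen) := by rw [hgen]; exact Submodule.mem_top
    induction hx using Submodule.span_induction with
    | mem y hy =>
      obtain ⟨j, rfl⟩ := hy
      rw [hπ]
      have h0 : ν ∉ (DirectSum.decompose G (gen j)).support := fun h =>
        hν (Finset.mem_biUnion.mpr ⟨j, Finset.mem_univ j, h⟩)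
      rw [DFinsupp.notMem_support_iff] at h0
      rw [h0]; rfl
    | zero => exact map_zero _
    | add a b _ _ ha hb => rw [map_add, ha, hb, add_zero]
    | smul r a _ ha => rw [map_smul, ha, smul_zero]
  refine ⟨π, D, ?_, ?_, ?_, ?_⟩
  · intro ν x; rw [hπ]; exact SetLike.coe_mem _
  · intro ν x hx; rw [hπ]; exact DirectSum.decompose_of_mem_same G hx
  · intro ν η hne x hx; rw [hπ]; exact DirectSum.decompose_of_mem_ne G hx hne
  · intro x
    have h1 := DirectSum.sum_support_decompose G x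
    have hsub : (DirectSum.decompose G x).support ⊆ D := by
      intro ν hν
      by_contra hD'
      have h2 := hD ν hD' x
      rw [hπ] at h2
      rw [DFinsupp.mem_support_iff] at hν
      exact hν (Subtype.ext h2)
    rw [Finset.sum_subset hsub] at h1
    · exact h1.symm
    · intro ν _ hν
      rw [DFinsupp.notMem_support_iff] at hν
      rw [hν]; rfl

theorem nak [Module.Finite R M] (π : M →ₗ[R] M) (G : Submodule R M) (hmem : ∀ x, π x ∈ G)
    (hsame : ∀ x ∈ G, π x = x) (m : Ideal R) (hm : m ≠ ⊤)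
    (hG : G ≤ m • (⊤ : Submodule R M)) : ∃ s : R, s ∉ m ∧ ∀ g ∈ G, s • g = 0 := by
  have hfg : G.FG := by
    have e : G = Submodule.map π ⊤ := by
      apply le_antisymm
      · intro x hx; exact ⟨x, Submodule.mem_top, hsame x hx⟩
      · rintro _ ⟨x, _, rfl⟩; exact hmem x
    rw [e]; exact Submodule.FG.map _ Module.Finite.fg_top
  have hle : G ≤ m • G := by
    intro x hx
    have h1 : x ∈ m • (⊤ : Submodule R M) := hG hx
    have h2 : π x ∈ Submodule.map π (m • (⊤ : Submodule R M)) := Submodule.mem_map_of_mem h1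
    rw [Submodule.map_smul'', hsame x hx] at h2
    refine Submodule.smul_mono (le_refl m) ?_ h2
    rintro _ ⟨y, _, rfl⟩; exact hmem y
  obtain ⟨r, hr1, hr⟩ :=
    Submodule.exists_sub_one_mem_and_smul_eq_zero_of_fg_of_le_smul m G hfg hle
  refine ⟨r, ?_, hr⟩
  intro hrm
  apply hm
  rw [Ideal.eq_top_iff_one]
  have := m.sub_mem hrm hr1
  rwa [sub_sub_cancel] at this

theorem dual_basis [Module.Finite R M] [Module.Projective R M] :
    ∃ (n : ℕ) (e : Fin n → M) (φ : Fin n → (M →ₗ[R] R)), ∀ x, x = ∑ j, φ j x • e j := by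
  classical
  obtain ⟨n, f, g, -, -, hfg⟩ := Module.Finite.exists_comp_eq_id_of_projective R M
  refine ⟨n, fun j => f (fun i => if j = i then 1 else 0),
    fun j => (LinearMap.proj j) ∘ₗ g, fun x => ?_⟩
  have h1 : f (g x) = x := by
    have := LinearMap.congr_fun hfg x
    exact this
  conv_lhs => rw [← h1, LinearMap.pi_apply_eq_sum_univ f (g x)]
  rfl

theorem sep_zero [Module.Finite R M] [Module.Projective R M] (v : M)
    (hv : ∀ φ : M →ₗ[R] R, φ v = 0) : v = 0 := by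
  obtain ⟨n, e, φ, h⟩ := dual_basis (R := R) (M := M)
  rw [h v]
  apply Finset.sum_eq_zero
  intro j _
  rw [hv, zero_smul]

theorem sep_notMem [Module.Finite R M] [Module.Projective R M] (m : Ideal R) (g : M)
    (hg : g ∉ m • (⊤ : Submodule R M)) : ∃ φ : M →ₗ[R] R, φ g ∉ m := by
  by_contra hcon
  push_neg at hcon
  apply hg
  obtain ⟨n, e, φ, h⟩ := dual_basis (R := R) (M := M)
  rw [h g]
  apply Submodule.sum_mem
  intro j _
  exact Submodule.smul_mem_smul (hcon (φ j)) Submodule.mem_top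

theorem K1 [AddCommMonoid Γ] [LinearOrder Γ] [IsOrderedAddMonoid Γ] {k : ℕ}
    (F : Γ → Submodule R M) (π : Γ → (M →ₗ[R] M))
    (hπ : ∀ γ ν, ν < γ → ∀ x ∈ F γ, π ν x = 0)
    (ν : Fin k → Γ) (δ : Γ) (hν : ∑ i, ν i < δ) :
    (⨆ c : {c : Fin k → Γ // ∑ i, c i = δ},
      LinearMap.range (PiTensorProduct.map (R := R) (fun i => (F (c.1 i)).subtype))) ≤
      LinearMap.ker (PiTensorProduct.map (R := R) (fun i => π (ν i))) := by
  apply iSup_le
  rintro ⟨c, hc⟩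
  rw [LinearMap.range_le_ker_iff, ← PiTensorProduct.map_comp]
  obtain ⟨i, hi⟩ : ∃ i, ν i < c i := by
    by_contra hcon
    push_neg at hcon
    have h1 := Finset.sum_le_sum (fun i (_ : i ∈ Finset.univ) => hcon i)
    rw [hc] at h1
    exact absurd hν (not_lt.mpr h1)
  apply PiTensorProduct.ext
  apply MultilinearMap.ext
  intro v
  rw [LinearMap.compMultilinearMap_apply, PiTensorProduct.map_tprod,
    LinearMap.compMultilinearMap_apply, LinearMap.zero_apply]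
  exact (PiTensorProduct.tprod R).map_coord_zero i (hπ (c i) (ν i) hi _ (v i).2)

noncomputable def contr {k : ℕ} (φ : Fin k → (M →ₗ[R] R)) : (⨂[R] _ : Fin k, M) →ₗ[R] R :=
  PiTensorProduct.lift ((MultilinearMap.mkPiAlgebra R (Fin k) R).compLinearMap φ)

theorem contr_tprod {k : ℕ} (φ : Fin k → (M →ₗ[R] R)) (v : Fin k → M) :
    contr φ (PiTensorProduct.tprod R v) = ∏ i, φ i (v i) := by
  unfold contr
  rw [PiTensorProduct.lift.tprod]
  rfl

end

section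
variable {Γ : Type w} [AddCommGroup Γ] [LinearOrder Γ] [IsOrderedAddMonoid Γ]
  {R : Type u} [CommRing R] {M : Type v} [AddCommGroup M] [Module R M]

/-- the filtration induced on the `k`-th tensor power -/
def T (k : ℕ) (F : Γ → Submodule R M) (γ : Γ) : Submodule R (⨂[R] _ : Fin k, M) :=
  ⨆ c : {c : Fin k → Γ // ∑ i, c i = γ},
    LinearMap.range (PiTensorProduct.map (R := R) (fun i => (F (c.1 i)).subtype))

theorem tprod_mem_T {k : ℕ} (F : Γ → Submodule R M) (v : Fin k → M) (c : Fin k → Γ)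
    (hv : ∀ i, v i ∈ F (c i)) : PiTensorProduct.tprod R v ∈ T k F (∑ i, c i) := by
  unfold T
  apply le_iSup (fun c' : {c' : Fin k → Γ // ∑ i, c' i = ∑ i, c i} =>
    LinearMap.range (PiTensorProduct.map (R := R) (fun i => (F (c'.1 i)).subtype))) ⟨c, rfl⟩
  refine ⟨PiTensorProduct.tprod R (fun i => (⟨v i, hv i⟩ : F (c i))), ?_⟩
  rw [PiTensorProduct.map_tprod]
  rfl

theorem K1' {k : ℕ} (F : Γ → Submodule R M) (π : Γ → (M →ₗ[R] M))
    (hπ : ∀ γ ν, ν < γ → ∀ x ∈ F γ, π ν x = 0)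
    (ν : Fin k → Γ) (δ : Γ) (hν : ∑ i, ν i < δ) (z : ⨂[R] _ : Fin k, M) (hz : z ∈ T k F δ) :
    PiTensorProduct.map (R := R) (fun i => π (ν i)) z = 0 :=
  K1 F π hπ ν δ hν hz

/-- abstract data of a split filtration -/
structure SF (F G : Γ → Submodule R M) (π : Γ → (M →ₗ[R] M)) (D : Finset Γ) : Prop where
  mem : ∀ ν x, π ν x ∈ G ν
  same : ∀ ν, ∀ x ∈ G ν, π ν x = x
  ne : ∀ ν η, η ≠ ν → ∀ x ∈ G η, π ν x = 0
  sum : ∀ x, x = ∑ ν ∈ D, π ν x
  fil : ∀ γ, F γ = ⨆ η ∈ Set.Ici γ, G η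

variable {F G : Γ → Submodule R M} {π : Γ → (M →ₗ[R] M)} {D : Finset Γ}

theorem SF.kill_low (h : SF F G π D) {γ ν : Γ} (hν : ν < γ) {x : M} (hx : x ∈ F γ) :
    π ν x = 0 := by
  have hle : F γ ≤ LinearMap.ker (π ν) := by
    rw [h.fil γ]
    apply iSup₂_le
    intro η hη x hx
    rw [LinearMap.mem_ker]
    have hη' : γ ≤ η := hη
    exact h.ne ν η (ne_of_gt (lt_of_lt_of_le hν hη')) x hx
  exact hle hx

theorem SF.mem_fil (h : SF F G π D) (γ : Γ) (x : M) (h0 : ∀ ν ∈ D, ν < γ → π ν x = 0) :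
    x ∈ F γ := by
  rw [h.fil γ, h.sum x]
  apply Submodule.sum_mem
  intro ν hν
  by_cases hlt : ν < γ
  · rw [h0 ν hν hlt]; exact Submodule.zero_mem _
  · have hle : γ ≤ ν := not_lt.mp hlt
    exact Submodule.mem_iSup_of_mem ν (Submodule.mem_iSup_of_mem (show ν ∈ Set.Ici γ from hle)
      (h.mem ν x))

theorem SF.mem_D (h : SF F G π D) {ν : Γ} {g : M} (hg : g ∈ G ν) (hg0 : g ≠ 0) : ν ∈ D := by
  by_contra hν
  apply hg0
  rw [h.sum g]
  apply Finset.sum_eq_zero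
  intro ν' hν'
  exact h.ne ν' ν (fun e => hν (e ▸ hν')) g hg

theorem SF.exists_scalar [Module.Finite R M] (h : SF F G π D) (m : Ideal R) [hp : m.IsPrime]
    (μ : Γ) (hlow : ∀ ν, ν < μ → G ν ≤ m • (⊤ : Submodule R M)) :
    ∃ s : R, s ∉ m ∧ ∀ z : M, s • z ∈ F μ := by
  have hm : m ≠ ⊤ := hp.ne_top
  have h1 : ∀ ν, ∃ s : R, s ∉ m ∧ (ν < μ → ∀ g ∈ G ν, s • g = 0) := by
    intro ν
    by_cases hν : ν < μ
    · obtain ⟨s, hs, hk⟩ := nak (π ν) (G ν) (h.mem ν) (h.same ν) m hm (hlow ν hν)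
      exact ⟨s, hs, fun _ => hk⟩
    · exact ⟨1, fun h1 => hm ((Ideal.eq_top_iff_one m).mpr h1), fun h => absurd h hν⟩
  choose sf hsf hsf' using h1
  refine ⟨∏ ν ∈ D, sf ν, ?_, ?_⟩
  · intro hmem
    obtain ⟨ν, _, hν⟩ := (Ideal.IsPrime.prod_mem_iff).mp hmem
    exact hsf ν hν
  · intro z
    apply h.mem_fil
    intro ν hν hlt
    rw [map_smul, ← Finset.mul_prod_erase D sf hν, mul_comm, mul_smul,
      hsf' ν hlt _ (h.mem ν z), smul_zero]

variable [Module.Finite R M] [Module.Projective R M]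
variable {F₁ G₁ F₂ G₂ : Γ → Submodule R M} {π₁ π₂ : Γ → (M →ₗ[R] M)} {D₁ D₂ : Finset Γ}

theorem lemL {k : ℕ} (h₁ : SF F₁ G₁ π₁ D₁) (h₂ : SF F₂ G₂ π₂ D₂)
    (hT : ∀ γ, T (k + 1) F₁ γ = T (k + 1) F₂ γ) (m : Ideal R) [hp : m.IsPrime] (μ : Γ)
    (hlow₂ : ∀ ν, ν < μ → G₂ ν ≤ m • (⊤ : Submodule R M)) :
    ∀ ν, ν < μ → G₁ ν ≤ m • (⊤ : Submodule R M) := by
  intro ν hν
  by_contra hcon
  obtain ⟨g, hg, hgm⟩ := SetLike.not_le_iff_exists.mp hcon
  obtain ⟨φ, hφ⟩ := sep_notMem m g hgm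
  obtain ⟨s, hs, hsF⟩ := h₂.exists_scalar m μ hlow₂
  have hz := tprod_mem_T F₂ (fun _ : Fin (k + 1) => s • g) (fun _ => μ) (fun _ => hsF g)
  rw [← hT] at hz
  have hlt : ∑ _i : Fin (k + 1), ν < ∑ _i : Fin (k + 1), μ :=
    Finset.sum_lt_sum_of_nonempty Finset.univ_nonempty (fun _ _ => hν)
  have h0 := K1' F₁ π₁ (fun γ ν hν x hx => h₁.kill_low hν hx) (fun _ : Fin (k + 1) => ν) _ hlt
    _ hz
  rw [PiTensorProduct.map_tprod] at h0
  have h1 := congrArg (contr (fun _ => φ)) h0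
  rw [contr_tprod, map_zero] at h1
  simp only [map_smul, h₁.same ν g hg, smul_eq_mul, Finset.prod_const, Finset.card_univ,
    Fintype.card_fin] at h1
  have h2 : s * φ g ∈ m := hp.mem_of_pow_mem (k + 1) (by rw [h1]; exact m.zero_mem)
  rcases hp.mem_or_mem h2 with h | h
  · exact hs h
  · exact hφ h

theorem local_kill {k : ℕ} (h₁ : SF F₁ G₁ π₁ D₁) (h₂ : SF F₂ G₂ π₂ D₂)
    (hT : ∀ γ, T (k + 1) F₁ γ = T (k + 1) F₂ γ) (m : Ideal R) [hp : m.IsPrime] (γ η : Γ)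
    (hη : η < γ) (x : M) (hx : x ∈ F₁ γ) : ∃ t : R, t ∉ m ∧ t • π₂ η x = 0 := by
  have hm : m ≠ ⊤ := hp.ne_top
  by_cases hA : G₂ η ≤ m • (⊤ : Submodule R M)
  · obtain ⟨s, hs, hk⟩ := nak (π₂ η) (G₂ η) (h₂.mem η) (h₂.same η) m hm hA
    exact ⟨s, hs, hk _ (h₂.mem η x)⟩
  · obtain ⟨g0, hg0, hg0m⟩ := SetLike.not_le_iff_exists.mp hA
    have hηD : η ∈ D₂ := h₂.mem_D hg0 (by rintro rfl; exact hg0m (Submodule.zero_mem _))
    obtain ⟨A₂, hA₂⟩ : ∃ A₂ : Finset Γ, ∀ ν, ν ∈ A₂ ↔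
        (ν ∈ D₂ ∧ ¬ G₂ ν ≤ m • (⊤ : Submodule R M)) := by
      classical
      exact ⟨D₂.filter (fun ν => ¬ G₂ ν ≤ m • (⊤ : Submodule R M)),
        fun ν => Finset.mem_filter⟩
    have hηA : η ∈ A₂ := (hA₂ η).mpr ⟨hηD, hA⟩
    obtain ⟨μ, hμA, hμmin⟩ : ∃ μ ∈ A₂, ∀ ν ∈ A₂, μ ≤ ν :=
      ⟨A₂.min' ⟨η, hηA⟩, Finset.min'_mem _ _, fun ν hν => Finset.min'_le _ _ hν⟩
    have hμη : μ ≤ η := hμmin η hηA
    have hlow₂ : ∀ ν, ν < μ → G₂ ν ≤ m • (⊤ : Submodule R M) := by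
      intro ν hν
      by_contra hcon
      obtain ⟨g', hg', hg'm⟩ := SetLike.not_le_iff_exists.mp hcon
      have hνD : ν ∈ D₂ := h₂.mem_D hg' (by rintro rfl; exact hg'm (Submodule.zero_mem _))
      exact absurd (hμmin ν ((hA₂ ν).mpr ⟨hνD, hcon⟩)) (not_le.mpr hν)
    have hlow₁ := lemL h₁ h₂ hT m μ hlow₂
    obtain ⟨s, hs, hsF⟩ := h₁.exists_scalar m μ hlow₁
    obtain ⟨g, hg, hgm⟩ := SetLike.not_le_iff_exists.mp ((hA₂ μ).mp hμA).2
    obtain ⟨φ, hφ⟩ := sep_notMem m g hgm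
    refine ⟨(s * φ g) ^ k, ?_, ?_⟩
    · intro hmem
      rcases hp.mem_or_mem (hp.mem_of_pow_mem k hmem) with h | h
      · exact hs h
      · exact hφ h
    · apply sep_zero (R := R)
      intro φ₀
      obtain ⟨v, hv0, hvs⟩ : ∃ v : Fin (k + 1) → M, v 0 = x ∧ ∀ j : Fin k, v j.succ = s • g :=
        ⟨@Fin.cons k (fun _ => M) x (fun _ => s • g), rfl, fun _ => rfl⟩
      obtain ⟨c, hc0, hcs⟩ : ∃ c : Fin (k + 1) → Γ, c 0 = γ ∧ ∀ j : Fin k, c j.succ = μ :=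
        ⟨@Fin.cons k (fun _ => Γ) γ (fun _ => μ), rfl, fun _ => rfl⟩
      obtain ⟨νv, hν0, hνs⟩ : ∃ c : Fin (k + 1) → Γ, c 0 = η ∧ ∀ j : Fin k, c j.succ = μ :=
        ⟨@Fin.cons k (fun _ => Γ) η (fun _ => μ), rfl, fun _ => rfl⟩
      obtain ⟨Φ, hΦ0, hΦs⟩ : ∃ Φ : Fin (k + 1) → (M →ₗ[R] R), Φ 0 = φ₀ ∧
          ∀ j : Fin k, Φ j.succ = φ :=
        ⟨@Fin.cons k (fun _ => M →ₗ[R] R) φ₀ (fun _ => φ), rfl, fun _ => rfl⟩
      have hv : ∀ i, v i ∈ F₁ (c i) := by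
        intro i
        refine Fin.cases ?_ (fun j => ?_) i
        · rw [hv0, hc0]; exact hx
        · rw [hvs, hcs]; exact hsF g
      have hz := tprod_mem_T F₁ v c hv
      rw [hT] at hz
      have hlt : ∑ i, νv i < ∑ i, c i := by
        rw [Fin.sum_univ_succ, Fin.sum_univ_succ, hν0, hc0]
        simp only [hνs, hcs]
        exact add_lt_add_left hη _
      have h0 := K1' F₂ π₂ (fun γ ν hν x hx => h₂.kill_low hν hx) νv _ hlt _ hz
      rw [PiTensorProduct.map_tprod] at h0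
      have h1 := congrArg (contr Φ) h0
      rw [contr_tprod, map_zero, Fin.prod_univ_succ, hΦ0, hν0, hv0] at h1
      simp only [hΦs, hνs, hvs, map_smul, h₂.same μ g hg, smul_eq_mul, Finset.prod_const,
        Finset.card_univ, Fintype.card_fin] at h1
      rw [map_smul, smul_eq_mul, mul_comm]
      exact h1

theorem main_le {k : ℕ} (h₁ : SF F₁ G₁ π₁ D₁) (h₂ : SF F₂ G₂ π₂ D₂)
    (hT : ∀ γ, T (k + 1) F₁ γ = T (k + 1) F₂ γ) (γ : Γ) : F₁ γ ≤ F₂ γ := by
  intro x hx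
  apply h₂.mem_fil
  intro η _ hη
  by_contra hne
  have hI : LinearMap.ker (LinearMap.toSpanSingleton R M (π₂ η x)) ≠ ⊤ := by
    intro htop
    have h1 : (1 : R) ∈ LinearMap.ker (LinearMap.toSpanSingleton R M (π₂ η x)) := by
      rw [htop]; exact Submodule.mem_top
    rw [LinearMap.mem_ker, LinearMap.toSpanSingleton_apply, one_smul] at h1
    exact hne h1
  obtain ⟨m, hm, hle⟩ := Ideal.exists_le_maximal _ hI
  haveI : m.IsPrime := hm.isPrime
  obtain ⟨t, ht, ht0⟩ := local_kill h₁ h₂ hT m γ η hη x hx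
  apply ht
  apply hle
  rw [LinearMap.mem_ker, LinearMap.toSpanSingleton_apply]
  exact ht0

end


/-- In affine form, let Γ be a non-trivial totally ordered commutative group, R a commutative ring, M a
finitely generated projective R-module, k ≥ 1, and F₁, F₂ two Γ-filtrations of M each admitting a
splitting (a grading M = ⊕_γ G_γ by submodules with F^γ = Σ_{η ≥ γ} G_η). If the filtrations they
induce on the k-th tensor power M^{⊗k} coincide, i.e. for every γ the sum over γ₁ + ⋯ + γ_k = γ of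
the images of F₁^{γ₁} ⊗ ⋯ ⊗ F₁^{γ_k} in M^{⊗k} equals the corresponding sum for F₂, then F₁ = F₂.
(The source states this for Γ-filtrations of a finite locally free sheaf on a scheme, which split
Zariski-locally; this is the affine split case to which it reduces.) -/
theorem result
    {Γ : Type w} [AddCommGroup Γ] [LinearOrder Γ] [IsOrderedAddMonoid Γ] [Nontrivial Γ]
    {R : Type u} [CommRing R] {M : Type v} [AddCommGroup M] [Module R M] [Module.Finite R M] [Module.Projective R M]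
    (F₁ F₂ : Γ → Submodule R M)
    (h₁ : ∃ G : Γ → Submodule R M, DirectSum.IsInternal G ∧ ∀ γ, F₁ γ = ⨆ η ∈ Set.Ici γ, G η)
    (h₂ : ∃ G : Γ → Submodule R M, DirectSum.IsInternal G ∧ ∀ γ, F₂ γ = ⨆ η ∈ Set.Ici γ, G η)
    (k : ℕ) (hk : 1 ≤ k)
    (h : ∀ γ : Γ,
      (⨆ c : {c : Fin k → Γ // ∑ i, c i = γ}, LinearMap.range (PiTensorProduct.map (R := R) (fun i => (F₁ (c.1 i)).subtype))) =
      (⨆ c : {c : Fin k → Γ // ∑ i, c i = γ}, LinearMap.range (PiTensorProduct.map (R := R) (fun i => (F₂ (c.1 i)).subtype)))) :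
    F₁ = F₂ := by
  obtain ⟨G₁, hG₁, hF₁⟩ := h₁
  obtain ⟨G₂, hG₂, hF₂⟩ := h₂
  obtain ⟨k', rfl⟩ : ∃ k', k = k' + 1 := ⟨k - 1, by omega⟩
  obtain ⟨π₁, D₁, a1, a2, a3, a4⟩ := exists_proj G₁ hG₁
  obtain ⟨π₂, D₂, b1, b2, b3, b4⟩ := exists_proj G₂ hG₂
  have s₁ : SF F₁ G₁ π₁ D₁ := ⟨a1, a2, a3, a4, hF₁⟩
  have s₂ : SF F₂ G₂ π₂ D₂ := ⟨b1, b2, b3, b4, hF₂⟩
  funext γ
  apply le_antisymm
  · exact main_le s₁ s₂ h γ
  · exact main_le s₂ s₁ (fun γ => (h γ).symm) γ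


end Groth.Agent.S19157
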