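import Groth.Statements.S19148
import Mathlib
import Groth.Agent.S19157

set_option autoImplicit false
open scoped TensorProduct
universe u v
open FiltMod

namespace Groth.Agent.S19148


theorem le_of {R : Type u} [CommRing R] {M : Type v} [AddCommGroup M] [Module R M]
    [Module.Finite R M] [Module.Projective R M] (F₁ F₂ : Submodule R M)
    (h₁ : ∃ C : Submodule R M, IsCompl F₁ C) (h₂ : ∃ C : Submodule R M, IsCompl F₂ C) (k : ℕ) (hk : 1 ≤ k)
    (hle : LinearMap.range (PiTensorProduct.map (R := R) (fun _ : Fin k => F₁.subtype)) ≤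
      LinearMap.range (PiTensorProduct.map (R := R) (fun _ : Fin k => F₂.subtype))) : F₁ ≤ F₂ := by
  classical
  obtain ⟨C₁, hC₁⟩ := h₁
  obtain ⟨C₂, hC₂⟩ := h₂
  obtain ⟨π₂, hπ₂⟩ : ∃ π₂ : M →ₗ[R] M, ∀ x, π₂ x = 0 ↔ x ∈ F₂ := by
    refine ⟨C₂.subtype ∘ₗ Submodule.projectionOnto C₂ F₂ hC₂.symm, fun x => ?_⟩
    rw [LinearMap.comp_apply, Submodule.subtype_apply, ZeroMemClass.coe_eq_zero, ← LinearMap.mem_ker,
      Submodule.ker_projectionOnto]
  obtain ⟨ρ₁, hρmem, hρid⟩ : ∃ ρ₁ : M →ₗ[R] M, (∀ x, ρ₁ x ∈ F₁) ∧ ∀ x ∈ F₁, ρ₁ x = x := by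
    refine ⟨F₁.subtype ∘ₗ Submodule.projectionOnto F₁ C₁ hC₁,
      fun x => (Submodule.projectionOnto F₁ C₁ hC₁ x).2, fun x hx => ?_⟩
    rw [LinearMap.comp_apply, Submodule.subtype_apply]
    have h := Submodule.projectionOnto_apply_left hC₁ ⟨x, hx⟩
    rw [h]
  obtain ⟨i₀, -⟩ : ∃ i₀ : Fin k, i₀ = ⟨0, hk⟩ := ⟨_, rfl⟩
  have key : ∀ v : Fin k → M, (∀ i, v i ∈ F₁) →
      PiTensorProduct.tprod R (fun i => (if i = i₀ then π₂ else LinearMap.id) (v i)) = 0 := by
    intro v hv
    have hmem : PiTensorProduct.tprod R v ∈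
        LinearMap.range (PiTensorProduct.map (R := R) (fun _ : Fin k => F₁.subtype)) := by
      refine ⟨PiTensorProduct.tprod R (fun i => (⟨v i, hv i⟩ : F₁)), ?_⟩
      rw [PiTensorProduct.map_tprod]
      rfl
    obtain ⟨w, hw⟩ := hle hmem
    have h0 : (PiTensorProduct.map (R := R) (fun i : Fin k => (if i = i₀ then π₂ else LinearMap.id))) ∘ₗ
        (PiTensorProduct.map (R := R) (fun _ : Fin k => F₂.subtype)) = 0 := by
      rw [← PiTensorProduct.map_comp]
      apply PiTensorProduct.ext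
      apply MultilinearMap.ext
      intro u
      rw [LinearMap.compMultilinearMap_apply, PiTensorProduct.map_tprod,
        LinearMap.compMultilinearMap_apply, LinearMap.zero_apply]
      apply (PiTensorProduct.tprod R).map_coord_zero i₀
      show ((if i₀ = i₀ then π₂ else LinearMap.id) ∘ₗ F₂.subtype) (u i₀) = 0
      rw [if_pos rfl, LinearMap.comp_apply]
      exact (hπ₂ _).mpr (u i₀).2
    have h1 := LinearMap.congr_fun h0 w
    rw [LinearMap.comp_apply, hw, PiTensorProduct.map_tprod, LinearMap.zero_apply] at h1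
    exact h1
  intro x hx
  rw [← hπ₂]
  by_contra hy
  obtain ⟨I, hI⟩ : ∃ I : Ideal R, I = LinearMap.ker (LinearMap.toSpanSingleton R M (π₂ x)) := ⟨_, rfl⟩
  have hmemI : ∀ s : R, s ∈ I ↔ s • π₂ x = 0 := by
    intro s; rw [hI, LinearMap.mem_ker, LinearMap.toSpanSingleton_apply]
  have hItop : I ≠ ⊤ := by
    intro h
    have h1 : (1 : R) ∈ I := by rw [h]; exact Submodule.mem_top
    rw [hmemI, one_smul] at h1
    exact hy h1
  obtain ⟨m, hm, hIm⟩ := Ideal.exists_le_maximal I hItop
  haveI hmp : m.IsPrime := hm.isPrime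
  suffices h : ∃ s : R, s ∉ m ∧ s • π₂ x = 0 by
    obtain ⟨s, hs, hs0⟩ := h
    exact hs (hIm ((hmemI s).mpr hs0))
  by_cases hcase : F₁ ≤ m • (⊤ : Submodule R M)
  · obtain ⟨s, hs, hs0⟩ := Groth.Agent.S19157.nak ρ₁ F₁ hρmem hρid m hm.ne_top hcase
    exact ⟨s, hs, by rw [← map_smul, hs0 x hx, map_zero]⟩
  · obtain ⟨v₀, hv₀, hv₀m⟩ := SetLike.not_le_iff_exists.mp hcase
    obtain ⟨φ₀, hφ₀⟩ := Groth.Agent.S19157.sep_notMem (R := R) m v₀ hv₀m
    refine ⟨∏ i ∈ Finset.univ.erase i₀, φ₀ v₀, ?_, ?_⟩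
    · intro hmem
      rw [Ideal.IsPrime.prod_mem_iff] at hmem
      obtain ⟨i, _, hi⟩ := hmem
      exact hφ₀ hi
    · apply Groth.Agent.S19157.sep_zero (R := R)
      intro ψ
      have h1 := key (fun i => if i = i₀ then x else v₀) (fun i => by
        by_cases h : i = i₀
        · rw [if_pos h]; exact hx
        · rw [if_neg h]; exact hv₀)
      have h2 := congrArg (Groth.Agent.S19157.contr (fun i => if i = i₀ then ψ else φ₀)) h1
      rw [Groth.Agent.S19157.contr_tprod, map_zero] at h2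
      beta_reduce at h2
      rw [← Finset.mul_prod_erase Finset.univ _ (Finset.mem_univ i₀)] at h2
      beta_reduce at h2
      rw [if_pos rfl, if_pos rfl, if_pos rfl] at h2
      have h3 : ∏ i ∈ Finset.univ.erase i₀, (if i = i₀ then ψ else φ₀)
          ((if i = i₀ then π₂ else LinearMap.id) (if i = i₀ then x else v₀)) =
          ∏ i ∈ Finset.univ.erase i₀, φ₀ v₀ := by
        apply Finset.prod_congr rfl
        intro i hi
        have hne : i ≠ i₀ := Finset.ne_of_mem_erase hi
        rw [if_neg hne, if_neg hne, if_neg hne]; rfl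
      rw [h3] at h2
      rw [map_smul, smul_eq_mul, mul_comm]
      exact h2



/-- In affine form, let R be a commutative ring, M a finitely generated projective R-module (a finite
locally free sheaf on Spec R), F₁ and F₂ direct summands of M and k ≥ 1. Then the images of F₁^{⊗k}
and F₂^{⊗k} in the k-th tensor power M^{⊗k} are equal if and only if F₁ = F₂. (The source states
this for local direct factors of a finite locally free sheaf on a scheme; equality of subsheaves
being local, this is the affine case with global direct summands, to which it reduces.) -/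
theorem result {R : Type u} [CommRing R] {M : Type v} [AddCommGroup M] [Module R M]
    [Module.Finite R M] [Module.Projective R M] (F₁ F₂ : Submodule R M)
    (h₁ : ∃ C : Submodule R M, IsCompl F₁ C) (h₂ : ∃ C : Submodule R M, IsCompl F₂ C) (k : ℕ) (hk : 1 ≤ k) :
    LinearMap.range (PiTensorProduct.map (R := R) (fun _ : Fin k => F₁.subtype)) =
      LinearMap.range (PiTensorProduct.map (R := R) (fun _ : Fin k => F₂.subtype)) ↔ F₁ = F₂ := by
  constructor
  · intro h
    exact le_antisymm (le_of F₁ F₂ h₁ h₂ k hk h.le) (le_of F₂ F₁ h₂ h₁ k hk h.ge)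
  · rintro rfl; rfl


end Groth.Agent.S19148
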