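import Groth.Statements.S19149
import Mathlib
import Groth.Agent.Lib.Helper6.JacCore

set_option autoImplicit false
universe u
open GrpSch

namespace Groth.Agent.S19149

section aux

open TensorProduct KaehlerDifferential

section W

variable (A B R : Type u) [CommRing A] [CommRing B] [CommRing R]
    [Algebra A B] [Algebra B R] [Algebra A R] [IsScalarTower A B R]
    (p : Ideal R) [p.IsPrime]

local notation "Bq" => Localization.AtPrime (Ideal.comap (algebraMap B R) p)
local notation "Rp" => Localization.AtPrime p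

open Groth.Agent.Lib.helper6.JacCore

/-- Jacobian criterion at a prime, via a retraction of `κ ⊗ J → κ ⊗ Ω`. -/
theorem isSmoothAt_of_retraction [Algebra.EssFiniteType A B]
    (hsurj : Function.Surjective (algebraMap B R))
    (𝔍 : Ideal B) (hker : RingHom.ker (algebraMap B R) = 𝔍) (hfg : 𝔍.FG)
    (hX : Algebra.FormallySmooth A Bq)
    (Θ : Ω[B⁄A] →ₗ[B] p.ResidueField ⊗[B] 𝔍)
    (hΘ : ∀ (f : B) (hf : f ∈ 𝔍), Θ (D A B f) = (1 : p.ResidueField) ⊗ₜ[B] (⟨f, hf⟩ : 𝔍)) :
    Algebra.IsSmoothAt A p := by
  letI := algLoc B R p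
  haveI := isScalarTower_B B R p
  haveI := isScalarTower_A A B R p
  haveI := isScalarTower_K B R p
  haveI := hX
  haveI : Algebra.EssFiniteType B Bq :=
    Algebra.EssFiniteType.of_isLocalization Bq (Ideal.comap (algebraMap B R) p).primeCompl
  haveI : Algebra.EssFiniteType A Bq := Algebra.EssFiniteType.comp A B Bq
  haveI : Module.Free Bq Ω[Bq⁄A] := Module.free_of_flat_of_isLocalRing
  have h₁ : Function.Surjective (algebraMap Bq Rp) := localRingHom_surjective B R p hsurj
  have ha : ∀ f ∈ 𝔍, algebraMap B Bq f ∈ RingHom.ker (algebraMap Bq Rp) := by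
    intro f hf
    rw [RingHom.mem_ker, algebraMap_algLoc]
    have h0 : algebraMap B R f = 0 := by
      rw [← RingHom.mem_ker, hker]; exact hf
    rw [h0, map_zero]
  have hb : ∀ y ∈ RingHom.ker (algebraMap Bq Rp), ∃ f ∈ 𝔍,
      ∃ t ∈ (Ideal.comap (algebraMap B R) p).primeCompl,
        algebraMap B Bq t * y = algebraMap B Bq f := by
    intro y hy
    obtain ⟨b, t, hbt⟩ := IsLocalization.exists_mk'_eq
      (Ideal.comap (algebraMap B R) p).primeCompl y
    have hy0 : algebraMap Bq Rp y = 0 := RingHom.mem_ker.mp hy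
    rw [← hbt] at hy0
    have hy1 : Localization.localRingHom (Ideal.comap (algebraMap B R) p) p (algebraMap B R) rfl
        (IsLocalization.mk' Bq b t) = 0 := hy0
    rw [Localization.localRingHom_mk', IsLocalization.mk'_eq_zero_iff] at hy1
    obtain ⟨s, hs⟩ := hy1
    obtain ⟨s', hs'⟩ := hsurj s
    have hs'q : s' ∈ (Ideal.comap (algebraMap B R) p).primeCompl := by
      show s' ∉ Ideal.comap (algebraMap B R) p
      rw [Ideal.mem_comap, hs']
      exact s.2
    have hf : s' * b ∈ 𝔍 := by
      rw [← hker, RingHom.mem_ker, map_mul, hs', hs]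
    refine ⟨s' * b, hf, s' * t, Submonoid.mul_mem _ hs'q t.2, ?_⟩
    rw [← hbt, map_mul, mul_assoc, mul_comm (algebraMap B Bq (t : B)),
      IsLocalization.mk'_spec, ← map_mul]
  have hkerφ : RingHom.ker (algebraMap Bq Rp) = 𝔍.map (algebraMap B Bq) := by
    apply le_antisymm
    · intro y hy
      obtain ⟨f, hf, t, ht, hty⟩ := hb y hy
      have hu : IsUnit (algebraMap B Bq t) :=
        IsLocalization.map_units Bq (⟨t, ht⟩ : (Ideal.comap (algebraMap B R) p).primeCompl)
      rw [← Ideal.unit_mul_mem_iff_mem _ hu, hty]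
      exact Ideal.mem_map_of_mem _ hf
    · rw [Ideal.map_le_iff_le_comap]
      intro f hf
      exact ha f hf
  have h₂ : (RingHom.ker (algebraMap Bq Rp)).FG := by
    rw [hkerφ]; exact hfg.map _
  let μ : 𝔍 →ₗ[B] p.ResidueField ⊗[Bq] (RingHom.ker (algebraMap Bq Rp)) :=
    { toFun := fun f => (1 : p.ResidueField) ⊗ₜ[Bq]
        (⟨algebraMap B Bq f.1, ha f.1 f.2⟩ : RingHom.ker (algebraMap Bq Rp))
      map_add' := fun f g => by
        rw [← TensorProduct.tmul_add]
        congr 1
        exact Subtype.ext (map_add (algebraMap B Bq) f.1 g.1)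
      map_smul' := fun b f => by
        rw [RingHom.id_apply, TensorProduct.smul_tmul']
        have e1 : (⟨algebraMap B Bq (b • f).1, ha (b • f).1 (b • f).2⟩ :
            RingHom.ker (algebraMap Bq Rp)) =
            (algebraMap B Bq b) • (⟨algebraMap B Bq f.1, ha f.1 f.2⟩ :
              RingHom.ker (algebraMap Bq Rp)) :=
          Subtype.ext (by
            show algebraMap B Bq (b • f).1 = algebraMap B Bq b * algebraMap B Bq f.1
            rw [← map_mul]; rfl)
        rw [e1, ← TensorProduct.smul_tmul, algebraMap_smul] }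
  let lam : p.ResidueField ⊗[B] 𝔍 →ₗ[p.ResidueField]
      p.ResidueField ⊗[Bq] (RingHom.ker (algebraMap Bq Rp)) :=
    LinearMap.liftBaseChange p.ResidueField μ
  let Φ : p.ResidueField ⊗[Bq] Ω[Bq⁄A] →ₗ[p.ResidueField]
      p.ResidueField ⊗[Bq] (RingHom.ker (algebraMap Bq Rp)) :=
    lam ∘ₗ (LinearMap.liftBaseChange p.ResidueField Θ) ∘ₗ
      (fibreEquiv A B R p).symm.toLinearMap
  have hΦ : ∀ (f : B) (hf : f ∈ 𝔍),
      Φ ((1 : p.ResidueField) ⊗ₜ[Bq] D A Bq (algebraMap B Bq f)) =
      (1 : p.ResidueField) ⊗ₜ[Bq]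
        (⟨algebraMap B Bq f, ha f hf⟩ : RingHom.ker (algebraMap Bq Rp)) := by
    intro f hf
    have e1 : (fibreEquiv A B R p).symm
        ((1 : p.ResidueField) ⊗ₜ[Bq] D A Bq (algebraMap B Bq f)) =
        (1 : p.ResidueField) ⊗ₜ[B] D A B f := by
      rw [LinearEquiv.symm_apply_eq, fibreEquiv_tmul_D]
    show lam ((LinearMap.liftBaseChange p.ResidueField Θ)
      ((fibreEquiv A B R p).symm _)) = _
    rw [e1, LinearMap.liftBaseChange_tmul, one_smul, hΘ f hf]
    show (LinearMap.liftBaseChange p.ResidueField μ) _ = _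
    rw [LinearMap.liftBaseChange_tmul, one_smul]
    rfl
  have hΨ : ∀ x, Φ (cotangentComplexBaseChange A Rp Bq p.ResidueField x) = x := by
    intro x
    induction x using TensorProduct.induction_on with
    | zero => rw [map_zero, map_zero]
    | add x y hx hy => rw [map_add, map_add, hx, hy]
    | tmul k y =>
      rw [cotangentComplexBaseChange_tmul, kerToTensor_apply]
      obtain ⟨f, hf, t, ht, hty⟩ := hb (y : Bq) y.2
      have hy0 : algebraMap Bq Rp (y : Bq) = 0 := RingHom.mem_ker.mp y.2
      have hτ1 : (algebraMap B Bq t) • (1 : p.ResidueField) =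
          algebraMap Bq p.ResidueField (algebraMap B Bq t) := by
        rw [Algebra.smul_def, mul_one]
      have hD : (1 : p.ResidueField) ⊗ₜ[Bq] D A Bq (algebraMap B Bq f) =
          (algebraMap Bq p.ResidueField (algebraMap B Bq t)) ⊗ₜ[Bq] D A Bq (y : Bq) := by
        rw [← hty, Derivation.leibniz, TensorProduct.tmul_add, TensorProduct.tmul_smul,
          TensorProduct.tmul_smul, TensorProduct.smul_tmul', TensorProduct.smul_tmul']
        have hyk : ((y : Bq) • (1 : p.ResidueField)) = 0 := by
          rw [Algebra.smul_def, mul_one, IsScalarTower.algebraMap_apply Bq Rp p.ResidueField, hy0,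
            map_zero]
        rw [hyk, TensorProduct.zero_tmul, add_zero, hτ1]
      have hu : IsUnit (algebraMap B Bq t) :=
        IsLocalization.map_units Bq (⟨t, ht⟩ : (Ideal.comap (algebraMap B R) p).primeCompl)
      have hτ : algebraMap Bq p.ResidueField (algebraMap B Bq t) ≠ 0 :=
        (hu.map (algebraMap Bq p.ResidueField)).ne_zero
      have h3 : (1 : p.ResidueField) ⊗ₜ[Bq] D A Bq (y : Bq) =
          (algebraMap Bq p.ResidueField (algebraMap B Bq t))⁻¹ •
            ((1 : p.ResidueField) ⊗ₜ[Bq] D A Bq (algebraMap B Bq f)) := by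
        rw [hD, TensorProduct.smul_tmul', smul_eq_mul, inv_mul_cancel₀ hτ]
      rw [h3, smul_smul, map_smul, hΦ f hf, TensorProduct.smul_tmul', smul_eq_mul, mul_one]
      have e2 : (⟨algebraMap B Bq f, ha f hf⟩ : RingHom.ker (algebraMap Bq Rp)) =
          (algebraMap B Bq t) • y :=
        Subtype.ext (by
          show algebraMap B Bq f = algebraMap B Bq t * (y : Bq)
          exact hty.symm)
      rw [e2, ← TensorProduct.smul_tmul]
      congr 1
      rw [Algebra.smul_def, mul_comm k, ← mul_assoc, mul_inv_cancel₀ hτ, one_mul]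
  have hinj : Function.Injective (cotangentComplexBaseChange A Rp Bq p.ResidueField) := by
    intro x x' hxx
    rw [← hΨ x, ← hΨ x', hxx]
  exact (Algebra.FormallySmooth.iff_injective_cotangentComplexBaseChange_residueField
    (R := A) (S := Rp) Bq h₁ h₂).mpr hinj

end W

section spec

variable (R A : Type u) [CommRing R] [CommRing A] [Algebra R A] (ε : A →ₐ[R] R)

theorem sub_mem_ker (a : A) : a - algebraMap R A (ε a) ∈ RingHom.ker ε := by
  rw [RingHom.mem_ker, map_sub, AlgHom.commutes, Algebra.algebraMap_self, RingHom.id_apply, sub_self]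

/-- The derivation `a ↦ [a - ε a]` into `I/I²`. -/
noncomputable def δ : Derivation R A (RingHom.ker ε).Cotangent :=
  Derivation.mk'
    { toFun := fun a => (RingHom.ker ε).toCotangent
        ⟨a - algebraMap R A (ε a), sub_mem_ker R A ε a⟩
      map_add' := fun a b => by
        rw [← map_add]
        congr 1
        apply Subtype.ext
        show (a + b) - algebraMap R A (ε (a + b)) =
          (a - algebraMap R A (ε a)) + (b - algebraMap R A (ε b))
        rw [map_add, map_add]; ring
      map_smul' := fun r a => by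
        rw [RingHom.id_apply, ← LinearMap.map_smul_of_tower]
        congr 1
        apply Subtype.ext
        show r • a - algebraMap R A (ε (r • a)) = r • (a - algebraMap R A (ε a))
        rw [map_smul, smul_eq_mul, map_mul, smul_sub, ← Algebra.smul_def] }
    (fun a b => by
      show (RingHom.ker ε).toCotangent ⟨a * b - algebraMap R A (ε (a * b)), sub_mem_ker R A ε _⟩ =
        a • (RingHom.ker ε).toCotangent ⟨b - algebraMap R A (ε b), sub_mem_ker R A ε b⟩ +
        b • (RingHom.ker ε).toCotangent ⟨a - algebraMap R A (ε a), sub_mem_ker R A ε a⟩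
      rw [← map_smul, ← map_smul, ← map_add, Ideal.toCotangent_eq]
      show (a * b - algebraMap R A (ε (a * b))) -
        (a * (b - algebraMap R A (ε b)) + b * (a - algebraMap R A (ε a))) ∈ RingHom.ker ε ^ 2
      have h : (a * b - algebraMap R A (ε (a * b))) -
          (a * (b - algebraMap R A (ε b)) + b * (a - algebraMap R A (ε a))) =
          -((a - algebraMap R A (ε a)) * (b - algebraMap R A (ε b))) := by
        rw [map_mul, map_mul]; ring
      rw [h, neg_mem_iff, pow_two]
      exact Ideal.mul_mem_mul (sub_mem_ker R A ε a) (sub_mem_ker R A ε b))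

theorem δ_apply (a : A) : δ R A ε a = (RingHom.ker ε).toCotangent
    ⟨a - algebraMap R A (ε a), sub_mem_ker R A ε a⟩ := rfl

theorem smul_eq_of_kills {M : Type u} [AddCommGroup M] [Module A M] [Module R M]
    [IsScalarTower R A M]
    (hM : ∀ i ∈ RingHom.ker ε, ∀ m : M, i • m = 0) (a : A) (m : M) : a • m = (ε a) • m := by
  have h := hM _ (sub_mem_ker R A ε a) m
  rw [sub_smul, algebraMap_smul, sub_eq_zero] at h
  exact h

local notation "I" => RingHom.ker ε

theorem exists_theta (J : Ideal A) (hJI : J ≤ RingHom.ker ε)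
    (h2 : J ⊓ RingHom.ker ε ^ 2 = RingHom.ker ε * J)
    (h3 : Module.Projective R (↥(RingHom.ker ε) ⧸
      Submodule.comap (RingHom.ker ε).subtype (J ⊔ RingHom.ker ε ^ 2)))
    (κ : Type u) [Field κ] [Algebra A κ] [Algebra R κ] [IsScalarTower R A κ]
    (hκ : ∀ i ∈ RingHom.ker ε, algebraMap A κ i = 0) :
    ∃ Θ : Ω[A⁄R] →ₗ[A] κ ⊗[A] J,
      ∀ (f : A) (hf : f ∈ J), Θ (D R A f) = (1 : κ) ⊗ₜ[A] (⟨f, hf⟩ : J) := by
  let ι : J →ₗ[A] (I).Cotangent := (I).toCotangent ∘ₗ (Submodule.inclusion hJI)
  have hι : ∀ j : J, ι j = (I).toCotangent (Submodule.inclusion hJI j) := fun j => rfl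
  let ν₀ : J →ₗ[A] κ ⊗[A] J := TensorProduct.mk A κ J 1
  have hle : LinearMap.ker ι ≤ LinearMap.ker ν₀ := by
    intro j hj
    rw [LinearMap.mem_ker] at hj ⊢
    rw [hι] at hj
    have h1 : (j : A) ∈ (I) ^ 2 := ((I).toCotangent_eq_zero _).mp hj
    have h4 : (j : A) ∈ (I) * J := by
      rw [← h2]; exact Submodule.mem_inf.mpr ⟨j.2, h1⟩
    have h5 : j ∈ ((I) • ⊤ : Submodule A J) := by
      rw [Submodule.mem_smul_top_iff]; exact h4
    refine Submodule.smul_induction_on h5 ?_ ?_
    · intro i hi x _
      show (1 : κ) ⊗ₜ[A] (i • x) = 0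
      rw [← TensorProduct.smul_tmul, Algebra.smul_def, hκ i hi, zero_mul, TensorProduct.zero_tmul]
    · intro x y hx hy
      rw [map_add, hx, hy, add_zero]
  let ιq : (J ⧸ LinearMap.ker ι) →ₗ[A] (I).Cotangent :=
    Submodule.liftQ (LinearMap.ker ι) ι le_rfl
  have hιq_inj : Function.Injective ιq := by
    rw [← LinearMap.ker_eq_bot]
    exact Submodule.ker_liftQ_eq_bot _ _ _ le_rfl
  have hN : ((I) • ⊤ : Submodule A (I)) ≤ LinearMap.ker
      (Submodule.mkQ (Submodule.comap (I).subtype (J ⊔ (I) ^ 2))) := by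
    intro x hx
    rw [Submodule.ker_mkQ]
    have h1 : (x : A) ∈ (I) ^ 2 :=
      ((I).toCotangent_eq_zero x).mp ((Submodule.Quotient.mk_eq_zero _).mpr hx)
    exact Ideal.mem_sup_right h1
  let σ : (I).Cotangent →ₗ[A] ((I) ⧸ Submodule.comap (I).subtype (J ⊔ (I) ^ 2)) :=
    Submodule.liftQ ((I) • ⊤ : Submodule A (I))
      (Submodule.mkQ (Submodule.comap (I).subtype (J ⊔ (I) ^ 2))) hN
  have hσ_apply : ∀ x : I, σ ((I).toCotangent x) = Submodule.Quotient.mk x := fun x => rfl
  have hσ_surj : Function.Surjective σ := by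
    intro z
    obtain ⟨x, rfl⟩ := Submodule.Quotient.mk_surjective _ z
    exact ⟨(I).toCotangent x, rfl⟩
  have hex : Function.Exact ιq σ := by
    intro c
    constructor
    · intro hc
      obtain ⟨x, rfl⟩ := (I).toCotangent_surjective c
      rw [hσ_apply, Submodule.Quotient.mk_eq_zero] at hc
      have hc' : (x : A) ∈ J ⊔ (I) ^ 2 := hc
      obtain ⟨j, hj, t, ht, hjt⟩ := Submodule.mem_sup.mp hc'
      refine ⟨Submodule.Quotient.mk ⟨j, hj⟩, ?_⟩
      show (I).toCotangent (Submodule.inclusion hJI ⟨j, hj⟩) = (I).toCotangent x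
      rw [Ideal.toCotangent_eq]
      show j - (x : A) ∈ (I) ^ 2
      have h6 : j - (x : A) = -t := by rw [← hjt]; ring
      rw [h6]; exact neg_mem ht
    · rintro ⟨z, rfl⟩
      obtain ⟨j, rfl⟩ := Submodule.Quotient.mk_surjective _ z
      show σ ((I).toCotangent (Submodule.inclusion hJI j)) = 0
      rw [hσ_apply, Submodule.Quotient.mk_eq_zero]
      exact Ideal.mem_sup_left j.2
  haveI := h3
  obtain ⟨s, hs⟩ := Module.projective_lifting_property (σ.restrictScalars R) LinearMap.id hσ_surj
  have hsp : (∃ l', (σ.restrictScalars R) ∘ₗ l' = LinearMap.id) ↔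
      (∃ l', l' ∘ₗ (ιq.restrictScalars R) = LinearMap.id) :=
    (Function.Exact.split_tfae (f := ιq.restrictScalars R)
      (g := σ.restrictScalars R) hex hιq_inj hσ_surj).out 0 1
  obtain ⟨l, hl⟩ := hsp.mp ⟨s, hs⟩
  let νq : (J ⧸ LinearMap.ker ι) →ₗ[A] κ ⊗[A] J := Submodule.liftQ (LinearMap.ker ι) ν₀ hle
  let θR : (I).Cotangent →ₗ[R] κ ⊗[A] J := (νq.restrictScalars R) ∘ₗ l
  have hkillC : ∀ i ∈ I, ∀ m : (I).Cotangent, i • m = 0 :=
    fun i hi m => Ideal.Cotangent.smul_eq_zero_of_mem hi m
  have hkillT : ∀ i ∈ I, ∀ m : κ ⊗[A] J, i • m = 0 := by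
    intro i hi m
    induction m using TensorProduct.induction_on with
    | zero => rw [smul_zero]
    | add x y hx hy => rw [smul_add, hx, hy, add_zero]
    | tmul k j =>
      rw [TensorProduct.smul_tmul', Algebra.smul_def, hκ i hi, zero_mul, TensorProduct.zero_tmul]
  let θ : (I).Cotangent →ₗ[A] κ ⊗[A] J :=
    { toFun := θR
      map_add' := θR.map_add
      map_smul' := fun a m => by
        rw [RingHom.id_apply, smul_eq_of_kills R A ε hkillC a m,
          smul_eq_of_kills R A ε hkillT a (θR m), θR.map_smul] }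
  refine ⟨θ ∘ₗ (δ R A ε).liftKaehlerDifferential, fun f hf => ?_⟩
  show θR ((δ R A ε).liftKaehlerDifferential (D R A f)) = _
  rw [Derivation.liftKaehlerDifferential_comp_D]
  have e1 : δ R A ε f = ιq (Submodule.Quotient.mk ⟨f, hf⟩) := by
    rw [δ_apply]
    show _ = (I).toCotangent (Submodule.inclusion hJI ⟨f, hf⟩)
    congr 1
    apply Subtype.ext
    show f - algebraMap R A (ε f) = f
    rw [RingHom.mem_ker.mp (hJI hf), map_zero, sub_zero]
  rw [e1]
  show νq (l (ιq (Submodule.Quotient.mk ⟨f, hf⟩))) = _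
  have e2 : l (ιq (Submodule.Quotient.mk ⟨f, hf⟩)) = Submodule.Quotient.mk ⟨f, hf⟩ :=
    LinearMap.congr_fun hl _
  rw [e2]
  rfl

end spec

end aux

open TensorProduct KaehlerDifferential


/-- In affine form, let R be a commutative ring, A a smooth R-algebra with an augmentation ε : A → R
(the unit section of G = Spec A over S = Spec R), I = ker ε its augmentation ideal, and J ⊆ I an
ideal (defining a closed subscheme H of G through the unit section) such that (1) J is finitely
generated, (2) J ∩ I² = I·J in A, and (3) I/(J + I²) is a finitely generated projective R-module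
(finite locally free on S). Then H = Spec (A/J) is smooth over S at every point of the unit section:
for every prime P of A/J containing the image of I, the localization (A/J)_P is formally smooth over
R. (The source states this for G an affine smooth group scheme over a scheme S and H a closed
subgroup, concluding that the neutral component H° is a smooth open subgroup scheme; that conclusion
is smoothness of H along the unit section, which is the statement here in affine form; the group
structure is not used.) -/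
theorem result (R A : Type u) [CommRing R] [CommRing A] [Algebra R A]
    [Algebra.Smooth R A] (ε : A →ₐ[R] R) (J : Ideal A) (hJI : J ≤ RingHom.ker ε)
    (h1 : J.FG)
    (h2 : J ⊓ RingHom.ker ε ^ 2 = RingHom.ker ε * J)
    (h3 : Module.Finite R (↥(RingHom.ker ε) ⧸ Submodule.comap (RingHom.ker ε).subtype (J ⊔ RingHom.ker ε ^ 2)) ∧
      Module.Projective R (↥(RingHom.ker ε) ⧸ Submodule.comap (RingHom.ker ε).subtype (J ⊔ RingHom.ker ε ^ 2)))
    (P : Ideal (A ⧸ J)) [P.IsPrime] (hP : (RingHom.ker ε).map (Ideal.Quotient.mk J) ≤ P) :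
    Algebra.IsSmoothAt R P := by
  haveI : Algebra.FinitePresentation R A := inferInstance
  haveI : Algebra.EssFiniteType R A := inferInstance
  have hsurj : Function.Surjective (algebraMap A (A ⧸ J)) := Ideal.Quotient.mk_surjective
  have hker : RingHom.ker (algebraMap A (A ⧸ J)) = J := Ideal.mk_ker
  have hX : Algebra.FormallySmooth R
      (Localization.AtPrime (Ideal.comap (algebraMap A (A ⧸ J)) P)) := by
    haveI : Algebra.FormallyEtale A
        (Localization.AtPrime (Ideal.comap (algebraMap A (A ⧸ J)) P)) :=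
      Algebra.FormallyEtale.of_isLocalization (Ideal.comap (algebraMap A (A ⧸ J)) P).primeCompl
    exact Algebra.FormallySmooth.comp R A _
  haveI : IsScalarTower R A P.ResidueField := IsScalarTower.of_algebraMap_eq (fun r => by
    rw [IsScalarTower.algebraMap_apply R (A ⧸ J) P.ResidueField,
      IsScalarTower.algebraMap_apply A (A ⧸ J) P.ResidueField,
      ← IsScalarTower.algebraMap_apply R A (A ⧸ J)])
  have hκ : ∀ i ∈ RingHom.ker ε, algebraMap A P.ResidueField i = 0 := by
    intro i hi
    rw [IsScalarTower.algebraMap_apply A (A ⧸ J) P.ResidueField,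
      Ideal.algebraMap_residueField_eq_zero]
    exact hP (Ideal.mem_map_of_mem _ hi)
  obtain ⟨Θ, hΘ⟩ := exists_theta R A ε J hJI h2 h3.2 P.ResidueField hκ
  exact isSmoothAt_of_retraction R A (A ⧸ J) P hsurj J hker h1 hX Θ hΘ


end Groth.Agent.S19149
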