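import Groth.Statements.S19155
import Groth.Agent.Lib.Helper3.RootD4
import Groth.Agent.S5454
import Groth.Agent.S5449

set_option autoImplicit false
open RootPairing
open RootD

namespace Groth.Agent.S19155

open Groth.Agent.Lib.helper3.RootDLib

/-- Let P be a root datum (root pairing over ℤ with finitely many roots, roots in M), S a system of
positive roots, Γ a non-trivial totally ordered commutative group and f : M → Γ additive. Call f
dominant when f(α) ≥ 0 for every positive root α. Then the dominant maps form a fundamental domain
for the Weyl group W acting on Hom(M, Γ) through M: there is w ∈ W with f ∘ w dominant, and if f and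
f ∘ w are both dominant (w ∈ W) then f ∘ w = f. -/
theorem result {ι M N : Type*} [AddCommGroup M] [AddCommGroup N]
    (P : RootPairing ι ℤ M N) [Finite ι] (S : Set ι) (hS : RootD.IsPosSys P S)
    {Γ : Type*} [AddCommGroup Γ] [LinearOrder Γ] [IsOrderedAddMonoid Γ] [Nontrivial Γ] (f : M →+ Γ) :
    (∃ g : P.Aut, g ∈ P.weylGroup ∧ ∀ i ∈ S, 0 ≤ f (RootPairing.Equiv.weightHom P g (P.root i))) ∧
    (∀ g : P.Aut, g ∈ P.weylGroup → (∀ i ∈ S, 0 ≤ f (P.root i)) →
      (∀ i ∈ S, 0 ≤ f (RootPairing.Equiv.weightHom P g (P.root i))) →
      ∀ m : M, f (RootPairing.Equiv.weightHom P g m) = f m) := by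
  classical
  obtain ⟨Δ, ⟨hΔ, hΔS⟩, _⟩ := Groth.Agent.S5445.result P S hS
  have hSeq : S = posOf P Δ := ((Groth.Agent.S5449.result P Δ hΔ S hS).2).mp hΔS
  constructor
  · obtain ⟨S', hS', hf⟩ := exists_isPosSys_nonneg P f
    obtain ⟨g, hg, hgS⟩ := Groth.Agent.S5454.result P S S' hS hS'
    refine ⟨g, hg, ?_⟩
    intro i hi
    have hmem : g • i ∈ S' := by rw [← hgS]; exact ⟨i, hi, rfl⟩
    have h1 := hf _ hmem
    rw [root_smul] at h1
    exact h1
  · intro g hg hdom hdom'
    have hnat : ∀ x ∈ natSpan P Δ, 0 ≤ f x := by
      intro x hx
      unfold natSpan at hx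
      induction hx using AddSubmonoid.closure_induction with
      | mem x hx =>
        obtain ⟨i, hi, rfl⟩ := hx
        exact hdom i (hΔS hi)
      | zero => simp
      | add x y _ _ hx hy => rw [map_add]; exact add_nonneg hx hy
    rw [← (Groth.Agent.S5508.result P Δ hΔ).1] at hg
    obtain ⟨L, hL, rfl⟩ := exists_list_of_mem_closure P g hg
    have main : ∀ (n : ℕ) (L : List ι), L.length = n → (∀ a ∈ L, a ∈ Δ) →
        (∀ i ∈ S, 0 ≤ f (prodRefl P L • P.root i)) → ∀ m : M, f (prodRefl P L • m) = f m := by
      intro n
      induction n using Nat.strong_induction_on with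
      | _ n ih =>
        intro L hlen hL hdom' m
        by_cases hone : prodRefl P L = 1
        · rw [hone, one_smul]
        · have hex : ∃ i ∈ Δ, prodRefl P L • i ∉ posOf P Δ := by
            by_contra hcon
            push Not at hcon
            exact hone (prodRefl_eq_one_of_pos P hΔ _ L rfl hL hcon)
          obtain ⟨i, hiΔ, hneg⟩ := hex
          obtain ⟨L', hL', hlen', hprod⟩ := exchange P hΔ i hiΔ L hL hneg
          have hzero : f (prodRefl P L • P.root i) = 0 := by
            apply le_antisymm _ (hdom' i (hΔS hiΔ))
            have hnegmem : -P.root (prodRefl P L • i) ∈ natSpan P Δ := by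
              rcases hΔ.mem_or_neg_mem (prodRefl P L • i) with h | h
              · exact absurd h hneg
              · exact h
            have h1 := hnat _ hnegmem
            rw [root_smul, map_neg] at h1
            exact neg_nonneg.mp h1
          have hsi : prodRefl P L' = prodRefl P L * Equiv.reflection P i := by
            rw [hprod, mul_assoc, reflection_mul_self, mul_one]
          have heq : ∀ x : M, f (prodRefl P L' • x) = f (prodRefl P L • x) := by
            intro x
            rw [hsi, mul_smul, RootPairing.Equiv.reflection_smul, P.reflection_apply, smul_sub,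
              map_sub, smul_comm, map_zsmul, hzero, smul_zero, sub_zero]
          have h1 := ih L'.length (by omega) L' rfl hL'
            (fun k hk => by rw [heq]; exact hdom' k hk)
          rw [← heq, h1]
    exact main _ L rfl hL hdom'

end Groth.Agent.S19155
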