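import Groth.Statements.S19156
import Groth.Agent.Lib.Helper3.RootD8
import Groth.Agent.Lib.Helper3.RootD7
import Groth.Agent.S5449

set_option autoImplicit false
open RootPairing
open RootD

namespace Groth.Agent.S19156

open Groth.Agent.Lib.helper3.RootDLib

/-- Let P be a root datum (root pairing over ℤ with finitely many roots indexed by ι), S a system of
positive roots, Γ a non-trivial totally ordered commutative group and f : M → Γ additive. Then f is
dominant (non-negative on the positive roots) if and only if, for every w in the Weyl group, f − f ∘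
w is a combination m ↦ Σ_{α ∈ S} ⟨m, α∨⟩ c_α of the positive coroots with coefficients c_α ≥ 0 in Γ
(f ∘ w is strongly dominated by f); and f is dominant if and only if f(w m) ≤ f(m) for every w ∈ W
and every dominant weight m (weak dominance). -/
theorem result {ι M N : Type*} [AddCommGroup M] [AddCommGroup N]
    (P : RootPairing ι ℤ M N) [Fintype ι] (S : Set ι) (hS : RootD.IsPosSys P S)
    {Γ : Type*} [AddCommGroup Γ] [LinearOrder Γ] [IsOrderedAddMonoid Γ] [Nontrivial Γ] (f : M →+ Γ) :
    ((∀ i ∈ S, 0 ≤ f (P.root i)) ↔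
      ∀ g : P.Aut, g ∈ P.weylGroup → ∃ c : ι → Γ, (∀ i, 0 ≤ c i) ∧ (∀ i, i ∉ S → c i = 0) ∧
        ∀ m : M, f m - f (RootPairing.Equiv.weightHom P g m) = ∑ i, (P.coroot' i m) • c i) ∧
    ((∀ i ∈ S, 0 ≤ f (P.root i)) ↔
      ∀ g : P.Aut, g ∈ P.weylGroup → ∀ m : M, (∀ i ∈ S, 0 ≤ P.coroot' i m) →
        f (RootPairing.Equiv.weightHom P g m) ≤ f m) := by
  classical
  have : Module.IsReflexive ℤ M := isReflexive_left P
  obtain ⟨Δ, ⟨hΔ, hΔS⟩, _⟩ := Groth.Agent.S5445.result P S hS
  have hSeq : S = posOf P Δ := ((Groth.Agent.S5449.result P Δ hΔ S hS).2).mp hΔS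
  have hℓ : ∀ k, 0 < P.RootForm (P.root k) (P.root k) := rootForm_root_pos P
  obtain ⟨ρ₂, hρ₂⟩ : ∃ ρ₂ : M, ρ₂ = ∑ k : ι, if k ∈ S then P.root k else 0 := ⟨_, rfl⟩
  have hρpair : ∀ a : ι, P.coroot' a ρ₂ = ∑ k : ι, if k ∈ S then P.pairing k a else 0 := by
    intro a
    rw [hρ₂, map_sum]
    apply Finset.sum_congr rfl
    intro k _
    split_ifs
    · rfl
    · rw [map_zero]
  -- the simple case
  have hrho_simple : ∀ i ∈ Δ, 0 < P.coroot' i ρ₂ := by
    intro i hi
    rw [hρpair, ← Finset.sum_filter]
    set σ := P.reflectionPerm i with hσ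
    have hσσ : ∀ k, σ (σ k) = k := fun k => P.reflectionPerm_self i k
    have hpσ : ∀ k, P.pairing (σ k) i = - P.pairing k i := by
      intro k
      rw [hσ, pairing_reflectionPerm_left, P.pairing_same]; ring
    rw [← Finset.sum_filter_add_sum_filter_not (Finset.univ.filter (· ∈ S)) (fun k => σ k ∈ S)]
    have h1 : ∑ k ∈ (Finset.univ.filter (· ∈ S)).filter (fun k => σ k ∈ S), P.pairing k i = 0 := by
      apply Finset.sum_involution (fun k _ => σ k)
      · intro k _
        rw [hpσ]; ring
      · intro k _ hne heq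
        apply hne
        have := hpσ k
        rw [heq] at this
        omega
      · intro k hk
        simp only [Finset.mem_filter, Finset.mem_univ, true_and] at hk ⊢
        exact ⟨hk.2, by rw [hσσ]; exact hk.1⟩
      · intro k _
        exact hσσ k
    have h2 : 0 < ∑ k ∈ (Finset.univ.filter (· ∈ S)).filter (fun k => ¬ σ k ∈ S),
        P.pairing k i := by
      apply Finset.sum_pos'
      · intro k hk
        simp only [Finset.mem_filter, Finset.mem_univ, true_and] at hk
        by_contra hcon
        push Not at hcon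
        apply hk.2
        rw [hSeq]
        change P.root (P.reflectionPerm i k) ∈ natSpan P Δ
        rw [P.root_reflectionPerm, P.reflection_apply_root, sub_eq_add_neg, ← neg_smul]
        have hk1 : k ∈ posOf P Δ := hSeq ▸ hk.1
        apply add_mem hk1
        exact zsmul_mem_of_nonneg _ _ _ (by omega) (root_mem_natSpan P hi)
      · refine ⟨i, ?_, by rw [P.pairing_same]; norm_num⟩
        simp only [Finset.mem_filter, Finset.mem_univ, true_and]
        refine ⟨hΔS hi, ?_⟩
        have : σ i = P.reflectionPerm i i := rfl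
        rw [this]
        exact hS.disjoint (hΔS hi)
    omega
  -- general positive roots
  have hrho : ∀ a ∈ S, 0 < P.coroot' a ρ₂ := by
    intro a haS
    have haS'' : a ∈ posOf P Δ := hSeq ▸ haS
    have haS' : P.root a ∈ natSpan P Δ := haS''
    obtain ⟨c, hc, hc0, hck⟩ := exists_finsupp_of_mem_natSpan P haS'
    have h1 : (P.RootForm (P.root a) (P.root a)) • P.coroot a =
        ∑ j ∈ c.support, c j • ((P.RootForm (P.root j) (P.root j)) • P.coroot j) := by
      rw [P.rootForm_self_smul_coroot a, ← hck, Finsupp.linearCombination_apply, Finsupp.sum,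
        map_sum, Finset.smul_sum]
      apply Finset.sum_congr rfl
      intro j _
      rw [map_smul, P.rootForm_self_smul_coroot j, smul_comm]
    have h2 : P.RootForm (P.root a) (P.root a) * P.toLinearMap ρ₂ (P.coroot a) =
        ∑ j ∈ c.support, P.toLinearMap ρ₂
          (c j • ((P.RootForm (P.root j) (P.root j)) • P.coroot j)) := by
      have h := congrArg (P.toLinearMap ρ₂) h1
      rw [map_smul (P.toLinearMap ρ₂), map_sum (P.toLinearMap ρ₂), smul_eq_mul] at h
      exact h
    have hcne : c ≠ 0 := by
      rintro rfl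
      rw [map_zero] at hck
      exact P.ne_zero a hck.symm
    obtain ⟨j₀, hj₀⟩ : ∃ j, c j ≠ 0 := by
      by_contra hcon
      push Not at hcon
      exact hcne (Finsupp.ext hcon)
    have h3 : 0 < ∑ j ∈ c.support, P.toLinearMap ρ₂
        (c j • ((P.RootForm (P.root j) (P.root j)) • P.coroot j)) := by
      apply Finset.sum_pos'
      · intro j hj
        rw [map_smul, map_smul, smul_eq_mul, smul_eq_mul]
        exact mul_nonneg (hc0 j) (mul_nonneg (hℓ j).le (hrho_simple j (hc hj)).le)
      · refine ⟨j₀, Finsupp.mem_support_iff.mpr hj₀, ?_⟩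
        rw [map_smul, map_smul, smul_eq_mul, smul_eq_mul]
        have hj₀Δ : j₀ ∈ Δ := hc (Finsupp.mem_support_iff.mpr hj₀)
        exact mul_pos (lt_of_le_of_ne (hc0 j₀) (Ne.symm hj₀))
          (mul_pos (hℓ j₀) (hrho_simple j₀ hj₀Δ))
    rw [← h2] at h3
    exact (mul_pos_iff_of_pos_left (hℓ a)).mp h3
  -- reflection formula
  have hfrefl : ∀ (a : ι) (m : M), f (Equiv.reflection P a • m) =
      f m - (P.coroot' a m) • f (P.root a) := by
    intro a m
    rw [RootPairing.Equiv.reflection_smul, P.reflection_apply, map_sub, map_zsmul]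
  have hnonneg_of : ∀ (a : ι) (N : ℤ), 0 < N → 0 ≤ N • f (P.root a) → 0 ≤ f (P.root a) := by
    intro a N hN h
    by_contra hcon
    push Not at hcon
    have h1 : 0 < -f (P.root a) := neg_pos.mpr hcon
    have h2 := zsmul_pos h1 hN
    rw [smul_neg] at h2
    have h3 : N • f (P.root a) < 0 := neg_pos.mp h2
    exact absurd h (not_le.mpr h3)
  -- Part A, forward
  have hA : (∀ i ∈ S, 0 ≤ f (P.root i)) →
      ∀ g : P.Aut, g ∈ P.weylGroup → ∃ c : ι → Γ, (∀ i, 0 ≤ c i) ∧ (∀ i, i ∉ S → c i = 0) ∧
        ∀ m : M, f m - f (g • m) = ∑ i, (P.coroot' i m) • c i := by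
    intro hdom g hg
    rw [← (Groth.Agent.S5508.result P Δ hΔ).1] at hg
    obtain ⟨L, hL, rfl⟩ := exists_list_of_mem_closure P g hg
    have main : ∀ (n : ℕ) (L : List ι), L.length = n → (∀ a ∈ L, a ∈ Δ) →
        ∃ c : ι → Γ, (∀ i, 0 ≤ c i) ∧ (∀ i, i ∉ S → c i = 0) ∧
          ∀ m : M, f m - f (prodRefl P L • m) = ∑ i, (P.coroot' i m) • c i := by
      intro n
      induction n using Nat.strong_induction_on with
      | _ n ih =>
        intro L hlen hL
        rcases List.eq_nil_or_concat L with rfl | ⟨L₀, i, rfl⟩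
        · exact ⟨0, fun _ => le_rfl, fun _ _ => rfl, fun m => by simp⟩
        · rw [List.concat_eq_append] at hlen hL ⊢
          have hiΔ : i ∈ Δ := hL i (by simp)
          have hL₀ : ∀ a ∈ L₀, a ∈ Δ := fun a ha => hL a (by simp [ha])
          have hw : prodRefl P (L₀ ++ [i]) = prodRefl P L₀ * Equiv.reflection P i := by
            rw [prodRefl_append]; simp
          have hlen₀ : L₀.length + 1 = n := by simpa using hlen
          by_cases hpos : prodRefl P L₀ • i ∈ posOf P Δ
          · obtain ⟨c₀, hc₀0, hc₀S, hc₀⟩ := ih L₀.length (by omega) L₀ rfl hL₀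
            have hx : 0 ≤ f (prodRefl P L₀ • P.root i) := by
              rw [← root_smul]
              exact hdom _ (hSeq ▸ hpos)
            refine ⟨c₀ + Pi.single i (f (prodRefl P L₀ • P.root i)), ?_, ?_, ?_⟩
            · intro j
              rw [Pi.add_apply]
              apply add_nonneg (hc₀0 j)
              by_cases hj : j = i
              · subst hj; rw [Pi.single_eq_same]; exact hx
              · rw [Pi.single_eq_of_ne hj]
            · intro j hj
              rw [Pi.add_apply, hc₀S j hj, zero_add]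
              have hji : j ≠ i := fun h => hj (h ▸ hΔS hiΔ)
              rw [Pi.single_eq_of_ne hji]
            · intro m
              rw [hw, mul_smul, RootPairing.Equiv.reflection_smul, P.reflection_apply, smul_sub,
                map_sub, smul_comm, map_zsmul]
              have e1 := hc₀ m
              simp only [Pi.add_apply, smul_add, Finset.sum_add_distrib]
              rw [← e1, Finset.sum_eq_single i]
              · rw [Pi.single_eq_same]; abel
              · intro j _ hj; rw [Pi.single_eq_of_ne hj, smul_zero]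
              · intro h; exact absurd (Finset.mem_univ i) h
          · obtain ⟨L', hL', hlen', hprod⟩ := exchange P hΔ i hiΔ L₀ hL₀ hpos
            have hw' : prodRefl P (L₀ ++ [i]) = prodRefl P L' := by
              rw [hw, hprod, mul_assoc, reflection_mul_self, mul_one]
            rw [hw']
            exact ih L'.length (by omega) L' rfl hL'
    exact main _ L rfl hL
  -- the key consequence of domination for a single reflection
  have hkey : ∀ a ∈ S, f (Equiv.reflection P a • ρ₂) ≤ f ρ₂ → 0 ≤ f (P.root a) := by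
    intro a haS hle
    rw [hfrefl] at hle
    have h1 : 0 ≤ (P.coroot' a ρ₂) • f (P.root a) := by
      have := sub_nonneg.mpr hle
      rwa [sub_sub_cancel] at this
    exact hnonneg_of a _ (hrho a haS) h1
  have hsum_nonneg : ∀ (c : ι → Γ), (∀ i, 0 ≤ c i) → (∀ i, i ∉ S → c i = 0) → ∀ m : M,
      (∀ i ∈ S, 0 ≤ P.coroot' i m) → 0 ≤ ∑ i, (P.coroot' i m) • c i := by
    intro c hc0 hcS m hm
    apply Finset.sum_nonneg
    intro i _
    by_cases hi : i ∈ S
    · exact zsmul_nonneg (hc0 i) (hm i hi)
    · rw [hcS i hi, smul_zero]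
  have hρdom : ∀ i ∈ S, 0 ≤ P.coroot' i ρ₂ := fun i hi => (hrho i hi).le
  refine ⟨⟨hA, ?_⟩, ⟨?_, ?_⟩⟩
  · intro h a haS
    obtain ⟨c, hc0, hcS, hc⟩ := h (Equiv.reflection P a) (P.reflection_mem_weylGroup a)
    apply hkey a haS
    have h1 := hc ρ₂
    have h2 := hsum_nonneg c hc0 hcS ρ₂ hρdom
    rw [← h1] at h2
    exact sub_nonneg.mp h2
  · intro hdom g hg m hm
    obtain ⟨c, hc0, hcS, hc⟩ := hA hdom g hg
    have h2 := hsum_nonneg c hc0 hcS m hm
    rw [← hc m] at h2
    exact sub_nonneg.mp h2
  · intro h a haS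
    exact hkey a haS (h (Equiv.reflection P a) (P.reflection_mem_weylGroup a) ρ₂ hρdom)

end Groth.Agent.S19156
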