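import Groth.Statements.S19158
import Mathlib

set_option autoImplicit false
universe u v w
open FiltMod

namespace Groth.Agent.S19158

open DirectSum

section
variable {Γ : Type*} [LinearOrder Γ] {R : Type*} [CommRing R]

lemma finite_support {M : Type*} [AddCommGroup M] [Module R M] [Module.Finite R M]
    (G : Γ → Submodule R M) (hG : DirectSum.IsInternal G) : {γ | G γ ≠ ⊥}.Finite := by
  classical
  have hind := hG.submodule_iSupIndep
  have htop := hG.submodule_iSup_eq_top
  have hc : IsCompactElement (⊤ : Submodule R M) :=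
    (Submodule.fg_iff_compact _).mp Module.Finite.fg_top
  obtain ⟨s, hs⟩ := CompleteLattice.IsCompactElement.exists_finset_of_le_iSup
    (Submodule R M) hc G (by rw [htop])
  refine s.finite_toSet.subset ?_
  intro γ hγ
  by_contra hns
  apply hγ
  have := hind.disjoint_biSup (y := (s : Set Γ)) hns
  exact this.eq_bot_of_le (le_trans le_top hs)

lemma indep_of_disjoint_gt {N : Type*} [AddCommGroup N] [Module R N] (C : Γ → Submodule R N)
    (h : ∀ γ, Disjoint (C γ) (⨆ η ∈ Set.Ioi γ, C η)) : iSupIndep C := by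
  classical
  apply iSupIndep_of_dfinsupp_lsum_injective
  rw [← LinearMap.ker_eq_bot, LinearMap.ker_eq_bot']
  intro v hv
  by_contra hne
  have hsupp : v.support.Nonempty := by
    rwa [Finset.nonempty_iff_ne_empty, Ne, DFinsupp.support_eq_empty]
  set η := v.support.min' hsupp
  have hη : η ∈ v.support := Finset.min'_mem _ _
  have hv' : ∑ ζ ∈ v.support, (v ζ : N) = 0 := by
    simpa [DFinsupp.lsum_apply_apply, DFinsupp.sumAddHom_apply, DFinsupp.sum] using hv
  have hsum : (v η : N) + ∑ ζ ∈ v.support.erase η, (v ζ : N) = 0 := by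
    rw [Finset.add_sum_erase _ (fun ζ => (v ζ : N)) hη]
    exact hv'
  have hmem : (v η : N) ∈ ⨆ ζ ∈ Set.Ioi η, C ζ := by
    have : (v η : N) = - ∑ ζ ∈ v.support.erase η, (v ζ : N) := eq_neg_of_add_eq_zero_left hsum
    rw [this]
    apply Submodule.neg_mem
    apply Submodule.sum_mem
    intro ζ hζ
    have hζ' := Finset.mem_erase.mp hζ
    have : η < ζ := lt_of_le_of_ne (Finset.min'_le _ _ hζ'.2) (Ne.symm hζ'.1)
    exact Submodule.mem_iSup_of_mem ζ (Submodule.mem_iSup_of_mem this (v ζ).2)
  have := (h η).le_bot ⟨(v η).2, hmem⟩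
  have h0 : v η = 0 := Subtype.ext (by simpa using this)
  exact (DFinsupp.mem_support_iff.mp hη) h0


lemma split_of_compl {N : Type*} [AddCommGroup N] [Module R N] (H C : Γ → Submodule R N) (T : Finset Γ)
    (hH0 : ∀ η, η ∉ T → H η = ⊥) (hHtop : ⨆ η, H η = ⊤)
    (hCle : ∀ γ, C γ ≤ ⨆ η ∈ Set.Ici γ, H η)
    (hsup : ∀ γ, (⨆ η ∈ Set.Ici γ, H η) ≤ C γ ⊔ ⨆ ζ ∈ Set.Ioi γ, ⨆ η ∈ Set.Ici ζ, H η)
    (hdisj : ∀ γ, Disjoint (C γ) (⨆ ζ ∈ Set.Ioi γ, ⨆ η ∈ Set.Ici ζ, H η)) :
    DirectSum.IsInternal C ∧ ∀ γ, (⨆ η ∈ Set.Ici γ, H η) = ⨆ η ∈ Set.Ici γ, C η := by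
  classical
  set F' : Γ → Submodule R N := fun γ => ⨆ η ∈ Set.Ici γ, H η with hF'
  have hanti : Antitone F' := by
    intro a b hab
    exact biSup_mono (fun η hη => le_trans hab hη)
  have hHF : ∀ η, H η ≤ F' η := fun η => le_iSup₂_of_le η (Set.mem_Ici.mpr le_rfl) le_rfl
  have key : ∀ n : ℕ, ∀ γ, (T.filter (γ ≤ ·)).card ≤ n → F' γ ≤ ⨆ η ∈ Set.Ici γ, C η := by
    intro n
    induction n with
    | zero =>
      intro γ hγ
      have hempty : T.filter (γ ≤ ·) = ∅ := Finset.card_eq_zero.mp (Nat.le_zero.mp hγ)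
      have : F' γ = ⊥ := by
        rw [eq_bot_iff]
        refine iSup₂_le fun η hη => ?_
        rw [hH0 η]
        intro hηT
        have : η ∈ T.filter (γ ≤ ·) := Finset.mem_filter.mpr ⟨hηT, hη⟩
        rw [hempty] at this; exact absurd this (Finset.notMem_empty _)
      rw [this]; exact bot_le
    | succ n ih =>
      intro γ hγ
      refine iSup₂_le fun η hη => ?_
      by_cases hηT : η ∈ T
      · refine le_trans (hHF η) (le_trans (hsup η) (sup_le ?_ ?_))
        · exact le_iSup₂_of_le η hη le_rfl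
        · refine iSup₂_le fun ζ hζ => ?_
          have hcard : (T.filter (ζ ≤ ·)).card ≤ n := by
            have hsub : T.filter (ζ ≤ ·) ⊂ T.filter (γ ≤ ·) := by
              refine (Finset.ssubset_iff_of_subset ?_).mpr ⟨η, ?_, ?_⟩
              · intro t ht
                rw [Finset.mem_filter] at ht ⊢
                exact ⟨ht.1, le_trans hη (le_trans (le_of_lt hζ) ht.2)⟩
              · exact Finset.mem_filter.mpr ⟨hηT, hη⟩
              · intro h
                exact absurd (Finset.mem_filter.mp h).2 (not_le.mpr hζ)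
            have := Finset.card_lt_card hsub
            omega
          refine le_trans (ih ζ hcard) ?_
          exact biSup_mono (fun ξ hξ => le_trans hη (le_trans (le_of_lt hζ) hξ))
      · rw [hH0 η hηT]; exact bot_le
  have hFC : ∀ γ, F' γ = ⨆ η ∈ Set.Ici γ, C η := by
    intro γ
    apply le_antisymm (key _ γ le_rfl)
    exact iSup₂_le fun η hη => le_trans (hCle η) (hanti hη)
  have htop : ⨆ γ, C γ = ⊤ := by
    rw [eq_top_iff, ← hHtop]
    refine iSup_le fun η => le_trans (hHF η) ?_
    rw [hFC η]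
    exact iSup₂_le fun ζ _ => le_iSup C ζ
  have hind : iSupIndep C := by
    apply indep_of_disjoint_gt
    intro γ
    refine (hdisj γ).mono_right ?_
    exact iSup₂_mono fun ζ hζ => hCle ζ
  exact ⟨DirectSum.isInternal_submodule_of_iSupIndep_of_iSup_eq_top hind htop, hFC⟩


lemma retract_split {M N : Type*} [AddCommGroup M] [Module R M] [Module.Finite R M]
    [AddCommGroup N] [Module R N]
    (G : Γ → Submodule R M) (hG : DirectSum.IsInternal G)
    (p : M →ₗ[R] N) (i : N →ₗ[R] M) (hpi : ∀ y, p (i y) = y)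
    (hst : ∀ γ, ∀ x ∈ ⨆ η ∈ Set.Ici γ, G η, i (p x) ∈ ⨆ η ∈ Set.Ici γ, G η) :
    ∃ C : Γ → Submodule R N, DirectSum.IsInternal C ∧
      ∀ γ, Submodule.map p (⨆ η ∈ Set.Ici γ, G η) = ⨆ η ∈ Set.Ici γ, C η := by
  classical
  let _ := hG.chooseDecomposition
  let π : Γ → M →ₗ[R] M := fun γ => (G γ).subtype ∘ₗ
    (DirectSum.component R Γ (fun γ => G γ) γ) ∘ₗ (DirectSum.decomposeLinearEquiv G).toLinearMap
  have hπ : ∀ γ x, π γ x = (DirectSum.decompose G x γ : M) := fun γ x => rfl
  have hπmem : ∀ γ x, π γ x ∈ G γ := fun γ x => by rw [hπ]; exact (DirectSum.decompose G x γ).2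
  have hπsame : ∀ γ x, x ∈ G γ → π γ x = x := fun γ x hx => by
    rw [hπ, DirectSum.decompose_of_mem_same G hx]
  have hπne : ∀ γ η x, x ∈ G η → η ≠ γ → π γ x = 0 := fun γ η x hx hne => by
    rw [hπ, DirectSum.decompose_of_mem_ne G hx hne]
  have hπgt : ∀ γ, (⨆ η ∈ Set.Ioi γ, G η) ≤ LinearMap.ker (π γ) := fun γ =>
    iSup₂_le fun η hη x hx => LinearMap.mem_ker.mpr (hπne γ η x hx (ne_of_gt hη))
  have hπF : ∀ γ, (⨆ η ∈ Set.Ici γ, G η) ≤
      Submodule.comap (LinearMap.id - π γ) (⨆ η ∈ Set.Ioi γ, G η) := by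
    intro γ
    refine iSup₂_le fun η hη x hx => ?_
    rw [Submodule.mem_comap, LinearMap.sub_apply, LinearMap.id_apply]
    rcases eq_or_lt_of_le (Set.mem_Ici.mp hη) with h | h
    · subst h
      rw [hπsame _ x hx, sub_self]; exact Submodule.zero_mem _
    · rw [hπne γ η x hx (ne_of_gt h), sub_zero]
      exact Submodule.mem_iSup_of_mem η (Submodule.mem_iSup_of_mem h hx)
  set F : Γ → Submodule R M := fun γ => ⨆ η ∈ Set.Ici γ, G η with hFdef
  set H : Γ → Submodule R N := fun η => Submodule.map p (G η) with hHdef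
  have hmapF : ∀ γ, Submodule.map p (F γ) = ⨆ η ∈ Set.Ici γ, H η := by
    intro γ
    simp only [hFdef, hHdef, Submodule.map_iSup]
  have hmapFp : ∀ γ, Submodule.map p (⨆ η ∈ Set.Ioi γ, G η) = ⨆ η ∈ Set.Ioi γ, H η := by
    intro γ
    simp only [hHdef, Submodule.map_iSup]
  have hHle : ∀ γ, (⨆ η ∈ Set.Ioi γ, H η) ≤ ⨆ ζ ∈ Set.Ioi γ, ⨆ η ∈ Set.Ici ζ, H η := by
    intro γ
    exact iSup₂_mono fun η hη => le_iSup₂_of_le η (Set.mem_Ici.mpr le_rfl) le_rfl
  let C : Γ → Submodule R N := fun γ => Submodule.map (p ∘ₗ π γ ∘ₗ i) (Submodule.map p (F γ))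
  -- the remainder lies in the higher part
  have hrem : ∀ γ, ∀ y ∈ Submodule.map p (F γ),
      y - p (π γ (i y)) ∈ ⨆ η ∈ Set.Ioi γ, H η := by
    intro γ y hy
    obtain ⟨x, hx, rfl⟩ := hy
    have h1 : i (p x) ∈ F γ := hst γ x hx
    have h2 := hπF γ h1
    rw [Submodule.mem_comap, LinearMap.sub_apply, LinearMap.id_apply] at h2
    rw [← hmapFp]
    refine ⟨i (p x) - π γ (i (p x)), h2, ?_⟩
    rw [map_sub, hpi]
  have hkill : ∀ γ, ∀ w ∈ (⨆ ζ ∈ Set.Ioi γ, ⨆ η ∈ Set.Ici ζ, H η), π γ (i w) = 0 := by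
    intro γ
    have : (⨆ ζ ∈ Set.Ioi γ, ⨆ η ∈ Set.Ici ζ, H η) ≤
        Submodule.comap (π γ ∘ₗ i) ⊥ := by
      refine iSup₂_le fun ζ hζ => ?_
      rw [← hmapF]
      rintro w ⟨x, hx, rfl⟩
      rw [Submodule.mem_comap, Submodule.mem_bot, LinearMap.comp_apply]
      have h1 : i (p x) ∈ F ζ := hst ζ x hx
      have h2 : F ζ ≤ ⨆ η ∈ Set.Ioi γ, G η :=
        biSup_mono fun η hη => lt_of_lt_of_le hζ hη
      exact LinearMap.mem_ker.mp (hπgt γ (h2 h1))
    intro w hw
    simpa using this hw
  have hsurj : Function.Surjective p := fun y => ⟨i y, hpi y⟩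
  obtain ⟨hint, hF⟩ := split_of_compl H C (finite_support G hG).toFinset
    (by
      intro η hη
      have : G η = ⊥ := by
        by_contra h
        exact hη ((finite_support G hG).mem_toFinset.mpr h)
      simp [hHdef, this])
    (by
      rw [← Submodule.map_iSup, hG.submodule_iSup_eq_top, Submodule.map_top,
        LinearMap.range_eq_top.mpr hsurj])
    (by
      intro γ
      rintro z ⟨y, _, rfl⟩
      refine Submodule.mem_iSup_of_mem γ (Submodule.mem_iSup_of_mem (Set.mem_Ici.mpr le_rfl) ?_)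
      exact ⟨π γ (i y), hπmem γ _, rfl⟩)
    (by
      intro γ
      rw [← hmapF]
      intro y hy
      have h1 := hrem γ y hy
      have : y = p (π γ (i y)) + (y - p (π γ (i y))) := by abel
      rw [this]
      exact Submodule.add_mem_sup ⟨y, hy, rfl⟩ (hHle γ h1))
    (by
      intro γ
      rw [Submodule.disjoint_def]
      rintro z ⟨y, hy, rfl⟩ hz
      have h1 := hHle γ (hrem γ y hy)
      have h3 : y ∈ (⨆ ζ ∈ Set.Ioi γ, ⨆ η ∈ Set.Ici ζ, H η) := by
        have : y = (p ∘ₗ π γ ∘ₗ i) y + (y - p (π γ (i y))) := by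
          simp only [LinearMap.comp_apply]; abel
        rw [this]
        exact Submodule.add_mem _ hz h1
      simp only [LinearMap.comp_apply]
      rw [hkill γ y h3, map_zero])
  exact ⟨C, hint, fun γ => by rw [hmapF, hF]⟩


lemma pi_iSup {A : Type*} [Fintype A] [DecidableEq A] {M : A → Type*} [∀ a, AddCommGroup (M a)]
    [∀ a, Module R (M a)] {ι : Sort*} (K : ι → ∀ a, Submodule R (M a)) :
    Submodule.pi Set.univ (fun a => ⨆ i, K i a) = ⨆ i, Submodule.pi Set.univ (K i) := by
  apply le_antisymm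
  · intro x hx
    rw [← Finset.univ_sum_single x]
    apply Submodule.sum_mem
    intro a _
    have h1 : x a ∈ ⨆ i, K i a := (Submodule.mem_pi.mp hx) a trivial
    have h2 : Pi.single a (x a) ∈ Submodule.map (LinearMap.single R M a) (⨆ i, K i a) :=
      ⟨x a, h1, rfl⟩
    rw [Submodule.map_iSup] at h2
    have h3 : (⨆ i, Submodule.map (LinearMap.single R M a) (K i a)) ≤
        ⨆ i, Submodule.pi Set.univ (K i) := by
      refine iSup_mono fun i => ?_
      rintro _ ⟨y, hy, rfl⟩
      rw [Submodule.mem_pi]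
      intro b _
      by_cases hb : b = a
      · subst hb; simpa using hy
      · simp [hb]
    exact h3 h2
  · refine iSup_le fun i => ?_
    intro x hx
    rw [Submodule.mem_pi] at hx ⊢
    intro a _
    exact (le_iSup (fun i => K i a) i) (hx a trivial)

end



/-- In affine form, let Γ be a non-trivial totally ordered commutative group, R a commutative ring and
(M_a) a finite family of finitely generated projective R-modules, each carrying a non-increasing
Γ-indexed family of submodules F_a; give M = Π_a M_a the family F^γ = Π_a F_a^γ. Then F is split by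
a Γ-grading of M (an internal direct sum decomposition M = ⊕_γ G_γ with F^γ = Σ_{η ≥ γ} G_η for all
γ) if and only if each F_a is split by a Γ-grading of M_a. (The published statement is for finite
locally free sheaves on a scheme, where a filtration counts as split when it is split by a grading
locally on the scheme; this row is the affine case, in which that is the same as being split by one
global grading.) -/
theorem result
    {Γ : Type w} [AddCommGroup Γ] [LinearOrder Γ] [IsOrderedAddMonoid Γ] [Nontrivial Γ]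
    {R : Type u} [CommRing R] {A : Type v} [Fintype A] (M : A → Type v) [∀ a, AddCommGroup (M a)] [∀ a, Module R (M a)]
    [∀ a, Module.Finite R (M a)] [∀ a, Module.Projective R (M a)]
    (F : ∀ a, Γ → Submodule R (M a)) (hF : ∀ a, Antitone (F a)) :
    (∃ G : Γ → Submodule R (∀ a, M a), DirectSum.IsInternal G ∧
        ∀ γ, Submodule.pi Set.univ (fun a => F a γ) = ⨆ η ∈ Set.Ici γ, G η) ↔
    ∀ a, ∃ G : Γ → Submodule R (M a), DirectSum.IsInternal G ∧ ∀ γ, F a γ = ⨆ η ∈ Set.Ici γ, G η := by
    classical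
  constructor
  · rintro ⟨G, hG, hGF⟩ a
    obtain ⟨C, hC, hCF⟩ := retract_split G hG (LinearMap.proj a) (LinearMap.single R M a)
      (fun y => by simp)
      (by
        intro γ x hx
        rw [← hGF γ] at hx ⊢
        rw [Submodule.mem_pi] at hx ⊢
        intro b _
        simp only [LinearMap.proj_apply, LinearMap.single_apply]
        by_cases hb : b = a
        · subst hb; simpa using hx b trivial
        · rw [Pi.single_eq_of_ne hb]; exact Submodule.zero_mem _)
    refine ⟨C, hC, fun γ => ?_⟩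
    rw [← hCF γ, ← hGF γ]
    ext y
    constructor
    · intro hy
      refine ⟨Pi.single a y, ?_, by simp⟩
      rw [SetLike.mem_coe, Submodule.mem_pi]
      intro b _
      by_cases hb : b = a
      · subst hb; simpa using hy
      · rw [Pi.single_eq_of_ne hb]; exact Submodule.zero_mem _
    · rintro ⟨x, hx, rfl⟩
      exact (Submodule.mem_pi.mp hx) a trivial
  · intro h
    choose G hG hGF using h
    have e1 : ∀ γ, Submodule.pi Set.univ (fun a => F a γ) =
        ⨆ η ∈ Set.Ici γ, Submodule.pi Set.univ (fun a => G a η) := by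
      intro γ
      have : (fun a => F a γ) = fun a => ⨆ η, (⨆ (_ : η ∈ Set.Ici γ), G a η) :=
        funext fun a => hGF a γ
      rw [this, pi_iSup (fun η a => ⨆ (_ : η ∈ Set.Ici γ), G a η)]
      refine iSup_congr fun η => ?_
      exact pi_iSup (fun (_ : η ∈ Set.Ici γ) a => G a η)
    refine ⟨fun γ => Submodule.pi Set.univ (fun a => G a γ), ?_, e1⟩
    apply DirectSum.isInternal_submodule_of_iSupIndep_of_iSup_eq_top
    · intro γ
      have e2 : (⨆ η, ⨆ (_ : η ≠ γ), Submodule.pi Set.univ (fun a => G a η)) =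
          Submodule.pi Set.univ (fun a => ⨆ η, ⨆ (_ : η ≠ γ), G a η) := by
        rw [pi_iSup (fun η a => ⨆ (_ : η ≠ γ), G a η)]
        refine iSup_congr fun η => ?_
        exact (pi_iSup (fun (_ : η ≠ γ) a => G a η)).symm
      rw [e2, Submodule.disjoint_def]
      intro x hx hx'
      funext a
      have h1 := (Submodule.mem_pi.mp hx) a trivial
      have h2 := (Submodule.mem_pi.mp hx') a trivial
      have := (hG a).submodule_iSupIndep γ
      rw [Submodule.disjoint_def] at this
      exact this _ h1 h2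
    · rw [← pi_iSup (fun γ a => G a γ)]
      have : (fun a => ⨆ γ, G a γ) = fun a => (⊤ : Submodule R (M a)) :=
        funext fun a => (hG a).submodule_iSup_eq_top
      rw [this]
      exact Submodule.pi_top _

end Groth.Agent.S19158
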