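import Groth.Statements.S1916
import Groth.Agent.Lib.Helper8.StalkLen
import Groth.Agent.Lib.Helper8.StalkLenTop

set_option autoImplicit false
universe u
open CategoryTheory AlgebraicGeometry
open Cyc

namespace Groth.Agent.S1916

/-- Let F be a coherent O_X-module on a locally Noetherian scheme X. The irreducible components of Supp
F form a locally finite family of subsets of X, and at every point ξ of Supp F admitting no proper
generalization inside Supp F the stalk F_ξ has finite length over O_{X,ξ}. -/
theorem result (X : Scheme.{u}) [IsLocallyNoetherian X] (F : X.Modules) (hF : Coh.IsCoh F) : LocallyFinite (fun Z : irreducibleComponents {x : X | Nontrivial (F.presheaf.stalk x)} => ((↑) '' (Z : Set {x : X | Nontrivial (F.presheaf.stalk x)}) : Set X)) ∧ ∀ ξ : X, Nontrivial (F.presheaf.stalk ξ) → (∀ x : X, Nontrivial (F.presheaf.stalk x) → x ⤳ ξ → x = ξ) → Module.length (X.presheaf.stalk ξ) (F.presheaf.stalk ξ) < ⊤ := by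
  refine ⟨?_, fun ξ h1 h2 => ?_⟩
  · apply Groth.Agent.Lib.helper8.StalkLen.locallyFinite_irreducibleComponents_image
    intro x
    obtain ⟨_, ⟨U, hU : IsAffineOpen U, rfl⟩, hxU, -⟩ :=
      X.isBasis_affineOpens.exists_subset_of_mem_open (Set.mem_univ x) isOpen_univ
    haveI : IsNoetherianRing Γ(X, U) := IsLocallyNoetherian.component_noetherian ⟨U, hU⟩
    exact ⟨(U : Set X), U.2, hxU, noetherianSpace_of_isAffineOpen U hU⟩
  · exact (Module.length_ne_top_iff.mpr
      ((Groth.Agent.Lib.helper8.StalkLen.minimal_iff_isFiniteLength F hF ξ).mp ⟨h1, h2⟩).2).lt_top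

end Groth.Agent.S1916
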