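import Groth.Statements.S19161
import Groth.Agent.Lib.Helper3.RootD9
import Groth.Agent.S19156

set_option autoImplicit false
open RootPairing
open RootD

namespace Groth.Agent.S19161

open Groth.Agent.Lib.helper3.RootDLib

/-- Let P be a root datum (root pairing over ℤ, finitely many roots), S a system of positive roots, W
the Weyl group, Γ a non-trivial totally ordered commutative group and f₁, f₂ : M → Γ additive maps
which are dominant (f_i(α) ≥ 0 for α ∈ S). Then f₁ ≤ f₂ in the weak dominance order (f₁(m) ≤ f₂(m)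
for every dominant weight m, i.e. every m with ⟨m, α∨⟩ ≥ 0 for all α ∈ S) if and only if, for every
non-empty finite W-stable subset X ⊆ M, the maximum of f₁ on X is at most the maximum of f₂ on X.
(The source phrases the right-hand side through W-invariant elements x of ℕ[M] and the largest
element of the support of f_i(x) in ℤ[Γ]; for ℕ-coefficients that largest element is the maximum of
f_i over the support of x.) -/
theorem result {ι M N : Type*} [AddCommGroup M] [AddCommGroup N]
    (P : RootPairing ι ℤ M N) [Finite ι] (S : Set ι) (hS : RootD.IsPosSys P S)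
    {Γ : Type*} [AddCommGroup Γ] [LinearOrder Γ] [IsOrderedAddMonoid Γ] [Nontrivial Γ] (f₁ f₂ : M →+ Γ)
    (hf₁ : ∀ i ∈ S, 0 ≤ f₁ (P.root i)) (hf₂ : ∀ i ∈ S, 0 ≤ f₂ (P.root i)) :
    (∀ m : M, (∀ i ∈ S, 0 ≤ P.coroot' i m) → f₁ m ≤ f₂ m) ↔
    ∀ (X : Finset M) (hX : X.Nonempty), (∀ g : P.Aut, g ∈ P.weylGroup → ∀ m ∈ X, RootPairing.Equiv.weightHom P g m ∈ X) →
      X.sup' hX f₁ ≤ X.sup' hX f₂ := by
  classical
  haveI : Fintype ι := Fintype.ofFinite ι
  have hB₁ := ((Groth.Agent.S19156.result P S hS f₁).2).mp hf₁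
  have hB₂ := ((Groth.Agent.S19156.result P S hS f₂).2).mp hf₂
  constructor
  · intro h X hX hstab
    obtain ⟨m, hmX, hm⟩ := Finset.exists_mem_eq_sup' hX f₁
    obtain ⟨g, hg, hdom⟩ := exists_weyl_dominant P hS m
    have h1 : f₁ m ≤ f₁ (g • m) := by
      have := hB₁ g⁻¹ (inv_mem hg) (g • m) hdom
      have e : RootPairing.Equiv.weightHom P g⁻¹ (g • m) = m := by
        change g⁻¹ • (g • m) = m
        rw [inv_smul_smul]
      rwa [e] at this
    have h2 : f₁ (g • m) ≤ f₂ (g • m) := h _ hdom
    have h3 : g • m ∈ X := hstab g hg m hmX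
    rw [hm]
    exact le_trans (le_trans h1 h2) (Finset.le_sup' f₂ h3)
  · intro h m hdom
    haveI : Fintype P.weylGroup := Fintype.ofFinite _
    set X : Finset M := Finset.image (fun g : P.weylGroup => (g : P.Aut) • m) Finset.univ with hXdef
    have hmX : m ∈ X := by
      rw [hXdef, Finset.mem_image]
      exact ⟨1, Finset.mem_univ _, by simp⟩
    have hX : X.Nonempty := ⟨m, hmX⟩
    have hstab : ∀ g : P.Aut, g ∈ P.weylGroup → ∀ m' ∈ X, RootPairing.Equiv.weightHom P g m' ∈ X := by
      intro g hg m' hm'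
      rw [hXdef, Finset.mem_image] at hm' ⊢
      obtain ⟨w, _, rfl⟩ := hm'
      refine ⟨⟨g, hg⟩ * w, Finset.mem_univ _, ?_⟩
      change ((g * (w : P.Aut)) • m) = g • ((w : P.Aut) • m)
      rw [mul_smul]
    have h1 := h X hX hstab
    have h2 : X.sup' hX f₂ ≤ f₂ m := by
      apply Finset.sup'_le
      intro m' hm'
      rw [hXdef, Finset.mem_image] at hm'
      obtain ⟨w, _, rfl⟩ := hm'
      exact hB₂ (w : P.Aut) w.2 m hdom
    exact le_trans (le_trans (Finset.le_sup' f₁ hmX) h1) h2

end Groth.Agent.S19161
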