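import Groth.Statements.S19170
import Mathlib
-- import your own Groth.Agent.* helpers here

set_option autoImplicit false
universe u
open ProCompl

namespace Groth.Agent.S19170

section helpers
theorem torsion_QZ : IsAddTorsion (ℚ ⧸ AddSubgroup.zmultiples (1 : ℚ)) := by
  intro x
  obtain ⟨q, rfl⟩ := QuotientAddGroup.mk_surjective x
  rw [isOfFinAddOrder_iff_nsmul_eq_zero]
  refine ⟨q.den, q.den_pos, ?_⟩
  rw [← QuotientAddGroup.mk_nsmul, QuotientAddGroup.eq_zero_iff, AddSubgroup.mem_zmultiples_iff]
  refine ⟨q.num, ?_⟩
  rw [nsmul_eq_mul, zsmul_eq_mul, mul_one, mul_comm, Rat.mul_den_eq_num]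

theorem main
    {B : Type u} [AddCommGroup B] [TopologicalSpace B] [IsTopologicalAddGroup B]
    (hcg : ∃ K : Set B, IsCompact K ∧ AddSubgroup.closure K = ⊤)
    (χ : B →+ ℚ ⧸ AddSubgroup.zmultiples (1 : ℚ)) (hχ : IsOpen (χ.ker : Set B)) : χ.ker.FiniteIndex := by
  obtain ⟨K, hK, hgen⟩ := hcg
  -- finite subcover
  have hU : ∀ k ∈ K, {b | χ b = χ k} ∈ nhds k := by
    intro k _
    have hopen : IsOpen {b | χ b = χ k} := by
      have : {b | χ b = χ k} = (fun b => b - k) ⁻¹' (χ.ker : Set B) := by
        ext b
        simp [AddMonoidHom.mem_ker, sub_eq_zero]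
      rw [this]
      exact hχ.preimage (continuous_id.sub continuous_const)
    exact hopen.mem_nhds rfl
  obtain ⟨t, _, ht⟩ := hK.elim_nhds_subcover (fun k => {b | χ b = χ k}) hU
  have himg : χ '' K ⊆ χ '' (t : Set B) := by
    rintro _ ⟨b, hb, rfl⟩
    obtain ⟨k, hk, hbk⟩ := Set.mem_iUnion₂.1 (ht hb)
    exact ⟨k, hk, hbk.symm⟩
  have hfin : (χ '' K).Finite := (t.finite_toSet.image χ).subset himg
  have hrange : χ.range = AddSubgroup.closure (χ '' K) := by
    rw [AddMonoidHom.range_eq_map, ← hgen, AddMonoidHom.map_closure]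
  have hfg : AddGroup.FG χ.range := by
    rw [AddGroup.fg_iff_addSubgroup_fg, hrange]
    exact ⟨hfin.toFinset, by simp⟩
  have : Finite χ.range :=
    AddCommGroup.finite_of_fg_isAddTorsion (G := χ.range) (torsion_QZ.addSubgroup _)
  exact AddSubgroup.finiteIndex_ker χ
end helpers

/-- Let B be a topological abelian group generated as a group by a compact subset. Then every character
χ : B → ℚ/ℤ with open kernel (a continuous character for discrete ℚ/ℤ) has kernel of finite index;
consequently each such character factors through B^∧, the completion of B taken along its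
finite-index open subgroups, i.e. (B^∧)^D = B^D. (The published statement assumes moreover that B is
Hausdorff, locally compact and totally disconnected; only compact generation is needed for this
assertion, so those assumptions are dropped here.) -/
theorem result
    {B : Type u} [AddCommGroup B] [TopologicalSpace B] [IsTopologicalAddGroup B]
    (hcg : ∃ K : Set B, IsCompact K ∧ AddSubgroup.closure K = ⊤)
    (χ : B →+ ℚ ⧸ AddSubgroup.zmultiples (1 : ℚ)) (hχ : IsOpen (χ.ker : Set B)) : χ.ker.FiniteIndex := by
  exact main hcg χ hχ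

end Groth.Agent.S19170
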