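import Groth.Statements.S19171
import Mathlib
-- import your own Groth.Agent.* helpers here

set_option autoImplicit false
universe u v
open ProCompl

namespace Groth.Agent.S19171

section helpers
open Topology TopologicalSpace
open scoped Pointwise
section VD
variable {B : Type v} [AddCommGroup B] [TopologicalSpace B] [IsTopologicalAddGroup B]

theorem exists_add_nhds {W : Set B} (hWc : IsCompact W) (hWo : IsOpen W) :
    ∃ T ∈ 𝓝 (0 : B), ∀ w ∈ W, ∀ t ∈ T, w + t ∈ W := by
  apply hWc.induction_on (p := fun S => ∃ T ∈ 𝓝 (0 : B), ∀ w ∈ S, ∀ t ∈ T, w + t ∈ W)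
  · exact ⟨Set.univ, Filter.univ_mem, fun w hw => hw.elim⟩
  · rintro s t hst ⟨T, hT, h⟩
    exact ⟨T, hT, fun w hw => h w (hst hw)⟩
  · rintro s t ⟨T₁, hT₁, h₁⟩ ⟨T₂, hT₂, h₂⟩
    refine ⟨T₁ ∩ T₂, Filter.inter_mem hT₁ hT₂, ?_⟩
    rintro w (hw | hw) x hx
    · exact h₁ w hw x hx.1
    · exact h₂ w hw x hx.2
  · intro x hxW
    have hcont : ContinuousAt (fun p : B × B => p.1 + p.2) (x, 0) := continuous_add.continuousAt
    have hmem : W ∈ 𝓝 ((fun p : B × B => p.1 + p.2) (x, 0)) := by
      simpa using hWo.mem_nhds hxW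
    have := hcont hmem
    rw [Filter.mem_map, nhds_prod_eq, Filter.mem_prod_iff] at this
    obtain ⟨U, hU, V, hV, hUV⟩ := this
    refine ⟨U ∩ W, ?_, V, hV, ?_⟩
    · exact mem_nhdsWithin.2 ⟨interior U, isOpen_interior, mem_interior_iff_mem_nhds.2 hU,
        fun y hy => ⟨interior_subset hy.1, hy.2⟩⟩
    · intro w hw t ht
      exact hUV (Set.mk_mem_prod hw.1 ht)

theorem van_dantzig [T2Space B] [LocallyCompactSpace B] [TotallyDisconnectedSpace B]
    {V : Set B} (hV : IsOpen V) (h0 : (0 : B) ∈ V) :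
    ∃ U : AddSubgroup B, IsOpen (U : Set B) ∧ (U : Set B) ⊆ V := by
  obtain ⟨K, hK, h0K, hKV⟩ := exists_compact_subset hV h0
  obtain ⟨W, hWclopen, h0W, hWK⟩ :=
    (loc_compact_Haus_tot_disc_of_zero_dim (H := B)).exists_subset_of_mem_open h0K isOpen_interior
  have hWclopen : IsClopen W := hWclopen
  have hWc : IsCompact W := hK.of_isClosed_subset hWclopen.1 (hWK.trans interior_subset)
  obtain ⟨T, hT, hWT⟩ := exists_add_nhds hWc hWclopen.2
  obtain ⟨T₀, hT₀T, hT₀o, h0T₀⟩ := mem_nhds_iff.1 hT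
  let T' : Set B := T₀ ∩ -T₀
  have hT'nhds : T' ∈ 𝓝 (0 : B) :=
    Filter.inter_mem (hT₀o.mem_nhds h0T₀) (by
      have : (-T₀) ∈ 𝓝 (0 : B) := by
        have := (hT₀o.neg).mem_nhds (show (0 : B) ∈ -T₀ by simpa using h0T₀)
        exact this
      exact this)
  have hq : ∀ x ∈ AddSubgroup.closure T', (∀ w ∈ W, w + x ∈ W) ∧ (∀ w ∈ W, w - x ∈ W) := by
    intro x hx
    induction hx using AddSubgroup.closure_induction with
    | mem x hx =>
      refine ⟨fun w hw => hWT w hw x (hT₀T hx.1), fun w hw => ?_⟩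
      rw [sub_eq_add_neg]
      exact hWT w hw (-x) (hT₀T (by simpa using hx.2))
    | zero => simp
    | add x y _ _ hx hy =>
      refine ⟨fun w hw => ?_, fun w hw => ?_⟩
      · rw [← add_assoc]; exact hy.1 _ (hx.1 w hw)
      · rw [← sub_sub]; exact hy.2 _ (hx.2 w hw)
    | neg x _ hx =>
      refine ⟨fun w hw => ?_, fun w hw => ?_⟩
      · rw [← sub_eq_add_neg]; exact hx.2 w hw
      · rw [sub_neg_eq_add]; exact hx.1 w hw
  refine ⟨AddSubgroup.closure T', ?_, ?_⟩
  · exact AddSubgroup.isOpen_of_mem_nhds _ (g := 0)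
      (Filter.mem_of_superset hT'nhds AddSubgroup.subset_closure)
  · intro x hx
    have := (hq x hx).1 0 h0W
    rw [zero_add] at this
    exact hKV (interior_subset (hWK this))

end VD

theorem main
    {A : Type u} {B : Type v} [AddCommGroup A] [TopologicalSpace A] [IsTopologicalAddGroup A]
    [AddCommGroup B] [TopologicalSpace B] [IsTopologicalAddGroup B]
    [T2Space B] [LocallyCompactSpace B] [TotallyDisconnectedSpace B]
    (i : A →+ B) (hind : IsInducing i)
    (χ : A →+ ℚ ⧸ AddSubgroup.zmultiples (1 : ℚ)) (hχ : IsOpen (χ.ker : Set A)) :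
    ∃ ψ : B →+ ℚ ⧸ AddSubgroup.zmultiples (1 : ℚ), IsOpen (ψ.ker : Set B) ∧ ψ.comp i = χ := by
  -- an open `V` of `B` with `i ⁻¹' V = ker χ`
  obtain ⟨V, hV, hVeq⟩ := hind.isOpen_iff.1 hχ
  have h0V : (0 : B) ∈ V := by
    have : (0 : A) ∈ i ⁻¹' V := by rw [hVeq]; exact χ.ker.zero_mem
    simpa using this
  obtain ⟨U, hUo, hUV⟩ := van_dantzig hV h0V
  have hUker : U.comap i ≤ χ.ker := by
    intro a ha
    have : a ∈ i ⁻¹' V := hUV ha
    rw [hVeq] at this
    exact this
  let ibar : A ⧸ U.comap i →+ B ⧸ U := QuotientAddGroup.map (U.comap i) U i le_rfl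
  have hibar : Function.Injective ibar := by
    rw [injective_iff_map_eq_zero]
    intro x hx
    obtain ⟨a, rfl⟩ := QuotientAddGroup.mk_surjective x
    have : (QuotientAddGroup.mk (i a) : B ⧸ U) = 0 := hx
    rw [QuotientAddGroup.eq_zero_iff] at this ⊢
    exact this
  let χbar : A ⧸ U.comap i →+ ℚ ⧸ AddSubgroup.zmultiples (1 : ℚ) :=
    QuotientAddGroup.lift (U.comap i) χ hUker
  obtain ⟨ψbar, hψbar⟩ :=
    (Module.Baer.of_divisible (ℚ ⧸ AddSubgroup.zmultiples (1 : ℚ))).extension_property_addMonoidHom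
      ibar hibar χbar
  refine ⟨ψbar.comp (QuotientAddGroup.mk' U), ?_, ?_⟩
  · apply AddSubgroup.isOpen_mono (H₁ := U) _ hUo
    intro x hx
    rw [AddMonoidHom.mem_ker, AddMonoidHom.comp_apply, QuotientAddGroup.mk'_apply,
      (QuotientAddGroup.eq_zero_iff x).2 hx, map_zero]
  · ext a
    have h1 : ψbar (ibar (QuotientAddGroup.mk a)) = χbar (QuotientAddGroup.mk a) := by
      rw [← hψbar]; rfl
    exact h1
end helpers

open Topology in
/-- Let B be a Hausdorff, locally compact, totally disconnected topological abelian group generated as a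
group by a compact subset, and let i : A → B be an injective continuous homomorphism inducing the
topology of A from that of B (a strict injection) whose image is closed. Then every character χ : A
→ ℚ/ℤ with open kernel extends along i to a character ψ : B → ℚ/ℤ with open kernel; with ℚ/ℤ
discrete this says that restriction B^D → A^D of continuous characters is surjective, i.e. the dual
of a topological exact sequence 0 → A → B → C → 0 with such B, strict closed i and open p is a short
exact sequence 0 → C^D → B^D → A^D → 0. -/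
theorem result
    {A : Type u} {B : Type v} [AddCommGroup A] [TopologicalSpace A] [IsTopologicalAddGroup A]
    [AddCommGroup B] [TopologicalSpace B] [IsTopologicalAddGroup B]
    [T2Space B] [LocallyCompactSpace B] [TotallyDisconnectedSpace B]
    (hcg : ∃ K : Set B, IsCompact K ∧ AddSubgroup.closure K = ⊤)
    (i : A →+ B) (hi : Continuous i) (hinj : Function.Injective i) (hind : IsInducing i)
    (hcl : IsClosed (Set.range i))
    (χ : A →+ ℚ ⧸ AddSubgroup.zmultiples (1 : ℚ)) (hχ : IsOpen (χ.ker : Set A)) :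
    ∃ ψ : B →+ ℚ ⧸ AddSubgroup.zmultiples (1 : ℚ), IsOpen (ψ.ker : Set B) ∧ ψ.comp i = χ := by
  exact main i hind χ hχ

end Groth.Agent.S19171
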