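import Groth.Statements.S19169
import Mathlib
import Groth.Agent.S19170
import Groth.Agent.S19171
-- import your own Groth.Agent.* helpers here

set_option autoImplicit false
universe u
open ProCompl

namespace Groth.Agent.S19169

section helpers
theorem main
    {B : Type u} [AddCommGroup B] [TopologicalSpace B] [IsTopologicalAddGroup B]
    [T2Space B] [LocallyCompactSpace B] [TotallyDisconnectedSpace B]
    (hcg : ∃ K : Set B, IsCompact K ∧ AddSubgroup.closure K = ⊤) (b : B) (hb : b ≠ 0) :
    ∃ B' : AddSubgroup B, IsOpen (B' : Set B) ∧ B'.FiniteIndex ∧ b ∉ B' := by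
  have hVo : IsOpen ({b}ᶜ : Set B) := isOpen_compl_singleton
  have h0V : (0 : B) ∈ ({b}ᶜ : Set B) := by
    simp only [Set.mem_compl_iff, Set.mem_singleton_iff]
    exact fun h => hb h.symm
  obtain ⟨U, hUo, hUV⟩ := Groth.Agent.S19171.van_dantzig hVo h0V
  have hbU : b ∉ U := fun h => (hUV h) rfl
  have hane : (QuotientAddGroup.mk b : B ⧸ U) ≠ 0 := by
    rwa [Ne, QuotientAddGroup.eq_zero_iff]
  obtain ⟨c, hc⟩ := CharacterModule.exists_character_apply_ne_zero_of_ne_zero hane
  let c' : (B ⧸ U) →+ ℚ ⧸ AddSubgroup.zmultiples (1 : ℚ) := c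
  let ψ : B →+ ℚ ⧸ AddSubgroup.zmultiples (1 : ℚ) := c'.comp (QuotientAddGroup.mk' U)
  have hUψ : U ≤ ψ.ker := by
    intro x hx
    rw [AddMonoidHom.mem_ker]
    change c' (QuotientAddGroup.mk x) = 0
    rw [(QuotientAddGroup.eq_zero_iff x).2 hx, map_zero]
  have hψo : IsOpen (ψ.ker : Set B) := AddSubgroup.isOpen_mono hUψ hUo
  exact ⟨ψ.ker, hψo, Groth.Agent.S19170.result hcg ψ hψo, fun h => hc h⟩
end helpers

/-- Let B be a Hausdorff, locally compact, totally disconnected topological abelian group which is
compactly generated, i.e. generated as a group by a compact subset. Then the open subgroups of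
finite index of B have trivial intersection: every nonzero b lies outside some open subgroup of
finite index. Equivalently, the natural map from B to its completion with respect to open subgroups
of finite index is injective. -/
theorem result
    {B : Type u} [AddCommGroup B] [TopologicalSpace B] [IsTopologicalAddGroup B]
    [T2Space B] [LocallyCompactSpace B] [TotallyDisconnectedSpace B]
    (hcg : ∃ K : Set B, IsCompact K ∧ AddSubgroup.closure K = ⊤) (b : B) (hb : b ≠ 0) :
    ∃ B' : AddSubgroup B, IsOpen (B' : Set B) ∧ B'.FiniteIndex ∧ b ∉ B' := by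
  exact main hcg b hb

end Groth.Agent.S19169
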