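import Groth.Statements.S19172
import Groth.Agent.Lib.Helper3.FICLib
import Mathlib.Topology.Compactness.Compact
import Mathlib.Topology.Separation.Basic

set_option autoImplicit false
universe u v w
open ProCompl

namespace Groth.Agent.S19172

open W4c61motalbduality Groth.Agent.Lib.helper3.FIC

/-- a directed family of nonempty subsets of a finite type has nonempty intersection -/
theorem finite_directed_iInter {X : Type*} [Finite X] {ι : Type*} [Nonempty ι] (T : ι → Set X)
    (hd : Directed (· ⊇ ·) T) (hne : ∀ j, (T j).Nonempty) : (⋂ j, T j).Nonempty := by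
  letI : TopologicalSpace X := ⊥
  haveI : DiscreteTopology X := ⟨rfl⟩
  exact IsCompact.nonempty_iInter_of_directed_nonempty_isCompact_isClosed T hd hne
    (fun j => (Set.toFinite (T j)).isCompact) (fun j => isClosed_discrete _)

/-- the whole group as an open subgroup of finite index -/
def topFI (G : Type*) [AddCommGroup G] [TopologicalSpace G] : OpenFI G where
  toAddSubgroup := ⊤
  isOpen' := by simp
  finiteIndex' := inferInstance

section

variable {B : Type v} {C : Type w}
  [AddCommGroup B] [TopologicalSpace B] [AddCommGroup C] [TopologicalSpace C]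
  (p : B →+ C) (hpo : IsOpenMap p) (hps : Function.Surjective p)

/-- the image of an open subgroup of finite index under an open surjective homomorphism -/
def imgFI (U : OpenFI B) : OpenFI C where
  toAddSubgroup := U.toAddSubgroup.map p
  isOpen' := by
    have := hpo _ U.isOpen'
    simpa using this
  finiteIndex' := by
    haveI := U.finiteIndex'
    exact ⟨fun h => AddSubgroup.FiniteIndex.index_ne_zero (H := U.toAddSubgroup)
      (Nat.eq_zero_of_zero_dvd (h ▸ AddSubgroup.index_map_dvd U.toAddSubgroup hps))⟩

/-- `B ⧸ U → C ⧸ p(U)` -/
def pbar (U : OpenFI B) : B ⧸ U.toAddSubgroup →+ C ⧸ (imgFI p hpo hps U).toAddSubgroup :=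
  QuotientAddGroup.map U.toAddSubgroup (U.toAddSubgroup.map p) p (AddSubgroup.le_comap_map p _)

end

open W4c61motalbduality in
/-- Let i : A → B and p : B → C be continuous homomorphisms of topological abelian groups with p
surjective and open and with the kernel of p equal to the image of i. Then the induced sequence of
completions with respect to open subgroups of finite index, A^∧ → B^∧ → C^∧ → 0, is exact: the map
B^∧ → C^∧ is surjective and its kernel is the image of A^∧. The completion is the group of
compatible families of residues modulo all open subgroups of finite index. (The published statement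
takes i injective, as the first map of an exact sequence 0 → A → B → C → 0 of topological abelian
groups; here it is only assumed that the image of i is the kernel of p, which is all the proof
uses.) -/
theorem result
    {A : Type u} {B : Type v} {C : Type w}
    [AddCommGroup A] [TopologicalSpace A] [IsTopologicalAddGroup A]
    [AddCommGroup B] [TopologicalSpace B] [IsTopologicalAddGroup B]
    [AddCommGroup C] [TopologicalSpace C] [IsTopologicalAddGroup C]
    (i : A →+ B) (hi : Continuous i) (p : B →+ C) (hp : Continuous p)
    (hpo : IsOpenMap p) (hps : Function.Surjective p) (hex : p.ker = i.range) :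
    Function.Surjective (FICompl.map p hp) ∧ (FICompl.map p hp).ker = (FICompl.map i hi).range := by
  constructor
  · -- surjectivity
    intro c
    let S : (U : OpenFI B) → Set (B ⧸ U.toAddSubgroup) :=
      fun U => {b | pbar p hpo hps U b = c.1 (imgFI p hpo hps U)}
    have hne : ∀ U, (S U).Nonempty := by
      intro U
      obtain ⟨c₀, hc₀⟩ := QuotientAddGroup.mk_surjective (c.1 (imgFI p hpo hps U))
      obtain ⟨b₀, rfl⟩ := hps c₀
      exact ⟨QuotientAddGroup.mk b₀, hc₀⟩
    have hcomp : ∀ (U V : OpenFI B) (h : U.toAddSubgroup ≤ V.toAddSubgroup),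
        ∀ x ∈ S U, proj h x ∈ S V := by
      intro U V h x hx
      have hUV : (imgFI p hpo hps U).toAddSubgroup ≤ (imgFI p hpo hps V).toAddSubgroup :=
        AddSubgroup.map_mono h
      have h1 : pbar p hpo hps V (proj h x) = proj hUV (pbar p hpo hps U x) := by
        obtain ⟨b, rfl⟩ := QuotientAddGroup.mk_surjective x
        rfl
      show pbar p hpo hps V (proj h x) = c.1 (imgFI p hpo hps V)
      rw [h1, hx]
      exact c.2 _ _ hUV
    obtain ⟨x, hx⟩ := exists_mem_FICompl S hne hcomp
    refine ⟨x, ?_⟩
    apply Subtype.ext
    funext V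
    have hV : (imgFI p hpo hps (V.comap p hp)).toAddSubgroup ≤ V.toAddSubgroup := by
      show (V.toAddSubgroup.comap p).map p ≤ V.toAddSubgroup
      exact AddSubgroup.map_comap_le p _
    have h1 : (FICompl.map p hp x).1 V = proj hV (pbar p hpo hps (V.comap p hp) (x.1 (V.comap p hp))) := by
      obtain ⟨b, hb⟩ := QuotientAddGroup.mk_surjective (x.1 (V.comap p hp))
      show QuotientAddGroup.map _ _ p _ (x.1 (V.comap p hp)) = _
      rw [← hb]
      rfl
    rw [h1, hx (V.comap p hp)]
    exact c.2 _ _ hV
  · -- kernel = range
    apply le_antisymm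
    · intro b hb
      rw [AddMonoidHom.mem_ker] at hb
      -- step 1: every component of `b` comes from `A`
      have step1 : ∀ U : OpenFI B, ∃ a₀ : A, b.1 U = QuotientAddGroup.mk (i a₀) := by
        intro U
        set V := imgFI p hpo hps U with hV
        have hUU' : U.toAddSubgroup ≤ (V.comap p hp).toAddSubgroup := by
          show U.toAddSubgroup ≤ (U.toAddSubgroup.map p).comap p
          exact AddSubgroup.le_comap_map p _
        obtain ⟨b₀, hb₀⟩ := QuotientAddGroup.mk_surjective (b.1 U)
        have h1 : b.1 (V.comap p hp) = QuotientAddGroup.mk b₀ := by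
          rw [← b.2 U (V.comap p hp) hUU', ← hb₀]
          rfl
        have h2 : (FICompl.map p hp b).1 V = 0 := by rw [hb]; rfl
        have h3 : (QuotientAddGroup.mk (p b₀) : C ⧸ V.toAddSubgroup) = 0 := by
          rw [← h2]
          show _ = QuotientAddGroup.map _ _ p _ (b.1 (V.comap p hp))
          rw [h1]
          rfl
        rw [QuotientAddGroup.eq_zero_iff] at h3
        obtain ⟨u, hu, hpu⟩ := h3
        have h4 : b₀ - u ∈ p.ker := by
          rw [AddMonoidHom.mem_ker, map_sub, hpu, sub_self]
        rw [hex] at h4
        obtain ⟨a₀, ha₀⟩ := h4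
        refine ⟨a₀, ?_⟩
        rw [← hb₀, ha₀]
        rw [QuotientAddGroup.eq]
        have : -b₀ + (b₀ - u) = -u := by abel
        rw [this]
        exact U.toAddSubgroup.neg_mem hu
      -- the constraint sets
      let ibar : (U : OpenFI B) → A ⧸ (U.comap i hi).toAddSubgroup →+ B ⧸ U.toAddSubgroup :=
        fun U => QuotientAddGroup.map (U.comap i hi).toAddSubgroup U.toAddSubgroup i (U.comap_le i)
      let T : (W : OpenFI A) → Set (A ⧸ W.toAddSubgroup) :=
        fun W => {a | ∀ (U : OpenFI B) (h : W.toAddSubgroup ≤ (U.comap i hi).toAddSubgroup),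
          ibar U (proj h a) = b.1 U}
      have hTne : ∀ W, (T W).Nonempty := by
        intro W
        let J := {U : OpenFI B // W.toAddSubgroup ≤ (U.comap i hi).toAddSubgroup}
        haveI : Nonempty J := ⟨⟨topFI B, fun _ _ => trivial⟩⟩
        let TT : J → Set (A ⧸ W.toAddSubgroup) := fun U => {a | ibar U.1 (proj U.2 a) = b.1 U.1}
        have hdir : Directed (· ⊇ ·) TT := by
          intro U U'
          have hW : W.toAddSubgroup ≤ ((inf U.1 U'.1).comap i hi).toAddSubgroup := by
            intro a ha
            exact ⟨U.2 ha, U'.2 ha⟩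
          refine ⟨⟨inf U.1 U'.1, hW⟩, ?_, ?_⟩
          · intro a ha
            have hle : (inf U.1 U'.1).toAddSubgroup ≤ U.1.toAddSubgroup := inf_le_left
            have h1 : ibar U.1 (proj U.2 a) = proj hle (ibar (inf U.1 U'.1) (proj hW a)) := by
              obtain ⟨a₀, rfl⟩ := QuotientAddGroup.mk_surjective a
              rfl
            show ibar U.1 (proj U.2 a) = b.1 U.1
            rw [h1, ha]
            exact b.2 _ _ hle
          · intro a ha
            have hle : (inf U.1 U'.1).toAddSubgroup ≤ U'.1.toAddSubgroup := inf_le_right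
            have h1 : ibar U'.1 (proj U'.2 a) = proj hle (ibar (inf U.1 U'.1) (proj hW a)) := by
              obtain ⟨a₀, rfl⟩ := QuotientAddGroup.mk_surjective a
              rfl
            show ibar U'.1 (proj U'.2 a) = b.1 U'.1
            rw [h1, ha]
            exact b.2 _ _ hle
        have hne : ∀ U : J, (TT U).Nonempty := by
          intro U
          obtain ⟨a₀, ha₀⟩ := step1 U.1
          refine ⟨QuotientAddGroup.mk a₀, ?_⟩
          show ibar U.1 (proj U.2 (QuotientAddGroup.mk a₀)) = b.1 U.1
          rw [ha₀]
          rfl
        obtain ⟨a, ha⟩ := finite_directed_iInter TT hdir hne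
        refine ⟨a, fun U h => ?_⟩
        exact Set.mem_iInter.mp ha ⟨U, h⟩
      have hTcomp : ∀ (W W' : OpenFI A) (h : W.toAddSubgroup ≤ W'.toAddSubgroup),
          ∀ a ∈ T W, proj h a ∈ T W' := by
        intro W W' h a ha U hU
        rw [proj_proj]
        exact ha U (h.trans hU)
      obtain ⟨a, ha⟩ := exists_mem_FICompl T hTne hTcomp
      refine ⟨a, ?_⟩
      apply Subtype.ext
      funext U
      have := ha (U.comap i hi) U (le_refl _)
      rw [proj_refl] at this
      exact this
    · rintro _ ⟨a, rfl⟩
      rw [AddMonoidHom.mem_ker]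
      apply Subtype.ext
      funext V
      obtain ⟨a₀, ha₀⟩ := QuotientAddGroup.mk_surjective (a.1 ((V.comap p hp).comap i hi))
      show QuotientAddGroup.map _ _ p _ (QuotientAddGroup.map _ _ i _
        (a.1 ((V.comap p hp).comap i hi))) = 0
      rw [← ha₀, QuotientAddGroup.map_mk, QuotientAddGroup.map_mk]
      have : p (i a₀) = 0 := by
        have h : i a₀ ∈ p.ker := by rw [hex]; exact ⟨a₀, rfl⟩
        exact h
      rw [this]
      rfl

end Groth.Agent.S19172
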