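import Groth.Statements.S19173
import Mathlib
import Groth.Agent.S19170
import Groth.Agent.S19171
-- import your own Groth.Agent.* helpers here

set_option autoImplicit false
universe u v
open ProCompl

namespace Groth.Agent.S19173

section helpers
open W4c61motalbduality Topology
theorem exists_openFI
    {A : Type u} {B : Type v} [AddCommGroup A] [TopologicalSpace A] [IsTopologicalAddGroup A]
    [AddCommGroup B] [TopologicalSpace B] [IsTopologicalAddGroup B]
    [T2Space B] [LocallyCompactSpace B] [TotallyDisconnectedSpace B]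
    (hcg : ∃ K : Set B, IsCompact K ∧ AddSubgroup.closure K = ⊤)
    (i : A →+ B) (hi : Continuous i) (hinj : Function.Injective i) (hind : IsInducing i)
    (hcl : IsClosed (Set.range i)) (N : OpenFI A) :
    ∃ V : OpenFI B, (V.comap i hi).toAddSubgroup ≤ N.toAddSubgroup := by
  classical
  set N₀ := N.toAddSubgroup with hN₀
  have hfi : N₀.FiniteIndex := N.finiteIndex'
  have : Finite (A ⧸ N₀) := AddSubgroup.finite_quotient_of_finiteIndex
  have hchar : ∀ q : {q : A ⧸ N₀ // q ≠ 0}, ∃ ψ : B →+ ℚ ⧸ AddSubgroup.zmultiples (1 : ℚ),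
      IsOpen (ψ.ker : Set B) ∧ ψ.ker.FiniteIndex ∧
      ∀ a : A, (QuotientAddGroup.mk a : A ⧸ N₀) = q.1 → ψ (i a) ≠ 0 := by
    rintro ⟨q, hq⟩
    obtain ⟨c, hc⟩ := CharacterModule.exists_character_apply_ne_zero_of_ne_zero hq
    let c' : (A ⧸ N₀) →+ ℚ ⧸ AddSubgroup.zmultiples (1 : ℚ) := c
    let χ : A →+ ℚ ⧸ AddSubgroup.zmultiples (1 : ℚ) := c'.comp (QuotientAddGroup.mk' N₀)
    have hNχ : N₀ ≤ χ.ker := by
      intro x hx
      rw [AddMonoidHom.mem_ker]
      change c' (QuotientAddGroup.mk x) = 0
      rw [(QuotientAddGroup.eq_zero_iff x).2 hx, map_zero]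
    have hχo : IsOpen (χ.ker : Set A) := AddSubgroup.isOpen_mono hNχ N.isOpen'
    obtain ⟨ψ, hψo, hψ⟩ := Groth.Agent.S19171.result hcg i hi hinj hind hcl χ hχo
    refine ⟨ψ, hψo, Groth.Agent.S19170.result hcg ψ hψo, ?_⟩
    intro a ha
    have : ψ (i a) = χ a := by rw [← hψ]; rfl
    rw [this]
    change c' (QuotientAddGroup.mk a) ≠ 0
    rw [ha]
    exact hc
  choose ψ hψo hψfi hψne using hchar
  let V₀ : AddSubgroup B := ⨅ q, (ψ q).ker
  have hV₀o : IsOpen (V₀ : Set B) := by
    rw [AddSubgroup.coe_iInf]
    exact isOpen_iInter_of_finite hψo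
  have hV₀fi : V₀.FiniteIndex := AddSubgroup.finiteIndex_iInf hψfi
  refine ⟨⟨V₀, hV₀o, hV₀fi⟩, ?_⟩
  intro a ha
  have ha' : i a ∈ V₀ := ha
  by_contra haN
  have hq : (QuotientAddGroup.mk a : A ⧸ N₀) ≠ 0 := by
    rwa [Ne, QuotientAddGroup.eq_zero_iff]
  have h1 := hψne ⟨_, hq⟩ a rfl
  apply h1
  have := (AddSubgroup.mem_iInf.1 ha') ⟨_, hq⟩
  exact this

theorem main
    {A : Type u} {B : Type v} [AddCommGroup A] [TopologicalSpace A] [IsTopologicalAddGroup A]
    [AddCommGroup B] [TopologicalSpace B] [IsTopologicalAddGroup B]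
    [T2Space B] [LocallyCompactSpace B] [TotallyDisconnectedSpace B]
    (hcg : ∃ K : Set B, IsCompact K ∧ AddSubgroup.closure K = ⊤)
    (i : A →+ B) (hi : Continuous i) (hinj : Function.Injective i) (hind : IsInducing i)
    (hcl : IsClosed (Set.range i)) :
    Function.Injective (FICompl.map i hi) := by
  rw [injective_iff_map_eq_zero]
  intro x hx
  apply Subtype.ext
  funext N
  obtain ⟨V, hVN⟩ := exists_openFI hcg i hi hinj hind hcl N
  have h1 : x.1 (V.comap i hi) = 0 := by
    have hxV : (FICompl.map i hi x).1 V = 0 := by rw [hx]; rfl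
    change QuotientAddGroup.map (V.comap i hi).toAddSubgroup V.toAddSubgroup i
      (V.comap_le i) (x.1 (V.comap i hi)) = 0 at hxV
    obtain ⟨a, ha⟩ := QuotientAddGroup.mk_surjective (x.1 (V.comap i hi))
    rw [← ha] at hxV
    have hxV' : (QuotientAddGroup.mk (i a) : B ⧸ V.toAddSubgroup) = 0 := hxV
    rw [QuotientAddGroup.eq_zero_iff] at hxV'
    rw [← ha, QuotientAddGroup.eq_zero_iff]
    exact hxV'
  have h2 := x.2 (V.comap i hi) N hVN
  rw [← h2, h1, map_zero]
  rfl
end helpers

open W4c61motalbduality Topology in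
/-- Let B be a Hausdorff, locally compact, totally disconnected topological abelian group generated as a
group by a compact subset, and let i : A → B be an injective continuous homomorphism inducing the
topology of A from that of B (a strict injection) with closed image. Then the map induced by i on
completions with respect to open subgroups of finite index is injective; together with right
exactness for open surjections this makes 0 → A^∧ → B^∧ → C^∧ → 0 exact for a topological exact
sequence 0 → A → B → C → 0 with such B, strict closed i and open p. -/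
theorem result
    {A : Type u} {B : Type v} [AddCommGroup A] [TopologicalSpace A] [IsTopologicalAddGroup A]
    [AddCommGroup B] [TopologicalSpace B] [IsTopologicalAddGroup B]
    [T2Space B] [LocallyCompactSpace B] [TotallyDisconnectedSpace B]
    (hcg : ∃ K : Set B, IsCompact K ∧ AddSubgroup.closure K = ⊤)
    (i : A →+ B) (hi : Continuous i) (hinj : Function.Injective i) (hind : IsInducing i)
    (hcl : IsClosed (Set.range i)) :
    Function.Injective (FICompl.map i hi) := by
  exact main hcg i hi hinj hind hcl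

end Groth.Agent.S19173
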