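import Groth.Statements.S19176
import Mathlib
-- import your own Groth.Agent.* helpers here

set_option autoImplicit false
universe u
open PlaneCurve

namespace Groth.Agent.S19176

open MvPolynomial

section
variable (k : Type u) [Field k]

lemma finrank_adjoinRoot_X_pow (n : ℕ) :
    Module.finrank k (AdjoinRoot ((Polynomial.X : Polynomial k) ^ n)) = n := by
  have hm : ((Polynomial.X : Polynomial k) ^ n).Monic := Polynomial.monic_X_pow n
  rw [(AdjoinRoot.powerBasis' hm).finrank]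
  simp

lemma pd0 : pderiv 0 (X 1 ^ 2 - X 0 ^ 3 : MvPolynomial (Fin 2) k) = -(3 * X 0 ^ 2) := by
  simp [Derivation.leibniz_pow, pderiv_X]

lemma pd1 : pderiv 1 (X 1 ^ 2 - X 0 ^ 3 : MvPolynomial (Fin 2) k) = 2 * X 1 := by
  simp [Derivation.leibniz_pow, pderiv_X]

variable {k}

/-- quotient by an ideal containing `x^a` and `y`, contained in the kernel of the evaluation
`x ↦ root, y ↦ 0`, has dimension `a`. -/
lemma finrank_one_var (I : Ideal (MvPolynomial (Fin 2) k)) (a : ℕ)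
    (hx : (X 0 : MvPolynomial (Fin 2) k) ^ a ∈ I) (hy : (X 1 : MvPolynomial (Fin 2) k) ∈ I)
    (hI : ∀ f ∈ I, aeval (R := k) (![AdjoinRoot.root ((Polynomial.X : Polynomial k) ^ a), 0]) f = 0) :
    Module.finrank k (MvPolynomial (Fin 2) k ⧸ I) = a := by
  set r := AdjoinRoot.root ((Polynomial.X : Polynomial k) ^ a) with hr
  let φ : MvPolynomial (Fin 2) k →ₐ[k] AdjoinRoot ((Polynomial.X : Polynomial k) ^ a) :=
    aeval (R := k) (![r, 0])
  let φ' : (MvPolynomial (Fin 2) k ⧸ I) →ₐ[k] AdjoinRoot ((Polynomial.X : Polynomial k) ^ a) :=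
    Ideal.Quotient.liftₐ I φ hI
  let ψ : AdjoinRoot ((Polynomial.X : Polynomial k) ^ a) →ₐ[k] (MvPolynomial (Fin 2) k ⧸ I) :=
    AdjoinRoot.liftAlgHom ((Polynomial.X : Polynomial k) ^ a) (Algebra.ofId _ _)
      (Ideal.Quotient.mk I (X 0)) (by
        simp only [Polynomial.eval₂_pow, Polynomial.eval₂_X, ← map_pow]
        exact Ideal.Quotient.eq_zero_iff_mem.mpr hx)
  have hψ : ψ r = Ideal.Quotient.mk I (X 0) := AdjoinRoot.liftAlgHom_root _ _ _ _
  have hφ' : ∀ f, φ' (Ideal.Quotient.mk I f) = φ f := fun f => rfl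
  have hφ0 : φ (X 0) = r := by simp [φ]
  have hφ1 : φ (X 1) = 0 := by simp [φ]
  have h1 : φ'.comp ψ = AlgHom.id k _ := by
    apply AdjoinRoot.algHom_ext
    rw [AlgHom.comp_apply, ← hr, hψ, hφ', hφ0]
    rfl
  have h2 : ψ.comp φ' = AlgHom.id k _ := by
    apply Ideal.Quotient.algHom_ext
    apply MvPolynomial.algHom_ext
    intro i
    fin_cases i
    · show ψ (φ' (Ideal.Quotient.mk I (X 0))) = Ideal.Quotient.mk I (X 0)
      rw [hφ', hφ0, hψ]
    · show ψ (φ' (Ideal.Quotient.mk I (X 1))) = Ideal.Quotient.mk I (X 1)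
      rw [hφ', hφ1, map_zero]
      exact (Ideal.Quotient.eq_zero_iff_mem.mpr hy).symm
  have e : (MvPolynomial (Fin 2) k ⧸ I) ≃ₐ[k] AdjoinRoot ((Polynomial.X : Polynomial k) ^ a) :=
    AlgEquiv.ofAlgHom φ' ψ h1 h2
  rw [e.toLinearEquiv.finrank_eq]
  exact finrank_adjoinRoot_X_pow k a


open TensorProduct in
/-- quotient by an ideal containing `x^2` and `y^2`, contained in the kernel of the evaluation
`x ↦ root ⊗ 1, y ↦ 1 ⊗ root`, has dimension `4`. -/
lemma finrank_two_var (I : Ideal (MvPolynomial (Fin 2) k))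
    (hx : (X 0 : MvPolynomial (Fin 2) k) ^ 2 ∈ I) (hy : (X 1 : MvPolynomial (Fin 2) k) ^ 2 ∈ I)
    (hI : ∀ f ∈ I, aeval (R := k)
      (![AdjoinRoot.root ((Polynomial.X : Polynomial k) ^ 2) ⊗ₜ[k]
          (1 : AdjoinRoot ((Polynomial.X : Polynomial k) ^ 2)),
        (1 : AdjoinRoot ((Polynomial.X : Polynomial k) ^ 2)) ⊗ₜ[k]
          AdjoinRoot.root ((Polynomial.X : Polynomial k) ^ 2)]) f = 0) :
    Module.finrank k (MvPolynomial (Fin 2) k ⧸ I) = 4 := by
  set r := AdjoinRoot.root ((Polynomial.X : Polynomial k) ^ 2) with hr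
  let φ : MvPolynomial (Fin 2) k →ₐ[k] AdjoinRoot ((Polynomial.X : Polynomial k) ^ 2) ⊗[k]
      AdjoinRoot ((Polynomial.X : Polynomial k) ^ 2) :=
    aeval (R := k) (![r ⊗ₜ[k] 1, 1 ⊗ₜ[k] r])
  let φ' : (MvPolynomial (Fin 2) k ⧸ I) →ₐ[k] AdjoinRoot ((Polynomial.X : Polynomial k) ^ 2) ⊗[k]
      AdjoinRoot ((Polynomial.X : Polynomial k) ^ 2) :=
    Ideal.Quotient.liftₐ I φ hI
  let ψ₀ : AdjoinRoot ((Polynomial.X : Polynomial k) ^ 2) →ₐ[k] (MvPolynomial (Fin 2) k ⧸ I) :=
    AdjoinRoot.liftAlgHom ((Polynomial.X : Polynomial k) ^ 2) (Algebra.ofId _ _)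
      (Ideal.Quotient.mk I (X 0)) (by
        simp only [Polynomial.eval₂_pow, Polynomial.eval₂_X, ← map_pow]
        exact Ideal.Quotient.eq_zero_iff_mem.mpr hx)
  let ψ₁ : AdjoinRoot ((Polynomial.X : Polynomial k) ^ 2) →ₐ[k] (MvPolynomial (Fin 2) k ⧸ I) :=
    AdjoinRoot.liftAlgHom ((Polynomial.X : Polynomial k) ^ 2) (Algebra.ofId _ _)
      (Ideal.Quotient.mk I (X 1)) (by
        simp only [Polynomial.eval₂_pow, Polynomial.eval₂_X, ← map_pow]
        exact Ideal.Quotient.eq_zero_iff_mem.mpr hy)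
  let ψ : AdjoinRoot ((Polynomial.X : Polynomial k) ^ 2) ⊗[k]
      AdjoinRoot ((Polynomial.X : Polynomial k) ^ 2) →ₐ[k] (MvPolynomial (Fin 2) k ⧸ I) :=
    Algebra.TensorProduct.productMap ψ₀ ψ₁
  have hψ₀ : ψ₀ r = Ideal.Quotient.mk I (X 0) := AdjoinRoot.liftAlgHom_root _ _ _ _
  have hψ₁ : ψ₁ r = Ideal.Quotient.mk I (X 1) := AdjoinRoot.liftAlgHom_root _ _ _ _
  have hψl : ψ (r ⊗ₜ[k] 1) = Ideal.Quotient.mk I (X 0) := by
    rw [← hψ₀]; exact Algebra.TensorProduct.productMap_left_apply _ _ _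
  have hψr : ψ (1 ⊗ₜ[k] r) = Ideal.Quotient.mk I (X 1) := by
    rw [← hψ₁]; exact Algebra.TensorProduct.productMap_right_apply _ _ _
  have hφ' : ∀ f, φ' (Ideal.Quotient.mk I f) = φ f := fun f => rfl
  have hφ0 : φ (X 0) = r ⊗ₜ[k] 1 := by simp [φ]
  have hφ1 : φ (X 1) = 1 ⊗ₜ[k] r := by simp [φ]
  have h1 : φ'.comp ψ = AlgHom.id k _ := by
    apply Algebra.TensorProduct.ext
    · apply AdjoinRoot.algHom_ext
      show φ' (ψ (r ⊗ₜ[k] 1)) = r ⊗ₜ[k] 1
      rw [hψl, hφ', hφ0]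
    · apply AdjoinRoot.algHom_ext
      show φ' (ψ (1 ⊗ₜ[k] r)) = 1 ⊗ₜ[k] r
      rw [hψr, hφ', hφ1]
  have h2 : ψ.comp φ' = AlgHom.id k _ := by
    apply Ideal.Quotient.algHom_ext
    apply MvPolynomial.algHom_ext
    intro i
    fin_cases i
    · show ψ (φ' (Ideal.Quotient.mk I (X 0))) = Ideal.Quotient.mk I (X 0)
      rw [hφ', hφ0, hψl]
    · show ψ (φ' (Ideal.Quotient.mk I (X 1))) = Ideal.Quotient.mk I (X 1)
      rw [hφ', hφ1, hψr]
  have e : (MvPolynomial (Fin 2) k ⧸ I) ≃ₐ[k] AdjoinRoot ((Polynomial.X : Polynomial k) ^ 2) ⊗[k]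
      AdjoinRoot ((Polynomial.X : Polynomial k) ^ 2) :=
    AlgEquiv.ofAlgHom φ' ψ h1 h2
  have hm : ((Polynomial.X : Polynomial k) ^ 2).Monic := Polynomial.monic_X_pow 2
  have : Module.Free k (AdjoinRoot ((Polynomial.X : Polynomial k) ^ 2)) :=
    Module.Free.of_basis (AdjoinRoot.powerBasis' hm).basis
  have : Module.Finite k (AdjoinRoot ((Polynomial.X : Polynomial k) ^ 2)) :=
    (AdjoinRoot.powerBasis' hm).finite
  rw [e.toLinearEquiv.finrank_eq, Module.finrank_tensorProduct, finrank_adjoinRoot_X_pow]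

lemma root_pow (a : ℕ) : AdjoinRoot.root ((Polynomial.X : Polynomial k) ^ a) ^ a = 0 := by
  have := AdjoinRoot.eval₂_root ((Polynomial.X : Polynomial k) ^ a)
  simpa using this

lemma root_pow_succ (a : ℕ) :
    AdjoinRoot.root ((Polynomial.X : Polynomial k) ^ a) ^ (a + 1) = 0 := by
  rw [pow_succ, root_pow, zero_mul]

lemma ofNat_eq_zero_of {A : Type*} [CommRing A] [Algebra k A] (n : ℕ) [n.AtLeastTwo]
    (h : (OfNat.ofNat n : k) = 0) : (OfNat.ofNat n : A) = 0 := by
  rw [← map_ofNat (algebraMap k A) n, h, map_zero]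

lemma two_ne_zero_of_ne (p : ℕ) [CharP k p] (hp : p ≠ 2) : (2 : k) ≠ 0 := by
  intro h
  have h2 : ((2 : ℕ) : k) = 0 := by exact_mod_cast h
  rw [CharP.cast_eq_zero_iff k p] at h2
  rcases (Nat.dvd_prime Nat.prime_two).mp h2 with h1 | h1
  · exact CharP.char_ne_one k p h1
  · exact hp h1

lemma three_ne_zero_of_ne (p : ℕ) [CharP k p] (hp : p ≠ 3) : (3 : k) ≠ 0 := by
  intro h
  have h2 : ((3 : ℕ) : k) = 0 := by exact_mod_cast h
  rw [CharP.cast_eq_zero_iff k p] at h2
  rcases (Nat.dvd_prime Nat.prime_three).mp h2 with h1 | h1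
  · exact CharP.char_ne_one k p h1
  · exact hp h1

end

/-- Let k be a field of characteristic p (p = 0 allowed) and F = y² − x³ in k[x, y] (x the variable of
index 0, y of index 1). The singular subscheme of the plane curve F = 0, cut out by F and its two
partial derivatives, is finite over k of degree 4 when p = 2, of degree 3 when p = 3, and of degree
2 otherwise: the k-dimension of k[x, y]/(F, ∂F/∂x, ∂F/∂y) is that number. (The source phrases this
through the complete local ring of a cusp; the row is the computation for the standard cusp y² =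
x³.) -/
theorem result (k : Type u) [Field k] (p : ℕ) [CharP k p] :
    Module.finrank k (MvPolynomial (Fin 2) k ⧸ Ideal.span
      ({X 1 ^ 2 - X 0 ^ 3, pderiv 0 (X 1 ^ 2 - X 0 ^ 3), pderiv 1 (X 1 ^ 2 - X 0 ^ 3)} :
        Set (MvPolynomial (Fin 2) k))) = (if p = 2 then 4 else if p = 3 then 3 else 2) := by
  set I := Ideal.span
      ({X 1 ^ 2 - X 0 ^ 3, pderiv 0 (X 1 ^ 2 - X 0 ^ 3), pderiv 1 (X 1 ^ 2 - X 0 ^ 3)} :
        Set (MvPolynomial (Fin 2) k)) with hIdef
  have hF : (X 1 ^ 2 - X 0 ^ 3 : MvPolynomial (Fin 2) k) ∈ I :=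
    Ideal.subset_span (by simp)
  have hF0 : -(3 * X 0 ^ 2 : MvPolynomial (Fin 2) k) ∈ I := by
    rw [← pd0]; exact Ideal.subset_span (by simp)
  have hF1 : (2 * X 1 : MvPolynomial (Fin 2) k) ∈ I := by
    rw [← pd1]; exact Ideal.subset_span (by simp)
  have key : ∀ {A : Type u} [CommRing A] [Algebra k A] (φ : MvPolynomial (Fin 2) k →ₐ[k] A),
      φ (X 1) ^ 2 - φ (X 0) ^ 3 = 0 → 3 * φ (X 0) ^ 2 = 0 → 2 * φ (X 1) = 0 →
      ∀ f ∈ I, φ f = 0 := by
    intro A _ _ φ h1 h2 h3 f hf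
    have : I ≤ RingHom.ker φ.toRingHom := by
      rw [hIdef, Ideal.span_le]
      intro g hg
      simp only [Set.mem_insert_iff, Set.mem_singleton_iff] at hg
      rcases hg with rfl | rfl | rfl
      · simpa [RingHom.mem_ker] using h1
      · rw [pd0]; simpa [RingHom.mem_ker, map_ofNat] using h2
      · rw [pd1]; simpa [RingHom.mem_ker, map_ofNat] using h3
    exact this hf
  by_cases hp2 : p = 2
  · subst hp2
    rw [if_pos rfl]
    have h2k : (2 : k) = 0 := by exact_mod_cast CharP.cast_eq_zero k 2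
    have h2 : (2 : MvPolynomial (Fin 2) k) = 0 := ofNat_eq_zero_of 2 h2k
    have h3 : (3 : MvPolynomial (Fin 2) k) = 1 := by
      have : (3 : MvPolynomial (Fin 2) k) = 2 + 1 := by norm_num
      rw [this, h2, zero_add]
    have hx : (X 0 : MvPolynomial (Fin 2) k) ^ 2 ∈ I := by
      have := I.neg_mem hF0
      rwa [neg_neg, h3, one_mul] at this
    have hy : (X 1 : MvPolynomial (Fin 2) k) ^ 2 ∈ I := by
      have : (X 1 : MvPolynomial (Fin 2) k) ^ 2 = (X 1 ^ 2 - X 0 ^ 3) + X 0 * X 0 ^ 2 := by ring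
      rw [this]
      exact I.add_mem hF (I.mul_mem_left _ hx)
    refine finrank_two_var I hx hy (key _ ?_ ?_ ?_)
    · have hr := root_pow (k := k) 2
      have hr3 := root_pow_succ (k := k) 2
      simp only [aeval_X, Matrix.cons_val_zero, Matrix.cons_val_one,
        Algebra.TensorProduct.tmul_pow, one_pow]
      rw [hr, hr3]
      simp
    · have hr := root_pow (k := k) 2
      simp only [aeval_X, Matrix.cons_val_zero, Algebra.TensorProduct.tmul_pow, one_pow]
      rw [hr]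
      simp
    · exact mul_eq_zero_of_left (ofNat_eq_zero_of 2 h2k) _
  · rw [if_neg hp2]
    have h2k : (2 : k) ≠ 0 := two_ne_zero_of_ne p hp2
    have hy : (X 1 : MvPolynomial (Fin 2) k) ∈ I := by
      have : (X 1 : MvPolynomial (Fin 2) k) = C (2⁻¹ : k) * (2 * X 1) := by
        rw [← mul_assoc, ← map_ofNat (C (σ := Fin 2) (R := k)) 2, ← C_mul, inv_mul_cancel₀ h2k,
          C_1, one_mul]
      rw [this]
      exact I.mul_mem_left _ hF1
    by_cases hp3 : p = 3
    · subst hp3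
      rw [if_pos rfl]
      have h3k : (3 : k) = 0 := by exact_mod_cast CharP.cast_eq_zero k 3
      have hx : (X 0 : MvPolynomial (Fin 2) k) ^ 3 ∈ I := by
        have : (X 0 : MvPolynomial (Fin 2) k) ^ 3 = X 1 * X 1 - (X 1 ^ 2 - X 0 ^ 3) := by ring
        rw [this]
        exact I.sub_mem (I.mul_mem_left _ hy) hF
      refine finrank_one_var I 3 hx hy (key _ ?_ ?_ ?_)
      · have hr := root_pow (k := k) 3
        simp only [aeval_X, Matrix.cons_val_zero, Matrix.cons_val_one]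
        rw [hr]
        simp
      · exact mul_eq_zero_of_left (ofNat_eq_zero_of 3 h3k) _
      · simp
    · rw [if_neg hp3]
      have h3k : (3 : k) ≠ 0 := three_ne_zero_of_ne p hp3
      have hx : (X 0 : MvPolynomial (Fin 2) k) ^ 2 ∈ I := by
        have : (X 0 : MvPolynomial (Fin 2) k) ^ 2 = C (-(3⁻¹ : k)) * (-(3 * X 0 ^ 2)) := by
          rw [C_neg, neg_mul_neg, ← mul_assoc, ← map_ofNat (C (σ := Fin 2) (R := k)) 3, ← C_mul,
            inv_mul_cancel₀ h3k, C_1, one_mul]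
        rw [this]
        exact I.mul_mem_left _ hF0
      refine finrank_one_var I 2 hx hy (key _ ?_ ?_ ?_)
      · have hr3 := root_pow_succ (k := k) 2
        simp only [aeval_X, Matrix.cons_val_zero, Matrix.cons_val_one]
        rw [hr3]
        simp
      · have hr := root_pow (k := k) 2
        simp only [aeval_X, Matrix.cons_val_zero]
        rw [hr, mul_zero]
      · simp

end Groth.Agent.S19176
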