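import Groth.Statements.S19177
import Mathlib

set_option autoImplicit false
universe u
open CAlg

namespace Groth.Agent.S19177

open Module in
/-- a functional with value 1 at 1 -/
theorem exists_retraction
    (S R : Type u) [CommRing S] [CommRing R] [Algebra S R] [Module.Finite S R] [Module.Projective S R]
    (h2 : ∀ p : PrimeSpectrum S, Module.rankAtStalk (R := S) R p = 2) :
    ∃ φ : R →ₗ[S] S, φ 1 = 1 := by
  classical
  let ev : (R →ₗ[S] S) →ₗ[S] S := LinearMap.applyₗ (1 : R)
  have hev : ∀ φ : R →ₗ[S] S, ev φ = φ 1 := fun φ => rfl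
  suffices h : (LinearMap.range ev : Ideal S) = ⊤ by
    have h1 : (1 : S) ∈ (LinearMap.range ev : Ideal S) := by rw [h]; exact Submodule.mem_top
    obtain ⟨φ, hφ⟩ := h1
    exact ⟨φ, hφ⟩
  by_contra hne
  obtain ⟨m, hm, hle⟩ := Ideal.exists_le_maximal _ hne
  have hmp : m.IsPrime := hm.isPrime
  -- every value lies in m
  have hval : ∀ (φ : R →ₗ[S] S) (r : R), φ r ∈ m := by
    intro φ r
    apply hle
    refine ⟨φ ∘ₗ (LinearMap.mulLeft S r), ?_⟩
    rw [hev, LinearMap.comp_apply, LinearMap.mulLeft_apply, mul_one]
  obtain ⟨s, hs⟩ := (Module.projective_def' (R := S) (P := R)).mp inferInstance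
  have htop : (⊤ : Submodule S R) ≤ m • (⊤ : Submodule S R) := by
    intro r _
    have hr : r = Finsupp.linearCombination S id (s r) := by
      have := LinearMap.congr_fun hs r
      rw [LinearMap.comp_apply, LinearMap.id_apply] at this
      exact this.symm
    rw [hr, Finsupp.linearCombination_apply, Finsupp.sum]
    refine Submodule.sum_mem _ (fun x _ => ?_)
    refine Submodule.smul_mem_smul ?_ Submodule.mem_top
    have := hval ((Finsupp.lapply x) ∘ₗ s) r
    rw [LinearMap.comp_apply, Finsupp.lapply_apply] at this
    exact this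
  obtain ⟨t, ht1, ht2⟩ := Submodule.exists_sub_one_mem_and_smul_eq_zero_of_fg_of_le_smul m
    (⊤ : Submodule S R) (Module.Finite.fg_top) htop
  have htm : t ∉ m := by
    intro htm
    apply hm.ne_top
    rw [Ideal.eq_top_iff_one]
    have : (1 : S) = t - (t - 1) := by ring
    rw [this]
    exact Ideal.sub_mem _ htm ht1
  have h0 : Module.rankAtStalk (R := S) R ⟨m, hmp⟩ = 0 := by
    rw [Module.rankAtStalk_eq_zero_iff_notMem_support, Module.notMem_support_iff']
    intro r
    exact ⟨t, htm, ht2 r Submodule.mem_top⟩
  rw [h2] at h0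
  exact absurd h0 (by norm_num)



/-- Let S → R be a homomorphism of commutative rings making R a finitely generated projective S-module
of rank 2 at every prime of S (the affine form of a finite locally free morphism of degree 2). Then
the cokernel of the (injective) structure map S → R, the S-module R/S, is a projective S-module of
rank 1 at every prime of S (locally free of rank 1). -/
theorem result
    (S R : Type u) [CommRing S] [CommRing R] [Algebra S R] [Module.Finite S R] [Module.Projective S R]
    (h2 : ∀ p : PrimeSpectrum S, Module.rankAtStalk (R := S) R p = 2) :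
    Module.Projective S (R ⧸ LinearMap.range (Algebra.linearMap S R)) ∧
      ∀ p : PrimeSpectrum S,
        Module.rankAtStalk (R := S) (R ⧸ LinearMap.range (Algebra.linearMap S R)) p = 1 := by
  classical
  obtain ⟨φ, hφ⟩ := exists_retraction S R h2
  obtain ⟨ι, hι⟩ : ∃ ι : S →ₗ[S] R, ι = Algebra.linearMap S R := ⟨_, rfl⟩
  have hφι : ∀ a : S, φ (ι a) = a := by
    intro a
    rw [hι, Algebra.linearMap_apply, Algebra.algebraMap_eq_smul_one, map_smul, hφ, smul_eq_mul,
      mul_one]
  -- projection onto the kernel
  let π : R →ₗ[S] LinearMap.ker φ :=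
    LinearMap.codRestrict (LinearMap.ker φ) (LinearMap.id - ι ∘ₗ φ) (by
      intro r
      rw [LinearMap.mem_ker, LinearMap.sub_apply, LinearMap.id_apply, LinearMap.comp_apply,
        map_sub, hφι, sub_self])
  have hπ : ∀ r : R, ((π r : LinearMap.ker φ) : R) = r - ι (φ r) := fun r => rfl
  have hπk : ∀ x : LinearMap.ker φ, π (x : R) = x := by
    intro x
    apply Subtype.ext
    rw [hπ, LinearMap.mem_ker.mp x.2, map_zero, sub_zero]
  have hπsurj : Function.Surjective π := fun x => ⟨x, hπk x⟩
  have hker : LinearMap.ker π = LinearMap.range ι := by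
    ext r
    rw [LinearMap.mem_ker, LinearMap.mem_range]
    constructor
    · intro h
      refine ⟨φ r, ?_⟩
      have := congrArg Subtype.val h
      rw [hπ] at this
      exact (sub_eq_zero.mp this).symm
    · rintro ⟨a, rfl⟩
      apply Subtype.ext
      rw [hπ, hφι, sub_self]
      rfl
  have e1 : (R ⧸ LinearMap.range ι) ≃ₗ[S] LinearMap.ker φ :=
    (Submodule.quotEquivOfEq _ _ hker.symm).trans (LinearMap.quotKerEquivOfSurjective π hπsurj)
  have e2 : R ≃ₗ[S] S × LinearMap.ker φ :=
    LinearEquiv.ofLinearMap (φ.prod π) (ι.coprod (LinearMap.ker φ).subtype)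
      (by
        apply LinearMap.ext
        rintro ⟨a, x⟩
        rw [LinearMap.comp_apply, LinearMap.coprod_apply, LinearMap.prod_apply,
          LinearMap.id_apply, Submodule.subtype_apply]
        apply Prod.ext
        · show φ (ι a + x) = a
          rw [map_add, hφι, LinearMap.mem_ker.mp x.2, add_zero]
        · show π (ι a + x) = x
          rw [map_add, hπk]
          have : π (ι a) = 0 := by
            apply Subtype.ext
            rw [hπ, hφι, sub_self]
            rfl
          rw [this, zero_add])
      (by
        apply LinearMap.ext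
        intro r
        rw [LinearMap.comp_apply, LinearMap.prod_apply, LinearMap.id_apply]
        show ι (φ r) + ((π r : LinearMap.ker φ) : R) = r
        rw [hπ]
        abel)
  haveI hproj : Module.Projective S (LinearMap.ker φ) :=
    Module.Projective.of_split (LinearMap.ker φ).subtype π (by
      apply LinearMap.ext
      intro x
      rw [LinearMap.comp_apply, Submodule.subtype_apply, hπk, LinearMap.id_apply])
  haveI hfin : Module.Finite S (LinearMap.ker φ) := Module.Finite.of_surjective π hπsurj
  subst hι
  refine ⟨Module.Projective.of_equiv e1.symm, ?_⟩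
  intro p
  haveI : Nontrivial S := ⟨⟨0, 1, fun h => p.isPrime.ne_top (by
    rw [Ideal.eq_top_iff_one, ← h]; exact Ideal.zero_mem _)⟩⟩
  rw [Module.rankAtStalk_eq_of_equiv e1]
  have h3 := congrFun (Module.rankAtStalk_eq_of_equiv e2) p
  rw [h2, Module.rankAtStalk_prod, Pi.add_apply, Module.rankAtStalk_self, Pi.one_apply] at h3
  omega


end Groth.Agent.S19177
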