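import Groth.Statements.S19178
import Mathlib.RingTheory.Polynomial.Eisenstein.Criterion
import Mathlib.Algebra.MvPolynomial.Equiv
import Mathlib.Algebra.MvPolynomial.Division
-- import your own Groth.Agent.* helpers here

set_option autoImplicit false
universe u
open Curves

namespace Groth.Agent.S19178

/-- For every field k and every choice of coefficients a₁, a₂, a₃, a₄, a₆ in k, the homogeneous
Weierstrass cubic Y²Z + a₁XYZ + a₃YZ² − (X³ + a₂X²Z + a₄XZ² + a₆Z³) is an irreducible polynomial in
k[X, Y, Z]. Applied to all fields, this says every fibre of the Weierstrass family over the affine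
space of coefficients is geometrically integral. -/
theorem result (k : Type u) [Field k]
    (W : WeierstrassCurve k) :
    Irreducible (WeierstrassCurve.Projective.polynomial W) := by
  classical
  let S := MvPolynomial (Fin 2) k
  let y : S := MvPolynomial.X 0
  let z : S := MvPolynomial.X 1
  let e := MvPolynomial.finSuccEquiv k 2
  let c₂ : S := MvPolynomial.C W.a₂ * z
  let c₁ : S := MvPolynomial.C W.a₄ * z ^ 2 - MvPolynomial.C W.a₁ * y * z
  let c₀ : S := -(y ^ 2 * z + MvPolynomial.C W.a₃ * y * z ^ 2 - MvPolynomial.C W.a₆ * z ^ 3)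
  let g : Polynomial S := Polynomial.C 1 * Polynomial.X ^ 3 + Polynomial.C c₂ * Polynomial.X ^ 2 +
    Polynomial.C c₁ * Polynomial.X + Polynomial.C c₀
  have h0 : e (MvPolynomial.X 0) = Polynomial.X := MvPolynomial.finSuccEquiv_X_zero
  have h1 : e (MvPolynomial.X 1) = Polynomial.C y :=
    MvPolynomial.finSuccEquiv_X_succ (R := k) (n := 2) (j := 0)
  have h2 : e (MvPolynomial.X 2) = Polynomial.C z :=
    MvPolynomial.finSuccEquiv_X_succ (R := k) (n := 2) (j := 1)
  have hC : ∀ a : k, e (MvPolynomial.C a) = Polynomial.C (MvPolynomial.C a) := by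
    intro a
    simp [e, MvPolynomial.finSuccEquiv_apply]
  have heF : e (WeierstrassCurve.Projective.polynomial W) = -g := by
    rw [WeierstrassCurve.Projective.polynomial]
    simp only [map_sub, map_add, map_mul, map_pow, h0, h1, h2, hC, g, c₀, c₁, c₂,
      Polynomial.C_neg, Polynomial.C_1]
    ring
  have hdeg : g.degree = 3 := Polynomial.degree_cubic one_ne_zero
  have hlead : g.leadingCoeff = 1 := Polynomial.leadingCoeff_cubic one_ne_zero
  have hz : z ≠ 0 := MvPolynomial.X_ne_zero 1
  let P : Ideal S := Ideal.span {z}
  have hP : P.IsPrime := (Ideal.span_singleton_prime hz).mpr MvPolynomial.X_prime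
  have hzP : z ∈ P := Ideal.mem_span_singleton_self z
  have hg : Irreducible g := by
    apply Polynomial.irreducible_of_eisenstein_criterion hP
    · rw [hlead]
      exact fun h => hP.ne_top ((Ideal.eq_top_iff_one P).mpr h)
    · intro n hn
      rw [hdeg] at hn
      have hn' : n < 3 := by exact_mod_cast hn
      interval_cases n
      · have : g.coeff 0 = c₀ := by simp [g]
        rw [this]
        have : c₀ = -(y ^ 2 + MvPolynomial.C W.a₃ * y * z - MvPolynomial.C W.a₆ * z ^ 2) * z := by
          simp only [c₀]; ring
        rw [this]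
        exact Ideal.mul_mem_left _ _ hzP
      · have : g.coeff 1 = c₁ := by simp [g]
        rw [this]
        have : c₁ = (MvPolynomial.C W.a₄ * z - MvPolynomial.C W.a₁ * y) * z := by
          simp only [c₁]; ring
        rw [this]
        exact Ideal.mul_mem_left _ _ hzP
      · have : g.coeff 2 = c₂ := by simp [g]
        rw [this]
        exact Ideal.mul_mem_left _ _ hzP
    · rw [hdeg]; norm_num
    · intro hmem
      have hc0 : g.coeff 0 = c₀ := by simp [g]
      rw [hc0, Ideal.span_singleton_pow, Ideal.mem_span_singleton] at hmem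
      obtain ⟨q, hq⟩ := hmem
      have hq' : z * q = -(y ^ 2 + MvPolynomial.C W.a₃ * y * z - MvPolynomial.C W.a₆ * z ^ 2) := by
        apply mul_left_cancel₀ hz
        rw [← mul_assoc, ← pow_two, ← hq]
        simp only [c₀]; ring
      have := congrArg (MvPolynomial.eval ![1, 0]) hq'
      simp [y, z] at this
    · exact (show g.Monic from hlead).isPrimitive
  have hg' : Irreducible (-g) := by
    have hneg : -g = ((-1 : (Polynomial S)ˣ) : Polynomial S) * g := by simp
    rw [hneg]
    exact (irreducible_units_mul (-1 : (Polynomial S)ˣ)).mpr hg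
  rw [← heF] at hg'
  exact (MulEquiv.irreducible_iff e.toMulEquiv).mp hg'


end Groth.Agent.S19178
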