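import Groth.Statements.S1918
import Groth.Agent.Lib.Helper16.CycClosed3

set_option autoImplicit false
universe u
open CategoryTheory AlgebraicGeometry
open CategoryTheory.Limits
open Cyc

namespace Groth.Agent.S1918


open Groth.Agent.Lib.helper16.CycClosed

theorem finsum_split {J : Type*} (p : J → Prop) (F : J → ℤ)
    (hF : (Function.support F).Finite) :
    ∑ᶠ j, F j = ∑ᶠ j : {j // p j}, F j.1 + ∑ᶠ j : {j // ¬ p j}, F j.1 := by
  rw [finsum_subtype_eq_finsum_cond (f := F) p, finsum_subtype_eq_finsum_cond (f := F) (fun j => ¬ p j)]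
  have h := finsum_mem_union' (f := F) (s := {j | p j}) (t := {j | ¬ p j})
    (Set.disjoint_left.2 (fun j hj hj' => hj' hj)) (hF.inter_of_right _) (hF.inter_of_right _)
  have huniv : ({j | p j} ∪ {j | ¬ p j} : Set J) = Set.univ := by
    ext j
    simp only [Set.mem_union, Set.mem_setOf_eq, Set.mem_univ, iff_true]
    exact em _
  rw [huniv, finsum_mem_univ] at h
  exact h

theorem divFun_eq_zero_off {X Z : Scheme.{u}} (ι : Z ⟶ X) [IsClosedImmersion ι] (δ : X → ℤ)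
    (ξ : X) (hξ : ξ ∈ Set.range ι) (f : X.residueField ξ) (x : X) (hx : x ∉ Set.range ι) :
    Cyc.divFun δ ξ f x = 0 := by
  by_contra hne
  obtain ⟨z, rfl⟩ := hξ
  exact hx (mem_range_of_specializes ι z x (divFun_ne_zero_specializes δ _ f x hne).1)

theorem apply_fst_eq_apply_snd {X Y S : Scheme.{u}} (f : X ⟶ S) (g : Y ⟶ S)
    (x' : ↥(pullback f g)) :
    f (pullback.fst f g x') = g (pullback.snd f g x') := by
  have := congrArg (fun φ => φ.base x') (pullback.condition (f := f) (g := g))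
  exact this


/-- Mayer–Vietoris for Chow groups, exactness in the middle: let i₁ : X₁ → X, i₂ : X₂ → X be closed
immersions covering X set-theoretically and X₁₂ = X₁ ×_X X₂ their scheme-theoretic intersection. If
k-cycles α₁ on X₁ and α₂ on X₂ have rationally equivalent pushforwards on X, then there is a k-cycle
β on X₁₂ with α₁ ∼_rat (pr₁)_*β on X₁ and α₂ ∼_rat (pr₂)_*β on X₂. (The published statement also
asserts that CH_k(X₁) ⊕ CH_k(X₂) → CH_k(X) is surjective; that is not asserted here.) Here a pair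
(X, δ) with Cyc.IsSetup plays the role of a scheme locally of finite type over a fixed base with a
dimension function (X locally Noetherian with universally catenary local rings, δ a dimension
function). -/
theorem result (X : Scheme.{u}) (δ : X → ℤ) (hX : Cyc.IsSetup X δ) (X₁ X₂ : Scheme.{u}) (i₁ : X₁ ⟶ X) (i₂ : X₂ ⟶ X) [IsClosedImmersion i₁] [IsClosedImmersion i₂] (hcov : Set.range ⇑i₁ ∪ Set.range ⇑i₂ = Set.univ) (k : ℤ) (α₁ : AlgebraicCycle X₁ ℤ) (α₂ : AlgebraicCycle X₂ ℤ) (h₁ : α₁ ∈ Cyc.Zk X₁ (fun x => δ (i₁ x)) k) (h₂ : α₂ ∈ Cyc.Zk X₂ (fun x => δ (i₂ x)) k) (h : Cyc.RatEquiv δ k (AlgebraicCycle.map i₁ (fun x => δ (i₁ x)) δ α₁) (AlgebraicCycle.map i₂ (fun x => δ (i₂ x)) δ α₂)) : ∃ β : AlgebraicCycle (pullback i₁ i₂) ℤ, β ∈ Cyc.Zk (pullback i₁ i₂) (fun z => δ (i₁ (pullback.fst i₁ i₂ z))) k ∧ Cyc.RatEquiv (fun x => δ (i₁ x)) k α₁ (AlgebraicCycle.map (pullback.fst i₁ i₂) (fun z => δ (i₁ (pullback.fst i₁ i₂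 z))) (fun x => δ (i₁ x)) β) ∧ Cyc.RatEquiv (fun x => δ (i₂ x)) k α₂ (AlgebraicCycle.map (pullback.snd i₁ i₂) (fun z => δ (i₁ (pullback.fst i₁ i₂ z))) (fun x => δ (i₂ x)) β) := by
  haveI : IsLocallyNoetherian X := hX.1
  have hδ : Cyc.IsDimFun X δ := hX.2.2
  obtain ⟨J, ξ, f, hδξ, hf, hlf, hsum⟩ := h
  have hJ₂ : ∀ j : {j : J // ¬ ξ j ∈ Set.range i₁}, ξ j.1 ∈ Set.range i₂ := by
    intro j
    have : ξ j.1 ∈ Set.range i₁ ∪ Set.range i₂ := by rw [hcov]; trivial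
    exact this.resolve_left j.2
  have hlf₁ : ∀ x : X, ∃ U : Set X, IsOpen U ∧ x ∈ U ∧
      {j : {j : J // ξ j ∈ Set.range i₁} | (closure {ξ j.1} ∩ U).Nonempty}.Finite := by
    intro x
    obtain ⟨U, hU, hxU, hfin⟩ := hlf x
    exact ⟨U, hU, hxU, (hfin.preimage Subtype.val_injective.injOn).subset (fun j hj => hj)⟩
  have hlf₂ : ∀ x : X, ∃ U : Set X, IsOpen U ∧ x ∈ U ∧
      {j : {j : J // ¬ ξ j ∈ Set.range i₁} | (closure {ξ j.1} ∩ U).Nonempty}.Finite := by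
    intro x
    obtain ⟨U, hU, hxU, hfin⟩ := hlf x
    exact ⟨U, hU, hxU, (hfin.preimage Subtype.val_injective.injOn).subset (fun j hj => hj)⟩
  obtain ⟨D₁, hD₁, hD₁k, hD₁r⟩ := exists_cycle_restrict_family i₁ δ hδ k
    (fun j : {j : J // ξ j ∈ Set.range i₁} => ξ j.1) (fun j => f j.1) (fun j => hδξ j.1)
    (fun j => hf j.1) hlf₁ (fun j => j.2)
  obtain ⟨D₂, hD₂, hD₂k, hD₂r⟩ := exists_cycle_restrict_family i₂ δ hδ k
    (fun j : {j : J // ¬ ξ j ∈ Set.range i₁} => ξ j.1) (fun j => (f j.1)⁻¹) (fun j => hδξ j.1)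
    (fun j => inv_ne_zero (hf j.1)) hlf₂ hJ₂
  -- the two partial sums
  set S₁ : X → ℤ := fun x => ∑ᶠ j : {j : J // ξ j ∈ Set.range i₁}, Cyc.divFun δ (ξ j.1) (f j.1) x
    with hS₁
  set S₂ : X → ℤ := fun x => ∑ᶠ j : {j : J // ¬ ξ j ∈ Set.range i₁},
    Cyc.divFun δ (ξ j.1) (f j.1) x with hS₂
  have hstar : ∀ x : X, (AlgebraicCycle.map i₁ (fun x => δ (i₁ x)) δ α₁) x -
      (AlgebraicCycle.map i₂ (fun x => δ (i₂ x)) δ α₂) x = S₁ x + S₂ x := by
    intro x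
    have h1 := hsum x
    rw [Function.locallyFinsuppWithin.coe_sub, Pi.sub_apply] at h1
    rw [h1]
    exact finsum_split (fun j => ξ j ∈ Set.range i₁) _ (finite_support_divFun δ ξ f hlf x)
  have hD₂' : ∀ z, D₂ z = - S₂ (i₂ z) := by
    intro z
    rw [hD₂ z, hS₂]
    show _ = - ∑ᶠ j : {j : J // ¬ ξ j ∈ Set.range i₁}, Cyc.divFun δ (ξ j.1) (f j.1) (i₂ z)
    rw [← finsum_neg_distrib]
    apply finsum_congr
    intro j
    exact divFun_inv δ (ξ j.1) (f j.1) (hf j.1) (i₂ z)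
  have hS₁off : ∀ x, x ∉ Set.range i₁ → S₁ x = 0 := by
    intro x hx
    apply finsum_eq_zero_of_forall_eq_zero
    intro j
    exact divFun_eq_zero_off i₁ δ (ξ j.1) j.2 (f j.1) x hx
  have hS₂off : ∀ x, x ∉ Set.range i₂ → S₂ x = 0 := by
    intro x hx
    apply finsum_eq_zero_of_forall_eq_zero
    intro j
    exact divFun_eq_zero_off i₂ δ (ξ j.1) (hJ₂ j) (f j.1) x hx
  set A₁ : AlgebraicCycle X₁ ℤ := α₁ - D₁ with hA₁
  set A₂ : AlgebraicCycle X₂ ℤ := α₂ - D₂ with hA₂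
  have hL₁ : ∀ x, (AlgebraicCycle.map i₁ (fun x => δ (i₁ x)) δ A₁) x =
      (AlgebraicCycle.map i₁ (fun x => δ (i₁ x)) δ α₁) x - S₁ x := by
    intro x
    by_cases hx : x ∈ Set.range i₁
    · obtain ⟨z, rfl⟩ := hx
      rw [map_apply i₁ _ δ (fun _ => rfl), map_apply i₁ _ δ (fun _ => rfl), hA₁,
        Function.locallyFinsuppWithin.coe_sub, Pi.sub_apply, hD₁ z]
    · rw [map_apply_of_notMem_range i₁ _ δ _ x hx, map_apply_of_notMem_range i₁ _ δ _ x hx,
        hS₁off x hx]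
      ring
  have hL₂ : ∀ x, (AlgebraicCycle.map i₂ (fun x => δ (i₂ x)) δ A₂) x =
      (AlgebraicCycle.map i₂ (fun x => δ (i₂ x)) δ α₂) x + S₂ x := by
    intro x
    by_cases hx : x ∈ Set.range i₂
    · obtain ⟨z, rfl⟩ := hx
      rw [map_apply i₂ _ δ (fun _ => rfl), map_apply i₂ _ δ (fun _ => rfl), hA₂,
        Function.locallyFinsuppWithin.coe_sub, Pi.sub_apply, hD₂' z]
      ring
    · rw [map_apply_of_notMem_range i₂ _ δ _ x hx, map_apply_of_notMem_range i₂ _ δ _ x hx,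
        hS₂off x hx]
      ring
  have hdia : ∀ x, (AlgebraicCycle.map i₁ (fun x => δ (i₁ x)) δ A₁) x =
      (AlgebraicCycle.map i₂ (fun x => δ (i₂ x)) δ A₂) x := by
    intro x
    have := hstar x
    rw [hL₁ x, hL₂ x]
    linarith
  -- the cycle on the intersection
  obtain ⟨β, hβ⟩ := exists_restrict (pullback.fst i₁ i₂) A₁
  have hpr₁ : AlgebraicCycle.map (pullback.fst i₁ i₂) (fun z => δ (i₁ (pullback.fst i₁ i₂ z)))
      (fun x => δ (i₁ x)) β = A₁ := by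
    ext z
    by_cases hz : z ∈ Set.range (pullback.fst i₁ i₂)
    · obtain ⟨w, rfl⟩ := hz
      rw [map_apply (pullback.fst i₁ i₂) (fun z => δ (i₁ (pullback.fst i₁ i₂ z)))
        (fun x => δ (i₁ x)) (fun _ => rfl), hβ w]
    · rw [map_apply_of_notMem_range (pullback.fst i₁ i₂) _ _ _ z hz]
      have h1 : i₁ z ∉ Set.range i₂ := by
        rintro ⟨z₂, hz₂⟩
        obtain ⟨w, hw, -⟩ := Scheme.Pullback.exists_preimage_pullback (f := i₁) (g := i₂)
          z z₂ hz₂.symm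
        exact hz ⟨w, hw⟩
      have h2 := hdia (i₁ z)
      rw [map_apply i₁ _ δ (fun _ => rfl), map_apply_of_notMem_range i₂ _ δ _ _ h1] at h2
      exact h2.symm
  have hpr₂ : AlgebraicCycle.map (pullback.snd i₁ i₂) (fun z => δ (i₁ (pullback.fst i₁ i₂ z)))
      (fun x => δ (i₂ x)) β = A₂ := by
    ext z
    by_cases hz : z ∈ Set.range (pullback.snd i₁ i₂)
    · obtain ⟨w, rfl⟩ := hz
      rw [map_apply (pullback.snd i₁ i₂) (fun z => δ (i₁ (pullback.fst i₁ i₂ z)))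
        (fun x => δ (i₂ x)) (fun w => by rw [apply_fst_eq_apply_snd i₁ i₂ w]), hβ w]
      have h2 := hdia (i₁ (pullback.fst i₁ i₂ w))
      rw [map_apply i₁ _ δ (fun _ => rfl), apply_fst_eq_apply_snd i₁ i₂ w,
        map_apply i₂ _ δ (fun _ => rfl)] at h2
      exact h2
    · rw [map_apply_of_notMem_range (pullback.snd i₁ i₂) _ _ _ z hz]
      have h1 : i₂ z ∉ Set.range i₁ := by
        rintro ⟨z₁, hz₁⟩
        obtain ⟨w, -, hw⟩ := Scheme.Pullback.exists_preimage_pullback (f := i₁) (g := i₂)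
          z₁ z hz₁
        exact hz ⟨w, hw⟩
      have h2 := hdia (i₂ z)
      rw [map_apply i₂ _ δ (fun _ => rfl), map_apply_of_notMem_range i₁ _ δ _ _ h1] at h2
      exact h2
  refine ⟨β, ?_, ?_, ?_⟩
  · intro w hw
    rw [hβ w, hA₁, Function.locallyFinsuppWithin.coe_sub, Pi.sub_apply,
      h₁ (pullback.fst i₁ i₂ w) hw, hD₁k (pullback.fst i₁ i₂ w) hw]
    ring
  · unfold Cyc.RatEquiv
    rw [hpr₁, hA₁, sub_sub_cancel]
    exact hD₁r
  · unfold Cyc.RatEquiv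
    rw [hpr₂, hA₂, sub_sub_cancel]
    exact hD₂r

end Groth.Agent.S1918
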