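import Groth.Statements.S19180
import Groth.Agent.S0844
import Groth.Agent.Lib.Helper11.SerreCrit

set_option autoImplicit false
universe u
open Coherent

namespace Groth.Agent.S19180


open CategoryTheory CategoryTheory.Limits AlgebraicGeometry
open Opposite TopologicalSpace
open Groth.Agent.Lib.helper11.SerreCrit Groth.Agent.Lib.helper11.GenLocus

/-- A morphism out of `O` is determined by its global section. -/
theorem hom_ext_sec_top {X : Scheme.{u}} {M : X.Modules} (a b : Coh.structureModule X ⟶ M)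
    (h : sec a ⊤ = sec b ⊤) : a = b := by
  apply M.unitHomEquiv.injective
  apply PresheafOfModules.sections_ext
  intro V
  have ha := (M.unitHomEquiv a).2 (homOfLE (le_top : V.unop ≤ ⊤)).op
  have hb := (M.unitHomEquiv b).2 (homOfLE (le_top : V.unop ≤ ⊤)).op
  rw [← ha, ← hb]
  exact congrArg _ h

theorem splits_of_H1 {X : Scheme.{u}} (S : ShortComplex X.Modules) (hS : S.ShortExact)
    (h1 : Subsingleton (Coh.HH X S.X₁ 1)) (q : S.X₃ ≅ Coh.structureModule X) :
    ∃ s : Coh.structureModule X ⟶ S.X₂, s ≫ S.g ≫ q.hom = 𝟙 _ := by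
  have hsurj := surj_top_of_H1 S hS h1
  obtain ⟨σ, hσ⟩ := hsurj ((q.inv.app ⊤).hom (1 : Γ(X, ⊤)))
  refine ⟨ofSec S.X₂ σ, ?_⟩
  apply hom_ext_sec_top
  change ((q.hom.app ⊤).hom ((S.g.app ⊤).hom (sec (ofSec S.X₂ σ) ⊤))) = (1 : Γ(X, ⊤))
  rw [sec_ofSec]
  have h2 : S.X₂.val.map (homOfLE (le_top : (⊤ : X.Opens) ≤ ⊤)).op σ = σ := by
    have : (homOfLE (le_top : (⊤ : X.Opens) ≤ ⊤)).op = 𝟙 _ := rfl
    rw [this, S.X₂.val.map_id]
    rfl
  rw [h2, hσ]
  exact congrArg (fun φ : Coh.structureModule X ⟶ Coh.structureModule X =>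
    (φ.app ⊤).hom (1 : Γ(X, ⊤))) q.inv_hom_id


open CategoryTheory AlgebraicGeometry in
/-- Let R be a local ring and m ≥ 1, and consider the projective line P¹_R with its structure sheaf O
and twisting sheaf O(m). For every O-module F and every short exact sequence 0 → O(m) → F → O → 0 of
O-modules, the surjection F → O admits a section; consequently F is isomorphic to O(m) ⊕ O. -/
theorem result (R : Type u) [CommRing R] [IsLocalRing R]
    (m : ℕ) (hm : 1 ≤ m) (F : (CohB1.ProjSpace 1 R).Modules)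
    (i : Twist.twistProjSpace 1 R (m : ℤ) ⟶ F) (p : F ⟶ Coh.structureModule (CohB1.ProjSpace 1 R))
    (w : i ≫ p = 0) (hex : (ShortComplex.mk i p w).ShortExact) :
    ∃ s : Coh.structureModule (CohB1.ProjSpace 1 R) ⟶ F, s ≫ p = 𝟙 _ := by
  have h1 : Subsingleton (Coh.HH (CohB1.ProjSpace 1 R) (Twist.twistProjSpace 1 R (m : ℤ)) 1) :=
    Groth.Agent.S0844.result R 1 (m : ℤ) 1 (by omega) (by omega)
  obtain ⟨s, hs⟩ := splits_of_H1 (ShortComplex.mk i p w) hex h1 (Iso.refl _)
  exact ⟨s, by simpa using hs⟩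

end Groth.Agent.S19180
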