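import Groth.Statements.S19181
import Mathlib

set_option autoImplicit false
universe u
open CAlg

namespace Groth.Agent.S19181

section Aux
variable {R : Type u} [CommRing R]

open MvPolynomial in
/-- set `X 0 = 0`, `X 1 = X` -/
noncomputable def eps : MvPolynomial (Fin 2) R →ₐ[R] Polynomial R :=
  MvPolynomial.aeval ![0, Polynomial.X]

open MvPolynomial in
lemma eps_X0 : eps (R := R) (X 0) = 0 := by simp [eps]

open MvPolynomial in
lemma eps_X1 : eps (R := R) (X 1) = Polynomial.X := by simp [eps]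

open MvPolynomial in
lemma eps_C (c : R) : eps (R := R) (C c) = Polynomial.C c := MvPolynomial.aeval_C _ c

open MvPolynomial in
lemma X0_dvd_of_eps_eq_zero (b : MvPolynomial (Fin 2) R) (hb : eps b = 0) : X 0 ∣ b := by
  let J : Ideal (MvPolynomial (Fin 2) R) := Ideal.span {X 0}
  let ι : Polynomial R →ₐ[R] MvPolynomial (Fin 2) R := Polynomial.aeval (X 1)
  have h : (Ideal.Quotient.mkₐ R J) = (Ideal.Quotient.mkₐ R J).comp (ι.comp eps) := by
    apply MvPolynomial.algHom_ext
    intro i
    fin_cases i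
    · show Ideal.Quotient.mk J (X 0) = Ideal.Quotient.mk J (ι (eps (X 0)))
      rw [eps_X0, map_zero, map_zero, Ideal.Quotient.eq_zero_iff_mem]
      exact Ideal.subset_span rfl
    · show Ideal.Quotient.mk J (X 1) = Ideal.Quotient.mk J (ι (eps (X 1)))
      rw [eps_X1]
      show _ = Ideal.Quotient.mk J (Polynomial.aeval (X 1) Polynomial.X)
      rw [Polynomial.aeval_X]
  have h1 : Ideal.Quotient.mk J b = Ideal.Quotient.mk J (ι (eps b)) := AlgHom.congr_fun h b
  rw [hb, map_zero, map_zero, Ideal.Quotient.eq_zero_iff_mem] at h1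
  exact Ideal.mem_span_singleton.mp h1

open MvPolynomial in
lemma sat (g : MvPolynomial (Fin 2) R)
    (hg : ∀ b : Polynomial R, eps g * b = 0 → b = 0) (s : MvPolynomial (Fin 2) R) :
    (∃ n : ℕ, X 0 ^ n * s ∈ Ideal.span ({X 0 ^ 2 * g} : Set (MvPolynomial (Fin 2) R))) ↔
      s ∈ Ideal.span ({g} : Set (MvPolynomial (Fin 2) R)) := by
  have stepA : ∀ a b : MvPolynomial (Fin 2) R, X 0 * a = g * b → ∃ b', a = g * b' := by
    intro a b hab
    have h1 : eps g * eps b = 0 := by
      rw [← map_mul, ← hab, map_mul, eps_X0, zero_mul]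
    obtain ⟨b', rfl⟩ := X0_dvd_of_eps_eq_zero b (hg _ h1)
    refine ⟨b', ?_⟩
    have h2 : X 0 * a = X 0 * (g * b') := by rw [hab]; ring
    exact X_mul_cancel_left_iff.mp h2
  have stepB : ∀ (k : ℕ) (a b : MvPolynomial (Fin 2) R), X 0 ^ k * a = g * b → ∃ b', a = g * b' := by
    intro k
    induction k with
    | zero =>
      intro a b hab
      exact ⟨b, by rw [← hab, pow_zero, one_mul]⟩
    | succ k ih =>
      intro a b hab
      have h1 : X 0 * (X 0 ^ k * a) = g * b := by rw [← hab]; ring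
      obtain ⟨b'', hb''⟩ := stepA _ _ h1
      exact ih a b'' hb''
  constructor
  · rintro ⟨n, hn⟩
    obtain ⟨q, hq⟩ := Ideal.mem_span_singleton.mp hn
    have h1 : X 0 ^ n * s = g * (X 0 ^ 2 * q) := by rw [hq]; ring
    obtain ⟨b', hb'⟩ := stepB n s _ h1
    exact Ideal.mem_span_singleton.mpr ⟨b', hb'⟩
  · intro hs
    obtain ⟨q, rfl⟩ := Ideal.mem_span_singleton.mp hs
    exact ⟨2, Ideal.mem_span_singleton.mpr ⟨q, by ring⟩⟩

end Aux



open MvPolynomial in
/-- Let R be a commutative ring, a₁, a₂ ∈ R, and C ⊂ A²_R the curve y² + a₁xy = x³ + a₂x², blown up at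
the section x = y = 0. In the chart where x = yα (variables y = X 0, α = X 1) the equation of C
becomes y²·g₁ with g₁ = 1 + a₁α − yα³ − a₂α², and the y-saturation of the ideal (y²g₁) is (g₁): for
s ∈ R[y, α], some yⁿs lies in (y²g₁) if and only if s ∈ (g₁). In the chart where y = xβ (variables x
= X 0, β = X 1) the equation becomes x²·g₂ with g₂ = β² + a₁β − x − a₂, and some xⁿs lies in (x²g₂)
if and only if s ∈ (g₂). In other words the strict transform of C is cut out by g₁, resp. g₂, in the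
two charts. -/
theorem result (R : Type u) [CommRing R] (a₁ a₂ : R) :
    (∀ s : MvPolynomial (Fin 2) R,
      (∃ n : ℕ, X 0 ^ n * s ∈ Ideal.span ({X 0 ^ 2 * (1 + C a₁ * X 1 - X 0 * X 1 ^ 3 - C a₂ * X 1 ^ 2)} :
        Set (MvPolynomial (Fin 2) R))) ↔
      s ∈ Ideal.span ({1 + C a₁ * X 1 - X 0 * X 1 ^ 3 - C a₂ * X 1 ^ 2} : Set (MvPolynomial (Fin 2) R))) ∧
    (∀ s : MvPolynomial (Fin 2) R,
      (∃ n : ℕ, X 0 ^ n * s ∈ Ideal.span ({X 0 ^ 2 * (X 1 ^ 2 + C a₁ * X 1 - X 0 - C a₂)} :
        Set (MvPolynomial (Fin 2) R))) ↔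
      s ∈ Ideal.span ({X 1 ^ 2 + C a₁ * X 1 - X 0 - C a₂} : Set (MvPolynomial (Fin 2) R))) := by
  constructor
  · intro s
    apply sat
    intro b hb
    have h1 : eps (R := R) (1 + C a₁ * X 1 - X 0 * X 1 ^ 3 - C a₂ * X 1 ^ 2) =
        1 + Polynomial.C a₁ * Polynomial.X - Polynomial.C a₂ * Polynomial.X ^ 2 := by
      rw [map_sub, map_sub, map_add, map_mul, map_mul, map_mul, map_pow, map_pow, map_one,
        eps_X0, eps_X1, eps_C, eps_C, zero_mul, sub_zero]
    rw [h1] at hb
    have h2 : IsUnit ((1 + Polynomial.C a₁ * Polynomial.X - Polynomial.C a₂ * Polynomial.X ^ 2 :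
        Polynomial R) : PowerSeries R) := by
      rw [PowerSeries.isUnit_iff_constantCoeff, Polynomial.constantCoeff_coe]
      simp
    have h3 : ((1 + Polynomial.C a₁ * Polynomial.X - Polynomial.C a₂ * Polynomial.X ^ 2 :
        Polynomial R) : PowerSeries R) * (b : PowerSeries R) = 0 := by
      rw [← Polynomial.coe_mul, hb, Polynomial.coe_zero]
    have h4 : (b : PowerSeries R) = 0 := (h2.mul_right_eq_zero).mp h3
    exact Polynomial.coe_eq_zero_iff.mp h4
  · intro s
    apply sat
    intro b hb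
    have h1 : eps (R := R) (X 1 ^ 2 + C a₁ * X 1 - X 0 - C a₂) =
        Polynomial.X ^ 2 + (Polynomial.C a₁ * Polynomial.X - Polynomial.C a₂) := by
      rw [map_sub, map_sub, map_add, map_mul, map_pow, eps_X0, eps_X1, eps_C, eps_C, sub_zero]
      ring
    rw [h1] at hb
    rcases subsingleton_or_nontrivial R with hsub | hnt
    · exact Subsingleton.elim _ _
    · have hm : (Polynomial.X ^ 2 + (Polynomial.C a₁ * Polynomial.X - Polynomial.C a₂) :
          Polynomial R).Monic := by
        apply Polynomial.monic_X_pow_add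
        have h5 : (Polynomial.C a₁ * Polynomial.X - Polynomial.C a₂ : Polynomial R) =
            Polynomial.C a₁ * Polynomial.X + Polynomial.C (-a₂) := by
          rw [map_neg, sub_eq_add_neg]
        rw [h5]
        exact lt_of_le_of_lt Polynomial.degree_linear_le
          (by exact_mod_cast (by norm_num : (1 : ℕ) < 2))
      exact hm.mul_right_eq_zero_iff.mp hb


end Groth.Agent.S19181
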