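import Groth.Statements.S19182
import Mathlib

set_option autoImplicit false
universe u
open CAlg

namespace Groth.Agent.S19182



open MvPolynomial in
/-- Let R be a commutative ring and a₁, a₂ ∈ R. The two affine charts of the blow-up of the plane curve
y² + a₁xy = x³ + a₂x² at the section x = y = 0, with coordinate rings R[y, α]/(1 + a₁α − yα³ − a₂α²)
and R[x, β]/(β² + a₁β − x − a₂) (variables indexed 0 and 1 in this order), are smooth R-algebras
(formally smooth of finite presentation). This is the local computation behind the statement that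
the blow-up of a Weierstrass curve along a section through its singular locus is a smooth proper
curve of genus 0. -/
theorem result (R : Type u) [CommRing R] (a₁ a₂ : R) :
    Algebra.Smooth R (MvPolynomial (Fin 2) R ⧸
      Ideal.span ({1 + C a₁ * X 1 - X 0 * X 1 ^ 3 - C a₂ * X 1 ^ 2} : Set (MvPolynomial (Fin 2) R))) ∧
    Algebra.Smooth R (MvPolynomial (Fin 2) R ⧸
      Ideal.span ({X 1 ^ 2 + C a₁ * X 1 - X 0 - C a₂} : Set (MvPolynomial (Fin 2) R))) := by
  classical
  constructor
  · -- first chart: R[α, α⁻¹]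
    let I : Ideal (MvPolynomial (Fin 2) R) :=
      Ideal.span ({1 + C a₁ * X 1 - X 0 * X 1 ^ 3 - C a₂ * X 1 ^ 2} : Set (MvPolynomial (Fin 2) R))
    let L := Localization.Away (Polynomial.X : Polynomial R)
    let t : L := algebraMap (Polynomial R) L Polynomial.X
    let ti : L := IsLocalization.Away.invSelf (Polynomial.X : Polynomial R)
    have htti : t * ti = 1 := IsLocalization.Away.mul_invSelf _
    let y₀ : L := algebraMap (Polynomial R) L
      (1 + Polynomial.C a₁ * Polynomial.X - Polynomial.C a₂ * Polynomial.X ^ 2) * ti ^ 3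
    let φ : MvPolynomial (Fin 2) R →ₐ[R] L := MvPolynomial.aeval ![y₀, t]
    have hφ0 : φ (X 0) = y₀ := by simp [φ]
    have hφ1 : φ (X 1) = t := by simp [φ]
    have hφC : ∀ c : R, φ (C c) = algebraMap R L c := fun c => MvPolynomial.aeval_C _ c
    have halg : ∀ c : R, algebraMap R L c = algebraMap (Polynomial R) L (Polynomial.C c) := by
      intro c
      rw [IsScalarTower.algebraMap_apply R (Polynomial R) L, Polynomial.algebraMap_eq]
    have hφg : φ (1 + C a₁ * X 1 - X 0 * X 1 ^ 3 - C a₂ * X 1 ^ 2) = 0 := by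
      rw [map_sub, map_sub, map_add, map_mul, map_mul, map_mul, map_pow, map_pow, map_one, hφ0,
        hφ1, hφC, hφC, halg, halg]
      show 1 + algebraMap (Polynomial R) L (Polynomial.C a₁) * t -
        algebraMap (Polynomial R) L
          (1 + Polynomial.C a₁ * Polynomial.X - Polynomial.C a₂ * Polynomial.X ^ 2) * ti ^ 3 * t ^ 3
        - algebraMap (Polynomial R) L (Polynomial.C a₂) * t ^ 2 = 0
      have h3 : ti ^ 3 * t ^ 3 = 1 := by rw [← mul_pow, mul_comm, htti, one_pow]
      rw [mul_assoc, h3, mul_one, map_sub, map_add, map_mul, map_mul, map_pow, map_one]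
      ring
    have hφI : ∀ p ∈ I, φ p = 0 := by
      intro p hp
      obtain ⟨q, rfl⟩ := Ideal.mem_span_singleton.mp hp
      rw [map_mul, hφg, zero_mul]
    let f : (MvPolynomial (Fin 2) R ⧸ I) →ₐ[R] L := Ideal.Quotient.liftₐ I φ hφI
    have hfmk : ∀ p, f (Ideal.Quotient.mk I p) = φ p := fun p => rfl
    let ψ₀ : Polynomial R →ₐ[R] (MvPolynomial (Fin 2) R ⧸ I) :=
      Polynomial.aeval (Ideal.Quotient.mk I (X 1))
    have hψX : ψ₀ Polynomial.X = Ideal.Quotient.mk I (X 1) := Polynomial.aeval_X _
    have hψC : ∀ c : R, ψ₀ (Polynomial.C c) = Ideal.Quotient.mk I (C c) := by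
      intro c
      rw [Polynomial.aeval_C]
      rfl
    have hunitX : Ideal.Quotient.mk I (X 1) *
        Ideal.Quotient.mk I (-C a₁ + X 0 * X 1 ^ 2 + C a₂ * X 1) = 1 := by
      rw [← map_mul, ← map_one (Ideal.Quotient.mk I), Ideal.Quotient.eq]
      have h1 : X 1 * (-C a₁ + X 0 * X 1 ^ 2 + C a₂ * X 1) - 1 =
          -(1 + C a₁ * X 1 - X 0 * X 1 ^ 3 - C a₂ * X 1 ^ 2 : MvPolynomial (Fin 2) R) := by ring
      rw [h1]
      exact I.neg_mem (Ideal.subset_span rfl)
    have hunits : ∀ y : Submonoid.powers (Polynomial.X : Polynomial R), IsUnit (ψ₀ y) := by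
      rintro ⟨y, n, rfl⟩
      rw [map_pow, hψX]
      exact (IsUnit.of_mul_eq_one _ hunitX).pow n
    let g : L →ₐ[R] (MvPolynomial (Fin 2) R ⧸ I) :=
      IsLocalization.liftAlgHom (M := Submonoid.powers (Polynomial.X : Polynomial R))
        (f := ψ₀) hunits
    have hgalg : ∀ p : Polynomial R, g (algebraMap (Polynomial R) L p) = ψ₀ p := by
      intro p
      exact IsLocalization.lift_eq _ p
    have hgt : g t = Ideal.Quotient.mk I (X 1) := by rw [hgalg, hψX]
    have hgti : g ti * Ideal.Quotient.mk I (X 1) = 1 := by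
      rw [← hgt, ← map_mul, mul_comm, htti, map_one]
    have h1 : f.comp g = AlgHom.id R L := by
      apply IsLocalization.algHom_ext (Submonoid.powers (Polynomial.X : Polynomial R))
      apply Polynomial.algHom_ext
      show f (g (algebraMap (Polynomial R) L Polynomial.X)) = algebraMap (Polynomial R) L Polynomial.X
      rw [hgalg, hψX, hfmk, hφ1]
    have h2 : g.comp f = AlgHom.id R (MvPolynomial (Fin 2) R ⧸ I) := by
      apply Ideal.Quotient.algHom_ext
      apply MvPolynomial.algHom_ext
      intro i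
      show g (f (Ideal.Quotient.mk I (X i))) = Ideal.Quotient.mk I (X i)
      rw [hfmk]
      fin_cases i
      · show g (φ (X 0)) = Ideal.Quotient.mk I (X 0)
        rw [hφ0]
        show g (algebraMap (Polynomial R) L
          (1 + Polynomial.C a₁ * Polynomial.X - Polynomial.C a₂ * Polynomial.X ^ 2) * ti ^ 3) = _
        rw [map_mul, hgalg, map_pow, map_sub, map_add, map_mul, map_mul, map_pow, map_one, hψX,
          hψC, hψC]
        have h3 : Ideal.Quotient.mk I (X 0) * Ideal.Quotient.mk I (X 1) ^ 3 =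
            1 + Ideal.Quotient.mk I (C a₁) * Ideal.Quotient.mk I (X 1) -
              Ideal.Quotient.mk I (C a₂) * Ideal.Quotient.mk I (X 1) ^ 2 := by
          rw [← map_pow, ← map_pow, ← map_mul, ← map_mul, ← map_mul,
            ← map_one (Ideal.Quotient.mk I), ← map_add, ← map_sub, Ideal.Quotient.eq]
          have h4 : X 0 * X 1 ^ 3 - (1 + C a₁ * X 1 - C a₂ * X 1 ^ 2) =
              -(1 + C a₁ * X 1 - X 0 * X 1 ^ 3 - C a₂ * X 1 ^ 2 : MvPolynomial (Fin 2) R) := by ring
          rw [h4]
          exact I.neg_mem (Ideal.subset_span rfl)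
        rw [← h3, mul_assoc, ← mul_pow, mul_comm (Ideal.Quotient.mk I (X 1)), hgti, one_pow,
          mul_one]
      · show g (φ (X 1)) = Ideal.Quotient.mk I (X 1)
        rw [hφ1, hgt]
    haveI : Algebra.Smooth (Polynomial R) L :=
      Algebra.Smooth.of_isLocalization_Away (Polynomial.X : Polynomial R)
    haveI : Algebra.Smooth R (Polynomial R) := ⟨inferInstance, inferInstance⟩
    haveI : Algebra.Smooth R L := Algebra.Smooth.comp R (Polynomial R) L
    exact Algebra.Smooth.of_equiv (AlgEquiv.ofAlgHom g f h2 h1)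
  · -- second chart: R[β]
    let I : Ideal (MvPolynomial (Fin 2) R) :=
      Ideal.span ({X 1 ^ 2 + C a₁ * X 1 - X 0 - C a₂} : Set (MvPolynomial (Fin 2) R))
    let φ : MvPolynomial (Fin 2) R →ₐ[R] Polynomial R :=
      MvPolynomial.aeval ![Polynomial.X ^ 2 + Polynomial.C a₁ * Polynomial.X - Polynomial.C a₂,
        Polynomial.X]
    have hφ0 : φ (X 0) = Polynomial.X ^ 2 + Polynomial.C a₁ * Polynomial.X - Polynomial.C a₂ := by
      simp [φ]
    have hφ1 : φ (X 1) = Polynomial.X := by simp [φ]
    have hφC : ∀ c : R, φ (C c) = Polynomial.C c := fun c => MvPolynomial.aeval_C _ c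
    have hφg : φ (X 1 ^ 2 + C a₁ * X 1 - X 0 - C a₂) = 0 := by
      rw [map_sub, map_sub, map_add, map_mul, map_pow, hφ0, hφ1, hφC, hφC]
      ring
    have hφI : ∀ p ∈ I, φ p = 0 := by
      intro p hp
      obtain ⟨q, rfl⟩ := Ideal.mem_span_singleton.mp hp
      rw [map_mul, hφg, zero_mul]
    let f : (MvPolynomial (Fin 2) R ⧸ I) →ₐ[R] Polynomial R := Ideal.Quotient.liftₐ I φ hφI
    have hfmk : ∀ p, f (Ideal.Quotient.mk I p) = φ p := fun p => rfl
    let g : Polynomial R →ₐ[R] (MvPolynomial (Fin 2) R ⧸ I) :=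
      Polynomial.aeval (Ideal.Quotient.mk I (X 1))
    have hgX : g Polynomial.X = Ideal.Quotient.mk I (X 1) := Polynomial.aeval_X _
    have hgC : ∀ c : R, g (Polynomial.C c) = Ideal.Quotient.mk I (C c) := by
      intro c
      rw [Polynomial.aeval_C]
      rfl
    have h1 : f.comp g = AlgHom.id R (Polynomial R) := by
      apply Polynomial.algHom_ext
      show f (g Polynomial.X) = Polynomial.X
      rw [hgX, hfmk, hφ1]
    have h2 : g.comp f = AlgHom.id R (MvPolynomial (Fin 2) R ⧸ I) := by
      apply Ideal.Quotient.algHom_ext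
      apply MvPolynomial.algHom_ext
      intro i
      show g (f (Ideal.Quotient.mk I (X i))) = Ideal.Quotient.mk I (X i)
      rw [hfmk]
      fin_cases i
      · show g (φ (X 0)) = Ideal.Quotient.mk I (X 0)
        rw [hφ0, map_sub, map_add, map_mul, map_pow, hgX, hgC, hgC, ← map_pow, ← map_mul,
          ← map_add, ← map_sub, Ideal.Quotient.eq]
        have h4 : X 1 ^ 2 + C a₁ * X 1 - C a₂ - X 0 =
            (X 1 ^ 2 + C a₁ * X 1 - X 0 - C a₂ : MvPolynomial (Fin 2) R) := by ring
        rw [h4]
        exact Ideal.subset_span rfl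
      · show g (φ (X 1)) = Ideal.Quotient.mk I (X 1)
        rw [hφ1, hgX]
    haveI : Algebra.Smooth R (Polynomial R) := ⟨inferInstance, inferInstance⟩
    exact Algebra.Smooth.of_equiv (AlgEquiv.ofAlgHom g f h2 h1)


end Groth.Agent.S19182
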