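import Groth.Statements.S19183
import Mathlib.LinearAlgebra.Dimension.Constructions
import Mathlib.LinearAlgebra.Dimension.Free
import Mathlib.Algebra.Ring.NonZeroDivisors
import Mathlib.RingTheory.Ideal.Span
import Mathlib.Tactic.Ring
import Mathlib.RingTheory.FiniteType

set_option autoImplicit false
universe u
open CAlg

namespace Groth.Agent.S19183

/-- Let A be a non-zero commutative ring and f ∈ A a non-zero-divisor. The fibre product A ×_{A/(f)} A
of two copies of A over A/(f) — the A-submodule of A × A of pairs (x, y) with x − y ∈ (f), which is
the coordinate ring of two copies of Spec A glued along the Cartier divisor f = 0 — is a free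
A-module of rank 2. (This is what makes the gluing of two copies of a curve along an effective
Cartier divisor finite locally free of degree 2 over the curve.) -/
theorem result (A : Type u) [CommRing A] [Nontrivial A]
    (f : A) (hf : f ∈ nonZeroDivisors A) :
    Module.Free A (Submodule.comap (LinearMap.fst A A A - LinearMap.snd A A A) (Ideal.span ({f} : Set A))) ∧
      Module.finrank A (Submodule.comap (LinearMap.fst A A A - LinearMap.snd A A A) (Ideal.span ({f} : Set A))) = 2 := by
  let P : Submodule A (A × A) :=
    Submodule.comap (LinearMap.fst A A A - LinearMap.snd A A A) (Ideal.span ({f} : Set A))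
  let g : A × A →ₗ[A] A × A :=
    { toFun := fun yc => (yc.1 + yc.2 * f, yc.1)
      map_add' := by
        intro x y
        ext
        · simp only [Prod.fst_add, Prod.snd_add]; ring
        · simp
      map_smul' := by
        intro r x
        ext
        · simp only [Prod.smul_fst, Prod.smul_snd, smul_eq_mul, RingHom.id_apply]; ring
        · simp }
  have hg : ∀ yc, g yc ∈ P := by
    intro yc
    change (yc.1 + yc.2 * f) - yc.1 ∈ Ideal.span ({f} : Set A)
    rw [add_sub_cancel_left]
    exact Ideal.mul_mem_left _ _ (Ideal.subset_span (Set.mem_singleton f))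
  let g' : A × A →ₗ[A] P := LinearMap.codRestrict P g hg
  have hinj : Function.Injective g' := by
    intro x y hxy
    have h1 : g x = g y := congrArg Subtype.val hxy
    have h2 : x.1 + x.2 * f = y.1 + y.2 * f := congrArg Prod.fst h1
    have h3 : x.1 = y.1 := congrArg Prod.snd h1
    rw [h3] at h2
    have h4 : x.2 * f = y.2 * f := add_left_cancel h2
    have h5 : x.2 = y.2 := (mul_cancel_right_mem_nonZeroDivisors hf).mp h4
    exact Prod.ext h3 h5
  have hsurj : Function.Surjective g' := by
    rintro ⟨⟨x, y⟩, hp⟩
    have hp' : x - y ∈ Ideal.span ({f} : Set A) := hp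
    obtain ⟨c, hc⟩ := Ideal.mem_span_singleton'.mp hp'
    refine ⟨(y, c), ?_⟩
    apply Subtype.ext
    change (y + c * f, y) = (x, y)
    rw [hc]; simp
  let e : (A × A) ≃ₗ[A] P := LinearEquiv.ofBijective g' ⟨hinj, hsurj⟩
  refine ⟨Module.Free.of_equiv e, ?_⟩
  change Module.finrank A P = 2
  rw [← e.finrank_eq, Module.finrank_prod, Module.finrank_self]

end Groth.Agent.S19183
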