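import Groth.Statements.S19184
import Mathlib

set_option autoImplicit false
universe u
open CAlg

namespace Groth.Agent.S19184



open Polynomial in
/-- Let S be a commutative ring, a, b ∈ S, f = x² + ax + b ∈ S[x] and R = S[x]/(f), a free S-algebra of
rank 2. Let A ⊂ S[x] be the S-subalgebra of polynomials whose class in R lies in the image of S → R;
it is the fibre product S[x] ×_R S, the coordinate ring of the affine line over S with the degree-2
subscheme Spec R collapsed onto Spec S. Then A is a free S-module and S[x] is a finitely generated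
A-module. -/
theorem result (S : Type u) [CommRing S] (a b : S) :
    Module.Free S ((⊥ : Subalgebra S (S[X] ⧸ Ideal.span ({X ^ 2 + C a * X + C b} : Set S[X]))).comap
        (Ideal.Quotient.mkₐ S (Ideal.span ({X ^ 2 + C a * X + C b} : Set S[X])))) ∧
      Module.Finite ((⊥ : Subalgebra S (S[X] ⧸ Ideal.span ({X ^ 2 + C a * X + C b} : Set S[X]))).comap
        (Ideal.Quotient.mkₐ S (Ideal.span ({X ^ 2 + C a * X + C b} : Set S[X])))) S[X] := by
  classical
  rcases subsingleton_or_nontrivial S with hsub | hnt
  · constructor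
    · exact Module.Free.of_subsingleton' S _
    · refine ⟨⟨∅, ?_⟩⟩
      rw [eq_top_iff]
      intro p _
      rw [Subsingleton.elim p 0]
      exact Submodule.zero_mem _
  · have hlin : (C a * X + C b : S[X]).degree < ((2 : ℕ) : WithBot ℕ) :=
      lt_of_le_of_lt degree_linear_le (by exact_mod_cast (by norm_num : (1 : ℕ) < 2))
    have hfeq : (X ^ 2 + C a * X + C b : S[X]) = X ^ 2 + (C a * X + C b) := add_assoc _ _ _
    have hfm : (X ^ 2 + C a * X + C b : S[X]).Monic := by
      rw [hfeq]
      exact monic_X_pow_add hlin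
    have hfnat : (X ^ 2 + C a * X + C b : S[X]).natDegree = 2 := by
      rw [hfeq, natDegree_add_eq_left_of_degree_lt, natDegree_X_pow]
      rw [degree_X_pow]
      exact hlin
    have hfdeg : (X ^ 2 + C a * X + C b : S[X]).degree = ((2 : ℕ) : WithBot ℕ) := by
      rw [degree_eq_natDegree hfm.ne_zero, hfnat]
    have hfne1 : (X ^ 2 + C a * X + C b : S[X]) ≠ 1 := by
      intro h
      rw [h, natDegree_one] at hfnat
      exact absurd hfnat (by norm_num)
    have hmem : ∀ (d : S) (q : S[X]), C d + q * (X ^ 2 + C a * X + C b) ∈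
        ((⊥ : Subalgebra S (S[X] ⧸ Ideal.span ({X ^ 2 + C a * X + C b} : Set S[X]))).comap
          (Ideal.Quotient.mkₐ S (Ideal.span ({X ^ 2 + C a * X + C b} : Set S[X])))) := by
      intro d q
      rw [Subalgebra.mem_comap, Algebra.mem_bot]
      refine ⟨d, ?_⟩
      rw [map_add]
      have h0 : Ideal.Quotient.mkₐ S (Ideal.span ({X ^ 2 + C a * X + C b} : Set S[X]))
          (q * (X ^ 2 + C a * X + C b)) = 0 := by
        rw [Ideal.Quotient.mkₐ_eq_mk, Ideal.Quotient.eq_zero_iff_mem]
        exact Ideal.mul_mem_left _ _ (Ideal.mem_span_singleton_self _)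
      rw [h0, add_zero]
      rfl
    constructor
    · let ψ : (S × S[X]) →ₗ[S]
          ((⊥ : Subalgebra S (S[X] ⧸ Ideal.span ({X ^ 2 + C a * X + C b} : Set S[X]))).comap
          (Ideal.Quotient.mkₐ S (Ideal.span ({X ^ 2 + C a * X + C b} : Set S[X])))) :=
        { toFun := fun dq => ⟨C dq.1 + dq.2 * (X ^ 2 + C a * X + C b), hmem dq.1 dq.2⟩
          map_add' := by
            intro x y
            apply Subtype.ext
            show C (x.1 + y.1) + (x.2 + y.2) * (X ^ 2 + C a * X + C b) =
              (C x.1 + x.2 * (X ^ 2 + C a * X + C b)) + (C y.1 + y.2 * (X ^ 2 + C a * X + C b))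
            rw [C_add]
            ring
          map_smul' := by
            intro c x
            apply Subtype.ext
            show C (c • x.1) + (c • x.2) * (X ^ 2 + C a * X + C b) =
              c • (C x.1 + x.2 * (X ^ 2 + C a * X + C b))
            rw [smul_eq_mul, C_mul, Polynomial.smul_eq_C_mul, Polynomial.smul_eq_C_mul]
            ring }
      have hinj : Function.Injective ψ := by
        rw [injective_iff_map_eq_zero]
        rintro ⟨d, q⟩ h
        have h1 : C d + q * (X ^ 2 + C a * X + C b) = 0 := congrArg Subtype.val h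
        have h2 := div_modByMonic_unique (f := (0 : S[X])) q (C d) hfm
          ⟨by rw [mul_comm]; exact h1, by
            rw [hfdeg]
            exact lt_of_le_of_lt degree_C_le (by exact_mod_cast (by norm_num : (0 : ℕ) < 2))⟩
        rw [zero_divByMonic, zero_modByMonic] at h2
        have hd : d = 0 := C_eq_zero.mp h2.2.symm
        rw [Prod.mk_eq_zero]
        exact ⟨hd, h2.1.symm⟩
      have hsurj : Function.Surjective ψ := by
        rintro ⟨p, hp⟩
        rw [Subalgebra.mem_comap, Algebra.mem_bot] at hp
        obtain ⟨d, hd⟩ := hp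
        have h1 : p - C d ∈ Ideal.span ({X ^ 2 + C a * X + C b} : Set S[X]) := by
          rw [← Ideal.Quotient.eq]
          exact hd.symm
        obtain ⟨q, hq⟩ := Ideal.mem_span_singleton.mp h1
        refine ⟨(d, q), Subtype.ext ?_⟩
        show C d + q * (X ^ 2 + C a * X + C b) = p
        rw [mul_comm, ← hq]
        ring
      exact Module.Free.of_equiv (LinearEquiv.ofBijective ψ ⟨hinj, hsurj⟩)
    · refine ⟨⟨{1, X}, ?_⟩⟩
      rw [Finset.coe_insert, Finset.coe_singleton, eq_top_iff]
      intro p _
      rw [Submodule.mem_span_pair]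
      have hdeg : (p %ₘ (X ^ 2 + C a * X + C b)).natDegree ≤ 1 := by
        have h1 := natDegree_modByMonic_lt p hfm hfne1
        rw [hfnat] at h1
        omega
      have hrem := eq_X_add_C_of_natDegree_le_one hdeg
      have hp := modByMonic_add_div p (X ^ 2 + C a * X + C b)
      refine ⟨⟨C ((p %ₘ (X ^ 2 + C a * X + C b)).coeff 0) +
          (p /ₘ (X ^ 2 + C a * X + C b)) * (X ^ 2 + C a * X + C b), hmem _ _⟩,
        ⟨C ((p %ₘ (X ^ 2 + C a * X + C b)).coeff 1) + 0 * (X ^ 2 + C a * X + C b), hmem _ _⟩, ?_⟩
      rw [Subalgebra.smul_def, Subalgebra.smul_def, smul_eq_mul, smul_eq_mul]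
      conv_rhs => rw [← hp, hrem]
      ring


end Groth.Agent.S19184
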