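import Groth.Statements.S19185
import Mathlib
import Groth.Agent.Lib.Helper6.JacCore
import Groth.Agent.S15555

set_option autoImplicit false
universe u
open Curves

namespace Groth.Agent.S19185

section aux

open MvPolynomial TensorProduct KaehlerDifferential

variable (k : Type u) [Field k]

/-! ### univariate polynomial lemmas -/

theorem coeff_sum_C_mul_X_pow (m : ℕ) (c : Fin m → k) (i : Fin m) :
    (∑ j : Fin m, Polynomial.C (c j) * Polynomial.X ^ (j : ℕ)).coeff i = c i := by
  rw [Polynomial.finsetSum_coeff, Finset.sum_eq_single i]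
  · rw [Polynomial.coeff_C_mul_X_pow, if_pos rfl]
  · intro j _ hj
    rw [Polynomial.coeff_C_mul_X_pow, if_neg]
    intro h
    exact hj (Fin.ext h.symm)
  · intro h
    exact absurd (Finset.mem_univ i) h

theorem sum_C_mul_X_pow_ne_zero (m : ℕ) (c : Fin m → k) (hc : c ≠ 0) :
    (∑ j : Fin m, Polynomial.C (c j) * Polynomial.X ^ (j : ℕ)) ≠ 0 := by
  intro h
  apply hc
  funext i
  have h1 := coeff_sum_C_mul_X_pow k m c i
  rw [h, Polynomial.coeff_zero] at h1
  exact h1.symm

theorem natDegree_sum_C_mul_X_pow_le (m : ℕ) (c : Fin (m + 1) → k) :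
    (∑ j : Fin (m + 1), Polynomial.C (c j) * Polynomial.X ^ (j : ℕ)).natDegree ≤ m := by
  apply Polynomial.natDegree_sum_le_of_forall_le
  intro j _
  exact (Polynomial.natDegree_C_mul_X_pow_le _ _).trans (Nat.lt_succ_iff.mp j.is_lt)

theorem reflect_sum_C_mul_X_pow (m : ℕ) (c : Fin (m + 1) → k) :
    Polynomial.reflect m (∑ j : Fin (m + 1), Polynomial.C (c j) * Polynomial.X ^ (j : ℕ)) =
      ∑ j : Fin (m + 1), Polynomial.C (c j) * Polynomial.X ^ (m - (j : ℕ)) := by
  have hsum : ∀ (s : Finset (Fin (m + 1))) (g : Fin (m + 1) → Polynomial k),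
      Polynomial.reflect m (∑ j ∈ s, g j) = ∑ j ∈ s, Polynomial.reflect m (g j) := by
    intro s g
    induction s using Finset.induction_on with
    | empty => rw [Finset.sum_empty, Finset.sum_empty, Polynomial.reflect_zero]
    | insert x s hx ih =>
      rw [Finset.sum_insert hx, Finset.sum_insert hx, Polynomial.reflect_add, ih]
  rw [hsum]
  refine Finset.sum_congr rfl fun j _ => ?_
  rw [Polynomial.reflect_C_mul_X_pow, Polynomial.revAt_le (Nat.lt_succ_iff.mp j.is_lt)]

theorem natDegree_lt_of_coeff_eq_zero {a : Polynomial k} {m : ℕ} (hm : 0 < m)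
    (ha : a.natDegree ≤ m) (h0 : a.coeff m = 0) : a.natDegree < m := by
  refine lt_of_le_of_ne ha ?_
  intro h
  by_cases ha0 : a = 0
  · rw [ha0, Polynomial.natDegree_zero] at h
    omega
  · apply ha0
    rw [← Polynomial.leadingCoeff_eq_zero]
    show a.coeff a.natDegree = 0
    rw [h]
    exact h0

theorem resultant_ne_zero_iff (a b : Polynomial k) (m n : ℕ) (hm : 0 < m) (hn : 0 < n)
    (ha : a.natDegree ≤ m) (hb : b.natDegree ≤ n) :
    Polynomial.resultant a b m n ≠ 0 ↔ (a.coeff m ≠ 0 ∨ b.coeff n ≠ 0) ∧ IsCoprime a b := by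
  have hres : (a ≠ 0 ∨ b ≠ 0) → (Polynomial.resultant a b ≠ 0 ↔ IsCoprime a b) := by
    intro h0
    rw [Ne, Polynomial.resultant_eq_zero_iff]
    constructor
    · intro h
      by_contra hc
      exact h ⟨h0, hc⟩
    · intro h hc
      exact hc.2 h
  have hA : a.coeff m ≠ 0 → Polynomial.resultant a b m n =
      a.coeff m ^ (n - b.natDegree) * Polynomial.resultant a b := by
    intro h
    have hda : a.natDegree = m := le_antisymm ha (Polynomial.le_natDegree_of_ne_zero h)
    subst hda
    have h1 := Polynomial.resultant_add_right_deg a b a.natDegree b.natDegree (n - b.natDegree)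
      le_rfl
    rw [Nat.add_sub_of_le hb] at h1
    exact h1
  have hB : b.coeff n ≠ 0 → Polynomial.resultant a b m n =
      (-1) ^ (n * (m - a.natDegree)) * b.coeff n ^ (m - a.natDegree) *
        Polynomial.resultant a b := by
    intro h
    have hdb : b.natDegree = n := le_antisymm hb (Polynomial.le_natDegree_of_ne_zero h)
    subst hdb
    have h1 := Polynomial.resultant_add_left_deg a b a.natDegree b.natDegree (m - a.natDegree)
      le_rfl
    rw [Nat.add_sub_of_le ha] at h1
    exact h1
  have h0' : (a.coeff m ≠ 0 ∨ b.coeff n ≠ 0) → (a ≠ 0 ∨ b ≠ 0) := by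
    rintro (h | h)
    · left
      rintro rfl
      exact h (Polynomial.coeff_zero m)
    · right
      rintro rfl
      exact h (Polynomial.coeff_zero n)
  constructor
  · intro hne
    have h01 : a.coeff m ≠ 0 ∨ b.coeff n ≠ 0 := by
      by_contra hcon
      push Not at hcon
      exact hne (Polynomial.resultant_eq_zero_of_lt_lt a b m n
        (natDegree_lt_of_coeff_eq_zero k hm ha hcon.1)
        (natDegree_lt_of_coeff_eq_zero k hn hb hcon.2))
    refine ⟨h01, ?_⟩
    rw [← hres (h0' h01)]
    intro hr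
    rcases h01 with h | h
    · exact hne (by rw [hA h, hr, mul_zero])
    · exact hne (by rw [hB h, hr, mul_zero])
  · rintro ⟨h01, hcop⟩
    have hr := (hres (h0' h01)).mpr hcop
    rcases h01 with h | h
    · rw [hA h]
      exact mul_ne_zero (pow_ne_zero _ h) hr
    · rw [hB h]
      exact mul_ne_zero (mul_ne_zero (pow_ne_zero _ (neg_ne_zero.mpr one_ne_zero))
        (pow_ne_zero _ h)) hr

theorem isCoprime_reflect (a b : Polynomial k) (m n : ℕ) (ha : a.natDegree ≤ m)
    (hb : b.natDegree ≤ n) (hcop : IsCoprime a b) (h : a.coeff m ≠ 0) :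
    IsCoprime (Polynomial.reflect m a) (Polynomial.reflect n b) := by
  obtain ⟨u, v, huv⟩ := hcop
  have h1 : Polynomial.reflect (u.natDegree + v.natDegree + n + m) (u * a) =
      Polynomial.reflect (u.natDegree + v.natDegree + n) u * Polynomial.reflect m a :=
    Polynomial.reflect_mul u a (by omega) ha
  have h2 : Polynomial.reflect (u.natDegree + v.natDegree + m + n) (v * b) =
      Polynomial.reflect (u.natDegree + v.natDegree + m) v * Polynomial.reflect n b :=
    Polynomial.reflect_mul v b (by omega) hb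
  have h3 : u.natDegree + v.natDegree + m + n = u.natDegree + v.natDegree + n + m := by omega
  rw [h3] at h2
  have h4 : (Polynomial.X : Polynomial k) ^ (u.natDegree + v.natDegree + n + m) =
      Polynomial.reflect (u.natDegree + v.natDegree + n) u * Polynomial.reflect m a +
        Polynomial.reflect (u.natDegree + v.natDegree + m) v * Polynomial.reflect n b := by
    rw [← h1, ← h2, ← Polynomial.reflect_add, huv, Polynomial.reflect_one]
  have h5 : (Polynomial.reflect m a).coeff 0 = a.coeff m := by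
    rw [Polynomial.coeff_reflect, Polynomial.revAt_zero]
  have h7 := Polynomial.divX_mul_X_add (Polynomial.reflect m a)
  have h8 : Polynomial.reflect m a - (Polynomial.reflect m a).divX * Polynomial.X =
      Polynomial.C ((Polynomial.reflect m a).coeff 0) := by
    rw [sub_eq_iff_eq_add']
    exact h7.symm
  have h6 : IsCoprime (Polynomial.reflect m a) Polynomial.X := by
    refine ⟨Polynomial.C (a.coeff m)⁻¹,
      -(Polynomial.C (a.coeff m)⁻¹ * (Polynomial.reflect m a).divX), ?_⟩
    calc Polynomial.C (a.coeff m)⁻¹ * Polynomial.reflect m a +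
          -(Polynomial.C (a.coeff m)⁻¹ * (Polynomial.reflect m a).divX) * Polynomial.X
        = Polynomial.C (a.coeff m)⁻¹ * (Polynomial.reflect m a -
            (Polynomial.reflect m a).divX * Polynomial.X) := by ring
      _ = 1 := by
        rw [h8, h5, ← Polynomial.C_mul, inv_mul_cancel₀ h, Polynomial.C_1]
  obtain ⟨r, s, hrs⟩ := h6.pow_right (n := u.natDegree + v.natDegree + n + m)
  refine ⟨r + s * Polynomial.reflect (u.natDegree + v.natDegree + n) u,
    s * Polynomial.reflect (u.natDegree + v.natDegree + m) v, ?_⟩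
  calc (r + s * Polynomial.reflect (u.natDegree + v.natDegree + n) u) * Polynomial.reflect m a +
        s * Polynomial.reflect (u.natDegree + v.natDegree + m) v * Polynomial.reflect n b
      = r * Polynomial.reflect m a + s * (Polynomial.reflect (u.natDegree + v.natDegree + n) u *
          Polynomial.reflect m a + Polynomial.reflect (u.natDegree + v.natDegree + m) v *
            Polynomial.reflect n b) := by ring
    _ = r * Polynomial.reflect m a +
          s * Polynomial.X ^ (u.natDegree + v.natDegree + n + m) := by rw [h4]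
    _ = 1 := hrs

theorem coeff_ne_zero_of_isCoprime_reflect (a b : Polynomial k) (m n : ℕ)
    (hcop : IsCoprime (Polynomial.reflect m a) (Polynomial.reflect n b)) :
    a.coeff m ≠ 0 ∨ b.coeff n ≠ 0 := by
  by_contra hcon
  push Not at hcon
  have h1 : Polynomial.X ∣ Polynomial.reflect m a := by
    rw [Polynomial.X_dvd_iff, Polynomial.coeff_reflect, Polynomial.revAt_zero]
    exact hcon.1
  have h2 : Polynomial.X ∣ Polynomial.reflect n b := by
    rw [Polynomial.X_dvd_iff, Polynomial.coeff_reflect, Polynomial.revAt_zero]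
    exact hcon.2
  exact Polynomial.not_isUnit_X (hcop.isUnit_of_dvd' h1 h2)

/-! ### Jacobian criterion for hypersurfaces in affine space -/

theorem exists_pderiv_ne_zero_of_smooth {σ : Type} [Fintype σ] [DecidableEq σ]
    (f : MvPolynomial σ k) (hf : f ≠ 0)
    (hsm : Algebra.Smooth k (MvPolynomial σ k ⧸ Ideal.span {f}))
    {K : Type u} [Field K] (φ : MvPolynomial σ k →+* K) (hφ : φ f = 0) :
    ∃ v, φ (pderiv v f) ≠ 0 := by
  classical
  have hI : ∀ a ∈ Ideal.span {f}, φ a = 0 := by
    intro a ha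
    rw [Ideal.mem_span_singleton'] at ha
    obtain ⟨c, rfl⟩ := ha
    rw [map_mul, hφ, mul_zero]
  let φb : (MvPolynomial σ k ⧸ Ideal.span {f}) →+* K := Ideal.Quotient.lift _ φ hI
  haveI hprime : (RingHom.ker φb).IsPrime := RingHom.ker_isPrime φb
  have hmem : ∀ x : MvPolynomial σ k,
      algebraMap (MvPolynomial σ k) (MvPolynomial σ k ⧸ Ideal.span {f}) x ∈ RingHom.ker φb ↔
        φ x = 0 := by
    intro x
    rw [RingHom.mem_ker]
    exact Iff.rfl
  have hsmp : Algebra.IsSmoothAt k (RingHom.ker φb) := by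
    haveI := hsm
    haveI : Algebra.FormallyEtale (MvPolynomial σ k ⧸ Ideal.span {f})
        (Localization.AtPrime (RingHom.ker φb)) :=
      Algebra.FormallyEtale.of_isLocalization (RingHom.ker φb).primeCompl
    exact Algebra.FormallySmooth.comp k (MvPolynomial σ k ⧸ Ideal.span {f}) _
  have hXP : Algebra.FormallySmooth k (Localization.AtPrime
      (Ideal.comap (algebraMap (MvPolynomial σ k) (MvPolynomial σ k ⧸ Ideal.span {f}))
        (RingHom.ker φb))) := by
    haveI : Algebra.FormallyEtale (MvPolynomial σ k) (Localization.AtPrime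
        (Ideal.comap (algebraMap (MvPolynomial σ k) (MvPolynomial σ k ⧸ Ideal.span {f}))
          (RingHom.ker φb))) :=
      Algebra.FormallyEtale.of_isLocalization
        (Ideal.comap (algebraMap (MvPolynomial σ k) (MvPolynomial σ k ⧸ Ideal.span {f}))
          (RingHom.ker φb)).primeCompl
    exact Algebra.FormallySmooth.comp k (MvPolynomial σ k) _
  have hiff := Groth.Agent.Lib.helper6.JacCore.isSmoothAt_iff k (MvPolynomial σ k)
    (MvPolynomial σ k ⧸ Ideal.span {f}) f (RingHom.ker φb) Ideal.Quotient.mk_surjective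
    (by rw [Ideal.Quotient.algebraMap_eq, Ideal.mk_ker]) hXP
  rcases hiff.mp hsmp with h0 | h0
  · exfalso
    have hinj : Function.Injective (algebraMap (MvPolynomial σ k) (Localization.AtPrime
        (Ideal.comap (algebraMap (MvPolynomial σ k) (MvPolynomial σ k ⧸ Ideal.span {f}))
          (RingHom.ker φb)))) :=
      IsLocalization.injective _ (Ideal.primeCompl_le_nonZeroDivisors
        (Ideal.comap (algebraMap (MvPolynomial σ k) (MvPolynomial σ k ⧸ Ideal.span {f}))
          (RingHom.ker φb)))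
    exact hf (hinj (by rw [h0, map_zero]))
  · by_contra hall
    push Not at hall
    apply h0
    have hG : ∀ v, algebraMap (MvPolynomial σ k) (RingHom.ker φb).ResidueField
        (algebraMap (MvPolynomial σ k) (MvPolynomial σ k) (pderiv v f)) = 0 := by
      intro v
      show algebraMap (MvPolynomial σ k) (RingHom.ker φb).ResidueField (pderiv v f) = 0
      rw [IsScalarTower.algebraMap_apply (MvPolynomial σ k) (MvPolynomial σ k ⧸ Ideal.span {f})
        (RingHom.ker φb).ResidueField, Ideal.algebraMap_residueField_eq_zero, hmem]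
      exact hall v
    exact Groth.Agent.S15555.tmul_D_eq_zero k (MvPolynomial σ k) (RingHom.ker φb).ResidueField f hG

theorem smooth_of_forall_prime {σ : Type} [Fintype σ] [DecidableEq σ]
    (f : MvPolynomial σ k)
    (h : ∀ q : Ideal (MvPolynomial σ k), q.IsPrime → f ∈ q → ∃ v, pderiv v f ∉ q) :
    Algebra.Smooth k (MvPolynomial σ k ⧸ Ideal.span {f}) := by
  classical
  haveI : Algebra.FinitePresentation k (MvPolynomial σ k ⧸ Ideal.span {f}) :=
    Algebra.FinitePresentation.quotient (Submodule.fg_span (Set.finite_singleton f))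
  have hloc : Algebra.smoothLocus k (MvPolynomial σ k ⧸ Ideal.span {f}) = Set.univ := by
    rw [Set.eq_univ_iff_forall]
    intro p
    show Algebra.IsSmoothAt k p.asIdeal
    have hXP : Algebra.FormallySmooth k (Localization.AtPrime
        (Ideal.comap (algebraMap (MvPolynomial σ k) (MvPolynomial σ k ⧸ Ideal.span {f}))
          p.asIdeal)) := by
      haveI : Algebra.FormallyEtale (MvPolynomial σ k) (Localization.AtPrime
          (Ideal.comap (algebraMap (MvPolynomial σ k) (MvPolynomial σ k ⧸ Ideal.span {f}))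
            p.asIdeal)) :=
        Algebra.FormallyEtale.of_isLocalization
          (Ideal.comap (algebraMap (MvPolynomial σ k) (MvPolynomial σ k ⧸ Ideal.span {f}))
            p.asIdeal).primeCompl
      exact Algebra.FormallySmooth.comp k (MvPolynomial σ k) _
    refine (Groth.Agent.Lib.helper6.JacCore.isSmoothAt_iff k (MvPolynomial σ k)
      (MvPolynomial σ k ⧸ Ideal.span {f}) f p.asIdeal Ideal.Quotient.mk_surjective
      (by rw [Ideal.Quotient.algebraMap_eq, Ideal.mk_ker]) hXP).mpr (Or.inr ?_)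
    have hfq : f ∈ Ideal.comap (algebraMap (MvPolynomial σ k)
        (MvPolynomial σ k ⧸ Ideal.span {f})) p.asIdeal := by
      rw [Ideal.mem_comap, Ideal.Quotient.algebraMap_eq,
        Ideal.Quotient.eq_zero_iff_mem.mpr (Ideal.mem_span_singleton_self f)]
      exact zero_mem _
    obtain ⟨v, hv⟩ := h (Ideal.comap (algebraMap (MvPolynomial σ k)
      (MvPolynomial σ k ⧸ Ideal.span {f})) p.asIdeal) inferInstance hfq
    apply Groth.Agent.S15555.tmul_D_ne_zero k _ f v
    rw [IsScalarTower.algebraMap_apply (MvPolynomial σ k) (MvPolynomial σ k ⧸ Ideal.span {f})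
      p.asIdeal.ResidueField, Ne, Ideal.algebraMap_residueField_eq_zero]
    exact hv
  haveI : Algebra.FormallySmooth k (MvPolynomial σ k ⧸ Ideal.span {f}) :=
    Algebra.smoothLocus_eq_univ_iff.mp hloc
  exact ⟨inferInstance, inferInstance⟩

/-! ### the plane curves `a(t) + b(t) w` and `a(t) w + b(t)` -/

/-- `k[t] → k[t, w]`. -/
noncomputable abbrev ι : Polynomial k →ₐ[k] MvPolynomial (Fin 2) k :=
  Polynomial.aeval (X 0 : MvPolynomial (Fin 2) k)

theorem pderiv_zero_ι (c : Polynomial k) :
    pderiv (0 : Fin 2) (ι k c) = ι k (Polynomial.derivative c) := by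
  have h := Derivation.comp_aeval_eq (X 0 : MvPolynomial (Fin 2) k)
    (pderiv (0 : Fin 2) : Derivation k (MvPolynomial (Fin 2) k) (MvPolynomial (Fin 2) k)) c
  rw [pderiv_X_self, smul_eq_mul, mul_one] at h
  exact h

theorem pderiv_one_ι (c : Polynomial k) : pderiv (1 : Fin 2) (ι k c) = 0 := by
  have h := Derivation.comp_aeval_eq (X 0 : MvPolynomial (Fin 2) k)
    (pderiv (1 : Fin 2) : Derivation k (MvPolynomial (Fin 2) k) (MvPolynomial (Fin 2) k)) c
  rw [pderiv_X_of_ne (by decide : (0 : Fin 2) ≠ 1), smul_zero] at h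
  exact h

theorem pderiv1_f1 (a b : Polynomial k) :
    pderiv (1 : Fin 2) (ι k a + ι k b * X 1) = ι k b := by
  simp only [map_add, Derivation.leibniz, pderiv_one_ι, pderiv_X_self, smul_zero, add_zero,
    zero_add, smul_eq_mul, mul_one, mul_zero]

theorem pderiv0_f1 (a b : Polynomial k) :
    pderiv (0 : Fin 2) (ι k a + ι k b * X 1) =
      ι k (Polynomial.derivative a) + X 1 * ι k (Polynomial.derivative b) := by
  simp only [map_add, Derivation.leibniz, pderiv_zero_ι,
    pderiv_X_of_ne (by decide : (1 : Fin 2) ≠ 0), smul_zero, zero_add, smul_eq_mul, mul_zero,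
    add_zero]

theorem pderiv1_f2 (a b : Polynomial k) :
    pderiv (1 : Fin 2) (ι k a * X 1 + ι k b) = ι k a := by
  simp only [map_add, Derivation.leibniz, pderiv_one_ι, pderiv_X_self, smul_zero, add_zero,
    smul_eq_mul, mul_one, mul_zero]

theorem pderiv0_f2 (a b : Polynomial k) :
    pderiv (0 : Fin 2) (ι k a * X 1 + ι k b) =
      X 1 * ι k (Polynomial.derivative a) + ι k (Polynomial.derivative b) := by
  simp only [map_add, Derivation.leibniz, pderiv_zero_ι,
    pderiv_X_of_ne (by decide : (1 : Fin 2) ≠ 0), smul_zero, zero_add, smul_eq_mul, mul_zero,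
    add_zero]

/-- evaluation `k[t, w] → k[t]`, `w ↦ c`. -/
noncomputable def ρ (c : k) : MvPolynomial (Fin 2) k →ₐ[k] Polynomial k :=
  aeval ![Polynomial.X, Polynomial.C c]

theorem ρ_ι (c : k) (x : Polynomial k) : ρ k c (ι k x) = x := by
  have h : (ρ k c).comp (ι k) = AlgHom.id k (Polynomial k) := by
    apply Polynomial.algHom_ext
    show ρ k c (Polynomial.aeval (X 0 : MvPolynomial (Fin 2) k) Polynomial.X) = Polynomial.X
    rw [Polynomial.aeval_X]
    show aeval ![Polynomial.X, Polynomial.C c] (X 0 : MvPolynomial (Fin 2) k) = Polynomial.X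
    rw [aeval_X]
    rfl
  exact AlgHom.congr_fun h x

theorem ρ_X1 (c : k) : ρ k c (X 1) = Polynomial.C c := by
  show aeval ![Polynomial.X, Polynomial.C c] (X 1 : MvPolynomial (Fin 2) k) = Polynomial.C c
  rw [aeval_X]
  rfl

theorem f1_ne_zero (a b : Polynomial k) (hab : a ≠ 0 ∨ b ≠ 0) : ι k a + ι k b * X 1 ≠ 0 := by
  intro h
  have h0 := congrArg (ρ k 0) h
  rw [map_add, map_mul, ρ_ι, ρ_ι, ρ_X1, map_zero, mul_zero, add_zero, map_zero] at h0
  have h1 := congrArg (ρ k 1) h
  rw [map_add, map_mul, ρ_ι, ρ_ι, ρ_X1, Polynomial.C_1, mul_one, h0, zero_add, map_zero] at h1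
  rcases hab with h' | h'
  · exact h' h0
  · exact h' h1

theorem f2_ne_zero (a b : Polynomial k) (hab : a ≠ 0 ∨ b ≠ 0) : ι k a * X 1 + ι k b ≠ 0 := by
  intro h
  have h0 := congrArg (ρ k 0) h
  rw [map_add, map_mul, ρ_ι, ρ_ι, ρ_X1, map_zero, mul_zero, zero_add, map_zero] at h0
  have h1 := congrArg (ρ k 1) h
  rw [map_add, map_mul, ρ_ι, ρ_ι, ρ_X1, Polynomial.C_1, mul_one, h0, add_zero, map_zero] at h1
  rcases hab with h' | h'
  · exact h' h1
  · exact h' h0

theorem smooth_pair_iff (a b : Polynomial k) (hab : a ≠ 0 ∨ b ≠ 0) :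
    (Algebra.Smooth k (MvPolynomial (Fin 2) k ⧸ Ideal.span {ι k a + ι k b * X 1}) ∧
      Algebra.Smooth k (MvPolynomial (Fin 2) k ⧸ Ideal.span {ι k a * X 1 + ι k b})) ↔
      IsCoprime a b := by
  classical
  constructor
  · rintro ⟨hs1, hs2⟩
    by_contra hnc
    have hne : Ideal.span {a, b} ≠ ⊤ := by
      intro htop
      apply hnc
      have h1 : (1 : Polynomial k) ∈ Ideal.span {a, b} := by
        rw [htop]
        trivial
      rw [Ideal.mem_span_pair] at h1
      obtain ⟨u, v, huv⟩ := h1
      exact ⟨u, v, huv⟩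
    obtain ⟨M, hM, hle⟩ := Ideal.exists_le_maximal _ hne
    letI := Ideal.Quotient.field M
    let ψ : Polynomial k →ₐ[k] (Polynomial k ⧸ M) := Ideal.Quotient.mkₐ k M
    have hψa : ψ a = 0 := by
      show Ideal.Quotient.mk M a = 0
      rw [Ideal.Quotient.eq_zero_iff_mem]
      exact hle (Ideal.subset_span (by simp))
    have hψb : ψ b = 0 := by
      show Ideal.Quotient.mk M b = 0
      rw [Ideal.Quotient.eq_zero_iff_mem]
      exact hle (Ideal.subset_span (by simp))
    let φ : (Polynomial k ⧸ M) → (MvPolynomial (Fin 2) k →ₐ[k] (Polynomial k ⧸ M)) :=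
      fun w₀ => aeval ![ψ Polynomial.X, w₀]
    have hφι : ∀ w₀ c, φ w₀ (ι k c) = ψ c := by
      intro w₀ c
      have h : (φ w₀).comp (ι k) = ψ := by
        apply Polynomial.algHom_ext
        show φ w₀ (Polynomial.aeval (X 0 : MvPolynomial (Fin 2) k) Polynomial.X) =
          ψ Polynomial.X
        rw [Polynomial.aeval_X]
        show aeval ![ψ Polynomial.X, w₀] (X 0 : MvPolynomial (Fin 2) k) = ψ Polynomial.X
        rw [aeval_X]
        rfl
      exact AlgHom.congr_fun h c
    have hφX1 : ∀ w₀, φ w₀ (X 1) = w₀ := by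
      intro w₀
      show aeval ![ψ Polynomial.X, w₀] (X 1 : MvPolynomial (Fin 2) k) = w₀
      rw [aeval_X]
      rfl
    have key1 : ∀ w₀ : Polynomial k ⧸ M,
        ψ (Polynomial.derivative a) + w₀ * ψ (Polynomial.derivative b) ≠ 0 := by
      intro w₀
      have hz : (φ w₀).toRingHom (ι k a + ι k b * X 1) = 0 := by
        show φ w₀ (ι k a + ι k b * X 1) = 0
        rw [map_add, map_mul, hφι, hφι, hψa, hψb, zero_mul, add_zero]
      rcases Fin.exists_fin_two.mp (exists_pderiv_ne_zero_of_smooth k _ (f1_ne_zero k a b hab)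
        hs1 (φ w₀).toRingHom hz) with hv | hv
      · intro hcon
        apply hv
        show φ w₀ (pderiv (0 : Fin 2) (ι k a + ι k b * X 1)) = 0
        rw [pderiv0_f1, map_add, map_mul, hφι, hφι, hφX1]
        exact hcon
      · exfalso
        apply hv
        show φ w₀ (pderiv (1 : Fin 2) (ι k a + ι k b * X 1)) = 0
        rw [pderiv1_f1, hφι, hψb]
    have key2 : ∀ w₀ : Polynomial k ⧸ M,
        w₀ * ψ (Polynomial.derivative a) + ψ (Polynomial.derivative b) ≠ 0 := by
      intro w₀
      have hz : (φ w₀).toRingHom (ι k a * X 1 + ι k b) = 0 := by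
        show φ w₀ (ι k a * X 1 + ι k b) = 0
        rw [map_add, map_mul, hφι, hφι, hψa, hψb, zero_mul, add_zero]
      rcases Fin.exists_fin_two.mp (exists_pderiv_ne_zero_of_smooth k _ (f2_ne_zero k a b hab)
        hs2 (φ w₀).toRingHom hz) with hv | hv
      · intro hcon
        apply hv
        show φ w₀ (pderiv (0 : Fin 2) (ι k a * X 1 + ι k b)) = 0
        rw [pderiv0_f2, map_add, map_mul, hφι, hφι, hφX1]
        exact hcon
      · exfalso
        apply hv
        show φ w₀ (pderiv (1 : Fin 2) (ι k a * X 1 + ι k b)) = 0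
        rw [pderiv1_f2, hφι, hψa]
    have hb' : ψ (Polynomial.derivative b) ≠ 0 := by
      have h := key2 0
      rwa [zero_mul, zero_add] at h
    apply key1 (-(ψ (Polynomial.derivative a)) / ψ (Polynomial.derivative b))
    rw [div_mul_cancel₀ _ hb', add_neg_cancel]
  · rintro ⟨u, v, huv⟩
    have h1 : ι k u * ι k a + ι k v * ι k b = 1 := by
      rw [← map_mul, ← map_mul, ← map_add, huv, map_one]
    constructor
    · apply smooth_of_forall_prime
      intro q hq hfq
      refine ⟨1, ?_⟩
      rw [pderiv1_f1]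
      intro hbq
      have haq : ι k a ∈ q := by
        have h2 : ι k a = (ι k a + ι k b * X 1) - ι k b * X 1 := by ring
        rw [h2]
        exact q.sub_mem hfq (q.mul_mem_right _ hbq)
      apply hq.ne_top
      rw [Ideal.eq_top_iff_one, ← h1]
      exact q.add_mem (q.mul_mem_left _ haq) (q.mul_mem_left _ hbq)
    · apply smooth_of_forall_prime
      intro q hq hfq
      refine ⟨1, ?_⟩
      rw [pderiv1_f2]
      intro haq
      have hbq : ι k b ∈ q := by
        have h2 : ι k b = (ι k a * X 1 + ι k b) - ι k a * X 1 := by ring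
        rw [h2]
        exact q.sub_mem hfq (q.mul_mem_right _ haq)
      apply hq.ne_top
      rw [Ideal.eq_top_iff_one, ← h1]
      exact q.add_mem (q.mul_mem_left _ haq) (q.mul_mem_left _ hbq)

theorem final (n : ℕ) (hn : 3 ≤ n) (a b : Polynomial k) (ha : a.natDegree ≤ 2)
    (hb : b.natDegree ≤ n) (hab : a ≠ 0 ∨ b ≠ 0) :
    (Algebra.Smooth k (MvPolynomial (Fin 2) k ⧸ Ideal.span {ι k a + ι k b * X 1}) ∧
      Algebra.Smooth k (MvPolynomial (Fin 2) k ⧸ Ideal.span {ι k a * X 1 + ι k b}) ∧
      Algebra.Smooth k (MvPolynomial (Fin 2) k ⧸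
        Ideal.span {ι k (Polynomial.reflect 2 a) + ι k (Polynomial.reflect n b) * X 1}) ∧
      Algebra.Smooth k (MvPolynomial (Fin 2) k ⧸
        Ideal.span {ι k (Polynomial.reflect 2 a) * X 1 + ι k (Polynomial.reflect n b)})) ↔
      Polynomial.resultant a b 2 n ≠ 0 := by
  have hab' : Polynomial.reflect 2 a ≠ 0 ∨ Polynomial.reflect n b ≠ 0 := by
    rcases hab with h | h
    · left
      rwa [Ne, Polynomial.reflect_eq_zero_iff]
    · right
      rwa [Ne, Polynomial.reflect_eq_zero_iff]
  have hR : IsCoprime a b ∧ IsCoprime (Polynomial.reflect 2 a) (Polynomial.reflect n b) ↔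
      Polynomial.resultant a b 2 n ≠ 0 := by
    rw [resultant_ne_zero_iff k a b 2 n (by norm_num) (by omega) ha hb]
    constructor
    · rintro ⟨h1, h2⟩
      exact ⟨coeff_ne_zero_of_isCoprime_reflect k a b 2 n h2, h1⟩
    · rintro ⟨h01, hcop⟩
      refine ⟨hcop, ?_⟩
      rcases h01 with h | h
      · exact isCoprime_reflect k a b 2 n ha hb hcop h
      · exact (isCoprime_reflect k b a n 2 hb ha hcop.symm h).symm
  exact (and_assoc.symm.trans (and_congr (smooth_pair_iff k a b hab)
    (smooth_pair_iff k _ _ hab'))).trans hR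

theorem ι_sum (m : ℕ) (c : Fin m → k) (e : Fin m → ℕ) :
    (∑ i : Fin m, MvPolynomial.C (c i) * MvPolynomial.X (0 : Fin 2) ^ e i :
      MvPolynomial (Fin 2) k) =
      ι k (∑ i : Fin m, Polynomial.C (c i) * Polynomial.X ^ e i) := by
  rw [map_sum]
  refine Finset.sum_congr rfl fun i _ => ?_
  rw [map_mul, map_pow]
  show _ = Polynomial.aeval (X 0 : MvPolynomial (Fin 2) k) (Polynomial.C (c i)) *
    Polynomial.aeval (X 0 : MvPolynomial (Fin 2) k) Polynomial.X ^ e i
  rw [Polynomial.aeval_C, Polynomial.aeval_X, MvPolynomial.algebraMap_eq]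

end aux



/-- Let k be a field, n ≥ 3, q a binary quadratic form and ξ a binary form of degree n over k, given by
coefficient vectors (q_i the coefficient of x^i y^(2−i), ξ_j that of x^j y^(n−j)), not both zero.
The pair (q, ξ) is a global section of O(2) ⊕ O(n) on P¹_k, i.e. of the line bundle of class e + nf
on the Hirzebruch surface F_{n−2} = P(O ⊕ O(n−2)) → P¹_k, and cuts out the curve W : q·u + ξ·v = 0
there ([u : v] the fibre coordinates). Over the two standard opens of P¹ (t = x/y, s = y/x) and the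
two opens u ≠ 0, v ≠ 0 of the fibres, W is covered by four affine charts with coordinate rings k[t,
w]/(q(t,1) + ξ(t,1)·w), k[t, w]/(q(t,1)·w + ξ(t,1)), k[s, w]/(q(1,s) + ξ(1,s)·w) and k[s,
w]/(q(1,s)·w + ξ(1,s)) (variables indexed 0 for t or s and 1 for w). Then W is smooth over k — all
four chart algebras are smooth k-algebras — if and only if the resultant of q and ξ (the Sylvester
determinant of the two coefficient vectors with size parameters 2 and n) is nonzero. (The published
statement is over a general base scheme B, for a section (q, ξ) vanishing on no fibre, with 'the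
resultant is a unit on B' in place of 'nonzero'; its proof reduces at once to the statement over a
field given here, which is the case B = Spec k.) -/
theorem result (k : Type u) [Field k] (n : ℕ) (hn : 3 ≤ n)
    (q : Fin 3 → k) (ξ : Fin (n + 1) → k) (hqξ : q ≠ 0 ∨ ξ ≠ 0) :
    (Algebra.Smooth k (MvPolynomial (Fin 2) k ⧸ Ideal.span ({(∑ i : Fin 3, MvPolynomial.C (q i) * MvPolynomial.X 0 ^ (i : ℕ)) + (∑ j : Fin (n + 1), MvPolynomial.C (ξ j) * MvPolynomial.X 0 ^ (j : ℕ)) * MvPolynomial.X 1} : Set (MvPolynomial (Fin 2) k))) ∧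
      Algebra.Smooth k (MvPolynomial (Fin 2) k ⧸ Ideal.span ({(∑ i : Fin 3, MvPolynomial.C (q i) * MvPolynomial.X 0 ^ (i : ℕ)) * MvPolynomial.X 1 + (∑ j : Fin (n + 1), MvPolynomial.C (ξ j) * MvPolynomial.X 0 ^ (j : ℕ))} : Set (MvPolynomial (Fin 2) k))) ∧
      Algebra.Smooth k (MvPolynomial (Fin 2) k ⧸ Ideal.span ({(∑ i : Fin 3, MvPolynomial.C (q i) * MvPolynomial.X 0 ^ (2 - (i : ℕ))) + (∑ j : Fin (n + 1), MvPolynomial.C (ξ j) * MvPolynomial.X 0 ^ (n - (j : ℕ))) * MvPolynomial.X 1} : Set (MvPolynomial (Fin 2) k))) ∧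
      Algebra.Smooth k (MvPolynomial (Fin 2) k ⧸ Ideal.span ({(∑ i : Fin 3, MvPolynomial.C (q i) * MvPolynomial.X 0 ^ (2 - (i : ℕ))) * MvPolynomial.X 1 + (∑ j : Fin (n + 1), MvPolynomial.C (ξ j) * MvPolynomial.X 0 ^ (n - (j : ℕ)))} : Set (MvPolynomial (Fin 2) k)))) ↔
    Polynomial.resultant (∑ i : Fin 3, Polynomial.C (q i) * Polynomial.X ^ (i : ℕ))
      (∑ j : Fin (n + 1), Polynomial.C (ξ j) * Polynomial.X ^ (j : ℕ)) 2 n ≠ 0 := by
  classical
  have ha : (∑ i : Fin 3, Polynomial.C (q i) * Polynomial.X ^ (i : ℕ)).natDegree ≤ 2 :=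
    natDegree_sum_C_mul_X_pow_le k 2 q
  have hb : (∑ j : Fin (n + 1), Polynomial.C (ξ j) * Polynomial.X ^ (j : ℕ)).natDegree ≤ n :=
    natDegree_sum_C_mul_X_pow_le k n ξ
  have hab : (∑ i : Fin 3, Polynomial.C (q i) * Polynomial.X ^ (i : ℕ)) ≠ 0 ∨
      (∑ j : Fin (n + 1), Polynomial.C (ξ j) * Polynomial.X ^ (j : ℕ)) ≠ 0 := by
    rcases hqξ with h | h
    · exact Or.inl (sum_C_mul_X_pow_ne_zero k 3 q h)
    · exact Or.inr (sum_C_mul_X_pow_ne_zero k (n + 1) ξ h)
  have hrefa : (∑ i : Fin 3, Polynomial.C (q i) * Polynomial.X ^ (2 - (i : ℕ))) =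
      Polynomial.reflect 2 (∑ i : Fin 3, Polynomial.C (q i) * Polynomial.X ^ (i : ℕ)) :=
    (reflect_sum_C_mul_X_pow k 2 q).symm
  have hrefb : (∑ j : Fin (n + 1), Polynomial.C (ξ j) * Polynomial.X ^ (n - (j : ℕ))) =
      Polynomial.reflect n (∑ j : Fin (n + 1), Polynomial.C (ξ j) * Polynomial.X ^ (j : ℕ)) :=
    (reflect_sum_C_mul_X_pow k n ξ).symm
  rw [ι_sum k 3 q (fun i => (i : ℕ)), ι_sum k (n + 1) ξ (fun j => (j : ℕ)),
    ι_sum k 3 q (fun i => 2 - (i : ℕ)), ι_sum k (n + 1) ξ (fun j => n - (j : ℕ)), hrefa, hrefb]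
  exact final k n hn _ _ ha hb hab


end Groth.Agent.S19185
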