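import Groth.Statements.S19186
import Mathlib
-- import your own Groth.Agent.* helpers here

set_option autoImplicit false
universe u
open OneMot

namespace Groth.Agent.S19186

section helpers
theorem main {A B : Type u} [AddCommGroup A] [AddCommGroup B] (f : A →+ B) (p ℓ r n : ℕ) (hp : p.Prime) (hl : ℓ.Prime) (hne : ℓ ≠ p) (hker : ∀ a : A, f a = 0 → p ^ r • a = 0) (hcoker : ∀ b : B, ∃ a : A, f a = p ^ r • b) : (∀ b : B, ℓ ^ n • b = 0 → ∃! a : A, ℓ ^ n • a = 0 ∧ f a = b) ∧ (∀ a : A, (∃ b' : B, f a = ℓ ^ n • b') → ∃ a' : A, a = ℓ ^ n • a') ∧ (∀ b : B, ∃ (a : A) (b' : B), b = f a + ℓ ^ n • b') := by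
  set P : ℤ := ((p ^ r : ℕ) : ℤ) with hP
  set L : ℤ := ((ℓ ^ n : ℕ) : ℤ) with hL
  have hcop : Nat.Coprime (p ^ r) (ℓ ^ n) :=
    Nat.Coprime.pow _ _ ((Nat.coprime_primes hp hl).2 (Ne.symm hne))
  have hcop2 : Nat.Coprime (p ^ r * p ^ r) (ℓ ^ n) := Nat.Coprime.mul_left hcop hcop
  obtain ⟨u, v, huv⟩ : ∃ u v : ℤ, u * P + v * L = 1 := by
    have := Nat.isCoprime_iff_coprime.2 hcop
    obtain ⟨u, v, h⟩ := this
    exact ⟨u, v, h⟩
  obtain ⟨x, y, hxy⟩ : ∃ x y : ℤ, x * (P * P) + y * L = 1 := by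
    have := Nat.isCoprime_iff_coprime.2 hcop2
    obtain ⟨x, y, h⟩ := this
    refine ⟨x, y, ?_⟩
    rw [hP, hL, ← Nat.cast_mul]; exact h
  -- integer forms of hypotheses
  have hkerZ : ∀ a : A, f a = 0 → P • a = 0 := fun a ha => by
    rw [hP, natCast_zsmul]; exact hker a ha
  have hcokerZ : ∀ b : B, ∃ a : A, f a = P • b := fun b => by
    obtain ⟨a, ha⟩ := hcoker b
    exact ⟨a, by rw [hP, natCast_zsmul]; exact ha⟩
  have hLnat : ∀ {M : Type u} [AddCommGroup M] (m : M), ℓ ^ n • m = L • m := fun m => by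
    rw [hL, natCast_zsmul]
  refine ⟨?_, ?_, ?_⟩
  · intro b hb
    rw [hLnat] at hb
    obtain ⟨a₁, ha₁⟩ := hcokerZ b
    have h1 : P • (L • a₁) = 0 := by
      apply hkerZ
      rw [map_zsmul, ha₁, smul_comm, hb, smul_zero]
    have hfa : f (x • P • a₁) = b := by
      rw [map_zsmul, map_zsmul, ha₁]
      have : b = (x * (P * P) + y * L) • b := by rw [hxy, one_smul]
      conv_rhs => rw [this]
      rw [add_smul, mul_smul, mul_smul, mul_smul, hb, smul_zero, add_zero]
    refine ⟨x • P • a₁, ⟨?_, hfa⟩, ?_⟩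
    · rw [hLnat, smul_comm L x, smul_comm L P, h1, smul_zero]
    · rintro a' ⟨ha'L, ha'f⟩
      rw [hLnat] at ha'L
      have hd : f (a' - x • P • a₁) = 0 := by
        rw [map_sub, ha'f, hfa, sub_self]
      have hPd := hkerZ _ hd
      have hLd : L • (a' - x • P • a₁) = 0 := by
        rw [smul_sub, ha'L, smul_comm L x, smul_comm L P, h1, smul_zero, sub_zero]
      have : a' - x • P • a₁ = (u * P + v * L) • (a' - x • P • a₁) := by rw [huv, one_smul]
      rw [add_smul, mul_smul, mul_smul, hPd, hLd, smul_zero, smul_zero, add_zero] at this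
      exact sub_eq_zero.1 this
  · rintro a ⟨b', hb'⟩
    rw [hLnat] at hb'
    obtain ⟨a₂, ha₂⟩ := hcokerZ b'
    have h0 : f (P • a - L • a₂) = 0 := by
      rw [map_sub, map_zsmul, map_zsmul, hb', ha₂, smul_comm, sub_self]
    have h1 := hkerZ _ h0
    rw [smul_sub, sub_eq_zero] at h1
    refine ⟨x • P • a₂ + y • a, ?_⟩
    rw [hLnat]
    have : a = (x * (P * P) + y * L) • a := by rw [hxy, one_smul]
    conv_lhs => rw [this]
    rw [add_smul, mul_smul, mul_smul, h1, smul_add, mul_smul]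
    congr 1
    · rw [smul_comm L x, smul_comm L P]
    · rw [smul_comm]
  · intro b
    obtain ⟨a₁, ha₁⟩ := hcokerZ b
    refine ⟨u • a₁, v • b, ?_⟩
    rw [hLnat, map_zsmul, ha₁]
    have : b = (u * P + v * L) • b := by rw [huv, one_smul]
    conv_lhs => rw [this]
    rw [add_smul, mul_smul, mul_smul, smul_comm L v]
end helpers

/-- Let p and ℓ be distinct prime numbers, r and n natural numbers, and f : A → B a homomorphism of
abelian groups whose kernel and cokernel are annihilated by p^r (f a = 0 implies p^r • a = 0, and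
every p^r • b lies in the image of f). Then f induces a bijection between the ℓ^n-torsion subgroups
of A and B and a bijection A/ℓ^n A → B/ℓ^n B. Spelled out without quotients: every ℓ^n-torsion
element of B has exactly one ℓ^n-torsion preimage; an element of A whose image is an ℓ^n-multiple is
itself an ℓ^n-multiple; and every element of B is the sum of an image and an ℓ^n-multiple. -/
theorem result {A B : Type u} [AddCommGroup A] [AddCommGroup B] (f : A →+ B) (p ℓ r n : ℕ) (hp : p.Prime) (hl : ℓ.Prime) (hne : ℓ ≠ p) (hker : ∀ a : A, f a = 0 → p ^ r • a = 0) (hcoker : ∀ b : B, ∃ a : A, f a = p ^ r • b) : (∀ b : B, ℓ ^ n • b = 0 → ∃! a : A, ℓ ^ n • a = 0 ∧ f a = b) ∧ (∀ a : A, (∃ b' : B, f a = ℓ ^ n • b') → ∃ a' : A, a = ℓ ^ n • a') ∧ (∀ b : B, ∃ (a : A) (b' : B), b = f a + ℓ ^ n • b') := by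
  exact main f p ℓ r n hp hl hne hker hcoker

end Groth.Agent.S19186
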