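import Groth.Statements.S19187
import Mathlib
-- import your own Groth.Agent.* helpers here

set_option autoImplicit false
universe u
open Cpct

namespace Groth.Agent.S19187

section helpers
open CategoryTheory AlgebraicGeometry
theorem main {k : Type u} [Field k] {X Y Xb Yb : Scheme.{u}} (a : Xb ⟶ Spec (CommRingCat.of k)) (b : Yb ⟶ Spec (CommRingCat.of k)) [IsProper a] (j : X ⟶ Xb) [IsOpenImmersion j] (hj : Dense (Set.range j.base)) (v : Y ⟶ Yb) [IsOpenImmersion v] (f : X ⟶ Y) [IsProper f] (fb : Xb ⟶ Yb) (hfb : fb ≫ b = a) (hsq : j ≫ fb = f ≫ v) : fb ⁻¹ᵁ v.opensRange = j.opensRange := by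
  have hsep : IsSeparated fb := by
    have : IsSeparated (fb ≫ b) := by rw [hfb]; infer_instance
    exact IsSeparated.of_comp fb b
  set W : Xb.Opens := fb ⁻¹ᵁ v.opensRange with hW
  have hjW : Set.range j ⊆ Set.range W.ι := by
    rintro _ ⟨x, rfl⟩
    rw [Scheme.Opens.range_ι]
    change fb (j x) ∈ v.opensRange
    rw [← Scheme.Hom.comp_apply, hsq, Scheme.Hom.comp_apply]
    exact ⟨f x, rfl⟩
  let j' : X ⟶ W.toScheme := IsOpenImmersion.lift W.ι j hjW
  have hj' : j' ≫ W.ι = j := IsOpenImmersion.lift_fac _ _ _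
  let g : W.toScheme ⟶ v.opensRange.toScheme := fb ∣_ v.opensRange
  have hgsep : IsSeparated g :=
    MorphismProperty.of_isPullback (isPullback_morphismRestrict fb v.opensRange).flip hsep
  have hcomp : j' ≫ g = f ≫ v.isoOpensRange.hom := by
    rw [← cancel_mono v.opensRange.ι, Category.assoc, Category.assoc, morphismRestrict_ι,
      ← Category.assoc, hj', hsq, Scheme.Hom.isoOpensRange_hom_ι]
  have hprop : IsProper (j' ≫ g) := by rw [hcomp]; infer_instance
  have hj'prop : IsProper j' := IsProper.of_comp j' g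
  have hclosed : IsClosed (Set.range j') := j'.isClosedMap.isClosed_range
  have hdense : Dense (Set.range j') := by
    have h1 : Set.range j' = W.ι ⁻¹' (Set.range j) := by
      ext w
      constructor
      · rintro ⟨x, rfl⟩
        exact ⟨x, by rw [← hj', Scheme.Hom.comp_apply]⟩
      · rintro ⟨x, hx⟩
        refine ⟨x, W.ι.isOpenEmbedding.injective ?_⟩
        rw [← Scheme.Hom.comp_apply, hj', hx]
    rw [h1]
    exact hj.preimage W.ι.isOpenEmbedding.isOpenMap
  have hsurj : Set.range j' = Set.univ := by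
    rw [← hclosed.closure_eq]; exact hdense.closure_eq
  ext x
  constructor
  · intro hx
    have : (⟨x, hx⟩ : W) ∈ Set.range j' := by rw [hsurj]; trivial
    obtain ⟨x', hx'⟩ := this
    refine ⟨x', ?_⟩
    rw [← hj', Scheme.Hom.comp_apply, hx']
    rfl
  · rintro ⟨x', rfl⟩
    change fb (j x') ∈ v.opensRange
    rw [← Scheme.Hom.comp_apply, hsq, Scheme.Hom.comp_apply]
    exact ⟨f x', rfl⟩
end helpers

open CategoryTheory AlgebraicGeometry in
/-- Let k be a field, X̄ and Ȳ schemes proper over Spec k, j : X → X̄ an open immersion with dense image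
and v : Y → Ȳ an open immersion (compactifications of X and Y), f : X → Y a proper morphism and f̄ :
X̄ → Ȳ a morphism over Spec k with f̄ ∘ j = v ∘ f. Then the preimage under f̄ of the open v(Y) is
the open j(X); equivalently, the complement of X in X̄ is the preimage of the complement of Y in Ȳ.
(The base field k is arbitrary: no perfectness assumption is needed.) -/
theorem result {k : Type u} [Field k] {X Y Xb Yb : Scheme.{u}} (a : Xb ⟶ Spec (CommRingCat.of k)) (b : Yb ⟶ Spec (CommRingCat.of k)) [IsProper a] [IsProper b] (j : X ⟶ Xb) [IsOpenImmersion j] (hj : Dense (Set.range j.base)) (v : Y ⟶ Yb) [IsOpenImmersion v] (f : X ⟶ Y) [IsProper f] (fb : Xb ⟶ Yb) (hfb : fb ≫ b = a) (hsq : j ≫ fb = f ≫ v) : fb ⁻¹ᵁ v.opensRange = j.opensRange := by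
  exact main a b j hj v f fb hfb hsq

end Groth.Agent.S19187
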