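import Groth.Statements.S1919
import Mathlib
import Groth.Agent.Lib.Helper15.PerfBC2

set_option autoImplicit false
set_option linter.style.haveILetI false
universe u
open CategoryTheory AlgebraicGeometry
open CategoryTheory.Limits
open RelCyc

namespace Groth.Agent.S1919

open Groth.Agent.Lib.helper15.PerfBC

/-- For a scheme X of finite type over a field k of characteristic p > 0, with base change X' = X ×_k k'
to the perfect closure k', the base change map Z_r(X) → Z_r(X') (flat pullback along the projection)
has p-power torsion cokernel: for every r-cycle β on X' some p^n β is the base change of an r-cycle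
on X. Dimension functions are transcendence degrees of residue fields over the ground fields. -/
theorem result (k : Type u) [Field k] (p : ℕ) [Fact p.Prime] [CharP k p] (X : Scheme.{u}) (f : X ⟶ Spec (CommRingCat.of k)) [LocallyOfFiniteType f] [QuasiCompact f] (δ : X → ℤ) (hδ : Cyc.DeltaCompat f δ (fun _ => 0)) (δ' : ↥(pullback f (Spec.map (CommRingCat.ofHom (PerfectClosure.of k p)))) → ℤ) (hδ' : Cyc.DeltaCompat (pullback.snd f (Spec.map (CommRingCat.ofHom (PerfectClosure.of k p)))) δ' (fun _ => 0)) (r : ℤ) (β : AlgebraicCycle (pullback f (Spec.map (CommRingCat.ofHom (PerfectClosure.of k p)))) ℤ) (hβ : β ∈ Cyc.Zk _ δ' r) : ∃ (n : ℕ) (α : AlgebraicCycle X ℤ), α ∈ Cyc.Zk X δ r ∧ (p : ℤ) ^ n • ⇑β = Cyc.pullFun (pullback.fst f (Spec.map (CommRingCat.ofHom (PerfectClosure.of k p)))) δ' δ 0 ⇑α := by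
  classical
  have hφ := isPurelyInseparable_perfectClosure k p
  have hc : IsPullback (pullback.fst f (Spec.map (CommRingCat.ofHom (PerfectClosure.of k p))))
      (pullback.snd f (Spec.map (CommRingCat.ofHom (PerfectClosure.of k p)))) f
      (Spec.map (CommRingCat.ofHom (PerfectClosure.of k p))) := IsPullback.of_hasPullback _ _
  haveI : ExpChar k p := ExpChar.prime Fact.out
  obtain ⟨hinj, hsurj⟩ := bijective_of_isPullback (PerfectClosure.of k p) hφ hc
  -- the dimension functions agree
  have hδeq : ∀ x', δ' x' =
      δ (pullback.fst f (Spec.map (CommRingCat.ofHom (PerfectClosure.of k p))) x') := by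
    intro x'
    obtain ⟨n', hn', h'⟩ := hδ' x'
    obtain ⟨n, hn, h⟩ := hδ (pullback.fst f (Spec.map (CommRingCat.ofHom (PerfectClosure.of k p))) x')
    have hsq := trdeg_eq_of_isPullback (PerfectClosure.of k p) hφ hc x'
    rw [hn, hn'] at hsq
    have hnn : n = n' := by exact_mod_cast hsq
    rw [h', h, hnn]
  -- the multiplicities
  choose e he using fun x' => length_fibRing_eq_pow (PerfectClosure.of k p) hφ hc p x'
  -- finiteness of the support
  have hfin : (Function.support β).Finite := by
    have := LocallyFiniteSupport.finite_inter_support_of_isCompact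
      (Function.locallyFinsupp.locallyFiniteSupport β) (CompactSpace.isCompact_univ)
    simpa using this
  set n : ℕ := hfin.toFinset.sup e with hn
  set σ := Function.surjInv hsurj with hσdef
  have hσ : ∀ x, pullback.fst f (Spec.map (CommRingCat.ofHom (PerfectClosure.of k p))) (σ x) = x :=
    Function.surjInv_eq hsurj
  have hσ' : ∀ x', σ (pullback.fst f (Spec.map (CommRingCat.ofHom (PerfectClosure.of k p))) x') = x' :=
    fun x' => hinj (hσ _)
  set αf : X → ℤ := fun x => (p : ℤ) ^ (n - e (σ x)) * β (σ x) with hαf
  have hαsupp : (Function.support αf).Finite := by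
    refine (hfin.image (pullback.fst f (Spec.map (CommRingCat.ofHom (PerfectClosure.of k p))))).subset ?_
    intro x hx
    refine ⟨σ x, ?_, hσ x⟩
    intro h0
    apply hx
    have h0' : β (σ x) = 0 := h0
    simp only [hαf, h0', mul_zero]
  let α : AlgebraicCycle X ℤ :=
    ⟨αf, by simp, fun z _ => ⟨Set.univ, Filter.univ_mem, by simpa using hαsupp⟩⟩
  refine ⟨n, α, ?_, ?_⟩
  · intro x hx
    change αf x = 0
    have h0 : β (σ x) = 0 := hβ (σ x) (by rw [hδeq, hσ]; exact hx)
    simp only [hαf, h0, mul_zero]
  · funext x'
    change (p : ℤ) ^ n • β x' = Cyc.pullFun _ δ' δ 0 αf x'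
    unfold Cyc.pullFun
    rw [if_pos (by rw [hδeq x', add_zero])]
    have hl := he x'
    unfold Groth.Agent.Lib.helper17.FibreStalk.FibRing at hl
    rw [hl]
    simp only [hαf, hσ', ENat.toNat_natCast, smul_eq_mul]
    by_cases hb : β x' = 0
    · simp [hb]
    · have hle : e x' ≤ n := Finset.le_sup (f := e) (hfin.mem_toFinset.mpr hb)
      push_cast
      have : (p : ℤ) ^ n = (p : ℤ) ^ (n - e x') * (p : ℤ) ^ (e x') := by
        rw [← pow_add, Nat.sub_add_cancel hle]
      rw [this]
      ring

end Groth.Agent.S1919
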