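import Groth.Statements.S19190
import Mathlib
-- import your own Groth.Agent.* helpers here

set_option autoImplicit false
universe w v u v' u'
open CategoryTheory CategoryTheory.Limits CategoryTheory.Pretriangulated CategoryTheory.Triangulated
open CohDer

namespace Groth.Agent.S19190

section helpers

open CategoryTheory Limits Pretriangulated ZeroObject

variable {A : Type w} [CommRing A] (S : Submonoid A)
    {T : Type u} [Category.{v} T] [Preadditive T] [Linear A T] [HasZeroObject T] [HasShift T ℤ]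
    [∀ n : ℤ, (shiftFunctor T n).Additive] [∀ n : ℤ, (shiftFunctor T n).Linear A]
    [Pretriangulated T]

/-- Objects killed by an element of `S`. -/
def killed19190 : ObjectProperty T := fun Z => ∃ s ∈ S, s • 𝟙 Z = 0

omit [HasZeroObject T] [HasShift T ℤ] [∀ n : ℤ, (shiftFunctor T n).Additive]
  [∀ n : ℤ, (shiftFunctor T n).Linear A] [Pretriangulated T] in
lemma smul_eq_zero_of_killed19190 {X Y : T} {s : A} (h : s • 𝟙 Y = 0) (f : X ⟶ Y) : s • f = 0 := by
  have : s • f = f ≫ (s • 𝟙 Y) := by rw [Linear.comp_smul, Category.comp_id]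
  rw [this, h, comp_zero]

omit [HasZeroObject T] [HasShift T ℤ] [∀ n : ℤ, (shiftFunctor T n).Additive]
  [∀ n : ℤ, (shiftFunctor T n).Linear A] [Pretriangulated T] in
lemma smul_eq_zero_of_killed'19190 {X Y : T} {s : A} (h : s • 𝟙 X = 0) (f : X ⟶ Y) : s • f = 0 := by
  have : s • f = (s • 𝟙 X) ≫ f := by rw [Linear.smul_comp, Category.id_comp]
  rw [this, h, zero_comp]

instance : (killed19190 S (T := T)).IsClosedUnderIsomorphisms where
  of_iso {X Y} e := by
    rintro ⟨s, hs, h⟩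
    refine ⟨s, hs, ?_⟩
    have : s • 𝟙 Y = e.inv ≫ (s • 𝟙 X) ≫ e.hom := by
      rw [Linear.smul_comp, Linear.comp_smul, Category.id_comp, e.inv_hom_id]
    rw [this, h, zero_comp, comp_zero]

instance : (killed19190 S (T := T)).IsStableUnderRetracts where
  of_retract {X Y} r := by
    rintro ⟨s, hs, h⟩
    refine ⟨s, hs, ?_⟩
    have : s • 𝟙 X = r.i ≫ (s • 𝟙 Y) ≫ r.r := by
      rw [Linear.smul_comp, Linear.comp_smul, Category.id_comp, r.retract]
    rw [this, h, zero_comp, comp_zero]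

instance : (killed19190 S (T := T)).ContainsZero where
  exists_zero := ⟨0, isZero_zero T, 1, S.one_mem, (isZero_zero T).eq_of_src _ _⟩

instance : (killed19190 S (T := T)).IsStableUnderShift ℤ where
  isStableUnderShiftBy n :=
    { le_shift := by
        rintro X ⟨s, hs, h⟩
        refine ⟨s, hs, ?_⟩
        have : s • 𝟙 (X⟦n⟧) = (s • 𝟙 X)⟦n⟧' := by
          rw [Functor.map_smul, CategoryTheory.Functor.map_id]
        rw [this, h, Functor.map_zero] }

instance : (killed19190 S (T := T)).IsTriangulatedClosed₂ :=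
  ObjectProperty.IsTriangulatedClosed₂.mk' (by
    rintro Tr hTr ⟨s₁, hs₁, h₁⟩ ⟨s₃, hs₃, h₃⟩
    refine ⟨s₁ * s₃, S.mul_mem hs₁ hs₃, ?_⟩
    have h0 : (s₃ • 𝟙 Tr.obj₂) ≫ Tr.mor₂ = 0 := by
      rw [Linear.smul_comp, Category.id_comp]
      exact smul_eq_zero_of_killed19190 h₃ _
    obtain ⟨a, ha⟩ := Triangle.coyoneda_exact₂ _ hTr _ h0
    rw [mul_smul, ha, ← Linear.smul_comp]
    rw [smul_eq_zero_of_killed19190 h₁ a, zero_comp])

instance : (killed19190 S (T := T)).IsTriangulated where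

/-- cones of `s • 𝟙 X` are killed by `s * s` -/
lemma killed_cone19190 (X : T) (f : A) (hf : f ∈ S) (Z : T) (g : X ⟶ Z) (h : Z ⟶ X⟦(1 : ℤ)⟧)
    (hT : Triangle.mk (f • 𝟙 X) g h ∈ distTriang T) : killed19190 S Z := by
  refine ⟨f * f, S.mul_mem hf hf, ?_⟩
  have h0 : g ≫ (f • 𝟙 Z) = 0 := by
    have h12 : (f • 𝟙 X) ≫ g = 0 := comp_distTriang_mor_zero₁₂ _ hT
    rw [Linear.comp_smul, Category.comp_id]
    rw [Linear.smul_comp, Category.id_comp] at h12
    exact h12
  obtain ⟨φ, hφ⟩ := Triangle.yoneda_exact₃ _ hT (f • 𝟙 Z) h0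
  have hφ' : f • 𝟙 Z = h ≫ φ := hφ
  have h31 : h ≫ (f • 𝟙 X)⟦(1 : ℤ)⟧' = 0 := comp_distTriang_mor_zero₃₁ _ hT
  rw [Functor.map_smul, CategoryTheory.Functor.map_id, Linear.comp_smul, Category.comp_id] at h31
  rw [mul_smul, hφ', ← Linear.smul_comp, h31, zero_comp]

section main
variable [IsTriangulated T]
    (U : ObjectProperty T) [U.IsTriangulated] [U.IsClosedUnderIsomorphisms] [U.IsStableUnderRetracts]
    {E : Type u'} [Category.{v'} E] [Preadditive E] [Linear A E]
    (Q : T ⥤ E) [Q.Additive] [Q.Linear A] [Q.IsLocalization U.trW]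

theorem main19190
    (hU : ∀ (X : T) (f : A), f ∈ S → ∀ (Z : T) (g : X ⟶ Z) (h : Z ⟶ X⟦(1 : ℤ)⟧),
      Triangle.mk (f • 𝟙 X) g h ∈ distTriang T → U Z)
    (hmin : ∀ (U' : ObjectProperty T) [U'.IsTriangulated] [U'.IsClosedUnderIsomorphisms]
      [U'.IsStableUnderRetracts],
      (∀ (X : T) (f : A), f ∈ S → ∀ (Z : T) (g : X ⟶ Z) (h : Z ⟶ X⟦(1 : ℤ)⟧),
        Triangle.mk (f • 𝟙 X) g h ∈ distTriang T → U' Z) → U ≤ U')
    (X Y : T) :
    IsLocalizedModule S (Q.mapLinearMap A : (X ⟶ Y) →ₗ[A] (Q.obj X ⟶ Q.obj Y)) := by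
  have hle : U ≤ killed19190 S := hmin (killed19190 S) (killed_cone19190 S)
  have hinv : ∀ (s : A), s ∈ S → ∀ Z : T, IsIso (Q.map (s • 𝟙 Z)) := by
    intro s hs Z
    obtain ⟨C, g, h, hT⟩ := distinguished_cocone_triangle (s • 𝟙 Z)
    exact Localization.inverts Q U.trW _ ⟨C, g, h, hT, hU Z s hs C g h hT⟩
  refine ⟨?_, ?_, ?_⟩
  · -- units
    rintro ⟨s, hs⟩
    rw [Module.End.isUnit_iff]
    have := hinv s hs Y
    have hQ : Q.map (s • 𝟙 Y) = s • 𝟙 (Q.obj Y) := by
      rw [Functor.map_smul, CategoryTheory.Functor.map_id]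
    constructor
    · intro g₁ g₂ h
      have h' : g₁ ≫ Q.map (s • 𝟙 Y) = g₂ ≫ Q.map (s • 𝟙 Y) := by
        rw [hQ, Linear.comp_smul, Linear.comp_smul, Category.comp_id, Category.comp_id]
        exact h
      exact (cancel_mono _).1 h'
    · intro g
      refine ⟨g ≫ inv (Q.map (s • 𝟙 Y)), ?_⟩
      change s • (g ≫ inv (Q.map (s • 𝟙 Y))) = g
      have key : ∀ h : Q.obj X ⟶ Q.obj Y, s • h = h ≫ Q.map (s • 𝟙 Y) := fun h => by
        rw [hQ, Linear.comp_smul, Category.comp_id]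
      rw [key, Category.assoc, IsIso.inv_hom_id, Category.comp_id]
  · -- surjectivity
    intro g
    obtain ⟨φ, rfl⟩ := Localization.exists_leftFraction Q U.trW g
    obtain ⟨C, p, δ, hT, hC⟩ := φ.hs
    obtain ⟨s, hs, hsC⟩ := hle _ hC
    have h0 : (s • 𝟙 φ.Y') ≫ p = 0 := by
      rw [Linear.smul_comp, Category.id_comp]
      exact smul_eq_zero_of_killed19190 hsC p
    obtain ⟨r, hr'⟩ : ∃ r : φ.Y' ⟶ Y, s • 𝟙 φ.Y' = r ≫ φ.s := Triangle.coyoneda_exact₂ _ hT _ h0
    refine ⟨⟨φ.f ≫ r, ⟨s, hs⟩⟩, ?_⟩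
    change s • φ.map Q (Localization.inverts Q U.trW) = Q.map (φ.f ≫ r)
    have := Localization.inverts Q U.trW _ φ.hs
    have e1 : Q.map (φ.f ≫ r) ≫ Q.map φ.s = s • Q.map φ.f := by
      rw [← Q.map_comp, Category.assoc, ← hr', Linear.comp_smul, Category.comp_id, Functor.map_smul]
    rw [← cancel_mono (Q.map φ.s), Linear.smul_comp, MorphismProperty.LeftFraction.map_comp_map_s]
    exact e1.symm
  · -- kernel
    intro x₁ x₂ h
    have h' : Q.map x₁ = Q.map x₂ := h
    obtain ⟨Z, t, ht, fac⟩ := (MorphismProperty.map_eq_iff_postcomp Q U.trW x₁ x₂).1 h'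
    obtain ⟨C, p, δ, hT, hC⟩ := ht
    obtain ⟨s, hs, hsC⟩ := hle _ hC
    refine ⟨⟨s, hs⟩, ?_⟩
    change s • x₁ = s • x₂
    have h0 : (x₁ - x₂) ≫ t = 0 := by rw [Preadditive.sub_comp, fac, sub_self]
    obtain ⟨w, m, hw⟩ : ∃ (w : X ⟶ C⟦(-1 : ℤ)⟧) (m : C⟦(-1 : ℤ)⟧ ⟶ Y), x₁ - x₂ = w ≫ m := by
      obtain ⟨w, hw⟩ := Triangle.coyoneda_exact₂ _ (inv_rot_of_distTriang _ hT) (x₁ - x₂) h0
      exact ⟨w, _, hw⟩
    have hkill : s • 𝟙 (C⟦(-1 : ℤ)⟧) = 0 := by
      have : s • 𝟙 (C⟦(-1 : ℤ)⟧) = (s • 𝟙 C)⟦(-1 : ℤ)⟧' := by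
        rw [Functor.map_smul, CategoryTheory.Functor.map_id]
      rw [this, hsC, Functor.map_zero]
    have : s • (x₁ - x₂) = 0 := by
      rw [hw, ← Linear.smul_comp, smul_eq_zero_of_killed19190 hkill w, zero_comp]
    rw [smul_sub, sub_eq_zero] at this
    exact this

end main

end helpers

/-- Let `A` be a commutative ring, `S` a multiplicative subset of `A` and `T` an `A`-linear triangulated
category (octahedron axiom included; the shift functors are `A`-linear). Call an object of `T`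
`S`-torsion when it lies in the smallest thick subcategory `U` of `T` (a property of objects
containing zero, stable under shifts, extensions, isomorphisms and direct factors) containing every
cone of an endomorphism `f • 𝟙 X` with `f ∈ S`. Let `Q : T ⥤ E` exhibit `E` as the localization of
`T` at the morphisms whose cone lies in `U` (the Verdier quotient `T/U`), where `E` is preadditive
and `A`-linear and `Q` is `A`-linear. Then for all objects `X`, `Y` of `T` the `A`-linear map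
`Hom_T(X, Y) → Hom_E(Q X, Q Y)` given by `Q` exhibits its target as the localization of `Hom_T(X,
Y)` at `S`. Since `Q` is essentially surjective, this says that the comparison functor from `T/U` to
the category having the objects of `T` and morphism modules `Hom_T(X, Y) ⊗_A S⁻¹A` is an
equivalence. -/
theorem result
    {A : Type w} [CommRing A] (S : Submonoid A)
    {T : Type u} [Category.{v} T] [Preadditive T] [Linear A T] [HasZeroObject T] [HasShift T ℤ]
    [∀ n : ℤ, (shiftFunctor T n).Additive] [∀ n : ℤ, (shiftFunctor T n).Linear A]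
    [Pretriangulated T] [IsTriangulated T]
    (U : ObjectProperty T) [U.IsTriangulated] [U.IsClosedUnderIsomorphisms] [U.IsStableUnderRetracts]
    (hU : ∀ (X : T) (f : A), f ∈ S → ∀ (Z : T) (g : X ⟶ Z) (h : Z ⟶ X⟦(1 : ℤ)⟧),
      Triangle.mk (f • 𝟙 X) g h ∈ distTriang T → U Z)
    (hmin : ∀ (U' : ObjectProperty T) [U'.IsTriangulated] [U'.IsClosedUnderIsomorphisms]
      [U'.IsStableUnderRetracts],
      (∀ (X : T) (f : A), f ∈ S → ∀ (Z : T) (g : X ⟶ Z) (h : Z ⟶ X⟦(1 : ℤ)⟧),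
        Triangle.mk (f • 𝟙 X) g h ∈ distTriang T → U' Z) → U ≤ U')
    {E : Type u'} [Category.{v'} E] [Preadditive E] [Linear A E]
    (Q : T ⥤ E) [Q.Additive] [Q.Linear A] [Q.IsLocalization U.trW] (X Y : T) :
    IsLocalizedModule S (Q.mapLinearMap A : (X ⟶ Y) →ₗ[A] (Q.obj X ⟶ Q.obj Y)) := by
  exact main19190 S U Q hU hmin X Y

end Groth.Agent.S19190
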