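import Groth.Statements.S19191
import Mathlib
-- import your own Groth.Agent.* helpers here

set_option autoImplicit false
universe w v u v' u'
open CategoryTheory CategoryTheory.Limits CategoryTheory.Pretriangulated CategoryTheory.Triangulated
open CohDer

namespace Groth.Agent.S19191

section helpers

open CategoryTheory Limits Pretriangulated ZeroObject

variable {A : Type w} [CommRing A]
    {T : Type u} [Category.{v} T] [Preadditive T] [Linear A T] [HasZeroObject T] [HasShift T ℤ]
    [∀ n : ℤ, (shiftFunctor T n).Additive] [∀ n : ℤ, (shiftFunctor T n).Linear A]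
    [Pretriangulated T] [IsTriangulated T]
    (U : ObjectProperty T) [U.IsTriangulated] [U.IsClosedUnderIsomorphisms] [U.IsStableUnderRetracts]
    {E : Type u'} [Category.{v'} E] [Preadditive E] [Linear A E]
    (Q : T ⥤ E) [Q.Additive] [Q.Linear A] [Q.IsLocalization U.trW]

omit [Linear A T] [∀ n : ℤ, (shiftFunctor T n).Linear A] [Linear A E] in
lemma isZero_Q_obj_iff19191 (X : T) : IsZero (Q.obj X) ↔ U X := by
  constructor
  · intro hX
    have h0 : Q.map (𝟙 X) = Q.map 0 := hX.eq_of_src _ _
    obtain ⟨Z, t, ht, fac⟩ := (MorphismProperty.map_eq_iff_postcomp Q U.trW (𝟙 X) 0).1 h0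
    rw [Category.id_comp, zero_comp] at fac
    subst fac
    obtain ⟨C, g, h, hT, hC⟩ := ht
    obtain ⟨σ, hσ⟩ : ∃ σ : X⟦(1 : ℤ)⟧ ⟶ C, 𝟙 _ = σ ≫ h :=
      Triangle.coyoneda_exact₃ _ (rot_of_distTriang _ hT) (𝟙 (X⟦(1 : ℤ)⟧)) (by
        change 𝟙 _ ≫ (-(0 : X ⟶ Z)⟦(1 : ℤ)⟧') = 0
        rw [Functor.map_zero, neg_zero, comp_zero])
    have h1 : U (X⟦(1 : ℤ)⟧) := U.prop_of_retract ⟨σ, h, hσ.symm⟩ hC
    have h2 : U ((X⟦(1 : ℤ)⟧)⟦(-1 : ℤ)⟧) := U.le_shift (-1 : ℤ) _ h1
    exact U.prop_of_iso ((shiftEquiv T (1 : ℤ)).unitIso.symm.app X) h2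
  · intro hX
    have ht : U.trW (0 : X ⟶ 0) := by
      rw [ObjectProperty.trW_iff']
      exact ⟨X, 𝟙 X, 0, contractible_distinguished X, hX⟩
    have := Localization.inverts Q U.trW _ ht
    exact IsZero.of_iso (Q.map_isZero (isZero_zero T)) (asIso (Q.map (0 : X ⟶ 0)))

theorem main19191 (X : T) :
    U X ↔ ∀ m : Ideal A, m.IsMaximal → ∃ s : A, s ∉ m ∧ s • 𝟙 (Q.obj X) = 0 := by
  rw [← isZero_Q_obj_iff19191 U Q X]
  constructor
  · intro hX m hm
    refine ⟨1, (Ideal.ne_top_iff_one m).1 hm.ne_top, hX.eq_of_src _ _⟩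
  · intro h
    let I : Ideal A :=
      { carrier := {s | s • 𝟙 (Q.obj X) = 0}
        add_mem' := by
          intro a b ha hb
          change (a + b) • 𝟙 (Q.obj X) = 0
          rw [add_smul, ha, hb, add_zero]
        zero_mem' := zero_smul _ _
        smul_mem' := by
          intro c a ha
          change (c • a) • 𝟙 (Q.obj X) = 0
          rw [smul_eq_mul, mul_smul, ha, smul_zero] }
    have hI : I = ⊤ := by
      by_contra hne
      obtain ⟨m, hm, hle⟩ := Ideal.exists_le_maximal I hne
      obtain ⟨s, hs, hs0⟩ := h m hm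
      exact hs (hle hs0)
    have h1 : (1 : A) ∈ I := by rw [hI]; trivial
    have h1' : (1 : A) • 𝟙 (Q.obj X) = 0 := h1
    rw [one_smul] at h1'
    exact (IsZero.iff_id_eq_zero _).2 h1'

end helpers

/-- Let `A` be a commutative ring, `T` an `A`-linear triangulated category (octahedron axiom included;
shift functors `A`-linear), `U` a thick subcategory of `T` (a property of objects containing zero,
stable under shifts, extensions, isomorphisms and direct factors), and `Q : T ⥤ E` a localization of
`T` at the morphisms whose cone lies in `U` (the Verdier quotient `T/U`), where `E` is preadditive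
and `A`-linear and `Q` is `A`-linear. For an object `X` of `T` the following two conditions are
equivalent: (i) `X` lies in `U`; (ii) for every maximal ideal `m` of `A` the image of `X` in the
category obtained from `T/U` by tensoring the morphism modules with `A_m` is zero, i.e. some element
of `A` outside `m` annihilates the identity of `Q X`. (The published statement also lists a third
equivalent condition, phrased with idempotent completions of the localized categories; it is not
asserted here.) -/
theorem result
    {A : Type w} [CommRing A]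
    {T : Type u} [Category.{v} T] [Preadditive T] [Linear A T] [HasZeroObject T] [HasShift T ℤ]
    [∀ n : ℤ, (shiftFunctor T n).Additive] [∀ n : ℤ, (shiftFunctor T n).Linear A]
    [Pretriangulated T] [IsTriangulated T]
    (U : ObjectProperty T) [U.IsTriangulated] [U.IsClosedUnderIsomorphisms] [U.IsStableUnderRetracts]
    {E : Type u'} [Category.{v'} E] [Preadditive E] [Linear A E]
    (Q : T ⥤ E) [Q.Additive] [Q.Linear A] [Q.IsLocalization U.trW] (X : T) :
    U X ↔ ∀ m : Ideal A, m.IsMaximal → ∃ s : A, s ∉ m ∧ s • 𝟙 (Q.obj X) = 0 := by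
  exact main19191 U Q X

end Groth.Agent.S19191
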