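import Groth.Statements.S19193
import Mathlib


set_option autoImplicit false
universe u
open CategoryTheory Opposite TopologicalSpace
open CohTop

namespace Groth.Agent.S19193

set_option linter.style.haveILetI false
open W4c6blochformula0cyc

variable {X : Type u} [TopologicalSpace X] (F : (Opens X)ᵒᵖ ⥤ AddCommGrpCat.{u})

theorem res_res {V W Z : Opens X} (h₁ : W ≤ V) (h₂ : Z ≤ W) (x : F.obj (op V)) :
    res F h₂ (res F h₁ x) = res F (h₂.trans h₁) x := by
  unfold res
  have : (homOfLE (h₂.trans h₁)).op = (homOfLE h₁).op ≫ (homOfLE h₂).op := rfl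
  rw [this, F.map_comp]
  rfl

theorem res_id {V : Opens X} (h : V ≤ V) (x : F.obj (op V)) : res F h x = x := by
  unfold res
  have : (homOfLE h).op = 𝟙 (op V) := rfl
  rw [this, F.map_id]
  rfl

theorem res_congr {ι : Type u} {U : ι → Opens X} {n : ℕ} (f : Cochain F U n)
    {t₁ t₂ : Fin n → ι} (h : t₁ = t₂) {W : Opens X} (h₁ : W ≤ cechOpen U t₁)
    (h₂ : W ≤ cechOpen U t₂) : res F h₁ (f t₁) = res F h₂ (f t₂) := by
  subst h; rfl

theorem E_congr {ι : Type u} {U : ι → Opens X}
    (E : ∀ (V : Opens X) (α : ι), F.obj (op (V ⊓ U α)) →+ F.obj (op V))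
    {V V' : Opens X} (h : V = V') (α : ι) (x : F.obj (op (V ⊓ U α))) :
    res F (le_of_eq h.symm) (E V α x) =
      E V' α (res F (inf_le_inf_right (U α) (le_of_eq h.symm)) x) := by
  subst h
  rw [res_id, res_id]

theorem cechOpen_comp_inf {ι : Type u} (U : ι → Opens X) {n : ℕ} (t : Fin (n + 1) → ι)
    (i : Fin (n + 1)) : cechOpen U (t ∘ i.succAbove) ⊓ U (t i) = cechOpen U t := by
  apply le_antisymm
  · refine le_iInf fun j => ?_
    rcases Fin.eq_self_or_eq_succAbove i j with rfl | ⟨k, rfl⟩
    · exact inf_le_right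
    · exact inf_le_left.trans (iInf_le (fun k => U ((t ∘ i.succAbove) k)) k)
  · exact le_inf (cechOpen_le_comp U t i) (iInf_le (fun j => U (t j)) i)


theorem hle {ι : Type u} (U : ι → Opens X) {n : ℕ} (t : Fin (n + 1) → ι) (i : Fin (n + 1))
    (α : ι) : cechOpen U t ⊓ U α ≤ cechOpen U (Fin.cons α (t ∘ i.succAbove) : Fin (n + 1) → ι) :=
  (inf_le_inf_right _ (cechOpen_le_comp U t i)).trans (inf_le_cechOpen_cons U _ α)

theorem key {ι : Type u} (U : ι → Opens X)
    (E : ∀ (V : Opens X) (α : ι), F.obj (op (V ⊓ U α)) →+ F.obj (op V))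
    (h3 : ∀ (m : ℕ) (t : Fin (m + 1) → ι) (α β : ι) (g : F.obj (op (cechOpen U t ⊓ U α))),
      res F inf_le_left (E (cechOpen U t) α g) =
        E (cechOpen U t ⊓ U β) α (res F (inf_le_inf_right (U α) inf_le_left) g))
    (n : ℕ) (f : Cochain F U (n + 2)) (t : Fin (n + 2) → ι) (i : Fin (n + 2)) (α : ι) :
    res F (cechOpen_le_comp U t i) (E (cechOpen U (t ∘ i.succAbove)) α
      (res F (inf_le_cechOpen_cons U (t ∘ i.succAbove) α) (f (Fin.cons α (t ∘ i.succAbove))))) =
    E (cechOpen U t) α (res F (hle U t i α) (f (Fin.cons α (t ∘ i.succAbove)))) := by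
  have hV : cechOpen U (t ∘ i.succAbove) ⊓ U (t i) = cechOpen U t := cechOpen_comp_inf U t i
  calc res F (cechOpen_le_comp U t i) (E (cechOpen U (t ∘ i.succAbove)) α
      (res F (inf_le_cechOpen_cons U (t ∘ i.succAbove) α) (f (Fin.cons α (t ∘ i.succAbove)))))
      = res F (le_of_eq hV.symm) (res F inf_le_left (E (cechOpen U (t ∘ i.succAbove)) α
      (res F (inf_le_cechOpen_cons U (t ∘ i.succAbove) α) (f (Fin.cons α (t ∘ i.succAbove)))))) :=
        (res_res F _ _ _).symm
    _ = _ := by
      rw [h3 n (t ∘ i.succAbove) α (t i), E_congr F E hV α, res_res, res_res]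

theorem main {X : Type u} [TopologicalSpace X]
    {ι : Type u} [Fintype ι] (F : (Opens X)ᵒᵖ ⥤ AddCommGrpCat.{u}) (U : ι → Opens X)
    (E : ∀ (V : Opens X) (α : ι), F.obj (op (V ⊓ U α)) →+ F.obj (op V))
    (h2 : ∀ (m : ℕ) (t : Fin (m + 1) → ι) (f : F.obj (op (cechOpen U t))),
      ∑ α, E (cechOpen U t) α (res F inf_le_left f) = f)
    (h3 : ∀ (m : ℕ) (t : Fin (m + 1) → ι) (α β : ι) (g : F.obj (op (cechOpen U t ⊓ U α))),
      res F inf_le_left (E (cechOpen U t) α g) =
        E (cechOpen U t ⊓ U β) α (res F (inf_le_inf_right (U α) inf_le_left) g))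
    (n : ℕ) (f : Cochain F U (n + 2)) :
    homotopy F U E (n + 2) (delta F U (n + 2) f) + delta F U (n + 1) (homotopy F U E (n + 1) f) = f := by
  funext t
  have hA : ∀ α : ι, E (cechOpen U t) α (res F (inf_le_cechOpen_cons U t α)
      (delta F U (n + 2) f (Fin.cons α t))) =
      E (cechOpen U t) α (res F inf_le_left (f t)) -
        ∑ i : Fin (n + 2), ((-1 : ℤ) ^ (i : ℕ)) •
          E (cechOpen U t) α (res F (hle U t i α) (f (Fin.cons α (t ∘ i.succAbove)))) := by
    intro α
    have hd : delta F U (n + 2) f (Fin.cons α t) =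
        ∑ j : Fin (n + 3), ((-1 : ℤ) ^ (j : ℕ)) •
          res F (cechOpen_le_comp U (Fin.cons α t) j) (f ((Fin.cons α t : Fin (n + 3) → ι) ∘ j.succAbove)) := rfl
    rw [hd, Fin.sum_univ_succ, map_add, map_add, map_sum, map_sum]
    have h0 : res F (inf_le_cechOpen_cons U t α) (((-1 : ℤ) ^ ((0 : Fin (n + 3)) : ℕ)) •
        res F (cechOpen_le_comp U (Fin.cons α t) 0)
          (f ((Fin.cons α t : Fin (n + 3) → ι) ∘ (0 : Fin (n + 3)).succAbove))) =
        res F inf_le_left (f t) := by
      simp only [Fin.val_zero, pow_zero, one_smul]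
      rw [res_res]
      exact res_congr F f (by rw [Fin.succAbove_zero, Fin.cons_comp_succ]) _ _
    rw [h0, sub_eq_add_neg, ← Finset.sum_neg_distrib]
    congr 1
    apply Finset.sum_congr rfl
    intro i _
    rw [map_zsmul, map_zsmul, res_res, Fin.val_succ, pow_succ, mul_neg_one, neg_smul]
    congr 3
    exact res_congr F f (Fin.cons_comp_succ_succAbove α t i) _ _
  have hB : ∀ i : Fin (n + 2), res F (cechOpen_le_comp U t i)
      (homotopy F U E (n + 1) f (t ∘ i.succAbove)) =
      ∑ α : ι, E (cechOpen U t) α (res F (hle U t i α) (f (Fin.cons α (t ∘ i.succAbove)))) := by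
    intro i
    have hh : homotopy F U E (n + 1) f (t ∘ i.succAbove) =
        ∑ α : ι, E (cechOpen U (t ∘ i.succAbove)) α
          (res F (inf_le_cechOpen_cons U (t ∘ i.succAbove) α) (f (Fin.cons α (t ∘ i.succAbove)))) := rfl
    rw [hh, map_sum]
    exact Finset.sum_congr rfl (fun α _ => key F U E h3 n f t i α)
  have h1 : (homotopy F U E (n + 2) (delta F U (n + 2) f) +
      delta F U (n + 1) (homotopy F U E (n + 1) f)) t =
      (∑ α : ι, E (cechOpen U t) α (res F (inf_le_cechOpen_cons U t α)
        (delta F U (n + 2) f (Fin.cons α t)))) +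
      ∑ i : Fin (n + 2), ((-1 : ℤ) ^ (i : ℕ)) • res F (cechOpen_le_comp U t i)
        (homotopy F U E (n + 1) f (t ∘ i.succAbove)) := rfl
  rw [h1]
  simp only [hA, hB, Finset.sum_sub_distrib, Finset.smul_sum]
  rw [Finset.sum_comm (s := (Finset.univ : Finset ι)), sub_add_cancel]
  exact h2 (n + 1) t (f t)



open W4c6blochformula0cyc in
/-- Let `F` be a presheaf of abelian groups on a topological space `X`, `U` a family of opens of `X`
indexed by a finite type, and suppose given, for every open `V` and every index `α`, an additive map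
`E V α : F(V ∩ U_α) → F(V)` such that for every nonempty tuple of indices `t`, with `V = U_{t_0} ∩ ⋯
∩ U_{t_m}`: (i) `∑_α E V α (f|_{V ∩ U_α}) = f` for all `f ∈ F(V)`, and (ii) `(E V α g)|_{V ∩ U_β} =
E (V ∩ U_β) α (g|_{V ∩ U_β ∩ U_α})` for all indices `α, β` and all `g ∈ F(V ∩ U_α)`. Then the
operator `H` on ordered Čech cochains, `(H f)_t = ∑_α E (U_t) α (f_{(α, t)})`, satisfies `H (δ f) +
δ (H f) = f` for every Čech cochain `f` on tuples of length at least `2`, i.e. in every Čech degree
`≥ 1`. (The published statement takes a flasque sheaf on an open cover and extension maps attached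
to pairs of finite intersections; this row takes any presheaf, any finite family of opens, and maps
that may depend on the index, none of which the printed argument needs. The published statement also
asserts the identity in every degree of the Čech complex without augmentation term, and allows an
infinite index set with finitely supported sums; in Čech degree `0`, where that complex has no term
below and the identity reads `H (δ f) = f`, it fails in general — for the one-member cover of a
point and the constant presheaf `ℤ` with `E` the identity, `δ f` vanishes on the pair while `f` need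
not — so it is stated here from degree `1` on, i.e. for cochains on tuples of length at least `2`
(the whole-space term on the empty tuple carried by the cochain groups used here plays no role), and
for a finite index type.) -/
theorem result {X : Type u} [TopologicalSpace X]
    {ι : Type u} [Fintype ι] (F : (Opens X)ᵒᵖ ⥤ AddCommGrpCat.{u}) (U : ι → Opens X)
    (E : ∀ (V : Opens X) (α : ι), F.obj (op (V ⊓ U α)) →+ F.obj (op V))
    (h2 : ∀ (m : ℕ) (t : Fin (m + 1) → ι) (f : F.obj (op (cechOpen U t))),
      ∑ α, E (cechOpen U t) α (res F inf_le_left f) = f)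
    (h3 : ∀ (m : ℕ) (t : Fin (m + 1) → ι) (α β : ι) (g : F.obj (op (cechOpen U t ⊓ U α))),
      res F inf_le_left (E (cechOpen U t) α g) =
        E (cechOpen U t ⊓ U β) α (res F (inf_le_inf_right (U α) inf_le_left) g))
    (n : ℕ) (f : Cochain F U (n + 2)) :
    homotopy F U E (n + 2) (delta F U (n + 2) f) + delta F U (n + 1) (homotopy F U E (n + 1) f) = f := by
  exact main F U E h2 h3 n f

end Groth.Agent.S19193
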