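import Groth.Statements.S19196
import Mathlib.RingTheory.Ideal.AssociatedPrime.Basic
import Mathlib.RingTheory.Ideal.MinimalPrime.Noetherian

set_option autoImplicit false
universe u
open RelS1

namespace Groth.Agent.S19196

/-- Let R be a Noetherian commutative ring and N a finitely generated R-module which fails Serre's
condition (S_1), in the sense that some associated prime of N is not a minimal prime of the
annihilator of N. Then there exist an element a of R lying in no minimal prime of the annihilator of
N and a nonzero element b of N with a • b = 0; thus the basic open set D(a) meets the support of N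
densely while restriction to it is not injective on N. -/
theorem result (R N : Type u) [CommRing R] [IsNoetherianRing R]
    [AddCommGroup N] [Module R N] [Module.Finite R N]
    (h : ¬ associatedPrimes R N ⊆ (Module.annihilator R N).minimalPrimes) :
    ∃ (a : R) (b : N), (∀ P ∈ (Module.annihilator R N).minimalPrimes, a ∉ P) ∧ b ≠ 0 ∧ a • b = 0 := by
  classical
  obtain ⟨P, hPass, hPmin⟩ := Set.not_subset.mp h
  obtain ⟨hPprime, b, hPb⟩ := isAssociatedPrime_iff.mp hPass
  have hb : b ≠ 0 := by
    rintro rfl
    apply hPprime.ne_top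
    rw [hPb, Ideal.eq_top_iff_one, Submodule.mem_colon_singleton, smul_zero]
    exact Submodule.zero_mem _
  have hann : Module.annihilator R N ≤ P := by
    intro r hr
    rw [hPb, Submodule.mem_colon_singleton, Submodule.mem_bot]
    exact Module.mem_annihilator.mp hr b
  have hfin : (Module.annihilator R N).minimalPrimes.Finite :=
    Ideal.finite_minimalPrimes_of_isNoetherianRing R _
  have hnot : ¬ ((P : Set R) ⊆ ⋃ Q ∈ (hfin.toFinset : Set (Ideal R)), ((fun Q => Q) Q : Set R)) := by
    intro hsub
    have hpr : ∀ Q ∈ hfin.toFinset, Q ≠ P → Q ≠ P → Ideal.IsPrime ((fun Q => Q) Q) := by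
      intro Q hQ _ _
      exact ((hfin.mem_toFinset).mp hQ).1.1
    obtain ⟨Q, hQ, hPQ⟩ := (Ideal.subset_union_prime (s := hfin.toFinset) (f := fun Q => Q) P P hpr).mp hsub
    have hQmin : Q ∈ (Module.annihilator R N).minimalPrimes := (hfin.mem_toFinset).mp hQ
    have hQP : Q ≤ P := hQmin.2 ⟨hPprime, hann⟩ hPQ
    have : P = Q := le_antisymm hPQ hQP
    exact hPmin (this ▸ hQmin)
  obtain ⟨a, haP, hau⟩ := Set.not_subset.mp hnot
  refine ⟨a, b, ?_, hb, ?_⟩
  · intro Q hQ haQ
    apply hau
    simp only [Set.mem_iUnion]
    exact ⟨Q, (Finset.mem_coe.mpr ((hfin.mem_toFinset).mpr hQ)), haQ⟩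
  · have : a ∈ (⊥ : Submodule R N).colon {b} := hPb ▸ haP
    rwa [Submodule.mem_colon_singleton, Submodule.mem_bot] at this

end Groth.Agent.S19196
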