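import Groth.Statements.S19203
import Groth.Agent.Lib.Helper7.Growth4

set_option autoImplicit false
universe u
open CategoryTheory AlgebraicGeometry
open Coh

namespace Groth.Agent.S19203

/-- Let X be a scheme proper over a field k with dim X = r, and L an invertible O_X-module generated by
its global sections. Then for each i ≥ 1 the dimensions dim_k H^i(X, L^{⊗n}) are O(n^{r-1}): there
is a real constant C with dim_k H^i(X, L^{⊗n}) ≤ C·n^{r-1} for every n ≥ 1. (For r = 0 the exponent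
r − 1 is read as 0; k is any field.) -/
theorem result (k : Type u) [Field k] (X : Scheme.{u})
    [X.Over (Spec (CommRingCat.of k))] [IsProper (X ↘ (Spec (CommRingCat.of k)))]
    (r : ℕ) (hdim : topologicalKrullDim X = r)
    (L : X.Modules) (hL : PicF.IsInvertible L) (hgen : Curv2.IsGloballyGenerated L)
    (i : ℕ) (hi : 1 ≤ i) :
    ∃ C : ℝ, ∀ n : ℕ, 1 ≤ n →
      (Module.finrank k (Coh.HH X (CohB1.tensorPow L n) i) : ℝ) ≤ C * (n : ℝ) ^ (r - 1) := by
  have hOc := Groth.Agent.Lib.helper8.Dev.isCoh_structureModule X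
  have hdimF : topologicalKrullDim (CohB1.support (Coh.structureModule X)) <
      ((r + 1 : ℕ) : WithBot ℕ∞) := by
    refine lt_of_le_of_lt (topologicalKrullDim_subspace_le _ _) ?_
    rw [hdim]
    exact_mod_cast Nat.lt_succ_self r
  obtain ⟨C, hC⟩ := Groth.Agent.Lib.helper7.Growth.growth_gg k (r + 1) X L hL hgen
    (Coh.structureModule X) hOc hdimF i
  obtain ⟨j, rfl⟩ : ∃ j, i = j + 1 := ⟨i - 1, by omega⟩
  have hβ : ∀ n, Groth.Agent.Lib.helper7.Growth.β₂ (r + 1) (j + 1) n ≤ (n + 1) ^ (r - 1) := by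
    intro n
    cases r with
    | zero => exact Nat.zero_le _
    | succ r => exact le_refl _
  refine ⟨(C : ℝ) * 2 ^ (r - 1), fun n hn => ?_⟩
  have h0 : Module.finrank k (Coh.HH X (CohB1.tensorPow L n) (j + 1)) =
      Groth.Agent.Lib.helper7.Growth.hh k X (Coh.structureModule X) L (j + 1) n :=
    ((Groth.Agent.Lib.Helper18.HH.isoEquivOver k
      (Groth.Agent.Lib.Lead.ModTensor.leftUnitor (CohB1.tensorPow L n)) (j + 1)).finrank_eq).symm
  have h1 : Module.finrank k (Coh.HH X (CohB1.tensorPow L n) (j + 1)) ≤ C * (n + 1) ^ (r - 1) := by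
    rw [h0]
    exact (hC n).trans (Nat.mul_le_mul_left C (hβ n))
  have h2 : ((n + 1 : ℕ) : ℝ) ≤ 2 * (n : ℝ) := by
    have : (1 : ℝ) ≤ (n : ℝ) := by exact_mod_cast hn
    push_cast
    linarith
  have h3 : (((n + 1) ^ (r - 1) : ℕ) : ℝ) ≤ 2 ^ (r - 1) * (n : ℝ) ^ (r - 1) := by
    push_cast
    rw [← mul_pow]
    exact pow_le_pow_left₀ (by positivity) (by exact_mod_cast h2) (r - 1)
  calc ((Module.finrank k (Coh.HH X (CohB1.tensorPow L n) (j + 1)) : ℕ) : ℝ)
      ≤ ((C * (n + 1) ^ (r - 1) : ℕ) : ℝ) := by exact_mod_cast h1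
    _ = (C : ℝ) * (((n + 1) ^ (r - 1) : ℕ) : ℝ) := by push_cast; ring
    _ ≤ (C : ℝ) * (2 ^ (r - 1) * (n : ℝ) ^ (r - 1)) := mul_le_mul_of_nonneg_left h3 (by positivity)
    _ = (C : ℝ) * 2 ^ (r - 1) * (n : ℝ) ^ (r - 1) := by ring

end Groth.Agent.S19203
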