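import Groth.Statements.S19208
import Groth.Agent.Lib.Helper26.Mult5
import Groth.Agent.S12211

set_option autoImplicit false
universe u
open Filter
open LocAlg

namespace Groth.Agent.S19208

open Groth.Agent.Lib.helper26.HS Polynomial


/-- Let O be a Noetherian local ring of Krull dimension r containing a field, with maximal ideal m. The
zeroth flat multiplicity e_0(O), the supremum over m-primary ideals I of e(I)/(r!·length(O/I)) with
e(I) the Samuel multiplicity, is at least 1: for every ε > 0 there is an m-primary ideal I (I ⊆ m,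
m^N ⊆ I for some N) whose multiplicity e(I), the limit of r!·length(O/I^n)/n^r, satisfies e(I) ≥ (1
− ε)·r!·length(O/I). (The same statement for the power-series rings O[[t_1, …, t_k]] is the bound
e_k(O) ≥ 1 for the k-th flat multiplicity.) -/
theorem result (O : Type u) [CommRing O] [IsNoetherianRing O]
    [IsLocalRing O] (K : Type u) [Field K] [Algebra K O] (r : ℕ) (hr : ringKrullDim O = r)
    (ε : ℝ) (hε : 0 < ε) :
    ∃ (I : Ideal O) (e : ℝ), I ≤ IsLocalRing.maximalIdeal O ∧
      (∃ N : ℕ, IsLocalRing.maximalIdeal O ^ N ≤ I) ∧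
      Tendsto (fun n : ℕ => (r.factorial : ℝ) * ((Module.length O (O ⧸ I ^ n)).toNat : ℝ) / (n : ℝ) ^ r)
        atTop (nhds e) ∧
      (1 - ε) * ((r.factorial : ℝ) * ((Module.length O (O ⧸ I)).toNat : ℝ)) ≤ e := by
  set m := IsLocalRing.maximalIdeal O with hm
  have hjac : m ≤ Ring.jacobson O := by
    rw [IsLocalRing.ringJacobson_eq_maximalIdeal]
  have hM : hs m O 1 ≠ ⊤ := Groth.Agent.S12211.hs_one_ne_top O m ⟨1, by rw [pow_one]⟩ O
  obtain ⟨P, hP⟩ := exists_isHSPoly m hM
  have hdim : Module.supportDim O O = (r : WithBot ℕ∞) := by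
    rw [Module.supportDim_self_eq_ringKrullDim, hr]
  have hle : P.natDegree ≤ r :=
    natDegree_le_of_supportDim_le m r O hM P hP (le_of_eq hdim)
  have hge : r ≤ P.natDegree := by
    have h1 := supportDim_le_of_natDegree_le m hjac P.natDegree O hM P hP le_rfl
    rw [hdim] at h1
    have : (r : ℕ∞) ≤ (P.natDegree : ℕ∞) := by exact_mod_cast h1
    exact_mod_cast this
  have hdeg : P.natDegree = r := le_antisymm hle hge
  set e₀ : ℝ := (r.factorial : ℝ) * ((P.leadingCoeff : ℚ) : ℝ) with he₀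
  have hlim : Tendsto (fun t : ℕ => (r.factorial : ℝ) * ((hs m O t).toNat : ℝ) / (t : ℝ) ^ r)
      atTop (nhds e₀) := tendsto_of_isHSPoly m hP r hdeg
  have hpos : (1 : ℝ) ≤ e₀ := one_le_mult m hjac hM hP r hdeg
  -- length of O / m^t
  have hlen : ∀ t : ℕ, Module.length O (O ⧸ m ^ t) = hs m O t := by
    intro t
    unfold hs col
    have : m ^ t • (⊤ : Submodule O O) = m ^ t := by
      rw [smul_eq_mul, ← Ideal.one_eq_top, mul_one]
    rw [this]
  -- choose N
  have hlim2 : Tendsto (fun t : ℕ => (1 - ε) * ((r.factorial : ℝ) * ((hs m O t).toNat : ℝ) / (t : ℝ) ^ r))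
      atTop (nhds ((1 - ε) * e₀)) := hlim.const_mul _
  have hlt : (1 - ε) * e₀ < e₀ := by nlinarith
  have hev := hlim2.eventually (gt_mem_nhds hlt)
  obtain ⟨N, hN1, hN⟩ := (hev.and (eventually_ge_atTop 1)).exists
  have hNpos : (0 : ℝ) < (N : ℝ) ^ r := by
    have : (0 : ℝ) < (N : ℝ) := by exact_mod_cast (show 0 < N by omega)
    positivity
  refine ⟨m ^ N, e₀ * (N : ℝ) ^ r, ?_, ⟨N, le_rfl⟩, ?_, ?_⟩
  · exact Ideal.pow_le_self (by omega)
  · have hcomp : Tendsto (fun n : ℕ => N * n) atTop atTop :=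
      tendsto_atTop_mono (fun n => Nat.le_mul_of_pos_left n (by omega)) tendsto_id
    have h1 := (hlim.comp hcomp).mul_const ((N : ℝ) ^ r)
    refine h1.congr' ?_
    filter_upwards [eventually_ge_atTop 1] with n hn
    simp only [Function.comp_apply]
    rw [← pow_mul, hlen]
    have hn0 : (0 : ℝ) < (n : ℝ) ^ r := by
      have : (0 : ℝ) < (n : ℝ) := by exact_mod_cast (show 0 < n by omega)
      positivity
    push_cast
    rw [mul_pow]
    field_simp
  · rw [hlen]
    have h2 : (1 - ε) * ((r.factorial : ℝ) * ((hs m O N).toNat : ℝ) / (N : ℝ) ^ r) * (N : ℝ) ^ r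
        < e₀ * (N : ℝ) ^ r := mul_lt_mul_of_pos_right hN1 hNpos
    have h3 : (1 - ε) * ((r.factorial : ℝ) * ((hs m O N).toNat : ℝ) / (N : ℝ) ^ r) * (N : ℝ) ^ r
        = (1 - ε) * ((r.factorial : ℝ) * ((hs m O N).toNat : ℝ)) := by
      field_simp
    rw [h3] at h2
    exact h2.le


end Groth.Agent.S19208
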