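import Groth.Statements.S19210
import Mathlib
-- import your own Groth.Agent.* helpers here

set_option autoImplicit false
universe u
open LocAlg

namespace Groth.Agent.S19210

/-- two-sided Bernoulli-type bound for `(x+1)^(b+1) - x^(b+1)` -/
theorem diff_bounds (b : ℕ) (x : ℝ) (hx : 0 ≤ x) :
    ((b : ℝ) + 1) * x ^ b ≤ (x + 1) ^ (b + 1) - x ^ (b + 1) ∧
      (x + 1) ^ (b + 1) - x ^ (b + 1) ≤ ((b : ℝ) + 1) * (x + 1) ^ b := by
  have h := geom_sum₂_mul (x + 1) x (b + 1)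
  have h1 : (x + 1) - x = 1 := by ring
  rw [h1, mul_one] at h
  rw [← h]
  have hterm : ∀ i ∈ Finset.range (b + 1),
      x ^ b ≤ (x + 1) ^ i * x ^ (b + 1 - 1 - i) ∧
        (x + 1) ^ i * x ^ (b + 1 - 1 - i) ≤ (x + 1) ^ b := by
    intro i hi
    have hi' : i ≤ b := Nat.lt_succ_iff.mp (Finset.mem_range.mp hi)
    have e : b + 1 - 1 - i = b - i := by omega
    rw [e]
    have hb : b = i + (b - i) := by omega
    have hx1 : x ≤ x + 1 := by linarith
    have hx1' : 0 ≤ x + 1 := by linarith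
    constructor
    · calc x ^ b = x ^ i * x ^ (b - i) := by rw [← pow_add, ← hb]
        _ ≤ (x + 1) ^ i * x ^ (b - i) :=
          mul_le_mul_of_nonneg_right (pow_le_pow_left₀ hx hx1 i) (pow_nonneg hx _)
    · calc (x + 1) ^ i * x ^ (b - i) ≤ (x + 1) ^ i * (x + 1) ^ (b - i) :=
          mul_le_mul_of_nonneg_left (pow_le_pow_left₀ hx hx1 _) (pow_nonneg hx1' _)
        _ = (x + 1) ^ b := by rw [← pow_add, ← hb]
  constructor
  · have := Finset.sum_le_sum (fun i hi => (hterm i hi).1)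
    simpa [Finset.sum_const, Finset.card_range, nsmul_eq_mul] using this
  · have := Finset.sum_le_sum (fun i hi => (hterm i hi).2)
    simpa [Finset.sum_const, Finset.card_range, nsmul_eq_mul] using this

/-- base case: power sums -/
theorem base_bounds (b : ℕ) (n : ℕ) :
    ((b : ℝ) + 1) * (∑ i ∈ Finset.range n, (i : ℝ) ^ b) ≤ (n : ℝ) ^ (b + 1) ∧
      (n : ℝ) ^ (b + 1) ≤ ((b : ℝ) + 1) * ((∑ i ∈ Finset.range n, (i : ℝ) ^ b) + (n : ℝ) ^ b) := by
  induction n with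
  | zero =>
    constructor
    · simp
    · simp only [Finset.range_zero, Finset.sum_empty, Nat.cast_zero, zero_add]
      rw [pow_succ, mul_zero]
      positivity
  | succ n ih =>
    obtain ⟨ih1, ih2⟩ := ih
    obtain ⟨d1, d2⟩ := diff_bounds b (n : ℝ) (Nat.cast_nonneg n)
    rw [Finset.sum_range_succ]
    push_cast
    constructor
    · nlinarith
    · nlinarith

/-- the Beta coefficient -/
noncomputable def cc (a b : ℕ) : ℝ :=
  (a.factorial : ℝ) * (b.factorial : ℝ) / ((a + b + 1).factorial : ℝ)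

theorem cc_rec (a b : ℕ) : cc (a + 1) b = cc a b - cc a (b + 1) := by
  unfold cc
  have h1 : ((a + b + 1).factorial : ℝ) ≠ 0 := by positivity
  have h2 : ((a + (b + 1) + 1).factorial : ℝ) ≠ 0 := by positivity
  have h3 : ((a + 1 + b + 1).factorial : ℝ) ≠ 0 := by positivity
  have e1 : a + 1 + b + 1 = (a + b + 1) + 1 := by ring
  have e2 : a + (b + 1) + 1 = (a + b + 1) + 1 := by ring
  rw [e1, e2]
  rw [Nat.factorial_succ (a + b + 1), Nat.factorial_succ a, Nat.factorial_succ b]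
  push_cast
  field_simp
  ring

theorem main (a : ℕ) : ∀ b : ℕ, ∃ C : ℝ, ∀ n : ℕ, 1 ≤ n →
    |(∑ i ∈ Finset.range n, ((n : ℝ) - (i : ℝ)) ^ a * (i : ℝ) ^ b) -
        cc a b * (n : ℝ) ^ (a + b + 1)| ≤ C * (n : ℝ) ^ (a + b) := by
  induction a with
  | zero =>
    intro b
    refine ⟨1, fun n hn => ?_⟩
    obtain ⟨h1, h2⟩ := base_bounds b n
    have hcc : cc 0 b = 1 / ((b : ℝ) + 1) := by
      unfold cc
      rw [Nat.factorial_zero, zero_add, Nat.factorial_succ]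
      push_cast
      have : ((b.factorial : ℕ) : ℝ) ≠ 0 := by positivity
      field_simp
    simp only [pow_zero, one_mul, zero_add]
    rw [hcc, abs_le]
    have hb1 : (0 : ℝ) < (b : ℝ) + 1 := by positivity
    have e : 1 / ((b : ℝ) + 1) * (n : ℝ) ^ (b + 1) = (n : ℝ) ^ (b + 1) / ((b : ℝ) + 1) := by ring
    rw [e]
    constructor
    · rw [neg_le_sub_iff_le_add, div_le_iff₀ hb1]
      nlinarith
    · rw [sub_le_iff_le_add]
      have : (∑ i ∈ Finset.range n, (i : ℝ) ^ b) ≤ (n : ℝ) ^ (b + 1) / ((b : ℝ) + 1) := by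
        rw [le_div_iff₀ hb1]; linarith
      have h0 : (0 : ℝ) ≤ (n : ℝ) ^ b := by positivity
      linarith
  | succ a ih =>
    intro b
    obtain ⟨C₁, hC₁⟩ := ih b
    obtain ⟨C₂, hC₂⟩ := ih (b + 1)
    refine ⟨C₁ + C₂, fun n hn => ?_⟩
    have hsplit : (∑ i ∈ Finset.range n, ((n : ℝ) - (i : ℝ)) ^ (a + 1) * (i : ℝ) ^ b) =
        (n : ℝ) * (∑ i ∈ Finset.range n, ((n : ℝ) - (i : ℝ)) ^ a * (i : ℝ) ^ b) -
          ∑ i ∈ Finset.range n, ((n : ℝ) - (i : ℝ)) ^ a * (i : ℝ) ^ (b + 1) := by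
      rw [Finset.mul_sum, ← Finset.sum_sub_distrib]
      apply Finset.sum_congr rfl
      intro i _
      ring
    have h1 := hC₁ n hn
    have h2 := hC₂ n hn
    have hn0 : (0 : ℝ) ≤ (n : ℝ) := Nat.cast_nonneg n
    have e : (∑ i ∈ Finset.range n, ((n : ℝ) - (i : ℝ)) ^ (a + 1) * (i : ℝ) ^ b) -
        cc (a + 1) b * (n : ℝ) ^ (a + 1 + b + 1) =
        (n : ℝ) * ((∑ i ∈ Finset.range n, ((n : ℝ) - (i : ℝ)) ^ a * (i : ℝ) ^ b) -
          cc a b * (n : ℝ) ^ (a + b + 1)) -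
        ((∑ i ∈ Finset.range n, ((n : ℝ) - (i : ℝ)) ^ a * (i : ℝ) ^ (b + 1)) -
          cc a (b + 1) * (n : ℝ) ^ (a + (b + 1) + 1)) := by
      rw [hsplit, cc_rec]
      have e1 : a + 1 + b + 1 = (a + b + 1) + 1 := by ring
      have e2 : a + (b + 1) + 1 = (a + b + 1) + 1 := by ring
      rw [e1, e2]
      ring
    rw [e]
    have e3 : a + (b + 1) = a + b + 1 := by ring
    rw [e3] at h2
    have e4 : a + 1 + b = a + b + 1 := by ring
    rw [e4]
    calc |(n : ℝ) * ((∑ i ∈ Finset.range n, ((n : ℝ) - (i : ℝ)) ^ a * (i : ℝ) ^ b) -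
          cc a b * (n : ℝ) ^ (a + b + 1)) -
        ((∑ i ∈ Finset.range n, ((n : ℝ) - (i : ℝ)) ^ a * (i : ℝ) ^ (b + 1)) -
          cc a (b + 1) * (n : ℝ) ^ (a + (b + 1) + 1))|
        ≤ |(n : ℝ) * ((∑ i ∈ Finset.range n, ((n : ℝ) - (i : ℝ)) ^ a * (i : ℝ) ^ b) -
          cc a b * (n : ℝ) ^ (a + b + 1))| +
          |(∑ i ∈ Finset.range n, ((n : ℝ) - (i : ℝ)) ^ a * (i : ℝ) ^ (b + 1)) -
          cc a (b + 1) * (n : ℝ) ^ (a + (b + 1) + 1)| := abs_sub _ _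
      _ ≤ (n : ℝ) * (C₁ * (n : ℝ) ^ (a + b)) + C₂ * (n : ℝ) ^ (a + b + 1) := by
          rw [abs_mul, abs_of_nonneg hn0]
          exact add_le_add (mul_le_mul_of_nonneg_left h1 hn0) h2
      _ = (C₁ + C₂) * (n : ℝ) ^ (a + b + 1) := by ring


/-- For natural numbers j ≤ r, the sums Σ_{i=0}^{n−1} (n − i)^{r−j} i^j equal n^{r+1}·(r − j)!·j!/(r +
1)! up to O(n^r): there is a real constant C with |Σ_{i<n} (n − i)^{r−j} i^j − ((r − j)!·j!/(r +
1)!)·n^{r+1}| ≤ C·n^r for all n ≥ 1. -/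
theorem result (r j : ℕ) (hj : j ≤ r) :
    ∃ C : ℝ, ∀ n : ℕ, 1 ≤ n →
      |(∑ i ∈ Finset.range n, ((n : ℝ) - (i : ℝ)) ^ (r - j) * (i : ℝ) ^ j) -
          ((r - j).factorial : ℝ) * (j.factorial : ℝ) / ((r + 1).factorial : ℝ) * (n : ℝ) ^ (r + 1)| ≤
        C * (n : ℝ) ^ r := by
  obtain ⟨C, hC⟩ := main (r - j) j
  refine ⟨C, fun n hn => ?_⟩
  have h := hC n hn
  have e : r - j + j = r := Nat.sub_add_cancel hj
  rw [e] at h
  unfold cc at h
  rw [e] at h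
  exact h

end Groth.Agent.S19210
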