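import Groth.Statements.S19216
import Mathlib.Tactic.FieldSimp
import Mathlib.Tactic.Ring
import Mathlib.Tactic.LinearCombination
import Mathlib.Algebra.BigOperators.Fin
import Mathlib.Data.Fintype.BigOperators
import Mathlib.Algebra.BigOperators.Field

set_option autoImplicit false
universe u
open SymRep

namespace Groth.Agent.S19216

/-- Let k be a field of characteristic zero and r, s ≥ 1. Realise the standard representation of the
symmetric group on a finite set T as the hyperplane of functions T → k with sum zero, the group
acting by precomposition with the inverse. Then the standard representation of the symmetric group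
of Fin r ⊕ Fin s, restricted to the subgroup S_r × S_s, is isomorphic to the direct sum of the
standard representations of S_r and of S_s and of a one-dimensional trivial representation: there is
a k-linear map E from functions on Fin r ⊕ Fin s to triples (function on Fin r, function on Fin s,
scalar), compatible with the actions of S_r × S_s (trivial on the scalar), which maps the sum-zero
hyperplane bijectively onto the product of the two sum-zero hyperplanes and k. (The published
statement is over the complex numbers; a field of characteristic zero is used here. The published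
statement also gives the analogous decomposition for any number of blocks, which follows by
induction; only the two-block case is stated here.) -/
theorem result (k : Type u) [Field k] [CharZero k]
    (r s : ℕ) (hr : 1 ≤ r) (hs : 1 ≤ s) :
    ∃ E : (Fin r ⊕ Fin s → k) →ₗ[k] (Fin r → k) × (Fin s → k) × k,
      (∀ (σ : Equiv.Perm (Fin r)) (τ : Equiv.Perm (Fin s)) (f : Fin r ⊕ Fin s → k),
        E (f ∘ ⇑(Equiv.sumCongr σ τ).symm) = ((E f).1 ∘ ⇑σ.symm, (E f).2.1 ∘ ⇑τ.symm, (E f).2.2)) ∧
      Set.BijOn E {f | ∑ i, f i = 0}
        ({g : Fin r → k | ∑ i, g i = 0} ×ˢ ({h : Fin s → k | ∑ i, h i = 0} ×ˢ Set.univ)) := by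
  have hr0 : (r : k) ≠ 0 := by
    have : r ≠ 0 := by omega
    exact_mod_cast this
  have hs0 : (s : k) ≠ 0 := by
    have : s ≠ 0 := by omega
    exact_mod_cast this
  let E : (Fin r ⊕ Fin s → k) →ₗ[k] (Fin r → k) × (Fin s → k) × k :=
    { toFun := fun f => (fun i => f (Sum.inl i) - (r : k)⁻¹ * ∑ i', f (Sum.inl i'),
        fun j => f (Sum.inr j) - (s : k)⁻¹ * ∑ j', f (Sum.inr j'), (r : k)⁻¹ * ∑ i', f (Sum.inl i'))
      map_add' := by
        intro f g
        refine Prod.ext ?_ (Prod.ext ?_ ?_)
        · funext i
          simp only [Pi.add_apply, Finset.sum_add_distrib, Prod.fst_add]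
          ring
        · funext j
          simp only [Pi.add_apply, Finset.sum_add_distrib, Prod.snd_add, Prod.fst_add]
          ring
        · simp only [Pi.add_apply, Finset.sum_add_distrib, Prod.snd_add]
          ring
      map_smul' := by
        intro c f
        refine Prod.ext ?_ (Prod.ext ?_ ?_)
        · funext i
          simp only [Pi.smul_apply, smul_eq_mul, ← Finset.mul_sum, Prod.smul_fst, RingHom.id_apply]
          ring
        · funext j
          simp only [Pi.smul_apply, smul_eq_mul, ← Finset.mul_sum, Prod.smul_snd, Prod.smul_fst,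
            RingHom.id_apply]
          ring
        · simp only [Pi.smul_apply, smul_eq_mul, ← Finset.mul_sum, Prod.smul_snd, RingHom.id_apply]
          ring }
  have hE : ∀ f, E f = (fun i => f (Sum.inl i) - (r : k)⁻¹ * ∑ i', f (Sum.inl i'),
        fun j => f (Sum.inr j) - (s : k)⁻¹ * ∑ j', f (Sum.inr j'), (r : k)⁻¹ * ∑ i', f (Sum.inl i')) :=
    fun f => rfl
  refine ⟨E, ?_, ?_, ?_, ?_⟩
  · intro σ τ f
    have h1 : ∑ i', (f ∘ ⇑(Equiv.sumCongr σ τ).symm) (Sum.inl i') = ∑ i', f (Sum.inl i') := by
      simp only [Function.comp_apply, Equiv.sumCongr_symm, Equiv.sumCongr_apply, Sum.map_inl]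
      exact Equiv.sum_comp σ.symm (fun i => f (Sum.inl i))
    have h2 : ∑ j', (f ∘ ⇑(Equiv.sumCongr σ τ).symm) (Sum.inr j') = ∑ j', f (Sum.inr j') := by
      simp only [Function.comp_apply, Equiv.sumCongr_symm, Equiv.sumCongr_apply, Sum.map_inr]
      exact Equiv.sum_comp τ.symm (fun j => f (Sum.inr j))
    rw [hE, hE, h1, h2]
    refine Prod.ext ?_ (Prod.ext ?_ rfl)
    · funext i; simp
    · funext j; simp
  · intro f hf
    simp only [Set.mem_ofPred_eq] at hf
    rw [hE]
    refine ⟨?_, ?_, trivial⟩
    · simp only [Set.mem_ofPred_eq, Finset.sum_sub_distrib, Finset.sum_const, Finset.card_univ,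
        Fintype.card_fin, nsmul_eq_mul]
      field_simp
      ring
    · simp only [Set.mem_ofPred_eq, Finset.sum_sub_distrib, Finset.sum_const, Finset.card_univ,
        Fintype.card_fin, nsmul_eq_mul]
      field_simp
      ring
  · intro f hf g hg hfg
    simp only [Set.mem_ofPred_eq] at hf hg
    rw [Fintype.sum_sum_type] at hf hg
    rw [hE, hE] at hfg
    simp only [Prod.mk.injEq] at hfg
    obtain ⟨h1, h2, h3⟩ := hfg
    have hsum : ∑ i', f (Sum.inl i') = ∑ i', g (Sum.inl i') := by
      have := mul_left_cancel₀ (inv_ne_zero hr0) h3
      exact this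
    have hsum2 : ∑ j', f (Sum.inr j') = ∑ j', g (Sum.inr j') := by
      have e1 : ∑ j', f (Sum.inr j') = - ∑ i', f (Sum.inl i') := by linear_combination hf
      have e2 : ∑ j', g (Sum.inr j') = - ∑ i', g (Sum.inl i') := by linear_combination hg
      rw [e1, e2, hsum]
    funext x
    rcases x with i | j
    · have := congrFun h1 i
      simp only [hsum] at this
      linear_combination this
    · have := congrFun h2 j
      simp only [hsum2] at this
      linear_combination this
  · rintro ⟨g, h, c⟩ ⟨hg, hh, -⟩
    simp only [Set.mem_ofPred_eq] at hg hh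
    refine ⟨Sum.elim (fun i => g i + c) (fun j => h j - (r : k) / s * c), ?_, ?_⟩
    · simp only [Set.mem_ofPred_eq, Fintype.sum_sum_type, Sum.elim_inl, Sum.elim_inr,
        Finset.sum_add_distrib, Finset.sum_sub_distrib, hg, hh, Finset.sum_const, Finset.card_univ,
        Fintype.card_fin, nsmul_eq_mul]
      field_simp
      ring
    · rw [hE]
      simp only [Sum.elim_inl, Sum.elim_inr, Finset.sum_add_distrib, Finset.sum_sub_distrib, hg, hh,
        Finset.sum_const, Finset.card_univ, Fintype.card_fin, nsmul_eq_mul]
      refine Prod.ext ?_ (Prod.ext ?_ ?_)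
      · funext i
        simp only
        field_simp
        ring
      · funext j
        simp only
        field_simp
        ring
      · simp only
        field_simp
        ring

end Groth.Agent.S19216
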