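import Groth.Statements.S19218
import Mathlib

set_option autoImplicit false
universe u v
open TensorProduct
open DiagIdeal

namespace Groth.Agent.S19218


open PiTensorProduct

section
variable {k : Type u} [Field k] {A : Type v} [CommRing A] [Algebra k A] {n : ℕ}

/-- the permutation action as an algebra homomorphism -/
noncomputable def Θ (σ : Equiv.Perm (Fin n)) :
    (⨂[k] _ : Fin n, A) →ₐ[k] (⨂[k] _ : Fin n, A) :=
  PiTensorProduct.liftAlgHom
    ((PiTensorProduct.tprod k : MultilinearMap k (fun _ : Fin n => A) (⨂[k] _ : Fin n, A)).domDomCongr σ.symm)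
    (by rfl)
    (by
      intro x y
      show PiTensorProduct.tprod k (fun i => (x * y) (σ.symm i)) =
        PiTensorProduct.tprod k (fun i => x (σ.symm i)) * PiTensorProduct.tprod k (fun i => y (σ.symm i))
      rw [PiTensorProduct.tprod_mul_tprod]
      rfl)

lemma Θ_tprod (σ : Equiv.Perm (Fin n)) (v : Fin n → A) :
    Θ (k := k) σ (PiTensorProduct.tprod k v) = PiTensorProduct.tprod k (fun i => v (σ.symm i)) := by
  unfold Θ
  rw [PiTensorProduct.liftAlgHom_apply, PiTensorProduct.lift.tprod]
  rfl

lemma Θ_eq_reindex (σ : Equiv.Perm (Fin n)) (x : ⨂[k] _ : Fin n, A) :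
    PiTensorProduct.reindex k (fun _ : Fin n => A) σ x = Θ (k := k) σ x := by
  have h : ((PiTensorProduct.reindex k (fun _ : Fin n => A) σ :
      (⨂[k] _ : Fin n, A) ≃ₗ[k] (⨂[k] _ : Fin n, A)) :
        (⨂[k] _ : Fin n, A) →ₗ[k] (⨂[k] _ : Fin n, A)) = (Θ (k := k) σ).toLinearMap := by
    apply PiTensorProduct.ext
    apply MultilinearMap.ext
    intro v
    rw [LinearMap.compMultilinearMap_apply, LinearMap.compMultilinearMap_apply]
    show PiTensorProduct.reindex k (fun _ : Fin n => A) σ (PiTensorProduct.tprod k v) =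
      Θ (k := k) σ (PiTensorProduct.tprod k v)
    rw [PiTensorProduct.reindex_tprod, Θ_tprod]
  exact LinearMap.congr_fun h x

lemma Θ_single (σ : Equiv.Perm (Fin n)) (l : Fin n) (a : A) :
    Θ (k := k) σ (PiTensorProduct.singleAlgHom (R := k) (A := fun _ : Fin n => A) l a) =
      PiTensorProduct.singleAlgHom (R := k) (A := fun _ : Fin n => A) (σ l) a := by
  rw [PiTensorProduct.singleAlgHom_apply, PiTensorProduct.singleAlgHom_apply, Θ_tprod]
  congr 1
  funext i'
  show (Pi.mulSingle l a : Fin n → A) (σ.symm i') = (Pi.mulSingle (σ l) a : Fin n → A) i'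
  rw [Pi.mulSingle_apply, Pi.mulSingle_apply]
  by_cases h : i' = σ l
  · rw [if_pos h, if_pos (by rw [h, Equiv.symm_apply_apply])]
  · rw [if_neg h, if_neg (fun h' => h (by rw [← h', Equiv.apply_symm_apply]))]

variable (i j : Fin n)

lemma La (Ip : Ideal (⨂[k] _ : Fin n, A))
    (hIp : Ip = Ideal.span (Set.range fun a : A =>
        PiTensorProduct.singleAlgHom (R := k) (A := fun _ : Fin n => A) i a -
        PiTensorProduct.singleAlgHom (R := k) (A := fun _ : Fin n => A) j a))
    (r : ⨂[k] _ : Fin n, A) : Θ (k := k) (Equiv.swap i j) r - r ∈ Ip := by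
  have h : (Ideal.Quotient.mkₐ k Ip).comp (Θ (k := k) (Equiv.swap i j)) = Ideal.Quotient.mkₐ k Ip := by
    apply PiTensorProduct.algHom_ext
    intro l
    apply AlgHom.ext
    intro a
    show Ideal.Quotient.mk Ip (Θ (k := k) (Equiv.swap i j)
        (PiTensorProduct.singleAlgHom (R := k) (A := fun _ : Fin n => A) l a)) =
      Ideal.Quotient.mk Ip (PiTensorProduct.singleAlgHom (R := k) (A := fun _ : Fin n => A) l a)
    rw [Θ_single, Ideal.Quotient.eq]
    by_cases hl : l = i
    · subst hl
      rw [Equiv.swap_apply_left, ← neg_sub]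
      apply Ip.neg_mem
      rw [hIp]
      exact Ideal.subset_span ⟨a, rfl⟩
    · by_cases hl' : l = j
      · subst hl'
        rw [Equiv.swap_apply_right, hIp]
        exact Ideal.subset_span ⟨a, rfl⟩
      · rw [Equiv.swap_apply_of_ne_of_ne hl hl', sub_self]
        exact Ip.zero_mem
  have h1 := AlgHom.congr_fun h r
  exact Ideal.Quotient.eq.mp h1

lemma Lb (Ip : Ideal (⨂[k] _ : Fin n, A))
    (hIp : Ip = Ideal.span (Set.range fun a : A =>
        PiTensorProduct.singleAlgHom (R := k) (A := fun _ : Fin n => A) i a -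
        PiTensorProduct.singleAlgHom (R := k) (A := fun _ : Fin n => A) j a))
    (v : ⨂[k] _ : Fin n, A) (hv : v ∈ Ip) : Θ (k := k) (Equiv.swap i j) v + v ∈ Ip ^ 2 := by
  have hv' := hv
  rw [hIp] at hv'
  induction hv' using Submodule.span_induction with
  | mem x hx =>
    obtain ⟨a, rfl⟩ := hx
    have e : Θ (k := k) (Equiv.swap i j) (PiTensorProduct.singleAlgHom (R := k) (A := fun _ : Fin n => A) i a -
        PiTensorProduct.singleAlgHom (R := k) (A := fun _ : Fin n => A) j a) +
        (PiTensorProduct.singleAlgHom (R := k) (A := fun _ : Fin n => A) i a -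
        PiTensorProduct.singleAlgHom (R := k) (A := fun _ : Fin n => A) j a) = 0 := by
      rw [map_sub, Θ_single, Θ_single, Equiv.swap_apply_left, Equiv.swap_apply_right]
      ring
    rw [e]
    exact (Ip ^ 2).zero_mem
  | zero =>
    rw [map_zero, add_zero]
    exact (Ip ^ 2).zero_mem
  | add x y hx hy ihx ihy =>
    have hx' : x ∈ Ip := by rw [hIp]; exact hx
    have hy' : y ∈ Ip := by rw [hIp]; exact hy
    have e : Θ (k := k) (Equiv.swap i j) (x + y) + (x + y) =
        (Θ (k := k) (Equiv.swap i j) x + x) + (Θ (k := k) (Equiv.swap i j) y + y) := by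
      rw [map_add]; ring
    rw [e]
    exact (Ip ^ 2).add_mem (ihx hx') (ihy hy')
  | smul r x hx ihx =>
    have hx' : x ∈ Ip := by rw [hIp]; exact hx
    have e : Θ (k := k) (Equiv.swap i j) (r • x) + r • x =
        Θ (k := k) (Equiv.swap i j) r * (Θ (k := k) (Equiv.swap i j) x + x) -
          (Θ (k := k) (Equiv.swap i j) r - r) * x := by
      rw [smul_eq_mul, map_mul]; ring
    rw [e]
    apply (Ip ^ 2).sub_mem
    · exact Ideal.mul_mem_left _ _ (ihx hx')
    · rw [pow_two]
      exact Ideal.mul_mem_mul (La i j Ip hIp r) hx'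

lemma Lc (Ip : Ideal (⨂[k] _ : Fin n, A))
    (hIp : Ip = Ideal.span (Set.range fun a : A =>
        PiTensorProduct.singleAlgHom (R := k) (A := fun _ : Fin n => A) i a -
        PiTensorProduct.singleAlgHom (R := k) (A := fun _ : Fin n => A) j a))
    (v : ⨂[k] _ : Fin n, A) (hv : v ∈ Ip) : Θ (k := k) (Equiv.swap i j) v ∈ Ip := by
  have h := Lb i j Ip hIp v hv
  have h2 : Ip ^ 2 ≤ Ip := by
    rw [pow_two]; exact Ideal.mul_le_left
  have e : Θ (k := k) (Equiv.swap i j) v = (Θ (k := k) (Equiv.swap i j) v + v) - v := by ring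
  rw [e]
  exact Ip.sub_mem (h2 h) hv

lemma Ld (Ip : Ideal (⨂[k] _ : Fin n, A))
    (hIp : Ip = Ideal.span (Set.range fun a : A =>
        PiTensorProduct.singleAlgHom (R := k) (A := fun _ : Fin n => A) i a -
        PiTensorProduct.singleAlgHom (R := k) (A := fun _ : Fin n => A) j a)) :
    ∀ (s : ℕ) (y : ⨂[k] _ : Fin n, A), y ∈ Ip ^ s →
      Θ (k := k) (Equiv.swap i j) y - (-1) ^ s * y ∈ Ip ^ (s + 1) := by
  intro s
  induction s with
  | zero =>
    intro y _
    rw [pow_zero, one_mul, zero_add, pow_one]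
    exact La i j Ip hIp y
  | succ s ih =>
    intro y hy
    rw [pow_succ] at hy
    refine Submodule.mul_induction_on hy ?_ ?_
    · intro u hu v hv
      have e : Θ (k := k) (Equiv.swap i j) (u * v) - (-1) ^ (s + 1) * (u * v) =
          (Θ (k := k) (Equiv.swap i j) u - (-1) ^ s * u) * Θ (k := k) (Equiv.swap i j) v +
            (-1) ^ s * (u * (Θ (k := k) (Equiv.swap i j) v + v)) := by
        rw [map_mul, pow_succ]; ring
      rw [e]
      apply Ideal.add_mem
      · rw [pow_succ (n := s + 1)]
        exact Ideal.mul_mem_mul (ih u hu) (Lc i j Ip hIp v hv)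
      · apply Ideal.mul_mem_left
        have e2 : Ip ^ (s + 1 + 1) = Ip ^ s * Ip ^ 2 := by rw [← pow_add]
        rw [e2]
        exact Ideal.mul_mem_mul hu (Lb i j Ip hIp v hv)
    · intro x y hx hy
      have e : Θ (k := k) (Equiv.swap i j) (x + y) - (-1) ^ (s + 1) * (x + y) =
          (Θ (k := k) (Equiv.swap i j) x - (-1) ^ (s + 1) * x) +
            (Θ (k := k) (Equiv.swap i j) y - (-1) ^ (s + 1) * y) := by
        rw [map_add]; ring
      rw [e]
      exact Ideal.add_mem _ hx hy

end


/-- Let k be an algebraically closed field of characteristic zero and A a smooth k-algebra which is a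
domain of Krull dimension 2. In the n-fold tensor power R of A over k, indexed by Fin n, let I_p (p
= (i, j), i < j) be the ideal generated by the a_i − a_j, a ∈ A, and let I be the intersection of
the I_p, the ideal of the big diagonal. Assume that for every s ≥ 0 the power I ^ s is the
intersection of the powers I_p ^ s (a property of the big diagonal of a smooth surface that the
source takes from the literature). Then for m ≥ 1 every element of R fixed by all permutations of
the n factors and lying in I ^ (2m − 1) lies in I ^ (2m): on the symmetric product the invariants of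
the odd power and of the next even power of the ideal of the big diagonal coincide. (The source
states the sheaf version for a smooth quasi-projective complex surface, using the displayed property
of the powers without restating it as a hypothesis.) -/
theorem result (k : Type u) [Field k] [IsAlgClosed k] [CharZero k]
    (A : Type v) [CommRing A] [Algebra k A] [Algebra.Smooth k A] [IsDomain A]
    (hdim : ringKrullDim A = 2) (n : ℕ)
    (I : Fin n × Fin n → Ideal (⨂[k] _ : Fin n, A))
    (hI : ∀ p, I p = Ideal.span (Set.range fun a : A =>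
        PiTensorProduct.singleAlgHom (R := k) (A := fun _ : Fin n => A) p.1 a -
        PiTensorProduct.singleAlgHom (R := k) (A := fun _ : Fin n => A) p.2 a))
    (IΔ : Ideal (⨂[k] _ : Fin n, A))
    (hIΔ : IΔ = ⨅ p ∈ Finset.univ.filter (fun p : Fin n × Fin n => p.1 < p.2), I p)
    (hpow : ∀ s : ℕ, IΔ ^ s = ⨅ p ∈ Finset.univ.filter (fun p : Fin n × Fin n => p.1 < p.2), (I p) ^ s)
    (m : ℕ) (hm : 1 ≤ m) (x : ⨂[k] _ : Fin n, A)
    (hx : ∀ σ : Equiv.Perm (Fin n), PiTensorProduct.reindex k (fun _ : Fin n => A) σ x = x)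
    (hmem : x ∈ IΔ ^ (2 * m - 1)) :
    x ∈ IΔ ^ (2 * m) := by
  rw [hpow]
  rw [hpow] at hmem
  rw [Ideal.mem_iInf] at hmem ⊢
  intro p
  have hmp := hmem p
  rw [Ideal.mem_iInf] at hmp ⊢
  intro hp
  have hxp := hmp hp
  have hd := Ld p.1 p.2 (I p) (hI p) (2 * m - 1) x hxp
  have e1 : 2 * m - 1 + 1 = 2 * m := by omega
  rw [e1] at hd
  have hodd : ((-1 : ⨂[k] _ : Fin n, A)) ^ (2 * m - 1) = -1 := by
    apply Odd.neg_one_pow
    exact ⟨m - 1, by omega⟩
  rw [hodd, ← Θ_eq_reindex, hx] at hd
  have h2 : (2 : k) ≠ 0 := two_ne_zero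
  have e2 : x = algebraMap k (⨂[k] _ : Fin n, A) (2 : k)⁻¹ * (x - -1 * x) := by
    have h3 : algebraMap k (⨂[k] _ : Fin n, A) (2 : k)⁻¹ * 2 = 1 := by
      have : (2 : ⨂[k] _ : Fin n, A) = algebraMap k (⨂[k] _ : Fin n, A) 2 := by
        rw [map_ofNat]
      rw [this, ← map_mul, inv_mul_cancel₀ h2, map_one]
    linear_combination (-x) * h3
  rw [e2]
  exact Ideal.mul_mem_left _ _ hd


end Groth.Agent.S19218
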