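import Groth.Statements.S19221
import Mathlib

set_option autoImplicit false
universe u
open SymRep

namespace Groth.Agent.S19221

section helpers
variable (k : Type u) [Field k]

/-- the ambient space -/
abbrev FF := Fin 2 → Fin 4 → Fin 4 → k

def pp : Fin 2 → Fin 4 := ![0, 2]
def qq : Fin 2 → Fin 4 := ![1, 3]

noncomputable def phi' : FF k →ₗ[k] (Fin 2 ⊕ Fin 2 → k) where
  toFun f := Sum.elim (fun j => f 0 (pp j) (qq j)) (fun j => f 1 (pp j) (qq j))
  map_add' f g := by ext (j|j) <;> rfl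
  map_smul' r f := by ext (j|j) <;> rfl

def e' : Fin 2 ⊕ Fin 2 ≃ Fin 4 where
  toFun := Sum.elim ![0, 2] ![1, 3]
  invFun := ![Sum.inl 0, Sum.inr 0, Sum.inl 1, Sum.inr 1]
  left_inv := by rintro (i|i) <;> fin_cases i <;> rfl
  right_inv := by intro i; fin_cases i <;> rfl

noncomputable def Phi4 : (FF k) [⋀^Fin 4]→ₗ[k] k :=
  ((Matrix.detRowAlternating (R := k) (n := Fin 2 ⊕ Fin 2)).compLinearMap (phi' k)).domDomCongr e'

noncomputable def fam : ∀ i, (FF k) [⋀^Fin i]→ₗ[k] k :=
  fun i => if h : i = 4 then h ▸ Phi4 k else 0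

noncomputable def PhiL : ExteriorAlgebra k (FF k) →ₗ[k] k :=
  ExteriorAlgebra.liftAlternating (fam k)

theorem PhiL_eval (a b c d : FF k) (ha : ∀ x y, a 1 x y = 0) (hc : ∀ x y, c 1 x y = 0)
    (hb : ∀ x y, b 0 x y = 0) (hd : ∀ x y, d 0 x y = 0) :
    PhiL k (ExteriorAlgebra.ι k a * ExteriorAlgebra.ι k b * ExteriorAlgebra.ι k c *
        ExteriorAlgebra.ι k d) =
      (a 0 0 1 * c 0 2 3 - a 0 2 3 * c 0 0 1) * (b 1 0 1 * d 1 2 3 - b 1 2 3 * d 1 0 1) := by
  have hm : ExteriorAlgebra.ι k a * ExteriorAlgebra.ι k b * ExteriorAlgebra.ι k c *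
      ExteriorAlgebra.ι k d = ExteriorAlgebra.ιMulti k 4 ![a, b, c, d] := by
    rw [ExteriorAlgebra.ιMulti_apply]
    simp [List.ofFn_succ, mul_assoc]
  rw [hm, PhiL, ExteriorAlgebra.liftAlternating_apply_ιMulti]
  have hfam : fam k 4 = Phi4 k := by simp [fam]
  rw [hfam, Phi4, AlternatingMap.domDomCongr_apply, AlternatingMap.compLinearMap_apply]
  have hmat : (Matrix.of fun i => phi' k ((![a, b, c, d] ∘ e') i)) =
      Matrix.fromBlocks !![a 0 0 1, a 0 2 3; c 0 0 1, c 0 2 3] 0 0
        !![b 1 0 1, b 1 2 3; d 1 0 1, d 1 2 3] := by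
    ext (i|i) (j|j) <;> fin_cases i <;> fin_cases j <;>
      simp [phi', e', pp, qq, ha, hb, hc, hd]
  show Matrix.det (Matrix.of fun i => phi' k ((![a, b, c, d] ∘ e') i)) = _
  rw [hmat, Matrix.det_fromBlocks_zero₂₁, Matrix.det_fin_two_of, Matrix.det_fin_two_of]

/-- the integer cycle indicator -/
def Gz (i j l a b : Fin 4) : ℤ :=
  (if a = i ∧ b = j then 1 else 0) + (if a = j ∧ b = l then 1 else 0) +
      (if a = l ∧ b = i then 1 else 0)
    - (if a = j ∧ b = i then 1 else 0) - (if a = l ∧ b = j then 1 else 0) -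
      (if a = i ∧ b = l then 1 else 0)

def mz (σ : Equiv.Perm (Fin 4)) : ℤ :=
  Gz (σ 0) (σ 1) (σ 2) 0 1 * Gz (σ 0) (σ 2) (σ 3) 2 3 -
    Gz (σ 0) (σ 1) (σ 2) 2 3 * Gz (σ 0) (σ 2) (σ 3) 0 1

theorem mz_one : mz 1 = 1 := by decide

end helpers



/-- Let k be a field of characteristic zero and F the k-space of functions Fin 2 → Fin 4 → Fin 4 → k,
with the symmetric group of Fin 4 acting through P σ f c a b = f c (σ⁻¹ a) (σ⁻¹ b). The signed edge
vectors of the complete graph on four vertices live in F as the functions antisymmetric in the two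
vertex arguments, and for a colour c and an oriented 3-cycle i → j → l → i the cycle vector z c i j
l is the function equal, in colour c, to +1 at (i,j), (j,l), (l,i), to −1 at (j,i), (l,j), (i,l) and
to 0 elsewhere (and 0 in the other colour); these cycle vectors span k² ⊗ (cycle space), the
representation written C² ⊗ q in the published text. Let Γ be the graph with edges 01, 02, 03, 12,
23 (a 4-cycle with one chord), whose cycle space is spanned by the cycles (0,1,2) and (0,2,3), and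
let ω be the product in the exterior algebra of F of the four vectors z 0 0 1 2, z 1 0 1 2, z 0 0 2
3, z 1 0 2 3 (a generator of the top exterior power of k² ⊗ q_Γ). Then ω is fixed by the stabiliser
of Γ in the symmetric group (generated by the transpositions (0 2) and (1 3)), and the sum over all
24 permutations σ of the images of ω under the maps induced by P σ is nonzero: the projection of ω
to the invariants of the fourth exterior power of k² ⊗ q_{K₄} does not vanish. (The published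
statement is over the complex numbers; a field of characteristic zero is used here. The published
statement also asserts that this map is an isomorphism onto the one-dimensional space of
S₄-invariants of the fourth exterior power of k² ⊗ q_{K₄}; only its non-vanishing is stated here.) -/
theorem result (k : Type u) [Field k] [CharZero k]
    (P : Equiv.Perm (Fin 4) → ((Fin 2 → Fin 4 → Fin 4 → k) →ₗ[k] (Fin 2 → Fin 4 → Fin 4 → k)))
    (hP : ∀ (σ : Equiv.Perm (Fin 4)) (f : Fin 2 → Fin 4 → Fin 4 → k) (c : Fin 2) (a b : Fin 4),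
      P σ f c a b = f c (σ.symm a) (σ.symm b))
    (z : Fin 2 → Fin 4 → Fin 4 → Fin 4 → (Fin 2 → Fin 4 → Fin 4 → k))
    (hz : ∀ (c : Fin 2) (i j l : Fin 4) (c' : Fin 2) (a b : Fin 4), z c i j l c' a b =
      if c' = c then
        ((if a = i ∧ b = j then 1 else 0) + (if a = j ∧ b = l then 1 else 0) + (if a = l ∧ b = i then 1 else 0)
          - (if a = j ∧ b = i then 1 else 0) - (if a = l ∧ b = j then 1 else 0) - (if a = i ∧ b = l then 1 else 0))
      else 0)
    (ω : ExteriorAlgebra k (Fin 2 → Fin 4 → Fin 4 → k))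
    (hω : ω = ExteriorAlgebra.ι k (z 0 0 1 2) * ExteriorAlgebra.ι k (z 1 0 1 2) *
      ExteriorAlgebra.ι k (z 0 0 2 3) * ExteriorAlgebra.ι k (z 1 0 2 3)) :
    ExteriorAlgebra.map (P (Equiv.swap 0 2)) ω = ω ∧
    ExteriorAlgebra.map (P (Equiv.swap 1 3)) ω = ω ∧
    (∑ σ : Equiv.Perm (Fin 4), ExteriorAlgebra.map (P σ) ω) ≠ 0 := by
  classical
  have hz' : ∀ (c : Fin 2) (i j l : Fin 4) (c' : Fin 2) (a b : Fin 4), z c i j l c' a b =
      if c' = c then ((Gz i j l a b : ℤ) : k) else 0 := by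
    intro c i j l c' a b
    rw [hz]
    unfold Gz
    push_cast
    rfl
  have hPz : ∀ (σ : Equiv.Perm (Fin 4)) (c : Fin 2) (i j l : Fin 4),
      P σ (z c i j l) = z c (σ i) (σ j) (σ l) := by
    intro σ c i j l
    funext c' a b
    rw [hP, hz, hz]
    simp only [Equiv.symm_apply_eq]
  have hneg12 : ∀ (c : Fin 2) (i j l : Fin 4), z c j i l = - z c i j l := by
    intro c i j l
    funext c' a b
    rw [Pi.neg_apply, Pi.neg_apply, Pi.neg_apply, hz, hz]
    by_cases h : c' = c
    · rw [if_pos h, if_pos h]; ring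
    · rw [if_neg h, if_neg h, neg_zero]
  have hneg23 : ∀ (c : Fin 2) (i j l : Fin 4), z c i l j = - z c i j l := by
    intro c i j l
    funext c' a b
    rw [Pi.neg_apply, Pi.neg_apply, Pi.neg_apply, hz, hz]
    by_cases h : c' = c
    · rw [if_pos h, if_pos h]; ring
    · rw [if_neg h, if_neg h, neg_zero]
  have hneg13 : ∀ (c : Fin 2) (i j l : Fin 4), z c l j i = - z c i j l := by
    intro c i j l
    funext c' a b
    rw [Pi.neg_apply, Pi.neg_apply, Pi.neg_apply, hz, hz]
    by_cases h : c' = c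
    · rw [if_pos h, if_pos h]; ring
    · rw [if_neg h, if_neg h, neg_zero]
  have hanti : ∀ x y : Fin 2 → Fin 4 → Fin 4 → k,
      ExteriorAlgebra.ι k x * ExteriorAlgebra.ι k y =
        - (ExteriorAlgebra.ι k y * ExteriorAlgebra.ι k x) := by
    intro x y
    exact eq_neg_of_add_eq_zero_left (ExteriorAlgebra.ι_add_mul_swap x y)
  have hmap : ∀ σ : Equiv.Perm (Fin 4), ExteriorAlgebra.map (P σ) ω =
      ExteriorAlgebra.ι k (z 0 (σ 0) (σ 1) (σ 2)) * ExteriorAlgebra.ι k (z 1 (σ 0) (σ 1) (σ 2)) *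
        ExteriorAlgebra.ι k (z 0 (σ 0) (σ 2) (σ 3)) * ExteriorAlgebra.ι k (z 1 (σ 0) (σ 2) (σ 3)) := by
    intro σ
    rw [hω]
    simp only [map_mul, ExteriorAlgebra.map_apply_ι, hPz]
  refine ⟨?_, ?_, ?_⟩
  · rw [hmap]
    have h0 : (Equiv.swap (0 : Fin 4) 2) 0 = 2 := by decide
    have h1 : (Equiv.swap (0 : Fin 4) 2) 1 = 1 := by decide
    have h2' : (Equiv.swap (0 : Fin 4) 2) 2 = 0 := by decide
    have h3 : (Equiv.swap (0 : Fin 4) 2) 3 = 3 := by decide
    rw [h0, h1, h2', h3, hneg13 0 0 1 2, hneg13 1 0 1 2, hneg12 0 0 2 3, hneg12 1 0 2 3, hω]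
    simp only [map_neg, neg_mul, mul_neg, neg_neg]
  · rw [hmap]
    have h0 : (Equiv.swap (1 : Fin 4) 3) 0 = 0 := by decide
    have h1 : (Equiv.swap (1 : Fin 4) 3) 1 = 3 := by decide
    have h2' : (Equiv.swap (1 : Fin 4) 3) 2 = 2 := by decide
    have h3 : (Equiv.swap (1 : Fin 4) 3) 3 = 1 := by decide
    rw [h0, h1, h2', h3, hneg23 0 0 2 3, hneg23 1 0 2 3, hneg23 0 0 1 2, hneg23 1 0 1 2, hω]
    simp only [map_neg, neg_mul, mul_neg, neg_neg]
    obtain ⟨a, ha⟩ : ∃ a, a = ExteriorAlgebra.ι k (z 0 0 1 2) := ⟨_, rfl⟩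
    obtain ⟨b, hb⟩ : ∃ b, b = ExteriorAlgebra.ι k (z 1 0 1 2) := ⟨_, rfl⟩
    obtain ⟨c, hc⟩ : ∃ c, c = ExteriorAlgebra.ι k (z 0 0 2 3) := ⟨_, rfl⟩
    obtain ⟨d, hd⟩ : ∃ d, d = ExteriorAlgebra.ι k (z 1 0 2 3) := ⟨_, rfl⟩
    have hda : d * a = - (a * d) := by rw [hd, ha]; exact hanti _ _
    have hca : c * a = - (a * c) := by rw [hc, ha]; exact hanti _ _
    have hdb : d * b = - (b * d) := by rw [hd, hb]; exact hanti _ _
    have hcb : c * b = - (b * c) := by rw [hc, hb]; exact hanti _ _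
    rw [← ha, ← hb, ← hc, ← hd]
    calc c * d * a * b = c * (d * a) * b := by simp only [mul_assoc]
      _ = - (c * a * d * b) := by rw [hda]; noncomm_ring
      _ = - ((c * a) * (d * b)) := by simp only [mul_assoc]
      _ = - ((-(a * c)) * (-(b * d))) := by rw [hca, hdb]
      _ = - (a * (c * b) * d) := by noncomm_ring
      _ = - (a * (-(b * c)) * d) := by rw [hcb]
      _ = a * b * c * d := by noncomm_ring
  · intro hsum
    have hT : ∀ σ : Equiv.Perm (Fin 4),
        PhiL k (ExteriorAlgebra.map (P σ) ω) = (((mz σ) ^ 2 : ℤ) : k) := by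
      intro σ
      rw [hmap, PhiL_eval k _ _ _ _ (fun x y => by rw [hz']; simp) (fun x y => by rw [hz']; simp)
        (fun x y => by rw [hz']; simp) (fun x y => by rw [hz']; simp)]
      simp only [hz', ↓reduceIte]
      unfold mz
      push_cast
      ring
    have h1 := congrArg (PhiL k) hsum
    rw [map_sum, map_zero] at h1
    simp only [hT] at h1
    rw [← Int.cast_sum] at h1
    have h2 : (∑ σ : Equiv.Perm (Fin 4), (mz σ) ^ 2) = 0 := by exact_mod_cast h1
    have h3 : (mz 1) ^ 2 ≤ ∑ σ : Equiv.Perm (Fin 4), (mz σ) ^ 2 :=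
      Finset.single_le_sum (f := fun σ => (mz σ) ^ 2) (fun σ _ => sq_nonneg _) (Finset.mem_univ 1)
    rw [h2, mz_one] at h3
    norm_num at h3


end Groth.Agent.S19221
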