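import Groth.Statements.S19222
import Groth.Agent.S0073
import Groth.Agent.Lib.Helper5.GsecExact
import Groth.Agent.Lib.Helper5.FinitePush

set_option autoImplicit false
universe u
open CategoryTheory AlgebraicGeometry
open EtBase

namespace Groth.Agent.S19222

/-- Let R be a strictly henselian local ring (henselian, with separably closed residue field), let X be
a scheme finite over Spec R and let F be an abelian étale sheaf on X. Then H^j(X_et, F) = 0 for
every j ≥ 1. (The source states this vanishing for the schemes X ×_R Y ×_R ⋯ ×_R Y with Y a further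
finite R-scheme; these are again finite over R, so the present form is the whole content.) -/
theorem result (R : Type u) [CommRing R] [HenselianLocalRing R]
    [IsSepClosed (IsLocalRing.ResidueField R)] (X : Scheme.{u}) (f : X ⟶ Spec (CommRingCat.of R)) [IsFinite f]
    (F : EtCoh.Ab X) (j : ℕ) (hj : 1 ≤ j) : Subsingleton (EtCoh.H X F j) := by
  apply Groth.Agent.Lib.helper5.GsecExact.H_subsingleton_of_sections_surjective X _ F j hj
  intro E G e he
  have hpe := Groth.Agent.Lib.helper5.FinitePush.preservesEpimorphisms_push_of_isFinite f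
  have : Epi ((EtCoh.push f).map e) := inferInstance
  have hsurj := Groth.Agent.S0073.sections_surjective_of_epi R ((EtCoh.push f).map e)
  let θ := EtCore.bcTopIso f
  intro s
  obtain ⟨t', ht'⟩ := hsurj (G.obj.map θ.hom.op s)
  have ht'' : e.hom.app (Opposite.op ((EtCoh.bc f).obj (EtCoh.top (Spec (CommRingCat.of R))))) t' =
      G.obj.map θ.hom.op s := ht'
  refine ⟨E.obj.map θ.inv.op t', ?_⟩
  have e1 := NatTrans.naturality_apply e.hom θ.inv.op t'
  rw [e1, ht'']
  have e2 : G.obj.map θ.inv.op (G.obj.map θ.hom.op s) = G.obj.map (θ.inv ≫ θ.hom).op s := by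
    rw [op_comp, Functor.map_comp]; rfl
  rw [e2, Iso.inv_hom_id, op_id, G.obj.map_id]
  rfl

end Groth.Agent.S19222
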