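import Groth.Statements.S19223
import Mathlib
import Groth.Agent.S7724

set_option autoImplicit false
attribute [local instance] Units.mulDistribMulActionRight
open GalCoh

namespace Groth.Agent.S19223

set_option linter.style.haveILetI false
set_option linter.unusedSectionVars false
set_option linter.unusedVariables false



open groupCohomology CategoryTheory Groth.Agent.S7724

section Abstract

variable {G : Type} [Group G] [Fintype G] {A B : Rep.{0, 0, 0} ℤ G} (φ : A ⟶ B)

/-- the map on cochains. -/
noncomputable def Phi (m : ℕ) : ((Fin m → G) → A) →ₗ[ℤ] ((Fin m → G) → B) :=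
  ((cochainsMap (MonoidHom.id G) φ).f m).hom

theorem Phi_apply (m : ℕ) (c : (Fin m → G) → A) (g : Fin m → G) :
    Phi φ m c g = φ.hom (c g) := rfl

theorem Phi_d (m : ℕ) (c : (Fin m → G) → A) :
    Phi φ (m + 1) ((inhomogeneousCochains.d A m).hom c) =
      (inhomogeneousCochains.d B m).hom (Phi φ m c) := by
  have := (cochainsMap (MonoidHom.id G) φ).comm m (m + 1)
  rw [inhomogeneousCochains.d_def, inhomogeneousCochains.d_def] at this
  exact congr($this c).symm

theorem dd (A : Rep.{0, 0, 0} ℤ G) (n : ℕ) (y : (Fin n → G) → A) :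
    (inhomogeneousCochains.d A (n + 1)).hom ((inhomogeneousCochains.d A n).hom y) = 0 := by
  have := inhomogeneousCochains.d_comp_d (A := A) (n := n)
  exact congr($this y)

variable (hS : Function.Surjective φ.hom)
  (hD : ∀ a : A, φ.hom a = 0 → ∃ w : A, φ.hom w = 0 ∧ Fintype.card G • w = a)
  (hT : ∀ a : A, φ.hom a = 0 → Fintype.card G • a = 0 → a = 0)

include hD hT in
/-- key lemma: a kernel-valued cocycle of positive degree is the coboundary of a kernel-valued
cochain. -/
theorem key (m : ℕ) (c : (Fin (m + 1) → G) → A) (hc : Phi φ (m + 1) c = 0)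
    (hdc : (inhomogeneousCochains.d A (m + 1)).hom c = 0) :
    ∃ w : (Fin m → G) → A, Phi φ m w = 0 ∧ (inhomogeneousCochains.d A m).hom w = c := by
  have h1 := d_hsum A m c hdc
  have hsK : ∀ g, φ.hom (hsum A m c g) = 0 := by
    intro g
    unfold hsum
    rw [map_sum]
    apply Finset.sum_eq_zero
    intro s _
    exact congrFun hc _
  obtain ⟨h', hh'K, hdh'⟩ : ∃ h' : (Fin m → G) → A, (∀ g, φ.hom (h' g) = 0) ∧
      (inhomogeneousCochains.d A m).hom h' = Fintype.card G • c := by
    rcases neg_one_pow_eq_or ℤ (m + 1) with h | h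
    · refine ⟨hsum A m c, hsK, ?_⟩
      rw [h1, h]
      funext g
      simp only [Pi.smul_apply]
      exact @one_smul ℤ _ _ A.hV2.toMulAction _
    · refine ⟨- hsum A m c, ?_, ?_⟩
      · intro g
        change φ.hom (- hsum A m c g) = 0
        rw [map_neg, hsK, neg_zero]
      · rw [map_neg, h1, h]
        funext g
        simp only [Pi.neg_apply, Pi.smul_apply, neg_smul, neg_neg]
        exact @one_smul ℤ _ _ A.hV2.toMulAction _
  choose w hw using fun g => hD (h' g) (hh'K g)
  have hwK : Phi φ m w = 0 := by
    funext g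
    exact (hw g).1
  have hNw : Fintype.card G • w = h' := by
    funext g
    exact (hw g).2
  refine ⟨w, hwK, ?_⟩
  have hK2 : Phi φ (m + 1) ((inhomogeneousCochains.d A m).hom w - c) = 0 := by
    rw [map_sub, Phi_d, hwK, map_zero, hc, sub_zero]
  have hN2 : Fintype.card G • ((inhomogeneousCochains.d A m).hom w - c) = 0 := by
    rw [smul_sub, ← map_nsmul, hNw, hdh', sub_self]
  have : (inhomogeneousCochains.d A m).hom w - c = 0 := by
    funext g
    exact hT _ (congrFun hK2 g) (congrFun hN2 g)
  exact sub_eq_zero.mp this

theorem pi_eq_zero_iff (A : Rep.{0, 0, 0} ℤ G) (m : ℕ) (z : cocycles A (m + 1)) :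
    (π A (m + 1)).hom z = 0 ↔ ∃ y : (Fin m → G) → A, (toCocycles A m (m + 1)).hom y = z := by
  have hex : (ShortComplex.mk (toCocycles A m (m + 1)) (π A (m + 1))
      ((inhomogeneousCochains A).toCycles_comp_homologyπ m (m + 1))).Exact :=
    ShortComplex.exact_of_g_is_cokernel _
      ((inhomogeneousCochains A).homologyIsCokernel m (m + 1) (by simp))
  constructor
  · intro h
    exact (ShortComplex.moduleCat_exact_iff _).mp hex z h
  · rintro ⟨y, rfl⟩
    have := (inhomogeneousCochains A).toCycles_comp_homologyπ m (m + 1)
    exact congr($this y)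

theorem i_toCocycles (A : Rep.{0, 0, 0} ℤ G) (m : ℕ) (y : (Fin m → G) → A) :
    (iCocycles A (m + 1)).hom ((toCocycles A m (m + 1)).hom y) =
      (inhomogeneousCochains.d A m).hom y := by
  have := (inhomogeneousCochains A).toCycles_i m (m + 1)
  rw [inhomogeneousCochains.d_def] at this
  exact congr($this y)

theorem d_iCocycles (A : Rep.{0, 0, 0} ℤ G) (n : ℕ) (z : cocycles A n) :
    (inhomogeneousCochains.d A n).hom ((iCocycles A n).hom z) = 0 := by
  have := (inhomogeneousCochains A).iCycles_d n (n + 1)
  rw [inhomogeneousCochains.d_def] at this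
  exact congr($this z)

theorem i_cocyclesMap (n : ℕ) (z : cocycles A n) :
    (iCocycles B n).hom ((cocyclesMap (MonoidHom.id G) φ n).hom z) =
      Phi φ n ((iCocycles A n).hom z) := by
  have := HomologicalComplex.cyclesMap_i (cochainsMap (MonoidHom.id G) φ) n
  exact congr($this z)

theorem iCocycles_injective (A : Rep.{0, 0, 0} ℤ G) (n : ℕ) :
    Function.Injective (iCocycles A n).hom :=
  (ModuleCat.mono_iff_injective (iCocycles A n)).1 inferInstance

include hS hD hT in
theorem map_bijective (m : ℕ) :
    Function.Bijective (map (MonoidHom.id G) φ (m + 1)).hom := by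
  constructor
  · rw [injective_iff_map_eq_zero]
    intro x hx
    induction x using groupCohomology_induction_on with
    | h z =>
      have e1 : (map (MonoidHom.id G) φ (m + 1)).hom ((π A (m + 1)).hom z) =
          (π B (m + 1)).hom ((cocyclesMap (MonoidHom.id G) φ (m + 1)).hom z) := by
        have := π_map (MonoidHom.id G) φ (m + 1)
        exact congr($this z)
      rw [e1, pi_eq_zero_iff] at hx
      obtain ⟨y', hy'⟩ := hx
      have e2 := congrArg (iCocycles B (m + 1)).hom hy'
      rw [i_toCocycles, i_cocyclesMap] at e2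
      -- lift y'
      choose y hy using fun g => hS (y' g)
      have hΦy : Phi φ m y = y' := funext hy
      set zc := (iCocycles A (m + 1)).hom z with hzc
      set c := zc - (inhomogeneousCochains.d A m).hom y with hcdef
      have hcK : Phi φ (m + 1) c = 0 := by
        rw [hcdef, map_sub, Phi_d, hΦy, e2, sub_self]
      have hdc : (inhomogeneousCochains.d A (m + 1)).hom c = 0 := by
        rw [hcdef, map_sub, dd, hzc, d_iCocycles, sub_zero]
      obtain ⟨w, -, hw⟩ := key φ hD hT m c hcK hdc
      rw [pi_eq_zero_iff]
      refine ⟨y + w, ?_⟩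
      apply iCocycles_injective
      rw [i_toCocycles, map_add, hw, hcdef]
      abel
  · intro x'
    induction x' using groupCohomology_induction_on with
    | h z' =>
      set zc' := (iCocycles B (m + 1)).hom z' with hzc'
      choose c₀ hc₀ using fun g => hS (zc' g)
      have hΦc₀ : Phi φ (m + 1) c₀ = zc' := funext hc₀
      set e := (inhomogeneousCochains.d A (m + 1)).hom c₀ with he
      have heK : Phi φ (m + 1 + 1) e = 0 := by
        rw [he, Phi_d, hΦc₀, hzc', d_iCocycles]
      have hde : (inhomogeneousCochains.d A (m + 1 + 1)).hom e = 0 := by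
        rw [he, dd]
      obtain ⟨w, hwK, hw⟩ := key φ hD hT (m + 1) e heK hde
      have hz₀ : (inhomogeneousCochains.d A (m + 1)).hom (c₀ - w) = 0 := by
        rw [map_sub, hw, he, sub_self]
      refine ⟨(π A (m + 1)).hom (cocyclesMk (c₀ - w) hz₀), ?_⟩
      have e1 : (map (MonoidHom.id G) φ (m + 1)).hom ((π A (m + 1)).hom (cocyclesMk (c₀ - w) hz₀)) =
          (π B (m + 1)).hom ((cocyclesMap (MonoidHom.id G) φ (m + 1)).hom (cocyclesMk (c₀ - w) hz₀)) := by
        have := π_map (MonoidHom.id G) φ (m + 1)
        exact congr($this (cocyclesMk (c₀ - w) hz₀))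
      rw [e1]
      congr 1
      apply iCocycles_injective
      rw [i_cocyclesMap]
      have : (iCocycles A (m + 1)).hom (cocyclesMk (c₀ - w) hz₀) = c₀ - w := iCocycles_mk _ _
      rw [this, map_sub, hwK, sub_zero, hΦc₀]

end Abstract

section Concrete

open IsLocalRing

theorem main (R : Type) [CommRing R]
    [HenselianLocalRing R] [IsSepClosed (IsLocalRing.ResidueField R)] (p : ℕ)
    [CharP (IsLocalRing.ResidueField R) p]
    (G : Type) [Group G] [Finite G] [MulSemiringAction G R] (hp : ¬ p ∣ Nat.card G)
    (φ : Rep.ofMulDistribMulAction G Rˣ ⟶ Rep.ofMulDistribMulAction G (IsLocalRing.ResidueField R)ˣ)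
    (hφ : ∀ x : Rˣ, Additive.toMul (φ.hom (Additive.ofMul x)) =
      Units.map (IsLocalRing.residue R).toMonoidHom x)
    (n : ℕ) (hn : 1 ≤ n) :
    Function.Bijective ((groupCohomology.functor ℤ G n).map φ).hom := by
  classical
  have := Fintype.ofFinite G
  obtain ⟨m, rfl⟩ : ∃ m, n = m + 1 := ⟨n - 1, by omega⟩
  set N := Fintype.card G with hN
  have hNpos : 0 < N := Fintype.card_pos
  have hNk : ((N : ℕ) : ResidueField R) ≠ 0 := by
    rw [Ne, CharP.cast_eq_zero_iff (ResidueField R) p N, hN, ← Nat.card_eq_fintype_card]
    exact hp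
  -- translate φ
  have hφ0 : ∀ a : Additive Rˣ, φ.hom a = 0 ↔ residue R ((Additive.toMul a : Rˣ) : R) = 1 := by
    intro a
    have h1 : Additive.toMul (φ.hom a) =
        Units.map (IsLocalRing.residue R).toMonoidHom (Additive.toMul a) := hφ (Additive.toMul a)
    constructor
    · intro h
      rw [h] at h1
      have := congrArg (fun u : (ResidueField R)ˣ => (u : ResidueField R)) h1
      simp only [Units.coe_map] at this
      exact this.symm
    · intro h
      have h2 : Additive.toMul (φ.hom a) = (1 : (ResidueField R)ˣ) := by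
        rw [h1]
        apply Units.ext
        rw [Units.coe_map, Units.val_one]
        exact h
      exact h2
  have hunit : ∀ x : R, residue R x ≠ 0 → IsUnit x := by
    intro x hx
    rw [← IsLocalRing.notMem_maximalIdeal]
    intro hm
    exact hx ((IsLocalRing.residue_eq_zero_iff x).mpr hm)
  refine map_bijective φ ?_ ?_ ?_ m
  · -- surjective
    intro b
    obtain ⟨x, hx⟩ := IsLocalRing.residue_surjective ((Additive.toMul b : (ResidueField R)ˣ) : ResidueField R)
    have hxu : IsUnit x := hunit x (by rw [hx]; exact Units.ne_zero _)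
    refine ⟨Additive.ofMul hxu.unit, ?_⟩
    have h2 : Additive.toMul (φ.hom (Additive.ofMul hxu.unit)) =
        (Additive.toMul b : (ResidueField R)ˣ) := by
      rw [hφ]
      apply Units.ext
      rw [Units.coe_map]
      exact hx
    exact h2
  · -- divisibility
    intro a ha
    rw [hφ0] at ha
    set a0 : R := ((Additive.toMul a : Rˣ) : R) with ha0
    have hNu : IsUnit ((N : ℕ) : R) := hunit _ (by rw [map_natCast]; exact hNk)
    obtain ⟨w0, hw0, hw1⟩ := HenselianLocalRing.is_henselian
      (Polynomial.X ^ N - Polynomial.C a0 : Polynomial R)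
      (Polynomial.monic_X_pow_sub_C a0 hNpos.ne') (1 : R)
      (by
        rw [Polynomial.eval_sub, Polynomial.eval_pow, Polynomial.eval_X, Polynomial.eval_C, one_pow,
          ← IsLocalRing.residue_eq_zero_iff, map_sub, map_one, ha, sub_self])
      (by
        rw [Polynomial.derivative_sub, Polynomial.derivative_X_pow, Polynomial.derivative_C,
          sub_zero, Polynomial.eval_mul, Polynomial.eval_pow, Polynomial.eval_X, one_pow, mul_one,
          Polynomial.eval_C]
        exact hNu)
    rw [Polynomial.IsRoot, Polynomial.eval_sub, Polynomial.eval_pow, Polynomial.eval_X,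
      Polynomial.eval_C, sub_eq_zero] at hw0
    have hw0u : IsUnit w0 := by
      have : IsUnit (w0 ^ N) := by rw [hw0]; exact (Additive.toMul a : Rˣ).isUnit
      exact (isUnit_pow_iff hNpos.ne').mp this
    refine ⟨Additive.ofMul hw0u.unit, ?_, ?_⟩
    · rw [hφ0]
      change residue R ((hw0u.unit : Rˣ) : R) = 1
      rw [IsUnit.unit_spec]
      have := (IsLocalRing.residue_eq_zero_iff _).mpr hw1
      rw [map_sub, map_one, sub_eq_zero] at this
      exact this
    · have h2 : (hw0u.unit : Rˣ) ^ N = (Additive.toMul a : Rˣ) := by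
        apply Units.ext
        rw [Units.val_pow_eq_pow_val, IsUnit.unit_spec, hw0]
      exact congrArg Additive.ofMul h2
  · -- torsion-free
    intro a ha hNa
    rw [hφ0] at ha
    set a0 : R := ((Additive.toMul a : Rˣ) : R) with ha0
    have h1 : a0 ^ N = 1 := by
      have h2 : (Additive.toMul a : Rˣ) ^ N = 1 := congrArg Additive.toMul hNa
      rw [ha0, ← Units.val_pow_eq_pow_val, h2, Units.val_one]
    have h3 : (∑ i ∈ Finset.range N, a0 ^ i) * (a0 - 1) = 0 := by
      rw [geom_sum_mul, h1, sub_self]
    have h4 : IsUnit (∑ i ∈ Finset.range N, a0 ^ i) := by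
      apply hunit
      rw [map_sum]
      simp only [map_pow, ha, one_pow, Finset.sum_const, Finset.card_range, nsmul_eq_mul, mul_one]
      exact hNk
    have h5 : a0 - 1 = 0 := by
      have := h4.mul_right_eq_zero.mp h3
      exact this
    have h6 : a0 = 1 := sub_eq_zero.mp h5
    have h7 : (Additive.toMul a : Rˣ) = 1 := by
      apply Units.ext
      rw [Units.val_one]
      exact h6
    exact congrArg Additive.ofMul h7

end Concrete



/-- For a strictly henselian local ring R whose residue field k has characteristic p ≥ 0, and a finite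
group G of order prime to p acting on R by ring automorphisms (hence on the unit groups R^× and
k^×), consider the homomorphism H^n(G, R^×) → H^n(G, k^×) induced by the reduction map. It is
bijective for every n ≥ 2; it is also bijective for n = 1 provided that p = 0 or the only p-power
root of unity in R is 1. (The reduction map on cohomology is pinned by its values on units; groups,
rings and modules are taken in the lowest universe, as integral coefficients in the group-cohomology
library require.) -/
theorem result (R : Type) [CommRing R]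
    [HenselianLocalRing R] [IsSepClosed (IsLocalRing.ResidueField R)] (p : ℕ) [CharP (IsLocalRing.ResidueField R) p]
    (G : Type) [Group G] [Finite G] [MulSemiringAction G R] (hp : ¬ p ∣ Nat.card G)
    (φ : Rep.ofMulDistribMulAction G Rˣ ⟶ Rep.ofMulDistribMulAction G (IsLocalRing.ResidueField R)ˣ)
    (hφ : ∀ x : Rˣ, Additive.toMul (φ.hom (Additive.ofMul x)) = Units.map (IsLocalRing.residue R).toMonoidHom x)
    (n : ℕ) (hn : 1 ≤ n) (h1 : n = 1 → p ≠ 0 → ∀ (ζ : Rˣ) (m : ℕ), ζ ^ p ^ m = 1 → ζ = 1) :
    Function.Bijective ((groupCohomology.functor ℤ G n).map φ).hom := by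
  exact main R p G hp φ hφ n hn

end Groth.Agent.S19223
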