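import Groth.Statements.S19224
import Mathlib
import Groth.Agent.S7724

set_option autoImplicit false
open GalCoh

namespace Groth.Agent.S19224

set_option linter.style.haveILetI false
set_option linter.unusedSectionVars false
set_option linter.unusedVariables false


open groupCohomology CategoryTheory Groth.Agent.S7724

section Gen

variable {Q : Type} [Group Q]

/-- naturality of the differential in the coefficient module (trivial action). -/
theorem d_comp {U V : Type} [AddCommGroup U] [AddCommGroup V] (φ : U →+ V) (n : ℕ)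
    (f : (Fin n → Q) → U) :
    (inhomogeneousCochains.d (Rep.trivial ℤ Q V) n).hom (fun g => φ (f g)) =
      fun g => φ ((inhomogeneousCochains.d (Rep.trivial ℤ Q U) n).hom f g) := by
  funext g
  simp only [inhomogeneousCochains.d_hom_apply, map_add, map_sum, map_zsmul]
  rfl

/-- exactness translation. -/
theorem subsingleton_iff (A : Rep ℤ Q) (n : ℕ) :
    Subsingleton (groupCohomology A (n + 1)) ↔
      ∀ f : (Fin (n + 1) → Q) → A, (inhomogeneousCochains.d A (n + 1)).hom f = 0 →
        ∃ y : (Fin n → Q) → A, (inhomogeneousCochains.d A n).hom y = f := by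
  have h1 : Subsingleton (groupCohomology A (n + 1)) ↔
      Limits.IsZero ((inhomogeneousCochains A).homology (n + 1)) :=
    ⟨fun h => by
      haveI : Subsingleton ↑((inhomogeneousCochains A).homology (n + 1)) := h
      exact ModuleCat.isZero_of_subsingleton _, fun h => ModuleCat.subsingleton_of_isZero h⟩
  rw [h1, ← HomologicalComplex.exactAt_iff_isZero_homology,
    HomologicalComplex.exactAt_iff' _ n (n + 1) (n + 1 + 1) (by simp) (by simp),
    ShortComplex.moduleCat_exact_iff]
  change (∀ x₂ : (Fin (n + 1) → Q) → A,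
    ((inhomogeneousCochains A).d (n + 1) (n + 1 + 1)).hom x₂ = 0 →
      ∃ x₁ : (Fin n → Q) → A, ((inhomogeneousCochains A).d n (n + 1)).hom x₁ = x₂) ↔ _
  rw [inhomogeneousCochains.d_def, inhomogeneousCochains.d_def]

end Gen

section Main

theorem main (Q : Type) [Group Q] [Finite Q]
    (hQ : Subsingleton (groupCohomology (Rep.trivial ℤ Q ℤ) 3)) (k : Type) [Field k] [IsSepClosed k]
    (p : ℕ) [CharP k p] (hp : ¬ p ∣ Nat.card Q) :
    Subsingleton (groupCohomology (Rep.trivial ℤ Q (Additive kˣ)) 2) := by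
  classical
  have := Fintype.ofFinite Q
  set N := Fintype.card Q with hN
  have hNpos : 0 < N := Fintype.card_pos
  haveI : NeZero N := ⟨hNpos.ne'⟩
  haveI : NeZero (N : k) := ⟨by
    rw [Ne, CharP.cast_eq_zero_iff k p N, hN, ← Nat.card_eq_fintype_card]
    exact hp⟩
  -- divisibility
  have hdiv : ∀ u : Additive kˣ, ∃ w : Additive kˣ, N • w = u := by
    intro u
    obtain ⟨z, hz⟩ := IsSepClosed.exists_pow_nat_eq ((Additive.toMul u : kˣ) : k) N
    have hz0 : z ≠ 0 := by
      intro h0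
      rw [h0, zero_pow hNpos.ne'] at hz
      exact (Units.ne_zero _) hz.symm
    refine ⟨Additive.ofMul (Units.mk0 z hz0), ?_⟩
    rw [← ofMul_pow]
    apply Additive.toMul.injective
    rw [toMul_ofMul]
    ext
    rw [Units.val_pow_eq_pow_val, Units.val_mk0, hz]
  choose r hr using hdiv
  -- primitive root
  obtain ⟨ζ0, hζ0⟩ := HasEnoughRootsOfUnity.exists_primitiveRoot k N
  have hζ00 : ζ0 ≠ 0 := (hζ0.isUnit hNpos.ne').ne_zero
  set ζu : kˣ := Units.mk0 ζ0 hζ00 with hζu
  have hζu' : IsPrimitiveRoot ζu N := IsPrimitiveRoot.coe_units_iff.mp (by rw [hζu, Units.val_mk0]; exact hζ0)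
  set ζ : Additive kˣ := Additive.ofMul ζu with hζ
  have hζ1 : ∀ m : ℤ, m • ζ = 0 ↔ (N : ℤ) ∣ m := by
    intro m
    rw [hζ, ← ofMul_zpow, ← hζu'.zpow_eq_one_iff_dvd]
    exact ofMul_eq_zero
  have hζN : N • ζ = 0 := by
    have := (hζ1 (N : ℤ)).mpr dvd_rfl
    rwa [natCast_zsmul] at this
  have hζ2 : ∀ u : Additive kˣ, N • u = 0 → ∃ m : ℤ, u = m • ζ := by
    intro u hu
    have h1 : ((Additive.toMul u : kˣ) : k) ^ N = 1 := by
      have : (Additive.toMul u : kˣ) ^ N = 1 := by
        have h2 := congrArg Additive.toMul hu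
        rwa [toMul_nsmul, toMul_zero] at h2
      rw [← Units.val_pow_eq_pow_val, this, Units.val_one]
    obtain ⟨i, -, hi⟩ := hζ0.eq_pow_of_pow_eq_one h1
    refine ⟨(i : ℤ), ?_⟩
    rw [natCast_zsmul, hζ, ← ofMul_pow]
    apply Additive.toMul.injective
    rw [toMul_ofMul]
    ext
    rw [Units.val_pow_eq_pow_val, hζu, Units.val_mk0, hi]
  -- main
  rw [show (2 : ℕ) = 1 + 1 from rfl, subsingleton_iff]
  intro f hf
  have hdd : ∀ (A : Rep ℤ Q) (n : ℕ) (y : (Fin n → Q) → A),
      (inhomogeneousCochains.d A (n + 1)).hom ((inhomogeneousCochains.d A n).hom y) = 0 := by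
    intro A n y
    have := inhomogeneousCochains.d_comp_d (A := A) (n := n)
    exact congr($this y)
  -- step 1
  have h1 := d_hsum (Rep.trivial ℤ Q (Additive kˣ)) 1 f hf
  rw [show ((-1 : ℤ) ^ (1 + 1)) = 1 from by norm_num, one_smul] at h1
  -- step 2
  set y₁ : (Fin 1 → Q) → (Rep.trivial ℤ Q (Additive kˣ)) :=
    fun g => r (hsum (Rep.trivial ℤ Q (Additive kˣ)) 1 f g) with hy₁
  have hNy₁ : N • y₁ = hsum (Rep.trivial ℤ Q (Additive kˣ)) 1 f := by
    funext g
    exact hr _
  set f' : (Fin (1 + 1) → Q) → (Rep.trivial ℤ Q (Additive kˣ)) :=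
    f - (inhomogeneousCochains.d (Rep.trivial ℤ Q (Additive kˣ)) 1).hom y₁ with hf'
  have hdf' : (inhomogeneousCochains.d (Rep.trivial ℤ Q (Additive kˣ)) (1 + 1)).hom f' = 0 := by
    rw [hf', map_sub, hf, hdd, sub_zero]
  have hNf' : ∀ g, N • (f' g : Additive kˣ) = 0 := by
    intro g
    have e1 : (inhomogeneousCochains.d (Rep.trivial ℤ Q (Additive kˣ)) 1).hom (N • y₁) =
        N • (inhomogeneousCochains.d (Rep.trivial ℤ Q (Additive kˣ)) 1).hom y₁ := map_nsmul _ _ _
    rw [hNy₁, h1] at e1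
    have e2 := congrFun e1 g
    change N • ((f g : Additive kˣ) -
      ((inhomogeneousCochains.d (Rep.trivial ℤ Q (Additive kˣ)) 1).hom y₁ g : Additive kˣ)) = 0
    rw [nsmul_sub]
    change N • (f g : Additive kˣ) =
      N • ((inhomogeneousCochains.d (Rep.trivial ℤ Q (Additive kˣ)) 1).hom y₁ g : Additive kˣ) at e2
    rw [e2, sub_self]
  -- step 3
  have hex : ∀ g, ∃ m : ℤ, (f' g : Additive kˣ) = m • ζ := fun g => hζ2 (f' g) (hNf' g)
  choose a ha using hex
  have hfa : f' = fun g => (zmultiplesHom (Additive kˣ) ζ) (a g) := by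
    funext g
    rw [ha g]
    rfl
  -- step 4
  have h4 : ∀ g, (N : ℤ) ∣ (inhomogeneousCochains.d (Rep.trivial ℤ Q ℤ) (1 + 1)).hom a g := by
    intro g
    rw [← hζ1]
    have := hdf'
    rw [hfa, d_comp (zmultiplesHom (Additive kˣ) ζ) (1 + 1) a] at this
    exact congrFun this g
  choose b hb using h4
  have hab : (inhomogeneousCochains.d (Rep.trivial ℤ Q ℤ) (1 + 1)).hom a = N • b := by
    funext g
    rw [hb g]
    simp
  -- step 5
  have hdb : (inhomogeneousCochains.d (Rep.trivial ℤ Q ℤ) (1 + 1 + 1)).hom b = 0 := by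
    have h5 : N • (inhomogeneousCochains.d (Rep.trivial ℤ Q ℤ) (1 + 1 + 1)).hom b = 0 := by
      rw [← map_nsmul, ← hab, hdd]
    funext g
    have := congrFun h5 g
    simp only [Pi.smul_apply, nsmul_eq_mul] at this
    rcases mul_eq_zero.mp this with h | h
    · exact absurd (by exact_mod_cast h) hNpos.ne'
    · exact h
  -- step 6
  obtain ⟨c, hc⟩ : ∃ c : (Fin (1 + 1) → Q) → ℤ,
      (inhomogeneousCochains.d (Rep.trivial ℤ Q ℤ) (1 + 1)).hom c = b :=
    (subsingleton_iff (Rep.trivial ℤ Q ℤ) (1 + 1)).mp hQ b hdb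
  -- step 7
  set a' : (Fin (1 + 1) → Q) → ℤ := a - N • c with ha'
  have hda' : (inhomogeneousCochains.d (Rep.trivial ℤ Q ℤ) (1 + 1)).hom a' = 0 := by
    have e1 : (inhomogeneousCochains.d (Rep.trivial ℤ Q ℤ) (1 + 1)).hom (a - N • c) =
        (inhomogeneousCochains.d (Rep.trivial ℤ Q ℤ) (1 + 1)).hom a -
          N • (inhomogeneousCochains.d (Rep.trivial ℤ Q ℤ) (1 + 1)).hom c := by
      rw [map_sub, map_nsmul]
    rw [ha', e1, hc, hab, sub_self]
  have hfa' : ∀ g, (f' g : Additive kˣ) = (a' g) • ζ := by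
    intro g
    rw [ha g, ha']
    simp only [Pi.sub_apply, Pi.smul_apply, sub_smul]
    have : (N • c g) • ζ = 0 := by
      rw [nsmul_eq_mul, mul_comm, mul_smul, natCast_zsmul, hζN, smul_zero]
    rw [this, sub_zero]
  -- step 8
  set ξ : Additive kˣ := r ζ with hξ
  have hNξ : N • ξ = ζ := hr ζ
  set F : (Fin (1 + 1) → Q) → (Rep.trivial ℤ Q (Additive kˣ)) :=
    fun g => (zmultiplesHom (Additive kˣ) ξ) (a' g) with hF
  have hdF : (inhomogeneousCochains.d (Rep.trivial ℤ Q (Additive kˣ)) (1 + 1)).hom F = 0 := by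
    rw [hF, d_comp (zmultiplesHom (Additive kˣ) ξ) (1 + 1) a', hda']
    funext g
    change (zmultiplesHom (Additive kˣ) ξ) (0 : ℤ) = 0
    rw [map_zero]
  have hNF : ∀ g, N • (F g : Additive kˣ) = f' g := by
    intro g
    rw [hfa' g]
    change N • ((a' g) • ξ) = _
    rw [← natCast_zsmul, smul_comm (N : ℤ) (a' g) ξ, natCast_zsmul, hNξ]
  -- step 9
  have h9 := d_hsum (Rep.trivial ℤ Q (Additive kˣ)) 1 F hdF
  rw [show ((-1 : ℤ) ^ (1 + 1)) = 1 from by norm_num, one_smul] at h9
  refine ⟨hsum (Rep.trivial ℤ Q (Additive kˣ)) 1 F + y₁, ?_⟩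
  rw [map_add, h9]
  funext g
  change N • (F g : Additive kˣ) +
    ((inhomogeneousCochains.d (Rep.trivial ℤ Q (Additive kˣ)) 1).hom y₁ g : Additive kˣ) = f g
  rw [hNF g, hf']
  change (f g : Additive kˣ) -
    ((inhomogeneousCochains.d (Rep.trivial ℤ Q (Additive kˣ)) 1).hom y₁ g : Additive kˣ) + _ = _
  abel

end Main



/-- Let Q be a finite group such that H^3(Q, ℤ) = 0 for the trivial action, and let k be a separably
closed field of characteristic p ≥ 0 with p not dividing the order of Q. Then H^2(Q, k^×) = 0, where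
Q acts trivially on the units of k. (Groups and fields are taken in the lowest universe, as integral
coefficients in the group-cohomology library require.) -/
theorem result (Q : Type) [Group Q] [Finite Q]
    (hQ : Subsingleton (groupCohomology (Rep.trivial ℤ Q ℤ) 3)) (k : Type) [Field k] [IsSepClosed k]
    (p : ℕ) [CharP k p] (hp : ¬ p ∣ Nat.card Q) :
    Subsingleton (groupCohomology (Rep.trivial ℤ Q (Additive kˣ)) 2) := by
  exact main Q hQ k p hp

end Groth.Agent.S19224
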