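import Groth.Statements.S19237
import Groth.Agent.Lib.Helper24.SigmaLinWitt
-- import your own Groth.Agent.* helpers here

set_option autoImplicit false
universe u v
open SigmaLin

namespace Groth.Agent.S19237

open Groth.Agent.Lib.helper24.SigmaLinLib

/-- Let k be an algebraically closed field of characteristic p > 0 and n a natural number; let M be a
finitely generated module over the ring W_n(k) of truncated Witt vectors and T : M → M an additive
map with T (c • m) = σ(c) • T m, where σ is either the Frobenius endomorphism of W_n(k) (induced by
the p-th power map of k) or its inverse (induced by the inverse of the p-th power map). Then m ↦ T m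
− m is surjective on M. (The printed statement takes k perfect and separably closed, which is the
same as algebraically closed.) -/
theorem result
    (p : ℕ) [Fact p.Prime] (k : Type u) [Field k] [CharP k p] [IsAlgClosed k] (n : ℕ)
    (σ : TruncatedWittVector p n k →+* TruncatedWittVector p n k)
    (hσ : σ = WittGrp.truncMap p n (frobenius k p) ∨
      σ = WittGrp.truncMap p n (frobeniusEquiv k p).symm.toRingHom)
    (M : Type v) [AddCommGroup M] [Module (TruncatedWittVector p n k) M] [Module.Finite (TruncatedWittVector p n k) M]
    (T : M →ₛₗ[σ] M) :
    Function.Surjective (fun m : M => T m - m) := by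
  rcases n with _ | n
  · haveI : Subsingleton (TruncatedWittVector p 0 k) := subsingleton_zero p k
    have : Subsingleton M := Module.subsingleton (TruncatedWittVector p 0 k) M
    intro u
    exact ⟨0, Subsingleton.elim _ _⟩
  · rcases hσ with rfl | rfl
    · intro u
      obtain ⟨m, hm⟩ := witt_surjective p k n (frobenius k p) (surjective_frobenius k p)
        (H2_frobenius p) (H3_frobenius p) T (-u)
      refine ⟨m, ?_⟩
      have hm' : m - T m = -u := hm
      show T m - m = u
      rw [← neg_sub, hm', neg_neg]
    · intro u
      obtain ⟨m, hm⟩ := witt_surjective p k n (frobeniusEquiv k p).symm.toRingHom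
        (frobeniusEquiv k p).symm.surjective
        (H2_frobInv p) (H3_frobInv p) T (-u)
      refine ⟨m, ?_⟩
      have hm' : m - T m = -u := hm
      show T m - m = u
      rw [← neg_sub, hm', neg_neg]

end Groth.Agent.S19237
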