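import Groth.Statements.S1925
import Groth.Agent.Lib.Helper16.DivSum3
import Groth.Agent.Lib.Helper16.SecOrd6

set_option autoImplicit false
universe u
open CategoryTheory AlgebraicGeometry
open Cyc

namespace Groth.Agent.S1925


open Groth.Agent.Lib.helper16.DivSum Groth.Agent.Lib.helper16.OrdGen
  Groth.Agent.Lib.helper16.SecOrd

theorem coheight_le_one_of_bound {X : Scheme.{u}} (δ : X → ℤ) (hδ : Cyc.IsDimFun X δ) (x : X)
    (hb : ∀ ξ : X, ξ ⤳ x → δ ξ ≤ δ x + 1) : Order.coheight x ≤ 1 := by
  rw [show (1 : ℕ∞) = ((1 : ℕ) : ℕ∞) from rfl, Order.coheight_le_coe_iff]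
  intro y hy
  have hyx : y ⤳ x := hy.le
  have hne : y ≠ x := fun h => by subst h; exact lt_irrefl _ hy
  have h1 := (hδ y x hyx hne).1
  have h0 : Order.coheight y = 0 := by
    rw [Order.coheight_eq_zero]
    intro z hz
    have hzy : z ⤳ y := hz
    by_contra hnot
    have hne' : z ≠ y := by
      intro he
      apply hnot
      rw [he]
    have h2 := (hδ z y hzy hne').1
    have h3 := hb z (hzy.trans hyx)
    omega
  rw [h0]
  exact zero_lt_one


/-- Let L be an invertible O_Y-module and s a global section of L; assume δ ≤ k + 1 on Y, δ ≤ k on the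
zero locus of s, and multiplication by the germ of s injective on O_{Y,ξ} at the points ξ of
δ-dimension k. Writing [Y]_{k+1} = Σ n_i[Y_i] over the irreducible components of δ-dimension k + 1,
one has [Z(s)]_k = Σ n_i [Z(s|_{Y_i})]_k as k-cycles on Y; here the right side is computed as c_1(L)
∩ [Y]_{k+1} with the rational sections induced by s. Here L(ξ) = L_ξ/𝔪_ξ L_ξ is the space of
rational sections of L on the closure of ξ, div_{L|W}(s) and c_1(L) ∩ α are computed as coefficient
functions from chosen nonzero rational sections (Cyc.secDivFun, Cyc.c1CapFun), and results are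
compared up to rational equivalence for any cycles with those coefficients. A pair (X, δ) with
Cyc.IsSetup plays the role of a scheme locally of finite type over a fixed base with a dimension
function (X locally Noetherian with universally catenary local rings, δ a dimension function), and
Cyc.DeltaCompat records that the dimension function upstairs is the induced one. -/
theorem result (Y : Scheme.{u}) (δ : Y → ℤ) (hY : Cyc.IsSetup Y δ) (L : Y.Modules) (hL : PicF.IsInvertible L) (k : ℤ) (hdim : ∀ y : Y, δ y ≤ k + 1) (s : L.presheaf.obj (Opposite.op ⊤)) (hZ : ∀ y : Y, (L.presheaf.germ ⊤ y trivial) s ∈ IsLocalRing.maximalIdeal (Y.presheaf.stalk y) • (⊤ : Submodule (Y.presheaf.stalk y) (L.presheaf.stalk y)) → δ y ≤ k) (hreg : ∀ y : Y, δ y = k → Function.Injective (fun a : Y.presheaf.stalk y => a • (L.presheaf.germ ⊤ y trivial) s)) : Cyc.zeroSectionFun δ k L s = Cyc.c1CapFun δ L (Cyc.subschemeFun δ (k + 1) (𝟙 Y)) (fun ξ => Submodule.Quotient.mk ((L.presheaf.germ ⊤ ξ trivial) s)) := by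
  classical
  haveI : IsLocallyNoetherian Y := hY.1
  have hLc := isLocCyc_of_isInvertible L hL
  funext y
  show (if δ y = k then
      (if ht : ∃ t : L.presheaf.stalk y, Submodule.span (Y.presheaf.stalk y) {t} = ⊤ then
        (if hf : ∃ f : Y.presheaf.stalk y,
            (L.presheaf.germ ⊤ y trivial) s = f • Classical.choose ht then
          ((Module.length (Y.presheaf.stalk y)
            (↥(Y.presheaf.stalk y) ⧸ Ideal.span {Classical.choose hf})).toNat : ℤ)
        else 0)
      else 0)
    else 0) =
    ∑ᶠ ξ : Y, Cyc.subschemeFun δ (k + 1) (𝟙 Y) ξ *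
      Cyc.secDivFun δ L ξ (Submodule.Quotient.mk ((L.presheaf.germ ⊤ ξ trivial) s)) y
  by_cases hk : δ y = k
  · rw [if_pos hk]
    have ht := hLc.cyc y
    have ht₀ := Classical.choose_spec ht
    have hf : ∃ f : Y.presheaf.stalk y,
        (L.presheaf.germ ⊤ y trivial) s = f • Classical.choose ht :=
      (Submodule.mem_span_singleton.1 (by rw [ht₀]; exact Submodule.mem_top)).imp
        fun f hf => hf.symm
    rw [dif_pos ht, dif_pos hf]
    set t := Classical.choose ht with ht_def
    set f := Classical.choose hf with hf_def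
    have hfs : (L.presheaf.germ ⊤ y trivial) s = f • t := Classical.choose_spec hf
    -- dimension one
    have hyc : Order.coheight y ≤ 1 := coheight_le_one_of_bound δ hY.2.2 y (fun ξ _ => by
      have := hdim ξ
      omega)
    haveI : Ring.KrullDimLE 1 (Y.presheaf.stalk y) :=
      krullDimLE_of_coheight_le (n := 1) (by exact_mod_cast hyc)
    -- `f` is a nonzerodivisor
    have hfnzd : f ∈ nonZeroDivisors (Y.presheaf.stalk y) := by
      rw [mem_nonZeroDivisors_iff_right]
      intro a ha
      apply hreg y hk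
      show a • (L.presheaf.germ ⊤ y trivial) s = (0 : Y.presheaf.stalk y) • _
      rw [hfs, smul_smul, ha, zero_smul, zero_smul]
    rw [toNat_length_quot_eq_finsum_points y f hfnzd]
    -- reindex
    let ι : {ξ : Y // ξ ⤳ y ∧ ξ ≠ y} → Y := fun ξ => ξ.1
    have hι : Function.Injective ι := Subtype.val_injective
    symm
    rw [← finsum_mem_univ, finsum_mem_inter_support_eq' _ Set.univ (Set.range ι) (by
      intro ξ hξ
      simp only [Set.mem_univ, true_iff]
      by_cases h : ξ ⤳ y ∧ δ y + 1 = δ ξ
      · have hne : ξ ≠ y := by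
          intro he
          have := h.2
          rw [he] at this
          omega
        exact ⟨⟨ξ, h.1, hne⟩, rfl⟩
      · exfalso
        apply hξ
        show _ * Cyc.secDivFun δ L ξ _ y = (0 : ℤ)
        unfold Cyc.secDivFun
        rw [dif_neg h, mul_zero]), finsum_mem_range hι]
    refine finsum_congr fun ξ => ?_
    have hξy : ξ.1 ⤳ y := ξ.2.1
    have hδξ : δ ξ.1 = k + 1 := by
      have h1 := (hY.2.2 ξ.1 y hξy ξ.2.2).1
      have h2 := hdim ξ.1
      omega
    -- the multiplicity
    have hsub : Cyc.subschemeFun δ (k + 1) (𝟙 Y) ξ.1 =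
        ((Module.length (Y.presheaf.stalk ξ.1) (Y.presheaf.stalk ξ.1)).toNat : ℤ) := by
      unfold Cyc.subschemeFun
      rw [if_pos hδξ]
      have : {z : Y | (𝟙 Y : Y ⟶ Y) z = ξ.1} = {ξ.1} := by
        ext z
        simp
      rw [this, finsum_mem_singleton]
    -- the order
    have e2 : L.presheaf.stalkSpecializes hξy ((L.presheaf.germ ⊤ y trivial) s) =
        (L.presheaf.germ ⊤ ξ.1 trivial) s :=
      ConcreteCategory.congr_hom (TopCat.Presheaf.germ_stalkSpecializes L.presheaf
        (show y ∈ (⊤ : Y.Opens) from trivial) hξy) s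
    have hσ : (Submodule.Quotient.mk ((L.presheaf.germ ⊤ ξ.1 trivial) s) :
        Cyc.secFibre L ξ.1) ≠ 0 := by
      intro h0
      rw [Submodule.Quotient.mk_eq_zero] at h0
      have := hZ ξ.1 h0
      omega
    have hσeq : (Submodule.Quotient.mk ((L.presheaf.germ ⊤ ξ.1 trivial) s) :
        Cyc.secFibre L ξ.1) = (Y.presheaf.stalkSpecializes hξy).hom f •
          (Submodule.Quotient.mk (L.presheaf.stalkSpecializes hξy t) : Cyc.secFibre L ξ.1) := by
      rw [← e2, hfs, stalkSpecializes_smul]
      rfl
    have hfp : f ∉ pOf hξy := by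
      intro hmem
      apply hσ
      rw [hσeq]
      exact smul_mk_eq_zero_of_mem L ξ.1 ((mem_pOf_iff hξy f).mp hmem) _
    have hd : Ring.KrullDimLE 1 (Cyc.LocQuot y ξ.1 hξy) := krullDimLE_locQuot hξy
    show Cyc.subschemeFun δ (k + 1) (𝟙 Y) ξ.1 * Cyc.secDivFun δ L ξ.1 _ y = _
    unfold Cyc.secDivFun
    rw [hsub, dif_pos (⟨hξy, by omega⟩ : ξ.1 ⤳ y ∧ δ y + 1 = δ ξ.1),
      secOrdAt_eq L y ξ.1 hξy _ hσ t ht₀ _ hσeq]
    congr 1
    exact ordAt_specMap hξy hd f hfp
  · rw [if_neg hk]
    symm
    apply finsum_eq_zero_of_forall_eq_zero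
    intro ξ
    unfold Cyc.subschemeFun Cyc.secDivFun
    by_cases h1 : δ ξ = k + 1
    · rw [dif_neg (fun h => hk (by have := h.2; omega)), mul_zero]
    · rw [if_neg h1, zero_mul]

end Groth.Agent.S1925
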