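import Groth.Statements.S1924
import Groth.Agent.Lib.Helper16.CycClosed4
import Groth.Agent.Lib.Helper16.SecOrd7
import Groth.Agent.Lib.Helper16.FLF5
import Groth.Agent.S1925

set_option autoImplicit false
universe u
open CategoryTheory AlgebraicGeometry
open Cyc

namespace Groth.Agent.S1924


open Groth.Agent.Lib.helper16.CycClosed Groth.Agent.Lib.helper16.SecOrd
  Groth.Agent.Lib.helper16.PullStalk

theorem subschemeFun_closedImmersion {X Y : Scheme.{u}} (ι : Y ⟶ X) [IsClosedImmersion ι]
    (δ : X → ℤ) (k : ℤ) (η : Y) :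
    Cyc.subschemeFun δ k ι (ι η) = Cyc.subschemeFun (fun y => δ (ι y)) k (𝟙 Y) η := by
  rw [subschemeFun_id]
  unfold Cyc.subschemeFun
  have hinj : Function.Injective ι := ι.isClosedEmbedding.injective
  have hset : {z : Y | ι z = ι η} = {η} := by
    ext z
    simp only [Set.mem_setOf_eq, Set.mem_singleton_iff]
    exact hinj.eq_iff
  rw [hset, finsum_mem_singleton]

theorem subschemeFun_eq_zero_off {X Y : Scheme.{u}} (ι : Y ⟶ X) (δ : X → ℤ) (k : ℤ) (x : X)
    (hx : x ∉ Set.range ι) : Cyc.subschemeFun δ k ι x = 0 := by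
  unfold Cyc.subschemeFun
  split_ifs
  · have hset : {z : Y | ι z = x} = ∅ := by
      ext z
      simp only [Set.mem_setOf_eq, Set.mem_empty_iff_false, iff_false]
      intro h
      exact hx ⟨z, h⟩
    rw [hset, finsum_mem_empty]
  · rfl

theorem finsum_eq_finsum_comp {A B : Type*} (g : A → B) (hg : Function.Injective g) (F : B → ℤ)
    (hF : ∀ b, b ∉ Set.range g → F b = 0) : ∑ᶠ b, F b = ∑ᶠ a, F (g a) := by
  rw [← finsum_mem_range hg, ← finsum_mem_univ]
  apply finsum_mem_inter_support_eq'
  intro b hb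
  constructor
  · intro _
    by_contra hne
    exact hb (hF b hne)
  · intro _
    trivial


/-- Let L be invertible on X, ι : Y → X a closed immersion with δ ≤ k + 1 on Y, and s a global section
of L|_Y = ι^*L such that the points of its zero locus have δ ≤ k and, at every such point ξ with
δ(ξ) = k, multiplication by the germ of s is injective on O_{Y,ξ}. Then c_1(L) ∩ [Y]_{k+1} ∼_rat
ι_*[Z(s)]_k as k-cycles on X (for any nonzero rational sections used to compute the left side and
any cycle on Y with the coefficients of [Z(s)]_k). Here L(ξ) = L_ξ/𝔪_ξ L_ξ is the space of rational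
sections of L on the closure of ξ, div_{L|W}(s) and c_1(L) ∩ α are computed as coefficient functions
from chosen nonzero rational sections (Cyc.secDivFun, Cyc.c1CapFun), and results are compared up to
rational equivalence for any cycles with those coefficients. A pair (X, δ) with Cyc.IsSetup plays
the role of a scheme locally of finite type over a fixed base with a dimension function (X locally
Noetherian with universally catenary local rings, δ a dimension function), and Cyc.DeltaCompat
records that the dimension function upstairs is the induced one. -/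
theorem result (X Y : Scheme.{u}) (δ : X → ℤ) (hX : Cyc.IsSetup X δ) (L : X.Modules) (hL : PicF.IsInvertible L) (ι : Y ⟶ X) [IsClosedImmersion ι] (k : ℤ) (hY : ∀ y : Y, δ (ι y) ≤ k + 1) (s : ((Scheme.Modules.pullback ι).obj L).presheaf.obj (Opposite.op ⊤)) (hZ : ∀ y : Y, (((Scheme.Modules.pullback ι).obj L).presheaf.germ ⊤ y trivial) s ∈ IsLocalRing.maximalIdeal (Y.presheaf.stalk y) • (⊤ : Submodule (Y.presheaf.stalk y) (((Scheme.Modules.pullback ι).obj L).presheaf.stalk y)) → δ (ι y) ≤ k) (hreg : ∀ y : Y, δ (ι y) = k → Function.Injective (fun a : Y.presheaf.stalk y => a • (((Scheme.Modules.pullback ι).obj L).presheaf.germ ⊤ y trivial) s)) (v : (ξ : X) → Cyc.secFibre L ξ) (hv : ∀ ξ, v ξ ≠ 0) (γ : AlgebraicCycle X ℤ) (hγ : ⇑γ = Cyc.c1CapFun δ L (Cyc.subschemeFun δ (k + 1) ι) v) (ζ : AlgebraicCycle Y ℤ) (hζ : ⇑ζ = Cyc.zeroSectionFun (fun y => δ (ι y)) k ((Scheme.Modules.pullback ι).obj L) s) : Cyc.RatEquiv δ k γ (AlgebraicCycle.map ι (fun y => δ (ι y)) δ ζ) := by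
  classical
  haveI : IsLocallyNoetherian X := hX.1
  have hYs : Cyc.IsSetup Y (fun y => δ (ι y)) := isSetup_closedImmersion ι δ hX
  haveI : IsLocallyNoetherian Y := hYs.1
  have hLY : PicF.IsInvertible ((Scheme.Modules.pullback ι).obj L) :=
    (Groth.Agent.Lib.helper16.FLF.isInvertible_iff_isFinLocFreeOfRank_one _).2
      (Groth.Agent.Lib.helper16.FLF.isFinLocFreeOfRank_pullback ι
        ((Groth.Agent.Lib.helper16.FLF.isInvertible_iff_isFinLocFreeOfRank_one L).1 hL))
  have hLc := isLocCyc_of_isInvertible L hL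
  have hLYc := isLocCyc_of_isInvertible _ hLY
  have hS := Groth.Agent.S1925.result Y (fun y => δ (ι y)) hYs _ hLY k hY s hZ hreg
  obtain ⟨YY, hYY, hYYk⟩ := exists_cycle_subschemeFun_id (fun y => δ (ι y)) hYs.2.2 (k + 1) hY
  obtain ⟨γY, hγY⟩ := exists_restrict ι γ
  -- the two families of rational sections on `Y`
  set σ : (η : Y) → Cyc.secFibre ((Scheme.Modules.pullback ι).obj L) η := fun η =>
    Submodule.Quotient.mk ((((Scheme.Modules.pullback ι).obj L).presheaf.germ ⊤ η trivial) s)
    with hσ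
  set τ : (η : Y) → Cyc.secFibre ((Scheme.Modules.pullback ι).obj L) η := fun η =>
    pullSec ι η L (v (ι η)) with hτ
  have hYYne : ∀ η, YY η ≠ 0 → δ (ι η) = k + 1 := by
    intro η hη
    by_contra hne
    exact hη (hYYk η hne)
  have hσne : ∀ η, YY η ≠ 0 → σ η ≠ 0 := by
    intro η hη h0
    have h1 := hZ η ((Submodule.Quotient.mk_eq_zero _).1 h0)
    have h2 := hYYne η hη
    omega
  have hτne : ∀ η, YY η ≠ 0 → τ η ≠ 0 := by
    intro η hη
    obtain ⟨g, hg⟩ := hLc.cyc (ι η)
    exact pullSec_ne_zero ι η L g hg (σ η) (hσne η hη) (v (ι η)) (hv (ι η))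
  have hoffγ : ∀ x, x ∉ Set.range ι → ∀ ξ,
      Cyc.subschemeFun δ (k + 1) ι ξ * Cyc.secDivFun δ L ξ (v ξ) x = 0 := by
    intro x hx ξ
    by_cases hξ : ξ ∈ Set.range ι
    · obtain ⟨η, rfl⟩ := hξ
      have : Cyc.secDivFun δ L (ι η) (v (ι η)) x = 0 := by
        unfold Cyc.secDivFun
        rw [dif_neg]
        intro h
        exact hx (mem_range_of_specializes ι η x h.1)
      rw [this, mul_zero]
    · rw [subschemeFun_eq_zero_off ι δ (k + 1) ξ hξ, zero_mul]
  have hkey : ⇑γY = Cyc.c1CapFun (fun y => δ (ι y)) ((Scheme.Modules.pullback ι).obj L) ⇑YY τ := by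
    funext y
    rw [hγY y, hγ]
    unfold Cyc.c1CapFun
    rw [finsum_eq_finsum_comp ι ι.isClosedEmbedding.injective _ (fun ξ hξ => by
      rw [subschemeFun_eq_zero_off ι δ (k + 1) ξ hξ, zero_mul])]
    apply finsum_congr
    intro η
    rw [subschemeFun_closedImmersion ι δ (k + 1) η, hYY]
    by_cases hη : YY η = 0
    · have : Cyc.subschemeFun (fun y => δ (ι y)) (k + 1) (𝟙 Y) η = 0 := by
        rw [← hYY]; exact hη
      rw [this, zero_mul, zero_mul]
    · rw [secDivFun_closedImmersion ι δ L hLc η y (v (ι η)) (hv (ι η)) (hτne η hη)]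
  have hζ' : ⇑ζ = Cyc.c1CapFun (fun y => δ (ι y)) ((Scheme.Modules.pullback ι).obj L) ⇑YY σ := by
    rw [hζ, hS, hYY]
  have hrat := ratEquiv_c1CapFun_of_sections' Y (fun y => δ (ι y)) _ hLYc k YY hYYk σ τ hσne hτne
    ζ γY hζ' hkey
  have hpush := ratEquivZero_map ι δ k (ζ - γY) hrat
  have heq : AlgebraicCycle.map ι (fun y => δ (ι y)) δ (ζ - γY) =
      AlgebraicCycle.map ι (fun y => δ (ι y)) δ ζ - γ := by
    ext x
    rw [Function.locallyFinsuppWithin.coe_sub, Pi.sub_apply]
    by_cases hx : x ∈ Set.range ι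
    · obtain ⟨y, rfl⟩ := hx
      rw [map_apply ι (fun y => δ (ι y)) δ (fun _ => rfl), map_apply ι (fun y => δ (ι y)) δ
        (fun _ => rfl), Function.locallyFinsuppWithin.coe_sub, Pi.sub_apply, hγY y]
    · rw [map_apply_of_notMem_range ι _ δ _ x hx, map_apply_of_notMem_range ι _ δ _ x hx]
      have : γ x = 0 := by
        rw [hγ]
        unfold Cyc.c1CapFun
        exact finsum_eq_zero_of_forall_eq_zero (hoffγ x hx)
      rw [this]
      ring
  rw [heq] at hpush
  unfold Cyc.RatEquiv
  have := ratEquivZero_neg δ k _ hpush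
  rwa [neg_sub] at this

end Groth.Agent.S1924
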