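import Groth.Statements.S19244
import Mathlib

set_option autoImplicit false
universe v v' u u'
open HomAlg3

namespace Groth.Agent.S19244

open CategoryTheory CategoryTheory.Limits

section
variable {A : Type u} [Category.{v} A] [Abelian A]

/-- If `n • 𝟙 Y = 0` and `ι : K ⟶ Y` is mono with `ι ≫ (n • 𝟙 Y)`... we only need: the kernel of
`n • 𝟙 X` is killed by `n`. -/
lemma zsmul_id_kernel (X : A) (n : ℤ) : n • 𝟙 (kernel (n • 𝟙 X)) = 0 := by
  rw [← cancel_mono (kernel.ι (n • 𝟙 X))]
  rw [Preadditive.zsmul_comp, Category.id_comp, zero_comp]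
  have := kernel.condition (n • 𝟙 X)
  rwa [Preadditive.comp_zsmul, Category.comp_id] at this

lemma zsmul_id_cokernel (X : A) (n : ℤ) : n • 𝟙 (cokernel (n • 𝟙 X)) = 0 := by
  rw [← cancel_epi (cokernel.π (n • 𝟙 X))]
  rw [Preadditive.comp_zsmul, Category.comp_id, comp_zero]
  have := cokernel.condition (n • 𝟙 X)
  rwa [Preadditive.zsmul_comp, Category.id_comp] at this

/-- A morphism whose kernel is killed by `n₁` and cokernel by `n₂` has a quasi-inverse up to
`n₂ * n₁`. -/
lemma exists_quasi_inverse {Y Y' : A} (s : Y ⟶ Y') (n₁ n₂ : ℤ)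
    (h₁ : n₁ • 𝟙 (kernel s) = 0) (h₂ : n₂ • 𝟙 (cokernel s) = 0) :
    ∃ t : Y' ⟶ Y, s ≫ t = (n₂ * n₁) • 𝟙 Y := by
  -- `a : Y' ⟶ image s`
  have ha : (n₂ • 𝟙 Y') ≫ cokernel.π s = 0 := by
    rw [Preadditive.zsmul_comp, Category.id_comp]
    have : cokernel.π s ≫ (n₂ • 𝟙 (cokernel s)) = 0 := by rw [h₂, comp_zero]
    rwa [Preadditive.comp_zsmul, Category.comp_id] at this
  let a : Y' ⟶ Abelian.image s := kernel.lift (cokernel.π s) (n₂ • 𝟙 Y') ha
  have haι : a ≫ Abelian.image.ι s = n₂ • 𝟙 Y' := kernel.lift_ι _ _ _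
  -- `b : coimage s ⟶ Y`
  have hb : kernel.ι s ≫ (n₁ • 𝟙 Y) = 0 := by
    rw [Preadditive.comp_zsmul, Category.comp_id]
    have : (n₁ • 𝟙 (kernel s)) ≫ kernel.ι s = 0 := by rw [h₁, zero_comp]
    rwa [Preadditive.zsmul_comp, Category.id_comp] at this
  let b : Abelian.coimage s ⟶ Y := cokernel.desc (kernel.ι s) (n₁ • 𝟙 Y) hb
  have hπb : Abelian.coimage.π s ≫ b = n₁ • 𝟙 Y := cokernel.π_desc _ _ _
  refine ⟨a ≫ (Abelian.coimageIsoImage s).inv ≫ b, ?_⟩
  have hsa : s ≫ a = n₂ • Abelian.factorThruImage s := by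
    rw [← cancel_mono (Abelian.image.ι s), Category.assoc, haι, Preadditive.comp_zsmul,
      Category.comp_id, Preadditive.zsmul_comp, Abelian.image.fac]
  have hfac : Abelian.factorThruImage s ≫ (Abelian.coimageIsoImage s).inv =
      Abelian.coimage.π s := by
    rw [Iso.comp_inv_eq, ← cancel_mono (Abelian.image.ι s), Category.assoc, Abelian.image.fac]
    exact (Abelian.coimage_image_factorisation s).symm
  rw [← Category.assoc, hsa, Preadditive.zsmul_comp, ← Category.assoc, hfac, hπb, smul_smul]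

end

open CategoryTheory in
/-- Let A be an abelian category and let P be the class of bounded-torsion objects of A, those X with n
• 𝟙_X = 0 for some nonzero integer n; assume P is a Serre class. Let L : A ⥤ D be an additive
functor to a preadditive category exhibiting D as the localization of A at the morphisms whose
kernel and cokernel are in P (so D is the quotient category A_ℚ = A ⧸ A_{b-tor}; the source assumes
A well-powered, which guarantees that this quotient exists). Then for all objects X, Y of A: (1) for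
every nonzero integer n, multiplication by n is bijective on Hom_D(L X, L Y), so that this group is
naturally a ℚ-vector space; (2) a morphism f : X ⟶ Y satisfies L f = 0 if and only if n • f = 0 for
some nonzero integer n; (3) for every g : L X ⟶ L Y there are a nonzero integer n and f : X ⟶ Y with
n • g = L f. Equivalently, the natural map Hom_A(X, Y) ⊗_ℤ ℚ → Hom_D(L X, L Y) is an isomorphism. -/
theorem result
    {A : Type u} [Category.{v} A] [Abelian A] {D : Type u'} [Category.{v'} D] [Preadditive D]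
    (P : ObjectProperty A) (hP : ∀ X : A, P X ↔ ∃ n : ℤ, n ≠ 0 ∧ n • (𝟙 X) = 0) [P.IsSerreClass]
    (L : A ⥤ D) [L.Additive] [L.IsLocalization P.isoModSerre] (X Y : A) :
    (∀ n : ℤ, n ≠ 0 → Function.Bijective (fun g : L.obj X ⟶ L.obj Y => n • g)) ∧
    (∀ f : X ⟶ Y, L.map f = 0 ↔ ∃ n : ℤ, n ≠ 0 ∧ n • f = 0) ∧
    (∀ g : L.obj X ⟶ L.obj Y, ∃ (n : ℤ) (f : X ⟶ Y), n ≠ 0 ∧ n • g = L.map f) := by
  -- `n • 𝟙` becomes invertible
  have hW : ∀ (Z : A) (n : ℤ), n ≠ 0 → P.isoModSerre (n • 𝟙 Z) := by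
    intro Z n hn
    exact ⟨(hP _).mpr ⟨n, hn, zsmul_id_kernel Z n⟩, (hP _).mpr ⟨n, hn, zsmul_id_cokernel Z n⟩⟩
  have hiso : ∀ (Z : A) (n : ℤ), n ≠ 0 → IsIso (n • 𝟙 (L.obj Z)) := by
    intro Z n hn
    have := Localization.inverts L P.isoModSerre _ (hW Z n hn)
    rwa [L.map_zsmul, L.map_id] at this
  have h1 : ∀ n : ℤ, n ≠ 0 → Function.Bijective (fun g : L.obj X ⟶ L.obj Y => n • g) := by
    intro n hn
    have := hiso X n hn
    have e : (fun g : L.obj X ⟶ L.obj Y => n • g) = fun g => (n • 𝟙 (L.obj X)) ≫ g := by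
      funext g
      rw [Preadditive.zsmul_comp, Category.id_comp]
    rw [e]
    constructor
    · intro g₁ g₂ h
      exact (cancel_epi _).mp h
    · intro g
      exact ⟨inv (n • 𝟙 (L.obj X)) ≫ g, by simp⟩
  refine ⟨h1, ?_, ?_⟩
  · intro f
    constructor
    · intro hf
      rw [ObjectProperty.SerreClassLocalization.map_eq_zero_iff L P, hP] at hf
      obtain ⟨n, hn, h0⟩ := hf
      refine ⟨n, hn, ?_⟩
      have e : n • f = (Abelian.factorThruImage f ≫ (n • 𝟙 (Abelian.image f))) ≫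
          Abelian.image.ι f := by
        rw [Preadditive.comp_zsmul, Category.comp_id, Preadditive.zsmul_comp, Abelian.image.fac]
      rw [e, h0, comp_zero, zero_comp]
    · rintro ⟨n, hn, h0⟩
      apply (h1 n hn).1
      simp only
      rw [smul_zero, ← L.map_zsmul, h0, L.map_zero]
  · intro g
    obtain ⟨φ, rfl⟩ := Localization.exists_leftFraction L P.isoModSerre g
    obtain ⟨n₁, hn₁, hk⟩ := (hP _).mp φ.hs.1
    obtain ⟨n₂, hn₂, hc⟩ := (hP _).mp φ.hs.2
    obtain ⟨t, ht⟩ := exists_quasi_inverse φ.s n₁ n₂ hk hc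
    refine ⟨n₂ * n₁, φ.f ≫ t, mul_ne_zero hn₂ hn₁, ?_⟩
    have := Localization.inverts L P.isoModSerre _ φ.hs
    have hLt : L.map t = (n₂ * n₁) • inv (L.map φ.s) := by
      rw [← cancel_epi (L.map φ.s), ← L.map_comp, ht, L.map_zsmul, L.map_id,
        Preadditive.comp_zsmul, IsIso.hom_inv_id]
    rw [L.map_comp, hLt, Preadditive.comp_zsmul]
    rfl

end Groth.Agent.S19244
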