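import Groth.Statements.S19258
import Mathlib

set_option autoImplicit false
universe u
open PontDual

namespace Groth.Agent.S19258

local notation "T" => AddCircle (1 : ℚ)

instance : Fact ((0 : ℚ) < 1) := ⟨one_pos⟩

/-- The `n`-torsion of `ℚ/ℤ` is cyclic, generated by `1/n`. -/
lemma exists_zsmul_of_nsmul_eq_zero (n : ℕ) (hn : 0 < n) (t : T) (ht : n • t = 0) :
    ∃ l : ℤ, t = l • (((1 / n : ℚ)) : T) := by
  obtain ⟨r, rfl⟩ := QuotientAddGroup.mk_surjective t
  change n • ((r : ℚ) : T) = 0 at ht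
  rw [← AddCircle.coe_nsmul, AddCircle.coe_eq_zero_iff] at ht
  obtain ⟨l, hl⟩ := ht
  refine ⟨l, ?_⟩
  change ((r : ℚ) : T) = _
  rw [← AddCircle.coe_zsmul]
  congr 1
  have hn' : (n : ℚ) ≠ 0 := by exact_mod_cast hn.ne'
  simp only [zsmul_eq_mul, mul_one, nsmul_eq_mul] at hl ⊢
  field_simp
  linarith

/-- Any endomorphism of `ℚ/ℤ` acts on the `n`-torsion as multiplication by an integer. -/
lemma exists_int_mul (n : ℕ) (hn : 0 < n) (θ : T →+ T) :
    ∃ a : ℤ, ∀ t : T, n • t = 0 → θ t = a • t := by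
  set e : T := (((1 / n : ℚ)) : T) with he
  have hne : n • e = 0 := by
    rw [he, ← AddCircle.coe_nsmul, AddCircle.coe_eq_zero_iff]
    refine ⟨1, ?_⟩
    have hn' : (n : ℚ) ≠ 0 := by exact_mod_cast hn.ne'
    simp only [one_smul, nsmul_eq_mul]
    field_simp
  have hθe : n • θ e = 0 := by rw [← map_nsmul, hne, map_zero]
  obtain ⟨a, ha⟩ := exists_zsmul_of_nsmul_eq_zero n hn (θ e) hθe
  refine ⟨a, fun t ht => ?_⟩
  obtain ⟨l, rfl⟩ := exists_zsmul_of_nsmul_eq_zero n hn t ht
  rw [map_zsmul, ha, smul_comm]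

/-- The algebraic core. -/
lemma exists_of_ker_le (G G' : Type u) [AddCommGroup G] [AddCommGroup G'] (hG' : IsAddTorsion G')
    (β : G' →+ (G →+ T)) (F : Finset G') (χ : G →+ T)
    (hker : ∀ g : G, (∀ f ∈ F, β f g = 0) → χ g = 0) : ∃ f' : G', β f' = χ := by
  classical
  -- `Φ : G → (F → T)`
  let Φ : G →+ (↥F → T) := AddMonoidHom.pi (fun f => β f.1)
  have hΦker : Φ.ker ≤ χ.ker := by
    intro g hg
    rw [AddMonoidHom.mem_ker] at hg ⊢
    apply hker
    intro f hf
    exact congrFun hg ⟨f, hf⟩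
  let χbar : G ⧸ Φ.ker →+ T := QuotientAddGroup.lift Φ.ker χ hΦker
  let Φbar : G ⧸ Φ.ker →+ (↥F → T) := QuotientAddGroup.kerLift Φ
  have hΦbar : Function.Injective Φbar := QuotientAddGroup.kerLift_injective Φ
  obtain ⟨ψ, hψ⟩ := (Module.Baer.of_divisible T).extension_property_addMonoidHom Φbar hΦbar χbar
  have hχ : ∀ g, χ g = ψ (Φ g) := by
    intro g
    have := congrArg (fun h => h (QuotientAddGroup.mk g)) hψ
    simpa [χbar, Φbar] using this.symm
  -- integers `a f`
  have hint : ∀ f : ↥F, ∃ a : ℤ, ∀ t : T, addOrderOf f.1 • t = 0 →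
      (ψ.comp (AddMonoidHom.single (fun _ : ↥F => T) f)) t = a • t := by
    intro f
    exact exists_int_mul _ (hG' f.1).addOrderOf_pos _
  choose a ha using hint
  refine ⟨∑ f : ↥F, a f • f.1, ?_⟩
  ext g
  rw [hχ, map_sum, AddMonoidHom.finsetSum_apply]
  have hdec : Φ g = ∑ f : ↥F, Pi.single f (β f.1 g) := by
    rw [Finset.univ_sum_single]
    rfl
  rw [hdec, map_sum]
  refine Finset.sum_congr rfl fun f _ => ?_
  have h1 : addOrderOf f.1 • (β f.1 g) = 0 := by
    rw [← AddMonoidHom.smul_apply, ← map_nsmul, addOrderOf_nsmul_eq_zero, map_zero,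
      AddMonoidHom.zero_apply]
  have := ha f (β f.1 g) h1
  simp only [AddMonoidHom.coe_comp, Function.comp_apply, AddMonoidHom.single_apply] at this
  rw [this, map_zsmul, AddMonoidHom.smul_apply]

/-- Let G and G' be abelian groups such that every element of G' has finite order, and let β : G' →
Hom(G, ℚ/ℤ) be an injective homomorphism (equivalently a pairing G' × G → ℚ/ℤ with no left kernel).
Endow G with the weak topology defined by G': the coarsest topology for which every character β(f),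
f ∈ G', is continuous when ℚ/ℤ carries the discrete topology. Then every homomorphism χ : G → ℚ/ℤ
that is continuous for this topology on G and the discrete topology on ℚ/ℤ equals β(f) for some f ∈
G', so that β is a bijection from G' onto the group of continuous characters of G. -/
theorem result
    (G : Type u) (G' : Type u) [AddCommGroup G] [AddCommGroup G'] (hG' : IsAddTorsion G')
    (β : G' →+ (G →+ AddCircle (1 : ℚ))) (hβ : Function.Injective β)
    (χ : G →+ AddCircle (1 : ℚ))
    (hχ : @Continuous G (AddCircle (1 : ℚ)) (⨅ f' : G', TopologicalSpace.induced (fun x : G => β f' x) ⊥) ⊥ χ) :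
    ∃ f' : G', β f' = χ := by
  classical
  -- `ker χ` is a neighbourhood of `0`
  have hdisc : @DiscreteTopology (AddCircle (1 : ℚ)) ⊥ := @DiscreteTopology.mk _ ⊥ rfl
  have hopen : @IsOpen G (⨅ f' : G', TopologicalSpace.induced (fun x : G => β f' x) ⊥)
      (χ ⁻¹' {0}) :=
    (@continuous_def G (AddCircle (1 : ℚ)) (⨅ f' : G',
      TopologicalSpace.induced (fun x : G => β f' x) ⊥) ⊥ χ).mp hχ {0}
      (@isOpen_discrete _ ⊥ hdisc _)
  have hnhds : χ ⁻¹' {0} ∈
      @nhds G (⨅ f' : G', TopologicalSpace.induced (fun x : G => β f' x) ⊥) 0 :=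
    @IsOpen.mem_nhds G (⨅ f' : G', TopologicalSpace.induced (fun x : G => β f' x) ⊥)
      0 (χ ⁻¹' {0}) hopen (by simp)
  have h1 : @nhds G (⨅ f' : G', TopologicalSpace.induced (fun x : G => β f' x) ⊥) 0 =
      ⨅ f' : G', @nhds G (TopologicalSpace.induced (fun x : G => β f' x) ⊥) 0 := nhds_iInf
  have h2 : ∀ f' : G', @nhds G (TopologicalSpace.induced (fun x : G => β f' x) ⊥) 0 =
      Filter.principal ((fun x : G => β f' x) ⁻¹' {0}) := by
    intro f'
    rw [@nhds_induced (AddCircle (1 : ℚ)) G ⊥ (fun x : G => β f' x) 0,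
      @nhds_discrete _ ⊥ hdisc, Filter.comap_pure, map_zero]
  rw [h1] at hnhds
  simp only [h2] at hnhds
  rw [Filter.mem_iInf_finite] at hnhds
  obtain ⟨F, hF⟩ := hnhds
  rw [Filter.iInf_principal_finset, Filter.mem_principal] at hF
  apply exists_of_ker_le G G' hG' β F χ
  intro g hg
  have : g ∈ χ ⁻¹' {0} := by
    apply hF
    simp only [Set.mem_iInter, Set.mem_preimage, Set.mem_singleton_iff]
    exact hg
  simpa using this

end Groth.Agent.S19258
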