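import Groth.Statements.S19264
import Groth.Agent.Lib.Helper21.WittFilUFD

set_option autoImplicit false
universe u
open WittFil

namespace Groth.Agent.S19264

open Groth.Agent.Lib.helper21 in
/-- Let A be a unique factorisation domain of characteristic p, x_1, …, x_r pairwise non-associate prime
elements of A, B = A[1/(x_1⋯x_r)] with u_i the unit of B defined by x_i, n ∈ ℤ^r and m ≥ 0. The
restriction map from truncated p-typical Witt vectors of length m+1 to those of length m over B
(forgetting the last coordinate) maps the filtered piece cut out by ∏ u_i ^ n_i onto the filtered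
piece cut out by ∏ u_i ^ ⌊n_i / p⌋; that is, the image is exactly that piece. (The other parts of
the exact sequence, injectivity of the (m-fold) Verschiebung from the fractional ideal generated by
(∏ u_i ^ n_i)⁻¹ and exactness in the middle, are immediate from the definition and are not restated.
The published setting is a regular local ring; only unique factorisation is used.) -/
theorem result (p : ℕ) [Fact p.Prime] {A B : Type u} [CommRing A] [IsDomain A]
    [UniqueFactorizationMonoid A] [CharP A p] [CommRing B] [Algebra A B] {r : ℕ} (x : Fin r → A)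
    (hx : ∀ i, Prime (x i)) (hxa : ∀ i j, Associated (x i) (x j) → i = j)
    [IsLocalization.Away (∏ i, x i) B] (u : Fin r → Bˣ)
    (hu : ∀ i, (u i : B) = algebraMap A B (x i)) (n : Fin r → ℤ) (m : ℕ) :
    (TruncatedWittVector.truncate (Nat.le_succ m)) '' WittFil.fil p (m + 1) (A := A) (WittFil.zmon u n) =
      WittFil.fil p m (A := A) (WittFil.zmon u (fun i => n i / (p : ℤ))) := by
  have hp : 0 < p := (Fact.out : p.Prime).pos
  have hzm := zmon_eq_pow_mul u p hp n
  -- the tail `∏ u_k ^ s_k` lies in `A`
  have htail : ∏ k, (u k : B) ^ (n k % (p : ℤ)).toNat ∈ (algebraMap A B).range := by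
    refine ⟨∏ k, x k ^ (n k % (p : ℤ)).toNat, ?_⟩
    rw [map_prod]
    refine Finset.prod_congr rfl fun k _ => ?_
    rw [map_pow, hu]
  have hs : ∀ k, (n k % (p : ℤ)).toNat < p := by
    intro k
    have h1 : n k % (p : ℤ) < p := Int.emod_lt_of_pos _ (by exact_mod_cast hp)
    have h0 : 0 ≤ n k % (p : ℤ) := Int.emod_nonneg _ (by exact_mod_cast hp.ne')
    omega
  ext y
  constructor
  · rintro ⟨a, ha, rfl⟩
    intro j
    rw [TruncatedWittVector.coeff_truncate]
    have haj := ha (Fin.castLE (Nat.le_succ m) j)
    simp only [Fin.val_castLE] at haj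
    -- `z ^ p * tail = a_j ^ (p ^ (m - j)) * zmon u n`
    apply mem_range_of_pow_mul_prod_mem x hx hxa u hu _ p _ hs
    have hexp : p ^ (m + 1 - 1 - (j : ℕ)) = p ^ (m - 1 - (j : ℕ)) * p := by
      rw [← pow_succ]
      congr 1
      have := j.2
      omega
    rw [hexp, hzm] at haj
    convert haj using 1
    rw [mul_pow, ← pow_mul]
    ring
  · intro hy
    classical
    refine ⟨TruncatedWittVector.mk p (fun i : Fin (m + 1) =>
      if h : (i : ℕ) < m then TruncatedWittVector.coeff ⟨i, h⟩ y else 0), ?_, ?_⟩
    · intro i
      rw [TruncatedWittVector.coeff_mk]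
      by_cases h : (i : ℕ) < m
      · rw [dif_pos h]
        have hyi := hy ⟨i, h⟩
        simp only at hyi
        have hexp : p ^ (m + 1 - 1 - (i : ℕ)) = p ^ (m - 1 - (i : ℕ)) * p := by
          rw [← pow_succ]
          congr 1
          omega
        rw [hexp, hzm]
        have e : TruncatedWittVector.coeff ⟨i, h⟩ y ^ (p ^ (m - 1 - (i : ℕ)) * p) *
            (zmon u (fun i => n i / (p : ℤ)) ^ p * ∏ k, (u k : B) ^ (n k % (p : ℤ)).toNat) =
            (TruncatedWittVector.coeff ⟨i, h⟩ y ^ p ^ (m - 1 - (i : ℕ)) *
              zmon u (fun i => n i / (p : ℤ))) ^ p * ∏ k, (u k : B) ^ (n k % (p : ℤ)).toNat := by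
          rw [mul_pow, ← pow_mul]
          ring
        rw [e]
        exact Subring.mul_mem _ (Subring.pow_mem _ hyi _) htail
      · rw [dif_neg h, zero_pow (pow_ne_zero _ hp.ne'), zero_mul]
        exact Subring.zero_mem _
    · ext j
      rw [TruncatedWittVector.coeff_truncate, TruncatedWittVector.coeff_mk]
      simp

end Groth.Agent.S19264
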