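import Groth.Statements.S19267
import Groth.Agent.Lib.Helper21.WittTeich

set_option autoImplicit false
universe u
open WittFil

namespace Groth.Agent.S19267

open Groth.Agent.Lib.helper21 in
/-- Let A → B be a homomorphism of commutative rings, u a unit of B, m ≥ 0 and n, l integers. For an
element c of B call the filtered piece cut out by c the set of truncated p-typical Witt vectors of
length m over B whose j-th coordinate y_j satisfies: y_j ^ (p ^ (m-1-j)) · c lies in the image of A,
for every j < m. Then the piece cut out by u ^ (n − p^(m−1)·l) is exactly the image of the piece cut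
out by u ^ n under multiplication by the truncated Teichmüller representative [u ^ l]. (The
published case is B = S[[π]][1/π] over A = S[[π]] with u = π; the computation is the same in
general.) -/
theorem result (p : ℕ) [Fact p.Prime] {A B : Type u}
    [CommRing A] [CommRing B] [Algebra A B] (m : ℕ) (u : Bˣ) (n l : ℤ) :
    WittFil.fil p m (A := A) ((u ^ (n - (p : ℤ) ^ (m - 1) * l) : Bˣ) : B) =
      (fun a => WittVector.truncate m (WittVector.teichmuller p ((u ^ l : Bˣ) : B)) * a) ''
        WittFil.fil p m (A := A) ((u ^ n : Bˣ) : B) := by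
  have key : (u ^ n : Bˣ) = u ^ (n - (p : ℤ) ^ (m - 1) * l) * (u ^ l) ^ (p ^ (m - 1) : ℕ) := by
    rw [← zpow_natCast (u ^ l), ← zpow_mul, ← zpow_add]
    congr 1
    push_cast
    ring
  have keyB : ((u ^ n : Bˣ) : B) =
      ((u ^ (n - (p : ℤ) ^ (m - 1) * l) : Bˣ) : B) * ((u ^ l : Bˣ) : B) ^ (p ^ (m - 1) : ℕ) := by
    rw [key]; push_cast; rfl
  have hexp : ∀ j : Fin m, p ^ (j : ℕ) * p ^ (m - 1 - (j : ℕ)) = p ^ (m - 1) := by
    intro j
    rw [← pow_add]
    congr 1
    have := j.2
    omega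
  have hinv : ((u ^ l : Bˣ) : B) * ((u ^ (-l) : Bˣ) : B) = 1 := by
    rw [← Units.val_mul, ← zpow_add]; simp
  ext b
  constructor
  · intro hb
    refine ⟨WittVector.truncate m (WittVector.teichmuller p ((u ^ (-l) : Bˣ) : B)) * b, ?_, ?_⟩
    · intro j
      rw [coeff_truncate_teichmuller_mul, mul_pow, ← pow_mul, hexp j, keyB]
      have := hb j
      have e : ((u ^ (-l) : Bˣ) : B) ^ p ^ (m - 1) * TruncatedWittVector.coeff j b ^ p ^ (m - 1 - (j : ℕ)) *
          (((u ^ (n - (p : ℤ) ^ (m - 1) * l) : Bˣ) : B) * ((u ^ l : Bˣ) : B) ^ p ^ (m - 1)) =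
          TruncatedWittVector.coeff j b ^ p ^ (m - 1 - (j : ℕ)) *
            ((u ^ (n - (p : ℤ) ^ (m - 1) * l) : Bˣ) : B) *
            (((u ^ l : Bˣ) : B) * ((u ^ (-l) : Bˣ) : B)) ^ p ^ (m - 1) := by
        rw [mul_pow]; ring
      rw [e, hinv, one_pow, mul_one]
      exact this
    · simp only
      rw [← mul_assoc, ← map_mul, ← map_mul, ← Units.val_mul, ← zpow_add]
      simp
  · rintro ⟨a, ha, rfl⟩
    intro j
    simp only
    rw [coeff_truncate_teichmuller_mul, mul_pow, ← pow_mul, hexp j]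
    have := ha j
    rw [keyB] at this
    have e : ((u ^ l : Bˣ) : B) ^ p ^ (m - 1) * TruncatedWittVector.coeff j a ^ p ^ (m - 1 - (j : ℕ)) *
        ((u ^ (n - (p : ℤ) ^ (m - 1) * l) : Bˣ) : B) =
        TruncatedWittVector.coeff j a ^ p ^ (m - 1 - (j : ℕ)) *
        (((u ^ (n - (p : ℤ) ^ (m - 1) * l) : Bˣ) : B) * ((u ^ l : Bˣ) : B) ^ p ^ (m - 1)) := by
      ring
    rw [e]
    exact this

end Groth.Agent.S19267
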