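import Groth.Statements.S19268
import Groth.Agent.Lib.Helper21.WittTeich
import Mathlib

set_option autoImplicit false
universe u
open WittFil

namespace Groth.Agent.S19268

open Groth.Agent.Lib.helper21 WittVector

section PS

variable {S B : Type u} [CommRing S] [IsDomain S] [CommRing B] [Algebra (PowerSeries S) B]
  [IsLocalization.Away (PowerSeries.X : PowerSeries S) B] (u : Bˣ)
  (hu : (u : B) = algebraMap (PowerSeries S) B PowerSeries.X)

omit [IsDomain S] in
theorem algebraMap_inj [IsDomain S] : Function.Injective (algebraMap (PowerSeries S) B) :=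
  IsLocalization.injective B (M := Submonoid.powers (PowerSeries.X : PowerSeries S))
    (powers_le_nonZeroDivisors_of_noZeroDivisors PowerSeries.X_ne_zero)

/-- `S⟦X⟧` is root closed in `S⟦X⟧[1/X]`. -/
theorem mem_range_of_pow_mem (z : B) (q : ℕ) (hq : 0 < q)
    (h : z ^ q ∈ (algebraMap (PowerSeries S) B).range) :
    z ∈ (algebraMap (PowerSeries S) B).range := by
  obtain ⟨a', ha'⟩ := h
  obtain ⟨⟨b, ⟨_, M, rfl⟩⟩, hz⟩ :=
    IsLocalization.surj (Submonoid.powers (PowerSeries.X : PowerSeries S)) z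
  simp only at hz
  induction M generalizing b with
  | zero =>
    refine ⟨b, ?_⟩
    rw [← hz]; simp
  | succ M ih =>
    have hinj := algebraMap_inj (S := S) (B := B)
    have hA : b ^ q = a' * PowerSeries.X ^ ((M + 1) * q) := by
      apply hinj
      rw [map_mul, map_pow, map_pow, ha', ← hz, map_pow]
      ring
    have hdvd : (PowerSeries.X : PowerSeries S) ∣ b := by
      apply PowerSeries.X_prime.dvd_of_dvd_pow (n := q)
      rw [hA]
      refine Dvd.dvd.mul_left ?_ _
      exact dvd_pow_self _ (by positivity)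
    obtain ⟨b₁, rfl⟩ := hdvd
    apply ih b₁
    have hunit : IsUnit (algebraMap (PowerSeries S) B PowerSeries.X) :=
      IsLocalization.map_units B
        (⟨_, Submonoid.mem_powers _⟩ : Submonoid.powers (PowerSeries.X : PowerSeries S))
    apply hunit.mul_right_cancel
    rw [map_mul, mul_comm (algebraMap (PowerSeries S) B PowerSeries.X)] at hz
    rw [← hz, map_pow, map_pow, pow_succ]
    ring

include hu in
/-- Lemma D: `alg a * u⁻¹` lies in `A` iff `X ∣ a`. -/
theorem mul_inv_mem_range_iff (a : PowerSeries S) :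
    algebraMap (PowerSeries S) B a * ((u⁻¹ : Bˣ) : B) ∈ (algebraMap (PowerSeries S) B).range ↔
      (PowerSeries.X : PowerSeries S) ∣ a := by
  constructor
  · rintro ⟨a', ha'⟩
    refine ⟨a', ?_⟩
    apply algebraMap_inj (S := S) (B := B)
    rw [map_mul, ← hu, ha', mul_comm, mul_assoc, Units.inv_mul, mul_one]
  · rintro ⟨a', rfl⟩
    refine ⟨a', ?_⟩
    rw [map_mul, ← hu, mul_comm (u : B), mul_assoc, Units.mul_inv, mul_one]

end PS

section Coeff

variable (p : ℕ) [hp : Fact p.Prime] {S B : Type u} [CommRing S] [CommRing B] [Algebra S B]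

theorem coeff_vShiftTeich (m s : ℕ) (v : B) (c : WittVector p S) (j : Fin m) :
    TruncatedWittVector.coeff j (WittFil.vShiftTeich p m s v c) =
      if s ≤ (j : ℕ) then algebraMap S B (c.coeff ((j : ℕ) - s)) * v ^ p ^ ((j : ℕ) - s) else 0 := by
  unfold WittFil.vShiftTeich
  rw [WittVector.coeff_truncate]
  split_ifs with h
  · obtain ⟨k, hk⟩ : ∃ k, (j : ℕ) = k + s := ⟨(j : ℕ) - s, by omega⟩
    rw [hk, iterate_verschiebung_coeff, coeff_mul_teichmuller, map_coeff]
    simp
  · exact iterate_verschiebung_coeff_eq_zero _ (by omega)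

end Coeff

section Units

variable {B : Type u} [CommRing B] (u : Bˣ)

theorem unit_pow_mul_eq_one (i : ℤ) (q : ℕ) :
    ((u ^ i : Bˣ) : B) ^ q * ((u ^ (-((q : ℤ) * i)) : Bˣ) : B) = 1 := by
  rw [← Units.val_pow_eq_pow_val, ← Units.val_mul, ← zpow_natCast, ← zpow_mul, ← zpow_add]
  have : i * (q : ℤ) + -((q : ℤ) * i) = 0 := by ring
  rw [this]; simp

theorem unit_pow_mul_eq_inv (i : ℤ) (q : ℕ) :
    ((u ^ i : Bˣ) : B) ^ q * ((u ^ (-((q : ℤ) * i) - 1) : Bˣ) : B) = ((u⁻¹ : Bˣ) : B) := by
  rw [← Units.val_pow_eq_pow_val, ← Units.val_mul, ← zpow_natCast, ← zpow_mul, ← zpow_add]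
  have : i * (q : ℤ) + (-((q : ℤ) * i) - 1) = -1 := by ring
  rw [this]; simp

end Units

section Main

variable (p : ℕ) [hp : Fact p.Prime] {S B : Type u} [CommRing S]
    [IsDomain S] [CommRing B] [Algebra (PowerSeries S) B] [Algebra S B]
    [IsScalarTower S (PowerSeries S) B] [IsLocalization.Away (PowerSeries.X : PowerSeries S) B]
    (u : Bˣ) (hu : (u : B) = algebraMap (PowerSeries S) B PowerSeries.X) (m s : ℕ) (hs : s < m)
    (i : ℤ)

omit [IsDomain S] [IsLocalization.Away (PowerSeries.X : PowerSeries S) B] in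
theorem algebraMap_S_eq (σ : S) :
    algebraMap S B σ = algebraMap (PowerSeries S) B (PowerSeries.C σ) := by
  rw [IsScalarTower.algebraMap_apply S (PowerSeries S) B]
  rfl

omit hp [IsDomain S] [Algebra (PowerSeries S) B] [Algebra S B]
  [IsScalarTower S (PowerSeries S) B] [IsLocalization.Away (PowerSeries.X : PowerSeries S) B] in
/-- Lemma G (first form). -/
theorem lemmaG_one (j : Fin m) (hj : s ≤ (j : ℕ)) (b : B) :
    (b * ((u ^ i : Bˣ) : B) ^ p ^ ((j : ℕ) - s)) ^ p ^ (m - 1 - (j : ℕ)) *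
      ((u ^ (-((p : ℤ) ^ (m - 1 - s) * i)) : Bˣ) : B) = b ^ p ^ (m - 1 - (j : ℕ)) := by
  have hexp : p ^ ((j : ℕ) - s) * p ^ (m - 1 - (j : ℕ)) = p ^ (m - 1 - s) := by
    rw [← pow_add]; congr 1; have := j.2; omega
  rw [mul_pow, ← pow_mul, hexp, mul_assoc]
  have := unit_pow_mul_eq_one u i (p ^ (m - 1 - s))
  rw [Nat.cast_pow] at this
  rw [this, mul_one]

omit hp [IsDomain S] [Algebra (PowerSeries S) B] [Algebra S B]
  [IsScalarTower S (PowerSeries S) B] [IsLocalization.Away (PowerSeries.X : PowerSeries S) B] in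
/-- Lemma G (second form). -/
theorem lemmaG_inv (j : Fin m) (hj : s ≤ (j : ℕ)) (b : B) :
    (b * ((u ^ i : Bˣ) : B) ^ p ^ ((j : ℕ) - s)) ^ p ^ (m - 1 - (j : ℕ)) *
      ((u ^ (-((p : ℤ) ^ (m - 1 - s) * i) - 1) : Bˣ) : B) =
      b ^ p ^ (m - 1 - (j : ℕ)) * ((u⁻¹ : Bˣ) : B) := by
  have hexp : p ^ ((j : ℕ) - s) * p ^ (m - 1 - (j : ℕ)) = p ^ (m - 1 - s) := by
    rw [← pow_add]; congr 1; have := j.2; omega
  rw [mul_pow, ← pow_mul, hexp, mul_assoc]
  have := unit_pow_mul_eq_inv u i (p ^ (m - 1 - s))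
  rw [Nat.cast_pow] at this
  rw [this]

include hs in
omit [IsDomain S] [IsLocalization.Away (PowerSeries.X : PowerSeries S) B] in
theorem part1 (c : WittVector p S) :
    WittFil.vShiftTeich p m s ((u ^ i : Bˣ) : B) c ∈
      WittFil.fil p m (A := PowerSeries S) ((u ^ (-((p : ℤ) ^ (m - 1 - s) * i)) : Bˣ) : B) := by
  intro j
  rw [coeff_vShiftTeich]
  split_ifs with h
  · rw [lemmaG_one p u m s i j h, algebraMap_S_eq, ← map_pow]
    exact ⟨_, rfl⟩
  · rw [zero_pow (pow_ne_zero _ hp.out.ne_zero), zero_mul]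
    exact Subring.zero_mem _

include hu hs in
theorem part2 (c : WittVector p S) :
    WittFil.vShiftTeich p m s ((u ^ i : Bˣ) : B) c ∈
        WittFil.fil p m (A := PowerSeries S)
          ((u ^ (-((p : ℤ) ^ (m - 1 - s) * i) - 1) : Bˣ) : B) ↔
      WittVector.truncate (m - s) c = 0 := by
  constructor
  · intro h
    ext k
    rw [WittVector.coeff_truncate, TruncatedWittVector.coeff_zero]
    have hk : (k : ℕ) + s < m := by have := k.2; omega
    have hj := h ⟨(k : ℕ) + s, hk⟩
    rw [coeff_vShiftTeich] at hj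
    rw [if_pos (by simp), lemmaG_inv p u m s i ⟨(k : ℕ) + s, hk⟩ (by simp), algebraMap_S_eq,
      ← map_pow, mul_inv_mem_range_iff u hu, ← map_pow, PowerSeries.X_dvd_iff,
      PowerSeries.constantCoeff_C] at hj
    simp only [add_tsub_cancel_right] at hj
    exact pow_eq_zero_iff (pow_ne_zero _ hp.out.ne_zero) |>.mp hj
  · intro h j
    rw [coeff_vShiftTeich]
    have hz : ∀ k : ℕ, k < m - s → c.coeff k = 0 := by
      intro k hk
      have := congrArg (TruncatedWittVector.coeff ⟨k, hk⟩) h
      rwa [WittVector.coeff_truncate, TruncatedWittVector.coeff_zero] at this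
    split_ifs with hsj
    · rw [hz _ (by have := j.2; omega), map_zero, zero_mul,
        zero_pow (pow_ne_zero _ hp.out.ne_zero), zero_mul]
      exact Subring.zero_mem _
    · rw [zero_pow (pow_ne_zero _ hp.out.ne_zero), zero_mul]
      exact Subring.zero_mem _

include hu in
omit hp [Algebra S B] [IsScalarTower S (PowerSeries S) B] in
theorem unit_zpow_natCast (n : ℕ) :
    ((u ^ (n : ℤ) : Bˣ) : B) = algebraMap (PowerSeries S) B (PowerSeries.X ^ n) := by
  rw [zpow_natCast, Units.val_pow_eq_pow_val, hu, map_pow]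

include hu in
omit [Algebra S B] [IsScalarTower S (PowerSeries S) B] in
/-- Lemma P: the coordinates below `s` automatically gain one order, when `p ∤ i`. -/
theorem lemmaP (hi : ¬ ((p : ℤ) ∣ i)) (j : ℕ) (hjs : j < s) (hs : s < m) (y : B)
    (h : y ^ p ^ (m - 1 - j) * ((u ^ (-((p : ℤ) ^ (m - 1 - s) * i)) : Bˣ) : B) ∈
      (algebraMap (PowerSeries S) B).range) :
    y ^ p ^ (m - 1 - j) * ((u ^ (-((p : ℤ) ^ (m - 1 - s) * i) - 1) : Bˣ) : B) ∈
      (algebraMap (PowerSeries S) B).range := by
  obtain ⟨a, ha⟩ := h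
  set N : ℤ := (p : ℤ) ^ (m - 1 - s) * i with hN
  set Q : ℕ := p ^ (m - 1 - j) with hQ
  have e1 : y ^ Q * ((u ^ (-N - 1) : Bˣ) : B) =
      algebraMap (PowerSeries S) B a * ((u⁻¹ : Bˣ) : B) := by
    rw [ha, mul_assoc, ← Units.val_mul, ← zpow_neg_one, ← zpow_add]
    congr 3
  rw [e1, mul_inv_mem_range_iff u hu, PowerSeries.X_dvd_iff]
  by_contra hcc
  have horda : a.order = 0 := by
    by_contra h0
    exact hcc (PowerSeries.order_ne_zero_iff_constCoeff_eq_zero.mp h0)
  obtain ⟨⟨b, ⟨_, M, rfl⟩⟩, hb⟩ :=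
    IsLocalization.surj (Submonoid.powers (PowerSeries.X : PowerSeries S)) y
  simp only at hb
  -- `y ^ Q = alg a * u ^ N`
  have hyQ : y ^ Q = algebraMap (PowerSeries S) B a * ((u ^ N : Bˣ) : B) := by
    rw [ha, mul_assoc, ← Units.val_mul, ← zpow_add]
    simp
  set L : ℕ := N.natAbs with hL
  have hNL : 0 ≤ N + L := by
    have := neg_abs_le N
    have h2 : (L : ℤ) = |N| := by simp [hL]
    omega
  set T : ℕ := (N + L).toNat with hT
  have hTcast : (T : ℤ) = N + L := Int.toNat_of_nonneg hNL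
  have hinj := algebraMap_inj (S := S) (B := B)
  have hA : a * PowerSeries.X ^ T * PowerSeries.X ^ (M * Q) = b ^ Q * PowerSeries.X ^ L := by
    apply hinj
    rw [map_mul, map_mul, map_mul, map_pow _ b, ← hb, mul_pow, hyQ, ← unit_zpow_natCast u hu T,
      ← unit_zpow_natCast u hu L, hTcast, zpow_add, Units.val_mul]
    simp only [map_pow]
    ring
  have hord := congrArg PowerSeries.order hA
  rw [PowerSeries.order_mul, PowerSeries.order_mul, PowerSeries.order_mul, PowerSeries.order_X_pow,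
    PowerSeries.order_X_pow, PowerSeries.order_X_pow, PowerSeries.order_pow, horda, zero_add] at hord
  have hbtop : b.order ≠ ⊤ := by
    intro htop
    rw [htop] at hord
    have hQpos : Q ≠ 0 := pow_ne_zero _ hp.out.ne_zero
    simp [hQpos] at hord
    exact absurd hord (by exact_mod_cast ENat.natCast_ne_top _)
  obtain ⟨nb, hnb⟩ := ENat.ne_top_iff_exists.mp hbtop
  rw [← hnb, nsmul_eq_mul] at hord
  have hordN : T + M * Q = Q * nb + L := by exact_mod_cast hord
  have hZ : N + (M : ℤ) * Q = Q * nb := by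
    have : ((T + M * Q : ℕ) : ℤ) = ((Q * nb + L : ℕ) : ℤ) := by rw [hordN]
    push_cast at this
    rw [hTcast] at this
    linarith
  -- now derive `p ∣ i`
  apply hi
  have hQ' : (Q : ℤ) = (p : ℤ) ^ (m - 1 - s) * (p : ℤ) ^ (s - j) := by
    rw [hQ, ← pow_add]
    push_cast
    congr 1
    omega
  have hpp : (p : ℤ) ^ (m - 1 - s) ≠ 0 := pow_ne_zero _ (by exact_mod_cast hp.out.ne_zero)
  have h3 : (p : ℤ) ^ (m - 1 - s) * i =
      (p : ℤ) ^ (m - 1 - s) * ((p : ℤ) ^ (s - j) * ((nb : ℤ) - M)) := by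
    rw [hQ'] at hZ
    rw [hN] at hZ
    linarith
  have h4 : i = (p : ℤ) ^ (s - j) * ((nb : ℤ) - M) := mul_left_cancel₀ hpp h3
  rw [h4]
  refine Dvd.dvd.mul_right ?_ _
  exact dvd_pow_self _ (by omega)

omit [IsDomain S] [Algebra (PowerSeries S) B] [Algebra S B]
  [IsScalarTower S (PowerSeries S) B] [IsLocalization.Away (PowerSeries.X : PowerSeries S) B] in
theorem iterate_verschiebung_coeff_of_le (x : WittVector p B) (s n : ℕ) (h : s ≤ n) :
    ((⇑WittVector.verschiebung)^[s] x).coeff n = x.coeff (n - s) := by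
  obtain ⟨k, rfl⟩ : ∃ k, n = k + s := ⟨n - s, by omega⟩
  rw [iterate_verschiebung_coeff, add_tsub_cancel_right]

omit [Algebra S B] [IsScalarTower S (PowerSeries S) B] in
/-- Lemma A: the coordinates from `s` on are `A`-multiples of the Teichmüller powers. -/
theorem lemmaA (y : TruncatedWittVector p m B)
    (hy : y ∈ WittFil.fil p m (A := PowerSeries S)
      ((u ^ (-((p : ℤ) ^ (m - 1 - s) * i)) : Bˣ) : B))
    (j : Fin m) (hj : s ≤ (j : ℕ)) :
    ∃ τ : PowerSeries S, TruncatedWittVector.coeff j y =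
      algebraMap (PowerSeries S) B τ * ((u ^ i : Bˣ) : B) ^ p ^ ((j : ℕ) - s) := by
  set z : B := TruncatedWittVector.coeff j y * ((u ^ (-i) : Bˣ) : B) ^ p ^ ((j : ℕ) - s) with hz
  have hyz : TruncatedWittVector.coeff j y = z * ((u ^ i : Bˣ) : B) ^ p ^ ((j : ℕ) - s) := by
    rw [hz, mul_assoc, ← mul_pow, ← Units.val_mul, ← zpow_add]
    simp
  have hzmem : z ∈ (algebraMap (PowerSeries S) B).range := by
    apply mem_range_of_pow_mem z (p ^ (m - 1 - (j : ℕ))) (pow_pos hp.out.pos _)
    rw [← lemmaG_one p u m s i j hj z, ← hyz]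
    exact hy j
  obtain ⟨τ, hτ⟩ := hzmem
  exact ⟨τ, by rw [hτ]; exact hyz⟩

include hu hs in
theorem part3 (hsi : s = 0 ∨ ¬ ((p : ℤ) ∣ i)) (y : TruncatedWittVector p m B)
    (hy : y ∈ WittFil.fil p m (A := PowerSeries S)
      ((u ^ (-((p : ℤ) ^ (m - 1 - s) * i)) : Bˣ) : B)) :
    ∃ c : WittVector p S,
      y - WittFil.vShiftTeich p m s ((u ^ i : Bˣ) : B) c ∈
        WittFil.fil p m (A := PowerSeries S)
          ((u ^ (-((p : ℤ) ^ (m - 1 - s) * i) - 1) : Bˣ) : B) := by
  classical
  choose τfun hτfun using lemmaA p u m s i y hy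
  -- the Witt vector `τ` over `A`
  set τ : WittVector p (PowerSeries S) :=
    WittVector.mk p (fun k => if h : k + s < m then τfun ⟨k + s, h⟩ (by simp) else 0) with hτ
  set c : WittVector p S := WittVector.map PowerSeries.constantCoeff τ with hc
  set ω : WittVector p (PowerSeries S) := τ - WittVector.map (PowerSeries.C) c with hω
  have hωX : ∀ k, (PowerSeries.X : PowerSeries S) ∣ ω.coeff k := by
    intro k
    rw [PowerSeries.X_dvd_iff, ← WittVector.map_coeff, hω, map_sub, hc]
    have : WittVector.map PowerSeries.constantCoeff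
        (WittVector.map PowerSeries.C (WittVector.map PowerSeries.constantCoeff τ)) =
        WittVector.map PowerSeries.constantCoeff τ := by
      ext n
      simp [WittVector.map_coeff]
    rw [this, sub_self, WittVector.zero_coeff]
  -- the low part
  set w₀ : WittVector p B :=
    WittVector.mk p (fun j => if h : j < m then
      (if j < s then TruncatedWittVector.coeff ⟨j, h⟩ y else 0) else 0) with hw₀
  have hdisj : ∀ (x : WittVector p B) (n : ℕ),
      w₀.coeff n = 0 ∨ ((⇑WittVector.verschiebung)^[s] x).coeff n = 0 := by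
    intro x n
    by_cases hn : n < s
    · right; exact iterate_verschiebung_coeff_eq_zero _ hn
    · left
      rw [hw₀, WittVector.coeff_mk]
      split_ifs <;> rfl
  -- `y` as a sum
  have hy_eq : y = WittVector.truncate m
      (w₀ + (⇑WittVector.verschiebung)^[s]
        (WittVector.map (algebraMap (PowerSeries S) B) τ * WittVector.teichmuller p ((u ^ i : Bˣ) : B))) := by
    ext j
    rw [WittVector.coeff_truncate, WittVector.coeff_add_of_disjoint _ _ _ (hdisj _)]
    by_cases hjs : (j : ℕ) < s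
    · rw [iterate_verschiebung_coeff_eq_zero _ hjs, add_zero, hw₀, WittVector.coeff_mk,
        dif_pos j.2, if_pos hjs]
    · have hsj : s ≤ (j : ℕ) := not_lt.mp hjs
      have hw0 : w₀.coeff (j : ℕ) = 0 := by
        rw [hw₀, WittVector.coeff_mk, dif_pos j.2, if_neg hjs]
      rw [hw0, zero_add, iterate_verschiebung_coeff_of_le p _ _ _ hsj, coeff_mul_teichmuller,
        map_coeff, hτ, WittVector.coeff_mk]
      have hkm : (j : ℕ) - s + s < m := by have := j.2; omega
      rw [dif_pos hkm]
      have hfin : (⟨(j : ℕ) - s + s, hkm⟩ : Fin m) = j := Fin.ext (by simp; omega)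
      have := hτfun j hsj
      rw [this]
      congr 3
      · exact hfin.symm
  have hΦ : WittFil.vShiftTeich p m s ((u ^ i : Bˣ) : B) c = WittVector.truncate m
      ((⇑WittVector.verschiebung)^[s]
        (WittVector.map (algebraMap (PowerSeries S) B) (WittVector.map PowerSeries.C c) *
          WittVector.teichmuller p ((u ^ i : Bˣ) : B))) := by
    unfold WittFil.vShiftTeich
    congr 3
    ext n
    simp only [WittVector.map_coeff]
    exact algebraMap_S_eq _
  have hD : y - WittFil.vShiftTeich p m s ((u ^ i : Bˣ) : B) c = WittVector.truncate m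
      (w₀ + (⇑WittVector.verschiebung)^[s]
        (WittVector.map (algebraMap (PowerSeries S) B) ω * WittVector.teichmuller p ((u ^ i : Bˣ) : B))) := by
    rw [hΦ]
    conv_lhs => rw [hy_eq]
    rw [← map_sub]
    congr 1
    rw [add_sub_assoc, ← iterate_map_sub, ← sub_mul, ← map_sub]
  refine ⟨c, ?_⟩
  rw [hD]
  intro j
  rw [WittVector.coeff_truncate, WittVector.coeff_add_of_disjoint _ _ _ (hdisj _)]
  by_cases hjs : (j : ℕ) < s
  · rw [iterate_verschiebung_coeff_eq_zero _ hjs, add_zero, hw₀, WittVector.coeff_mk,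
      dif_pos j.2, if_pos hjs]
    have hi : ¬ ((p : ℤ) ∣ i) := by
      rcases hsi with h0 | h0
      · omega
      · exact h0
    exact lemmaP p u hu m s i hi j hjs hs _ (hy j)
  · have hsj : s ≤ (j : ℕ) := not_lt.mp hjs
    have hw0 : w₀.coeff (j : ℕ) = 0 := by
      rw [hw₀, WittVector.coeff_mk, dif_pos j.2, if_neg hjs]
    rw [hw0, zero_add, iterate_verschiebung_coeff_of_le p _ _ _ hsj, coeff_mul_teichmuller,
      map_coeff, lemmaG_inv p u m s i j hsj, ← map_pow, mul_inv_mem_range_iff u hu]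
    exact dvd_pow (hωX _) (pow_ne_zero _ hp.out.ne_zero)

end Main

/-- Let S be an integral domain of characteristic p, A = S[[π]] the power series ring, B = A[1/π] with u
the unit of B given by π, and let m > s ≥ 0 and i be an integer with s = 0 or p ∤ i; put n = p ^
(m−1−s) · i. For e in B write fil(e) for the set of truncated p-typical Witt vectors of length m
over B whose j-th coordinate y_j satisfies y_j ^ (p ^ (m−1−j)) · e ∈ A for all j, and for a Witt
vector c over S let Φ(c) ∈ W_m(B) be the length-m truncation of V^s(c · [u ^ i]) (V the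
Verschiebung, [ ] the Teichmüller map, c mapped to B). Then Φ induces a bijection from the
length-(m−s) truncated Witt vectors of S onto the graded piece fil(u^(−n)) / fil(u^(−n−1)): (1) Φ(c)
lies in fil(u^(−n)) for every c; (2) Φ(c) lies in fil(u^(−n−1)) exactly when the length-(m−s)
truncation of c is zero; (3) every element of fil(u^(−n)) is congruent to some Φ(c) modulo
fil(u^(−n−1)). (Published for S a regular local Noetherian F-finite F_p-algebra; the argument uses
only that S is a domain.) -/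
theorem result (p : ℕ) [Fact p.Prime] {S B : Type u} [CommRing S]
    [IsDomain S] [CharP S p] [CommRing B] [Algebra (PowerSeries S) B] [Algebra S B]
    [IsScalarTower S (PowerSeries S) B] [IsLocalization.Away (PowerSeries.X : PowerSeries S) B]
    (u : Bˣ) (hu : (u : B) = algebraMap (PowerSeries S) B PowerSeries.X) (m s : ℕ) (hs : s < m)
    (i : ℤ) (hsi : s = 0 ∨ ¬ ((p : ℤ) ∣ i)) :
    (∀ c : WittVector p S,
        WittFil.vShiftTeich p m s ((u ^ i : Bˣ) : B) c ∈
          WittFil.fil p m (A := PowerSeries S) ((u ^ (-((p : ℤ) ^ (m - 1 - s) * i)) : Bˣ) : B)) ∧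
      (∀ c : WittVector p S,
        WittFil.vShiftTeich p m s ((u ^ i : Bˣ) : B) c ∈
            WittFil.fil p m (A := PowerSeries S) ((u ^ (-((p : ℤ) ^ (m - 1 - s) * i) - 1) : Bˣ) : B) ↔
          WittVector.truncate (m - s) c = 0) ∧
      (∀ y ∈ WittFil.fil p m (A := PowerSeries S) ((u ^ (-((p : ℤ) ^ (m - 1 - s) * i)) : Bˣ) : B),
        ∃ c : WittVector p S,
          y - WittFil.vShiftTeich p m s ((u ^ i : Bˣ) : B) c ∈
            WittFil.fil p m (A := PowerSeries S)
              ((u ^ (-((p : ℤ) ^ (m - 1 - s) * i) - 1) : Bˣ) : B)) := by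
  exact ⟨fun c => part1 p u m s hs i c, fun c => part2 p u hu m s hs i c,
    fun y hy => part3 p u hu m s hs i hsi y hy⟩

end Groth.Agent.S19268
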