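import Groth.Statements.S19269
import Mathlib
-- import your own Groth.Agent.* helpers here

set_option autoImplicit false
universe u
open CAlg

namespace Groth.Agent.S19269

open IsLocalRing in
/-- Let R be a Noetherian local ring with maximal ideal 𝔪, M a finitely generated R-module and M^ its
𝔪-adic completion, a module over the 𝔪-adic completion R^ of R. Let N' be an R^-submodule of M^ and
N an R-submodule of M whose image in M^ is contained in N' and is dense in N' for the 𝔪-adic
topology, in the sense that for every y in N' and every k there is x in N with y ≡ x modulo the
kernel of M^ → M/𝔪^k M. Then N' equals the image of the completion of N under the map induced by the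
inclusion N → M (so N' is the completion of N), and N is the set of elements of M whose image in M^
lies in N'. -/
theorem result {R : Type u} [CommRing R]
    [IsNoetherianRing R] [IsLocalRing R] {M : Type u} [AddCommGroup M] [Module R M]
    [Module.Finite R M] (N : Submodule R M)
    (N' : Submodule (AdicCompletion (maximalIdeal R) R) (AdicCompletion (maximalIdeal R) M))
    (hle : ∀ x ∈ N, AdicCompletion.of (maximalIdeal R) M x ∈ N')
    (hdense : ∀ y ∈ N', ∀ k : ℕ, ∃ x ∈ N,
      AdicCompletion.eval (maximalIdeal R) M k y = Submodule.Quotient.mk x) :
    (N'.restrictScalars R =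
        (LinearMap.range (AdicCompletion.map (maximalIdeal R) N.subtype)).restrictScalars R) ∧
      (∀ x : M, x ∈ N ↔ AdicCompletion.of (maximalIdeal R) M x ∈ N') := by
  classical
  -- Step 1: the image of the completion of N lies in N'
  have h1 : ∀ z : AdicCompletion (maximalIdeal R) N,
      AdicCompletion.map (maximalIdeal R) N.subtype z ∈ N' := by
    intro z
    obtain ⟨t, rfl⟩ := AdicCompletion.ofTensorProduct_surjective_of_finite (maximalIdeal R) N z
    induction t using TensorProduct.induction_on with
    | zero => simp
    | tmul r x =>
      rw [AdicCompletion.ofTensorProduct_tmul, map_smul, AdicCompletion.map_of]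
      exact N'.smul_mem r (hle x x.2)
    | add a b ha hb =>
      rw [map_add, map_add]
      exact N'.add_mem ha hb
  -- Step 2: N' lies in the image, by exactness of completion
  have hex := AdicCompletion.map_exact (I := maximalIdeal R) (f := N.subtype) (g := N.mkQ)
    N.injective_subtype (LinearMap.exact_subtype_mkQ N) N.mkQ_surjective
  have h2 : ∀ y ∈ N', y ∈ LinearMap.range (AdicCompletion.map (maximalIdeal R) N.subtype) := by
    intro y hy
    apply (hex y).mp
    apply AdicCompletion.ext
    intro k
    rw [AdicCompletion.map_val_apply]
    obtain ⟨x, hx, hxy⟩ := hdense y hy k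
    rw [AdicCompletion.eval_apply] at hxy
    rw [hxy, LinearMap.reduceModIdeal_apply]
    have h0 : N.mkQ x = 0 := by simpa using hx
    rw [h0]
    simp
  refine ⟨?_, ?_⟩
  · ext y
    simp only [Submodule.restrictScalars_mem]
    constructor
    · exact h2 y
    · rintro ⟨z, rfl⟩
      exact h1 z
  · intro x
    constructor
    · exact hle x
    · intro hx
      have hH : IsHausdorff (maximalIdeal R) (M ⧸ N) := inferInstance
      have : N.mkQ x = 0 := by
        apply hH.haus
        intro k
        obtain ⟨x', hx', hxx'⟩ := hdense _ hx k
        rw [AdicCompletion.eval_of, Submodule.mkQ_apply, Submodule.Quotient.eq] at hxx'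
        have h3 : N.mkQ x = N.mkQ (x - x') := by
          have h0 : N.mkQ x' = 0 := by simpa using hx'
          rw [map_sub, h0, sub_zero]
        rw [SModEq.zero, h3]
        have h4 := Submodule.mem_map_of_mem (f := N.mkQ) hxx'
        rw [Submodule.map_smul'', Submodule.map_top] at h4
        exact Submodule.smul_mono le_rfl le_top h4
      simpa using this

end Groth.Agent.S19269
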