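import Groth.Statements.S19270
import Groth.Agent.Lib.Helper17.SmoothArtin
import Mathlib.RingTheory.Smooth.Kaehler
import Mathlib.RingTheory.LocalRing.Module
import Mathlib.RingTheory.RegularLocalRing.Defs
-- import your own Groth.Agent.* helpers here

set_option autoImplicit false
universe u
open CAlg

namespace Groth.Agent.S19270

open IsLocalRing

/-- in a regular local ring of dimension `N` with `m = (x_1, …, x_N)`:
`Σ a_i x_i ∈ m²` forces all `a_i ∈ m` -/
lemma coeff_mem_of_sum_mem_sq {A : Type u} [CommRing A] [IsRegularLocalRing A]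
    {N : ℕ} (x : Fin N → A) (hx : Ideal.span (Set.range x) = maximalIdeal A)
    (hN : ringKrullDim A = (N : WithBot ℕ∞)) (a : Fin N → A)
    (ha : ∑ i, a i * x i ∈ maximalIdeal A ^ 2) : ∀ i, a i ∈ maximalIdeal A := by
  classical
  have hxm : ∀ i, x i ∈ maximalIdeal A := fun i => hx ▸ Ideal.subset_span ⟨i, rfl⟩
  let xb : Fin N → CotangentSpace A := fun i => (maximalIdeal A).toCotangent ⟨x i, hxm i⟩
  have hcomb : ∀ (c : Fin N → A) (hc : ∑ i, c i * x i ∈ maximalIdeal A),
      (maximalIdeal A).toCotangent ⟨∑ i, c i * x i, hc⟩ = ∑ i, residue A (c i) • xb i := by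
    intro c hc
    have h1 : (⟨∑ i, c i * x i, hc⟩ : maximalIdeal A) =
        ∑ i, c i • (⟨x i, hxm i⟩ : maximalIdeal A) := by
      apply Subtype.ext
      simp
    rw [h1, map_sum]
    refine Finset.sum_congr rfl (fun i _ => ?_)
    rw [map_smul]
    exact (IsScalarTower.algebraMap_smul (ResidueField A) (c i) (xb i)).symm
  have hspan : ⊤ ≤ Submodule.span (ResidueField A) (Set.range xb) := by
    intro y _
    obtain ⟨⟨z, hz⟩, rfl⟩ := Ideal.toCotangent_surjective _ y
    have hz' : z ∈ Ideal.span (Set.range x) := by rw [hx]; exact hz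
    obtain ⟨c, rfl⟩ := Ideal.mem_span_range_iff_exists_fun.1 hz'
    rw [hcomb c hz]
    exact sum_mem (fun i _ => Submodule.smul_mem _ _ (Submodule.subset_span ⟨i, rfl⟩))
  have hfr : Module.finrank (ResidueField A) (CotangentSpace A) = N := by
    have h := (IsRegularLocalRing.iff_finrank_cotangentSpace A).1 inferInstance
    rw [hN] at h
    exact_mod_cast h
  have hli : LinearIndependent (ResidueField A) xb :=
    linearIndependent_of_top_le_span_of_card_eq_finrank hspan (by simp [hfr])
  have hmem : ∑ i, a i * x i ∈ maximalIdeal A :=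
    sum_mem (fun i _ => Ideal.mul_mem_left _ _ (hxm i))
  have h0 : ∑ i, residue A (a i) • xb i = 0 := by
    rw [← hcomb a hmem, Ideal.toCotangent_eq_zero]
    exact ha
  intro i
  have := Fintype.linearIndependent_iff.1 hli _ h0 i
  exact (residue_eq_zero_iff _).1 this

open KaehlerDifferential TensorProduct in
/-- `m/m² → k ⊗ Ω_{A/𝔽_p}` is injective for a local ring of characteristic `p` -/
lemma kerCotangentToTensor_injective (p : ℕ) [Fact p.Prime] {A : Type u} [CommRing A]
    [IsLocalRing A] [CharP A p] [Algebra (ZMod p) A] [Algebra (ZMod p) (ResidueField A)]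
    [IsScalarTower (ZMod p) A (ResidueField A)] :
    Function.Injective (kerCotangentToTensor (ZMod p) A (ResidueField A)) := by
  have hcp : CharP (ResidueField A) p :=
    charP_of_injective_algebraMap (algebraMap (ZMod p) (ResidueField A)).injective p
  have hfs : Algebra.FormallySmooth (ZMod p) (ResidueField A) :=
    Groth.Agent.Lib.helper17.SmoothArtin.formallySmooth_zmod p (ResidueField A)
  have hsurj : Function.Surjective (algebraMap A (ResidueField A)) := residue_surjective
  have hsurj' : Function.Surjective
      (IsScalarTower.toAlgHom (ZMod p) A (ResidueField A)).kerSquareLift := by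
    intro y
    obtain ⟨a, rfl⟩ := hsurj y
    exact ⟨Ideal.Quotient.mk _ a, by rw [AlgHom.kerSquareLift_mk]; rfl⟩
  have hnil : IsNilpotent (RingHom.ker
      ((IsScalarTower.toAlgHom (ZMod p) A (ResidueField A)).kerSquareLift :
        A ⧸ RingHom.ker (IsScalarTower.toAlgHom (ZMod p) A (ResidueField A)).toRingHom ^ 2 →+*
          ResidueField A)) := by
    refine ⟨2, ?_⟩
    have := (IsScalarTower.toAlgHom (ZMod p) A (ResidueField A)).ker_kerSquareLift
    rw [show RingHom.ker ((IsScalarTower.toAlgHom (ZMod p) A (ResidueField A)).kerSquareLift :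
        A ⧸ RingHom.ker (IsScalarTower.toAlgHom (ZMod p) A (ResidueField A)).toRingHom ^ 2 →+*
          ResidueField A) = _ from this, Ideal.cotangentIdeal_square]
    rfl
  let g₀ := Algebra.FormallySmooth.liftOfSurjective (AlgHom.id (ZMod p) (ResidueField A))
    (IsScalarTower.toAlgHom (ZMod p) A (ResidueField A)).kerSquareLift hsurj' hnil
  have hg₀ : (IsScalarTower.toAlgHom (ZMod p) A (ResidueField A)).kerSquareLift.comp g₀ =
      AlgHom.id (ZMod p) (ResidueField A) :=
    Algebra.FormallySmooth.comp_liftOfSurjective _ _ hsurj' hnil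
  obtain ⟨l, hl⟩ := (retractionKerCotangentToTensorEquivSection (R := ZMod p) hsurj).symm
    ⟨g₀, hg₀⟩
  intro a b hab
  have := congrArg l hab
  rwa [← LinearMap.comp_apply, ← LinearMap.comp_apply, hl] at this

open KaehlerDifferential TensorProduct in
lemma li_tmul_D (p : ℕ) [Fact p.Prime] {A : Type u} [CommRing A] [IsRegularLocalRing A]
    [CharP A p] [Algebra (ZMod p) A] [Algebra (ZMod p) (ResidueField A)]
    [IsScalarTower (ZMod p) A (ResidueField A)]
    {N : ℕ} (x : Fin N → A) (hx : Ideal.span (Set.range x) = maximalIdeal A)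
    (hN : ringKrullDim A = (N : WithBot ℕ∞)) :
    LinearIndependent (ResidueField A)
      (TensorProduct.mk A (ResidueField A) (Ω[A⁄ℤ]) 1 ∘ (fun i => D ℤ A (x i))) := by
  classical
  have hδ := kerCotangentToTensor_injective p (A := A)
  have hker : RingHom.ker (algebraMap A (ResidueField A)) = maximalIdeal A := ker_residue
  have hxm : ∀ i, x i ∈ maximalIdeal A := fun i => hx ▸ Ideal.subset_span ⟨i, rfl⟩
  rw [Fintype.linearIndependent_iff]
  intro c hc i
  choose a ha using fun i => residue_surjective (c i)
  have h1 : ∑ i, a i • ((1 : ResidueField A) ⊗ₜ[A] D ℤ A (x i)) = 0 := by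
    rw [← hc]
    refine Finset.sum_congr rfl (fun i _ => ?_)
    rw [← ha i]
    exact (IsScalarTower.algebraMap_smul (ResidueField A) (a i) _).symm
  have h2 : ∑ i, a i • ((1 : ResidueField A) ⊗ₜ[A] D (ZMod p) A (x i)) = 0 := by
    have := congrArg ((KaehlerDifferential.map ℤ (ZMod p) A A).lTensor (ResidueField A)) h1
    rw [map_sum, map_zero] at this
    rw [← this]
    refine Finset.sum_congr rfl (fun i _ => ?_)
    rw [map_smul, LinearMap.lTensor_tmul, KaehlerDifferential.map_D]
    rfl
  have hmem : ∑ i, a i * x i ∈ RingHom.ker (algebraMap A (ResidueField A)) := by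
    rw [hker]
    exact sum_mem (fun i _ => Ideal.mul_mem_left _ _ (hxm i))
  have h3 : kerCotangentToTensor (ZMod p) A (ResidueField A)
      ((RingHom.ker (algebraMap A (ResidueField A))).toCotangent ⟨∑ i, a i * x i, hmem⟩) = 0 := by
    rw [kerCotangentToTensor_toCotangent, ← h2, map_sum, TensorProduct.tmul_sum]
    refine Finset.sum_congr rfl (fun i _ => ?_)
    rw [Derivation.leibniz, TensorProduct.tmul_add, TensorProduct.tmul_smul,
      TensorProduct.tmul_smul]
    have hx0 : x i • ((1 : ResidueField A) ⊗ₜ[A] D (ZMod p) A (a i)) = 0 := by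
      rw [TensorProduct.smul_tmul', Algebra.smul_def, mul_one]
      have : algebraMap A (ResidueField A) (x i) = 0 := (residue_eq_zero_iff _).2 (hxm i)
      rw [this, TensorProduct.zero_tmul]
    rw [hx0, add_zero]
  have h4 := hδ (h3.trans (map_zero _).symm)
  rw [Ideal.toCotangent_eq_zero] at h4
  have h5 : ∑ i, a i * x i ∈ maximalIdeal A ^ 2 := by
    rw [← hker]
    exact h4
  have := coeff_mem_of_sum_mem_sq x hx hN a h5 i
  rw [← ha i]
  exact (residue_eq_zero_iff _).2 this

open KaehlerDifferential TensorProduct in
/-- a family in a finite free module over a local ring whose reduction is linearly independent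
extends to a basis -/
lemma exists_basis_extending {A : Type u} [CommRing A] [IsLocalRing A] {M : Type u}
    [AddCommGroup M] [Module A M] [Module.Free A M] [Module.Finite A M] {N : ℕ} (y : Fin N → M)
    (hli : LinearIndependent (ResidueField A) (TensorProduct.mk A (ResidueField A) M 1 ∘ y)) :
    ∃ (ι : Type u) (b : Module.Basis ι A M) (e : Fin N ↪ ι), ∀ i : Fin N, b (e i) = y i := by
  classical
  set w : Fin N → ResidueField A ⊗[A] M := TensorProduct.mk A (ResidueField A) M 1 ∘ y with hw
  have hwinj : Function.Injective w := hli.injective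
  have hs : LinearIndepOn (ResidueField A) id (Set.range w) := hli.linearIndepOn_id
  have hmk : Function.Surjective (TensorProduct.mk A (ResidueField A) M 1) :=
    TensorProduct.mk_surjective (R := A) (S := ResidueField A) (M := M) residue_surjective
  let v : ↥(hs.extend (Set.subset_univ (Set.range w))) → M := fun z =>
    if h : (z : ResidueField A ⊗[A] M) ∈ Set.range w then y h.choose
    else (hmk z).choose
  have hv : TensorProduct.mk A (ResidueField A) M 1 ∘ v = Module.Basis.extend hs := by
    funext z
    rw [Module.Basis.coe_extend]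
    change TensorProduct.mk A (ResidueField A) M 1 (v z) = z
    by_cases h : (z : ResidueField A ⊗[A] M) ∈ Set.range w
    · simp only [v, dif_pos h]
      exact h.choose_spec
    · simp only [v, dif_neg h]
      exact (hmk z).choose_spec
  have hflat : Function.Injective ((maximalIdeal A).subtype.rTensor M) :=
    Module.Flat.rTensor_preserves_injective_linearMap _ Subtype.val_injective
  have hfp : Module.FinitePresentation A M := Module.finitePresentation_of_projective A M
  obtain ⟨b, hb⟩ := Module.exists_basis_of_basis_baseChange v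
    (hv ▸ (Module.Basis.extend hs).linearIndependent)
    (hv ▸ (Module.Basis.extend hs).span_eq) hflat
  let e : Fin N ↪ ↥(hs.extend (Set.subset_univ (Set.range w))) :=
    ⟨fun i => ⟨w i, Module.Basis.subset_extend hs ⟨i, rfl⟩⟩,
      fun i j hij => hwinj (congrArg Subtype.val hij)⟩
  refine ⟨_, b, e, fun i => ?_⟩
  rw [hb]
  have h : ((e i : ↥(hs.extend (Set.subset_univ (Set.range w)))) : ResidueField A ⊗[A] M) ∈
      Set.range w := ⟨i, rfl⟩
  simp only [v, dif_pos h]
  have : h.choose = i := hwinj h.choose_spec
  rw [this]


open IsLocalRing in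
/-- Let A be a regular local ring of prime characteristic p, of Krull dimension N, with maximal ideal
generated by x_1, …, x_N, and assume that the module Ω_A of absolute Kähler differentials of A
(differentials relative to ℤ, equivalently relative to the prime field) is a free A-module of finite
rank. Then dx_1, …, dx_N are part of a basis of Ω_A: there exist a basis b of Ω_A and an injection e
of the indices 1, …, N into the index type of b with b (e i) = d(x_i) for all i. (In the published
statement A is a regular local F-finite algebra over the prime field and the freeness and finiteness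
of Ω_A form the first assertion, taken there from the literature; here they are hypotheses.) -/
theorem result (p : ℕ) [Fact p.Prime]
    {A : Type u} [CommRing A] [IsRegularLocalRing A] [CharP A p]
    [Module.Free A (KaehlerDifferential ℤ A)] [Module.Finite A (KaehlerDifferential ℤ A)]
    {N : ℕ} (x : Fin N → A) (hx : Ideal.span (Set.range x) = maximalIdeal A)
    (hN : ringKrullDim A = (N : WithBot ℕ∞)) :
    ∃ (ι : Type u) (b : Module.Basis ι A (KaehlerDifferential ℤ A)) (e : Fin N ↪ ι),
      ∀ i : Fin N, b (e i) = KaehlerDifferential.D ℤ A (x i) := by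
  let _ : Algebra (ZMod p) A := ZMod.algebra A p
  let _ : Algebra (ZMod p) (ResidueField A) :=
    ((algebraMap A (ResidueField A)).comp (algebraMap (ZMod p) A)).toAlgebra
  have : IsScalarTower (ZMod p) A (ResidueField A) :=
    IsScalarTower.of_algebraMap_eq (fun _ => rfl)
  exact exists_basis_extending (fun i => KaehlerDifferential.D ℤ A (x i)) (li_tmul_D p x hx hN)

end Groth.Agent.S19270
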