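import Groth.Statements.S19272
import Groth.Agent.Lib.Helper21.WittFilUFD
import Mathlib
open Groth.Agent.Lib.helper21

set_option autoImplicit false
universe u
open WittFil

namespace Groth.Agent.S19272

/-- Let A be a unique factorisation domain of characteristic p, x_1, …, x_r pairwise non-associate prime
elements of A, B = A[1/(x_1⋯x_r)] with u_i the unit of B defined by x_i, m ≥ 0, and n ∈ ℤ^r with n_i
< 0 for every i. Then every truncated p-typical Witt vector of length m over B lying in the filtered
piece cut out by ∏ u_i ^ n_i (every coordinate y_j has y_j ^ (p ^ (m−1−j)) · ∏ u_i ^ n_i in the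
image of A) has all its coordinates in the image of the ideal (x_1⋯x_r)·A. (The published item,
stated for the filtered de Rham–Witt pieces in all degrees over a regular local ring, says only that
such vectors have all coordinates in A; this row states the divisibility of every coordinate by
x_1⋯x_r that its proof establishes, in degree zero, for a unique factorisation domain in place of a
regular local ring.) -/
theorem result (p : ℕ) [Fact p.Prime] {A B : Type u} [CommRing A] [IsDomain A]
    [UniqueFactorizationMonoid A] [CharP A p] [CommRing B] [Algebra A B] {r : ℕ} (x : Fin r → A)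
    (hx : ∀ i, Prime (x i)) (hxa : ∀ i j, Associated (x i) (x j) → i = j)
    [IsLocalization.Away (∏ i, x i) B] (u : Fin r → Bˣ)
    (hu : ∀ i, (u i : B) = algebraMap A B (x i)) (m : ℕ) (n : Fin r → ℤ) (hn : ∀ i, n i < 0)
    (a : TruncatedWittVector p m B) (ha : a ∈ WittFil.fil p m (A := A) (WittFil.zmon u n))
    (j : Fin m) :
    ∃ b : A, TruncatedWittVector.coeff j a = algebraMap A B ((∏ i, x i) * b) := by
  classical
  have hN : 0 < p ^ (m - 1 - (j : ℕ)) := pow_pos (Fact.out : p.Prime).pos _
  set z := TruncatedWittVector.coeff j a with hz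
  set N := p ^ (m - 1 - (j : ℕ)) with hNdef
  obtain ⟨a₀, ha₀⟩ := ha j
  -- exponents
  let k : Fin r → ℕ := fun i => (-n i).toNat
  have hk : ∀ i, ((k i : ℕ) : ℤ) = -n i := fun i => Int.toNat_of_nonneg (by have := hn i; omega)
  have hk1 : ∀ i, 1 ≤ k i := fun i => by
    have := hk i; have := hn i; omega
  have hinv : WittFil.zmon u n * algebraMap A B (∏ i, x i ^ k i) = 1 := by
    unfold WittFil.zmon
    have e : algebraMap A B (∏ i, x i ^ k i) = ((∏ i, u i ^ k i : Bˣ) : B) := by
      rw [map_prod, Units.coe_prod]
      refine Finset.prod_congr rfl fun i _ => ?_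
      rw [map_pow, Units.val_pow_eq_pow_val, hu]
    rw [e, ← Units.val_mul, ← Finset.prod_mul_distrib]
    have : ∀ i ∈ Finset.univ, u i ^ n i * u i ^ k i = 1 := by
      intro i _
      rw [← zpow_natCast, ← zpow_add, hk, add_neg_cancel, zpow_zero]
    rw [Finset.prod_congr rfl this, Finset.prod_const_one, Units.val_one]
  have hzN : z ^ N ∈ (algebraMap A B).range := by
    refine ⟨a₀ * ∏ i, x i ^ k i, ?_⟩
    rw [map_mul, ha₀, mul_assoc, hinv, mul_one]
  obtain ⟨b₀, hb₀⟩ := mem_range_of_pow_mem x hx hxa u hu z N hN hzN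
  have hinj := algebraMap_injective_away (B := B) x hx
  have hA : b₀ ^ N = a₀ * ∏ i, x i ^ k i := by
    apply hinj
    rw [map_pow, hb₀, map_mul, ha₀, mul_assoc, hinv, mul_one]
  have hdvd : ∀ i, x i ∣ b₀ := by
    intro i
    apply (hx i).dvd_of_dvd_pow (n := N)
    rw [hA]
    refine Dvd.dvd.mul_left ?_ _
    exact (dvd_pow_self (x i) (by have := hk1 i; omega)).trans
      (Finset.dvd_prod_of_mem (fun i => x i ^ k i) (Finset.mem_univ i))
  obtain ⟨b, rfl⟩ := prod_dvd_of_forall_dvd x hx hxa b₀ hdvd
  exact ⟨b, hb₀.symm⟩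

end Groth.Agent.S19272
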