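import Groth.Statements.S19273
import Mathlib.RingTheory.Etale.Kaehler
import Mathlib.RingTheory.TensorProduct.IsBaseChangeFree
import Mathlib.LinearAlgebra.Basis.Submodule
-- import your own Groth.Agent.* helpers here

set_option autoImplicit false
universe u
open CAlg

namespace Groth.Agent.S19273

open KaehlerDifferential in

open KaehlerDifferential in
/-- Let A be an integral domain of prime characteristic p, x_1, …, x_N elements of A, r ≤ N, B =
A[1/(x_1⋯x_r)] with u_i the unit of B defined by x_i for i ≤ r, and suppose that the module Ω_A of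
absolute Kähler differentials of A is free with a basis b indexed by {1, …, N} ⊔ ι whose i-th vector
is d(x_i) for i ≤ N. Then the module of logarithmic 1-forms — the A-submodule of Ω_B spanned by the
image of Ω_A and the forms u_i⁻¹ · d(x_i), i ≤ r — is a free A-module: it has a basis indexed by {1,
…, N} ⊔ ι whose vector at i ≤ r is u_i⁻¹ · d(x_i), at r < i ≤ N is d(x_i), and at k ∈ ι is the image
of b_k. (In the published statement A is a regular local F-finite algebra over the prime field with
maximal ideal (x_1, …, x_N), the basis of Ω_A comes from the preceding lemma, and the assertion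
covers the logarithmic q-forms for all q together with their identification with the log de Rham
complex of the log ring; only the degree-one freeness is stated here, from the properties of A
actually used.) -/
theorem result (p : ℕ) [Fact p.Prime]
    {A B : Type u} [CommRing A] [IsDomain A] [CharP A p] [CommRing B] [Algebra A B] {r N : ℕ}
    (hr : r ≤ N) (x : Fin N → A) [IsLocalization.Away (∏ i : Fin r, x (Fin.castLE hr i)) B]
    (u : Fin r → Bˣ) (hu : ∀ i, (u i : B) = algebraMap A B (x (Fin.castLE hr i)))
    {ι : Type u} (b : Module.Basis (Fin N ⊕ ι) A (Ω[A⁄ℤ])) (hb : ∀ i, b (Sum.inl i) = D ℤ A (x i)) :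
    ∃ e : Module.Basis (Fin N ⊕ ι) A
        (W4c6katofilta.logForms1 (fun i : Fin r => x (Fin.castLE hr i)) u),
      (∀ i : Fin r, (e (Sum.inl (Fin.castLE hr i)) : Ω[B⁄ℤ]) =
          ((u i)⁻¹ : Bˣ) • KaehlerDifferential.map ℤ ℤ A B (D ℤ A (x (Fin.castLE hr i)))) ∧
      (∀ i : Fin N, r ≤ (i : ℕ) →
          (e (Sum.inl i) : Ω[B⁄ℤ]) = KaehlerDifferential.map ℤ ℤ A B (D ℤ A (x i))) ∧
      (∀ k : ι, (e (Sum.inr k) : Ω[B⁄ℤ]) = KaehlerDifferential.map ℤ ℤ A B (b (Sum.inr k))) := by
  classical
  set π : A := ∏ i : Fin r, x (Fin.castLE hr i) with hπ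
  -- the `x i` are nonzero
  have hx0 : ∀ i, x i ≠ 0 := by
    intro i h0
    have := b.ne_zero (Sum.inl i)
    rw [hb, h0, map_zero] at this
    exact this rfl
  have hπ0 : π ≠ 0 := Finset.prod_ne_zero_iff.2 (fun i _ => hx0 _)
  have hinj : Function.Injective (algebraMap A B) :=
    IsLocalization.injective B (M := Submonoid.powers π)
      (Submonoid.powers_le.2 (mem_nonZeroDivisors_of_ne_zero hπ0))
  have hfe : Algebra.FormallyEtale A B :=
    Algebra.FormallyEtale.of_isLocalization (Rₘ := B) (Submonoid.powers π)
  have ibc : IsBaseChange B (KaehlerDifferential.map ℤ ℤ A B) :=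
    KaehlerDifferential.isBaseChange_of_formallyEtale ℤ A B
  -- the `B`-basis of `Ω_B`
  let bB : Module.Basis (Fin N ⊕ ι) B (Ω[B⁄ℤ]) := ibc.basis b
  have hbB : ∀ j, bB j = KaehlerDifferential.map ℤ ℤ A B (b j) := fun j => ibc.basis_apply b j
  -- the unit scalars
  let c : Fin N ⊕ ι → Bˣ := fun j =>
    Sum.elim (fun i : Fin N => if h : (i : ℕ) < r then (u ⟨i, h⟩)⁻¹ else 1) (fun _ => 1) j
  let eB : Module.Basis (Fin N ⊕ ι) B (Ω[B⁄ℤ]) := bB.unitsSMul c
  have heB : ∀ j, eB j = c j • bB j := fun j => Module.Basis.unitsSMul_apply _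
  have hli : LinearIndependent A eB := by
    refine eB.linearIndependent.restrict_scalars ?_
    intro a a' h
    apply hinj
    simpa [Algebra.smul_def] using h
  have hspan : Submodule.span A (Set.range eB) =
      W4c6katofilta.logForms1 (fun i : Fin r => x (Fin.castLE hr i)) u := by
    have hc1 : ∀ i : Fin r, c (Sum.inl (Fin.castLE hr i)) = (u i)⁻¹ := by
      intro i
      simp only [c, Sum.elim_inl, Fin.val_castLE, i.isLt, dif_pos]
    have hc2 : ∀ i : Fin N, r ≤ (i : ℕ) → c (Sum.inl i) = 1 := by
      intro i hi
      simp only [c, Sum.elim_inl, not_lt.2 hi, dif_neg, not_false_iff]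
    have hc3 : ∀ k : ι, c (Sum.inr k) = 1 := fun _ => rfl
    apply le_antisymm
    · rw [Submodule.span_le]
      rintro _ ⟨j, rfl⟩
      rcases j with i | k
      · by_cases h : (i : ℕ) < r
        · apply Submodule.subset_span
          right
          refine ⟨⟨i, h⟩, ?_⟩
          have hi : Fin.castLE hr ⟨i, h⟩ = i := Fin.ext rfl
          have := hc1 ⟨i, h⟩
          rw [hi] at this
          rw [heB, hbB, hb, this]
          dsimp only
          rw [hi]
        · apply Submodule.subset_span
          left
          refine ⟨b (Sum.inl i), ?_⟩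
          rw [heB, hbB, hc2 i (not_lt.1 h), one_smul]
      · apply Submodule.subset_span
        left
        refine ⟨b (Sum.inr k), ?_⟩
        rw [heB, hbB, hc3, one_smul]
    · unfold W4c6katofilta.logForms1
      rw [Submodule.span_le, Set.union_subset_iff]
      constructor
      · rintro _ ⟨ω, rfl⟩
        have htop : (Submodule.span A (Set.range eB)).comap (KaehlerDifferential.map ℤ ℤ A B) = ⊤ := by
          rw [eq_top_iff, ← b.span_eq, Submodule.span_le]
          rintro _ ⟨j, rfl⟩
          change KaehlerDifferential.map ℤ ℤ A B (b j) ∈ Submodule.span A (Set.range eB)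
          rcases j with i | k
          · by_cases h : (i : ℕ) < r
            · have hi : Fin.castLE hr ⟨i, h⟩ = i := Fin.ext rfl
              have h1 := hc1 ⟨i, h⟩
              rw [hi] at h1
              have h2 : KaehlerDifferential.map ℤ ℤ A B (b (Sum.inl i)) = x i • eB (Sum.inl i) := by
                have hux : algebraMap A B (x i) = (u ⟨i, h⟩ : B) := by rw [hu, hi]
                rw [heB, hbB, h1, ← algebraMap_smul B (x i), hux, Units.smul_def,
                  smul_smul, Units.mul_inv, one_smul]
              rw [h2]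
              exact Submodule.smul_mem _ _ (Submodule.subset_span ⟨_, rfl⟩)
            · have h2 : KaehlerDifferential.map ℤ ℤ A B (b (Sum.inl i)) = eB (Sum.inl i) := by
                rw [heB, hbB, hc2 i (not_lt.1 h), one_smul]
              rw [h2]
              exact Submodule.subset_span ⟨_, rfl⟩
          · have h2 : KaehlerDifferential.map ℤ ℤ A B (b (Sum.inr k)) = eB (Sum.inr k) := by
              rw [heB, hbB, hc3, one_smul]
            rw [h2]
            exact Submodule.subset_span ⟨_, rfl⟩
        have : ω ∈ (Submodule.span A (Set.range eB)).comap (KaehlerDifferential.map ℤ ℤ A B) := by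
          rw [htop]; trivial
        exact this
      · rintro _ ⟨i, rfl⟩
        apply Submodule.subset_span
        refine ⟨Sum.inl (Fin.castLE hr i), ?_⟩
        rw [heB, hbB, hb, hc1]
  let e0 : Module.Basis (Fin N ⊕ ι) A (Submodule.span A (Set.range eB)) := Module.Basis.span hli
  let e : Module.Basis (Fin N ⊕ ι) A
      (W4c6katofilta.logForms1 (fun i : Fin r => x (Fin.castLE hr i)) u) :=
    e0.map (LinearEquiv.ofEq _ _ hspan)
  have he : ∀ j, (e j : Ω[B⁄ℤ]) = eB j := by
    intro j
    simp only [e, e0, Module.Basis.map_apply, LinearEquiv.coe_ofEq_apply, Module.Basis.span_apply]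
  refine ⟨e, fun i => ?_, fun i hi => ?_, fun k => ?_⟩
  · rw [he, heB, hbB, hb]
    have : c (Sum.inl (Fin.castLE hr i)) = (u i)⁻¹ := by
      simp only [c, Sum.elim_inl, Fin.val_castLE, i.isLt, dif_pos]
    rw [this]
  · rw [he, heB, hbB, hb]
    have : c (Sum.inl i) = 1 := by
      simp only [c, Sum.elim_inl, not_lt.2 hi, dif_neg, not_false_iff]
    rw [this, one_smul]
  · rw [he, heB, hbB]
    have : c (Sum.inr k) = 1 := rfl
    rw [this, one_smul]

end Groth.Agent.S19273
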