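import Groth.Statements.S19274
import Groth.Agent.S19263
import Groth.Agent.Lib.Helper17.Witt
import Mathlib

set_option autoImplicit false
universe u
open WittFil

namespace Groth.Agent.S19274

/-- `u ^ k` for a natural exponent is the image of `x ^ k`. -/
theorem unit_zpow_natCast {A B : Type*} [CommRing A] [CommRing B] [Algebra A B] (x : A) (u : Bˣ)
    (hu : (u : B) = algebraMap A B x) (k : ℕ) :
    ((u ^ (k : ℤ) : Bˣ) : B) = algebraMap A B (x ^ k) := by
  rw [zpow_natCast, Units.val_pow_eq_pow_val, hu, map_pow]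

/-- The valuation step: if `z ^ q * u ^ n ∈ A` and `q ∤ n` then `z ^ q * u ^ (n - 1) ∈ A`. -/
theorem pow_mul_zpow_pred_mem {A B : Type*} [CommRing A] [IsDomain A]
    [UniqueFactorizationMonoid A] [CommRing B] [Algebra A B] (x : A) (hx : Prime x)
    [IsLocalization.Away x B] (u : Bˣ) (hu : (u : B) = algebraMap A B x)
    (z : B) (q : ℕ) (hq : 0 < q) (n : ℤ) (hn : ¬ ((q : ℤ) ∣ n))
    (h : z ^ q * ((u ^ n : Bˣ) : B) ∈ (algebraMap A B).range) :
    z ^ q * ((u ^ (n - 1) : Bˣ) : B) ∈ (algebraMap A B).range := by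
  by_cases hz : z = 0
  · rw [hz, zero_pow hq.ne', zero_mul]
    exact Subring.zero_mem _
  have hinj : Function.Injective (algebraMap A B) :=
    IsLocalization.injective B (M := Submonoid.powers x)
      (powers_le_nonZeroDivisors_of_noZeroDivisors hx.ne_zero)
  -- write `z = c * u ^ e` with `x ∤ c`
  obtain ⟨k, a₀, hka⟩ := IsLocalization.Away.surj x z
  have ha₀ : a₀ ≠ 0 := by
    rintro rfl
    rw [map_zero, ← hu] at hka
    exact hz ((Units.mul_left_eq_zero (u ^ k) ).mp (by simpa using hka))
  obtain ⟨t, c, hxc, rfl⟩ := WfDvdMonoid.max_power_factor ha₀ hx.irreducible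
  have hzc : z = algebraMap A B c * ((u ^ ((t : ℤ) - (k : ℤ)) : Bˣ) : B) := by
    have h1 : z * ((u ^ (k : ℤ) : Bˣ) : B) = algebraMap A B c * ((u ^ (t : ℤ) : Bˣ) : B) := by
      rw [unit_zpow_natCast x u hu, unit_zpow_natCast x u hu, map_pow, hka, map_mul, mul_comm]
    rw [zpow_sub, Units.val_mul, ← mul_assoc, ← h1, mul_assoc, ← Units.val_mul, mul_inv_cancel,
      Units.val_one, mul_one]
  set e : ℤ := (t : ℤ) - (k : ℤ) with he
  -- `z ^ q * u ^ s = c ^ q * u ^ (e * q + s)`
  have hpow : ∀ s : ℤ, z ^ q * ((u ^ s : Bˣ) : B) =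
      algebraMap A B (c ^ q) * ((u ^ (e * q + s) : Bˣ) : B) := by
    intro s
    rw [hzc, mul_pow, ← Units.val_pow_eq_pow_val, ← zpow_natCast (u ^ e), ← zpow_mul, mul_assoc,
      ← Units.val_mul, ← zpow_add, map_pow]
  have hxcq : ¬ x ∣ c ^ q := fun hd => hxc (hx.dvd_of_dvd_pow hd)
  -- the exponent `e * q + n` is positive
  have hpos : 0 < e * q + n := by
    by_contra hneg
    have hne : e * q + n ≠ 0 := by
      intro h0
      apply hn
      exact ⟨-e, by linarith⟩
    have hlt : e * q + n < 0 := lt_of_le_of_ne (not_lt.mp hneg) hne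
    obtain ⟨a', ha'⟩ := h
    rw [hpow n] at ha'
    -- multiply by `u ^ (-(e*q+n))`
    set s : ℕ := (-(e * q + n)).toNat with hs
    have hs' : (s : ℤ) = -(e * q + n) := Int.toNat_of_nonneg (by omega)
    have hs1 : 1 ≤ s := by omega
    have h2 : algebraMap A B (c ^ q) = algebraMap A B (a' * x ^ s) := by
      rw [map_mul, ha', ← unit_zpow_natCast x u hu, mul_assoc, ← Units.val_mul, ← zpow_add, hs',
        add_neg_cancel, zpow_zero, Units.val_one, mul_one]
    have h3 := hinj h2
    apply hxcq
    rw [h3]
    exact Dvd.dvd.mul_left (dvd_pow_self x (by omega)) _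
  rw [hpow (n - 1)]
  set s : ℕ := (e * q + (n - 1)).toNat with hs
  have hs' : (s : ℤ) = e * q + (n - 1) := Int.toNat_of_nonneg (by omega)
  refine ⟨c ^ q * x ^ s, ?_⟩
  rw [map_mul, ← unit_zpow_natCast x u hu, hs']

/-- Let A be a unique factorisation domain of characteristic p, x a prime element of A, B = A[1/x] with
u the unit of B defined by x, m ≥ 1, and n an integer NOT divisible by p^m. For e in B and k ≥ 0
write fil_k(e) for the set of truncated p-typical Witt vectors of length k over B whose j-th
coordinate y_j satisfies y_j ^ (p ^ (k−1−j)) · e ∈ A for all j < k (the filtered piece; fil_k(u^n)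
is the piece of index n). Then fil_{m+1}(u^n) is contained in fil_{m+1}(u^(n−1)) + V(fil_m(u^n))
(the reverse inclusion is immediate): every a in fil_{m+1}(u^n) can be written a = b + V(y) with b
in fil_{m+1}(u^(n−1)) and y a Witt vector over B whose length-m truncation lies in fil_m(u^n), V(y)
being truncated to length m+1. (In the source A is a henselian discrete valuation ring, n = p^r·l >
1 with p not dividing l, and the condition reads m ≥ r + 1.) -/
theorem result (p : ℕ) [Fact p.Prime]
    {A B : Type u} [CommRing A] [IsDomain A] [UniqueFactorizationMonoid A] [CharP A p]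
    [CommRing B] [Algebra A B] (x : A) (hx : Prime x) [IsLocalization.Away x B] (u : Bˣ)
    (hu : (u : B) = algebraMap A B x) (m : ℕ) (hm : 0 < m) (n : ℤ) (hn : ¬ ((p : ℤ) ^ m ∣ n)) :
    ∀ a ∈ WittFil.fil p (m + 1) (A := A) ((u ^ n : Bˣ) : B),
      ∃ b ∈ WittFil.fil p (m + 1) (A := A) ((u ^ (n - 1) : Bˣ) : B),
        ∃ y : WittVector p B,
          WittVector.truncate m y ∈ WittFil.fil p m (A := A) ((u ^ n : Bˣ) : B) ∧
            a = b + WittVector.truncate (m + 1) (WittVector.verschiebung y) := by
  intro a ha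
  obtain ⟨w, rfl⟩ := WittVector.truncate_surjective (p := p) (m + 1) B a
  -- Teichmüller representative of the zeroth coordinate
  set t := WittVector.teichmuller p (w.coeff 0) with ht
  have hcoeff0 : (w - t).coeff 0 = 0 := by
    have : WittVector.constantCoeff (w - t) = 0 := by
      rw [map_sub, WittVector.constantCoeff_apply, WittVector.constantCoeff_apply, ht,
        WittVector.teichmuller_coeff_zero, sub_self]
    exact this
  obtain ⟨y, hy⟩ := Groth.Agent.Lib.helper17.Witt.exists_verschiebung_of_coeff_zero _ hcoeff0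
  have h0 := ha ⟨0, by omega⟩
  rw [WittVector.coeff_truncate] at h0
  simp only [Nat.sub_zero, add_tsub_cancel_right] at h0
  -- membership of `b = trunc [w_0]` in a filtered piece
  have hbmem : ∀ c : B, w.coeff 0 ^ p ^ m * c ∈ (algebraMap A B).range →
      WittVector.truncate (m + 1) t ∈ WittFil.fil p (m + 1) (A := A) c := by
    intro c hc j
    rw [WittVector.coeff_truncate]
    obtain ⟨j, hj⟩ := j
    cases j with
    | zero =>
      simp only [Nat.sub_zero, add_tsub_cancel_right]
      rw [ht, WittVector.teichmuller_coeff_zero]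
      exact hc
    | succ j =>
      rw [ht, WittVector.teichmuller_coeff_pos p _ _ (Nat.succ_pos j),
        zero_pow (pow_ne_zero _ (Fact.out : p.Prime).ne_zero), zero_mul]
      exact Subring.zero_mem _
  have hb1 : WittVector.truncate (m + 1) t ∈
      WittFil.fil p (m + 1) (A := A) ((u ^ (n - 1) : Bˣ) : B) :=
    hbmem _ (pow_mul_zpow_pred_mem x hx u hu _ _ (pow_pos (Fact.out : p.Prime).pos _) n
      (by exact_mod_cast hn) h0)
  have hb2 : WittVector.truncate (m + 1) t ∈
      WittFil.fil p (m + 1) (A := A) ((u ^ n : Bˣ) : B) := hbmem _ h0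
  refine ⟨WittVector.truncate (m + 1) t, hb1, y, ?_, ?_⟩
  · -- `trunc (V y) = a - b` lies in `fil_{m+1}(u^n)`
    have hsub : WittVector.truncate (m + 1) w - WittVector.truncate (m + 1) t ∈
        WittFil.fil p (m + 1) (A := A) ((u ^ n : Bˣ) : B) := by
      have hloc : IsLocalization.Away (∏ i : Fin 1, (fun _ => x) i) B := by
        simpa using (inferInstance : IsLocalization.Away x B)
      have hz : WittFil.zmon (fun _ : Fin 1 => u) (fun _ => n) = ((u ^ n : Bˣ) : B) := by
        simp [WittFil.zmon]
      have := Groth.Agent.S19263.result p (A := A) (B := B) (r := 1) (fun _ => x) (fun _ => hx)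
        (fun i j _ => Subsingleton.elim i j) (fun _ => u) (fun _ => hu) (fun _ => n) (m + 1)
        (WittVector.truncate (m + 1) w) (WittVector.truncate (m + 1) t)
        (by rw [hz]; exact ha) (by rw [hz]; exact hb2)
      rwa [hz] at this
    rw [← map_sub, hy] at hsub
    intro j
    have := hsub ⟨(j : ℕ) + 1, by have := j.2; omega⟩
    rw [WittVector.coeff_truncate] at this ⊢
    simp only [WittVector.verschiebung_coeff_succ] at this
    have e : m + 1 - 1 - ((j : ℕ) + 1) = m - 1 - (j : ℕ) := by omega
    rw [e] at this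
    exact this
  · rw [← hy, map_sub, add_sub_cancel]

end Groth.Agent.S19274
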