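import Groth.Statements.S19275
import Mathlib

set_option autoImplicit false
universe u v w
open Hoch

namespace Groth.Agent.S19275

universe v'
open TensorProduct



section abstract
variable (K : Type u) [Field K] (R : Type w) [CommRing R] [Algebra K R]
  {X Y W : Type v} [AddCommGroup X] [AddCommGroup Y] [AddCommGroup W]
  [Module K X] [Module K Y] [Module K W]
  {X' Y' W' : Type v'} [AddCommGroup X'] [AddCommGroup Y'] [AddCommGroup W']
  [Module R X'] [Module R Y'] [Module R W']
  (g : W →ₗ[K] X) (f : X →ₗ[K] Y) (g' : W' →ₗ[R] X') (f' : X' →ₗ[R] Y')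
  (φX : R ⊗[K] X →ₗ[R] X') (φY : R ⊗[K] Y →ₗ[R] Y') (φW : R ⊗[K] W →ₗ[R] W')
  (hX : Function.Bijective φX) (hY : Function.Injective φY) (hW : Function.Surjective φW)
  (hf : ∀ x, φY (f.baseChange R x) = f' (φX x))
  (hg : ∀ y, φX (g.baseChange R y) = g' (φW y))

theorem bc_injective {P Q : Type v} [AddCommGroup P] [AddCommGroup Q] [Module K P] [Module K Q]
    (h : P →ₗ[K] Q) (hh : Function.Injective h) : Function.Injective (h.baseChange R) := by
  rw [LinearMap.baseChange_eq_ltensor]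
  exact Module.Flat.lTensor_preserves_injective_linearMap h hh

theorem bc_exact {P Q S : Type v} [AddCommGroup P] [AddCommGroup Q] [AddCommGroup S]
    [Module K P] [Module K Q] [Module K S]
    (h₁ : P →ₗ[K] Q) (h₂ : Q →ₗ[K] S) (hex : Function.Exact h₁ h₂) :
    Function.Exact (h₁.baseChange R) (h₂.baseChange R) := by
  rw [LinearMap.baseChange_eq_ltensor, LinearMap.baseChange_eq_ltensor]
  exact Module.Flat.lTensor_exact R hex

include hf in
theorem alpha_mem (x : R ⊗[K] (LinearMap.ker f)) :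
    φX ((LinearMap.ker f).subtype.baseChange R x) ∈ LinearMap.ker f' := by
  have h1 : f.baseChange R ((LinearMap.ker f).subtype.baseChange R x) = 0 := by
    rw [← LinearMap.comp_apply, ← LinearMap.baseChange_comp,
      LinearMap.comp_ker_subtype, LinearMap.baseChange_zero, LinearMap.zero_apply]
  rw [LinearMap.mem_ker, ← hf, h1, map_zero]

/-- the comparison map on cocycles -/
noncomputable def alpha : R ⊗[K] (LinearMap.ker f) →ₗ[R] LinearMap.ker f' :=
  LinearMap.codRestrict (LinearMap.ker f') (φX ∘ₗ (LinearMap.ker f).subtype.baseChange R)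
    (alpha_mem K R f f' φX φY hf)

theorem alpha_coe (x : R ⊗[K] (LinearMap.ker f)) :
    (alpha K R f f' φX φY hf x : X') = φX ((LinearMap.ker f).subtype.baseChange R x) := rfl

include hX in
theorem alpha_injective : Function.Injective (alpha K R f f' φX φY hf) := by
  intro x y hxy
  have h1 := congrArg Subtype.val hxy
  rw [alpha_coe, alpha_coe] at h1
  exact bc_injective K R _ (Submodule.subtype_injective _) (hX.1 h1)

include hX hY in
theorem alpha_surjective : Function.Surjective (alpha K R f f' φX φY hf) := by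
  rintro ⟨z', hz'⟩
  obtain ⟨x, rfl⟩ := hX.2 z'
  have h1 : f.baseChange R x = 0 := by
    apply hY
    rw [hf, map_zero]
    exact hz'
  obtain ⟨y, rfl⟩ := (bc_exact K R _ _ (LinearMap.exact_subtype_ker_map f) x).mp h1
  exact ⟨y, Subtype.ext rfl⟩


/-- coboundaries inside cocycles -/
abbrev Bz : Submodule K (LinearMap.ker f) := (LinearMap.range g).comap (LinearMap.ker f).subtype

/-- the target cohomology quotient map composed with alpha -/
noncomputable def Theta : R ⊗[K] (LinearMap.ker f) →ₗ[R]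
    (LinearMap.ker f' ⧸ (LinearMap.range g').comap (LinearMap.ker f').subtype) :=
  (Submodule.mkQ _) ∘ₗ alpha K R f f' φX φY hf

/-- the base change of the source cohomology quotient map -/
noncomputable def Pi : R ⊗[K] (LinearMap.ker f) →ₗ[R] R ⊗[K] (LinearMap.ker f ⧸ Bz K g f) :=
  (Bz K g f).mkQ.baseChange R

theorem Pi_surjective : Function.Surjective (Pi K R g f) := by
  unfold Pi
  rw [LinearMap.baseChange_eq_ltensor]
  exact LinearMap.lTensor_surjective _ (Submodule.mkQ_surjective _)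

include hX hY in
theorem Theta_surjective : Function.Surjective (Theta K R f g' f' φX φY hf) :=
  (Submodule.mkQ_surjective _).comp (alpha_surjective K R f f' φX φY hX hY hf)

theorem ker_Pi : LinearMap.ker (Pi K R g f) = LinearMap.range ((Bz K g f).subtype.baseChange R) := by
  have hex : Function.Exact (Bz K g f).subtype (Bz K g f).mkQ :=
    LinearMap.exact_subtype_mkQ (Bz K g f)
  exact (LinearMap.exact_iff.mp (bc_exact K R _ _ hex))

include hg in
theorem range_le_ker_Theta :
    LinearMap.range ((Bz K g f).subtype.baseChange R) ≤ LinearMap.ker (Theta K R f g' f' φX φY hf) := by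
  rintro _ ⟨y, rfl⟩
  rw [LinearMap.mem_ker]
  induction y using TensorProduct.induction_on with
  | zero => simp
  | tmul r b =>
    obtain ⟨⟨x, hxZ⟩, hxB⟩ := b
    obtain ⟨w, rfl⟩ : x ∈ LinearMap.range g := hxB
    unfold Theta
    rw [LinearMap.comp_apply, Submodule.mkQ_apply, Submodule.Quotient.mk_eq_zero,
      Submodule.mem_comap, Submodule.subtype_apply, alpha_coe, LinearMap.baseChange_tmul,
      LinearMap.baseChange_tmul]
    refine ⟨φW (r ⊗ₜ w), ?_⟩
    rw [← hg, LinearMap.baseChange_tmul]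
    rfl
  | add x y hx hy => rw [map_add, map_add, hx, hy, add_zero]

include hX hW hg in
theorem ker_Theta_le_range :
    LinearMap.ker (Theta K R f g' f' φX φY hf) ≤ LinearMap.range ((Bz K g f).subtype.baseChange R) := by
  intro x hx
  unfold Theta at hx
  rw [LinearMap.mem_ker, LinearMap.comp_apply, Submodule.mkQ_apply, Submodule.Quotient.mk_eq_zero,
    Submodule.mem_comap, Submodule.subtype_apply, alpha_coe] at hx
  obtain ⟨w', hw'⟩ := hx
  obtain ⟨y, rfl⟩ := hW w'
  rw [← hg] at hw'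
  have h1 : g.baseChange R y = (LinearMap.ker f).subtype.baseChange R x := hX.1 hw'
  -- factor g through its range
  let B := LinearMap.range g
  let u : R ⊗[K] B := g.rangeRestrict.baseChange R y
  have hu : B.subtype.baseChange R u = g.baseChange R y := by
    simp only [u]
    rw [← LinearMap.comp_apply, ← LinearMap.baseChange_comp, show B.subtype ∘ₗ g.rangeRestrict = g from LinearMap.subtype_comp_codRestrict _ _ _]
  let K' := LinearMap.ker (f ∘ₗ B.subtype)
  have hfu : (f ∘ₗ B.subtype).baseChange R u = 0 := by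
    rw [LinearMap.baseChange_comp, LinearMap.comp_apply, hu, h1, ← LinearMap.comp_apply,
      ← LinearMap.baseChange_comp, LinearMap.comp_ker_subtype, LinearMap.baseChange_zero,
      LinearMap.zero_apply]
  obtain ⟨u', hu'⟩ := (bc_exact K R _ _ (LinearMap.exact_subtype_ker_map (f ∘ₗ B.subtype)) u).mp hfu
  let κ : K' →ₗ[K] Bz K g f :=
    { toFun := fun b => ⟨⟨b.1.1, by
        have := b.2
        rw [LinearMap.mem_ker, LinearMap.comp_apply] at this
        exact this⟩, b.1.2⟩
      map_add' := fun _ _ => rfl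
      map_smul' := fun _ _ => rfl }
  have hκ : (LinearMap.ker f).subtype ∘ₗ (Bz K g f).subtype ∘ₗ κ = B.subtype ∘ₗ K'.subtype := rfl
  refine ⟨κ.baseChange R u', ?_⟩
  apply bc_injective K R _ (Submodule.subtype_injective (LinearMap.ker f))
  rw [← h1, ← hu, ← hu', ← LinearMap.comp_apply, ← LinearMap.comp_apply, ← LinearMap.comp_apply,
    ← LinearMap.baseChange_comp, ← LinearMap.baseChange_comp, ← LinearMap.baseChange_comp]
  rfl

include hX hY hW hg in
theorem exists_equiv :
    ∃ e : R ⊗[K] (LinearMap.ker f ⧸ Bz K g f) ≃ₗ[R]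
        (LinearMap.ker f' ⧸ (LinearMap.range g').comap (LinearMap.ker f').subtype),
      ∀ x : R ⊗[K] (LinearMap.ker f), e (Pi K R g f x) = Theta K R f g' f' φX φY hf x := by
  have hker : LinearMap.ker (Pi K R g f) = LinearMap.ker (Theta K R f g' f' φX φY hf) := by
    rw [ker_Pi]
    exact le_antisymm (range_le_ker_Theta K R g f g' f' φX φY φW hf hg)
      (ker_Theta_le_range K R g f g' f' φX φY φW hX hW hf hg)
  let e₁ := (Pi K R g f).quotKerEquivOfSurjective (Pi_surjective K R g f)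
  let e₂ := (Theta K R f g' f' φX φY hf).quotKerEquivOfSurjective
    (Theta_surjective K R f g' f' φX φY hX hY hf)
  let e₃ := Submodule.quotEquivOfEq _ _ hker
  refine ⟨e₁.symm ≪≫ₗ e₃ ≪≫ₗ e₂, fun x => ?_⟩
  have h1 : e₁.symm (Pi K R g f x) = Submodule.Quotient.mk x := by
    rw [LinearEquiv.symm_apply_eq]
    rfl
  rw [LinearEquiv.trans_apply, LinearEquiv.trans_apply, h1]
  rfl

include hX hY hW hf hg in
theorem exists_equiv' (B : Submodule K X) (B' : Submodule R X')
    (hB : B = LinearMap.range g) (hB' : B' = LinearMap.range g') :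
    ∃ e : R ⊗[K] (LinearMap.ker f ⧸ B.comap (LinearMap.ker f).subtype) ≃ₗ[R]
        (LinearMap.ker f' ⧸ B'.comap (LinearMap.ker f').subtype),
      ∀ (r : R) (z : LinearMap.ker f) (hz : φX (r ⊗ₜ[K] (z : X)) ∈ LinearMap.ker f'),
        e (r ⊗ₜ[K] (Submodule.mkQ (B.comap (LinearMap.ker f).subtype) z)) =
          Submodule.mkQ (B'.comap (LinearMap.ker f').subtype) ⟨φX (r ⊗ₜ[K] (z : X)), hz⟩ := by
  subst hB hB'
  obtain ⟨e, he⟩ := exists_equiv K R g f g' f' φX φY φW hX hY hW hf hg
  refine ⟨e, fun r z hz => ?_⟩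
  have h1 := he (r ⊗ₜ[K] z)
  exact h1

end abstract


section
variable (K : Type u) [Field K] (A : Type v) [CommRing A] [HopfAlgebra K A]
    (V : Type v) [AddCommGroup V] [Module K V] [HopfRep.Comod K A V]
    (R : Type w) [CommRing R] [Algebra K R]

theorem distrib_tmul (M : Type v) [AddCommGroup M] [Module K M] (r : R) (c : M) (a : A) :
    TensorProduct.AlgebraTensorModule.distribBaseChange K R M A (r ⊗ₜ[K] (c ⊗ₜ[K] a)) =
      (r ⊗ₜ[K] c) ⊗ₜ[R] ((1 : R) ⊗ₜ[K] a) := by
  rfl

variable (φ : ∀ n : ℕ, R ⊗[K] (Hoch.cochain K A V n) →ₗ[R] (Hoch.cochain R (R ⊗[K] A) (R ⊗[K] V) n))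
    (hφ0 : ∀ x : R ⊗[K] V, φ 0 x = x)
    (hφs : ∀ (n : ℕ) (r : R) (c : Hoch.cochain K A V n) (a : A),
      φ (n + 1) (r ⊗ₜ[K] (c ⊗ₜ[K] a)) = (φ n (r ⊗ₜ[K] c)) ⊗ₜ[R] ((1 : R) ⊗ₜ[K] a))

include hφs in
theorem phi_succ_eq (n : ℕ) :
    φ (n + 1) = (TensorProduct.map (φ n) (LinearMap.id : R ⊗[K] A →ₗ[R] R ⊗[K] A)) ∘ₗ
      (TensorProduct.AlgebraTensorModule.distribBaseChange K R (Hoch.cochain K A V n) A).toLinearMap := by
  apply LinearMap.ext
  intro x
  induction x using TensorProduct.induction_on with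
  | zero => simp
  | tmul r y =>
    induction y using TensorProduct.induction_on with
    | zero => simp
    | tmul c a =>
      rw [hφs, LinearMap.comp_apply, LinearEquiv.coe_coe, distrib_tmul, TensorProduct.map_tmul,
        LinearMap.id_apply]
    | add x y hx hy => rw [tmul_add, map_add, map_add, hx, hy]
  | add x y hx hy => rw [map_add, map_add, hx, hy]

include hφ0 hφs in
theorem phi_bijective : ∀ n : ℕ, Function.Bijective (φ n) := by
  intro n
  induction n with
  | zero =>
    have : ⇑(φ 0) = id := funext hφ0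
    rw [this]
    exact Function.bijective_id
  | succ n ih =>
    rw [phi_succ_eq K A V R φ hφs n]
    let e := LinearEquiv.ofBijective (φ n) ih
    have h1 : Function.Bijective (TensorProduct.map (φ n)
        (LinearMap.id : R ⊗[K] A →ₗ[R] R ⊗[K] A)) :=
      (TensorProduct.congr e (LinearEquiv.refl R (R ⊗[K] A))).bijective
    exact h1.comp (LinearEquiv.bijective _)
end


section
variable (K : Type u) [Field K] (A : Type v) [CommRing A] [HopfAlgebra K A]
    (V : Type v) [AddCommGroup V] [Module K V] [HopfRep.Comod K A V]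
    (R : Type w) [CommRing R] [Algebra K R]

/-- `x ⊗ y ↦ (1 ⊗ x) ⊗ (1 ⊗ y)` -/
noncomputable def iAA : A ⊗[K] A →ₗ[K] (R ⊗[K] A) ⊗[R] (R ⊗[K] A) :=
  (TensorProduct.mapOfCompatibleSMul R K K (R ⊗[K] A) (R ⊗[K] A)) ∘ₗ
    TensorProduct.map (TensorProduct.mk K R A 1) (TensorProduct.mk K R A 1)

theorem iAA_tmul (x y : A) : iAA K A R (x ⊗ₜ[K] y) = ((1 : R) ⊗ₜ[K] x) ⊗ₜ[R] ((1 : R) ⊗ₜ[K] y) := rfl

theorem comul_one_tmul (a : A) :
    Coalgebra.comul (R := R) (A := R ⊗[K] A) ((1 : R) ⊗ₜ[K] a) =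
      iAA K A R (Coalgebra.comul (R := K) (A := A) a) := by
  rw [TensorProduct.comul_tmul, CommSemiring.comul_apply]
  generalize Coalgebra.comul (R := K) (A := A) a = w
  induction w using TensorProduct.induction_on with
  | zero => simp
  | tmul x y => rfl
  | add x y hx hy => rw [tmul_add, map_add, map_add, hx, hy]

theorem redComul_one_tmul (a : A) :
    Hoch.redComul R (R ⊗[K] A) ((1 : R) ⊗ₜ[K] a) = iAA K A R (Hoch.redComul K A a) := by
  rw [Hoch.redComul_apply, Hoch.redComul_apply, comul_one_tmul, map_sub, map_sub, iAA_tmul,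
    iAA_tmul, Algebra.TensorProduct.one_def]
end

section
variable (K : Type u) [Field K] (A : Type v) [CommRing A] [HopfAlgebra K A]
    (V : Type v) [AddCommGroup V] [Module K V] [HopfRep.Comod K A V]
    (R : Type w) [CommRing R] [Algebra K R]

/-- the base-changed comodule as a local instance -/
noncomputable local instance instBC : HopfRep.Comod R (R ⊗[K] A) (R ⊗[K] V) :=
  CoactBr.Comod.baseChange K R A V

variable (φ : ∀ n : ℕ, R ⊗[K] (Hoch.cochain K A V n) →ₗ[R] (Hoch.cochain R (R ⊗[K] A) (R ⊗[K] V) n))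
    (hφ0 : ∀ x : R ⊗[K] V, φ 0 x = x)
    (hφs : ∀ (n : ℕ) (r : R) (c : Hoch.cochain K A V n) (a : A),
      φ (n + 1) (r ⊗ₜ[K] (c ⊗ₜ[K] a)) = (φ n (r ⊗ₜ[K] c)) ⊗ₜ[R] ((1 : R) ⊗ₜ[K] a))

omit [HopfRep.Comod K A V] in
theorem phi_one_tmul_smul (n : ℕ) (k : K) (c : Hoch.cochain K A V n) :
    φ n ((1 : R) ⊗ₜ[K] (k • c)) = (algebraMap K R k) • φ n ((1 : R) ⊗ₜ[K] c) := by
  rw [TensorProduct.tmul_smul, ← algebraMap_smul R k ((1 : R) ⊗ₜ[K] c), map_smul]

include hφs in
omit [HopfRep.Comod K A V] in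
theorem phi_tail (n : ℕ) (c₀ : Hoch.cochain K A V n) (w : A ⊗[K] A) :
    φ (n + 2) ((1 : R) ⊗ₜ[K] ((TensorProduct.assoc K (Hoch.cochain K A V n) A A).symm (c₀ ⊗ₜ[K] w))) =
      (TensorProduct.assoc R (Hoch.cochain R (R ⊗[K] A) (R ⊗[K] V) n) (R ⊗[K] A) (R ⊗[K] A)).symm
        ((φ n ((1 : R) ⊗ₜ[K] c₀)) ⊗ₜ[R] (iAA K A R w)) := by
  induction w using TensorProduct.induction_on with
  | zero => simp
  | tmul x y =>
    rw [TensorProduct.assoc_symm_tmul, iAA_tmul, TensorProduct.assoc_symm_tmul]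
    rw [hφs (n + 1) 1 (c₀ ⊗ₜ[K] x) y, hφs n 1 c₀ x]
  | add x y hx hy =>
    rw [tmul_add, map_add, tmul_add, map_add, hx, hy, map_add, tmul_add, map_add]

include hφ0 hφs in
theorem comm_one : ∀ (n : ℕ) (c : Hoch.cochain K A V n),
    φ (n + 1) ((1 : R) ⊗ₜ[K] (Hoch.d K A V n c)) =
      Hoch.d R (R ⊗[K] A) (R ⊗[K] V) n (φ n ((1 : R) ⊗ₜ[K] c)) := by
  intro n
  induction n with
  | zero =>
    intro v
    rw [hφ0, Hoch.d_zero_apply, Hoch.d_zero_apply, tmul_sub, map_sub]
    congr 1
    · obtain ⟨S, hS⟩ := TensorProduct.exists_finset (HopfRep.Comod.coact (k := K) (A := A) v)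
      have h1 := CoactBr.baseChange_coact_tmul_of_sum K R A V S (1 : R) v
        (fun i => i.1) (fun i => i.2) hS
      change HopfRep.Comod.coact (k := R) (A := R ⊗[K] A) ((1 : R) ⊗ₜ[K] v) = _ at h1
      rw [h1, hS, tmul_sum, map_sum]
      refine Finset.sum_congr rfl fun i _ => ?_
      rw [hφs 0 1 i.1 i.2, hφ0]
    · rw [hφs 0 1 v 1, hφ0, Algebra.TensorProduct.one_def]
  | succ n ih =>
    intro c
    induction c using TensorProduct.induction_on with
    | zero => simp
    | tmul c₀ a =>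
      rw [Hoch.d_succ, Hoch.d_succ, LinearMap.add_apply, LinearMap.add_apply, tmul_add, map_add,
        LinearMap.smul_apply, LinearMap.smul_apply, LinearMap.rTensor_tmul,
        hφs (n + 1) 1 (Hoch.d K A V n c₀) a, ih c₀, hφs n 1 c₀ a, LinearMap.rTensor_tmul]
      congr 1
      rw [phi_one_tmul_smul, map_pow, map_neg, map_one]
      congr 1
      rw [Hoch.tail, Hoch.tail, LinearMap.comp_apply, LinearMap.comp_apply, LinearMap.lTensor_tmul,
        LinearMap.lTensor_tmul, LinearEquiv.coe_coe, LinearEquiv.coe_coe, redComul_one_tmul,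
        phi_tail K A V R φ hφs]
    | add x y hx hy =>
      rw [map_add, tmul_add, map_add, hx, hy, tmul_add, map_add, map_add]

include hφ0 hφs in
theorem comm_all (n : ℕ) (x : R ⊗[K] (Hoch.cochain K A V n)) :
    φ (n + 1) ((Hoch.d K A V n).baseChange R x) =
      Hoch.d R (R ⊗[K] A) (R ⊗[K] V) n (φ n x) := by
  induction x using TensorProduct.induction_on with
  | zero => simp
  | tmul r c =>
    have h1 : r ⊗ₜ[K] c = r • ((1 : R) ⊗ₜ[K] c) := by
      rw [TensorProduct.smul_tmul', smul_eq_mul, mul_one]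
    have h2 : r ⊗ₜ[K] (Hoch.d K A V n c) = r • ((1 : R) ⊗ₜ[K] (Hoch.d K A V n c)) := by
      rw [TensorProduct.smul_tmul', smul_eq_mul, mul_one]
    rw [LinearMap.baseChange_tmul, h2, h1, map_smul, map_smul, map_smul,
      comm_one K A V R φ hφ0 hφs]
  | add x y hx hy => rw [map_add, map_add, map_add, map_add, hx, hy]
end



open TensorProduct in
/-- In the case of an affine group scheme over a field (a K-groupoid acting on Spec K itself),
cohomology commutes with arbitrary base change. Precisely: let K be a field, A a commutative Hopf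
algebra over K (the coordinate ring of an affine K-group scheme G), V a right A-comodule (a linear
representation of G) and R any commutative K-algebra. Give R ⊗ V the base-changed comodule structure
over the R-bialgebra R ⊗ A, whose coaction sends r ⊗ v to the image of r ⊗ ρ(v) under the canonical
identification of R ⊗ (V ⊗ A) with (R ⊗ V) ⊗_R (R ⊗ A), and let φ_n : R ⊗ C^n(A, V) → C^n(R ⊗ A, R ⊗
V) be the canonical R-linear maps between the Hochschild cochain modules, determined by φ_0 = id and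
φ_{n+1}(r ⊗ (c ⊗ a)) = φ_n(r ⊗ c) ⊗ (1 ⊗ a). Then every φ_n is bijective, the φ_n commute with the
Hochschild differentials, and for every n there is an R-linear isomorphism R ⊗ H^n(A, V) ≅ H^n(R ⊗
A, R ⊗ V) sending r ⊗ [z] to [φ_n(r ⊗ z)] for every n-cocycle z. (The published statement is for an
affine K-groupoid acting on the spectrum of a finite extension L of K and its coherent
representations, with K of characteristic 0; this is its case L = K, in which the cochain complex of
a representation is the Hochschild complex of the comodule; V is not assumed finite-dimensional and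
K may be any field.) -/
theorem result
    (K : Type u) [Field K] (A : Type v) [CommRing A] [HopfAlgebra K A]
    (V : Type v) [AddCommGroup V] [Module K V] [HopfRep.Comod K A V]
    (R : Type w) [CommRing R] [Algebra K R]
    (φ : ∀ n : ℕ, R ⊗[K] (Hoch.cochain K A V n) →ₗ[R] (Hoch.cochain R (R ⊗[K] A) (R ⊗[K] V) n))
    (hφ0 : ∀ x : R ⊗[K] V, φ 0 x = x)
    (hφs : ∀ (n : ℕ) (r : R) (c : Hoch.cochain K A V n) (a : A),
      φ (n + 1) (r ⊗ₜ[K] (c ⊗ₜ[K] a)) = (φ n (r ⊗ₜ[K] c)) ⊗ₜ[R] ((1 : R) ⊗ₜ[K] a)) :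
    letI := CoactBr.Comod.baseChange K R A V
    (∀ n : ℕ, Function.Bijective (φ n)) ∧
    (∀ (n : ℕ) (x : R ⊗[K] (Hoch.cochain K A V n)),
        φ (n + 1) ((Hoch.d K A V n).baseChange R x) = Hoch.d R (R ⊗[K] A) (R ⊗[K] V) n (φ n x)) ∧
      ∀ n : ℕ, ∃ e : R ⊗[K] Hoch.H K A V n ≃ₗ[R] Hoch.H R (R ⊗[K] A) (R ⊗[K] V) n,
        ∀ (r : R) (z : Hoch.cocycles K A V n)
          (hz : φ n (r ⊗ₜ[K] (z : Hoch.cochain K A V n)) ∈ Hoch.cocycles R (R ⊗[K] A) (R ⊗[K] V) n),
          e (r ⊗ₜ[K] Hoch.H.mk K A V n z) = Hoch.H.mk R (R ⊗[K] A) (R ⊗[K] V) n ⟨φ n (r ⊗ₜ[K] (z : Hoch.cochain K A V n)), hz⟩ := by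
  letI : HopfRep.Comod R (R ⊗[K] A) (R ⊗[K] V) := CoactBr.Comod.baseChange K R A V
  have hbij := phi_bijective K A V R φ hφ0 hφs
  have hcomm := comm_all K A V R φ hφ0 hφs
  refine ⟨hbij, hcomm, fun n => ?_⟩
  cases n with
  | zero =>
    exact exists_equiv' K R (0 : Hoch.cochain K A V 0 →ₗ[K] Hoch.cochain K A V 0)
      (Hoch.d K A V 0)
      (0 : Hoch.cochain R (R ⊗[K] A) (R ⊗[K] V) 0 →ₗ[R] Hoch.cochain R (R ⊗[K] A) (R ⊗[K] V) 0)
      (Hoch.d R (R ⊗[K] A) (R ⊗[K] V) 0) (φ 0) (φ 1) (φ 0) (hbij 0) (hbij 1).1 (hbij 0).2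
      (hcomm 0) (fun y => by
        rw [LinearMap.baseChange_zero, LinearMap.zero_apply, map_zero, LinearMap.zero_apply])
      (Hoch.coboundaries K A V 0) (Hoch.coboundaries R (R ⊗[K] A) (R ⊗[K] V) 0)
      (LinearMap.range_zero).symm (LinearMap.range_zero).symm
  | succ m =>
    exact exists_equiv' K R (Hoch.d K A V m) (Hoch.d K A V (m + 1))
      (Hoch.d R (R ⊗[K] A) (R ⊗[K] V) m)
      (Hoch.d R (R ⊗[K] A) (R ⊗[K] V) (m + 1)) (φ (m + 1)) (φ (m + 2)) (φ m)
      (hbij (m + 1)) (hbij (m + 2)).1 (hbij m).2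
      (hcomm (m + 1)) (hcomm m)
      (Hoch.coboundaries K A V (m + 1)) (Hoch.coboundaries R (R ⊗[K] A) (R ⊗[K] V) (m + 1))
      rfl rfl

end Groth.Agent.S19275
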