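import Groth.Statements.S19276
import Mathlib
import Groth.Agent.Lib.Helper6.GrpAlgIdem3

set_option autoImplicit false
universe u v
open GrpAlg

namespace Groth.Agent.S19276

open Groth.Agent.Lib.Helper6.GrpAlgIdem



/-- Let `A` be a finite commutative group and `Λ` a commutative ring in which the order of `A` is
invertible. Then the ring homomorphism from the group ring `Λ[A]` to the product, over the subgroups
`B` of `A` with cyclic quotient, of the cyclotomic quotients `Λ[A ⧸ B]/(Φ_{|A/B|})`, each component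
induced by `A → A/B`, is bijective. (In terms of group schemes: `Λ[A]` is the representation ring
with coefficients in `Λ` of the finite diagonalizable group with character group `A`, the factors
are indexed by its dual cyclic subgroups, i.e. those isomorphic to some `μ_n`, and the components
are restriction followed by the cyclotomic quotient. The published statement takes `Λ = ℤ[1/|A|]`;
here `Λ` is any commutative ring in which `|A|` is invertible.) -/
theorem result (Λ : Type u) [CommRing Λ] (A : Type v)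
    [AddCommGroup A] [Finite A] (hA : IsUnit ((Nat.card A : ℕ) : Λ)) :
    Function.Bijective (RingHom.pi fun B : {B : AddSubgroup A // IsAddCyclic (A ⧸ B)} =>
      W4c6equivkfinstab.cycQuotMap Λ A B.1) := by
  classical
  let _ : Fintype A := Fintype.ofFinite A
  obtain ⟨ν, hν⟩ := hA.exists_left_inv
  have hN : ∀ a : A, Nat.card A • a = 0 := fun a => card_nsmul_eq_zero'
  have hJfin : Finite {B : AddSubgroup A // IsAddCyclic (A ⧸ B)} := by
    apply Finite.of_injective
      (fun B : {B : AddSubgroup A // IsAddCyclic (A ⧸ B)} => ((B.1 : AddSubgroup A) : Set A))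
    intro B B' h
    exact Subtype.ext (SetLike.coe_injective h)
  let _ : Fintype {B : AddSubgroup A // IsAddCyclic (A ⧸ B)} := Fintype.ofFinite _
  set ε : {B : AddSubgroup A // IsAddCyclic (A ⧸ B)} → AddMonoidAlgebra Λ A :=
    fun B => eps Λ A (Nat.card A) ν B.1 with hε
  have hker : ∀ B : AddSubgroup A, (QuotientAddGroup.mk' B).ker = B :=
    fun B => QuotientAddGroup.ker_mk' B
  have hCu : ∀ B : {B : AddSubgroup A // IsAddCyclic (A ⧸ B)},
      IsUnit ((Nat.card (A ⧸ B.1) : ℕ) : Λ) := by
    intro B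
    obtain ⟨q, hq⟩ := AddSubgroup.card_dvd_of_surjective (QuotientAddGroup.mk' B.1)
      (QuotientAddGroup.mk'_surjective B.1)
    have h1 : ((Nat.card A : ℕ) : Λ) = ((Nat.card (A ⧸ B.1) : ℕ) : Λ) * ((q : ℕ) : Λ) := by
      rw [← Nat.cast_mul, ← hq]
    rw [h1] at hA
    exact (IsUnit.mul_iff.mp hA).1
  have P1 : ∀ B : {B : AddSubgroup A // IsAddCyclic (A ⧸ B)},
      W4c6equivkfinstab.cycQuotMap Λ A B.1 (ε B) = 1 := by
    intro B
    have hcyc : IsAddCyclic (A ⧸ B.1) := B.2
    have h := mk_map_eps hN hν (QuotientAddGroup.mk' B.1) (hCu B)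
    rw [hker] at h
    exact h
  have P2 : ∀ (B : {B : AddSubgroup A // IsAddCyclic (A ⧸ B)}) (y : AddMonoidAlgebra Λ A),
      W4c6equivkfinstab.cycQuotMap Λ A B.1 y = 0 → ε B * y = 0 := by
    intro B y hy
    have h2 : AddMonoidAlgebra.mapDomainRingHom Λ (QuotientAddGroup.mk' B.1) y ∈
        W4c6equivkfinstab.cycIdeal Λ (A ⧸ B.1) := Ideal.Quotient.eq_zero_iff_mem.mp hy
    have h := eps_mul_eq_zero_of_mem hN hν (QuotientAddGroup.mk' B.1)
      (QuotientAddGroup.mk'_surjective B.1) y h2
    rw [hker] at h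
    exact h
  have P3 : ∀ B B' : {B : AddSubgroup A // IsAddCyclic (A ⧸ B)}, B ≠ B' → ε B * ε B' = 0 :=
    fun B B' hne => eps_mul_eps_of_ne hN hν (fun h => hne (Subtype.ext h))
  have P4 : ∑ B : {B : AddSubgroup A // IsAddCyclic (A ⧸ B)}, ε B = 1 := by
    have h := sum_eps_eq_one hN hν
      (Finset.univ.image (fun B : {B : AddSubgroup A // IsAddCyclic (A ⧸ B)} => B.1)) ?_
    · rw [Finset.sum_image] at h
      · exact h
      · intro B _ B' _ hBB'
        exact Subtype.ext hBB'
    · intro 𝔪 hmax
      have hcyc : IsAddCyclic (A ⧸ charKer Λ A 𝔪) :=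
        isAddCyclic_of_ker_eq_charKer Λ 𝔪 hmax (QuotientAddGroup.mk' _)
          (QuotientAddGroup.mk'_surjective _) (QuotientAddGroup.ker_mk' _)
      exact Finset.mem_image.mpr ⟨⟨charKer Λ A 𝔪, hcyc⟩, Finset.mem_univ _, rfl⟩
  have P5 : ∀ B B' : {B : AddSubgroup A // IsAddCyclic (A ⧸ B)}, B ≠ B' →
      W4c6equivkfinstab.cycQuotMap Λ A B.1 (ε B') = 0 := by
    intro B B' hne
    have h := congrArg (W4c6equivkfinstab.cycQuotMap Λ A B.1) (P3 B B' hne)
    rw [map_mul, P1 B, one_mul, map_zero] at h
    exact h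
  constructor
  · rw [injective_iff_map_eq_zero]
    intro x hx
    have hB : ∀ B : {B : AddSubgroup A // IsAddCyclic (A ⧸ B)}, ε B * x = 0 :=
      fun B => P2 B x (congrFun hx B)
    calc x = (∑ B : {B : AddSubgroup A // IsAddCyclic (A ⧸ B)}, ε B) * x := by
          rw [P4, one_mul]
      _ = 0 := by
          rw [Finset.sum_mul]
          exact Finset.sum_eq_zero (fun B _ => hB B)
  · intro z
    have hz : ∀ B : {B : AddSubgroup A // IsAddCyclic (A ⧸ B)},
        ∃ y : AddMonoidAlgebra Λ A, W4c6equivkfinstab.cycQuotMap Λ A B.1 y = z B :=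
      fun B => cycQuotMap_surjective Λ A B.1 (z B)
    choose y hy using hz
    refine ⟨∑ B : {B : AddSubgroup A // IsAddCyclic (A ⧸ B)}, ε B * y B, ?_⟩
    funext B
    show W4c6equivkfinstab.cycQuotMap Λ A B.1
      (∑ B : {B : AddSubgroup A // IsAddCyclic (A ⧸ B)}, ε B * y B) = z B
    rw [map_sum, Finset.sum_eq_single B]
    · rw [map_mul, P1, one_mul, hy]
    · intro B' _ hne
      rw [map_mul, P5 B B' (Ne.symm hne), zero_mul]
    · intro h; exact absurd (Finset.mem_univ B) h


end Groth.Agent.S19276
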