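import Groth.Statements.S19277
import Mathlib
import Groth.Agent.Lib.Helper6.GrpAlgIdem3

set_option autoImplicit false
universe u v
open GrpAlg

namespace Groth.Agent.S19277

open Groth.Agent.Lib.Helper6.GrpAlgIdem



/-- Let `M` be a commutative group, `B ≠ B'` subgroups of finite index with `M ⧸ B` and `M ⧸ B'` cyclic,
and `Λ` a commutative ring in which both indices are invertible. Then the localization of the
`Λ[M]`-module `Λ[M ⧸ B]/(Φ_{|M/B|})` at the multiplicative subset of `Λ[M]` of elements with image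
`1` in `Λ[M ⧸ B']/(Φ_{|M/B'|})` is zero. (In terms of group schemes: for two distinct dual cyclic
subgroups σ, σ' of the diagonalizable group with character group `M`, the ring R̃(σ) with
coefficients in `Λ` vanishes after localization at σ'. The published statement has a split torus,
i.e. `M` free of finite rank, and `Λ = ℤ[1/N]` for `N` the order of the subgroup generated by σ and
σ'; here `M` is any commutative group and `Λ` any commutative ring in which the orders of σ and σ'
are invertible.) -/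
theorem result (Λ : Type u) [CommRing Λ] (M : Type v)
    [AddCommGroup M] (B B' : AddSubgroup M) [B.FiniteIndex] [B'.FiniteIndex]
    [IsAddCyclic (M ⧸ B)] [IsAddCyclic (M ⧸ B')] (hne : B ≠ B')
    (hu : IsUnit ((B.index * B'.index : ℕ) : Λ)) :
    Subsingleton (LocalizedModule (W4c6equivkfinstab.locSubmonoid Λ M B')
      (W4c6equivkfinstab.CycQuot Λ (M ⧸ B))) := by
  classical
  rw [LocalizedModule.subsingleton_iff]
  have hle : B ⊓ B' ≤ B := inf_le_left
  have hle' : B ⊓ B' ≤ B' := inf_le_right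
  have hfin : Finite (M ⧸ (B ⊓ B')) := AddSubgroup.finite_quotient_of_finiteIndex
  let _ : Fintype (M ⧸ (B ⊓ B')) := Fintype.ofFinite _
  obtain ⟨ν, hν⟩ := hu.exists_left_inv
  have hN : ∀ a : M ⧸ (B ⊓ B'), (B.index * B'.index) • a = 0 := by
    intro a
    obtain ⟨m, rfl⟩ := QuotientAddGroup.mk_surjective a
    rw [← QuotientAddGroup.mk_nsmul, QuotientAddGroup.eq_zero_iff, AddSubgroup.mem_inf]
    constructor
    · rw [mul_nsmul]
      exact B.nsmul_mem (B.nsmul_index_mem m) _
    · rw [mul_comm, mul_nsmul]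
      exact B'.nsmul_mem (B'.nsmul_index_mem m) _
  have hu2 : IsUnit (((B.index : ℕ) : Λ) * ((B'.index : ℕ) : Λ)) := by
    rw [← Nat.cast_mul]; exact hu
  have hCuB : IsUnit ((Nat.card (M ⧸ B) : ℕ) : Λ) := (IsUnit.mul_iff.mp hu2).1
  have hCuB' : IsUnit ((Nat.card (M ⧸ B') : ℕ) : Λ) := (IsUnit.mul_iff.mp hu2).2
  have hfinB : Finite (M ⧸ B) := AddSubgroup.finite_quotient_of_finiteIndex
  have hfinB' : Finite (M ⧸ B') := AddSubgroup.finite_quotient_of_finiteIndex
  have h1 := mk_map_eps hN hν (phi (B ⊓ B') B hle) hCuB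
  have h1' := mk_map_eps hN hν (phi (B ⊓ B') B' hle') hCuB'
  have h0 : eps Λ (M ⧸ (B ⊓ B')) (B.index * B'.index) ν (phi (B ⊓ B') B hle).ker *
      eps Λ (M ⧸ (B ⊓ B')) (B.index * B'.index) ν (phi (B ⊓ B') B' hle').ker = 0 :=
    eps_mul_eps_of_ne hN hν (fun h => hne (ker_phi_injective (B ⊓ B') B B' hle hle' h))
  have h2 : Ideal.Quotient.mk (W4c6equivkfinstab.cycIdeal Λ (M ⧸ B))
      (AddMonoidAlgebra.mapDomainRingHom Λ (phi (B ⊓ B') B hle)
        (eps Λ (M ⧸ (B ⊓ B')) (B.index * B'.index) ν (phi (B ⊓ B') B' hle').ker)) = 0 := by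
    have h := congrArg (fun z => Ideal.Quotient.mk (W4c6equivkfinstab.cycIdeal Λ (M ⧸ B))
      (AddMonoidAlgebra.mapDomainRingHom Λ (phi (B ⊓ B') B hle) z)) h0
    simp only [map_mul, map_zero] at h
    rw [h1, one_mul] at h
    exact h
  obtain ⟨t, ht⟩ := quotMap_surjective Λ M (B ⊓ B')
    (eps Λ (M ⧸ (B ⊓ B')) (B.index * B'.index) ν (phi (B ⊓ B') B' hle').ker)
  have hts : t ∈ W4c6equivkfinstab.locSubmonoid Λ M B' := by
    show Ideal.Quotient.mk _ (W4c6equivkfinstab.quotMap Λ M B' t) = 1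
    rw [← quotMap_comp Λ (B ⊓ B') B' hle', ht]
    exact h1'
  have htz : Ideal.Quotient.mk (W4c6equivkfinstab.cycIdeal Λ (M ⧸ B))
      (W4c6equivkfinstab.quotMap Λ M B t) = 0 := by
    rw [← quotMap_comp Λ (B ⊓ B') B hle, ht]
    exact h2
  intro z
  refine ⟨t, hts, ?_⟩
  have h3 : algebraMap (AddMonoidAlgebra Λ M) (W4c6equivkfinstab.CycQuot Λ (M ⧸ B)) t = 0 := htz
  have h4 : t • z = algebraMap (AddMonoidAlgebra Λ M) (W4c6equivkfinstab.CycQuot Λ (M ⧸ B)) t * z :=
    Algebra.smul_def t z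
  rw [h4, h3, zero_mul]


end Groth.Agent.S19277
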