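import Groth.Statements.S19278
import Mathlib

set_option autoImplicit false
universe u v
open GrpAlg

namespace Groth.Agent.S19278

open Polynomial in
lemma one_sub_pow_dvd {R : Type*} [CommRing R] (n d : ℕ) (hd : d ∈ n.properDivisors) (x : R)
    (hx : (Polynomial.cyclotomic n R).eval x = 0) : (1 - x ^ d) ∣ ((n / d : ℕ) : R) := by
  obtain ⟨hdn, hlt⟩ := Nat.mem_properDivisors.mp hd
  obtain ⟨m, rfl⟩ := hdn
  have hd0 : 0 < d := by
    rcases Nat.eq_zero_or_pos d with h | h
    · subst h; simp at hlt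
    · exact h
  have hm : d * m / d = m := Nat.mul_div_cancel_left m hd0
  rw [hm]
  have h1 : Polynomial.cyclotomic (d * m) ℤ ∣
      ∑ j ∈ Finset.range m, ((Polynomial.X : ℤ[X]) ^ d) ^ j := by
    obtain ⟨Q, hQ⟩ := Polynomial.X_pow_sub_one_mul_cyclotomic_dvd_X_pow_sub_one_of_dvd ℤ hd
    have h2 : ((Polynomial.X : ℤ[X]) ^ d - 1) *
        ∑ j ∈ Finset.range m, ((Polynomial.X : ℤ[X]) ^ d) ^ j = X ^ (d * m) - 1 := by
      rw [mul_geom_sum, pow_mul]
    have h3 : ((Polynomial.X : ℤ[X]) ^ d - 1) ≠ 0 := by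
      have := Polynomial.X_pow_sub_C_ne_zero hd0 (1 : ℤ)
      simpa using this
    refine ⟨Q, ?_⟩
    apply mul_left_cancel₀ h3
    rw [h2, hQ, mul_assoc]
  have h4 : (Polynomial.cyclotomic (d * m) ℤ).eval₂ (Int.castRingHom R) x = 0 := by
    rw [← Polynomial.eval_map, Polynomial.map_cyclotomic_int]; exact hx
  obtain ⟨Q, hQ⟩ := h1
  have h5 : ∑ j ∈ Finset.range m, (x ^ d) ^ j = 0 := by
    have := congrArg (Polynomial.eval₂ (Int.castRingHom R) x) hQ
    rw [Polynomial.eval₂_mul, h4, zero_mul, Polynomial.eval₂_finsetSum] at this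
    simpa [Polynomial.eval₂_pow, Polynomial.eval₂_X] using this
  have h6 : (m : R) = - ∑ j ∈ Finset.range m, ((x ^ d) ^ j - 1) := by
    rw [Finset.sum_sub_distrib, h5]; simp
  rw [h6, dvd_neg]
  apply Finset.dvd_sum
  intro j _
  have := sub_dvd_pow_sub_pow (x ^ d) 1 j
  rw [one_pow] at this
  rw [← neg_sub (x ^ d) 1, neg_dvd]
  exact this

section
variable (Λ : Type u) [CommRing Λ] (M : Type v) [AddCommGroup M]

lemma quotMap_single (B : AddSubgroup M) (m : M) (r : Λ) :
    W4c6equivkfinstab.quotMap Λ M B (AddMonoidAlgebra.single m r) =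
      AddMonoidAlgebra.single (m : M ⧸ B) r := by
  simp [W4c6equivkfinstab.quotMap]

lemma quotMap_surjective (B : AddSubgroup M) :
    Function.Surjective (W4c6equivkfinstab.quotMap Λ M B) := by
  intro y
  induction y using AddMonoidAlgebra.induction_linear with
  | zero => exact ⟨0, map_zero _⟩
  | add x y hx hy =>
    obtain ⟨a, rfl⟩ := hx
    obtain ⟨b, rfl⟩ := hy
    exact ⟨a + b, map_add _ _ _⟩
  | single m r =>
    obtain ⟨m', rfl⟩ := QuotientAddGroup.mk_surjective m
    exact ⟨AddMonoidAlgebra.single m' r, quotMap_single Λ M B m' r⟩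

end



/-- Let `M` be a commutative group, `B₀` a subgroup of finite index, `B` a subgroup of finite index with
`M ⧸ B` cyclic and `B₀` not contained in `B`, and `Λ` a commutative ring in which the indices of
`B₀` and `B` are invertible. Then the localization of the `Λ[M]`-module `Λ[M ⧸ B₀]` at the
multiplicative subset of `Λ[M]` of elements with image `1` in `Λ[M ⧸ B]/(Φ_{|M/B|})` is zero. (In
terms of group schemes: for a finite closed subgroup T' = D(M/B₀) of the diagonalizable group with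
character group `M` and a dual cyclic subgroup σ = D(M/B) not contained in T', the representation
ring of T' with coefficients in `Λ` vanishes after localization at σ. The published statement has a
split torus and `Λ = ℤ[1/N]`; here `M` is any commutative group and `Λ` any commutative ring in
which the orders of T' and σ are invertible.) -/
theorem result (Λ : Type u) [CommRing Λ]
    (M : Type v) [AddCommGroup M] (B₀ B : AddSubgroup M) [B₀.FiniteIndex] [B.FiniteIndex]
    [IsAddCyclic (M ⧸ B)] (hle : ¬ B₀ ≤ B) (hu : IsUnit ((B₀.index * B.index : ℕ) : Λ)) :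
    Subsingleton (LocalizedModule (W4c6equivkfinstab.locSubmonoid Λ M B)
      (AddMonoidAlgebra Λ (M ⧸ B₀))) := by
  classical
  rw [LocalizedModule.subsingleton_iff]
  obtain ⟨b, hb0, hbB⟩ := SetLike.not_le_iff_exists.mp hle
  have huB : IsUnit ((B.index : ℕ) : Λ) := by
    have h : ((B₀.index * B.index : ℕ) : Λ) = ((B₀.index : ℕ) : Λ) * ((B.index : ℕ) : Λ) := by
      push_cast; ring
    rw [h] at hu
    exact (IsUnit.mul_iff.mp hu).2
  have : Finite (M ⧸ B) := AddSubgroup.finite_quotient_of_finiteIndex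
  set n : ℕ := Nat.card (M ⧸ B) with hn
  have hnB : B.index = n := rfl
  have hn0 : n ≠ 0 := Nat.card_pos.ne'
  obtain ⟨g, hg⟩ := IsAddCyclic.exists_addMonoid_generator (α := M ⧸ B)
  have hgtop : AddSubgroup.zmultiples g = ⊤ := by
    rw [AddSubgroup.eq_top_iff']
    intro y
    obtain ⟨k, rfl⟩ := (AddSubmonoid.mem_multiples_iff _ _).mp (hg y)
    exact AddSubgroup.nsmul_mem_zmultiples g k
  have hc : ((b : M) : M ⧸ B) ≠ 0 := by
    rw [Ne, QuotientAddGroup.eq_zero_iff]; exact hbB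
  obtain ⟨k, hk⟩ := (AddSubmonoid.mem_multiples_iff _ _).mp (hg (b : M ⧸ B))
  have hng : n • g = 0 := card_nsmul_eq_zero'
  have hnk : ¬ n ∣ k := by
    rintro ⟨t, rfl⟩
    apply hc
    rw [← hk, mul_nsmul, hng, nsmul_zero]
  set d := Nat.gcd k n with hd
  have hdn : d ∣ n := Nat.gcd_dvd_right k n
  have hdlt : d < n := by
    rcases lt_or_eq_of_le (Nat.le_of_dvd (Nat.pos_of_ne_zero hn0) hdn) with h | h
    · exact h
    · exfalso; apply hnk; rw [← h]; exact Nat.gcd_dvd_left k n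
  have hdprop : d ∈ n.properDivisors := Nat.mem_properDivisors.mpr ⟨hdn, hdlt⟩
  obtain ⟨a, -, ha⟩ := Nat.exists_mul_mod_eq_gcd (k := n) (n := k) hdlt
  let I := W4c6equivkfinstab.cycIdeal Λ (M ⧸ B)
  let ζ : W4c6equivkfinstab.CycQuot Λ (M ⧸ B) :=
    Ideal.Quotient.mk I (AddMonoidAlgebra.single g 1)
  have hζn : ζ ^ n = 1 := by
    show (Ideal.Quotient.mk I (AddMonoidAlgebra.single g 1)) ^ n = 1
    rw [← map_pow, AddMonoidAlgebra.single_pow, hng, one_pow, ← AddMonoidAlgebra.one_def, map_one]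
  have hζcyc : (Polynomial.cyclotomic n (W4c6equivkfinstab.CycQuot Λ (M ⧸ B))).eval ζ = 0 := by
    have hmem : Polynomial.aeval (AddMonoidAlgebra.single g (1 : Λ)) (Polynomial.cyclotomic n Λ) ∈ I :=
      Ideal.subset_span ⟨g, hgtop, rfl⟩
    have h0 := Ideal.Quotient.eq_zero_iff_mem.mpr hmem
    have h1 : Polynomial.aeval ζ (Polynomial.cyclotomic n Λ) = 0 := by
      have := Polynomial.aeval_algHom_apply (Ideal.Quotient.mkₐ Λ I)
        (AddMonoidAlgebra.single g (1 : Λ)) (Polynomial.cyclotomic n Λ)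
      exact this.trans h0
    rw [Polynomial.aeval_def, Polynomial.eval₂_eq_eval_map, Polynomial.map_cyclotomic] at h1
    exact h1
  have hunitn : IsUnit ((n : ℕ) : W4c6equivkfinstab.CycQuot Λ (M ⧸ B)) := by
    have : ((n : ℕ) : W4c6equivkfinstab.CycQuot Λ (M ⧸ B)) =
        algebraMap Λ (W4c6equivkfinstab.CycQuot Λ (M ⧸ B)) ((n : ℕ) : Λ) := (map_natCast _ n).symm
    rw [this]; exact huB.map _
  have hdvd := one_sub_pow_dvd n d hdprop ζ hζcyc
  have hunit_nd : IsUnit (((n / d : ℕ)) : W4c6equivkfinstab.CycQuot Λ (M ⧸ B)) := by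
    have : ((n : ℕ) : W4c6equivkfinstab.CycQuot Λ (M ⧸ B)) =
        ((d : ℕ) : W4c6equivkfinstab.CycQuot Λ (M ⧸ B)) * (((n / d : ℕ)) : _) := by
      rw [← Nat.cast_mul, Nat.mul_div_cancel' hdn]
    rw [this] at hunitn
    exact (IsUnit.mul_iff.mp hunitn).2
  have hunit_d : IsUnit (1 - ζ ^ d) := isUnit_of_dvd_unit hdvd hunit_nd
  have hζd : ζ ^ d = (ζ ^ k) ^ a := by
    rw [← pow_mul, ← Nat.div_add_mod (k * a) n, pow_add, pow_mul, hζn, one_pow, one_mul, ha]
  have hunit_k : IsUnit (1 - ζ ^ k) := by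
    have h := sub_dvd_pow_sub_pow (1 : W4c6equivkfinstab.CycQuot Λ (M ⧸ B)) (ζ ^ k) a
    rw [one_pow, ← hζd] at h
    exact isUnit_of_dvd_unit h hunit_d
  obtain ⟨v, hv⟩ := hunit_k.exists_right_inv
  obtain ⟨v₀, rfl⟩ := Ideal.Quotient.mk_surjective v
  obtain ⟨v₁, rfl⟩ := quotMap_surjective Λ M B v₀
  intro x
  refine ⟨(1 - AddMonoidAlgebra.single b 1) * v₁, ?_, ?_⟩
  · show W4c6equivkfinstab.cycQuotMap Λ M B _ = 1
    have hb1 : W4c6equivkfinstab.cycQuotMap Λ M B (AddMonoidAlgebra.single b 1) = ζ ^ k := by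
      show Ideal.Quotient.mk I (W4c6equivkfinstab.quotMap Λ M B (AddMonoidAlgebra.single b 1)) = _
      rw [quotMap_single, ← hk]
      show _ = (Ideal.Quotient.mk I (AddMonoidAlgebra.single g 1)) ^ k
      rw [← map_pow, AddMonoidAlgebra.single_pow, one_pow]
    rw [map_mul, map_sub, map_one, hb1]
    exact hv
  · rw [Algebra.smul_def]
    have h0 : algebraMap (AddMonoidAlgebra Λ M) (AddMonoidAlgebra Λ (M ⧸ B₀))
        ((1 - AddMonoidAlgebra.single b 1) * v₁) = 0 := by
      show W4c6equivkfinstab.quotMap Λ M B₀ _ = 0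
      rw [map_mul, map_sub, map_one, quotMap_single]
      have hb' : ((b : M) : M ⧸ B₀) = 0 := (QuotientAddGroup.eq_zero_iff b).mpr hb0
      rw [hb', ← AddMonoidAlgebra.one_def, sub_self, zero_mul]
    rw [h0, zero_mul]


end Groth.Agent.S19278
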