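import Groth.Statements.S19279
import Mathlib
import Groth.Agent.Lib.Helper6.GrpAlgIdem2

set_option autoImplicit false
universe u v
open GrpAlg

namespace Groth.Agent.S19279

open Groth.Agent.Lib.Helper6.GrpAlgIdem

section
variable (Λ : Type u) [CommRing Λ] (M : Type v) [AddCommGroup M]

lemma quotMap_single (B : AddSubgroup M) (m : M) (r : Λ) :
    W4c6equivkfinstab.quotMap Λ M B (AddMonoidAlgebra.single m r) =
      AddMonoidAlgebra.single (m : M ⧸ B) r := by
  simp [W4c6equivkfinstab.quotMap]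

lemma quotMap_surjective (B : AddSubgroup M) :
    Function.Surjective (W4c6equivkfinstab.quotMap Λ M B) := by
  intro y
  induction y using AddMonoidAlgebra.induction_linear with
  | zero => exact ⟨0, map_zero _⟩
  | add x y hx hy =>
    obtain ⟨a, rfl⟩ := hx
    obtain ⟨b, rfl⟩ := hy
    exact ⟨a + b, map_add _ _ _⟩
  | single m r =>
    obtain ⟨m', rfl⟩ := QuotientAddGroup.mk_surjective m
    exact ⟨AddMonoidAlgebra.single m' r, quotMap_single Λ M B m' r⟩

lemma smul_eq (B₀ : AddSubgroup M) (t : AddMonoidAlgebra Λ M) (x : AddMonoidAlgebra Λ (M ⧸ B₀)) :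
    t • x = W4c6equivkfinstab.quotMap Λ M B₀ t * x := Algebra.smul_def t x

variable {M}

/-- The canonical map `M ⧸ B₀ → M ⧸ B` for `B₀ ≤ B`. -/
noncomputable def phi (B₀ B : AddSubgroup M) (hle : B₀ ≤ B) : (M ⧸ B₀) →+ (M ⧸ B) :=
  QuotientAddGroup.map B₀ B (AddMonoidHom.id M) (by rwa [AddSubgroup.comap_id])

lemma phi_mk (B₀ B : AddSubgroup M) (hle : B₀ ≤ B) (m : M) :
    phi B₀ B hle (m : M ⧸ B₀) = (m : M ⧸ B) := rfl

lemma phi_surj (B₀ B : AddSubgroup M) (hle : B₀ ≤ B) : Function.Surjective (phi B₀ B hle) := by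
  intro c
  obtain ⟨m, rfl⟩ := QuotientAddGroup.mk_surjective c
  exact ⟨(m : M ⧸ B₀), rfl⟩

lemma mem_ker_phi (B₀ B : AddSubgroup M) (hle : B₀ ≤ B) (m : M) :
    (m : M ⧸ B₀) ∈ (phi B₀ B hle).ker ↔ m ∈ B := by
  rw [AddMonoidHom.mem_ker, phi_mk, QuotientAddGroup.eq_zero_iff]

lemma ker_phi_injective (B₀ B B' : AddSubgroup M) (hle : B₀ ≤ B) (hle' : B₀ ≤ B')
    (h : (phi B₀ B hle).ker = (phi B₀ B' hle').ker) : B = B' := by
  ext m
  rw [← mem_ker_phi B₀ B hle, ← mem_ker_phi B₀ B' hle', h]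

lemma quotMap_comp (B₀ B : AddSubgroup M) (hle : B₀ ≤ B) (x : AddMonoidAlgebra Λ M) :
    AddMonoidAlgebra.mapDomainRingHom Λ (phi B₀ B hle) (W4c6equivkfinstab.quotMap Λ M B₀ x) =
      W4c6equivkfinstab.quotMap Λ M B x := by
  induction x using AddMonoidAlgebra.induction_linear with
  | zero => simp
  | add x y hx hy => rw [map_add, map_add, map_add, hx, hy]
  | single m r => rw [quotMap_single, mapDomainRingHom_single, phi_mk, quotMap_single]

/-- The kernel of a character modulo a maximal ideal comes from a subgroup with cyclic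
quotient. -/
lemma exists_cyclic_of_maximal (B₀ : AddSubgroup M) [B₀.FiniteIndex]
    (𝔪 : Ideal (AddMonoidAlgebra Λ (M ⧸ B₀))) (hmax : 𝔪.IsMaximal) :
    ∃ (B : AddSubgroup M) (hle : B₀ ≤ B), IsAddCyclic (M ⧸ B) ∧
      (phi B₀ B hle).ker = charKer Λ (M ⧸ B₀) 𝔪 := by
  have hfin : Finite (M ⧸ B₀) := AddSubgroup.finite_quotient_of_finiteIndex
  have hprime : 𝔪.IsPrime := hmax.isPrime
  let H := charKer Λ (M ⧸ B₀) 𝔪
  let B : AddSubgroup M := H.comap (QuotientAddGroup.mk' B₀)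
  have hle : B₀ ≤ B := by
    intro m hm
    show (QuotientAddGroup.mk' B₀ m) ∈ H
    have : (QuotientAddGroup.mk' B₀ m) = 0 := (QuotientAddGroup.eq_zero_iff m).mpr hm
    rw [this]; exact H.zero_mem
  have hker : (phi B₀ B hle).ker = H := by
    ext a
    obtain ⟨m, rfl⟩ := QuotientAddGroup.mk_surjective a
    rw [mem_ker_phi]
    exact Iff.rfl
  refine ⟨B, hle, ?_, hker⟩
  -- cyclicity
  let f₀ : Multiplicative (M ⧸ B₀) →* (AddMonoidAlgebra Λ (M ⧸ B₀) ⧸ 𝔪) :=
    (Ideal.Quotient.mk 𝔪).toMonoidHom.comp (AddMonoidAlgebra.of Λ (M ⧸ B₀))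
  have hf₀ : ∀ a : Multiplicative (M ⧸ B₀), f₀ a = 1 ↔ Multiplicative.toAdd a ∈ H := by
    intro a
    show Ideal.Quotient.mk 𝔪 (AddMonoidAlgebra.of Λ (M ⧸ B₀) a) = 1 ↔ _
    rw [AddMonoidAlgebra.of_apply, ← map_one (Ideal.Quotient.mk 𝔪), Ideal.Quotient.eq]
    exact Iff.rfl
  have hdom : IsDomain (AddMonoidAlgebra Λ (M ⧸ B₀) ⧸ 𝔪) := Ideal.Quotient.isDomain 𝔪
  let f₁ : Multiplicative (M ⧸ B₀) →* (AddMonoidAlgebra Λ (M ⧸ B₀) ⧸ 𝔪)ˣ := f₀.toHomUnits
  have hf₁ : ∀ a : Multiplicative (M ⧸ B₀), f₁ a = 1 ↔ Multiplicative.toAdd a ∈ H := by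
    intro a
    rw [← Units.val_eq_one, MonoidHom.coe_toHomUnits]
    exact hf₀ a
  have hfinm : Finite (Multiplicative (M ⧸ B₀)) := hfin
  have hfinq : Finite (Multiplicative (M ⧸ B₀) ⧸ f₁.ker) := inferInstance
  have hinj : Function.Injective
      ((Units.coeHom (AddMonoidAlgebra Λ (M ⧸ B₀) ⧸ 𝔪)).comp (QuotientGroup.kerLift f₁)) := by
    intro x y h
    exact QuotientGroup.kerLift_injective f₁ (Units.ext h)
  have hcyc : IsCyclic (Multiplicative (M ⧸ B₀) ⧸ f₁.ker) :=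
    isCyclic_of_injective_ringHom _ hinj
  let θ : Multiplicative (M ⧸ B₀) →* Multiplicative (M ⧸ B) :=
    AddMonoidHom.toMultiplicative (phi B₀ B hle)
  have hθ : f₁.ker ≤ θ.ker := by
    intro a ha
    rw [MonoidHom.mem_ker] at ha ⊢
    have h1 : Multiplicative.toAdd a ∈ H := (hf₁ a).mp ha
    rw [← hker] at h1
    have h2 : phi B₀ B hle (Multiplicative.toAdd a) = 0 := h1
    show Multiplicative.ofAdd (phi B₀ B hle (Multiplicative.toAdd a)) = 1
    rw [h2]; rfl
  have hsurj : Function.Surjective (QuotientGroup.lift f₁.ker θ hθ) := by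
    intro c
    obtain ⟨a, ha⟩ := phi_surj B₀ B hle (Multiplicative.toAdd c)
    refine ⟨QuotientGroup.mk (Multiplicative.ofAdd a), ?_⟩
    rw [QuotientGroup.lift_mk]
    show Multiplicative.ofAdd (phi B₀ B hle a) = c
    rw [ha]; rfl
  have : IsCyclic (Multiplicative (M ⧸ B)) := isCyclic_of_surjective _ hsurj
  exact isCyclic_multiplicative_iff.mp this

end



/-- Let `M` be a commutative group, `B₀` a subgroup of finite index and `Λ` a commutative ring in which
the index of `B₀` is invertible. Then the `Λ[M]`-linear map from `Λ[M ⧸ B₀]` to the product, over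
the subgroups `B ⊇ B₀` with `M ⧸ B` cyclic, of the localizations of `Λ[M ⧸ B₀]` at the
multiplicative subsets of `Λ[M]` of elements with image `1` in `Λ[M ⧸ B]/(Φ_{|M/B|})`, with
components the localization maps, is bijective. (In terms of group schemes: for a finite closed
subgroup T' = D(M/B₀) of the diagonalizable group with character group `M`, the representation ring
of T' with coefficients in `Λ` is the product of its localizations at the dual cyclic subgroups of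
T'. The published statement has a split torus and `Λ = ℤ[1/|T'|]`; here `M` is any commutative group
and `Λ` any commutative ring in which the order of T' is invertible.) -/
theorem result (Λ : Type u) [CommRing Λ]
    (M : Type v) [AddCommGroup M] (B₀ : AddSubgroup M) [B₀.FiniteIndex]
    (hu : IsUnit ((B₀.index : ℕ) : Λ)) :
    Function.Bijective (LinearMap.pi (R := AddMonoidAlgebra Λ M)
      fun B : {B : AddSubgroup M // B₀ ≤ B ∧ IsAddCyclic (M ⧸ B)} =>
        LocalizedModule.mkLinearMap (W4c6equivkfinstab.locSubmonoid Λ M B.1)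
          (AddMonoidAlgebra Λ (M ⧸ B₀))) := by
  classical
  have hfin : Finite (M ⧸ B₀) := AddSubgroup.finite_quotient_of_finiteIndex
  let _ : Fintype (M ⧸ B₀) := Fintype.ofFinite _
  obtain ⟨ν, hν⟩ := hu.exists_left_inv
  have hN : ∀ a : M ⧸ B₀, (B₀.index) • a = 0 := fun a => card_nsmul_eq_zero'
  -- the index type
  have hJfin : Finite {B : AddSubgroup M // B₀ ≤ B ∧ IsAddCyclic (M ⧸ B)} := by
    apply Finite.of_injective
      (fun B : {B : AddSubgroup M // B₀ ≤ B ∧ IsAddCyclic (M ⧸ B)} =>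
        (((phi B₀ B.1 B.2.1).ker : AddSubgroup (M ⧸ B₀)) : Set (M ⧸ B₀)))
    intro B B' h
    apply Subtype.ext
    exact ker_phi_injective B₀ B.1 B'.1 B.2.1 B'.2.1 (SetLike.coe_injective h)
  let _ : Fintype {B : AddSubgroup M // B₀ ≤ B ∧ IsAddCyclic (M ⧸ B)} := Fintype.ofFinite _
  -- the idempotents
  set ε : {B : AddSubgroup M // B₀ ≤ B ∧ IsAddCyclic (M ⧸ B)} → AddMonoidAlgebra Λ (M ⧸ B₀) :=
    fun B => eps Λ (M ⧸ B₀) B₀.index ν (phi B₀ B.1 B.2.1).ker with hε
  have hCu : ∀ B : {B : AddSubgroup M // B₀ ≤ B ∧ IsAddCyclic (M ⧸ B)},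
      IsUnit ((Nat.card (M ⧸ B.1) : ℕ) : Λ) := by
    intro B
    obtain ⟨q, hq⟩ := AddSubgroup.card_dvd_of_surjective (phi B₀ B.1 B.2.1) (phi_surj B₀ B.1 B.2.1)
    have h1 : ((B₀.index : ℕ) : Λ) = ((Nat.card (M ⧸ B.1) : ℕ) : Λ) * ((q : ℕ) : Λ) := by
      rw [← Nat.cast_mul, ← hq]; rfl
    rw [h1] at hu
    exact (IsUnit.mul_iff.mp hu).1
  have P1 : ∀ (B : {B : AddSubgroup M // B₀ ≤ B ∧ IsAddCyclic (M ⧸ B)}) (t : AddMonoidAlgebra Λ M),
      W4c6equivkfinstab.quotMap Λ M B₀ t = ε B → t ∈ W4c6equivkfinstab.locSubmonoid Λ M B.1 := by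
    intro B t ht
    show Ideal.Quotient.mk _ (W4c6equivkfinstab.quotMap Λ M B.1 t) = 1
    rw [← quotMap_comp Λ B₀ B.1 B.2.1, ht]
    have hcyc : IsAddCyclic (M ⧸ B.1) := B.2.2
    have hfinB : Finite (M ⧸ B.1) := Finite.of_surjective _ (phi_surj B₀ B.1 B.2.1)
    exact mk_map_eps hN hν (phi B₀ B.1 B.2.1) (hCu B)
  have P2 : ∀ (B : {B : AddSubgroup M // B₀ ≤ B ∧ IsAddCyclic (M ⧸ B)}),
      ∀ s ∈ W4c6equivkfinstab.locSubmonoid Λ M B.1,
      ε B * W4c6equivkfinstab.quotMap Λ M B₀ s = ε B := by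
    intro B s hs
    have h1 : Ideal.Quotient.mk (W4c6equivkfinstab.cycIdeal Λ (M ⧸ B.1))
        (W4c6equivkfinstab.quotMap Λ M B.1 s) = 1 := hs
    have hfinB : Finite (M ⧸ B.1) := Finite.of_surjective _ (phi_surj B₀ B.1 B.2.1)
    have h2 : AddMonoidAlgebra.mapDomainRingHom Λ (phi B₀ B.1 B.2.1)
        (W4c6equivkfinstab.quotMap Λ M B₀ s - 1) ∈ W4c6equivkfinstab.cycIdeal Λ (M ⧸ B.1) := by
      rw [map_sub, map_one, quotMap_comp, ← Ideal.Quotient.eq_zero_iff_mem, map_sub, map_one,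
        sub_eq_zero]
      exact h1
    have h3 := eps_mul_eq_zero_of_mem hN hν (phi B₀ B.1 B.2.1) (phi_surj B₀ B.1 B.2.1) _ h2
    rw [mul_sub, mul_one, sub_eq_zero] at h3
    exact h3
  have P3 : ∀ B B' : {B : AddSubgroup M // B₀ ≤ B ∧ IsAddCyclic (M ⧸ B)}, B ≠ B' →
      ε B * ε B' = 0 := by
    intro B B' hne
    apply eps_mul_eps_of_ne hN hν
    intro h
    exact hne (Subtype.ext (ker_phi_injective B₀ B.1 B'.1 B.2.1 B'.2.1 h))
  have Pidem : ∀ B : {B : AddSubgroup M // B₀ ≤ B ∧ IsAddCyclic (M ⧸ B)}, ε B * ε B = ε B :=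
    fun B => eps_idem hN hν _
  have P4 : ∑ B : {B : AddSubgroup M // B₀ ≤ B ∧ IsAddCyclic (M ⧸ B)}, ε B = 1 := by
    have h := sum_eps_eq_one hN hν
      (Finset.univ.image (fun B : {B : AddSubgroup M // B₀ ≤ B ∧ IsAddCyclic (M ⧸ B)} =>
        (phi B₀ B.1 B.2.1).ker)) ?_
    · rw [Finset.sum_image] at h
      · exact h
      · intro B _ B' _ hBB'
        exact Subtype.ext (ker_phi_injective B₀ B.1 B'.1 B.2.1 B'.2.1 hBB')
    · intro 𝔪 hmax
      obtain ⟨B, hle, hcyc, hker⟩ := exists_cyclic_of_maximal Λ B₀ 𝔪 hmax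
      rw [← hker]
      exact Finset.mem_image.mpr ⟨⟨B, hle, hcyc⟩, Finset.mem_univ _, rfl⟩
  -- lifts of the idempotents to the group ring of `M`
  have hlift : ∀ B : {B : AddSubgroup M // B₀ ≤ B ∧ IsAddCyclic (M ⧸ B)},
      ∃ t : AddMonoidAlgebra Λ M, W4c6equivkfinstab.quotMap Λ M B₀ t = ε B :=
    fun B => quotMap_surjective Λ M B₀ (ε B)
  choose t ht using hlift
  constructor
  · -- injectivity
    rw [injective_iff_map_eq_zero]
    intro x hx
    have hB : ∀ B : {B : AddSubgroup M // B₀ ≤ B ∧ IsAddCyclic (M ⧸ B)}, ε B * x = 0 := by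
      intro B
      have h1 : LocalizedModule.mkLinearMap (W4c6equivkfinstab.locSubmonoid Λ M B.1)
          (AddMonoidAlgebra Λ (M ⧸ B₀)) x = 0 := congrFun hx B
      obtain ⟨r, hr, hrx⟩ := LocalizedModule.mem_ker_mkLinearMap_iff.mp (LinearMap.mem_ker.mpr h1)
      rw [smul_eq] at hrx
      rw [← P2 B r hr, mul_assoc, hrx, mul_zero]
    calc x = (∑ B : {B : AddSubgroup M // B₀ ≤ B ∧ IsAddCyclic (M ⧸ B)}, ε B) * x := by
          rw [P4, one_mul]
      _ = 0 := by
          rw [Finset.sum_mul]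
          exact Finset.sum_eq_zero (fun B _ => hB B)
  · -- surjectivity
    intro y
    have hy : ∀ B : {B : AddSubgroup M // B₀ ≤ B ∧ IsAddCyclic (M ⧸ B)},
        ∃ p : AddMonoidAlgebra Λ (M ⧸ B₀) × (W4c6equivkfinstab.locSubmonoid Λ M B.1),
          LocalizedModule.mk p.1 p.2 = y B := by
      intro B
      induction y B using LocalizedModule.induction_on with
      | h m s => exact ⟨(m, s), rfl⟩
    choose p hp using hy
    refine ⟨∑ B : {B : AddSubgroup M // B₀ ≤ B ∧ IsAddCyclic (M ⧸ B)}, ε B * (p B).1, ?_⟩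
    funext B
    rw [LinearMap.pi_apply, ← hp B, LocalizedModule.mkLinearMap_apply, LocalizedModule.mk_eq]
    refine ⟨⟨t B, P1 B (t B) (ht B)⟩, ?_⟩
    simp only [Submonoid.smul_def, smul_eq, ht, Submonoid.coe_one, map_one, one_mul]
    rw [← mul_assoc, P2 B _ (p B).2.2, Finset.mul_sum, Finset.sum_eq_single B]
    · rw [← mul_assoc, Pidem]
    · intro B' _ hne
      rw [← mul_assoc, P3 B B' (Ne.symm hne), zero_mul]
    · intro h; exact absurd (Finset.mem_univ B) h


end Groth.Agent.S19279
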