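import Groth.Statements.S19280
import Mathlib
import Groth.Agent.Lib.Helper15.MuNConj
import Groth.Agent.Lib.Helper15.DSBridge2

set_option autoImplicit false
universe u
open CategoryTheory MonoidalCategory CartesianMonoidalCategory MonObj GrpObj AlgebraicGeometry
open AlgGrp

namespace Groth.Agent.S19280

open Groth.Agent.Lib.helper15 in
theorem isIso_specMap_of_bijective {R A B : Type u} [CommRing R] [CommRing A] [CommRing B]
    [Algebra R A] [Algebra R B] (α : A →ₐ[R] B) (h : Function.Bijective α) :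
    IsIso (HopfDict.specMap α) := by
  have h0 : IsIso (CommRingCat.ofHom α.toRingHom) :=
    (ConcreteCategory.isIso_iff_bijective _).mpr h
  have h1 : IsIso (Spec.map (CommRingCat.ofHom α.toRingHom)) := inferInstance
  have h2 : IsIso ((Over.forget _).map (HopfDict.specMap α)) := h1
  exact isIso_of_reflects_iso _ (Over.forget _)

theorem mono_pullback_map {S S' : Scheme.{u}} (f : S' ⟶ S) {X Y : Over S} (j : X ⟶ Y) [Mono j] :
    Mono ((Over.pullback f).map j) := by
  have : (Over.pullback f).PreservesMonomorphisms :=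
    Functor.preservesMonomorphisms_of_adjunction (Over.mapPullbackAdj f)
  infer_instance

/-- Let `k` be a field with an algebraic closure `K`, `m ≥ 0`, `n > 0`, and let `σ`, `τ` be closed
subgroup schemes of `GL_{m,k}`, each isomorphic as a `k`-group scheme to `μ_n = D(ℤ/n)`. If after
base change to `K` there are a `K`-point `g` of `GL_m` and an isomorphism `σ_K ≅ τ_K` through which
conjugation by `g` carries the inclusion of `σ_K` to that of `τ_K`, then there are already a
`k`-rational point of `GL_{m,k}` and an isomorphism `σ ≅ τ` with the same property. (This is the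
first of the two rationality conditions, stated for all dual cyclic subgroups rather than only for
those with a fixed point on a given algebraic space, which is what the printed argument establishes
and which gives the printed statement for every action of `GL_m`.) -/
theorem result (k : Type u) [Field k]
    (K : Type u) [Field K] [Algebra k K] [IsAlgClosure k K] (m n : ℕ) (hn : 0 < n)
    (σ τ : Over (Spec (CommRingCat.of k))) [GrpObj σ] [GrpObj τ]
    (i : σ ⟶ CoactBr.sp k (CoordGrp.GLn m k)) (j : τ ⟶ CoactBr.sp k (CoordGrp.GLn m k))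
    [IsMonHom i] [IsMonHom j] (hi : IsClosedImmersion i.left) (hj : IsClosedImmersion j.left)
    (hσ : Red.IsSplitTorusWith (ZMod n) σ) (hτ : Red.IsSplitTorusWith (ZMod n) τ)
    (h : ∃ (g : 𝟙_ (Over (Spec (CommRingCat.of K))) ⟶
        Red.bc (Spec.map (CommRingCat.ofHom (algebraMap k K))) (CoactBr.sp k (CoordGrp.GLn m k)))
      (φ : Red.bc (Spec.map (CommRingCat.ofHom (algebraMap k K))) σ ≅
        Red.bc (Spec.map (CommRingCat.ofHom (algebraMap k K))) τ),
      AGF.conjBy g ((Over.pullback (Spec.map (CommRingCat.ofHom (algebraMap k K)))).map i) =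
        φ.hom ≫ (Over.pullback (Spec.map (CommRingCat.ofHom (algebraMap k K)))).map j) :
    ∃ (g : 𝟙_ (Over (Spec (CommRingCat.of k))) ⟶ CoactBr.sp k (CoordGrp.GLn m k)) (φ : σ ≅ τ),
      AGF.conjBy g i = φ.hom ≫ j := by
  classical
  have : NeZero n := ⟨hn.ne'⟩
  obtain ⟨g, φ, hgφ⟩ := h
  obtain ⟨eσ, heσ1, heσ2⟩ := Groth.Agent.Lib.helper15.HopfDict.exists_iso_of_grpIso hσ.some
  obtain ⟨eτ, heτ1, heτ2⟩ := Groth.Agent.Lib.helper15.HopfDict.exists_iso_of_grpIso hτ.some
  obtain ⟨b, hb1, hb2, -⟩ := Groth.Agent.Lib.helper15.DSBridge.exists_bridge k (ZMod n)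
  -- the two charts `Spec k[M] ≅ σ, τ`
  let cσ : Groth.Agent.Lib.helper15.HopfDict.GA k (MonoidAlgebra k (Multiplicative (ZMod n))) ≅ σ :=
    b.symm ≪≫ eσ.symm
  let cτ : Groth.Agent.Lib.helper15.HopfDict.GA k (MonoidAlgebra k (Multiplicative (ZMod n))) ≅ τ :=
    b.symm ≪≫ eτ.symm
  have hcσ : IsMonHom cσ.hom := by
    change IsMonHom (b.inv ≫ eσ.inv)
    infer_instance
  have hcτ : IsMonHom cτ.hom := by
    change IsMonHom (b.inv ≫ eτ.inv)
    infer_instance
  obtain ⟨ρσ, hρσ⟩ := Groth.Agent.Lib.helper15.HopfDict.exists_bialgHom_of_isMonHom (cσ.hom ≫ i)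
  obtain ⟨ρτ, hρτ⟩ := Groth.Agent.Lib.helper15.HopfDict.exists_bialgHom_of_isMonHom (cτ.hom ≫ j)
  -- `φ.hom` is a homomorphism
  let F := Over.pullback (Spec.map (CommRingCat.ofHom (algebraMap k K)))
  have hmonoj : Mono j := by
    have : Mono j.left := inferInstance
    exact Over.mono_of_mono_left j
  have hmonoFj : Mono (F.map j) := mono_pullback_map _ j
  have hFj : IsMonHom (F.map j) := inferInstance
  have hFi : IsMonHom (F.map i) := inferInstance
  have hφj : IsMonHom (φ.hom ≫ F.map j) := by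
    rw [← hgφ]
    infer_instance
  have hφ : IsMonHom φ.hom := Groth.Agent.Lib.helper15.GrpPtsLemmas.isMonHom_of_comp_mono φ.hom (F.map j)
  -- the automorphism of `(Spec k[M])_K`
  let φ₁ := F.map cσ.hom ≫ φ.hom ≫ F.map cτ.inv
  have hcτinv : IsMonHom cτ.inv := inferInstance
  have hφ₁ : IsMonHom φ₁ := inferInstance
  have hφ₁iso : IsIso φ₁ := inferInstance
  have hcore : AGF.conjBy g (F.map (Groth.Agent.Lib.helper15.HopfDict.specMap
        (ρσ : CoordGrp.GLn m k →ₐ[k] MonoidAlgebra k (Multiplicative (ZMod n))))) =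
      φ₁ ≫ F.map (Groth.Agent.Lib.helper15.HopfDict.specMap
        (ρτ : CoordGrp.GLn m k →ₐ[k] MonoidAlgebra k (Multiplicative (ZMod n)))) := by
    rw [← hρσ, ← hρτ, F.map_comp, F.map_comp,
      ← Groth.Agent.Lib.helper15.GrpPtsLemmas.comp_conjBy, hgφ]
    simp only [φ₁, Category.assoc]
    rw [← F.map_comp_assoc cτ.inv cτ.hom, Iso.inv_hom_id, F.map_id, Category.id_comp]
  obtain ⟨g₀, r, hg₀⟩ := Groth.Agent.Lib.helper15.MuNConj.core ρσ ρτ g φ₁ hcore
  -- the automorphism of `Spec k[M]` over `k`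
  let ψ := Groth.Agent.Lib.helper15.HopfDict.specMap
    (MonoidAlgebra.mapDomainAlgHom k k (r : Multiplicative (ZMod n) →* Multiplicative (ZMod n)))
  have hψ : IsIso ψ := by
    apply isIso_specMap_of_bijective
    exact (MonoidAlgebra.mapDomainRingEquiv k r).bijective
  refine ⟨g₀, cσ.symm ≪≫ asIso ψ ≪≫ cτ, ?_⟩
  have h1 : cσ.hom ≫ AGF.conjBy g₀ i = ψ ≫ cτ.hom ≫ j := by
    rw [Groth.Agent.Lib.helper15.GrpPtsLemmas.comp_conjBy, hρσ, hρτ]
    exact hg₀
  change AGF.conjBy g₀ i = (cσ.inv ≫ ψ ≫ cτ.hom) ≫ j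
  rw [Category.assoc, Category.assoc, ← h1, Iso.inv_hom_id_assoc]

end Groth.Agent.S19280
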