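import Groth.Statements.S19281
import Mathlib
import Groth.Agent.Lib.Helper15.MuNDesc
import Groth.Agent.Lib.Helper15.DSBridge2

set_option autoImplicit false
universe u
open CategoryTheory MonoidalCategory CartesianMonoidalCategory MonObj GrpObj AlgebraicGeometry
open AlgGrp

namespace Groth.Agent.S19281

theorem surjective_of_isClosedImmersion_specMap {R S : Type u} [CommRing R] [CommRing S]
    (φ : R →+* S) (h : IsClosedImmersion (Spec.map (CommRingCat.ofHom φ))) :
    Function.Surjective φ := by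
  have h1 := (IsClosedImmersion.isAffine_surjective_of_isAffine
    (Spec.map (CommRingCat.ofHom φ))).2
  have h2 := Scheme.ΓSpecIso_naturality (CommRingCat.ofHom φ)
  intro s
  obtain ⟨t, ht⟩ := h1 ((Scheme.ΓSpecIso (CommRingCat.of S)).inv s)
  refine ⟨(Scheme.ΓSpecIso (CommRingCat.of R)).hom t, ?_⟩
  have h3 := congrArg (fun f => f.hom t) h2
  simp only [CommRingCat.hom_comp, RingHom.comp_apply] at h3
  change (CommRingCat.ofHom φ).hom ((Scheme.ΓSpecIso (CommRingCat.of R)).hom t) = s
  rw [← h3, ht]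
  exact Iso.inv_hom_id_apply (C := CommRingCat) _ _

/-- Let `k` be a field with an algebraic closure `K`, `m ≥ 0`, `n > 0`, and let `σ'` be a closed
subgroup scheme of the base change of `GL_{m,k}` to `K` which is isomorphic as a `K`-group scheme to
`μ_n = D(ℤ/n)`. Then there are a closed subgroup scheme `σ` of `GL_{m,k}` isomorphic to `μ_n` over
`k`, a `K`-point `g` of `GL_m` and an isomorphism `σ' ≅ σ_K` through which conjugation by `g`
carries the inclusion of `σ'` to the base change of the inclusion of `σ`. (This is the second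
rationality condition, stated for all dual cyclic subgroups rather than only for those with a fixed
point on a given algebraic space, which is what the printed argument establishes and which gives the
printed statement for every action of `GL_m`.) -/
theorem result (k : Type u) [Field k]
    (K : Type u) [Field K] [Algebra k K] [IsAlgClosure k K] (m n : ℕ) (hn : 0 < n)
    (σ' : Over (Spec (CommRingCat.of K))) [GrpObj σ']
    (i' : σ' ⟶ Red.bc (Spec.map (CommRingCat.ofHom (algebraMap k K))) (CoactBr.sp k (CoordGrp.GLn m k)))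
    [IsMonHom i'] (hi' : IsClosedImmersion i'.left) (hσ' : Red.IsSplitTorusWith (ZMod n) σ') :
    ∃ (σ : Over (Spec (CommRingCat.of k))) (_ : GrpObj σ) (i : σ ⟶ CoactBr.sp k (CoordGrp.GLn m k))
      (_ : IsMonHom i), IsClosedImmersion i.left ∧ Red.IsSplitTorusWith (ZMod n) σ ∧
      ∃ (g : 𝟙_ (Over (Spec (CommRingCat.of K))) ⟶
          Red.bc (Spec.map (CommRingCat.ofHom (algebraMap k K))) (CoactBr.sp k (CoordGrp.GLn m k)))
        (φ : σ' ≅ Red.bc (Spec.map (CommRingCat.ofHom (algebraMap k K))) σ),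
        AGF.conjBy g i' = φ.hom ≫ (Over.pullback (Spec.map (CommRingCat.ofHom (algebraMap k K)))).map i := by
  classical
  have : NeZero n := ⟨hn.ne'⟩
  obtain ⟨eσ', heσ1, heσ2⟩ := Groth.Agent.Lib.helper15.HopfDict.exists_iso_of_grpIso hσ'.some
  obtain ⟨bK, hbK1, hbK2, -⟩ := Groth.Agent.Lib.helper15.DSBridge.exists_bridge K (ZMod n)
  obtain ⟨b, hb1, hb2, -⟩ := Groth.Agent.Lib.helper15.DSBridge.exists_bridge k (ZMod n)
  -- the chart `Spec K[M] ≅ σ'`
  let c' : Groth.Agent.Lib.helper15.HopfDict.GA K (MonoidAlgebra K (Multiplicative (ZMod n))) ≅ σ' :=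
    bK.symm ≪≫ eσ'.symm
  have hc' : IsMonHom c'.hom := by
    change IsMonHom (bK.inv ≫ eσ'.inv)
    infer_instance
  have hc'inv : IsMonHom c'.inv := inferInstance
  let xG := Groth.Agent.Lib.helper15.MuNConj.xG k K m
  let xD := Groth.Agent.Lib.helper15.MuNConj.xD k K (Multiplicative (ZMod n))
  have hxG : IsMonHom xG.hom :=
    (inferInstance : IsMonHom (Groth.Agent.Lib.helper15.MuNConj.xG k K m).hom)
  have hxGinv : IsMonHom xG.inv := inferInstance
  let j' : Groth.Agent.Lib.helper15.HopfDict.GA K (MonoidAlgebra K (Multiplicative (ZMod n))) ⟶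
      Groth.Agent.Lib.helper15.HopfDict.GA K (TensorProduct k K (CoordGrp.GLn m k)) :=
    c'.hom ≫ i' ≫ xG.inv
  have hj' : IsMonHom j' := inferInstance
  obtain ⟨ρ', hρ'⟩ := Groth.Agent.Lib.helper15.HopfDict.exists_bialgHom_of_isMonHom j'
  -- `ρ'` is surjective
  have hsurj : Function.Surjective ρ' := by
    have h1 : IsClosedImmersion j'.left := by
      change IsClosedImmersion (c'.hom.left ≫ i'.left ≫ xG.inv.left)
      have : IsIso c'.hom.left := (inferInstance : IsIso ((Over.forget _).map c'.hom))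
      have : IsIso xG.inv.left := (inferInstance : IsIso ((Over.forget _).map xG.inv))
      infer_instance
    rw [hρ'] at h1
    exact surjective_of_isClosedImmersion_specMap
      (ρ' : TensorProduct k K (CoordGrp.GLn m k) →ₐ[K] MonoidAlgebra K (Multiplicative (ZMod n))).toRingHom h1
  obtain ⟨c, gm, hsurjρ, hconj⟩ := Groth.Agent.Lib.helper15.MuNDesc.core2 ρ' hsurj
  -- the descended subgroup
  let ρ : CoordGrp.GLn m k →ₐc[k] MonoidAlgebra k (Multiplicative (ZMod n)) :=
    Groth.Agent.Lib.helper15.MuNDesc.diagM k c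
  have hρmon : IsMonHom (Groth.Agent.Lib.helper15.HopfDict.specMap
      (ρ : CoordGrp.GLn m k →ₐ[k] MonoidAlgebra k (Multiplicative (ZMod n)))) :=
    Groth.Agent.Lib.helper15.DSMap.isMonHom_specMap ρ
  let i : Red.DS (Spec (CommRingCat.of k)) (ZMod n) ⟶ CoactBr.sp k (CoordGrp.GLn m k) :=
    b.hom ≫ Groth.Agent.Lib.helper15.HopfDict.specMap
      (ρ : CoordGrp.GLn m k →ₐ[k] MonoidAlgebra k (Multiplicative (ZMod n)))
  have hi : IsMonHom i := inferInstance
  let F := Over.pullback (Spec.map (CommRingCat.ofHom (algebraMap k K)))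
  refine ⟨Red.DS (Spec (CommRingCat.of k)) (ZMod n), inferInstance, i, hi, ?_, ⟨Iso.refl _⟩,
    Groth.Agent.Lib.helper15.HopfPtsSch.ptOf gm ≫ xG.hom,
    c'.symm ≪≫ xD ≪≫ F.mapIso b.symm, ?_⟩
  · change IsClosedImmersion (b.hom.left ≫ Spec.map (CommRingCat.ofHom
      (ρ : CoordGrp.GLn m k →ₐ[k] MonoidAlgebra k (Multiplicative (ZMod n))).toRingHom))
    have hA : IsIso b.hom.left := (inferInstance : IsIso ((Over.forget _).map b.hom))
    have hB : IsClosedImmersion (Spec.map (CommRingCat.ofHom
        (ρ : CoordGrp.GLn m k →ₐ[k] MonoidAlgebra k (Multiplicative (ZMod n))).toRingHom)) :=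
      IsClosedImmersion.spec_of_surjective _ hsurjρ
    have hA' : IsClosedImmersion b.hom.left := inferInstance
    exact @IsClosedImmersion.comp _ _ _ _ _ hA' hB
  · have h1 : c'.hom ≫ i' = Groth.Agent.Lib.helper15.HopfDict.specMap
        (ρ' : TensorProduct k K (CoordGrp.GLn m k) →ₐ[K] MonoidAlgebra K (Multiplicative (ZMod n))) ≫
          xG.hom := by
      rw [← hρ']
      simp only [j', Category.assoc, Iso.inv_hom_id, Category.comp_id]
    have h2 : c'.hom ≫ AGF.conjBy (Groth.Agent.Lib.helper15.HopfPtsSch.ptOf gm ≫ xG.hom) i' =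
        xD.hom ≫ F.map (Groth.Agent.Lib.helper15.HopfDict.specMap
          (ρ : CoordGrp.GLn m k →ₐ[k] MonoidAlgebra k (Multiplicative (ZMod n)))) := by
      rw [Groth.Agent.Lib.helper15.GrpPtsLemmas.comp_conjBy, h1]
      have h2a := Groth.Agent.Lib.helper15.GrpPtsLemmas.conjBy_comp
        (Groth.Agent.Lib.helper15.HopfPtsSch.ptOf gm)
        (Groth.Agent.Lib.helper15.HopfDict.specMap
          (ρ' : TensorProduct k K (CoordGrp.GLn m k) →ₐ[K] MonoidAlgebra K (Multiplicative (ZMod n))))
        (Groth.Agent.Lib.helper15.MuNConj.xG k K m).hom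
      refine h2a.symm.trans ?_
      rw [hconj]
      exact (Groth.Agent.Lib.helper15.MuNConj.xD_natural k K m (Multiplicative (ZMod n)) _).symm
    change _ = (c'.inv ≫ xD.hom ≫ F.map b.inv) ≫ F.map i
    rw [Category.assoc, Category.assoc, ← F.map_comp]
    have h3 : b.inv ≫ i = Groth.Agent.Lib.helper15.HopfDict.specMap
        (ρ : CoordGrp.GLn m k →ₐ[k] MonoidAlgebra k (Multiplicative (ZMod n))) := by
      simp only [i, Iso.inv_hom_id_assoc]
    rw [h3, ← h2, Iso.inv_hom_id_assoc]

end Groth.Agent.S19281
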