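import Groth.Statements.S19284
import Groth.Agent.Lib.Helper12.AffCore
set_option linter.style.haveILetI false
set_option linter.unusedSectionVars false

set_option autoImplicit false
universe u
open NumberField

namespace Groth.Agent.S19284

/-- Let L/K be a finite extension of number fields and Ω an algebraic closure of K. Suppose that L/K is
almost abelian in the non-abelian way: for some prime number p there is a bijection between the set
of K-embeddings L → Ω and Z/p under which every K-automorphism of Ω acts by an affine transformation
x ↦ a x + b with a ≠ 0, and L/K is not an abelian extension (it is not Galois with commutative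
automorphism group). Then there is an intermediate extension K ⊂ E ⊂ Ω contained in the normal
closure of L, Galois over K with nontrivial cyclic group, such that for every finite place w of K
which is unramified in L (every prime of the integers of L above w has ramification index 1), either
E admits a K-algebra embedding into the completion K_w (since E/K is Galois: w splits completely in
E) or L admits a K-algebra embedding into K_w (L has a place of degree 1 over w). (Only finite
places are treated here.) -/
theorem result (K L Ω : Type u) [Field K] [NumberField K]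
    [Field L] [NumberField L] [Algebra K L] [Field Ω] [Algebra K Ω] [IsAlgClosure K Ω]
    (p : ℕ) (hp : p.Prime) (e : (L →ₐ[K] Ω) ≃ ZMod p)
    (haff : ∀ σ : Ω ≃ₐ[K] Ω, ∃ a b : ZMod p, a ≠ 0 ∧
      ∀ φ : L →ₐ[K] Ω, e (σ.toAlgHom.comp φ) = a * e φ + b)
    (hnab : IsGalois K L → ∃ σ τ : L ≃ₐ[K] L, σ * τ ≠ τ * σ) :
    ∃ E : IntermediateField K Ω, E ≤ IntermediateField.normalClosure K L Ω ∧
      FiniteDimensional K E ∧ IsGalois K E ∧ IsCyclic (E ≃ₐ[K] E) ∧ 1 < Module.finrank K E ∧
      ∀ w : IsDedekindDomain.HeightOneSpectrum (NumberField.RingOfIntegers K),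
        (∀ P : Ideal (NumberField.RingOfIntegers L), P.IsPrime → P.LiesOver w.asIdeal →
          P.ramificationIdx (NumberField.RingOfIntegers K) = 1) →
        Nonempty (E →ₐ[K] w.adicCompletion K) ∨ Nonempty (L →ₐ[K] w.adicCompletion K) := by
  classical
  haveI : Fact p.Prime := ⟨hp⟩
  have hex := Groth.Agent.Lib.helper12.AffGalois.exists_linN_ne_one e haff hnab
  obtain ⟨hfd, hgal, hcyc, hrank⟩ := Groth.Agent.Lib.helper12.AffGalois.lift_props
    (Groth.Agent.Lib.helper12.AffGalois.E₀ e haff)
    (Groth.Agent.Lib.helper12.AffGalois.isCyclic_E₀ e haff)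
    (Groth.Agent.Lib.helper12.AffGalois.one_lt_finrank_E₀ e haff hex)
  refine ⟨IntermediateField.lift (Groth.Agent.Lib.helper12.AffGalois.E₀ e haff),
    IntermediateField.lift_le _, hfd, hgal, hcyc, hrank, fun w hw => ?_⟩
  rcases Groth.Agent.Lib.helper12.AffCore.arith e haff w hw with h | h
  · left
    obtain ⟨f⟩ := h
    exact ⟨f.comp (IntermediateField.liftAlgEquiv
      (Groth.Agent.Lib.helper12.AffGalois.E₀ e haff)).symm.toAlgHom⟩
  · right
    exact h

end Groth.Agent.S19284
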