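import Groth.Statements.S19285
import Groth.Agent.Lib.Helper12.HWCaseA
import Groth.Agent.Lib.Helper12.HWCaseB
import Groth.Agent.Lib.Helper12.HWCaseC
import Groth.Agent.Lib.Helper12.HWSplitAll
set_option linter.style.haveILetI false
set_option linter.unusedSectionVars false

set_option autoImplicit false
universe u
open scoped TensorProduct
open NumberField

namespace Groth.Agent.S19285

/-- A conjectured statement on locally split values of the polynomials t − a_i holds unconditionally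
when the degrees [k_i : k] sum to at most 2. Precisely: let k be a number field, n ≥ 1, and for each
i let k_i = k(a_i) be a finite extension generated by a_i, the minimal polynomials of the a_i over k
being pairwise distinct and the degrees [k_i : k] summing to at most 2; let L_i/k_i be finite
extensions and b_i ∈ k_i nonzero. Let S_f, S_∞ be finite sets of finite and infinite places of k
such that S_∞ contains every real place and S_f contains every finite place of k below a finite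
place of some k_i at which b_i is not a unit or below a prime of some L_i ramified over k_i. For v ∈
S_f ∪ S_∞ let t_v ∈ k_v, with an open neighbourhood U_v, be such that for every i the element b_i
(t_v − a_i) of k_v ⊗_k k_i is the norm of a unit of the (k_v ⊗_k k_i)-algebra k_v ⊗_k L_i. Then
there is t_0 ∈ k whose image lies in U_v for all v ∈ S_f ∪ S_∞ and such that for every i and every
finite place w of k_i at which t_0 − a_i has positive valuation, either w lies above a place of S_f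
or L_i admits a k_i-algebra embedding into the completion (k_i)_w (a place of L_i of degree 1 over
w). -/
theorem result (k : Type u) [Field k] [NumberField k]
    (n : ℕ) (hn : 1 ≤ n)
    (kf : Fin n → Type u) [∀ i, Field (kf i)] [∀ i, NumberField (kf i)] [∀ i, Algebra k (kf i)]
    (Lf : Fin n → Type u) [∀ i, Field (Lf i)] [∀ i, NumberField (Lf i)] [∀ i, Algebra (kf i) (Lf i)]
    [∀ i, Algebra k (Lf i)] [∀ i, IsScalarTower k (kf i) (Lf i)]
    (a : (i : Fin n) → kf i) (ha : ∀ i, IntermediateField.adjoin k {a i} = ⊤)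
    (hdist : ∀ i j, i ≠ j → minpoly k (a i) ≠ minpoly k (a j))
    (hdeg : ∑ i, Module.finrank k (kf i) ≤ 2)
    (b : (i : Fin n) → kf i) (hb : ∀ i, b i ≠ 0)
    (Sf : Finset (IsDedekindDomain.HeightOneSpectrum (NumberField.RingOfIntegers k)))
    (Si : Finset (NumberField.InfinitePlace k))
    (hSreal : ∀ w : NumberField.InfinitePlace k, w.IsReal → w ∈ Si)
    (hSb : ∀ i, ∀ W : IsDedekindDomain.HeightOneSpectrum (NumberField.RingOfIntegers (kf i)),
      W.valuation (kf i) (b i) ≠ 1 → ∃ v ∈ Sf, W.asIdeal.LiesOver v.asIdeal)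
    (hSram : ∀ i, ∀ Q : Ideal (NumberField.RingOfIntegers (Lf i)), Q.IsPrime → Q ≠ ⊥ →
      Q.ramificationIdx (NumberField.RingOfIntegers (kf i)) ≠ 1 → ∃ v ∈ Sf, Q.LiesOver v.asIdeal)
    (tf : (v : IsDedekindDomain.HeightOneSpectrum (NumberField.RingOfIntegers k)) → v.adicCompletion k)
    (ti : (w : NumberField.InfinitePlace k) → w.Completion)
    (htf : ∀ i, ∀ v ∈ Sf,
      letI := (Algebra.TensorProduct.map (AlgHom.id k (v.adicCompletion k))
        (IsScalarTower.toAlgHom k (kf i) (Lf i))).toRingHom.toAlgebra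
      ∃ x : (v.adicCompletion k) ⊗[k] Lf i, IsUnit x ∧
        Algebra.norm ((v.adicCompletion k) ⊗[k] kf i) x =
          (1 : v.adicCompletion k) ⊗ₜ[k] b i * (tf v ⊗ₜ[k] (1 : kf i) - (1 : v.adicCompletion k) ⊗ₜ[k] a i))
    (hti : ∀ i, ∀ w ∈ Si,
      letI := (Algebra.TensorProduct.map (AlgHom.id k w.Completion)
        (IsScalarTower.toAlgHom k (kf i) (Lf i))).toRingHom.toAlgebra
      ∃ x : w.Completion ⊗[k] Lf i, IsUnit x ∧
        Algebra.norm (w.Completion ⊗[k] kf i) x =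
          (1 : w.Completion) ⊗ₜ[k] b i * (ti w ⊗ₜ[k] (1 : kf i) - (1 : w.Completion) ⊗ₜ[k] a i))
    (Uf : (v : IsDedekindDomain.HeightOneSpectrum (NumberField.RingOfIntegers k)) → Set (v.adicCompletion k))
    (hUf : ∀ v ∈ Sf, IsOpen (Uf v) ∧ tf v ∈ Uf v)
    (Ui : (w : NumberField.InfinitePlace k) → Set w.Completion)
    (hUi : ∀ w ∈ Si, IsOpen (Ui w) ∧ ti w ∈ Ui w) :
    ∃ t₀ : k, (∀ v ∈ Sf, algebraMap k (v.adicCompletion k) t₀ ∈ Uf v) ∧
      (∀ w ∈ Si, algebraMap k w.Completion t₀ ∈ Ui w) ∧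
      ∀ i, ∀ W : IsDedekindDomain.HeightOneSpectrum (NumberField.RingOfIntegers (kf i)),
        W.valuation (kf i) (algebraMap k (kf i) t₀ - a i) < 1 →
          (∃ v ∈ Sf, W.asIdeal.LiesOver v.asIdeal) ∨ Nonempty (Lf i →ₐ[kf i] W.adicCompletion (kf i)) := by
  classical
  have hpos : ∀ i, 1 ≤ Module.finrank k (kf i) := fun i => Module.finrank_pos
  have hsplitAll := fun S' => Groth.Agent.Lib.helper12.HWSplitAll.exists_split_all k n kf Lf S'
  have hn2 : n ≤ 2 := by
    calc n = ∑ _i : Fin n, 1 := by simp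
      _ ≤ ∑ i, Module.finrank k (kf i) := Finset.sum_le_sum fun i _ => hpos i
      _ ≤ 2 := hdeg
  rcases (by omega : n = 1 ∨ n = 2) with rfl | rfl
  · -- one field
    have hd : Module.finrank k (kf 0) = 1 ∨ Module.finrank k (kf 0) = 2 := by
      have h1 := hpos 0
      have h2 : Module.finrank k (kf 0) ≤ 2 := by simpa using hdeg
      omega
    have hsp : ∀ S' : Finset (IsDedekindDomain.HeightOneSpectrum (NumberField.RingOfIntegers k)),
        ∃ v₀, v₀ ∉ S' ∧
        ∀ W : IsDedekindDomain.HeightOneSpectrum (NumberField.RingOfIntegers (kf 0)),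
          W.asIdeal.LiesOver v₀.asIdeal → Nonempty (Lf 0 →ₐ[kf 0] W.adicCompletion (kf 0)) := by
      intro S'
      obtain ⟨v₀, hv₀, h⟩ := hsplitAll S'
      exact ⟨v₀, hv₀, h 0⟩
    have htf0 : ∀ v ∈ Sf, ∃ x : (v.adicCompletion k) ⊗[k] Lf 0,
        @Algebra.norm ((v.adicCompletion k) ⊗[k] kf 0) _ _ _
          (Groth.Agent.Lib.helper12.HWRelNorm.relAlg k (v.adicCompletion k) (kf 0) (Lf 0)) x =
          (1 : v.adicCompletion k) ⊗ₜ[k] b 0 *
            (tf v ⊗ₜ[k] (1 : kf 0) - (1 : v.adicCompletion k) ⊗ₜ[k] a 0) := by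
      intro v hv
      obtain ⟨x, -, hx⟩ := htf 0 v hv
      exact ⟨x, hx⟩
    have hti0 : ∀ w ∈ Si, ∃ x : w.Completion ⊗[k] Lf 0,
        @Algebra.norm (w.Completion ⊗[k] kf 0) _ _ _
          (Groth.Agent.Lib.helper12.HWRelNorm.relAlg k w.Completion (kf 0) (Lf 0)) x =
          (1 : w.Completion) ⊗ₜ[k] b 0 *
            (ti w ⊗ₜ[k] (1 : kf 0) - (1 : w.Completion) ⊗ₜ[k] a 0) := by
      intro w hw
      obtain ⟨x, -, hx⟩ := hti 0 w hw
      exact ⟨x, hx⟩
    rcases hd with hd | hd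
    · obtain ⟨t₀, h1, h2, h3⟩ := Groth.Agent.Lib.helper12.HWCaseA.caseA k (kf 0) (Lf 0) (a 0) (ha 0)
        hd (b 0) (hb 0) Sf Si (hSb 0) hsp tf ti htf0 hti0 Uf hUf Ui hUi
      exact ⟨t₀, h1, h2, Fin.forall_fin_one.2 h3⟩
    · obtain ⟨t₀, h1, h2, h3⟩ := Groth.Agent.Lib.helper12.HWCaseB.caseB k (kf 0) (Lf 0) (a 0) (ha 0)
        hd (b 0) (hb 0) Sf Si (hSb 0) (hSram 0) hsp tf ti htf0 hti0 Uf hUf Ui hUi
      exact ⟨t₀, h1, h2, Fin.forall_fin_one.2 h3⟩
  · -- two fields of degree one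
    have hd : Module.finrank k (kf 0) = 1 ∧ Module.finrank k (kf 1) = 1 := by
      have h0 := hpos 0
      have h1 := hpos 1
      rw [Fin.sum_univ_two] at hdeg
      omega
    have hsp : ∀ S' : Finset (IsDedekindDomain.HeightOneSpectrum (NumberField.RingOfIntegers k)),
        ∃ v₀, v₀ ∉ S' ∧
        (∀ W : IsDedekindDomain.HeightOneSpectrum (NumberField.RingOfIntegers (kf 0)),
          W.asIdeal.LiesOver v₀.asIdeal → Nonempty (Lf 0 →ₐ[kf 0] W.adicCompletion (kf 0))) ∧
        (∀ W : IsDedekindDomain.HeightOneSpectrum (NumberField.RingOfIntegers (kf 1)),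
          W.asIdeal.LiesOver v₀.asIdeal → Nonempty (Lf 1 →ₐ[kf 1] W.adicCompletion (kf 1))) := by
      intro S'
      obtain ⟨v₀, hv₀, h⟩ := hsplitAll S'
      exact ⟨v₀, hv₀, h 0, h 1⟩
    have htf' : ∀ i : Fin 2, ∀ v ∈ Sf, ∃ x : (v.adicCompletion k) ⊗[k] Lf i,
        @Algebra.norm ((v.adicCompletion k) ⊗[k] kf i) _ _ _
          (Groth.Agent.Lib.helper12.HWRelNorm.relAlg k (v.adicCompletion k) (kf i) (Lf i)) x =
          (1 : v.adicCompletion k) ⊗ₜ[k] b i *
            (tf v ⊗ₜ[k] (1 : kf i) - (1 : v.adicCompletion k) ⊗ₜ[k] a i) := by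
      intro i v hv
      obtain ⟨x, -, hx⟩ := htf i v hv
      exact ⟨x, hx⟩
    have hti' : ∀ i : Fin 2, ∀ w ∈ Si, ∃ x : w.Completion ⊗[k] Lf i,
        @Algebra.norm (w.Completion ⊗[k] kf i) _ _ _
          (Groth.Agent.Lib.helper12.HWRelNorm.relAlg k w.Completion (kf i) (Lf i)) x =
          (1 : w.Completion) ⊗ₜ[k] b i *
            (ti w ⊗ₜ[k] (1 : kf i) - (1 : w.Completion) ⊗ₜ[k] a i) := by
      intro i w hw
      obtain ⟨x, -, hx⟩ := hti i w hw
      exact ⟨x, hx⟩
    obtain ⟨t₀, h1, h2, h3, h4⟩ := Groth.Agent.Lib.helper12.HWCaseC.caseC k (kf 0) (Lf 0) (kf 1) (Lf 1)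
      (a 0) (ha 0) hd.1 (b 0) (hb 0) (a 1) (ha 1) hd.2 (b 1) (hb 1) (hdist 0 1 (by decide)) Sf Si
      (hSb 0) (hSb 1) (hSram 0) (hSram 1) hsp tf ti (htf' 0) (htf' 1) (hti' 0) (hti' 1)
      Uf hUf Ui hUi
    exact ⟨t₀, h1, h2, Fin.forall_fin_two.2 ⟨h3, h4⟩⟩

end Groth.Agent.S19285
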