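import Groth.Statements.S19286
import Groth.Agent.Lib.Helper12.HWMoebius
import Groth.Agent.Lib.Helper12.NFMain
set_option linter.style.haveILetI false
set_option linter.unusedSectionVars false

set_option autoImplicit false
universe u
open scoped TensorProduct
open NumberField

namespace Groth.Agent.S19286

/-- Invariance, under a linear change of coordinate on the projective line, of the hypotheses (the data
listed next) of a conjecture on locally split values. Data: k a number field, n ≥ 1, k_i = k(a_i)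
with pairwise distinct minimal polynomials, L_i/k_i finite, b_i ∈ k_i nonzero, finite sets S_f ⊇
(finite places below a non-unit place of some b_i or a ramified prime of some L_i/k_i), S_∞ ⊇ real
places, t_v ∈ k_v for v ∈ S_f ∪ S_∞ with b_i(t_v − a_i) the norm of a unit of k_v ⊗_k L_i over k_v
⊗_k k_i. Let α, β, γ, δ ∈ k with αδ − βγ ≠ 0 satisfy: (i) γa_i + δ ≠ 0 for all i and γt_v + δ ≠ 0
for v ∈ S_f ∪ S_∞; (ii) α is a unit at every finite place outside S_f and αa_i + β is a unit at
every finite place of k_i not above S_f; (iii) for every i and v ∈ S_f ∪ S_∞, (αδ − βγ)/(γt_v + δ)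
is the norm of a unit of k_v ⊗_k L_i. Put a'_i = (αa_i + β)/(γa_i + δ), b'_i = b_i(γa_i + δ); let
S'_f ⊇ S_f be a finite set of finite places containing those where α or γ is not integral and those
below a place of some k_i where a'_i is not integral or b'_i is not a unit; put t'_v = (αt_v +
β)/(γt_v + δ) for v ∈ S_f ∪ S_∞ and t'_v = 0 for v ∈ S'_f ∖ S_f; for t'_0 ∈ k with α ≠ γt'_0 write
t_0 = (δt'_0 − β)/(α − γt'_0). Then: (1) for every i and v ∈ S'_f ∪ S_∞, b'_i(t'_v − a'_i) is the
norm of a unit of k_v ⊗_k L_i over k_v ⊗_k k_i; (2) for v ∈ S_f ∪ S_∞ and every neighbourhood U of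
t_v there is a neighbourhood U' of t'_v such that t'_0 ∈ U' forces t_0 ∈ U; (4) there are
neighbourhoods U'_v of 0 in k_v for v ∈ S'_f ∖ S_f such that whenever t'_0 ∈ U'_v for all such v,
every finite place w of some k_i with w(t_0 − a_i) > 0 either lies above S_f, or does not lie above
S'_f and satisfies w(t'_0 − a'_i) > 0. (The published statement's S' may also contain further
infinite places, and it has a further conclusion on signs at real places; both are omitted here.) -/
theorem result (k : Type u) [Field k] [NumberField k]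
    (n : ℕ) (hn : 1 ≤ n)
    (kf : Fin n → Type u) [∀ i, Field (kf i)] [∀ i, NumberField (kf i)] [∀ i, Algebra k (kf i)]
    (Lf : Fin n → Type u) [∀ i, Field (Lf i)] [∀ i, NumberField (Lf i)] [∀ i, Algebra (kf i) (Lf i)]
    [∀ i, Algebra k (Lf i)] [∀ i, IsScalarTower k (kf i) (Lf i)]
    (a : (i : Fin n) → kf i) (ha : ∀ i, IntermediateField.adjoin k {a i} = ⊤)
    (hdist : ∀ i j, i ≠ j → minpoly k (a i) ≠ minpoly k (a j))
    (b : (i : Fin n) → kf i) (hb : ∀ i, b i ≠ 0)
    (Sf : Finset (IsDedekindDomain.HeightOneSpectrum (NumberField.RingOfIntegers k)))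
    (Si : Finset (NumberField.InfinitePlace k))
    (hSreal : ∀ w : NumberField.InfinitePlace k, w.IsReal → w ∈ Si)
    (hSb : ∀ i, ∀ W : IsDedekindDomain.HeightOneSpectrum (NumberField.RingOfIntegers (kf i)),
      W.valuation (kf i) (b i) ≠ 1 → ∃ v ∈ Sf, W.asIdeal.LiesOver v.asIdeal)
    (hSram : ∀ i, ∀ Q : Ideal (NumberField.RingOfIntegers (Lf i)), Q.IsPrime → Q ≠ ⊥ →
      Q.ramificationIdx (NumberField.RingOfIntegers (kf i)) ≠ 1 → ∃ v ∈ Sf, Q.LiesOver v.asIdeal)
    (tf : (v : IsDedekindDomain.HeightOneSpectrum (NumberField.RingOfIntegers k)) → v.adicCompletion k)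
    (ti : (w : NumberField.InfinitePlace k) → w.Completion)
    (htf : ∀ i, ∀ v ∈ Sf,
      letI := (Algebra.TensorProduct.map (AlgHom.id k (v.adicCompletion k))
        (IsScalarTower.toAlgHom k (kf i) (Lf i))).toRingHom.toAlgebra
      ∃ x : (v.adicCompletion k) ⊗[k] Lf i, IsUnit x ∧
        Algebra.norm ((v.adicCompletion k) ⊗[k] kf i) x =
          (1 : v.adicCompletion k) ⊗ₜ[k] b i * (tf v ⊗ₜ[k] (1 : kf i) - (1 : v.adicCompletion k) ⊗ₜ[k] a i))
    (hti : ∀ i, ∀ w ∈ Si,
      letI := (Algebra.TensorProduct.map (AlgHom.id k w.Completion)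
        (IsScalarTower.toAlgHom k (kf i) (Lf i))).toRingHom.toAlgebra
      ∃ x : w.Completion ⊗[k] Lf i, IsUnit x ∧
        Algebra.norm (w.Completion ⊗[k] kf i) x =
          (1 : w.Completion) ⊗ₜ[k] b i * (ti w ⊗ₜ[k] (1 : kf i) - (1 : w.Completion) ⊗ₜ[k] a i))
    (α β γ δ : k) (hdet : α * δ - β * γ ≠ 0)
    (hia : ∀ i, algebraMap k (kf i) γ * a i + algebraMap k (kf i) δ ≠ 0)
    (hitf : ∀ v ∈ Sf, algebraMap k (v.adicCompletion k) γ * tf v + algebraMap k (v.adicCompletion k) δ ≠ 0)
    (hiti : ∀ w ∈ Si, algebraMap k w.Completion γ * ti w + algebraMap k w.Completion δ ≠ 0)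
    (hiiα : ∀ v : IsDedekindDomain.HeightOneSpectrum (NumberField.RingOfIntegers k), v ∉ Sf → v.valuation k α = 1)
    (hiia : ∀ i, ∀ W : IsDedekindDomain.HeightOneSpectrum (NumberField.RingOfIntegers (kf i)),
      (¬ ∃ v ∈ Sf, W.asIdeal.LiesOver v.asIdeal) →
        W.valuation (kf i) (algebraMap k (kf i) α * a i + algebraMap k (kf i) β) = 1)
    (hiiif : ∀ i, ∀ v ∈ Sf,
      letI := (Algebra.TensorProduct.map (AlgHom.id k (v.adicCompletion k))
        (IsScalarTower.toAlgHom k (kf i) (Lf i))).toRingHom.toAlgebra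
      ∃ y : (v.adicCompletion k) ⊗[k] Lf i, IsUnit y ∧
        Algebra.norm ((v.adicCompletion k) ⊗[k] kf i) y =
          (algebraMap k (v.adicCompletion k) (α * δ - β * γ) /
            (algebraMap k (v.adicCompletion k) γ * tf v + algebraMap k (v.adicCompletion k) δ)) ⊗ₜ[k] (1 : kf i))
    (hiiii : ∀ i, ∀ w ∈ Si,
      letI := (Algebra.TensorProduct.map (AlgHom.id k w.Completion)
        (IsScalarTower.toAlgHom k (kf i) (Lf i))).toRingHom.toAlgebra
      ∃ y : w.Completion ⊗[k] Lf i, IsUnit y ∧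
        Algebra.norm (w.Completion ⊗[k] kf i) y =
          (algebraMap k w.Completion (α * δ - β * γ) /
            (algebraMap k w.Completion γ * ti w + algebraMap k w.Completion δ)) ⊗ₜ[k] (1 : kf i))
    (a' b' : (i : Fin n) → kf i)
    (ha' : ∀ i, a' i = (algebraMap k (kf i) α * a i + algebraMap k (kf i) β) /
      (algebraMap k (kf i) γ * a i + algebraMap k (kf i) δ))
    (hb' : ∀ i, b' i = b i * (algebraMap k (kf i) γ * a i + algebraMap k (kf i) δ))
    (Sf' : Finset (IsDedekindDomain.HeightOneSpectrum (NumberField.RingOfIntegers k))) (hSS' : Sf ⊆ Sf')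
    (hS'αγ : ∀ v : IsDedekindDomain.HeightOneSpectrum (NumberField.RingOfIntegers k), v ∉ Sf' →
      v.valuation k α ≤ 1 ∧ v.valuation k γ ≤ 1)
    (hS'ab : ∀ i, ∀ W : IsDedekindDomain.HeightOneSpectrum (NumberField.RingOfIntegers (kf i)),
      (¬ ∃ v ∈ Sf', W.asIdeal.LiesOver v.asIdeal) → W.valuation (kf i) (a' i) ≤ 1 ∧ W.valuation (kf i) (b' i) = 1)
    (tf' : (v : IsDedekindDomain.HeightOneSpectrum (NumberField.RingOfIntegers k)) → v.adicCompletion k)
    (htf'S : ∀ v ∈ Sf, tf' v = (algebraMap k (v.adicCompletion k) α * tf v + algebraMap k (v.adicCompletion k) β) /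
      (algebraMap k (v.adicCompletion k) γ * tf v + algebraMap k (v.adicCompletion k) δ))
    (htf'S' : ∀ v ∈ Sf', v ∉ Sf → tf' v = 0)
    (ti' : (w : NumberField.InfinitePlace k) → w.Completion)
    (hti' : ∀ w ∈ Si, ti' w = (algebraMap k w.Completion α * ti w + algebraMap k w.Completion β) /
      (algebraMap k w.Completion γ * ti w + algebraMap k w.Completion δ)) :
    (∀ i, ∀ v ∈ Sf',
      letI := (Algebra.TensorProduct.map (AlgHom.id k (v.adicCompletion k))
        (IsScalarTower.toAlgHom k (kf i) (Lf i))).toRingHom.toAlgebra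
      ∃ x : (v.adicCompletion k) ⊗[k] Lf i, IsUnit x ∧
        Algebra.norm ((v.adicCompletion k) ⊗[k] kf i) x =
          (1 : v.adicCompletion k) ⊗ₜ[k] b' i * (tf' v ⊗ₜ[k] (1 : kf i) - (1 : v.adicCompletion k) ⊗ₜ[k] a' i)) ∧
    (∀ i, ∀ w ∈ Si,
      letI := (Algebra.TensorProduct.map (AlgHom.id k w.Completion)
        (IsScalarTower.toAlgHom k (kf i) (Lf i))).toRingHom.toAlgebra
      ∃ x : w.Completion ⊗[k] Lf i, IsUnit x ∧
        Algebra.norm (w.Completion ⊗[k] kf i) x =
          (1 : w.Completion) ⊗ₜ[k] b' i * (ti' w ⊗ₜ[k] (1 : kf i) - (1 : w.Completion) ⊗ₜ[k] a' i)) ∧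
    (∀ v ∈ Sf, ∀ U : Set (v.adicCompletion k), IsOpen U → tf v ∈ U →
      ∃ U' : Set (v.adicCompletion k), IsOpen U' ∧ tf' v ∈ U' ∧
        ∀ t₀' : k, α ≠ γ * t₀' → algebraMap k (v.adicCompletion k) t₀' ∈ U' →
          algebraMap k (v.adicCompletion k) ((δ * t₀' - β) / (α - γ * t₀')) ∈ U) ∧
    (∀ w ∈ Si, ∀ U : Set w.Completion, IsOpen U → ti w ∈ U →
      ∃ U' : Set w.Completion, IsOpen U' ∧ ti' w ∈ U' ∧
        ∀ t₀' : k, α ≠ γ * t₀' → algebraMap k w.Completion t₀' ∈ U' →
          algebraMap k w.Completion ((δ * t₀' - β) / (α - γ * t₀')) ∈ U) ∧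
    (∃ U' : (v : IsDedekindDomain.HeightOneSpectrum (NumberField.RingOfIntegers k)) → Set (v.adicCompletion k),
      (∀ v ∈ Sf', v ∉ Sf → IsOpen (U' v) ∧ (0 : v.adicCompletion k) ∈ U' v) ∧
      ∀ t₀' : k, α ≠ γ * t₀' → (∀ v ∈ Sf', v ∉ Sf → algebraMap k (v.adicCompletion k) t₀' ∈ U' v) →
        ∀ i, ∀ W : IsDedekindDomain.HeightOneSpectrum (NumberField.RingOfIntegers (kf i)),
          W.valuation (kf i) (algebraMap k (kf i) ((δ * t₀' - β) / (α - γ * t₀')) - a i) < 1 →
            (∃ v ∈ Sf, W.asIdeal.LiesOver v.asIdeal) ∨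
            ((¬ ∃ v ∈ Sf', W.asIdeal.LiesOver v.asIdeal) ∧
              W.valuation (kf i) (algebraMap k (kf i) t₀' - a' i) < 1)) := by
  classical
  have hD : ∀ (F : Type u) [Field F] [Algebra k F], algebraMap k F α * algebraMap k F δ -
      algebraMap k F β * algebraMap k F γ ≠ 0 := by
    intro F _ _
    rw [← map_mul, ← map_mul, ← map_sub]
    exact (map_ne_zero _).2 hdet
  refine ⟨?_, ?_, ?_, ?_, ?_⟩
  · -- (1), finite places
    intro i v hv
    by_cases hvS : v ∈ Sf
    · have hx : ∃ x : (v.adicCompletion k) ⊗[k] Lf i, IsUnit x ∧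
          @Algebra.norm ((v.adicCompletion k) ⊗[k] kf i) _ _ _
            (Groth.Agent.Lib.helper12.HWRelNorm.relAlg k (v.adicCompletion k) (kf i) (Lf i)) x =
          (1 : v.adicCompletion k) ⊗ₜ[k] b i *
            (tf v ⊗ₜ[k] (1 : kf i) - (1 : v.adicCompletion k) ⊗ₜ[k] a i) := htf i v hvS
      have hy : ∃ y : (v.adicCompletion k) ⊗[k] Lf i, IsUnit y ∧
          @Algebra.norm ((v.adicCompletion k) ⊗[k] kf i) _ _ _
            (Groth.Agent.Lib.helper12.HWRelNorm.relAlg k (v.adicCompletion k) (kf i) (Lf i)) y =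
          (algebraMap k (v.adicCompletion k) (α * δ - β * γ) /
            (algebraMap k (v.adicCompletion k) γ * tf v +
              algebraMap k (v.adicCompletion k) δ)) ⊗ₜ[k] (1 : kf i) := hiiif i v hvS
      exact Groth.Agent.Lib.helper12.HWMoebius.part1_S α β γ δ (a i) (b i) (a' i) (b' i) (tf v)
        (tf' v) (hitf v hvS) (hia i) (ha' i) (hb' i) (htf'S v hvS) hx hy
    · have key := Groth.Agent.Lib.helper12.HWMoebius.part1_T (L := Lf i) α β γ δ (a i) (b i) (a' i)
        (b' i) (hia i) (ha' i) (hb' i) Sf (hSb i) (hSram i) (hiia i) v hvS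
      rw [htf'S' v hv hvS]
      exact key
  · -- (1), infinite places
    intro i w hw
    have hx : ∃ x : w.Completion ⊗[k] Lf i, IsUnit x ∧
        @Algebra.norm (w.Completion ⊗[k] kf i) _ _ _
          (Groth.Agent.Lib.helper12.HWRelNorm.relAlg k w.Completion (kf i) (Lf i)) x =
        (1 : w.Completion) ⊗ₜ[k] b i *
          (ti w ⊗ₜ[k] (1 : kf i) - (1 : w.Completion) ⊗ₜ[k] a i) := hti i w hw
    have hy : ∃ y : w.Completion ⊗[k] Lf i, IsUnit y ∧
        @Algebra.norm (w.Completion ⊗[k] kf i) _ _ _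
          (Groth.Agent.Lib.helper12.HWRelNorm.relAlg k w.Completion (kf i) (Lf i)) y =
        (algebraMap k w.Completion (α * δ - β * γ) /
          (algebraMap k w.Completion γ * ti w + algebraMap k w.Completion δ)) ⊗ₜ[k] (1 : kf i) :=
      hiiii i w hw
    exact Groth.Agent.Lib.helper12.HWMoebius.part1_S α β γ δ (a i) (b i) (a' i) (b' i) (ti w)
      (ti' w) (hiti w hw) (hia i) (ha' i) (hb' i) (hti' w hw) hx hy
  · -- (2), finite places
    intro v hv U hU htU
    obtain ⟨U', hU'o, hU'm, hU'⟩ := Groth.Agent.Lib.helper12.HWMoebius.exists_nhd_moebius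
      (v.adicCompletion k) (algebraMap k _ α) (algebraMap k _ β) (algebraMap k _ γ)
      (algebraMap k _ δ) (tf v) (hitf v hv) (hD _) U hU htU
    refine ⟨U', hU'o, by rw [htf'S v hv]; exact hU'm, fun t₀' hne hmem => ?_⟩
    have hne' : algebraMap k (v.adicCompletion k) α -
        algebraMap k (v.adicCompletion k) γ * algebraMap k (v.adicCompletion k) t₀' ≠ 0 := by
      rw [← map_mul, ← map_sub]
      exact (map_ne_zero _).2 (sub_ne_zero.2 hne)
    have := hU' _ hmem hne'
    rwa [map_div₀, map_sub, map_sub, map_mul, map_mul]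
  · -- (2), infinite places
    intro w hw U hU htU
    obtain ⟨U', hU'o, hU'm, hU'⟩ := Groth.Agent.Lib.helper12.HWMoebius.exists_nhd_moebius
      w.Completion (algebraMap k _ α) (algebraMap k _ β) (algebraMap k _ γ)
      (algebraMap k _ δ) (ti w) (hiti w hw) (hD _) U hU htU
    refine ⟨U', hU'o, by rw [hti' w hw]; exact hU'm, fun t₀' hne hmem => ?_⟩
    have hne' : algebraMap k w.Completion α -
        algebraMap k w.Completion γ * algebraMap k w.Completion t₀' ≠ 0 := by
      rw [← map_mul, ← map_sub]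
      exact (map_ne_zero _).2 (sub_ne_zero.2 hne)
    have := hU' _ hmem hne'
    rwa [map_div₀, map_sub, map_sub, map_mul, map_mul]
  · -- (4)
    choose mγ hmγ using fun v : IsDedekindDomain.HeightOneSpectrum (NumberField.RingOfIntegers k) =>
      Groth.Agent.Lib.helper12.HWMoebius.exists_radius (K := k) v γ
    choose mi hmi using fun (i : Fin n)
        (v : IsDedekindDomain.HeightOneSpectrum (NumberField.RingOfIntegers k)) =>
      Groth.Agent.Lib.helper12.HWMoebius.exists_radius (K := kf i) v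
        (algebraMap k (kf i) γ * a i + algebraMap k (kf i) δ)
    set m : IsDedekindDomain.HeightOneSpectrum (NumberField.RingOfIntegers k) → ℕ :=
      fun v => max (mγ v) (Finset.univ.sup fun i => mi i v) with hm
    refine ⟨fun v => Metric.ball (0 : v.adicCompletion k)
      (((Ideal.absNorm v.asIdeal : ℝ)⁻¹) ^ (m v)), fun v _ _ => ⟨Metric.isOpen_ball, ?_⟩,
      fun t₀' hne hmem i W hW => ?_⟩
    · refine Metric.mem_ball_self (pow_pos ?_ _)
      have : (1 : ℝ) < Ideal.absNorm v.asIdeal := by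
        exact_mod_cast NumberField.HeightOneSpectrum.one_lt_absNorm v
      positivity
    · refine Groth.Agent.Lib.helper12.HWMoebius.part4_field α β γ δ (a i) (b i) (a' i) (b' i)
        (hia i) (ha' i) (hb' i) Sf Sf' (hSb i) hiiα (hiia i) hS'αγ (hS'ab i) t₀' hne ?_ W hW
      intro v hvS' hvS
      have hval : v.valuation k t₀' ≤ WithZero.exp (-((m v : ℕ) : ℤ)) :=
        Groth.Agent.Lib.helper12.NFMain.val_le_of_mem_ball v t₀' (m v) (hmem v hvS' hvS)
      constructor
      · have hle : v.valuation k t₀' ≤ WithZero.exp (-((mγ v : ℕ) : ℤ)) := by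
          refine hval.trans ?_
          rw [WithZero.exp_le_exp, hm]
          simp only
          have := le_max_left (mγ v) (Finset.univ.sup fun i => mi i v)
          omega
        have hvv : v.asIdeal.LiesOver v.asIdeal := ⟨by simp [Ideal.under]⟩
        have := hmγ v t₀' hle v hvv
        rwa [Algebra.algebraMap_self, RingHom.id_apply, mul_comm] at this
      · intro W' hW'
        have hle : v.valuation k t₀' ≤ WithZero.exp (-((mi i v : ℕ) : ℤ)) := by
          refine hval.trans ?_
          rw [WithZero.exp_le_exp, hm]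
          simp only
          have h1 := le_max_right (mγ v) (Finset.univ.sup fun i => mi i v)
          have h2 : mi i v ≤ Finset.univ.sup fun i => mi i v :=
            Finset.le_sup (f := fun i => mi i v) (Finset.mem_univ i)
          omega
        exact hmi i v t₀' hle W' hW'

end Groth.Agent.S19286
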