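import Groth.Statements.S19306
import Mathlib
set_option linter.style.haveILetI false
set_option linter.unusedSectionVars false

set_option autoImplicit false
universe u
open PowerSeries
open CAlg
open TensorProduct

namespace Groth.Agent.S19306

section helpers

variable {R : Type u} [CommRing R]

/-- the shift operator on power series. -/
noncomputable def shift : R⟦X⟧ →ₗ[R] R⟦X⟧ where
  toFun u := PowerSeries.mk fun k => PowerSeries.coeff (k + 1) u
  map_add' u v := by ext k; simp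
  map_smul' r u := by ext k; simp

theorem shift_X_mul (u : R⟦X⟧) : shift (PowerSeries.X * u) = u := by
  ext k
  simp [shift, PowerSeries.coeff_succ_X_mul]

/-- an `R`-linear left inverse of multiplication by `X` on a projective `R⟦X⟧`-module. -/
theorem exists_leftInverse_X (P : Type u) [AddCommGroup P] [Module R⟦X⟧ P] [Module R P]
    [IsScalarTower R R⟦X⟧ P] [Module.Projective R⟦X⟧ P] :
    ∃ D : P →ₗ[R] P, ∀ p : P, D ((PowerSeries.X : R⟦X⟧) • p) = p := by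
  obtain ⟨s, hs⟩ := Module.projective_def'.mp (inferInstance : Module.Projective R⟦X⟧ P)
  let L : (P →₀ R⟦X⟧) →ₗ[R⟦X⟧] P := Finsupp.linearCombination R⟦X⟧ id
  let sh : (P →₀ R⟦X⟧) →ₗ[R] (P →₀ R⟦X⟧) := Finsupp.mapRange.linearMap shift
  refine ⟨(L.restrictScalars R) ∘ₗ sh ∘ₗ (s.restrictScalars R), fun p => ?_⟩
  have h1 : sh (s ((PowerSeries.X : R⟦X⟧) • p)) = s p := by
    rw [map_smul]
    ext μ
    simp [sh, shift_X_mul]
  change L (sh (s ((PowerSeries.X : R⟦X⟧) • p))) = p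
  rw [h1]
  exact LinearMap.congr_fun hs p

theorem sub_coe_trunc_mem {n M : ℕ} (Λ : Submodule R⟦X⟧ (Fin n → R⟦X⟧))
    (hΛ : ∀ v : Fin n → R⟦X⟧, ((PowerSeries.X : R⟦X⟧) ^ M) • v ∈ Λ) (y : Fin n → R⟦X⟧) :
    y - (fun a => ((PowerSeries.trunc M (y a) : Polynomial R) : R⟦X⟧)) ∈ Λ := by
  have : y - (fun a => ((PowerSeries.trunc M (y a) : Polynomial R) : R⟦X⟧)) =
      ((PowerSeries.X : R⟦X⟧) ^ M) • (fun a => PowerSeries.mk fun i => PowerSeries.coeff (i + M) (y a)) := by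
    funext a
    have := PowerSeries.eq_X_pow_mul_shift_add_trunc M (y a)
    simp only [Pi.sub_apply, Pi.smul_apply, smul_eq_mul]
    rw [sub_eq_iff_eq_add]
    exact this
  rw [this]
  exact hΛ _

theorem forward {n M : ℕ} (Λ : Submodule R⟦X⟧ (Fin n → R⟦X⟧))
    (hΛ : ∀ v : Fin n → R⟦X⟧, ((PowerSeries.X : R⟦X⟧) ^ M) • v ∈ Λ)
    [Module.Projective R⟦X⟧ Λ] : Module.Projective R ((Fin n → R⟦X⟧) ⧸ Λ) := by
  obtain ⟨D, hD⟩ := exists_leftInverse_X (R := R) Λ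
  let g : (Fin n → R⟦X⟧) →ₗ[R] Λ :=
    { toFun := fun f => ⟨((PowerSeries.X : R⟦X⟧) ^ M) • f, hΛ f⟩
      map_add' := fun f f' => Subtype.ext (smul_add _ _ _)
      map_smul' := fun r f => Subtype.ext (smul_comm _ _ _) }
  let ρ : (Fin n → R⟦X⟧) →ₗ[R] Λ := (D ^ M) ∘ₗ g
  have hDM : ∀ (k : ℕ) (l : Λ), (D ^ k) (((PowerSeries.X : R⟦X⟧) ^ k) • l) = l := by
    intro k
    induction k with
    | zero => intro l; simp
    | succ k ih =>
      intro l
      rw [pow_succ, Module.End.mul_apply, pow_succ', mul_smul, hD, ih]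
  have hρ : ∀ l : Λ, ρ (l : Fin n → R⟦X⟧) = l := by
    intro l
    have : g (l : Fin n → R⟦X⟧) = ((PowerSeries.X : R⟦X⟧) ^ M) • l := Subtype.ext rfl
    change (D ^ M) (g l) = l
    rw [this, hDM]
  let σ₀ : (Fin n → R⟦X⟧) →ₗ[R] (Fin n → R⟦X⟧) :=
    LinearMap.id - (Λ.subtype.restrictScalars R) ∘ₗ ρ
  have hσ₀ : Λ.restrictScalars R ≤ LinearMap.ker σ₀ := by
    intro l hl
    rw [LinearMap.mem_ker]
    change l - ((ρ l : Λ) : Fin n → R⟦X⟧) = 0
    have := hρ ⟨l, hl⟩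
    simp only at this
    rw [this, sub_self]
  let σ : ((Fin n → R⟦X⟧) ⧸ Λ) →ₗ[R] (Fin n → R⟦X⟧) :=
    ((Λ.restrictScalars R).liftQ σ₀ hσ₀) ∘ₗ
      (Submodule.Quotient.restrictScalarsEquiv R Λ).symm.toLinearMap
  let truncN : (Fin n → R⟦X⟧) →ₗ[R] (Fin n → Polynomial R) :=
    (PowerSeries.trunc M).compLeft (Fin n)
  let coeN : (Fin n → Polynomial R) →ₗ[R] (Fin n → R⟦X⟧) :=
    (Polynomial.coeToPowerSeries.algHom R).toLinearMap.compLeft (Fin n)
  let i : ((Fin n → R⟦X⟧) ⧸ Λ) →ₗ[R] (Fin n → Polynomial R) := truncN ∘ₗ σ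
  let r : (Fin n → Polynomial R) →ₗ[R] ((Fin n → R⟦X⟧) ⧸ Λ) :=
    (Λ.mkQ.restrictScalars R) ∘ₗ coeN
  refine Module.Projective.of_split i r ?_
  ext q
  obtain ⟨f, rfl⟩ := Submodule.Quotient.mk_surjective Λ q
  have h1 : σ (Submodule.Quotient.mk f) = σ₀ f := rfl
  change Λ.mkQ (coeN (truncN (σ (Submodule.Quotient.mk f)))) = Submodule.Quotient.mk f
  rw [h1]
  have h2 : Λ.mkQ (coeN (truncN (σ₀ f))) = Λ.mkQ (σ₀ f) := by
    rw [eq_comm, ← sub_eq_zero, ← map_sub, Submodule.mkQ_apply, Submodule.Quotient.mk_eq_zero]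
    exact sub_coe_trunc_mem Λ hΛ (σ₀ f)
  rw [h2]
  change Λ.mkQ (f - ((ρ f : Λ) : Fin n → R⟦X⟧)) = Submodule.Quotient.mk f
  rw [map_sub, Submodule.mkQ_apply, Submodule.mkQ_apply,
    (Submodule.Quotient.mk_eq_zero Λ).mpr (ρ f).2, sub_zero]

section resolution

variable (R) (Q : Type u) [AddCommGroup Q] [Module R⟦X⟧ Q] [Module R Q] [IsScalarTower R R⟦X⟧ Q]

/-- multiplication by `X` on `Q`, as an `R`-linear map. -/
noncomputable def xQ : Module.End R Q :=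
  (LinearMap.lsmul R⟦X⟧ Q (PowerSeries.X : R⟦X⟧)).restrictScalars R

/-- `μ : S ⊗ Q → Q`. -/
noncomputable def mu : R⟦X⟧ ⊗[R] Q →ₗ[R⟦X⟧] Q :=
  (LinearMap.id : Q →ₗ[R] Q).liftBaseChange R⟦X⟧

/-- `δ = x ⊗ 1 - X` on `S ⊗ Q`. -/
noncomputable def delta : R⟦X⟧ ⊗[R] Q →ₗ[R⟦X⟧] R⟦X⟧ ⊗[R] Q :=
  (xQ R Q).baseChange R⟦X⟧ - LinearMap.lsmul R⟦X⟧ _ (PowerSeries.X : R⟦X⟧)

variable {R Q}

theorem xQ_pow_apply (k : ℕ) (q : Q) : ((xQ R Q) ^ k) q = ((PowerSeries.X : R⟦X⟧) ^ k) • q := by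
  induction k generalizing q with
  | zero => simp
  | succ k ih =>
    rw [pow_succ, Module.End.mul_apply, ih, pow_succ, mul_smul]
    rfl

theorem mu_delta (w : R⟦X⟧ ⊗[R] Q) : mu R Q (delta R Q w) = 0 := by
  induction w using TensorProduct.induction_on with
  | zero => simp
  | tmul s q =>
    simp only [delta, LinearMap.sub_apply, LinearMap.baseChange_tmul, LinearMap.lsmul_apply,
      TensorProduct.smul_tmul', smul_eq_mul, map_sub, mu, LinearMap.liftBaseChange_tmul,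
      LinearMap.id_apply]
    change s • ((PowerSeries.X : R⟦X⟧) • q) - _ = 0
    rw [smul_smul, mul_comm, sub_self]
  | add w₁ w₂ h₁ h₂ => rw [map_add, map_add, h₁, h₂, add_zero]

/-- `X̃` commutes with `x̃`. -/
theorem baseChange_X_smul (w : R⟦X⟧ ⊗[R] Q) :
    (xQ R Q).baseChange R⟦X⟧ ((PowerSeries.X : R⟦X⟧) • w) =
      (PowerSeries.X : R⟦X⟧) • (xQ R Q).baseChange R⟦X⟧ w := map_smul _ _ _

theorem baseChange_pow_eq_zero {M : ℕ} (hM : ∀ q : Q, ((PowerSeries.X : R⟦X⟧) ^ M) • q = 0)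
    (w : R⟦X⟧ ⊗[R] Q) : (((xQ R Q).baseChange R⟦X⟧) ^ M) w = 0 := by
  have h0 : (xQ R Q) ^ M = 0 := by
    ext q
    rw [xQ_pow_apply, hM]
    rfl
  rw [← LinearMap.baseChange_pow, h0, LinearMap.baseChange_zero]
  rfl

theorem X_pow_smul_injective [Module.Flat R Q] (M : ℕ) :
    Function.Injective fun w : R⟦X⟧ ⊗[R] Q => ((PowerSeries.X : R⟦X⟧) ^ M) • w := by
  let f : R⟦X⟧ →ₗ[R] R⟦X⟧ := (LinearMap.lsmul R⟦X⟧ R⟦X⟧ ((PowerSeries.X : R⟦X⟧) ^ M)).restrictScalars R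
  have hf : Function.Injective f := by
    intro a b hab
    exact PowerSeries.X_pow_mul_cancel hab
  have h1 := Module.Flat.rTensor_preserves_injective_linearMap (M := Q) f hf
  have h2 : (fun w : R⟦X⟧ ⊗[R] Q => ((PowerSeries.X : R⟦X⟧) ^ M) • w) = f.rTensor Q := by
    funext w
    induction w using TensorProduct.induction_on with
    | zero => simp
    | tmul s q => simp [f, TensorProduct.smul_tmul']
    | add w₁ w₂ h₁ h₂ => simp only [smul_add, map_add, h₁, h₂]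
  rw [h2]
  exact h1

theorem delta_injective [Module.Flat R Q] {M : ℕ}
    (hM : ∀ q : Q, ((PowerSeries.X : R⟦X⟧) ^ M) • q = 0) : Function.Injective (delta R Q) := by
  rw [injective_iff_map_eq_zero]
  intro w hw
  have h1 : (xQ R Q).baseChange R⟦X⟧ w = (PowerSeries.X : R⟦X⟧) • w := by
    simpa [delta, sub_eq_zero] using hw
  have h2 : ∀ k : ℕ, (((xQ R Q).baseChange R⟦X⟧) ^ k) w = ((PowerSeries.X : R⟦X⟧) ^ k) • w := by
    intro k
    induction k with
    | zero => simp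
    | succ k ih =>
      rw [pow_succ', Module.End.mul_apply, ih, map_smul, h1, smul_smul, ← pow_succ]
  have h3 := h2 M
  rw [baseChange_pow_eq_zero hM] at h3
  exact X_pow_smul_injective (Q := Q) M (by simpa using h3.symm)

theorem smul_mem_range_delta (s : R⟦X⟧) {w : R⟦X⟧ ⊗[R] Q} (hw : w ∈ LinearMap.range (delta R Q)) :
    s • w ∈ LinearMap.range (delta R Q) := Submodule.smul_mem _ _ hw

/-- **B1**. -/
theorem X_pow_sub_mem_range (w : R⟦X⟧ ⊗[R] Q) (k : ℕ) :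
    ((PowerSeries.X : R⟦X⟧) ^ k) • w - (((xQ R Q).baseChange R⟦X⟧) ^ k) w ∈
      LinearMap.range (delta R Q) := by
  induction k with
  | zero => simp
  | succ k ih =>
    have e : ((PowerSeries.X : R⟦X⟧) ^ (k + 1)) • w - (((xQ R Q).baseChange R⟦X⟧) ^ (k + 1)) w =
        (PowerSeries.X : R⟦X⟧) • (((PowerSeries.X : R⟦X⟧) ^ k) • w -
          (((xQ R Q).baseChange R⟦X⟧) ^ k) w) -
        delta R Q ((((xQ R Q).baseChange R⟦X⟧) ^ k) w) := by
      rw [pow_succ' (PowerSeries.X : R⟦X⟧), mul_smul, pow_succ' ((xQ R Q).baseChange R⟦X⟧),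
        Module.End.mul_apply, delta, LinearMap.sub_apply, LinearMap.lsmul_apply, smul_sub]
      abel
    rw [e]
    exact Submodule.sub_mem _ (smul_mem_range_delta _ ih) (LinearMap.mem_range_self _ _)

theorem baseChange_pow_tmul (k : ℕ) (s : R⟦X⟧) (q : Q) :
    (((xQ R Q).baseChange R⟦X⟧) ^ k) (s ⊗ₜ[R] q) = s ⊗ₜ[R] (((PowerSeries.X : R⟦X⟧) ^ k) • q) := by
  rw [← LinearMap.baseChange_pow, LinearMap.baseChange_tmul, xQ_pow_apply]

/-- **B2** for monomials and multiples of `X^M`. -/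
theorem tmul_sub_mem_range {M : ℕ} (hM : ∀ q : Q, ((PowerSeries.X : R⟦X⟧) ^ M) • q = 0)
    (s : R⟦X⟧) (q : Q) :
    s ⊗ₜ[R] q - (1 : R⟦X⟧) ⊗ₜ[R] (s • q) ∈ LinearMap.range (delta R Q) := by
  -- the set of good `s`
  let T : Submodule R R⟦X⟧ :=
    { carrier := {s | ∀ q : Q, s ⊗ₜ[R] q - (1 : R⟦X⟧) ⊗ₜ[R] (s • q) ∈ LinearMap.range (delta R Q)}
      add_mem' := by
        intro a b ha hb q
        have e : (a + b) ⊗ₜ[R] q - (1 : R⟦X⟧) ⊗ₜ[R] ((a + b) • q) =
            (a ⊗ₜ[R] q - (1 : R⟦X⟧) ⊗ₜ[R] (a • q)) + (b ⊗ₜ[R] q - (1 : R⟦X⟧) ⊗ₜ[R] (b • q)) := by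
          rw [TensorProduct.add_tmul, add_smul, TensorProduct.tmul_add]; abel
        rw [e]
        exact Submodule.add_mem _ (ha q) (hb q)
      zero_mem' := by
        intro q
        simp
      smul_mem' := by
        intro r a ha q
        have e : (r • a) ⊗ₜ[R] q - (1 : R⟦X⟧) ⊗ₜ[R] ((r • a) • q) =
            r • (a ⊗ₜ[R] q - (1 : R⟦X⟧) ⊗ₜ[R] (a • q)) := by
          rw [smul_sub, TensorProduct.smul_tmul', smul_assoc, TensorProduct.tmul_smul]
        rw [e]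
        exact Submodule.smul_of_tower_mem _ r (ha q) }
  have hXk : ∀ k : ℕ, ((PowerSeries.X : R⟦X⟧) ^ k) ∈ T := by
    intro k q
    have := X_pow_sub_mem_range (Q := Q) ((1 : R⟦X⟧) ⊗ₜ[R] q) k
    rwa [baseChange_pow_tmul, TensorProduct.smul_tmul', smul_eq_mul, mul_one] at this
  have hXM : ∀ s' : R⟦X⟧, ((PowerSeries.X : R⟦X⟧) ^ M) * s' ∈ T := by
    intro s' q
    have := X_pow_sub_mem_range (Q := Q) (s' ⊗ₜ[R] q) M
    rw [baseChange_pow_tmul, hM, TensorProduct.tmul_zero, sub_zero, TensorProduct.smul_tmul',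
      smul_eq_mul] at this
    rw [mul_smul, smul_comm, hM, smul_zero, TensorProduct.tmul_zero, sub_zero]
    exact this
  -- every power series is a truncation plus a multiple of `X^M`
  have hpoly : ∀ t : Polynomial R, (t : R⟦X⟧) ∈ T := by
    intro t
    induction t using Polynomial.induction_on' with
    | add a b ha hb =>
      rw [Polynomial.coe_add]
      exact T.add_mem ha hb
    | monomial k r =>
      rw [Polynomial.coe_monomial, PowerSeries.monomial_eq_C_mul_X_pow,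
        ← PowerSeries.smul_eq_C_mul]
      exact T.smul_mem r (hXk k)
  have hs : s ∈ T := by
    rw [PowerSeries.eq_X_pow_mul_shift_add_trunc M s]
    exact T.add_mem (hXM _) (hpoly _)
  exact hs q

end resolution


/-- **B3**. -/
theorem sub_one_tmul_mu_mem_range {Q : Type u} [AddCommGroup Q] [Module R⟦X⟧ Q] [Module R Q]
    [IsScalarTower R R⟦X⟧ Q] {M : ℕ} (hM : ∀ q : Q, ((PowerSeries.X : R⟦X⟧) ^ M) • q = 0)
    (w : R⟦X⟧ ⊗[R] Q) :
    w - (1 : R⟦X⟧) ⊗ₜ[R] (mu R Q w) ∈ LinearMap.range (delta R Q) := by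
  induction w using TensorProduct.induction_on with
  | zero => simp
  | tmul s q =>
    have : mu R Q (s ⊗ₜ[R] q) = s • q := by
      simp [mu, LinearMap.liftBaseChange_tmul]
    rw [this]
    exact tmul_sub_mem_range hM s q
  | add w₁ w₂ h₁ h₂ =>
    have e : w₁ + w₂ - (1 : R⟦X⟧) ⊗ₜ[R] (mu R Q (w₁ + w₂)) =
        (w₁ - (1 : R⟦X⟧) ⊗ₜ[R] (mu R Q w₁)) + (w₂ - (1 : R⟦X⟧) ⊗ₜ[R] (mu R Q w₂)) := by
      rw [map_add, TensorProduct.tmul_add]; abel
    rw [e]
    exact Submodule.add_mem _ h₁ h₂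

theorem ker_mu_le_range_delta {Q : Type u} [AddCommGroup Q] [Module R⟦X⟧ Q] [Module R Q]
    [IsScalarTower R R⟦X⟧ Q] {M : ℕ} (hM : ∀ q : Q, ((PowerSeries.X : R⟦X⟧) ^ M) • q = 0)
    (w : R⟦X⟧ ⊗[R] Q) (hw : mu R Q w = 0) : w ∈ LinearMap.range (delta R Q) := by
  have := sub_one_tmul_mu_mem_range hM w
  rwa [hw, TensorProduct.tmul_zero, sub_zero] at this

theorem finite_quotient {n M : ℕ} (Λ : Submodule R⟦X⟧ (Fin n → R⟦X⟧))
    (hΛ : ∀ v : Fin n → R⟦X⟧, ((PowerSeries.X : R⟦X⟧) ^ M) • v ∈ Λ) :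
    Module.Finite R ((Fin n → R⟦X⟧) ⧸ Λ) := by
  haveI : Module.Finite R (Polynomial.degreeLT R M) :=
    Module.Finite.equiv (Polynomial.degreeLTEquiv R M).symm
  let coeN : (Fin n → Polynomial R) →ₗ[R] (Fin n → R⟦X⟧) :=
    (Polynomial.coeToPowerSeries.algHom R).toLinearMap.compLeft (Fin n)
  let r : (Fin n → Polynomial.degreeLT R M) →ₗ[R] ((Fin n → R⟦X⟧) ⧸ Λ) :=
    (Λ.mkQ.restrictScalars R) ∘ₗ coeN ∘ₗ ((Polynomial.degreeLT R M).subtype.compLeft (Fin n))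
  refine Module.Finite.of_surjective r ?_
  intro q
  obtain ⟨f, rfl⟩ := Submodule.Quotient.mk_surjective Λ q
  refine ⟨fun a => ⟨PowerSeries.trunc M (f a), ?_⟩, ?_⟩
  · rw [Polynomial.mem_degreeLT]
    exact PowerSeries.degree_trunc_lt _ _
  · change Λ.mkQ (fun a => ((PowerSeries.trunc M (f a) : Polynomial R) : R⟦X⟧)) = Λ.mkQ f
    rw [eq_comm, ← sub_eq_zero, ← map_sub, Submodule.mkQ_apply, Submodule.Quotient.mk_eq_zero]
    exact sub_coe_trunc_mem Λ hΛ f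

theorem backward {n M : ℕ} (Λ : Submodule R⟦X⟧ (Fin n → R⟦X⟧))
    (hΛ : ∀ v : Fin n → R⟦X⟧, ((PowerSeries.X : R⟦X⟧) ^ M) • v ∈ Λ)
    [Module.Projective R ((Fin n → R⟦X⟧) ⧸ Λ)] :
    Module.Finite R⟦X⟧ Λ ∧ Module.Projective R⟦X⟧ Λ := by
  haveI := finite_quotient Λ hΛ
  let F := Fin n → R⟦X⟧
  let Q := F ⧸ Λ
  let P := R⟦X⟧ ⊗[R] Q
  have hM : ∀ q : Q, ((PowerSeries.X : R⟦X⟧) ^ M) • q = 0 := by
    intro q
    obtain ⟨f, rfl⟩ := Submodule.Quotient.mk_surjective Λ q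
    rw [← Submodule.Quotient.mk_smul, Submodule.Quotient.mk_eq_zero]
    exact hΛ f
  -- an `R`-linear section of the quotient map
  obtain ⟨σ, hσ⟩ := Module.projective_lifting_property (Λ.mkQ.restrictScalars R)
    (LinearMap.id : Q →ₗ[R] Q) (Submodule.mkQ_surjective Λ)
  let σt : P →ₗ[R⟦X⟧] F := σ.liftBaseChange R⟦X⟧
  have hσt : ∀ w : P, Λ.mkQ (σt w) = mu R Q w := by
    intro w
    induction w using TensorProduct.induction_on with
    | zero => simp
    | tmul s q =>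
      have h1 : Λ.mkQ (σ q) = q := LinearMap.congr_fun hσ q
      have h2 : σt (s ⊗ₜ[R] q) = s • σ q := LinearMap.liftBaseChange_tmul _ _ _ _
      have h3 : mu R Q (s ⊗ₜ[R] q) = s • q := LinearMap.liftBaseChange_tmul _ _ _ _
      rw [h2, h3, map_smul, h1]
    | add w₁ w₂ h₁ h₂ => rw [map_add, map_add, map_add, h₁, h₂]
  let Φ : (Λ × P) →ₗ[R⟦X⟧] F := Λ.subtype.coprod σt
  have hΦ : Function.Surjective Φ := by
    intro f
    have hmem : f - σt ((1 : R⟦X⟧) ⊗ₜ[R] (Λ.mkQ f)) ∈ Λ := by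
      rw [← Submodule.Quotient.mk_eq_zero, ← Submodule.mkQ_apply, map_sub, hσt]
      simp [mu, LinearMap.liftBaseChange_tmul]
    refine ⟨(⟨_, hmem⟩, (1 : R⟦X⟧) ⊗ₜ[R] (Λ.mkQ f)), ?_⟩
    simp [Φ]
  obtain ⟨ρ, hρ⟩ := Module.projective_lifting_property Φ (LinearMap.id : F →ₗ[R⟦X⟧] F) hΦ
  have hmemj : ∀ w : P, (-(σt ∘ₗ delta R Q)) w ∈ Λ := by
    intro w
    rw [LinearMap.neg_apply, Submodule.neg_mem_iff, ← Submodule.Quotient.mk_eq_zero,
      ← Submodule.mkQ_apply, LinearMap.comp_apply, hσt, mu_delta]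
  let j : P →ₗ[R⟦X⟧] (Λ × P) :=
    (LinearMap.codRestrict Λ (-(σt ∘ₗ delta R Q)) hmemj).prod (delta R Q)
  have hΦj : ∀ w : P, Φ (j w) = 0 := by
    intro w
    simp [Φ, j]
  let Ψ : (F × P) →ₗ[R⟦X⟧] (Λ × P) := ρ.coprod j
  have hΨinj : Function.Injective Ψ := by
    rw [injective_iff_map_eq_zero]
    rintro ⟨f, w⟩ h
    have h1 : ρ f + j w = 0 := by simpa [Ψ] using h
    have h2 : f = 0 := by
      have := congrArg Φ h1
      rw [map_add, hΦj, add_zero, map_zero] at this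
      rw [← this]
      exact (LinearMap.congr_fun hρ f).symm
    subst h2
    rw [map_zero, zero_add] at h1
    have h3 : delta R Q w = 0 := congrArg Prod.snd h1
    have h4 : w = 0 := delta_injective hM (by rw [h3, map_zero])
    rw [h4]
    rfl
  have hΨsurj : Function.Surjective Ψ := by
    intro x
    -- y := x - ρ (Φ x) ∈ ker Φ
    set y : Λ × P := x - ρ (Φ x) with hy
    have hy0 : Φ y = 0 := by
      rw [hy, map_sub, sub_eq_zero]
      exact (LinearMap.congr_fun hρ (Φ x)).symm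
    have hy1 : (y.1 : F) + σt y.2 = 0 := by simpa [Φ] using hy0
    have hy2 : mu R Q y.2 = 0 := by
      have := congrArg Λ.mkQ hy1
      rw [map_add, map_zero, hσt, Submodule.mkQ_apply,
        (Submodule.Quotient.mk_eq_zero Λ).mpr y.1.2, zero_add] at this
      exact this
    obtain ⟨w, hw⟩ := ker_mu_le_range_delta hM y.2 hy2
    have hyj : y = j w := by
      refine Prod.ext (Subtype.ext ?_) ?_
      · change (y.1 : F) = -(σt (delta R Q w))
        rw [hw]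
        exact eq_neg_of_add_eq_zero_left hy1
      · exact hw.symm
    refine ⟨(Φ x, w), ?_⟩
    change ρ (Φ x) + j w = x
    rw [← hyj, hy]
    abel
  let e : (F × P) ≃ₗ[R⟦X⟧] (Λ × P) := LinearEquiv.ofBijective Ψ ⟨hΨinj, hΨsurj⟩
  haveI : Module.Projective R⟦X⟧ (Λ × P) := Module.Projective.of_equiv e
  haveI : Module.Finite R⟦X⟧ (Λ × P) := Module.Finite.equiv e
  refine ⟨Module.Finite.of_surjective (LinearMap.fst R⟦X⟧ Λ P) LinearMap.fst_surjective, ?_⟩
  refine Module.Projective.of_split (LinearMap.inl R⟦X⟧ Λ P) (LinearMap.fst R⟦X⟧ Λ P) ?_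
  ext l
  simp


end helpers

/-- Let k be a field, R a commutative k-algebra, n, M natural numbers and Λ an R⟦X⟧-submodule of the
free module R⟦X⟧^n with X^M · R⟦X⟧^n ⊆ Λ. Then Λ is a finitely generated projective R⟦X⟧-module if
and only if the quotient R⟦X⟧^n / Λ is projective as an R-module. (The published statement
identifies, functorially in R, the families of lattices between t^N Λ₀ and t^{-N} Λ₀ in R((t))^n, Λ₀
the standard lattice, with the R⟦t⟧-submodules in that range whose quotient t^{-N} Λ₀ / Λ is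
R-projective; after multiplying by t^N this is the pointwise statement here, with 2N replaced by any
exponent M; a submodule containing X^M · R⟦X⟧^n automatically spans R((X))^n.) -/
theorem result
    (k : Type u) [Field k] (R : Type u) [CommRing R] [Algebra k R] (n M : ℕ)
    (Λ : Submodule R⟦X⟧ (Fin n → R⟦X⟧))
    (hΛ : ∀ v : Fin n → R⟦X⟧, ((PowerSeries.X : R⟦X⟧) ^ M) • v ∈ Λ) :
    (Module.Finite R⟦X⟧ Λ ∧ Module.Projective R⟦X⟧ Λ) ↔
      Module.Projective R ((Fin n → R⟦X⟧) ⧸ Λ) := by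
  constructor
  · rintro ⟨_, hP⟩
    haveI := hP
    exact forward Λ hΛ
  · intro hQ
    haveI := hQ
    exact backward Λ hΛ

end Groth.Agent.S19306
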