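import Groth.Statements.S19308
import Groth.Agent.Lib.Helper11.ContentFlat4

set_option autoImplicit false
universe u
open TensorProduct
open CAlg

namespace Groth.Agent.S19308

open Groth.Agent.Lib.helper11.ContentFlat in
theorem repr_map {k A : Type u} [Field k] [CommRing A] [Algebra k A] {ι : Type u}
    (b : Module.Basis ι k A) {R R' : Type u} [CommRing R] [CommRing R'] [Algebra k R] [Algebra k R']
    (ψ : R →ₐ[k] R') (x : R ⊗[k] A) (i : ι) :
    (Algebra.TensorProduct.basis R' b).repr (Algebra.TensorProduct.map ψ (AlgHom.id k A) x) i =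
      ψ ((Algebra.TensorProduct.basis R b).repr x i) := by
  induction x using TensorProduct.induction_on with
  | zero => simp
  | add x y hx hy => simp only [map_add, Finsupp.add_apply, hx, hy]
  | tmul r a =>
    rw [Algebra.TensorProduct.map_tmul, Algebra.TensorProduct.basis_repr_tmul,
      Algebra.TensorProduct.basis_repr_tmul]
    simp only [AlgHom.coe_id, id_eq, Finsupp.smul_apply, Finsupp.mapRange_apply, smul_eq_mul,
      map_mul, AlgHom.commutes]

theorem nontrivial_away {R : Type u} [CommRing R] (p : PrimeSpectrum R) (r : R)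
    (hr : r ∉ p.asIdeal) : Nontrivial (Localization.Away r) := by
  have hu : IsUnit (algebraMap R (Localization.AtPrime p.asIdeal) r) :=
    IsLocalization.map_units (Localization.AtPrime p.asIdeal) (⟨r, hr⟩ : p.asIdeal.primeCompl)
  exact (IsLocalization.Away.lift (S := Localization.Away r) r hu).domain_nontrivial


/-- Let k be an algebraically closed field, A a finitely generated k-algebra which is an integral domain
(an affine variety X = Spec A), Z a finite (possibly empty) set of k-points of A, R a commutative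
k-algebra and U an open dense subset of Spec (R ⊗_k A) = X_R containing every point of Z_R and
meeting every fibre of X_R → Spec R. Then locally on Spec R there is a principal relative effective
Cartier divisor missing Z_R whose complement lies in U: for every prime p of R there are r ∉ p and f
∈ R[1/r] ⊗_k A such that f is a non-zero-divisor, (R[1/r] ⊗_k A)/(f) is flat over R[1/r], f maps to
a unit under every point of Z, and the basic open set D(f) of X_{R[1/r]} maps into U. (The published
statement is for a quasi-projective variety X and asks for relative Cartier divisors D_i over an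
open cover of Spec R; this row is the affine case, to which the published proof reduces, where the
divisors produced are principal.) -/
theorem result
    (k : Type u) [Field k] [IsAlgClosed k]
    (A : Type u) [CommRing A] [Algebra k A] [IsDomain A] [Algebra.FiniteType k A]
    (Z : Finset (A →ₐ[k] k))
    (R : Type u) [CommRing R] [Algebra k R]
    (U : TopologicalSpace.Opens (PrimeSpectrum (TensorProduct k R A)))
    (hU : Dense (U : Set (PrimeSpectrum (TensorProduct k R A))))
    (hZ : ∀ z ∈ Z, ∀ q : PrimeSpectrum R,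
      PrimeSpectrum.comap (Algebra.TensorProduct.lift (AlgHom.id k R) ((Algebra.ofId k R).comp z)
        (fun _ _ => Commute.all _ _)).toRingHom q ∈ U)
    (hsurj : ∀ q : PrimeSpectrum R, ∃ P ∈ U,
      PrimeSpectrum.comap (Algebra.TensorProduct.includeLeftRingHom : R →+* TensorProduct k R A) P = q)
    (p : PrimeSpectrum R) :
    ∃ r : R, r ∉ p.asIdeal ∧
      ∃ f : TensorProduct k (Localization.Away r) A,
        f ∈ nonZeroDivisors (TensorProduct k (Localization.Away r) A) ∧
        Module.Flat (Localization.Away r)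
          (TensorProduct k (Localization.Away r) A ⧸ Ideal.span {f}) ∧
        (∀ z ∈ Z, IsUnit (Algebra.TensorProduct.lift (AlgHom.id k (Localization.Away r))
          ((Algebra.ofId k (Localization.Away r)).comp z) (fun _ _ => Commute.all _ _) f)) ∧
        (∀ P : PrimeSpectrum (TensorProduct k (Localization.Away r) A), f ∉ P.asIdeal →
          PrimeSpectrum.comap (Algebra.TensorProduct.map
            (IsScalarTower.toAlgHom k R (Localization.Away r)) (AlgHom.id k A)).toRingHom P ∈ U) := by
  classical
  let S := TensorProduct k R A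
  let b := Module.Free.chooseBasis k A
  let I : Ideal S := PrimeSpectrum.vanishingIdeal ((U : Set (PrimeSpectrum S))ᶜ)
  have hI : PrimeSpectrum.zeroLocus (I : Set S) = (U : Set (PrimeSpectrum S))ᶜ := by
    rw [PrimeSpectrum.zeroLocus_vanishingIdeal_eq_closure]
    exact U.isOpen.isClosed_compl.closure_eq
  have hUI : ∀ Q : PrimeSpectrum S, Q ∈ U → ¬ I ≤ Q.asIdeal := by
    intro Q hQ hle
    have : Q ∈ PrimeSpectrum.zeroLocus (I : Set S) := (PrimeSpectrum.mem_zeroLocus _ _).mpr hle
    rw [hI] at this
    exact this hQ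
  let zR : (A →ₐ[k] k) → (S →ₐ[k] R) := fun z =>
    Algebra.TensorProduct.lift (AlgHom.id k R) ((Algebra.ofId k R).comp z)
      (fun _ _ => Commute.all _ _)
  let 𝔎 : Ideal S := Ideal.map (Algebra.TensorProduct.includeLeftRingHom : R →+* S) p.asIdeal
  let P : (A →ₐ[k] k) → Ideal S := fun z => Ideal.comap (zR z).toRingHom p.asIdeal
  have hPprime : ∀ z, (P z).IsPrime := fun z => Ideal.comap_isPrime _ _
  -- `I` is not contained in `𝔎`
  have h𝔎 : ¬ I ≤ 𝔎 := by
    obtain ⟨P₀, hP₀U, hP₀p⟩ := hsurj p
    intro hle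
    refine hUI P₀ hP₀U (hle.trans ?_)
    rw [Ideal.map_le_iff_le_comap]
    have := congrArg PrimeSpectrum.asIdeal hP₀p
    rw [PrimeSpectrum.comap_asIdeal] at this
    exact this.ge
  -- `I` is not contained in `P z`
  have hP : ∀ z ∈ Z, ¬ I ≤ P z := by
    intro z hz hle
    exact hUI _ (hZ z hz p) hle
  -- prime avoidance
  let idx : Finset (Option (A →ₐ[k] k)) := insert none (Z.image some)
  let J : Option (A →ₐ[k] k) → Ideal S := fun o => o.elim 𝔎 P
  have hav := (Ideal.subset_union_prime (s := idx) (f := J) none none (by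
      intro i hi h1 _
      cases i with
      | none => exact absurd rfl h1
      | some z => exact hPprime z) (I := I)).not
  have hnot : ¬ ∃ i ∈ idx, I ≤ J i := by
    rintro ⟨i, hi, hle⟩
    rcases Finset.mem_insert.mp hi with rfl | hi
    · exact h𝔎 hle
    · obtain ⟨z, hz, rfl⟩ := Finset.mem_image.mp hi
      exact hP z hz hle
  obtain ⟨f₀, hf₀I, hf₀⟩ := Set.not_subset.mp (hav.mpr hnot)
  have hf₀𝔎 : f₀ ∉ 𝔎 := by
    intro h
    apply hf₀
    refine Set.mem_iUnion₂.mpr ⟨none, ?_, h⟩
    exact Finset.mem_coe.mpr (Finset.mem_insert_self _ _)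
  have hf₀P : ∀ z ∈ Z, zR z f₀ ∉ p.asIdeal := by
    intro z hz h
    apply hf₀
    refine Set.mem_iUnion₂.mpr ⟨some z, ?_, h⟩
    exact Finset.mem_coe.mpr (Finset.mem_insert_of_mem (Finset.mem_image_of_mem _ hz))
  -- coefficients
  let bR := Algebra.TensorProduct.basis R b
  let c := bR.repr f₀
  obtain ⟨i₀, hi₀⟩ : ∃ i₀, c i₀ ∉ p.asIdeal := by
    by_contra hall
    push_neg at hall
    apply hf₀𝔎
    rw [Groth.Agent.Lib.helper11.ContentFlat.eq_sum_tmul b f₀]
    refine Ideal.sum_mem _ fun i _ => ?_
    have : (c i) ⊗ₜ[k] b i = (Algebra.TensorProduct.includeLeftRingHom (c i) : S) *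
        ((1 : R) ⊗ₜ[k] b i) := by
      show _ = ((c i) ⊗ₜ[k] (1 : A)) * ((1 : R) ⊗ₜ[k] b i)
      rw [Algebra.TensorProduct.tmul_mul_tmul, mul_one, one_mul]
    show (c i) ⊗ₜ[k] b i ∈ 𝔎
    rw [this]
    exact Ideal.mul_mem_right _ _ (Ideal.mem_map_of_mem _ (hall i))
  let r : R := c i₀ * ∏ z ∈ Z, zR z f₀
  have hr : r ∉ p.asIdeal := by
    intro h
    rcases p.2.mem_or_mem h with h | h
    · exact hi₀ h
    · obtain ⟨z, hz, hzp⟩ := (p.2.prod_mem_iff).mp h
      exact hf₀P z hz hzp
  refine ⟨r, hr, ?_⟩
  haveI : Nontrivial (Localization.Away r) := nontrivial_away p r hr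
  let R' := Localization.Away r
  let S' := TensorProduct k R' A
  let φ : S →ₐ[k] S' :=
    Algebra.TensorProduct.map (IsScalarTower.toAlgHom k R R') (AlgHom.id k A)
  have hrunit : IsUnit (algebraMap R R' r) := IsLocalization.Away.algebraMap_isUnit r
  have hunit_of_dvd : ∀ a : R, a ∣ r → IsUnit (algebraMap R R' a) := fun a ha =>
    isUnit_of_dvd_unit (map_dvd (algebraMap R R') ha) hrunit
  have hu : IsUnit (algebraMap R R' (c i₀)) := hunit_of_dvd _ (Dvd.intro _ rfl)
  obtain ⟨v, hv⟩ := hu.exists_left_inv
  have hvunit : IsUnit v := IsUnit.of_mul_eq_one _ hv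
  let f : S' := v • φ f₀
  have hcoeff : (Algebra.TensorProduct.basis R' b).repr f i₀ = 1 := by
    show (Algebra.TensorProduct.basis R' b).repr (v • φ f₀) i₀ = 1
    rw [map_smul, Finsupp.smul_apply, repr_map b (IsScalarTower.toAlgHom k R R') f₀ i₀, smul_eq_mul]
    exact hv
  obtain ⟨hnzd, hflat⟩ :=
    Groth.Agent.Lib.helper11.ContentFlat.nzd_and_flat_of_coeff_eq_one b f i₀ hcoeff
  refine ⟨f, hnzd, hflat, ?_, ?_⟩
  · intro z hz
    let zR' : S' →ₐ[k] R' :=
      Algebra.TensorProduct.lift (AlgHom.id k R') ((Algebra.ofId k R').comp z)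
        (fun _ _ => Commute.all _ _)
    have h1' : ∀ x : S, zR' (φ x) = algebraMap R R' (zR z x) := by
      intro x
      induction x using TensorProduct.induction_on with
      | zero => simp
      | add x y hx hy => simp only [map_add, hx, hy]
      | tmul r₀ a =>
        show zR' ((IsScalarTower.toAlgHom k R R' r₀) ⊗ₜ[k] (AlgHom.id k A a)) =
          algebraMap R R' ((AlgHom.id k R r₀) * ((Algebra.ofId k R).comp z) a)
        show (AlgHom.id k R' (IsScalarTower.toAlgHom k R R' r₀)) *
            ((Algebra.ofId k R').comp z) (AlgHom.id k A a) =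
          algebraMap R R' ((AlgHom.id k R r₀) * ((Algebra.ofId k R).comp z) a)
        simp only [AlgHom.coe_id, id_eq, IsScalarTower.coe_toAlgHom', AlgHom.coe_comp,
          Function.comp_apply, Algebra.ofId_apply, map_mul]
        rw [← IsScalarTower.algebraMap_apply k R R']
    have h1 : zR' (φ f₀) = algebraMap R R' (zR z f₀) := h1' f₀
    have hsm : v • φ f₀ = algebraMap R' S' v * φ f₀ := Algebra.smul_def v (φ f₀)
    have h2 : zR' f = v * zR' (φ f₀) := by
      show zR' (v • φ f₀) = _
      rw [hsm, map_mul, Algebra.TensorProduct.algebraMap_apply]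
      congr 1
      show (AlgHom.id k R' v) * ((Algebra.ofId k R').comp z) 1 = v
      simp
    show IsUnit (zR' f)
    rw [h2, h1]
    refine hvunit.mul (hunit_of_dvd _ ?_)
    exact Dvd.dvd.mul_left (Finset.dvd_prod_of_mem (fun z => zR z f₀) hz) _
  · intro Q hQ
    by_contra hnotU
    apply hQ
    have h1 : PrimeSpectrum.comap φ.toRingHom Q ∈ PrimeSpectrum.zeroLocus (I : Set S) := by
      rw [hI]
      exact hnotU
    have h2 : f₀ ∈ (PrimeSpectrum.comap φ.toRingHom Q).asIdeal :=
      (PrimeSpectrum.mem_zeroLocus _ _).mp h1 hf₀I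
    have h3 : φ f₀ ∈ Q.asIdeal := h2
    have hsm : v • φ f₀ = algebraMap R' S' v * φ f₀ := Algebra.smul_def v (φ f₀)
    show v • φ f₀ ∈ Q.asIdeal
    rw [hsm]
    exact Ideal.mul_mem_left _ _ h3

end Groth.Agent.S19308
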