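import Groth.Statements.S19309
import Mathlib

set_option autoImplicit false
universe u
open PowerSeries LaurentSeries
open CAlg

namespace Groth.Agent.S19309

theorem coeff_theta {R R' : Type u} [CommRing R] [CommRing R'] (φ : R →+* R')
    (θ : R⸨X⸩ →+* R'⸨X⸩)
    (hθ : θ.comp (algebraMap R⟦X⟧ R⸨X⸩) = (algebraMap R'⟦X⟧ R'⸨X⸩).comp (PowerSeries.map φ))
    (g : R⸨X⸩) (i : ℤ) : (θ g).coeff i = φ (g.coeff i) := by
  have hθ' : ∀ f : R⟦X⟧, θ (HahnSeries.ofPowerSeries ℤ R f) =
      HahnSeries.ofPowerSeries ℤ R' (PowerSeries.map φ f) := fun f => RingHom.congr_fun hθ f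
  obtain ⟨N, hN⟩ : ∃ N : ℕ, ∀ j : ℤ, j < -(N : ℤ) → g.coeff j = 0 := by
    refine ⟨(-g.order).toNat, fun j hj => HahnSeries.coeff_eq_zero_of_lt_order ?_⟩
    have := Int.self_le_toNat (-g.order)
    omega
  obtain ⟨h, hhdef⟩ : ∃ h : R⟦X⟧, h = PowerSeries.mk fun m => g.coeff ((m : ℤ) - N) := ⟨_, rfl⟩
  have key : ∀ a : ℤ, (HahnSeries.ofPowerSeries ℤ R h).coeff (a + N) = g.coeff a := by
    intro a
    by_cases ha : 0 ≤ a + N
    · obtain ⟨m, hm⟩ := Int.eq_ofNat_of_zero_le ha
      rw [hm, LaurentSeries.coeff_coe_powerSeries, hhdef, PowerSeries.coeff_mk]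
      congr 1
      omega
    · rw [PowerSeries.coeff_coe, if_pos (not_le.mp ha)]
      exact (hN a (by omega)).symm
  have hh : HahnSeries.ofPowerSeries ℤ R h = HahnSeries.single (N : ℤ) 1 * g := by
    ext j
    have h1 := key (j - N)
    rw [sub_add_cancel] at h1
    rw [h1]
    have h2 : (HahnSeries.single (N : ℤ) (1 : R) * g).coeff ((j - N) + N) = 1 * g.coeff (j - N) :=
      HahnSeries.coeff_single_mul_add
    rw [sub_add_cancel, one_mul] at h2
    exact h2.symm
  have hX : θ (HahnSeries.single (N : ℤ) 1) = HahnSeries.single (N : ℤ) 1 := by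
    have h1 := hθ' (PowerSeries.X ^ N)
    have e1 : PowerSeries.map φ (PowerSeries.X ^ N) = PowerSeries.X ^ N := by
      rw [map_pow, PowerSeries.map_X]
    rw [e1, HahnSeries.ofPowerSeries_X_pow, HahnSeries.ofPowerSeries_X_pow] at h1
    exact h1
  have h2 : HahnSeries.single (N : ℤ) 1 * θ g =
      HahnSeries.ofPowerSeries ℤ R' (PowerSeries.map φ h) := by
    rw [← hX, ← map_mul, ← hh, hθ']
  have h3 : (θ g).coeff i = (HahnSeries.single (N : ℤ) 1 * θ g).coeff (i + N) := by
    rw [HahnSeries.coeff_single_mul_add, one_mul]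
  rw [h3, h2]
  by_cases hi : 0 ≤ i + N
  · obtain ⟨m, hm⟩ := Int.eq_ofNat_of_zero_le hi
    rw [hm, LaurentSeries.coeff_coe_powerSeries, PowerSeries.coeff_map, hhdef, PowerSeries.coeff_mk]
    congr 2
    omega
  · rw [PowerSeries.coeff_coe, if_pos (not_le.mp hi), hN i (by omega), map_zero]



/-- Let k be a field, R a commutative k-algebra, B a finitely presented R⟦X⟧-algebra (an affine scheme V
= Spec B of finite presentation over the disc D_R = Spec R⟦X⟧) and s : B → R((X)) an R⟦X⟧-algebra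
map (a section of V over the punctured disc). Then there is an ideal I of R such that for every ring
map φ : R → R', writing θ : R((X)) → R'((X)) for the ring map compatible with R⟦X⟧ → R'⟦X⟧, the
section s extends to a section over D_{R'} — an R⟦X⟧-algebra map s' : B → R'⟦X⟧ whose composite with
R'⟦X⟧ → R'((X)) is θ ∘ s — if and only if φ kills I. In other words the sub-presheaf of Spec R where
s extends over the disc is the closed subscheme defined by I. -/
theorem result
    (k : Type u) [Field k] (R : Type u) [CommRing R] [Algebra k R]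
    (B : Type u) [CommRing B] [Algebra R⟦X⟧ B] [Algebra.FinitePresentation R⟦X⟧ B]
    (s : B →ₐ[R⟦X⟧] R⸨X⸩) :
    ∃ I : Ideal R, ∀ (R' : Type u) [CommRing R'] (φ : R →+* R') (θ : R⸨X⸩ →+* R'⸨X⸩),
      θ.comp (algebraMap R⟦X⟧ R⸨X⸩) = (algebraMap R'⟦X⟧ R'⸨X⸩).comp (PowerSeries.map φ) →
      ((∃ s' : B →+* R'⟦X⟧, s'.comp (algebraMap R⟦X⟧ B) = PowerSeries.map φ ∧
          (algebraMap R'⟦X⟧ R'⸨X⸩).comp s' = θ.comp s.toRingHom) ↔ I ≤ RingHom.ker φ) := by
  classical
  refine ⟨Ideal.span {r | ∃ b : B, ∃ i : ℤ, i < 0 ∧ (s b).coeff i = r}, ?_⟩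
  intro R' _ φ θ hθ
  have hco := coeff_theta φ θ hθ
  constructor
  · rintro ⟨s', hs'1, hs'2⟩
    apply Ideal.span_le.mpr
    rintro r ⟨b, i, hi, rfl⟩
    rw [SetLike.mem_coe, RingHom.mem_ker, ← hco]
    have h1 : θ (s b) = HahnSeries.ofPowerSeries ℤ R' (s' b) := (RingHom.congr_fun hs'2 b).symm
    rw [h1, PowerSeries.coeff_coe, if_pos hi]
  · intro hI
    have hneg : ∀ b : B, ∀ i : ℤ, i < 0 → (θ (s b)).coeff i = 0 := by
      intro b i hi
      rw [hco]
      exact hI (Ideal.subset_span ⟨b, i, hi, rfl⟩)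
    have hmem : ∀ b : B, ∃ f : R'⟦X⟧, algebraMap R'⟦X⟧ R'⸨X⸩ f = θ (s b) := by
      intro b
      refine ⟨PowerSeries.mk fun m => (θ (s b)).coeff m, ?_⟩
      rw [LaurentSeries.coe_algebraMap]
      ext j
      by_cases hj : 0 ≤ j
      · obtain ⟨m, hm⟩ := Int.eq_ofNat_of_zero_le hj
        rw [hm, LaurentSeries.coeff_coe_powerSeries, PowerSeries.coeff_mk]
      · rw [PowerSeries.coeff_coe, if_pos (not_le.mp hj), hneg b j (not_le.mp hj)]
    have hinj : Function.Injective (algebraMap R'⟦X⟧ R'⸨X⸩) := HahnSeries.ofPowerSeries_injective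
    choose t ht using hmem
    let s' : B →+* R'⟦X⟧ :=
      { toFun := t
        map_one' := hinj (by simp only [ht, map_one])
        map_mul' := fun x y => hinj (by simp only [ht, map_mul])
        map_zero' := hinj (by simp only [ht, map_zero])
        map_add' := fun x y => hinj (by simp only [ht, map_add]) }
    refine ⟨s', ?_, ?_⟩
    · apply RingHom.ext
      intro f
      apply hinj
      change algebraMap R'⟦X⟧ R'⸨X⸩ (t (algebraMap R⟦X⟧ B f)) = _
      rw [ht, s.commutes]
      exact RingHom.congr_fun hθ f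
    · apply RingHom.ext
      intro b
      exact ht b


end Groth.Agent.S19309
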