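import Groth.Statements.S19310
import Mathlib

set_option autoImplicit false
universe u
open TensorProduct
open CAlg

namespace Groth.Agent.S19310

section Points

variable {k : Type u} [Field k] [IsAlgClosed k] {A : Type u} [CommRing A] [Algebra k A]
  [Algebra.FiniteType k A]

/-- weak Nullstellensatz: a proper ideal is contained in the kernel of a rational point. -/
theorem exists_algHom_le_ker (I : Ideal A) (hI : I ≠ ⊤) :
    ∃ z : A →ₐ[k] k, I ≤ RingHom.ker z := by
  obtain ⟨m, hm, hIm⟩ := Ideal.exists_le_maximal I hI
  let _ := Ideal.Quotient.field m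
  have hft : Algebra.FiniteType k (A ⧸ m) :=
    Algebra.FiniteType.of_surjective (Ideal.Quotient.mkₐ k m) (Ideal.Quotient.mkₐ_surjective k m)
  have hfin : Module.Finite k (A ⧸ m) := finite_of_finite_type_of_isJacobsonRing k (A ⧸ m)
  have hint : Algebra.IsIntegral k (A ⧸ m) := Algebra.IsIntegral.of_finite k (A ⧸ m)
  have hbij : Function.Bijective (algebraMap k (A ⧸ m)) :=
    IsAlgClosed.algebraMap_bijective_of_isIntegral
  let e : k ≃ₐ[k] (A ⧸ m) := AlgEquiv.ofBijective (Algebra.ofId k (A ⧸ m)) hbij
  refine ⟨e.symm.toAlgHom.comp (Ideal.Quotient.mkₐ k m), ?_⟩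
  intro f hf
  rw [RingHom.mem_ker]
  have : Ideal.Quotient.mk m f = 0 := Ideal.Quotient.eq_zero_iff_mem.mpr (hIm hf)
  simp [this]

/-- A nonzero element of a finite type domain over an algebraically closed field is nonzero at
some rational point. -/
theorem exists_algHom_ne_zero [IsDomain A] (a : A) (ha : a ≠ 0) : ∃ z : A →ₐ[k] k, z a ≠ 0 := by
  by_contra hcon
  push Not at hcon
  have hJ : IsJacobsonRing A := isJacobsonRing_of_finiteType (A := k) (B := A)
  have hnil : a ∈ nilradical A := by
    rw [nilradical, Ideal.radical_eq_jacobson, Ideal.jacobson, Ideal.mem_sInf]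
    rintro m ⟨-, hm⟩
    obtain ⟨z, hz⟩ := exists_algHom_le_ker (k := k) m hm.ne_top
    have : m = RingHom.ker z := hm.eq_of_le (RingHom.ker_ne_top _) hz
    rw [this, RingHom.mem_ker]
    exact hcon z
  rw [mem_nilradical] at hnil
  exact ha (IsNilpotent.eq_zero hnil)

/-- The evaluation at a rational point `z` of `A`, as a ring map `A ⊗ K → K`. -/
noncomputable def evalAt (K : Type u) [Field K] [Algebra k K] (z : A →ₐ[k] k) : A ⊗[k] K →ₐ[k] K :=
  Algebra.TensorProduct.lift ((Algebra.ofId k K).comp z) (AlgHom.id k K)
    (fun _ _ => Commute.all _ _)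

theorem evalAt_tmul (K : Type u) [Field K] [Algebra k K] (z : A →ₐ[k] k) (a : A) (x : K) :
    evalAt K z (a ⊗ₜ[k] x) = z a • x := by
  simp [evalAt, Algebra.smul_def]

theorem evalAt_eq_sum (K : Type u) [Field K] [Algebra k K] {ι : Type u} (e : Module.Basis ι k K)
    (z : A →ₐ[k] k) (x : A ⊗[k] K) :
    evalAt K z x = Finsupp.linearCombination k e
      (((Algebra.TensorProduct.basis A e).repr x).mapRange z (map_zero z)) := by
  conv_lhs => rw [← (Algebra.TensorProduct.basis A e).linearCombination_repr x]
  rw [Finsupp.linearCombination_apply, Finsupp.linearCombination_apply, Finsupp.sum, map_sum,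
    Finsupp.sum_mapRange_index (by intro i; simp)]
  rw [Finsupp.sum]
  refine Finset.sum_congr rfl ?_
  intro i _
  rw [Algebra.TensorProduct.basis_apply, TensorProduct.smul_tmul', smul_eq_mul, mul_one,
    evalAt_tmul]

/-- `A ⊗ K` has no zero divisors when `A` is a finite type domain over an algebraically closed
field `k` and `K` is a field extension. -/
theorem noZeroDivisors_tensor [IsDomain A] (K : Type u) [Field K] [Algebra k K] :
    NoZeroDivisors (A ⊗[k] K) := by
  classical
  refine ⟨?_⟩
  intro x y hxy
  by_contra hcon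
  push Not at hcon
  obtain ⟨hx, hy⟩ := hcon
  let e := Module.Free.chooseBasis k K
  let E := Algebra.TensorProduct.basis A e
  have hx' : E.repr x ≠ 0 := fun h => hx (by simpa using h)
  have hy' : E.repr y ≠ 0 := fun h => hy (by simpa using h)
  obtain ⟨i, hi⟩ := Finsupp.ne_iff.mp hx'
  obtain ⟨j, hj⟩ := Finsupp.ne_iff.mp hy'
  simp only [Finsupp.coe_zero, Pi.zero_apply] at hi hj
  obtain ⟨z, hz⟩ := exists_algHom_ne_zero (k := k) (E.repr x i * E.repr y j) (mul_ne_zero hi hj)
  rw [map_mul] at hz
  have hne : ∀ (w : A ⊗[k] K) (l : _), z (E.repr w l) ≠ 0 → evalAt K z w ≠ 0 := by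
    intro w l hl h0
    rw [evalAt_eq_sum K e z w] at h0
    have := (linearIndependent_iff.mp e.linearIndependent) _ h0
    have h1 := DFunLike.congr_fun this l
    simp only [Finsupp.mapRange_apply, Finsupp.coe_zero, Pi.zero_apply] at h1
    exact hl h1
  have h1 := hne x i (left_ne_zero_of_mul hz)
  have h2 := hne y j (right_ne_zero_of_mul hz)
  have h3 : evalAt K z (x * y) = 0 := by rw [hxy, map_zero]
  rw [map_mul] at h3
  exact (mul_ne_zero h1 h2) h3

end Points

section Coord

variable {k : Type u} [Field k] {A : Type u} [CommRing A] [Algebra k A]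

/-- Coordinates with respect to the basis `1 ⊗ b_i` are compatible with change of the left
factor. -/
theorem repr_map {ι : Type u} (b : Module.Basis ι k A) {R R' : Type u} [CommRing R] [CommRing R']
    [Algebra k R] [Algebra k R'] (φ : R →ₐ[k] R') (x : R ⊗[k] A) :
    (Algebra.TensorProduct.basis R' b).repr (Algebra.TensorProduct.map φ (AlgHom.id k A) x)
      = ((Algebra.TensorProduct.basis R b).repr x).mapRange φ (map_zero φ) := by
  induction x using TensorProduct.induction_on with
  | zero => simp
  | tmul r a =>
    rw [Algebra.TensorProduct.map_tmul, Algebra.TensorProduct.basis_repr_tmul,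
      Algebra.TensorProduct.basis_repr_tmul]
    ext i
    simp
  | add x y hx hy =>
    rw [map_add, map_add, map_add, hx, hy, Finsupp.mapRange_add (by intro a b; exact map_add φ a b)]

/-- The local step: over a local `k`-algebra `S` with residue field `κ`, an element of `S ⊗ A`
whose image in `κ ⊗ A` is a nonzerodivisor is a nonzerodivisor. -/
theorem local_step {ι : Type u} (b : Module.Basis ι k A) (S : Type u) [CommRing S] [Algebra k S]
    [IsLocalRing S] [NoZeroDivisors (IsLocalRing.ResidueField S ⊗[k] A)]
    (h f : S ⊗[k] A)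
    (hw : Algebra.TensorProduct.map (IsScalarTower.toAlgHom k S (IsLocalRing.ResidueField S))
      (AlgHom.id k A) h ≠ 0)
    (hzero : h * f = 0) : f = 0 := by
  classical
  set κ := IsLocalRing.ResidueField S with hκ
  set θ : S ⊗[k] A →ₐ[k] κ ⊗[k] A :=
    Algebra.TensorProduct.map (IsScalarTower.toAlgHom k S κ) (AlgHom.id k A) with hθ
  let E := Algebra.TensorProduct.basis S b
  let E'' := Algebra.TensorProduct.basis κ b
  let Γ : κ ⊗[S] (S ⊗[k] A) ≃ₗ[κ] κ ⊗[k] A :=
    TensorProduct.AlgebraTensorModule.cancelBaseChange k S κ κ A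
  have hΓ : ∀ y : S ⊗[k] A, Γ ((1 : κ) ⊗ₜ[S] y) = θ y := by
    intro y
    induction y using TensorProduct.induction_on with
    | zero => simp
    | tmul r a =>
      rw [TensorProduct.AlgebraTensorModule.cancelBaseChange_tmul, hθ,
        Algebra.TensorProduct.map_tmul]
      simp [Algebra.smul_def]
    | add x y hx hy => rw [TensorProduct.tmul_add, map_add, map_add, hx, hy]
  let v : ι → S ⊗[k] A := ⇑(LinearMap.mulLeft S h) ∘ ⇑E
  have hli0 : LinearIndependent κ (⇑(LinearMap.mulLeft κ (θ h)) ∘ ⇑E'') := by
    apply E''.linearIndependent.map'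
    rw [LinearMap.ker_eq_bot]
    intro x y hxy
    simp only [LinearMap.mulLeft_apply] at hxy
    exact mul_left_cancel₀ hw hxy
  have hli1 : LinearIndependent κ (TensorProduct.mk S κ (S ⊗[k] A) 1 ∘ v) := by
    have hcomp : (TensorProduct.mk S κ (S ⊗[k] A) 1 ∘ v)
        = ⇑Γ.symm.toLinearMap ∘ (⇑(LinearMap.mulLeft κ (θ h)) ∘ ⇑E'') := by
      funext j
      simp only [Function.comp_apply, LinearEquiv.coe_coe]
      rw [LinearEquiv.eq_symm_apply]
      show Γ ((1 : κ) ⊗ₜ[S] (h * E j)) = θ h * E'' j
      rw [hΓ, map_mul]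
      congr 1
      rw [Algebra.TensorProduct.basis_apply, Algebra.TensorProduct.basis_apply, hθ,
        Algebra.TensorProduct.map_tmul]
      simp
    rw [hcomp]
    apply hli0.map'
    exact LinearMap.ker_eq_bot.mpr Γ.symm.injective
  have hli : LinearIndependent S v := Module.IsLocalRing.linearIndependent_of_flat v hli1
  have hexp : Finsupp.linearCombination S v (E.repr f) = 0 := by
    have := Finsupp.apply_linearCombination S (LinearMap.mulLeft S h) (⇑E) (E.repr f)
    rw [E.linearCombination_repr f] at this
    rw [← this]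
    exact hzero
  have h0 := (linearIndependent_iff.mp hli) _ hexp
  simpa using h0

end Coord

/-- Let k be an algebraically closed field, A a finitely generated k-algebra which is an integral domain
(X = Spec A an affine variety), R a commutative k-algebra, possibly non-reduced, and U an open
subset of X_R = Spec (R ⊗_k A) meeting every fibre of X_R → Spec R (a very dense open subset). Then
a regular function on X_R whose restriction to U vanishes is zero: if f ∈ R ⊗_k A maps to 0 in the
localisation (R ⊗_k A)[1/g] for every g with D(g) ⊆ U, then f = 0. (The published statement is that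
automorphisms of a torsor under a smooth affine group scheme over X_R which are the identity over a
very dense open subset are the identity, for X a smooth projective curve; its proof reduces this to
the present assertion about functions, for quasi-projective X; this row is the affine case.) -/
theorem result
    (k : Type u) [Field k] [IsAlgClosed k]
    (A : Type u) [CommRing A] [Algebra k A] [IsDomain A] [Algebra.FiniteType k A]
    (R : Type u) [CommRing R] [Algebra k R]
    (U : TopologicalSpace.Opens (PrimeSpectrum (TensorProduct k R A)))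
    (hsurj : ∀ q : PrimeSpectrum R, ∃ P ∈ U,
      PrimeSpectrum.comap (Algebra.TensorProduct.includeLeftRingHom : R →+* TensorProduct k R A) P = q)
    (f : TensorProduct k R A)
    (hf : ∀ g : TensorProduct k R A, (PrimeSpectrum.basicOpen g : Set (PrimeSpectrum (TensorProduct k R A))) ⊆ U →
      algebraMap (TensorProduct k R A) (Localization.Away g) f = 0) :
    f = 0 := by
  classical
  by_contra hf0
  let b := Module.Free.chooseBasis k A
  let E := Algebra.TensorProduct.basis R b
  have hrepr : E.repr f ≠ 0 := fun h => hf0 (by simpa using h)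
  obtain ⟨j₀, hj₀⟩ := Finsupp.ne_iff.mp hrepr
  simp only [Finsupp.coe_zero, Pi.zero_apply] at hj₀
  -- a maximal ideal containing the annihilator of a nonzero coefficient
  have hann : (Submodule.span R {E.repr f j₀}).annihilator ≠ ⊤ := by
    intro htop
    have h1 : (1 : R) ∈ (Submodule.span R {E.repr f j₀}).annihilator := by rw [htop]; trivial
    rw [Submodule.mem_annihilator_span_singleton, one_smul] at h1
    exact hj₀ h1
  obtain ⟨q, hqmax, hq⟩ := Ideal.exists_le_maximal _ hann
  haveI : q.IsPrime := hqmax.isPrime
  obtain ⟨P, hPU, hPq⟩ := hsurj ⟨q, inferInstance⟩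
  obtain ⟨_, ⟨g, rfl⟩, hPg, hgU⟩ :=
    PrimeSpectrum.isTopologicalBasis_basic_opens.exists_subset_of_mem_open hPU U.isOpen
  obtain ⟨⟨_, N, rfl⟩, hN⟩ :=
    (IsLocalization.map_eq_zero_iff (Submonoid.powers g) (Localization.Away g) f).mp (hf g hgU)
  simp only at hN
  -- pass to the local ring at `q`
  set S := Localization.AtPrime q with hS
  set κ := IsLocalRing.ResidueField S with hκ
  let ρ : R ⊗[k] A →ₐ[k] S ⊗[k] A :=
    Algebra.TensorProduct.map (IsScalarTower.toAlgHom k R S) (AlgHom.id k A)
  let θ : S ⊗[k] A →ₐ[k] κ ⊗[k] A :=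
    Algebra.TensorProduct.map (IsScalarTower.toAlgHom k S κ) (AlgHom.id k A)
  haveI : NoZeroDivisors (κ ⊗[k] A) := by
    haveI := noZeroDivisors_tensor (k := k) (A := A) κ
    exact (Algebra.TensorProduct.comm k κ A).toMulEquiv.noZeroDivisors
  -- the image of `g` in `κ ⊗ A` is nonzero
  have hg0 : θ (ρ g) ≠ 0 := by
    intro h0
    have h1 : (Algebra.TensorProduct.basis κ b).repr (θ (ρ g)) = 0 := by rw [h0, map_zero]
    rw [repr_map b, repr_map b] at h1
    have hmem : ∀ j, E.repr g j ∈ q := by
      intro j
      have h2 := DFunLike.congr_fun h1 j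
      simp only [Finsupp.mapRange_apply, Finsupp.coe_zero, Pi.zero_apply] at h2
      have h3 : algebraMap R q.ResidueField (E.repr g j) = 0 := by
        rw [IsScalarTower.algebraMap_apply R S q.ResidueField]
        exact h2
      exact Ideal.algebraMap_residueField_eq_zero.mp h3
    apply hPg
    show g ∈ P.asIdeal
    rw [← E.linearCombination_repr g, Finsupp.linearCombination_apply]
    refine Ideal.sum_mem _ ?_
    intro j _
    show (E.repr g j) • E j ∈ P.asIdeal
    rw [Algebra.smul_def]
    refine Ideal.mul_mem_right _ _ ?_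
    have h4 : E.repr g j ∈ (PrimeSpectrum.comap (Algebra.TensorProduct.includeLeftRingHom :
        R →+* TensorProduct k R A) P).asIdeal := by rw [hPq]; exact hmem j
    exact h4
  have hw : θ (ρ (g ^ N)) ≠ 0 := by
    rw [map_pow, map_pow]
    exact pow_ne_zero _ hg0
  have hzero : ρ (g ^ N) * ρ f = 0 := by rw [← map_mul, hN, map_zero]
  have hρf : ρ f = 0 := local_step b S (ρ (g ^ N)) (ρ f) hw hzero
  have h5 : (Algebra.TensorProduct.basis S b).repr (ρ f) = 0 := by rw [hρf, map_zero]
  rw [repr_map b] at h5
  have h6 := DFunLike.congr_fun h5 j₀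
  simp only [Finsupp.mapRange_apply, Finsupp.coe_zero, Pi.zero_apply] at h6
  have h7 : algebraMap R S (E.repr f j₀) = 0 := h6
  obtain ⟨s, hs⟩ := (IsLocalization.map_eq_zero_iff q.primeCompl S _).mp h7
  have h8 : (s : R) ∈ (Submodule.span R {E.repr f j₀}).annihilator := by
    rw [Submodule.mem_annihilator_span_singleton, smul_eq_mul]
    exact hs
  exact s.2 (hq h8)

end Groth.Agent.S19310
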