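import Groth.Statements.S19313
import Groth.Agent.Lib.Helper20.DecShMult

set_option autoImplicit false
universe u
open CategoryTheory CategoryTheory.Limits AlgebraicGeometry
open DecSh

namespace Groth.Agent.S19313

/-- Let k be an algebraically closed field of characteristic zero, X a reduced proper k-scheme of
dimension one without isolated points, L an ample invertible O_X-module, E a coherent O_X-module
with torsion free stalks, χ the Euler characteristic over k and α(M) = χ(M ⊗ L) − χ(M) the
multiplicity. Let δ > 0 and let T be a tensor field on E of type (a, b) with values in a module D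
which is δ-semistable with respect to L. Then for every nonzero proper coherent subsheaf F ⊂ E (a
monomorphism F → E which is not an isomorphism), α(E) · χ(F) − α(F) · χ(E) ≤ δ · a · (α(E) − α(F)).
In slope form: χ(F)/α(F) ≤ χ(E)/α(E) + δ a (α(E) − 1)/α(E), so the maximal slope of E is bounded in
terms of a, δ, α(E), χ(E) alone. (The published corollary is for a reduced projective curve with a
very ample polarisation and a locally free D; none of these is used for this inequality.) -/
theorem result
    (k : Type u) [Field k] [IsAlgClosed k] [CharZero k]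
    (X : Scheme.{u}) [X.Over (Spec (CommRingCat.of k))] [IsProper (X ↘ Spec (CommRingCat.of k))]
    [AlgebraicGeometry.IsReduced X] (hdim : topologicalKrullDim X = 1)
    (hpure : ∀ x : X, ¬ IsOpen ({x} : Set X))
    (L : X.Modules) (hL : CohB1.IsAmple L)
    (E : X.Modules) (hE : Coh.IsCoh E) (htf : TorSh.IsTorsionFree E)
    {D : X.Modules} {a b : ℕ} (T : DecSh.TF E a b D)
    (δ : ℚ) (hδ : 0 < δ) (hT : T.IsSemistable k L δ)
    (F : X.Modules) (ι : F ⟶ E) [Mono ι] (hF : Coh.IsCoh F) (hF0 : ¬ IsZero F) (hι : ¬ IsIso ι) :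
    (DecSh.mult k X L E : ℚ) * (Curv2.euler k X F : ℚ) - (DecSh.mult k X L F : ℚ) * (Curv2.euler k X E : ℚ)
      ≤ δ * (a : ℚ) * ((DecSh.mult k X L E : ℚ) - (DecSh.mult k X L F : ℚ)) := by
  have hdimX : topologicalKrullDim X ≤ ((1 : ℕ) : WithBot ℕ∞) := by
    rw [hdim]; exact le_of_eq Nat.cast_one.symm
  have := Groth.Agent.Lib.Lead.CurveEuler.isNoetherian k X
  have hαE := Groth.Agent.Lib.Helper20.DecShMult.mult_nonneg k X hL hE hdimX
  have hP : Subobject.mk ι ≠ ⊤ := fun h => hι ((Subobject.isIso_iff_mk_eq_top ι).mpr h)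
  let e : ((Subobject.mk ι : Subobject E) : X.Modules) ≅ F := Subobject.underlyingIso ι
  have hP0 : ¬ IsZero ((Subobject.mk ι : Subobject E) : X.Modules) :=
    fun hz => hF0 (hz.of_iso e.symm)
  have hcoh : Coh.IsCoh ((Subobject.mk ι : Subobject E) : X.Modules) :=
    Groth.Agent.Lib.helper7.CohKer.isCoh_of_iso e.symm hF
  have h := hT (DecSh.WFilt.single (Subobject.mk ι) hP hP0) (fun _ => hcoh)
  have h' : (DecSh.WFilt.single (Subobject.mk ι) hP hP0).msum (DecSh.mult k X L E)
      (fun P => DecSh.mult k X L (P : X.Modules)) (Curv2.euler k X E)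
      (fun P => (Curv2.euler k X (P : X.Modules) : ℚ)) +
      δ * (DecSh.WFilt.single (Subobject.mk ι) hP hP0).mu (DecSh.mult k X L E)
        (fun P => DecSh.mult k X L (P : X.Modules)) T.nv ≤ 0 := h
  have key := Groth.Agent.Lib.Helper20.DecShMult.single_ineq (C := X.Modules) (E := E)
    (DecSh.mult k X L E)
    (fun P => DecSh.mult k X L (P : X.Modules)) (Curv2.euler k X E)
    (fun P => (Curv2.euler k X (P : X.Modules) : ℚ)) T.nv δ hδ.le hαE (Subobject.mk ι) hP hP0 h'
  beta_reduce at key
  rw [Groth.Agent.Lib.Helper20.DecShMult.mult_eq_of_iso k X L e,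
    Groth.Agent.Lib.Lead.CurveEuler.euler_eq_of_iso k X e] at key
  exact key

end Groth.Agent.S19313
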