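import Groth.Statements.S19315
import Groth.Agent.Lib.Helper20.TFCurve
import Groth.Agent.Lib.Helper20.DecShComb
import Groth.Agent.Lib.Helper14.FibreH0
import Groth.Agent.Lib.Helper16.FLF5
import Groth.Agent.Lib.Lead.RankAdd
import Groth.Agent.Lib.Lead.HilbPos16

set_option autoImplicit false
universe u
open CategoryTheory CategoryTheory.Limits AlgebraicGeometry
open DecSh

namespace Groth.Agent.S19315

/-- Let k be an algebraically closed field of characteristic zero, Y a smooth proper k-scheme of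
dimension one without isolated points (possibly disconnected), L an ample invertible O_Y-module, χ
the Euler characteristic over k and α(M) = χ(M ⊗ L) − χ(M) the multiplicity. Let E be a locally free
O_Y-module of rank r with a generalized parabolic structure: finitely many effective Cartier ideal
sheaves I_1, …, I_ν (the divisors D_i) and, for each i, a k-subspace K_i of H⁰(E ⊗ O_{D_i}) whose
quotient has dimension r (K_i is the kernel of the parabolic quotient q_i). Fix rational weights κ_i
with 0 < κ_i < 1, δ > 0, and a tensor field T of type (a, b) on E with values in a module D such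
that (E, K, T) is (κ, δ)-semistable with respect to L. Then every nonzero proper coherent subsheaf F
⊂ E satisfies χ(F)/α(F) ≤ χ(E)/α(E) + (a·δ + r·ν). (The source states the bound for the slopes deg/α
with deg as the constant term of the Hilbert polynomial corrected by the rank; these differ from χ/α
by the same constant on both sides. The published target of the tensor field is det(E)^{⊗c} ⊗ L' and
the D_i are the pairs of points over the nodes; the bound uses neither.) -/
theorem result
    (k : Type u) [Field k] [IsAlgClosed k] [CharZero k]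
    (Y : Scheme.{u}) [Y.Over (Spec (CommRingCat.of k))] [IsProper (Y ↘ Spec (CommRingCat.of k))]
    [Smooth (Y ↘ Spec (CommRingCat.of k))] (hdim : topologicalKrullDim Y = 1)
    (hpure : ∀ y : Y, ¬ IsOpen ({y} : Set Y))
    (L : Y.Modules) (hL : CohB1.IsAmple L)
    (E : Y.Modules) (r : ℕ) (hE : FlatMod.IsFinLocFreeOfRank r E)
    {ν : ℕ} (I : Fin ν → Y.IdealSheafData) (hI : ∀ i, FGA.IsEffCartier (I i))
    (K : ∀ i, Submodule k (ParSh.fibD Y (I i) E))
    (hK : ∀ i, Module.finrank k (ParSh.fibD Y (I i) E ⧸ K i) = r)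
    (κ : Fin ν → ℚ) (hκ : ∀ i, 0 < κ i ∧ κ i < 1)
    {D : Y.Modules} {a b : ℕ} (T : DecSh.TF E a b D)
    (δ : ℚ) (hδ : 0 < δ) (hT : T.IsParSemistable k I K κ L δ)
    (F : Y.Modules) (ι : F ⟶ E) [Mono ι] (hF : Coh.IsCoh F) (hF0 : ¬ IsZero F) (hι : ¬ IsIso ι) :
    (Curv2.euler k Y F : ℚ) / (DecSh.mult k Y L F : ℚ) ≤
      (Curv2.euler k Y E : ℚ) / (DecSh.mult k Y L E : ℚ) + ((a : ℚ) * δ + (r : ℚ) * (ν : ℚ)) := by
  haveI : AlgebraicGeometry.IsReduced Y :=
    Groth.Agent.Lib.Helper14.FibreH0.isReduced_of_smooth_field k (Y ↘ Spec (CommRingCat.of k))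
  have hdimX : topologicalKrullDim Y ≤ ((1 : ℕ) : WithBot ℕ∞) := by
    rw [hdim]; exact le_of_eq Nat.cast_one.symm
  have := Groth.Agent.Lib.Lead.CurveEuler.isNoetherian k Y
  have hEflf : FlatMod.IsFinLocFree E :=
    Groth.Agent.Lib.helper16.FLF.isFinLocFree_of_isFinLocFreeOfRank hE
  have hEcoh : Coh.IsCoh E := Groth.Agent.Lib.Lead.RankAdd.isCoh_of_isFinLocFreeOfRank hE
  have htf : TorSh.IsTorsionFree E := fun x => by
    obtain ⟨h1, -⟩ := Groth.Agent.Lib.helper16.FLF.free_stalk_of_isFinLocFree E hEflf x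
    haveI := h1
    infer_instance
  -- the rank is positive
  have hr : 0 < r := by
    by_contra h0
    have hr0 : r = 0 := by omega
    subst hr0
    apply hF0
    have hEz : IsZero E :=
      Groth.Agent.Lib.Lead.TorsPure.isZero_of_forall_subsingleton_stalk E (fun x => by
        obtain ⟨h1, h2⟩ := Groth.Agent.Lib.helper16.FLF.free_stalk_of_isFinLocFree E hEflf x
        have h3 := Groth.Agent.Lib.helper16.FLF.finrank_stalk_of_isFinLocFreeOfRank E hE x
        haveI := h1
        haveI := h2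
        exact (Module.finrank_eq_zero_iff_of_free _ _).1 h3)
    exact Groth.Agent.Lib.Lead.HilbPos.isZero_of_mono_of_isZero ι hEz
  -- bounds on the parabolic correction terms
  have hcb : ∀ {G : Y.Modules} (j : G ⟶ E),
      0 ≤ ∑ i, κ i * (Module.finrank k
        ((LinearMap.range (ParSh.fibDMap k Y (I i) j)).map (K i).mkQ) : ℚ) ∧
      ∑ i, κ i * (Module.finrank k
        ((LinearMap.range (ParSh.fibDMap k Y (I i) j)).map (K i).mkQ) : ℚ) ≤ (r : ℚ) * (ν : ℚ) := by
    intro G j
    constructor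
    · exact Finset.sum_nonneg fun i _ => mul_nonneg (hκ i).1.le (by positivity)
    · have h1 : ∀ i ∈ (Finset.univ : Finset (Fin ν)), κ i * (Module.finrank k
          ((LinearMap.range (ParSh.fibDMap k Y (I i) j)).map (K i).mkQ) : ℚ) ≤ (r : ℚ) := by
        intro i _
        haveI : Module.Finite k (ParSh.fibD Y (I i) E ⧸ K i) :=
          Module.finite_of_finrank_pos (by rw [hK i]; exact hr)
        have h2 : Module.finrank k
            ((LinearMap.range (ParSh.fibDMap k Y (I i) j)).map (K i).mkQ) ≤ r := by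
          rw [← hK i]; exact Submodule.finrank_le _
        have h3 : (Module.finrank k
            ((LinearMap.range (ParSh.fibDMap k Y (I i) j)).map (K i).mkQ) : ℚ) ≤ (r : ℚ) := by
          exact_mod_cast h2
        have h4 : (0 : ℚ) ≤ (Module.finrank k
            ((LinearMap.range (ParSh.fibDMap k Y (I i) j)).map (K i).mkQ) : ℚ) := by positivity
        nlinarith [(hκ i).1, (hκ i).2]
      have h5 := Finset.sum_le_sum h1
      simp only [Finset.sum_const, Finset.card_univ, Fintype.card_fin, nsmul_eq_mul] at h5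
      linarith
  have hP : Subobject.mk ι ≠ ⊤ := fun h => hι ((Subobject.isIso_iff_mk_eq_top ι).mpr h)
  let e : ((Subobject.mk ι : Subobject E) : Y.Modules) ≅ F := Subobject.underlyingIso ι
  have hP0 : ¬ IsZero ((Subobject.mk ι : Subobject E) : Y.Modules) :=
    fun hz => hF0 (hz.of_iso e.symm)
  have hcoh : Coh.IsCoh ((Subobject.mk ι : Subobject E) : Y.Modules) :=
    Groth.Agent.Lib.helper7.CohKer.isCoh_of_iso e.symm hF
  have hαE := Groth.Agent.Lib.Helper20.DecShMult.mult_nonneg k Y hL hEcoh hdimX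
  have hαF1 : 1 ≤ DecSh.mult k Y L F :=
    Groth.Agent.Lib.Helper20.TFCurve.one_le_mult_of_mono k Y hdim hpure hL ι hF hF0 htf
  have hαFE : DecSh.mult k Y L F ≤ DecSh.mult k Y L E :=
    Groth.Agent.Lib.Helper20.TFCurve.mult_le_of_mono k Y hL hdimX ι hF hEcoh
  have h := hT (DecSh.WFilt.single (Subobject.mk ι) hP hP0) (fun _ => hcoh)
  have h' : (DecSh.WFilt.single (Subobject.mk ι) hP hP0).msum (DecSh.mult k Y L E)
      (fun P => DecSh.mult k Y L (P : Y.Modules)) (DecSh.parChi k I K κ (𝟙 E))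
      (fun P => DecSh.parChi k I K κ P.arrow) +
      δ * (DecSh.WFilt.single (Subobject.mk ι) hP hP0).mu (DecSh.mult k Y L E)
        (fun P => DecSh.mult k Y L (P : Y.Modules)) T.nv ≤ 0 := h
  have key := Groth.Agent.Lib.Helper20.DecShMult.single_ineq (C := Y.Modules) (E := E)
    (DecSh.mult k Y L E)
    (fun P => DecSh.mult k Y L (P : Y.Modules)) (DecSh.parChi k I K κ (𝟙 E))
    (fun P => DecSh.parChi k I K κ P.arrow) T.nv δ hδ.le hαE (Subobject.mk ι) hP hP0 h'
  beta_reduce at key
  rw [Groth.Agent.Lib.Helper20.DecShMult.mult_eq_of_iso k Y L e] at key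
  unfold DecSh.parChi at key
  rw [Groth.Agent.Lib.Lead.CurveEuler.euler_eq_of_iso k Y e] at key
  obtain ⟨hc1, hc2⟩ := hcb (Subobject.mk ι).arrow
  obtain ⟨hd1, hd2⟩ := hcb (𝟙 E)
  generalize (∑ i, κ i * (Module.finrank k
    ((LinearMap.range (ParSh.fibDMap k Y (I i) (Subobject.mk ι).arrow)).map (K i).mkQ) : ℚ)) = cP
    at key hc1 hc2
  generalize (∑ i, κ i * (Module.finrank k
    ((LinearMap.range (ParSh.fibDMap k Y (I i) (𝟙 E))).map (K i).mkQ) : ℚ)) = cE
    at key hd1 hd2
  have hA1 : (1 : ℚ) ≤ (DecSh.mult k Y L F : ℚ) := by exact_mod_cast hαF1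
  have hAB : (DecSh.mult k Y L F : ℚ) ≤ (DecSh.mult k Y L E : ℚ) := by exact_mod_cast hαFE
  generalize (DecSh.mult k Y L F : ℚ) = A at key hA1 hAB ⊢
  generalize (DecSh.mult k Y L E : ℚ) = B at key hAB ⊢
  generalize (Curv2.euler k Y F : ℚ) = x at key ⊢
  generalize (Curv2.euler k Y E : ℚ) = y at key ⊢
  have hApos : 0 < A := by linarith
  have hBpos : 0 < B := by linarith
  have ha0 : (0 : ℚ) ≤ (a : ℚ) := by positivity
  have hr0 : (0 : ℚ) ≤ (r : ℚ) * (ν : ℚ) := by positivity
  rw [div_le_iff₀ hApos]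
  have e1 : (y / B + ((a : ℚ) * δ + (r : ℚ) * (ν : ℚ))) * A =
      (A * y + ((a : ℚ) * δ + (r : ℚ) * (ν : ℚ)) * A * B) / B := by
    field_simp
  rw [e1, le_div_iff₀ hBpos]
  nlinarith [mul_nonneg (mul_nonneg ha0 hδ.le) (sub_nonneg.2 hA1), mul_nonneg hApos.le hd1,
    mul_nonneg hBpos.le (sub_nonneg.2 hc2), mul_nonneg (mul_nonneg ha0 hδ.le) hApos.le,
    mul_nonneg hr0 (mul_nonneg hBpos.le (sub_nonneg.2 hA1)),
    mul_nonneg (mul_nonneg ha0 hδ.le) (mul_nonneg hBpos.le (sub_nonneg.2 hA1))]

end Groth.Agent.S19315
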