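import Groth.Statements.S19322
import Mathlib
import Groth.Agent.S8355

set_option autoImplicit false
universe v u
open CategoryTheory CategoryTheory.Limits
open SpSeq

namespace Groth.Agent.S19322

set_option linter.style.haveILetI false

variable {K : Type u} [Field K]

lemma hom_lemma (S : ShortComplex (ModuleCat.{v} K)) [Module.Finite K S.X₂] :
    Module.Finite K S.homology ∧ Module.finrank K S.homology ≤ Module.finrank K S.X₂ ∧
    (Module.finrank K S.homology = Module.finrank K S.X₂ → S.f = 0 ∧ S.g = 0) := by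
  have e : S.homology ≃ₗ[K] (LinearMap.ker S.g.hom ⧸ LinearMap.range S.moduleCatToCycles) :=
    S.moduleCatHomologyIso.toLinearEquiv
  have h1 : Module.finrank K (LinearMap.ker S.g.hom ⧸ LinearMap.range S.moduleCatToCycles) ≤
      Module.finrank K (LinearMap.ker S.g.hom) := Submodule.finrank_quotient_le _
  have h2 : Module.finrank K (LinearMap.ker S.g.hom) ≤ Module.finrank K S.X₂ :=
    Submodule.finrank_le _
  refine ⟨Module.Finite.equiv e.symm, ?_, ?_⟩
  · rw [e.finrank_eq]; omega
  · intro h
    rw [e.finrank_eq] at h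
    have h3 : Module.finrank K (LinearMap.ker S.g.hom) = Module.finrank K S.X₂ := by omega
    have h4 : LinearMap.ker S.g.hom = ⊤ := Submodule.eq_top_of_finrank_eq h3
    have h6 := Submodule.finrank_quotient_add_finrank (LinearMap.range S.moduleCatToCycles)
    have h7 : Module.finrank K (LinearMap.range S.moduleCatToCycles) = 0 := by omega
    have h8 : LinearMap.range S.moduleCatToCycles = ⊥ := Submodule.finrank_eq_zero.1 h7
    constructor
    · apply ModuleCat.hom_ext; apply LinearMap.ext; intro x
      have h9 : S.moduleCatToCycles x ∈ LinearMap.range S.moduleCatToCycles := ⟨x, rfl⟩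
      rw [h8, Submodule.mem_bot] at h9
      have := congrArg Subtype.val h9
      simpa using this
    · apply ModuleCat.hom_ext; apply LinearMap.ext; intro x
      have : x ∈ LinearMap.ker S.g.hom := h4 ▸ Submodule.mem_top
      simpa using this


lemma page_ind {r₀ : ℤ} (E : CohomologicalSpectralSequence (ModuleCat.{v} K) r₀) (pq : ℤ × ℤ)
    (hfd : Module.Finite K ((E.page r₀ le_rfl).X pq)) (r : ℤ) (hr : r₀ ≤ r) :
    Module.Finite K ((E.page r hr).X pq) ∧
    Module.finrank K ((E.page r hr).X pq) ≤ Module.finrank K ((E.page r₀ le_rfl).X pq) ∧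
    (Module.finrank K ((E.page r hr).X pq) = Module.finrank K ((E.page r₀ le_rfl).X pq) →
      ∀ (r' : ℤ) (h₀ : r₀ ≤ r'), r' < r →
        (E.page r' h₀).d (pq - (r', 1 - r')) pq = 0 ∧
          (E.page r' h₀).d pq (pq + (r', 1 - r')) = 0) := by
  induction r, hr using Int.leInduction with
  | base =>
    refine ⟨hfd, le_rfl, fun _ r' h₀ h => ?_⟩
    omega
  | succ r hr ih =>
    obtain ⟨ih1, ih2, ih3⟩ := ih
    haveI : Module.Finite K (((E.page r hr).sc pq).X₂) := ih1
    obtain ⟨l1, l2, l3⟩ := hom_lemma ((E.page r hr).sc pq)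
    have e : ((E.page r hr).sc pq).homology ≃ₗ[K] ((E.page (r + 1) (by omega)).X pq) :=
      (E.iso r (r + 1) pq rfl hr).toLinearEquiv
    have hfr : Module.finrank K ((E.page (r + 1) (by omega)).X pq) =
        Module.finrank K ((E.page r hr).sc pq).homology := e.finrank_eq.symm
    have l2' : Module.finrank K ((E.page r hr).sc pq).homology ≤
        Module.finrank K ((E.page r hr).X pq) := l2
    refine ⟨Module.Finite.equiv e, by omega, fun heq r' h₀ hlt => ?_⟩
    have h1 : Module.finrank K ((E.page r hr).X pq) =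
        Module.finrank K ((E.page r₀ le_rfl).X pq) := by omega
    rcases (show r' < r ∨ r' = r by omega) with h | h
    · exact ih3 h1 r' h₀ h
    · subst h
      obtain ⟨d1, d2⟩ := l3 (by
        show Module.finrank K ((E.page r' hr).sc pq).homology = Module.finrank K ((E.page r' hr).X pq)
        omega)
      have e1 : (ComplexShape.up' (⟨r', 1 - r'⟩ : ℤ × ℤ)).prev pq = pq - (r', 1 - r') :=
        ComplexShape.prev_eq' _ (by simp [ComplexShape.up'])
      have e2 : (ComplexShape.up' (⟨r', 1 - r'⟩ : ℤ × ℤ)).next pq = pq + (r', 1 - r') :=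
        ComplexShape.next_eq' _ (by simp [ComplexShape.up'])
      constructor
      · have : (E.page r' hr).d ((ComplexShape.up' (⟨r', 1 - r'⟩ : ℤ × ℤ)).prev pq) pq = 0 := d1
        rwa [e1] at this
      · have : (E.page r' hr).d pq ((ComplexShape.up' (⟨r', 1 - r'⟩ : ℤ × ℤ)).next pq) = 0 := d2
        rwa [e2] at this


lemma telescope (φ g : ℤ → ℕ) (h : ∀ p, φ p = φ (p + 1) + g p) (m : ℕ) :
    ∑ s ∈ Finset.Icc (0 : ℤ) m, g s + φ (m + 1) = φ 0 := by
  induction m with
  | zero =>
    simp only [Nat.cast_zero, Finset.Icc_self, Finset.sum_singleton, zero_add]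
    have := h 0
    simp only [zero_add] at this
    omega
  | succ m ih =>
    have hI : Finset.Icc (0 : ℤ) ((m + 1 : ℕ) : ℤ) = insert ((m : ℤ) + 1) (Finset.Icc 0 (m : ℤ)) := by
      ext x; simp only [Finset.mem_Icc, Finset.mem_insert]; push_cast; omega
    rw [hI, Finset.sum_insert (by simp)]
    have := h ((m : ℤ) + 1)
    push_cast
    omega

section fil
variable (F : SpSeq.FilObj (ModuleCat.{v} K)) [Module.Finite K F.obj]

lemma fin_step (p : ℤ) : Module.Finite K (F.step p) :=
  Module.Finite.of_injective (F.fil p).arrow.hom ((ModuleCat.mono_iff_injective _).1 inferInstance)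

lemma finrank_step (p : ℤ) : Module.finrank K (F.step p) =
    Module.finrank K (F.step (p + 1)) + Module.finrank K (F.gr p) := by
  haveI := fin_step F p
  haveI := fin_step F (p + 1)
  have hinj : Function.Injective (F.stepLE (Int.le_add_one (le_refl p))).hom :=
    (ModuleCat.mono_iff_injective _).1 inferInstance
  have e : F.gr p ≃ₗ[K] (F.step p ⧸ LinearMap.range (F.stepLE (Int.le_add_one (le_refl p))).hom) :=
    (ModuleCat.cokernelIsoRangeQuotient (F.stepLE (Int.le_add_one (le_refl p)))).toLinearEquiv
  have h1 := Submodule.finrank_quotient_add_finrank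
    (LinearMap.range (F.stepLE (Int.le_add_one (le_refl p))).hom)
  have h2 := LinearMap.finrank_range_of_inj hinj
  rw [e.finrank_eq]
  omega

omit [Module.Finite K F.obj] in
lemma finrank_top (p : ℤ) (h : F.fil p = ⊤) :
    Module.finrank K (F.step p) = Module.finrank K F.obj := by
  haveI : IsIso (F.fil p).arrow := by rw [h]; infer_instance
  exact (asIso (F.fil p).arrow).toLinearEquiv.finrank_eq

omit [Module.Finite K F.obj] in
lemma finrank_bot (p : ℤ) (h : F.fil p = ⊥) :
    Module.finrank K (F.step p) = 0 := by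
  have h0 : (F.fil p).arrow = 0 := by rw [h]; exact Subobject.bot_arrow
  have hz : IsZero (F.step p) := IsZero.of_mono_eq_zero _ h0
  haveI := ModuleCat.subsingleton_of_isZero hz
  exact Module.finrank_zero_of_subsingleton

omit [Module.Finite K F.obj] in
lemma finrank_zero {M : ModuleCat.{v} K} (h : IsZero M) : Module.finrank K M = 0 := by
  haveI := ModuleCat.subsingleton_of_isZero h
  exact Module.finrank_zero_of_subsingleton

lemma sum_gr (n : ℕ) (hfin : F.IsFinite)
    (hz : ∀ p : ℤ, p < 0 ∨ (n : ℤ) < p → IsZero (F.gr p)) :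
    ∑ s ∈ Finset.Icc (0 : ℤ) n, Module.finrank K (F.gr s) = Module.finrank K F.obj := by
  obtain ⟨⟨c, hc⟩, ⟨b, hb⟩⟩ := hfin
  have hstep : ∀ p, Module.finrank K (F.step p) =
      Module.finrank K (F.step (p + 1)) + Module.finrank K (F.gr p) := finrank_step F
  have hup : ∀ k : ℕ, Module.finrank K (F.step ((n : ℤ) + 1 + k)) =
      Module.finrank K (F.step ((n : ℤ) + 1)) := by
    intro k
    induction k with
    | zero => rw [Nat.cast_zero, add_zero]
    | succ k ih =>
      have h1 := hstep ((n : ℤ) + 1 + k)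
      rw [finrank_zero (hz _ (Or.inr (by omega)))] at h1
      have h3 : (n : ℤ) + 1 + ((k + 1 : ℕ) : ℤ) = ((n : ℤ) + 1 + k) + 1 := by push_cast; ring
      rw [h3]; omega
  have hdown : ∀ k : ℕ, Module.finrank K (F.step ((0 : ℤ) - k)) =
      Module.finrank K (F.step 0) := by
    intro k
    induction k with
    | zero => rw [Nat.cast_zero, sub_zero]
    | succ k ih =>
      have h1 := hstep ((0 : ℤ) - ((k + 1 : ℕ) : ℤ))
      rw [finrank_zero (hz _ (Or.inl (by push_cast; omega)))] at h1
      have h3 : (0 : ℤ) - ((k + 1 : ℕ) : ℤ) + 1 = (0 : ℤ) - k := by push_cast; ring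
      rw [h3] at h1; omega
  have t2 : Module.finrank K (F.step ((n : ℤ) + 1)) = 0 := by
    rcases le_total ((n : ℤ) + 1) b with hab | hab
    · have := hup (b - ((n : ℤ) + 1)).toNat
      rw [Int.toNat_of_nonneg (by omega), add_sub_cancel] at this
      rw [← this]; exact finrank_bot F b hb
    · exact finrank_bot F _ (le_bot_iff.1 (hb ▸ F.anti hab))
  have t1 : Module.finrank K (F.step 0) = Module.finrank K F.obj := by
    rcases le_total c 0 with hc0 | hc0
    · have := hdown (0 - c).toNat
      rw [Int.toNat_of_nonneg (by omega), sub_sub_cancel] at this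
      rw [← this]; exact finrank_top F c hc
    · exact finrank_top F _ (top_le_iff.1 (hc ▸ F.anti hc0))
  have h : ∑ s ∈ Finset.Icc (0 : ℤ) n, Module.finrank K (F.gr s) +
      Module.finrank K (F.step ((n : ℤ) + 1)) = Module.finrank K (F.step 0) :=
    telescope (fun p => Module.finrank K (F.step p)) (fun p => Module.finrank K (F.gr p))
      hstep n
  omega

end fil

theorem main {r₀ : ℤ}
    (E : CohomologicalSpectralSequence (ModuleCat.{v} K) r₀) (H : ℤ → ModuleCat.{v} K)
    (a : SpSeq.Abutment E H) (n : ℤ) (hfin : a.IsFinite n)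
    (hquad : ∀ pq : ℤ × ℤ, pq.1 < 0 ∨ pq.2 < 0 → IsZero ((E.page r₀ le_rfl).X pq))
    (hfd : ∀ pq : ℤ × ℤ, Module.Finite K ((E.page r₀ le_rfl).X pq))
    (hH : Module.Finite K (H n))
    (hsum : ∑ s ∈ Finset.Icc (0 : ℤ) n, Module.finrank K ((E.page r₀ le_rfl).X (s, n - s)) =
      Module.finrank K (H n)) :
    ∀ s : ℤ, SpSeq.StationaryAt E (s, n - s) r₀ := by
  intro s
  refine ⟨le_rfl, fun r' h₀ _ => ?_⟩
  by_cases hs : 0 ≤ s ∧ s ≤ n
  · obtain ⟨hs0, hsn⟩ := hs
    have hn : 0 ≤ n := by omega
    obtain ⟨m, rfl⟩ := Int.eq_ofNat_of_zero_le hn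
    have gz : ∀ p : ℤ, p < 0 ∨ (m : ℤ) < p → IsZero ((a.filObj m).gr p) := by
      intro p hp
      have aux : ∀ (k : ℤ) (hk : k = m), IsZero (SpSeq.grPiece (a.fil k) (a.anti k) p) →
          IsZero (SpSeq.grPiece (a.fil m) (a.anti m) p) := by
        intro k hk h; subst hk; exact h
      have hz0 : IsZero ((E.page r₀ le_rfl).X (p, (m : ℤ) - p)) :=
        hquad _ (by rcases hp with hp | hp
                    · left; exact hp
                    · right; show (m : ℤ) - p < 0; omega)
      exact aux _ (by show p + ((m : ℤ) - p) = m; ring)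
        ((Groth.Agent.S8355.main E r₀ le_rfl (p, (m : ℤ) - p) hz0).2 H a)
    haveI : Module.Finite K (a.filObj m).obj := hH
    have hsg := sum_gr (a.filObj m) m hfin gz
    have hβ : ∀ p : ℤ, Module.finrank K ((a.filObj m).gr p) =
        Module.finrank K ((E.page (a.rk (p, (m : ℤ) - p)) (a.stat _).1).X (p, (m : ℤ) - p)) := by
      intro p
      have aux : ∀ (k : ℤ) (hk : k = m),
          Module.finrank K (SpSeq.grPiece (a.fil k) (a.anti k) p : ModuleCat.{v} K) =
          Module.finrank K (SpSeq.grPiece (a.fil m) (a.anti m) p : ModuleCat.{v} K) := by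
        intro k hk; subst hk; rfl
      have h1 := aux ((p, (m : ℤ) - p).1 + (p, (m : ℤ) - p).2)
        (by show p + ((m : ℤ) - p) = m; ring)
      have h2 := (a.β (p, (m : ℤ) - p)).toLinearEquiv.finrank_eq
      exact h1.symm.trans h2.symm
    have hle : ∀ p ∈ Finset.Icc (0 : ℤ) m, Module.finrank K ((a.filObj m).gr p) ≤
        Module.finrank K ((E.page r₀ le_rfl).X (p, (m : ℤ) - p)) := by
      intro p _
      rw [hβ p]
      exact (page_ind E _ (hfd _) _ (a.stat _).1).2.1
    have heq := (Finset.sum_eq_sum_iff_of_le hle).1 (hsg.trans hsum.symm)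
    have h1 := heq s (Finset.mem_Icc.2 ⟨hs0, hsn⟩)
    rw [hβ] at h1
    rcases lt_or_ge r' (a.rk (s, (m : ℤ) - s)) with hlt | hge
    · exact (page_ind E _ (hfd _) _ (a.stat _).1).2.2 h1 r' h₀ hlt
    · exact (a.stat (s, (m : ℤ) - s)).2 r' h₀ hge
  · have hz0 : IsZero ((E.page r₀ le_rfl).X (s, n - s)) :=
      hquad _ (by
        by_cases h : s < 0
        · left; exact h
        · right; show n - s < 0; omega)
    have hz := (Groth.Agent.S8355.main E r₀ le_rfl (s, n - s) hz0).1 r' h₀
    exact ⟨hz.eq_of_tgt _ _, hz.eq_of_src _ _⟩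



/-- Let K be a field and E a cohomological spectral sequence of K-vector spaces, pages from r₀,
concentrated in the first quadrant on page r₀ and with all terms of page r₀ finite-dimensional, and
let H be abutment data for E whose filtration in degree n is finite, H n finite-dimensional. If the
dimensions of the page-r₀ terms E^{s, n-s}, 0 ≤ s ≤ n, add up to the dimension of H n, then every
position of total degree n is stationary from page r₀ on: all differentials into and out of it
vanish on every page. (The printed statement takes r₀ a positive integer and n ≥ 0; neither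
restriction is needed.) -/
theorem result
    {K : Type u} [Field K] {r₀ : ℤ}
    (E : CohomologicalSpectralSequence (ModuleCat.{v} K) r₀) (H : ℤ → ModuleCat.{v} K)
    (a : SpSeq.Abutment E H) (n : ℤ) (hfin : a.IsFinite n)
    (hquad : ∀ pq : ℤ × ℤ, pq.1 < 0 ∨ pq.2 < 0 → IsZero ((E.page r₀ le_rfl).X pq))
    (hfd : ∀ pq : ℤ × ℤ, Module.Finite K ((E.page r₀ le_rfl).X pq))
    (hH : Module.Finite K (H n))
    (hsum : ∑ s ∈ Finset.Icc (0 : ℤ) n, Module.finrank K ((E.page r₀ le_rfl).X (s, n - s)) =
      Module.finrank K (H n)) :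
    ∀ s : ℤ, SpSeq.StationaryAt E (s, n - s) r₀ := by
  exact main E H a n hfin hquad hfd hH hsum

end Groth.Agent.S19322
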