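import Groth.Statements.S19323


set_option autoImplicit false
universe v u
open CategoryTheory CategoryTheory.Limits
open SpSeq

namespace Groth.Agent.S19323


theorem step {C : Type u} [Category.{v} C] [Abelian C]
    (E E' : E₂CohomologicalSpectralSequence C) (φ : E ⟶ E')
    (hd' : ∀ (r : ℤ) (hr : 2 ≤ r) (pq : ℤ × ℤ), pq.1 ≠ 0 →
      (E'.page r hr).d pq (pq + (r, 1 - r)) = 0)
    (hφd : ∀ (r : ℤ) (hr : 2 ≤ r) (pq : ℤ × ℤ),
      (φ.hom r hr).f pq ≫ (E'.page r hr).d pq (pq + (r, 1 - r)) = 0)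
    (r : ℤ) (hr : 2 ≤ r)
    (hZ : ∀ pq : ℤ × ℤ, pq.1 < 0 → IsZero ((E.page r hr).X pq))
    (hM : ∀ pq : ℤ × ℤ, r ≤ pq.1 → Mono ((φ.hom r hr).f pq)) :
    (∀ pq pq' : ℤ × ℤ, (E.page r hr).d pq pq' = 0) ∧
    (∀ pq : ℤ × ℤ, pq.1 < 0 → IsZero ((E.page (r + 1) (by lia)).X pq)) ∧
    (∀ pq : ℤ × ℤ, r + 1 ≤ pq.1 → Mono ((φ.hom (r + 1) (by lia)).f pq)) := by
  have hD : ∀ pq pq' : ℤ × ℤ, (E.page r hr).d pq pq' = 0 := by
    intro pq pq'
    by_cases h : (ComplexShape.up' ((r, 1 - r) : ℤ × ℤ)).Rel pq pq'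
    · have h' : pq + (r, 1 - r) = pq' := h
      subst h'
      by_cases hp : pq.1 < 0
      · exact (hZ pq hp).eq_of_src _ _
      · have := hM (pq + (r, 1 - r)) (by simp; lia)
        rw [← cancel_mono ((φ.hom r hr).f (pq + (r, 1 - r))), zero_comp,
          ← (φ.hom r hr).comm, hφd r hr pq]
    · exact (E.page r hr).shape _ _ h
  refine ⟨hD, ?_, ?_⟩
  · intro pq hp
    have h1 : IsZero ((E.page r hr).homology pq) :=
      (HomologicalComplex.ExactAt.of_isZero (hZ pq hp)).isZero_homology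
    exact h1.of_iso (E.iso r (r + 1) pq rfl hr).symm
  · intro pq hp
    have hrel : (ComplexShape.up' ((r, 1 - r) : ℤ × ℤ)).Rel (pq - (r, 1 - r)) pq := by
      change pq - (r, 1 - r) + (r, 1 - r) = pq
      exact sub_add_cancel _ _
    have hprev := (ComplexShape.up' ((r, 1 - r) : ℤ × ℤ)).prev_eq' hrel
    have i1 : IsIso ((E.page r hr).homologyπ pq) :=
      (E.page r hr).isIso_homologyπ _ _ hprev (hD _ _)
    have hd0 : (E'.page r hr).d (pq - (r, 1 - r)) pq = 0 := by
      have := hd' r hr (pq - (r, 1 - r)) (by simp; lia)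
      rwa [sub_add_cancel] at this
    have i2 : IsIso ((E'.page r hr).homologyπ pq) :=
      (E'.page r hr).isIso_homologyπ _ _ hprev hd0
    have m0 : Mono ((φ.hom r hr).f pq) := hM pq (by lia)
    have m1 : Mono (HomologicalComplex.cyclesMap (φ.hom r hr) pq) := inferInstance
    have m2 : Mono ((E.page r hr).homologyπ pq ≫
        HomologicalComplex.homologyMap (φ.hom r hr) pq) := by
      rw [HomologicalComplex.homologyπ_naturality]
      infer_instance
    have m3 : Mono (HomologicalComplex.homologyMap (φ.hom r hr) pq) := by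
      have : HomologicalComplex.homologyMap (φ.hom r hr) pq =
          inv ((E.page r hr).homologyπ pq) ≫ ((E.page r hr).homologyπ pq ≫
            HomologicalComplex.homologyMap (φ.hom r hr) pq) := by simp
      rw [this]
      infer_instance
    have e := φ.comm r (r + 1) pq rfl hr
    have : (φ.hom (r + 1) (by lia)).f pq = (E.iso r (r + 1) pq rfl hr).inv ≫
        HomologicalComplex.homologyMap (φ.hom r hr) pq ≫ (E'.iso r (r + 1) pq rfl hr).hom := by
      rw [e]; simp
    rw [this]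
    infer_instance


/-- In an abelian category let E and E' be first-quadrant E₂ cohomological spectral sequences and φ : E
⟶ E' a morphism of spectral sequences such that (i) every differential of E' leaving a position
whose first coordinate is nonzero vanishes, (ii) on every page the map φ at each position followed
by the outgoing differential of E' is zero, and (iii) φ is a monomorphism at every position of page
2. Then E degenerates at page 2. -/
theorem result
    {C : Type u} [Category.{v} C] [Abelian C]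
    (E E' : E₂CohomologicalSpectralSequence C) (φ : E ⟶ E')
    (hE : ∀ pq : ℤ × ℤ, pq.1 < 0 ∨ pq.2 < 0 → IsZero ((E.page 2 le_rfl).X pq))
    (hE' : ∀ pq : ℤ × ℤ, pq.1 < 0 ∨ pq.2 < 0 → IsZero ((E'.page 2 le_rfl).X pq))
    (hd' : ∀ (r : ℤ) (hr : 2 ≤ r) (pq : ℤ × ℤ), pq.1 ≠ 0 →
      (E'.page r hr).d pq (pq + (r, 1 - r)) = 0)
    (hφd : ∀ (r : ℤ) (hr : 2 ≤ r) (pq : ℤ × ℤ),
      (φ.hom r hr).f pq ≫ (E'.page r hr).d pq (pq + (r, 1 - r)) = 0)
    (hmono : ∀ pq : ℤ × ℤ, Mono ((φ.hom 2 le_rfl).f pq)) :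
    SpSeq.Degenerates E 2 := by
  have key : ∀ (r : ℤ) (hr : 2 ≤ r),
      (∀ pq : ℤ × ℤ, pq.1 < 0 → IsZero ((E.page r hr).X pq)) ∧
      (∀ pq : ℤ × ℤ, r ≤ pq.1 → Mono ((φ.hom r hr).f pq)) := by
    intro r hr
    induction r, hr using Int.le_induction with
    | base => exact ⟨fun pq hp => hE pq (Or.inl hp), fun pq _ => hmono pq⟩
    | succ r hr ih =>
      obtain ⟨_, h2, h3⟩ := step E E' φ hd' hφd r hr ih.1 ih.2
      exact ⟨h2, h3⟩
  refine ⟨le_rfl, ?_⟩
  intro r' h₀ _ pq pq'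
  exact (step E E' φ hd' hφd r' h₀ (key r' h₀).1 (key r' h₀).2).1 pq pq'

end Groth.Agent.S19323
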