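import Groth.Statements.S19326
import Groth.Agent.Lib.Helper22.Diag

set_option autoImplicit false
universe u
open TensorProduct
open GLin

namespace Groth.Agent.S19326

/-- Let k be a field, M a finite abelian group and D = Spec k[M] the finite diagonalizable group scheme
it defines, acting on an affine k-scheme U = Spec R through a multiplicative coaction R → R ⊗ k[M];
write R_a for the weight space of a ∈ M (elements with coaction f ⊗ a). For an ideal J of R the
induced action of D on the closed subscheme V(J) is trivial, meaning that the coaction followed by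
reduction modulo J equals f ↦ (f mod J) ⊗ 1, exactly when J contains the ideal generated by the
weight spaces R_a for a ≠ 0; in other words that ideal defines the largest closed subscheme of U on
which D acts trivially. (The printed setting has U smooth, which plays no role here and is not
assumed; the further assertion that the construction commutes with flat base change on U/D is not
part of this statement.) -/
theorem result
    {k : Type u} [Field k] {M : Type u} [AddCommGroup M] [Finite M]
    {R : Type u} [CommRing R] [Algebra k R] [HopfRep.Comod k (AddMonoidAlgebra k M) R]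
    [GLin.IsCoactAlg k (AddMonoidAlgebra k M) R] (J : Ideal R) :
    (∀ f : R, LinearMap.rTensor (AddMonoidAlgebra k M) (Ideal.Quotient.mkₐ k J).toLinearMap
        (HopfRep.Comod.coact (k := k) (A := AddMonoidAlgebra k M) f) =
        (Ideal.Quotient.mk J f) ⊗ₜ[k] (1 : AddMonoidAlgebra k M)) ↔
      Ideal.span (⋃ (a : M) (_ : a ≠ 0),
        (HopfRep.eigenspace k (AddMonoidAlgebra k M) R (AddMonoidAlgebra.single a 1) : Set R)) ≤ J := by
  classical
  have hdiag : HopfRep.IsDiagonalizable k (AddMonoidAlgebra k M) :=
    AddMonoidAlgebra.span_isGroupLikeElem (R := k) (A := k) (G := M)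
  constructor
  · intro htriv
    rw [Ideal.span_le]
    intro f hf
    simp only [Set.mem_iUnion] at hf
    obtain ⟨a, ha, hf⟩ := hf
    have hf' : HopfRep.Comod.coact (k := k) (A := AddMonoidAlgebra k M) f =
        f ⊗ₜ[k] AddMonoidAlgebra.single a 1 := hf
    have h1 := htriv f
    rw [hf', LinearMap.rTensor_tmul] at h1
    let ℓ : Module.Dual k (AddMonoidAlgebra k M) :=
      (Finsupp.lapply a) ∘ₗ (AddMonoidAlgebra.coeffLinearEquiv k).toLinearMap
    have h2 := congrArg (Groth.Agent.Lib.helper22.slice ℓ) h1
    rw [Groth.Agent.Lib.helper22.slice_tmul, Groth.Agent.Lib.helper22.slice_tmul] at h2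
    have e1 : ℓ (AddMonoidAlgebra.single a 1) = 1 := by
      simp [ℓ]
    have e2 : ℓ (1 : AddMonoidAlgebra k M) = 0 := by
      simp [ℓ, AddMonoidAlgebra.one_def, ha.symm]
    rw [e1, e2, one_smul, zero_smul] at h2
    exact Ideal.Quotient.eq_zero_iff_mem.mp h2
  · intro hJ
    let L : R →ₗ[k] (R ⧸ J) ⊗[k] AddMonoidAlgebra k M :=
      LinearMap.rTensor (AddMonoidAlgebra k M) (Ideal.Quotient.mkₐ k J).toLinearMap ∘ₗ
        HopfRep.Comod.coact (k := k) (A := AddMonoidAlgebra k M) -
      (TensorProduct.mk k (R ⧸ J) (AddMonoidAlgebra k M)).flip 1 ∘ₗ (Ideal.Quotient.mkₐ k J).toLinearMap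
    have hL : Submodule.span k (Groth.Agent.Lib.helper22.eigSet k (AddMonoidAlgebra k M) R) ≤
        LinearMap.ker L := by
      rw [Submodule.span_le]
      rintro v ⟨a, hva⟩
      rw [SetLike.mem_coe, LinearMap.mem_ker]
      simp only [L, LinearMap.sub_apply, LinearMap.comp_apply, LinearMap.flip_apply,
        TensorProduct.mk_apply, AlgHom.toLinearMap_apply, Ideal.Quotient.mkₐ_eq_mk]
      rw [hva, LinearMap.rTensor_tmul, AlgHom.toLinearMap_apply, Ideal.Quotient.mkₐ_eq_mk]
      by_cases hv0 : v = 0
      · simp [hv0]
      · have hg := Groth.Agent.Lib.helper22.isGroupLikeElem_of_coact_eq hv0 hva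
        obtain ⟨m, hm'⟩ := AddMonoidAlgebra.isGroupLikeElem_iff_mem_range_single_one.mp hg
        simp only at hm'
        subst hm'
        by_cases hm : m = 0
        · subst hm
          rw [← AddMonoidAlgebra.one_def, sub_self]
        · have hvJ : v ∈ J := by
            apply hJ
            apply Ideal.subset_span
            simp only [Set.mem_iUnion]
            exact ⟨m, hm, hva⟩
          rw [Ideal.Quotient.eq_zero_iff_mem.mpr hvJ]
          simp
    intro f
    have hf : f ∈ LinearMap.ker L := hL (by
      rw [Groth.Agent.Lib.helper22.span_eigSet_eq_top_of_isDiagonalizable hdiag]; exact Submodule.mem_top)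
    rw [LinearMap.mem_ker] at hf
    simp only [L, LinearMap.sub_apply, LinearMap.comp_apply, LinearMap.flip_apply,
      TensorProduct.mk_apply, AlgHom.toLinearMap_apply, Ideal.Quotient.mkₐ_eq_mk, sub_eq_zero] at hf
    exact hf

end Groth.Agent.S19326
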