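import Groth.Statements.S19328
import Mathlib.AlgebraicGeometry.Morphisms.Flat
import Mathlib.AlgebraicGeometry.Morphisms.FinitePresentation
import Mathlib.AlgebraicGeometry.Morphisms.QuasiSeparated
import Mathlib.AlgebraicGeometry.Morphisms.Affine
import Mathlib.RingTheory.AdjoinRoot
import Mathlib.RingTheory.Polynomial.IntegralNormalization
import Mathlib.RingTheory.Localization.Integral
import Mathlib.FieldTheory.IsAlgClosed.Basic
import Mathlib.RingTheory.LocalRing.ResidueField.Ideal
import Mathlib.RingTheory.RingHom.FaithfullyFlat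
import Mathlib.RingTheory.RingHom.FinitePresentation
import Mathlib.Algebra.Polynomial.Lifts

set_option autoImplicit false
universe u
open CategoryTheory CategoryTheory.Limits AlgebraicGeometry
open ModPair

namespace Groth.Agent.S19328


open Polynomial in
theorem exists_root_of_local (A : Type u) [CommRing A] [Nontrivial A]
    (hloc : ∀ (X : Scheme.{u}) (R : Presieve X),
      R ∈ Scheme.precoverage (@Flat ⊓ @LocallyOfFinitePresentation ⊓ @QuasiCompact ⊓ @QuasiSeparated) X →
      ∀ g : Spec (CommRingCat.of A) ⟶ X,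
        ∃ (Y : Scheme.{u}) (v : Y ⟶ X) (h : Spec (CommRingCat.of A) ⟶ Y), R v ∧ h ≫ v = g)
    (F : A[X]) (hF : F.Monic) (hd : 1 ≤ F.natDegree) : ∃ z : A, F.eval z = 0 := by
  let B := AdjoinRoot F
  let v : Spec (CommRingCat.of B) ⟶ Spec (CommRingCat.of A) :=
    Spec.map (CommRingCat.ofHom (algebraMap A B))
  have hfree : Module.Free A B := hF.free_adjoinRoot
  have hnt : Nontrivial B := by
    have b := (AdjoinRoot.powerBasis' hF).basis
    have hdim : (AdjoinRoot.powerBasis' hF).dim = F.natDegree := rfl
    have i0 : Fin (AdjoinRoot.powerBasis' hF).dim := ⟨0, by rw [hdim]; omega⟩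
    exact nontrivial_of_ne _ _ (b.ne_zero i0)
  have hff : Module.FaithfullyFlat A B := inferInstance
  have hFS : Flat v ∧ Surjective v :=
    (flat_and_surjective_SpecMap_iff _).2 (RingHom.faithfullyFlat_algebraMap_iff.2 hff)
  have hfp : LocallyOfFinitePresentation v := by
    rw [LocallyOfFinitePresentation.SpecMap_iff]
    exact (RingHom.finitePresentation_algebraMap).2 inferInstance
  have hmem : Presieve.singleton v ∈ Scheme.precoverage
      (@Flat ⊓ @LocallyOfFinitePresentation ⊓ @QuasiCompact ⊓ @QuasiSeparated) _ := by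
    rw [Scheme.singleton_mem_precoverage_iff]
    exact ⟨hFS.2.surj, ⟨⟨⟨hFS.1, hfp⟩, inferInstance⟩, inferInstance⟩⟩
  obtain ⟨Y, v', h, hv', hh⟩ := hloc _ _ hmem (𝟙 _)
  cases hv'
  let σ : CommRingCat.of B ⟶ CommRingCat.of A := Spec.preimage h
  have hσ : Spec.map σ = h := Spec.map_preimage h
  have h1 : CommRingCat.ofHom (algebraMap A B) ≫ σ = 𝟙 _ := by
    apply Spec.map_injective
    rw [Spec.map_comp, hσ, Spec.map_id]
    exact hh
  have h2 : σ.hom.comp (algebraMap A B) = RingHom.id A := by
    have := congrArg CommRingCat.Hom.hom h1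
    simpa using this
  refine ⟨σ.hom (AdjoinRoot.root F), ?_⟩
  have h3 := Polynomial.hom_eval₂ F (AdjoinRoot.of F) σ.hom (AdjoinRoot.root F)
  rw [AdjoinRoot.eval₂_root, map_zero] at h3
  have h4 : σ.hom.comp (AdjoinRoot.of F) = RingHom.id A := h2
  rw [h4, Polynomial.eval₂_id] at h3
  exact h3.symm

open Polynomial in
theorem isAlgClosed_of_monic_root {D K : Type*} [CommRing D] [IsDomain D] [Field K] [Algebra D K]
    [IsFractionRing D K]
    (H : ∀ G : D[X], G.Monic → 1 ≤ G.natDegree → ∃ z, G.eval z = 0) : IsAlgClosed K := by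
  refine IsAlgClosed.of_exists_root K ?_
  intro f hf hirr
  obtain ⟨b', hb', hb⟩ := IsLocalization.integerNormalization_spec (nonZeroDivisors D) f
  obtain ⟨b, rfl⟩ : ∃ b : nonZeroDivisors D, (b : D) = b' := ⟨⟨b', hb'⟩, rfl⟩
  set F := IsLocalization.integerNormalization (nonZeroDivisors D) f with hFdef
  have hinj : Function.Injective (algebraMap D K) := IsFractionRing.injective D K
  have hb0 : algebraMap D K b ≠ 0 := by
    intro h
    have : (b : D) = 0 := hinj (by rw [h, map_zero])
    exact nonZeroDivisors.coe_ne_zero b this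
  have hsm : ((b : D) • f : K[X]) = C (algebraMap D K b) * f := by
    rw [Algebra.smul_def]; rfl
  have hdeg : F.natDegree = f.natDegree := by
    rw [← Polynomial.natDegree_map_eq_of_injective hinj F, hb, hsm,
      Polynomial.natDegree_C_mul hb0]
  have hfd : 1 ≤ f.natDegree := hirr.natDegree_pos
  have hF0 : F ≠ 0 := by
    intro h
    rw [h] at hdeg
    simp at hdeg
    omega
  obtain ⟨z, hz⟩ := H F.integralNormalization (Polynomial.monic_integralNormalization hF0)
    (by rw [Polynomial.natDegree_integralNormalization]; omega)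
  have hc : algebraMap D K F.leadingCoeff ≠ 0 := by
    intro h
    have : F.leadingCoeff = 0 := hinj (by rw [h, map_zero])
    exact hF0 (Polynomial.leadingCoeff_eq_zero.1 this)
  refine ⟨algebraMap D K z / algebraMap D K F.leadingCoeff, ?_⟩
  have h1 := Polynomial.integralNormalization_eval₂_leadingCoeff_mul (p := F) (by omega)
    (algebraMap D K) (algebraMap D K z / algebraMap D K F.leadingCoeff)
  rw [mul_div_cancel₀ _ hc, Polynomial.eval₂_at_apply, hz, map_zero] at h1
  have h2 : F.eval₂ (algebraMap D K) (algebraMap D K z / algebraMap D K F.leadingCoeff) = 0 := by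
    rcases mul_eq_zero.1 h1.symm with h | h
    · exact absurd h (pow_ne_zero _ hc)
    · exact h
  rw [← Polynomial.eval_map, hb, hsm, Polynomial.eval_mul, Polynomial.eval_C] at h2
  exact (mul_eq_zero.1 h2).resolve_left hb0


/-- Let A be a commutative ring such that Spec A is local for fppf coverings, in the sense that for
every scheme X, every jointly surjective family of morphisms to X each of which is flat and of
finite presentation (locally of finite presentation, quasi-compact and quasi-separated), and every
morphism Spec A ⟶ X, the morphism factors through a member of the family. Then the residue field of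
A at every prime ideal is algebraically closed. -/
theorem result (A : Type u) [CommRing A]
    (hloc : ∀ (X : Scheme.{u}) (R : Presieve X),
      R ∈ Scheme.precoverage (@Flat ⊓ @LocallyOfFinitePresentation ⊓ @QuasiCompact ⊓ @QuasiSeparated) X →
      ∀ g : Spec (CommRingCat.of A) ⟶ X,
        ∃ (Y : Scheme.{u}) (v : Y ⟶ X) (h : Spec (CommRingCat.of A) ⟶ Y), R v ∧ h ≫ v = g)
    (p : Ideal A) [p.IsPrime] : IsAlgClosed p.ResidueField := by
  have hnt : Nontrivial A :=
    ⟨⟨0, 1, fun h => (‹p.IsPrime›).ne_top ((Ideal.eq_top_iff_one _).2 (h ▸ p.zero_mem))⟩⟩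
  apply isAlgClosed_of_monic_root (D := A ⧸ p)
  intro G hG hd
  obtain ⟨F, hFG, hdeg, hFm⟩ := Polynomial.lifts_and_natDegree_eq_and_monic
    (f := Ideal.Quotient.mk p)
    ((Polynomial.mem_lifts G).2 (Polynomial.map_surjective _ Ideal.Quotient.mk_surjective G)) hG
  obtain ⟨z, hz⟩ := exists_root_of_local A hloc F hFm (by omega)
  refine ⟨Ideal.Quotient.mk p z, ?_⟩
  rw [← hFG, Polynomial.eval_map, Polynomial.eval₂_at_apply, hz, map_zero]

end Groth.Agent.S19328
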