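import Groth.Statements.S19329
import Groth.Agent.Lib.Helper16.EffDiv
import Groth.Agent.Lib.Helper16.EffCartier2
import Groth.Agent.Lib.Helper16.IdealComapPow
import Groth.Agent.S18755

set_option autoImplicit false
universe u
open CategoryTheory CategoryTheory.Limits AlgebraicGeometry TopologicalSpace
open ModPair

namespace Groth.Agent.S19329

open Groth.Agent.Lib.helper16 in
theorem result' {X Y Z : Scheme.{u}}
    (I : X.IdealSheafData) (J : Y.IdealSheafData) (K : Z.IdealSheafData)
    (hI : BlowUp.IsEffCartierIdeal I) (hJ : BlowUp.IsEffCartierIdeal J)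
    (hK : BlowUp.IsEffCartierIdeal K) (f : X ⟶ Y) (g : Y ⟶ Z)
    (hf : ModPair.IsAmbient I J f) (hg : ModPair.IsAmbient J K g)
    (hfg : ModPair.IsMinimal I K (f ≫ g)) :
    ModPair.IsMinimal I J f ∧
      ∃ U : Y.Opens, QuasiCompact U.ι ∧ Set.range f.base ⊆ (U : Set Y) ∧
        ModPair.IsMinimal (J.comap U.ι) K (U.ι ≫ g) := by
  have hfg' : I = (K.comap g).comap f := by
    rw [← Scheme.IdealSheafData.comap_comp]; exact hfg
  have h1 : I = J.comap f :=
    le_antisymm hf (hfg' ▸ Scheme.IdealSheafData.comap_mono (f := f) hg)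
  refine ⟨h1, ?_⟩
  have hKg : BlowUp.IsEffCartierIdeal (K.comap g) :=
    EffCartier.isEffCartier_comap_of_le J K hJ hK g hg
  obtain ⟨E, hE, hJE⟩ := EffDiv.exists_eq_mul hJ hKg hg
  refine ⟨ModPair.interior E, ?_, ?_, ?_⟩
  · have := EffCartier2.isAffineHom_interior_ι E hE
    infer_instance
  · have h2 : (⊤ : X.IdealSheafData) * I = E.comap f * I := by
      rw [← Scheme.IdealSheafData.one_eq_top, one_mul]
      conv_lhs => rw [h1, hJE, IdealComapPow.comap_mul, ← hfg']
    have h3 : E.comap f = ⊤ := (Groth.Agent.S18755.eq_of_mul_eq_mul hI h2).symm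
    rintro _ ⟨x, rfl⟩
    show f x ∈ ModPair.interior E
    change f x ∉ E.support
    rw [← EffCartier.mem_compl_support_comap, h3, Scheme.IdealSheafData.support_top]
    exact fun h => h
  · show J.comap (ModPair.interior E).ι = K.comap ((ModPair.interior E).ι ≫ g)
    have h4 : E.comap (ModPair.interior E).ι = ⊤ := by
      rw [← Scheme.IdealSheafData.support_eq_bot_iff]
      ext x
      simp only [SetLike.mem_coe]
      rw [EffCartier.mem_compl_support_comap]
      constructor
      · intro h; exact (x.2 h).elim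
      · intro h; exact (h : False).elim
    rw [Scheme.IdealSheafData.comap_comp, hJE, IdealComapPow.comap_mul, h4,
      ← Scheme.IdealSheafData.one_eq_top, one_mul]

/-- Let (X, I), (Y, J), (Z, K) be modulus pairs, i.e. schemes with quasi-coherent ideal sheaves of
effective Cartier divisors, and let f : X ⟶ Y and g : Y ⟶ Z satisfy the modulus conditions I ≤
J.comap f and J ≤ K.comap g. Suppose the composite X ⟶ Z is minimal, I = K.comap (f ≫ g). Then f is
minimal, and there is an open subset U of Y whose inclusion is quasi-compact, which contains the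
image of f, and such that U ⟶ Z is minimal for the modulus of Y restricted to U. -/
theorem result {X Y Z : Scheme.{u}}
    (I : X.IdealSheafData) (J : Y.IdealSheafData) (K : Z.IdealSheafData)
    (hI : BlowUp.IsEffCartierIdeal I) (hJ : BlowUp.IsEffCartierIdeal J)
    (hK : BlowUp.IsEffCartierIdeal K) (f : X ⟶ Y) (g : Y ⟶ Z)
    (hf : ModPair.IsAmbient I J f) (hg : ModPair.IsAmbient J K g)
    (hfg : ModPair.IsMinimal I K (f ≫ g)) :
    ModPair.IsMinimal I J f ∧
      ∃ U : Y.Opens, QuasiCompact U.ι ∧ Set.range f.base ⊆ (U : Set Y) ∧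
        ModPair.IsMinimal (J.comap U.ι) K (U.ι ≫ g) := by
  exact result' I J K hI hJ hK f g hf hg hfg

end Groth.Agent.S19329
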