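import Groth.Statements.S19330
import Groth.Agent.Lib.Helper16.EffCartier2
import Groth.Agent.Lib.Helper16.CpctLib2
import Groth.Agent.Lib.Helper7.IdealComap

set_option autoImplicit false
universe u
open CategoryTheory CategoryTheory.Limits AlgebraicGeometry TopologicalSpace
open ModPair

namespace Groth.Agent.S19330

open Groth.Agent.Lib.helper16.EffCartier Groth.Agent.Lib.helper16.EffCartier2
open Groth.Agent.Lib.helper16.CpctLib2

/-- general form of `graph_main`: closed immersion into an open. -/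
theorem open_part_iso {W S : Scheme.{u}} (P₀ : S.Opens) (c : W ⟶ (P₀ : Scheme.{u}))
    [IsClosedImmersion c] [QuasiCompact (c ≫ P₀.ι)] :
    ∃ c' : W ⟶ (((c ≫ P₀.ι).imageι ⁻¹ᵁ P₀ : (c ≫ P₀.ι).image.Opens) : Scheme.{u}), IsIso c' ∧
      c' ≫ ((c ≫ P₀.ι).imageι ⁻¹ᵁ P₀).ι = (c ≫ P₀.ι).toImage := by
  set γ := c ≫ P₀.ι with hγ
  let ZU : γ.image.Opens := γ.imageι ⁻¹ᵁ P₀
  have hrange' : Set.range γ.toImage ⊆ Set.range ZU.ι := by
    rintro _ ⟨a, rfl⟩
    rw [Scheme.Opens.range_ι]
    show γ.imageι (γ.toImage a) ∈ P₀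
    rw [← Scheme.Hom.comp_apply, Scheme.Hom.toImage_imageι, hγ, Scheme.Hom.comp_apply]
    exact (c a).2
  let c' : W ⟶ (ZU : Scheme.{u}) := IsOpenImmersion.lift ZU.ι γ.toImage hrange'
  have hc' : c' ≫ ZU.ι = γ.toImage := IsOpenImmersion.lift_fac _ _ _
  haveI : IsClosedImmersion (γ.imageι ∣_ P₀) :=
    IsZariskiLocalAtTarget.restrict (P := @IsClosedImmersion) (f := γ.imageι) inferInstance P₀
  have hce : c' ≫ (γ.imageι ∣_ P₀) = c := by
    rw [← cancel_mono P₀.ι, Category.assoc, morphismRestrict_ι]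
    show c' ≫ ZU.ι ≫ γ.imageι = γ
    rw [← Category.assoc, hc', Scheme.Hom.toImage_imageι]
  haveI : IsClosedImmersion c' := by
    haveI : IsClosedImmersion (c' ≫ (γ.imageι ∣_ P₀)) := by
      rw [hce]
      infer_instance
    exact IsClosedImmersion.of_comp c' (γ.imageι ∣_ P₀)
  haveI : IsSchemeTheoreticallyDominant (c' ≫ ZU.ι) := by
    rw [hc']
    exact toImage_dominant γ
  haveI : QuasiCompact (c' ≫ ZU.ι) := by
    rw [hc']
    infer_instance
  haveI : IsSchemeTheoreticallyDominant c' := dominant_of_comp_openImmersion c' ZU.ι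
  exact ⟨c', IsClosedImmersion.isIso_iff_ker_eq_bot.mpr (Scheme.Hom.ker_eq_bot c'), hc'⟩

/-- effective Cartier on the scheme-theoretic image of something landing in the interior. -/
theorem isEffCartier_comap_imageι' {S W : Scheme.{u}} (I : S.IdealSheafData)
    (hI : BlowUp.IsEffCartierIdeal I) (γ : W ⟶ S) [QuasiCompact γ]
    (h : ∀ w : W, γ w ∈ ModPair.interior I) :
    BlowUp.IsEffCartierIdeal (I.comap γ.imageι) := by
  haveI := toImage_isSchemeTheoreticallyDominant γ
  set r := γ.imageι with hr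
  intro y
  obtain ⟨V, hyV, t, ht, hV⟩ := hI (r y)
  obtain ⟨_, ⟨V', hV', rfl⟩, hyV', hVU⟩ :=
    ((γ.image).isBasis_affineOpens).exists_subset_of_mem_open
      (show y ∈ ((r ⁻¹ᵁ V.1 : (γ.image).Opens) : Set _) from hyV) (r ⁻¹ᵁ V.1).2
  refine ⟨⟨V', hV'⟩, hyV', (r.appLE V.1 V' hVU).hom t, ?_, ?_⟩
  · apply appLE_mem_nonZeroDivisors_of_dominant γ.toImage r V.1 t V' hVU
    intro u hu
    rw [← interior_inf_chart I V t hV]
    refine ⟨?_, hVU hu⟩
    have h1 : r (γ.toImage u) = γ u := by
      rw [hr, ← Scheme.Hom.comp_apply, Scheme.Hom.toImage_imageι]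
    rw [h1]
    exact h u
  · rw [Groth.Agent.Lib.helper7.IdealComap.ideal_comap r I V.2 hV' hVU, hV, Ideal.map_span,
      Set.image_singleton]

/-- every point of a scheme with an effective Cartier ideal is a specialization of a point of the
interior. -/
theorem exists_specializes_of_isEffCartier {S : Scheme.{u}} (I : S.IdealSheafData)
    (hI : BlowUp.IsEffCartierIdeal I) (s : S) :
    ∃ u : S, u ∈ ModPair.interior I ∧ u ⤳ s := by
  obtain ⟨V, hsV, t, ht, hV⟩ := hI s
  set 𝔭 := V.2.primeIdealOf ⟨s, hsV⟩ with h𝔭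
  obtain ⟨𝔮, h𝔮, hle⟩ := Ideal.exists_minimalPrimes_le (bot_le : (⊥ : Ideal Γ(S, V.1)) ≤ 𝔭.asIdeal)
  haveI : 𝔮.IsPrime := h𝔮.1.1
  have htq : t ∉ 𝔮 := fun htq =>
    Set.disjoint_left.mp (Ideal.disjoint_nonZeroDivisors_of_mem_minimalPrimes h𝔮) htq ht
  let q : PrimeSpectrum Γ(S, V.1) := ⟨𝔮, inferInstance⟩
  refine ⟨V.2.fromSpec q, ?_, ?_⟩
  · have h1 : V.2.fromSpec q ∈ S.basicOpen t := by
      show q ∈ V.2.fromSpec ⁻¹ᵁ S.basicOpen t
      rw [V.2.fromSpec_preimage_basicOpen]
      exact htq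
    rw [← interior_inf_chart I V t hV] at h1
    exact h1.1
  · have h2 : q ⤳ 𝔭 := (PrimeSpectrum.le_iff_specializes q 𝔭).mp hle
    have h3 := h2.map V.2.fromSpec.continuous
    rwa [h𝔭, V.2.fromSpec_primeIdealOf] at h3

theorem result' {S : Scheme.{u}} (I : S.IdealSheafData)
    (hI : BlowUp.IsEffCartierIdeal I) {ι : Type u} (V : ι → Scheme.{u})
    (g : ∀ i, V i ⟶ (ModPair.interior I : Scheme.{u})) [∀ i, IsClosedImmersion (g i)]
    (hsurj : ∀ u : (ModPair.interior I : Scheme.{u}), ∃ (i : ι) (v : V i), (g i).base v = u) :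
    (∀ s : S, ∃ (i : ι) (v : (g i ≫ (ModPair.interior I).ι).image),
        (g i ≫ (ModPair.interior I).ι).imageι.base v = s) ∧
      (∀ i, BlowUp.IsEffCartierIdeal (I.comap (g i ≫ (ModPair.interior I).ι).imageι)) ∧
      ∀ i, IsOpenImmersion (g i ≫ (ModPair.interior I).ι).toImage ∧
        Set.range (g i ≫ (ModPair.interior I).ι).toImage.base =
          (g i ≫ (ModPair.interior I).ι).imageι.base ⁻¹' (ModPair.interior I : Set S) := by
  haveI : IsAffineHom (ModPair.interior I).ι := isAffineHom_interior_ι I hI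
  haveI : ∀ i, QuasiCompact (g i ≫ (ModPair.interior I).ι) := fun i => inferInstance
  refine ⟨?_, ?_, ?_⟩
  · intro s
    obtain ⟨u, hu, hus⟩ := exists_specializes_of_isEffCartier I hI s
    obtain ⟨i, v, hv⟩ := hsurj ⟨u, hu⟩
    have h1 : s ∈ closure (Set.range (g i ≫ (ModPair.interior I).ι)) := by
      refine closure_mono ?_ (specializes_iff_mem_closure.mp hus)
      rw [Set.singleton_subset_iff]
      refine ⟨v, ?_⟩
      rw [Scheme.Hom.comp_apply]
      have : (g i) v = ⟨u, hu⟩ := hv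
      rw [this]
      rfl
    rw [← Scheme.Hom.support_ker, ← Scheme.IdealSheafData.range_subschemeι] at h1
    obtain ⟨z, hz⟩ := h1
    exact ⟨i, z, hz⟩
  · intro i
    exact isEffCartier_comap_imageι' I hI _ (fun w => by
      rw [Scheme.Hom.comp_apply]; exact ((g i) w).2)
  · intro i
    obtain ⟨c', hiso, hc'⟩ := open_part_iso (ModPair.interior I) (g i)
    refine ⟨?_, ?_⟩
    · rw [← hc']; infer_instance
    · rw [← hc']
      have hs : Function.Surjective c' := c'.surjective
      have : Set.range (c' ≫ ((g i ≫ (ModPair.interior I).ι).imageι ⁻¹ᵁ ModPair.interior I).ι) =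
          Set.range ((g i ≫ (ModPair.interior I).ι).imageι ⁻¹ᵁ ModPair.interior I).ι := by
        ext z
        constructor
        · rintro ⟨a, rfl⟩
          exact ⟨c' a, by rw [Scheme.Hom.comp_apply]⟩
        · rintro ⟨b, rfl⟩
          obtain ⟨a, rfl⟩ := hs b
          exact ⟨a, by rw [Scheme.Hom.comp_apply]⟩
      show Set.range (c' ≫ ((g i ≫ (ModPair.interior I).ι).imageι ⁻¹ᵁ ModPair.interior I).ι) = _
      rw [this, Scheme.Opens.range_ι]
      rfl

/-- Let (S, I) be a modulus pair, i.e. a scheme with the quasi-coherent ideal sheaf of an effective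
Cartier divisor, with interior U, and let g_i : V_i ⟶ U be a jointly surjective family of closed
immersions into the interior. Let V̄_i be the scheme-theoretic image of V_i ⟶ U ⟶ S. Then the closed
immersions V̄_i ⟶ S are jointly surjective, the modulus restricted to each V̄_i is again the ideal
sheaf of an effective Cartier divisor (so that V̄_i ⟶ S is a minimal morphism of modulus pairs), and
the interior of V̄_i is V_i: the canonical morphism V_i ⟶ V̄_i is an open immersion whose image is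
the preimage of U. -/
theorem result {S : Scheme.{u}} (I : S.IdealSheafData)
    (hI : BlowUp.IsEffCartierIdeal I) {ι : Type u} (V : ι → Scheme.{u})
    (g : ∀ i, V i ⟶ (ModPair.interior I : Scheme.{u})) [∀ i, IsClosedImmersion (g i)]
    (hsurj : ∀ u : (ModPair.interior I : Scheme.{u}), ∃ (i : ι) (v : V i), (g i).base v = u) :
    (∀ s : S, ∃ (i : ι) (v : (g i ≫ (ModPair.interior I).ι).image),
        (g i ≫ (ModPair.interior I).ι).imageι.base v = s) ∧
      (∀ i, BlowUp.IsEffCartierIdeal (I.comap (g i ≫ (ModPair.interior I).ι).imageι)) ∧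
      ∀ i, IsOpenImmersion (g i ≫ (ModPair.interior I).ι).toImage ∧
        Set.range (g i ≫ (ModPair.interior I).ι).toImage.base =
          (g i ≫ (ModPair.interior I).ι).imageι.base ⁻¹' (ModPair.interior I : Set S) := by
  exact result' I hI V g hsurj

end Groth.Agent.S19330
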