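import Groth.Statements.S19333
import Mathlib

set_option autoImplicit false
universe u
open ModPair

namespace Groth.Agent.S19333

/-- Let A → B be any homomorphism of commutative rings. An element x of B is integral over A if and only
if for every field K, every valuation subring R of K and every ring homomorphism φ : B → K which
sends the image of A into R, the element φ(x) lies in R. In other words the integral closure of A in
B is the intersection of the subrings R ×_K B taken over all commutative squares A → R ⊆ K ← B with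
R a valuation ring of the field K. -/
theorem result {A B : Type u} [CommRing A]
    [CommRing B] [Algebra A B] (x : B) :
    x ∈ integralClosure A B ↔
      ∀ (K : Type u) [Field K] (R : ValuationSubring K) (φ : B →+* K),
        (∀ a : A, φ (algebraMap A B a) ∈ R) → φ x ∈ R := by
  constructor
  · intro hx K _ R φ hφ
    obtain ⟨p, hp, hpx⟩ := hx
    let g : A →+* R := (φ.comp (algebraMap A B)).codRestrict R.toSubring hφ
    have hint : IsIntegral R (φ x) := by
      refine ⟨p.map g, hp.map g, ?_⟩
      rw [Polynomial.eval₂_map]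
      have hc : (algebraMap R K).comp g = φ.comp (algebraMap A B) := by ext; rfl
      rw [hc, ← Polynomial.hom_eval₂, hpx, map_zero]
    obtain ⟨y, hy⟩ := (IsIntegrallyClosed.isIntegral_iff (R := R) (K := K)).1 hint
    rw [← hy]
    exact y.2
  · intro h
    by_contra hx
    let T : Submonoid B :=
      { carrier := {b | ∃ f : Polynomial A, f.Monic ∧ Polynomial.aeval x f = b}
        one_mem' := ⟨1, Polynomial.monic_one, by simp⟩
        mul_mem' := by
          rintro _ _ ⟨f, hf, rfl⟩ ⟨g, hg, rfl⟩
          exact ⟨f * g, hf.mul hg, by simp⟩ }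
    have hdisj : Disjoint ((⊥ : Ideal B) : Set B) (T : Set B) := by
      rw [Set.disjoint_left]
      rintro b hb ⟨f, hf, rfl⟩
      exact hx ⟨f, hf, hb⟩
    obtain ⟨𝔭, hp, -, hpT⟩ := Ideal.exists_le_prime_disjoint ⊥ T hdisj
    let φ : B →+* FractionRing (B ⧸ 𝔭) :=
      (algebraMap (B ⧸ 𝔭) (FractionRing (B ⧸ 𝔭))).comp (Ideal.Quotient.mk 𝔭)
    let _ : Algebra A (FractionRing (B ⧸ 𝔭)) := (φ.comp (algebraMap A B)).toAlgebra
    have hnot : φ x ∉ (integralClosure A (FractionRing (B ⧸ 𝔭))).toSubring := by
      rintro ⟨f, hf, hfx⟩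
      have h1 : Polynomial.eval₂ (φ.comp (algebraMap A B)) (φ x) f = 0 := hfx
      rw [← Polynomial.hom_eval₂] at h1
      have h2 : Ideal.Quotient.mk 𝔭 (Polynomial.eval₂ (algebraMap A B) x f) = 0 := by
        apply IsFractionRing.injective (B ⧸ 𝔭) (FractionRing (B ⧸ 𝔭))
        rw [map_zero]
        exact h1
      rw [Ideal.Quotient.eq_zero_iff_mem] at h2
      exact Set.disjoint_left.1 hpT h2 ⟨f, hf, rfl⟩
    obtain ⟨V, hV, hxV⟩ := Subring.exists_le_valuationSubring_of_isIntegrallyClosedIn hnot
    apply hxV
    apply h (FractionRing (B ⧸ 𝔭)) V φ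
    intro a
    apply hV
    exact (integralClosure A (FractionRing (B ⧸ 𝔭))).algebraMap_mem a

end Groth.Agent.S19333
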