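import Groth.Statements.S19334
import Mathlib
import Groth.Agent.Lib.Helper16.ValTest


set_option autoImplicit false
universe u
open CategoryTheory CategoryTheory.Limits AlgebraicGeometry TopologicalSpace
open ModPair

namespace Groth.Agent.S19334


open Scheme.IdealSheafData Groth.Agent.Lib.helper16.EffCartier Groth.Agent.Lib.helper16.EffCartier2
  Groth.Agent.Lib.helper16.ValTest

theorem result' {X : Scheme.{u}}
    (I : X.IdealSheafData) (hI : BlowUp.IsEffCartierIdeal I)
    (h : ∀ (R : Type u) [CommRing R] [IsDomain R] [ValuationRing R]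
      (p : Spec (CommRingCat.of R) ⟶ X), BlowUp.IsEffCartierIdeal (I.comap p) → I.comap p = ⊤) :
    I = ⊤ := by
  refine ext_of_iSup_eq_top (fun V : Charts I => V.1) (iSup_charts hI) (fun V => ?_)
  obtain ⟨V, t, ht, hV⟩ := V
  show I.ideal V = (⊤ : X.IdealSheafData).ideal V
  rw [Scheme.IdealSheafData.ideal_top, Pi.top_apply, hV, Ideal.span_singleton_eq_top]
  by_contra hu
  obtain ⟨𝔪, hm, htm⟩ := exists_max_ideal_of_mem_nonunits (mem_nonunits_iff.mpr hu)
  haveI := hm.isPrime
  obtain ⟨𝔮, hqp, hq, hq𝔪, R, φ, hφ, hnu⟩ := exists_valuationRing 𝔪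
  have hne : φ t ≠ 0 := by
    intro h0
    have h1 := hφ t
    rw [h0] at h1
    have h2 : algebraMap (Γ(X, V.1) ⧸ 𝔮) (FractionRing (Γ(X, V.1) ⧸ 𝔮)) (Ideal.Quotient.mk 𝔮 t) = 0 :=
      h1.symm
    rw [map_eq_zero_iff _ (IsFractionRing.injective _ _), Ideal.Quotient.eq_zero_iff_mem] at h2
    exact Set.disjoint_left.mp (Ideal.disjoint_nonZeroDivisors_of_mem_minimalPrimes hq) h2 ht
  have hnzd : (CommRingCat.ofHom φ).hom t ∈ nonZeroDivisors (CommRingCat.of R) :=
    mem_nonZeroDivisors_of_ne_zero hne
  have heff := isEffCartier_comap_SpecMap_fromSpec V.2 (CommRingCat.ofHom φ) I t hV hnzd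
  have htop := h R (Spec.map (CommRingCat.ofHom φ) ≫ V.2.fromSpec) heff
  exact hnu t htm (isUnit_of_comap_SpecMap_fromSpec_eq_top V.2 (CommRingCat.ofHom φ) I t hV htop)



/-- Let (X, I) be a modulus pair, i.e. a scheme X with the quasi-coherent ideal sheaf I of an effective
Cartier divisor. Suppose that for every valuation ring R and every morphism p : Spec R ⟶ X along
which the divisor of I pulls back to an effective Cartier divisor on Spec R (so that p is a minimal
morphism of modulus pairs for the pulled-back modulus), the pulled-back divisor is empty, I.comap p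
= ⊤. Then the divisor of I is empty: I = ⊤. -/
theorem result {X : Scheme.{u}}
    (I : X.IdealSheafData) (hI : BlowUp.IsEffCartierIdeal I)
    (h : ∀ (R : Type u) [CommRing R] [IsDomain R] [ValuationRing R]
      (p : Spec (CommRingCat.of R) ⟶ X), BlowUp.IsEffCartierIdeal (I.comap p) → I.comap p = ⊤) :
    I = ⊤ := by
  exact result' I hI h

end Groth.Agent.S19334
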