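import Groth.Statements.S19335
import Mathlib
import Groth.Agent.Lib.Helper16.ValTest2


set_option autoImplicit false
universe u
open CategoryTheory CategoryTheory.Limits AlgebraicGeometry TopologicalSpace
open ModPair

namespace Groth.Agent.S19335


open Scheme.IdealSheafData Groth.Agent.Lib.helper16.EffCartier Groth.Agent.Lib.helper16.EffCartier2
  Groth.Agent.Lib.helper16.ValTest Groth.Agent.Lib.helper16.ValTest2

theorem result' {X : Scheme.{u}} (I J : X.IdealSheafData)
    (hI : BlowUp.IsEffCartierIdeal I) (hJ : BlowUp.IsEffCartierIdeal J) (hJI : J ≤ I)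
    (h : ∀ (R : Type u) [CommRing R] [IsDomain R] [ValuationRing R]
      (p : Spec (CommRingCat.of R) ⟶ X), BlowUp.IsEffCartierIdeal (I.comap p) →
        (∀ x : Spec (CommRingCat.of R),
          x ∈ (ModPair.interior (I.comap p) : Set (Spec (CommRingCat.of R))) ↔ x.asIdeal = ⊥) →
        I.comap p = J.comap p) :
    I = J := by
  refine le_antisymm ?_ hJI
  refine Scheme.IdealSheafData.le_of_iSup_eq_top
    (fun c : {V : X.affineOpens // ∃ t s : Γ(X, V.1), t ∈ nonZeroDivisors Γ(X, V.1) ∧
      I.ideal V = Ideal.span {t} ∧ s ∈ nonZeroDivisors Γ(X, V.1) ∧ J.ideal V = Ideal.span {s}} => c.1)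
    ?_ ?_
  · rw [eq_top_iff]
    intro x _
    obtain ⟨V₁, hx, t, ht, hV₁⟩ := hI x
    obtain ⟨V, hxV, hle, s, hs, hJV⟩ := exists_principal_le hJ x V₁.1 hx
    obtain ⟨ht', hIV⟩ := principal_of_le I hle ht hV₁
    exact Opens.mem_iSup.mpr ⟨⟨V, _, s, ht', hIV, hs, hJV⟩, hxV⟩
  · rintro ⟨V, t, s, ht, hIV, hs, hJV⟩
    show I.ideal V ≤ J.ideal V
    have hst : s ∈ Ideal.span {t} := hIV ▸ hJI V (hJV ▸ Ideal.mem_span_singleton_self s)
    obtain ⟨a, ha⟩ := Ideal.mem_span_singleton'.mp hst
    suffices hu : IsUnit a by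
      rw [hIV, hJV, Ideal.span_singleton_le_iff_mem, Ideal.mem_span_singleton']
      obtain ⟨u, rfl⟩ := hu
      exact ⟨↑u⁻¹, by rw [← ha, ← mul_assoc, Units.inv_mul, one_mul]⟩
    by_contra hu
    obtain ⟨𝔪, hm, ham⟩ := exists_max_ideal_of_mem_nonunits (mem_nonunits_iff.mpr hu)
    haveI := hm.isPrime
    obtain ⟨𝔮, hqp, hq, hq𝔪, V₀, φ₀, hφ, hnu⟩ := exists_valuationRing 𝔪
    have hτ : φ₀ t ≠ 0 := by
      intro h0
      have h1 := hφ t
      rw [h0] at h1
      have h2 : algebraMap (Γ(X, V.1) ⧸ 𝔮) (FractionRing (Γ(X, V.1) ⧸ 𝔮))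
          (Ideal.Quotient.mk 𝔮 t) = 0 := h1.symm
      rw [map_eq_zero_iff _ (IsFractionRing.injective _ _), Ideal.Quotient.eq_zero_iff_mem] at h2
      exact Set.disjoint_left.mp (Ideal.disjoint_nonZeroDivisors_of_mem_minimalPrimes hq) h2 ht
    obtain ⟨R, instR, instD, instV, π, hπτ, hπa, hprime⟩ :=
      exists_quotient_valuationRing (φ₀ t) hτ (φ₀ a) (hnu a ham)
    let φ : Γ(X, V.1) →+* R := π.comp φ₀
    have hnzd : (CommRingCat.ofHom φ).hom t ∈ nonZeroDivisors (CommRingCat.of R) :=
      mem_nonZeroDivisors_of_ne_zero hπτ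
    have heff := isEffCartier_comap_SpecMap_fromSpec V.2 (CommRingCat.ofHom φ) I t hIV hnzd
    have hint : ∀ x : Spec (CommRingCat.of R),
        x ∈ (ModPair.interior (I.comap (Spec.map (CommRingCat.ofHom φ) ≫ V.2.fromSpec)) :
          Set (Spec (CommRingCat.of R))) ↔ x.asIdeal = ⊥ := by
      intro x
      rw [SetLike.mem_coe, mem_interior_comap_iff V.2 (CommRingCat.ofHom φ) I t hIV x]
      constructor
      · intro hx
        by_contra hne
        exact hx (hprime x.asIdeal x.isPrime hne)
      · intro hx hmem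
        rw [hx, Ideal.mem_bot] at hmem
        exact hπτ hmem
    have heq := h R (Spec.map (CommRingCat.ofHom φ) ≫ V.2.fromSpec) heff hint
    have hspan := span_eq_of_comap_eq V.2 (CommRingCat.ofHom φ) I J t s hIV hJV heq
    have hmem : φ t ∈ Ideal.span {φ s} := hspan ▸ Ideal.mem_span_singleton_self _
    obtain ⟨c, hc⟩ := Ideal.mem_span_singleton'.mp hmem
    rw [← ha, map_mul, ← mul_assoc] at hc
    have hc' : (c * φ a - 1) * φ t = 0 := by rw [sub_mul, hc, one_mul, sub_self]
    have hc'' : c * φ a = 1 := by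
      rcases mul_eq_zero.mp hc' with h0 | h0
      · exact sub_eq_zero.mp h0
      · exact absurd h0 hπτ
    exact hπa (IsUnit.of_mul_eq_one c (by rw [mul_comm]; exact hc''))



/-- Let X be a scheme and I, J quasi-coherent ideal sheaves of effective Cartier divisors D_I ≤ D_J on
X, i.e. J ≤ I. Suppose that for every valuation ring R and every morphism p : Spec R ⟶ X such that
I.comap p is the ideal sheaf of an effective Cartier divisor on Spec R (so p is a minimal morphism
of modulus pairs for (X, I)) whose open complement consists of the generic point of Spec R only, the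
two divisors agree after pull-back, I.comap p = J.comap p. Then I = J. -/
theorem result {X : Scheme.{u}} (I J : X.IdealSheafData)
    (hI : BlowUp.IsEffCartierIdeal I) (hJ : BlowUp.IsEffCartierIdeal J) (hJI : J ≤ I)
    (h : ∀ (R : Type u) [CommRing R] [IsDomain R] [ValuationRing R]
      (p : Spec (CommRingCat.of R) ⟶ X), BlowUp.IsEffCartierIdeal (I.comap p) →
        (∀ x : Spec (CommRingCat.of R),
          x ∈ (ModPair.interior (I.comap p) : Set (Spec (CommRingCat.of R))) ↔ x.asIdeal = ⊥) →
        I.comap p = J.comap p) :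
    I = J := by
  exact result' I J hI hJ hJI h

end Groth.Agent.S19335
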