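import Groth.Statements.S19338
import Mathlib

set_option autoImplicit false
universe w v u
open CategoryTheory
open ModPair

namespace Groth.Agent.S19338

/-- Let C be a category and S a class of morphisms which contains the identities, is closed under
composition, admits a right calculus of fractions, and consists of monomorphisms. Then the sieves
containing a morphism of S are the covering sieves of a Grothendieck topology on C, and for every
such topology J a presheaf of types F on C is a J-sheaf if and only if it is S-local, i.e. F sends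
every morphism of S to a bijection. -/
theorem result {C : Type u} [Category.{v} C]
    (S : MorphismProperty C) [S.HasRightCalculusOfFractions]
    (hmono : ∀ ⦃X Y : C⦄ (s : X ⟶ Y), S s → Mono s) :
    (∃ J : GrothendieckTopology C, ∀ (X : C) (T : Sieve X),
        T ∈ J X ↔ ∃ (Y : C) (s : Y ⟶ X), S s ∧ T s) ∧
      ∀ J : GrothendieckTopology C, (∀ (X : C) (T : Sieve X),
          T ∈ J X ↔ ∃ (Y : C) (s : Y ⟶ X), S s ∧ T s) →
        ∀ F : Cᵒᵖ ⥤ Type w,
          Presheaf.IsSheaf J F ↔ ∀ ⦃X Y : C⦄ (s : X ⟶ Y), S s → IsIso (F.map s.op) := by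
  have hJ : ∃ J : GrothendieckTopology C, ∀ (X : C) (T : Sieve X),
      T ∈ J X ↔ ∃ (Y : C) (s : Y ⟶ X), S s ∧ T s := by
    refine ⟨{ sieves := fun X => {T | ∃ (Y : C) (s : Y ⟶ X), S s ∧ T s}
              top_mem' := fun X => ⟨X, 𝟙 X, S.id_mem X, trivial⟩
              pullback_stable' := ?_
              transitive' := ?_ }, fun X T => Iff.rfl⟩
    · rintro X Y T f ⟨Z, s, hs, hTs⟩
      obtain ⟨ψ, hψ⟩ := MorphismProperty.HasRightCalculusOfFractions.exists_rightFraction
        (W := S) (⟨f, s, hs⟩ : S.LeftFraction Y Z)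
      refine ⟨ψ.X', ψ.s, ψ.hs, ?_⟩
      change T (ψ.s ≫ f)
      dsimp at hψ
      rw [hψ]
      exact T.downward_closed hTs _
    · rintro X T ⟨Y, s, hs, hTs⟩ R hR
      obtain ⟨Z, t, ht, hRt⟩ := hR hTs
      exact ⟨Z, t ≫ s, S.comp_mem _ _ ht hs, hRt⟩
  refine ⟨hJ, fun J hJ F => ?_⟩
  rw [isSheaf_iff_isSheaf_of_type]
  constructor
  · intro hF X Y s hs
    have hm : Mono s := hmono s hs
    have hcov : Sieve.generate (Presieve.singleton s) ∈ J Y :=
      (hJ _ _).2 ⟨X, s, hs, Sieve.le_generate _ _ _ (Presieve.singleton_self s)⟩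
    have hsh := hF.isSheafFor _ hcov
    rw [isIso_iff_bijective]
    have hcomp : ∀ x : F.obj (Opposite.op X),
        ((Presieve.FamilyOfElements.singletonEquiv F s).symm x).Compatible := by
      intro x
      rw [Presieve.FamilyOfElements.compatible_singleton_iff]
      intro Z p₁ p₂ h
      have : p₁ = p₂ := (cancel_mono s).1 h
      rw [this]
    constructor
    · intro a b hab
      obtain ⟨t, -, huniq⟩ := hsh _ (hcomp (F.map s.op a))
      have ha : t = a := by
        symm
        apply huniq
        rw [Presieve.FamilyOfElements.isAmalgamation_singleton_iff,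
          Presieve.FamilyOfElements.singletonEquiv_symm_apply_self]
      have hb : t = b := by
        symm
        apply huniq
        rw [Presieve.FamilyOfElements.isAmalgamation_singleton_iff,
          Presieve.FamilyOfElements.singletonEquiv_symm_apply_self, hab]
      rw [← ha, hb]
    · intro x
      obtain ⟨t, ht, -⟩ := hsh _ (hcomp x)
      refine ⟨t, ?_⟩
      rw [Presieve.FamilyOfElements.isAmalgamation_singleton_iff,
        Presieve.FamilyOfElements.singletonEquiv_symm_apply_self] at ht
      exact ht
  · intro hF X T hT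
    obtain ⟨Y, s, hs, hTs⟩ := (hJ _ _).1 hT
    have hbij : Function.Bijective (F.map s.op) := (isIso_iff_bijective _).1 (hF s hs)
    intro x hx
    obtain ⟨t, ht⟩ := hbij.2 (x s hTs)
    refine ⟨t, ?_, ?_⟩
    · intro Z f hf
      obtain ⟨ψ, hψ⟩ := MorphismProperty.HasRightCalculusOfFractions.exists_rightFraction
        (W := S) (⟨f, s, hs⟩ : S.LeftFraction Z Y)
      dsimp at hψ
      have hinj : Function.Injective (F.map ψ.s.op) :=
        ((isIso_iff_bijective _).1 (hF ψ.s ψ.hs)).1
      apply hinj
      have h1 : F.map ψ.s.op (F.map f.op t) = F.map ψ.f.op (F.map s.op t) := by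
        rw [← Functor.map_comp_apply, ← Functor.map_comp_apply, ← CategoryTheory.op_comp,
          ← CategoryTheory.op_comp, hψ]
      rw [h1, ht]
      exact hx ψ.f ψ.s hTs hf hψ.symm
    · intro t' ht'
      apply hbij.1
      rw [ht, ht' s hTs]

end Groth.Agent.S19338
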