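import Groth.Statements.S19339
import Groth.Agent.Lib.Helper5.QFRefineSch
import Groth.Agent.Lib.Helper13.EL2

set_option autoImplicit false
universe u
open CategoryTheory CategoryTheory.Limits AlgebraicGeometry TopologicalSpace
open ModPair

namespace Groth.Agent.S19339

/-- pointwise form -/
theorem local_form {X : Scheme.{u}} {W₁ : Scheme.{u}} (g : W₁ ⟶ X) [Flat g]
    [LocallyOfFinitePresentation g] (x : W₁) :
    ∃ (U V : Scheme.{u}) (e : U ⟶ X) (π : V ⟶ U), Etale e ∧
      (∃ y : U, e.base y = g x ∧ IsIso (e.residueFieldMap y)) ∧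
      IsFinite π ∧ Flat π ∧ Surjective π ∧ ∃ r : V ⟶ W₁, r ≫ g = π ≫ e := by
  obtain ⟨A, γ, h, hfac, hfl, hfp, hqf, a, ha⟩ :=
    Groth.Agent.Lib.helper5.QFRefineSch.exists_affine_refinement_at g x
  haveI : LocallyOfFiniteType γ := inferInstance
  have hqa : γ.QuasiFiniteAt a := γ.quasiFiniteAt a
  obtain ⟨U, e, u, he, heu, hbij, V, v, hvV, hfin, hsnd, hfst, -, -⟩ :=
    Groth.Agent.Lib.helper13.EL.exists_etale_nbhd_of_quasiFiniteAt γ a hqa
  let π₀ : V.toScheme ⟶ U := V.ι ≫ pullback.snd γ e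
  haveI : IsFinite π₀ := hfin
  haveI : Flat π₀ := inferInstance
  haveI : LocallyOfFinitePresentation π₀ := inferInstance
  have hopen : IsOpen (Set.range π₀) := π₀.isOpenMap.isOpen_range
  let W : U.Opens := ⟨Set.range π₀, hopen⟩
  have hfac' : ((π₀ ⁻¹ᵁ W).ι ≫ V.ι ≫ pullback.fst γ e ≫ h) ≫ g =
      (π₀ ∣_ W) ≫ W.ι ≫ e := by
    rw [← Category.assoc (π₀ ∣_ W), morphismRestrict_ι]
    simp only [Category.assoc, hfac, π₀]
    rw [pullback.condition]
  have huW : u ∈ W := by
    refine ⟨⟨v, hvV⟩, ?_⟩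
    change (V.ι ≫ pullback.snd γ e) ⟨v, hvV⟩ = u
    rw [Scheme.Hom.comp_apply]
    exact hsnd
  refine ⟨W.toScheme, (π₀ ⁻¹ᵁ W).toScheme, W.ι ≫ e, π₀ ∣_ W, inferInstance, ?_, inferInstance,
    inferInstance, ?_, (π₀ ⁻¹ᵁ W).ι ≫ V.ι ≫ pullback.fst γ e ≫ h, hfac'⟩
  · refine ⟨⟨u, huW⟩, ?_, ?_⟩
    · rw [Scheme.Hom.comp_apply]
      change e u = g x
      rw [heu, ha]
    · rw [Scheme.residueFieldMap_comp]
      have h1 : IsIso (e.residueFieldMap (W.ι ⟨u, huW⟩)) := by
        change IsIso (e.residueFieldMap u)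
        exact (ConcreteCategory.isIso_iff_bijective _).mpr hbij
      have h2 : IsIso (W.ι.residueFieldMap ⟨u, huW⟩) := inferInstance
      exact @IsIso.comp_isIso _ _ _ _ _ _ _ h1 h2
  · refine ⟨fun ⟨w, y, hy⟩ => ?_⟩
    refine ⟨⟨y, ⟨y, rfl⟩⟩, ?_⟩
    apply Subtype.ext
    rw [morphismRestrict_base_coe]
    exact hy


/-- Let X be a scheme and (w_j : W_j ⟶ X) an fppf covering, i.e. a jointly surjective family of
morphisms each of which is flat and of finite presentation (locally of finite presentation,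
quasi-compact and quasi-separated). Then it is refined by a family of composites V_k ⟶ U_k ⟶ X in
which the u_k : U_k ⟶ X are étale morphisms such that every point of X is the image of a point of
some U_k with trivial residue field extension, and the v_k : V_k ⟶ U_k are finite, flat and
surjective: each composite v_k ≫ u_k factors through some w_j. (The covering condition on the family
(u_k) is stated here pointwise, every point lifting to some U_k with the same residue field; a
Nisnevich covering in the stronger sense with members of finite presentation and a finite splitting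
stratification is not asserted.) -/
theorem result {X : Scheme.{u}}
    {ι : Type u} (W : ι → Scheme.{u}) (w : ∀ j, W j ⟶ X)
    (hw : Presieve.ofArrows W w ∈
      Scheme.precoverage (@Flat ⊓ @LocallyOfFinitePresentation ⊓ @QuasiCompact ⊓ @QuasiSeparated) X) :
    ∃ (κ : Type u) (U V : κ → Scheme.{u}) (u : ∀ k, U k ⟶ X) (v : ∀ k, V k ⟶ U k),
      (∀ k, Etale (u k)) ∧
        (∀ x : X, ∃ (k : κ) (y : U k), (u k).base y = x ∧ IsIso ((u k).residueFieldMap y)) ∧
        (∀ k, IsFinite (v k) ∧ Flat (v k) ∧ Surjective (v k)) ∧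
        ∀ k, ∃ (j : ι) (r : V k ⟶ W j), r ≫ w j = v k ≫ u k := by
  classical
  rw [Scheme.ofArrows_mem_precoverage_iff] at hw
  obtain ⟨hsurj, hP⟩ := hw
  have key : ∀ x : X, ∃ (U V : Scheme.{u}) (e : U ⟶ X) (π : V ⟶ U), Etale e ∧
      (∃ y : U, e.base y = x ∧ IsIso (e.residueFieldMap y)) ∧
      IsFinite π ∧ Flat π ∧ Surjective π ∧ ∃ (j : ι) (r : V ⟶ W j), r ≫ w j = π ≫ e := by
    intro x
    obtain ⟨j, z, hz⟩ := hsurj x
    haveI : Flat (w j) := (hP j).1.1.1
    haveI : LocallyOfFinitePresentation (w j) := (hP j).1.1.2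
    obtain ⟨U, V, e, π, he, ⟨y, hy, hiso⟩, h1, h2, h3, r, hr⟩ := local_form (w j) z
    exact ⟨U, V, e, π, he, ⟨y, hy.trans hz, hiso⟩, h1, h2, h3, j, r, hr⟩
  choose U V e π he hy h1 h2 h3 j r hr using key
  refine ⟨X, U, V, e, π, he, ?_, fun k => ⟨h1 k, h2 k, h3 k⟩, fun k => ⟨j k, r k, hr k⟩⟩
  intro x
  obtain ⟨y, hy1, hy2⟩ := hy x
  exact ⟨x, y, hy1, hy2⟩

end Groth.Agent.S19339
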