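import Groth.Statements.S19340
import Mathlib

set_option autoImplicit false
universe v v' u u'
open CategoryTheory
open ModPair

namespace Groth.Agent.S19340

/-- Let C be a category, S a class of morphisms of C containing the identities, closed under composition
and admitting a right calculus of fractions, and L : C ⥤ D a localization functor for S. Then for
every object X of C the comma category of L under X, whose objects are pairs (Y, L(X) ⟶ L(Y)) and
whose morphisms are morphisms Y ⟶ Y' of C compatible with the structure maps, is cofiltered. The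
published statement calls this category filtered; its proof verifies, and this row states,
cofilteredness. -/
theorem result {C : Type u}
    [Category.{v} C] {D : Type u'} [Category.{v'} D] (S : MorphismProperty C)
    [S.HasRightCalculusOfFractions] (L : C ⥤ D) [L.IsLocalization S] (X : C) :
    IsCofiltered (StructuredArrow (L.obj X) L) := by
  have hinv := Localization.inverts L S
  have hne : Nonempty (StructuredArrow (L.obj X) L) := ⟨StructuredArrow.mk (𝟙 (L.obj X))⟩
  have key : ∀ A : StructuredArrow (L.obj X) L, ∃ φ : S.RightFraction X A.right,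
      A.hom = φ.map L hinv := fun A => Localization.exists_rightFraction L S A.hom
  refine @IsCofiltered.mk _ _ ⟨?_, ?_⟩ hne
  · intro A B
    obtain ⟨φ₁, h₁⟩ := key A
    obtain ⟨φ₂, h₂⟩ := key B
    obtain ⟨ψ, hψ⟩ := (⟨φ₁.s, φ₂.s, φ₂.hs⟩ : S.LeftFraction φ₁.X' φ₂.X').exists_rightFraction
    dsimp at hψ
    have hs : S (ψ.s ≫ φ₁.s) := S.comp_mem _ _ ψ.hs φ₁.hs
    have hiso : IsIso (L.map (ψ.s ≫ φ₁.s)) := hinv _ hs
    refine ⟨StructuredArrow.mk (inv (L.map (ψ.s ≫ φ₁.s))),
      StructuredArrow.homMk (ψ.s ≫ φ₁.f) ?_, StructuredArrow.homMk (ψ.f ≫ φ₂.f) ?_, trivial⟩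
    · dsimp
      rw [IsIso.inv_comp_eq, h₁, L.map_comp, L.map_comp, Category.assoc,
        MorphismProperty.RightFraction.map_s_comp_map]
    · dsimp
      rw [IsIso.inv_comp_eq, h₂, hψ, L.map_comp, L.map_comp, Category.assoc,
        MorphismProperty.RightFraction.map_s_comp_map]
  · intro A B f g
    obtain ⟨φ, h⟩ := key A
    have hf := StructuredArrow.w f
    have hg := StructuredArrow.w g
    have heq : L.map (φ.f ≫ f.right) = L.map (φ.f ≫ g.right) := by
      rw [L.map_comp, L.map_comp, ← MorphismProperty.RightFraction.map_s_comp_map φ L hinv,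
        Category.assoc, Category.assoc, ← h, hf, hg]
    obtain ⟨Z, t, ht, htt⟩ := (MorphismProperty.map_eq_iff_precomp L S _ _).1 heq
    have hs : S (t ≫ φ.s) := S.comp_mem _ _ ht φ.hs
    have hiso : IsIso (L.map (t ≫ φ.s)) := hinv _ hs
    refine ⟨StructuredArrow.mk (inv (L.map (t ≫ φ.s))), StructuredArrow.homMk (t ≫ φ.f) ?_, ?_⟩
    · dsimp
      rw [IsIso.inv_comp_eq, h, L.map_comp, L.map_comp, Category.assoc,
        MorphismProperty.RightFraction.map_s_comp_map]
    · ext
      dsimp
      rw [Category.assoc, Category.assoc]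
      exact htt

end Groth.Agent.S19340
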