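import Groth.Statements.S19349
import Groth.Agent.Lib.Helper16.EffCartier2
import Groth.Agent.Lib.Helper16.EffDiv
import Groth.Agent.Lib.Helper7.CohKer
import Groth.Agent.Lib.Helper28.HomOfAffine
import Groth.Agent.Lib.Helper16.QCohPullback2
import Groth.Agent.Lib.Helper16.QCohAffinePush
import Groth.Agent.Lib.Helper16.QCohAss
import Groth.Agent.Lib.Helper7.QCohProd

set_option linter.style.haveILetI false

set_option autoImplicit false
universe u
open RigCh

namespace Groth.Agent.S19349

open CategoryTheory CategoryTheory.Limits AlgebraicGeometry TopologicalSpace Opposite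

open Scheme.Modules Groth.Agent.Lib.helper16.EffCartier Groth.Agent.Lib.helper16.QCohAss

variable {X : Scheme.{u}}

/-- a section killed by a power of `E` vanishes off the support of `E` -/
theorem res_interior_eq_zero (E : X.IdealSheafData) (N : X.Modules) (V : X.affineOpens)
    (m : Γ(N, V.1)) (hm : BlowUp.KilledByPowerNear E N V m) (W : X.Opens) (hWV : W ≤ V.1)
    (hW : ∀ x ∈ W, x ∉ E.support) : N.presheaf.map (homOfLE hWV).op m = 0 := by
  obtain ⟨n, hn⟩ := hm
  apply section_eq_zero_of_germ_eq_zero
  intro x hxW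
  have hxV : x ∈ V.1 := hWV hxW
  have h1 : x ∉ X.zeroLocus (U := V.1) (E.ideal V) := fun h =>
    hW x hxW ((Scheme.IdealSheafData.mem_support_iff_of_mem hxV).mpr h)
  rw [Scheme.mem_zeroLocus_iff] at h1
  push Not at h1
  obtain ⟨a, ha, hxa⟩ := h1
  have han : a ^ n ∈ (E ^ n).ideal V := by
    rw [Scheme.IdealSheafData.ideal_pow, Pi.pow_apply]
    exact Ideal.pow_mem_pow ha n
  have h2 := hn _ han
  have hg := congrArg (N.presheaf.germ V.1 x hxV).hom h2
  rw [germ_smul', map_zero, map_pow] at hg
  have hu : IsUnit ((X.presheaf.germ V.1 x hxV).hom a) := isUnit_germ_of_mem_basicOpen x hxV a hxa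
  have h3 := (hu.pow n).smul_eq_zero.mp hg
  rw [TopCat.Presheaf.germ_res_apply]
  exact h3

/-- conversely (quasi-coherent `N`, `E` effective Cartier): a section over an affine open vanishing off
the support of `E` is killed by a power of `E` -/
theorem killedByPowerNear_of_res_eq_zero (E : X.IdealSheafData) (hE : BlowUp.IsEffCartierIdeal E)
    (N : X.Modules) [N.IsQuasicoherent] (V : X.affineOpens) (m : Γ(N, V.1))
    (hm : ∀ (W : X.Opens) (hWV : W ≤ V.1), (∀ x ∈ W, x ∉ E.support) →
      N.presheaf.map (homOfLE hWV).op m = 0) : BlowUp.KilledByPowerNear E N V m := by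
  have hfg := Groth.Agent.Lib.helper16.EffDiv.fg_ideal_of_isEffCartier hE V
  have hrad : E.ideal V ≤ ((Submodule.span Γ(X, V.1) {m}).annihilator).radical := by
    intro a ha
    have h1 : N.presheaf.map (homOfLE (X.basicOpen_le a)).op m = 0 := by
      apply hm
      intro x hxa hxs
      have hxV : x ∈ V.1 := X.basicOpen_le a hxa
      have := (Scheme.IdealSheafData.mem_support_iff_of_mem (U := V) hxV).mp hxs
      rw [Scheme.mem_zeroLocus_iff] at this
      exact this a ha hxa
    obtain ⟨n, hn⟩ := Groth.Agent.Lib.helper7.exists_pow_smul_eq_zero_of_isAffineOpen V.2 N a m h1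
    exact ⟨n, (Submodule.mem_annihilator_span_singleton _ _).mpr hn⟩
  obtain ⟨k, hk⟩ := Ideal.exists_pow_le_of_le_radical_of_fg hrad hfg
  refine ⟨k, fun a ha => ?_⟩
  rw [Scheme.IdealSheafData.ideal_pow, Pi.pow_apply] at ha
  exact (Submodule.mem_annihilator_span_singleton _ _).mp (hk ha)

open Groth.Agent.Lib.helper16.EffCartier2 Groth.Agent.Lib.helper28.HomOfAffine in
/-- the target of a "strict transform" epimorphism out of a quasi-coherent module is quasi-coherent -/
theorem isQuasicoherent_of_strictTransform (E : X.IdealSheafData) (hE : BlowUp.IsEffCartierIdeal E)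
    (N G : X.Modules) [N.IsQuasicoherent] (π : N ⟶ G) [Epi π]
    (hπ : ∀ (V : X.affineOpens) (m : Γ(N, V.1)),
      π.app V.1 m = 0 ↔ BlowUp.KilledByPowerNear E N V m) :
    G.IsQuasicoherent := by
  haveI : IsAffineHom (ModPair.interior E).ι := isAffineHom_interior_ι E hE
  haveI : (N.restrict (ModPair.interior E).ι).IsQuasicoherent := inferInstance
  haveI : ((pushforward (ModPair.interior E).ι).obj
      (N.restrict (ModPair.interior E).ι)).IsQuasicoherent :=
    Groth.Agent.Lib.helper16.QCohAffinePush.isQuasicoherent_push _ _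
  have hint : ∀ (V : X.Opens), ∀ x ∈ (ModPair.interior E).ι ''ᵁ ((ModPair.interior E).ι ⁻¹ᵁ V),
      x ∉ E.support := by
    intro V x hx
    have h1 : x ∈ (ModPair.interior E).ι.opensRange := by
      rw [Scheme.Hom.image_preimage_eq_opensRange_inf] at hx
      exact hx.1
    rw [Scheme.Opens.opensRange_ι] at h1
    exact h1
  have ha : kernel.ι π ≫ (restrictAdjunction (ModPair.interior E).ι).unit.app N = 0 := by
    apply hom_ext_of_affine
    intro U s
    have h0 : π.app U.1 ((kernel.ι π).app U.1 s) = 0 :=
      congrArg (fun φ => (Hom.app φ U.1) s) (kernel.condition π)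
    have hk := (hπ ⟨U.1, U.2⟩ _).mp h0
    have := res_interior_eq_zero E N ⟨U.1, U.2⟩ _ hk _
      ((ModPair.interior E).ι.image_preimage_le U.1) (hint U.1)
    exact this
  have hb : kernel.ι ((restrictAdjunction (ModPair.interior E).ι).unit.app N) ≫ π = 0 := by
    apply hom_ext_of_affine
    intro U s
    have h0 : ((restrictAdjunction (ModPair.interior E).ι).unit.app N).app U.1
        ((kernel.ι ((restrictAdjunction (ModPair.interior E).ι).unit.app N)).app U.1 s) = 0 :=
      congrArg (fun φ => (Hom.app φ U.1) s)
        (kernel.condition ((restrictAdjunction (ModPair.interior E).ι).unit.app N))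
    refine (hπ ⟨U.1, U.2⟩ _).mpr (killedByPowerNear_of_res_eq_zero E hE N ⟨U.1, U.2⟩ _ ?_)
    intro W hWV hW
    have hle : W ≤ (ModPair.interior E).ι ''ᵁ ((ModPair.interior E).ι ⁻¹ᵁ U.1) := by
      intro x hx
      rw [Scheme.Hom.image_preimage_eq_opensRange_inf, Scheme.Opens.opensRange_ι]
      exact ⟨hW x hx, hWV hx⟩
    have h1 : N.presheaf.map (homOfLE hle).op
        (N.presheaf.map (homOfLE ((ModPair.interior E).ι.image_preimage_le U.1)).op
          ((kernel.ι ((restrictAdjunction (ModPair.interior E).ι).unit.app N)).app U.1 s)) = 0 :=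
      (congrArg (N.presheaf.map (homOfLE hle).op) h0).trans (map_zero _)
    rw [← ConcreteCategory.comp_apply, ← Functor.map_comp] at h1
    exact h1
  -- `kernel π ≅ kernel η`
  have hαβ : kernel.lift _ (kernel.ι π) ha ≫ kernel.lift π (kernel.ι _) hb = 𝟙 _ := by
    apply (cancel_mono (kernel.ι π)).mp
    rw [Category.assoc, kernel.lift_ι, kernel.lift_ι, Category.id_comp]
  have hβα : kernel.lift π (kernel.ι _) hb ≫ kernel.lift _ (kernel.ι π) ha = 𝟙 _ := by
    apply (cancel_mono (kernel.ι ((restrictAdjunction (ModPair.interior E).ι).unit.app N))).mp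
    rw [Category.assoc, kernel.lift_ι, kernel.lift_ι, Category.id_comp]
  let e : kernel π ≅ kernel ((restrictAdjunction (ModPair.interior E).ι).unit.app N) :=
    ⟨_, _, hαβ, hβα⟩
  haveI : ((𝟭 X.Modules).obj N).IsQuasicoherent := ‹N.IsQuasicoherent›
  haveI : ((restrictFunctor (ModPair.interior E).ι ⋙ pushforward (ModPair.interior E).ι).obj
      N).IsQuasicoherent :=
    ‹((pushforward (ModPair.interior E).ι).obj (N.restrict (ModPair.interior E).ι)).IsQuasicoherent›
  haveI : (kernel ((restrictAdjunction (ModPair.interior E).ι).unit.app N)).IsQuasicoherent :=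
    Groth.Agent.Lib.helper7.CohKer.isQuasicoherent_kernel _
  haveI : (kernel π).IsQuasicoherent :=
    Groth.Agent.Lib.helper7.QCohProd.isQuasicoherent_of_iso e.symm inferInstance
  haveI : (cokernel (kernel.ι π)).IsQuasicoherent :=
    Groth.Agent.Lib.helper7.CohKer.isQuasicoherent_cokernel _
  have hcok := Abelian.epiIsCokernelOfKernel _ (kernelIsKernel π)
  let iso : cokernel (kernel.ι π) ≅ G :=
    IsColimit.coconePointUniqueUpToIso (cokernelIsCokernel (kernel.ι π)) hcok
  exact Groth.Agent.Lib.helper7.QCohProd.isQuasicoherent_of_iso iso inferInstance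

theorem result' (k : Type u) [Field k]
    (X : Scheme.{u}) (f : X ⟶ Spec (CommRingCat.of k)) [IsSeparated f] [QuasiCompact f] [LocallyOfFiniteType f]
    (I : X.IdealSheafData) {X' : Scheme.{u}} (b : X' ⟶ X) (hb : BlowUp.IsBlowUp b I)
    (F : X.Modules) (hF : Coh.IsCoh F) (G : X'.Modules) (π : (Scheme.Modules.pullback b).obj F ⟶ G)
    (hG : BlowUp.IsStrictTransform b I F G π) : Coh.IsCoh G := by
  haveI : F.IsQuasicoherent := hF.1
  haveI : ((Scheme.Modules.pullback b).obj F).IsQuasicoherent :=
    Groth.Agent.Lib.helper16.QCohPullback.isQuasicoherent_pullback b F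
  have hft : CohB1.IsFT ((Scheme.Modules.pullback b).obj F) :=
    Groth.Agent.Lib.helper16.QCohPullback2.isFiniteType_pullback b F hF.2
  haveI : Epi π := hG.1
  exact ⟨isQuasicoherent_of_strictTransform (I.comap b) hb.1 _ G π hG.2,
    Groth.Agent.Lib.helper7.CohKer.isFiniteType_of_epi π hft⟩

open AlgebraicGeometry CategoryTheory in
/-- Let X be a separated scheme of finite type over a field k, I a quasi-coherent ideal sheaf on X, b :
X' → X a blowing up of X in I and F a coherent O_X-module. Then any strict transform G of F along b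
(an epimorphism from the pullback of F onto G whose kernel consists, affine-locally, of the sections
annihilated by a power of the exceptional ideal) is a coherent module on X': quasi-coherent of
finite type, X' being again of finite type over k. (The source assumes k of positive characteristic;
this plays no role here.) -/
theorem result (k : Type u) [Field k]
    (X : Scheme.{u}) (f : X ⟶ Spec (CommRingCat.of k)) [IsSeparated f] [QuasiCompact f] [LocallyOfFiniteType f]
    (I : X.IdealSheafData) {X' : Scheme.{u}} (b : X' ⟶ X) (hb : BlowUp.IsBlowUp b I)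
    (F : X.Modules) (hF : Coh.IsCoh F) (G : X'.Modules) (π : (Scheme.Modules.pullback b).obj F ⟶ G)
    (hG : BlowUp.IsStrictTransform b I F G π) : Coh.IsCoh G := by
  exact result' k X f I b hb F hF G π hG

end Groth.Agent.S19349
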