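import Groth.Statements.S19352
import Groth.Agent.Lib.Helper7.SurfHodgeA
import Groth.Agent.Lib.Helper7.SnapperPos6
import Groth.Agent.Lib.Helper9.CurveTwist

set_option autoImplicit false
universe u
open CategoryTheory CategoryTheory.Limits AlgebraicGeometry
open Surf

namespace Groth.Agent.S19352

/-- Let k be an algebraically closed field and X a nonsingular projective surface over k, namely an
integral scheme, smooth over k, of dimension two, given with a closed immersion ι into a projective
space P^n_k over k, and let H = ι^* O(1) be the invertible module of a hyperplane section. If L is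
an invertible O_X-module (the module of a divisor D) with dim_k H^0(X, L) > 1, then (L·H) > 0. Here
(A·B) denotes the intersection number of two invertible modules, the alternating sum χ(O_X) − χ(A) −
χ(B) + χ(A ⊗ B) of Euler characteristics (cohomology in degrees at most two); for two invertible
modules this agrees with the same sum formed from their inverses. -/
theorem result (k : Type u) [Field k] [IsAlgClosed k]
    (X : Scheme.{u}) [X.Over (Spec (CommRingCat.of k))] [AlgebraicGeometry.IsIntegral X]
    [Smooth (X ↘ Spec (CommRingCat.of k))] (hdim : topologicalKrullDim X = 2)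
    (n : ℕ) (ι : X ⟶ CohB1.ProjSpace n k) [IsClosedImmersion ι]
    (hι : ι ≫ CohB1.ProjSpace.toSpec n k = X ↘ Spec (CommRingCat.of k))
    (L : X.Modules) (hL : PicF.IsInvertible L)
    (hsec : 1 < Module.finrank k (Coh.HH X L 0)) :
    0 < FGA.intNum k X 2 ![L, (Scheme.Modules.pullback ι).obj (Twist.twistProjSpace n k 1)] (Coh.structureModule X) := by
  haveI : IsProper (X ↘ Spec (CommRingCat.of k)) := by
    rw [← hι]
    haveI := Groth.Agent.Lib.helper19.ProjSpaceProper.proper_toSpec n k
    infer_instance
  haveI := Groth.Agent.Lib.Lead.CurveEuler.isNoetherian k X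
  have hd : topologicalKrullDim X ≤ ((2 : ℕ) : WithBot ℕ∞) := by rw [hdim]; rfl
  by_contra hcon
  rw [not_lt] at hcon
  obtain ⟨L', hL', ⟨εL⟩, -⟩ := Groth.Agent.Lib.helper12.InvDual.exists_inverse hL
  have hinv := Groth.Agent.Lib.helper7.SurfHodge.P_inv_inv k X hd hL hL' εL
    (Groth.Agent.Lib.helper7.SnapperHilb.isInvertible_O1 k ι)
    (Groth.Agent.Lib.helper7.SnapperHilb.isInvertible_Om1 k ι)
    (Groth.Agent.Lib.helper7.SnapperHilb.invIso k ι)
  have hvec : (Matrix.vecCons L' (fun _ : Fin 1 =>
      (Scheme.Modules.pullback ι).obj (Twist.twistProjSpace n k (-1))) : Fin (1 + 1) → X.Modules) =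
      ![L', (Scheme.Modules.pullback ι).obj (Twist.twistProjSpace n k (-1))] := by
    funext i
    fin_cases i <;> rfl
  have hdeg : FGA.intNum k X (1 + 1)
      (Matrix.vecCons L' (fun _ : Fin 1 =>
        (Scheme.Modules.pullback ι).obj (Twist.twistProjSpace n k (-1))))
      (Coh.structureModule X) ≤ 0 := by
    rw [hvec]
    have h1 : FGA.intNum k X 2 ![L', (Scheme.Modules.pullback ι).obj (Twist.twistProjSpace n k (-1))]
        (Coh.structureModule X) =
        FGA.intNum k X 2 ![L, (Scheme.Modules.pullback ι).obj (Twist.twistProjSpace n k 1)]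
          (Coh.structureModule X) := hinv
    rw [h1]
    exact hcon
  have hnt : Nontrivial (Coh.HH X L 0) :=
    Module.nontrivial_of_finrank_pos (R := k) (by omega)
  have hdim' : topologicalKrullDim X = ((1 + 1 : ℕ) : WithBot ℕ∞) := by rw [hdim]; rfl
  obtain ⟨e⟩ := Groth.Agent.Lib.helper7.SnapperPos.iso_structureModule_of_deg_nonpos_of_sections
    k n X ι hι 1 hdim' L L' hL ⟨εL⟩ hdeg hnt
  rw [Groth.Agent.Lib.helper9.CurveTwist.finrank_HH_eq_of_iso k e 0,
    Groth.Agent.Lib.helper9.CurveVanish.finrank_H0_structureModule_eq_one k X] at hsec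
  exact lt_irrefl _ hsec

end Groth.Agent.S19352
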