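import Groth.Statements.S19356
import Mathlib

set_option autoImplicit false
universe u
open AbVar

namespace Groth.Agent.S19356

open scoped ComplexConjugate in
theorem core {A : Type*} [Ring A] [Algebra ℚ A] [Module.Finite ℚ A]
    (hcomm : ∀ x y : A, x * y = y * x) (τ : A →ₗ[ℚ] A)
    (hτmul : ∀ x y, τ (x * y) = τ x * τ y) (hττ : ∀ x, τ (τ x) = x)
    (σ : A →ₗ[ℚ] ℚ) (hpos : ∀ x : A, x ≠ 0 → 0 < σ (x * τ x))
    (ρ : A →ₐ[ℚ] ℂ) (a : A) : ρ (τ a) = conj (ρ a) := by
  classical
  -- the symmetric bilinear form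
  let B₁ : LinearMap.BilinForm ℚ A := ((LinearMap.mul ℚ A).compl₂ τ).compr₂ σ
  have hB₁ : ∀ x y, B₁ x y = σ (x * τ y) := fun x y => rfl
  let Bf : LinearMap.BilinForm ℚ A := B₁ + B₁.flip
  have hBf : ∀ x y, Bf x y = σ (x * τ y) + σ (y * τ x) := fun x y => rfl
  have hsymm : ∀ x y, Bf x y = Bf y x := fun x y => by rw [hBf, hBf, add_comm]
  have hsymm' : LinearMap.IsSymm Bf := ⟨fun x y => hsymm x y⟩
  have hadj : ∀ x y, Bf (a * x) y = Bf x (τ a * y) := by
    intro x y
    rw [hBf, hBf, hτmul, hτmul, hττ]
    congr 2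
    · rw [hcomm a x, mul_assoc]
    · rw [← mul_assoc, hcomm y (τ a)]
  obtain ⟨v, hv⟩ := LinearMap.BilinForm.exists_orthogonal_basis hsymm'
  let d : Fin (Module.finrank ℚ A) → ℚ := fun i => Bf (v i) (v i)
  have hd : ∀ i, 0 < d i := by
    intro i
    have h := hpos (v i) (v.ne_zero i)
    change 0 < σ (v i * τ (v i)) + σ (v i * τ (v i))
    linarith
  let c : Fin (Module.finrank ℚ A) → A → ℚ := fun i x => Bf x (v i) / d i
  have hrepr : ∀ x : A, x = ∑ i, c i x • v i := by
    intro x
    conv_lhs => rw [← v.sum_repr x]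
    refine Finset.sum_congr rfl fun i _ => ?_
    congr 1
    change v.repr x i = Bf x (v i) / d i
    rw [eq_div_iff (hd i).ne']
    conv_rhs => rw [← v.sum_repr x]
    rw [map_sum, LinearMap.sum_apply, Finset.sum_eq_single i]
    · rw [map_smul, LinearMap.smul_apply, smul_eq_mul]
    · intro j _ hji
      rw [map_smul, LinearMap.smul_apply, hv hji, smul_zero]
    · intro h; exact absurd (Finset.mem_univ i) h
  let w : Fin (Module.finrank ℚ A) → ℂ := fun i => ρ (v i)
  have hρ : ∀ x : A, ρ x = ∑ i, (c i x : ℂ) * w i := by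
    intro x
    conv_lhs => rw [hrepr x]
    rw [map_sum]
    refine Finset.sum_congr rfl fun i _ => ?_
    rw [map_smul, Rat.smul_def]
  have hkey : ∀ i j, c i (τ a * v j) / d j = c j (a * v i) / d i := by
    intro i j
    change Bf (τ a * v j) (v i) / d i / d j = Bf (a * v i) (v j) / d j / d i
    rw [hsymm (τ a * v j) (v i), ← hadj]
    rw [div_div, div_div, mul_comm]
  -- the quantity T
  let T : ℂ := ∑ j, conj (w j) * w j / (d j : ℂ)
  have hT : T ≠ 0 := by
    have hTreal : T = ((∑ j, Complex.normSq (w j) / (d j : ℝ) : ℝ) : ℂ) := by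
      push_cast
      refine Finset.sum_congr rfl fun j _ => ?_
      rw [mul_comm, Complex.mul_conj]
    have hex : ∃ j, w j ≠ 0 := by
      by_contra hall
      push Not at hall
      have h1 := hρ 1
      rw [map_one] at h1
      rw [Finset.sum_eq_zero (fun i _ => by rw [hall i, mul_zero])] at h1
      exact one_ne_zero h1
    obtain ⟨j₀, hj₀⟩ := hex
    rw [hTreal]
    have hpos' : 0 < ∑ j, Complex.normSq (w j) / (d j : ℝ) := by
      apply Finset.sum_pos'
      · intro j _
        have : (0 : ℝ) < (d j : ℝ) := by exact_mod_cast hd j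
        exact div_nonneg (Complex.normSq_nonneg _) this.le
      · refine ⟨j₀, Finset.mem_univ _, ?_⟩
        have : (0 : ℝ) < (d j₀ : ℝ) := by exact_mod_cast hd j₀
        exact div_pos (Complex.normSq_pos.2 hj₀) this
    exact_mod_cast hpos'.ne'
  have h1 : ρ (τ a) * T = ∑ j, ∑ i, conj (w j) * ((c i (τ a * v j) : ℂ) * w i) / (d j : ℂ) := by
    change ρ (τ a) * ∑ j, conj (w j) * w j / (d j : ℂ) = _
    rw [Finset.mul_sum]
    refine Finset.sum_congr rfl fun j _ => ?_
    have : ρ (τ a) * w j = ∑ i, (c i (τ a * v j) : ℂ) * w i := by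
      rw [← hρ, map_mul]
    rw [← Finset.sum_div, ← Finset.mul_sum, ← this]
    ring
  have h2 : conj (ρ a) * T = ∑ i, ∑ j, conj ((c j (a * v i) : ℂ) * w j) * w i / (d i : ℂ) := by
    change conj (ρ a) * ∑ j, conj (w j) * w j / (d j : ℂ) = _
    rw [Finset.mul_sum]
    refine Finset.sum_congr rfl fun i _ => ?_
    have : ρ a * w i = ∑ j, (c j (a * v i) : ℂ) * w j := by
      rw [← hρ, map_mul]
    rw [← Finset.sum_div, ← Finset.sum_mul, ← map_sum, ← this, map_mul]
    ring
  have h3 : ρ (τ a) * T = conj (ρ a) * T := by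
    rw [h1, h2, Finset.sum_comm]
    refine Finset.sum_congr rfl fun i _ => Finset.sum_congr rfl fun j _ => ?_
    have := congrArg (Rat.cast : ℚ → ℂ) (hkey i j)
    push_cast at this
    rw [map_mul, map_ratCast (starRingEnd ℂ)]
    linear_combination (conj (w j) * w i) * this
  exact mul_right_cancel₀ hT h3

/-- Let R be a finite-dimensional ℚ-algebra with a ℚ-linear involution x ↦ x† (an anti-automorphism of
order two) and a ℚ-linear functional σ with σ(x x†) > 0 for every x ≠ 0; this is the positivity of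
the involution, σ being the trace of R over ℚ in the case of the endomorphism algebra of an abelian
variety with a Rosati involution, and the trace on a cohomology group in the case of an algebra of
correspondences with the adjoint for a Weil form. Let α ∈ R with α α† = q for a rational number q.
Then α† lies in the subalgebra ℚ[α], and for every ℚ-algebra homomorphism ρ : ℚ[α] → ℂ one has ρ(α†)
= the complex conjugate of ρ(α) and |ρ(α)|² = q. (The published statement is for the endomorphism
algebra of an abelian variety with a Rosati involution, with σ its trace over ℚ and q an integer;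
the form given here, for an arbitrary ℚ-linear functional σ positive on every x x† with x ≠ 0 and
rational q, is what its proof establishes.) -/
theorem result (R : Type u) [Ring R] [Algebra ℚ R]
    [Module.Finite ℚ R] [StarRing R] [StarModule ℚ R]
    (σ : R →ₗ[ℚ] ℚ) (hpos : ∀ x : R, x ≠ 0 → 0 < σ (x * star x))
    (α : R) (q : ℚ) (hα : α * star α = algebraMap ℚ R q) :
    ∃ hmem : star α ∈ Algebra.adjoin ℚ ({α} : Set R),
      ∀ ρ : Algebra.adjoin ℚ ({α} : Set R) →ₐ[ℚ] ℂ,
        ρ ⟨star α, hmem⟩ = starRingEnd ℂ (ρ ⟨α, Algebra.self_mem_adjoin_singleton ℚ α⟩) ∧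
          ‖ρ ⟨α, Algebra.self_mem_adjoin_singleton ℚ α⟩‖ ^ 2 = (q : ℝ) := by
  classical
  have hαA : α ∈ Algebra.adjoin ℚ ({α} : Set R) := Algebra.self_mem_adjoin_singleton ℚ α
  have hcommR : ∀ x ∈ Algebra.adjoin ℚ ({α} : Set R), ∀ y ∈ Algebra.adjoin ℚ ({α} : Set R),
      x * y = y * x := by
    intro x hx y hy
    have h1 : Commute α y := Algebra.commute_of_mem_adjoin_self hy
    have h2 : Commute y x := Algebra.commute_of_mem_adjoin_singleton_of_commute hx h1.symm
    exact h2.symm.eq
  have hmem : star α ∈ Algebra.adjoin ℚ ({α} : Set R) := by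
    by_cases hq : q = 0
    · have h0 : α = 0 := by
        by_contra hne
        have := hpos α hne
        rw [hα, hq, map_zero, map_zero] at this
        exact lt_irrefl _ this
      rw [h0, star_zero]
      exact Subalgebra.zero_mem _
    · let a : Algebra.adjoin ℚ ({α} : Set R) := ⟨α, hαA⟩
      let m : Algebra.adjoin ℚ ({α} : Set R) →ₗ[ℚ] Algebra.adjoin ℚ ({α} : Set R) :=
        LinearMap.mulLeft ℚ a
      have hinj : Function.Injective m := by
        rw [← LinearMap.ker_eq_bot, LinearMap.ker_eq_bot']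
        intro x hx
        have h0 : α * (x : R) = 0 := congrArg Subtype.val hx
        have h1 : (x : R) * α = 0 := by rw [← hcommR α hαA x x.2]; exact h0
        have h2 : (x : R) * (α * star α) = 0 := by rw [← mul_assoc, h1, zero_mul]
        rw [hα, ← Algebra.commutes, ← Algebra.smul_def] at h2
        exact Subtype.ext ((smul_eq_zero.1 h2).resolve_left hq)
      have hsurj : Function.Surjective m := LinearMap.surjective_of_injective hinj
      obtain ⟨b, hb⟩ := hsurj 1
      have hab : α * (b : R) = 1 := congrArg Subtype.val hb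
      have hba : (b : R) * α = 1 := by rw [← hcommR α hαA b b.2]; exact hab
      have hsa : star α = q • (b : R) := by
        calc star α = ((b : R) * α) * star α := by rw [hba, one_mul]
          _ = (b : R) * (α * star α) := mul_assoc _ _ _
          _ = q • (b : R) := by rw [hα, ← Algebra.commutes, ← Algebra.smul_def]
      rw [hsa]
      exact Subalgebra.smul_mem _ b.2 q
  refine ⟨hmem, ?_⟩
  have hstarA : ∀ y ∈ Algebra.adjoin ℚ ({α} : Set R), star y ∈ Algebra.adjoin ℚ ({α} : Set R) := by
    intro y hy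
    induction hy using Algebra.adjoin_induction with
    | mem x hx => rw [Set.mem_singleton_iff.1 hx]; exact hmem
    | algebraMap r =>
      rw [← algebraMap_star_comm, star_trivial]
      exact Subalgebra.algebraMap_mem _ r
    | add y z _ _ hy hz => rw [star_add]; exact Subalgebra.add_mem _ hy hz
    | mul y z _ _ hy hz => rw [star_mul]; exact Subalgebra.mul_mem _ hz hy
  let τ : Algebra.adjoin ℚ ({α} : Set R) →ₗ[ℚ] Algebra.adjoin ℚ ({α} : Set R) :=
    { toFun := fun x => ⟨star (x : R), hstarA x x.2⟩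
      map_add' := fun x y => Subtype.ext (star_add _ _)
      map_smul' := fun c x => Subtype.ext (by
        change star (c • (x : R)) = c • star (x : R)
        rw [star_smul, star_trivial]) }
  let σ' : Algebra.adjoin ℚ ({α} : Set R) →ₗ[ℚ] ℚ :=
    σ.comp (Algebra.adjoin ℚ ({α} : Set R)).val.toLinearMap
  intro ρ
  have hcore := core (A := Algebra.adjoin ℚ ({α} : Set R))
    (fun x y => Subtype.ext (hcommR x x.2 y y.2)) τ
    (fun x y => Subtype.ext (by
      change star ((x : R) * (y : R)) = star (x : R) * star (y : R)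
      rw [star_mul]
      exact hcommR _ (hstarA y y.2) _ (hstarA x x.2)))
    (fun x => Subtype.ext (star_star _)) σ'
    (fun x hx => hpos (x : R) (fun h => hx (Subtype.ext h))) ρ ⟨α, hαA⟩
  have hcore' : ρ ⟨star α, hmem⟩ = (starRingEnd ℂ) (ρ ⟨α, hαA⟩) := hcore
  refine ⟨hcore', ?_⟩
  have hmul : ρ ⟨α, hαA⟩ * ρ ⟨star α, hmem⟩ = (q : ℂ) := by
    rw [← map_mul]
    have h1 : (⟨α, hαA⟩ * ⟨star α, hmem⟩ : Algebra.adjoin ℚ ({α} : Set R)) =
        algebraMap ℚ (Algebra.adjoin ℚ ({α} : Set R)) q := Subtype.ext hα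
    rw [h1, AlgHom.commutes]
    rfl
  rw [hcore', Complex.mul_conj] at hmul
  have h2 : Complex.normSq (ρ ⟨α, hαA⟩) = (q : ℝ) := by exact_mod_cast hmul
  rw [← Complex.normSq_eq_norm_sq]
  exact h2

end Groth.Agent.S19356
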