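import Groth.Statements.S19358
import Mathlib
import Groth.Agent.Lib.Helper10.FanSpan

set_option autoImplicit false
universe u
open CategoryTheory Opposite Instab
open Instab Instab.Fan

namespace Groth.Agent.S19358

set_option linter.style.haveILetI false
open Groth.Agent.Lib.Helper10.FanSpan Groth.Agent.Lib.helper19

theorem main {F G : Fan.{u}} (f : F ⟶ G) :
    ((∀ n : ICone, Function.Injective (f.app (op n))) → Function.Injective (Fan.P.map f)) ∧
    ((∀ n : ICone, Function.Surjective (f.app (op n))) → Function.Surjective (Fan.P.map f)) := by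
  constructor
  · intro hinj x x' hxx'
    induction x using Quot.ind with | mk a =>
    induction x' using Quot.ind with | mk a' =>
    obtain ⟨⟨n, σ⟩, v⟩ := a
    obtain ⟨⟨n', σ'⟩, v'⟩ := a'
    have h : Fan.P.mk (f.app _ σ) v = Fan.P.mk (f.app _ σ') v' := hxx'
    obtain ⟨k, φ₁, φ₂, y, c₁, c₂, hG, hc₁, hc₂, e₁, e₂⟩ := exists_common_subcone _ _ _ _ h
    have n1 : f.app _ (F.map φ₁.op σ) = G.map φ₁.op (f.app _ σ) :=
      NatTrans.naturality_apply f φ₁.op σ
    have n2 : f.app _ (F.map φ₂.op σ') = G.map φ₂.op (f.app _ σ') :=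
      NatTrans.naturality_apply f φ₂.op σ'
    have hF : F.map φ₁.op σ = F.map φ₂.op σ' := by
      apply hinj k
      rw [n1, n2, hG]
    have h1 : Fan.P.mk (F.map φ₁.op σ) y = Fan.P.mk σ v := P_mk_glue φ₁ σ y v c₁ hc₁ e₁
    have h2 : Fan.P.mk (F.map φ₂.op σ') y = Fan.P.mk σ' v' := P_mk_glue φ₂ σ' y v' c₂ hc₂ e₂
    change Fan.P.mk σ v = Fan.P.mk σ' v'
    rw [← h1, ← h2, hF]
  · intro hsurj y
    induction y using Quot.ind with | mk a =>
    obtain ⟨⟨n, τ⟩, v⟩ := a
    obtain ⟨σ, rfl⟩ := hsurj n τ
    exact ⟨Fan.P.mk σ v, rfl⟩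



/-- Let f : F ⟶ G be a map of formal fans. If f is injective on n-cones for every n, then the induced
continuous map of projective realizations P F → P G is injective; if f is surjective on n-cones for
every n, then P F → P G is surjective. -/
theorem result {F G : Fan.{u}} (f : F ⟶ G) :
    ((∀ n : ICone, Function.Injective (f.app (op n))) → Function.Injective (Fan.P.map f)) ∧
    ((∀ n : ICone, Function.Surjective (f.app (op n))) → Function.Surjective (Fan.P.map f)) := by
  exact main f

end Groth.Agent.S19358
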