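import Groth.Statements.S19359
import Mathlib
import Groth.Agent.Lib.Helper10.FanPull

set_option autoImplicit false
universe u
open CategoryTheory Opposite Instab
open Instab Instab.Fan

namespace Groth.Agent.S19359

set_option linter.style.haveILetI false
open Groth.Agent.Lib.Helper10.FanSpan Groth.Agent.Lib.Helper10.FanPull Groth.Agent.Lib.helper19
open Limits

lemma coneMap_app {G : Fan.{u}} {n k : ICone} (σ : G.obj (op n)) (φ : k ⟶ n) :
    (Fan.coneMap σ).app (op k) (ULift.up φ) = G.map φ.op σ := rfl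

lemma coneMap_app' {G : Fan.{u}} {n k : ICone} (σ : G.obj (op n))
    (b : (uliftYoneda.{u}.obj n).obj (op k)) :
    (Fan.coneMap σ).app (op k) b = G.map b.down.op σ := rfl

lemma coneMap_comp {F G : Fan.{u}} {n : ICone} (ξ : F.obj (op n)) (f : F ⟶ G) :
    Fan.coneMap ξ ≫ f = Fan.coneMap (f.app _ ξ) :=
  uliftYonedaEquiv_symm_comp ξ f

/-- the real map of a cone morphism preserves the punctured orthant -/
lemma realMap_mem {k n : ICone} (φ : k ⟶ n) (v : Fan.Orth k) :
    (∀ j, 0 ≤ φ.realMap v.1 j) ∧ φ.realMap v.1 ≠ 0 := by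
  have hent : ∀ i j, (0 : ℝ) ≤ (φ.toLin (Pi.single i 1) j : ℝ) := by
    intro i j
    have : 0 ≤ φ.toLin (Pi.single i 1) j := by
      apply φ.nonneg
      intro l
      by_cases h : l = i
      · subst h; simp
      · simp [h]
    exact_mod_cast this
  constructor
  · intro j
    exact Finset.sum_nonneg fun i _ => mul_nonneg (hent i j) (v.2.1 i)
  · intro h0
    obtain ⟨i, hi⟩ := Function.ne_iff.mp v.2.2
    have hvi : 0 < v.1 i := lt_of_le_of_ne (v.2.1 i) (Ne.symm hi)
    have hne : φ.toLin (Pi.single i 1) ≠ 0 := by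
      intro hz
      have := φ.injective (hz.trans (map_zero φ.toLin).symm)
      have := congrFun this i
      simp at this
    obtain ⟨j, hj⟩ := Function.ne_iff.mp hne
    have hjpos : (0 : ℝ) < (φ.toLin (Pi.single i 1) j : ℝ) :=
      lt_of_le_of_ne (hent i j) (by
        intro h; apply hj; simp only [Pi.zero_apply]; exact_mod_cast h.symm)
    have := congrFun h0 j
    have hge : (φ.toLin (Pi.single i 1) j : ℝ) * v.1 i ≤ φ.realMap v.1 j :=
      Finset.single_le_sum (f := fun i => (φ.toLin (Pi.single i 1) j : ℝ) * v.1 i)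
        (fun i _ => mul_nonneg (hent i j) (v.2.1 i)) (Finset.mem_univ i)
    rw [this] at hge
    have : 0 < (φ.toLin (Pi.single i 1) j : ℝ) * v.1 i := mul_pos hjpos hvi
    simp only [Pi.zero_apply] at hge
    linarith

/-- representable fans are bounded -/
lemma isBounded_yoneda (n : ICone) : Fan.IsBounded (uliftYoneda.{u}.obj n) := by
  classical
  refine ⟨{⟨n, ULift.up (𝟙 n)⟩}, ?_⟩
  intro x
  induction x using Quot.ind with | mk a =>
  obtain ⟨⟨k, ⟨φ⟩⟩, v⟩ := a
  refine ⟨⟨n, ULift.up (𝟙 n)⟩, Finset.mem_singleton_self _, ?_⟩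
  let w : Fan.Orth n := ⟨φ.realMap v.1, realMap_mem φ v⟩
  refine ⟨w, ?_⟩
  have h1 : (uliftYoneda.{u}.obj n).map φ.op (ULift.up (𝟙 n)) = ULift.up φ := by
    change ULift.up (φ ≫ 𝟙 n) = ULift.up φ
    rw [Category.comp_id]
  have := P_mk_glue (F := uliftYoneda.{u}.obj n) φ (ULift.up (𝟙 n)) v w 1 one_pos
    (by rw [one_smul])
  rw [h1] at this
  exact this.symm

theorem main (G : Fan.{u}) :
    G.IsQuasiSeparated ↔
      ∀ (F : Fan.{u}) (f : F ⟶ G), F.IsBounded → Fan.IsBoundedMap f := by
  classical
  constructor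
  · intro hG F f hF n σ
    obtain ⟨s, hs⟩ := hF
    -- the comparison maps
    let Q := pullback f (Fan.coneMap σ)
    let Qj : (Σ n : ICone, F.obj (op n)) → Fan.{u} := fun j =>
      pullback (Fan.coneMap (f.app _ j.2)) (Fan.coneMap σ)
    let mj : ∀ j : (Σ n : ICone, F.obj (op n)), Qj j ⟶ Q := fun j =>
      pullback.lift (pullback.fst _ _ ≫ Fan.coneMap j.2) (pullback.snd _ _) (by
        rw [Category.assoc, coneMap_comp, pullback.condition])
    have hbd : ∀ j : (Σ n : ICone, F.obj (op n)), Fan.IsBounded (Qj j) := fun j =>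
      hG _ _ (f.app _ j.2) σ
    choose sj hsj using hbd
    refine ⟨s.biUnion fun j => (sj j).image fun τ => ⟨τ.1, (mj j).app _ τ.2⟩, ?_⟩
    intro q
    -- claim: q comes from some Qj
    have claim : ∃ j ∈ s, ∃ qj : Fan.P (Qj j), Fan.P.map (mj j) qj = q := by
      induction q using Quot.ind with | mk a =>
      obtain ⟨⟨k, e⟩, v⟩ := a
      let a := (pullback.fst f (Fan.coneMap σ)).app _ e
      let b := (pullback.snd f (Fan.coneMap σ)).app _ e
      have hab : f.app _ a = (Fan.coneMap σ).app _ b := pullback_condition_app _ _ k e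
      obtain ⟨j, hjs, w, hw⟩ := hs (Fan.P.mk a v)
      obtain ⟨k', φ₁, φ₂, y, c₁, c₂, hF, hc₁, hc₂, e₁, e₂⟩ :=
        exists_common_subcone a j.2 v w hw.symm
      -- the element of Qj
      have hcond : (Fan.coneMap (f.app _ j.2)).app (op k') (ULift.up φ₂) =
          (Fan.coneMap σ).app (op k') ((uliftYoneda.{u}.obj n).map φ₁.op b) := by
        rw [coneMap_app]
        have n1 : f.app _ (F.map φ₂.op j.2) = G.map φ₂.op (f.app _ j.2) :=
          NatTrans.naturality_apply f φ₂.op j.2
        have n2 : f.app _ (F.map φ₁.op a) = G.map φ₁.op (f.app _ a) :=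
          NatTrans.naturality_apply f φ₁.op a
        have n3 : (Fan.coneMap σ).app _ ((uliftYoneda.{u}.obj n).map φ₁.op b) =
            G.map φ₁.op ((Fan.coneMap σ).app _ b) :=
          NatTrans.naturality_apply (Fan.coneMap σ) φ₁.op b
        rw [← n1, ← hF, n2, hab, n3]
      obtain ⟨ej, hej1, hej2⟩ := exists_pullback_elt (Fan.coneMap (f.app _ j.2)) (Fan.coneMap σ) k'
        (ULift.up φ₂) ((uliftYoneda.{u}.obj n).map φ₁.op b) hcond
      refine ⟨j, hjs, Fan.P.mk ej y, ?_⟩
      rw [P_map_mk]
      have hmj : (mj j).app _ ej = Q.map φ₁.op e := by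
        apply pullback_elt_ext f (Fan.coneMap σ)
        · have h1 : (pullback.fst f (Fan.coneMap σ)).app _ ((mj j).app _ ej) =
              (Fan.coneMap j.2).app _
                ((pullback.fst (Fan.coneMap (f.app _ j.2)) (Fan.coneMap σ)).app _ ej) := by
            have := congrArg (fun φ => φ.app (op k')) (pullback.lift_fst
              (pullback.fst _ _ ≫ Fan.coneMap j.2) (pullback.snd _ _)
              (by rw [Category.assoc, coneMap_comp, pullback.condition] :
                (pullback.fst (Fan.coneMap (f.app _ j.2)) (Fan.coneMap σ) ≫ Fan.coneMap j.2) ≫ f =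
                  pullback.snd _ _ ≫ Fan.coneMap σ))
            exact ConcreteCategory.congr_hom this ej
          rw [h1, hej1, coneMap_app, ← hF]
          exact (NatTrans.naturality_apply (pullback.fst f (Fan.coneMap σ)) φ₁.op e).symm
        · have h1 : (pullback.snd f (Fan.coneMap σ)).app _ ((mj j).app _ ej) =
              (pullback.snd (Fan.coneMap (f.app _ j.2)) (Fan.coneMap σ)).app _ ej := by
            have := congrArg (fun φ => φ.app (op k')) (pullback.lift_snd
              (pullback.fst _ _ ≫ Fan.coneMap j.2) (pullback.snd _ _)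
              (by rw [Category.assoc, coneMap_comp, pullback.condition] :
                (pullback.fst (Fan.coneMap (f.app _ j.2)) (Fan.coneMap σ) ≫ Fan.coneMap j.2) ≫ f =
                  pullback.snd _ _ ≫ Fan.coneMap σ))
            exact ConcreteCategory.congr_hom this ej
          rw [h1, hej2]
          exact (NatTrans.naturality_apply (pullback.snd f (Fan.coneMap σ)) φ₁.op e).symm
      rw [hmj]
      exact P_mk_glue (F := Q) φ₁ e y v c₁ hc₁ e₁
    obtain ⟨j, hjs, qj, rfl⟩ := claim
    obtain ⟨τ, hτ, u, hu⟩ := hsj j qj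
    refine ⟨⟨τ.1, (mj j).app _ τ.2⟩, ?_, ?_⟩
    · exact Finset.mem_biUnion.mpr ⟨j, hjs, Finset.mem_image.mpr ⟨τ, hτ, rfl⟩⟩
    · refine ⟨u, ?_⟩
      rw [← hu]
      rfl
  · intro h n₀ n₁ σ₀ σ₁
    exact h _ (Fan.coneMap σ₀) (isBounded_yoneda n₀) n₁ σ₁



/-- A formal fan G is quasi-separated (the fibre product of any two of its cones is a bounded fan) if
and only if, for every bounded formal fan F, every map of fans F ⟶ G is bounded (its base change
along each cone of G is a bounded fan). -/
theorem result (G : Fan.{u}) :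
    G.IsQuasiSeparated ↔
      ∀ (F : Fan.{u}) (f : F ⟶ G), F.IsBounded → Fan.IsBoundedMap f := by
  exact main G

end Groth.Agent.S19359
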