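import Groth.Statements.S19362
import Mathlib
import Groth.Agent.Lib.Helper10.FanPull

set_option autoImplicit false
universe u
open CategoryTheory Opposite Instab
open Instab Instab.Fan

namespace Groth.Agent.S19362

set_option linter.style.haveILetI false
open Groth.Agent.Lib.Helper10.FanSpan Groth.Agent.Lib.Helper10.FanPull Groth.Agent.Lib.helper19

lemma P_map_comp {F G H : Fan.{u}} (f : F ⟶ G) (g : G ⟶ H) (x : Fan.P F) :
    Fan.P.map (f ≫ g) x = Fan.P.map g (Fan.P.map f x) := by
  induction x using Quot.ind with | mk a =>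
  rfl

lemma P_map_surjective_of_app {F G : Fan.{u}} (f : F ⟶ G)
    (hsurj : ∀ n : ICone, Function.Surjective (f.app (op n))) :
    Function.Surjective (Fan.P.map f) := by
  intro y
  induction y using Quot.ind with | mk a =>
  obtain ⟨⟨n, τ⟩, v⟩ := a
  obtain ⟨σ, rfl⟩ := hsurj n τ
  exact ⟨Fan.P.mk σ v, rfl⟩

theorem main {F G G' : Fan.{u}} (f : F ⟶ G) (g : G' ⟶ G) :
    Set.range (Fan.P.map f) = Set.range (Fan.P.map (Subfunctor.range f).ι) ∧
    Set.range (Fan.P.map (Limits.pullback.snd f g)) = Fan.P.map g ⁻¹' Set.range (Fan.P.map f) := by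
  constructor
  · have hfac : Subfunctor.toRange f ≫ (Subfunctor.range f).ι = f := Subfunctor.toRange_ι f
    have hs : Function.Surjective (Fan.P.map (Subfunctor.toRange f)) := by
      apply P_map_surjective_of_app
      intro n x
      obtain ⟨x, ⟨y, rfl⟩⟩ := x
      exact ⟨y, Subtype.ext (Subfunctor.toRange_app_val f y)⟩
    apply Set.Subset.antisymm
    · rintro _ ⟨x, rfl⟩
      refine ⟨Fan.P.map (Subfunctor.toRange f) x, ?_⟩
      rw [← P_map_comp, hfac]
    · rintro _ ⟨y, rfl⟩
      obtain ⟨x, rfl⟩ := hs y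
      refine ⟨x, ?_⟩
      rw [← P_map_comp, hfac]
  · apply Set.Subset.antisymm
    · rintro _ ⟨y, rfl⟩
      refine ⟨Fan.P.map (Limits.pullback.fst f g) y, ?_⟩
      rw [← P_map_comp, ← P_map_comp, Limits.pullback.condition]
    · rintro x' ⟨x, hx⟩
      obtain ⟨y, -, hy⟩ := exists_p_pullback_lift f g x x' hx
      exact ⟨y, hy⟩



/-- Let f : F ⟶ G be a map of formal fans. (1) The image of the induced map P F → P G is the image of
the projective realization of the image sub-fan of f. (2) For a map g : G' ⟶ G, the image of the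
projective realization of the base change F ×_G G' ⟶ G' is the preimage, under P G' → P G, of the
image of P F → P G. -/
theorem result {F G G' : Fan.{u}} (f : F ⟶ G) (g : G' ⟶ G) :
    Set.range (Fan.P.map f) = Set.range (Fan.P.map (Subfunctor.range f).ι) ∧
    Set.range (Fan.P.map (Limits.pullback.snd f g)) = Fan.P.map g ⁻¹' Set.range (Fan.P.map f) := by
  exact main f g

end Groth.Agent.S19362
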