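import Groth.Statements.S19363
import Mathlib
import Groth.Agent.Lib.Helper10.FanTop

set_option autoImplicit false
universe u
open CategoryTheory Opposite Instab
open Instab Instab.Fan

namespace Groth.Agent.S19363

set_option linter.style.haveILetI false
open Groth.Agent.Lib.Helper10.FanSpan Groth.Agent.Lib.Helper10.FanPull Groth.Agent.Lib.helper19
open Groth.Agent.Lib.Helper10.FanTop
open Limits

section
variable {F G : Fan.{u}} (ψ : F ⟶ G) {n : ICone} (σ : G.obj (op n))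

/-- the cone morphism of a cone of the fibre product -/
noncomputable def φτ (τ : Σ k : ICone, (pullback ψ (Fan.coneMap σ)).obj (op k)) : τ.1 ⟶ n :=
  ((pullback.snd ψ (Fan.coneMap σ)).app _ τ.2).down

/-- the cone of `F` of a cone of the fibre product -/
noncomputable def aτ (τ : Σ k : ICone, (pullback ψ (Fan.coneMap σ)).obj (op k)) : F.obj (op τ.1) :=
  (pullback.fst ψ (Fan.coneMap σ)).app _ τ.2

lemma ψ_aτ (τ : Σ k : ICone, (pullback ψ (Fan.coneMap σ)).obj (op k)) :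
    ψ.app _ (aτ ψ σ τ) = G.map (φτ ψ σ τ).op σ :=
  pullback_condition_app ψ (Fan.coneMap σ) τ.1 τ.2

lemma map_mk_aτ (τ : Σ k : ICone, (pullback ψ (Fan.coneMap σ)).obj (op k)) (u : Fan.Orth τ.1)
    (v : Fan.Orth n) (c : ℝ) (hc : 0 < c) (hv : v.1 = c • (φτ ψ σ τ).realMap u.1) :
    Fan.P.map ψ (Fan.P.mk (aτ ψ σ τ) u) = Fan.P.mk σ v := by
  rw [P_map_mk, ψ_aτ]
  exact P_mk_glue _ σ u v c hc hv

/-- key description of the fibres of a bounded map -/
lemma key (s : Finset (Σ k : ICone, (pullback ψ (Fan.coneMap σ)).obj (op k)))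
    (hs : ∀ x : Fan.P (pullback ψ (Fan.coneMap σ)), ∃ e ∈ s, x ∈ Fan.P.cell e.2)
    (x : Fan.P F) (v : Fan.Orth n) :
    Fan.P.map ψ x = Fan.P.mk σ v ↔
      ∃ τ ∈ s, ∃ (u : Fan.Orth τ.1) (c : ℝ), 0 < c ∧ x = Fan.P.mk (aτ ψ σ τ) u ∧
        v.1 = c • (φτ ψ σ τ).realMap u.1 := by
  constructor
  · intro h
    have h' : Fan.P.map ψ x = Fan.P.map (Fan.coneMap σ)
        (Fan.P.mk (F := uliftYoneda.{u}.obj n) (ULift.up (𝟙 n)) v) := by
      rw [h, P_map_mk, coneMap_app]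
      congr 1
      rw [op_id, G.map_id]
      rfl
    obtain ⟨q, hq1, hq2⟩ := exists_p_pullback_lift ψ (Fan.coneMap σ) x _ h'
    obtain ⟨τ, hτ, u, hu⟩ := hs q
    refine ⟨τ, hτ, u, ?_⟩
    have h2 : Fan.P.mk (F := uliftYoneda.{u}.obj n) (ULift.up (𝟙 n)) v =
        Fan.P.mk (ULift.up (φτ ψ σ τ)) u := by
      rw [← hq2, ← hu]
      rfl
    obtain ⟨c, hc, hce⟩ := yoneda_mk_eq _ _ _ _ h2
    rw [realMap_id] at hce
    refine ⟨c, hc, ?_, hce⟩
    rw [← hq1, ← hu]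
    rfl
  · rintro ⟨τ, -, u, c, hc, rfl, hv⟩
    exact map_mk_aτ ψ σ τ u v c hc hv

end

lemma isClosed_P_iff {G : Fan.{u}} (S : Set (Fan.P G)) :
    IsClosed S ↔ ∀ (n : ICone) (σ : G.obj (op n)), IsClosed {v : Fan.Orth n | Fan.P.mk σ v ∈ S} := by
  have h1 : IsClosed S ↔ IsClosed ((Quot.mk (Fan.Rel G) ⁻¹' S : Set (Fan.Pt G))) :=
    (isQuotientMap_quot_mk.isClosed_preimage).symm
  have h2 : IsClosed ((Quot.mk (Fan.Rel G) ⁻¹' S : Set (Fan.Pt G))) ↔
      ∀ i : (Σ n : ICone, G.obj (op n)),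
        IsClosed (Sigma.mk i ⁻¹' (Quot.mk (Fan.Rel G) ⁻¹' S : Set (Fan.Pt G))) :=
    isClosed_sigma_iff
  rw [h1, h2]
  constructor
  · intro h n σ
    exact h ⟨n, σ⟩
  · rintro h ⟨n, σ⟩
    exact h n σ

lemma continuous_mk {F : Fan.{u}} {n : ICone} (ξ : F.obj (op n)) :
    Continuous (Fan.P.mk ξ : Fan.Orth n → Fan.P F) :=
  continuous_quot_mk.comp (continuous_sigmaMk (σ := fun e : (Σ n : ICone, F.obj (op n)) => Fan.Orth e.1)
    (i := ⟨n, ξ⟩))

/-- closedness of the image of a closed scaling-invariant set under a cone morphism -/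
lemma isClosed_image_cone {k n : ICone} (φ : k ⟶ n) (Z : Set (Fan.Orth k)) (hZ : IsClosed Z)
    (hinv : ∀ u w : Fan.Orth k, u ∈ Z → ∀ c : ℝ, 0 < c → w.1 = c • u.1 → w ∈ Z) :
    IsClosed {v : Fan.Orth n | ∃ (u : Fan.Orth k) (c : ℝ), 0 < c ∧ u ∈ Z ∧ v.1 = c • φ.realMap u.1} := by
  obtain ⟨W, hW, hWZ⟩ := isClosed_induced_iff.mp hZ
  let Zh : Set (Fin k.dim → ℝ) := {0} ∪ (W ∩ {u | ∀ i, 0 ≤ u i})
  have hZh : IsClosed Zh := by
    apply IsClosed.union isClosed_singleton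
    apply hW.inter
    have : {u : Fin k.dim → ℝ | ∀ i, 0 ≤ u i} = ⋂ i, {u | 0 ≤ u i} := by
      ext u; simp
    rw [this]
    exact isClosed_iInter fun i => isClosed_le continuous_const (continuous_apply i)
  have hce := LinearMap.isClosedEmbedding_of_injective (realLin_ker φ)
  have himg : IsClosed (realLin φ '' Zh) := hce.isClosedMap _ hZh
  have : {v : Fan.Orth n | ∃ (u : Fan.Orth k) (c : ℝ), 0 < c ∧ u ∈ Z ∧ v.1 = c • φ.realMap u.1} =
      Subtype.val ⁻¹' (realLin φ '' Zh) := by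
    ext v
    constructor
    · rintro ⟨u, c, hc, hu, hv⟩
      let w : Fan.Orth k := ⟨c • u.1, fun i => mul_nonneg hc.le (u.2.1 i), fun h0 => u.2.2 (by
        have := congrArg (fun x => c⁻¹ • x) h0
        simpa [smul_smul, inv_mul_cancel₀ hc.ne'] using this)⟩
      have hw : w ∈ Z := hinv u w hu c hc rfl
      refine ⟨w.1, Or.inr ⟨?_, w.2.1⟩, ?_⟩
      · exact (Set.ext_iff.mp hWZ w).mpr hw
      · rw [realLin_apply, hv, realMap_smul]
    · rintro ⟨u', hu', hv⟩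
      rw [realLin_apply] at hv
      rcases hu' with h0 | ⟨hW', hnn⟩
      · exfalso
        apply v.2.2
        rw [← hv, Set.mem_singleton_iff.mp h0]
        funext j
        simp [ICone.Hom.realMap]
      · have hne : u' ≠ 0 := by
          rintro rfl
          apply v.2.2
          rw [← hv]
          funext j
          simp [ICone.Hom.realMap]
        refine ⟨⟨u', hnn, hne⟩, 1, one_pos, ?_, by rw [one_smul]; exact hv.symm⟩
        exact (Set.ext_iff.mp hWZ ⟨u', hnn, hne⟩).mp hW'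
  rw [this]
  exact himg.preimage continuous_subtype_val

theorem main {F G : Fan.{u}} (ψ : F ⟶ G) (hψ : Fan.IsBoundedMap ψ) :
    IsClosedMap (Fan.P.map ψ) ∧ (∀ y : Fan.P G, (Fan.P.map ψ ⁻¹' {y}).Finite) ∧
    ∀ (n : ICone) (ξ : G.obj (op n)), ∃ s : Finset (Σ k : ICone, k ⟶ n),
      {v : Fan.Orth n | Fan.P.mk ξ v ∈ Set.range (Fan.P.map ψ)} =
        ⋃ e ∈ s, {v : Fan.Orth n | ∃ (y : Fan.Orth e.1) (c : ℝ), 0 < c ∧ v.1 = c • e.2.realMap y.1} := by
  classical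
  refine ⟨?_, ?_, ?_⟩
  · -- closed map
    intro Z hZ
    rw [isClosed_P_iff]
    intro n σ
    obtain ⟨s, hs⟩ := hψ n σ
    have heq : {v : Fan.Orth n | Fan.P.mk σ v ∈ Fan.P.map ψ '' Z} =
        ⋃ τ ∈ s, {v : Fan.Orth n | ∃ (u : Fan.Orth τ.1) (c : ℝ), 0 < c ∧
          u ∈ Fan.P.mk (aτ ψ σ τ) ⁻¹' Z ∧ v.1 = c • (φτ ψ σ τ).realMap u.1} := by
      ext v
      simp only [Set.mem_ofPred_eq, Set.mem_image, Set.mem_iUnion, Set.mem_preimage, exists_prop]
      constructor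
      · rintro ⟨x, hxZ, hx⟩
        obtain ⟨τ, hτ, u, c, hc, rfl, hv⟩ := (key ψ σ s hs x v).mp hx
        exact ⟨τ, hτ, u, c, hc, hxZ, hv⟩
      · rintro ⟨τ, hτ, u, c, hc, huZ, hv⟩
        exact ⟨_, huZ, map_mk_aτ ψ σ τ u v c hc hv⟩
    rw [heq]
    refine isClosed_biUnion_finset fun τ _ => ?_
    apply isClosed_image_cone
    · exact hZ.preimage (continuous_mk _)
    · intro u w hu c hc hw
      change Fan.P.mk _ w ∈ Z
      rw [← P_mk_smul (aτ ψ σ τ) u w c hc hw]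
      exact hu
  · -- finite fibres
    intro y
    induction y using Quot.ind with | mk a =>
    obtain ⟨⟨n, σ⟩, v⟩ := a
    obtain ⟨s, hs⟩ := hψ n σ
    let A : (Σ k : ICone, (pullback ψ (Fan.coneMap σ)).obj (op k)) → Set (Fan.P F) := fun τ =>
      {x | ∃ (u : Fan.Orth τ.1) (c : ℝ), 0 < c ∧ x = Fan.P.mk (aτ ψ σ τ) u ∧
        v.1 = c • (φτ ψ σ τ).realMap u.1}
    have hA : ∀ τ, (A τ).Subsingleton := by
      rintro τ x ⟨u, c, hc, rfl, hv⟩ x' ⟨u', c', hc', rfl, hv'⟩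
      have : (φτ ψ σ τ).realMap (c • u.1) = (φτ ψ σ τ).realMap (c' • u'.1) := by
        rw [realMap_smul, realMap_smul, ← hv, ← hv']
      have h2 := realMap_injective _ this
      apply P_mk_smul _ u u' (c / c') (div_pos hc hc')
      have : u'.1 = c'⁻¹ • (c • u.1) := by
        rw [h2, smul_smul, inv_mul_cancel₀ hc'.ne', one_smul]
      rw [this, smul_smul]
      congr 1
      field_simp
    have hsub : Fan.P.map ψ ⁻¹' {Quot.mk _ ⟨⟨n, σ⟩, v⟩} ⊆ ⋃ τ ∈ s, A τ := by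
      intro x hx
      have hx' : Fan.P.map ψ x = Fan.P.mk σ v := hx
      obtain ⟨τ, hτ, u, c, hc, hxe, hv⟩ := (key ψ σ s hs x v).mp hx'
      exact Set.mem_biUnion hτ ⟨u, c, hc, hxe, hv⟩
    exact (Set.Finite.biUnion s.finite_toSet fun τ _ => (hA τ).finite).subset hsub
  · -- image description
    intro n ξ
    obtain ⟨s, hs⟩ := hψ n ξ
    refine ⟨s.image fun τ => ⟨τ.1, φτ ψ ξ τ⟩, ?_⟩
    ext v
    simp only [Set.mem_ofPred_eq, Set.mem_range, Set.mem_iUnion, exists_prop, Finset.mem_image]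
    constructor
    · rintro ⟨x, hx⟩
      obtain ⟨τ, hτ, u, c, hc, -, hv⟩ := (key ψ ξ s hs x v).mp hx
      exact ⟨⟨τ.1, φτ ψ ξ τ⟩, ⟨τ, hτ, rfl⟩, u, c, hc, hv⟩
    · rintro ⟨e, ⟨τ, hτ, rfl⟩, u, c, hc, hv⟩
      exact ⟨_, map_mk_aτ ψ ξ τ u v c hc hv⟩



/-- Let ψ : F ⟶ G be a bounded map of formal fans. Then the induced map P F → P G is a closed map whose
fibres are finite, and its image meets each rational simplex of P G in a finite union of closed
rational sub-simplices: for every n-cone ξ of G there are finitely many cone morphisms φ into [n]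
such that a nonzero nonnegative vector v of ℝ^n gives a point of the image exactly when v is a
positive multiple of φ y for one of these φ and some nonzero nonnegative y. -/
theorem result {F G : Fan.{u}} (ψ : F ⟶ G)
    (hψ : Fan.IsBoundedMap ψ) :
    IsClosedMap (Fan.P.map ψ) ∧ (∀ y : Fan.P G, (Fan.P.map ψ ⁻¹' {y}).Finite) ∧
    ∀ (n : ICone) (ξ : G.obj (op n)), ∃ s : Finset (Σ k : ICone, k ⟶ n),
      {v : Fan.Orth n | Fan.P.mk ξ v ∈ Set.range (Fan.P.map ψ)} =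
        ⋃ e ∈ s, {v : Fan.Orth n | ∃ (y : Fan.Orth e.1) (c : ℝ), 0 < c ∧ v.1 = c • e.2.realMap y.1} := by
  exact main ψ hψ

end Groth.Agent.S19363
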