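import Groth.Statements.S19364
import Mathlib
import Groth.Agent.Lib.Helper10.FanTop

set_option autoImplicit false
universe u
open CategoryTheory Opposite Instab
open Instab Instab.Fan

namespace Groth.Agent.S19364

set_option linter.style.haveILetI false
open Groth.Agent.Lib.Helper10.FanSpan Groth.Agent.Lib.Helper10.FanPull Groth.Agent.Lib.helper19
open Groth.Agent.Lib.Helper10.FanTop
open Limits

theorem main {F G : Fan.{u}} (ψ : F ⟶ G) (hψ : Fan.IsBoundedMap ψ) :
    Function.Surjective (Fan.P.map ψ) ↔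
      ∀ y : Fan.P G, y.IsRational → y ∈ Set.range (Fan.P.map ψ) := by
  classical
  constructor
  · intro h y _
    exact h y
  · intro hrat y
    induction y using Quot.ind with | mk a =>
    obtain ⟨⟨n, σ⟩, v⟩ := a
    obtain ⟨s, hs⟩ := hψ n σ
    let Q := pullback ψ (Fan.coneMap σ)
    let φτ : (τ : Σ k : ICone, Q.obj (op k)) → (τ.1 ⟶ n) := fun τ =>
      ((pullback.snd ψ (Fan.coneMap σ)).app _ τ.2).down
    let D : (Σ k : ICone, Q.obj (op k)) → Set (Fin n.dim → ℝ) := fun τ =>
      {w | ∃ u : Fin τ.1.dim → ℝ, (∀ i, 0 ≤ u i) ∧ w = (φτ τ).realMap u}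
    let C : Set (Fin n.dim → ℝ) := ⋃ τ ∈ s, D τ
    have hC : IsClosed C := isClosed_biUnion_finset fun τ _ => isClosed_coneImage (φτ τ)
    have hvC : v.1 ∈ C := by
      by_contra hv
      obtain ⟨ρ, c, hρ, hc, hO⟩ := exists_int_near v.1 v.2.1 Cᶜ hC.isOpen_compl hv
      have hρ0 : ∀ i, 0 ≤ ρ i := fun i => (hρ i).le
      have hρne : ρ ≠ 0 := by
        intro h0
        have := hρ ⟨0, n.dim.pos⟩
        rw [h0] at this
        exact lt_irrefl _ this
      let r := rayHom ρ hρ0 hρne
      have hr : Fan.P.IsRational (Fan.P.mk (G.map r.op σ) (Fan.Orth.ones Fan.one)) := ⟨_, rfl⟩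
      obtain ⟨x, hx⟩ := hrat _ hr
      have hx' : Fan.P.map ψ x = Fan.P.map (Fan.coneMap σ)
          (Fan.P.mk (F := uliftYoneda.{u}.obj n) (ULift.up r) (Fan.Orth.ones Fan.one)) := by
        rw [hx]; rfl
      obtain ⟨q, -, hq⟩ := exists_p_pullback_lift ψ (Fan.coneMap σ) x _ hx'
      obtain ⟨τ, hτs, u, hu⟩ := hs q
      have hmk : Fan.P.mk (F := uliftYoneda.{u}.obj n) (ULift.up (φτ τ)) u =
          Fan.P.mk (ULift.up r) (Fan.Orth.ones Fan.one) := by
        rw [← hq, ← hu]; rfl
      obtain ⟨c', hc', hcc⟩ := yoneda_mk_eq _ _ _ _ hmk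
      apply hO
      refine Set.mem_biUnion hτs ⟨(c / c') • u.1, fun i => mul_nonneg (div_pos hc hc').le (u.2.1 i), ?_⟩
      rw [realMap_smul, hcc, smul_smul, div_mul_cancel₀ _ hc'.ne', rayHom_realMap]
      funext j
      simp [Fan.Orth.ones]
    obtain ⟨τ, hτs, u, hu0, hvu⟩ := Set.mem_iUnion₂.mp hvC
    have hune : u ≠ 0 := by
      rintro rfl
      apply v.2.2
      rw [hvu]
      funext j
      simp [ICone.Hom.realMap]
    let uu : Fan.Orth τ.1 := ⟨u, hu0, hune⟩
    refine ⟨Fan.P.map (pullback.fst ψ (Fan.coneMap σ)) (Fan.P.mk τ.2 uu), ?_⟩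
    rw [← P_map_comp, pullback.condition, P_map_comp]
    exact P_mk_glue (φτ τ) σ uu v 1 one_pos (by rw [one_smul]; exact hvu)



/-- Let ψ : F ⟶ G be a bounded map of formal fans. Then the induced map P F → P G is surjective if and
only if every rational point of P G lies in its image. (The published lemma also claims that such a
map is injective as soon as it is injective on rational points; that fails, since two copies of the
standard 2-cone glued to each other along all their rational rays map to the standard 2-cone by a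
bounded map that is bijective on rational points and two-to-one elsewhere, and it is not stated
here.) -/
theorem result {F G : Fan.{u}} (ψ : F ⟶ G)
    (hψ : Fan.IsBoundedMap ψ) :
    Function.Surjective (Fan.P.map ψ) ↔
      ∀ y : Fan.P G, y.IsRational → y ∈ Set.range (Fan.P.map ψ) := by
  exact main ψ hψ

end Groth.Agent.S19364
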