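import Groth.Statements.S19365
import Mathlib
import Groth.Agent.S19363
import Groth.Agent.S19358

set_option autoImplicit false
universe u
open CategoryTheory Opposite Instab
open Instab Instab.Fan

namespace Groth.Agent.S19365

set_option linter.style.haveILetI false

lemma continuous_P_map {F G : Fan.{u}} (ψ : F ⟶ G) : Continuous (Fan.P.map ψ) := by
  apply continuous_quot_lift
  apply continuous_quot_mk.comp
  apply continuous_sigma
  intro i
  exact continuous_sigmaMk (σ := fun e : (Σ n : ICone, G.obj (op n)) => Fan.Orth e.1)
    (i := ⟨i.1, ψ.app _ i.2⟩)

theorem main {F G : Fan.{u}} (ψ : F ⟶ G)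
    (hψ : Fan.IsBoundedMap ψ) (hinj : ∀ n : ICone, Function.Injective (ψ.app (op n))) :
    Topology.IsClosedEmbedding (Fan.P.map ψ) :=
  Topology.IsClosedEmbedding.of_continuous_injective_isClosedMap (continuous_P_map ψ)
    ((Groth.Agent.S19358.result ψ).1 hinj) (Groth.Agent.S19363.result ψ hψ).1



/-- Let F ⟶ G be a map of formal fans which is bounded and injective on n-cones for every n (a bounded
sub-fan). Then the induced map P F → P G is a closed embedding. (The description of its preimage
under a rational simplex as a finite union of rational sub-simplices is the corresponding assertion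
for bounded maps and is not repeated here.) -/
theorem result {F G : Fan.{u}} (ψ : F ⟶ G)
    (hψ : Fan.IsBoundedMap ψ) (hinj : ∀ n : ICone, Function.Injective (ψ.app (op n))) :
    Topology.IsClosedEmbedding (Fan.P.map ψ) := by
  exact main ψ hψ hinj

end Groth.Agent.S19365
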