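import Groth.Statements.S19366
import Mathlib
import Groth.Agent.S19363
import Groth.Agent.S19359

set_option autoImplicit false
universe u
open CategoryTheory Opposite Instab
open Instab Instab.Fan

namespace Groth.Agent.S19366

set_option linter.style.haveILetI false
open Groth.Agent.Lib.Helper10.FanSpan Groth.Agent.Lib.Helper10.FanPull Groth.Agent.Lib.helper19
open Groth.Agent.Lib.Helper10.FanTop
open Groth.Agent.S19363 (isClosed_P_iff continuous_mk)

lemma continuous_orthMap {k n : ICone} (φ : k ⟶ n) : Continuous (orthMap φ) := by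
  apply Continuous.subtype_mk
  have : (fun v : Fan.Orth k => φ.realMap v.1) = fun v => realLin φ v.1 := by
    funext v; rw [realLin_apply]
  rw [this]
  exact (LinearMap.continuous_of_finiteDimensional (realLin φ)).comp continuous_subtype_val

theorem part1 (F : Fan.{u}) (hF : F.IsQuasiSeparated) (n : ICone) (ξ : F.obj (op n))
    (S : Set (Fan.Orth n)) (hS : IsClosed S)
    (hinv : ∀ v w : Fan.Orth n, v ∈ S → ∀ c : ℝ, 0 < c → w.1 = c • v.1 → w ∈ S) :
    IsClosed (Fan.P.mk ξ '' S) := by
  have hbd : Fan.IsBoundedMap (Fan.coneMap ξ) :=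
    (Groth.Agent.S19359.result F).mp hF _ (Fan.coneMap ξ) (Groth.Agent.S19359.isBounded_yoneda n)
  have hcl : IsClosedMap (Fan.P.map (Fan.coneMap ξ)) := (Groth.Agent.S19363.result _ hbd).1
  have himg : Fan.P.mk ξ '' S = Fan.P.map (Fan.coneMap ξ) ''
      (Fan.P.mk (F := uliftYoneda.{u}.obj n) (ULift.up (𝟙 n)) '' S) := by
    rw [Set.image_image]
    apply Set.image_congr
    intro v _
    rw [P_map_mk, coneMap_app]
    congr 1
    rw [op_id, F.map_id]
    rfl
  rw [himg]
  apply hcl
  rw [isClosed_P_iff]
  intro k b
  obtain ⟨φ⟩ := b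
  have : {u : Fan.Orth k | Fan.P.mk (F := uliftYoneda.{u}.obj n) (ULift.up φ) u ∈
      Fan.P.mk (F := uliftYoneda.{u}.obj n) (ULift.up (𝟙 n)) '' S} = orthMap φ ⁻¹' S := by
    ext u
    constructor
    · rintro ⟨v, hvS, hv⟩
      obtain ⟨c, hc, hce⟩ := yoneda_mk_eq _ _ _ _ hv.symm
      rw [realMap_id] at hce
      exact hinv v (orthMap φ u) hvS c hc hce
    · intro hu
      refine ⟨orthMap φ u, hu, ?_⟩
      have h1 : (uliftYoneda.{u}.obj n).map φ.op (ULift.up (𝟙 n)) = ULift.up φ := by
        change ULift.up (φ ≫ 𝟙 n) = ULift.up φ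
        rw [Category.comp_id]
      have := P_mk_glue (F := uliftYoneda.{u}.obj n) φ (ULift.up (𝟙 n)) u (orthMap φ u) 1 one_pos
        (by rw [one_smul]; rfl)
      rw [h1] at this
      exact this.symm
  rw [this]
  exact hS.preimage (continuous_orthMap φ)

theorem main (F : Fan.{u}) (hF : F.IsQuasiSeparated) :
    (∀ (n : ICone) (ξ : F.obj (op n)) (S : Set (Fan.Orth n)), IsClosed S →
      (∀ v w : Fan.Orth n, v ∈ S → ∀ c : ℝ, 0 < c → w.1 = c • v.1 → w ∈ S) →
        IsClosed (Fan.P.mk ξ '' S)) ∧
    ∀ S : Set (Fan.P F), IsClosed S ↔ ∀ (n : ICone) (ξ : F.obj (op n)), IsClosed (S ∩ Fan.P.cell ξ) := by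
  refine ⟨fun n ξ S hS hinv => part1 F hF n ξ S hS hinv, ?_⟩
  intro S
  constructor
  · intro hS n ξ
    apply hS.inter
    have : Fan.P.cell ξ = Fan.P.mk ξ '' Set.univ := by
      rw [Set.image_univ]; rfl
    rw [this]
    exact part1 F hF n ξ Set.univ isClosed_univ (fun _ _ _ _ _ _ => trivial)
  · intro h
    rw [isClosed_P_iff]
    intro n ξ
    have : {v : Fan.Orth n | Fan.P.mk ξ v ∈ S} = Fan.P.mk ξ ⁻¹' (S ∩ Fan.P.cell ξ) := by
      ext v
      constructor
      · intro hv
        exact ⟨hv, ⟨v, rfl⟩⟩
      · intro hv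
        exact hv.1
    rw [this]
    exact (h n ξ).preimage (continuous_mk ξ)



/-- Let F be a quasi-separated formal fan (the fibre product of any two cones over F is a fan covered by
finitely many rational simplices). Then (1) each rational simplex is a closed map into P F: for
every n-cone ξ and every closed set S of nonzero nonnegative vectors of ℝ^n that is closed under
positive rescaling, the image of S in P F is closed; and (2) the topology of P F is compactly
generated by the images of the rational simplices: a subset is closed exactly when it meets the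
image of each rational simplex in a closed set. (The published proposition also asserts that P F is
a Hausdorff space; that fails for suitable quasi-separated fans with uncountably many cones, the
colimit topology on a product of realizations being finer than the product topology, and it is not
stated here.) -/
theorem result (F : Fan.{u}) (hF : F.IsQuasiSeparated) :
    (∀ (n : ICone) (ξ : F.obj (op n)) (S : Set (Fan.Orth n)), IsClosed S →
      (∀ v w : Fan.Orth n, v ∈ S → ∀ c : ℝ, 0 < c → w.1 = c • v.1 → w ∈ S) →
        IsClosed (Fan.P.mk ξ '' S)) ∧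
    ∀ S : Set (Fan.P F), IsClosed S ↔ ∀ (n : ICone) (ξ : F.obj (op n)), IsClosed (S ∩ Fan.P.cell ξ) := by
  exact main F hF

end Groth.Agent.S19366
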