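import Groth.Statements.S19373
import Mathlib
import Groth.Agent.Lib.Helper10.FanTop

set_option autoImplicit false
universe u
open CategoryTheory Opposite Instab
open Instab Instab.Fan

namespace Groth.Agent.S19373

set_option linter.style.haveILetI false
open Groth.Agent.Lib.Helper10.FanSpan Groth.Agent.Lib.Helper10.FanPull Groth.Agent.Lib.helper19
open Groth.Agent.Lib.Helper10.FanTop
open Limits

theorem main (G : Fan.{u}) (hG : G.IsQuasiSeparated)
    {n n' : ICone} (ξ : G.obj (op n)) (ξ' : G.obj (op n')) :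
    ∃ s : Finset (Σ k : ICone, (k ⟶ n) × (k ⟶ n')),
      (∀ e ∈ s, G.map e.2.1.op ξ = G.map e.2.2.op ξ') ∧
      ∀ (v : Fan.Orth n) (w : Fan.Orth n'), Fan.P.mk ξ v = Fan.P.mk ξ' w ↔
        ∃ e ∈ s, ∃ (y : Fan.Orth e.1) (c c' : ℝ), 0 < c ∧ 0 < c' ∧
          v.1 = c • e.2.1.realMap y.1 ∧ w.1 = c' • e.2.2.realMap y.1 := by
  classical
  let Q := pullback (Fan.coneMap ξ) (Fan.coneMap ξ')
  obtain ⟨s₀, hs₀⟩ := hG n n' ξ ξ'
  let m : (Σ k : ICone, Q.obj (op k)) → Σ k : ICone, (k ⟶ n) × (k ⟶ n') := fun τ =>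
    ⟨τ.1, (((pullback.fst (Fan.coneMap ξ) (Fan.coneMap ξ')).app _ τ.2).down,
      ((pullback.snd (Fan.coneMap ξ) (Fan.coneMap ξ')).app _ τ.2).down)⟩
  have hm : ∀ τ, G.map (m τ).2.1.op ξ = G.map (m τ).2.2.op ξ' := fun τ =>
    pullback_condition_app (Fan.coneMap ξ) (Fan.coneMap ξ') τ.1 τ.2
  have hprop1 : ∀ e ∈ s₀.image m, G.map e.2.1.op ξ = G.map e.2.2.op ξ' := by
    intro e he
    obtain ⟨τ, -, rfl⟩ := Finset.mem_image.mp he
    exact hm τ
  refine ⟨s₀.image m, hprop1, ?_⟩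
  intro v w
  constructor
  · intro h
    obtain ⟨k, φ₁, φ₂, y₀, c₁, c₂, hG', hc₁, hc₂, e₁, e₂⟩ := exists_common_subcone ξ ξ' v w h
    obtain ⟨e₀, he1, he2⟩ := exists_pullback_elt (Fan.coneMap ξ) (Fan.coneMap ξ') k
      (ULift.up φ₁) (ULift.up φ₂) hG'
    obtain ⟨τ, hτ, u, hu⟩ := hs₀ (Fan.P.mk e₀ y₀)
    have h1 : Fan.P.mk (F := uliftYoneda.{u}.obj n) (ULift.up φ₁) y₀ =
        Fan.P.mk (ULift.up (m τ).2.1) u := by
      have := congrArg (Fan.P.map (pullback.fst (Fan.coneMap ξ) (Fan.coneMap ξ'))) hu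
      rw [P_map_mk, P_map_mk, he1] at this
      exact this.symm
    have h2 : Fan.P.mk (F := uliftYoneda.{u}.obj n') (ULift.up φ₂) y₀ =
        Fan.P.mk (ULift.up (m τ).2.2) u := by
      have := congrArg (Fan.P.map (pullback.snd (Fan.coneMap ξ) (Fan.coneMap ξ'))) hu
      rw [P_map_mk, P_map_mk, he2] at this
      exact this.symm
    obtain ⟨d₁, hd₁, hd₁e⟩ := yoneda_mk_eq _ _ _ _ h1
    obtain ⟨d₂, hd₂, hd₂e⟩ := yoneda_mk_eq _ _ _ _ h2
    refine ⟨m τ, Finset.mem_image.mpr ⟨τ, hτ, rfl⟩, u, c₁ * d₁, c₂ * d₂, mul_pos hc₁ hd₁,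
      mul_pos hc₂ hd₂, ?_, ?_⟩
    · rw [e₁, hd₁e, smul_smul]
    · rw [e₂, hd₂e, smul_smul]
  · rintro ⟨e, he, y, c, c', hc, hc', hv, hw⟩
    have h1 := P_mk_glue e.2.1 ξ y v c hc hv
    have h2 := P_mk_glue e.2.2 ξ' y w c' hc' hw
    rw [← h1, ← h2, hprop1 e he]



/-- Let G be a quasi-separated formal fan, ξ an n-cone and ξ' an n'-cone of G. The pairs of points of
the rational simplices of ξ and ξ' with the same image in P G form a finite union of diagonally
embedded common rational sub-simplices: there is a finite set of pairs of cone morphisms φ : [k] ⟶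
[n], φ' : [k] ⟶ [n'] with G(φ) ξ = G(φ') ξ' such that nonzero nonnegative vectors v of ℝ^n and w of
ℝ^n' give the same point of P G if and only if, for one of these pairs and some nonzero nonnegative
y in ℝ^k, v is a positive multiple of φ y and w is a positive multiple of φ' y. (The assertion that
the image of finitely many rational simplices carries the quotient topology is not stated.) -/
theorem result (G : Fan.{u}) (hG : G.IsQuasiSeparated)
    {n n' : ICone} (ξ : G.obj (op n)) (ξ' : G.obj (op n')) :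
    ∃ s : Finset (Σ k : ICone, (k ⟶ n) × (k ⟶ n')),
      (∀ e ∈ s, G.map e.2.1.op ξ = G.map e.2.2.op ξ') ∧
      ∀ (v : Fan.Orth n) (w : Fan.Orth n'), Fan.P.mk ξ v = Fan.P.mk ξ' w ↔
        ∃ e ∈ s, ∃ (y : Fan.Orth e.1) (c c' : ℝ), 0 < c ∧ 0 < c' ∧
          v.1 = c • e.2.1.realMap y.1 ∧ w.1 = c' • e.2.2.realMap y.1 := by
  exact main G hG ξ ξ'

end Groth.Agent.S19373
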