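import Groth.Statements.S19367
import Mathlib
import Groth.Agent.S19363
import Groth.Agent.S19373

set_option autoImplicit false
universe u
open CategoryTheory Opposite Instab
open Instab Instab.Fan

namespace Groth.Agent.S19367

set_option linter.style.haveILetI false
open Groth.Agent.Lib.Helper10.FanSpan Groth.Agent.Lib.Helper10.FanPull Groth.Agent.Lib.helper19
open Groth.Agent.Lib.Helper10.FanTop
open Groth.Agent.S19363 (isClosed_image_cone)

lemma continuous_realMap_val {k n : ICone} (φ : k ⟶ n) :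
    Continuous (fun v : Fan.Orth k => φ.realMap v.1) := by
  have : (fun v : Fan.Orth k => φ.realMap v.1) = fun v => realLin φ v.1 := by
    funext v; rw [realLin_apply]
  rw [this]
  exact (LinearMap.continuous_of_finiteDimensional (realLin φ)).comp continuous_subtype_val

/-- positive proportionality of nonzero nonnegative vectors is a closed condition -/
lemma prop_iff {n : ℕ} (p p' : Fin n → ℝ) (hp0 : ∀ i, 0 ≤ p i) (hp : p ≠ 0)
    (hp'0 : ∀ i, 0 ≤ p' i) (hp' : p' ≠ 0) :
    (∃ l : ℝ, 0 < l ∧ p' = l • p) ↔ ∀ i j, p i * p' j = p j * p' i := by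
  constructor
  · rintro ⟨l, -, rfl⟩ i j
    simp only [Pi.smul_apply, smul_eq_mul]
    ring
  · intro h
    obtain ⟨i₀, hi₀⟩ := Function.ne_iff.mp hp
    have hpi₀ : 0 < p i₀ := lt_of_le_of_ne (hp0 i₀) (Ne.symm hi₀)
    have hl : ∀ j, p' j = (p' i₀ / p i₀) * p j := by
      intro j
      have := h i₀ j
      field_simp
      linarith
    have hlpos : 0 < p' i₀ / p i₀ := by
      rcases (div_nonneg (hp'0 i₀) hpi₀.le).lt_or_eq with h1 | h1
      · exact h1
      · exfalso
        apply hp'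
        funext j
        rw [hl j, ← h1, zero_mul]
        rfl
    exact ⟨p' i₀ / p i₀, hlpos, funext hl⟩

lemma isClosed_E {k n : ICone} (φ φ' : k ⟶ n) :
    IsClosed {y : Fan.Orth k | ∃ l : ℝ, 0 < l ∧ φ'.realMap y.1 = l • φ.realMap y.1} := by
  have : {y : Fan.Orth k | ∃ l : ℝ, 0 < l ∧ φ'.realMap y.1 = l • φ.realMap y.1} =
      ⋂ i, ⋂ j, {y : Fan.Orth k | φ.realMap y.1 i * φ'.realMap y.1 j =
        φ.realMap y.1 j * φ'.realMap y.1 i} := by
    ext y
    simp only [Set.mem_ofPred_eq, Set.mem_iInter]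
    exact prop_iff _ _ (realMap_mem φ y).1 (realMap_mem φ y).2 (realMap_mem φ' y).1
      (realMap_mem φ' y).2
  rw [this]
  refine isClosed_iInter fun i => isClosed_iInter fun j => ?_
  have c1 := continuous_realMap_val φ
  have c2 := continuous_realMap_val φ'
  exact isClosed_eq
    (((continuous_apply i).comp c1).mul ((continuous_apply j).comp c2))
    (((continuous_apply j).comp c1).mul ((continuous_apply i).comp c2))

theorem main {F G : Fan.{u}} (ψ : F ⟶ G) (hF : F.IsQuasiSeparated) :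
    Function.Injective (Fan.P.map ψ) ↔
      ∀ x y : Fan.P F, x.IsRational → y.IsRational → Fan.P.map ψ x = Fan.P.map ψ y → x = y := by
  constructor
  · intro h x y _ _ hxy
    exact h hxy
  · intro hrat x x' hxx'
    induction x using Quot.ind with | mk p =>
    induction x' using Quot.ind with | mk p' =>
    obtain ⟨⟨n, σ⟩, v⟩ := p
    obtain ⟨⟨n', σ'⟩, v'⟩ := p'
    have h : Fan.P.mk (ψ.app _ σ) v = Fan.P.mk (ψ.app _ σ') v' := hxx'
    obtain ⟨k, φ₁, φ₂, y, c₁, c₂, hG, hc₁, hc₂, e₁, e₂⟩ := exists_common_subcone _ _ _ _ h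
    let a := F.map φ₁.op σ
    let b := F.map φ₂.op σ'
    have hab : ψ.app _ a = ψ.app _ b := by
      have n1 : ψ.app _ (F.map φ₁.op σ) = G.map φ₁.op (ψ.app _ σ) :=
        NatTrans.naturality_apply ψ φ₁.op σ
      have n2 : ψ.app _ (F.map φ₂.op σ') = G.map φ₂.op (ψ.app _ σ') :=
        NatTrans.naturality_apply ψ φ₂.op σ'
      change ψ.app _ (F.map φ₁.op σ) = ψ.app _ (F.map φ₂.op σ')
      rw [n1, n2, hG]
    have h1 : Fan.P.mk a y = Fan.P.mk σ v := P_mk_glue φ₁ σ y v c₁ hc₁ e₁
    have h2 : Fan.P.mk b y = Fan.P.mk σ' v' := P_mk_glue φ₂ σ' y v' c₂ hc₂ e₂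
    change Fan.P.mk σ v = Fan.P.mk σ' v'
    rw [← h1, ← h2]
    -- the closed set T
    obtain ⟨s, -, hs⟩ := Groth.Agent.S19373.result F hF a b
    let T : Set (Fan.Orth k) := {u | Fan.P.mk a u = Fan.P.mk b u}
    have hT : T = ⋃ e ∈ s, {u : Fan.Orth k | ∃ (y' : Fan.Orth e.1) (c : ℝ), 0 < c ∧
        y' ∈ {y : Fan.Orth e.1 | ∃ l : ℝ, 0 < l ∧ e.2.2.realMap y.1 = l • e.2.1.realMap y.1} ∧
        u.1 = c • e.2.1.realMap y'.1} := by
      ext u
      simp only [T, Set.mem_ofPred_eq, Set.mem_iUnion, exists_prop]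
      rw [hs u u]
      constructor
      · rintro ⟨e, he, y', c, c', hc, hc', hu1, hu2⟩
        refine ⟨e, he, y', c, hc, ⟨c / c', div_pos hc hc', ?_⟩, hu1⟩
        have : e.2.2.realMap y'.1 = c'⁻¹ • u.1 := by
          rw [hu2, smul_smul, inv_mul_cancel₀ hc'.ne', one_smul]
        rw [this, hu1, smul_smul]
        congr 1
        field_simp
      · rintro ⟨e, he, y', c, hc, ⟨l, hl, hle⟩, hu1⟩
        refine ⟨e, he, y', c, c / l, hc, div_pos hc hl, hu1, ?_⟩
        rw [hle, smul_smul, div_mul_cancel₀ _ hl.ne', hu1]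
    have hTcl : IsClosed T := by
      rw [hT]
      refine isClosed_biUnion_finset fun e _ => ?_
      apply isClosed_image_cone
      · exact isClosed_E _ _
      · rintro u w ⟨l, hl, hle⟩ c hc hw
        refine ⟨l, hl, ?_⟩
        rw [hw, realMap_smul, realMap_smul, hle, smul_comm]
    -- rational points are in T
    have hTrat : ∀ (ρ : Fin k.dim → ℤ) (c : ℝ) (hρ : ∀ i, 0 < ρ i) (hc : 0 < c) (w : Fan.Orth k),
        w.1 = (fun i => c * (ρ i : ℝ)) → w ∈ T := by
      intro ρ c hρ hc w hw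
      have hρ0 : ∀ i, 0 ≤ ρ i := fun i => (hρ i).le
      have hρne : ρ ≠ 0 := by
        intro h0
        have := hρ ⟨0, k.dim.pos⟩
        rw [h0] at this
        exact lt_irrefl _ this
      let r := rayHom ρ hρ0 hρne
      have hwr : w.1 = c • r.realMap (Fan.Orth.ones Fan.one).1 := by
        rw [hw, rayHom_realMap]
        funext j
        simp [Fan.Orth.ones]
      have ha : Fan.P.mk (F.map r.op a) (Fan.Orth.ones Fan.one) = Fan.P.mk a w :=
        P_mk_glue r a _ w c hc hwr
      have hb : Fan.P.mk (F.map r.op b) (Fan.Orth.ones Fan.one) = Fan.P.mk b w :=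
        P_mk_glue r b _ w c hc hwr
      have himg : Fan.P.map ψ (Fan.P.mk (F.map r.op a) (Fan.Orth.ones Fan.one)) =
          Fan.P.map ψ (Fan.P.mk (F.map r.op b) (Fan.Orth.ones Fan.one)) := by
        rw [P_map_mk, P_map_mk]
        have n1 : ψ.app _ (F.map r.op a) = G.map r.op (ψ.app _ a) :=
          NatTrans.naturality_apply ψ r.op a
        have n2 : ψ.app _ (F.map r.op b) = G.map r.op (ψ.app _ b) :=
          NatTrans.naturality_apply ψ r.op b
        rw [n1, n2, hab]
      have := hrat _ _ ⟨_, rfl⟩ ⟨_, rfl⟩ himg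
      change Fan.P.mk a w = Fan.P.mk b w
      rw [← ha, ← hb, this]
    -- density
    by_contra hy
    have hyT : y ∈ Tᶜ := hy
    obtain ⟨O', hO', hO'eq⟩ := isOpen_induced_iff.mp hTcl.isOpen_compl
    have hyO' : y.1 ∈ O' := (Set.ext_iff.mp hO'eq y).mpr hyT
    obtain ⟨ρ, c, hρ, hc, hO⟩ := exists_int_near y.1 y.2.1 O' hO' hyO'
    let w' : Fan.Orth k := ⟨fun i => c * (ρ i : ℝ), fun i => by
        have : (0 : ℝ) < (ρ i : ℝ) := by exact_mod_cast hρ i
        positivity, fun h => by
        have := congrFun h ⟨0, k.dim.pos⟩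
        have h2 : (0 : ℝ) < (ρ ⟨0, k.dim.pos⟩ : ℝ) := by exact_mod_cast hρ _
        simp only [Pi.zero_apply] at this
        have : 0 < c * (ρ ⟨0, k.dim.pos⟩ : ℝ) := mul_pos hc h2
        linarith⟩
    have hw'T : w' ∈ Tᶜ := (Set.ext_iff.mp hO'eq w').mp hO
    exact hw'T (hTrat ρ c hρ hc w' rfl)



/-- Let ψ : F ⟶ G be a map of formal fans with F quasi-separated. Then injectivity of the induced map P
F → P G is equivalent to its injectivity on the rational points of P F. -/
theorem result {F G : Fan.{u}} (ψ : F ⟶ G)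
    (hF : F.IsQuasiSeparated) :
    Function.Injective (Fan.P.map ψ) ↔
      ∀ x y : Fan.P F, x.IsRational → y.IsRational → Fan.P.map ψ x = Fan.P.map ψ y → x = y := by
  exact main ψ hF

end Groth.Agent.S19367
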