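import Groth.Statements.S19368
import Mathlib
import Groth.Agent.Lib.Helper10.FanPull

set_option autoImplicit false
universe u
open CategoryTheory Opposite Instab
open Instab Instab.Fan

namespace Groth.Agent.S19368

set_option linter.style.haveILetI false
open Groth.Agent.Lib.Helper10.FanSpan Groth.Agent.Lib.Helper10.FanPull Groth.Agent.Lib.helper19

/-- membership in the range of the realization of a subfan -/
lemma mem_range_ι_iff {F : Fan.{u}} (S : Subfunctor F) (x : Fan.P F) :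
    x ∈ Set.range (Fan.P.map S.ι) ↔
      ∃ (n : ICone) (σ : F.obj (op n)) (v : Fan.Orth n), σ ∈ S.obj (op n) ∧ x = Fan.P.mk σ v := by
  constructor
  · rintro ⟨y, rfl⟩
    induction y using Quot.ind with | mk a =>
    obtain ⟨⟨n, σ⟩, v⟩ := a
    exact ⟨n, σ.1, v, σ.2, rfl⟩
  · rintro ⟨n, σ, v, hσ, rfl⟩
    exact ⟨Fan.P.mk (F := S.toFunctor) ⟨σ, hσ⟩ v, rfl⟩

theorem main (F : Fan.{u}) :
    (∀ U V : Set (Fan.P F), Fan.IsRealizable U → Fan.IsRealizable V → Fan.IsRealizable (U ∩ V)) ∧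
    ∀ (ι : Type u) (U : ι → Set (Fan.P F)), (∀ i, Fan.IsRealizable (U i)) →
      Fan.IsRealizable (Set.iUnion U) := by
  constructor
  · rintro U V ⟨S, rfl⟩ ⟨T, rfl⟩
    refine ⟨S ⊓ T, ?_⟩
    ext x
    simp only [Set.mem_inter_iff, mem_range_ι_iff]
    constructor
    · rintro ⟨⟨n, σ, v, hσ, rfl⟩, ⟨n', τ, w, hτ, hx⟩⟩
      obtain ⟨k, φ₁, φ₂, y, c₁, c₂, hF, hc₁, hc₂, e₁, e₂⟩ := exists_common_subcone _ _ _ _ hx
      refine ⟨k, F.map φ₁.op σ, y, ?_, ?_⟩
      · rw [Subfunctor.min_obj]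
        refine ⟨S.map φ₁.op hσ, ?_⟩
        rw [hF]
        exact T.map φ₂.op hτ
      · exact (P_mk_glue φ₁ σ y v c₁ hc₁ e₁).symm
    · rintro ⟨n, σ, v, hσ, rfl⟩
      rw [Subfunctor.min_obj] at hσ
      exact ⟨⟨n, σ, v, hσ.1, rfl⟩, ⟨n, σ, v, hσ.2, rfl⟩⟩
  · intro ι U hU
    choose S hS using hU
    refine ⟨⨆ i, S i, ?_⟩
    ext x
    simp only [Set.mem_iUnion, hS, mem_range_ι_iff]
    constructor
    · rintro ⟨i, n, σ, v, hσ, rfl⟩
      refine ⟨n, σ, v, ?_, rfl⟩
      rw [Subfunctor.iSup_obj]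
      exact Set.mem_iUnion.mpr ⟨i, hσ⟩
    · rintro ⟨n, σ, v, hσ, rfl⟩
      rw [Subfunctor.iSup_obj] at hσ
      obtain ⟨i, hi⟩ := Set.mem_iUnion.mp hσ
      exact ⟨i, n, σ, v, hi, rfl⟩



/-- Let F be a formal fan; a subset of P F is realizable when it is the image of the projective
realization of some sub-fan of F. The intersection of two realizable subsets is realizable, and the
union of an arbitrary family of realizable subsets is realizable. -/
theorem result (F : Fan.{u}) :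
    (∀ U V : Set (Fan.P F), Fan.IsRealizable U → Fan.IsRealizable V → Fan.IsRealizable (U ∩ V)) ∧
    ∀ (ι : Type u) (U : ι → Set (Fan.P F)), (∀ i, Fan.IsRealizable (U i)) →
      Fan.IsRealizable (Set.iUnion U) := by
  exact main F

end Groth.Agent.S19368
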