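import Groth.Statements.S19369
import Mathlib
import Groth.Agent.S19366
import Groth.Agent.Lib.Helper19.Fan

set_option autoImplicit false
universe u
open CategoryTheory Opposite Instab
open Instab Instab.Fan

namespace Groth.Agent.S19369

set_option linter.style.haveILetI false
open Groth.Agent.Lib.helper19 Filter Topology
open Groth.Agent.S19363 (isClosed_P_iff continuous_mk)

/-- sum of coordinates is positive -/
lemma sum_pos' {n : ICone} (v : Fan.Orth n) : 0 < ∑ i, v.1 i := by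
  have h0 : 0 ≤ ∑ i, v.1 i := Finset.sum_nonneg fun i _ => v.2.1 i
  rcases h0.lt_or_eq with h | h
  · exact h
  · exfalso
    apply v.2.2
    funext i
    exact (Finset.sum_eq_zero_iff_of_nonneg (fun i _ => v.2.1 i)).mp h.symm i (Finset.mem_univ i)

/-- normalisation to coordinate sum one -/
noncomputable def nrm {n : ICone} (v : Fan.Orth n) : Fan.Orth n :=
  ⟨(∑ i, v.1 i)⁻¹ • v.1, fun i => mul_nonneg (inv_nonneg.mpr (sum_pos' v).le) (v.2.1 i), fun h => v.2.2 (by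
    have := congrArg (fun x => (∑ i, v.1 i) • x) h
    simpa [smul_smul, mul_inv_cancel₀ (sum_pos' v).ne'] using this)⟩

lemma nrm_val {n : ICone} (v : Fan.Orth n) : (nrm v).1 = (∑ i, v.1 i)⁻¹ • v.1 := rfl

lemma continuous_nrm {n : ICone} : Continuous (nrm (n := n)) := by
  apply Continuous.subtype_mk
  have h1 : Continuous fun v : Fan.Orth n => ∑ i, v.1 i :=
    continuous_finsetSum _ fun i _ => (continuous_apply i).comp continuous_subtype_val
  exact (h1.inv₀ fun v => (sum_pos' v).ne').smul continuous_subtype_val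

lemma mk_nrm {F : Fan.{u}} {n : ICone} (ξ : F.obj (op n)) (v : Fan.Orth n) :
    Fan.P.mk ξ (nrm v) = Fan.P.mk ξ v :=
  (P_mk_smul ξ v (nrm v) _ (inv_pos.mpr (sum_pos' v)) rfl).symm

lemma nrm_sum {n : ICone} (v : Fan.Orth n) : ∑ i, (nrm v).1 i = 1 := by
  rw [nrm_val]
  simp only [Pi.smul_apply, smul_eq_mul]
  rw [← Finset.mul_sum, inv_mul_cancel₀ (sum_pos' v).ne']

lemma nrm_of_sum {n : ICone} (v : Fan.Orth n) (h : ∑ i, v.1 i = 1) : nrm v = v := by
  apply Subtype.ext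
  rw [nrm_val, h, inv_one, one_smul]

lemma nrm_smul {n : ICone} (v w : Fan.Orth n) (c : ℝ) (hc : 0 < c) (h : w.1 = c • v.1) :
    nrm w = nrm v := by
  apply Subtype.ext
  rw [nrm_val, nrm_val, h]
  simp only [Pi.smul_apply, smul_eq_mul]
  rw [← Finset.mul_sum, smul_smul, mul_inv, mul_assoc, mul_comm _ c, ← mul_assoc,
    inv_mul_cancel₀ hc.ne', one_mul]

lemma closed_tool (F : Fan.{u}) (hF : F.IsQuasiSeparated) {n : ICone} (ξ : F.obj (op n))
    (Z : Set (Fan.Orth n)) (hZ : IsClosed Z) : IsClosed (Fan.P.mk ξ '' (nrm ⁻¹' Z)) := by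
  refine (Groth.Agent.S19366.result F hF).1 n ξ _ (hZ.preimage continuous_nrm) ?_
  intro v w hv c hc hw
  change nrm w ∈ Z
  rw [nrm_smul v w c hc hw]
  exact hv

lemma image_nrm_preimage {F : Fan.{u}} {n : ICone} (ξ : F.obj (op n)) (Z : Set (Fan.Orth n))
    (hZ : ∀ v ∈ Z, ∑ i, v.1 i = 1) : Fan.P.mk ξ '' (nrm ⁻¹' Z) = Fan.P.mk ξ '' Z := by
  ext p
  constructor
  · rintro ⟨v, hv, rfl⟩
    exact ⟨nrm v, hv, mk_nrm ξ v⟩
  · rintro ⟨v, hv, rfl⟩
    refine ⟨v, ?_, rfl⟩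
    change nrm v ∈ Z
    rw [nrm_of_sum v (hZ v hv)]
    exact hv

lemma exists_rep {F : Fan.{u}} (p : Fan.P F) :
    ∃ (n : ICone) (ξ : F.obj (op n)) (v : Fan.Orth n), Fan.P.mk ξ v = p := by
  induction p using Quot.ind with
  | mk a =>
    obtain ⟨⟨n, ξ⟩, v⟩ := a
    exact ⟨n, ξ, v, rfl⟩

instance (n : ICone) : T2Space (Fan.Orth n) :=
  inferInstanceAs (T2Space {v : Fin n.dim → ℝ // (∀ i, 0 ≤ v i) ∧ v ≠ 0})

instance (n : ICone) : FirstCountableTopology (Fan.Orth n) :=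
  inferInstanceAs (FirstCountableTopology {v : Fin n.dim → ℝ // (∀ i, 0 ≤ v i) ∧ v ≠ 0})

lemma t1 (F : Fan.{u}) (hF : F.IsQuasiSeparated) : T1Space (Fan.P F) := by
  refine ⟨fun p => ?_⟩
  obtain ⟨n, ξ, v, rfl⟩ := exists_rep p
  have h : ({Fan.P.mk ξ v} : Set (Fan.P F)) = Fan.P.mk ξ '' (nrm ⁻¹' {nrm v}) := by
    ext q
    constructor
    · intro hq
      rw [Set.mem_singleton_iff] at hq
      exact ⟨v, rfl, hq.symm⟩
    · rintro ⟨w, hw, rfl⟩
      have hw' : nrm w = nrm v := hw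
      rw [Set.mem_singleton_iff, ← mk_nrm ξ w, hw', mk_nrm]
  rw [h]
  exact closed_tool F hF ξ _ isClosed_singleton

lemma isCompact_simplex (n : ICone) : IsCompact {v : Fan.Orth n | ∑ i, v.1 i = 1} := by
  have hemb : Topology.IsEmbedding (fun v : Fan.Orth n => v.1) := Topology.IsEmbedding.subtypeVal
  rw [hemb.isCompact_iff]
  have : ((fun v : Fan.Orth n => v.1) '' {v : Fan.Orth n | ∑ i, v.1 i = 1} : Set (Fin n.dim → ℝ)) =
      stdSimplex ℝ (Fin n.dim) := by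
    ext f
    constructor
    · rintro ⟨v, hv, rfl⟩
      exact ⟨v.2.1, hv⟩
    · rintro ⟨h1, h2⟩
      refine ⟨⟨f, h1, ?_⟩, h2, rfl⟩
      rintro rfl
      simp at h2
  rw [this]
  exact isCompact_stdSimplex ℝ (Fin n.dim)

lemma isClosed_simplex (n : ICone) : IsClosed {v : Fan.Orth n | ∑ i, v.1 i = 1} :=
  isClosed_eq (continuous_finsetSum _ fun i _ => (continuous_apply i).comp continuous_subtype_val)
    continuous_const

theorem main (F : Fan.{u}) (hF : F.IsQuasiSeparated)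
    (x : ℕ → Fan.P F) (x₀ : Fan.P F) (hx : Filter.Tendsto x Filter.atTop (nhds x₀)) :
    ∃ (n : ICone) (σ : F.obj (op n)) (r : ℕ → ℕ) (v : ℕ → Fan.Orth n) (v₀ : Fan.Orth n),
      StrictMono r ∧ (∀ j, Fan.P.mk σ (v j) = x (r j)) ∧ Fan.P.mk σ v₀ = x₀ ∧
        Filter.Tendsto v Filter.atTop (nhds v₀) := by
  haveI : T1Space (Fan.P F) := t1 F hF
  obtain ⟨n, σ, hσ⟩ : ∃ (n : ICone) (σ : F.obj (op n)), ∃ᶠ i in atTop, x i ∈ Fan.P.cell σ := by
    by_contra hcon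
    have hcon' : ∀ (n : ICone) (σ : F.obj (op n)), ∀ᶠ i in atTop, x i ∉ Fan.P.cell σ := by
      intro n σ
      apply not_frequently.mp
      intro h
      exact hcon ⟨n, σ, h⟩
    obtain ⟨n₀, σ₀, v₀, hv₀⟩ := exists_rep x₀
    obtain ⟨N₀, hN₀⟩ := eventually_atTop.mp (hcon' n₀ σ₀)
    let T : Set (Fan.P F) := x '' Set.Ici N₀
    have hT : IsClosed T := by
      rw [(Groth.Agent.S19366.result F hF).2]
      intro n ξ
      obtain ⟨N₁, hN₁⟩ := eventually_atTop.mp (hcon' n ξ)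
      have hsub : T ∩ Fan.P.cell ξ ⊆ x '' (Set.Iio N₁) := by
        rintro _ ⟨⟨i, hi, rfl⟩, hc⟩
        refine ⟨i, ?_, rfl⟩
        by_contra hlt
        exact hN₁ i (not_lt.mp hlt) hc
      exact (((Set.finite_Iio N₁).image x).subset hsub).isClosed
    have hx₀T : x₀ ∉ T := by
      rintro ⟨i, hi, hxi⟩
      apply hN₀ i hi
      rw [hxi]
      exact ⟨v₀, hv₀⟩
    have h2 : ∀ᶠ i in atTop, x i ∈ Tᶜ := hx (hT.isOpen_compl.mem_nhds hx₀T)
    obtain ⟨N₂, hN₂⟩ := eventually_atTop.mp h2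
    exact hN₂ (max N₀ N₂) (le_max_right _ _) ⟨max N₀ N₂, Set.mem_Ici.mpr (le_max_left _ _), rfl⟩
  obtain ⟨r₀, hr₀, hr₀c⟩ := Filter.extraction_of_frequently_atTop hσ
  choose w hw using hr₀c
  have hy : Tendsto (fun j => x (r₀ j)) atTop (𝓝 x₀) := hx.comp hr₀.tendsto_atTop
  let u : ℕ → Fan.Orth n := fun j => nrm (w j)
  have hu : ∀ j, Fan.P.mk σ (u j) = x (r₀ j) := fun j => (mk_nrm σ (w j)).trans (hw j)
  let Δ : Set (Fan.Orth n) := {v | ∑ i, v.1 i = 1}
  have huΔ : ∀ j, u j ∈ Δ := fun j => nrm_sum (w j)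
  have hΔc : IsCompact Δ := isCompact_simplex n
  have hΔcl : IsClosed Δ := isClosed_simplex n
  let K : Set (Fan.Orth n) := Δ ∩ (Fan.P.mk σ ⁻¹' {x₀})
  have hK : IsCompact K := hΔc.inter_right ((isClosed_singleton).preimage (continuous_mk σ))
  obtain ⟨v', hv'K, hv'c⟩ : ∃ v' ∈ K, MapClusterPt v' atTop u := by
    by_contra hcon
    have h1 : ∀ v' ∈ K, ∃ U : Set (Fan.Orth n), IsOpen U ∧ v' ∈ U ∧ ∀ᶠ j in atTop, u j ∉ U := by
      intro v' hv'
      by_contra hno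
      apply hcon
      refine ⟨v', hv', ?_⟩
      rw [mapClusterPt_iff_frequently]
      intro s hs
      obtain ⟨U, hUs, hUo, hvU⟩ := mem_nhds_iff.mp hs
      by_contra hnf
      apply hno
      refine ⟨U, hUo, hvU, ?_⟩
      have := not_frequently.mp hnf
      exact this.mono fun j hj hjU => hj (hUs hjU)
    choose U hUo hUm hUe using h1
    obtain ⟨t, ht⟩ := hK.elim_nhds_subcover' U (fun v' hv' => (hUo v' hv').mem_nhds (hUm v' hv'))
    let V : Set (Fan.Orth n) := ⋃ v' ∈ t, U (v' : K) v'.2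
    have hVo : IsOpen V := isOpen_biUnion fun v' _ => hUo _ _
    have hVe : ∀ᶠ j in atTop, u j ∉ V := by
      have : ∀ᶠ j in atTop, ∀ v' ∈ t, u j ∉ U (v' : K) v'.2 :=
        (Filter.eventually_all_finset t).mpr fun v' _ => hUe _ _
      refine this.mono fun j hj hjV => ?_
      obtain ⟨v', hv't, hjv'⟩ := Set.mem_iUnion₂.mp hjV
      exact hj v' hv't hjv'
    let Z : Set (Fan.Orth n) := Δ ∩ Vᶜ
    have hZcl : IsClosed Z := hΔcl.inter hVo.isClosed_compl
    have hπZ : IsClosed (Fan.P.mk σ '' Z) := by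
      rw [← image_nrm_preimage σ Z (fun v hv => hv.1)]
      exact closed_tool F hF σ Z hZcl
    have hx₀Z : x₀ ∉ Fan.P.mk σ '' Z := by
      rintro ⟨z, hz, hzx⟩
      exact hz.2 (ht ⟨hz.1, hzx⟩)
    have h2 : ∀ᶠ j in atTop, x (r₀ j) ∈ (Fan.P.mk σ '' Z)ᶜ := hy (hπZ.isOpen_compl.mem_nhds hx₀Z)
    obtain ⟨j, hj1, hj2⟩ := (hVe.and h2).exists
    exact hj2 ⟨u j, ⟨huΔ j, hj1⟩, hu j⟩
  obtain ⟨r₁, hr₁, hr₁t⟩ := MapClusterPt.tendsto_subseq hv'c
  exact ⟨n, σ, r₀ ∘ r₁, u ∘ r₁, v', hr₀.comp hr₁, fun j => hu (r₁ j), hv'K.2, hr₁t⟩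



/-- Let F be a quasi-separated formal fan and let (x i) be a sequence in P F converging to a point x.
Then there are an n-cone σ of F and a subsequence of (x i) whose terms lift to nonzero nonnegative
vectors of ℝ^n, mapping to them under the rational simplex of σ, such that the lifts converge to a
vector that lifts x. -/
theorem result (F : Fan.{u}) (hF : F.IsQuasiSeparated)
    (x : ℕ → Fan.P F) (x₀ : Fan.P F) (hx : Filter.Tendsto x Filter.atTop (nhds x₀)) :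
    ∃ (n : ICone) (σ : F.obj (op n)) (r : ℕ → ℕ) (v : ℕ → Fan.Orth n) (v₀ : Fan.Orth n),
      StrictMono r ∧ (∀ j, Fan.P.mk σ (v j) = x (r j)) ∧ Fan.P.mk σ v₀ = x₀ ∧
        Filter.Tendsto v Filter.atTop (nhds v₀) := by
  exact main F hF x x₀ hx

end Groth.Agent.S19369
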