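import Groth.Statements.S19370
import Mathlib
import Groth.Agent.Lib.Helper10.FanTop

set_option autoImplicit false
universe u v
open CategoryTheory Opposite Instab
open Instab Instab.Fan

namespace Groth.Agent.S19370

set_option linter.style.haveILetI false
open Groth.Agent.Lib.Helper10.FanSpan Groth.Agent.Lib.Helper10.FanPull Groth.Agent.Lib.helper19
open Groth.Agent.Lib.Helper10.FanTop

/-- membership in the range of the realization of a subfan -/
lemma mem_range_ι_iff {F : Fan.{u}} (S : Subfunctor F) (x : Fan.P F) :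
    x ∈ Set.range (Fan.P.map S.ι) ↔
      ∃ (n : ICone) (σ : F.obj (op n)) (v : Fan.Orth n), σ ∈ S.obj (op n) ∧ x = Fan.P.mk σ v := by
  constructor
  · rintro ⟨y, rfl⟩
    induction y using Quot.ind with | mk a =>
    obtain ⟨⟨n, σ⟩, v⟩ := a
    exact ⟨n, σ.1, v, σ.2, rfl⟩
  · rintro ⟨n, σ, v, hσ, rfl⟩
    exact ⟨Fan.P.mk (F := S.toFunctor) ⟨σ, hσ⟩ v, rfl⟩

lemma continuous_mk {F : Fan.{u}} {n : ICone} (ξ : F.obj (op n)) :
    Continuous (Fan.P.mk ξ : Fan.Orth n → Fan.P F) :=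
  continuous_quot_mk.comp (continuous_sigmaMk (σ := fun e : (Σ n : ICone, F.obj (op n)) => Fan.Orth e.1)
    (i := ⟨n, ξ⟩))

lemma basis0 : (Fan.Orth.basis Fan.two 0).1 = (![1, 0] : Fin 2 → ℝ) := by
  funext j
  revert j
  exact Fin.forall_fin_two.mpr ⟨by simp [Fan.Orth.basis], by simp [Fan.Orth.basis]⟩

lemma basis1 : (Fan.Orth.basis Fan.two 1).1 = (![0, 1] : Fin 2 → ℝ) := by
  funext j
  revert j
  exact Fin.forall_fin_two.mpr ⟨by simp [Fan.Orth.basis], by simp [Fan.Orth.basis]⟩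

/-- the point `e₀ + |t| e₁` of the punctured orthant of `ℝ²` -/
noncomputable def seg (t : ℝ) : Fan.Orth Fan.two :=
  ⟨(![1, |t|] : Fin 2 → ℝ),
    (Fin.forall_fin_two.mpr ⟨by simp, by simp⟩ : ∀ j : Fin 2, 0 ≤ (![1, |t|] : Fin 2 → ℝ) j),
    fun h => by
      have h' : (![1, |t|] : Fin 2 → ℝ) = (0 : Fin 2 → ℝ) := h
      have := congrFun h' (0 : Fin 2)
      simp at this⟩

lemma seg_val (t : ℝ) : (seg t).1 = (![1, |t|] : Fin 2 → ℝ) := rfl

lemma continuous_seg : Continuous seg := by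
  apply Continuous.subtype_mk
  apply continuous_pi
  exact Fin.forall_fin_two.mpr ⟨by simpa using continuous_const, by simpa using continuous_abs⟩

lemma seg_zero : (seg 0).1 = (Fan.Orth.basis Fan.two 0).1 := by
  rw [seg_val, basis0]
  simp

lemma seg_eq (t : ℝ) (ht : 0 < t) :
    (seg t).1 = (1 : ℝ) • (Fan.Orth.basis Fan.two 0).1 + t • (Fan.Orth.basis Fan.two 1).1 := by
  rw [seg_val, basis0, basis1, abs_of_pos ht]
  change (![1, t] : Fin 2 → ℝ) = (1 : ℝ) • (![1, 0] : Fin 2 → ℝ) + t • (![0, 1] : Fin 2 → ℝ)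
  funext j
  fin_cases j <;> simp

lemma basis_not_prop : ¬ ∃ c : ℝ, (Fan.Orth.basis Fan.two 1).1 = c • (Fan.Orth.basis Fan.two 0).1 := by
  rintro ⟨c, hc⟩
  rw [basis0, basis1] at hc
  have hc' : (![0, 1] : Fin 2 → ℝ) = c • (![1, 0] : Fin 2 → ℝ) := hc
  have := congrFun hc' (1 : Fin 2)
  simp at this

theorem part1 (F : Fan.{u}) (U : Set (Fan.P F))
    (hU : Fan.IsConvex U) {Γ : Type v} [LinearOrder Γ] (Φ : U → Γ) (hΦ : Fan.IsQuasiConcaveOn U Φ)
    (hlsc : ∀ c : Γ, IsClosed {x : U | Φ x ≤ c}) :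
    ∀ x : U, (x : Fan.P F).IsRational → IsLocalMax Φ x → ∀ y : U, Φ y ≤ Φ x := by
  intro x hxr hmax y
  by_contra hlt
  rw [not_le] at hlt
  obtain ⟨hlc, ⟨S, hS⟩, hseg⟩ := hU
  -- Step A: a rational point y' with Φ x < Φ y'
  have hyU : (y : Fan.P F) ∈ Set.range (Fan.P.map S.ι) := hS ▸ y.2
  obtain ⟨n, σ, v, hσ, hyv⟩ := (mem_range_ι_iff S _).mp hyU
  have hcell : ∀ w : Fan.Orth n, Fan.P.mk σ w ∈ U := by
    intro w
    rw [hS]
    exact (mem_range_ι_iff S _).mpr ⟨n, σ, w, hσ, rfl⟩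
  have hWopen : IsOpen {z : U | Φ x < Φ z} := by
    have : {z : U | Φ x < Φ z} = {z : U | Φ z ≤ Φ x}ᶜ := by
      ext z; simp
    rw [this]
    exact (hlsc (Φ x)).isOpen_compl
  let g : Fan.Orth n → U := fun w => ⟨Fan.P.mk σ w, hcell w⟩
  have hg : Continuous g := (continuous_mk σ).subtype_mk _
  have hpre : IsOpen (g ⁻¹' {z : U | Φ x < Φ z}) := hWopen.preimage hg
  obtain ⟨O', hO', hO'eq⟩ := isOpen_induced_iff.mp hpre
  have hvO' : v.1 ∈ O' := by
    have hv_mem : v ∈ g ⁻¹' {z : U | Φ x < Φ z} := by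
      change Φ x < Φ (g v)
      have : g v = y := Subtype.ext hyv.symm
      rw [this]
      exact hlt
    exact (Set.ext_iff.mp hO'eq v).mpr hv_mem
  obtain ⟨ρ, c, hρ, hc, hO⟩ := exists_int_near v.1 v.2.1 O' hO' hvO'
  have hρ0 : ∀ i, 0 ≤ ρ i := fun i => (hρ i).le
  have hρne : ρ ≠ 0 := by
    intro h0
    have := hρ ⟨0, n.dim.pos⟩
    rw [h0] at this
    exact lt_irrefl _ this
  let r := rayHom ρ hρ0 hρne
  let w' : Fan.Orth n := ⟨fun i => c * (ρ i : ℝ), fun i => by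
      have : (0 : ℝ) < (ρ i : ℝ) := by exact_mod_cast hρ i
      positivity, fun h => by
      have := congrFun h ⟨0, n.dim.pos⟩
      have h2 : (0 : ℝ) < (ρ ⟨0, n.dim.pos⟩ : ℝ) := by exact_mod_cast hρ _
      simp only [Pi.zero_apply] at this
      have : 0 < c * (ρ ⟨0, n.dim.pos⟩ : ℝ) := mul_pos hc h2
      linarith⟩
  have hw'lt : Φ x < Φ (g w') := (Set.ext_iff.mp hO'eq w').mp hO
  have hw'rat : Fan.P.IsRational (Fan.P.mk σ w') := by
    refine ⟨F.map r.op σ, ?_⟩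
    symm
    apply P_mk_glue r σ (Fan.Orth.ones Fan.one) w' c hc
    rw [rayHom_realMap]
    funext j
    simp [Fan.Orth.ones, w']
  -- Step B
  have hne : (x : Fan.P F) ≠ Fan.P.mk σ w' := by
    intro h
    have : x = g w' := Subtype.ext h
    rw [this] at hw'lt
    exact lt_irrefl _ hw'lt
  obtain ⟨τ, hτU, hτ0, hτ1⟩ := hseg x (Fan.P.mk σ w') x.2 (hcell w') hxr hw'rat hne
  have hτcell : ∀ w : Fan.Orth Fan.two, Fan.P.mk τ w ∈ U := fun w => hτU ⟨w, rfl⟩
  let p : ℝ → U := fun t => ⟨Fan.P.mk τ (seg t), hτcell _⟩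
  have hp : Continuous p := ((continuous_mk τ).comp continuous_seg).subtype_mk _
  have hp0 : p 0 = x := by
    apply Subtype.ext
    change Fan.P.mk τ (seg 0) = x
    rw [← hτ0]
    congr 1
    exact Subtype.ext seg_zero
  -- Step C
  have hC : ∀ t : ℝ, 0 < t → Φ x < Φ (p t) := by
    intro t ht
    have h0 : Fan.P.mk τ (Fan.Orth.basis Fan.two 0) ∈ U := hτcell _
    have h2 : Fan.P.mk τ (Fan.Orth.basis Fan.two 1) ∈ U := hτcell _
    obtain ⟨hmin, heq⟩ := hΦ Fan.two τ (Fan.Orth.basis Fan.two 0) (seg t) (Fan.Orth.basis Fan.two 1)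
      h0 (hτcell _) h2 basis_not_prop ⟨1, t, one_pos, ht, seg_eq t ht⟩
    have e0 : (⟨_, h0⟩ : U) = x := Subtype.ext hτ0
    have e2 : (⟨_, h2⟩ : U) = g w' := Subtype.ext hτ1
    rw [e0, e2] at hmin heq
    rw [min_eq_left hw'lt.le] at hmin heq
    rcases hmin.lt_or_eq with h | h
    · exact h
    · exact absurd (heq h.symm) hw'lt.ne
  -- Step D
  have hev : ∀ᶠ t in nhds (0 : ℝ), Φ (p t) ≤ Φ x := by
    have : Filter.Tendsto p (nhds 0) (nhds x) := by
      rw [← hp0]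
      exact hp.tendsto 0
    exact this.eventually hmax
  obtain ⟨ε, hε, hball⟩ := Metric.eventually_nhds_iff.mp hev
  have := hball (y := ε / 2) (by rw [Real.dist_eq, sub_zero, abs_of_pos (by positivity)]; linarith)
  exact absurd (hC (ε / 2) (by positivity)) (not_lt.mpr this)

theorem main (F : Fan.{u}) (U : Set (Fan.P F))
    (hU : Fan.IsConvex U) {Γ : Type v} [LinearOrder Γ] (Φ : U → Γ) (hΦ : Fan.IsQuasiConcaveOn U Φ)
    (hlsc : ∀ c : Γ, IsClosed {x : U | Φ x ≤ c}) :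
    (∀ x : U, (x : Fan.P F).IsRational → IsLocalMax Φ x → ∀ y : U, Φ y ≤ Φ x) ∧
    (Fan.IsStrictQuasiConcaveOn U Φ → ∀ x y : U, (x : Fan.P F).IsRational → (y : Fan.P F).IsRational →
      IsLocalMax Φ x → IsLocalMax Φ y → x = y) := by
  refine ⟨part1 F U hU Φ hΦ hlsc, ?_⟩
  intro hstrict x y hxr hyr hxm hym
  by_contra hne
  have hxy : Φ y ≤ Φ x := part1 F U hU Φ hΦ hlsc x hxr hxm y
  have hyx : Φ x ≤ Φ y := part1 F U hU Φ hΦ hlsc y hyr hym x
  have hne' : (x : Fan.P F) ≠ y := fun h => hne (Subtype.ext h)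
  obtain ⟨τ, hτU, hτ0, hτ1⟩ := hU.2.2 x y x.2 y.2 hxr hyr hne'
  have hτcell : ∀ w : Fan.Orth Fan.two, Fan.P.mk τ w ∈ U := fun w => hτU ⟨w, rfl⟩
  have h0 : Fan.P.mk τ (Fan.Orth.basis Fan.two 0) ∈ U := hτcell _
  have h2 : Fan.P.mk τ (Fan.Orth.basis Fan.two 1) ∈ U := hτcell _
  have hlt := hstrict Fan.two τ (Fan.Orth.basis Fan.two 0) (seg 1) (Fan.Orth.basis Fan.two 1)
    h0 (hτcell _) h2 basis_not_prop ⟨1, 1, one_pos, one_pos, seg_eq 1 one_pos⟩
  have e0 : (⟨_, h0⟩ : U) = x := Subtype.ext hτ0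
  have e2 : (⟨_, h2⟩ : U) = y := Subtype.ext hτ1
  rw [e0, e2, min_eq_left hyx] at hlt
  have := part1 F U hU Φ hΦ hlsc x hxr hxm ⟨Fan.P.mk τ (seg 1), hτcell _⟩
  exact absurd hlt (not_lt.mpr this)



/-- Let F be a formal fan, U ⊆ P F a convex subset, Γ a totally ordered set and Φ : U → Γ a
quasi-concave function that is lower semicontinuous in the sense that every sublevel set {Φ ≤ c} is
closed in U. Then every rational point of U at which Φ has a local maximum is a global maximum of Φ,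
and if Φ is strictly quasi-concave there is at most one such rational point. -/
theorem result (F : Fan.{u}) (U : Set (Fan.P F))
    (hU : Fan.IsConvex U) {Γ : Type v} [LinearOrder Γ] (Φ : U → Γ) (hΦ : Fan.IsQuasiConcaveOn U Φ)
    (hlsc : ∀ c : Γ, IsClosed {x : U | Φ x ≤ c}) :
    (∀ x : U, (x : Fan.P F).IsRational → IsLocalMax Φ x → ∀ y : U, Φ y ≤ Φ x) ∧
    (Fan.IsStrictQuasiConcaveOn U Φ → ∀ x y : U, (x : Fan.P F).IsRational → (y : Fan.P F).IsRational →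
      IsLocalMax Φ x → IsLocalMax Φ y → x = y) := by
  exact main F U hU Φ hΦ hlsc

end Groth.Agent.S19370
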