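import Groth.Statements.S19371
import Mathlib
import Groth.Agent.S19366
import Groth.Agent.S19370
import Groth.Agent.Lib.Helper19.Fan
import Groth.Agent.Lib.Helper10.FanTop

set_option autoImplicit false
universe u v
open CategoryTheory Opposite Instab
open Instab Instab.Fan

namespace Groth.Agent.S19371

set_option linter.style.haveILetI false
open Groth.Agent.Lib.helper19 Groth.Agent.Lib.Helper10.FanTop Filter Topology
open Groth.Agent.S19370 (mem_range_ι_iff continuous_mk basis0 basis1 basis_not_prop)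

/-- rational points are dense in a realizable set -/
lemma exists_rational_in_open {F : Fan.{u}} (U : Set (Fan.P F)) (hreal : Fan.IsRealizable U)
    (O : Set U) (hO : IsOpen O) (p : U) (hp : p ∈ O) :
    ∃ q : U, q ∈ O ∧ (q : Fan.P F).IsRational := by
  obtain ⟨S, hS⟩ := hreal
  have hpU : p.1 ∈ Set.range (Fan.P.map S.ι) := by rw [← hS]; exact p.2
  obtain ⟨n, σ, v, hσ, hpv⟩ := (mem_range_ι_iff S p.1).mp hpU
  have hcell : ∀ w : Fan.Orth n, Fan.P.mk σ w ∈ U := by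
    intro w
    rw [hS]
    exact (mem_range_ι_iff S _).mpr ⟨n, σ, w, hσ, rfl⟩
  let g : Fan.Orth n → U := fun w => ⟨Fan.P.mk σ w, hcell w⟩
  have hg : Continuous g := (continuous_mk σ).subtype_mk _
  have hgO : IsOpen (g ⁻¹' O) := hO.preimage hg
  obtain ⟨O', hO', hO'eq⟩ := isOpen_induced_iff.mp hgO
  have hv : v ∈ g ⁻¹' O := by
    change g v ∈ O
    have : g v = p := Subtype.ext hpv.symm
    rw [this]; exact hp
  have hvO' : v.1 ∈ O' := (Set.ext_iff.mp hO'eq v).mpr hv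
  obtain ⟨ρ, c, hρ, hc, hOρ⟩ := exists_int_near v.1 v.2.1 O' hO' hvO'
  let w' : Fan.Orth n := ⟨fun i => c * (ρ i : ℝ), fun i => by
      have : (0 : ℝ) < (ρ i : ℝ) := by exact_mod_cast hρ i
      positivity, fun h => by
      have := congrFun h ⟨0, n.dim.pos⟩
      have h2 : (0 : ℝ) < (ρ ⟨0, n.dim.pos⟩ : ℝ) := by exact_mod_cast hρ _
      simp only [Pi.zero_apply] at this
      have : 0 < c * (ρ ⟨0, n.dim.pos⟩ : ℝ) := mul_pos hc h2
      linarith⟩
  have hw' : w' ∈ g ⁻¹' O := (Set.ext_iff.mp hO'eq w').mp hOρ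
  refine ⟨g w', hw', ?_⟩
  have hρ0 : ∀ i, 0 ≤ ρ i := fun i => (hρ i).le
  have hρne : ρ ≠ 0 := by
    intro h0
    have := hρ ⟨0, n.dim.pos⟩
    rw [h0] at this
    exact lt_irrefl _ this
  let r := rayHom ρ hρ0 hρne
  have hwr : w'.1 = c • r.realMap (Fan.Orth.ones Fan.one).1 := by
    rw [rayHom_realMap]
    funext j
    simp [Fan.Orth.ones, w']
  exact ⟨F.map r.op σ, (P_mk_glue r σ _ w' c hc hwr).symm⟩

/-- the point `a + |t| b` -/
noncomputable def pth {m : ICone} (a b : Fan.Orth m) (t : ℝ) : Fan.Orth m :=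
  ⟨a.1 + |t| • b.1, fun i => add_nonneg (a.2.1 i) (mul_nonneg (abs_nonneg t) (b.2.1 i)), fun h => by
    apply a.2.2
    funext i
    have hi := congrFun h i
    simp only [Pi.add_apply, Pi.smul_apply, smul_eq_mul, Pi.zero_apply] at hi
    have h1 := a.2.1 i
    have h2 : 0 ≤ |t| * b.1 i := mul_nonneg (abs_nonneg t) (b.2.1 i)
    simp only [Pi.zero_apply]
    linarith⟩

lemma pth_val {m : ICone} (a b : Fan.Orth m) (t : ℝ) : (pth a b t).1 = a.1 + |t| • b.1 := rfl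

lemma continuous_pth {m : ICone} (a b : Fan.Orth m) : Continuous (pth a b) := by
  apply Continuous.subtype_mk
  exact continuous_const.add (continuous_abs.smul continuous_const)

lemma pth_zero {m : ICone} (a b : Fan.Orth m) : pth a b 0 = a := by
  apply Subtype.ext
  rw [pth_val]
  simp

/-- a local maximum shares no cone with another point of value at least as large -/
lemma no_common_cone {F : Fan.{u}} (U : Set (Fan.P F)) (hlc : Fan.IsLocallyConvex U)
    {Γ : Type v} [LinearOrder Γ] [TopologicalSpace Γ] [OrderTopology Γ]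
    (Φ : U → Γ) (hΦ : Fan.IsStrictQuasiConcaveOn U Φ)
    {m : ICone} (ξ : F.obj (op m)) (a b : Fan.Orth m)
    (ha : Fan.P.mk ξ a ∈ U) (hb : Fan.P.mk ξ b ∈ U)
    (hloc : IsLocalMax Φ ⟨_, ha⟩) (hle : Φ ⟨_, ha⟩ ≤ Φ ⟨_, hb⟩)
    (hne : Fan.P.mk ξ a ≠ Fan.P.mk ξ b) : False := by
  have hnp : ¬ ∃ c : ℝ, b.1 = c • a.1 := by
    rintro ⟨c, hc⟩
    have hcpos : 0 < c := by
      by_contra hc0
      have hc0 : c ≤ 0 := not_lt.mp hc0
      apply b.2.2
      funext i
      have h1 : b.1 i = c * a.1 i := by rw [hc]; rfl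
      have h2 : b.1 i ≤ 0 := by rw [h1]; exact mul_nonpos_of_nonpos_of_nonneg hc0 (a.2.1 i)
      exact le_antisymm h2 (b.2.1 i)
    exact hne (P_mk_smul ξ a b c hcpos hc)
  have hmem : ∀ t : ℝ, Fan.P.mk ξ (pth a b t) ∈ U := by
    intro t
    by_cases ht : t = 0
    · rw [ht, pth_zero]; exact ha
    · exact hlc m ξ a (pth a b t) b ha hb ⟨1, |t|, one_pos, abs_pos.mpr ht, by rw [pth_val, one_smul]⟩
  let γ : ℝ → U := fun t => ⟨Fan.P.mk ξ (pth a b t), hmem t⟩
  have hγ : Continuous γ := ((continuous_mk ξ).comp (continuous_pth a b)).subtype_mk _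
  have hγ0 : γ 0 = ⟨_, ha⟩ := Subtype.ext (by simp only [γ]; rw [pth_zero])
  have hev : ∀ᶠ t in 𝓝 (0:ℝ), Φ (γ t) ≤ Φ ⟨_, ha⟩ := by
    have : Tendsto γ (𝓝 0) (𝓝 ⟨_, ha⟩) := by
      rw [← hγ0]; exact hγ.tendsto 0
    exact this.eventually hloc
  obtain ⟨ε, hε, hball⟩ := Metric.eventually_nhds_iff.mp hev
  have ht : dist (ε/2) 0 < ε := by
    rw [Real.dist_eq, sub_zero, abs_of_pos (half_pos hε)]; exact half_lt_self hε
  have h1 := hball ht
  have h2 := hΦ m ξ a (pth a b (ε/2)) b ha (hmem _) hb hnp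
    ⟨1, |ε/2|, one_pos, abs_pos.mpr (half_pos hε).ne', by rw [pth_val, one_smul]⟩
  rw [min_eq_left hle] at h2
  exact absurd h1 (not_le.mpr h2)

/-- an infinite subset of a compact set has two points in a common cell -/
lemma exists_two_in_cell (F : Fan.{u}) (hF : F.IsQuasiSeparated) [T2Space (Fan.P F)]
    (U : Set (Fan.P F)) (hUc : IsCompact U) (T : Set (Fan.P F)) (hTU : T ⊆ U) (hT : T.Infinite) :
    ∃ (m : ICone) (ξ : F.obj (op m)), ∃ p ∈ T, ∃ q ∈ T,
      p ≠ q ∧ p ∈ Fan.P.cell ξ ∧ q ∈ Fan.P.cell ξ := by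
  by_contra hcon
  have hsub : ∀ (m : ICone) (ξ : F.obj (op m)), (T ∩ Fan.P.cell ξ).Subsingleton := by
    intro m ξ p hp q hq
    by_contra hpq
    exact hcon ⟨m, ξ, p, hp.1, q, hq.1, hpq, hp.2, hq.2⟩
  have hcl : ∀ T' : Set (Fan.P F), T' ⊆ T → IsClosed T' := by
    intro T' hT'
    rw [(Groth.Agent.S19366.result F hF).2]
    intro m ξ
    have : (T' ∩ Fan.P.cell ξ).Subsingleton :=
      (hsub m ξ).anti (Set.inter_subset_inter_left _ hT')
    exact this.finite.isClosed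
  obtain ⟨z, -, hz⟩ := hT.exists_accPt_of_subset_isCompact hUc hTU
  rw [accPt_principal_iff_clusterPt] at hz
  have hz' : z ∈ closure (T \ {z}) := mem_closure_iff_clusterPt.mpr hz
  rw [(hcl _ Set.sdiff_subset).closure_eq] at hz'
  exact hz'.2 rfl

/-- the point `(|1 - s|, |s|)` -/
noncomputable def sg (s : ℝ) : Fan.Orth Fan.two :=
  ⟨(![|1 - s|, |s|] : Fin 2 → ℝ),
    (Fin.forall_fin_two.mpr ⟨by simp, by simp⟩ : ∀ j : Fin 2, 0 ≤ (![|1 - s|, |s|] : Fin 2 → ℝ) j),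
    fun h => by
      have h' : (![|1 - s|, |s|] : Fin 2 → ℝ) = (0 : Fin 2 → ℝ) := h
      have h0 : |1 - s| = 0 := congrFun h' (0 : Fin 2)
      have h1 : |s| = 0 := congrFun h' (1 : Fin 2)
      rw [abs_eq_zero] at h0 h1
      linarith⟩

lemma sg_val (s : ℝ) : (sg s).1 = (![|1 - s|, |s|] : Fin 2 → ℝ) := rfl

lemma continuous_sg : Continuous sg := by
  apply Continuous.subtype_mk
  apply continuous_pi
  exact Fin.forall_fin_two.mpr ⟨by simpa using (continuous_const.sub continuous_id).abs,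
    by simpa using continuous_abs⟩

lemma sg_zero : sg 0 = Fan.Orth.basis Fan.two 0 := by
  apply Subtype.ext
  rw [basis0, sg_val]
  simp

lemma sg_one : sg 1 = Fan.Orth.basis Fan.two 1 := by
  apply Subtype.ext
  rw [basis1, sg_val]
  simp

lemma sg_eq (s : ℝ) (h0 : 0 < s) (h1 : s < 1) :
    (sg s).1 = (1 - s) • (Fan.Orth.basis Fan.two 0).1 + s • (Fan.Orth.basis Fan.two 1).1 := by
  rw [sg_val, basis0, basis1, abs_of_pos h0, abs_of_pos (sub_pos.mpr h1)]
  change (![1 - s, s] : Fin 2 → ℝ) = (1 - s) • (![1, 0] : Fin 2 → ℝ) + s • (![0, 1] : Fin 2 → ℝ)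
  funext j
  fin_cases j <;> simp

theorem key (F : Fan.{u})
    (hF : F.IsQuasiSeparated) (hT2 : T2Space (Fan.P F)) (U : Set (Fan.P F)) (hUc : IsCompact U)
    (hU : Fan.IsConvex U) {Γ : Type v} [LinearOrder Γ] [TopologicalSpace Γ] [OrderTopology Γ]
    (Φ : U → Γ) (hΦc : Continuous Φ) (hΦ : Fan.IsStrictQuasiConcaveOn U Φ) (x y : U)
    (hx : IsLocalMax Φ x) (hxy : Φ x ≤ Φ y) : x = y := by
  by_contra hne
  haveI := hT2
  obtain ⟨hlc, hreal, hseg⟩ := hU
  haveI : CompactSpace U := isCompact_iff_compactSpace.mp hUc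
  obtain ⟨W, hWmax, hWo, hxW⟩ := eventually_nhds_iff.mp hx
  let E : Set U := {q | q ∈ W ∧ Φ q = Φ x}
  have hEfin : E.Finite := by
    by_contra hinf
    have hinf' : (Subtype.val '' E : Set (Fan.P F)).Infinite :=
      Set.Infinite.image Subtype.val_injective.injOn hinf
    obtain ⟨m, ξ, p, hp, q, hq, hpq, ⟨a, ha⟩, ⟨b, hb⟩⟩ :=
      exists_two_in_cell F hF U hUc _ (by rintro _ ⟨e, -, rfl⟩; exact e.2) hinf'
    obtain ⟨p', hp'E, rfl⟩ := hp
    obtain ⟨q', hq'E, rfl⟩ := hq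
    have haU : Fan.P.mk ξ a ∈ U := by rw [ha]; exact p'.2
    have hbU : Fan.P.mk ξ b ∈ U := by rw [hb]; exact q'.2
    have hp'eq : (⟨_, haU⟩ : U) = p' := Subtype.ext ha
    have hq'eq : (⟨_, hbU⟩ : U) = q' := Subtype.ext hb
    apply no_common_cone U hlc Φ hΦ ξ a b haU hbU
    · rw [hp'eq]
      change ∀ᶠ z in 𝓝 p', Φ z ≤ Φ p'
      apply eventually_nhds_iff.mpr
      refine ⟨W, fun z hz => ?_, hWo, hp'E.1⟩
      rw [hp'E.2]; exact hWmax z hz
    · rw [hp'eq, hq'eq, hp'E.2, hq'E.2]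
    · rw [ha, hb]; exact hpq
  let W2 : Set U := W ∩ (E \ {x})ᶜ
  have hW2o : IsOpen W2 := hWo.inter (hEfin.subset Set.sdiff_subset).isClosed.isOpen_compl
  have hxW2 : x ∈ W2 := ⟨hxW, fun h => h.2 rfl⟩
  have hW2lt : ∀ q ∈ W2, q ≠ x → Φ q < Φ x := by
    intro q hq hqx
    exact lt_of_le_of_ne (hWmax q hq.1) fun heq => hq.2 ⟨⟨hq.1, heq⟩, hqx⟩
  have hyW2 : y ∉ W2 := fun h => absurd (hW2lt y h (Ne.symm hne)) (not_lt.mpr hxy)
  obtain ⟨t, htn, htc, htW⟩ := exists_mem_nhds_isClosed_subset (hW2o.mem_nhds hxW2)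
  let W3 : Set U := interior t
  have hW3o : IsOpen W3 := isOpen_interior
  have hxW3 : x ∈ W3 := mem_interior_iff_mem_nhds.mpr htn
  have hclW3 : closure W3 ⊆ t := closure_minimal interior_subset htc
  have hyt : y ∉ t := fun h => hyW2 (htW h)
  let Fr : Set U := frontier W3
  have hFrc : IsCompact Fr := isClosed_frontier.isCompact
  have hFrdef : ∀ q, q ∈ Fr ↔ q ∈ closure W3 ∧ q ∉ W3 := by
    intro q
    change q ∈ closure W3 \ interior W3 ↔ _
    rw [hW3o.interior_eq]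
    rfl
  have hFrlt : ∀ q ∈ Fr, Φ q < Φ x := by
    intro q hq
    have hq' := (hFrdef q).mp hq
    apply hW2lt q (htW (hclW3 hq'.1))
    rintro rfl
    exact hq'.2 hxW3
  obtain ⟨O, hOo, hxO, hyO, hOFr⟩ : ∃ O : Set U, IsOpen O ∧ x ∈ O ∧ y ∈ O ∧
      ∀ p ∈ O, ∀ q ∈ Fr, Φ q < Φ p := by
    rcases Fr.eq_empty_or_nonempty with hemp | hnemp
    · exact ⟨Set.univ, isOpen_univ, trivial, trivial, fun p _ q hq => by
        rw [hemp] at hq; exact hq.elim⟩
    · obtain ⟨q₀, hq₀, hq₀max⟩ := hFrc.exists_isMaxOn hnemp hΦc.continuousOn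
      exact ⟨Φ ⁻¹' Set.Ioi (Φ q₀), isOpen_Ioi.preimage hΦc, hFrlt q₀ hq₀,
        lt_of_lt_of_le (hFrlt q₀ hq₀) hxy,
        fun p hp q hq => lt_of_le_of_lt (isMaxOn_iff.mp hq₀max q hq) hp⟩
  obtain ⟨x', hx'O, hx'r⟩ := exists_rational_in_open U hreal (W3 ∩ O) (hW3o.inter hOo) x ⟨hxW3, hxO⟩
  obtain ⟨y', hy'O, hy'r⟩ := exists_rational_in_open U hreal (tᶜ ∩ O)
    (htc.isOpen_compl.inter hOo) y ⟨hyt, hyO⟩
  have hx'y' : x'.1 ≠ y'.1 := by
    intro h
    have : x' = y' := Subtype.ext h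
    exact hy'O.1 (by rw [← this]; exact interior_subset hx'O.1)
  obtain ⟨τ, hτU, hτ0, hτ1⟩ := hseg x'.1 y'.1 x'.2 y'.2 hx'r hy'r hx'y'
  let γ : ℝ → U := fun s => ⟨Fan.P.mk τ (sg s), hτU ⟨sg s, rfl⟩⟩
  have hγ : Continuous γ := ((continuous_mk τ).comp continuous_sg).subtype_mk _
  have hγ0 : γ 0 = x' := Subtype.ext (by simp only [γ]; rw [sg_zero]; exact hτ0)
  have hγ1 : γ 1 = y' := Subtype.ext (by simp only [γ]; rw [sg_one]; exact hτ1)
  let A : Set U := γ '' Set.Icc 0 1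
  have hA : IsPreconnected A := isPreconnected_Icc.image γ hγ.continuousOn
  have hAFr : (A ∩ Fr).Nonempty := by
    by_contra hemp
    rw [Set.not_nonempty_iff_eq_empty] at hemp
    have hsub : A ⊆ W3 ∪ (closure W3)ᶜ := by
      intro p hp
      by_cases h1 : p ∈ W3
      · exact Or.inl h1
      · right
        intro h2
        have : p ∈ A ∩ Fr := ⟨hp, (hFrdef p).mpr ⟨h2, h1⟩⟩
        rw [hemp] at this; exact this
    have hAW3 : A ⊆ W3 := hA.subset_left_of_subset_union hW3o isClosed_closure.isOpen_compl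
      (Set.disjoint_left.mpr fun p hp hp' => hp' (subset_closure hp)) hsub
      ⟨x', ⟨0, ⟨le_refl _, zero_le_one⟩, hγ0⟩, hx'O.1⟩
    have : y' ∈ W3 := hAW3 ⟨1, ⟨zero_le_one, le_refl _⟩, hγ1⟩
    exact hy'O.1 (interior_subset this)
  obtain ⟨_, ⟨s, ⟨hs0, hs1⟩, rfl⟩, hsFr⟩ := hAFr
  have hsFr' := (hFrdef _).mp hsFr
  have hs0' : s ≠ 0 := by
    rintro rfl
    rw [hγ0] at hsFr'
    exact hsFr'.2 hx'O.1
  have hs1' : s ≠ 1 := by
    rintro rfl
    rw [hγ1] at hsFr'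
    exact hy'O.1 (hclW3 hsFr'.1)
  have hs0'' : 0 < s := lt_of_le_of_ne hs0 (Ne.symm hs0')
  have hs1'' : s < 1 := lt_of_le_of_ne hs1 hs1'
  have h0U : Fan.P.mk τ (Fan.Orth.basis Fan.two 0) ∈ U := hτU ⟨_, rfl⟩
  have h1U : Fan.P.mk τ (Fan.Orth.basis Fan.two 1) ∈ U := hτU ⟨_, rfl⟩
  have hq := hΦ Fan.two τ (Fan.Orth.basis Fan.two 0) (sg s) (Fan.Orth.basis Fan.two 1) h0U
    (hτU ⟨sg s, rfl⟩) h1U basis_not_prop
    ⟨1 - s, s, sub_pos.mpr hs1'', hs0'', sg_eq s hs0'' hs1''⟩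
  have e0 : (⟨_, h0U⟩ : U) = x' := Subtype.ext hτ0
  have e1 : (⟨_, h1U⟩ : U) = y' := Subtype.ext hτ1
  rw [e0, e1] at hq
  have hlt0 : Φ (γ s) < Φ x' := hOFr x' hx'O.2 _ hsFr
  have hlt1 : Φ (γ s) < Φ y' := hOFr y' hy'O.2 _ hsFr
  have hmin : Φ (γ s) < min (Φ x') (Φ y') := lt_min hlt0 hlt1
  exact lt_irrefl _ (hmin.trans hq)

theorem main (F : Fan.{u})
    (hF : F.IsQuasiSeparated) (hT2 : T2Space (Fan.P F)) (U : Set (Fan.P F)) (hUc : IsCompact U)
    (hU : Fan.IsConvex U) {Γ : Type v} [LinearOrder Γ] [TopologicalSpace Γ] [OrderTopology Γ]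
    (Φ : U → Γ) (hΦc : Continuous Φ) (hΦ : Fan.IsStrictQuasiConcaveOn U Φ) (x y : U)
    (hx : IsLocalMax Φ x) (hy : IsLocalMax Φ y) : x = y := by
  rcases le_total (Φ x) (Φ y) with h | h
  · exact key F hF hT2 U hUc hU Φ hΦc hΦ x y hx h
  · exact (key F hF hT2 U hUc hU Φ hΦc hΦ y x hy h).symm



/-- Let F be a quasi-separated formal fan whose projective realization P F is a Hausdorff space, U ⊆ P F
a compact convex subset, Γ a totally ordered set with the order topology, and Φ : U → Γ continuous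
and strictly quasi-concave. Then any two local maxima of Φ coincide, so the global maximum of Φ
(which exists when U is nonempty, by the extreme value property of upper semicontinuous functions on
compact sets) is its unique local maximum. (The published lemma assumes only that F is
quasi-separated and derives the Hausdorff property of P F from that; this derivation does not hold
in general, and the Hausdorff property, which the published proof uses, is assumed here.) -/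
theorem result (F : Fan.{u})
    (hF : F.IsQuasiSeparated) (hT2 : T2Space (Fan.P F)) (U : Set (Fan.P F)) (hUc : IsCompact U)
    (hU : Fan.IsConvex U) {Γ : Type v} [LinearOrder Γ] [TopologicalSpace Γ] [OrderTopology Γ]
    (Φ : U → Γ) (hΦc : Continuous Φ) (hΦ : Fan.IsStrictQuasiConcaveOn U Φ) (x y : U)
    (hx : IsLocalMax Φ x) (hy : IsLocalMax Φ y) : x = y := by
  exact main F hF hT2 U hUc hU Φ hΦc hΦ x y hx hy

end Groth.Agent.S19371
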