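import Groth.Statements.S19372
import Mathlib
import Groth.Agent.Lib.Helper10.RFanCone
import Groth.Agent.Lib.Helper10.FanTop
import Groth.Agent.S19363

set_option autoImplicit false
open CategoryTheory Opposite Instab
open Instab Instab.Fan

namespace Groth.Agent.S19372

set_option linter.style.haveILetI false
open Groth.Agent.Lib.helper19 Groth.Agent.Lib.Helper10.RFanLin Groth.Agent.Lib.Helper10.RFanCone
open Groth.Agent.Lib.Helper10.FanTop (exists_int_near)
open Groth.Agent.S19363 (continuous_mk)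

section helpers

variable {N : ℕ} {ι : Type} (K : ι → Set (Fin N → ℝ))

lemma toVec_eq_ext (n : ICone) (φ : RFan.Cone K n) (v : Fin n.dim → ℝ) :
    RFan.toVec K n φ v = ext φ.1 v := rfl

lemma toVec_ne_zero (n : ICone) (φ : RFan.Cone K n) (v : Fan.Orth n) :
    RFan.toVec K n φ v.1 ≠ 0 := by
  intro h
  apply v.2.2
  apply ext_injective φ.1 φ.2.1
  rw [← toVec_eq_ext, h, ext_zero]

lemma toVec_map {k n : ICone} (ψ : k ⟶ n) (φ : (RFan K).obj (op n)) (v : Fin k.dim → ℝ) :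
    RFan.toVec K k ((RFan K).map ψ.op φ) v = RFan.toVec K n φ (ψ.realMap v) :=
  ext_comp φ.1 ψ.toLin v

/-- the relation defining rays -/
def rel (N : ℕ) : {v : Fin N → ℝ // v ≠ 0} → {v : Fin N → ℝ // v ≠ 0} → Prop :=
  fun v w => ∃ c : ℝ, 0 < c ∧ w.1 = c • v.1

lemma rel_equiv (N : ℕ) : Equivalence (rel N) := by
  refine ⟨fun v => ⟨1, one_pos, by rw [one_smul]⟩, ?_, ?_⟩
  · rintro v w ⟨c, hc, h⟩
    exact ⟨c⁻¹, inv_pos.mpr hc, by rw [h, smul_smul, inv_mul_cancel₀ hc.ne', one_smul]⟩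
  · rintro u v w ⟨c, hc, h⟩ ⟨c', hc', h'⟩
    exact ⟨c' * c, mul_pos hc' hc, by rw [h', h, smul_smul]⟩

lemma rays_eq_iff (v w : {v : Fin N → ℝ // v ≠ 0}) :
    (Quot.mk _ v : Fan.Rays N) = Quot.mk _ w ↔ ∃ c : ℝ, 0 < c ∧ w.1 = c • v.1 :=
  (rel_equiv N).quot_mk_eq_iff v w

/-- the map on the disjoint union -/
noncomputable def gPt (p : Fan.Pt (RFan K)) : Fan.Rays N :=
  Quot.mk _ ⟨RFan.toVec K p.1.1 p.1.2 p.2.1, toVec_ne_zero K p.1.1 p.1.2 p.2⟩

lemma gPt_rel (p q : Fan.Pt (RFan K)) (h : Fan.Rel (RFan K) p q) : gPt K p = gPt K q := by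
  obtain ⟨ψ, ξ, v, w, c, hc, hw⟩ := h
  apply (rays_eq_iff _ _).mpr
  refine ⟨c, hc, ?_⟩
  change RFan.toVec K _ ξ w.1 = c • RFan.toVec K _ ((RFan K).map ψ.op ξ) v.1
  rw [toVec_map, hw, toVec_eq_ext, toVec_eq_ext, ext_smul]

/-- the canonical map to the space of rays -/
noncomputable def g : Fan.P (RFan K) → Fan.Rays N := Quot.lift (gPt K) (gPt_rel K)

lemma g_mk (n : ICone) (φ : (RFan K).obj (op n)) (v : Fan.Orth n) :
    g K (Fan.P.mk φ v) = Quot.mk _ ⟨RFan.toVec K n φ v.1, toVec_ne_zero K n φ v⟩ := rfl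

lemma g_injective : Function.Injective (g K) := by
  intro x x' h
  induction x using Quot.ind with | mk p =>
  induction x' using Quot.ind with | mk p' =>
  obtain ⟨⟨n, φ⟩, v⟩ := p
  obtain ⟨⟨n', φ'⟩, v'⟩ := p'
  have h' : (Quot.mk _ ⟨RFan.toVec K n φ v.1, toVec_ne_zero K n φ v⟩ : Fan.Rays N) =
      Quot.mk _ ⟨RFan.toVec K n' φ' v'.1, toVec_ne_zero K n' φ' v'⟩ := h
  obtain ⟨c, hc, hcv⟩ := (rays_eq_iff _ _).mp h'
  have hcv' : ext φ.1 (c • v.1) = ext φ'.1 v'.1 := by rw [ext_smul]; exact hcv.symm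
  have hcv0 : c • v.1 ≠ 0 := by
    intro h0
    apply v.2.2
    have := congrArg (fun x => c⁻¹ • x) h0
    simpa [smul_smul, inv_mul_cancel₀ hc.ne'] using this
  obtain ⟨l, α, β, z, hαβ, hαz, hβz⟩ := weak_pullback_lin φ.1 φ'.1 φ.2.1 φ'.2.1 (c • v.1) v'.1
    (fun i => mul_nonneg hc.le (v.2.1 i)) v'.2.1 hcv0 hcv'
  have hmap : (RFan K).map α.op φ = (RFan K).map β.op φ' := Subtype.ext hαβ
  have h1 : Fan.P.mk ((RFan K).map α.op φ) z = Fan.P.mk φ v :=
    P_mk_glue α φ z v c⁻¹ (inv_pos.mpr hc) (by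
      rw [hαz, smul_smul, inv_mul_cancel₀ hc.ne', one_smul])
  have h2 : Fan.P.mk ((RFan K).map β.op φ') z = Fan.P.mk φ' v' :=
    P_mk_glue β φ' z v' 1 one_pos (by rw [hβz, one_smul])
  change Fan.P.mk φ v = Fan.P.mk φ' v'
  rw [← h1, ← h2, hmap]

lemma continuous_toVec (n : ICone) (φ : RFan.Cone K n) :
    Continuous fun v : Fin n.dim → ℝ => RFan.toVec K n φ v := by
  have : (fun v : Fin n.dim → ℝ => RFan.toVec K n φ v) = fun v => extLin φ.1 v := by
    funext v; rw [extLin_apply]; rfl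
  rw [this]
  exact LinearMap.continuous_of_finiteDimensional _

lemma continuous_g : Continuous (g K) := by
  apply continuous_quot_lift
  apply continuous_sigma
  rintro ⟨n, φ⟩
  apply continuous_quot_mk.comp
  apply Continuous.subtype_mk
  exact (continuous_toVec K n φ).comp continuous_subtype_val

lemma toVec_mem (hKcl : ∀ a, IsClosed (K a))
    (hKsm : ∀ a, ∀ x ∈ K a, ∀ t : ℝ, 0 < t → t • x ∈ K a)
    (n : ICone) (φ : RFan.Cone K n) (v : Fan.Orth n) :
    RFan.toVec K n φ v.1 ∈ Set.iUnion K := by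
  obtain ⟨a, ha⟩ := φ.2.2
  refine Set.mem_iUnion.mpr ⟨a, ?_⟩
  by_contra hnot
  let O' : Set (Fin n.dim → ℝ) := (fun u => RFan.toVec K n φ u) ⁻¹' (K a)ᶜ
  have hO' : IsOpen O' := (hKcl a).isOpen_compl.preimage (continuous_toVec K n φ)
  obtain ⟨ρ, c, hρ, hc, hOρ⟩ := exists_int_near v.1 v.2.1 O' hO' hnot
  apply hOρ
  change ext φ.1 (fun i => c * (ρ i : ℝ)) ∈ K a
  have : (fun i => c * (ρ i : ℝ)) = c • (fun i => (ρ i : ℝ)) := by funext i; simp
  rw [this, ext_smul, ext_cast]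
  exact hKsm a _ (ha ρ (fun i => (hρ i).le)) c hc

lemma isClosed_C (n : ICone) (φ : (RFan K).obj (op n)) (A : Set (Fan.P (RFan K))) (hA : IsClosed A) :
    IsClosed {w : {w : Fin N → ℝ // w ≠ 0} | ∃ (u : Fan.Orth n) (c : ℝ), 0 < c ∧
      Fan.P.mk φ u ∈ A ∧ w.1 = c • RFan.toVec K n φ u.1} := by
  let Z : Set (Fan.Orth n) := {u | Fan.P.mk φ u ∈ A}
  have hZ : IsClosed Z := hA.preimage (continuous_mk φ)
  obtain ⟨W, hW, hWZ⟩ := isClosed_induced_iff.mp hZ
  let Zh : Set (Fin n.dim → ℝ) := {0} ∪ (W ∩ {u | ∀ i, 0 ≤ u i})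
  have hZh : IsClosed Zh := isClosed_singleton.union (hW.inter (isClosed_orthant _))
  have hce := LinearMap.isClosedEmbedding_of_injective (extLin_ker φ.1 φ.2.1)
  have himg : IsClosed (extLin φ.1 '' Zh) := hce.isClosedMap _ hZh
  have : {w : {w : Fin N → ℝ // w ≠ 0} | ∃ (u : Fan.Orth n) (c : ℝ), 0 < c ∧
      Fan.P.mk φ u ∈ A ∧ w.1 = c • RFan.toVec K n φ u.1} =
      Subtype.val ⁻¹' (extLin φ.1 '' Zh) := by
    ext w
    constructor
    · rintro ⟨u, c, hc, hu, hw⟩
      let u' : Fan.Orth n := ⟨c • u.1, fun i => mul_nonneg hc.le (u.2.1 i), fun h0 => u.2.2 (by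
        have := congrArg (fun x => c⁻¹ • x) h0
        simpa [smul_smul, inv_mul_cancel₀ hc.ne'] using this)⟩
      have hu' : u' ∈ Z := by
        change Fan.P.mk φ u' ∈ A
        rw [← P_mk_smul φ u u' c hc rfl]
        exact hu
      refine ⟨u'.1, Or.inr ⟨(Set.ext_iff.mp hWZ u').mpr hu', u'.2.1⟩, ?_⟩
      rw [extLin_apply, hw, toVec_eq_ext, ← ext_smul]
    · rintro ⟨u', hu', hw⟩
      rw [extLin_apply] at hw
      have hne : u' ≠ 0 := by
        rintro rfl
        apply w.2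
        rw [← hw, ext_zero]
      rcases hu' with h0 | ⟨hW', hnn⟩
      · exact absurd (Set.mem_singleton_iff.mp h0) hne
      · refine ⟨⟨u', hnn, hne⟩, 1, one_pos, ?_, by rw [one_smul]; exact hw.symm⟩
        exact (Set.ext_iff.mp hWZ ⟨u', hnn, hne⟩).mp hW'
  rw [this]
  exact himg.preimage continuous_subtype_val

section cover

variable (m : ι → ℕ) (gen : ∀ a, Fin (m a) → Finset (Fin N → ℤ))

/-- indices of the simplicial cones covering `⋃ K a` -/
structure Idx where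
  a : ι
  l : Fin (m a)
  T : Finset (Fin N → ℤ)
  hTG : T ⊆ gen a l
  hne : T.Nonempty
  hind : LinIndepZ T

instance [Finite ι] : Finite (Idx m gen) := by
  classical
  let f : Idx m gen → Σ a : ι, Σ l : Fin (m a), {T : Finset (Fin N → ℤ) // T ∈ (gen a l).powerset} :=
    fun i => ⟨i.a, i.l, i.T, Finset.mem_powerset.mpr i.hTG⟩
  apply Finite.of_injective f
  rintro ⟨a, l, T, h1, h2, h3⟩ ⟨a', l', T', h1', h2', h3'⟩ h
  simp only [f] at h
  cases h
  rfl

variable {m gen}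

/-- the dimension of the cone of an index -/
def Idx.n (i : Idx m gen) : ICone := ⟨⟨i.T.card, Finset.card_pos.mpr i.hne⟩⟩

variable (hgen : ∀ a, K a = ⋃ l, rcone (gen a l))

/-- the cone of an index -/
noncomputable def Idx.cone (i : Idx m gen) : RFan.Cone K i.n :=
  ⟨linT i.T, linT_injective i.T i.hind, i.a, fun v hv => by
    rw [hgen i.a]
    refine Set.mem_iUnion.mpr ⟨i.l, rcone_mono i.hTG ?_⟩
    rw [rcone_eq_image]
    exact ⟨fun k => (v k : ℝ), fun k => Int.cast_nonneg (hv k), ext_cast (linT i.T) v⟩⟩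

include hgen in
lemma cover (w : Fin N → ℝ) (hw0 : w ≠ 0) (hw : w ∈ Set.iUnion K) :
    ∃ (i : Idx m gen) (u : Fan.Orth i.n), RFan.toVec K i.n (i.cone K hgen) u.1 = w := by
  obtain ⟨a, hwa⟩ := Set.mem_iUnion.mp hw
  rw [hgen a] at hwa
  obtain ⟨l, hwl⟩ := Set.mem_iUnion.mp hwa
  obtain ⟨T, hTG, hne, hind, hwT⟩ := cara' _ w hwl hw0
  rw [rcone_eq_image] at hwT
  obtain ⟨v, hv, hvw⟩ := hwT
  have hv0 : v ≠ 0 := by
    rintro rfl
    apply hw0
    rw [← hvw, ext_zero]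
  exact ⟨⟨a, l, T, hTG, hne, hind⟩, ⟨v, hv, hv0⟩, hvw⟩

include hgen in
lemma isClosed_K (a : ι) : IsClosed (K a) := by
  rw [hgen a]
  exact isClosed_iUnion_of_finite fun l => isClosed_rcone _

include hgen in
lemma smul_mem_K (a : ι) (x : Fin N → ℝ) (hx : x ∈ K a) (t : ℝ) (ht : 0 < t) : t • x ∈ K a := by
  rw [hgen a] at hx ⊢
  obtain ⟨l, hl⟩ := Set.mem_iUnion.mp hx
  exact Set.mem_iUnion.mpr ⟨l, smul_mem_rcone _ x hl t ht.le⟩

include hgen in
lemma isClosedMap_g [Finite ι] : IsClosedMap (g K) := by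
  intro A hA
  have hq : IsClosed (Quot.mk (fun v w : {v : Fin N → ℝ // v ≠ 0} => ∃ c : ℝ, 0 < c ∧ w.1 = c • v.1) ⁻¹'
      (g K '' A)) := by
    have : Quot.mk (fun v w : {v : Fin N → ℝ // v ≠ 0} => ∃ c : ℝ, 0 < c ∧ w.1 = c • v.1) ⁻¹'
        (g K '' A) = ⋃ i : Idx m gen, {w : {w : Fin N → ℝ // w ≠ 0} | ∃ (u : Fan.Orth i.n) (c : ℝ),
          0 < c ∧ Fan.P.mk (F := RFan K) (i.cone K hgen) u ∈ A ∧
            w.1 = c • RFan.toVec K i.n (i.cone K hgen) u.1} := by
      ext w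
      constructor
      · rintro ⟨x, hxA, hxw⟩
        induction x using Quot.ind with | mk p =>
        obtain ⟨⟨n, φ⟩, v⟩ := p
        have hxw' : (Quot.mk _ ⟨RFan.toVec K n φ v.1, toVec_ne_zero K n φ v⟩ : Fan.Rays N) =
            Quot.mk _ w := hxw
        obtain ⟨c, hc, hcw⟩ := (rays_eq_iff _ _).mp hxw'
        have hwK : w.1 ∈ Set.iUnion K := by
          have h1 := toVec_mem K (isClosed_K K hgen) (smul_mem_K K hgen) n φ v
          obtain ⟨a, ha⟩ := Set.mem_iUnion.mp h1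
          rw [hcw]
          exact Set.mem_iUnion.mpr ⟨a, smul_mem_K K hgen a _ ha c hc⟩
        obtain ⟨i, u, hu⟩ := cover K hgen w.1 w.2 hwK
        refine Set.mem_iUnion.mpr ⟨i, u, 1, one_pos, ?_, by rw [one_smul]; exact hu.symm⟩
        have hg : g K (Fan.P.mk (F := RFan K) (i.cone K hgen) u) =
            g K (Quot.mk _ ⟨⟨n, φ⟩, v⟩) := by
          rw [hxw, g_mk]
          congr 1
          exact Subtype.ext hu
        rw [g_injective K hg]
        exact hxA
      · intro hw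
        obtain ⟨i, u, c, hc, huA, hwu⟩ := Set.mem_iUnion.mp hw
        refine ⟨_, huA, ?_⟩
        rw [g_mk]
        exact (rays_eq_iff _ _).mpr ⟨c, hc, hwu⟩
    rw [this]
    exact isClosed_iUnion_of_finite fun i => isClosed_C K _ _ A hA
  exact isQuotientMap_quot_mk.isClosed_preimage.mp hq

end cover

end helpers

theorem main {N : ℕ} {ι : Type} [Finite ι] (K : ι → Set (Fin N → ℝ))
    (hK : ∀ a, ∃ (m : ℕ) (gen : Fin m → Finset (Fin N → ℤ)),
      K a = Set.iUnion fun l => {x | ∃ c : (Fin N → ℤ) → ℝ, (∀ g, 0 ≤ c g) ∧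
        x = Finset.sum (gen l) fun g => c g • fun j => (g j : ℝ)}) :
    ∃ g : Fan.P (RFan K) → Fan.Rays N,
      (∀ (n : ICone) (φ : (RFan K).obj (op n)) (v : Fan.Orth n) (h : RFan.toVec K n φ v.1 ≠ 0),
        g (Fan.P.mk φ v) = Quot.mk _ ⟨RFan.toVec K n φ v.1, h⟩) ∧
      Topology.IsEmbedding g ∧
      Set.range g = {r | ∃ w : {w : Fin N → ℝ // w ≠ 0}, r = Quot.mk _ w ∧ w.1 ∈ Set.iUnion K} := by
  classical
  choose m gen hgen0 using hK
  have hgen : ∀ a, K a = ⋃ l, rcone (gen a l) := hgen0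
  refine ⟨g K, fun n φ v h => rfl, ?_, ?_⟩
  · exact (Topology.IsClosedEmbedding.of_continuous_injective_isClosedMap (continuous_g K)
      (g_injective K) (isClosedMap_g K hgen)).isEmbedding
  · ext r
    constructor
    · rintro ⟨x, rfl⟩
      induction x using Quot.ind with | mk p =>
      obtain ⟨⟨n, φ⟩, v⟩ := p
      exact ⟨⟨RFan.toVec K n φ v.1, toVec_ne_zero K n φ v⟩, rfl,
        toVec_mem K (isClosed_K K hgen) (smul_mem_K K hgen) n φ v⟩
    · rintro ⟨w, rfl, hw⟩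
      obtain ⟨i, u, hu⟩ := cover K hgen w.1 w.2 hw
      refine ⟨Fan.P.mk (F := RFan K) (i.cone K hgen) u, ?_⟩
      rw [g_mk]
      congr 1
      exact Subtype.ext hu



/-- Let K a ⊆ ℝ^N, for a in a finite index type, be cones, each expressible as finitely many rational
polyhedral cones put together (nonnegative real spans of finite sets of integer vectors). Then the
canonical map from the projective realization of the formal fan R(K) to the space of rays of ℝ^N (a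
model of the sphere), sending the point given by a cone φ and a vector v to the ray of φ v, is a
homeomorphism onto the rays through ⋃ K a: it is a topological embedding with that image. (The
published lemma also asserts that the affine realization of R(K), defined as a colimit over the
category of cones of R(K), maps homeomorphically onto ⋃ K a; that fails at the cone point, since for
the pair of coordinate rays of ℝ^2 the colimit has two origins and for ⋃ K a = 0 it is empty, and it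
is not stated here.) -/
theorem result {N : ℕ} {ι : Type} [Finite ι] (K : ι → Set (Fin N → ℝ))
    (hK : ∀ a, ∃ (m : ℕ) (gen : Fin m → Finset (Fin N → ℤ)),
      K a = Set.iUnion fun l => {x | ∃ c : (Fin N → ℤ) → ℝ, (∀ g, 0 ≤ c g) ∧
        x = Finset.sum (gen l) fun g => c g • fun j => (g j : ℝ)}) :
    ∃ g : Fan.P (RFan K) → Fan.Rays N,
      (∀ (n : ICone) (φ : (RFan K).obj (op n)) (v : Fan.Orth n) (h : RFan.toVec K n φ v.1 ≠ 0),
        g (Fan.P.mk φ v) = Quot.mk _ ⟨RFan.toVec K n φ v.1, h⟩) ∧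
      Topology.IsEmbedding g ∧
      Set.range g = {r | ∃ w : {w : Fin N → ℝ // w ≠ 0}, r = Quot.mk _ w ∧ w.1 ∈ Set.iUnion K} := by
  exact main K hK

end Groth.Agent.S19372
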