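import Groth.Statements.S19374
import Mathlib
import Groth.Agent.Lib.Helper19.Fan

set_option autoImplicit false
universe u
open CategoryTheory Opposite Instab
open Instab Instab.Fan

namespace Groth.Agent.S19374

/-- Let F be a formal fan and U ⊆ P F. Then U is locally convex in the simplex-wise sense — for every
rational simplex, a ray lying strictly between two rays that map into U also maps into U — if and
only if, for every n-cone ξ of F, the set of nonzero nonnegative vectors v of ℝ^n whose point of the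
rational simplex of ξ lies in U is a convex subset of ℝ^n (convexity of the preimage of U in each
punctured cone of the affine realization). -/
theorem result (F : Fan.{u}) (U : Set (Fan.P F)) :
    Fan.IsLocallyConvex U ↔
      ∀ (n : ICone) (ξ : F.obj (op n)),
        Convex ℝ {v : Fin n.dim → ℝ | ∃ h : (∀ i, 0 ≤ v i) ∧ v ≠ 0, Fan.P.mk ξ (⟨v, h⟩ : Fan.Orth n) ∈ U} := by
  constructor
  · intro hU n ξ v hv w hw a b ha hb hab
    obtain ⟨hv1, hvU⟩ := hv
    obtain ⟨hw1, hwU⟩ := hw
    have hnn : ∀ i, 0 ≤ (a • v + b • w) i := by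
      intro i
      simp only [Pi.add_apply, Pi.smul_apply, smul_eq_mul]
      exact add_nonneg (mul_nonneg ha (hv1.1 i)) (mul_nonneg hb (hw1.1 i))
    rcases eq_or_lt_of_le ha with ha0 | ha0
    · have hb1 : b = 1 := by rw [← ha0] at hab; simpa using hab
      have e : a • v + b • w = w := by rw [← ha0, hb1]; simp
      rw [e]
      exact ⟨hw1, hwU⟩
    rcases eq_or_lt_of_le hb with hb0 | hb0
    · have ha1 : a = 1 := by rw [← hb0] at hab; simpa using hab
      have e : a • v + b • w = v := by rw [← hb0, ha1]; simp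
      rw [e]
      exact ⟨hv1, hvU⟩
    have hne : a • v + b • w ≠ 0 := by
      intro h0
      apply hv1.2
      funext i
      have hi := congr_fun h0 i
      simp only [Pi.add_apply, Pi.smul_apply, smul_eq_mul, Pi.zero_apply] at hi
      have h1 : 0 ≤ a * v i := mul_nonneg ha (hv1.1 i)
      have h2 : 0 ≤ b * w i := mul_nonneg hb (hw1.1 i)
      have h3 : a * v i = 0 := by linarith
      rcases mul_eq_zero.1 h3 with h4 | h4
      · exact absurd h4 ha0.ne'
      · exact h4
    refine ⟨⟨hnn, hne⟩, ?_⟩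
    exact hU n ξ ⟨v, hv1⟩ ⟨a • v + b • w, hnn, hne⟩ ⟨w, hw1⟩ hvU hwU ⟨a, b, ha0, hb0, rfl⟩
  · intro hC n ξ v₀ v₁ v₂ h₀ h₂ hseg
    obtain ⟨a, b, ha, hb, hab⟩ := hseg
    have hs : 0 < a + b := add_pos ha hb
    have hmem := hC n ξ (x := v₀.1) ⟨v₀.2, h₀⟩ (y := v₂.1) ⟨v₂.2, h₂⟩
      (a := a / (a + b)) (b := b / (a + b)) (div_nonneg ha.le hs.le) (div_nonneg hb.le hs.le)
      (by field_simp)
    obtain ⟨hw1, hwU⟩ := hmem
    have hsm : v₁.1 = (a + b) • ((a / (a + b)) • v₀.1 + (b / (a + b)) • v₂.1) := by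
      rw [hab, smul_add, smul_smul, smul_smul]
      congr 2 <;> field_simp
    rw [Groth.Agent.Lib.helper19.P_mk_smul ξ ⟨_, hw1⟩ v₁ (a + b) hs hsm] at hwU
    exact hwU

end Groth.Agent.S19374
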