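import Groth.Statements.S19375
import Groth.Agent.Lib.Helper24.ZarCpl2

set_option autoImplicit false
universe u
open EGA4

namespace Groth.Agent.S19375

/-- Let A be a Noetherian ring, J a proper ideal of A, Â the J-adic completion of A and A_T the
localization of A at the multiplicative set T = 1 + J (the elements congruent to 1 modulo J). Assume
that the canonical map A → Â is a normal homomorphism (flat, with geometrically normal fibres), as
happens when A is excellent. Then Â is an integrally closed domain if and only if A_T is an
integrally closed domain and the spectrum of A/J is connected. (The published statement asserts the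
equivalence of the first two conditions alone; for A = ℤ and J = 6ℤ the localization A_T is an
integrally closed domain while Â ≅ ℤ_2 × ℤ_3 is not a domain, and the published proof tacitly uses
that Spec Â, whose connected components correspond to those of Spec(A/J), is connected. The case of
the henselization of the pair and of the weak completion is not stated here.) -/
theorem result
    (A : Type u) [CommRing A] [IsNoetherianRing A] (J : Ideal A) (hJ : J ≠ ⊤)
    (hf : EGA4.IsNormalHom A (AdicCompletion J A))
    (T : Submonoid A) (hT : T = MonoidHom.mker (Ideal.Quotient.mk J)) :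
    (IsDomain (AdicCompletion J A) ∧ IsIntegrallyClosed (AdicCompletion J A)) ↔
      ((IsDomain (Localization T) ∧ IsIntegrallyClosed (Localization T)) ∧
        ConnectedSpace (PrimeSpectrum (A ⧸ J))) := by
  subst hT
  open Groth.Agent.Lib.Helper24 in
  change (IsDomain (AdicCompletion J A) ∧ IsIntegrallyClosed (AdicCompletion J A)) ↔
    ((IsDomain (Localization (ZarCpl.T A J)) ∧ IsIntegrallyClosed (Localization (ZarCpl.T A J))) ∧
      ConnectedSpace (PrimeSpectrum (A ⧸ J)))
  haveI hnoe : IsNoetherianRing (AdicCompletion J A) :=
    Groth.Agent.S0542.result A J (IsNoetherian.noetherian J)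
  haveI hac := ZarCpl.isAdicComplete_cpl A J
  haveI hff := ZarCpl.faithfullyFlat A J
  have hinj : Function.Injective
      (algebraMap (Localization (ZarCpl.T A J)) (AdicCompletion J A)) :=
    FaithfulSMul.algebraMap_injective _ _
  constructor
  · rintro ⟨hd, hic⟩
    haveI := hd
    haveI := hic
    haveI hdT : IsDomain (Localization (ZarCpl.T A J)) := hinj.isDomain _
    refine ⟨⟨hdT, ?_⟩, ?_⟩
    · exact EtaleNormal.isIntegrallyClosed_of_nf _
        (EtaleNormal.nf_of_faithfullyFlat (Localization (ZarCpl.T A J)) (AdicCompletion J A)
          (EtaleNormal.nf_of_isIntegrallyClosed (AdicCompletion J A)))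
    · haveI : (⊥ : Ideal (AdicCompletion J A)).IsPrime := Ideal.isPrime_bot
      haveI h1 := Groth.Agent.S0530.result (AdicCompletion J A)
        (J.map (algebraMap A (AdicCompletion J A))) ⊥
      exact ZarCpl2.connectedSpace_of_ringEquiv
        ((Ideal.quotEquivOfEq (bot_sup_eq _)).trans (ZarCpl2.quotEquiv A J))
  · rintro ⟨⟨hd, hic⟩, hconn⟩
    haveI := hd
    haveI := hic
    haveI := hconn
    have hnT := NormalAscent.isNormalRing_of_isIntegrallyClosed (Localization (ZarCpl.T A J))
    have hn : EGA4.IsNormalRing (AdicCompletion J A) := (ZarCpl.isNormalRing_iff hf).1 hnT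
    haveI : ConnectedSpace (PrimeSpectrum
        (AdicCompletion J A ⧸ J.map (algebraMap A (AdicCompletion J A)))) :=
      ZarCpl2.connectedSpace_of_ringEquiv (ZarCpl2.quotEquiv A J).symm
    haveI : ConnectedSpace (PrimeSpectrum (AdicCompletion J A)) :=
      ZarCpl2.connectedSpace_of_le_jacobson (J.map (algebraMap A (AdicCompletion J A)))
        (IsAdicComplete.le_jacobson_bot _)
    haveI hdom : IsDomain (AdicCompletion J A) :=
      ZarCpl2.isDomain_of_connected_of_localization (AdicCompletion J A)
        (fun p _ => (hn p).1)
    exact ⟨hdom, ZarCpl2.isIntegrallyClosed_of_isNormalRing _ hn⟩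

end Groth.Agent.S19375
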