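import Groth.Statements.S19383
import Mathlib

set_option autoImplicit false
universe u
open CAlg

namespace Groth.Agent.S19383

/-- Over a discrete valuation ring, let V be a henselian discrete valuation ring with maximal ideal 𝔪
and B a Noetherian V-algebra, B̂ its 𝔪B-adic completion. Then B is flat over V if and only if B̂ is
flat over V. (The published lemma takes V an excellent normal ring with an ideal I such that (V,
V/I) is a henselian pair and B of finite type; in that generality it fails: for V = ℤ_p[[x]], I =
(p) and B = V[y]/(x, py − 1) ≅ ℚ_p one has IB = B, so B̂ = 0 is flat while B is not flat over V.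
Over a discrete valuation ring flatness is torsion-freeness and the statement holds for every
Noetherian B.) -/
theorem result
    (V : Type u) [CommRing V] [IsDomain V] [IsDiscreteValuationRing V] [HenselianLocalRing V]
    (B : Type u) [CommRing B] [Algebra V B] [IsNoetherianRing B] :
    Module.Flat V B ↔
      Module.Flat V (AdicCompletion ((IsLocalRing.maximalIdeal V).map (algebraMap V B)) B) := by
  constructor
  · intro hflat
    exact Module.Flat.trans V B _
  · intro hflat
    have htf : Module.IsTorsionFree V
        (AdicCompletion ((IsLocalRing.maximalIdeal V).map (algebraMap V B)) B) := inferInstance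
    obtain ⟨ϖ, hϖ⟩ := IsDiscreteValuationRing.exists_irreducible V
    have hI : (IsLocalRing.maximalIdeal V).map (algebraMap V B) =
        Ideal.span {algebraMap V B ϖ} := by
      rw [hϖ.maximalIdeal_eq, Ideal.map_span, Set.image_singleton]
    have key : ∀ (r : V) (b : B), r ≠ 0 → r • b = 0 → b = 0 := by
      intro r b hr hrb
      -- image in the completion vanishes
      have h1 : r • AdicCompletion.of ((IsLocalRing.maximalIdeal V).map (algebraMap V B)) B b = 0 := by
        have : AdicCompletion.of ((IsLocalRing.maximalIdeal V).map (algebraMap V B)) B (r • b) = 0 := by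
          rw [hrb, map_zero]
        rw [← this]
        apply AdicCompletion.ext
        intro n
        rw [AdicCompletion.val_smul_apply]
        simp only [AdicCompletion.of_apply, Submodule.mkQ_apply]
        rfl
      have hreg : IsRegular r := IsRegular.of_ne_zero hr
      have h2 : AdicCompletion.of ((IsLocalRing.maximalIdeal V).map (algebraMap V B)) B b = 0 := by
        apply htf.isSMulRegular hreg
        change r • _ = r • 0
        rw [smul_zero]
        exact h1
      have h3 : b ∈ (⨅ i : ℕ, ((IsLocalRing.maximalIdeal V).map (algebraMap V B)) ^ i • ⊤ :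
          Submodule B B) := by
        rw [Submodule.mem_iInf]
        intro n
        have := congrArg (fun f => f.val n) h2
        simp only [AdicCompletion.of_apply, AdicCompletion.val_zero_apply] at this
        rwa [Submodule.mkQ_apply, Submodule.Quotient.mk_eq_zero] at this
      obtain ⟨⟨c, hc⟩, hcb⟩ := (Ideal.mem_iInf_smul_pow_eq_bot_iff _ b).1 h3
      rw [hI, Ideal.mem_span_singleton] at hc
      obtain ⟨c', rfl⟩ := hc
      simp only [smul_eq_mul] at hcb
      obtain ⟨k, u, rfl⟩ := IsDiscreteValuationRing.eq_unit_mul_pow_irreducible hr hϖ
      have h4 : (algebraMap V B ϖ) ^ k * b = 0 := by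
        have h5 : (algebraMap V B (u : V)) * ((algebraMap V B ϖ) ^ k * b) = 0 := by
          rw [← mul_assoc, ← map_pow, ← map_mul, ← Algebra.smul_def]
          exact hrb
        have hu : IsUnit (algebraMap V B (u : V)) := (u.isUnit).map _
        exact (hu.mul_right_eq_zero).1 h5
      have h6 : ∀ j : ℕ, b = (algebraMap V B ϖ) ^ j * (c' ^ j * b) := by
        intro j
        induction j with
        | zero => simp
        | succ j ih =>
          calc b = (algebraMap V B ϖ) ^ j * (c' ^ j * b) := ih
            _ = (algebraMap V B ϖ) ^ j * (c' ^ j * (algebraMap V B ϖ * c' * b)) := by rw [hcb]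
            _ = (algebraMap V B ϖ) ^ (j + 1) * (c' ^ (j + 1) * b) := by ring
      rw [h6 k]
      calc (algebraMap V B ϖ) ^ k * (c' ^ k * b) = c' ^ k * ((algebraMap V B ϖ) ^ k * b) := by ring
        _ = 0 := by rw [h4, mul_zero]
    have htfB : Module.IsTorsionFree V B := by
      refine ⟨fun r hr b₁ b₂ h => ?_⟩
      have hr0 : r ≠ 0 := hr.ne_zero
      have : r • (b₁ - b₂) = 0 := by
        rw [smul_sub]
        exact sub_eq_zero.2 h
      exact sub_eq_zero.1 (key r _ hr0 this)
    infer_instance

end Groth.Agent.S19383
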