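import Groth.Statements.S1939
import Groth.Agent.Lib.Helper16.CycFlat4
import Groth.Agent.Lib.Helper16.GenFib
import Groth.Agent.Lib.Helper3.FibreDimBC

set_option autoImplicit false
universe u
open CategoryTheory AlgebraicGeometry
open CategoryTheory.Limits
open Cyc

namespace Groth.Agent.S1939

open Groth.Agent.Lib.helper16.GenFib Groth.Agent.Lib.helper17.FibreStalk
  Groth.Agent.Lib.helper3.FibreDimBC

/-- fibrewise version of helper3's `maximal_image_of_isPullback`. -/
theorem generic_image_of_isPullback {X Y X' Y' : Scheme.{u}} (f : X ⟶ Y) (g : Y' ⟶ Y)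
    (g' : X' ⟶ X) (f' : X' ⟶ Y') (hsq : IsPullback g' f' f g) (ξ' : X')
    (hmax' : ∀ ω' : X', ω' ⤳ ξ' → ω' = ξ') :
    ∀ ω' : Y', g ω' = g (f' ξ') → ω' ⤳ f' ξ' → ω' = f' ξ' := by
  intro ω' hgω hω'
  set η := g (f' ξ') with hηdef
  have big : IsPullback (pullback.fst f' (g.fiberι η) ≫ g') (pullback.snd f' (g.fiberι η)) f
      (g.fiberι η ≫ g) :=
    (IsPullback.of_hasPullback f' (g.fiberι η)).paste_horiz hsq
  have hcond : g.fiberι η ≫ g = g.fiberToSpecResidueField η ≫ Y.fromSpecResidueField η :=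
    pullback.condition
  rw [hcond] at big
  let h₁₁ : pullback f' (g.fiberι η) ⟶ f.fiber η :=
    pullback.lift (pullback.fst f' (g.fiberι η) ≫ g')
      (pullback.snd f' (g.fiberι η) ≫ g.fiberToSpecResidueField η)
      (by rw [Category.assoc]; exact big.w)
  have h₁₁fst : h₁₁ ≫ f.fiberι η = pullback.fst f' (g.fiberι η) ≫ g' := pullback.lift_fst _ _ _
  have h₁₁snd : h₁₁ ≫ f.fiberToSpecResidueField η =
      pullback.snd f' (g.fiberι η) ≫ g.fiberToSpecResidueField η := pullback.lift_snd _ _ _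
  have left : IsPullback h₁₁ (pullback.snd f' (g.fiberι η)) (f.fiberToSpecResidueField η)
      (g.fiberToSpecResidueField η) := by
    refine IsPullback.of_right ?_ h₁₁snd (IsPullback.of_hasPullback f (Y.fromSpecResidueField η))
    rw [show h₁₁ ≫ pullback.fst f (Y.fromSpecResidueField η) = _ from h₁₁fst]
    exact big
  haveI : Flat (f.fiberToSpecResidueField η) := inferInstance
  haveI : Flat (pullback.snd f' (g.fiberι η)) :=
    MorphismProperty.of_isPullback (P := @Flat) left inferInstance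
  have hgen : GeneralizingMap (pullback.snd f' (g.fiberι η)) := Flat.generalizingMap _
  have hξ'mem : ξ' ∈ Set.range (pullback.fst f' (g.fiberι η)) := by
    rw [Scheme.Pullback.range_fst, Scheme.Hom.range_fiberι]
    exact rfl
  obtain ⟨w, hw⟩ := hξ'mem
  obtain ⟨t'', ht''⟩ : ω' ∈ Set.range (g.fiberι η) := by
    rw [Scheme.Hom.range_fiberι]; exact hgω
  have hcondW : ∀ w₀ : ↥(pullback f' (g.fiberι η)),
      g.fiberι η (pullback.snd f' (g.fiberι η) w₀) = f' (pullback.fst f' (g.fiberι η) w₀) := by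
    intro w₀
    rw [← Scheme.Hom.comp_apply, ← pullback.condition, Scheme.Hom.comp_apply]
  have hsp : t'' ⤳ pullback.snd f' (g.fiberι η) w := by
    rw [← (g.fiberι η).isEmbedding.isInducing.specializes_iff, ht'', hcondW, hw]
    exact hω'
  obtain ⟨w'', hw''sp, hw''⟩ := hgen hsp
  have h1 : pullback.fst f' (g.fiberι η) w'' = ξ' :=
    hmax' _ (hw ▸ hw''sp.map (pullback.fst f' (g.fiberι η)).continuous)
  calc ω' = g.fiberι η t'' := ht''.symm
    _ = g.fiberι η (pullback.snd f' (g.fiberι η) w'') := by rw [hw'']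
    _ = f' (pullback.fst f' (g.fiberι η) w'') := hcondW w''
    _ = f' ξ' := by rw [h1]

/-- at a maximal point, the fibre dimension is the transcendence degree. -/
theorem fibreDimAt_eq_td_of_maximal {X Y : Scheme.{u}} (f : X ⟶ Y) [LocallyOfFiniteType f]
    (x : X) (hx : ∀ y : X, y ⤳ x → y = x) :
    ∃ n : ℕ, Groth.Agent.Lib.helper3.DimIneq.td (f.residueFieldMap x).hom = (n : Cardinal.{u}) ∧
      FlatMor.fibreDimAt f x = ((n : ℕ) : WithBot ℕ∞) := by
  obtain ⟨a, b, ha, hb, hab⟩ := Groth.Agent.Lib.helper3.DimFibre.fibreDimAt_eq_add f x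
  have hgenfib : IsGenFib f x := fun z _ hz => hx z hz
  haveI := krullDimLE_zero_fibRing_of_generic f x hgenfib
  have h0 : ringKrullDim (FibRing f x) ≤ 0 := Ring.krullDimLE_iff.mp inferInstance
  rw [Groth.Agent.Lib.helper17.FibreDim.dim_fibRing, hb] at h0
  have hb0 : b = 0 := by
    have : ((b : ℕ∞) : WithBot ℕ∞) ≤ ((0 : ℕ∞) : WithBot ℕ∞) := by exact_mod_cast h0
    have := WithBot.coe_le_coe.mp this
    have h3 : b ≤ 0 := by exact_mod_cast this
    omega
  subst hb0
  exact ⟨a, ha, by simpa using hab⟩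

theorem result (S S' X : Scheme.{u}) (δS : S → ℤ) (δS' : S' → ℤ) (hS : Cyc.IsSetup S δS) (hS' : Cyc.IsSetup S' δS') (g : S' ⟶ S) [Flat g] (c : ℤ) (hc : ∀ s' : S', (∀ y, g y = g s' → y ⤳ s' → y = s') → δS' s' = δS (g s') + c) (a : X ⟶ S) [LocallyOfFiniteType a] [IsIntegral X] (δX : X → ℤ) (hX : Cyc.DeltaCompat a δX δS) (δX' : ↥(pullback a g) → ℤ) (hX' : Cyc.DeltaCompat (pullback.snd a g) δX' δS') (k : ℤ) (hk : δX (genericPoint X) = k) (x' : ↥(pullback a g)) (hx' : ∀ y : ↥(pullback a g), y ⤳ x' → y = x') : δX' x' = k + c := by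
  have hsq : IsPullback (pullback.fst a g) (pullback.snd a g) a g := IsPullback.of_hasPullback a g
  -- x' maps to the generic point of X
  have hgen : GeneralizingMap (pullback.fst a g) := Flat.generalizingMap _
  have hξ : pullback.fst a g x' = genericPoint X := by
    obtain ⟨y', hy', hy''⟩ := hgen (genericPoint_specializes (pullback.fst a g x'))
    rw [← hy'', hx' y' hy']
  -- s' is generic in its fibre
  have hs' := generic_image_of_isPullback a g _ _ hsq x' hx'
  have h1 := hc _ hs'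
  -- transcendence degrees
  obtain ⟨n', hn', hd'⟩ := fibreDimAt_eq_td_of_maximal (pullback.snd a g) x' hx'
  obtain ⟨n, hn, hd⟩ := fibreDimAt_eq_td_of_maximal a (genericPoint X)
    (fun y hy => ((genericPoint_specializes y).antisymm hy).eq.symm)
  have hbc := fibreDimAt_eq_of_isPullback a g _ _ hsq x'
  rw [hξ, hd, hd'] at hbc
  have hnn : n' = n := by exact_mod_cast hbc
  obtain ⟨m', hm', hδ'⟩ := hX' x'
  obtain ⟨m, hm, hδ⟩ := hX (genericPoint X)
  have e1 : (m' : Cardinal.{u}) = n' := hm'.symm.trans hn'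
  have e2 : (m : Cardinal.{u}) = n := hm.symm.trans hn
  have e1' : m' = n' := by exact_mod_cast e1
  have e2' : m = n := by exact_mod_cast e2
  have hw : a (genericPoint X) = g (pullback.snd a g x') := by
    rw [← hξ, ← Scheme.Hom.comp_apply, pullback.condition, Scheme.Hom.comp_apply]
  rw [hw] at hδ
  rw [hδ', h1, ← hk, hδ, e1', e2', hnn]
  ring

end Groth.Agent.S1939
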