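import Groth.Statements.S19390
import Mathlib
-- import your own Groth.Agent.* helpers here

set_option autoImplicit false
universe u
open GIT

namespace Groth.Agent.S19390

/-- the permutation of positions: 3-cycle (0 e 2e) and swaps p ↔ p+e -/
def tauN (e : ℕ) (q : ℕ) : ℕ :=
  if q = 0 then e else if q = e then 2 * e else if q = 2 * e then 0 else if q < e then q + e else q - e

lemma tauN_le (e : ℕ) (he : 1 ≤ e) (q : ℕ) (hq : q ≤ 2 * e) : tauN e q ≤ 2 * e := by
  unfold tauN; split_ifs <;> omega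

lemma tauN_inj (e : ℕ) (he : 1 ≤ e) (q q' : ℕ) (hq : q ≤ 2 * e) (hq' : q' ≤ 2 * e)
    (h : tauN e q = tauN e q') : q = q' := by
  unfold tauN at h; split_ifs at h <;> omega

lemma tauN_far (e : ℕ) (he : 1 ≤ e) (q : ℕ) (hq : q ≤ 2 * e) :
    q + e ≤ tauN e q ∨ tauN e q + e ≤ q := by
  unfold tauN; split_ifs <;> omega

lemma card_filter_eq_one {n : ℕ} (i : Fin n → Fin n) (hi : Function.Bijective i) (m : Fin n) :
    (Finset.univ.filter fun k => i k = m).card = 1 := by
  obtain ⟨k₀, hk₀⟩ := hi.2 m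
  have : (Finset.univ.filter fun k => i k = m) = {k₀} := by
    ext k
    simp only [Finset.mem_filter, Finset.mem_univ, true_and, Finset.mem_singleton]
    constructor
    · intro hk; exact hi.1 (hk.trans hk₀.symm)
    · rintro rfl; exact hk₀
  rw [this, Finset.card_singleton]

/-- Let e ≥ 1, n = 2e + 1, and let x_1, …, x_n be points such that no point occurs more than e times
among them (the stability condition for n ordered points on a line, n odd). Then there are index
sequences i_1, …, i_n and j_1, …, j_n in which every index between 1 and n occurs exactly twice in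
total, such that x_{i_k} ≠ x_{j_k} for every k and (i_1, i_2, i_3) = (j_3, j_1, j_2). Indices are
written 0, …, n − 1 here. -/
theorem result {α : Type u} [DecidableEq α] (e : ℕ) (he : 1 ≤ e)
    (x : Fin (2 * e + 1) → α)
    (hx : ∀ a : α, (Finset.univ.filter fun k => x k = a).card ≤ e) :
    ∃ i j : Fin (2 * e + 1) → Fin (2 * e + 1),
      (∀ m : Fin (2 * e + 1),
        (Finset.univ.filter fun k => i k = m).card + (Finset.univ.filter fun k => j k = m).card = 2) ∧
      (∀ k, x (i k) ≠ x (j k)) ∧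
      i 0 = j 2 ∧ i 1 = j 0 ∧ i 2 = j 1 := by
  classical
  have hcount : ∀ (a : α) (s : Finset (Fin (2 * e + 1))), (∀ k ∈ s, x k = a) → s.card ≤ e := by
    intro a s hs
    refine le_trans (Finset.card_le_card ?_) (hx a)
    intro k hk
    rw [Finset.mem_filter]
    exact ⟨Finset.mem_univ _, hs k hk⟩
  letI : LinearOrder α := IsWellOrder.linearOrder WellOrderingRel
  set σ := Tuple.sort x with hσ
  have hmono : Monotone (x ∘ σ) := Tuple.monotone_sort x
  -- far positions have different values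
  have hfar : ∀ q q' : Fin (2 * e + 1), q.val + e ≤ q'.val → x (σ q) ≠ x (σ q') := by
    intro q q' hqq' heq
    have hall : ∀ k ∈ (Finset.Icc q q').image σ, x k = x (σ q) := by
      intro k hk
      obtain ⟨r, hr, rfl⟩ := Finset.mem_image.1 hk
      rw [Finset.mem_Icc] at hr
      have h1 : x (σ q) ≤ x (σ r) := hmono hr.1
      have h2 : x (σ r) ≤ x (σ q') := hmono hr.2
      rw [← heq] at h2
      exact le_antisymm h2 h1
    have hc := hcount _ _ hall
    rw [Finset.card_image_of_injective _ σ.injective, Fin.card_Icc] at hc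
    omega
  -- the permutation f with f 0 = 0, f 1 = e, f 2 = 2e
  let P0 : Fin (2 * e + 1) := ⟨0, by omega⟩
  let P1 : Fin (2 * e + 1) := ⟨1, by omega⟩
  let P2 : Fin (2 * e + 1) := ⟨2, by omega⟩
  let Pe : Fin (2 * e + 1) := ⟨e, by omega⟩
  let P2e : Fin (2 * e + 1) := ⟨2 * e, by omega⟩
  have h0 : (0 : Fin (2 * e + 1)) = P0 := by
    apply Fin.ext; simp [P0]
  have h1 : (1 : Fin (2 * e + 1)) = P1 := by
    apply Fin.ext
    show (1 : Fin (2 * e + 1)).val = 1
    rw [Fin.val_one']
    exact Nat.mod_eq_of_lt (by omega)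
  have h2 : (2 : Fin (2 * e + 1)) = P2 := by
    apply Fin.ext
    show (2 : Fin (2 * e + 1)).val = 2
    rw [Fin.coe_ofNat_eq_mod]
    exact Nat.mod_eq_of_lt (by omega)
  let f : Equiv.Perm (Fin (2 * e + 1)) := Equiv.swap P1 Pe * Equiv.swap P2 P2e
  have mkne : ∀ (a b : ℕ) (ha : a < 2 * e + 1) (hb : b < 2 * e + 1), a ≠ b →
      (⟨a, ha⟩ : Fin (2 * e + 1)) ≠ ⟨b, hb⟩ := fun a b ha hb hab h' => hab (Fin.mk.inj_iff.1 h')
  have n02 : P0 ≠ P2 := mkne _ _ _ _ (by omega)
  have n02e : P0 ≠ P2e := mkne _ _ _ _ (by omega)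
  have n01 : P0 ≠ P1 := mkne _ _ _ _ (by omega)
  have n0e : P0 ≠ Pe := mkne _ _ _ _ (by omega)
  have n12 : P1 ≠ P2 := mkne _ _ _ _ (by omega)
  have n12e : P1 ≠ P2e := mkne _ _ _ _ (by omega)
  have n2e1 : P2e ≠ P1 := mkne _ _ _ _ (by omega)
  have n2ee : P2e ≠ Pe := mkne _ _ _ _ (by omega)
  have hf0 : f P0 = P0 := by
    show Equiv.swap P1 Pe (Equiv.swap P2 P2e P0) = P0
    rw [Equiv.swap_apply_of_ne_of_ne n02 n02e, Equiv.swap_apply_of_ne_of_ne n01 n0e]
  have hf1 : f P1 = Pe := by
    show Equiv.swap P1 Pe (Equiv.swap P2 P2e P1) = Pe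
    rw [Equiv.swap_apply_of_ne_of_ne n12 n12e, Equiv.swap_apply_left]
  have hf2 : f P2 = P2e := by
    show Equiv.swap P1 Pe (Equiv.swap P2 P2e P2) = P2e
    rw [Equiv.swap_apply_left, Equiv.swap_apply_of_ne_of_ne n2e1 n2ee]
  -- τ on Fin
  let τ : Fin (2 * e + 1) → Fin (2 * e + 1) := fun q =>
    ⟨tauN e q.val, Nat.lt_succ_of_le (tauN_le e he q.val (Nat.lt_succ_iff.1 q.2))⟩
  have hτinj : Function.Injective τ := by
    intro q q' h
    apply Fin.ext
    exact tauN_inj e he q.val q'.val (Nat.lt_succ_iff.1 q.2) (Nat.lt_succ_iff.1 q'.2)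
      (congrArg Fin.val h)
  have hτbij : Function.Bijective τ := Finite.injective_iff_bijective.1 hτinj
  refine ⟨fun k => σ (f k), fun k => σ (τ (f k)), ?_, ?_, ?_, ?_, ?_⟩
  · intro m
    have hi : Function.Bijective (fun k => σ (f k)) := σ.bijective.comp f.bijective
    have hj : Function.Bijective (fun k => σ (τ (f k))) :=
      σ.bijective.comp (hτbij.comp f.bijective)
    rw [card_filter_eq_one _ hi m, card_filter_eq_one _ hj m]
  · intro k
    rcases tauN_far e he (f k).val (Nat.lt_succ_iff.1 (f k).2) with h | h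
    · exact hfar (f k) (τ (f k)) h
    · exact (hfar (τ (f k)) (f k) h).symm
  · show σ (f 0) = σ (τ (f 2))
    have : τ P2e = P0 := by
      apply Fin.ext
      show tauN e (2 * e) = 0
      unfold tauN
      split_ifs <;> omega
    rw [h0, h2, hf0, hf2, this]
  · show σ (f 1) = σ (τ (f 0))
    have : τ P0 = Pe := by
      apply Fin.ext
      show tauN e 0 = e
      unfold tauN
      split_ifs <;> omega
    rw [h0, h1, hf0, hf1, this]
  · show σ (f 2) = σ (τ (f 1))
    have : τ Pe = P2e := by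
      apply Fin.ext
      show tauN e e = 2 * e
      unfold tauN
      split_ifs <;> omega
    rw [h1, h2, hf1, hf2, this]

end Groth.Agent.S19390
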