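import Groth.Statements.S19391
import Mathlib

set_option autoImplicit false
universe u
open InvQ

namespace Groth.Agent.S19391

open Polynomial in
theorem rootPoly_eq {R : Type u} [CommRing R] (la mu : Fin 4 → R) :
    W4c6intromoduli.rootPoly la mu =
      C (mu 0 * mu 1 * mu 2 * mu 3)
      + C (-(la 0 * mu 1 * mu 2 * mu 3 + mu 0 * la 1 * mu 2 * mu 3 + mu 0 * mu 1 * la 2 * mu 3
          + mu 0 * mu 1 * mu 2 * la 3)) * X
      + C (la 0 * la 1 * mu 2 * mu 3 + la 0 * mu 1 * la 2 * mu 3 + la 0 * mu 1 * mu 2 * la 3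
          + mu 0 * la 1 * la 2 * mu 3 + mu 0 * la 1 * mu 2 * la 3 + mu 0 * mu 1 * la 2 * la 3) * X ^ 2
      + C (-(la 0 * la 1 * la 2 * mu 3 + la 0 * la 1 * mu 2 * la 3 + la 0 * mu 1 * la 2 * la 3
          + mu 0 * la 1 * la 2 * la 3)) * X ^ 3
      + C (la 0 * la 1 * la 2 * la 3) * X ^ 4 := by
  simp only [W4c6intromoduli.rootPoly, Fin.prod_univ_four, map_mul, map_add, map_neg]
  ring

open Polynomial in
theorem coeff_quartic {R : Type u} [CommRing R] (e0 e1 e2 e3 e4 : R) :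
    (C e0 + C e1 * X + C e2 * X ^ 2 + C e3 * X ^ 3 + C e4 * X ^ 4 : R[X]).coeff 0 = e0 ∧
    (C e0 + C e1 * X + C e2 * X ^ 2 + C e3 * X ^ 3 + C e4 * X ^ 4 : R[X]).coeff 1 = e1 ∧
    (C e0 + C e1 * X + C e2 * X ^ 2 + C e3 * X ^ 3 + C e4 * X ^ 4 : R[X]).coeff 2 = e2 ∧
    (C e0 + C e1 * X + C e2 * X ^ 2 + C e3 * X ^ 3 + C e4 * X ^ 4 : R[X]).coeff 3 = e3 ∧
    (C e0 + C e1 * X + C e2 * X ^ 2 + C e3 * X ^ 3 + C e4 * X ^ 4 : R[X]).coeff 4 = e4 := by
  refine ⟨?_, ?_, ?_, ?_, ?_⟩ <;>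
    simp [Polynomial.coeff_X, Polynomial.coeff_X_pow, Polynomial.coeff_C_mul]

theorem coef_zero {R : Type u} [CommRing R] (la mu : Fin 4 → R) :
    W4c6intromoduli.coef la mu 0 = mu 0 * mu 1 * mu 2 * mu 3 := by
  rw [W4c6intromoduli.coef, rootPoly_eq]; exact (coeff_quartic _ _ _ _ _).1

theorem coef_one {R : Type u} [CommRing R] (la mu : Fin 4 → R) :
    W4c6intromoduli.coef la mu 1 = -(la 0 * mu 1 * mu 2 * mu 3 + mu 0 * la 1 * mu 2 * mu 3
      + mu 0 * mu 1 * la 2 * mu 3 + mu 0 * mu 1 * mu 2 * la 3) := by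
  rw [W4c6intromoduli.coef, rootPoly_eq]; exact (coeff_quartic _ _ _ _ _).2.1

theorem coef_two {R : Type u} [CommRing R] (la mu : Fin 4 → R) :
    W4c6intromoduli.coef la mu 2 = la 0 * la 1 * mu 2 * mu 3 + la 0 * mu 1 * la 2 * mu 3
      + la 0 * mu 1 * mu 2 * la 3 + mu 0 * la 1 * la 2 * mu 3 + mu 0 * la 1 * mu 2 * la 3
      + mu 0 * mu 1 * la 2 * la 3 := by
  rw [W4c6intromoduli.coef, rootPoly_eq]; exact (coeff_quartic _ _ _ _ _).2.2.1

theorem coef_three {R : Type u} [CommRing R] (la mu : Fin 4 → R) :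
    W4c6intromoduli.coef la mu 3 = -(la 0 * la 1 * la 2 * mu 3 + la 0 * la 1 * mu 2 * la 3
      + la 0 * mu 1 * la 2 * la 3 + mu 0 * la 1 * la 2 * la 3) := by
  rw [W4c6intromoduli.coef, rootPoly_eq]; exact (coeff_quartic _ _ _ _ _).2.2.2.1

theorem coef_four {R : Type u} [CommRing R] (la mu : Fin 4 → R) :
    W4c6intromoduli.coef la mu 4 = la 0 * la 1 * la 2 * la 3 := by
  rw [W4c6intromoduli.coef, rootPoly_eq]; exact (coeff_quartic _ _ _ _ _).2.2.2.2

theorem disc_eq {R : Type u} [CommRing R] (la mu : Fin 4 → R) :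
    W4c6intromoduli.disc la mu =
      (la 1 * mu 0 - la 0 * mu 1) ^ 2 * (la 2 * mu 0 - la 0 * mu 2) ^ 2 *
      (la 3 * mu 0 - la 0 * mu 3) ^ 2 * (la 2 * mu 1 - la 1 * mu 2) ^ 2 *
      (la 3 * mu 1 - la 1 * mu 3) ^ 2 * (la 3 * mu 2 - la 2 * mu 3) ^ 2 := by
  simp only [W4c6intromoduli.disc, Finset.prod_filter, Fintype.prod_prod_type, Fin.prod_univ_four]
  simp
  ring

/-- For a binary quartic written as a product of four linear forms μ_i X₀ − λ_i X₁, with coefficients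
a_0, …, a_4, the discriminant D = ∏_{i<j} (λ_j μ_i − λ_i μ_j)² is a constant multiple of P³ − 6Q²
for the two basic invariants P, Q. With the integral normalisation I = 6P = 12a₀a₄ − 3a₁a₃ + a₂², J
= 72Q = 72a₀a₂a₄ + 9a₁a₂a₃ − 27a₀a₃² − 27a₁²a₄ − 2a₂³ used here, the identity reads 27 D = 4 I³ − J²
(so the constant is 32: D = 32 (P³ − 6Q²)); it is stated over an arbitrary commutative ring. -/
theorem result (R : Type u) [CommRing R] (la mu : Fin 4 → R) :
    27 * W4c6intromoduli.disc la mu =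
      4 * W4c6intromoduli.invI (W4c6intromoduli.coef la mu) ^ 3
        - W4c6intromoduli.invJ (W4c6intromoduli.coef la mu) ^ 2 := by
  rw [disc_eq]
  simp only [W4c6intromoduli.invI, W4c6intromoduli.invJ, coef_zero, coef_one, coef_two, coef_three,
    coef_four]
  ring

end Groth.Agent.S19391
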