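import Groth.Statements.S19392
import Groth.Agent.Lib.Helper19.Quartic

set_option autoImplicit false
universe u
open InvQ

namespace Groth.Agent.S19392

/-- Over a field of characteristic different from 2 and 3, a nonzero binary quartic f has P(f) = Q(f) =
0 for the two basic invariants P, Q if and only if f has a triple zero. Stated for f = ∏_i (μ_i X₀ −
λ_i X₁) given by four root points (λ_i, μ_i) ≠ (0, 0) (over an algebraically closed field every
nonzero quartic form is of this shape), with the integral invariants I = 6P and J = 72Q of the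
coefficients of f; a triple zero means that three of the four root points are pairwise proportional. -/
theorem result (k : Type u) [Field k]
    (h2 : (2 : k) ≠ 0) (h3 : (3 : k) ≠ 0) (la mu : Fin 4 → k) (hne : ∀ i, la i ≠ 0 ∨ mu i ≠ 0) :
    (W4c6intromoduli.invI (W4c6intromoduli.coef la mu) = 0 ∧
        W4c6intromoduli.invJ (W4c6intromoduli.coef la mu) = 0) ↔
      ∃ i j l : Fin 4, i ≠ j ∧ j ≠ l ∧ i ≠ l ∧
        la i * mu j = la j * mu i ∧ la j * mu l = la l * mu j := by
  have hI := Groth.Agent.Lib.helper19.quartic_two_invI la mu
  have hJ := Groth.Agent.Lib.helper19.quartic_invJ la mu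
  have hP := Groth.Agent.Lib.helper19.quartic_plucker la mu
  set A := (la 0 * mu 1 - la 1 * mu 0) * (la 2 * mu 3 - la 3 * mu 2) with hA
  set B := (la 0 * mu 2 - la 2 * mu 0) * (la 3 * mu 1 - la 1 * mu 3) with hB
  set C := (la 0 * mu 3 - la 3 * mu 0) * (la 1 * mu 2 - la 2 * mu 1) with hC
  have key4 : ∀ i j l : Fin 4, i ≠ j → j ≠ l → i ≠ l →
      ∃ m : Fin 4, ∀ a, a ≠ m → a = i ∨ a = j ∨ a = l := by decide
  have h6 : (6 : k) ≠ 0 := by
    have : (6 : k) = 2 * 3 := by norm_num
    rw [this]; exact mul_ne_zero h2 h3
  constructor
  · rintro ⟨hI0, hJ0⟩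
    rw [hI0, mul_zero] at hI
    rw [hJ0] at hJ
    -- A = B = C = 0
    have hAB : A = 0 ∧ B = 0 := by
      have hCeq : C = -(A + B) := by linear_combination hP
      rcases mul_eq_zero.mp hJ.symm with h | h
      · rcases mul_eq_zero.mp h with h | h
        · -- A = B
          have hAB : A = B := sub_eq_zero.mp h
          have : 6 * A ^ 2 = 0 := by
            rw [hCeq, ← hAB] at hI; linear_combination -hI
          have hA0 : A = 0 := by
            have := (mul_eq_zero.mp this).resolve_left h6
            exact pow_eq_zero_iff (two_ne_zero) |>.mp this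
          exact ⟨hA0, hAB ▸ hA0⟩
        · -- B = C
          have hBC : B = C := sub_eq_zero.mp h
          have hA2 : A = -2 * B := by linear_combination hP + hBC
          have : 6 * B ^ 2 = 0 := by
            rw [← hBC, hA2] at hI; linear_combination -hI
          have hB0 : B = 0 := by
            have := (mul_eq_zero.mp this).resolve_left h6
            exact pow_eq_zero_iff (two_ne_zero) |>.mp this
          exact ⟨by rw [hA2, hB0, mul_zero], hB0⟩
      · -- C = A
        have hCA : C = A := sub_eq_zero.mp h
        have hB2 : B = -2 * A := by linear_combination hP - hCA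
        have : 6 * A ^ 2 = 0 := by
          rw [hCA, hB2] at hI; linear_combination -hI
        have hA0 : A = 0 := by
          have := (mul_eq_zero.mp this).resolve_left h6
          exact pow_eq_zero_iff (two_ne_zero) |>.mp this
        exact ⟨hA0, by rw [hB2, hA0, mul_zero]⟩
    obtain ⟨hA0, hB0⟩ := hAB
    rcases mul_eq_zero.mp hA0 with h01 | h23 <;> rcases mul_eq_zero.mp hB0 with h02 | h31
    · exact ⟨1, 0, 2, by decide, by decide, by decide, by linear_combination -h01,
        by linear_combination h02⟩
    · exact ⟨0, 1, 3, by decide, by decide, by decide, by linear_combination h01,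
        by linear_combination -h31⟩
    · exact ⟨0, 2, 3, by decide, by decide, by decide, by linear_combination h02,
        by linear_combination h23⟩
    · exact ⟨2, 3, 1, by decide, by decide, by decide, by linear_combination h23,
        by linear_combination h31⟩
  · rintro ⟨i, j, l, hij, hjl, hil, e1, e2⟩
    -- third proportionality
    have e3 : la i * mu l = la l * mu i := by
      rcases hne j with hj | hj
      · apply mul_left_cancel₀ hj
        linear_combination la i * e2 + la l * e1
      · apply mul_left_cancel₀ hj
        linear_combination mu l * e1 + mu i * e2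
    obtain ⟨m, hm⟩ : ∃ m : Fin 4, ∀ a, a ≠ m → a = i ∨ a = j ∨ a = l := key4 i j l hij hjl hil
    have hPr : ∀ a b, a ≠ m → b ≠ m → la a * mu b = la b * mu a := by
      intro a b ha hb
      rcases hm a ha with rfl | rfl | rfl <;> rcases hm b hb with rfl | rfl | rfl
      · rfl
      · exact e1
      · exact e3
      · exact e1.symm
      · rfl
      · exact e2
      · exact e3.symm
      · exact e2.symm
      · rfl
    have hABC : A = 0 ∧ B = 0 ∧ C = 0 := by
      have d : ∀ a b, a ≠ m → b ≠ m → la a * mu b - la b * mu a = 0 :=
        fun a b ha hb => sub_eq_zero.mpr (hPr a b ha hb)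
      fin_cases m
      · refine ⟨?_, ?_, ?_⟩
        · rw [hA, d 2 3 (by decide) (by decide), mul_zero]
        · rw [hB, d 3 1 (by decide) (by decide), mul_zero]
        · rw [hC, d 1 2 (by decide) (by decide), mul_zero]
      · refine ⟨?_, ?_, ?_⟩
        · rw [hA, d 2 3 (by decide) (by decide), mul_zero]
        · rw [hB, d 0 2 (by decide) (by decide), zero_mul]
        · rw [hC, d 0 3 (by decide) (by decide), zero_mul]
      · refine ⟨?_, ?_, ?_⟩
        · rw [hA, d 0 1 (by decide) (by decide), zero_mul]
        · rw [hB, d 3 1 (by decide) (by decide), mul_zero]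
        · rw [hC, d 0 3 (by decide) (by decide), zero_mul]
      · refine ⟨?_, ?_, ?_⟩
        · rw [hA, d 0 1 (by decide) (by decide), zero_mul]
        · rw [hB, d 0 2 (by decide) (by decide), zero_mul]
        · rw [hC, d 1 2 (by decide) (by decide), mul_zero]
    obtain ⟨hA0, hB0, hC0⟩ := hABC
    rw [hA0, hB0, hC0] at hI hJ
    refine ⟨?_, ?_⟩
    · have : (2 : k) * W4c6intromoduli.invI (W4c6intromoduli.coef la mu) = 0 := by
        rw [hI]; ring
      exact (mul_eq_zero.mp this).resolve_left h2
    · rw [hJ]; ring

end Groth.Agent.S19392
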