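import Groth.Statements.S19393
import Mathlib
import Groth.Agent.Lib.Helper19.Quartic

set_option autoImplicit false
universe u
open InvQ

namespace Groth.Agent.S19393

section helpers
variable {k : Type u} [Field k]

lemma six_factors (h3 : (3 : k) ≠ 0) (h2 : (2:k) ≠ 0) (A B C A' B' C' I J I' J' : k)
    (hs : A + B + C = 0) (hs' : A' + B' + C' = 0)
    (hI : 2 * I = A ^ 2 + B ^ 2 + C ^ 2) (hI' : 2 * I' = A' ^ 2 + B' ^ 2 + C' ^ 2)
    (hJ : J = (A - B) * (B - C) * (C - A)) (hJ' : J' = (A' - B') * (B' - C') * (C' - A'))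
    (h : I ^ 3 * J' ^ 2 = I' ^ 3 * J ^ 2) :
    A * B' - A' * B = 0 ∨ A * A' - B' * B = 0 ∨ A * C' - A' * B = 0 ∨ A * A' - C' * B = 0 ∨
      A * C' - B' * B = 0 ∨ A * B' - C' * B = 0 := by
  obtain rfl : C = -A - B := by linear_combination hs
  obtain rfl : C' = -A' - B' := by linear_combination hs'
  obtain rfl : I = A ^ 2 + A * B + B ^ 2 := by
    apply mul_left_cancel₀ h2
    rw [hI]; ring
  obtain rfl : I' = A' ^ 2 + A' * B' + B' ^ 2 := by
    apply mul_left_cancel₀ h2
    rw [hI']; ring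
  subst hJ hJ'
  have h27 : (27 : k) ≠ 0 := by
    have : (27 : k) = 3 ^ 3 := by norm_num
    rw [this]; exact pow_ne_zero _ h3
  have key : (27 : k) * ((A * B' - A' * B) * (A * A' - B' * B) * (A * (-A' - B') - A' * B) *
      (A * A' - (-A' - B') * B) * (A * (-A' - B') - B' * B) * (A * B' - (-A' - B') * B)) = 0 := by
    linear_combination (-1 : k) * h
  have := (mul_eq_zero.mp key).resolve_left h27
  simp only [mul_eq_zero] at this
  tauto

open MvPolynomial in
/-- the linear form attached to a root point -/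
noncomputable def lin (a b : k) : MvPolynomial (Fin 2) k := C b * X 0 - C a * X 1

open MvPolynomial in
lemma subst_lin (M : Matrix (Fin 2) (Fin 2) k) (a b : k) :
    W4c6intromoduli.subst M (lin a b) =
      lin (a * M 1 1 - b * M 0 1) (b * M 0 0 - a * M 1 0) := by
  simp only [lin, W4c6intromoduli.subst, map_sub, map_mul, aeval_X, aeval_C, Fin.sum_univ_two,
    algebraMap_eq]
  ring

open MvPolynomial in
lemma lin_smul (c a b : k) : lin (c * a) (c * b) = C c * lin a b := by
  simp only [lin, C_mul]; ring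

open MvPolynomial in
/-- main construction: two ordered quadruples of points with the same cross ratio. -/
lemma construct (a0 a1 a2 a3 b0 b1 b2 b3 x0 x1 x2 x3 y0 y1 y2 y3 : k)
    (h01 : a0 * b1 - a1 * b0 ≠ 0) (h02 : a0 * b2 - a2 * b0 ≠ 0) (h21 : a2 * b1 - a1 * b2 ≠ 0)
    (h31 : a3 * b1 - a1 * b3 ≠ 0)
    (k01 : x0 * y1 - x1 * y0 ≠ 0) (k02 : x0 * y2 - x2 * y0 ≠ 0) (k21 : x2 * y1 - x1 * y2 ≠ 0)
    (k31 : x3 * y1 - x1 * y3 ≠ 0)
    (hcr : (a3 * b1 - a1 * b3) * (a0 * b2 - a2 * b0) * (x2 * y1 - x1 * y2) * (x0 * y3 - x3 * y0) =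
      (a0 * b3 - a3 * b0) * (a2 * b1 - a1 * b2) * (x0 * y2 - x2 * y0) * (x3 * y1 - x1 * y3)) :
    ∃ (M : Matrix (Fin 2) (Fin 2) k) (c : k), IsUnit M.det ∧ c ≠ 0 ∧
      lin x0 y0 * lin x1 y1 * lin x2 y2 * lin x3 y3 =
        C c * W4c6intromoduli.subst M (lin a0 b0 * lin a1 b1 * lin a2 b2 * lin a3 b3) := by
  set α := (a0 * b2 - a2 * b0) * (x2 * y1 - x1 * y2) with hα
  set β := (a2 * b1 - a1 * b2) * (x0 * y2 - x2 * y0) with hβ
  have hα0 : α ≠ 0 := mul_ne_zero h02 k21
  have hβ0 : β ≠ 0 := mul_ne_zero h21 k02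
  -- the matrix M'' acting on points
  set m00 := α * x0 * b1 - β * x1 * b0 with hm00
  set m01 := -(α * x0 * a1) + β * x1 * a0 with hm01
  set m10 := α * y0 * b1 - β * y1 * b0 with hm10
  set m11 := -(α * y0 * a1) + β * y1 * a0 with hm11
  let M : Matrix (Fin 2) (Fin 2) k := !![m11, -m01; -m10, m00]
  set c0 := α * (a0 * b1 - a1 * b0) with hc0
  set c1 := β * (a0 * b1 - a1 * b0) with hc1
  set c2 := (a2 * b1 - a1 * b2) * (a0 * b2 - a2 * b0) * (x0 * y1 - x1 * y0) with hc2
  set c3 := (a3 * b1 - a1 * b3) * α * (x0 * y1 - x1 * y0) / (x3 * y1 - x1 * y3) with hc3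
  have hc0' : c0 ≠ 0 := mul_ne_zero hα0 h01
  have hc1' : c1 ≠ 0 := mul_ne_zero hβ0 h01
  have hc2' : c2 ≠ 0 := mul_ne_zero (mul_ne_zero h21 h02) k01
  have hc3' : c3 ≠ 0 := div_ne_zero (mul_ne_zero (mul_ne_zero h31 hα0) k01) k31
  have e0 : W4c6intromoduli.subst M (lin a0 b0) = C c0 * lin x0 y0 := by
    rw [subst_lin, ← lin_smul]
    congr 1
    · simp only [M, Matrix.of_apply, Matrix.cons_val', Matrix.cons_val_zero, Matrix.cons_val_one,
        Matrix.cons_val_fin_one]
      simp only [hm00, hm01, hc0]; ring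
    · simp only [M, Matrix.of_apply, Matrix.cons_val', Matrix.cons_val_zero, Matrix.cons_val_one,
        Matrix.cons_val_fin_one]
      simp only [hm10, hm11, hc0]; ring
  have e1 : W4c6intromoduli.subst M (lin a1 b1) = C c1 * lin x1 y1 := by
    rw [subst_lin, ← lin_smul]
    congr 1
    · simp only [M, Matrix.of_apply, Matrix.cons_val', Matrix.cons_val_zero, Matrix.cons_val_one,
        Matrix.cons_val_fin_one]
      simp only [hm00, hm01, hc1]; ring
    · simp only [M, Matrix.of_apply, Matrix.cons_val', Matrix.cons_val_zero, Matrix.cons_val_one,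
        Matrix.cons_val_fin_one]
      simp only [hm10, hm11, hc1]; ring
  have e2 : W4c6intromoduli.subst M (lin a2 b2) = C c2 * lin x2 y2 := by
    rw [subst_lin, ← lin_smul]
    congr 1
    · simp only [M, Matrix.of_apply, Matrix.cons_val', Matrix.cons_val_zero, Matrix.cons_val_one,
        Matrix.cons_val_fin_one]
      simp only [hm00, hm01, hc2, hα, hβ]; ring
    · simp only [M, Matrix.of_apply, Matrix.cons_val', Matrix.cons_val_zero, Matrix.cons_val_one,
        Matrix.cons_val_fin_one]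
      simp only [hm10, hm11, hc2, hα, hβ]; ring
  have e3 : W4c6intromoduli.subst M (lin a3 b3) = C c3 * lin x3 y3 := by
    rw [subst_lin, ← lin_smul]
    congr 1
    · simp only [M, Matrix.of_apply, Matrix.cons_val', Matrix.cons_val_zero, Matrix.cons_val_one,
        Matrix.cons_val_fin_one]
      rw [hc3, div_mul_eq_mul_div, eq_div_iff k31]
      simp only [hm00, hm01, hα, hβ]
      linear_combination (-x1) * hcr
    · simp only [M, Matrix.of_apply, Matrix.cons_val', Matrix.cons_val_zero, Matrix.cons_val_one,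
        Matrix.cons_val_fin_one]
      rw [hc3, div_mul_eq_mul_div, eq_div_iff k31]
      simp only [hm10, hm11, hα, hβ]
      linear_combination (-y1) * hcr
  have hdet : M.det = α * β * (x0 * y1 - x1 * y0) * (a0 * b1 - a1 * b0) := by
    simp only [M, Matrix.det_fin_two_of]
    simp only [hm00, hm01, hm10, hm11]; ring
  refine ⟨M, (c0 * c1 * c2 * c3)⁻¹, ?_, ?_, ?_⟩
  · rw [hdet, isUnit_iff_ne_zero]
    exact mul_ne_zero (mul_ne_zero (mul_ne_zero hα0 hβ0) k01) h01
  · exact inv_ne_zero (mul_ne_zero (mul_ne_zero (mul_ne_zero hc0' hc1') hc2') hc3')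
  · rw [map_mul, map_mul, map_mul, e0, e1, e2, e3]
    have hc : C ((c0 * c1 * c2 * c3)⁻¹) * (C c0 * C c1 * C c2 * C c3) = (1 : MvPolynomial (Fin 2) k) := by
      rw [← C_mul, ← C_mul, ← C_mul, ← C_mul, inv_mul_cancel₀
        (mul_ne_zero (mul_ne_zero (mul_ne_zero hc0' hc1') hc2') hc3'), C_1]
    calc lin x0 y0 * lin x1 y1 * lin x2 y2 * lin x3 y3
        = (C ((c0 * c1 * c2 * c3)⁻¹) * (C c0 * C c1 * C c2 * C c3)) *
            (lin x0 y0 * lin x1 y1 * lin x2 y2 * lin x3 y3) := by rw [hc, one_mul]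
      _ = _ := by ring

lemma bracket_ne (la mu : Fin 4 → k) (hd : W4c6intromoduli.disc la mu ≠ 0) (i j : Fin 4)
    (hij : i ≠ j) : la i * mu j - la j * mu i ≠ 0 := by
  rw [W4c6intromoduli.disc, Finset.prod_ne_zero_iff] at hd
  rcases lt_or_gt_of_ne hij with h | h
  · have := hd (i, j) (by simp [h])
    have := (pow_ne_zero_iff (by norm_num)).mp this
    intro h0
    apply this
    linear_combination (-1 : k) * h0
  · have := hd (j, i) (by simp [h])
    exact (pow_ne_zero_iff (by norm_num)).mp this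

lemma binForm_eq (la mu : Fin 4 → k) :
    W4c6intromoduli.binForm la mu =
      lin (la 0) (mu 0) * lin (la 1) (mu 1) * lin (la 2) (mu 2) * lin (la 3) (mu 3) := by
  simp only [W4c6intromoduli.binForm, Fin.prod_univ_four, lin]

end helpers

/-- Over a field of characteristic different from 2 and 3, two binary quartics without double zeros
lying in the same fibre of the map to the projective line given by the invariants, i.e. with
proportional (P³, Q²), are equivalent under a linear substitution of the variables up to a nonzero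
constant factor. Stated for split quartics f = ∏_i (μ_i X₀ − λ_i X₁) given by root points (λ_i, μ_i)
≠ (0, 0), with the integral invariants I = 6P, J = 72Q and the discriminant ∏_{i<j} (λ_j μ_i − λ_i
μ_j)²; only the assertion that such a fibre is a single orbit is stated (not its closedness). -/
theorem result (k : Type u) [Field k]
    (h2 : (2 : k) ≠ 0) (h3 : (3 : k) ≠ 0) (la mu la' mu' : Fin 4 → k)
    (hne : ∀ i, la i ≠ 0 ∨ mu i ≠ 0) (hne' : ∀ i, la' i ≠ 0 ∨ mu' i ≠ 0)
    (hd : W4c6intromoduli.disc la mu ≠ 0) (hd' : W4c6intromoduli.disc la' mu' ≠ 0)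
    (h : W4c6intromoduli.invI (W4c6intromoduli.coef la mu) ^ 3
          * W4c6intromoduli.invJ (W4c6intromoduli.coef la' mu') ^ 2 =
        W4c6intromoduli.invI (W4c6intromoduli.coef la' mu') ^ 3
          * W4c6intromoduli.invJ (W4c6intromoduli.coef la mu) ^ 2) :
    ∃ (M : Matrix (Fin 2) (Fin 2) k) (c : k), IsUnit M.det ∧ c ≠ 0 ∧
      W4c6intromoduli.binForm la' mu' =
        MvPolynomial.C c * W4c6intromoduli.subst M (W4c6intromoduli.binForm la mu) := by
  have hsix := six_factors h3 h2 _ _ _ _ _ _ _ _ _ _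
    (Groth.Agent.Lib.helper19.quartic_plucker la mu)
    (Groth.Agent.Lib.helper19.quartic_plucker la' mu')
    (Groth.Agent.Lib.helper19.quartic_two_invI la mu)
    (Groth.Agent.Lib.helper19.quartic_two_invI la' mu')
    (Groth.Agent.Lib.helper19.quartic_invJ la mu)
    (Groth.Agent.Lib.helper19.quartic_invJ la' mu') h
  have nz := bracket_ne la mu hd
  have nz' := bracket_ne la' mu' hd'
  rcases hsix with hc | hc | hc | hc | hc | hc
  · obtain ⟨M, c, hM, hc0, e⟩ := construct (la 0) (la 1) (la 2) (la 3) (mu 0) (mu 1) (mu 2) (mu 3)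
      (la' 0) (la' 1) (la' 2) (la' 3) (mu' 0) (mu' 1) (mu' 2) (mu' 3)
      (nz 0 1 (by decide)) (nz 0 2 (by decide)) (nz 2 1 (by decide)) (nz 3 1 (by decide))
      (nz' 0 1 (by decide)) (nz' 0 2 (by decide)) (nz' 2 1 (by decide)) (nz' 3 1 (by decide))
      (by linear_combination (-1 : k) * hc)
    refine ⟨M, c, hM, hc0, ?_⟩
    rw [binForm_eq la mu, ← e, binForm_eq la' mu']
  · obtain ⟨M, c, hM, hc0, e⟩ := construct (la 0) (la 1) (la 2) (la 3) (mu 0) (mu 1) (mu 2) (mu 3)
      (la' 0) (la' 2) (la' 1) (la' 3) (mu' 0) (mu' 2) (mu' 1) (mu' 3)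
      (nz 0 1 (by decide)) (nz 0 2 (by decide)) (nz 2 1 (by decide)) (nz 3 1 (by decide))
      (nz' 0 2 (by decide)) (nz' 0 1 (by decide)) (nz' 1 2 (by decide)) (nz' 3 2 (by decide))
      (by linear_combination (1 : k) * hc)
    refine ⟨M, c, hM, hc0, ?_⟩
    rw [binForm_eq la mu, ← e, binForm_eq la' mu']
    ring
  · obtain ⟨M, c, hM, hc0, e⟩ := construct (la 0) (la 1) (la 2) (la 3) (mu 0) (mu 1) (mu 2) (mu 3)
      (la' 1) (la' 0) (la' 2) (la' 3) (mu' 1) (mu' 0) (mu' 2) (mu' 3)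
      (nz 0 1 (by decide)) (nz 0 2 (by decide)) (nz 2 1 (by decide)) (nz 3 1 (by decide))
      (nz' 1 0 (by decide)) (nz' 1 2 (by decide)) (nz' 2 0 (by decide)) (nz' 3 0 (by decide))
      (by linear_combination (1 : k) * hc)
    refine ⟨M, c, hM, hc0, ?_⟩
    rw [binForm_eq la mu, ← e, binForm_eq la' mu']
    ring
  · obtain ⟨M, c, hM, hc0, e⟩ := construct (la 0) (la 1) (la 2) (la 3) (mu 0) (mu 1) (mu 2) (mu 3)
      (la' 1) (la' 2) (la' 0) (la' 3) (mu' 1) (mu' 2) (mu' 0) (mu' 3)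
      (nz 0 1 (by decide)) (nz 0 2 (by decide)) (nz 2 1 (by decide)) (nz 3 1 (by decide))
      (nz' 1 2 (by decide)) (nz' 1 0 (by decide)) (nz' 0 2 (by decide)) (nz' 3 2 (by decide))
      (by linear_combination (-1 : k) * hc)
    refine ⟨M, c, hM, hc0, ?_⟩
    rw [binForm_eq la mu, ← e, binForm_eq la' mu']
    ring
  · obtain ⟨M, c, hM, hc0, e⟩ := construct (la 0) (la 1) (la 2) (la 3) (mu 0) (mu 1) (mu 2) (mu 3)
      (la' 2) (la' 0) (la' 1) (la' 3) (mu' 2) (mu' 0) (mu' 1) (mu' 3)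
      (nz 0 1 (by decide)) (nz 0 2 (by decide)) (nz 2 1 (by decide)) (nz 3 1 (by decide))
      (nz' 2 0 (by decide)) (nz' 2 1 (by decide)) (nz' 1 0 (by decide)) (nz' 3 0 (by decide))
      (by linear_combination (-1 : k) * hc)
    refine ⟨M, c, hM, hc0, ?_⟩
    rw [binForm_eq la mu, ← e, binForm_eq la' mu']
    ring
  · obtain ⟨M, c, hM, hc0, e⟩ := construct (la 0) (la 1) (la 2) (la 3) (mu 0) (mu 1) (mu 2) (mu 3)
      (la' 2) (la' 1) (la' 0) (la' 3) (mu' 2) (mu' 1) (mu' 0) (mu' 3)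
      (nz 0 1 (by decide)) (nz 0 2 (by decide)) (nz 2 1 (by decide)) (nz 3 1 (by decide))
      (nz' 2 1 (by decide)) (nz' 2 0 (by decide)) (nz' 0 1 (by decide)) (nz' 3 1 (by decide))
      (by linear_combination (1 : k) * hc)
    refine ⟨M, c, hM, hc0, ?_⟩
    rw [binForm_eq la mu, ← e, binForm_eq la' mu']
    ring

end Groth.Agent.S19393
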