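import Groth.Statements.S19394
import Mathlib

set_option autoImplicit false
universe u
open InvQ

namespace Groth.Agent.S19394

section helpers

variable {k : Type u} [Field k] {n : ℕ}

/-- existence of an `S`-equivariant projection onto `ker N^m`. -/
lemma exists_proj (S N : Matrix (Fin n) (Fin n) k)
    (hS : Module.End.IsSemisimple (Matrix.toLin' S)) (hSN : Commute S N) (m : ℕ)
    (hN : N ^ (m + 1) = 0) :
    ∃ P : Matrix (Fin n) (Fin n) k, P * P = P ∧ Commute P S ∧ P * N = N ∧ N ^ m * P = 0 := by
  let e := Matrix.toLinAlgEquiv' (R := k) (n := Fin n)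
  have heS : e S = Matrix.toLin' S := rfl
  set s := e S with hs
  set ν := e N with hν
  have hsν : Commute s ν := by
    change e S * e N = e N * e S
    rw [← map_mul, ← map_mul, hSN.eq]
  have hνpow : ν ^ (m + 1) = 0 := by
    rw [hν, ← map_pow, hN, map_zero]
  let W : Submodule k (Fin n → k) := LinearMap.ker (ν ^ m)
  have hW : W ∈ Module.End.invtSubmodule s := by
    rw [Module.End.mem_invtSubmodule]
    intro x hx
    change (ν ^ m) (s x) = 0
    have h1 : (ν ^ m) (s x) = (ν ^ m * s) x := rfl
    rw [h1, ← (hsν.pow_right m).eq]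
    change s ((ν ^ m) x) = 0
    rw [show (ν ^ m) x = 0 from hx, map_zero]
  have hS' : Module.End.IsSemisimple s := by rw [hs]; exact hS
  obtain ⟨W', hW', hc⟩ := Module.End.isSemisimple_iff.mp hS' W hW
  let π : Module.End k (Fin n → k) := W.projection W' hc
  have hπidem : IsIdempotentElem π := Submodule.isIdempotentElem_projection hc
  have hπs : Commute π s := by
    rw [LinearMap.IsIdempotentElem.commute_iff hπidem]
    constructor
    · rw [show LinearMap.range π = W from Submodule.range_projection hc]; exact hW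
    · rw [show LinearMap.ker π = W' from Submodule.ker_projection hc]; exact hW'
  have hπν : π * ν = ν := by
    apply LinearMap.ext
    intro x
    change π (ν x) = ν x
    apply Submodule.projection_apply_of_mem_left
    change (ν ^ m) (ν x) = 0
    have : (ν ^ m) (ν x) = (ν ^ (m + 1)) x := by rw [pow_succ]; rfl
    rw [this, hνpow]; rfl
  have hνπ : ν ^ m * π = 0 := by
    apply LinearMap.ext
    intro x
    change (ν ^ m) (π x) = 0
    have : π x ∈ W := Submodule.projection_apply_mem hc x
    exact this
  refine ⟨e.symm π, ?_, ?_, ?_, ?_⟩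
  · apply e.injective
    rw [map_mul, AlgEquiv.apply_symm_apply]
    exact hπidem.eq
  · change e.symm π * S = S * e.symm π
    apply e.injective
    rw [map_mul, map_mul, AlgEquiv.apply_symm_apply]
    exact hπs.eq
  · apply e.injective
    rw [map_mul, AlgEquiv.apply_symm_apply]
    exact hπν
  · apply e.injective
    rw [map_mul, map_pow, AlgEquiv.apply_symm_apply, map_zero]
    exact hνπ

/-- evaluation of `F` along an affine line of matrices is a polynomial in the parameter. -/
lemma eval_line [Infinite k] (F : MvPolynomial (Fin n × Fin n) k)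
    (M0 M1 : Matrix (Fin n) (Fin n) k)
    (h : ∀ t : k, t ≠ 0 → MvPolynomial.eval (fun p => (M0 + t • M1) p.1 p.2) F = 0) :
    MvPolynomial.eval (fun p => M0 p.1 p.2) F = 0 := by
  let g : Fin n × Fin n → Polynomial k :=
    fun p => Polynomial.C (M0 p.1 p.2) + Polynomial.X * Polynomial.C (M1 p.1 p.2)
  let G : Polynomial k := MvPolynomial.eval₂ Polynomial.C g F
  have hG : ∀ t : k, Polynomial.eval t G =
      MvPolynomial.eval (fun p => (M0 + t • M1) p.1 p.2) F := by
    intro t
    have h1 : Polynomial.eval t G = (Polynomial.evalRingHom t) (MvPolynomial.eval₂ Polynomial.C g F) :=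
      rfl
    rw [h1, MvPolynomial.eval₂_comp_left]
    have h2 : (Polynomial.evalRingHom t).comp Polynomial.C = RingHom.id k := by
      ext x; simp
    rw [h2, MvPolynomial.eval₂_id]
    have hfun : (⇑(Polynomial.evalRingHom t) ∘ g) = fun p => (M0 + t • M1) p.1 p.2 := by
      funext p
      simp [g]
      ring
    rw [hfun]
  have hGX : G * Polynomial.X = 0 := by
    apply Polynomial.funext
    intro t
    rw [Polynomial.eval_mul, Polynomial.eval_X, Polynomial.eval_zero]
    by_cases ht : t = 0
    · rw [ht, mul_zero]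
    · rw [hG t, h t ht, zero_mul]
  have hG0 : G = 0 := by
    rcases mul_eq_zero.mp hGX with h0 | h0
    · exact h0
    · exact absurd h0 Polynomial.X_ne_zero
  have := hG 0
  rw [hG0, Polynomial.eval_zero] at this
  rw [this]
  have hfun : (fun p : Fin n × Fin n => M0 p.1 p.2) = fun p => (M0 + (0 : k) • M1) p.1 p.2 := by
    funext p
    simp
  rw [hfun]

/-- one degeneration step. -/
lemma step [Infinite k] (F : MvPolynomial (Fin n × Fin n) k) (S N P : Matrix (Fin n) (Fin n) k)
    (hPP : P * P = P) (hPS : Commute P S) (hPN : P * N = N)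
    (hF : ∀ A : Matrix (Fin n) (Fin n) k, IsUnit A.det →
      MvPolynomial.eval (fun p => (A * (S + N) * A⁻¹) p.1 p.2) F = 0) :
    ∀ C : Matrix (Fin n) (Fin n) k, IsUnit C.det →
      MvPolynomial.eval (fun p => (C * (S + N * P) * C⁻¹) p.1 p.2) F = 0 := by
  intro C hC
  apply eval_line F (C * (S + N * P) * C⁻¹) (C * (N * (1 - P)) * C⁻¹)
  intro t ht
  set Q : Matrix (Fin n) (Fin n) k := 1 - P with hQ
  have hPQ : P * Q = 0 := by rw [hQ, mul_sub, mul_one, hPP, sub_self]
  have hQP : Q * P = 0 := by rw [hQ, sub_mul, one_mul, hPP, sub_self]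
  have hQQ : Q * Q = Q := by rw [hQ, mul_sub, mul_one, sub_mul, one_mul, hPP, sub_self, sub_zero]
  have hQN : Q * N = 0 := by rw [hQ, sub_mul, one_mul, hPN, sub_self]
  have hPQ1 : P + Q = 1 := by rw [hQ]; abel
  have hQS : Q * S = S * Q := by rw [hQ, sub_mul, mul_sub, one_mul, mul_one, hPS.eq]
  obtain ⟨A, hA⟩ : ∃ A : Matrix (Fin n) (Fin n) k, A = t • P + Q := ⟨_, rfl⟩
  obtain ⟨A', hA'⟩ : ∃ A' : Matrix (Fin n) (Fin n) k, A' = t⁻¹ • P + Q := ⟨_, rfl⟩
  have hAA' : A * A' = 1 := by
    simp only [hA, hA', add_mul, mul_add, smul_mul_assoc, mul_smul_comm, hPP, hPQ, hQP, hQQ,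
      smul_zero, add_zero, zero_add, smul_smul, inv_mul_cancel₀ ht, one_smul,
      hPQ1]
  have hAdet : IsUnit A.det := Matrix.isUnit_det_of_right_inverse hAA'
  have hAinv : A⁻¹ = A' := Matrix.inv_eq_right_inv hAA'
  have hCA : IsUnit (C * A).det := by rw [Matrix.det_mul]; exact hC.mul hAdet
  have key : A * (S + N) * A' = S + N * P + t • (N * Q) := by
    have h1 : A * S * A' = S := by
      have : A * S = S * A := by
        simp only [hA, add_mul, mul_add, smul_mul_assoc, mul_smul_comm, hPS.eq, hQS]
      rw [this, mul_assoc, hAA', mul_one]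
    have h2 : A * N * A' = N * P + t • (N * Q) := by
      have : A * N = t • N := by
        simp only [hA, add_mul, smul_mul_assoc, hPN, hQN, add_zero]
      rw [this]
      simp only [hA', mul_add, smul_mul_assoc, mul_smul_comm, smul_smul,
        inv_mul_cancel₀ ht, one_smul]
    rw [mul_add, add_mul, h1, h2, add_assoc]
  have := hF (C * A) hCA
  rw [Matrix.mul_inv_rev, hAinv] at this
  rw [← this]
  have hmat : C * (S + N * P) * C⁻¹ + t • (C * (N * Q) * C⁻¹) = C * A * (S + N) * (A' * C⁻¹) := by
    calc C * (S + N * P) * C⁻¹ + t • (C * (N * Q) * C⁻¹)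
        = C * (S + N * P + t • (N * Q)) * C⁻¹ := by
          simp only [mul_add, add_mul, mul_smul_comm, smul_mul_assoc]
      _ = C * (A * (S + N) * A') * C⁻¹ := by rw [key]
      _ = C * A * (S + N) * (A' * C⁻¹) := by simp only [mul_assoc]
  rw [hmat]

lemma mulP_pow (N P : Matrix (Fin n) (Fin n) k) (hPN : P * N = N) (j : ℕ) :
    (N * P) ^ (j + 1) = N ^ (j + 1) * P := by
  induction j with
  | zero => simp
  | succ j ih =>
    rw [pow_succ, ih, mul_assoc, ← mul_assoc P N P, hPN, ← mul_assoc, ← pow_succ]

end helpers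

/-- Over an algebraically closed field, the semisimple part of a square matrix B lies in the Zariski
closure of the orbit of B under conjugation by the general linear group. The semisimple part is
given as S with B = S + N, S semisimple, N nilpotent and SN = NS; membership in the Zariski closure
is spelled out as: every polynomial in the n² matrix entries vanishing at all conjugates A B A⁻¹ (A
invertible) vanishes at S. -/
theorem result (k : Type u) [Field k] [IsAlgClosed k] (n : ℕ)
    (B S N : Matrix (Fin n) (Fin n) k) (hS : Module.End.IsSemisimple (Matrix.toLin' S))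
    (hN : IsNilpotent N) (hSN : Commute S N) (hB : B = S + N)
    (F : MvPolynomial (Fin n × Fin n) k)
    (hF : ∀ A : Matrix (Fin n) (Fin n) k, IsUnit A.det →
      MvPolynomial.eval (fun p => (A * B * A⁻¹) p.1 p.2) F = 0) :
    MvPolynomial.eval (fun p => S p.1 p.2) F = 0 := by
  subst hB
  obtain ⟨m, hm⟩ := hN
  have hm1 : N ^ (m + 1) = 0 := by rw [pow_succ, hm, zero_mul]
  clear hm
  induction m generalizing N with
  | zero =>
    have hN0 : N = 0 := by simpa using hm1
    have := hF 1 (by simp)
    simpa [hN0] using this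
  | succ m ih =>
    obtain ⟨P, hPP, hPS, hPN, hNP⟩ := exists_proj S N hS hSN (m + 1) hm1
    have hstep := step F S N P hPP hPS hPN hF
    apply ih (N * P)
    · exact hSN.mul_right hPS.symm
    · exact hstep
    · rw [mulP_pow N P hPN m, hNP]

end Groth.Agent.S19394
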