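import Groth.Statements.S19395
import Groth.Agent.S19394
import Groth.Agent.Lib.Helper12.SemisimpleConj

set_option autoImplicit false
universe u
open InvQ

namespace Groth.Agent.S19395

section helpers

variable {k : Type u} [Field k] {n : ℕ}

/-- The polynomial `F` precomposed with conjugation by `A`. -/
noncomputable def conjPoly (A : Matrix (Fin n) (Fin n) k)
    (F : MvPolynomial (Fin n × Fin n) k) : MvPolynomial (Fin n × Fin n) k :=
  MvPolynomial.aeval (fun p : Fin n × Fin n =>
    ∑ i, ∑ j, MvPolynomial.C (A p.1 i * A⁻¹ j p.2) * MvPolynomial.X (i, j)) F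

lemma eval_conjPoly (A M : Matrix (Fin n) (Fin n) k) (F : MvPolynomial (Fin n × Fin n) k) :
    MvPolynomial.eval (fun p => M p.1 p.2) (conjPoly A F) =
      MvPolynomial.eval (fun p => (A * M * A⁻¹) p.1 p.2) F := by
  unfold conjPoly
  induction F using MvPolynomial.induction_on with
  | C a => simp
  | add p q hp hq => rw [map_add, map_add, map_add, hp, hq]
  | mul_X p i hp =>
    rw [map_mul, map_mul, map_mul, hp]
    congr 1
    rw [MvPolynomial.aeval_X, MvPolynomial.eval_X]
    simp only [map_sum, map_mul, MvPolynomial.eval_C, MvPolynomial.eval_X]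
    rw [Matrix.mul_apply, Finset.sum_comm]
    apply Finset.sum_congr rfl
    intro j _
    rw [Matrix.mul_apply, Finset.sum_mul]
    apply Finset.sum_congr rfl
    intro i' _
    ring

/-- The `i`-th coefficient of the characteristic polynomial as a polynomial in the entries. -/
noncomputable def cpCoeff (k : Type u) [Field k] (n : ℕ) (i : ℕ) :
    MvPolynomial (Fin n × Fin n) k :=
  ((Matrix.mvPolynomialX (Fin n) (Fin n) k).charpoly).coeff i

lemma eval_cpCoeff (M : Matrix (Fin n) (Fin n) k) (i : ℕ) :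
    MvPolynomial.eval (fun p => M p.1 p.2) (cpCoeff k n i) = M.charpoly.coeff i := by
  unfold cpCoeff
  rw [← Polynomial.coeff_map, ← Matrix.charpoly_map]
  have : (Matrix.mvPolynomialX (Fin n) (Fin n) k).map
      (MvPolynomial.eval fun p : Fin n × Fin n => M p.1 p.2) = M :=
    Matrix.mvPolynomialX_mapMatrix_eval M
  rw [this]

lemma charpoly_conj (A B : Matrix (Fin n) (Fin n) k) (hA : IsUnit A.det) :
    (A * B * A⁻¹).charpoly = B.charpoly :=
  Matrix.charpoly_units_conj (Matrix.nonsingInvUnit A hA) B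

lemma charpoly_eq_of_mem_closure (B C : Matrix (Fin n) (Fin n) k)
    (h : ∀ F : MvPolynomial (Fin n × Fin n) k,
      (∀ A : Matrix (Fin n) (Fin n) k, IsUnit A.det →
        MvPolynomial.eval (fun p => (A * B * A⁻¹) p.1 p.2) F = 0) →
      MvPolynomial.eval (fun p => C p.1 p.2) F = 0) :
    C.charpoly = B.charpoly := by
  ext i
  have := h (cpCoeff k n i - MvPolynomial.C (B.charpoly.coeff i)) (by
    intro A hA
    rw [map_sub, eval_cpCoeff, MvPolynomial.eval_C, charpoly_conj A B hA, sub_self])
  rw [map_sub, eval_cpCoeff, MvPolynomial.eval_C, sub_eq_zero] at this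
  exact this

end helpers

/-- Over an algebraically closed field, the Zariski closures of the conjugation orbits of two square
matrices B₁, B₂ meet if and only if their semisimple parts lie in one orbit. The semisimple parts
are given as S_i with B_i = S_i + N_i, S_i semisimple, N_i nilpotent, S_i N_i = N_i S_i; a common
point of the two closures is a matrix C at which every polynomial in the matrix entries vanishing on
the whole orbit of B₁, and every one vanishing on the whole orbit of B₂, vanishes. -/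
theorem result (k : Type u) [Field k] [IsAlgClosed k]
    (n : ℕ) (B₁ S₁ N₁ B₂ S₂ N₂ : Matrix (Fin n) (Fin n) k)
    (hS₁ : Module.End.IsSemisimple (Matrix.toLin' S₁)) (hN₁ : IsNilpotent N₁) (hc₁ : Commute S₁ N₁)
    (hB₁ : B₁ = S₁ + N₁)
    (hS₂ : Module.End.IsSemisimple (Matrix.toLin' S₂)) (hN₂ : IsNilpotent N₂) (hc₂ : Commute S₂ N₂)
    (hB₂ : B₂ = S₂ + N₂) :
    (∃ C : Matrix (Fin n) (Fin n) k,
        (∀ F : MvPolynomial (Fin n × Fin n) k,
          (∀ A : Matrix (Fin n) (Fin n) k, IsUnit A.det →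
            MvPolynomial.eval (fun p => (A * B₁ * A⁻¹) p.1 p.2) F = 0) →
          MvPolynomial.eval (fun p => C p.1 p.2) F = 0) ∧
        (∀ F : MvPolynomial (Fin n × Fin n) k,
          (∀ A : Matrix (Fin n) (Fin n) k, IsUnit A.det →
            MvPolynomial.eval (fun p => (A * B₂ * A⁻¹) p.1 p.2) F = 0) →
          MvPolynomial.eval (fun p => C p.1 p.2) F = 0)) ↔
      ∃ A : Matrix (Fin n) (Fin n) k, IsUnit A.det ∧ A * S₁ * A⁻¹ = S₂ := by
  constructor
  · rintro ⟨C, hC₁, hC₂⟩
    have e₁ : C.charpoly = B₁.charpoly := charpoly_eq_of_mem_closure B₁ C hC₁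
    have e₂ : C.charpoly = B₂.charpoly := charpoly_eq_of_mem_closure B₂ C hC₂
    have s₁ : S₁.charpoly = B₁.charpoly := charpoly_eq_of_mem_closure B₁ S₁
      (fun F hF => Groth.Agent.S19394.result k n B₁ S₁ N₁ hS₁ hN₁ hc₁ hB₁ F hF)
    have s₂ : S₂.charpoly = B₂.charpoly := charpoly_eq_of_mem_closure B₂ S₂
      (fun F hF => Groth.Agent.S19394.result k n B₂ S₂ N₂ hS₂ hN₂ hc₂ hB₂ F hF)
    exact Groth.Agent.Lib.helper12.SemisimpleConj.exists_matrix_conj_of_charpoly_eq S₁ S₂ hS₁ hS₂
      (by rw [s₁, ← e₁, e₂, ← s₂])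
  · rintro ⟨A, hA, hAS⟩
    refine ⟨S₂, ?_, ?_⟩
    · intro F hF
      have h1 : MvPolynomial.eval (fun p => S₁ p.1 p.2) (conjPoly A F) = 0 := by
        apply Groth.Agent.S19394.result k n B₁ S₁ N₁ hS₁ hN₁ hc₁ hB₁
        intro g hg
        rw [eval_conjPoly]
        have hAg : IsUnit (A * g).det := by
          rw [Matrix.det_mul]; exact hA.mul hg
        have := hF (A * g) hAg
        rw [Matrix.mul_inv_rev] at this
        have e : A * (g * B₁ * g⁻¹) * A⁻¹ = A * g * B₁ * (g⁻¹ * A⁻¹) := by
          simp only [Matrix.mul_assoc]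
        rw [e]
        exact this
      rw [eval_conjPoly, hAS] at h1
      exact h1
    · intro F hF
      exact Groth.Agent.S19394.result k n B₂ S₂ N₂ hS₂ hN₂ hc₂ hB₂ F hF

end Groth.Agent.S19395
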