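import Groth.Statements.S19396
import Mathlib
import Groth.Agent.Lib.Helper15.FFWeight

set_option autoImplicit false
set_option linter.style.haveILetI false
universe u v
open FunFld

namespace Groth.Agent.S19396

open Groth.Agent.Lib.helper10 Groth.Agent.Lib.helper15

/-- On an elliptic curve with base point 0, if f has a double pole at 0 and no other pole and g a triple
pole at 0 and no other pole, then for n ≥ 2 the functions 1, f, …, f^[n/2], g, fg, …, f^[(n−3)/2] g
form a basis of the space of functions with at most an n-fold pole at 0. Stated for a function field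
K/k of one variable of genus 1 with a place P of degree 1 in the role of the curve and its base
point: the family indexed by Fin (n/2 + 1) ⊕ Fin ((n − 1)/2), sending i on the left to f^i and i on
the right to f^i g, is linearly independent over k and spans L(nP). -/
theorem result (k : Type u) (K : Type v) [Field k] [Field K]
    [Algebra k K] (hK : FunFld.IsFunctionField k K) (hgen : FunFld.genus k K = 1)
    (P : FunFld.Place k K) (hP : P.deg = 1) (f g : K)
    (hf : f ∈ FunFld.L (Finsupp.single P 2)) (hf2 : P.ord f = -2)
    (hg : g ∈ FunFld.L (Finsupp.single P 3)) (hg3 : P.ord g = -3) (n : ℕ) (hn : 2 ≤ n) :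
    LinearIndependent k
        (Sum.elim (fun i : Fin (n / 2 + 1) => f ^ (i : ℕ)) (fun i : Fin ((n - 1) / 2) => f ^ (i : ℕ) * g)) ∧
      Submodule.span k (Set.range
        (Sum.elim (fun i : Fin (n / 2 + 1) => f ^ (i : ℕ)) (fun i : Fin ((n - 1) / 2) => f ^ (i : ℕ) * g))) =
        FunFld.L (Finsupp.single P (n : ℤ)) := by
  classical
  have hf0 : f ≠ 0 := by
    rintro rfl
    rw [FF.Place.ord_zero] at hf2
    omega
  have hg0 : g ≠ 0 := by
    rintro rfl
    rw [FF.Place.ord_zero] at hg3
    omega
  set F : Fin (n / 2 + 1) ⊕ Fin ((n - 1) / 2) → K :=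
    Sum.elim (fun i : Fin (n / 2 + 1) => f ^ (i : ℕ)) (fun i : Fin ((n - 1) / 2) => f ^ (i : ℕ) * g)
    with hF
  have hF0 : ∀ x, F x ≠ 0 := by
    rintro (i | i)
    · exact pow_ne_zero _ hf0
    · exact mul_ne_zero (pow_ne_zero _ hf0) hg0
  have hord : ∀ x, P.ord (F x) =
      Sum.elim (fun i : Fin (n / 2 + 1) => -(2 * (i : ℕ) : ℤ))
        (fun i : Fin ((n - 1) / 2) => -(2 * (i : ℕ) + 3 : ℤ)) x := by
    rintro (i | i)
    · simp only [hF, Sum.elim_inl]
      rw [FFW.Place.ord_pow P hf0, hf2]
      ring
    · simp only [hF, Sum.elim_inr]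
      rw [FF.Place.ord_mul P (pow_ne_zero _ hf0) hg0, FFW.Place.ord_pow P hf0, hf2, hg3]
      ring
  have hli : LinearIndependent k F := by
    apply FFW.linearIndependent_of_ord_injective P F hF0
    intro x y hxy
    simp only [hord] at hxy
    rcases x with i | i <;> rcases y with j | j <;> simp only [Sum.elim_inl, Sum.elim_inr] at hxy
    · congr 1
      apply Fin.ext
      omega
    · omega
    · omega
    · congr 1
      apply Fin.ext
      omega
  refine ⟨hli, ?_⟩
  have hmem : ∀ x, F x ∈ FunFld.L (Finsupp.single P (n : ℤ)) := by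
    rintro (i | i)
    · simp only [hF, Sum.elim_inl]
      have h1 := FFW.pow_mem_L hf (i : ℕ)
      refine FF.L_mono ?_ h1
      rw [Finsupp.smul_single]
      apply FFW.single_le_single
      have := i.2
      simp only [nsmul_eq_mul]
      push_cast
      omega
    · simp only [hF, Sum.elim_inr]
      have h1 := FFW.mul_mem_L (FFW.pow_mem_L hf (i : ℕ)) hg
      refine FF.L_mono ?_ h1
      rw [Finsupp.smul_single, ← Finsupp.single_add]
      apply FFW.single_le_single
      have := i.2
      simp only [nsmul_eq_mul]
      push_cast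
      omega
  have hle : Submodule.span k (Set.range F) ≤ FunFld.L (Finsupp.single P (n : ℤ)) := by
    rw [Submodule.span_le]
    rintro _ ⟨x, rfl⟩
    exact hmem x
  haveI := FF.finiteDimensional_L hK (Finsupp.single P (n : ℤ) : FunFld.Divisor k K)
  apply Submodule.eq_of_le_of_finrank_eq hle
  rw [finrank_span_eq_card hli, Fintype.card_sum, Fintype.card_fin, Fintype.card_fin]
  have h := FF.ell_single_of_genus_one hK hgen hP n (by omega)
  unfold FunFld.ell at h
  rw [h]
  omega

end Groth.Agent.S19396
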