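import Groth.Statements.S19602
import Groth.Agent.Lib.Helper22.Orbit

set_option autoImplicit false
universe u
open GIT

namespace Groth.Agent.S19602

/-- Let k be an algebraically closed field, G = Spec A a linearly reductive affine algebraic group over
k, and U = Spec R an affine k-scheme of finite type on which G acts. Two k-points x₁, x₂ of U have
the same image in U//G = Spec R^G if and only if the closures of their orbits have a common k-point.
Stated in coaction form. The published statement allows any affine U and asks only that the two
orbit closures meet; this row assumes U of finite type over k and asks for a common k-point, which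
is then equivalent. -/
theorem result (k : Type u) [Field k] [IsAlgClosed k]
    (A : Type u) [CommRing A] [HopfAlgebra k A] [Algebra.FiniteType k A] (hG : HopfRep.IsLinearlyReductive k A)
    (R : Type u) [CommRing R] [Algebra k R] [Algebra.FiniteType k R] [HopfRep.Comod k A R] [GLin.IsCoactAlg k A R]
    (x₁ x₂ : R →ₐ[k] k) :
    x₁.comp (GLin.invariants k A R).val = x₂.comp (GLin.invariants k A R).val ↔
      ∃ z : R →ₐ[k] k, GLin.InOrbitClosure k A x₁ z ∧ GLin.InOrbitClosure k A x₂ z := by
  have hss := Groth.Agent.Lib.helper22.isSemisimpleComod_of_isLinearlyReductive hG R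
  constructor
  · intro h
    have h' : ∀ f ∈ GLin.invariants k A R, x₁ f = x₂ f := fun f hf => by
      have := AlgHom.congr_fun h ⟨f, hf⟩
      exact this
    obtain ⟨z, hz⟩ := Groth.Agent.Lib.helper22.exists_algHom_le_ker (k := k) _
      (Groth.Agent.Lib.helper22.ker_orbitHom_sup_ne_top hss x₁ x₂ h')
    exact ⟨z, le_sup_left.trans hz, le_sup_right.trans hz⟩
  · rintro ⟨z, h1, h2⟩
    apply AlgHom.ext
    intro f
    have key : ∀ x : R →ₐ[k] k, GLin.InOrbitClosure k A x z → z f = x f := by
      intro x hx
      have hmem : (f : R) - algebraMap k R (x f) ∈ RingHom.ker (GLin.orbitHom k A x) := by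
        rw [RingHom.mem_ker, map_sub, Groth.Agent.Lib.helper22.orbitHom_of_mem_invariants x f f.2,
          AlgHom.commutes, sub_self]
      have h3 := hx hmem
      rw [RingHom.mem_ker, map_sub, AlgHom.commutes, sub_eq_zero] at h3
      simpa using h3
    change x₁ f = x₂ f
    rw [← key x₁ h1, ← key x₂ h2]

end Groth.Agent.S19602
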