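import Groth.Statements.S19400
import Groth.Agent.S19602

set_option autoImplicit false
universe u
open GIT

namespace Groth.Agent.S19400

section aux

open scoped TensorProduct
open Groth.Agent.Lib.helper22

variable {k : Type u} [Field k] {A : Type u} [CommRing A] [HopfAlgebra k A]
variable {R : Type u} [CommRing R] [Algebra k R] [HopfRep.Comod k A R] [GLin.IsCoactAlg k A R]

theorem actPt_apply (g : A →ₐ[k] k) (x : R →ₐ[k] k) (f : R) :
    GLin.actPt k g x f = g (GLin.orbitHom k A x f) := rfl

theorem orbitHom_actPt (g : A →ₐ[k] k) (x : R →ₐ[k] k) (f : R) :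
    GLin.orbitHom k A (GLin.actPt k g x) f =
      TensorProduct.lid k A (g.toLinearMap.rTensor A
        (CoalgebraStruct.comul (R := k) (GLin.orbitHom k A x f))) := by
  have h := LinearMap.congr_fun (isComodHom_orbitHom (A := A) x) f
  simp only [LinearMap.comp_apply, AlgHom.toLinearMap_apply] at h
  change CoalgebraStruct.comul (R := k) (GLin.orbitHom k A x f) = _ at h
  rw [h, orbitHom_apply]
  generalize HopfRep.Comod.coact (k := k) (A := A) f = t
  induction t using TensorProduct.induction_on with
  | zero => simp
  | tmul r a => simp [actPt_apply]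
  | add t₁ t₂ h₁ h₂ => simp only [map_add, h₁, h₂]

theorem actPt_actPt (g h : WithConv (A →ₐ[k] k)) (x : R →ₐ[k] k) :
    GLin.actPt k h.ofConv (GLin.actPt k g.ofConv x) = GLin.actPt k (g * h).ofConv x := by
  apply AlgHom.ext
  intro f
  rw [actPt_apply, orbitHom_actPt, actPt_apply]
  change _ = (g * h) (GLin.orbitHom k A x f)
  rw [AlgHom.convMul_apply]
  generalize CoalgebraStruct.comul (R := k) (GLin.orbitHom k A x f) = t
  induction t using TensorProduct.induction_on with
  | zero => simp
  | tmul a b => simp
  | add t₁ t₂ h₁ h₂ => simp only [map_add, h₁, h₂]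

theorem actPt_one (x : R →ₐ[k] k) :
    GLin.actPt k (1 : WithConv (A →ₐ[k] k)).ofConv x = x := by
  apply AlgHom.ext
  intro f
  rw [actPt_apply]
  change (1 : WithConv (A →ₐ[k] k)) (GLin.orbitHom k A x f) = x f
  rw [AlgHom.convOne_apply, counit_orbitHom]
  rfl

theorem eq_of_ker_le (z w : R →ₐ[k] k) (h : RingHom.ker z ≤ RingHom.ker w) : z = w := by
  apply AlgHom.ext
  intro f
  have hmem : f - algebraMap k R (z f) ∈ RingHom.ker z := by
    rw [RingHom.mem_ker, map_sub, AlgHom.commutes, sub_eq_zero]
    rfl
  have h2 := h hmem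
  rw [RingHom.mem_ker, map_sub, AlgHom.commutes, sub_eq_zero] at h2
  exact h2.symm.trans rfl

theorem exists_actPt_eq [IsAlgClosed k] [Algebra.FiniteType k A] (x z : R →ₐ[k] k)
    (hcl : GLin.IsClosedOrbit k A x) (hz : GLin.InOrbitClosure k A x z) :
    ∃ g : A →ₐ[k] k, z = GLin.actPt k g x := by
  unfold GLin.IsClosedOrbit at hcl
  unfold GLin.InOrbitClosure at hz
  have hzp : (RingHom.ker z).IsPrime := RingHom.ker_isPrime z.toRingHom
  have hmem : (⟨RingHom.ker z, hzp⟩ : PrimeSpectrum R) ∈
      closure (Set.range (PrimeSpectrum.comap (GLin.orbitHom k A x).toRingHom)) := by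
    rw [PrimeSpectrum.closure_range_comap, PrimeSpectrum.mem_zeroLocus]
    exact hz
  rw [hcl.closure_eq] at hmem
  obtain ⟨𝔭, h𝔭⟩ := hmem
  obtain ⟨g, hg⟩ := exists_algHom_le_ker (k := k) 𝔭.asIdeal 𝔭.2.ne_top
  refine ⟨g, eq_of_ker_le _ _ ?_⟩
  intro f hf
  have hf' : f ∈ (PrimeSpectrum.comap (GLin.orbitHom k A x).toRingHom 𝔭).asIdeal := by
    rw [h𝔭]; exact hf
  rw [RingHom.mem_ker, actPt_apply]
  exact hg hf'

end aux

/-- For a reductive group G (here: every finite-dimensional representation completely reducible, i.e.
linearly reductive; any characteristic) acting on an affine variety X = Spec R over an algebraically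
closed field with all orbits of closed points closed, the morphism X → Y = Spec R^G is a geometric
quotient; in particular it is surjective on closed points and its fibre over every closed point of Y
is a single orbit. This row states those two point-set assertions in coaction form: G = Spec A with
A a finitely generated commutative Hopf algebra whose finite-dimensional comodules are semisimple, R
of finite type with a multiplicative unital coaction, points as k-algebra maps. The published
statement takes X to be a variety (reduced and irreducible); this row does not assume R reduced or a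
domain. -/
theorem result (k : Type u) [Field k] [IsAlgClosed k]
    (A : Type u) [CommRing A] [HopfAlgebra k A] [Algebra.FiniteType k A]
    (hG : HopfRep.IsLinearlyReductive k A)
    (R : Type u) [CommRing R] [Algebra k R] [Algebra.FiniteType k R]
    [HopfRep.Comod k A R] [GLin.IsCoactAlg k A R]
    (hcl : ∀ x : R →ₐ[k] k, GLin.IsClosedOrbit k A x)
    (y : GLin.invariants k A R →ₐ[k] k) :
    (∃ x : R →ₐ[k] k, x.comp (GLin.invariants k A R).val = y) ∧
      ∀ x x' : R →ₐ[k] k, x.comp (GLin.invariants k A R).val = y →
        x'.comp (GLin.invariants k A R).val = y →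
          ∃ g : A →ₐ[k] k, x' = GLin.actPt k g x := by
  have hss := Groth.Agent.Lib.helper22.isSemisimpleComod_of_isLinearlyReductive hG R
  constructor
  · -- surjectivity
    have hker : RingHom.ker y ≠ ⊤ := RingHom.ker_ne_top _
    have hmap : (RingHom.ker y).map (algebraMap (GLin.invariants k A R) R) ≠ ⊤ := by
      intro htop
      have h1 := Groth.Agent.Lib.helper22.comap_map_invariants_eq hss (RingHom.ker y)
      rw [htop, Ideal.comap_top] at h1
      exact hker h1.symm
    obtain ⟨x, hx⟩ := Groth.Agent.Lib.helper22.exists_algHom_le_ker (k := k) _ hmap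
    refine ⟨x, ?_⟩
    symm
    apply AlgHom.ext
    intro f
    have hmem : f - algebraMap k (GLin.invariants k A R) (y f) ∈ RingHom.ker y := by
      rw [RingHom.mem_ker, map_sub, AlgHom.commutes, sub_eq_zero]
      rfl
    have h2 := hx (Ideal.mem_map_of_mem (algebraMap (GLin.invariants k A R) R) hmem)
    rw [RingHom.mem_ker, map_sub] at h2
    rw [map_sub, sub_eq_zero] at h2
    change y f = x (f : R)
    have h3 : x ((algebraMap (GLin.invariants k A R) R) ((algebraMap k (GLin.invariants k A R)) (y f))) = y f := by
      rw [← IsScalarTower.algebraMap_apply k (GLin.invariants k A R) R, AlgHom.commutes]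
      rfl
    rw [← h3, ← h2]
    rfl
  · intro x x' hx hx'
    obtain ⟨z, hz1, hz2⟩ := (Groth.Agent.S19602.result k A hG R x x').mp (hx.trans hx'.symm)
    obtain ⟨g, hg⟩ := exists_actPt_eq x z (hcl x) hz1
    obtain ⟨g', hg'⟩ := exists_actPt_eq x' z (hcl x') hz2
    refine ⟨((WithConv.toConv g) * (WithConv.toConv g')⁻¹).ofConv, ?_⟩
    rw [← actPt_actPt, WithConv.ofConv_toConv, ← hg, hg']
    have := actPt_actPt (WithConv.toConv g') (WithConv.toConv g')⁻¹ x'
    rw [WithConv.ofConv_toConv] at this
    rw [this, mul_inv_cancel, actPt_one]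

end Groth.Agent.S19400
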