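import Groth.Statements.S19402
import Groth.Agent.Lib.Helper22.OrbitEtale
import Groth.Agent.Lib.Helper22.InertiaSep
import Groth.Agent.Lib.Helper22.UnramInertia
import Groth.Agent.Lib.Helper22.InertiaUnram

set_option autoImplicit false
universe u v w
open scoped Pointwise
open GLin

namespace Groth.Agent.S19402

/-- Let k be an algebraically closed field of characteristic zero, R a finitely generated commutative
k-algebra which is an integrally closed domain (a normal irreducible affine variety X), and G a
finite group acting faithfully on R by k-algebra automorphisms. Let B be a commutative k-algebra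
with an injective algebra map B → R, compatible with the k-structures and G-invariant, whose image
is exactly the subring of G-invariants (so Spec R → Spec B is the quotient morphism X → X/G). Then
for a maximal ideal m of R (a closed point x of X), R is étale over B at m (the local ring R_m is
formally étale over B) if and only if the stabilizer of m in G is trivial. -/
theorem result (k : Type u) [Field k] [IsAlgClosed k] [CharZero k]
    (R : Type v) [CommRing R] [IsDomain R] [IsIntegrallyClosed R] [Algebra k R] [Algebra.FiniteType k R]
    (G : Type w) [Group G] [Finite G] [MulSemiringAction G R] [FaithfulSMul G R] [SMulCommClass G k R]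
    (B : Type v) [CommRing B] [Algebra k B] [Algebra B R] [IsScalarTower k B R] [FaithfulSMul B R]
    [SMulCommClass G B R] [Algebra.IsInvariant B R G]
    (m : Ideal R) [m.IsMaximal] :
    Algebra.IsEtaleAt B m ↔ MulAction.stabilizer G m = ⊥ := by
  classical
  have hBinj : Function.Injective (algebraMap B R) := FaithfulSMul.algebraMap_injective B R
  have hS : ∀ z : R, (∀ σ : G, σ • z = z) ↔ z ∈ Set.range (algebraMap B R) := fun z =>
    ⟨fun hz => Algebra.IsInvariant.isInvariant (A := B) (G := G) z hz, by
      rintro ⟨b, rfl⟩ σ; exact smul_algebraMap σ b⟩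
  -- the stabilizer acts trivially on the residue field `k`
  have hres : ∀ σ : G, σ • m = m → σ ∈ m.inertia G := by
    intro σ hσ x
    letI : Field (R ⧸ m) := Ideal.Quotient.field m
    haveI : Module.Finite k (R ⧸ m) := finite_of_finite_type_of_isJacobsonRing k (R ⧸ m)
    have hsurj : Function.Surjective (algebraMap k (R ⧸ m)) :=
      (IsAlgClosed.algebraMap_bijective_of_isIntegral (k := k)).2
    obtain ⟨c, hc⟩ := hsurj (Ideal.Quotient.mk m x)
    have hy : x - algebraMap k R c ∈ m := by
      rw [← Ideal.Quotient.eq, ← hc]
      rfl
    have h1 : σ • (x - algebraMap k R c) ∈ m := by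
      have := Ideal.smul_mem_pointwise_smul σ _ m hy
      rwa [hσ] at this
    have h2 : σ • x - x = σ • (x - algebraMap k R c) - (x - algebraMap k R c) := by
      rw [smul_sub, smul_algebraMap]; ring
    show σ • x - x ∈ m
    rw [h2]
    exact m.sub_mem h1 hy
  constructor
  · intro hEt
    rw [eq_bot_iff]
    intro σ hσ
    rw [Subgroup.mem_bot]
    have hin := hres σ hσ
    haveI : IsNoetherianRing R := Algebra.FiniteType.isNoetherianRing k R
    haveI : Algebra.FormallyEtale B (Localization.AtPrime m) := hEt
    haveI : Algebra.FormallyUnramified B (Localization.AtPrime m) := inferInstance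
    apply FaithfulSMul.eq_of_smul_eq_smul (α := R)
    intro r
    rw [one_smul]
    exact Groth.Agent.Lib.helper22.UnramInertia.smul_eq_of_mem_inertia_of_formallyUnramified
      (B := B) m hin r
  · intro hstab
    have hI : m.inertia G = ⊥ := by
      rw [eq_bot_iff, ← hstab]
      exact fun σ hσ => Groth.Agent.Lib.helper22.InertiaSep.smul_eq_of_mem_inertia G m hσ
    obtain ⟨b, hb⟩ := Groth.Agent.Lib.helper22.InertiaUnram.exists_forall_smul_sub_notMem G m hI
    have hb1 : ∀ σ : G, σ • b = b → σ = 1 := by
      intro σ hσ
      by_contra h
      apply hb σ h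
      rw [hσ, sub_self]
      exact m.zero_mem
    obtain ⟨g, hg, hEt⟩ := Groth.Agent.Lib.helper22.OrbitEtale.exists_etale_away (G := G)
      (S := B) (T := R) (R := R) hBinj (fun _ _ h => h) hS b
      (fun z => ⟨fun _ => ⟨z, rfl⟩, fun _ σ hσ => by rw [hb1 σ hσ, one_smul]⟩)
    have hgm : g ∉ m := hg m inferInstance (fun σ hσ => hb σ (by
      rintro rfl
      exact hσ (one_smul _ _)))
    have hsub : ↑(PrimeSpectrum.basicOpen g) ⊆ Algebra.etaleLocus B R :=
      Algebra.basicOpen_subset_etaleLocus_iff.mpr inferInstance
    exact hsub (show (⟨m, inferInstance⟩ : PrimeSpectrum R) ∈ PrimeSpectrum.basicOpen g from hgm)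

end Groth.Agent.S19402
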