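import Groth.Statements.S19408
import Groth.Agent.Lib.Helper22.StrEtale

set_option autoImplicit false
universe u
open TensorProduct
open GLin

namespace Groth.Agent.S19408

/-- Let k be an algebraically closed field of characteristic zero, A a finitely generated commutative
Hopf algebra over k all of whose finite-dimensional comodules are semisimple (a reductive group G),
S and R finitely generated commutative k-algebras with multiplicative A-coactions (G acting on
affine Y = Spec S and X = Spec R), S → R an algebra map compatible with the coactions (a G-morphism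
θ : X → Y), S₀ → S and R₀ → R injective k-algebra maps whose images are the subrings of invariants,
and S₀ → R₀ an algebra map with S₀ → R₀ → R equal to S₀ → S → R (θ/G). Suppose R is étale over S, R₀
is étale over S₀, and the canonical map S ⊗_{S₀} R₀ → R is bijective (θ and θ/G étale and X ≅ Y
×_{Y//G} X//G). Let J be an ideal of S which is a subcomodule (Y' = V(J) a closed G-invariant
subscheme), let S/J and R/JR carry A-coactions for which the quotient maps are compatible with the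
coactions (the induced actions on Y' and X' = Y' ×_Y X), and let S₁ → S/J and R₁ → R/JR be injective
k-algebra maps whose images are the subrings of invariants, with S₁ → R₁ an algebra map such that S₁
→ R₁ → R/JR equals S₁ → S/J → R/JR. Then R/JR is étale over S/J, R₁ is étale over S₁, and the
canonical map (S/J) ⊗_{S₁} R₁ → R/JR is bijective (θ' : X' → Y' and θ'/G are étale and X' ≅ Y'
×_{Y'//G} X'//G). -/
theorem result (k : Type u) [Field k] [IsAlgClosed k] [CharZero k]
    (A : Type u) [CommRing A] [HopfAlgebra k A] [Algebra.FiniteType k A] (hG : HopfRep.IsLinearlyReductive k A)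
    (S : Type u) [CommRing S] [Algebra k S] [Algebra.FiniteType k S] [HopfRep.Comod k A S] [GLin.IsCoactAlg k A S]
    (R : Type u) [CommRing R] [Algebra k R] [Algebra.FiniteType k R] [HopfRep.Comod k A R] [GLin.IsCoactAlg k A R]
    [Algebra S R] [IsScalarTower k S R]
    (hequiv : (∀ s : S, HopfRep.Comod.coact (k := k) (A := A) (algebraMap S R s) =
      Algebra.TensorProduct.map (IsScalarTower.toAlgHom k S R) (AlgHom.id k A) (HopfRep.Comod.coact (k := k) (A := A) s)))
    (S₀ : Type u) [CommRing S₀] [Algebra k S₀] [Algebra S₀ S] [IsScalarTower k S₀ S]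
    (hS₀i : Function.Injective (algebraMap S₀ S)) (hS₀ : (IsScalarTower.toAlgHom k S₀ S).range = GLin.invariants k A S)
    (R₀ : Type u) [CommRing R₀] [Algebra k R₀] [Algebra R₀ R] [IsScalarTower k R₀ R]
    (hR₀i : Function.Injective (algebraMap R₀ R)) (hR₀ : (IsScalarTower.toAlgHom k R₀ R).range = GLin.invariants k A R)
    [Algebra S₀ R₀] [Algebra S₀ R] [IsScalarTower S₀ S R] [IsScalarTower S₀ R₀ R]
    (het : Algebra.Etale S R) (het₀ : Algebra.Etale S₀ R₀)
    (hcart : Function.Bijective (Algebra.TensorProduct.productMap (IsScalarTower.toAlgHom S₀ S R) (IsScalarTower.toAlgHom S₀ R₀ R)))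
    (J : Ideal S) (hJ : HopfRep.IsSubcomod (k := k) (A := A) (J.restrictScalars k))
    [HopfRep.Comod k A (S ⧸ J)] [GLin.IsCoactAlg k A (S ⧸ J)]
    (hqS : (∀ s : S, HopfRep.Comod.coact (k := k) (A := A) ((Ideal.Quotient.mkₐ k J) s) =
        Algebra.TensorProduct.map (Ideal.Quotient.mkₐ k J) (AlgHom.id k A) (HopfRep.Comod.coact (k := k) (A := A) s)))
    [HopfRep.Comod k A (R ⧸ J.map (algebraMap S R))] [GLin.IsCoactAlg k A (R ⧸ J.map (algebraMap S R))]
    (hqR : (∀ s : R, HopfRep.Comod.coact (k := k) (A := A) ((Ideal.Quotient.mkₐ k (J.map (algebraMap S R))) s) =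
        Algebra.TensorProduct.map (Ideal.Quotient.mkₐ k (J.map (algebraMap S R))) (AlgHom.id k A) (HopfRep.Comod.coact (k := k) (A := A) s)))
    (S₁ : Type u) [CommRing S₁] [Algebra k S₁] [Algebra S₁ (S ⧸ J)] [IsScalarTower k S₁ (S ⧸ J)]
    (hS₁i : Function.Injective (algebraMap S₁ (S ⧸ J)))
    (hS₁ : (IsScalarTower.toAlgHom k S₁ (S ⧸ J)).range = GLin.invariants k A (S ⧸ J))
    (R₁ : Type u) [CommRing R₁] [Algebra k R₁] [Algebra R₁ (R ⧸ J.map (algebraMap S R))] [IsScalarTower k R₁ (R ⧸ J.map (algebraMap S R))]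
    (hR₁i : Function.Injective (algebraMap R₁ (R ⧸ J.map (algebraMap S R))))
    (hR₁ : (IsScalarTower.toAlgHom k R₁ (R ⧸ J.map (algebraMap S R))).range = GLin.invariants k A (R ⧸ J.map (algebraMap S R)))
    [Algebra S₁ R₁] [Algebra S₁ (R ⧸ J.map (algebraMap S R))]
    [IsScalarTower S₁ (S ⧸ J) (R ⧸ J.map (algebraMap S R))] [IsScalarTower S₁ R₁ (R ⧸ J.map (algebraMap S R))] :
    Algebra.Etale (S ⧸ J) (R ⧸ J.map (algebraMap S R)) ∧ Algebra.Etale S₁ R₁ ∧
      Function.Bijective (Algebra.TensorProduct.productMap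
        (IsScalarTower.toAlgHom S₁ (S ⧸ J) (R ⧸ J.map (algebraMap S R)))
        (IsScalarTower.toAlgHom S₁ R₁ (R ⧸ J.map (algebraMap S R)))) := by
  classical
  have hssS := Groth.Agent.Lib.helper22.isSemisimpleComod_of_isLinearlyReductive hG S
  have hssR := Groth.Agent.Lib.helper22.isSemisimpleComod_of_isLinearlyReductive hG R
  have hssSJ := Groth.Agent.Lib.helper22.isSemisimpleComod_of_isLinearlyReductive hG (S ⧸ J)
  have hssRJ := Groth.Agent.Lib.helper22.isSemisimpleComod_of_isLinearlyReductive hG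
    (R ⧸ J.map (algebraMap S R))
  -- notation
  set fS : S →ₐ[k] R := IsScalarTower.toAlgHom k S R with hfSdef
  set qS : S →ₐ[k] S ⧸ J := Ideal.Quotient.mkₐ k J with hqSdef
  set qR : R →ₐ[k] R ⧸ J.map (algebraMap S R) := Ideal.Quotient.mkₐ k (J.map (algebraMap S R))
    with hqRdef
  set ιS : S₀ →ₐ[k] S := IsScalarTower.toAlgHom k S₀ S with hιSdef
  set ιR : R₀ →ₐ[k] R := IsScalarTower.toAlgHom k R₀ R with hιRdef
  set jS : S₁ →ₐ[k] S ⧸ J := IsScalarTower.toAlgHom k S₁ (S ⧸ J) with hjSdef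
  set jR : R₁ →ₐ[k] R ⧸ J.map (algebraMap S R) :=
    IsScalarTower.toAlgHom k R₁ (R ⧸ J.map (algebraMap S R)) with hjRdef
  have hfS : Hoch.IsComodHom A fS.toLinearMap :=
    Groth.Agent.Lib.helper22.StrEtale.isComodHom_of_equivariant fS hequiv
  have hqSc : Hoch.IsComodHom A qS.toLinearMap :=
    Groth.Agent.Lib.helper22.StrEtale.isComodHom_of_equivariant qS hqS
  have hqRc : Hoch.IsComodHom A qR.toLinearMap :=
    Groth.Agent.Lib.helper22.StrEtale.isComodHom_of_equivariant qR hqR
  have hqSsurj : Function.Surjective qS := Ideal.Quotient.mkₐ_surjective k J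
  have hqRsurj : Function.Surjective qR := Ideal.Quotient.mkₐ_surjective k _
  -- membership in invariants
  have hιSinv : ∀ x : S₀, ιS x ∈ GLin.invariants k A S := fun x => by
    rw [← hS₀]; exact ⟨x, rfl⟩
  have hιRinv : ∀ x : R₀, ιR x ∈ GLin.invariants k A R := fun x => by
    rw [← hR₀]; exact ⟨x, rfl⟩
  have hinvS : ∀ s ∈ GLin.invariants k A S, ∃ x : S₀, ιS x = s := fun s hs => by
    rw [← hS₀] at hs; exact hs
  have hinvR : ∀ r ∈ GLin.invariants k A R, ∃ x : R₀, ιR x = r := fun r hr => by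
    rw [← hR₀] at hr; exact hr
  have hinvSJ : ∀ s ∈ GLin.invariants k A (S ⧸ J), ∃ x : S₁, jS x = s := fun s hs => by
    rw [← hS₁] at hs; exact hs
  have hinvRJ : ∀ r ∈ GLin.invariants k A (R ⧸ J.map (algebraMap S R)), ∃ x : R₁, jR x = r :=
    fun r hr => by rw [← hR₁] at hr; exact hr
  have hjSinv : ∀ x : S₁, jS x ∈ GLin.invariants k A (S ⧸ J) := fun x => by
    rw [← hS₁]; exact ⟨x, rfl⟩
  have hjRinv : ∀ x : R₁, jR x ∈ GLin.invariants k A (R ⧸ J.map (algebraMap S R)) := fun x => by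
    rw [← hR₁]; exact ⟨x, rfl⟩
  -- the maps S₀ → S₁ and R₀ → R₁
  obtain ⟨θS, hθS⟩ := Groth.Agent.Lib.helper22.StrEtale.exists_algHom_comp_eq jS hS₁i (qS.comp ιS)
    (fun x => by
      rw [hS₁]
      exact Groth.Agent.Lib.helper22.map_mem_fixedPts qS.toLinearMap hqSc _ (hιSinv x))
  obtain ⟨θR, hθR⟩ := Groth.Agent.Lib.helper22.StrEtale.exists_algHom_comp_eq jR hR₁i (qR.comp ιR)
    (fun x => by
      rw [hR₁]
      exact Groth.Agent.Lib.helper22.map_mem_fixedPts qR.toLinearMap hqRc _ (hιRinv x))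
  have hθS' : ∀ x, jS (θS x) = qS (ιS x) := fun x => AlgHom.congr_fun hθS x
  have hθR' : ∀ x, jR (θR x) = qR (ιR x) := fun x => AlgHom.congr_fun hθR x
  have hθSsurj : Function.Surjective θS := by
    intro x₁
    obtain ⟨s, hs, hs'⟩ := Groth.Agent.Lib.helper22.StrEtale.exists_invariant_lift hssS hssSJ
      qS.toLinearMap hqSc hqSsurj (jS x₁) (hjSinv x₁)
    obtain ⟨s₀, rfl⟩ := hinvS s hs
    refine ⟨s₀, hS₁i ?_⟩
    exact (hθS' s₀).trans hs'
  have hθRsurj : Function.Surjective θR := by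
    intro x₁
    obtain ⟨s, hs, hs'⟩ := Groth.Agent.Lib.helper22.StrEtale.exists_invariant_lift hssR hssRJ
      qR.toLinearMap hqRc hqRsurj (jR x₁) (hjRinv x₁)
    obtain ⟨s₀, rfl⟩ := hinvR s hs
    refine ⟨s₀, hR₁i ?_⟩
    exact (hθR' s₀).trans hs'
  -- compatibilities
  have hφq : ∀ s : S, algebraMap (S ⧸ J) (R ⧸ J.map (algebraMap S R)) (qS s) = qR (algebraMap S R s) :=
    fun s => rfl
  have hsq0 : ∀ s₀ : S₀, algebraMap S R (ιS s₀) = ιR (algebraMap S₀ R₀ s₀) := fun s₀ => by
    change algebraMap S R (algebraMap S₀ S s₀) = algebraMap R₀ R (algebraMap S₀ R₀ s₀)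
    rw [← IsScalarTower.algebraMap_apply, ← IsScalarTower.algebraMap_apply]
  have hsq1 : ∀ s₁ : S₁, algebraMap (S ⧸ J) (R ⧸ J.map (algebraMap S R)) (jS s₁) =
      jR (algebraMap S₁ R₁ s₁) := fun s₁ => by
    change algebraMap (S ⧸ J) _ (algebraMap S₁ (S ⧸ J) s₁) = algebraMap R₁ _ (algebraMap S₁ R₁ s₁)
    rw [← IsScalarTower.algebraMap_apply, ← IsScalarTower.algebraMap_apply]
  have hcomp : ∀ s₀ : S₀, θR (algebraMap S₀ R₀ s₀) = algebraMap S₁ R₁ (θS s₀) := by
    intro s₀
    apply hR₁i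
    change jR _ = jR _
    rw [hθR', ← hsq1, hθS', hφq, hsq0]
  refine ⟨Groth.Agent.Lib.helper22.StrEtale.etale_quotient_map J, ?_, ?_⟩
  · -- étale on invariants
    refine Groth.Agent.Lib.helper22.StrEtale.etale_of_surjective_square (A := S₀) (B := R₀)
      θS.toRingHom θR.toRingHom hθSsurj hθRsurj hcomp ?_
    intro r₀ hr₀
    have hr₀' : θR r₀ = 0 := hr₀
    have h1 : ιR r₀ ∈ J.map (algebraMap S R) := by
      have : qR (ιR r₀) = 0 := by rw [← hθR', hr₀', map_zero]
      exact Ideal.Quotient.eq_zero_iff_mem.mp this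
    have hgen : Submodule.span (GLin.invariants k A R) (Set.range fS) = ⊤ := by
      rw [eq_top_iff]
      intro r hr
      clear hr
      obtain ⟨t, rfl⟩ := hcart.2 r
      induction t using TensorProduct.induction_on with
      | zero => simp
      | tmul s r₀ =>
        rw [Algebra.TensorProduct.productMap_apply_tmul]
        have : (IsScalarTower.toAlgHom S₀ S R) s * (IsScalarTower.toAlgHom S₀ R₀ R) r₀ =
            (⟨ιR r₀, hιRinv r₀⟩ : GLin.invariants k A R) • fS s := by
          rw [Algebra.smul_def, mul_comm]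
          rfl
        rw [this]
        exact Submodule.smul_mem _ _ (Submodule.subset_span ⟨s, rfl⟩)
      | add t₁ t₂ h₁ h₂ =>
        rw [map_add]
        exact Submodule.add_mem _ h₁ h₂
    have h2 := Groth.Agent.Lib.helper22.StrEtale.invariant_mem_span_of_mem_map hssS hssR fS hfS hgen J hJ
      (ιR r₀) h1 (hιRinv r₀)
    have key : ∀ y ∈ Submodule.span (GLin.invariants k A R)
        (fS '' {s | s ∈ J ∧ s ∈ GLin.invariants k A S}),
        ∃ c ∈ (RingHom.ker θS.toRingHom).map (algebraMap S₀ R₀), ιR c = y := by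
      intro y hy
      induction hy using Submodule.span_induction with
      | mem y hy =>
        obtain ⟨j, ⟨hjJ, hjinv⟩, rfl⟩ := hy
        obtain ⟨s₀, rfl⟩ := hinvS j hjinv
        refine ⟨algebraMap S₀ R₀ s₀, Ideal.mem_map_of_mem _ ?_, (hsq0 s₀).symm⟩
        rw [RingHom.mem_ker]
        apply hS₁i
        change jS (θS s₀) = jS 0
        rw [hθS', map_zero]
        exact Ideal.Quotient.eq_zero_iff_mem.mpr hjJ
      | zero => exact ⟨0, Ideal.zero_mem _, map_zero _⟩
      | add y₁ y₂ _ _ h₁ h₂ =>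
        obtain ⟨c₁, hc₁, e₁⟩ := h₁
        obtain ⟨c₂, hc₂, e₂⟩ := h₂
        exact ⟨c₁ + c₂, Ideal.add_mem _ hc₁ hc₂, by rw [map_add, e₁, e₂]⟩
      | smul a y _ h' =>
        obtain ⟨c, hc, e⟩ := h'
        obtain ⟨r', hr'⟩ := hinvR a.1 a.2
        refine ⟨r' * c, Ideal.mul_mem_left _ _ hc, ?_⟩
        rw [map_mul, e, hr', Algebra.smul_def]
        rfl
    obtain ⟨c, hc, e⟩ := key _ h2
    have : c = r₀ := hR₀i e
    rw [← this]
    exact hc
  · -- cartesian
    set pm := Algebra.TensorProduct.productMap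
        (IsScalarTower.toAlgHom S₁ (S ⧸ J) (R ⧸ J.map (algebraMap S R)))
        (IsScalarTower.toAlgHom S₁ R₁ (R ⧸ J.map (algebraMap S R))) with hpm
    have hpm_tmul : ∀ (s : S) (r₀ : R₀), pm (qS s ⊗ₜ[S₁] θR r₀) =
        qR (algebraMap S R s * ιR r₀) := by
      intro s r₀
      rw [hpm, Algebra.TensorProduct.productMap_apply_tmul, map_mul, ← hθR']
      rfl
    constructor
    · -- injective: construct a left inverse
      letI algT : Algebra S₀ ((S ⧸ J) ⊗[S₁] R₁) :=
        ((algebraMap S₁ ((S ⧸ J) ⊗[S₁] R₁)).comp θS.toRingHom).toAlgebra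
      have halgT : ∀ s₀ : S₀, algebraMap S₀ ((S ⧸ J) ⊗[S₁] R₁) s₀ =
          algebraMap S₁ ((S ⧸ J) ⊗[S₁] R₁) (θS s₀) := fun s₀ => rfl
      let a₁ : S →ₐ[S₀] (S ⧸ J) ⊗[S₁] R₁ :=
        { toRingHom := (Algebra.TensorProduct.includeLeftRingHom : (S ⧸ J) →+* (S ⧸ J) ⊗[S₁] R₁).comp
            (Ideal.Quotient.mk J)
          commutes' := by
            intro s₀
            rw [halgT, Algebra.TensorProduct.algebraMap_apply]
            change (qS (ιS s₀)) ⊗ₜ[S₁] (1 : R₁) = _
            rw [← hθS']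
            rfl }
      let a₂ : R₀ →ₐ[S₀] (S ⧸ J) ⊗[S₁] R₁ :=
        { toRingHom := ((Algebra.TensorProduct.includeRight :
            R₁ →ₐ[S₁] (S ⧸ J) ⊗[S₁] R₁) : R₁ →+* (S ⧸ J) ⊗[S₁] R₁).comp θR.toRingHom
          commutes' := by
            intro s₀
            rw [halgT]
            change (1 : S ⧸ J) ⊗ₜ[S₁] θR (algebraMap S₀ R₀ s₀) = _
            rw [hcomp, Algebra.TensorProduct.algebraMap_apply, Algebra.algebraMap_eq_smul_one (θS s₀),
              ← TensorProduct.smul_tmul, Algebra.algebraMap_eq_smul_one (θS s₀)] }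
      have ha₁ : ∀ s : S, a₁ s = qS s ⊗ₜ[S₁] (1 : R₁) := fun s => rfl
      have ha₂ : ∀ r₀ : R₀, a₂ r₀ = (1 : S ⧸ J) ⊗ₜ[S₁] θR r₀ := fun r₀ => rfl
      let G₀ : S ⊗[S₀] R₀ →ₐ[S₀] (S ⧸ J) ⊗[S₁] R₁ := Algebra.TensorProduct.productMap a₁ a₂
      let e : S ⊗[S₀] R₀ ≃ₐ[S₀] R := AlgEquiv.ofBijective _ hcart
      have he : ∀ (s : S) (r₀ : R₀), e (s ⊗ₜ[S₀] r₀) = algebraMap S R s * ιR r₀ := by
        intro s r₀
        change Algebra.TensorProduct.productMap _ _ (s ⊗ₜ[S₀] r₀) = _
        rw [Algebra.TensorProduct.productMap_apply_tmul]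
        rfl
      let G₁ : R →+* (S ⧸ J) ⊗[S₁] R₁ := (G₀ : S ⊗[S₀] R₀ →+* _).comp (e.symm : R →+* S ⊗[S₀] R₀)
      have hG₁ : ∀ x ∈ J.map (algebraMap S R), G₁ x = 0 := by
        intro x hx
        have hle : J.map (algebraMap S R) ≤ RingHom.ker G₁ := by
          rw [Ideal.map_le_iff_le_comap]
          intro j hj
          rw [Ideal.mem_comap, RingHom.mem_ker]
          have h1 : e.symm (algebraMap S R j) = j ⊗ₜ[S₀] (1 : R₀) := by
            rw [AlgEquiv.symm_apply_eq, he, map_one, mul_one]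
          change G₀ (e.symm (algebraMap S R j)) = 0
          rw [h1]
          change Algebra.TensorProduct.productMap a₁ a₂ (j ⊗ₜ[S₀] (1 : R₀)) = 0
          rw [Algebra.TensorProduct.productMap_apply_tmul, map_one, mul_one, ha₁]
          have : qS j = 0 := Ideal.Quotient.eq_zero_iff_mem.mpr hj
          rw [this, TensorProduct.zero_tmul]
        exact hle hx
      let G : (R ⧸ J.map (algebraMap S R)) →+* (S ⧸ J) ⊗[S₁] R₁ :=
        Ideal.Quotient.lift (J.map (algebraMap S R)) G₁ hG₁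
      have hGpm : ∀ t : (S ⧸ J) ⊗[S₁] R₁, G (pm t) = t := by
        intro t
        induction t using TensorProduct.induction_on with
        | zero => simp
        | tmul sb r₁ =>
          obtain ⟨s, rfl⟩ := hqSsurj sb
          obtain ⟨r₀, rfl⟩ := hθRsurj r₁
          rw [hpm_tmul]
          change G₁ (algebraMap S R s * ιR r₀) = _
          change G₀ (e.symm (algebraMap S R s * ιR r₀)) = _
          rw [← he, AlgEquiv.symm_apply_apply]
          change Algebra.TensorProduct.productMap a₁ a₂ (s ⊗ₜ[S₀] r₀) = _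
          rw [Algebra.TensorProduct.productMap_apply_tmul, ha₁, ha₂,
            Algebra.TensorProduct.tmul_mul_tmul, mul_one, one_mul]
        | add t₁ t₂ h₁ h₂ => rw [map_add, map_add, h₁, h₂]
      exact Function.LeftInverse.injective hGpm
    · -- surjective
      intro rb
      obtain ⟨r, rfl⟩ := hqRsurj rb
      obtain ⟨t, rfl⟩ := hcart.2 r
      induction t using TensorProduct.induction_on with
      | zero => exact ⟨0, by simp⟩
      | tmul s r₀ =>
        refine ⟨qS s ⊗ₜ[S₁] θR r₀, ?_⟩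
        rw [hpm_tmul, Algebra.TensorProduct.productMap_apply_tmul]
        rfl
      | add t₁ t₂ h₁ h₂ =>
        obtain ⟨u₁, hu₁⟩ := h₁
        obtain ⟨u₂, hu₂⟩ := h₂
        exact ⟨u₁ + u₂, by rw [map_add, hu₁, hu₂, map_add, map_add]⟩

end Groth.Agent.S19408
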