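import Groth.Statements.S19412
import Groth.Agent.S19400
import Groth.Agent.Lib.Helper22.StrEtale

set_option autoImplicit false
universe u
open TensorProduct
open GLin

namespace Groth.Agent.S19412

section aux

open Groth.Agent.Lib.helper22


theorem etale_of_cart (S₀ S R₀ R : Type u) [CommRing S₀] [CommRing S] [CommRing R₀] [CommRing R]
    [Algebra S₀ S] [Algebra S₀ R₀] [Algebra S₀ R] [Algebra S R] [Algebra R₀ R]
    [IsScalarTower S₀ S R] [IsScalarTower S₀ R₀ R] [Algebra.Etale S₀ R₀]
    (hcart : Function.Bijective (Algebra.TensorProduct.productMap (IsScalarTower.toAlgHom S₀ S R)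
      (IsScalarTower.toAlgHom S₀ R₀ R))) :
    Algebra.Etale S R := by
  have : Algebra.Etale S (S ⊗[S₀] R₀) := Algebra.Etale.baseChange S₀ R₀ S
  let F : S ⊗[S₀] R₀ →ₐ[S] R :=
    Algebra.TensorProduct.productLeftAlgHom (Algebra.ofId S R) (IsScalarTower.toAlgHom S₀ R₀ R)
  have hFeq : (F : S ⊗[S₀] R₀ → R) = (Algebra.TensorProduct.productMap
      (IsScalarTower.toAlgHom S₀ S R) (IsScalarTower.toAlgHom S₀ R₀ R)) := by
    funext t
    induction t using TensorProduct.induction_on with
    | zero => simp
    | tmul s r => simp [F, Algebra.ofId_apply]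
    | add t₁ t₂ h₁ h₂ => simp only [map_add, h₁, h₂]
  have hF : Function.Bijective F := by rw [hFeq]; exact hcart
  exact Algebra.Etale.of_equiv (AlgEquiv.ofBijective F hF)


theorem isClosed_range_iff {R S A : Type u} [CommRing R] [CommRing S] [CommRing A]
    (f : S →+* R) (o : R →+* A) (m : Ideal R) (h1 : m ≤ RingHom.ker o)
    (h2 : ∀ r : R, ∃ s : S, r - f s ∈ m) :
    IsClosed (Set.range (PrimeSpectrum.comap o)) ↔
      IsClosed (Set.range (PrimeSpectrum.comap (o.comp f))) := by
  constructor
  · intro hcl
    set I := RingHom.ker o with hI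
    have hr1 : Set.range (PrimeSpectrum.comap o) = PrimeSpectrum.zeroLocus (I : Set R) := by
      rw [← hcl.closure_eq, PrimeSpectrum.closure_range_comap]
    have hr2 : Set.range (PrimeSpectrum.comap (Ideal.Quotient.mk I)) =
        PrimeSpectrum.zeroLocus (I : Set R) := by
      rw [_root_.range_comap_of_surjective _ _ Ideal.Quotient.mk_surjective, Ideal.mk_ker]
    have hsurj : Function.Surjective ((Ideal.Quotient.mk I).comp f) := by
      intro q
      obtain ⟨r, rfl⟩ := Ideal.Quotient.mk_surjective q
      obtain ⟨s, hs⟩ := h2 r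
      refine ⟨s, ?_⟩
      rw [RingHom.comp_apply, eq_comm, Ideal.Quotient.eq]
      exact h1 hs
    have hr3 : Set.range (PrimeSpectrum.comap (o.comp f)) =
        Set.range (PrimeSpectrum.comap ((Ideal.Quotient.mk I).comp f)) := by
      rw [PrimeSpectrum.comap_comp, PrimeSpectrum.comap_comp, Set.range_comp, Set.range_comp,
        hr1, hr2]
    rw [hr3]
    exact PrimeSpectrum.isClosed_range_comap_of_surjective _ _ hsurj
  · intro hcl
    have key : Set.range (PrimeSpectrum.comap o) = PrimeSpectrum.zeroLocus (m : Set R) ∩
        (PrimeSpectrum.comap f) ⁻¹' (Set.range (PrimeSpectrum.comap (o.comp f))) := by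
      ext p
      constructor
      · rintro ⟨q, rfl⟩
        refine ⟨?_, ⟨q, rfl⟩⟩
        rw [PrimeSpectrum.mem_zeroLocus]
        intro r hr
        have : o r = 0 := h1 hr
        change o r ∈ q.asIdeal
        rw [this]
        exact q.asIdeal.zero_mem
      · rintro ⟨hp, q, hq⟩
        refine ⟨q, ?_⟩
        rw [PrimeSpectrum.mem_zeroLocus] at hp
        have hp' : (m : Set R) ⊆ (PrimeSpectrum.comap o q).asIdeal := by
          intro r hr
          have : o r = 0 := h1 hr
          change o r ∈ q.asIdeal
          rw [this]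
          exact q.asIdeal.zero_mem
        have hq' : ∀ s : S, f s ∈ (PrimeSpectrum.comap o q).asIdeal ↔ f s ∈ p.asIdeal := by
          intro s
          have := congrArg (fun z : PrimeSpectrum S => s ∈ z.asIdeal) hq
          simpa using this
        ext r
        obtain ⟨s, hs⟩ := h2 r
        constructor
        · intro hr
          have h3 : f s ∈ (PrimeSpectrum.comap o q).asIdeal := by
            have := Ideal.sub_mem _ hr (hp' hs)
            simpa using this
          have h4 := (hq' s).mp h3
          have := Ideal.add_mem _ (hp hs) h4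
          simpa using this
        · intro hr
          have h3 : f s ∈ p.asIdeal := by
            have := Ideal.sub_mem _ hr (hp hs)
            simpa using this
          have h4 := (hq' s).mpr h3
          have := Ideal.add_mem _ (hp' hs) h4
          simpa using this
    rw [key]
    exact (PrimeSpectrum.isClosed_zeroLocus _).inter (hcl.preimage (PrimeSpectrum.continuous_comap f))


variable {k : Type u} [Field k] {A : Type u} [CommRing A] [HopfAlgebra k A]
variable {S : Type u} [CommRing S] [Algebra k S] [HopfRep.Comod k A S] [GLin.IsCoactAlg k A S]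
variable {R : Type u} [CommRing R] [Algebra k R] [HopfRep.Comod k A R] [GLin.IsCoactAlg k A R]

theorem orbitHom_comp (f : S →ₐ[k] R)
    (h : ∀ s : S, HopfRep.Comod.coact (k := k) (A := A) (f s) =
      Algebra.TensorProduct.map f (AlgHom.id k A) (HopfRep.Comod.coact (k := k) (A := A) s))
    (x : R →ₐ[k] k) (s : S) :
    GLin.orbitHom k A (x.comp f) s = GLin.orbitHom k A x (f s) := by
  rw [orbitHom_apply, orbitHom_apply, h]
  generalize HopfRep.Comod.coact (k := k) (A := A) s = t
  induction t using TensorProduct.induction_on with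
  | zero => simp
  | tmul r a => simp
  | add t₁ t₂ h₁ h₂ => simp only [map_add, h₁, h₂]

end aux

/-- Let k be an algebraically closed field of characteristic zero, A a finitely generated commutative
Hopf algebra over k (an algebraic group G), S and R finitely generated commutative k-algebras with
multiplicative A-coactions (G acting on affine Y = Spec S, X = Spec R), S → R an algebra map
compatible with the coactions (a G-morphism φ : X → Y), S₀ → S and R₀ → R injective k-algebra maps
whose images are the subrings of invariants, and S₀ → R₀ an algebra map with S₀ → R₀ → R equal to S₀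
→ S → R (φ/G). Suppose R₀ is étale over S₀ and the canonical map S ⊗_{S₀} R₀ → R is bijective (φ is
strongly étale: φ/G étale and X ≅ Y ×_{Y//G} X//G). Then R is étale over S (φ étale), and for every
k-point x of X: every k-point of G fixing the image point φ(x) fixes x (φ restricted to the orbit of
x is injective), and the orbit of x is closed if and only if the orbit of φ(x) is closed. (The
published item also asserts that φ is surjective; that fails when φ is the inclusion of a proper
saturated open subset, which is strongly étale, so surjectivity is not asserted here.) -/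
theorem result (k : Type u) [Field k] [IsAlgClosed k] [CharZero k]
    (A : Type u) [CommRing A] [HopfAlgebra k A] [Algebra.FiniteType k A]
    (S : Type u) [CommRing S] [Algebra k S] [Algebra.FiniteType k S] [HopfRep.Comod k A S] [GLin.IsCoactAlg k A S]
    (R : Type u) [CommRing R] [Algebra k R] [Algebra.FiniteType k R] [HopfRep.Comod k A R] [GLin.IsCoactAlg k A R]
    [Algebra S R] [IsScalarTower k S R]
    (hequiv : (∀ s : S, HopfRep.Comod.coact (k := k) (A := A) (algebraMap S R s) =
      Algebra.TensorProduct.map (IsScalarTower.toAlgHom k S R) (AlgHom.id k A) (HopfRep.Comod.coact (k := k) (A := A) s)))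
    (S₀ : Type u) [CommRing S₀] [Algebra k S₀] [Algebra S₀ S] [IsScalarTower k S₀ S]
    (hS₀i : Function.Injective (algebraMap S₀ S)) (hS₀ : (IsScalarTower.toAlgHom k S₀ S).range = GLin.invariants k A S)
    (R₀ : Type u) [CommRing R₀] [Algebra k R₀] [Algebra R₀ R] [IsScalarTower k R₀ R]
    (hR₀i : Function.Injective (algebraMap R₀ R)) (hR₀ : (IsScalarTower.toAlgHom k R₀ R).range = GLin.invariants k A R)
    [Algebra S₀ R₀] [Algebra S₀ R] [IsScalarTower S₀ S R] [IsScalarTower S₀ R₀ R]
    (het₀ : Algebra.Etale S₀ R₀)
    (hcart : Function.Bijective (Algebra.TensorProduct.productMap (IsScalarTower.toAlgHom S₀ S R) (IsScalarTower.toAlgHom S₀ R₀ R))) :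
    Algebra.Etale S R ∧
      ∀ x : R →ₐ[k] k,
        (∀ g : A →ₐ[k] k, GLin.actPt k g (x.comp (IsScalarTower.toAlgHom k S R)) = x.comp (IsScalarTower.toAlgHom k S R) →
          GLin.actPt k g x = x) ∧
        (GLin.IsClosedOrbit k A x ↔ GLin.IsClosedOrbit k A (x.comp (IsScalarTower.toAlgHom k S R))) := by
  refine ⟨etale_of_cart S₀ S R₀ R hcart, ?_⟩
  intro x
  -- generation of `R` by products
  have hgen : ∀ (P : R → Prop), (∀ (s : S) (r₀ : R₀), P (algebraMap S R s * algebraMap R₀ R r₀)) →
      (∀ a b, P a → P b → P (a + b)) → P 0 → ∀ r, P r := by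
    intro P hmul hadd h0 r
    obtain ⟨t, rfl⟩ := hcart.2 r
    induction t using TensorProduct.induction_on with
    | zero => simpa using h0
    | tmul s r₀ => simpa using hmul s r₀
    | add t₁ t₂ h₁ h₂ => rw [map_add]; exact hadd _ _ h₁ h₂
  have hinv : ∀ r₀ : R₀, GLin.orbitHom k A x (algebraMap R₀ R r₀) =
      algebraMap k A (x (algebraMap R₀ R r₀)) := by
    intro r₀
    apply Groth.Agent.Lib.helper22.orbitHom_of_mem_invariants
    rw [← hR₀]
    exact ⟨r₀, rfl⟩
  have hoc : ∀ s : S, GLin.orbitHom k A (x.comp (IsScalarTower.toAlgHom k S R)) s =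
      GLin.orbitHom k A x (algebraMap S R s) := fun s =>
    orbitHom_comp (IsScalarTower.toAlgHom k S R) hequiv x s
  refine ⟨?_, ?_⟩
  · intro g hg
    apply AlgHom.ext
    refine hgen _ ?_ ?_ ?_
    · intro s r₀
      rw [Groth.Agent.S19400.actPt_apply, map_mul, map_mul, map_mul, hinv, AlgHom.commutes, ← hoc]
      have := AlgHom.congr_fun hg s
      rw [Groth.Agent.S19400.actPt_apply] at this
      rw [this]
      rfl
    · intro a b ha hb
      rw [map_add, map_add, ha, hb]
    · rw [map_zero, map_zero]
  · unfold GLin.IsClosedOrbit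
    set m : Ideal R := Ideal.map (algebraMap R₀ R)
      (RingHom.ker (x.comp (IsScalarTower.toAlgHom k R₀ R))) with hm
    have h1 : m ≤ RingHom.ker (GLin.orbitHom k A x).toRingHom := by
      rw [hm, Ideal.map_le_iff_le_comap]
      intro r₀ hr₀
      rw [Ideal.mem_comap, RingHom.mem_ker]
      change GLin.orbitHom k A x (algebraMap R₀ R r₀) = 0
      rw [hinv]
      have : x (algebraMap R₀ R r₀) = 0 := hr₀
      rw [this, map_zero]
    have h2 : ∀ r : R, ∃ s : S, r - (algebraMap S R) s ∈ m := by
      refine hgen _ ?_ ?_ ?_
      · intro s r₀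
        refine ⟨(x (algebraMap R₀ R r₀)) • s, ?_⟩
        have e : algebraMap S R s * algebraMap R₀ R r₀ - algebraMap S R ((x (algebraMap R₀ R r₀)) • s) =
            algebraMap S R s * algebraMap R₀ R (r₀ - algebraMap k R₀ (x (algebraMap R₀ R r₀))) := by
          rw [map_sub, mul_sub, Algebra.smul_def, map_mul, ← IsScalarTower.algebraMap_apply k S R,
            ← IsScalarTower.algebraMap_apply k R₀ R, mul_comm (algebraMap k R _)]
        rw [e]
        apply Ideal.mul_mem_left
        apply Ideal.mem_map_of_mem
        rw [RingHom.mem_ker]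
        change x (algebraMap R₀ R (r₀ - algebraMap k R₀ (x (algebraMap R₀ R r₀)))) = 0
        rw [map_sub, map_sub, ← IsScalarTower.algebraMap_apply k R₀ R, AlgHom.commutes, sub_eq_zero]
        rfl
      · rintro a b ⟨s₁, h₁⟩ ⟨s₂, h₂⟩
        refine ⟨s₁ + s₂, ?_⟩
        have : a + b - algebraMap S R (s₁ + s₂) = (a - algebraMap S R s₁) + (b - algebraMap S R s₂) := by
          rw [map_add]; ring
        rw [this]
        exact Ideal.add_mem _ h₁ h₂
      · exact ⟨0, by simp⟩
    have hcomp : (GLin.orbitHom k A (x.comp (IsScalarTower.toAlgHom k S R))).toRingHom =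
        (GLin.orbitHom k A x).toRingHom.comp (algebraMap S R) := by
      apply RingHom.ext
      intro s
      exact hoc s
    rw [hcomp]
    exact isClosed_range_iff (algebraMap S R) (GLin.orbitHom k A x).toRingHom m h1 h2

end Groth.Agent.S19412
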