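import Groth.Statements.S19416
import Groth.Agent.Lib.Helper2.DiagSch
import Groth.Agent.Lib.Helper2.IM8
import Groth.Agent.Lib.Helper5.ConsFibre

set_option autoImplicit false
universe u
open CategoryTheory AlgebraicGeometry
open IntMult

namespace Groth.Agent.S19416

/-- Let k be a field and X a smooth variety over k (the structure morphism X → Spec k smooth, separated
and quasi-compact, X integral) of dimension n, and let V, W ⊆ X be closed irreducible subsets of
dimensions r and s. Then every irreducible component Z of V ∩ W has dimension at least r + s − n,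
stated as r + s ≤ dim Z + n with Krull dimensions of the subspaces; equivalently the codimension of
Z is at most the sum of the codimensions of V and W. The base field is arbitrary here; the same
statement over an algebraically closed field is the classical dimension count for intersections on a
nonsingular variety. -/
theorem result (k : Type u) [Field k] (X : Scheme.{u})
    (f : X ⟶ Spec (CommRingCat.of k)) [Smooth f] [IsSeparated f] [QuasiCompact f] [IsIntegral X]
    (n r s : ℕ) (hn : topologicalKrullDim X = n) (V W : Set X) (hVc : IsClosed V)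
    (hVi : IsIrreducible V) (hWc : IsClosed W) (hWi : IsIrreducible W)
    (hr : topologicalKrullDim ↥V = r) (hs : topologicalKrullDim ↥W = s) (Z : Set ↥(V ∩ W))
    (hZ : Z ∈ irreducibleComponents ↥(V ∩ W)) :
    ((r + s : ℕ) : WithBot ℕ∞) ≤ topologicalKrullDim ↥Z + n := by
  classical
  haveI : IsLocallyNoetherian X := LocallyOfFiniteType.isLocallyNoetherian f
  set CV : TopologicalSpace.Closeds X := ⟨V, hVc⟩ with hCV
  set CW : TopologicalSpace.Closeds X := ⟨W, hWc⟩ with hCW
  set IV := Scheme.IdealSheafData.vanishingIdeal CV with hIV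
  set IW := Scheme.IdealSheafData.vanishingIdeal CW with hIW
  haveI : IsIntegral IV.subscheme :=
    Groth.Agent.Lib.helper5.ConsFibre.isIntegral_subscheme_vanishingIdeal CV hVi
  haveI : IsIntegral IW.subscheme :=
    Groth.Agent.Lib.helper5.ConsFibre.isIntegral_subscheme_vanishingIdeal CW hWi
  have hsV : (IV.support : Set X) = V := Scheme.IdealSheafData.coe_support_vanishingIdeal CV
  have hsW : (IW.support : Set X) = W := Scheme.IdealSheafData.coe_support_vanishingIdeal CW
  -- the image of `Z` in `X` and its generic point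
  have hZi : IsIrreducible Z := hZ.1
  have hZc : IsClosed Z := isClosed_of_mem_irreducibleComponents Z hZ
  have hVW : IsClosed (V ∩ W) := hVc.inter hWc
  have hZ'c : IsClosed (Subtype.val '' Z : Set X) :=
    hVW.isClosedEmbedding_subtypeVal.isClosedMap _ hZc
  have hZ'i : IsIrreducible (Subtype.val '' Z : Set X) :=
    hZi.image _ continuous_subtype_val.continuousOn
  obtain ⟨ζ, hζ⟩ := QuasiSober.sober hZ'i hZ'c
  have hζmem : ζ ∈ (Subtype.val '' Z : Set X) := hζ.mem
  obtain ⟨⟨ζ0, hζ0⟩, hζZ, rfl⟩ := hζmem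
  have hζV : ζ0 ∈ IV.support := by
    rw [← SetLike.mem_coe, hsV]; exact hζ0.1
  have hζW : ζ0 ∈ IW.support := by
    rw [← SetLike.mem_coe, hsW]; exact hζ0.2
  have hmax : ∀ ξ' : X, ξ' ∈ IV.support → ξ' ∈ IW.support → ξ' ⤳ ζ0 → ξ' = ζ0 := by
    intro ξ' h1 h2 hsp
    rw [← SetLike.mem_coe, hsV] at h1
    rw [← SetLike.mem_coe, hsW] at h2
    set x' : ↥(V ∩ W) := ⟨ξ', h1, h2⟩ with hx'
    have hT : IsIrreducible (closure ({x'} : Set ↥(V ∩ W))) := isIrreducible_singleton.closure
    have hZT : Z ≤ closure ({x'} : Set ↥(V ∩ W)) := by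
      intro z hz
      rw [closure_subtype, Set.image_singleton]
      have hz' : z.1 ∈ (Subtype.val '' Z : Set X) := ⟨z, hz, rfl⟩
      rw [← hζ.def] at hz'
      have hsub : closure ({ζ0} : Set X) ⊆ closure ({ξ'} : Set X) :=
        closure_minimal (Set.singleton_subset_iff.2 hsp.mem_closure) isClosed_closure
      exact hsub hz'
    have hTZ := hZ.2 hT hZT
    have hx'Z : x' ∈ Z := hTZ (subset_closure (Set.mem_singleton x'))
    have hmem : ξ' ∈ closure ({ζ0} : Set X) := by
      rw [hζ.def]
      exact ⟨x', hx'Z, rfl⟩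
    have hsp2 : ζ0 ⤳ ξ' := specializes_iff_mem_closure.2 hmem
    exact (hsp.antisymm hsp2).eq
  -- dimensions
  have hD : topologicalKrullDim ↥Z = topologicalKrullDim ↥(closure ({ζ0} : Set X)) := by
    have e1 : Z ≃ₜ (Subtype.val '' Z : Set X) :=
      (Topology.IsEmbedding.subtypeVal).homeomorphImage Z
    rw [e1.isHomeomorph.topologicalKrullDim_eq, hζ.def]
  have hr' : topologicalKrullDim IV.support = r := by
    rw [← hr]
    exact (Homeomorph.setCongr hsV).isHomeomorph.topologicalKrullDim_eq
  have hs' : topologicalKrullDim IW.support = s := by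
    rw [← hs]
    exact (Homeomorph.setCongr hsW).isHomeomorph.topologicalKrullDim_eq
  obtain ⟨a, D, ha, hDn, h1⟩ := Groth.Agent.Lib.helper2.IM.exists_nat_of_add_eq
    (Groth.Agent.Lib.helper2.IM.ringKrullDim_stalk_add_dim_closure_of_irreducible k X f n hn ζ0)
  obtain ⟨v, D', hv, hD', h2⟩ := Groth.Agent.Lib.helper2.IM.exists_nat_of_add_eq
    (Groth.Agent.Lib.helper2.IM.ringKrullDim_quot_stalkIdeal_add k f IV r hr' ζ0 hζV)
  obtain ⟨w, D'', hw, hD'', h3⟩ := Groth.Agent.Lib.helper2.IM.exists_nat_of_add_eq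
    (Groth.Agent.Lib.helper2.IM.ringKrullDim_quot_stalkIdeal_add k f IW s hs' ζ0 hζW)
  have e1 : D' = D := by
    have : ((D' : ℕ) : WithBot ℕ∞) = ((D : ℕ) : WithBot ℕ∞) := by rw [← hD', ← hDn]
    exact_mod_cast this
  have e2 : D'' = D := by
    have : ((D'' : ℕ) : WithBot ℕ∞) = ((D : ℕ) : WithBot ℕ∞) := by rw [← hD'', ← hDn]
    exact_mod_cast this
  have hPV := Groth.Agent.Lib.helper2.IM.isPrime_stalkIdeal IV ζ0 hζV
  have hPW := Groth.Agent.Lib.helper2.IM.isPrime_stalkIdeal IW ζ0 hζW
  have h0 := Groth.Agent.Lib.helper2.IM.ringKrullDim_quot_sup_eq_zero IV IW ζ0 hζV hζW hmax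
  rw [sup_comm] at h0
  have hmain := (Groth.Agent.Lib.helper2.Diag.serre_stalk f ζ0 (IntMult.stalkIdeal IV ζ0)
    (IntMult.stalkIdeal IW ζ0) hPV.ne_top hPW.ne_top h0).1
  rw [ha, hv, hw] at hmain
  have hvw : v + w ≤ a := by exact_mod_cast hmain
  rw [hD, hDn]
  have : r + s ≤ D + n := by omega
  exact_mod_cast this

end Groth.Agent.S19416
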