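import Groth.Statements.S19422
import Groth.Agent.Lib.Helper22.GmDiag

set_option autoImplicit false
universe u
open TensorProduct LaurentPolynomial
open GIT

namespace Groth.Agent.S19422

/-- Over an algebraically closed field k, let the multiplicative group, whose coordinate Hopf algebra is
the Laurent polynomial ring, act diagonally on affine ι-space, ι finite: the coaction on the
polynomial ring is multiplicative and sends the coordinate function X_i to X_i ⊗ T^(r_i) for
integers r_i. Then a vector v is semistable (some invariant homogeneous polynomial of positive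
degree does not vanish at v) if and only if there are indices i and j, possibly equal, with v_i ≠ 0,
v_j ≠ 0 and r_i ≤ 0 ≤ r_j, i.e. the origin lies in the convex hull of the weights of v. (Stated for
the ambient projective space on its affine cone; the published statement is for a point of a closed
invariant subvariety, whose semistability is that of the point in the ambient space.) -/
theorem result (k : Type u) [Field k] [IsAlgClosed k]
    (ι : Type u) [Fintype ι] [HopfRep.Comod k k[T;T⁻¹] (MvPolynomial ι k)] [GLin.IsCoactAlg k k[T;T⁻¹] (MvPolynomial ι k)]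
    (r : ι → ℤ)
    (hr : ∀ i : ι, HopfRep.Comod.coact (k := k) (A := k[T;T⁻¹]) (MvPolynomial.X i : MvPolynomial ι k) =
      (MvPolynomial.X i : MvPolynomial ι k) ⊗ₜ[k] (T (r i) : k[T;T⁻¹]))
    (v : ι → k) :
    GLin.IsSemistableVec k k[T;T⁻¹] v ↔ ∃ i j : ι, v i ≠ 0 ∧ v j ≠ 0 ∧ r i ≤ 0 ∧ 0 ≤ r j := by
  classical
  unfold GLin.IsSemistableVec GLin.IsNullform
  constructor
  · intro h
    push Not at h
    obtain ⟨F, hF, d, hd, hhom, hev⟩ := h
    rw [MvPolynomial.eval_eq] at hev
    obtain ⟨m, hm, hterm⟩ := Finset.exists_ne_zero_of_sum_ne_zero hev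
    have hc : MvPolynomial.coeff m F ≠ 0 := left_ne_zero_of_mul hterm
    have hp : ∏ i ∈ m.support, v i ^ m i ≠ 0 := right_ne_zero_of_mul hterm
    rw [Finset.prod_ne_zero_iff] at hp
    have hv : ∀ i ∈ m.support, v i ≠ 0 := fun i hi h0 => hp i hi (by
      rw [h0, zero_pow (Finsupp.mem_support_iff.mp hi)])
    have hw : Groth.Agent.Lib.helper22.gmWt r m = 0 := by
      by_contra hne
      exact hc (Groth.Agent.Lib.helper22.coeff_eq_zero_of_mem_invariants r hr F hF m hne)
    have hm0 : m ≠ 0 := by
      rintro rfl
      have := hhom hc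
      rw [map_zero] at this
      omega
    have hne : m.support.Nonempty := Finsupp.support_nonempty_iff.mpr hm0
    rw [Groth.Agent.Lib.helper22.gmWt_apply] at hw
    have hpos : ∀ i ∈ m.support, (0 : ℤ) < (m i : ℤ) := fun i hi => by
      have := Finsupp.mem_support_iff.mp hi
      positivity
    have h1 : ∃ i ∈ m.support, r i ≤ 0 := by
      by_contra hcon
      push Not at hcon
      have : (0 : ℤ) < ∑ i ∈ m.support, (m i : ℤ) * r i :=
        Finset.sum_pos (fun i hi => mul_pos (hpos i hi) (hcon i hi)) hne
      omega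
    have h2 : ∃ j ∈ m.support, 0 ≤ r j := by
      by_contra hcon
      push Not at hcon
      have : ∑ i ∈ m.support, (m i : ℤ) * r i < 0 :=
        Finset.sum_neg (fun i hi => mul_neg_of_pos_of_neg (hpos i hi) (hcon i hi)) hne
      omega
    obtain ⟨i, hi, hri⟩ := h1
    obtain ⟨j, hj, hrj⟩ := h2
    exact ⟨i, j, hv i hi, hv j hj, hri, hrj⟩
  · rintro ⟨i, j, hvi, hvj, hri, hrj⟩ h
    have hX : ∀ l : ι, r l = 0 → v l ≠ 0 → False := by
      intro l hl hvl
      have hinv : (MvPolynomial.X l : MvPolynomial ι k) ∈ GLin.invariants k k[T;T⁻¹] (MvPolynomial ι k) := by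
        change HopfRep.Comod.coact (k := k) (A := k[T;T⁻¹]) (MvPolynomial.X l : MvPolynomial ι k) = _
        rw [hr, hl, LaurentPolynomial.T_zero]
      have := h _ hinv 1 one_pos (MvPolynomial.isHomogeneous_X k l)
      rw [MvPolynomial.eval_X] at this
      exact hvl this
    by_cases hi0 : r i = 0
    · exact hX i hi0 hvi
    by_cases hj0 : r j = 0
    · exact hX j hj0 hvj
    have hri' : r i < 0 := lt_of_le_of_ne hri hi0
    have hrj' : 0 < r j := lt_of_le_of_ne hrj (Ne.symm hj0)
    set a : ℕ := (r j).toNat with ha
    set b : ℕ := (- r i).toNat with hb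
    have ha' : (a : ℤ) = r j := Int.toNat_of_nonneg hrj
    have hb' : (b : ℤ) = - r i := Int.toNat_of_nonneg (by omega)
    have hinv : ((MvPolynomial.X i : MvPolynomial ι k) ^ a * MvPolynomial.X j ^ b) ∈
        GLin.invariants k k[T;T⁻¹] (MvPolynomial ι k) := by
      change HopfRep.Comod.coact (k := k) (A := k[T;T⁻¹])
        ((MvPolynomial.X i : MvPolynomial ι k) ^ a * MvPolynomial.X j ^ b) = _
      have e := map_mul (GLin.coactAlgHom k k[T;T⁻¹] (MvPolynomial ι k))
        ((MvPolynomial.X i : MvPolynomial ι k) ^ a) (MvPolynomial.X j ^ b)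
      rw [map_pow, map_pow] at e
      simp only [GLin.coactAlgHom_apply] at e
      rw [e, hr, hr, Algebra.TensorProduct.tmul_pow, Algebra.TensorProduct.tmul_pow,
        Algebra.TensorProduct.tmul_mul_tmul, LaurentPolynomial.T_pow, LaurentPolynomial.T_pow,
        ← LaurentPolynomial.T_add, ha', hb']
      have : r j * r i + - r i * r j = 0 := by ring
      rw [this, LaurentPolynomial.T_zero]
    have hhom := ((MvPolynomial.isHomogeneous_X k i).pow a).mul ((MvPolynomial.isHomogeneous_X k j).pow b)
    have hd : 0 < 1 * a + 1 * b := by omega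
    have := h _ hinv _ hd hhom
    rw [map_mul, map_pow, map_pow, MvPolynomial.eval_X, MvPolynomial.eval_X] at this
    exact mul_ne_zero (pow_ne_zero _ hvi) (pow_ne_zero _ hvj) this


end Groth.Agent.S19422
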