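import Groth.Statements.S19427
import Groth.Agent.Lib.Helper10.MilnorK

set_option autoImplicit false
universe u
open MilnorK

namespace Groth.Agent.S19427

/-- For a field F and nonzero b, c with b + c ≠ 0, in the Milnor K-group K_2(F) one has {b, c} + {b + c,
-b/c} = 0, that is {b, c} = -{b + c, -b/c} = {b + c, -c/b}. (The identity as displayed in the source
is {b, c} = {b + c, -b/c}, which differs from this by a sign and fails in general: for b = 3, c = 5
over the rationals the tame symbol at 5 takes the values 3 and 1/3 on the two sides; the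
accompanying derivation from the Steinberg relation b/(b+c) + c/(b+c) = 1 gives exactly the identity
stated here.) -/
theorem result (F : Type u) [Field F] (b c : Fˣ)
    (h : (b : F) + (c : F) ≠ 0) :
    (MilK.symbol ![b, c] : MilK.K F 2) + MilK.symbol ![Units.mk0 ((b : F) + (c : F)) h, -(b / c)] = 0 := by
  have h01 : (0 : Fin 2) ≠ 1 := by decide
  have hS : ∀ a a' : Fˣ, Groth.Agent.Lib.helper10.MilKL.sym2 ![b, c] 0 1 a a' = MilK.symbol ![a, a'] := by
    intro a a'
    unfold Groth.Agent.Lib.helper10.MilKL.sym2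
    congr 1
    funext k
    fin_cases k <;> simp
  set s : Fˣ := Units.mk0 ((b : F) + (c : F)) h with hs
  have hst : Groth.Agent.Lib.helper10.MilKL.sym2 ![b, c] 0 1 (b * s⁻¹) (c * s⁻¹) = 0 := by
    apply Groth.Agent.Lib.helper10.MilKL.sym2_steinberg _ h01
    simp only [Units.val_mul, Units.val_inv_eq_inv_val, hs, Units.val_mk0]
    field_simp
  rw [Groth.Agent.Lib.helper10.MilKL.sym2_mul_left _ h01,
    Groth.Agent.Lib.helper10.MilKL.sym2_mul_right, Groth.Agent.Lib.helper10.MilKL.sym2_mul_right,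
    Groth.Agent.Lib.helper10.MilKL.sym2_inv_right, Groth.Agent.Lib.helper10.MilKL.sym2_inv_right,
    Groth.Agent.Lib.helper10.MilKL.sym2_inv_left _ h01, Groth.Agent.Lib.helper10.MilKL.sym2_inv_left _ h01,
    Groth.Agent.Lib.helper10.MilKL.sym2_same _ h01 s] at hst
  have hsw := Groth.Agent.Lib.helper10.MilKL.sym2_swap ![b, c] h01 b s
  have e : -(b / c) = b * (c⁻¹ * (-1)) := by
    rw [div_eq_mul_inv]; simp
  rw [← hS b c, ← hS s (-(b / c)), e, Groth.Agent.Lib.helper10.MilKL.sym2_mul_right,
    Groth.Agent.Lib.helper10.MilKL.sym2_mul_right, Groth.Agent.Lib.helper10.MilKL.sym2_inv_right]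
  generalize Groth.Agent.Lib.helper10.MilKL.sym2 ![b, c] 0 1 b c = A at hst hsw ⊢
  generalize Groth.Agent.Lib.helper10.MilKL.sym2 ![b, c] 0 1 b s = B at hst hsw ⊢
  generalize Groth.Agent.Lib.helper10.MilKL.sym2 ![b, c] 0 1 s c = C at hst hsw ⊢
  generalize Groth.Agent.Lib.helper10.MilKL.sym2 ![b, c] 0 1 s (-1) = D at hst hsw ⊢
  generalize Groth.Agent.Lib.helper10.MilKL.sym2 ![b, c] 0 1 s b = E at hst hsw ⊢
  have key : A + (E + (-C + D)) = (A + -B + (-C + - -D)) + (B + E) := by abel
  rw [key, hst, hsw, add_zero]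

end Groth.Agent.S19427
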