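import Groth.Statements.S19432
import Groth.Agent.Lib.Helper20.RelRegSES

set_option autoImplicit false
universe u
open KRR

namespace Groth.Agent.S19432

open CategoryTheory CategoryTheory.Limits AlgebraicGeometry in
/-- Let T be any scheme, p : P^n_T ⟶ T the projection, and 0 ⟶ F' ⟶ F ⟶ F'' ⟶ 0 a short exact sequence
of quasi-coherent O-modules on P^n_T; 'regular' means regular relative to p in the sense of
Castelnuovo and Mumford, R^i p_*(G(-i)) = 0 for all i ≥ 1 (higher direct images of the underlying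
abelian sheaves), and G(d) = O(d) ⊗ G. If F and F'(1) are regular then F'' is regular. The source
states this for m-regularity of the twists F(n), F'(n+1), F''(n) over the projective bundle of any
vector bundle; stated here for m = 0, n = 0 and P^n_T. -/
theorem result (n : ℕ) (T : Scheme.{u}) (S : ShortComplex (KRR.PY n T).Modules)
    (hS : S.ShortExact) (h₁ : Coh.IsQCoh S.X₁) (h₂ : Coh.IsQCoh S.X₂) (h₃ : Coh.IsQCoh S.X₃)
    (hreg₂ : KRR.IsRegSheaf n T S.X₂) (hreg₁ : KRR.IsRegSheaf n T (KRR.twF n T 1 S.X₁)) :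
    KRR.IsRegSheaf n T S.X₃ := by
  haveI : S.X₁.IsQuasicoherent := h₁
  haveI : S.X₂.IsQuasicoherent := h₂
  haveI : S.X₃.IsQuasicoherent := h₃
  haveI := Groth.Agent.Lib.Helper20.RelReg.isQuasicoherent_twF n T S.X₁ 1
  have k₂ := (Groth.Agent.Lib.Helper20.RelReg.isRegSheaf_iff n T S.X₂).1 hreg₂
  have k₁ := (Groth.Agent.Lib.Helper20.RelReg.isRegSheaf_iff n T _).1 hreg₁
  refine (Groth.Agent.Lib.Helper20.RelReg.isRegSheaf_iff n T S.X₃).2 fun V hV => ?_
  obtain ⟨e⟩ := Groth.Agent.Lib.Helper20.RelReg.nonempty_GV_twF_iso n V hV S.X₁ 1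
  have k₁' := (Groth.Agent.Lib.Helper20.RelReg.isReg_twist_iff _ 1 0).1
    (Groth.Agent.Lib.Helper20.RelReg.isReg_of_iso e (k₁ V hV))
  have e1 : (1 : ℤ) + 0 = 0 + 1 := by ring
  rw [e1] at k₁'
  exact Groth.Agent.Lib.Helper20.RelRegSES.isReg_X₃
    (Groth.Agent.Lib.Helper20.RelRegSES.GVSC_shortExact n V hV hS) (k₂ V hV) k₁'

end Groth.Agent.S19432
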