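import Groth.Statements.S19436
import Mathlib.RingTheory.Nakayama
import Mathlib.LinearAlgebra.FiniteDimensional.Lemmas
import Mathlib.Tactic.Linarith

set_option autoImplicit false
universe u
open CAlg

namespace Groth.Agent.S19436

/-- For a Noetherian local commutative algebra R over a field k, with maximal ideal M, and an ideal I of
R whose quotient R/I is finite-dimensional over k of dimension n, the power M^n lies in I. -/
theorem result (k : Type u) [Field k] (R : Type u) [CommRing R]
    [Algebra k R] [IsNoetherianRing R] [IsLocalRing R] (I : Ideal R) [Module.Finite k (R ⧸ I)] (n : ℕ)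
    (hn : Module.finrank k (R ⧸ I) = n) : IsLocalRing.maximalIdeal R ^ n ≤ I := by
  classical
  set m := IsLocalRing.maximalIdeal R with hm
  let π := Ideal.Quotient.mk I
  have hπ : Function.Surjective π := Ideal.Quotient.mk_surjective
  let V : ℕ → Submodule k (R ⧸ I) := fun j => ((m ^ j).map π).restrictScalars k
  have hVmono : ∀ j, V (j + 1) ≤ V j := by
    intro j x hx
    exact Ideal.map_mono (Ideal.pow_le_pow_right (Nat.le_succ j)) hx
  have key : ∀ j, V (j + 1) = V j → m ^ j ≤ I := by
    intro j h
    have h' : (m ^ (j + 1)).map π = (m ^ j).map π :=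
      Submodule.restrictScalars_injective k _ _ h
    have h1 : m ^ j ≤ I ⊔ m • (m ^ j) := by
      calc m ^ j ≤ ((m ^ j).map π).comap π := Ideal.le_comap_map
        _ = ((m ^ (j + 1)).map π).comap π := by rw [h']
        _ = m ^ (j + 1) ⊔ I := by
            rw [Ideal.comap_map_of_surjective π hπ, ← RingHom.ker_eq_comap_bot, Ideal.mk_ker]
        _ = I ⊔ m • (m ^ j) := by rw [sup_comm, pow_succ', smul_eq_mul]
    exact Submodule.le_of_le_smul_of_le_jacobson_bot (IsNoetherian.noetherian _)
      (IsLocalRing.maximalIdeal_le_jacobson ⊥) h1
  have ind : ∀ j, m ^ j ≤ I ∨ Module.finrank k (V j) + j ≤ n := by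
    intro j
    induction j with
    | zero =>
      right
      have : V 0 = ⊤ := by
        simp only [V, pow_zero, Ideal.one_eq_top, Ideal.map_top]
        rfl
      rw [this, finrank_top, hn, add_zero]
    | succ j ih =>
      rcases ih with h | h
      · left
        exact (Ideal.pow_le_pow_right (Nat.le_succ j)).trans h
      · by_cases heq : V (j + 1) = V j
        · left
          exact (Ideal.pow_le_pow_right (Nat.le_succ j)).trans (key j heq)
        · right
          have hlt : V (j + 1) < V j := lt_of_le_of_ne (hVmono j) heq
          have := Submodule.finrank_lt_finrank_of_lt hlt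
          omega
  rcases ind n with h | h
  · exact h
  · have h0 : Module.finrank k (V n) = 0 := by omega
    have hb : V n = ⊥ := Submodule.finrank_eq_zero.mp h0
    have hb' : (m ^ n).map π = ⊥ := by
      apply Submodule.restrictScalars_injective k
      rw [Submodule.restrictScalars_bot]
      exact hb
    rw [Ideal.map_eq_bot_iff_le_ker, Ideal.mk_ker] at hb'
    exact hb'

end Groth.Agent.S19436
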