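import Groth.Statements.S19437
import Mathlib

set_option autoImplicit false
universe u
open CAlg

namespace Groth.Agent.S19437


open MvPowerSeries

section
variable {k : Type u} [Field k]

/-- exponent of `x^i` -/
noncomputable def ex (i : ℕ) : Fin 2 →₀ ℕ := Finsupp.single 0 i
/-- exponent of `y^j` -/
noncomputable def ey (j : ℕ) : Fin 2 →₀ ℕ := Finsupp.single 1 j

@[simp] theorem ex_apply_zero (i : ℕ) : ex i 0 = i := by simp [ex]
@[simp] theorem ex_apply_one (i : ℕ) : ex i 1 = 0 := by simp [ex]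
@[simp] theorem ey_apply_zero (j : ℕ) : ey j 0 = 0 := by simp [ey]
@[simp] theorem ey_apply_one (j : ℕ) : ey j 1 = j := by simp [ey]
theorem ex_0 : ex 0 = 0 := by simp [ex]
theorem ey_0 : ey 0 = 0 := by simp [ey]

theorem eq_ex_of (m : Fin 2 →₀ ℕ) (h : m 1 = 0) : m = ex (m 0) := by
  ext t; fin_cases t
  · simp
  · simp [h]

theorem eq_ey_of (m : Fin 2 →₀ ℕ) (h : m 0 = 0) : m = ey (m 1) := by
  ext t; fin_cases t
  · simp [h]
  · simp

theorem ex_ne_ey (i j : ℕ) (h : i ≠ 0 ∨ j ≠ 0) : ex i ≠ ey j := by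
  intro heq
  have h0 := DFunLike.congr_fun heq 0
  have h1 := DFunLike.congr_fun heq 1
  simp at h0 h1
  omega

theorem ex_inj (i i' : ℕ) : ex i = ex i' ↔ i = i' := by
  constructor
  · intro h
    have h0 := DFunLike.congr_fun h 0
    simpa using h0
  · intro h; rw [h]

theorem ey_inj (j j' : ℕ) : ey j = ey j' ↔ j = j' := by
  constructor
  · intro h
    have h0 := DFunLike.congr_fun h 1
    simpa using h0
  · intro h; rw [h]

theorem xy_dvd (g : MvPowerSeries (Fin 2) k)
    (h : ∀ m : Fin 2 →₀ ℕ, (m 0 = 0 ∨ m 1 = 0) → coeff m g = 0) :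
    ∃ q : MvPowerSeries (Fin 2) k, g = q * (X 0 * X 1) := by
  obtain ⟨h1, rfl⟩ := (X_dvd_iff (s := (0 : Fin 2))).2 (fun m hm => h m (Or.inl hm))
  have h2 : (X (1 : Fin 2) : MvPowerSeries (Fin 2) k) ∣ h1 := by
    rw [X_dvd_iff]
    intro m hm
    have := h (Finsupp.single 0 1 + m) (Or.inr (by simp [hm]))
    rwa [X_def, coeff_add_monomial_mul, one_mul] at this
  obtain ⟨h3, rfl⟩ := h2
  exact ⟨h3, by ring⟩

theorem decomp (a b : ℕ) (f : MvPowerSeries (Fin 2) k)
    (hx : ∀ i, i < a → coeff (ex i) f = 0) (hy : ∀ j, j < b → coeff (ey j) f = 0) :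
    ∃ A B C' : MvPowerSeries (Fin 2) k,
      f = A * (X 0 * X 1) + B * X 0 ^ a + C' * X 1 ^ b := by
  classical
  obtain ⟨g1, hg1⟩ : ∃ g1 : MvPowerSeries (Fin 2) k,
      ∀ m, coeff m g1 = if m 1 = 0 then coeff m f else 0 :=
    ⟨fun m => if m 1 = 0 then coeff m f else 0, fun m => coeff_apply _ m⟩
  obtain ⟨g2, hg2⟩ : ∃ g2 : MvPowerSeries (Fin 2) k,
      ∀ m, coeff m g2 = if (m 0 = 0 ∧ m 1 ≠ 0) then coeff m f else 0 :=
    ⟨fun m => if (m 0 = 0 ∧ m 1 ≠ 0) then coeff m f else 0, fun m => coeff_apply _ m⟩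
  have d1 : (X (0 : Fin 2) : MvPowerSeries (Fin 2) k) ^ a ∣ g1 := by
    rw [X_pow_dvd_iff]
    intro m hm
    rw [hg1]
    split_ifs with h1
    · rw [eq_ex_of m h1]; exact hx _ hm
    · rfl
  have d2 : (X (1 : Fin 2) : MvPowerSeries (Fin 2) k) ^ b ∣ g2 := by
    rw [X_pow_dvd_iff]
    intro m hm
    rw [hg2]
    split_ifs with h1
    · rw [eq_ey_of m h1.1]; exact hy _ hm
    · rfl
  have d3 : ∃ q, f - g1 - g2 = q * (X 0 * X 1) := by
    apply xy_dvd
    intro m hm
    rw [map_sub, map_sub, hg1, hg2]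
    by_cases h1 : m 1 = 0
    · rw [if_pos h1, if_neg (fun h => h.2 h1)]; ring
    · have h0 : m 0 = 0 := by tauto
      rw [if_neg h1, if_pos ⟨h0, h1⟩]; ring
  obtain ⟨B, hB⟩ := d1
  obtain ⟨C', hC⟩ := d2
  obtain ⟨A, hA⟩ := d3
  refine ⟨A, B, C', ?_⟩
  have : f = (f - g1 - g2) + g1 + g2 := by ring
  rw [this, hA, hB, hC]; ring

theorem coeff_ex_mul_xy (A : MvPowerSeries (Fin 2) k) (i : ℕ) :
    coeff (ex i) (A * (X 0 * X 1)) = 0 :=
  (X_dvd_iff (s := (1 : Fin 2))).1 ⟨A * X 0, by ring⟩ (ex i) (by simp)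

theorem coeff_ey_mul_xy (A : MvPowerSeries (Fin 2) k) (j : ℕ) :
    coeff (ey j) (A * (X 0 * X 1)) = 0 :=
  (X_dvd_iff (s := (0 : Fin 2))).1 ⟨A * X 1, by ring⟩ (ey j) (by simp)

theorem coeff_ex_mul_ypow (C' : MvPowerSeries (Fin 2) k) (i b : ℕ) (hb : 1 ≤ b) :
    coeff (ex i) (C' * X 1 ^ b) = 0 :=
  (X_pow_dvd_iff (s := (1 : Fin 2))).1 ⟨C', by ring⟩ (ex i) (by simp; omega)

theorem coeff_ey_mul_xpow (B : MvPowerSeries (Fin 2) k) (j a : ℕ) (ha : 1 ≤ a) :
    coeff (ey j) (B * X 0 ^ a) = 0 :=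
  (X_pow_dvd_iff (s := (0 : Fin 2))).1 ⟨B, by ring⟩ (ey j) (by simp; omega)

theorem coeff_ex_mul_xpow_self (B : MvPowerSeries (Fin 2) k) (s : ℕ) :
    coeff (ex s) (B * X 0 ^ s) = constantCoeff B := by
  rw [X_pow_eq, ← coeff_zero_eq_constantCoeff_apply]
  have := coeff_add_mul_monomial (0 : Fin 2 →₀ ℕ) (Finsupp.single 0 s) B (1 : k)
  rw [zero_add, mul_one] at this
  exact this

theorem coeff_ey_mul_ypow_self (B : MvPowerSeries (Fin 2) k) (s : ℕ) :
    coeff (ey s) (B * X 1 ^ s) = constantCoeff B := by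
  rw [X_pow_eq, ← coeff_zero_eq_constantCoeff_apply]
  have := coeff_add_mul_monomial (0 : Fin 2 →₀ ℕ) (Finsupp.single 1 s) B (1 : k)
  rw [zero_add, mul_one] at this
  exact this

theorem isUnit_of_cc_ne_zero (B : MvPowerSeries (Fin 2) k) (h : constantCoeff B ≠ 0) :
    IsUnit B :=
  isUnit_iff_constantCoeff.2 (IsUnit.mk0 _ h)

theorem b1 (i i' : ℕ) :
    coeff (ex i) ((X 0 : MvPowerSeries (Fin 2) k) ^ i') = if i = i' then 1 else 0 := by
  classical
  rw [coeff_X_pow]
  by_cases h : i = i'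
  · rw [if_pos h, if_pos (by rw [h]; rfl)]
  · rw [if_neg h, if_neg (fun h' : ex i = Finsupp.single 0 i' => h ((ex_inj i i').1 h'))]

theorem b4 (j j' : ℕ) :
    coeff (ey j) ((X 1 : MvPowerSeries (Fin 2) k) ^ j') = if j = j' then 1 else 0 := by
  classical
  rw [coeff_X_pow]
  by_cases h : j = j'
  · rw [if_pos h, if_pos (by rw [h]; rfl)]
  · rw [if_neg h, if_neg (fun h' : ey j = Finsupp.single 1 j' => h ((ey_inj j j').1 h'))]

theorem b2 (i j : ℕ) : coeff (ex i) ((X 1 : MvPowerSeries (Fin 2) k) ^ (j + 1)) = 0 := by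
  classical
  rw [coeff_X_pow, if_neg]
  exact ex_ne_ey i (j + 1) (Or.inr (by omega))

theorem b3 (i j : ℕ) : coeff (ey (j + 1)) ((X 0 : MvPowerSeries (Fin 2) k) ^ i) = 0 := by
  classical
  rw [coeff_X_pow, if_neg]
  exact fun h => ex_ne_ey i (j + 1) (Or.inr (by omega)) h.symm

theorem b3' (i j : ℕ) : coeff (ey j) ((X 0 : MvPowerSeries (Fin 2) k) ^ (i + 1)) = 0 := by
  classical
  rw [coeff_X_pow, if_neg]
  exact fun h => ex_ne_ey (i + 1) j (Or.inl (by omega)) h.symm

theorem finrank_quot_of_dual {T : Type} [Fintype T] [DecidableEq T]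
    (J : Ideal (MvPowerSeries (Fin 2) k))
    (ℓ : T → (MvPowerSeries (Fin 2) k →ₗ[k] k)) (r : T → MvPowerSeries (Fin 2) k)
    (hdual : ∀ t t', ℓ t (r t') = if t = t' then 1 else 0)
    (hJ : ∀ f, f ∈ J ↔ ∀ t, ℓ t f = 0) :
    Module.finrank k (MvPowerSeries (Fin 2) k ⧸ J) = Fintype.card T := by
  obtain ⟨L, hL⟩ : ∃ L : MvPowerSeries (Fin 2) k →ₗ[k] (T → k), ∀ f t, L f t = ℓ t f :=
    ⟨LinearMap.pi ℓ, fun f t => rfl⟩
  have hsurj : Function.Surjective L := by
    intro c
    refine ⟨∑ t, c t • r t, ?_⟩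
    ext t'
    rw [hL, map_sum]
    simp only [map_smul, hdual, smul_eq_mul, mul_ite, mul_one, mul_zero]
    rw [Finset.sum_ite_eq]
    simp
  have hker : LinearMap.ker L = J.restrictScalars k := by
    ext f
    rw [LinearMap.mem_ker, Submodule.restrictScalars_mem, hJ]
    constructor
    · intro h t
      have := congrFun h t
      rw [hL] at this
      exact this
    · intro h
      ext t
      rw [hL]
      exact h t
  have e1 : (MvPowerSeries (Fin 2) k ⧸ J) ≃ₗ[k] (T → k) :=
    ((Submodule.Quotient.restrictScalarsEquiv k J).symm.trans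
      (Submodule.quotEquivOfEq _ _ hker.symm)).trans (L.quotKerEquivOfSurjective hsurj)
  rw [e1.finrank_eq, Module.finrank_fintype_fun_eq_card]

theorem main (J : Ideal (MvPowerSeries (Fin 2) k))
    (hxy : (X 0 * X 1 : MvPowerSeries (Fin 2) k) ∈ J)
    [Module.Finite k (MvPowerSeries (Fin 2) k ⧸ J)] (n : ℕ)
    (hn : Module.finrank k (MvPowerSeries (Fin 2) k ⧸ J) = n) (h2 : 2 ≤ n) :
    ∃ a b : ℕ, 1 ≤ a ∧ 1 ≤ b ∧
      ((a + b = n + 1 ∧
        J = Ideal.span {X 0 * X 1, X 0 ^ a, X 1 ^ b}) ∨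
       (a + b = n ∧ ∃ α : k, α ≠ 0 ∧
        J = Ideal.span {X 0 * X 1, X 0 ^ a + C α * X 1 ^ b})) := by
  classical
  -- Step 0
  have hJtop : J ≠ ⊤ := by
    intro h
    have hss : Subsingleton (MvPowerSeries (Fin 2) k ⧸ J) := Ideal.Quotient.subsingleton_iff.2 h
    have := Module.finrank_zero_of_subsingleton (R := k) (M := MvPowerSeries (Fin 2) k ⧸ J)
    omega
  have hcc : ∀ f ∈ J, constantCoeff f = 0 := by
    intro f hf
    by_contra h
    exact hJtop (Ideal.eq_top_of_isUnit_mem _ hf (isUnit_of_cc_ne_zero f h))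
  have hc0 : ∀ f ∈ J, coeff (0 : Fin 2 →₀ ℕ) f = 0 := fun f hf => by
    rw [coeff_zero_eq_constantCoeff_apply]; exact hcc f hf
  -- Step 1
  have hnil : ∀ s : Fin 2, ∃ N : ℕ, (X s : MvPowerSeries (Fin 2) k) ^ N ∈ J := by
    intro s
    have : IsArtinianRing (MvPowerSeries (Fin 2) k ⧸ J) := IsArtinianRing.of_finite k _
    have hmem : Ideal.Quotient.mk J (X s) ∈
        Ideal.jacobson (⊥ : Ideal (MvPowerSeries (Fin 2) k ⧸ J)) := by
      rw [Ideal.mem_jacobson_bot]
      intro y
      obtain ⟨g, rfl⟩ := Ideal.Quotient.mk_surjective y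
      have hu : IsUnit (X s * g + 1 : MvPowerSeries (Fin 2) k) := by
        apply isUnit_of_cc_ne_zero
        simp
      have := hu.map (Ideal.Quotient.mk J)
      simpa using this
    obtain ⟨N, hN⟩ := IsArtinianRing.isNilpotent_jacobson_bot
      (R := MvPowerSeries (Fin 2) k ⧸ J)
    refine ⟨N, ?_⟩
    have h1 := Ideal.pow_mem_pow hmem N
    rw [hN, Ideal.zero_eq_bot, Ideal.mem_bot, ← map_pow] at h1
    exact Ideal.Quotient.eq_zero_iff_mem.1 h1
  -- Step 2
  obtain ⟨a₀, ha₀mem, ha₀min⟩ : ∃ a₀, (X 0 : MvPowerSeries (Fin 2) k) ^ a₀ ∈ J ∧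
      ∀ N, (X 0 : MvPowerSeries (Fin 2) k) ^ N ∈ J → a₀ ≤ N :=
    ⟨Nat.find (hnil 0), Nat.find_spec (hnil 0), fun N hN => Nat.find_min' (hnil 0) hN⟩
  obtain ⟨b₀, hb₀mem, hb₀min⟩ : ∃ b₀, (X 1 : MvPowerSeries (Fin 2) k) ^ b₀ ∈ J ∧
      ∀ N, (X 1 : MvPowerSeries (Fin 2) k) ^ N ∈ J → b₀ ≤ N :=
    ⟨Nat.find (hnil 1), Nat.find_spec (hnil 1), fun N hN => Nat.find_min' (hnil 1) hN⟩
  have ha₀ : 1 ≤ a₀ := by
    by_contra h
    have h0 : a₀ = 0 := by omega
    rw [h0, pow_zero] at ha₀mem
    exact hJtop ((Ideal.eq_top_iff_one J).2 ha₀mem)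
  have hb₀ : 1 ≤ b₀ := by
    by_contra h
    have h0 : b₀ = 0 := by omega
    rw [h0, pow_zero] at hb₀mem
    exact hJtop ((Ideal.eq_top_iff_one J).2 hb₀mem)
  obtain ⟨a, rfl⟩ : ∃ a, a₀ = a + 1 := ⟨a₀ - 1, by omega⟩
  obtain ⟨b, rfl⟩ : ∃ b, b₀ = b + 1 := ⟨b₀ - 1, by omega⟩
  -- Lemma M
  have Mx : ∀ f ∈ J, ∀ i, i < a → coeff (ex i) f = 0 := by
    intro f hf i
    induction i using Nat.strong_induction_on with
    | _ s ih =>
      intro hs
      by_contra hne
      obtain ⟨A, B, C', hf_eq⟩ := decomp s 1 f (fun t ht => ih t ht (by omega)) (fun j hj => by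
        have hj0 : j = 0 := by omega
        rw [hj0, ey_0]; exact hc0 f hf)
      have hB : constantCoeff B ≠ 0 := by
        intro hB0
        apply hne
        rw [hf_eq, map_add, map_add, coeff_ex_mul_xy, coeff_ex_mul_xpow_self,
          coeff_ex_mul_ypow _ _ _ le_rfl, hB0]
        simp
      have hmem : B * X 0 ^ (s + 1) ∈ J := by
        have hid : B * X 0 ^ (s + 1) = X 0 * f - (A * X 0 + C') * (X 0 * X 1) := by
          rw [hf_eq]; ring
        rw [hid]
        exact J.sub_mem (J.mul_mem_left _ hf) (J.mul_mem_left _ hxy)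
      have := ha₀min _ ((Ideal.unit_mul_mem_iff_mem J (isUnit_of_cc_ne_zero B hB)).1 hmem)
      omega
  have My : ∀ f ∈ J, ∀ j, j < b → coeff (ey j) f = 0 := by
    intro f hf j
    induction j using Nat.strong_induction_on with
    | _ s ih =>
      intro hs
      by_contra hne
      obtain ⟨A, B, C', hf_eq⟩ := decomp 1 s f (fun i hi => by
        have hi0 : i = 0 := by omega
        rw [hi0, ex_0]; exact hc0 f hf) (fun t ht => ih t ht (by omega))
      have hC : constantCoeff C' ≠ 0 := by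
        intro hC0
        apply hne
        rw [hf_eq, map_add, map_add, coeff_ey_mul_xy, coeff_ey_mul_ypow_self,
          coeff_ey_mul_xpow _ _ _ le_rfl, hC0]
        simp
      have hmem : C' * X 1 ^ (s + 1) ∈ J := by
        have hid : C' * X 1 ^ (s + 1) = X 1 * f - (A * X 1 + B) * (X 0 * X 1) := by
          rw [hf_eq]; ring
        rw [hid]
        exact J.sub_mem (J.mul_mem_left _ hf) (J.mul_mem_left _ hxy)
      have := hb₀min _ ((Ideal.unit_mul_mem_iff_mem J (isUnit_of_cc_ne_zero C' hC)).1 hmem)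
      omega
  -- Claim B
  have Bxy : ∀ f ∈ J, coeff (ex a) f ≠ 0 → coeff (ey b) f ≠ 0 := by
    intro f hf hc he
    obtain ⟨A, B, C', hf_eq⟩ := decomp a (b + 1) f (fun t ht => Mx f hf t ht) (fun j hj => by
      by_cases hj' : j < b
      · exact My f hf j hj'
      · have hjb : j = b := by omega
        rw [hjb]; exact he)
    have hB : constantCoeff B ≠ 0 := by
      intro hB0
      apply hc
      rw [hf_eq, map_add, map_add, coeff_ex_mul_xy, coeff_ex_mul_xpow_self,
        coeff_ex_mul_ypow _ _ _ (by omega), hB0]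
      simp
    have hmem : B * X 0 ^ a ∈ J := by
      have hid : B * X 0 ^ a = f - A * (X 0 * X 1) - C' * X 1 ^ (b + 1) := by
        rw [hf_eq]; ring
      rw [hid]
      exact J.sub_mem (J.sub_mem hf (J.mul_mem_left _ hxy)) (J.mul_mem_left _ hb₀mem)
    have := ha₀min _ ((Ideal.unit_mul_mem_iff_mem J (isUnit_of_cc_ne_zero B hB)).1 hmem)
    omega
  have Byx : ∀ f ∈ J, coeff (ey b) f ≠ 0 → coeff (ex a) f ≠ 0 := by
    intro f hf hc he
    obtain ⟨A, B, C', hf_eq⟩ := decomp (a + 1) b f (fun i hi => by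
      by_cases hi' : i < a
      · exact Mx f hf i hi'
      · have hia : i = a := by omega
        rw [hia]; exact he) (fun t ht => My f hf t ht)
    have hC : constantCoeff C' ≠ 0 := by
      intro hC0
      apply hc
      rw [hf_eq, map_add, map_add, coeff_ey_mul_xy, coeff_ey_mul_ypow_self,
        coeff_ey_mul_xpow _ _ _ (by omega), hC0]
      simp
    have hmem : C' * X 1 ^ b ∈ J := by
      have hid : C' * X 1 ^ b = f - A * (X 0 * X 1) - B * X 0 ^ (a + 1) := by
        rw [hf_eq]; ring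
      rw [hid]
      exact J.sub_mem (J.sub_mem hf (J.mul_mem_left _ hxy)) (J.mul_mem_left _ ha₀mem)
    have := hb₀min _ ((Ideal.unit_mul_mem_iff_mem J (isUnit_of_cc_ne_zero C' hC)).1 hmem)
    omega
  -- generators in J
  have hgen : ∀ A B C' : MvPowerSeries (Fin 2) k,
      A * (X 0 * X 1) + B * X 0 ^ (a + 1) + C' * X 1 ^ (b + 1) ∈ J := fun A B C' =>
    J.add_mem (J.add_mem (J.mul_mem_left _ hxy) (J.mul_mem_left _ ha₀mem))
      (J.mul_mem_left _ hb₀mem)
  by_cases hcase : ∀ f ∈ J, coeff (ex a) f = 0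
  · -- Case I
    have hcase_y : ∀ f ∈ J, coeff (ey b) f = 0 := by
      intro f hf; by_contra h; exact Byx f hf h (hcase f hf)
    have hxall : ∀ f ∈ J, ∀ i, i < a + 1 → coeff (ex i) f = 0 := by
      intro f hf i hi
      by_cases h : i < a
      · exact Mx f hf i h
      · have hia : i = a := by omega
        rw [hia]; exact hcase f hf
    have hyall : ∀ f ∈ J, ∀ j, j < b + 1 → coeff (ey j) f = 0 := by
      intro f hf j hj
      by_cases h : j < b
      · exact My f hf j h
      · have hjb : j = b := by omega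
        rw [hjb]; exact hcase_y f hf
    have hJeq : J = Ideal.span {X 0 * X 1, X 0 ^ (a + 1), X 1 ^ (b + 1)} := by
      apply le_antisymm
      · intro f hf
        obtain ⟨A, B, C', rfl⟩ := decomp (a + 1) (b + 1) f (hxall f hf) (hyall f hf)
        exact Ideal.add_mem _ (Ideal.add_mem _
          (Ideal.mul_mem_left _ _ (Ideal.subset_span (Set.mem_insert _ _)))
          (Ideal.mul_mem_left _ _ (Ideal.subset_span
            (Set.mem_insert_of_mem _ (Set.mem_insert _ _)))))
          (Ideal.mul_mem_left _ _ (Ideal.subset_span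
            (Set.mem_insert_of_mem _ (Set.mem_insert_of_mem _ (Set.mem_singleton _)))))
      · rw [Ideal.span_le]
        intro z hz
        simp only [Set.mem_insert_iff, Set.mem_singleton_iff] at hz
        rcases hz with rfl | rfl | rfl
        · exact hxy
        · exact ha₀mem
        · exact hb₀mem
    have hdim : Module.finrank k (MvPowerSeries (Fin 2) k ⧸ J) =
        Fintype.card (Fin (a + 1) ⊕ Fin b) := by
      refine finrank_quot_of_dual J
        (fun t => Sum.elim (fun i : Fin (a + 1) => coeff (ex i))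
          (fun j : Fin b => coeff (ey ((j : ℕ) + 1))) t)
        (fun t => Sum.elim (fun i : Fin (a + 1) => X 0 ^ (i : ℕ))
          (fun j : Fin b => X 1 ^ ((j : ℕ) + 1)) t) ?_ ?_
      · rintro (i | j) (i' | j')
        · simp only [Sum.elim_inl, b1, Sum.inl.injEq, Fin.val_inj]
        · simp only [Sum.elim_inl, Sum.elim_inr, b2, reduceCtorEq, if_false]
        · simp only [Sum.elim_inl, Sum.elim_inr, b3, reduceCtorEq, if_false]
        · simp only [Sum.elim_inr, b4, Sum.inr.injEq, add_left_inj, Fin.val_inj]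
      · intro f
        constructor
        · intro hf t
          rcases t with i | j
          · simp only [Sum.elim_inl]; exact hxall f hf i i.2
          · simp only [Sum.elim_inr]; exact hyall f hf _ (by omega)
        · intro h
          obtain ⟨A, B, C', rfl⟩ := decomp (a + 1) (b + 1) f
            (fun i hi => by simpa using h (Sum.inl ⟨i, hi⟩))
            (fun j hj => by
              rcases j with _ | j'
              · rw [ey_0, ← ex_0]; simpa using h (Sum.inl ⟨0, by omega⟩)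
              · simpa using h (Sum.inr ⟨j', by omega⟩))
          exact hgen A B C'
    rw [hn, Fintype.card_sum, Fintype.card_fin, Fintype.card_fin] at hdim
    exact ⟨a + 1, b + 1, by omega, by omega, Or.inl ⟨by omega, hJeq⟩⟩
  · -- Case II
    push Not at hcase
    obtain ⟨f₀, hf₀, hc₀⟩ := hcase
    have he₀ := Bxy f₀ hf₀ hc₀
    have ha1 : 1 ≤ a := by
      by_contra h
      have h0 : a = 0 := by omega
      rw [h0, ex_0] at hc₀
      exact hc₀ (hc0 f₀ hf₀)
    have hb1 : 1 ≤ b := by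
      by_contra h
      have h0 : b = 0 := by omega
      rw [h0, ey_0] at he₀
      exact he₀ (hc0 f₀ hf₀)
    obtain ⟨a', rfl⟩ : ∃ a', a = a' + 1 := ⟨a - 1, by omega⟩
    obtain ⟨b', rfl⟩ : ∃ b', b = b' + 1 := ⟨b - 1, by omega⟩
    obtain ⟨c₀, hc₀def⟩ : ∃ c₀ : k, coeff (ex (a' + 1)) f₀ = c₀ := ⟨_, rfl⟩
    obtain ⟨e₀, he₀def⟩ : ∃ e₀ : k, coeff (ey (b' + 1)) f₀ = e₀ := ⟨_, rfl⟩
    rw [hc₀def] at hc₀
    rw [he₀def] at he₀
    obtain ⟨α, hαdef⟩ : ∃ α : k, α = e₀ / c₀ := ⟨_, rfl⟩
    have hα : α ≠ 0 := by rw [hαdef]; exact div_ne_zero he₀ hc₀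
    have hcα : c₀ * α = e₀ := by rw [hαdef]; field_simp
    obtain ⟨g, hgdef⟩ : ∃ g : MvPowerSeries (Fin 2) k,
        g = X 0 ^ (a' + 1) + C α * X 1 ^ (b' + 1) := ⟨_, rfl⟩
    have hgx : ∀ i, coeff (ex i) g = if i = a' + 1 then 1 else 0 := by
      intro i
      rw [hgdef, map_add, coeff_C_mul, b1, b2, mul_zero, add_zero]
    have hgy : ∀ j, coeff (ey j) g = if j = b' + 1 then α else 0 := by
      intro j
      rw [hgdef, map_add, coeff_C_mul, b3', b4, zero_add, mul_ite, mul_one, mul_zero]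
    have hgJ : g ∈ J := by
      have hx' : ∀ i, i < a' + 1 + 1 → coeff (ex i) (f₀ - C c₀ * g) = 0 := by
        intro i hi
        rw [map_sub, coeff_C_mul, hgx]
        by_cases h : i = a' + 1
        · rw [if_pos h, h, hc₀def]; ring
        · rw [if_neg h, Mx f₀ hf₀ i (by omega)]; ring
      have hy' : ∀ j, j < b' + 1 + 1 → coeff (ey j) (f₀ - C c₀ * g) = 0 := by
        intro j hj
        rw [map_sub, coeff_C_mul, hgy]
        by_cases h : j = b' + 1
        · rw [if_pos h, h, he₀def, hcα]; ring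
        · rw [if_neg h, My f₀ hf₀ j (by omega)]; ring
      obtain ⟨A, B, C', hEq⟩ := decomp (a' + 1 + 1) (b' + 1 + 1) _ hx' hy'
      have hh : f₀ - C c₀ * g ∈ J := by rw [hEq]; exact hgen A B C'
      have hcg : C c₀ * g ∈ J := by
        have hid : C c₀ * g = f₀ - (f₀ - C c₀ * g) := by ring
        rw [hid]; exact J.sub_mem hf₀ hh
      exact (Ideal.unit_mul_mem_iff_mem J
        (isUnit_of_cc_ne_zero (C c₀) (by simpa using hc₀))).1 hcg
    have hprop : ∀ f ∈ J, coeff (ey (b' + 1)) f = α * coeff (ex (a' + 1)) f := by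
      intro f hf
      have hf' : C c₀ * f - C (coeff (ex (a' + 1)) f) * f₀ ∈ J :=
        J.sub_mem (J.mul_mem_left _ hf) (J.mul_mem_left _ hf₀)
      have h1 : coeff (ex (a' + 1)) (C c₀ * f - C (coeff (ex (a' + 1)) f) * f₀) = 0 := by
        rw [map_sub, coeff_C_mul, coeff_C_mul, hc₀def]; ring
      have h2 : coeff (ey (b' + 1)) (C c₀ * f - C (coeff (ex (a' + 1)) f) * f₀) = 0 := by
        by_contra h; exact Byx _ hf' h h1
      rw [map_sub, coeff_C_mul, coeff_C_mul, he₀def] at h2
      rw [hαdef, div_mul_eq_mul_div, eq_div_iff hc₀]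
      linear_combination h2
    have hxa : (X 0 : MvPowerSeries (Fin 2) k) ^ (a' + 1 + 1) ∈
        Ideal.span {X 0 * X 1, g} := by
      have hid : (X 0 : MvPowerSeries (Fin 2) k) ^ (a' + 1 + 1) =
          X 0 * g - (C α * X 1 ^ b') * (X 0 * X 1) := by
        rw [hgdef]; ring
      rw [hid]
      exact Ideal.sub_mem _
        (Ideal.mul_mem_left _ _ (Ideal.subset_span (Set.mem_insert_of_mem _ (Set.mem_singleton _))))
        (Ideal.mul_mem_left _ _ (Ideal.subset_span (Set.mem_insert _ _)))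
    have hyb : (X 1 : MvPowerSeries (Fin 2) k) ^ (b' + 1 + 1) ∈
        Ideal.span {X 0 * X 1, g} := by
      have hid : C α * (X 1 : MvPowerSeries (Fin 2) k) ^ (b' + 1 + 1) =
          X 1 * g - (X 0 ^ a') * (X 0 * X 1) := by
        rw [hgdef]; ring
      have hm : C α * (X 1 : MvPowerSeries (Fin 2) k) ^ (b' + 1 + 1) ∈
          Ideal.span {X 0 * X 1, g} := by
        rw [hid]
        exact Ideal.sub_mem _
          (Ideal.mul_mem_left _ _ (Ideal.subset_span
            (Set.mem_insert_of_mem _ (Set.mem_singleton _))))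
          (Ideal.mul_mem_left _ _ (Ideal.subset_span (Set.mem_insert _ _)))
      exact (Ideal.unit_mul_mem_iff_mem _
        (isUnit_of_cc_ne_zero (C α) (by simpa using hα))).1 hm
    -- membership criterion
    have hcrit : ∀ f : MvPowerSeries (Fin 2) k,
        (∀ i, i < a' + 1 → coeff (ex i) f = 0) →
        (∀ j, j < b' + 1 → coeff (ey j) f = 0) →
        coeff (ey (b' + 1)) f = α * coeff (ex (a' + 1)) f →
        ∃ A B C' : MvPowerSeries (Fin 2) k, f = (A * (X 0 * X 1) + B * X 0 ^ (a' + 1 + 1) +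
          C' * X 1 ^ (b' + 1 + 1)) + C (coeff (ex (a' + 1)) f) * g := by
      intro f hfx hfy hfp
      have hx' : ∀ i, i < a' + 1 + 1 →
          coeff (ex i) (f - C (coeff (ex (a' + 1)) f) * g) = 0 := by
        intro i hi
        rw [map_sub, coeff_C_mul, hgx]
        by_cases h : i = a' + 1
        · rw [if_pos h, h]; ring
        · rw [if_neg h, hfx i (by omega)]; ring
      have hy' : ∀ j, j < b' + 1 + 1 →
          coeff (ey j) (f - C (coeff (ex (a' + 1)) f) * g) = 0 := by
        intro j hj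
        rw [map_sub, coeff_C_mul, hgy]
        by_cases h : j = b' + 1
        · rw [if_pos h, h, hfp]; ring
        · rw [if_neg h, hfy j (by omega)]; ring
      obtain ⟨A, B, C', hEq⟩ := decomp (a' + 1 + 1) (b' + 1 + 1) _ hx' hy'
      refine ⟨A, B, C', ?_⟩
      rw [← hEq]; ring
    have hJeq : J = Ideal.span {X 0 * X 1, g} := by
      apply le_antisymm
      · intro f hf
        obtain ⟨A, B, C', hEq⟩ := hcrit f (Mx f hf) (My f hf) (hprop f hf)
        rw [hEq]
        exact Ideal.add_mem _ (Ideal.add_mem _ (Ideal.add_mem _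
          (Ideal.mul_mem_left _ _ (Ideal.subset_span (Set.mem_insert _ _)))
          (Ideal.mul_mem_left _ _ hxa)) (Ideal.mul_mem_left _ _ hyb))
          (Ideal.mul_mem_left _ _ (Ideal.subset_span
            (Set.mem_insert_of_mem _ (Set.mem_singleton _))))
      · rw [Ideal.span_le]
        intro z hz
        simp only [Set.mem_insert_iff, Set.mem_singleton_iff] at hz
        rcases hz with rfl | rfl
        · exact hxy
        · exact hgJ
    have hdim : Module.finrank k (MvPowerSeries (Fin 2) k ⧸ J) =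
        Fintype.card (Fin (a' + 1) ⊕ Fin (b' + 1)) := by
      refine finrank_quot_of_dual J
        (fun t => Sum.elim (fun i : Fin (a' + 1) => coeff (ex i))
          (fun j : Fin (b' + 1) => coeff (ey ((j : ℕ) + 1)) -
            (if (j : ℕ) + 1 = b' + 1 then α else 0) • coeff (ex (a' + 1))) t)
        (fun t => Sum.elim (fun i : Fin (a' + 1) => X 0 ^ (i : ℕ))
          (fun j : Fin (b' + 1) => X 1 ^ ((j : ℕ) + 1)) t) ?_ ?_
      · rintro (i | j) (i' | j')
        · simp only [Sum.elim_inl, b1, Sum.inl.injEq, Fin.val_inj]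
        · simp only [Sum.elim_inl, Sum.elim_inr, b2, reduceCtorEq, if_false]
        · have hne : ¬ (a' + 1 = (i' : ℕ)) := by have := i'.2; omega
          simp only [Sum.elim_inl, Sum.elim_inr, LinearMap.sub_apply, LinearMap.smul_apply,
            b3, b1, hne, if_false, smul_zero, sub_zero, reduceCtorEq]
        · simp only [Sum.elim_inr, LinearMap.sub_apply, LinearMap.smul_apply, b4, b2,
            smul_zero, sub_zero, Sum.inr.injEq, add_left_inj, Fin.val_inj]
      · intro f
        constructor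
        · intro hf t
          rcases t with i | j
          · simp only [Sum.elim_inl]; exact Mx f hf i i.2
          · simp only [Sum.elim_inr, LinearMap.sub_apply, LinearMap.smul_apply, smul_eq_mul]
            by_cases h : (j : ℕ) + 1 = b' + 1
            · rw [if_pos h, h, hprop f hf]; ring
            · rw [if_neg h, My f hf _ (by have := j.2; omega)]; ring
        · intro h
          have hfx : ∀ i, i < a' + 1 → coeff (ex i) f = 0 := fun i hi => by
            simpa using h (Sum.inl ⟨i, hi⟩)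
          have hfy : ∀ j, j < b' + 1 → coeff (ey j) f = 0 := by
            intro j hj
            rcases j with _ | j'
            · rw [ey_0, ← ex_0]; exact hfx 0 (by omega)
            · have := h (Sum.inr ⟨j', by omega⟩)
              simp only [Sum.elim_inr, LinearMap.sub_apply, LinearMap.smul_apply,
                smul_eq_mul] at this
              rw [if_neg (by omega), zero_mul, sub_zero] at this
              exact this
          have hfp : coeff (ey (b' + 1)) f = α * coeff (ex (a' + 1)) f := by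
            have := h (Sum.inr ⟨b', by omega⟩)
            simp only [Sum.elim_inr, LinearMap.sub_apply, LinearMap.smul_apply,
              smul_eq_mul] at this
            rw [if_pos trivial] at this
            linear_combination this
          obtain ⟨A, B, C', hEq⟩ := hcrit f hfx hfy hfp
          rw [hEq]
          exact J.add_mem (hgen A B C') (J.mul_mem_left _ hgJ)
    rw [hn, Fintype.card_sum, Fintype.card_fin, Fintype.card_fin] at hdim
    refine ⟨a' + 1, b' + 1, by omega, by omega, Or.inr ⟨by omega, α, hα, ?_⟩⟩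
    rw [hJeq, hgdef]

end


/-- Ideals of colength n of the complete local ring of a node. Let k be a field and J an ideal of the
power series ring k[[x,y]] in two variables x, y which contains xy and whose quotient is
finite-dimensional over k of dimension n ≥ 2. Then there are integers a, b ≥ 1 such that either a +
b = n + 1 and J is generated by xy, x^a, y^b, or a + b = n and J is generated by xy and x^a + α y^b
for some nonzero scalar α. -/
theorem result (k : Type u) [Field k]
    (J : Ideal (MvPowerSeries (Fin 2) k))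
    (hxy : (MvPowerSeries.X 0 * MvPowerSeries.X 1 : MvPowerSeries (Fin 2) k) ∈ J)
    [Module.Finite k (MvPowerSeries (Fin 2) k ⧸ J)] (n : ℕ) (hn : Module.finrank k (MvPowerSeries (Fin 2) k ⧸ J) = n)
    (h2 : 2 ≤ n) :
    ∃ a b : ℕ, 1 ≤ a ∧ 1 ≤ b ∧
      ((a + b = n + 1 ∧
        J = Ideal.span {MvPowerSeries.X 0 * MvPowerSeries.X 1, MvPowerSeries.X 0 ^ a, MvPowerSeries.X 1 ^ b}) ∨
       (a + b = n ∧ ∃ α : k, α ≠ 0 ∧
        J = Ideal.span {MvPowerSeries.X 0 * MvPowerSeries.X 1,
          MvPowerSeries.X 0 ^ a + MvPowerSeries.C α * MvPowerSeries.X 1 ^ b})) := by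
  exact main J hxy n hn h2


end Groth.Agent.S19437
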