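import Groth.Statements.S19438
import Mathlib

set_option autoImplicit false
universe u
open CAlg

namespace Groth.Agent.S19438

/-- First assertion: let A be a Noetherian local commutative algebra over a field k with maximal ideal
M, residue field k (the map from k to A/M is onto) and embedding dimension dim M/M^2 at least 2, and
let I be a proper ideal with A/I finite-dimensional over k. If A/I is generated as a k-algebra by
one element, then some element of I does not lie in M^2; that is, the finite closed subscheme
defined by I lies on a smooth hypersurface germ (it is curvilinear). (The published statement is for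
the local ring of a smooth surface at a closed point; only a Noetherian local algebra with residue
field k and embedding dimension at least 2 is assumed here, which is what the published argument
uses.) -/
theorem result (k : Type u) [Field k]
    (A : Type u) [CommRing A] [Algebra k A] [IsNoetherianRing A] [IsLocalRing A]
    (hres : Function.Surjective (algebraMap k (IsLocalRing.ResidueField A)))
    (hemb : 2 ≤ Module.finrank (IsLocalRing.ResidueField A) (IsLocalRing.CotangentSpace A))
    (I : Ideal A) (hI : I ≠ ⊤) [Module.Finite k (A ⧸ I)]
    (f : A ⧸ I) (hf : Algebra.adjoin k {f} = ⊤) :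
    ∃ g ∈ I, g ∉ IsLocalRing.maximalIdeal A ^ 2 := by
  classical
  by_contra hcon
  push Not at hcon
  have hIM : I ≤ IsLocalRing.maximalIdeal A ^ 2 := fun g hg => hcon g hg
  -- lift the generator
  obtain ⟨g, rfl⟩ := Ideal.Quotient.mk_surjective f
  obtain ⟨c, hc⟩ := hres (IsLocalRing.residue A g)
  have hg' : g - algebraMap k A c ∈ IsLocalRing.maximalIdeal A := by
    rw [← IsLocalRing.residue_eq_zero_iff, map_sub, ← hc,
      IsScalarTower.algebraMap_apply k A (IsLocalRing.ResidueField A),
      IsLocalRing.ResidueField.algebraMap_eq, sub_self]
  have hkM : ∀ r : k, algebraMap k A r ∈ IsLocalRing.maximalIdeal A → r = 0 := by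
    intro r hr
    by_contra hr0
    have hu : IsUnit (algebraMap k A r) := (IsUnit.mk0 r hr0).map (algebraMap k A)
    exact (IsLocalRing.mem_maximalIdeal _).1 hr hu
  -- every element of `M` lies in `(g') + M²`
  have hle : IsLocalRing.maximalIdeal A ≤
      Ideal.span {g - algebraMap k A c} ⊔
        IsLocalRing.maximalIdeal A • IsLocalRing.maximalIdeal A := by
    intro m hm
    have hmem : Ideal.Quotient.mk I m ∈ Algebra.adjoin k {Ideal.Quotient.mk I g} := by
      rw [hf]; exact Algebra.mem_top
    rw [Algebra.adjoin_singleton_eq_range_aeval] at hmem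
    obtain ⟨P, hP⟩ := hmem
    have hP' : Polynomial.aeval (Ideal.Quotient.mk I g) P = Ideal.Quotient.mk I m := hP
    have hdecomp := Polynomial.modByMonic_add_div P (Polynomial.X - Polynomial.C c)
    rw [Polynomial.modByMonic_X_sub_C_eq_C_eval] at hdecomp
    set Q := P /ₘ (Polynomial.X - Polynomial.C c) with hQ
    have h1 : Polynomial.aeval g P = algebraMap k A (P.eval c) +
        (g - algebraMap k A c) * Polynomial.aeval g Q := by
      conv_lhs => rw [← hdecomp]
      simp
    have h2 : Ideal.Quotient.mk I (Polynomial.aeval g P) = Ideal.Quotient.mk I m := by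
      rw [← hP']
      change (Ideal.Quotient.mkₐ k I) (Polynomial.aeval g P) = _
      rw [← Polynomial.aeval_algHom_apply]
      rfl
    have h3 : m - Polynomial.aeval g P ∈ I := by
      rw [← Ideal.Quotient.eq_zero_iff_mem, map_sub, h2, sub_self]
    have h3' : m - Polynomial.aeval g P ∈ IsLocalRing.maximalIdeal A ^ 2 := hIM h3
    have h4 : algebraMap k A (P.eval c) ∈ IsLocalRing.maximalIdeal A := by
      have e : algebraMap k A (P.eval c) =
          m - (g - algebraMap k A c) * Polynomial.aeval g Q - (m - Polynomial.aeval g P) := by
        rw [h1]; ring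
      rw [e]
      refine Ideal.sub_mem _ (Ideal.sub_mem _ hm (Ideal.mul_mem_right _ _ hg')) ?_
      exact Ideal.pow_le_self two_ne_zero h3'
    have h5 := hkM _ h4
    have e2 : m = (g - algebraMap k A c) * Polynomial.aeval g Q + (m - Polynomial.aeval g P) := by
      rw [h1, h5, map_zero]; ring
    rw [e2]
    refine Submodule.add_mem _ (Submodule.mem_sup_left ?_) (Submodule.mem_sup_right ?_)
    · exact Ideal.mul_mem_right _ _ (Ideal.subset_span rfl)
    · rw [smul_eq_mul, ← pow_two]
      exact h3'
  have hM : IsLocalRing.maximalIdeal A ≤ Ideal.span {g - algebraMap k A c} :=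
    Submodule.le_of_le_smul_of_le_jacobson_bot (IsNoetherian.noetherian _)
      (IsLocalRing.jacobson_eq_maximalIdeal _ bot_ne_top).ge hle
  have hprinc : (IsLocalRing.maximalIdeal A).IsPrincipal :=
    ⟨⟨g - algebraMap k A c, le_antisymm hM ((Ideal.span_singleton_le_iff_mem _).2 hg')⟩⟩
  have := IsLocalRing.finrank_cotangentSpace_le_one_iff.2 hprinc
  omega

end Groth.Agent.S19438
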