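import Groth.Statements.S19439
import Mathlib

set_option autoImplicit false
universe u
open CAlg

namespace Groth.Agent.S19439



/-- Affine form: for all n and N there is an integer d, that depends only on n and N, such that for
every algebraically closed field k and every ideal I of the polynomial ring in N variables over k
whose quotient has finite dimension n over k, the polynomials of total degree at most d map onto the
quotient. -/
theorem result (n N : ℕ) :
    ∃ d : ℕ, ∀ (k : Type u) [Field k] [IsAlgClosed k] (I : Ideal (MvPolynomial (Fin N) k))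
      [Module.Finite k (MvPolynomial (Fin N) k ⧸ I)],
      Module.finrank k (MvPolynomial (Fin N) k ⧸ I) = n →
      Submodule.map (Ideal.Quotient.mkₐ k I).toLinearMap (MvPolynomial.restrictTotalDegree (Fin N) k d) = ⊤ := by
  refine ⟨n, ?_⟩
  intro k _ _ I _ hfin
  classical
  have hsurj : Function.Surjective (Ideal.Quotient.mkₐ k I) := Ideal.Quotient.mkₐ_surjective k I
  obtain ⟨W, hW0, hWs⟩ : ∃ W : ℕ → Submodule k (MvPolynomial (Fin N) k ⧸ I),
      W 0 = Submodule.span k {1} ∧ ∀ j, W (j+1) = W j ⊔ ⨆ i : Fin N,
        (W j).map (LinearMap.mulLeft k (Ideal.Quotient.mkₐ k I (MvPolynomial.X i))) :=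
    ⟨fun j => Nat.rec (Submodule.span k {1}) (fun _ Wj => Wj ⊔ ⨆ i : Fin N,
        Wj.map (LinearMap.mulLeft k (Ideal.Quotient.mkₐ k I (MvPolynomial.X i)))) j,
      rfl, fun j => rfl⟩
  have hmono1 : ∀ j, W j ≤ W (j+1) := fun j => by rw [hWs]; exact le_sup_left
  have hmono : Monotone W := monotone_nat_of_le_succ hmono1
  have hF1 : ∀ j, W j ≤ Submodule.map (Ideal.Quotient.mkₐ k I).toLinearMap
      (MvPolynomial.restrictTotalDegree (Fin N) k j) := by
    intro j
    induction j with
    | zero =>
      rw [hW0, Submodule.span_le]
      intro x hx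
      rw [Set.mem_singleton_iff] at hx
      subst hx
      refine ⟨1, ?_, by rw [AlgHom.toLinearMap_apply, map_one]⟩
      rw [SetLike.mem_coe, MvPolynomial.mem_restrictTotalDegree, MvPolynomial.totalDegree_one]
    | succ j ih =>
      rw [hWs]
      refine sup_le ?_ (iSup_le fun i => ?_)
      · refine le_trans ih (Submodule.map_mono ?_)
        intro p hp
        rw [MvPolynomial.mem_restrictTotalDegree] at hp ⊢
        omega
      · rintro _ ⟨w, hw, rfl⟩
        obtain ⟨p, hp, rfl⟩ := ih hw
        refine ⟨MvPolynomial.X i * p, ?_, ?_⟩
        · rw [SetLike.mem_coe, MvPolynomial.mem_restrictTotalDegree] at hp ⊢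
          have h1 := MvPolynomial.totalDegree_mul (MvPolynomial.X i : MvPolynomial (Fin N) k) p
          have h2 : (MvPolynomial.X i : MvPolynomial (Fin N) k).totalDegree = 1 :=
            MvPolynomial.totalDegree_X i
          omega
        · rw [LinearMap.mulLeft_apply, AlgHom.toLinearMap_apply, AlgHom.toLinearMap_apply,
            map_mul]
  have hF3 : ∀ j, W (j+1) = W j → W j = ⊤ := by
    intro j heq
    have hstab : ∀ i : Fin N, ∀ w ∈ W j,
        Ideal.Quotient.mkₐ k I (MvPolynomial.X i) * w ∈ W j := by
      intro i w hw
      rw [← heq, hWs]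
      refine Submodule.mem_sup_right (Submodule.mem_iSup_of_mem i ?_)
      exact ⟨w, hw, LinearMap.mulLeft_apply _ _ _⟩
    have h1 : (1 : MvPolynomial (Fin N) k ⧸ I) ∈ W j := by
      apply hmono (Nat.zero_le j)
      rw [hW0]
      exact Submodule.subset_span rfl
    rw [eq_top_iff]
    intro x hx
    clear hx
    obtain ⟨p, rfl⟩ := hsurj x
    induction p using MvPolynomial.induction_on with
    | C a =>
      have : Ideal.Quotient.mkₐ k I (MvPolynomial.C a)
          = a • (1 : MvPolynomial (Fin N) k ⧸ I) := by
        rw [← MvPolynomial.algebraMap_eq, AlgHom.commutes, Algebra.algebraMap_eq_smul_one]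
      rw [this]
      exact Submodule.smul_mem _ a h1
    | add p q hp hq =>
      rw [map_add]
      exact Submodule.add_mem _ hp hq
    | mul_X p i hp =>
      rw [map_mul, mul_comm]
      exact hstab i _ hp
  have hF4 : ∀ j, W j = ⊤ ∨ j + 1 ≤ Module.finrank k (W j) := by
    intro j
    induction j with
    | zero =>
      by_cases h10 : (1 : MvPolynomial (Fin N) k ⧸ I) = 0
      · left
        rw [eq_top_iff]
        intro x _
        have : x = 0 := by rw [← mul_one x, h10, mul_zero]
        rw [this]
        exact Submodule.zero_mem _
      · right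
        rw [hW0, finrank_span_singleton h10]
    | succ j ih =>
      by_cases heq : W (j+1) = W j
      · left
        rw [heq]
        exact hF3 j heq
      · rcases ih with htop | hle
        · left
          have h := hmono1 j
          rw [htop] at h
          exact top_le_iff.mp h
        · right
          have hlt : W j < W (j+1) := lt_of_le_of_ne (hmono1 j) (Ne.symm heq)
          have := Submodule.finrank_lt_finrank_of_lt hlt
          omega
  rcases hF4 n with htop | hle
  · have h := hF1 n
    rw [htop] at h
    exact top_le_iff.mp h
  · exfalso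
    have := Submodule.finrank_le (W n)
    omega


end Groth.Agent.S19439
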