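import Groth.Statements.S19444
import Mathlib
import Groth.Agent.Lib.Helper22.SymSpan

set_option autoImplicit false
universe u
open SymTen
open scoped TensorProduct

namespace Groth.Agent.S19444

/-- Linearised norm: let A be a commutative ring in which n! is invertible and R a commutative
A-algebra, free of rank n as an A-module. There is a unique A-algebra homomorphism from the
symmetric tensors TS^n_A(R) to A taking r ⊗ ⋯ ⊗ r to the norm of r for every r in R. (The published
corollary is stated for any free algebra of rank n; the construction printed for it divides by n!,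
and n! invertible is assumed here.) -/
theorem result (A : Type u) [CommRing A] (R : Type u) [CommRing R]
    [Algebra A R] [Module.Free A R] [Module.Finite A R] (n : ℕ) (hn : Module.finrank A R = n)
    (hfact : IsUnit ((Nat.factorial n : ℕ) : A)) :
    ∃! φ : SymTen.TS A R n →ₐ[A] A, ∀ r : R, φ (SymTen.tpow A R n r) = Algebra.norm A r := by
  classical
  rcases subsingleton_or_nontrivial A with hA | hA
  · refine ⟨{ toFun := fun _ => 0
              map_one' := Subsingleton.elim _ _
              map_mul' := fun _ _ => Subsingleton.elim _ _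
              map_zero' := rfl
              map_add' := fun _ _ => Subsingleton.elim _ _
              commutes' := fun _ => Subsingleton.elim _ _ }, fun _ => Subsingleton.elim _ _, ?_⟩
    intro φ' _
    apply AlgHom.ext
    intro t
    exact Subsingleton.elim _ _
  let b : Module.Basis (Fin n) A R := Module.finBasisOfFinrankEq A R hn
  -- the multilinear map `(r_i) ↦ det (row i of the matrix of r_i)`
  let rowMap : Fin n → (R →ₗ[A] (Fin n → A)) := fun i =>
    { toFun := fun r => fun j => Algebra.leftMulMatrix b r i j
      map_add' := fun r s => by ext j; simp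
      map_smul' := fun a r => by ext j; simp }
  let μ : MultilinearMap A (fun _ : Fin n => R) A :=
    (Matrix.detRowAlternating (R := A) (n := Fin n)).toMultilinearMap.compLinearMap rowMap
  have hμ : ∀ r : R, μ (fun _ => r) = Algebra.norm A r := by
    intro r
    rw [Algebra.norm_eq_matrix_det b r]
    rfl
  let ψ : (⨂[A] _ : Fin n, R) →ₗ[A] A := PiTensorProduct.lift μ
  have hψ : ∀ r : R, ψ (PiTensorProduct.tprod A (fun _ : Fin n => r)) = Algebra.norm A r := by
    intro r
    rw [PiTensorProduct.lift.tprod]
    exact hμ r
  -- multiplicativity on the span of powers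
  have h1 : ∀ (r : R) (y : ⨂[A] _ : Fin n, R), y ∈ Groth.Agent.Lib.Helper22.SymSpan.W A R n →
      ψ (PiTensorProduct.tprod A (fun _ : Fin n => r) * y) = Algebra.norm A r * ψ y := by
    intro r y hy
    induction hy using Submodule.span_induction with
    | mem y hy =>
      obtain ⟨r', rfl⟩ := hy
      rw [PiTensorProduct.tprod_mul_tprod, hψ r']
      have : ((fun _ : Fin n => r) * fun _ : Fin n => r') = fun _ : Fin n => r * r' := rfl
      rw [this, hψ, map_mul]
    | zero => simp
    | add x y _ _ hx hy => rw [mul_add, map_add, map_add, hx, hy, mul_add]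
    | smul a x _ hx => rw [mul_smul_comm, map_smul, map_smul, hx, smul_eq_mul, smul_eq_mul]; ring
  have h2 : ∀ (x y : ⨂[A] _ : Fin n, R), x ∈ Groth.Agent.Lib.Helper22.SymSpan.W A R n →
      y ∈ Groth.Agent.Lib.Helper22.SymSpan.W A R n → ψ (x * y) = ψ x * ψ y := by
    intro x y hx hy
    induction hx using Submodule.span_induction with
    | mem x hx =>
      obtain ⟨r, rfl⟩ := hx
      rw [h1 r y hy, hψ]
    | zero => simp
    | add x x' _ _ hx hx' => rw [add_mul, map_add, map_add, hx, hx', add_mul]
    | smul a x _ hx => rw [smul_mul_assoc, map_smul, map_smul, hx, smul_eq_mul, smul_eq_mul]; ring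
  let φ : SymTen.TS A R n →ₐ[A] A :=
    AlgHom.ofLinearMap (ψ.comp (SymTen.TS A R n).val.toLinearMap)
      (by
        show ψ ((1 : SymTen.TS A R n) : ⨂[A] _ : Fin n, R) = 1
        rw [OneMemClass.coe_one, PiTensorProduct.one_def]
        have : ψ (PiTensorProduct.tprod A (fun _ : Fin n => (1 : R))) = 1 := by
          rw [hψ, map_one]
        exact this)
      (by
        intro x y
        show ψ ((x * y : SymTen.TS A R n) : ⨂[A] _ : Fin n, R) = ψ x.1 * ψ y.1
        rw [MulMemClass.coe_mul]
        exact h2 _ _ (Groth.Agent.Lib.Helper22.SymSpan.TS_mem_W A R n hfact x.1 x.2)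
          (Groth.Agent.Lib.Helper22.SymSpan.TS_mem_W A R n hfact y.1 y.2))
  have hφ : ∀ r : R, φ (SymTen.tpow A R n r) = Algebra.norm A r := by
    intro r
    exact hψ r
  refine ⟨φ, hφ, ?_⟩
  intro φ' hφ'
  apply AlgHom.ext
  intro t
  have ht := Groth.Agent.Lib.Helper22.SymSpan.TS_mem_span_tpow A R n hfact t
  induction ht using Submodule.span_induction with
  | mem t ht =>
    obtain ⟨r, rfl⟩ := ht
    rw [hφ', hφ]
  | zero => simp
  | add x y _ _ hx hy => rw [map_add, map_add, hx, hy]
  | smul a x _ hx => rw [map_smul, map_smul, hx]

end Groth.Agent.S19444
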