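import Groth.Statements.S19445
import Mathlib
import Groth.Agent.Lib.Helper15.Regular

set_option autoImplicit false
universe u
open CAlg

namespace Groth.Agent.S19445

open IsLocalRing

theorem exists_min_gens {A : Type u} [CommRing A] [IsLocalRing A] [IsNoetherianRing A]
    (S : Set A) (hS : S ⊆ (maximalIdeal A : Set A)) (hspan : Ideal.span S = maximalIdeal A) :
    ∃ F : Finset A, (F : Set A) ⊆ S ∧ Ideal.span (F : Set A) = maximalIdeal A ∧
      F.card ≤ (maximalIdeal A).spanFinrank := by
  classical
  obtain ⟨S', hS'⟩ : ∃ S' : Set (maximalIdeal A), S' = {x | x.1 ∈ S} := ⟨_, rfl⟩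
  have himg : (maximalIdeal A).subtype '' S' = S := by
    rw [hS']
    ext x
    constructor
    · rintro ⟨y, hy, rfl⟩
      exact hy
    · intro hx
      exact ⟨⟨x, hS hx⟩, hx, rfl⟩
  have h1 : Submodule.span A S' = ⊤ := by
    apply Submodule.map_injective_of_injective (maximalIdeal A).injective_subtype
    rw [Submodule.map_span, himg, Submodule.map_top, Submodule.range_subtype]
    exact hspan
  have h2 := CotangentSpace.span_image_eq_top_iff.mpr h1
  obtain ⟨b, hbsub, hbspan, hbli⟩ := exists_linearIndependent (ResidueField A)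
    ((maximalIdeal A).toCotangent '' S')
  have hb_top : Submodule.span (ResidueField A) b = ⊤ := hbspan.trans h2
  have hbfin : b.Finite := hbli.setFinite
  have hbcard : b.ncard = (maximalIdeal A).spanFinrank := by
    rw [IsLocalRing.spanFinrank_maximalIdeal_eq_finrank_cotangentSpace A]
    have B := Module.Basis.mk hbli (by rw [Subtype.range_coe]; exact hb_top.ge)
    rw [Module.finrank_eq_nat_card_basis B, Nat.card_coe_set_eq]
  have hc : ∀ y ∈ b, ∃ x : maximalIdeal A, x ∈ S' ∧ (maximalIdeal A).toCotangent x = y :=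
    fun y hy => hbsub hy
  choose! c hc1 hc2 using hc
  obtain ⟨F0, hF0⟩ : ∃ F0 : Set (maximalIdeal A), F0 = c '' b := ⟨_, rfl⟩
  have hF0img : (maximalIdeal A).toCotangent '' F0 = b := by
    rw [hF0, Set.image_image]
    ext y
    constructor
    · rintro ⟨y', hy', rfl⟩
      show (maximalIdeal A).toCotangent (c y') ∈ b
      rw [hc2 y' hy']
      exact hy'
    · intro hy
      exact ⟨y, hy, hc2 y hy⟩
  have hF0span : Submodule.span A F0 = ⊤ := by
    rw [← CotangentSpace.span_image_eq_top_iff, hF0img]
    exact hb_top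
  have hF0fin : F0.Finite := by
    rw [hF0]
    exact hbfin.image c
  obtain ⟨FA, hFA⟩ : ∃ FA : Set A, FA = (maximalIdeal A).subtype '' F0 := ⟨_, rfl⟩
  have hFAfin : FA.Finite := by
    rw [hFA]
    exact hF0fin.image _
  refine ⟨hFAfin.toFinset, ?_, ?_, ?_⟩
  · rw [Set.Finite.coe_toFinset, hFA, hF0]
    rintro _ ⟨_, ⟨y, hy, rfl⟩, rfl⟩
    have h3 := hc1 y hy
    rw [hS'] at h3
    exact h3
  · rw [Set.Finite.coe_toFinset, hFA]
    have h3 := congrArg (Submodule.map (maximalIdeal A).subtype) hF0span
    rw [Submodule.map_span, Submodule.map_top, Submodule.range_subtype] at h3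
    exact h3
  · rw [← Set.ncard_eq_toFinset_card FA hFAfin, ← hbcard, hFA]
    refine (Set.ncard_image_le hF0fin).trans ?_
    rw [hF0]
    exact Set.ncard_image_le hbfin

theorem mul_mem_aux {A : Type u} [CommRing A] (m J' : Ideal A) (M : ℕ) {x y : A}
    (hx : x ∈ m) (hy : y ∈ J' ⊔ m ^ M) : x * y ∈ J' ⊔ m ^ (M + 1) := by
  obtain ⟨j, hj, w, hw, rfl⟩ := Submodule.mem_sup.mp hy
  rw [mul_add]
  refine Ideal.add_mem _ (Ideal.mem_sup_left (J'.mul_mem_left x hj)) (Ideal.mem_sup_right ?_)
  rw [pow_succ']
  exact Ideal.mul_mem_mul hx hw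

theorem smul_mem_max {A : Type u} [CommRing A] [IsLocalRing A] {G : Type u} [Group G]
    [MulSemiringAction G A] (σ : G) (x : A) (hx : x ∈ maximalIdeal A) :
    σ • x ∈ maximalIdeal A := by
  rw [IsLocalRing.mem_maximalIdeal, mem_nonunits_iff] at hx ⊢
  intro h
  apply hx
  have h2 := h.map (MulSemiringAction.toRingHom G A σ⁻¹)
  rw [MulSemiringAction.toRingHom_apply, inv_smul_smul] at h2
  exact h2


/-- Local form: let k be a field and A a regular local k-algebra with maximal ideal M and residue field
k (k maps onto A/M); let a finite group G whose order is invertible in k act on A by k-algebra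
automorphisms. Then A/J is a regular local ring, where J is the ideal generated by the elements g·a
− a (J defines the fixed-point subscheme, so the fixed locus of G is smooth at the point). The
accompanying identification of its tangent space with the G-invariants of the tangent space of A is
not restated here. -/
theorem result (k : Type u) [Field k] (A : Type u) [CommRing A]
    [Algebra k A] [IsRegularLocalRing A]
    (hres : Function.Surjective (algebraMap k (IsLocalRing.ResidueField A)))
    (G : Type u) [Group G] [Finite G] [MulSemiringAction G A] [SMulCommClass G k A]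
    (hG : (Nat.card G : k) ≠ 0) :
    IsRegularLocalRing (A ⧸ Ideal.span {x : A | ∃ (g : G) (a : A), x = g • a - a}) := by
  classical
  haveI : Fintype G := Fintype.ofFinite G
  have hN : ((Fintype.card G : ℕ) : k) ≠ 0 := by
    rw [← Nat.card_eq_fintype_card]
    exact hG
  obtain ⟨J, hJdef⟩ : ∃ J, J = Ideal.span {x : A | ∃ (g : G) (a : A), x = g • a - a} := ⟨_, rfl⟩
  rw [← hJdef]
  obtain ⟨c0, hc0⟩ : ∃ c0 : k, c0 = ((Fintype.card G : ℕ) : k)⁻¹ := ⟨_, rfl⟩
  obtain ⟨e, he⟩ : ∃ e : A →ₗ[k] A, ∀ a, e a = c0 • ∑ g : G, g • a :=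
    ⟨c0 • ∑ g : G, DistribSMul.toLinearMap k A g, fun a => by
      rw [LinearMap.smul_apply, LinearMap.sum_apply]
      rfl⟩
  have hcard_smul : ∀ a : A, c0 • ∑ _g : G, a = a := by
    intro a
    rw [Finset.sum_const, Finset.card_univ, ← Nat.cast_smul_eq_nsmul k, smul_smul, hc0,
      inv_mul_cancel₀ hN, one_smul]
  have e_inv : ∀ a : A, (∀ g : G, g • a = a) → e a = a := by
    intro a ha
    rw [he]
    simp only [ha]
    exact hcard_smul a
  have g_e : ∀ (h : G) (a : A), h • e a = e a := by
    intro h a
    calc h • e a = h • (c0 • ∑ g : G, g • a) := by rw [he]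
      _ = c0 • ∑ g : G, h • g • a := by
          rw [smul_comm]
          congr 1
          exact Finset.smul_sum
      _ = c0 • ∑ g : G, (h * g) • a := by simp only [mul_smul]
      _ = c0 • ∑ g : G, g • a := by
          congr 1
          exact Fintype.sum_equiv (Equiv.mulLeft h) _ _ (fun g => rfl)
      _ = e a := (he a).symm
  have e_g : ∀ (h : G) (a : A), e (h • a) = e a := by
    intro h a
    calc e (h • a) = c0 • ∑ g : G, g • h • a := he _
      _ = c0 • ∑ g : G, (g * h) • a := by simp only [mul_smul]
      _ = c0 • ∑ g : G, g • a := by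
          congr 1
          exact Fintype.sum_equiv (Equiv.mulRight h) _ _ (fun g => rfl)
      _ = e a := (he a).symm
  have e_mul_inv : ∀ t a : A, (∀ g : G, g • t = t) → e (t * a) = t * e a := by
    intro t a ht
    rw [he, he]
    simp only [smul_mul', ht]
    rw [← Finset.mul_sum, mul_smul_comm]
  have g_alg : ∀ (g : G) (c : k), g • algebraMap k A c = algebraMap k A c := by
    intro g c
    rw [Algebra.algebraMap_eq_smul_one, smul_comm, smul_one]
  have e_alg : ∀ c : k, e (algebraMap k A c) = algebraMap k A c :=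
    fun c => e_inv _ (fun g => g_alg g c)
  have f_mem_J : ∀ a : A, a - e a ∈ J := by
    intro a
    have h1 : a - e a = -(c0 • ∑ g : G, (g • a - a)) := by
      rw [Finset.sum_sub_distrib, smul_sub, hcard_smul, he]
      abel
    rw [h1, Algebra.smul_def]
    refine neg_mem (Ideal.mul_mem_left _ _ (Ideal.sum_mem _ fun g _ => ?_))
    rw [hJdef]
    exact Ideal.subset_span ⟨g, a, rfl⟩
  have g_mem_m : ∀ (g : G) (x : A), x ∈ maximalIdeal A → g • x ∈ maximalIdeal A :=
    fun g x hx => smul_mem_max g x hx
  have e_mem_m : ∀ x ∈ maximalIdeal A, e x ∈ maximalIdeal A := by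
    intro x hx
    rw [he, Algebra.smul_def]
    exact Ideal.mul_mem_left _ _ (Ideal.sum_mem _ fun g _ => g_mem_m g x hx)
  have decomp : ∀ a : A, ∃ c : k, a - algebraMap k A c ∈ maximalIdeal A := by
    intro a
    obtain ⟨c, hc⟩ := hres (IsLocalRing.residue A a)
    refine ⟨c, ?_⟩
    rw [← IsLocalRing.residue_eq_zero_iff, map_sub, ← hc, sub_eq_zero]
    rfl
  obtain ⟨S, hSdef⟩ : ∃ S : Set A,
      S = {x | x ∈ maximalIdeal A ∧ ((∀ g : G, g • x = x) ∨ e x = 0)} := ⟨_, rfl⟩
  have hSm : S ⊆ (maximalIdeal A : Set A) := by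
    rw [hSdef]
    exact fun x hx => hx.1
  have hSspan : Ideal.span S = maximalIdeal A := by
    apply le_antisymm (Ideal.span_le.mpr hSm)
    intro y hy
    have h1 : e y ∈ S := by
      rw [hSdef]
      exact ⟨e_mem_m y hy, Or.inl (fun g => g_e g y)⟩
    have h2 : y - e y ∈ S := by
      rw [hSdef]
      refine ⟨Ideal.sub_mem _ hy (e_mem_m y hy), Or.inr ?_⟩
      rw [map_sub, e_inv (e y) (fun g => g_e g y), sub_self]
    have h3 : y = e y + (y - e y) := by abel
    rw [h3]
    exact Ideal.add_mem _ (Ideal.subset_span h1) (Ideal.subset_span h2)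
  obtain ⟨F, hFS, hFspan, hFcard⟩ := exists_min_gens S hSm hSspan
  obtain ⟨T, hTdef⟩ : ∃ T : Finset A, T = F.filter (fun x => ∀ g : G, g • x = x) := ⟨_, rfl⟩
  obtain ⟨T', hT'def⟩ : ∃ T' : Finset A, T' = F.filter (fun x => ¬ ∀ g : G, g • x = x) :=
    ⟨_, rfl⟩
  have hFm : ∀ t ∈ F, t ∈ maximalIdeal A := fun t ht => hSm (hFS (Finset.mem_coe.mpr ht))
  have hT'_e : ∀ t ∈ T', e t = 0 := by
    intro t ht
    rw [hT'def, Finset.mem_filter] at ht
    have h1 : t ∈ S := hFS (Finset.mem_coe.mpr ht.1)
    rw [hSdef] at h1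
    rcases h1.2 with h | h
    · exact absurd h ht.2
    · exact h
  have hTT' : (F : Set A) = (T' : Set A) ∪ (T : Set A) := by
    rw [hTdef, hT'def, ← Finset.coe_union, Finset.union_comm, Finset.filter_union_filter_not_eq]
  have hcardTT' : T.card + T'.card = F.card := by
    rw [hTdef, hT'def]
    exact Finset.card_filter_add_card_filter_not _
  obtain ⟨J', hJ'def⟩ : ∃ J' : Ideal A, J' = Ideal.span (T' : Set A) := ⟨_, rfl⟩
  have hT'J' : ∀ t ∈ T', t ∈ J' := fun t ht => by
    rw [hJ'def]
    exact Ideal.subset_span (Finset.mem_coe.mpr ht)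
  have Q : ∀ M : ℕ, ∀ a : A, a - e a ∈ J' ⊔ maximalIdeal A ^ M := by
    intro M
    induction M with
    | zero =>
      intro a
      rw [pow_zero, Ideal.one_eq_top, sup_top_eq]
      exact Submodule.mem_top
    | succ M ih =>
      have key : ∀ t ∈ F, ∀ a : A, a * t - e (a * t) ∈ J' ⊔ maximalIdeal A ^ (M + 1) := by
        intro t htF a
        by_cases hinv : ∀ g : G, g • t = t
        · have h1 : a * t - e (a * t) = t * (a - e a) := by
            rw [mul_comm a t, e_mul_inv t a hinv]
            ring
          rw [h1]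
          exact mul_mem_aux _ _ M (hFm t htF) (ih a)
        · have htT' : t ∈ T' := by
            rw [hT'def, Finset.mem_filter]
            exact ⟨htF, hinv⟩
          have het : e t = 0 := hT'_e t htT'
          obtain ⟨c, hc⟩ := decomp a
          obtain ⟨z, hz⟩ : ∃ z, z = a - algebraMap k A c := ⟨_, rfl⟩
          have hzm : z ∈ maximalIdeal A := by
            rw [hz]
            exact hc
          have ha : a * t = c • t + z * t := by
            rw [hz, Algebra.smul_def]
            ring
          have h2 : e (a * t) = e (z * t) := by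
            rw [ha, map_add, map_smul, het, smul_zero, zero_add]
          have h3 : e (z * t) ∈ J' ⊔ maximalIdeal A ^ (M + 1) := by
            rw [he, Algebra.smul_def]
            refine Ideal.mul_mem_left _ _ (Ideal.sum_mem _ fun g _ => ?_)
            rw [smul_mul']
            have h4 : g • t = g • t - e (g • t) := by rw [e_g, het, sub_zero]
            rw [h4]
            exact mul_mem_aux _ _ M (g_mem_m g z hzm) (ih (g • t))
          rw [h2]
          exact Ideal.sub_mem _ (Ideal.mem_sup_left (J'.mul_mem_left a (hT'J' t htT'))) h3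
      intro a
      obtain ⟨c, hc⟩ := decomp a
      obtain ⟨z, hz⟩ : ∃ z, z = a - algebraMap k A c := ⟨_, rfl⟩
      have hzm : z ∈ maximalIdeal A := by
        rw [hz]
        exact hc
      have h1 : a - e a = z - e z := by
        rw [hz, map_sub, e_alg]
        ring
      rw [h1]
      have hzF : z ∈ Submodule.span A (F : Set A) := by
        have h5 : z ∈ Ideal.span (F : Set A) := by
          rw [hFspan]
          exact hzm
        exact h5
      obtain ⟨φ, _, hφ⟩ := Submodule.mem_span_finset.mp hzF
      rw [← hφ, map_sum, ← Finset.sum_sub_distrib]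
      refine Ideal.sum_mem _ fun t ht => ?_
      rw [smul_eq_mul]
      exact key t ht (φ t)
  have hf_J' : ∀ a : A, a - e a ∈ J' := by
    intro a
    have hm_top : maximalIdeal A ≠ ⊤ := (maximalIdeal.isMaximal A).ne_top
    have hK := Ideal.iInf_pow_smul_eq_bot_of_isLocalRing (M := A ⧸ J') (maximalIdeal A) hm_top
    have hmem : (Submodule.Quotient.mk (a - e a) : A ⧸ J') ∈
        ⨅ i : ℕ, (maximalIdeal A ^ i • ⊤ : Submodule A (A ⧸ J')) := by
      rw [Submodule.mem_iInf]
      intro i
      obtain ⟨j, hj, w, hw, hsum⟩ := Submodule.mem_sup.mp (Q i a)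
      rw [← hsum, Submodule.Quotient.mk_add, (Submodule.Quotient.mk_eq_zero J').mpr hj, zero_add]
      have h1 : (Submodule.Quotient.mk w : A ⧸ J') = w • Submodule.Quotient.mk (1 : A) := by
        rw [← Submodule.Quotient.mk_smul, smul_eq_mul, mul_one]
      rw [h1]
      exact Submodule.smul_mem_smul hw Submodule.mem_top
    rw [hK, Submodule.mem_bot, Submodule.Quotient.mk_eq_zero] at hmem
    exact hmem
  have hJJ' : J = J' := by
    apply le_antisymm
    · rw [hJdef, Ideal.span_le]
      rintro _ ⟨g, a, rfl⟩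
      have h1 : g • a - a = (g • a - e (g • a)) - (a - e a) := by
        rw [e_g]
        ring
      rw [h1]
      exact Ideal.sub_mem _ (hf_J' _) (hf_J' _)
    · rw [hJ'def, Ideal.span_le]
      intro t ht
      have h1 : t - e t = t := by rw [hT'_e t (Finset.mem_coe.mp ht), sub_zero]
      have h2 := f_mem_J t
      rw [h1] at h2
      exact h2
  have hm : maximalIdeal A = J ⊔ Ideal.span (T : Set A) := by
    rw [hJJ', hJ'def, ← Ideal.span_union, ← hTT', hFspan]
  have hcard : J.spanFinrank + T.card ≤ (maximalIdeal A).spanFinrank := by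
    have h1 : J.spanFinrank ≤ T'.card := by
      rw [hJJ', hJ'def]
      refine (Submodule.spanFinrank_span_le_ncard_of_finite (Finset.finite_toSet T')).trans ?_
      rw [Set.ncard_coe_finset]
    omega
  obtain ⟨h, _⟩ := Groth.Agent.Lib.helper15.isRegularLocalRing_quotient_of_span J T hm hcard
  exact h


end Groth.Agent.S19445
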