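import Groth.Statements.S19448
import Mathlib

set_option autoImplicit false
universe u
open CAlg

namespace Groth.Agent.S19448



/-- Let k be a field, A a Noetherian local k-algebra with maximal ideal M and residue field k, and G a
finite group with |G| ≠ 0 in k acting on A by k-algebra automorphisms. An element of G which acts
trivially on M/M^2 acts trivially on A; in other words the stabilizer acts faithfully on the
cotangent space whenever it acts faithfully on the local ring. -/
theorem result (k : Type u) [Field k] (A : Type u) [CommRing A]
    [Algebra k A] [IsLocalRing A] [IsNoetherianRing A]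
    (hres : Function.Surjective (algebraMap k (IsLocalRing.ResidueField A)))
    (G : Type u) [Group G] [Finite G] [MulSemiringAction G A] [SMulCommClass G k A]
    (hG : (Nat.card G : k) ≠ 0) (g : G)
    (hg : ∀ a ∈ IsLocalRing.maximalIdeal A, g • a - a ∈ IsLocalRing.maximalIdeal A ^ 2) (a : A) :
    g • a = a := by
  classical
  set M := IsLocalRing.maximalIdeal A with hMdef
  let u : A → A := fun a => g • a - a
  have hu : ∀ a, u a = g • a - a := fun _ => rfl
  have hgu : ∀ a, g • a = u a + a := fun a => by rw [hu]; abel
  have u_add : ∀ a b, u (a + b) = u a + u b := by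
    intro a b; simp only [hu, smul_add]; abel
  have u_sub : ∀ a b, u (a - b) = u a - u b := by
    intro a b; simp only [hu, smul_sub]; abel
  have u_mul : ∀ a b, u (a * b) = u a * (g • b) + a * u b := by
    intro a b; simp only [hu, smul_mul']; ring
  have u_alg : ∀ c : k, u (algebraMap k A c) = 0 := by
    intro c
    rw [hu, Algebra.algebraMap_eq_smul_one, smul_comm, smul_one, sub_self]
  have P0 : ∀ a, u a ∈ M ^ 2 := by
    intro a
    obtain ⟨c, hc⟩ := hres (IsLocalRing.residue A a)
    have h1 : a - algebraMap k A c ∈ M := by
      rw [hMdef, ← IsLocalRing.residue_eq_zero_iff, map_sub, ← hc, sub_eq_zero]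
      rfl
    have h2 := hg _ h1
    have h3 : u a = u (a - algebraMap k A c) := by rw [u_sub, u_alg, sub_zero]
    rw [h3]; exact h2
  have P : ∀ j : ℕ, ∀ x ∈ M ^ j, u x ∈ M ^ (j + 1) := by
    intro j
    induction j with
    | zero =>
      intro x _
      rw [zero_add, pow_one]
      exact Ideal.pow_le_self two_ne_zero (P0 x)
    | succ j ih =>
      intro x hx
      rw [pow_succ] at hx
      refine Submodule.mul_induction_on hx ?_ ?_
      · intro b hb a ha
        rw [u_mul]
        refine Ideal.add_mem _ ?_ ?_
        · have h1 : u b ∈ M ^ (j + 1) := ih b hb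
          have h2 : g • a ∈ M := by
            rw [hgu]
            exact Ideal.add_mem _ (Ideal.pow_le_self two_ne_zero (hg a ha)) ha
          have h3 := Ideal.mul_mem_mul h1 h2
          rw [← pow_succ] at h3
          exact h3
        · show b * u a ∈ M ^ (j + 2)
          rw [pow_add]
          exact Ideal.mul_mem_mul hb (hg a ha)
      · intro x y hx hy
        rw [u_add]
        exact Ideal.add_mem _ hx hy
  have hn : g ^ Nat.card G = 1 := pow_card_eq_one'
  have Q : ∀ N : ℕ, ∀ a, u a ∈ M ^ N := by
    intro N
    induction N with
    | zero => intro a; simp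
    | succ N ih =>
      intro a
      have claim : ∀ i : ℕ, g ^ i • a - (a + i • u a) ∈ M ^ (N + 1) := by
        intro i
        induction i with
        | zero => simp
        | succ i ihi =>
          have e : g ^ (i + 1) • a - (a + (i + 1) • u a) =
              i • u (u a) + u (g ^ i • a - (a + i • u a)) + (g ^ i • a - (a + i • u a)) := by
            have e1 : g ^ (i + 1) • a = g • (g ^ i • a) := by rw [pow_succ', mul_smul]
            rw [e1]
            simp only [hu, smul_sub, smul_add, add_smul, one_smul, smul_comm g i]
            abel
          rw [e]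
          have hua : u a ∈ M ^ N := ih a
          have h1 : u (u a) ∈ M ^ (N + 1) := P N _ hua
          have h2 : u (g ^ i • a - (a + i • u a)) ∈ M ^ (N + 1) :=
            Ideal.pow_le_pow_right (Nat.le_succ _) (P (N + 1) _ ihi)
          exact Ideal.add_mem _ (Ideal.add_mem _ (nsmul_mem h1 i) h2) ihi
      have h1 := claim (Nat.card G)
      rw [hn, one_smul] at h1
      have h2 : (Nat.card G) • u a ∈ M ^ (N + 1) := by
        have h2' : (Nat.card G) • u a = -(a - (a + Nat.card G • u a)) := by abel
        rw [h2']
        exact neg_mem h1
      have h3 : ((Nat.card G : k)) • u a ∈ M ^ (N + 1) := by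
        rwa [Nat.cast_smul_eq_nsmul]
      have h4 : u a = (Nat.card G : k)⁻¹ • ((Nat.card G : k) • u a) := by
        rw [smul_smul, inv_mul_cancel₀ hG, one_smul]
      rw [h4, Algebra.smul_def]
      exact Ideal.mul_mem_left _ _ h3
  have hzero : u a = 0 := by
    have hM : M ≠ ⊤ := (IsLocalRing.maximalIdeal.isMaximal A).ne_top
    have hK := Ideal.iInf_pow_eq_bot_of_isLocalRing M hM
    have hmem : u a ∈ ⨅ i : ℕ, M ^ i := by
      rw [Submodule.mem_iInf]
      exact fun i => Q i a
    rw [hK] at hmem
    exact hmem
  rw [hgu, hzero, zero_add]


end Groth.Agent.S19448
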