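import Groth.Statements.S19449
import Mathlib

set_option autoImplicit false
universe u
open SymRep

namespace Groth.Agent.S19449

section aux

variable (k : Type u) [Field k] (n : ℕ)

/-- the action of a permutation -/
noncomputable def ρ (σ : Equiv.Perm (Fin n)) :
    MvPolynomial (Fin n × Fin 2) k →ₐ[k] MvPolynomial (Fin n × Fin 2) k :=
  MvPolynomial.rename (fun v : Fin n × Fin 2 => (σ v.1, v.2))

/-- the alternant -/
noncomputable def Δ (p : Fin n → ℕ × ℕ) : MvPolynomial (Fin n × Fin 2) k :=
  (Matrix.of fun i j : Fin n =>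
    (MvPolynomial.X (i, 0) : MvPolynomial (Fin n × Fin 2) k) ^ (p j).1 *
      MvPolynomial.X (i, 1) ^ (p j).2).det

/-- the monomial -/
noncomputable def mono (p : Fin n → ℕ × ℕ) : MvPolynomial (Fin n × Fin 2) k :=
  ∏ i : Fin n, (MvPolynomial.X (i, 0) : MvPolynomial (Fin n × Fin 2) k) ^ (p i).1 *
      MvPolynomial.X (i, 1) ^ (p i).2

lemma ρ_Δ (σ : Equiv.Perm (Fin n)) (p : Fin n → ℕ × ℕ) :
    ρ k n σ (Δ k n p) = ((Equiv.Perm.sign σ : ℤˣ) : ℤ) • Δ k n p := by
  unfold Δ
  rw [AlgHom.map_det, zsmul_eq_mul, ← Matrix.det_permute]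
  congr 1
  ext i j
  simp [ρ, AlgHom.mapMatrix_apply, Matrix.map_apply]

lemma Δ_eq_sum (p : Fin n → ℕ × ℕ) :
    Δ k n p = ∑ σ : Equiv.Perm (Fin n), ((Equiv.Perm.sign σ : ℤˣ) : ℤ) • ρ k n σ (mono k n p) := by
  unfold Δ
  rw [Matrix.det_apply']
  apply Finset.sum_congr rfl
  intro σ _
  rw [zsmul_eq_mul]
  congr 1
  simp [ρ, mono, map_prod]

/-- exponent vector of the monomial -/
noncomputable def S (p : Fin n → ℕ × ℕ) : (Fin n × Fin 2) →₀ ℕ :=
  Finsupp.equivFunOnFinite.symm (fun v => if v.2 = 0 then (p v.1).1 else (p v.1).2)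

lemma S_apply_zero (p : Fin n → ℕ × ℕ) (i : Fin n) : S n p (i, 0) = (p i).1 := by
  simp [S]

lemma S_apply_one (p : Fin n → ℕ × ℕ) (i : Fin n) : S n p (i, 1) = (p i).2 := by
  simp [S]

lemma S_injective : Function.Injective (S n) := by
  intro p q h
  funext i
  apply Prod.ext
  · rw [← S_apply_zero, ← S_apply_zero, h]
  · rw [← S_apply_one, ← S_apply_one, h]

lemma mono_eq_monomial (p : Fin n → ℕ × ℕ) :
    mono k n p = MvPolynomial.monomial (S n p) (1 : k) := by
  rw [MvPolynomial.monomial_eq, Finsupp.prod_fintype _ _ (fun _ => pow_zero _),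
    Fintype.prod_prod_type, map_one, one_mul]
  unfold mono
  apply Finset.prod_congr rfl
  intro i _
  rw [Fin.prod_univ_two, S_apply_zero, S_apply_one]

lemma monomial_eq_smul_mono (s : (Fin n × Fin 2) →₀ ℕ) (c : k) :
    MvPolynomial.monomial s c = c • mono k n (fun i => (s (i, 0), s (i, 1))) := by
  rw [mono_eq_monomial, MvPolynomial.smul_monomial, smul_eq_mul, mul_one]
  congr 2
  apply Finsupp.ext
  rintro ⟨i, t⟩
  fin_cases t
  · exact (S_apply_zero n (fun i => (s (i, 0), s (i, 1))) i).symm
  · exact (S_apply_one n (fun i => (s (i, 0), s (i, 1))) i).symm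

lemma ρ_mono (σ : Equiv.Perm (Fin n)) (p : Fin n → ℕ × ℕ) :
    ρ k n σ (mono k n p) = mono k n (fun i => p (σ.symm i)) := by
  unfold mono
  rw [map_prod, ← Equiv.prod_comp σ (fun i : Fin n =>
    (MvPolynomial.X (i, 0) : MvPolynomial (Fin n × Fin 2) k) ^ (p (σ.symm i)).1 *
      MvPolynomial.X (i, 1) ^ (p (σ.symm i)).2)]
  apply Finset.prod_congr rfl
  intro i _
  simp [ρ]

/-- the antisymmetrisation operator -/
noncomputable def Alt : MvPolynomial (Fin n × Fin 2) k →ₗ[k] MvPolynomial (Fin n × Fin 2) k :=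
  ∑ σ : Equiv.Perm (Fin n), ((Equiv.Perm.sign σ : ℤˣ) : ℤ) • (ρ k n σ).toLinearMap

lemma Alt_apply (f : MvPolynomial (Fin n × Fin 2) k) :
    Alt k n f = ∑ σ : Equiv.Perm (Fin n), ((Equiv.Perm.sign σ : ℤˣ) : ℤ) • ρ k n σ f := by
  simp [Alt, LinearMap.sum_apply]

lemma Alt_mem (f : MvPolynomial (Fin n × Fin 2) k) :
    Alt k n f ∈ Submodule.span k (Set.range (Δ k n)) := by
  rw [← MvPolynomial.support_sum_monomial_coeff f, map_sum]
  apply Submodule.sum_mem
  intro s _
  rw [monomial_eq_smul_mono, map_smul]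
  apply Submodule.smul_mem
  rw [Alt_apply, ← Δ_eq_sum]
  exact Submodule.subset_span ⟨_, rfl⟩

lemma coeff_Δ (p q : Fin n → ℕ ×ₗ ℕ) (hp : StrictMono p) (hq : StrictMono q) :
    MvPolynomial.coeff (S n (fun i => ofLex (p i))) (Δ k n (fun i => ofLex (q i))) =
      if p = q then 1 else 0 := by
  classical
  rw [Δ_eq_sum, MvPolynomial.coeff_sum]
  have key : ∀ σ : Equiv.Perm (Fin n), σ ≠ 1 →
      MvPolynomial.coeff (S n (fun i => ofLex (p i)))
        (((Equiv.Perm.sign σ : ℤˣ) : ℤ) • ρ k n σ (mono k n (fun i => ofLex (q i)))) = 0 := by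
    intro σ hσ
    rw [ρ_mono, mono_eq_monomial, MvPolynomial.coeff_smul, MvPolynomial.coeff_monomial, if_neg,
      smul_zero]
    intro heq
    have h1 := S_injective n heq
    have h2 : (fun i => q (σ.symm i)) = p := by
      funext i
      have := congrFun h1 i
      exact ofLex.injective this
    have hsm : StrictMono (fun i => q (σ.symm i)) := by rw [h2]; exact hp
    have hrange : Set.range (fun i => q (σ.symm i)) = Set.range q := by
      ext y
      constructor
      · rintro ⟨i, rfl⟩; exact ⟨_, rfl⟩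
      · rintro ⟨i, rfl⟩; exact ⟨σ i, by simp⟩
    have h3 : (fun i => q (σ.symm i)) = q := (hsm.range_inj hq).mp hrange
    apply hσ
    ext i
    have := hq.injective (congrFun h3 (σ i))
    simp only [Equiv.symm_apply_apply] at this
    rw [Equiv.Perm.one_apply]
    exact congrArg Fin.val this.symm
  rw [Finset.sum_eq_single (1 : Equiv.Perm (Fin n)) (fun σ _ hσ => key σ hσ)
    (fun h => (h (Finset.mem_univ _)).elim)]
  rw [Equiv.Perm.sign_one, Units.val_one, one_smul, ρ_mono, mono_eq_monomial,
    MvPolynomial.coeff_monomial]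
  have : (fun i => ofLex (q ((1 : Equiv.Perm (Fin n)).symm i))) = fun i => ofLex (q i) := rfl
  rw [this]
  by_cases hpq : p = q
  · rw [if_pos hpq, if_pos (by rw [hpq])]
  · rw [if_neg hpq, if_neg]
    intro heq
    apply hpq
    funext i
    exact ofLex.injective (congrFun (S_injective n heq) i).symm

end aux

/-- Over a field k of characteristic zero, let the symmetric group S_n act on the polynomial ring in the
2n variables x_i, y_i (i < n; the variable (i, 0) is x_i and (i, 1) is y_i) by permuting the index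
i, and for an n-tuple p of pairs (p_j, q_j) of exponents let Δ_p be the determinant det(x_i^{p_j}
y_i^{q_j}). A polynomial is alternating — each permutation acts on it by its sign — exactly when it
is a k-linear combination of the Δ_p; and the Δ_p for p strictly increasing in the lexicographic
order on pairs (one for each n-element set of exponent pairs) are linearly independent. Hence these
Δ_p form a basis of the space of alternating polynomials. -/
theorem result (k : Type u) [Field k] [CharZero k] (n : ℕ) :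
    (∀ f : MvPolynomial (Fin n × Fin 2) k,
      (∀ σ : Equiv.Perm (Fin n),
          MvPolynomial.rename (fun v : Fin n × Fin 2 => (σ v.1, v.2)) f = ((Equiv.Perm.sign σ : ℤˣ) : ℤ) • f) ↔
        f ∈ Submodule.span k (Set.range fun p : Fin n → ℕ × ℕ =>
          (Matrix.of fun i j : Fin n =>
            (MvPolynomial.X (i, 0) : MvPolynomial (Fin n × Fin 2) k) ^ (p j).1 * MvPolynomial.X (i, 1) ^ (p j).2).det)) ∧
    LinearIndependent k (fun p : {p : Fin n → ℕ ×ₗ ℕ // StrictMono p} =>
      (Matrix.of fun i j : Fin n =>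
        (MvPolynomial.X (i, 0) : MvPolynomial (Fin n × Fin 2) k) ^ (ofLex (p.1 j)).1 *
          MvPolynomial.X (i, 1) ^ (ofLex (p.1 j)).2).det) := by
  classical
  constructor
  · intro f
    change (∀ σ : Equiv.Perm (Fin n), ρ k n σ f = ((Equiv.Perm.sign σ : ℤˣ) : ℤ) • f) ↔
      f ∈ Submodule.span k (Set.range (Δ k n))
    constructor
    · intro h
      have hA : Alt k n f = (n.factorial : k) • f := by
        rw [Alt_apply]
        have : ∀ σ : Equiv.Perm (Fin n), ((Equiv.Perm.sign σ : ℤˣ) : ℤ) • ρ k n σ f = f := by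
          intro σ
          rw [h σ, smul_smul, Int.units_coe_mul_self, one_smul]
        rw [Finset.sum_congr rfl (fun σ _ => this σ), Finset.sum_const, Finset.card_univ,
          Fintype.card_perm, Fintype.card_fin, Nat.cast_smul_eq_nsmul]
      have hne : (n.factorial : k) ≠ 0 := Nat.cast_ne_zero.mpr (Nat.factorial_ne_zero n)
      have : f = (n.factorial : k)⁻¹ • Alt k n f := by
        rw [hA, smul_smul, inv_mul_cancel₀ hne, one_smul]
      rw [this]
      exact Submodule.smul_mem _ _ (Alt_mem k n f)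
    · intro hf σ
      induction hf using Submodule.span_induction with
      | mem x hx =>
        obtain ⟨p, rfl⟩ := hx
        exact ρ_Δ k n σ p
      | zero => rw [map_zero, smul_zero]
      | add a b _ _ ha hb => rw [map_add, ha, hb, smul_add]
      | smul c a _ ha => rw [map_smul, ha, smul_comm]
  · change LinearIndependent k (fun p : {p : Fin n → ℕ ×ₗ ℕ // StrictMono p} =>
      Δ k n (fun j => ofLex (p.1 j)))
    rw [linearIndependent_iff']
    intro t g hsum i hi
    have h1 := congrArg (MvPolynomial.coeff (S n (fun j => ofLex (i.1 j)))) hsum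
    rw [MvPolynomial.coeff_sum, MvPolynomial.coeff_zero] at h1
    rw [Finset.sum_eq_single i] at h1
    · rw [MvPolynomial.coeff_smul, coeff_Δ k n i.1 i.1 i.2 i.2, if_pos rfl, smul_eq_mul,
        mul_one] at h1
      exact h1
    · intro j _ hji
      rw [MvPolynomial.coeff_smul, coeff_Δ k n i.1 j.1 i.2 j.2, if_neg, smul_zero]
      intro h
      exact hji (Subtype.ext h.symm)
    · intro h
      exact (h hi).elim

end Groth.Agent.S19449
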