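import Groth.Statements.S19452
import Mathlib
import Groth.Agent.Lib.Helper8.LocalFlat

set_option autoImplicit false
universe u
attribute [local instance] W4c6puncthilbintro.dualAlgebra
open HilbD

namespace Groth.Agent.S19452

section Aux
open TensorProduct Function
open W4c6puncthilbintro DualNumber TrivSqZeroExt

section F1
variable {A : Type u} [CommRing A]

theorem eps_exact : Function.Exact (LinearMap.lsmul (DualNumber A) (DualNumber A) (ε : DualNumber A))
    (LinearMap.lsmul (DualNumber A) (DualNumber A) (ε : DualNumber A)) := by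
  intro x
  constructor
  · intro hx
    simp only [LinearMap.lsmul_apply, smul_eq_mul] at hx
    refine ⟨inl x.snd, ?_⟩
    simp only [LinearMap.lsmul_apply, smul_eq_mul]
    have h1 : x.fst = 0 := by
      have := congrArg TrivSqZeroExt.snd hx
      simpa using this
    ext
    · simp [h1]
    · simp
  · rintro ⟨y, rfl⟩
    simp only [LinearMap.lsmul_apply, smul_eq_mul]
    rw [← mul_assoc, eps_mul_eps, zero_mul]

theorem exists_eq_eps_smul (M : Type u) [AddCommGroup M] [Module (DualNumber A) M]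
    [Module.Flat (DualNumber A) M] (m : M) (hm : (ε : DualNumber A) • m = 0) :
    ∃ m' : M, m = (ε : DualNumber A) • m' := by
  have h := Module.Flat.lTensor_exact M (eps_exact (A := A))
  have h1 : (LinearMap.lsmul (DualNumber A) (DualNumber A) (ε : DualNumber A)).lTensor M
      (m ⊗ₜ 1) = 0 := by
    rw [LinearMap.lTensor_tmul, LinearMap.lsmul_apply, smul_eq_mul, mul_one]
    have : m ⊗ₜ[DualNumber A] (ε : DualNumber A) = ((ε : DualNumber A) • m) ⊗ₜ[DualNumber A] (1 : DualNumber A) := by
      rw [TensorProduct.smul_tmul, smul_eq_mul, mul_one]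
    rw [this, hm, TensorProduct.zero_tmul]
  obtain ⟨t, ht⟩ := (h _).mp h1
  refine ⟨TensorProduct.rid (DualNumber A) M t, ?_⟩
  have h2 : ∀ t : M ⊗[DualNumber A] DualNumber A,
      TensorProduct.rid (DualNumber A) M
        ((LinearMap.lsmul (DualNumber A) (DualNumber A) (ε : DualNumber A)).lTensor M t) =
      (ε : DualNumber A) • TensorProduct.rid (DualNumber A) M t := by
    intro t
    induction t using TensorProduct.induction_on with
    | zero => simp
    | tmul x y =>
      rw [LinearMap.lTensor_tmul, TensorProduct.rid_tmul, TensorProduct.rid_tmul,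
        LinearMap.lsmul_apply, smul_eq_mul, mul_smul]
    | add x y hx hy => rw [map_add, map_add, map_add, smul_add, hx, hy]
  rw [← h2, ht, TensorProduct.rid_tmul, one_smul]

end F1

section Lift
variable {A : Type u} [CommRing A] {R : Type u} [CommRing R] [Algebra A R] (I : Ideal R)

theorem mem_liftIdeal (φ : I →ₗ[R] R ⧸ I) (x : DualNumber R) :
    x ∈ liftIdeal I φ ↔ ∃ h : x.fst ∈ I, Ideal.Quotient.mk I x.snd = φ ⟨x.fst, h⟩ := Iff.rfl

theorem fstHom_surjective : Function.Surjective (TrivSqZeroExt.fstHom A R R) := fun r =>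
  ⟨inl r, by simp⟩

theorem map_liftIdeal (φ : I →ₗ[R] R ⧸ I) :
    Ideal.map (TrivSqZeroExt.fstHom A R R) (liftIdeal I φ) = I := by
  ext a
  rw [Ideal.mem_map_iff_of_surjective _ (fstHom_surjective (A := A) (R := R))]
  constructor
  · rintro ⟨x, ⟨hx, _⟩, rfl⟩
    exact hx
  · intro ha
    obtain ⟨b, hb⟩ := Ideal.Quotient.mk_surjective (φ ⟨a, ha⟩)
    refine ⟨inl a + inr b, ⟨by simpa using ha, ?_⟩, by simp⟩
    simp only [snd_add, snd_inl, snd_inr, zero_add, fst_add, fst_inl, fst_inr, add_zero]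
    exact hb

theorem liftIdeal_injective : Function.Injective (liftIdeal I) := by
  intro φ ψ h
  ext ⟨a, ha⟩
  obtain ⟨b, hb⟩ := Ideal.Quotient.mk_surjective (φ ⟨a, ha⟩)
  have h1 : (inl a + inr b : DualNumber R) ∈ liftIdeal I φ := by
    refine ⟨by simpa using ha, ?_⟩
    simp only [snd_add, snd_inl, snd_inr, zero_add, fst_add, fst_inl, fst_inr, add_zero]
    exact hb
  rw [h] at h1
  obtain ⟨h2, h3⟩ := h1
  simp only [snd_add, snd_inl, snd_inr, zero_add, fst_add, fst_inl, fst_inr, add_zero] at h3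
  rw [← hb, h3]

end Lift

section Conv
variable {A : Type u} [CommRing A] {R : Type u} [CommRing R] [Algebra A R] (I : Ideal R)

theorem algebraMap_eps : algebraMap (DualNumber A) (DualNumber R) (ε : DualNumber A) = ε :=
  dualMap_eps A R

theorem eps_smul_mk (J : Ideal (DualNumber R)) (x : DualNumber R) :
    (ε : DualNumber A) • (Ideal.Quotient.mk J x) = Ideal.Quotient.mk J (ε * x) := by
  have h := Submodule.Quotient.mk_smul J (ε : DualNumber A) x
  rw [Algebra.smul_def, algebraMap_eps] at h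
  exact h.symm

variable {I} (J : Ideal (DualNumber R)) [Module.Flat (DualNumber A) (DualNumber R ⧸ J)]
  (hJ : Ideal.map (TrivSqZeroExt.fstHom A R R) J = I)

include hJ in
theorem fst_mem_of_mem {x : DualNumber R} (hx : x ∈ J) : x.fst ∈ I := by
  rw [← hJ]
  exact Ideal.mem_map_of_mem (TrivSqZeroExt.fstHom A R R) hx

include hJ in
theorem exists_mem_fst_eq {a : R} (ha : a ∈ I) : ∃ x ∈ J, x.fst = a := by
  rw [← hJ, Ideal.mem_map_iff_of_surjective _ (fstHom_surjective (A := A) (R := R))] at ha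
  exact ha

include hJ in
theorem inr_mem_of_mem {c : R} (hc : c ∈ I) : (inr c : DualNumber R) ∈ J := by
  obtain ⟨x, hx, rfl⟩ := exists_mem_fst_eq (A := A) J hJ hc
  have h1 : (ε : DualNumber R) * x = inr x.fst := by
    ext <;> simp
  rw [← h1]
  exact J.mul_mem_left _ hx

include hJ in
theorem mem_of_inr_mem {c : R} (hc : (inr c : DualNumber R) ∈ J) : c ∈ I := by
  have h1 : (ε : DualNumber A) • (Ideal.Quotient.mk J (inl c)) = 0 := by
    rw [eps_smul_mk, Ideal.Quotient.eq_zero_iff_mem]
    have : (ε : DualNumber R) * inl c = inr c := by ext <;> simp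
    rw [this]
    exact hc
  obtain ⟨m', hm'⟩ := exists_eq_eps_smul (A := A) (DualNumber R ⧸ J) _ h1
  obtain ⟨y, rfl⟩ := Ideal.Quotient.mk_surjective m'
  rw [eps_smul_mk, Ideal.Quotient.eq] at hm'
  have h2 := fst_mem_of_mem (A := A) J hJ hm'
  simpa using h2

include hJ in
theorem mk_snd_eq {x y : DualNumber R} (hx : x ∈ J) (hy : y ∈ J) (h : x.fst = y.fst) :
    Ideal.Quotient.mk I x.snd = Ideal.Quotient.mk I y.snd := by
  rw [Ideal.Quotient.eq]
  apply mem_of_inr_mem (A := A) J hJ
  have h1 : (inr (x.snd - y.snd) : DualNumber R) = x - y := by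
    ext <;> simp [h]
  rw [h1]
  exact J.sub_mem hx hy

/-- The linear map attached to a flat lifting. -/
noncomputable def phiOf : I →ₗ[R] R ⧸ I where
  toFun a := Ideal.Quotient.mk I (Classical.choose (exists_mem_fst_eq (A := A) J hJ a.2)).snd
  map_add' a b := by
    have ha := Classical.choose_spec (exists_mem_fst_eq (A := A) J hJ a.2)
    have hb := Classical.choose_spec (exists_mem_fst_eq (A := A) J hJ b.2)
    have hab := Classical.choose_spec (exists_mem_fst_eq (A := A) J hJ (a + b).2)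
    rw [← map_add, ← TrivSqZeroExt.snd_add]
    apply mk_snd_eq (A := A) J hJ hab.1 (J.add_mem ha.1 hb.1)
    rw [hab.2, TrivSqZeroExt.fst_add, ha.2, hb.2]
    rfl
  map_smul' r a := by
    have ha := Classical.choose_spec (exists_mem_fst_eq (A := A) J hJ a.2)
    have hra := Classical.choose_spec (exists_mem_fst_eq (A := A) J hJ (r • a).2)
    have h1 : (inl r * (Classical.choose (exists_mem_fst_eq (A := A) J hJ a.2)) : DualNumber R) ∈ J :=
      J.mul_mem_left _ ha.1
    rw [mk_snd_eq (A := A) J hJ hra.1 h1 (by rw [hra.2, TrivSqZeroExt.fst_mul, ha.2]; rfl)]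
    simp [Algebra.smul_def]

theorem phiOf_apply {x : DualNumber R} (hx : x ∈ J) :
    phiOf (A := A) J hJ ⟨x.fst, fst_mem_of_mem (A := A) J hJ hx⟩ = Ideal.Quotient.mk I x.snd := by
  have ha := Classical.choose_spec (exists_mem_fst_eq (A := A) J hJ (fst_mem_of_mem (A := A) J hJ hx))
  exact mk_snd_eq (A := A) J hJ ha.1 hx ha.2

theorem eq_liftIdeal : J = liftIdeal I (phiOf (A := A) J hJ) := by
  ext x
  rw [mem_liftIdeal]
  constructor
  · intro hx
    exact ⟨fst_mem_of_mem (A := A) J hJ hx, (phiOf_apply (A := A) J hJ hx).symm⟩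
  · rintro ⟨h1, h2⟩
    obtain ⟨x₀, hx₀, hx₀'⟩ := exists_mem_fst_eq (A := A) J hJ h1
    have h3 := phiOf_apply (A := A) J hJ hx₀
    have h4 : (⟨x₀.fst, fst_mem_of_mem (A := A) J hJ hx₀⟩ : I) = ⟨x.fst, h1⟩ := Subtype.ext hx₀'
    rw [h4, ← h2, Ideal.Quotient.eq] at h3
    have h5 := inr_mem_of_mem (A := A) J hJ h3
    have h6 : x = x₀ + inr (x.snd - x₀.snd) := by
      ext <;> simp [hx₀']
    rw [h6]
    exact J.add_mem hx₀ h5

end Conv

section Gen

open Groth.Agent.Lib.helper8.LocalFlat in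
theorem flat_tensor_quot_of_semilinear {A' A : Type u} [CommRing A'] [CommRing A] (ψ : A' →+* A)
    (hψ : Function.Surjective ψ) (L : Type u) [AddCommGroup L] [Module A' L]
    (M : Type u) [AddCommGroup M] [Module A M] [Module.Flat A M]
    (g : L →+ M) (hg : Function.Surjective g) (hsm : ∀ (a : A') (l : L), g (a • l) = ψ a • g l)
    (K : Ideal A') (hK : RingHom.ker ψ = K)
    (hker : ∀ l, g l = 0 → l ∈ (K • ⊤ : Submodule A' L)) :
    Module.Flat (A' ⧸ K) ((A' ⧸ K) ⊗[A'] L) := by
  letI : Algebra A' A := ψ.toAlgebra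
  letI : Module A' M := Module.compHom M ψ
  haveI : IsScalarTower A' A M := IsScalarTower.of_algebraMap_smul fun r x => rfl
  let g' : L →ₗ[A'] M := { toFun := g, map_add' := map_add g, map_smul' := fun a l => hsm a l }
  have hg' : Function.Surjective g' := hg
  have hk : (K • ⊤ : Submodule A' L) = LinearMap.ker g' := by
    apply le_antisymm
    · rw [Submodule.smul_le]
      intro k hk l _
      rw [LinearMap.mem_ker, map_smul]
      rw [← hK, RingHom.mem_ker] at hk
      show ψ k • g' l = 0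
      rw [hk, zero_smul]
    · intro l hl
      exact hker l hl
  let f : M ≃ₗ[A'] (A' ⧸ K) ⊗[A'] L :=
    ((TensorProduct.quotTensorEquivQuotSMul L K) ≪≫ₗ
      (Submodule.quotEquivOfEq _ _ hk) ≪≫ₗ (g'.quotKerEquivOfSurjective hg')).symm
  refine flat_of_linearEquiv_of_surjective (R := A') (R₁ := A) (R₂ := A' ⧸ K) hψ
    Ideal.Quotient.mk_surjective ?_ f
  intro x hx
  rw [RingHom.mem_ker] at hx ⊢
  have : x ∈ K := by
    rw [← hK, RingHom.mem_ker]
    exact hx
  exact Ideal.Quotient.eq_zero_iff_mem.mpr this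

end Gen

section Flat
variable {A : Type u} [CommRing A] {R : Type u} [CommRing R] [Algebra A R] (I : Ideal R)
  (φ : I →ₗ[R] R ⧸ I)

theorem fst_algebraMap (a : DualNumber A) :
    (algebraMap (DualNumber A) (DualNumber R) a).fst = algebraMap A R a.fst := by
  show (dualMap A R a).fst = _
  unfold dualMap
  rw [DualNumber.lift_apply_apply]
  simp [Algebra.ofId_apply, TrivSqZeroExt.algebraMap_eq_inl']

/-- (E): elements with first component in `I` are `ε`-multiples modulo the lifted ideal. -/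
theorem exists_eps_smul_of_fst_mem (x : DualNumber R) (hx : x.fst ∈ I) :
    ∃ l' : DualNumber R ⧸ liftIdeal I φ,
      Ideal.Quotient.mk (liftIdeal I φ) x = (ε : DualNumber A) • l' := by
  obtain ⟨b, hb⟩ := Ideal.Quotient.mk_surjective (φ ⟨x.fst, hx⟩)
  refine ⟨Ideal.Quotient.mk _ (inl (x.snd - b)), ?_⟩
  rw [eps_smul_mk, Ideal.Quotient.eq, mem_liftIdeal]
  have h1 : (x - ε * inl (x.snd - b) : DualNumber R).fst = x.fst := by simp
  have h2 : (x - ε * inl (x.snd - b) : DualNumber R).snd = b := by simp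
  refine ⟨by rw [h1]; exact hx, ?_⟩
  rw [h2, hb]
  congr 1
  exact Subtype.ext h1.symm

theorem fst_mem_of_eps_smul_eq_zero (x : DualNumber R)
    (hx : (ε : DualNumber A) • Ideal.Quotient.mk (liftIdeal I φ) x = 0) : x.fst ∈ I := by
  rw [eps_smul_mk, Ideal.Quotient.eq_zero_iff_mem, mem_liftIdeal] at hx
  obtain ⟨h1, h2⟩ := hx
  have h3 : (⟨(ε * x : DualNumber R).fst, h1⟩ : I) = 0 := by
    apply Subtype.ext
    simp
  rw [h3, map_zero, Ideal.Quotient.eq_zero_iff_mem] at h2
  simpa using h2

theorem isNilpotent_span_eps : IsNilpotent (Ideal.span {(ε : DualNumber A)}) := by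
  refine ⟨2, ?_⟩
  rw [Ideal.span_singleton_pow, pow_two, eps_mul_eps]
  simp

theorem mem_span_eps_iff (a : DualNumber A) : a ∈ Ideal.span {(ε : DualNumber A)} ↔ a.fst = 0 := by
  rw [Ideal.mem_span_singleton']
  constructor
  · rintro ⟨c, rfl⟩
    simp
  · intro h
    refine ⟨inl a.snd, ?_⟩
    ext <;> simp [h]

theorem ker_fstHom : RingHom.ker (TrivSqZeroExt.fstHom A A A).toRingHom =
    Ideal.span {(ε : DualNumber A)} := by
  ext a
  rw [mem_span_eps_iff, RingHom.mem_ker]
  rfl

theorem exists_eq_eps_tmul (L : Type u) [AddCommGroup L] [Module (DualNumber A) L]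
    (t : ↥(Ideal.span {(ε : DualNumber A)}) ⊗[DualNumber A] L) :
    ∃ l : L, t = (⟨ε, Ideal.mem_span_singleton_self _⟩ : ↥(Ideal.span {(ε : DualNumber A)})) ⊗ₜ l := by
  induction t using TensorProduct.induction_on with
  | zero => exact ⟨0, by simp⟩
  | tmul j l =>
    obtain ⟨j, hj⟩ := j
    obtain ⟨c, rfl⟩ := Ideal.mem_span_singleton'.mp hj
    refine ⟨c • l, ?_⟩
    rw [← TensorProduct.smul_tmul]
    rfl
  | add x y hx hy =>
    obtain ⟨l₁, rfl⟩ := hx
    obtain ⟨l₂, rfl⟩ := hy
    exact ⟨l₁ + l₂, by rw [TensorProduct.tmul_add]⟩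

theorem eps_tmul_eps_smul (L : Type u) [AddCommGroup L] [Module (DualNumber A) L] (l' : L) :
    (⟨ε, Ideal.mem_span_singleton_self _⟩ : ↥(Ideal.span {(ε : DualNumber A)})) ⊗ₜ[DualNumber A]
      ((ε : DualNumber A) • l') = 0 := by
  rw [← TensorProduct.smul_tmul]
  have h4 : (ε : DualNumber A) • (⟨ε, Ideal.mem_span_singleton_self _⟩ :
      ↥(Ideal.span {(ε : DualNumber A)})) = 0 := by
    apply Subtype.ext
    show (ε : DualNumber A) • (ε : DualNumber A) = 0
    rw [smul_eq_mul, eps_mul_eps]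
  rw [h4, TensorProduct.zero_tmul]

open Groth.Agent.Lib.helper8.LocalFlat in
theorem flat_liftIdeal [Module.Flat A (R ⧸ I)] :
    Module.Flat (DualNumber A) (DualNumber R ⧸ liftIdeal I φ) := by
  have hkill : ∀ x ∈ liftIdeal I φ,
      ((Ideal.Quotient.mk I).comp (TrivSqZeroExt.fstHom A R R).toRingHom) x = 0 := by
    rintro x ⟨hx, _⟩
    exact Ideal.Quotient.eq_zero_iff_mem.mpr hx
  let g : (DualNumber R ⧸ liftIdeal I φ) →+ R ⧸ I :=
    (Ideal.Quotient.lift (liftIdeal I φ)
      ((Ideal.Quotient.mk I).comp (TrivSqZeroExt.fstHom A R R).toRingHom) hkill).toAddMonoidHom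
  have hg_mk : ∀ x : DualNumber R, g (Ideal.Quotient.mk _ x) = Ideal.Quotient.mk I x.fst :=
    fun x => rfl
  haveI : Module.Flat (DualNumber A ⧸ Ideal.span {(ε : DualNumber A)})
      ((DualNumber A ⧸ Ideal.span {(ε : DualNumber A)}) ⊗[DualNumber A]
        (DualNumber R ⧸ liftIdeal I φ)) := by
    refine flat_tensor_quot_of_semilinear (TrivSqZeroExt.fstHom A A A).toRingHom
      (fstHom_surjective (A := A) (R := A)) _ (R ⧸ I) g ?_ ?_ _ ker_fstHom ?_
    · intro y
      obtain ⟨r, rfl⟩ := Ideal.Quotient.mk_surjective y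
      exact ⟨Ideal.Quotient.mk _ (inl r), by rw [hg_mk]; simp⟩
    · intro a l
      obtain ⟨x, rfl⟩ := Ideal.Quotient.mk_surjective l
      have h := Submodule.Quotient.mk_smul (liftIdeal I φ) a x
      rw [Algebra.smul_def] at h
      have h' : a • (Ideal.Quotient.mk (liftIdeal I φ)) x =
          Ideal.Quotient.mk (liftIdeal I φ) (algebraMap (DualNumber A) (DualNumber R) a * x) := h.symm
      rw [h', hg_mk, hg_mk, TrivSqZeroExt.fst_mul, fst_algebraMap, map_mul]
      show _ = a.fst • _
      rw [Algebra.smul_def]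
      rfl
    · intro l hl
      obtain ⟨x, rfl⟩ := Ideal.Quotient.mk_surjective l
      rw [hg_mk, Ideal.Quotient.eq_zero_iff_mem] at hl
      obtain ⟨l', hl'⟩ := exists_eps_smul_of_fst_mem (A := A) I φ x hl
      rw [hl']
      exact Submodule.smul_mem_smul (Ideal.mem_span_singleton_self _) Submodule.mem_top
  refine flat_of_isNilpotent (Ideal.span {(ε : DualNumber A)}) _ ?_ isNilpotent_span_eps
  rw [injective_iff_map_eq_zero]
  intro t ht
  obtain ⟨l, rfl⟩ := exists_eq_eps_tmul _ t
  rw [LinearMap.rTensor_tmul] at ht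
  have h2 := congrArg (TensorProduct.lid (DualNumber A) _) ht
  rw [TensorProduct.lid_tmul, map_zero] at h2
  obtain ⟨x, rfl⟩ := Ideal.Quotient.mk_surjective l
  have h3 := fst_mem_of_eps_smul_eq_zero (A := A) I φ x h2
  obtain ⟨l', hl'⟩ := exists_eps_smul_of_fst_mem (A := A) I φ x h3
  rw [hl']
  exact eps_tmul_eps_smul _ l'

end Flat

end Aux



/-- Let A be a commutative ring, R a commutative A-algebra free as an A-module, I an ideal of R with R/I
flat over A, and view the dual numbers R[ε] as an algebra over A[ε] (ε ↦ ε). For φ : I → R/I linear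
over R, let J_φ be the ideal of elements a + bε of R[ε] with a ∈ I and b ≡ φ(a) modulo I. Then each
R[ε]/J_φ is flat over A[ε] and J_φ reduces to I modulo ε; the assignment φ ↦ J_φ is injective; and
every ideal J of R[ε] with R[ε]/J flat over A[ε] which reduces to I modulo ε equals some J_φ. Thus
the first-order liftings of I correspond one-to-one to Hom_R(I, R/I) (the tangent space of the
Hilbert scheme at I). -/
theorem result (A : Type u) [CommRing A] (R : Type u) [CommRing R]
    [Algebra A R] [Module.Free A R] (I : Ideal R) [Module.Flat A (R ⧸ I)] :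
    (∀ φ : I →ₗ[R] R ⧸ I,
        Module.Flat (DualNumber A) (DualNumber R ⧸ W4c6puncthilbintro.liftIdeal I φ) ∧
          Ideal.map (TrivSqZeroExt.fstHom A R R) (W4c6puncthilbintro.liftIdeal I φ) = I) ∧
      Function.Injective (W4c6puncthilbintro.liftIdeal I) ∧
      ∀ J : Ideal (DualNumber R), Module.Flat (DualNumber A) (DualNumber R ⧸ J) →
        Ideal.map (TrivSqZeroExt.fstHom A R R) J = I →
          ∃ φ : I →ₗ[R] R ⧸ I, J = W4c6puncthilbintro.liftIdeal I φ := by
  refine ⟨fun φ => ⟨flat_liftIdeal I φ, map_liftIdeal (A := A) I φ⟩, liftIdeal_injective I, ?_⟩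
  intro J hflat hJ
  exact ⟨phiOf (A := A) J hJ, eq_liftIdeal (A := A) J hJ⟩

end Groth.Agent.S19452
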