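import Groth.Statements.S19453
import Groth.Agent.Lib.Helper24.Curvilinear

open Groth.Agent.Lib.helper24

set_option autoImplicit false
universe u
open CAlg

namespace Groth.Agent.S19453

/-- Converse direction: let k be a field, A a regular local k-algebra of Krull dimension 2 with maximal
ideal M and residue field k, and I an ideal with A/I of finite dimension n ≥ 1 over k. If some
element of I does not lie in M^2, then A/I is isomorphic as a k-algebra to k[x]/(x^n): a cluster
lying on a smooth curve germ of a smooth surface is curvilinear, with coordinate ring generated by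
one element. -/
theorem result (k : Type u) [Field k]
    (A : Type u) [CommRing A] [Algebra k A] [IsRegularLocalRing A] (hdim : ringKrullDim A = 2)
    (hres : Function.Surjective (algebraMap k (IsLocalRing.ResidueField A)))
    (I : Ideal A) [Module.Finite k (A ⧸ I)] (n : ℕ) (hn : Module.finrank k (A ⧸ I) = n) (h1 : 1 ≤ n)
    (g : A) (hgI : g ∈ I) (hg : g ∉ IsLocalRing.maximalIdeal A ^ 2) :
    Nonempty ((A ⧸ I) ≃ₐ[k] (Polynomial k ⧸ Ideal.span {(Polynomial.X : Polynomial k) ^ n})) := by
  classical
  have hItop : I ≠ ⊤ := by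
    intro h
    have : Subsingleton (A ⧸ I) := by
      rw [h]; exact Ideal.Quotient.subsingleton_iff.2 rfl
    have h0 : Module.finrank k (A ⧸ I) = 0 := Module.finrank_zero_of_subsingleton
    omega
  have hIM : I ≤ IsLocalRing.maximalIdeal A := IsLocalRing.le_maximalIdeal hItop
  obtain ⟨h, hhM, hspan⟩ := Curvilinear.exists_span_pair hdim g (hIM hgI) hg
  set t : A ⧸ I := Ideal.Quotient.mk I h with ht
  -- units
  have hunit : ∀ b : A, IsUnit (Ideal.Quotient.mk I (h * b + 1)) := by
    intro b
    apply IsUnit.map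
    have : h * b ∈ IsLocalRing.maximalIdeal A := Ideal.mul_mem_right _ _ hhM
    by_contra hcon
    have h1 : h * b + 1 ∈ IsLocalRing.maximalIdeal A := (IsLocalRing.mem_maximalIdeal _).2 hcon
    have h2 : (1 : A) ∈ IsLocalRing.maximalIdeal A := by
      have := Ideal.sub_mem _ h1 this
      simpa using this
    exact (IsLocalRing.maximalIdeal.isMaximal A).ne_top ((Ideal.eq_top_iff_one _).2 h2)
  have hjac : t ∈ Ideal.jacobson (⊥ : Ideal (A ⧸ I)) := by
    rw [Ideal.mem_jacobson_bot]
    intro y
    obtain ⟨b, rfl⟩ := Ideal.Quotient.mk_surjective y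
    have := hunit b
    rwa [map_add, map_mul, map_one] at this
  haveI : IsArtinianRing (A ⧸ I) := IsArtinianRing.of_finite k (A ⧸ I)
  have hnil : IsNilpotent t := by
    obtain ⟨N, hN⟩ := IsArtinianRing.isNilpotent_jacobson_bot (R := A ⧸ I)
    refine ⟨N, ?_⟩
    have := Ideal.pow_mem_pow hjac N
    rwa [hN] at this
  have hdec : ∀ b : A ⧸ I, ∃ c : k, b - algebraMap k (A ⧸ I) c ∈ Ideal.span {t} := by
    intro b
    obtain ⟨a, rfl⟩ := Ideal.Quotient.mk_surjective b
    obtain ⟨c, hc⟩ := hres (IsLocalRing.residue A a)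
    refine ⟨c, ?_⟩
    have h1 : a - algebraMap k A c ∈ IsLocalRing.maximalIdeal A := by
      rw [← IsLocalRing.residue_eq_zero_iff, map_sub, ← hc, sub_eq_zero]
      exact (IsScalarTower.algebraMap_apply k A (IsLocalRing.ResidueField A) c)
    rw [hspan, Ideal.mem_span_pair] at h1
    obtain ⟨α, β, hαβ⟩ := h1
    rw [Ideal.mem_span_singleton']
    refine ⟨Ideal.Quotient.mk I β, ?_⟩
    have h2 : Ideal.Quotient.mk I g = 0 := Ideal.Quotient.eq_zero_iff_mem.2 hgI
    have h3 : algebraMap k (A ⧸ I) c = Ideal.Quotient.mk I (algebraMap k A c) := rfl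
    rw [h3, ← map_sub, ← hαβ, map_add, map_mul, map_mul, h2, mul_zero, zero_add]
  have hsurj := Curvilinear.aeval_surjective (k := k) t hnil hdec
  obtain ⟨m, hm⟩ := Curvilinear.ker_aeval_eq (k := k) t hnil
  have e1 : (Polynomial k ⧸ RingHom.ker (Polynomial.aeval (R := k) t)) ≃ₐ[k] (A ⧸ I) :=
    Ideal.quotientKerAlgEquivOfSurjective hsurj
  have hmn : m = n := by
    have h1 : Module.finrank k (Polynomial k ⧸ Ideal.span {(Polynomial.X : Polynomial k) ^ m}) = m := by
      rw [finrank_quotient_span_eq_natDegree, Polynomial.natDegree_X_pow]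
    have h2 := e1.toLinearEquiv.finrank_eq
    rw [hn] at h2
    rw [← h1, ← h2, hm]
  rw [hmn] at hm
  exact ⟨e1.symm.trans (Ideal.quotientEquivAlgOfEq k hm)⟩

end Groth.Agent.S19453
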