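import Groth.Statements.S19455
import Mathlib
import Groth.Agent.Lib.Helper18.DivModGen
import Groth.Agent.Lib.Helper18.TensorGen
import Groth.Agent.Lib.Helper12.PullTensor

set_option autoImplicit false
universe u
open CategoryTheory CategoryTheory.Limits AlgebraicGeometry TopologicalSpace Opposite
open Mero

namespace Groth.Agent.S19455

open Groth.Agent.Lib.Helper18.InvGen Groth.Agent.Lib.Helper18.TensorGen
  Groth.Agent.Lib.Helper18.DivModGen Groth.Agent.Lib.helper26 MonoidalCategory
  Groth.Agent.Lib.helper12.TensorRestrict Groth.Agent.Lib.helper12.TensorSec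

variable {X : Scheme.{u}}

theorem divCond_mul (D E : Mero.Divisor X) (x : X) {a b : KStalk X x} (ha : DivCond D x a)
    (hb : DivCond E x b) : DivCond (D * E) x (a * b) := by
  intro g hg
  obtain ⟨g₁, hg₁⟩ := QuotientGroup.mk_surjective (D.1 x)
  obtain ⟨g₂, hg₂⟩ := QuotientGroup.mk_surjective (E.1 x)
  obtain ⟨c₁, hc₁⟩ := ha g₁ hg₁.symm
  obtain ⟨c₂, hc₂⟩ := hb g₂ hg₂.symm
  have h1 : (D * E).1 x = QuotientGroup.mk (g₁ * g₂) := by
    show D.1 x * E.1 x = _
    rw [← hg₁, ← hg₂, QuotientGroup.mk_mul]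
  have hmem : (g₁ * g₂)⁻¹ * g ∈ Mero.stalkUnits X x := QuotientGroup.eq.mp (h1.symm.trans hg)
  obtain ⟨r, hr⟩ := hmem
  refine ⟨c₁ * c₂ * (r : X.presheaf.stalk x), ?_⟩
  have h2 := congrArg (fun w : (KStalk X x)ˣ => (w : KStalk X x)) hr
  have h3 : algebraMap (X.presheaf.stalk x) (KStalk X x) (r : X.presheaf.stalk x) =
      (((g₁ * g₂)⁻¹ * g : (KStalk X x)ˣ) : KStalk X x) := h2
  rw [map_mul, map_mul, hc₁, hc₂, h3, Units.val_mul]
  have h4 : ((g₁ * g₂ : (KStalk X x)ˣ) : KStalk X x) * (((g₁ * g₂)⁻¹ : (KStalk X x)ˣ) : KStalk X x) = 1 :=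
    Units.mul_inv _
  rw [Units.val_mul] at h4
  calc a * (g₁ : KStalk X x) * (b * (g₂ : KStalk X x)) *
        ((((g₁ * g₂)⁻¹ : (KStalk X x)ˣ) : KStalk X x) * (g : KStalk X x))
      = a * b * ((g₁ : KStalk X x) * (g₂ : KStalk X x) *
          (((g₁ * g₂)⁻¹ : (KStalk X x)ˣ) : KStalk X x)) * (g : KStalk X x) := by ring
    _ = a * b * g := by rw [h4, mul_one]

/-- the product of a section of `O(D)` and a section of `O(E)` -/
noncomputable def mulSec (D E : Mero.Divisor X) (U : X.Opens) (t : Γ(Mero.divMod D, U))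
    (t' : Γ(Mero.divMod E, U)) : Γ(Mero.divMod (D * E), U) :=
  ⟨fun x => t.1 x * t'.1 x, ⟨Mero.kLoc_mul X U _ _ t.2.1 t'.2.1,
    fun x => divCond_mul D E x.1 (t.2.2 x) (t'.2.2 x)⟩⟩

/-- the presheaf-level multiplication -/
noncomputable def mulPre (D E : Mero.Divisor X) :
    (CohB1.tensorPre (Mero.divMod D) (Mero.divMod E) : X.PresheafOfModules) ⟶
      (Mero.divMod (D * E)).val where
  app V := ModuleCat.MonoidalCategory.tensorLift
    (fun (t : (Mero.divMod D).val.obj V) (t' : (Mero.divMod E).val.obj V) =>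
      (mulSec D E V.unop t t' : (Mero.divMod (D * E)).val.obj V))
    (fun a b c => Subtype.ext (funext fun x => add_mul _ _ _))
    (fun r a b => Subtype.ext (funext fun x => smul_mul_assoc _ _ _))
    (fun a b c => Subtype.ext (funext fun x => mul_add _ _ _))
    (fun r a b => Subtype.ext (funext fun x => mul_smul_comm _ _ _))
  naturality {V V'} i := by
    apply ModuleCat.MonoidalCategory.tensor_ext
    intro a b
    rfl

/-- the multiplication `O(D) ⊗ O(E) ⟶ O(D·E)` -/
noncomputable def mulHom (D E : Mero.Divisor X) :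
    CohB1.tensorMod (Mero.divMod D) (Mero.divMod E) ⟶ Mero.divMod (D * E) :=
  ((adj X).homEquiv _ _).symm (mulPre D E)

theorem toSheafify_mulHom (D E : Mero.Divisor X) :
    toSheafify (CohB1.tensorPre (Mero.divMod D) (Mero.divMod E) : X.PresheafOfModules) ≫
      (mulHom D E).val = mulPre D E := by
  have h1 : (adj X).homEquiv _ _ (mulHom D E) = mulPre D E := Equiv.apply_symm_apply _ _
  rw [Adjunction.homEquiv_unit] at h1
  exact h1

theorem mulHom_tmul (D E : Mero.Divisor X) (U : X.Opens) (t : Γ(Mero.divMod D, U))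
    (t' : Γ(Mero.divMod E, U)) :
    ((mulHom D E).val.app (op U)).hom (SecTwist.tmul (Mero.divMod D) (Mero.divMod E) U t t') =
      mulSec D E U t t' :=
  congrArg (fun φ => (PresheafOfModules.Hom.app φ (op U)).hom
    ((t : (Mero.divMod D).val.obj (op U)) ⊗ₜ (t' : (Mero.divMod E).val.obj (op U)) :
      ↥((CohB1.tensorPre (Mero.divMod D) (Mero.divMod E)).obj (op U)))) (toSheafify_mulHom D E)

theorem bijective_of_gen {R S T : Type*} [CommRing R] [AddCommGroup S] [Module R S]
    [AddCommGroup T] [Module R T] (φ : S →ₗ[R] T) (e : S) (e' : T)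
    (he : Function.Bijective (fun a : R => a • e)) (he' : Function.Bijective (fun a : R => a • e'))
    (h : φ e = e') : Function.Bijective φ := by
  constructor
  · intro s s' hs
    obtain ⟨a, rfl⟩ := he.2 s
    obtain ⟨b, rfl⟩ := he.2 s'
    have h1 : a • e' = b • e' := by
      have := hs
      simp only [map_smul, h] at this
      exact this
    have h2 : a = b := he'.1 h1
    rw [h2]
  · intro t
    obtain ⟨a, rfl⟩ := he'.2 t
    exact ⟨a • e, by simp only [map_smul, h]⟩

open Groth.Agent.Lib.Helper25.PullTensorIso Groth.Agent.S5096 in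
theorem isIso_mulHom (D E : Mero.Divisor X) : IsIso (mulHom D E) := by
  apply isIso_of_forall_stalk
  intro x
  obtain ⟨U₁, hx₁, f, hf⟩ := D.2 x
  obtain ⟨U₂, hx₂, g, hg⟩ := E.2 x
  let W : X.Opens := U₁ ⊓ U₂
  have hxW : x ∈ W := ⟨hx₁, hx₂⟩
  let fW : (Γ(Mero.kmod X, W))ˣ :=
    Units.map ((Mero.kring X).obj.map (homOfLE (inf_le_left : W ≤ U₁)).op).hom.toMonoidHom f
  let gW : (Γ(Mero.kmod X, W))ˣ :=
    Units.map ((Mero.kring X).obj.map (homOfLE (inf_le_right : W ≤ U₂)).op).hom.toMonoidHom g
  have hfg : ∀ y : W, (D * E).1 y.1 = Mero.germOf (fW * gW) y := by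
    intro y
    have e0 : (D * E).1 y.1 = D.1 y.1 * E.1 y.1 := rfl
    rw [e0, hf ⟨y.1, y.2.1⟩, hg ⟨y.1, y.2.2⟩, Mero.germOf, Mero.germOf, Mero.germOf,
      ← QuotientGroup.mk_mul]
    exact congrArg _ (Units.ext rfl)
  have hgenS := isGen_tmul (isGen_invSection D f hf W inf_le_left)
    (isGen_invSection E g hg W inf_le_right)
  have hgenT := isGen_invSection (D * E) (fW * gW) hfg W le_rfl
  have himg : mulSec D E W (invSection D f hf W inf_le_left) (invSection E g hg W inf_le_right) =
      invSection (D * E) (fW * gW) hfg W le_rfl := by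
    refine Subtype.ext (funext fun y => ?_)
    show ((↑(f⁻¹) : Γ(Mero.kmod X, U₁))).1 ⟨y.1, y.2.1⟩ * ((↑(g⁻¹) : Γ(Mero.kmod X, U₂))).1 ⟨y.1, y.2.2⟩ =
      ((↑((fW * gW)⁻¹) : Γ(Mero.kmod X, W))).1 ⟨y.1, y.2⟩
    rw [mul_inv, Units.val_mul, Mero.kmod_mul_apply]
    rfl
  rw [ConcreteCategory.isIso_iff_bijective]
  refine bijective_of_gen ((DerSch.stalkFunctor X x).map (mulHom D E)).hom _ _ (hgenS x hxW)
    (hgenT x hxW) ?_
  have h1 := DerSch.stalkFunctor_map_germ x (mulHom D E) W hxW
    (SecTwist.tmul (Mero.divMod D) (Mero.divMod E) W (invSection D f hf W inf_le_left)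
      (invSection E g hg W inf_le_right))
  refine h1.trans ?_
  congr 1
  exact (mulHom_tmul D E W _ _).trans himg

/-- Let X be an integral scheme and D, E Cartier divisors on X (global sections of the sheaf of units of
K_X modulo units of O_X, written multiplicatively, so that D · E stands for the sum of the two
divisors). Then there is a morphism of O_X-modules from the tensor product O_X(D) ⊗ O_X(E) to O_X(D
· E) which sends each section t ⊗ t' over an open subset U to the product t · t' computed in the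
sheaf of meromorphic functions K_X, and this morphism is an isomorphism. (The published statement is
for an irreducible normal variety over an algebraically closed field, where a Cartier divisor is a
locally principal Weil divisor and O_X(D) is its sheaf of rational functions φ with div φ + D ≥ 0
locally, a subsheaf of the constant sheaf of rational functions equal to O_U · φ⁻¹ wherever D is the
divisor of φ; this row states it for the fractional ideals O_X(D) ⊆ K_X of Cartier divisors on an
arbitrary integral scheme.) -/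
theorem result (X : Scheme.{u}) [AlgebraicGeometry.IsIntegral X]
    (D E : Mero.Divisor X) :
    ∃ μ : CohB1.tensorMod (Mero.divMod D) (Mero.divMod E) ⟶ Mero.divMod (D * E),
      (∀ (U : X.Opens) (t : Γ(Mero.divMod D, U)) (t' : Γ(Mero.divMod E, U)),
        (Mero.divModι (D * E)).app U (μ.app U (SecTwist.tmul (Mero.divMod D) (Mero.divMod E) U t t')) =
          (Mero.divModι D).app U t * (Mero.divModι E).app U t') ∧
      IsIso μ := by
  refine ⟨mulHom D E, fun U t t' => ?_, isIso_mulHom D E⟩
  have h : (mulHom D E).app U (SecTwist.tmul (Mero.divMod D) (Mero.divMod E) U t t') =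
      mulSec D E U t t' := mulHom_tmul D E U t t'
  rw [h]
  rfl

end Groth.Agent.S19455
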