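import Groth.Statements.S19457
import Mathlib
import Groth.Agent.Lib.Helper18.ZeroSchemeDiv

set_option autoImplicit false
universe u
open CategoryTheory CategoryTheory.Limits AlgebraicGeometry TopologicalSpace Opposite
open PicF2

namespace Groth.Agent.S19457

open Groth.Agent.Lib.Helper18.InvGen Groth.Agent.Lib.Helper18.ZeroSchemeIdeal
  Groth.Agent.Lib.Helper18.ZeroSchemeDiv Groth.Agent.Lib.helper16.FLF

variable {X : Scheme.{u}}

/-- the value of `s'` over any open is the restricted unit times the value of `s` -/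
theorem sv_eq_of_top {L : X.Modules} (s s' : Coh.structureModule X ⟶ L) (h : Γ(X, ⊤))
    (e : sv L s' ⊤ = h • sv L s ⊤) (U : X.Opens) :
    sv L s' U = X.presheaf.map (homOfLE (le_top : U ≤ ⊤)).op h • sv L s U := by
  have h1 := congrArg (L.presheaf.map (homOfLE (le_top : U ≤ ⊤)).op) e
  rw [Scheme.Modules.map_smul, map_sv, map_sv] at h1
  exact h1

theorem zeroIdealOn_le_of_smul {L : X.Modules} (s s' : Coh.structureModule X ⟶ L) (U : X.Opens)
    (c : Γ(X, U)) (e : sv L s U = c • sv L s' U) :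
    (show Ideal Γ(X, U) from PicF2.zeroIdealOn L s U) ≤
      (show Ideal Γ(X, U) from PicF2.zeroIdealOn L s' U) := by
  intro a ha
  rw [mem_zeroIdealOn_iff] at ha ⊢
  intro m
  obtain ⟨b, hb⟩ := ha m
  exact ⟨b * c, by rw [hb, e, mul_smul]⟩

/-- coefficients with respect to a nonzero section of an invertible module on an integral scheme are
unique -/
theorem coeff_unique [IsIntegral X] {L : X.Modules} (hL : PicF.IsInvertible L)
    (s : Coh.structureModule X ⟶ L) (hs : s ≠ 0) (V : X.Opens) (z : X) (hz : z ∈ V)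
    (a b : Γ(X, V)) (hab : a • sv L s V = b • sv L s V) : a = b := by
  obtain ⟨W, ℓ, -, hzW, hWV, hℓ⟩ := exists_isGen hL z V hz
  obtain ⟨g, hg⟩ := exists_coeff hℓ s
  haveI : IsDomain Γ(X, W) := @IsIntegral.component_integral X _ W ⟨⟨z, hzW⟩⟩
  have hg0 : g ≠ 0 := by
    rintro rfl
    rw [zero_smul] at hg
    exact sv_ne_zero hL s hs W ⟨z, hzW⟩ hg.symm
  have h1 := congrArg (L.presheaf.map (homOfLE hWV).op) hab
  rw [Scheme.Modules.map_smul, Scheme.Modules.map_smul, map_sv, ← hg, ← mul_smul, ← mul_smul] at h1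
  have h2 : X.presheaf.map (homOfLE hWV).op a * g = X.presheaf.map (homOfLE hWV).op b * g := by
    apply hℓ.smul_injective le_rfl
    rw [map_refl_apply]
    exact h1
  have h3 := mul_right_cancel₀ hg0 h2
  exact @map_injective_of_isIntegral X _ _ _ (homOfLE hWV) ⟨⟨z, hzW⟩⟩ _ _ h3

/-- Let X be an integral scheme, L an invertible O_X-module and s, s' two nonzero global sections of L,
given as nonzero morphisms O_X → L. Then the zero schemes Z(s') and Z(s) are equal (as
quasi-coherent ideal sheaves of O_X, that is, as effective Cartier divisors) if and only if s' = h ·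
s for some unit h of the ring of global functions Γ(X, O_X). (The published statement is for an
irreducible variety over an algebraically closed field; this row states it for an arbitrary integral
scheme.) -/
theorem result (X : Scheme.{u}) [AlgebraicGeometry.IsIntegral X]
    (L : X.Modules) (hL : PicF.IsInvertible L) (s s' : Coh.structureModule X ⟶ L) (hs : s ≠ 0) (hs' : s' ≠ 0) :
    PicF2.zeroScheme L s' = PicF2.zeroScheme L s ↔
      ∃ h : Γ(X, ⊤), IsUnit h ∧ (SecTwist.val s' ⊤ : Γ(L, ⊤)) = h • (SecTwist.val s ⊤ : Γ(L, ⊤)) := by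
  have hLF : FlatMod.IsFinLocFree L :=
    isFinLocFree_of_isFinLocFreeOfRank ((isInvertible_iff_isFinLocFreeOfRank_one L).1 hL)
  constructor
  · intro hZ
    -- local data
    have hloc : ∀ x : X, ∃ (W : X.Opens) (u : Γ(X, W)), x ∈ W ∧ IsUnit u ∧
        sv L s' W = u • sv L s W := by
      intro x
      obtain ⟨W, ℓ, hW, hxW, -, hℓ⟩ := exists_isGen hL x ⊤ trivial
      obtain ⟨g, hg⟩ := exists_coeff hℓ s
      obtain ⟨g', hg'⟩ := exists_coeff hℓ s'
      haveI : IsDomain Γ(X, W) := @IsIntegral.component_integral X _ W ⟨⟨x, hxW⟩⟩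
      have e1 := zeroScheme_ideal L hLF s ⟨W, hW⟩
      have e2 := zeroScheme_ideal L hLF s' ⟨W, hW⟩
      rw [hZ, e1] at e2
      rw [zeroIdealOn_eq_span s hℓ g hg, zeroIdealOn_eq_span s' hℓ g' hg'] at e2
      obtain ⟨u, hu⟩ := Ideal.span_singleton_eq_span_singleton.1 e2
      refine ⟨W, (u : Γ(X, W)), hxW, u.isUnit, ?_⟩
      rw [← hg, ← hg', ← hu, mul_comm, mul_smul]
    choose W u hxW hu hsu using hloc
    have compat : TopCat.Presheaf.IsCompatible X.sheaf.1 W u := by
      intro i j
      by_cases hne : ((W i ⊓ W j : X.Opens) : Set X).Nonempty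
      · obtain ⟨z, hz⟩ := hne
        apply coeff_unique hL s hs (W i ⊓ W j) z hz
        have h1 := congrArg (L.presheaf.map (homOfLE (inf_le_left : W i ⊓ W j ≤ W i)).op) (hsu i)
        have h2 := congrArg (L.presheaf.map (homOfLE (inf_le_right : W i ⊓ W j ≤ W j)).op) (hsu j)
        rw [Scheme.Modules.map_smul, map_sv, map_sv] at h1 h2
        exact h1.symm.trans h2
      · apply TopCat.Presheaf.section_ext X.sheaf (W i ⊓ W j)
        intro y hy
        exact absurd ⟨y, hy⟩ hne
    have hcov : (⊤ : X.Opens) ≤ iSup W := fun x _ => Opens.mem_iSup.mpr ⟨x, hxW x⟩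
    obtain ⟨h, hh, -⟩ : ∃! h : Γ(X, ⊤), ∀ i, X.presheaf.map (homOfLE (le_top : W i ≤ ⊤)).op h = u i :=
      X.sheaf.existsUnique_gluing' W ⊤ (fun i => homOfLE le_top) hcov u compat
    refine ⟨h, ?_, ?_⟩
    · apply RingedSpace.isUnit_of_isUnit_germ X.toRingedSpace ⊤ h
      intro x hx
      have e : X.presheaf.germ ⊤ x hx h = X.presheaf.germ (W x) x (hxW x) (u x) := by
        rw [← hh x]
        exact (TopCat.Presheaf.germ_res_apply X.presheaf (homOfLE (le_top : W x ≤ ⊤)) x (hxW x) h).symm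
      rw [e]
      exact (hu x).map _
    · apply TopCat.Sheaf.eq_of_locally_eq' ⟨L.presheaf, L.isSheaf⟩ W ⊤ (fun i => homOfLE le_top) hcov
      intro i
      show L.presheaf.map (homOfLE (le_top : W i ≤ ⊤)).op (sv L s' ⊤) =
        L.presheaf.map (homOfLE (le_top : W i ≤ ⊤)).op (h • sv L s ⊤)
      rw [Scheme.Modules.map_smul, map_sv, map_sv, hsu i]
      congr 1
      exact (hh i).symm
  · rintro ⟨h, hh, e⟩
    obtain ⟨v, rfl⟩ := hh
    have e' : sv L s ⊤ = (↑v⁻¹ : Γ(X, ⊤)) • sv L s' ⊤ := by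
      rw [show sv L s' ⊤ = (v : Γ(X, ⊤)) • sv L s ⊤ from e, smul_smul, Units.inv_mul, one_smul]
    unfold PicF2.zeroScheme
    congr 1
    funext U
    apply le_antisymm
    · exact zeroIdealOn_le_of_smul s' s U.1 _ (sv_eq_of_top s s' _ e U.1)
    · exact zeroIdealOn_le_of_smul s s' U.1 _ (sv_eq_of_top s' s _ e' U.1)

end Groth.Agent.S19457
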