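import Groth.Statements.S5087
import Mathlib
import Groth.Agent.Lib.Helper18.MeroDivSec
import Groth.Agent.Lib.Helper18.MeroTwistExt
import Groth.Agent.Lib.Helper26.KSections
import Groth.Agent.Lib.Helper17.FlatOver7

set_option autoImplicit false
universe u
open CategoryTheory CategoryTheory.Limits AlgebraicGeometry TopologicalSpace
open Mero

namespace Groth.Agent.S5087

open Groth.Agent.Lib.Helper18.InvGen Groth.Agent.Lib.Helper18.MeroTwistExt
  Groth.Agent.Lib.helper26 Groth.Agent.Lib.helper17.FlatOver7 Opposite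

variable {X : Scheme.{u}}

/-- transport of a stalkwise generator along an isomorphism -/
theorem isGen_of_iso {L M : X.Modules} (e : L ≅ M) {W : X.Opens} {ℓ : Γ(M, W)}
    (hℓ : IsGen M W ℓ) : IsGen L W ((e.inv.app W).hom ℓ) := by
  intro x hx
  have h1 : (fun a : X.presheaf.stalk x =>
      a • (L.presheaf.germ W x hx ((e.inv.app W).hom ℓ) : L.presheaf.stalk x)) =
      (stalkLinEquiv e x).symm ∘ (fun a : X.presheaf.stalk x =>
        a • (M.presheaf.germ W x hx ℓ : M.presheaf.stalk x)) := by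
    funext a
    have h2 : (stalkLinEquiv e x).symm (M.presheaf.germ W x hx ℓ) =
        L.presheaf.germ W x hx ((e.inv.app W).hom ℓ) := stalkAdd_germ e.inv x W hx ℓ
    rw [Function.comp_apply, map_smul, h2]
  rw [h1]
  exact (stalkLinEquiv e x).symm.bijective.comp (hℓ x hx)

/-- the section `1` of `O_X(D)` over an open where `D` is trivial -/
noncomputable def oneSec (D : Mero.Divisor X) (V : X.Opens) (hV : ∀ z : X, z ∈ V → D.1 z = 1) :
    Γ(Mero.divMod D, V) :=
  ⟨fun _ => 1, ⟨Mero.kLoc_one X V, fun z g hg => by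
    rw [hV z.1 z.2] at hg
    have hmem : g ∈ Mero.stalkUnits X z.1 := by
      have := QuotientGroup.eq.mp hg
      simpa using this
    obtain ⟨r, hr⟩ := hmem
    refine ⟨(r : X.presheaf.stalk z.1), ?_⟩
    have := congrArg (fun w : (Mero.KStalk X z.1)ˣ => (w : Mero.KStalk X z.1)) hr
    simpa using this⟩⟩

theorem oneSec_smul_apply (D : Mero.Divisor X) {V V₁ : X.Opens} (hV : ∀ z : X, z ∈ V → D.1 z = 1)
    (h₁ : V₁ ≤ V) (r : Γ(X, V₁)) (z : V₁) :
    (r • (Mero.divMod D).presheaf.map (homOfLE h₁).op (oneSec D V hV)).1 z =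
      algebraMap (X.presheaf.stalk z.1) (Mero.KStalk X z.1) (X.presheaf.germ V₁ z.1 z.2 r) := by
  show X.presheaf.germ V₁ z.1 z.2 r • (1 : Mero.KStalk X z.1) = _
  rw [Algebra.smul_def, mul_one]

theorem isGen_oneSec (D : Mero.Divisor X) (V : X.Opens) (hV : ∀ z : X, z ∈ V → D.1 z = 1) :
    IsGen (Mero.divMod D) V (oneSec D V hV) := by
  intro y hy
  constructor
  · -- injectivity
    intro a b hab
    have h0 : (a - b) • ((Mero.divMod D).presheaf.germ V y hy (oneSec D V hV) :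
        (Mero.divMod D).presheaf.stalk y) = 0 := by
      rw [sub_smul]
      exact sub_eq_zero.mpr hab
    obtain ⟨V₀, hyV₀, r₀, hr₀⟩ := X.presheaf.exists_germ_eq (a - b)
    let V₁ : X.Opens := V₀ ⊓ V
    have hyV₁ : y ∈ V₁ := ⟨hyV₀, hy⟩
    have h₁ : V₁ ≤ V := inf_le_right
    let r : Γ(X, V₁) := X.presheaf.map (homOfLE (inf_le_left : V₁ ≤ V₀)).op r₀
    have hr : X.presheaf.germ V₁ y hyV₁ r = a - b := by
      rw [← hr₀]
      exact TopCat.Presheaf.germ_res_apply X.presheaf (homOfLE (inf_le_left : V₁ ≤ V₀)) y hyV₁ r₀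
    have h1 : (Mero.divMod D).presheaf.germ V₁ y hyV₁
        (r • (Mero.divMod D).presheaf.map (homOfLE h₁).op (oneSec D V hV)) =
        (Mero.divMod D).presheaf.germ V₁ y hyV₁ 0 := by
      rw [germ_smul_res, hr, h0, map_zero]
    obtain ⟨V₂, hyV₂, i₁, i₂, h2⟩ :=
      TopCat.Presheaf.germ_eq (Mero.divMod D).presheaf y hyV₁ hyV₁ _ _ h1
    have h3 := congrArg (fun t : Γ(Mero.divMod D, V₂) => t.1 ⟨y, hyV₂⟩) h2
    have h4 : algebraMap (X.presheaf.stalk y) (Mero.KStalk X y) (X.presheaf.germ V₁ y hyV₁ r) = 0 := by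
      rw [← oneSec_smul_apply D hV h₁ r ⟨y, hyV₁⟩]
      exact h3.trans (by rw [map_zero]; rfl)
    have h5 := (map_eq_zero_iff _ (Mero.algebraMap_KStalk_injective y)).mp h4
    rw [hr] at h5
    exact sub_eq_zero.mp h5
  · -- surjectivity
    intro m
    obtain ⟨V₀, hyV₀, t₀, ht₀⟩ := (Mero.divMod D).presheaf.exists_germ_eq m
    let V₁ : X.Opens := V₀ ⊓ V
    have hyV₁ : y ∈ V₁ := ⟨hyV₀, hy⟩
    have h₁ : V₁ ≤ V := inf_le_right
    let t : Γ(Mero.divMod D, V₁) :=
      (Mero.divMod D).presheaf.map (homOfLE (inf_le_left : V₁ ≤ V₀)).op t₀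
    have ht : (Mero.divMod D).presheaf.germ V₁ y hyV₁ t = m := by
      rw [← ht₀]
      exact TopCat.Presheaf.germ_res_apply (Mero.divMod D).presheaf
        (homOfLE (inf_le_left : V₁ ≤ V₀)) y hyV₁ t₀
    let k : Γ(Mero.kmod X, V₁) := ⟨t.1, t.2.1⟩
    have hk : ∀ z : V₁, k.1 z ∈ (algebraMap (X.presheaf.stalk z.1) (Mero.KStalk X z.1)).range := by
      intro z
      have := t.2.2 z 1 (by rw [hV z.1 (h₁ z.2), QuotientGroup.mk_one])
      simpa using this
    obtain ⟨r, hr⟩ := exists_section_of_forall_mem_range V₁ k hk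
    refine ⟨X.presheaf.germ V₁ y hyV₁ r, ?_⟩
    show X.presheaf.germ V₁ y hyV₁ r • (Mero.divMod D).presheaf.germ V y hy (oneSec D V hV) = m
    rw [← ht, ← germ_smul_res (Mero.divMod D) (oneSec D V hV) h₁ r y hyV₁]
    congr 1
    refine Subtype.ext (funext fun z => ?_)
    rw [oneSec_smul_apply]
    exact (hr z).symm

/-- near every point, a divisor is trivial on the basic open of a regular section -/
theorem exists_regular_trivial (D : Mero.Divisor X) (x : X) (W : X.Opens) (hx : x ∈ W) :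
    ∃ (V : X.Opens) (_ : IsAffineOpen V) (_ : x ∈ V) (_ : V ≤ W) (h : Γ(X, V)),
      h ∈ Mero.regSub X V ∧ ∀ z : X, z ∈ X.basicOpen h → D.1 z = 1 := by
  obtain ⟨U, hxU, f, hf⟩ := D.2 x
  obtain ⟨V₀, hxV₀, i, a, b, w⟩ := (f : Γ(Mero.kmod X, U)).2 ⟨x, hxU⟩
  obtain ⟨V₀', hxV₀', i', a', b', w'⟩ := ((f⁻¹ : (Γ(Mero.kmod X, U))ˣ) : Γ(Mero.kmod X, U)).2 ⟨x, hxU⟩
  obtain ⟨V, hV, hxV, hVle⟩ := exists_isAffineOpen_mem_and_subset (x := x) (U := V₀ ⊓ V₀' ⊓ W)
    ⟨⟨hxV₀, hxV₀'⟩, hx⟩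
  have hVV₀ : V ≤ V₀ := fun z hz => (hVle hz).1.1
  have hVV₀' : V ≤ V₀' := fun z hz => (hVle hz).1.2
  have hVW : V ≤ W := fun z hz => (hVle hz).2
  have hVU : V ≤ U := hVV₀.trans i.le
  -- values
  have wz : ∀ (z : X) (hz : z ∈ V), (f : Γ(Mero.kmod X, U)).1 ⟨z, hVU hz⟩ =
      LocalizedModule.mk (X.presheaf.germ V₀ z (hVV₀ hz) a) (Mero.regGerm ⟨z, hVV₀ hz⟩ b) :=
    fun z hz => w ⟨z, hVV₀ hz⟩
  have wz' : ∀ (z : X) (hz : z ∈ V), ((f⁻¹ : (Γ(Mero.kmod X, U))ˣ) : Γ(Mero.kmod X, U)).1 ⟨z, hVU hz⟩ =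
      LocalizedModule.mk (X.presheaf.germ V₀' z (hVV₀' hz) a') (Mero.regGerm ⟨z, hVV₀' hz⟩ b') :=
    fun z hz => w' ⟨z, hVV₀' hz⟩
  have hmul : ∀ (z : X) (hz : z ∈ V),
      X.presheaf.germ V₀ z (hVV₀ hz) a * X.presheaf.germ V₀' z (hVV₀' hz) a' =
        X.presheaf.germ V₀ z (hVV₀ hz) b.1 * X.presheaf.germ V₀' z (hVV₀' hz) b'.1 := by
    intro z hz
    have h1 : (f : Γ(Mero.kmod X, U)).1 ⟨z, hVU hz⟩ *
        ((f⁻¹ : (Γ(Mero.kmod X, U))ˣ) : Γ(Mero.kmod X, U)).1 ⟨z, hVU hz⟩ = 1 := by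
      rw [← Mero.kmod_mul_apply, Units.mul_inv]
      rfl
    rw [wz z hz, wz' z hz] at h1
    have h2 : (LocalizedModule.mk
        (X.presheaf.germ V₀ z (hVV₀ hz) a * X.presheaf.germ V₀' z (hVV₀' hz) a')
        (Mero.regGerm ⟨z, hVV₀ hz⟩ b * Mero.regGerm ⟨z, hVV₀' hz⟩ b') : Mero.KStalk X z) =
        LocalizedModule.mk 1 1 := by
      refine LocalizedModule.mk_mul_mk.symm.trans (h1.trans ?_)
      exact (Mero.mk_self_eq_one (1 : Mero.regStalk X z)).symm
    rw [kstalk_mk_eq_mk_iff] at h2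
    simpa using h2
  have hareg : ∀ (z : X) (hz : z ∈ V),
      X.presheaf.germ V₀ z (hVV₀ hz) a ∈ nonZeroDivisors (X.presheaf.stalk z) := by
    intro z hz
    have h1 : X.presheaf.germ V₀ z (hVV₀ hz) a * X.presheaf.germ V₀' z (hVV₀' hz) a' ∈
        nonZeroDivisors (X.presheaf.stalk z) := by
      rw [hmul z hz]
      exact Submonoid.mul_mem _ (b.2 ⟨z, hVV₀ hz⟩) (b'.2 ⟨z, hVV₀' hz⟩)
    exact (mul_mem_nonZeroDivisors.mp h1).1
  let h : Γ(X, V) := X.presheaf.map (homOfLE hVV₀).op (a * b.1)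
  have hgerm : ∀ (z : X) (hz : z ∈ V), X.presheaf.germ V z hz h =
      X.presheaf.germ V₀ z (hVV₀ hz) a * X.presheaf.germ V₀ z (hVV₀ hz) b.1 := by
    intro z hz
    exact (TopCat.Presheaf.germ_res_apply X.presheaf (homOfLE hVV₀) z hz (a * b.1)).trans
      (map_mul _ a b.1)
  refine ⟨V, hV, hxV, hVW, h, fun z => ?_, fun z hz => ?_⟩
  · show X.presheaf.germ V z.1 z.2 h ∈ _
    rw [hgerm z.1 z.2]
    exact Submonoid.mul_mem _ (hareg z.1 z.2) (b.2 ⟨z.1, hVV₀ z.2⟩)
  · have hzV : z ∈ V := X.basicOpen_le h hz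
    have hu := (X.mem_basicOpen h z hzV).mp hz
    rw [hgerm z hzV] at hu
    have hua : IsUnit (X.presheaf.germ V₀ z (hVV₀ hzV) a) := isUnit_of_mul_isUnit_left hu
    have hub : IsUnit (X.presheaf.germ V₀ z (hVV₀ hzV) b.1) := isUnit_of_mul_isUnit_right hu
    obtain ⟨ua, hua'⟩ := hua
    obtain ⟨ub, hub'⟩ := hub
    rw [hf ⟨z, hVU hzV⟩, Mero.germOf, QuotientGroup.eq_one_iff]
    refine ⟨ua * ub⁻¹, Units.ext ?_⟩
    show algebraMap (X.presheaf.stalk z) (Mero.KStalk X z) ((ua * ub⁻¹ : (X.presheaf.stalk z)ˣ) :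
      X.presheaf.stalk z) = (f : Γ(Mero.kmod X, U)).1 ⟨z, hVU hzV⟩
    rw [wz z hzV, kstalk_algebraMap_eq_mk, kstalk_mk_eq_mk_iff]
    show X.presheaf.germ V₀ z (hVV₀ hzV) b.1 * ((ua * ub⁻¹ : (X.presheaf.stalk z)ˣ) :
      X.presheaf.stalk z) = ((1 : Mero.regStalk X z) : X.presheaf.stalk z) *
        X.presheaf.germ V₀ z (hVV₀ hzV) a
    rw [← hub', ← hua', Units.val_mul, OneMemClass.coe_one, one_mul, mul_comm (ua : X.presheaf.stalk z),
      ← mul_assoc, Units.mul_inv, one_mul]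

/-- the open where `D` is trivial -/
noncomputable def trivOpen (D : Mero.Divisor X) : X.Opens :=
  ⨆ V : {V : X.Opens // ∀ z : X, z ∈ V → D.1 z = 1}, V.1

theorem trivOpen_spec (D : Mero.Divisor X) (z : X) (hz : z ∈ trivOpen D) : D.1 z = 1 := by
  obtain ⟨V, hzV⟩ := Opens.mem_iSup.mp hz
  exact V.2 z hzV

theorem le_trivOpen (D : Mero.Divisor X) (V : X.Opens) (hV : ∀ z : X, z ∈ V → D.1 z = 1) :
    V ≤ trivOpen D :=
  le_iSup (fun V : {V : X.Opens // ∀ z : X, z ∈ V → D.1 z = 1} => V.1) ⟨V, hV⟩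

theorem dense_trivOpen (D : Mero.Divisor X) (W : X.Opens) :
    Function.Injective ⇑(X.presheaf.map (homOfLE (inf_le_left : W ⊓ trivOpen D ≤ W)).op) := by
  rw [injective_iff_map_eq_zero]
  intro c hc
  refine TopCat.Presheaf.section_ext X.sheaf W c 0 (fun x hx => ?_)
  obtain ⟨V, hV, hxV, hVW, h, hreg, htriv⟩ := exists_regular_trivial D x W hx
  have hbo : X.basicOpen h ≤ W ⊓ trivOpen D :=
    le_inf ((X.basicOpen_le h).trans hVW) (le_trivOpen D _ htriv)
  have H : (X.presheaf.map (homOfLE hVW).op c) |_ (X.basicOpen h) = 0 := by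
    have h1 := congrArg (X.presheaf.map (homOfLE hbo).op) hc
    rw [map_zero, map_map'] at h1
    show X.presheaf.map (homOfLE (X.basicOpen_le h)).op (X.presheaf.map (homOfLE hVW).op c) = 0
    rw [map_map']
    exact h1
  obtain ⟨n, hn⟩ := exists_pow_mul_eq_zero_of_res_basicOpen_eq_zero_of_isAffineOpen X hV _ h H
  have h2 := congrArg (X.presheaf.germ V x hxV) hn
  rw [map_mul, map_zero, map_pow] at h2
  have h3 : X.presheaf.germ V x hxV h ^ n ∈ nonZeroDivisors (X.presheaf.stalk x) :=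
    pow_mem (hreg ⟨x, hxV⟩) n
  have h4 := (mul_left_mem_nonZeroDivisors_eq_zero_iff h3).mp h2
  exact ((TopCat.Presheaf.germ_res_apply X.presheaf (homOfLE hVW) x hxV c).symm.trans h4).trans
    (map_zero _).symm

open Groth.Agent.Lib.Helper18 in

/-- For a locally Noetherian scheme X (so that at every point the germs of regular functions are all the
non-zero-divisors of the local ring, and a regular meromorphic section of an invertible module is
locally a unit of K_X times a generator): an invertible O_X-module L is isomorphic to O_X(D) for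
some divisor D on X if and only if L has a regular meromorphic section. (The published statement is
for an arbitrary scheme, with regular meromorphic sections defined through local trivialisations;
this row assumes X locally Noetherian, where that notion agrees with the stalkwise one used here.) -/
theorem result (X : Scheme.{u}) [IsLocallyNoetherian X] (L : X.Modules)
    (hL : PicF.IsInvertible L) :
    (∃ D : Mero.Divisor X, Nonempty (L ≅ Mero.divMod D)) ↔ Mero.HasRegularMero L := by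
  constructor
  · rintro ⟨D, ⟨e⟩⟩
    exact hasRegularMero_of_generator (Or.inl inferInstance) hL (trivOpen D) (dense_trivOpen D)
      ((e.inv.app (trivOpen D)).hom (oneSec D (trivOpen D) (trivOpen_spec D)))
      (isGen_of_iso e (isGen_oneSec D (trivOpen D) (trivOpen_spec D)))
  · exact fun h => MeroDivSec.exists_iso_divMod hL h

end Groth.Agent.S5087
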