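import Groth.Statements.S19458
import Mathlib
import Groth.Agent.Lib.Helper18.ZeroSchemeDiv
import Groth.Agent.Lib.Helper7.LocalLift
import Groth.Agent.Lib.Helper2.ModSec
import Groth.Agent.S5087
import Groth.Agent.S5096

set_option autoImplicit false
universe u
open CategoryTheory CategoryTheory.Limits AlgebraicGeometry TopologicalSpace Opposite
open Mero

namespace Groth.Agent.S19458

open Groth.Agent.Lib.Helper18.InvGen Groth.Agent.Lib.Helper18.MeroTwist
  Groth.Agent.Lib.Helper18.ZeroSchemeIdeal Groth.Agent.Lib.Helper18.ZeroSchemeDiv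
  Groth.Agent.Lib.Helper18.MeroDivSec Groth.Agent.Lib.helper26 Groth.Agent.Lib.helper7

variable {X : Scheme.{u}}

/-- the morphism `O_X ⟶ L` attached to a global section -/
noncomputable def homOfTop (L : X.Modules) (t : Γ(L, ⊤)) : Coh.structureModule X ⟶ L :=
  (SheafOfModules.unitHomEquiv (R := X.ringCatSheaf) L).symm (LocalLift.secOfTop L t)

theorem sv_homOfTop (L : X.Modules) (t : Γ(L, ⊤)) (U : X.Opens) :
    sv L (homOfTop L t) U = L.presheaf.map (homOfLE (le_top : U ≤ ⊤)).op t := by
  show (1 : Γ(X, U)) • L.presheaf.map (homOfLE (le_top : U ≤ ⊤)).op t = _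
  rw [one_smul]

/-- a representative of an effective germ lies in the local ring -/
theorem mem_range_of_mk_eq {z : X} (a : regStalk X z) (g : (KStalk X z)ˣ)
    (h : (QuotientGroup.mk g : Mero.Germ X z) =
      QuotientGroup.mk (IsLocalization.map_units (KStalk X z) a).unit) :
    (g : KStalk X z) ∈ (algebraMap (X.presheaf.stalk z) (KStalk X z)).range := by
  have hmem : g⁻¹ * (IsLocalization.map_units (KStalk X z) a).unit ∈ Mero.stalkUnits X z :=
    QuotientGroup.eq.mp h
  obtain ⟨r, hr⟩ := hmem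
  refine ⟨(a : X.presheaf.stalk z) * ((r⁻¹ : (X.presheaf.stalk z)ˣ) : X.presheaf.stalk z), ?_⟩
  have h1 := congrArg (fun w : (KStalk X z)ˣ => (w : KStalk X z)) hr
  simp only [Units.val_mul] at h1
  have h2 : algebraMap (X.presheaf.stalk z) (KStalk X z) (r : X.presheaf.stalk z) =
      ((g⁻¹ : (KStalk X z)ˣ) : KStalk X z) * algebraMap (X.presheaf.stalk z) (KStalk X z) a := h1
  have h3 : (g : KStalk X z) * algebraMap (X.presheaf.stalk z) (KStalk X z) (r : X.presheaf.stalk z) =
      algebraMap (X.presheaf.stalk z) (KStalk X z) a := by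
    rw [h2, ← mul_assoc, Units.mul_inv, one_mul]
  rw [map_mul, ← h3, mul_assoc, ← map_mul, Units.mul_inv, map_one, mul_one]

/-- the section `1` of `O_X(D)` for an effective divisor -/
noncomputable def oneTop (D : Mero.Divisor X) (hD : Mero.IsEffective D) : Γ(Mero.divMod D, ⊤) :=
  ⟨fun _ => 1, ⟨Mero.kLoc_one X ⊤, fun z g hg => by
    obtain ⟨a, ha⟩ := hD z.1
    rw [one_mul]
    exact mem_range_of_mk_eq a g (hg.symm.trans ha)⟩⟩

/-- Let X be an integral scheme, L an invertible O_X-module and D an effective Cartier divisor on X (a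
global section of the sheaf of units of K_X modulo units of O_X whose germ at every point is the
class of a germ of a regular function) such that O_X(D) is isomorphic to L. Then there is a nonzero
global section s of L, given as a nonzero morphism O_X → L, whose zero scheme Z(s) is D: around
every point of X, on some affine open neighbourhood, the ideal of Z(s) is generated by a regular
function whose classes are the germs of D there. (The published statement is for an irreducible
variety over an algebraically closed field; this row states it for an arbitrary integral scheme.) -/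
theorem result (X : Scheme.{u}) [AlgebraicGeometry.IsIntegral X]
    (L : X.Modules) (hL : PicF.IsInvertible L) (D : Mero.Divisor X) (hD : Mero.IsEffective D)
    (e : L ≅ Mero.divMod D) :
    ∃ s : Coh.structureModule X ⟶ L, s ≠ 0 ∧ Mero.IsDivOfIdeal D (PicF2.zeroScheme L s) := by
  let t : Γ(L, ⊤) := (e.inv.app ⊤).hom (oneTop D hD)
  have het : (e.hom.app ⊤).hom t = oneTop D hD := by
    show (e.inv.app ⊤ ≫ e.hom.app ⊤).hom (oneTop D hD) = _
    rw [← Scheme.Modules.Hom.comp_app, e.inv_hom_id]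
    rfl
  let s := homOfTop L t
  have hsv : ∀ U : X.Opens, sv L s U = L.presheaf.map (homOfLE (le_top : U ≤ ⊤)).op t :=
    sv_homOfTop L t
  -- e carries s to 1
  have hes : ∀ (U : X.Opens) (z : U), ((e.hom.app U).hom (sv L s U)).1 z = 1 := by
    intro U z
    rw [hsv U]
    have h1 := Groth.Agent.Lib.helper2.ModSec.map_app_apply e.hom (homOfLE (le_top : U ≤ ⊤)) t
    have h2 : (e.hom.app U).hom (L.presheaf.map (homOfLE (le_top : U ≤ ⊤)).op t) =
        (Mero.divMod D).presheaf.map (homOfLE (le_top : U ≤ ⊤)).op ((e.hom.app ⊤).hom t) := h1.symm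
    rw [h2, het]
    rfl
  have hs : s ≠ 0 := by
    intro h0
    obtain ⟨x⟩ : Nonempty X := inferInstance
    have h1 := hes ⊤ ⟨x, trivial⟩
    have h2 : sv L s ⊤ = 0 := by
      rw [h0]
      rfl
    rw [h2, map_zero] at h1
    exact zero_ne_one h1
  refine ⟨s, hs, ?_⟩
  have hσ := isRegularMero_meroOf hL s hs
  have hDD : D = divOf hL (meroOf L s) hσ := by
    refine Subtype.ext (funext fun y => ?_)
    obtain ⟨U₀, hyU₀, f, hf⟩ := D.2 y
    obtain ⟨W, ℓ, hW, hyW, hWU₀, hℓ⟩ := exists_isGen hL y U₀ hyU₀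
    obtain ⟨h', hh'⟩ := exists_coeff hℓ s
    have hne : h' ≠ 0 := by
      intro h0
      apply sv_ne_zero hL s hs W ⟨y, hyW⟩
      rw [← hh', h0, zero_smul]
    have hreg := mem_regSub_of_ne_zero h' hne
    rw [divOf_apply hL (meroOf L s) hσ (chartOf s hℓ h' hh' hreg) y hyW, hf ⟨y, hyU₀⟩]
    -- the generator of O(D) on W coming from ℓ
    let k : Γ(Mero.divMod D, W) := (e.hom.app W).hom ℓ
    have hk : IsGen (Mero.divMod D) W k := Groth.Agent.S5087.isGen_of_iso e.symm hℓ
    -- (i)
    have h1 : algebraMap (X.presheaf.stalk y) (KStalk X y) (X.presheaf.germ W y hyW h') *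
        k.1 ⟨y, hyW⟩ = 1 := by
      have := hes W ⟨y, hyW⟩
      rw [← hh', Scheme.Modules.Hom.app_smul] at this
      rw [← this]
      show _ = X.presheaf.germ W y hyW h' • k.1 ⟨y, hyW⟩
      rw [Algebra.smul_def]
    -- (ii)
    obtain ⟨g, hg⟩ := hk.exists_smul_eq le_rfl (Groth.Agent.S5096.invSection D f hf W hWU₀)
    rw [map_refl_apply] at hg
    have h2 : algebraMap (X.presheaf.stalk y) (KStalk X y) (X.presheaf.germ W y hyW g) *
        k.1 ⟨y, hyW⟩ = ((Groth.Agent.S5096.valU f ⟨y, hyU₀⟩)⁻¹ : (KStalk X y)ˣ) := by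
      have := congrArg (fun t : Γ(Mero.divMod D, W) => t.1 ⟨y, hyW⟩) hg
      rw [← Groth.Agent.S5096.valU_inv_coe]
      refine Eq.trans ?_ this
      show _ = X.presheaf.germ W y hyW g • k.1 ⟨y, hyW⟩
      rw [Algebra.smul_def]
    -- (iii)
    obtain ⟨c, hc⟩ := k.2.2 ⟨y, hyW⟩ (Groth.Agent.S5096.valU f ⟨y, hyU₀⟩) (hf ⟨y, hyU₀⟩)
    have hc' : algebraMap (X.presheaf.stalk y) (KStalk X y) c =
        k.1 ⟨y, hyW⟩ * ((Groth.Agent.S5096.valU f ⟨y, hyU₀⟩ : (KStalk X y)ˣ) : KStalk X y) := hc
    have hgc : X.presheaf.germ W y hyW g * c = 1 := by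
      apply Mero.algebraMap_KStalk_injective y
      rw [map_mul, hc', ← mul_assoc, h2, Units.inv_mul, map_one]
    rw [Mero.germOf, Mero.germOf, QuotientGroup.eq]
    refine ⟨Units.mkOfMulEqOne _ _ hgc, Units.ext ?_⟩
    show algebraMap (X.presheaf.stalk y) (KStalk X y) (X.presheaf.germ W y hyW g) =
      ((Groth.Agent.S5096.valU f ⟨y, hyU₀⟩)⁻¹ : (KStalk X y)ˣ) *
        ((chartOf s hℓ h' hh' hreg).u : Γ(Mero.kmod X, (chartOf s hℓ h' hh' hreg).W)).1 ⟨y, hyW⟩
    have e1 : ((chartOf s hℓ h' hh' hreg).u : Γ(Mero.kmod X, (chartOf s hℓ h' hh' hreg).W)) =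
        Mero.toK X W h' := IsUnit.unit_spec _
    rw [e1, Mero.toK_apply, ← kstalk_algebraMap_eq_mk, ← h2, mul_assoc,
      mul_comm (k.1 ⟨y, hyW⟩), h1, mul_one]
  rw [hDD]
  exact isDivOfIdeal_divOf hL s hs

end Groth.Agent.S19458
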