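import Groth.Statements.S19459
import Mathlib
import Groth.Agent.Lib.Helper18.ZeroSchemeDiv
import Groth.Agent.Lib.Helper18.TensorGen
import Groth.Agent.Lib.Helper12.TensorInv
import Groth.Agent.Lib.Helper11.TensorEpi

set_option autoImplicit false
universe u
open CategoryTheory CategoryTheory.Limits AlgebraicGeometry TopologicalSpace Opposite
open Mero

namespace Groth.Agent.S19459

open Groth.Agent.Lib.Helper18.InvGen Groth.Agent.Lib.Helper18.ZeroSchemeIdeal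
  Groth.Agent.Lib.Helper18.ZeroSchemeDiv Groth.Agent.Lib.Helper18.TensorGen
  Groth.Agent.Lib.helper16.FLF TensorProduct

variable {X : Scheme.{u}}

/-- the class of the germ of a regular section -/
noncomputable abbrev cls {W : X.Opens} (h : Γ(X, W)) (hreg : h ∈ regSub X W) (y : W) : Mero.Germ X y.1 :=
  QuotientGroup.mk (IsLocalization.map_units (KStalk X y.1) (regGerm y ⟨h, hreg⟩)).unit

theorem cls_mul {W : X.Opens} (h₁ h₂ : Γ(X, W)) (hr₁ : h₁ ∈ regSub X W) (hr₂ : h₂ ∈ regSub X W)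
    (y : W) : cls (h₁ * h₂) (Submonoid.mul_mem _ hr₁ hr₂) y = cls h₁ hr₁ y * cls h₂ hr₂ y := by
  unfold cls
  rw [← QuotientGroup.mk_mul]
  congr 1
  refine Units.ext ?_
  show algebraMap _ (KStalk X y.1) (X.presheaf.germ W y.1 y.2 (h₁ * h₂)) =
    algebraMap _ (KStalk X y.1) (X.presheaf.germ W y.1 y.2 h₁) *
      algebraMap _ (KStalk X y.1) (X.presheaf.germ W y.1 y.2 h₂)
  rw [map_mul, map_mul]

/-- the class only depends on the germ up to a unit -/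
theorem cls_eq_of_germ_eq {U W : X.Opens} (f : Γ(X, U)) (hf : f ∈ regSub X U) (h : Γ(X, W))
    (hr : h ∈ regSub X W) (y : X) (hyU : y ∈ U) (hyW : y ∈ W) (u : (X.presheaf.stalk y)ˣ)
    (hu : X.presheaf.germ W y hyW h = X.presheaf.germ U y hyU f * u) :
    cls f hf ⟨y, hyU⟩ = cls h hr ⟨y, hyW⟩ := by
  unfold cls
  rw [QuotientGroup.eq]
  refine ⟨u, Units.ext ?_⟩
  show algebraMap _ (KStalk X y) (u : X.presheaf.stalk y) =
    ((IsLocalization.map_units (KStalk X y) (regGerm ⟨y, hyU⟩ ⟨f, hf⟩)).unit⁻¹ : (KStalk X y)ˣ) *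
      algebraMap _ (KStalk X y) (X.presheaf.germ W y hyW h)
  rw [hu, map_mul, ← mul_assoc]
  have : (((IsLocalization.map_units (KStalk X y) (regGerm ⟨y, hyU⟩ ⟨f, hf⟩)).unit⁻¹ :
      (KStalk X y)ˣ) : KStalk X y) * algebraMap _ (KStalk X y) (X.presheaf.germ U y hyU f) = 1 :=
    (IsLocalization.map_units (KStalk X y) (regGerm ⟨y, hyU⟩ ⟨f, hf⟩)).val_inv_mul
  rw [this, one_mul]

/-- if `D` is the divisor of the zero scheme of `s`, then near any point its germs are the classes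
of the coefficient of `s` with respect to any generator over a small affine open -/
theorem germ_eq_of_isDivOfIdeal [IsIntegral X] {L : X.Modules} (hL : PicF.IsInvertible L)
    (s : Coh.structureModule X ⟶ L) (D : Mero.Divisor X)
    (hD : Mero.IsDivOfIdeal D (PicF2.zeroScheme L s)) (x : X) :
    ∃ U₀ : X.Opens, x ∈ U₀ ∧ ∀ (W : X.Opens) (_ : IsAffineOpen W) (_ : W ≤ U₀) (ℓ : Γ(L, W))
      (_ : IsGen L W ℓ) (h : Γ(X, W)) (_ : h • ℓ = sv L s W) (hreg : h ∈ regSub X W) (y : W),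
      D.1 y.1 = cls h hreg y := by
  have hLF : FlatMod.IsFinLocFree L :=
    isFinLocFree_of_isFinLocFreeOfRank ((isInvertible_iff_isFinLocFreeOfRank_one L).1 hL)
  obtain ⟨U, hxU, f, hf, hI, hDf⟩ := hD x
  refine ⟨U.1, hxU, fun W hW hWU ℓ hℓ h hh hreg y => ?_⟩
  haveI : IsDomain Γ(X, W) := @IsIntegral.component_integral X _ W ⟨y⟩
  -- the ideal over W in two ways
  have h1 : (PicF2.zeroScheme L s).ideal ⟨W, hW⟩ = Ideal.span {h} := by
    rw [zeroScheme_ideal L hLF s ⟨W, hW⟩]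
    exact zeroIdealOn_eq_span s hℓ h hh
  have h2 : (PicF2.zeroScheme L s).ideal ⟨W, hW⟩ =
      Ideal.span {X.presheaf.map (homOfLE hWU).op f} := by
    rw [← (PicF2.zeroScheme L s).map_ideal (U := ⟨W, hW⟩) (V := U) hWU, hI, Ideal.map_span,
      Set.image_singleton]
    rfl
  have h3 : Associated (X.presheaf.map (homOfLE hWU).op f) h :=
    Ideal.span_singleton_eq_span_singleton.mp (h2.symm.trans h1)
  obtain ⟨u, hu⟩ := h3
  rw [hDf ⟨y.1, hWU y.2⟩]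
  refine cls_eq_of_germ_eq f hf h hreg y.1 (hWU y.2) y.2
    (Units.map (X.presheaf.germ W y.1 y.2).hom.toMonoidHom u) ?_
  rw [← hu, map_mul]
  congr 1
  exact TopCat.Presheaf.germ_res_apply X.presheaf (homOfLE hWU) y.1 y.2 f

theorem tmul_smul_smul (M N : X.Modules) (U : X.Opens) (a b : Γ(X, U)) (m : Γ(M, U)) (n : Γ(N, U)) :
    SecTwist.tmul M N U (a • m) (b • n) = (a * b) • SecTwist.tmul M N U m n := by
  have h1 := Groth.Agent.Lib.helper12.AmpleBasis.tmul_smul_left M N U a m (b • n)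
  have h2 := Groth.Agent.Lib.helper11.TensorEpi.tmul_smul_right M N U b m n
  rw [mul_smul]
  exact h1.trans (congrArg (fun t => a • t) h2)

/-- Let X be an integral scheme, L₁ and L₂ invertible O_X-modules with nonzero global sections s₁ and s₂
(nonzero morphisms O_X → L₁ and O_X → L₂), and let D₁, D₂ be the effective Cartier divisors of the
zero schemes Z(s₁), Z(s₂): divisors on X (global sections of the sheaf of units of K_X modulo units
of O_X) which around every point, on some affine open neighbourhood, are the class of a regular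
function generating the ideal of the zero scheme. Then the divisor D₁ · D₂ (multiplicative notation
for the sum D₁ + D₂) is in the same sense the effective Cartier divisor of the zero scheme of the
global section s₁ ⊗ s₂ of the tensor product L₁ ⊗ L₂; that is, Z(s₁ ⊗ s₂) = Z(s₁) + Z(s₂). (The
published statement is for an irreducible variety over an algebraically closed field; this row
states it for an arbitrary integral scheme.) -/
theorem result (X : Scheme.{u}) [AlgebraicGeometry.IsIntegral X]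
    (L₁ L₂ : X.Modules) (hL₁ : PicF.IsInvertible L₁) (hL₂ : PicF.IsInvertible L₂)
    (s₁ : Coh.structureModule X ⟶ L₁) (s₂ : Coh.structureModule X ⟶ L₂) (hs₁ : s₁ ≠ 0) (hs₂ : s₂ ≠ 0)
    (D₁ D₂ : Mero.Divisor X) (hD₁ : Mero.IsDivOfIdeal D₁ (PicF2.zeroScheme L₁ s₁))
    (hD₂ : Mero.IsDivOfIdeal D₂ (PicF2.zeroScheme L₂ s₂)) :
    Mero.IsDivOfIdeal (D₁ * D₂) (PicF2.zeroScheme (CohB1.tensorMod L₁ L₂) (SecTwist.tmulHom s₁ s₂)) := by
  have hT : PicF.IsInvertible (CohB1.tensorMod L₁ L₂) :=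
    Groth.Agent.Lib.helper12.TensorInv.isInvertible_tensorMod hL₁ hL₂
  have hTF : FlatMod.IsFinLocFree (CohB1.tensorMod L₁ L₂) :=
    isFinLocFree_of_isFinLocFreeOfRank ((isInvertible_iff_isFinLocFreeOfRank_one _).1 hT)
  intro x
  obtain ⟨U₁, hxU₁, H₁⟩ := germ_eq_of_isDivOfIdeal hL₁ s₁ D₁ hD₁ x
  obtain ⟨U₂, hxU₂, H₂⟩ := germ_eq_of_isDivOfIdeal hL₂ s₂ D₂ hD₂ x
  obtain ⟨W₁, ℓ₁₀, -, hxW₁, hW₁U, hℓ₁₀⟩ := exists_isGen hL₁ x (U₁ ⊓ U₂) ⟨hxU₁, hxU₂⟩
  obtain ⟨W, ℓ₂, hW, hxW, hWW₁, hℓ₂⟩ := exists_isGen hL₂ x W₁ hxW₁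
  have hℓ₁ := hℓ₁₀.res hWW₁
  set ℓ₁ := L₁.presheaf.map (homOfLE hWW₁).op ℓ₁₀ with hℓ₁def
  obtain ⟨h₁, hh₁⟩ := exists_coeff hℓ₁ s₁
  obtain ⟨h₂, hh₂⟩ := exists_coeff hℓ₂ s₂
  have hne₁ : h₁ ≠ 0 := by
    intro h0
    apply sv_ne_zero hL₁ s₁ hs₁ W ⟨x, hxW⟩
    rw [← hh₁, h0, zero_smul]
  have hne₂ : h₂ ≠ 0 := by
    intro h0
    apply sv_ne_zero hL₂ s₂ hs₂ W ⟨x, hxW⟩
    rw [← hh₂, h0, zero_smul]
  have hr₁ := mem_regSub_of_ne_zero h₁ hne₁
  have hr₂ := mem_regSub_of_ne_zero h₂ hne₂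
  have hWU₁ : W ≤ U₁ := hWW₁.trans (hW₁U.trans inf_le_left)
  have hWU₂ : W ≤ U₂ := hWW₁.trans (hW₁U.trans inf_le_right)
  have hh : (h₁ * h₂) • SecTwist.tmul L₁ L₂ W ℓ₁ ℓ₂ =
      sv (CohB1.tensorMod L₁ L₂) (SecTwist.tmulHom s₁ s₂) W := by
    rw [← tmul_smul_smul, hh₁, hh₂]
    exact (SecTwist.val_tmulHom s₁ s₂ W).symm
  refine ⟨⟨W, hW⟩, hxW, h₁ * h₂, Submonoid.mul_mem _ hr₁ hr₂, ?_, fun y => ?_⟩
  · rw [zeroScheme_ideal _ hTF _ ⟨W, hW⟩]
    exact zeroIdealOn_eq_span _ (isGen_tmul hℓ₁ hℓ₂) (h₁ * h₂) hh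
  · have e1 := H₁ W hW hWU₁ ℓ₁ hℓ₁ h₁ hh₁ hr₁ y
    have e2 := H₂ W hW hWU₂ ℓ₂ hℓ₂ h₂ hh₂ hr₂ y
    have e3 : (D₁ * D₂).1 y.1 = D₁.1 y.1 * D₂.1 y.1 := rfl
    rw [e3, e1, e2]
    exact (cls_mul h₁ h₂ hr₁ hr₂ y).symm

end Groth.Agent.S19459
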