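import Groth.Statements.S1947
import Mathlib
import Groth.Agent.Lib.Helper8.K0InfSchC
import Groth.Agent.Lib.Helper8.DevAR
import Groth.Agent.Lib.Helper20.ClosedImmDual
-- import your own Groth.Agent.* helpers here

set_option autoImplicit false
universe u
open CategoryTheory AlgebraicGeometry
open Cyc

namespace Groth.Agent.S1947

open Groth.Agent.Lib.helper8.K0Dev Groth.Agent.Lib.helper13.K0Res Groth.Agent.Lib.helper8.GEQuot
open Groth.Agent.Lib.helper8.Rees Groth.Agent.Lib.helper8.Dev Groth.Agent.Lib.helper7.CohKer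
open Groth.Agent.Lib.helper8.K0InfSch
open Scheme.Modules Opposite

theorem main (X Z : Scheme.{u}) [IsLocallyNoetherian X] (i : Z ⟶ X) [IsClosedImmersion i] :
    ∃ φ : KZero.K0sub (fun F : Z.Modules => Coh.IsCoh F) ≃+ KZero.K0sub (fun G : X.Modules => Coh.IsCoh G ∧ ∀ x : X, Nontrivial (G.presheaf.stalk x) → x ∈ Set.range ⇑i), ∀ F : Z.Modules, Coh.IsCoh F → φ (KZero.clSub (fun F : Z.Modules => Coh.IsCoh F) F) = KZero.clSub (fun G : X.Modules => Coh.IsCoh G ∧ ∀ x : X, Nontrivial (G.presheaf.stalk x) → x ∈ Set.range ⇑i) ((Coh.push i).obj F) := by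
  have hH := hyp i
  have h1 := bijective_dev i
  have hF : ∀ N : Z.Modules, Coh.IsCoh N → PX i ((Scheme.Modules.pushforward i).obj N) :=
    fun N hN => ⟨isCoh_push_of_isCoh i N hN, killedByIdeal_ker_push i N⟩
  have h2 : Function.Bijective (SGA6.mapSub (Scheme.Modules.pushforward i)
      (fun M : Z.Modules => Coh.IsCoh M) (PX i) hF) := by
    refine bijective_mapSub_of_ff (Scheme.Modules.pushforward i) _ _ hF
      (fun N hN => isCoh_of_isZero hN) hH.P_zero ?_ ?_
    · intro N N' hN hN'
      haveI : ((Scheme.Modules.pushforward i).obj N).IsQuasicoherent := (hF N hN).1.1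
      exact (Groth.Agent.Lib.Helper20.ClosedImmDual.map_bijective i N N').2
    · intro M hM
      haveI : M.IsQuasicoherent := hM.1.1
      haveI : IsIso ((pullbackPushforwardAdjunction i).unit.app M) := by
        rw [Groth.Agent.Lib.helper8.ClosedImmUnit.isIso_unit_iff_of_isClosedImmersion]
        exact hM.2
      refine ⟨(Scheme.Modules.pullback i).obj M,
        ⟨Groth.Agent.Lib.helper16.QCohPullback.isQuasicoherent_pullback i M,
          Groth.Agent.Lib.helper16.QCohPullback2.isFiniteType_pullback i M hM.1.2⟩,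
        ⟨(asIso ((pullbackPushforwardAdjunction i).unit.app M)).symm⟩⟩
  let ψ : KZero.K0sub (fun F : Z.Modules => Coh.IsCoh F) →+ KZero.K0sub (QX i) :=
    (SGA6.mapSub (𝟭 X.Modules) (PX i) (QX i) hH.le).comp
      (SGA6.mapSub (Scheme.Modules.pushforward i) (fun M : Z.Modules => Coh.IsCoh M) (PX i) hF)
  have hψ : Function.Bijective ψ := h1.comp h2
  refine ⟨AddEquiv.ofBijective ψ hψ, fun F hF' => ?_⟩
  have e1 : KZero.clSub (fun F : Z.Modules => Coh.IsCoh F) F =
      cls (fun F : Z.Modules => Coh.IsCoh F) F hF' := by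
    unfold KZero.clSub cls
    rw [dif_pos hF']
  have hQ : QX i ((Scheme.Modules.pushforward i).obj F) := hH.le _ (hF F hF')
  have e2 : KZero.clSub (QX i) ((Coh.push i).obj F) =
      cls (QX i) ((Scheme.Modules.pushforward i).obj F) hQ := by
    unfold KZero.clSub cls
    rw [dif_pos hQ]
  rw [AddEquiv.ofBijective_apply, e1]
  refine Eq.trans ?_ e2.symm
  change (SGA6.mapSub (𝟭 X.Modules) (PX i) (QX i) hH.le)
    ((SGA6.mapSub (Scheme.Modules.pushforward i) (fun M : Z.Modules => Coh.IsCoh M) (PX i) hF)
      (cls (fun F : Z.Modules => Coh.IsCoh F) F hF')) = _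
  rw [mapSub_cls', mapSub_cls]


/-- Let X be locally Noetherian and i : Z → X a closed immersion. Pushforward of coherent modules along
i induces an isomorphism K_0(Coh(Z)) → K_0(Coh_Z(X)), where Coh_Z(X) consists of those coherent
O_X-modules supported inside (the image of) Z. Here K_0 of a full subcategory of the abelian
category of O-modules is the shared prelude's KZero.K0sub (free abelian group on the objects modulo
the relations of short exact sequences with all terms in the subcategory), and the isomorphism is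
asserted to exist compatibly with classes of objects. -/
theorem result (X Z : Scheme.{u}) [IsLocallyNoetherian X] (i : Z ⟶ X) [IsClosedImmersion i] : ∃ φ : KZero.K0sub (fun F : Z.Modules => Coh.IsCoh F) ≃+ KZero.K0sub (fun G : X.Modules => Coh.IsCoh G ∧ ∀ x : X, Nontrivial (G.presheaf.stalk x) → x ∈ Set.range ⇑i), ∀ F : Z.Modules, Coh.IsCoh F → φ (KZero.clSub (fun F : Z.Modules => Coh.IsCoh F) F) = KZero.clSub (fun G : X.Modules => Coh.IsCoh G ∧ ∀ x : X, Nontrivial (G.presheaf.stalk x) → x ∈ Set.range ⇑i) ((Coh.push i).obj F) := by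
  exact main X Z i

end Groth.Agent.S1947
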