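import Groth.Statements.S19471
import Groth.Agent.Lib.Helper7.GrSyzMinRes
import Groth.Agent.Lib.Helper7.GrSyzHilbSyz

set_option autoImplicit false
universe u
open GrSyz

namespace Groth.Agent.S19471


open Groth.Agent.Lib.helper7

/-- Let k be an algebraically closed field, S = k[x_0, …, x_n] with its standard grading, and M a
finitely generated ℤ-graded S-module. Then M has a graded free resolution of length at most n + 1:
an exact sequence 0 → F_{n+1} → … → F_1 → F_0 → M → 0 in which every F_i is a finite direct sum of
twists S(−j) (a finite-rank free module with a homogeneous basis) and all maps respect the grading. -/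
theorem result (k : Type u) [Field k] [IsAlgClosed k] (n : ℕ)
    (M : Type u) [AddCommGroup M] [Module k M] [Module (MvPolynomial (Fin (n + 1)) k) M]
    [IsScalarTower k (MvPolynomial (Fin (n + 1)) k) M] [Module.Finite (MvPolynomial (Fin (n + 1)) k) M]
    (ℳ : ℤ → Submodule k M) [DirectSum.Decomposition ℳ]
    [SetLike.GradedSMul (GrSyz.stdGr k (Fin (n + 1))) ℳ] :
    ∃ F : GrSyz.FreeRes (GrSyz.stdGr k (Fin (n + 1))) ℳ, F.HasLengthLE (n + 1) := by
  obtain ⟨F, hF⟩ := GrSyzMinRes.exists_minimal_freeRes (r := n) ℳ
  refine ⟨F, ?_⟩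
  intro i hi
  exact GrSyzHilbSyz.syz (n + 1) F.rk F.d
    (fun i a b => (GrSyzBasic.mem_irrel_iff _ _ _).mp (hF i a b)) F.exact_succ i hi

end Groth.Agent.S19471
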