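import Groth.Statements.S19473
import Mathlib
-- import your own Groth.Agent.* helpers here

set_option autoImplicit false
universe u
open CategoryTheory CategoryTheory.Limits MonoidalCategory CartesianMonoidalCategory MonObj GrpObj AlgebraicGeometry
open AlgGrp

namespace Groth.Agent.S19473

open CategoryTheory.Limits in
/-- the diagonal of a group object is the pullback of the unit section along division -/
lemma isPullback_diag {C : Type*} [Category C] [CartesianMonoidalCategory C] (G : C) [GrpObj G] :
    IsPullback (lift (𝟙 G) (𝟙 G)) (toUnit G) ((fst G G)⁻¹ * snd G G) η[G] := by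
  refine ⟨⟨?_⟩, ⟨PullbackCone.IsLimit.mk _ (fun s => s.fst ≫ fst G G) ?_ ?_ ?_⟩⟩
  · rw [MonObj.comp_mul, GrpObj.comp_inv, lift_fst, lift_snd, inv_mul_cancel, Hom.one_def]
  · intro s
    have h := s.condition
    have h1 : (s.fst ≫ fst G G)⁻¹ * (s.fst ≫ snd G G) = 1 := by
      have : s.snd ≫ η[G] = 1 := by
        rw [Hom.one_def]; congr 1; exact toUnit_unique _ _
      rw [← this, ← h, MonObj.comp_mul, GrpObj.comp_inv]
    have h2 : s.fst ≫ fst G G = s.fst ≫ snd G G := by
      have := inv_mul_eq_one.mp h1
      exact this
    apply CartesianMonoidalCategory.hom_ext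
    · rw [Category.assoc, lift_fst, Category.comp_id]
    · rw [Category.assoc, lift_snd, Category.comp_id, h2]
  · intro s
    exact toUnit_unique _ _
  · intro s m hm _
    rw [← hm, Category.assoc, lift_fst, Category.comp_id]

/-- Let S be a scheme and G an S-group scheme whose structure morphism G → S is locally of finite type.
Then G → S is unramified — formally unramified, since it is locally of finite type — if and only if
the identity section S → G is an open immersion. (The separated and quasi-separated clauses of the
published item are separate results.) -/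
theorem result (S : Scheme.{u})
    (G : Over S) [GrpObj G] [LocallyOfFiniteType G.hom] :
    FormallyUnramified G.hom ↔ IsOpenImmersion η[G].left := by
  constructor
  · intro hunr
    haveI hdiag : IsOpenImmersion (pullback.diagonal G.hom) := inferInstance
    have hw : η[G].left ≫ G.hom = 𝟙 S := Over.w η[G]
    have sq := pullback_lift_diagonal_isPullback η[G].left G.hom
    have h1 : IsOpenImmersion (pullback.lift (𝟙 S) η[G].left (by simp) :
        S ⟶ pullback (η[G].left ≫ G.hom) G.hom) :=
      MorphismProperty.of_isPullback (P := @IsOpenImmersion) sq hdiag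
    have h2 : IsIso (η[G].left ≫ G.hom) := by rw [hw]; exact IsIso.id S
    have h3 : IsOpenImmersion (pullback.snd (η[G].left ≫ G.hom) G.hom) := inferInstance
    have h4 : η[G].left = pullback.lift (𝟙 S) η[G].left (by simp) ≫
        pullback.snd (η[G].left ≫ G.hom) G.hom := by
      rw [pullback.lift_snd]
    rw [h4]
    infer_instance
  · intro hη
    have sq := isPullback_diag G
    have sq' := sq.map (Over.forget S)
    have h1 : IsOpenImmersion ((Over.forget S).map (lift (𝟙 G) (𝟙 G))) :=
      MorphismProperty.of_isPullback (P := @IsOpenImmersion) sq'.flip hη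
    have h2 : (lift (𝟙 G) (𝟙 G)).left = pullback.diagonal G.hom := by
      rw [Over.lift_left]; rfl
    have h3 : IsOpenImmersion (pullback.diagonal G.hom) := by
      rw [← h2]; exact h1
    infer_instance

end Groth.Agent.S19473
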