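import Groth.Statements.S19474
import Groth.Agent.S0542
import Groth.Agent.Lib.Helper24.FlatCotangent
import Groth.Agent.Lib.Helper24.FlatDimFormula
import Mathlib

set_option autoImplicit false
universe u
open CAlg

namespace Groth.Agent.S19474

open IsLocalRing

/-- The `I`-adic completion of a local ring (`I` proper, finitely generated) is local. -/
theorem isLocalRing_adicCompletion (A : Type u) [CommRing A] [IsLocalRing A] (I : Ideal A)
    (hI : I ≠ ⊤) (fg : I.FG) : IsLocalRing (AdicCompletion I A) := by
  have hle : I ≤ maximalIdeal A := le_maximalIdeal hI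
  have hM := AdicCompletion.isMaximal_map_of_le I (maximalIdeal A) hle fg
  haveI := AdicCompletion.isAdicComplete_self I fg
  have hjac : I.map (algebraMap A (AdicCompletion I A)) ≤ (⊥ : Ideal (AdicCompletion I A)).jacobson :=
    IsAdicComplete.le_jacobson_bot _
  refine IsLocalRing.of_unique_max_ideal ⟨_, hM, fun N hN => ?_⟩
  have hIN : I.map (algebraMap A (AdicCompletion I A)) ≤ N :=
    hjac.trans (sInf_le ⟨bot_le, hN⟩)
  symm
  apply hM.eq_of_le hN.ne_top
  rw [Ideal.map_le_iff_le_comap]
  intro x hx
  rw [Ideal.mem_comap]
  -- image of `N` in `A/I` is maximal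
  haveI : Nontrivial (A ⧸ I) := Ideal.Quotient.nontrivial_iff.mpr hI
  haveI : IsLocalRing (A ⧸ I) := .of_surjective' _ Ideal.Quotient.mk_surjective
  have hker : RingHom.ker (AdicCompletion.evalOneₐ I).toRingHom ≤ N := by
    rw [AdicCompletion.ker_evalOneₐ_eq_map I fg]
    exact hIN
  have hNmax : (N.map (AdicCompletion.evalOneₐ I).toRingHom).IsMaximal :=
    Ideal.IsMaximal.map_of_surjective_of_ker_le (AdicCompletion.evalOneₐ_surjective I) hker
  have hNeq : N.map (AdicCompletion.evalOneₐ I).toRingHom = maximalIdeal (A ⧸ I) :=
    IsLocalRing.eq_maximalIdeal hNmax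
  have hmax : ((maximalIdeal A).map (Ideal.Quotient.mk I)).IsMaximal :=
    Ideal.IsMaximal.map_of_surjective_of_ker_le Ideal.Quotient.mk_surjective
      (by rw [Ideal.mk_ker]; exact hle)
  have hmeq : (maximalIdeal A).map (Ideal.Quotient.mk I) = maximalIdeal (A ⧸ I) :=
    IsLocalRing.eq_maximalIdeal hmax
  have hxm : Ideal.Quotient.mk I x ∈ N.map (AdicCompletion.evalOneₐ I).toRingHom := by
    rw [hNeq, ← hmeq]
    exact Ideal.mem_map_of_mem _ hx
  obtain ⟨n, hn, hnx⟩ := (Ideal.mem_map_iff_of_surjective (AdicCompletion.evalOneₐ I).toRingHom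
    (AdicCompletion.evalOneₐ_surjective I)).1 hxm
  have h1 : algebraMap A (AdicCompletion I A) x - n ∈ N := by
    apply hker
    rw [RingHom.mem_ker, map_sub, hnx]
    exact sub_self _
  have := N.add_mem h1 hn
  simpa using this

/-- Let A be a Noetherian local ring and I an ideal of A different from A. Then the I-adic completion of
A has the same Krull dimension as A, and A is a regular local ring if and only if the I-adic
completion of A is a regular local ring (in particular the completion is then local and Noetherian).
The case where I is the maximal ideal is the classical one; here I is any proper ideal. -/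
theorem result (A : Type u) [CommRing A]
    [IsLocalRing A] [IsNoetherianRing A] (I : Ideal A) (hI : I ≠ ⊤) :
    ringKrullDim (AdicCompletion I A) = ringKrullDim A ∧
      (IsRegularLocalRing A ↔ IsRegularLocalRing (AdicCompletion I A)) := by
  have fg : I.FG := IsNoetherian.noetherian I
  haveI hloc : IsLocalRing (AdicCompletion I A) := isLocalRing_adicCompletion A I hI fg
  haveI hN : IsNoetherianRing (AdicCompletion I A) := Groth.Agent.S0542.result A I fg
  have hle : I ≤ maximalIdeal A := le_maximalIdeal hI
  have hM := AdicCompletion.isMaximal_map_of_le I (maximalIdeal A) hle fg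
  have hm : (maximalIdeal A).map (algebraMap A (AdicCompletion I A)) =
      maximalIdeal (AdicCompletion I A) := IsLocalRing.eq_maximalIdeal hM
  haveI : IsLocalHom (algebraMap A (AdicCompletion I A)) := by
    apply ((IsLocalRing.local_hom_TFAE _).out 0 2).mpr
    rw [hm]
  have hdim : ringKrullDim (AdicCompletion I A) = ringKrullDim A := by
    rw [Groth.Agent.Lib.Helper24.FlatDimFormula.ringKrullDim_eq_add_of_flat A (AdicCompletion I A)]
    letI : Field ((AdicCompletion I A) ⧸ (maximalIdeal A).map (algebraMap A (AdicCompletion I A))) :=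
      Ideal.Quotient.field _
    rw [ringKrullDim_eq_zero_of_field, add_zero]
  exact ⟨hdim, Groth.Agent.Lib.Helper24.FlatCotangent.isRegularLocalRing_iff_of_flat A
    (AdicCompletion I A) hm hdim⟩

end Groth.Agent.S19474
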