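import Groth.Statements.S19475
import Mathlib

set_option autoImplicit false
universe u
open CAlg

namespace Groth.Agent.S19475

open IsLocalRing TensorProduct

section aux
variable (A B : Type u) [CommRing A] [CommRing B] [Algebra A B] [IsNoetherianRing A]
  (q : Ideal B) [q.IsPrime]

/-- local ring of the base -/
abbrev Ap := Localization.AtPrime (q.under A)
/-- local ring upstairs -/
abbrev Bq := Localization.AtPrime q
/-- completion of the local ring of the base -/
abbrev Ah := AdicCompletion (maximalIdeal (Ap A B q)) (Ap A B q)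

noncomputable instance algInst : Algebra (Ap A B q) (Bq B q) :=
  Localization.AtPrime.algebraOfLiesOver (q.under A) q

instance locHomInst : IsLocalHom (algebraMap (Ap A B q) (Bq B q)) :=
  Localization.isLocalHom_localRingHom _ _ _ _

/-- the ideal in question -/
noncomputable abbrev JJ : Ideal (Bq B q ⊗[A] Ah A B q) :=
  (maximalIdeal (Bq B q)).map
    (Algebra.TensorProduct.includeLeftRingHom : Bq B q →+* Bq B q ⊗[A] Ah A B q)

/-- witness map to a nontrivial ring -/
noncomputable def wit : Bq B q ⊗[A] Ah A B q →ₐ[A]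
    ResidueField (Bq B q) ⊗[ResidueField (Ap A B q)] ResidueField (Ah A B q) :=
  (Algebra.TensorProduct.mapOfCompatibleSMul (ResidueField (Ap A B q)) A A
    (ResidueField (Bq B q)) (ResidueField (Ah A B q))).comp
    (Algebra.TensorProduct.map (IsScalarTower.toAlgHom A (Bq B q) (ResidueField (Bq B q)))
      (IsScalarTower.toAlgHom A (Ah A B q) (ResidueField (Ah A B q))))

theorem wit_tmul (r : Bq B q) (x : Ah A B q) :
    wit A B q (r ⊗ₜ x) = residue (Bq B q) r ⊗ₜ residue (Ah A B q) x := rfl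

theorem JJ_ne_top : JJ A B q ≠ ⊤ := by
  intro h
  have h1 : JJ A B q ≤ RingHom.ker (wit A B q).toRingHom := by
    rw [Ideal.map_le_iff_le_comap]
    intro r hr
    rw [Ideal.mem_comap, RingHom.mem_ker]
    change wit A B q (r ⊗ₜ 1) = 0
    rw [wit_tmul, (residue_eq_zero_iff r).mpr hr, zero_tmul]
  rw [h, top_le_iff] at h1
  have h2 : (1 : Bq B q ⊗[A] Ah A B q) ∈ RingHom.ker (wit A B q).toRingHom := by
    rw [h1]; exact Submodule.mem_top
  rw [RingHom.mem_ker, map_one] at h2
  exact one_ne_zero h2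

theorem tmul_mem_of_mem (r : Bq B q) (μ : Ah A B q) (hμ : μ ∈ maximalIdeal (Ah A B q)) :
    r ⊗ₜ[A] μ ∈ JJ A B q := by
  rw [AdicCompletion.maximalIdeal_eq_map, Ideal.map] at hμ
  refine Submodule.span_induction (p := fun y _ => r ⊗ₜ[A] y ∈ JJ A B q) ?_ ?_ ?_ ?_ hμ
  · rintro _ ⟨π, hπ, rfl⟩
    have h1 : r ⊗ₜ[A] (algebraMap (Ap A B q) (Ah A B q) π) =
        (algebraMap (Ap A B q) (Bq B q) π * r) ⊗ₜ[A] (1 : Ah A B q) := by
      rw [Algebra.algebraMap_eq_smul_one, ← TensorProduct.smul_tmul, Algebra.smul_def]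
    rw [h1]
    refine Ideal.mem_map_of_mem _ (Ideal.mul_mem_right _ _ ?_)
    have hπ' : π ∈ maximalIdeal (Ap A B q) := hπ
    rw [mem_maximalIdeal, mem_nonunits_iff] at hπ' ⊢
    exact fun hu => hπ' (isUnit_of_map_unit _ _ hu)
  · rw [tmul_zero]; exact zero_mem _
  · intro x y _ _ hx hy
    rw [tmul_add]; exact add_mem hx hy
  · intro c x _ hx
    have : r ⊗ₜ[A] (c • x) = ((1 : Bq B q) ⊗ₜ[A] c) * (r ⊗ₜ[A] x) := by
      rw [Algebra.TensorProduct.tmul_mul_tmul, one_mul, smul_eq_mul]
    rw [this]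
    exact Ideal.mul_mem_left _ _ hx

theorem exists_rep (x : Bq B q ⊗[A] Ah A B q) :
    ∃ r : Bq B q, x - r ⊗ₜ[A] (1 : Ah A B q) ∈ JJ A B q := by
  induction x using TensorProduct.induction_on with
  | zero => exact ⟨0, by simp⟩
  | tmul r â =>
    obtain ⟨y, hy⟩ := (AdicCompletion.residueField_map_bijective (Ap A B q)).2 (residue _ â)
    obtain ⟨a', rfl⟩ := residue_surjective y
    rw [ResidueField.map_residue] at hy
    have hμ : â - algebraMap (Ap A B q) (Ah A B q) a' ∈ maximalIdeal (Ah A B q) := by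
      rw [← residue_eq_zero_iff, map_sub, hy, sub_self]
    refine ⟨algebraMap (Ap A B q) (Bq B q) a' * r, ?_⟩
    have h1 : r ⊗ₜ[A] (algebraMap (Ap A B q) (Ah A B q) a') =
        (algebraMap (Ap A B q) (Bq B q) a' * r) ⊗ₜ[A] (1 : Ah A B q) := by
      rw [Algebra.algebraMap_eq_smul_one, ← TensorProduct.smul_tmul, Algebra.smul_def]
    rw [← h1, ← tmul_sub]
    exact tmul_mem_of_mem A B q r _ hμ
  | add x y hx hy =>
    obtain ⟨r₁, h₁⟩ := hx
    obtain ⟨r₂, h₂⟩ := hy
    refine ⟨r₁ + r₂, ?_⟩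
    have : x + y - (r₁ + r₂) ⊗ₜ[A] (1 : Ah A B q) =
        (x - r₁ ⊗ₜ[A] (1 : Ah A B q)) + (y - r₂ ⊗ₜ[A] (1 : Ah A B q)) := by
      rw [add_tmul]; ring
    rw [this]
    exact add_mem h₁ h₂

theorem JJ_isMaximal : (JJ A B q).IsMaximal := by
  rw [Ideal.isMaximal_iff]
  refine ⟨fun h => JJ_ne_top A B q ((Ideal.eq_top_iff_one _).mpr h), ?_⟩
  intro I x hJI hxJ hxI
  obtain ⟨r, hr⟩ := exists_rep A B q x
  have hru : IsUnit r := by
    by_contra hnu
    have hrm : r ∈ maximalIdeal (Bq B q) := hnu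
    have h1 : r ⊗ₜ[A] (1 : Ah A B q) ∈ JJ A B q := Ideal.mem_map_of_mem _ hrm
    apply hxJ
    have : x = (x - r ⊗ₜ[A] (1 : Ah A B q)) + r ⊗ₜ[A] (1 : Ah A B q) := by ring
    rw [this]
    exact add_mem hr h1
  obtain ⟨u, rfl⟩ := hru
  have h2 : (1 : Bq B q ⊗[A] Ah A B q) =
      ((↑u⁻¹ : Bq B q) ⊗ₜ[A] (1 : Ah A B q)) * x -
        ((↑u⁻¹ : Bq B q) ⊗ₜ[A] (1 : Ah A B q)) * (x - (u : Bq B q) ⊗ₜ[A] (1 : Ah A B q)) := by
    rw [mul_sub, sub_sub_cancel, Algebra.TensorProduct.tmul_mul_tmul, mul_one, Units.inv_mul,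
      Algebra.TensorProduct.one_def]
  rw [h2]
  exact sub_mem (Ideal.mul_mem_left _ _ hxI) (Ideal.mul_mem_left _ _ (hJI hr))

end aux


open IsLocalRing in
/-- Let A be a Noetherian ring, B an A-algebra, q a prime ideal of B and p its preimage in A; let A_p
and B_q be the local rings at p and q and Â_p the completion of A_p at its maximal ideal pA_p. Then
the ideal generated by qB_q in B_q ⊗ Â_p is maximal. (The tensor product is formed over A; since A_p
is a localization of A it agrees with the tensor product over A_p used in the published statement.) -/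
theorem result (A B : Type u) [CommRing A] [CommRing B]
    [Algebra A B] [IsNoetherianRing A] (q : Ideal B) [q.IsPrime] :
    ((maximalIdeal (Localization.AtPrime q)).map
      (Algebra.TensorProduct.includeLeftRingHom :
        Localization.AtPrime q →+* TensorProduct A (Localization.AtPrime q)
          (AdicCompletion (maximalIdeal (Localization.AtPrime (q.under A)))
            (Localization.AtPrime (q.under A))))).IsMaximal := by
  exact JJ_isMaximal A B q

end Groth.Agent.S19475
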