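import Groth.Statements.S19476
import Groth.Agent.S7817
import Groth.Agent.Lib.Helper7.NNPicClosed
import Groth.Agent.Lib.Helper7.RankPt
import Groth.Agent.Lib.Helper12.InvDual2
import Groth.Agent.Lib.Helper18.NilThickScheme
import Groth.Agent.Lib.Helper21.Seesaw

set_option autoImplicit false
universe u
open CategoryTheory CategoryTheory.Limits AlgebraicGeometry
open PicF

namespace Groth.Agent.S19476

/-- Let S be a locally Noetherian scheme, f : X → S flat and proper with integral geometric fibres, and
L a line bundle on X (a locally free module of rank 1). Then there is a closed subscheme Z ⊆ S with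
the following universal property among locally Noetherian S-schemes: a morphism u : T → S with T
locally Noetherian factors through Z if and only if the pullback of L to X ×_S T is isomorphic to
the pullback along the projection X ×_S T → T of some line bundle on T, i.e. is trivial relative to
T. (Only the existence of such a closed subscheme is asserted.) -/
theorem result {X S : Scheme.{u}} (f : X ⟶ S)
    [IsProper f] [Flat f] [GeometricallyIntegral f] [IsLocallyNoetherian S]
    (L : X.Modules) (hL : FlatMod.IsFinLocFreeOfRank 1 L) :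
    ∃ (Z : Scheme.{u}) (ι : Z ⟶ S), IsClosedImmersion ι ∧
      ∀ (T : Scheme.{u}) (u : T ⟶ S), IsLocallyNoetherian T →
        ((∃ u' : T ⟶ Z, u' ≫ ι = u) ↔
          ∃ M : T.Modules, FlatMod.IsFinLocFreeOfRank 1 M ∧
            Nonempty ((Scheme.Modules.pullback (pullback.fst f u)).obj L ≅
              (Scheme.Modules.pullback (pullback.snd f u)).obj M)) := by
  classical
  haveI : LocallyOfFinitePresentation f :=
    Groth.Agent.Lib.Helper18.NilThick.locallyOfFinitePresentation_of_isLocallyNoetherian f
  haveI : GeometricallyConnected f :=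
    Groth.Agent.Lib.helper21.Seesaw.geometricallyConnected_of_geometricallyIntegral f
  have hLflf : FlatMod.IsFinLocFree L :=
    Groth.Agent.Lib.helper16.FLF.isFinLocFree_of_isFinLocFreeOfRank hL
  have hrkL : ∀ x : X, Groth.Agent.Lib.helper7.RankPt.rk L x = 1 :=
    (Groth.Agent.Lib.helper7.RankPt.isFinLocFreeOfRank_iff_rk L hLflf 1).mp hL
  obtain ⟨Z, ι, hImm, hlfp, hqc, huniv, hrange⟩ := Groth.Agent.S7817.result f L hLflf
  have hLinv : PicF.IsInvertible L :=
    (Groth.Agent.Lib.helper16.FLF.isInvertible_iff_isFinLocFreeOfRank_one L).mpr hL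
  obtain ⟨M, hM, -, ⟨eML⟩⟩ := Groth.Agent.Lib.helper12.InvDual.exists_inverse hLinv
  have hclosed : IsClosed (Set.range ι) := by
    rw [hrange]
    have h0 := Groth.Agent.Lib.helper7.NNPicClosed.isClosed_setOf_fiber_trivial f L M hLinv hM eML
      (fun y => inferInstance)
    convert h0 using 1
    ext s
    simp only [Set.mem_ofPred_eq]
    constructor
    · rintro ⟨n, ⟨e⟩⟩
      obtain ⟨z⟩ : Nonempty (f.fiber s) := inferInstance
      have h1 := Groth.Agent.Lib.helper7.RankPt.rk_of_iso e z
      rw [Groth.Agent.Lib.helper7.RankPt.rk_pullback _ L hLflf, hrkL,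
        (Groth.Agent.Lib.helper7.RankPt.isFinLocFreeOfRank_iff_rk _
          (Groth.Agent.Lib.helper16.FLF.isFinLocFree_freeMod _ n) n).mp
          (Groth.Agent.Lib.helper16.FLF.isFinLocFreeOfRank_freeMod _ n) z] at h1
      subst h1
      exact ⟨e ≪≫ Groth.Agent.Lib.helper16.FLF.freeModOneIso _⟩
    · rintro ⟨e⟩
      exact ⟨1, ⟨e ≪≫ (Groth.Agent.Lib.helper16.FLF.freeModOneIso _).symm⟩⟩
  haveI := hImm
  have hci : IsClosedImmersion ι := IsClosedImmersion.of_isPreimmersion ι hclosed
  refine ⟨Z, ι, hci, fun T u _ => ?_⟩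
  rw [huniv T u]
  constructor
  · rintro ⟨N, hN, ⟨e⟩⟩
    refine ⟨N, ?_, ⟨e⟩⟩
    rw [Groth.Agent.Lib.helper7.RankPt.isFinLocFreeOfRank_iff_rk N hN 1]
    intro t
    obtain ⟨y, rfl⟩ := (pullback.snd f u).surjective t
    rw [← Groth.Agent.Lib.helper7.RankPt.rk_pullback (pullback.snd f u) N hN y,
      ← Groth.Agent.Lib.helper7.RankPt.rk_of_iso e y,
      Groth.Agent.Lib.helper7.RankPt.rk_pullback _ L hLflf, hrkL]
  · rintro ⟨N, hN, ⟨e⟩⟩
    exact ⟨N, Groth.Agent.Lib.helper16.FLF.isFinLocFree_of_isFinLocFreeOfRank hN, ⟨e⟩⟩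

end Groth.Agent.S19476
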