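import Groth.Statements.S19477
import Mathlib
import Groth.Agent.Lib.Helper3.GaloisFibre

set_option autoImplicit false
universe u
open Variety

namespace Groth.Agent.S19477

open TensorProduct in
theorem finite_spec (K B L : Type u) [Field K] [CommRing B] [IsDomain B] [Algebra K B]
    [Algebra.FiniteType K B] [Field L] [Algebra K L] [Algebra.IsIntegral K L] :
    Finite (PrimeSpectrum ((FractionRing B) ⊗[K] L)) := by
  letI : Algebra (B ⊗[K] L) ((FractionRing B) ⊗[K] L) :=
    (Algebra.TensorProduct.map (IsScalarTower.toAlgHom K B (FractionRing B))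
      (AlgHom.id K L)).toRingHom.toAlgebra
  haveI : IsScalarTower B (B ⊗[K] L) ((FractionRing B) ⊗[K] L) :=
    .of_algebraMap_eq (fun b => by
      rw [RingHom.algebraMap_toAlgebra]
      simp [Algebra.TensorProduct.algebraMap_apply])
  haveI hloc : IsLocalization (Algebra.algebraMapSubmonoid (B ⊗[K] L) (nonZeroDivisors B))
      ((FractionRing B) ⊗[K] L) :=
    IsLocalization.tensorProduct_tensorProduct K L (nonZeroDivisors B) (FractionRing B) (by
      ext x
      simp [RingHom.algebraMap_toAlgebra])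
  haveI : Algebra.FiniteType L (L ⊗[K] B) := inferInstance
  haveI : IsNoetherianRing (L ⊗[K] B) := Algebra.FiniteType.isNoetherianRing L _
  haveI : IsNoetherianRing (B ⊗[K] L) :=
    isNoetherianRing_of_ringEquiv _ (Algebra.TensorProduct.comm K L B).toRingEquiv
  have hfin : (minimalPrimes (B ⊗[K] L)).Finite := minimalPrimes.finite_of_isNoetherianRing _
  have hmin : ∀ Q : PrimeSpectrum ((FractionRing B) ⊗[K] L),
      Q.asIdeal.comap (algebraMap (B ⊗[K] L) ((FractionRing B) ⊗[K] L)) ∈
        minimalPrimes (B ⊗[K] L) := by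
    intro Q
    set Q₀ := Q.asIdeal.comap (algebraMap (B ⊗[K] L) ((FractionRing B) ⊗[K] L)) with hQ₀
    have hQ₀p : Q₀.IsPrime := Ideal.comap_isPrime _ _
    have hbot : Q₀.comap (algebraMap B (B ⊗[K] L)) = ⊥ := by
      rw [eq_bot_iff]
      intro b hb
      rw [Ideal.mem_bot]
      by_contra hb0
      have hbM : b ∈ nonZeroDivisors B := mem_nonZeroDivisors_of_ne_zero hb0
      have hu : IsUnit (algebraMap (B ⊗[K] L) ((FractionRing B) ⊗[K] L)
          (algebraMap B (B ⊗[K] L) b)) :=
        IsLocalization.map_units _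
          (⟨algebraMap B (B ⊗[K] L) b, ⟨b, hbM, rfl⟩⟩ :
            Algebra.algebraMapSubmonoid (B ⊗[K] L) (nonZeroDivisors B))
      exact Q.isPrime.ne_top (Ideal.eq_top_of_isUnit_mem _ hb hu)
    refine ⟨⟨hQ₀p, bot_le⟩, ?_⟩
    rintro Q' ⟨hQ'p, -⟩ hle
    by_contra hnle
    obtain ⟨x, hx, hx'⟩ := Set.not_subset.mp hnle
    have hlt := Ideal.comap_lt_comap_of_integral_mem_sdiff (R := B) hle ⟨hx, hx'⟩
      (Algebra.IsIntegral.isIntegral x)
    rw [hbot] at hlt
    exact not_lt_bot hlt
  let g : PrimeSpectrum ((FractionRing B) ⊗[K] L) → minimalPrimes (B ⊗[K] L) :=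
    fun Q => ⟨_, hmin Q⟩
  have hg : Function.Injective g := by
    intro Q Q' h
    have h1 : Q.asIdeal.comap (algebraMap (B ⊗[K] L) ((FractionRing B) ⊗[K] L)) =
        Q'.asIdeal.comap (algebraMap (B ⊗[K] L) ((FractionRing B) ⊗[K] L)) :=
      congrArg Subtype.val h
    ext1
    rw [← IsLocalization.map_under (Algebra.algebraMapSubmonoid (B ⊗[K] L) (nonZeroDivisors B))
      ((FractionRing B) ⊗[K] L) Q.asIdeal,
      ← IsLocalization.map_under (Algebra.algebraMapSubmonoid (B ⊗[K] L) (nonZeroDivisors B))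
      ((FractionRing B) ⊗[K] L) Q'.asIdeal]
    exact congrArg (Ideal.map _) h1
  haveI := hfin.to_subtype
  exact Finite.of_injective g hg


open TensorProduct in
theorem transitive (K F L : Type u) [Field K] [Field F] [Algebra K F] [Field L] [Algebra K L]
    [Normal K L] (P Q : PrimeSpectrum (F ⊗[K] L)) :
    ∃ γ : L ≃ₐ[K] L, Q.asIdeal = P.asIdeal.comap
      (Algebra.TensorProduct.map (AlgHom.id K F) (γ : L →ₐ[K] L)) := by
  haveI : Nontrivial (P.asIdeal.ResidueField ⊗[F] Q.asIdeal.ResidueField) :=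
    (Algebra.TensorProduct.includeLeft_injective (S := F) (R := F)
      (A := P.asIdeal.ResidueField) (B := Q.asIdeal.ResidueField)
      (algebraMap F Q.asIdeal.ResidueField).injective).nontrivial
  obtain ⟨m, hm⟩ := Ideal.exists_maximal (P.asIdeal.ResidueField ⊗[F] Q.asIdeal.ResidueField)
  letI : Field ((P.asIdeal.ResidueField ⊗[F] Q.asIdeal.ResidueField) ⧸ m) :=
    Ideal.Quotient.field m
  let iP : P.asIdeal.ResidueField →+*
      (P.asIdeal.ResidueField ⊗[F] Q.asIdeal.ResidueField) ⧸ m :=
    (Ideal.Quotient.mk m).comp (Algebra.TensorProduct.includeLeft :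
      P.asIdeal.ResidueField →ₐ[F] P.asIdeal.ResidueField ⊗[F] Q.asIdeal.ResidueField).toRingHom
  let iQ : Q.asIdeal.ResidueField →+*
      (P.asIdeal.ResidueField ⊗[F] Q.asIdeal.ResidueField) ⧸ m :=
    (Ideal.Quotient.mk m).comp (Algebra.TensorProduct.includeRight :
      Q.asIdeal.ResidueField →ₐ[F] P.asIdeal.ResidueField ⊗[F] Q.asIdeal.ResidueField).toRingHom
  let φP := iP.comp (algebraMap (F ⊗[K] L) P.asIdeal.ResidueField)
  let φQ := iQ.comp (algebraMap (F ⊗[K] L) Q.asIdeal.ResidueField)
  have hkerP : RingHom.ker φP = P.asIdeal := by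
    rw [← RingHom.comap_ker, (RingHom.injective_iff_ker_eq_bot iP).mp iP.injective,
      ← RingHom.ker_eq_comap_bot, Ideal.ker_algebraMap_residueField]
  have hkerQ : RingHom.ker φQ = Q.asIdeal := by
    rw [← RingHom.comap_ker, (RingHom.injective_iff_ker_eq_bot iQ).mp iQ.injective,
      ← RingHom.ker_eq_comap_bot, Ideal.ker_algebraMap_residueField]
  have hF : ∀ f : F, φP (f ⊗ₜ[K] (1 : L)) = φQ (f ⊗ₜ[K] (1 : L)) := by
    intro f
    have h1 : algebraMap (F ⊗[K] L) P.asIdeal.ResidueField (f ⊗ₜ[K] (1 : L)) =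
        algebraMap F P.asIdeal.ResidueField f := by
      rw [IsScalarTower.algebraMap_apply F (F ⊗[K] L) P.asIdeal.ResidueField]; rfl
    have h2 : algebraMap (F ⊗[K] L) Q.asIdeal.ResidueField (f ⊗ₜ[K] (1 : L)) =
        algebraMap F Q.asIdeal.ResidueField f := by
      rw [IsScalarTower.algebraMap_apply F (F ⊗[K] L) Q.asIdeal.ResidueField]; rfl
    simp only [φP, φQ, iP, iQ, RingHom.comp_apply, h1, h2, AlgHom.toRingHom_eq_coe,
      RingHom.coe_coe, AlgHom.commutes]
  let tP : L →+* (P.asIdeal.ResidueField ⊗[F] Q.asIdeal.ResidueField) ⧸ m :=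
    φP.comp (Algebra.TensorProduct.includeRight : L →ₐ[K] F ⊗[K] L).toRingHom
  let tQ : L →+* (P.asIdeal.ResidueField ⊗[F] Q.asIdeal.ResidueField) ⧸ m :=
    φQ.comp (Algebra.TensorProduct.includeRight : L →ₐ[K] F ⊗[K] L).toRingHom
  have hK : tP.comp (algebraMap K L) = tQ.comp (algebraMap K L) := by
    ext a
    have h3 : ((1 : F) ⊗ₜ[K] (algebraMap K L a) : F ⊗[K] L) = (algebraMap K F a) ⊗ₜ[K] (1 : L) := by
      rw [Algebra.algebraMap_eq_smul_one, Algebra.algebraMap_eq_smul_one, TensorProduct.smul_tmul]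
    simp only [tP, tQ, RingHom.comp_apply, AlgHom.toRingHom_eq_coe, RingHom.coe_coe,
      Algebra.TensorProduct.includeRight_apply, h3, hF]
  obtain ⟨σ, hσ⟩ := Groth.Agent.Lib.helper3.GaloisFibre.exists_algEquiv_of_normal L tP tQ hK
  refine ⟨σ, ?_⟩
  have hφ : φQ = φP.comp
      (Algebra.TensorProduct.map (AlgHom.id K F) (σ : L →ₐ[K] L)).toRingHom := by
    apply RingHom.ext
    intro x
    induction x using TensorProduct.induction_on with
    | zero => simp
    | tmul f l =>
      have e1 : f ⊗ₜ[K] l = (f ⊗ₜ[K] (1 : L)) * ((1 : F) ⊗ₜ[K] l) := by simp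
      have e2 : φQ ((1 : F) ⊗ₜ[K] l) = φP ((1 : F) ⊗ₜ[K] (σ l)) := by
        have := RingHom.congr_fun hσ l
        simpa [tP, tQ] using this
      rw [e1, map_mul, map_mul, ← hF, e2]
      simp
    | add x y hx hy => rw [map_add, map_add, hx, hy]
  have hφ' : RingHom.ker φQ = (RingHom.ker φP).comap
      (Algebra.TensorProduct.map (AlgHom.id K F) (σ : L →ₐ[K] L)) := by
    ext x
    simp only [RingHom.mem_ker, Ideal.mem_comap, hφ, RingHom.comp_apply]
    rfl
  rw [← hkerQ, hφ', hkerP]

/-- Let K be a field, B an integral K-algebra of finite type with fraction field F, and L a Galois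
extension of K with group Γ = Aut_K(L). Then F ⊗_K L has only finitely many prime ideals and Γ,
acting through the second factor, permutes them transitively: for prime ideals P, Q there is γ ∈ Γ
with Q the preimage of P under id ⊗ γ. (The published statement is the geometric one, that the
points of an algebraic K-scheme X correspond to the Γ-orbits of points of X_L and that these orbits
are finite; it reduces to this algebraic statement by passing to the fibre over a point, and the
algebraic statement is what is proved.) -/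
theorem result (K B L : Type u) [Field K]
    [CommRing B] [IsDomain B] [Algebra K B] [Algebra.FiniteType K B] [Field L] [Algebra K L] [IsGalois K L] :
    Finite (PrimeSpectrum (TensorProduct K (FractionRing B) L)) ∧
      ∀ P Q : PrimeSpectrum (TensorProduct K (FractionRing B) L), ∃ γ : L ≃ₐ[K] L,
        Q.asIdeal = P.asIdeal.comap
          (Algebra.TensorProduct.map (AlgHom.id K (FractionRing B)) (γ : L →ₐ[K] L)) := by
  refine ⟨finite_spec K B L, fun P Q => ?_⟩
  haveI : Normal K L := IsGalois.to_normal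
  exact transitive K (FractionRing B) L P Q

end Groth.Agent.S19477
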