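import Groth.Statements.S19479
import Groth.Agent.Lib.Helper22.ComodMod
import Groth.Agent.S7972

set_option autoImplicit false
universe u v w
open HopfRep

namespace Groth.Agent.S19479

open TensorProduct in
/-- Let K be a field, C a K-coalgebra and V a right C-comodule. The following are equivalent: (i) V is
the internal direct sum of a family of simple subcomodules, i.e. there is an independent family of
subcomodules W_i with sum V, each W_i nonzero and having no subcomodules inside it other than 0 and
W_i; (ii) every subcomodule of V has a complementary subcomodule. A subcomodule is a subspace W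
whose coaction lands in the image of W ⊗ C. (The source states this for left comodules; a left
comodule over C is a right comodule over the co-opposite coalgebra, so the statement is the same.) -/
theorem result {K : Type u} {C : Type v} [Field K]
    [AddCommGroup C] [Module K C] [Coalgebra K C] (V : Type w) [AddCommGroup V] [Module K V] [HopfRep.Comod K C V] :
    (∃ (ι : Type w) (W : ι → Submodule K V), iSupIndep W ∧ iSup W = ⊤ ∧ ∀ i,
        HopfRep.IsSubcomod (k := K) (A := C) (W i) ∧ W i ≠ ⊥ ∧
          ∀ W' : Submodule K V, HopfRep.IsSubcomod (k := K) (A := C) W' → W' ≤ W i → W' = ⊥ ∨ W' = W i) ↔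
      HopfRep.IsSemisimpleComod K C V := by
  let c : HopfRep.Comod K C V := inferInstance
  constructor
  · rintro ⟨ι, W, hind, hsup, hW⟩ U hU
    obtain ⟨J, -, hJ⟩ := Groth.Agent.S7972.result K C V W (fun i => (hW i).1)
      (fun i => (hW i).2) hsup U hU
    refine ⟨⨆ j : J, W j, ?_, hJ⟩
    exact (Groth.Agent.Lib.helper22.subL c).sSupClosed (s := Set.range fun j : J => W j)
      (by rintro _ ⟨j, rfl⟩; exact (hW j).1)
  · intro hV
    have hss := (Groth.Agent.Lib.helper22.isSemisimpleComod_iff c).mp hV
    obtain ⟨s, hind, hsup, hsimple⟩ := IsSemisimpleModule.exists_sSupIndep_sSup_simples_eq_top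
      (Groth.Agent.Lib.helper22.DualAlg K C) (Groth.Agent.Lib.helper22.AsMod c)
    refine ⟨s, fun i => Groth.Agent.Lib.helper22.ofSub c i.1, ?_, ?_, ?_⟩
    · rw [Groth.Agent.Lib.helper22.iSupIndep_ofSub_iff c (fun i : s => i.1)]
      exact (sSupIndep_iff s).mp hind
    · rw [← Groth.Agent.Lib.helper22.ofSub_iSup, ← sSup_eq_iSup', hsup,
        Groth.Agent.Lib.helper22.ofSub_top]
    · intro i
      have hatom : IsAtom i.1 := isSimpleModule_iff_isAtom.mp (hsimple i.1 i.2)
      refine ⟨Groth.Agent.Lib.helper22.isSubcomod_ofSub c i.1, ?_, ?_⟩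
      · intro hbot
        apply hatom.1
        apply Groth.Agent.Lib.helper22.ofSub_injective c
        rw [Groth.Agent.Lib.helper22.ofSub_bot]
        exact hbot
      · intro W' hW' hle
        have h1 : Groth.Agent.Lib.helper22.toSub c W' hW' ≤ i.1 := fun x hx => hle hx
        rcases hatom.le_iff.mp h1 with h2 | h2
        · left
          rw [← Groth.Agent.Lib.helper22.ofSub_toSub c W' hW', h2, Groth.Agent.Lib.helper22.ofSub_bot]
        · right
          rw [← Groth.Agent.Lib.helper22.ofSub_toSub c W' hW', h2]

end Groth.Agent.S19479
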