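import Groth.Statements.S19480
import Mathlib
import Groth.Agent.Lib.Helper8.QuietBC
import Groth.Agent.Lib.Helper8.QuietFrob1
import Groth.Agent.S15046
-- import your own Groth.Agent.* helpers here

set_option autoImplicit false
open CategoryTheory AlgebraicGeometry MvPolynomial
universe u
open Quiet

namespace Groth.Agent.S19480
open Groth.Agent.Lib.helper8.QuietR Groth.Agent.Lib.helper8.QuietS RingTheory.Sequence

theorem main (p : ℕ) [Fact p.Prime]
    (k : Type u) [Field k] [CharP k p] [PerfectRing k p] (A : Type u) [CommRing A] [Algebra k A]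
    [CharP A p] [Algebra.Smooth k A] (n : ℕ) (t : Fin n → A) (ht : RingTheory.Sequence.IsRegular A (List.ofFn t))
    (r m : ℕ) (v : Fin m → MvPolynomial (Fin r) A)
    (hv : RingTheory.Sequence.IsRegular
      (MvPolynomial (Fin r) A ⧸ Ideal.span (Set.range fun i => C (t i) ^ p))
      (List.ofFn fun j => Ideal.Quotient.mk (Ideal.span (Set.range fun i => C (t i) ^ p)) (v j))) :
    RingTheory.Sequence.IsRegular (MvPolynomial (Fin r) A)
        (List.ofFn (fun i => C (t i) ^ (p ^ 2)) ++ List.ofFn (fun j => v j ^ p)) ∧
      (Ideal.quotientMap ((Ideal.span (Set.range (fun i => C (t i) ^ p) ∪ Set.range v)).map (frobenius (MvPolynomial (Fin r) A) p)) (frobenius (MvPolynomial (Fin r) A) p) Ideal.le_comap_map).FaithfullyFlat ∧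
      Quiet.IsPthRoot p (Spec.map (CommRingCat.ofHom (Ideal.quotientMap ((Ideal.span (Set.range (fun i => C (t i) ^ p) ∪ Set.range v)).map (frobenius (MvPolynomial (Fin r) A) p)) (frobenius (MvPolynomial (Fin r) A) p) Ideal.le_comap_map))) := by
  haveI : Nontrivial A := ht.nontrivial
  haveI : Algebra.Smooth A (MvPolynomial (Fin r) A) := ⟨inferInstance, inferInstance⟩
  haveI : Algebra.Smooth k (MvPolynomial (Fin r) A) := Algebra.Smooth.comp k A _
  have hFA := faithfullyFlat_frobenius_of_smooth p k A
  have hFB := faithfullyFlat_frobenius_of_smooth p k (MvPolynomial (Fin r) A)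
  have r1 : IsRegular A (List.ofFn fun i => t i ^ p) := by
    have := isRegular_map_of_faithfullyFlat (frobenius A p) hFA ht
    rwa [List.map_ofFn] at this
  have r2 : IsRegular (MvPolynomial (Fin r) A)
      (List.ofFn fun i => (C (t i) : MvPolynomial (Fin r) A) ^ p) := by
    have hff : (algebraMap A (MvPolynomial (Fin r) A)).FaithfullyFlat :=
      RingHom.faithfullyFlat_algebraMap_iff.mpr inferInstance
    have := isRegular_map_of_faithfullyFlat _ hff r1
    rw [List.map_ofFn] at this
    have e1 : (⇑(algebraMap A (MvPolynomial (Fin r) A)) ∘ fun i => t i ^ p) =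
        fun i => (C (t i) : MvPolynomial (Fin r) A) ^ p := by
      funext i
      simp [MvPolynomial.algebraMap_eq]
    rw [e1] at this
    exact this
  have hI : Ideal.span (Set.range fun i => (C (t i) : MvPolynomial (Fin r) A) ^ p) =
      Ideal.ofList (List.ofFn fun i => (C (t i) : MvPolynomial (Fin r) A) ^ p) := by
    unfold Ideal.ofList
    congr 1
    ext x
    simp [List.mem_ofFn]
  have r3 : IsRegular (MvPolynomial (Fin r) A)
      (List.ofFn (fun i => (C (t i) : MvPolynomial (Fin r) A) ^ p) ++ List.ofFn v) :=
    isRegular_append_of_quotient _ _ _ hI r2 (by rw [List.map_ofFn]; exact hv)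
  have r4 := isRegular_map_of_faithfullyFlat (frobenius (MvPolynomial (Fin r) A) p) hFB r3
  refine ⟨?_, ?_, ?_⟩
  · rw [List.map_append, List.map_ofFn, List.map_ofFn] at r4
    have e2 : (⇑(frobenius (MvPolynomial (Fin r) A) p) ∘
        fun i => (C (t i) : MvPolynomial (Fin r) A) ^ p) =
        fun i => (C (t i) : MvPolynomial (Fin r) A) ^ (p ^ 2) := by
      funext i
      simp only [Function.comp_apply, frobenius_def, ← pow_mul, sq]
    have e3 : (⇑(frobenius (MvPolynomial (Fin r) A) p) ∘ v) = fun j => v j ^ p := by
      funext j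
      simp only [Function.comp_apply, frobenius_def]
    rw [e2, e3] at r4
    exact r4
  · exact prop_of_isPushout RingHom.FaithfullyFlat.isStableUnderBaseChange
      RingHom.FaithfullyFlat.respectsIso _ _ _ _
      (isPushout_quotientMap (frobenius (MvPolynomial (Fin r) A) p) _) hFB
  · have hroot := Groth.Agent.S15046.main' p k (CommRingCat.of (MvPolynomial (Fin r) A))
      (CommRingCat.ofHom (frobenius (MvPolynomial (Fin r) A) p)) rfl
    have hPB := isPullback_SpecMap_of_isPushout _ _ _ _
      (isPushout_quotientMap (frobenius (MvPolynomial (Fin r) A) p)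
        (Ideal.span (Set.range (fun i => C (t i) ^ p) ∪ Set.range v)))
    exact isPthRoot_baseChange p hPB hroot


/-- Let k be a perfect field of prime characteristic p, A a smooth k-algebra of characteristic p and
t_1, …, t_n a regular sequence in A, so that A₀ = A/(t_1^p, …, t_n^p) is a p-good algebra when A has
a system of parameters; let v_1, …, v_m ∈ A[Y_1, …, Y_r] have images forming a regular sequence in
A₀[Y_1, …, Y_r], and put B_0 = A[Y]/(t_1^p, …, t_n^p, v_1, …, v_m). Identify A^{1/p} with A as a
ring, so that u_i = t_i^p and the Frobenius x ↦ x^p of A[Y] carries the ideal (t_i^p, v_j) into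
(u_i^p, v_j^p) = (t_i^{p²}, v_j^p). Then: (ii) (t_1^{p²}, …, t_n^{p²}, v_1^p, …, v_m^p) is a regular
sequence in A[Y]; (iii) the induced ring map β : B_0 → B = A[Y]/(t_i^{p²}, v_j^p) is faithfully flat
and Spec β is an extraction of p-th roots, i.e. every point of Spec B_0 has an affine open
neighbourhood with affine preimage over which the ring map is a tower of finitely many elementary
extractions R → R[x]/(x^p − a). (The published statement also assumes B_0 faithfully flat and
syntomic over A₀ and A good; these are not used for (ii) and (iii) and are not assumed here. The v_j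
are taken in A[Y] rather than in A₀[Y], which is how their p-th powers in A^{1/p}[Y] are meant.) -/
theorem result (p : ℕ) [Fact p.Prime]
    (k : Type u) [Field k] [CharP k p] [PerfectRing k p] (A : Type u) [CommRing A] [Algebra k A]
    [CharP A p] [Algebra.Smooth k A] (n : ℕ) (t : Fin n → A) (ht : RingTheory.Sequence.IsRegular A (List.ofFn t))
    (r m : ℕ) (v : Fin m → MvPolynomial (Fin r) A)
    (hv : RingTheory.Sequence.IsRegular
      (MvPolynomial (Fin r) A ⧸ Ideal.span (Set.range fun i => C (t i) ^ p))
      (List.ofFn fun j => Ideal.Quotient.mk (Ideal.span (Set.range fun i => C (t i) ^ p)) (v j))) :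
    RingTheory.Sequence.IsRegular (MvPolynomial (Fin r) A)
        (List.ofFn (fun i => C (t i) ^ (p ^ 2)) ++ List.ofFn (fun j => v j ^ p)) ∧
      (Ideal.quotientMap ((Ideal.span (Set.range (fun i => C (t i) ^ p) ∪ Set.range v)).map (frobenius (MvPolynomial (Fin r) A) p)) (frobenius (MvPolynomial (Fin r) A) p) Ideal.le_comap_map).FaithfullyFlat ∧
      Quiet.IsPthRoot p (Spec.map (CommRingCat.ofHom (Ideal.quotientMap ((Ideal.span (Set.range (fun i => C (t i) ^ p) ∪ Set.range v)).map (frobenius (MvPolynomial (Fin r) A) p)) (frobenius (MvPolynomial (Fin r) A) p) Ideal.le_comap_map))) := by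
  exact main p k A n t ht r m v hv

end Groth.Agent.S19480
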