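import Groth.Statements.S19484
import Groth.Agent.Lib.Helper1.CurveSupp
import Groth.Agent.Lib.Helper27.HpullHmap

set_option autoImplicit false
universe u
open CategoryTheory CategoryTheory.Limits AlgebraicGeometry
open Curves

namespace Groth.Agent.S19484

open CategoryTheory.Abelian Groth.Agent.Lib.helper27

section Abstract

variable {X : Scheme.{u}}

/-- if `H^q` and `H^{q+1}` of the kernel vanish then `H^q` of the epimorphism is bijective -/
theorem bijective_g (S : ShortComplex (EtCoh.Ab X)) (hS : S.ShortExact) (q : ℕ)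
    (h1 : Subsingleton (EtCoh.H X S.X₁ q)) (h2 : Subsingleton (EtCoh.H X S.X₁ (q + 1))) :
    Function.Bijective ((EtCoh.HF X q).map S.g).hom := by
  constructor
  · rw [injective_iff_map_eq_zero]
    intro x hx
    obtain ⟨y, rfl⟩ := Ext.covariant_sequence_exact₂ _ hS x hx
    rw [Subsingleton.elim y 0]
    exact Ext.zero_comp _ _ _ _ (add_zero q)
  · intro x
    have h0 : x.comp hS.extClass (rfl : q + 1 = q + 1) = 0 := Subsingleton.elim _ _
    obtain ⟨y, hy⟩ := Ext.covariant_sequence_exact₃ _ hS x rfl h0
    exact ⟨y, hy⟩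

/-- if `H^q` and `H^{q+1}` of the cokernel vanish then `H^{q+1}` of the monomorphism is
bijective -/
theorem bijective_f (S : ShortComplex (EtCoh.Ab X)) (hS : S.ShortExact) (q : ℕ)
    (h1 : Subsingleton (EtCoh.H X S.X₃ q)) (h2 : Subsingleton (EtCoh.H X S.X₃ (q + 1))) :
    Function.Bijective ((EtCoh.HF X (q + 1)).map S.f).hom := by
  constructor
  · rw [injective_iff_map_eq_zero]
    intro x hx
    obtain ⟨y, rfl⟩ := Ext.covariant_sequence_exact₁ _ hS x hx (rfl : q + 1 = q + 1)
    rw [Subsingleton.elim y 0]
    exact Ext.zero_comp _ _ _ _ rfl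
  · intro x
    have h0 : x.comp (Ext.mk₀ S.g) (add_zero (q + 1)) = 0 := Subsingleton.elim _ _
    obtain ⟨y, hy⟩ := Ext.covariant_sequence_exact₂ _ hS x h0
    exact ⟨y, hy⟩

end Abstract

theorem main
    (k : Type u) [Field k] [IsSepClosed k] (C : Scheme.{u})
    (f : C ⟶ Spec (CommRingCat.of k)) [LocallyOfFiniteType f] [QuasiCompact f]
    (hdim : topologicalKrullDim C ≤ 1) (F G : EtCoh.Ab C)
    (φ : F ⟶ G)
    (hgen : ∀ (Ω : Type u) [Field Ω] [IsSepClosed Ω] (ξ : Spec (CommRingCat.of Ω) ⟶ C),
      (∀ x ∈ Set.range ξ.base, ∀ y : C, y ⤳ x → y = x) → IsIso ((EtCoh.stalk ξ).map φ)) :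
    (∀ q : ℕ, 1 < q → IsIso ((EtCoh.HF C q).map φ)) ∧ (Epi φ → IsIso ((EtCoh.HF C 1).map φ)) := by
  -- vanishing for kernel and cokernel
  have hK : ∀ q : ℕ, 0 < q → Subsingleton (EtCoh.H C (kernel φ) q) := by
    intro q hq
    refine Groth.Agent.S0171.result C f (kernel φ)
      (Groth.Agent.H1.CurveSupp.isClosed_of_mem_supp hdim _ ?_) q hq
    intro Ω _ _ ξ hξ
    haveI := hgen Ω ξ hξ
    haveI : Mono ((EtCoh.stalk ξ).map (kernel.ι φ)) := inferInstance
    apply IsZero.of_mono_eq_zero ((EtCoh.stalk ξ).map (kernel.ι φ))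
    rw [← cancel_mono ((EtCoh.stalk ξ).map φ), ← CategoryTheory.Functor.map_comp,
      kernel.condition, CategoryTheory.Functor.map_zero, zero_comp]
  have hQ : ∀ q : ℕ, 0 < q → Subsingleton (EtCoh.H C (cokernel φ) q) := by
    intro q hq
    refine Groth.Agent.S0171.result C f (cokernel φ)
      (Groth.Agent.H1.CurveSupp.isClosed_of_mem_supp hdim _ ?_) q hq
    intro Ω _ _ ξ hξ
    haveI := hgen Ω ξ hξ
    haveI : Epi ((EtCoh.stalk ξ).map (cokernel.π φ)) := inferInstance
    apply IsZero.of_epi_eq_zero ((EtCoh.stalk ξ).map (cokernel.π φ))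
    rw [← cancel_epi ((EtCoh.stalk ξ).map φ), ← CategoryTheory.Functor.map_comp,
      cokernel.condition, CategoryTheory.Functor.map_zero, comp_zero]
  constructor
  · intro q hq
    obtain ⟨m, rfl⟩ : ∃ m, q = m + 2 := ⟨q - 2, by omega⟩
    -- the two short exact sequences
    let S1 : ShortComplex (EtCoh.Ab C) :=
      ShortComplex.mk (kernel.ι φ) (Abelian.factorThruImage φ) (by
        rw [← cancel_mono (Abelian.image.ι φ), Category.assoc, Abelian.image.fac,
          kernel.condition, zero_comp])
    have hS1 : S1.ShortExact := by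
      refine ShortComplex.ShortExact.mk' ?_ (inferInstanceAs (Mono (kernel.ι φ)))
        (inferInstanceAs (Epi (Abelian.factorThruImage φ)))
      have h1 : (ShortComplex.mk (kernel.ι φ) φ (kernel.condition φ)).Exact :=
        ShortComplex.exact_kernel φ
      exact (ShortComplex.exact_iff_of_epi_of_isIso_of_mono
        (S₁ := S1) (S₂ := ShortComplex.mk (kernel.ι φ) φ (kernel.condition φ))
        { τ₁ := 𝟙 _
          τ₂ := 𝟙 _
          τ₃ := Abelian.image.ι φ
          comm₁₂ := by simp [S1]
          comm₂₃ := by simp [S1] }).2 h1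
    let S2 : ShortComplex (EtCoh.Ab C) :=
      ShortComplex.mk (Abelian.image.ι φ) (cokernel.π φ) (by
        rw [← cancel_epi (Abelian.factorThruImage φ), ← Category.assoc, Abelian.image.fac,
          cokernel.condition, comp_zero])
    have hS2 : S2.ShortExact := by
      refine ShortComplex.ShortExact.mk' ?_ (inferInstanceAs (Mono (Abelian.image.ι φ)))
        (inferInstanceAs (Epi (cokernel.π φ)))
      have h1 : (ShortComplex.mk φ (cokernel.π φ) (cokernel.condition φ)).Exact :=
        ShortComplex.exact_cokernel φ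
      exact (ShortComplex.exact_iff_of_epi_of_isIso_of_mono
        (S₁ := ShortComplex.mk φ (cokernel.π φ) (cokernel.condition φ)) (S₂ := S2)
        { τ₁ := Abelian.factorThruImage φ
          τ₂ := 𝟙 _
          τ₃ := 𝟙 _
          comm₁₂ := by simp [S2]
          comm₂₃ := by simp [S2] }).1 h1
    have b1 := bijective_g S1 hS1 (m + 2) (hK _ (by omega)) (hK _ (by omega))
    have b2 := bijective_f S2 hS2 (m + 1) (hQ _ (by omega)) (hQ _ (by omega))
    have hcomp : (EtCoh.HF C (m + 2)).map φ =
        (EtCoh.HF C (m + 2)).map S1.g ≫ (EtCoh.HF C (m + 2)).map S2.f := by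
      rw [← CategoryTheory.Functor.map_comp]
      congr 1
      exact (Abelian.image.fac φ).symm
    rw [hcomp]
    haveI : IsIso ((EtCoh.HF C (m + 2)).map S1.g) :=
      (ConcreteCategory.isIso_iff_bijective _).2 b1
    haveI : IsIso ((EtCoh.HF C (m + 2)).map S2.f) :=
      (ConcreteCategory.isIso_iff_bijective _).2 b2
    infer_instance
  · intro hepi
    let S : ShortComplex (EtCoh.Ab C) := ShortComplex.mk (kernel.ι φ) φ (kernel.condition φ)
    have hS : S.ShortExact :=
      ShortComplex.ShortExact.mk' (ShortComplex.exact_kernel φ)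
        (inferInstanceAs (Mono (kernel.ι φ))) hepi
    have b1 := bijective_g S hS 1 (hK _ (by omega)) (hK _ (by omega))
    exact (ConcreteCategory.isIso_iff_bijective _).2 b1

/-- Let k be a separably closed field and C a curve over k, that is a scheme of finite type over k of
dimension at most one (no connectedness, smoothness, separatedness or properness assumed). Let φ : F
→ G be a morphism of torsion abelian sheaves on the small étale site of C which induces an
isomorphism on stalks at every geometric point of C lying over a generic point of an irreducible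
component (a point admitting no proper generalization). Then the induced map H^q(C_ét, F) →
H^q(C_ét, G) is an isomorphism for all q > 1; if moreover φ is an epimorphism, it is an isomorphism
for q = 1 as well. (The published statement fixes one geometric point over each generic point; the
dimension is taken at most one here.) -/
theorem result
    (k : Type u) [Field k] [IsSepClosed k] (C : Scheme.{u})
    (f : C ⟶ Spec (CommRingCat.of k)) [LocallyOfFiniteType f] [QuasiCompact f]
    (hdim : topologicalKrullDim C ≤ 1) (F G : EtCoh.Ab C) (hF : EtCoh.IsTorsion F) (hG : EtCoh.IsTorsion G)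
    (φ : F ⟶ G)
    (hgen : ∀ (Ω : Type u) [Field Ω] [IsSepClosed Ω] (ξ : Spec (CommRingCat.of Ω) ⟶ C),
      (∀ x ∈ Set.range ξ.base, ∀ y : C, y ⤳ x → y = x) → IsIso ((EtCoh.stalk ξ).map φ)) :
    (∀ q : ℕ, 1 < q → IsIso ((EtCoh.HF C q).map φ)) ∧ (Epi φ → IsIso ((EtCoh.HF C 1).map φ)) := by
  exact main k C f hdim F G φ hgen

end Groth.Agent.S19484
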