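import Groth.Statements.S19485
import Groth.Agent.Lib.Helper4.PowerSeriesOrder

set_option autoImplicit false
universe u
open Crimp

namespace Groth.Agent.S19485

open W4c1hurwitzcpt

variable {k : Type u} [Field k]

theorem val_smul (r : PowerSeries k) (y : RootDisk 3 k) :
    RootDisk.val (r • y) = PowerSeries.expand 3 (by norm_num) r * RootDisk.val y := rfl

theorem mem_M_iff (u xn : RootDisk 3 k) (a : RootDisk 3 k) :
    a ∈ Submodule.span (PowerSeries k) {1, u} ⊔
        (Ideal.span {xn} : Ideal (RootDisk 3 k)).restrictScalars (PowerSeries k) ↔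
      ∃ (r₁ r₂ : PowerSeries k) (c : RootDisk 3 k), a = r₁ • 1 + r₂ • u + xn * c := by
  rw [Submodule.mem_sup]
  constructor
  · rintro ⟨y, hy, z, hz, rfl⟩
    obtain ⟨r₁, r₂, rfl⟩ := Submodule.mem_span_pair.mp hy
    rw [Submodule.restrictScalars_mem, Ideal.mem_span_singleton'] at hz
    obtain ⟨c, rfl⟩ := hz
    exact ⟨r₁, r₂, c, by rw [mul_comm c xn]⟩
  · rintro ⟨r₁, r₂, c, rfl⟩
    refine ⟨r₁ • 1 + r₂ • u, Submodule.mem_span_pair.mpr ⟨r₁, r₂, rfl⟩, xn * c, ?_, rfl⟩
    rw [Submodule.restrictScalars_mem, Ideal.mem_span_singleton']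
    exact ⟨c, mul_comm c xn⟩

/-- The criterion for closedness under multiplication on which the description of the stratum rests.
Over R = k⟦t⟧ with k an algebraically closed field of characteristic zero, let S̃ = k⟦x⟧ regarded as
an R-algebra through t ↦ x ^ 3, that is S̃ = R[x] / (x ^ 3 - t). Let m, n be natural numbers with m
not divisible by 3, and let g be a power series with nonzero constant term. Then the R-submodule of
S̃ spanned by 1 and x ^ m g together with the ideal x ^ n S̃ is closed under multiplication if and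
only if n ≤ 2m. (The published proposition goes on to describe the stratum of crimps with these
invariants as irreducible of dimension ⌊(n - m)/3⌋ with a normal form for g; only the closedness
criterion is stated here.) -/
theorem result {k : Type u} [Field k] [IsAlgClosed k] [CharZero k]
    (m n : ℕ) (hm : ¬ 3 ∣ m) (x g : W4c1hurwitzcpt.RootDisk 3 k)
    (hx : W4c1hurwitzcpt.RootDisk.val x = PowerSeries.X) (hg : PowerSeries.order (W4c1hurwitzcpt.RootDisk.val g) = 0)
    (M : Submodule (PowerSeries k) (W4c1hurwitzcpt.RootDisk 3 k))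
    (hM : M = Submodule.span (PowerSeries k) {1, x ^ m * g} ⊔
      (Ideal.span {x ^ n} : Ideal (W4c1hurwitzcpt.RootDisk 3 k)).restrictScalars (PowerSeries k)) :
    (∀ a ∈ M, ∀ b ∈ M, a * b ∈ M) ↔ n ≤ 2 * m := by
  subst hM
  constructor
  · intro hclosed
    by_contra hlt
    push Not at hlt
    have hu : x ^ m * g ∈ Submodule.span (PowerSeries k) {1, x ^ m * g} ⊔
        (Ideal.span {x ^ n} : Ideal (RootDisk 3 k)).restrictScalars (PowerSeries k) := by
      rw [mem_M_iff]
      exact ⟨0, 1, 0, by simp⟩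
    have := hclosed _ hu _ hu
    rw [mem_M_iff] at this
    obtain ⟨r₁, r₂, c, hc⟩ := this
    have hc' := congrArg RootDisk.val hc
    simp only [map_mul, map_add, map_pow, map_one, val_smul, hx, mul_one] at hc'
    refine Groth.Agent.Lib.helper4.sq_notMem_three (PowerSeries.X ^ m * RootDisk.val g)
      r₁ r₂ (RootDisk.val c) m n ?_ hm hlt hc'
    rw [PowerSeries.order_mul, PowerSeries.order_X_pow, hg, add_zero]
  · intro hle a ha b hb
    rw [mem_M_iff] at ha hb ⊢
    obtain ⟨r₁, r₂, c, rfl⟩ := ha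
    obtain ⟨s₁, s₂, c', rfl⟩ := hb
    have hpow : x ^ (2 * m) = x ^ n * x ^ (2 * m - n) := by
      rw [← pow_add]; congr 1; omega
    refine ⟨r₁ * s₁, r₁ * s₂ + r₂ * s₁,
      c * (s₁ • 1 + s₂ • (x ^ m * g) + x ^ n * c') + c' * (r₁ • 1 + r₂ • (x ^ m * g)) +
        (r₂ * s₂) • (x ^ (2 * m - n) * g * g), ?_⟩
    simp only [Algebra.smul_def, map_mul, map_add, mul_one]
    have hsq : x ^ m * g * (x ^ m * g) = x ^ n * (x ^ (2 * m - n) * g * g) := by
      have : x ^ m * g * (x ^ m * g) = x ^ (2 * m) * g * g := by ring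
      rw [this, hpow]; ring
    generalize algebraMap (PowerSeries k) (RootDisk 3 k) r₁ = R₁
    generalize algebraMap (PowerSeries k) (RootDisk 3 k) r₂ = R₂
    generalize algebraMap (PowerSeries k) (RootDisk 3 k) s₁ = S₁
    generalize algebraMap (PowerSeries k) (RootDisk 3 k) s₂ = S₂
    have : (R₁ + R₂ * (x ^ m * g) + x ^ n * c) * (S₁ + S₂ * (x ^ m * g) + x ^ n * c') =
        R₁ * S₁ + (R₁ * S₂ + R₂ * S₁) * (x ^ m * g) + R₂ * S₂ * (x ^ m * g * (x ^ m * g)) +
          x ^ n * (c * (S₁ + S₂ * (x ^ m * g) + x ^ n * c') + c' * (R₁ + R₂ * (x ^ m * g))) := by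
      ring
    rw [this, hsq]
    ring

end Groth.Agent.S19485
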