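import Groth.Statements.S19486
import Groth.Agent.Lib.Helper4.PowerSeriesOrder

set_option autoImplicit false
universe u
open Crimp

namespace Groth.Agent.S19486

open W4c1hurwitzcpt

variable {k : Type u} [Field k]

theorem val_smul (r : PowerSeries k) (y : RootDisk 2 k) :
    RootDisk.val (r • y) = PowerSeries.expand 2 (by norm_num) r * RootDisk.val y := rfl

/-- The emptiness of the stratum rests on the following computation. Over R = k⟦t⟧ with k an
algebraically closed field of characteristic zero, let S̃ = S̃₁ × R where S̃₁ = k⟦x⟧ is regarded as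
an R-algebra through t ↦ x ^ 2, that is S̃₁ = R[x] / (x ^ 2 - t), with R embedded diagonally in the
product. Let m be odd, n > 2m, and let g be a power series with nonzero constant term. Then the
R-submodule of S̃ spanned by 1 = (1, 1) and (x ^ m g, 0) together with the ideal x ^ n S̃₁ × 0 is
not closed under multiplication. (The published item concludes that the corresponding stratum of
crimps is empty; only this computation is stated here, with the ideal read as x ^ n S̃₁ × 0.) -/
theorem result {k : Type u} [Field k] [IsAlgClosed k] [CharZero k]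
    (m n : ℕ) (hm : Odd m) (hmn : 2 * m < n) (x g : W4c1hurwitzcpt.RootDisk 2 k)
    (hx : W4c1hurwitzcpt.RootDisk.val x = PowerSeries.X) (hg : PowerSeries.order (W4c1hurwitzcpt.RootDisk.val g) = 0)
    (M : Submodule (PowerSeries k) (W4c1hurwitzcpt.RootDisk 2 k × PowerSeries k))
    (hM : M = Submodule.span (PowerSeries k) {(1 : W4c1hurwitzcpt.RootDisk 2 k × PowerSeries k), (x ^ m * g, 0)} ⊔
      ((Ideal.span {x ^ n} : Ideal (W4c1hurwitzcpt.RootDisk 2 k)).restrictScalars (PowerSeries k)).prod ⊥) :
    ∃ a ∈ M, ∃ b ∈ M, a * b ∉ M := by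
  subst hM
  have hu : ((x ^ m * g, 0) : RootDisk 2 k × PowerSeries k) ∈
      Submodule.span (PowerSeries k) {(1 : RootDisk 2 k × PowerSeries k), (x ^ m * g, 0)} ⊔
      ((Ideal.span {x ^ n} : Ideal (RootDisk 2 k)).restrictScalars (PowerSeries k)).prod ⊥ :=
    Submodule.mem_sup_left (Submodule.subset_span (by simp))
  refine ⟨_, hu, _, hu, fun hmem => ?_⟩
  rw [Submodule.mem_sup] at hmem
  obtain ⟨y, hy, z, hz, hyz⟩ := hmem
  obtain ⟨r₁, r₂, rfl⟩ := Submodule.mem_span_pair.mp hy
  rw [Submodule.mem_prod] at hz
  obtain ⟨hz1, hz2⟩ := hz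
  rw [Submodule.restrictScalars_mem, Ideal.mem_span_singleton'] at hz1
  obtain ⟨c, hc⟩ := hz1
  rw [Submodule.mem_bot] at hz2
  have h1 := congrArg Prod.fst hyz
  have h2 := congrArg Prod.snd hyz
  simp only [Prod.fst_add, Prod.smul_fst, Prod.fst_one, Prod.fst_mul] at h1
  simp only [Prod.snd_add, Prod.smul_snd, Prod.snd_one, Prod.snd_mul, add_zero,
    mul_zero, hz2, smul_eq_mul, mul_one] at h2
  subst h2
  rw [← hc, zero_smul, zero_add] at h1
  have h1' := congrArg RootDisk.val h1
  simp only [map_mul, map_add, map_pow, val_smul, hx] at h1'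
  refine Groth.Agent.Lib.helper4.sq_notMem_two (PowerSeries.X ^ m * RootDisk.val g)
    r₂ (RootDisk.val c) m n ?_ hm hmn ?_
  · rw [PowerSeries.order_mul, PowerSeries.order_X_pow, hg, add_zero]
  · rw [← h1']
    ring

end Groth.Agent.S19486
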