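import Groth.Statements.S19487
import Mathlib
import Groth.Agent.S14039

set_option autoImplicit false
open W4c1frobunstiva

namespace Groth.Agent.S19487

section helpers
section hh
open PowerSeries

/-- generic product generating function -/
theorem coeff_prod_gen (p n s : ℕ) (c : Fin n → Fin p → Prop) [∀ i e, Decidable (c i e)] :
    coeff s (∏ i : Fin n, ∑ e : Fin p, if c i e then (X : PowerSeries ℤ) ^ (e : ℕ) else 0) =
      ((Finset.univ.filter fun t : Fin n → Fin p =>
        (∀ i, c i (t i)) ∧ ∑ i, (t i : ℕ) = s).card : ℤ) := by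
  have h1 : (∏ i : Fin n, ∑ e : Fin p, if c i e then (X : PowerSeries ℤ) ^ (e : ℕ) else 0)
      = ∑ t : Fin n → Fin p,
      if (∀ i, c i (t i)) then (X : PowerSeries ℤ) ^ (∑ i, (t i : ℕ)) else 0 := by
    rw [Finset.prod_univ_sum, Fintype.piFinset_univ]
    refine Finset.sum_congr rfl fun t _ => ?_
    rw [Finset.prod_ite_zero]
    simp only [Finset.mem_univ, forall_true_left]
    split_ifs
    · rw [Finset.prod_pow_eq_pow_sum]
    · rfl
  rw [h1, map_sum, Finset.card_filter]
  push_cast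
  refine Finset.sum_congr rfl fun t _ => ?_
  by_cases h : ∀ i, c i (t i)
  · rw [if_pos h, coeff_X_pow]
    by_cases h2 : ∑ i, (t i : ℕ) = s
    · rw [if_pos h2.symm, if_pos ⟨h, h2⟩]
    · rw [if_neg (fun h' => h2 h'.symm), if_neg (fun h' => h2 h'.2)]
  · rw [if_neg h, map_zero, if_neg (fun h' => h h'.1)]

theorem small_gen (h : ℕ) :
    (∑ e : Fin (2 * h + 1), if (1 ≤ (e : ℕ) ∧ 2 * (e : ℕ) < 2 * h + 1) then
      (X : PowerSeries ℤ) ^ (e : ℕ) else 0) = Groth.Agent.S14039.P (h + 1) := by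
  rw [Groth.Agent.S14039.P_eq_range,
    Fin.sum_univ_eq_sum_range (fun e => if (1 ≤ e ∧ 2 * e < 2 * h + 1) then
      (X : PowerSeries ℤ) ^ e else 0) (2 * h + 1)]
  symm
  have hsub : Finset.range (h + 1) ⊆ Finset.range (2 * h + 1) := by
    intro x hx
    rw [Finset.mem_range] at hx ⊢
    omega
  rw [← Finset.sum_subset hsub]
  · refine Finset.sum_congr rfl fun e he => ?_
    rw [Finset.mem_range] at he
    by_cases h1 : 1 ≤ e
    · rw [if_pos h1, if_pos ⟨h1, by omega⟩]
    · rw [if_neg h1, if_neg (fun h' => h1 h'.1)]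
  · intro e _ he
    rw [Finset.mem_range] at he
    rw [if_neg]
    intro h'
    omega

theorem large_gen (h : ℕ) :
    (∑ e : Fin (2 * h + 1), if (1 ≤ (e : ℕ) ∧ ¬ 2 * (e : ℕ) < 2 * h + 1) then
      (X : PowerSeries ℤ) ^ (e : ℕ) else 0) = X ^ h * Groth.Agent.S14039.P (h + 1) := by
  rw [Groth.Agent.S14039.P_eq_range,
    Fin.sum_univ_eq_sum_range (fun e => if (1 ≤ e ∧ ¬ 2 * e < 2 * h + 1) then
      (X : PowerSeries ℤ) ^ e else 0) (2 * h + 1)]
  have e1 : 2 * h + 1 = h + (h + 1) := by ring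
  rw [e1, Finset.sum_range_add, Finset.mul_sum]
  have hz : ∑ x ∈ Finset.range h, (if (1 ≤ x ∧ ¬ 2 * x < h + (h + 1)) then
      (X : PowerSeries ℤ) ^ x else 0) = 0 := by
    apply Finset.sum_eq_zero
    intro x hx
    rw [Finset.mem_range] at hx
    rw [if_neg]
    intro h'
    omega
  rw [hz, zero_add]
  refine Finset.sum_congr rfl fun e he => ?_
  rw [Finset.mem_range] at he
  by_cases h1 : 1 ≤ e
  · rw [if_pos h1, if_pos ⟨by omega, by omega⟩, pow_add]
  · rw [if_neg h1, if_neg (fun h' => by omega), mul_zero]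


theorem gen_S (h n : ℕ) (S : Finset (Fin n)) :
    (∏ i : Fin n, ∑ e : Fin (2 * h + 1),
      if (1 ≤ (e : ℕ) ∧ (2 * (e : ℕ) < 2 * h + 1 ↔ i ∈ S)) then
        (X : PowerSeries ℤ) ^ (e : ℕ) else 0)
    = Groth.Agent.S14039.P (h + 1) ^ S.card *
        (X ^ h * Groth.Agent.S14039.P (h + 1)) ^ (n - S.card) := by
  have key : ∀ i : Fin n, (∑ e : Fin (2 * h + 1),
      if (1 ≤ (e : ℕ) ∧ (2 * (e : ℕ) < 2 * h + 1 ↔ i ∈ S)) then
        (X : PowerSeries ℤ) ^ (e : ℕ) else 0)
      = if i ∈ S then Groth.Agent.S14039.P (h + 1) else X ^ h * Groth.Agent.S14039.P (h + 1) := by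
    intro i
    split_ifs with hi
    · rw [← small_gen]
      refine Finset.sum_congr rfl fun e _ => ?_
      simp only [hi, iff_true]
    · rw [← large_gen]
      refine Finset.sum_congr rfl fun e _ => ?_
      simp only [hi, iff_false]
  simp only [key]
  rw [Finset.prod_ite, Finset.prod_const, Finset.prod_const]
  have c1 : (Finset.univ.filter fun i : Fin n => i ∈ S).card = S.card := by
    congr 1
    ext i
    simp
  have c2 : (Finset.univ.filter fun i : Fin n => i ∉ S).card = n - S.card := by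
    have : (Finset.univ.filter fun i : Fin n => i ∉ S) = Sᶜ := by
      ext i
      simp
    rw [this, Finset.card_compl, Fintype.card_fin]
  rw [c1, c2]

theorem card_zero_of_pos (q m : ℕ) (hm : 1 ≤ m) :
    Fintype.card {e : Fin m → Fin q // (∀ i, 1 ≤ (e i : ℕ)) ∧ ∑ i, (e i : ℕ) = 0} = 0 := by
  rw [Fintype.card_eq_zero_iff]
  constructor
  rintro ⟨e, he1, he2⟩
  have i0 : Fin m := ⟨0, by omega⟩
  have h1 := he1 i0
  have h2 : (e i0 : ℕ) ≤ ∑ i, (e i : ℕ) :=
    Finset.single_le_sum (f := fun i => (e i : ℕ)) (fun i _ => Nat.zero_le _) (Finset.mem_univ i0)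
  omega

theorem main (h n s D : ℕ) :
    Fintype.card {e : Fin n → Fin (2 * h + 1) // (∀ i, 1 ≤ (e i : ℕ)) ∧ ∑ i, (e i : ℕ) = s ∧
        (Finset.univ.filter fun i => 2 * (e i : ℕ) < 2 * h + 1).card = D} =
      n.choose D * ∑ j ∈ Finset.range (s + 1),
        Fintype.card {e : Fin D → Fin (h + 1) // (∀ i, 1 ≤ (e i : ℕ)) ∧ ∑ i, (e i : ℕ) = j} *
          Fintype.card {e : Fin (n - D) → Fin (h + 1) //
            (∀ i, 1 ≤ (e i : ℕ)) ∧ ∑ i, (e i : ℕ) = (s - j - (n - D) * h)} := by
  classical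
  rw [Fintype.card_subtype]
  set 𝒯 := Finset.univ.filter (fun e : Fin n → Fin (2 * h + 1) =>
    (∀ i, 1 ≤ (e i : ℕ)) ∧ ∑ i, (e i : ℕ) = s ∧
        (Finset.univ.filter fun i => 2 * (e i : ℕ) < 2 * h + 1).card = D) with h𝒯
  have hmaps : (𝒯 : Set (Fin n → Fin (2 * h + 1))).MapsTo
      (fun e => Finset.univ.filter fun i => 2 * (e i : ℕ) < 2 * h + 1)
      (Finset.powersetCard D (Finset.univ : Finset (Fin n))) := by
    intro e he
    rw [Finset.mem_coe, h𝒯, Finset.mem_filter] at he
    rw [Finset.mem_coe, Finset.mem_powersetCard]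
    exact ⟨Finset.subset_univ _, he.2.2.2⟩
  rw [Finset.card_eq_sum_card_fiberwise hmaps]
  -- each fibre
  have hfib : ∀ S ∈ Finset.powersetCard D (Finset.univ : Finset (Fin n)),
      ((𝒯.filter fun e => (Finset.univ.filter fun i => 2 * (e i : ℕ) < 2 * h + 1) = S).card : ℤ)
      = coeff s (Groth.Agent.S14039.P (h + 1) ^ D *
        (X ^ h * Groth.Agent.S14039.P (h + 1)) ^ (n - D)) := by
    intro S hS
    rw [Finset.mem_powersetCard] at hS
    rw [← hS.2, ← gen_S, coeff_prod_gen]
    congr 2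
    ext e
    simp only [h𝒯, Finset.mem_filter, Finset.mem_univ, true_and]
    constructor
    · rintro ⟨⟨h1, h2, _⟩, h4⟩
      refine ⟨fun i => ⟨h1 i, ?_⟩, h2⟩
      rw [← h4]
      simp
    · rintro ⟨h1, h2⟩
      have hF : (Finset.univ.filter fun i => 2 * (e i : ℕ) < 2 * h + 1) = S := by
        ext i
        simp only [Finset.mem_filter, Finset.mem_univ, true_and]
        exact (h1 i).2
      exact ⟨⟨fun i => (h1 i).1, h2, by rw [hF]; exact hS.2⟩, hF⟩
  apply Nat.cast_injective (R := ℤ)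
  push_cast
  rw [Finset.sum_congr rfl hfib, Finset.sum_const, Finset.card_powersetCard, Finset.card_univ,
    Fintype.card_fin, nsmul_eq_mul]
  congr 1
  rw [mul_pow, ← pow_mul, coeff_mul, Finset.Nat.sum_antidiagonal_eq_sum_range_succ_mk]
  refine Finset.sum_congr rfl fun j hj => ?_
  rw [Groth.Agent.S14039.P_pow_coeff, coeff_X_pow_mul']
  congr 1
  split_ifs with hle
  · rw [Groth.Agent.S14039.P_pow_coeff, mul_comm h (n - D)]
  · have hpos : 1 ≤ n - D := by
      by_contra hcon
      have : n - D = 0 := by omega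
      rw [this, mul_zero] at hle
      exact hle (Nat.zero_le _)
    have hz : s - j - (n - D) * h = 0 := by
      rw [mul_comm] at hle
      omega
    rw [hz, card_zero_of_pos (h + 1) (n - D) hpos]
    rfl

end hh


end helpers

/-- The second formula. For p odd and natural numbers n, s, write N_p(n, s) for the number of monomials
of degree s in n variables in which every variable occurs with a positive exponent strictly less
than p, that is of exponent vectors (e_1, …, e_n) with sum s and 1 ≤ e_i ≤ p − 1, and N_p^D(n, s)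
for the number of those in which exactly D variables occur with exponent less than p/2. Then
N_p^D(n, s) = C(n, D) · Σ_j N_{(p+1)/2}(D, j) · N_{(p+1)/2}(n − D, s − j − (n − D)(p − 1)/2), the
sum running over 0 ≤ j ≤ s. (Natural-number subtraction is used in the last argument; when it
truncates and n > D the factor vanishes, as it should. The published setting has p an odd prime;
only p odd is used. The companion inclusion–exclusion expression for N_p(n, s) itself is a separate
statement.) -/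
theorem result (p n s D : ℕ) (hp : Odd p) :
    Fintype.card {e : Fin n → Fin p // (∀ i, 1 ≤ (e i : ℕ)) ∧ ∑ i, (e i : ℕ) = s ∧
        (Finset.univ.filter fun i => 2 * (e i : ℕ) < p).card = D} =
      n.choose D * ∑ j ∈ Finset.range (s + 1),
        Fintype.card {e : Fin D → Fin ((p + 1) / 2) // (∀ i, 1 ≤ (e i : ℕ)) ∧ ∑ i, (e i : ℕ) = j} *
          Fintype.card {e : Fin (n - D) → Fin ((p + 1) / 2) // (∀ i, 1 ≤ (e i : ℕ)) ∧ ∑ i, (e i : ℕ) = (s - j - (n - D) * ((p - 1) / 2))} := by
  obtain ⟨h, rfl⟩ := hp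
  have hh1 : (2 * h + 1 + 1) / 2 = h + 1 := by omega
  have hh2 : (2 * h + 1 - 1) / 2 = h := by omega
  rw [hh2]
  generalize hq : (2 * h + 1 + 1) / 2 = q
  rw [hh1] at hq
  subst hq
  exact main h n s D

end Groth.Agent.S19487
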