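import Groth.Statements.S19488
import Mathlib.Algebra.Homology.ShortComplex.Exact
import Mathlib.Algebra.Homology.ShortComplex.ExactFunctor

set_option autoImplicit false
universe u
open CategoryTheory CategoryTheory.Limits AlgebraicGeometry
open W4c1frobunstiva

namespace Groth.Agent.S19488

/-- Pushforward of modules along a closed immersion is faithful on morphisms. -/
theorem pushforward_map_injective {S T : Scheme.{u}} (f : S ⟶ T) [IsClosedImmersion f]
    {M N : S.Modules} (φ ψ : M ⟶ N)
    (h : (Scheme.Modules.pushforward f).map φ = (Scheme.Modules.pushforward f).map ψ) : φ = ψ := by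
  apply Scheme.Modules.hom_ext
  intro V
  obtain ⟨U, hU, hUV⟩ := f.isClosedEmbedding.isInducing.isOpen_iff.mp V.2
  have hV : V = f ⁻¹ᵁ ⟨U, hU⟩ := by
    apply TopologicalSpace.Opens.ext
    exact hUV.symm
  subst hV
  have := congrArg (fun α => Scheme.Modules.Hom.app α ⟨U, hU⟩) h
  simpa using this

/-- Fix a closed immersion of schemes f : S → T, an O_T-module G, an O_S-module E and an epimorphism ψ :
G → f_*E. Then the morphism ψ′ : f^*G → E that corresponds to ψ under the adjunction between
pullback and pushforward (it is the pullback f^*ψ followed by the counit f^*f_*E → E, an isomorphism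
for a closed immersion) is an epimorphism, and the canonical map f^*(ker ψ) → ker(f^*ψ) is an
epimorphism. (The published statement takes G and E locally free, which these two assertions do not
use.) -/
theorem result
    {S T : Scheme.{u}} (f : S ⟶ T) [IsClosedImmersion f] (G : T.Modules) (E : S.Modules)
    (ψ : G ⟶ (Scheme.Modules.pushforward f).obj E) [Epi ψ] :
    Epi (((Scheme.Modules.pullbackPushforwardAdjunction f).homEquiv G E).symm ψ) ∧
      Epi (kernelComparison ψ (Scheme.Modules.pullback f)) := by
  constructor
  · constructor
    intro Z h₁ h₂ h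
    apply pushforward_map_injective f
    rw [← cancel_epi ψ]
    have e₁ := (Scheme.Modules.pullbackPushforwardAdjunction f).homEquiv_naturality_right
      (((Scheme.Modules.pullbackPushforwardAdjunction f).homEquiv G E).symm ψ) h₁
    have e₂ := (Scheme.Modules.pullbackPushforwardAdjunction f).homEquiv_naturality_right
      (((Scheme.Modules.pullbackPushforwardAdjunction f).homEquiv G E).symm ψ) h₂
    rw [Equiv.apply_symm_apply] at e₁ e₂
    rw [← e₁, ← e₂, h]
  · let Sc : ShortComplex T.Modules := ShortComplex.mk (kernel.ι ψ) ψ (kernel.condition ψ)
    have hSc : Sc.Exact := ShortComplex.exact_of_f_is_kernel _ (kernelIsKernel ψ)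
    have hmap : (Sc.map (Scheme.Modules.pullback f)).Exact :=
      hSc.map_of_epi_of_preservesCokernel (Scheme.Modules.pullback f) (inferInstanceAs (Epi ψ))
        inferInstance
    exact hmap.epi_kernelLift

end Groth.Agent.S19488
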