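import Groth.Statements.S19489
import Mathlib

set_option autoImplicit false
open scoped TensorProduct
open ZeroCyc

namespace Groth.Agent.S19489

section aux
variable (p : ℕ) [Fact p.Prime] (k : Type) [Field k] [CharP k p]

theorem cast_zero_of_alg (S : Type) [CommSemiring S] [Algebra k S] : ((p : ℕ) : S) = 0 := by
  rw [← map_natCast (algebraMap k S) p, CharP.cast_eq_zero k p, map_zero]

theorem add_pow_S (S : Type) [CommSemiring S] [Algebra k S] (x y : S) :
    (x + y) ^ p = x ^ p + y ^ p := by
  obtain ⟨r, hr⟩ := exists_add_pow_prime_eq (Fact.out : p.Prime) x y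
  rw [hr, cast_zero_of_alg p k S, zero_mul, zero_mul, zero_mul, add_zero]

theorem smul_twist (c : k) (a : FrobAlg.Twist p k) :
    (FrobAlg.toTwist p k).symm (c • a) = c ^ p * (FrobAlg.toTwist p k).symm a := by
  rw [Algebra.smul_def, FrobAlg.algebraMap_twist, map_mul, RingEquiv.symm_apply_apply]

/-- the bi-additive map `(s, a) ↦ s ^ p ⊗ a` -/
noncomputable def fS (S : Type) [CommSemiring S] [Algebra k S] :
    S →+ FrobAlg.Twist p k →+ S ⊗[k] k where
  toFun s :=
    { toFun := fun a => (s ^ p) ⊗ₜ[k] (FrobAlg.toTwist p k).symm a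
      map_zero' := by rw [map_zero, TensorProduct.tmul_zero]
      map_add' := fun a a' => by rw [map_add, TensorProduct.tmul_add] }
  map_zero' := by
    ext a
    show ((0 : S) ^ p) ⊗ₜ[k] (FrobAlg.toTwist p k).symm a = 0
    rw [zero_pow (Fact.out : p.Prime).ne_zero, TensorProduct.zero_tmul]
  map_add' s s' := by
    ext a
    show ((s + s') ^ p) ⊗ₜ[k] (FrobAlg.toTwist p k).symm a =
      (s ^ p) ⊗ₜ[k] (FrobAlg.toTwist p k).symm a + (s' ^ p) ⊗ₜ[k] (FrobAlg.toTwist p k).symm a
    rw [add_pow_S p k S, TensorProduct.add_tmul]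

/-- the member of the Frobenius law over `S` -/
noncomputable def FS (S : Type) [CommSemiring S] [Algebra k S] :
    S ⊗[k] FrobAlg.Twist p k →+ S ⊗[k] k :=
  TensorProduct.liftAddHom (fS p k S) (by
    intro c s a
    show ((c • s) ^ p) ⊗ₜ[k] (FrobAlg.toTwist p k).symm a =
      (s ^ p) ⊗ₜ[k] (FrobAlg.toTwist p k).symm (c • a)
    rw [smul_twist, smul_pow, ← smul_eq_mul (c ^ p), TensorProduct.smul_tmul])

theorem FS_tmul (S : Type) [CommSemiring S] [Algebra k S] (s : S) (a : FrobAlg.Twist p k) :
    FS p k S (s ⊗ₜ[k] a) = (s ^ p) ⊗ₜ[k] (FrobAlg.toTwist p k).symm a := rfl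

noncomputable def frobLaw : FrobAlg.Twist p k →ₚₗ[k] k where
  toFun' S _ _ := fun x => FS p k S x
  isCompat' {S} _ _ {S'} _ _ φ := by
    funext x
    simp only [Function.comp_apply]
    induction x using TensorProduct.induction_on with
    | zero => rw [map_zero, map_zero, map_zero, map_zero]
    | tmul s a =>
      rw [LinearMap.rTensor_tmul, FS_tmul, FS_tmul, LinearMap.rTensor_tmul,
        AlgHom.toLinearMap_apply, map_pow]
      rfl
    | add x y hx hy => rw [map_add, map_add, hx, hy, map_add, map_add]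

noncomputable def frobMulLaw : PolLaw.MulLaw k (FrobAlg.Twist p k) k p where
  law := frobLaw p k
  homog S _ _ s x := by
    show FS p k S (s • x) = s ^ p • FS p k S x
    induction x using TensorProduct.induction_on with
    | zero => rw [smul_zero, map_zero, smul_zero]
    | tmul s1 a =>
      rw [TensorProduct.smul_tmul', FS_tmul, FS_tmul, TensorProduct.smul_tmul', smul_eq_mul,
        smul_eq_mul, mul_pow]
    | add x y hx hy => rw [smul_add, map_add, hx, hy, map_add, smul_add]
  mult S _ _ := by
    refine ⟨?_, fun x y => ?_⟩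
    · show FS p k S 1 = 1
      rw [Algebra.TensorProduct.one_def, FS_tmul, one_pow, map_one]
      rfl
    · show FS p k S (x * y) = FS p k S x * FS p k S y
      induction x using TensorProduct.induction_on with
      | zero => rw [zero_mul, map_zero, zero_mul]
      | tmul s a =>
        induction y using TensorProduct.induction_on with
        | zero => rw [mul_zero, map_zero, mul_zero]
        | tmul s' a' =>
          rw [Algebra.TensorProduct.tmul_mul_tmul, FS_tmul, FS_tmul, FS_tmul,
            Algebra.TensorProduct.tmul_mul_tmul, mul_pow, map_mul]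
        | add y y' hy hy' => rw [mul_add, map_add, hy, hy', map_add, mul_add]
      | add x x' hx hx' => rw [add_mul, map_add, hx, hx', map_add, add_mul]

theorem ker_eq_bot (F : PolLaw.MulLaw k (FrobAlg.Twist p k) k p)
    (hF : ∀ (S : Type) [CommSemiring S] [Algebra k S] (s : S) (a : FrobAlg.Twist p k),
      F.law.toFun' S (s ⊗ₜ[k] a) = (s ^ p) ⊗ₜ[k] (FrobAlg.toTwist p k).symm a) :
    PolLaw.ker F.law = ⊥ := by
  rw [eq_bot_iff]
  intro b hb
  have hb' : ∀ (S : Type) [CommSemiring S] [Algebra k S] (x w : S ⊗[k] FrobAlg.Twist p k),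
      F.law.toFun' S (x + w * ((1 : S) ⊗ₜ[k] b)) = F.law.toFun' S x := hb
  have hz : F.law.toFun' k (0 : k ⊗[k] FrobAlg.Twist p k) = 0 := by
    have h0 := hF k 0 0
    rwa [TensorProduct.zero_tmul, zero_pow (Fact.out : p.Prime).ne_zero,
      TensorProduct.zero_tmul] at h0
  have h1 := hb' k 0 ((1 : k) ⊗ₜ[k] (1 : FrobAlg.Twist p k))
  rw [zero_add, Algebra.TensorProduct.tmul_mul_tmul, one_mul, one_mul, hF, hz, one_pow] at h1
  have h2 := congrArg (TensorProduct.lid k k) h1
  rw [TensorProduct.lid_tmul, one_smul, map_zero] at h2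
  have h3 : b = 0 := (FrobAlg.toTwist p k).symm.injective (h2.trans (map_zero _).symm)
  rw [h3]
  exact Submodule.zero_mem _

end aux

section part3
open MvPolynomial
variable (p : ℕ) [Fact p.Prime]

theorem poly_indep (s : Finset ℕ) (f : ℕ → MvPolynomial ℕ (ZMod p))
    (h : ∑ i ∈ s, f i ^ p * X i = 0) : ∀ j ∈ s, f j = 0 := by
  classical
  intro j hj
  have h1 := congrArg (MvPolynomial.pderiv j) h
  rw [map_sum, map_zero] at h1
  have h2 : ∀ i ∈ s, pderiv j (f i ^ p * X i) = if i = j then f j ^ p else 0 := by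
    intro i _
    rw [Derivation.leibniz, Derivation.leibniz_pow, MvPolynomial.pderiv_X]
    have h3 : (p : ℕ) • (f i ^ (p - 1) • pderiv j (f i)) = 0 := by
      rw [nsmul_eq_mul, CharP.cast_eq_zero (MvPolynomial ℕ (ZMod p)) p, zero_mul]
    rw [h3, smul_zero, add_zero]
    by_cases hij : i = j
    · subst hij
      simp
    · rw [if_neg hij, Pi.single_apply, if_neg hij, smul_zero]
  rw [Finset.sum_congr rfl h2, Finset.sum_ite_eq' s j, if_pos hj] at h1
  exact (pow_eq_zero_iff (Fact.out : p.Prime).ne_zero).mp h1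

theorem not_finite_twist :
    ¬ Module.Finite (FractionRing (MvPolynomial ℕ (ZMod p)))
      (FrobAlg.Twist p (FractionRing (MvPolynomial ℕ (ZMod p)))) := by
  classical
  intro hfin
  have hli : LinearIndependent (FractionRing (MvPolynomial ℕ (ZMod p)))
      (fun i : ℕ => FrobAlg.toTwist p (FractionRing (MvPolynomial ℕ (ZMod p)))
        (algebraMap (MvPolynomial ℕ (ZMod p)) (FractionRing (MvPolynomial ℕ (ZMod p))) (X i))) := by
    rw [linearIndependent_iff']
    intro s g hsum i hi
    have h1 : ∑ i ∈ s, (g i) ^ p * algebraMap (MvPolynomial ℕ (ZMod p))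
        (FractionRing (MvPolynomial ℕ (ZMod p))) (X i) = 0 := by
      have h0 := congrArg (FrobAlg.toTwist p (FractionRing (MvPolynomial ℕ (ZMod p)))).symm hsum
      rw [map_sum, map_zero] at h0
      rw [← h0]
      refine Finset.sum_congr rfl fun i _ => ?_
      rw [smul_twist, RingEquiv.symm_apply_apply]
    obtain ⟨b, hb⟩ := IsLocalization.exist_integer_multiples_of_finset
      (nonZeroDivisors (MvPolynomial ℕ (ZMod p))) (s.image g)
    have hf : ∀ i, ∃ f : MvPolynomial ℕ (ZMod p), i ∈ s →
        algebraMap (MvPolynomial ℕ (ZMod p)) (FractionRing (MvPolynomial ℕ (ZMod p))) f =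
          (b : MvPolynomial ℕ (ZMod p)) • g i := by
      intro i
      by_cases hi : i ∈ s
      · obtain ⟨f, hf⟩ := hb (g i) (Finset.mem_image_of_mem g hi)
        exact ⟨f, fun _ => hf⟩
      · exact ⟨0, fun h => absurd h hi⟩
    choose f hf using hf
    have h2 : ∑ i ∈ s, f i ^ p * X i = 0 := by
      apply IsFractionRing.injective (MvPolynomial ℕ (ZMod p))
        (FractionRing (MvPolynomial ℕ (ZMod p)))
      rw [map_sum, map_zero]
      have h3 : ∀ i ∈ s, algebraMap (MvPolynomial ℕ (ZMod p))
          (FractionRing (MvPolynomial ℕ (ZMod p))) (f i ^ p * X i) =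
          (algebraMap (MvPolynomial ℕ (ZMod p)) (FractionRing (MvPolynomial ℕ (ZMod p)))
            (b : MvPolynomial ℕ (ZMod p))) ^ p * ((g i) ^ p * algebraMap (MvPolynomial ℕ (ZMod p))
              (FractionRing (MvPolynomial ℕ (ZMod p))) (X i)) := by
        intro i hi
        rw [map_mul, map_pow, hf i hi, Algebra.smul_def, mul_pow, mul_assoc]
      rw [Finset.sum_congr rfl h3, ← Finset.mul_sum, h1, mul_zero]
    have h3 := poly_indep p s f h2 i hi
    have h4 := hf i hi
    rw [h3, map_zero, Algebra.smul_def] at h4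
    have hb0 : algebraMap (MvPolynomial ℕ (ZMod p)) (FractionRing (MvPolynomial ℕ (ZMod p)))
        (b : MvPolynomial ℕ (ZMod p)) ≠ 0 := by
      intro h
      have h5 := IsFractionRing.injective (MvPolynomial ℕ (ZMod p))
        (FractionRing (MvPolynomial ℕ (ZMod p))) (h.trans (map_zero _).symm)
      exact nonZeroDivisors.coe_ne_zero b h5
    exact (mul_eq_zero.mp h4.symm).resolve_left hb0
  exact Module.Finite.not_linearIndependent_of_infinite _ hli

end part3



/-- Let p be a prime, k = F_p(t_0, t_1, …) the field of rational functions over F_p in countably many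
variables, and K = k^{1/p} = F_p(t_0^{1/p}, t_1^{1/p}, …), modelled here as a copy of k made into a
k-algebra through the Frobenius b ↦ b ^ p (under a ↦ a ^ p the extension k ⊆ k^{1/p} becomes this
algebra). Then a ↦ a ^ p is a multiplicative polynomial law from K to k over k, homogeneous of
degree p: there is such a law sending s ⊗ a to s ^ p ⊗ a ^ p on every test algebra S, where a ^ p is
read in k. Every such law has zero kernel, so the support of the corresponding family of zero-cycles
of degree p on Spec K over Spec k is all of Spec K; and K is not finite over k. Thus the support of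
a family of zero-cycles need not be finite over the base. -/
theorem result (p : ℕ) [Fact p.Prime] :
    (∃ F : PolLaw.MulLaw (FractionRing (MvPolynomial ℕ (ZMod p))) (FrobAlg.Twist p (FractionRing (MvPolynomial ℕ (ZMod p)))) (FractionRing (MvPolynomial ℕ (ZMod p))) p,
      ∀ (S : Type) [CommSemiring S] [Algebra (FractionRing (MvPolynomial ℕ (ZMod p))) S] (s : S) (a : FrobAlg.Twist p (FractionRing (MvPolynomial ℕ (ZMod p)))),
        F.law.toFun' S (s ⊗ₜ[FractionRing (MvPolynomial ℕ (ZMod p))] a) =
          (s ^ p) ⊗ₜ[FractionRing (MvPolynomial ℕ (ZMod p))] (FrobAlg.toTwist p (FractionRing (MvPolynomial ℕ (ZMod p)))).symm a) ∧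
    (∀ F : PolLaw.MulLaw (FractionRing (MvPolynomial ℕ (ZMod p))) (FrobAlg.Twist p (FractionRing (MvPolynomial ℕ (ZMod p)))) (FractionRing (MvPolynomial ℕ (ZMod p))) p,
      (∀ (S : Type) [CommSemiring S] [Algebra (FractionRing (MvPolynomial ℕ (ZMod p))) S] (s : S) (a : FrobAlg.Twist p (FractionRing (MvPolynomial ℕ (ZMod p)))),
        F.law.toFun' S (s ⊗ₜ[FractionRing (MvPolynomial ℕ (ZMod p))] a) =
          (s ^ p) ⊗ₜ[FractionRing (MvPolynomial ℕ (ZMod p))] (FrobAlg.toTwist p (FractionRing (MvPolynomial ℕ (ZMod p)))).symm a) →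
      PolLaw.ker F.law = ⊥) ∧
    ¬ Module.Finite (FractionRing (MvPolynomial ℕ (ZMod p))) (FrobAlg.Twist p (FractionRing (MvPolynomial ℕ (ZMod p)))) := by
  refine ⟨⟨frobMulLaw p _, fun S _ _ s a => rfl⟩, fun F hF => ker_eq_bot p _ F hF, not_finite_twist p⟩


end Groth.Agent.S19489
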