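import Groth.Statements.S19500
import Mathlib
import Groth.Agent.Lib.Helper6.TPoint4

set_option autoImplicit false
universe u
open Cubic

namespace Groth.Agent.S19500

open MvPolynomial Groth.Agent.Lib.Helper6.TPoint Groth.Agent.S16352 in


/-- Let K be an algebraically closed field of characteristic zero and S = V(F) ⊂ P^3_K a cubic surface
(F homogeneous of degree 3) which is irreducible and not a cone (no nonzero vector v has Σ_i v_i
∂F/∂x_i = 0). For a nonzero vector b with F(b) = 0 write ℓ_b = Σ_i ∂F/∂x_i(b) · x_i for the linear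
form of the tangent plane at b; call b a T-point when b is a smooth point of S (some ∂F/∂x_i(b) ≠ 0)
and F is congruent modulo ℓ_b to a product of three linear forms (the plane cubic T_b S ∩ S is
set-theoretically a union of lines). Let a be a smooth point of S which is not a T-point and H ⊂ K^4
the hyperplane ℓ_a = 0 (the tangent plane T_a S). Then T_a S contains only finitely many T-points of
S: the set of one-dimensional subspaces U ≤ H all of whose nonzero vectors are T-points is finite. -/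
theorem result (K : Type u) [Field K] [IsAlgClosed K]
    [CharZero K] (F : MvPolynomial (Fin 4) K) (hF : F.IsHomogeneous 3) (hirr : Irreducible F)
    (hcone : ¬ ∃ v : Fin 4 → K, v ≠ 0 ∧ ∑ i : Fin 4, v i • MvPolynomial.pderiv i F = 0)
    (tp : (Fin 4 → K) → Prop)
    (htp : ∀ b : Fin 4 → K, tp b ↔ (b ≠ 0 ∧ MvPolynomial.eval b F = 0 ∧
      (∃ i : Fin 4, MvPolynomial.eval b (MvPolynomial.pderiv i F) ≠ 0) ∧
      ∃ L₁ L₂ L₃ : MvPolynomial (Fin 4) K, L₁.IsHomogeneous 1 ∧ L₂.IsHomogeneous 1 ∧ L₃.IsHomogeneous 1 ∧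
        F - L₁ * L₂ * L₃ ∈ Ideal.span {∑ i : Fin 4,
          MvPolynomial.C (MvPolynomial.eval b (MvPolynomial.pderiv i F)) * MvPolynomial.X i}))
    (a : Fin 4 → K) (haF : MvPolynomial.eval a F = 0)
    (hsm : ∃ i : Fin 4, MvPolynomial.eval a (MvPolynomial.pderiv i F) ≠ 0) (ha : ¬ tp a)
    (H : Submodule K (Fin 4 → K))
    (hH : ∀ x : Fin 4 → K, x ∈ H ↔ MvPolynomial.eval x (∑ i : Fin 4,
      MvPolynomial.C (MvPolynomial.eval a (MvPolynomial.pderiv i F)) * MvPolynomial.X i) = 0) :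
    Set.Finite {U : Submodule K (Fin 4 → K) | Module.finrank K ↥U = 1 ∧ U ≤ H ∧
      ∀ b ∈ U, b ≠ 0 → tp b} := by
  classical
  obtain ⟨i₀, hi₀⟩ := hsm
  have ha0 : a ≠ 0 := by
    rintro rfl
    apply hi₀
    have h2 : (pderiv i₀ F).IsHomogeneous 2 := hF.pderiv
    have := Groth.Agent.S12424.eval_smul_of_homog h2 (0 : K) (0 : Fin 4 → K)
    rw [zero_smul] at this
    rw [this]; ring
  have hTa : ¬ Tc F a := by
    intro hT
    apply ha
    rw [htp]
    have hsm' : (fun i => eval a (pderiv i F)) ≠ 0 := fun h => hi₀ (congrFun h i₀)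
    obtain ⟨L₁, L₂, L₃, h₁, h₂, h₃, hmem⟩ := factor_of_Tc F hF a ha0 haF hsm' hT
    exact ⟨ha0, haF, ⟨i₀, hi₀⟩, L₁, L₂, L₃, h₁, h₂, h₃, hmem⟩
  have hfin := finite_tlines F hF a haF i₀ hi₀ hTa
  refine hfin.subset ?_
  rintro U ⟨hU1, hUH, hUT⟩
  refine ⟨hU1, ?_, ?_⟩
  · intro x hx
    have h1 := (hH x).1 (hUH hx)
    have h2 : eval x (Groth.Agent.S10897.lin (fun i => eval a (pderiv i F))) = 0 := h1
    rw [Groth.Agent.S10897.eval_lin] at h2
    exact h2
  · intro b hb hb0
    obtain ⟨-, hbF, -, L₁, L₂, L₃, h₁, h₂, h₃, hmem⟩ := (htp b).1 (hUT b hb hb0)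
    exact ⟨hbF, Tc_of_factor F hF b hbF L₁ L₂ L₃ h₁ h₂ h₃ hmem⟩


end Groth.Agent.S19500
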