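import Groth.Statements.S19502
import Mathlib

set_option autoImplicit false
universe u
open W4c3ghconstell

namespace Groth.Agent.S19502

theorem summable_ite_mem {ι : Type u} [DecidableEq ι] (f : ι → ℝ) (D : Finset ι) :
    Summable (fun i => if i ∈ D then f i else (0 : ℝ)) :=
  summable_of_ne_finset_zero (s := D) (fun i hi => if_neg hi)

theorem tsum_ite_mem {ι : Type u} [DecidableEq ι] (f : ι → ℝ) (D : Finset ι) :
    (∑' i, if i ∈ D then f i else (0 : ℝ)) = ∑ i ∈ D, f i := by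
  rw [tsum_eq_sum (s := D) (fun i hi => if_neg hi)]
  exact Finset.sum_congr rfl (fun i hi => if_pos hi)

theorem ite_notMem_eq {ι : Type u} [DecidableEq ι] (f : ι → ℝ) (D : Finset ι) :
    (fun i => if i ∈ D then (0 : ℝ) else f i) = fun i => f i - (if i ∈ D then f i else 0) := by
  funext i
  by_cases hi : i ∈ D
  · rw [if_pos hi, if_pos hi, sub_self]
  · rw [if_neg hi, if_neg hi, sub_zero]

/-- `∑' i, if i ∈ D then 0 else f i = ∑' f - ∑ i ∈ D, f i` for summable `f`. -/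
theorem tsum_ite_notMem {ι : Type u} [DecidableEq ι] (f : ι → ℝ) (hf : Summable f) (D : Finset ι) :
    (∑' i, if i ∈ D then (0 : ℝ) else f i) = (∑' i, f i) - ∑ i ∈ D, f i := by
  rw [ite_notMem_eq, hf.tsum_sub (summable_ite_mem f D), tsum_ite_mem]

theorem summable_ite_notMem {ι : Type u} [DecidableEq ι] (f : ι → ℝ) (hf : Summable f) (D : Finset ι) :
    Summable (fun i => if i ∈ D then (0 : ℝ) else f i) := by
  rw [ite_notMem_eq]
  exact hf.sub (summable_ite_mem f D)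

/-- Let ι index the irreducible representations, θ : ι → ℚ a weight which is negative exactly on the
finite set D₋, h h' : ι → ℕ with h' ≤ h pointwise (the isotypic dimensions of an object and of a
sub-object) and Σ_i θ_i h_i summable. For a finite set D of indices put S_D = Σ_{i ∉ D} θ_i h_i, d =
#(D ∖ D₋) and θ̃_D = Σ_{i ∈ D} θ_i h'_i + (S_D / d) · Σ_{i ∈ D ∖ D₋} h'_i / h_i, the modified weight
attached to the parameters chosen for D (a quotient by zero is read as zero). Then for finite sets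
D₋ ⊆ D ⊆ D̃ contained in the locus θ ≠ 0: (first error term) θ̃_{D̃} − θ̃_D = Σ_{τ ∈ D̃ ∖ D} (θ_τ
h_τ + S_{D̃}/d̃) · (h'_τ/h_τ − (1/d) Σ_{σ ∈ D ∖ D₋} h'_σ/h_σ); (second error term) Σ_i θ_i h'_i −
θ̃_D = Σ_{τ ∉ D} θ_τ h_τ · (h'_τ/h_τ − (1/d) Σ_{σ ∈ D ∖ D₋} h'_σ/h_σ). -/
theorem result {ι : Type u} [DecidableEq ι]
    (θ : ι → ℚ) (h h' : ι → ℕ) (hle : ∀ i, h' i ≤ h i) (hfin : {i | θ i < 0}.Finite)
    (hsum : Summable (fun i => (θ i : ℝ) * (h i : ℝ))) (D D' : Finset ι)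
    (hDm : hfin.toFinset ⊆ D) (hDD' : D ⊆ D') (hsupp : ∀ i ∈ D', θ i ≠ 0) :
    (((∑ i ∈ D', (θ i : ℝ) * (h' i : ℝ)) + ((∑' i, if i ∈ D' then (0 : ℝ) else (θ i : ℝ) * (h i : ℝ)) / ((D' \ hfin.toFinset).card : ℝ)) * (∑ σ ∈ D' \ hfin.toFinset, ((h' σ : ℝ) / (h σ : ℝ)))) - ((∑ i ∈ D, (θ i : ℝ) * (h' i : ℝ)) + ((∑' i, if i ∈ D then (0 : ℝ) else (θ i : ℝ) * (h i : ℝ)) / ((D \ hfin.toFinset).card : ℝ)) * (∑ σ ∈ D \ hfin.toFinset, ((h' σ : ℝ) / (h σ : ℝ)))) =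
      ∑ τ ∈ D' \ D, ((θ τ : ℝ) * (h τ : ℝ) + (∑' i, if i ∈ D' then (0 : ℝ) else (θ i : ℝ) * (h i : ℝ)) / ((D' \ hfin.toFinset).card : ℝ)) *
        (((h' τ : ℝ) / (h τ : ℝ)) - (1 / ((D \ hfin.toFinset).card : ℝ)) * (∑ σ ∈ D \ hfin.toFinset, ((h' σ : ℝ) / (h σ : ℝ))))) ∧
    ((∑' i, (θ i : ℝ) * (h' i : ℝ)) - ((∑ i ∈ D, (θ i : ℝ) * (h' i : ℝ)) + ((∑' i, if i ∈ D then (0 : ℝ) else (θ i : ℝ) * (h i : ℝ)) / ((D \ hfin.toFinset).card : ℝ)) * (∑ σ ∈ D \ hfin.toFinset, ((h' σ : ℝ) / (h σ : ℝ)))) =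
      ∑' τ, if τ ∈ D then (0 : ℝ) else (θ τ : ℝ) * (h τ : ℝ) *
        (((h' τ : ℝ) / (h τ : ℝ)) - (1 / ((D \ hfin.toFinset).card : ℝ)) * (∑ σ ∈ D \ hfin.toFinset, ((h' σ : ℝ) / (h σ : ℝ))))) := by
  set Dm := hfin.toFinset with hDmdef
  set f : ι → ℝ := fun i => (θ i : ℝ) * (h i : ℝ) with hf
  set f' : ι → ℝ := fun i => (θ i : ℝ) * (h' i : ℝ) with hf'
  set r : ι → ℝ := fun i => (h' i : ℝ) / (h i : ℝ) with hr
  -- basic pointwise fact
  have hfr : ∀ i, f i * r i = f' i := by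
    intro i
    simp only [hf, hf', hr]
    by_cases h0 : (h i : ℝ) = 0
    · have : h i = 0 := by exact_mod_cast h0
      have h0' : h' i = 0 := Nat.le_zero.mp (this ▸ hle i)
      simp [this, h0']
    · field_simp
  -- summability of f'
  have hsum' : Summable f' := by
    refine Summable.of_norm_bounded (g := fun i => |f i|) hsum.abs (fun i => ?_)
    simp only [hf, hf', Real.norm_eq_abs, abs_mul]
    apply mul_le_mul_of_nonneg_left _ (abs_nonneg _)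
    simp only [Nat.abs_cast]
    exact_mod_cast hle i
  set T := ∑' i, f i with hT
  set T' := ∑' i, f' i with hT'
  have hS : ∀ E : Finset ι, (∑' i, if i ∈ E then (0 : ℝ) else f i) = T - ∑ i ∈ E, f i :=
    fun E => tsum_ite_notMem f hsum E
  -- partition facts
  have hE1 : ∀ g : ι → ℝ, ∑ i ∈ D', g i = ∑ i ∈ D, g i + ∑ i ∈ D' \ D, g i := by
    intro g
    rw [add_comm, Finset.sum_sdiff hDD']
  have hunion : D' \ Dm = (D \ Dm) ∪ (D' \ D) := by
    ext i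
    simp only [Finset.mem_sdiff, Finset.mem_union]
    constructor
    · rintro ⟨h1, h2⟩
      by_cases hi : i ∈ D
      · exact Or.inl ⟨hi, h2⟩
      · exact Or.inr ⟨h1, hi⟩
    · rintro (⟨h1, h2⟩ | ⟨h1, h2⟩)
      · exact ⟨hDD' h1, h2⟩
      · exact ⟨h1, fun h3 => h2 (hDm h3)⟩
  have hdisj : Disjoint (D \ Dm) (D' \ D) := by
    rw [Finset.disjoint_left]
    intro i h1 h2
    exact (Finset.mem_sdiff.mp h2).2 (Finset.mem_sdiff.mp h1).1
  have hE2 : ∀ g : ι → ℝ, ∑ i ∈ D' \ Dm, g i = ∑ i ∈ D \ Dm, g i + ∑ i ∈ D' \ D, g i := by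
    intro g
    rw [hunion, Finset.sum_union hdisj]
  have hcard : ((D' \ Dm).card : ℝ) = ((D \ Dm).card : ℝ) + ((D' \ D).card : ℝ) := by
    rw [hunion, Finset.card_union_of_disjoint hdisj]
    push_cast; ring
  constructor
  · -- first identity
    rw [hS D', hS D, hE1 f', hE1 f, hE2 r, hcard]
    have hRHS : ∑ τ ∈ D' \ D, (f τ + (T - (∑ i ∈ D, f i + ∑ i ∈ D' \ D, f i)) /
          (((D \ Dm).card : ℝ) + ((D' \ D).card : ℝ))) *
        (r τ - (1 / ((D \ Dm).card : ℝ)) * ∑ σ ∈ D \ Dm, r σ) =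
        ∑ τ ∈ D' \ D, f' τ - (1 / ((D \ Dm).card : ℝ)) * (∑ σ ∈ D \ Dm, r σ) * ∑ τ ∈ D' \ D, f τ
        + (T - (∑ i ∈ D, f i + ∑ i ∈ D' \ D, f i)) /
          (((D \ Dm).card : ℝ) + ((D' \ D).card : ℝ)) * ∑ τ ∈ D' \ D, r τ
        - ((D' \ D).card : ℝ) * ((T - (∑ i ∈ D, f i + ∑ i ∈ D' \ D, f i)) /
          (((D \ Dm).card : ℝ) + ((D' \ D).card : ℝ))) *
          ((1 / ((D \ Dm).card : ℝ)) * ∑ σ ∈ D \ Dm, r σ) := by
      simp only [add_mul, mul_sub, Finset.sum_add_distrib, Finset.sum_sub_distrib, hfr,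
        ← Finset.mul_sum, ← Finset.sum_mul, Finset.sum_const, nsmul_eq_mul]
      ring
    rw [hRHS]
    rcases Nat.eq_zero_or_pos (D \ Dm).card with hd | hd
    · have hempty : D \ Dm = ∅ := Finset.card_eq_zero.mp hd
      simp only [hempty, Finset.card_empty, Nat.cast_zero, Finset.sum_empty, div_zero, zero_mul,
        mul_zero, zero_add, add_zero, sub_zero]
      ring
    · have hd' : ((D \ Dm).card : ℝ) ≠ 0 := by exact_mod_cast hd.ne'
      have hd'' : ((D \ Dm).card : ℝ) + ((D' \ D).card : ℝ) ≠ 0 := by positivity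
      field_simp
      ring
  · -- second identity
    have h2 : (fun τ => if τ ∈ D then (0 : ℝ) else f τ *
          (r τ - (1 / ((D \ Dm).card : ℝ)) * ∑ σ ∈ D \ Dm, r σ)) =
        fun τ => (if τ ∈ D then (0 : ℝ) else f' τ) -
          ((1 / ((D \ Dm).card : ℝ)) * ∑ σ ∈ D \ Dm, r σ) * (if τ ∈ D then (0 : ℝ) else f τ) := by
      funext τ
      split_ifs
      · simp
      · rw [mul_sub, hfr]; ring
    rw [h2, (summable_ite_notMem f' hsum' D).tsum_sub ((summable_ite_notMem f hsum D).mul_left _),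
      tsum_mul_left, tsum_ite_notMem f' hsum' D, hS D]
    ring

end Groth.Agent.S19502
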