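import Groth.Statements.S19503
import Groth.Agent.Lib.Helper7.RelFib3
import Groth.Agent.Lib.Helper7.VAmpRel
import Groth.Agent.Lib.Helper7.KoszulRel
import Groth.Agent.Lib.Helper12.AmpleRestrict
import Groth.Agent.Lib.Helper12.AmplePow

set_option autoImplicit false
universe u
open CategoryTheory CategoryTheory.Limits AlgebraicGeometry
open Curves

namespace Groth.Agent.S19503

/-- Let A be a Noetherian ring and f : X → Spec A a proper morphism such that H^1(X, O_X) = 0 and every
fibre of f has dimension at most one. If an O_X-module L is f-ample (f quasi-compact and L an ample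
invertible module on the preimage of every affine open of Spec A), then L is f-very ample: for some
n there is an immersion i : X → Pⁿ over Spec A, compatible with f, such that L is isomorphic to the
pullback of O(1) along i. -/
theorem result (A : Type u) [CommRing A]
    [IsNoetherianRing A] (X : Scheme.{u}) (f : X ⟶ Spec (CommRingCat.of A)) [IsProper f]
    (h1 : Subsingleton (Coh.HH X (Coh.structureModule X) 1))
    (hfib : ∀ y : ↥(Spec (CommRingCat.of A)), topologicalKrullDim ↥(f.fiber y) ≤ 1)
    (L : X.Modules) (hL : RelAmple.IsRelAmple f L) :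
    RelAmple.IsRelVeryAmplePn f L := by
  classical
  have hLrel := hL
  obtain ⟨hqc, -⟩ := hL
  haveI := hqc
  have hLa : CohB1.IsAmple L :=
    (Groth.Agent.Lib.helper12.AmpleRestrict.isRelAmple_iff_isAmple_of_isAffine f L).mp hLrel
  letI : X.Over (Spec (CommRingCat.of A)) := ⟨f⟩
  haveI : IsProper (X ↘ Spec (CommRingCat.of A)) := ‹IsProper f›
  haveI : IsNoetherian X := Groth.Agent.Lib.helper27.FibreVan.isNoetherian_of_proper A X
  have hLinv : PicF.IsInvertible L := hLa.1
  have hLc := Groth.Agent.Lib.Lead.CurveInv.isCoh_of_isInvertible X hLinv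
  have hgen := Groth.Agent.Lib.helper7.RelFib.exists_section_mem_genLocus A X hfib h1 L hLa
  -- a finite generating family of sections
  obtain ⟨J, hJ, T, hT⟩ : ∃ (J : Type u) (_ : Finite J) (T : J → L.val.obj (Opposite.op ⊤)),
      ∀ x : X, ∃ l, x ∈ CohB1.genLocus L (Groth.Agent.Lib.helper12.AmpleBasis.homOfSec L (T l)) := by
    have hcov : (Set.univ : Set X) ⊆ ⋃ t : (Coh.structureModule X ⟶ L),
        ((CohB1.genLocus L t : X.Opens) : Set X) := by
      intro x _
      obtain ⟨t, ht⟩ := hgen x
      exact Set.mem_iUnion.mpr ⟨t, ht⟩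
    obtain ⟨S, hS⟩ := isCompact_univ.elim_finite_subcover
      (fun t : (Coh.structureModule X ⟶ L) => ((CohB1.genLocus L t : X.Opens) : Set X))
      (fun t => (CohB1.genLocus L t).isOpen) hcov
    refine ⟨↥S, inferInstance, fun j => SecTwist.val j.1 ⊤, fun x => ?_⟩
    obtain ⟨t, htS, hxt⟩ : ∃ t ∈ S, x ∈ ((CohB1.genLocus L t : X.Opens) : Set X) := by
      have := hS (Set.mem_univ x)
      simpa only [Set.mem_iUnion, exists_prop] using this
    refine ⟨⟨t, htS⟩, ?_⟩
    rw [Groth.Agent.Lib.helper7.Koszul.homOfSec_val]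
    exact hxt
  refine Groth.Agent.Lib.helper7.VAmpRel.isRelVeryAmplePn_of_normallyGenerated A f L hLa
    (fun n hn => ?_)
  obtain ⟨m, rfl⟩ : ∃ m, n = m + 1 := ⟨n - 1, by omega⟩
  have hH1m : Subsingleton (Coh.HH X (CohB1.tensorPow L m) 1) := by
    rcases Nat.eq_zero_or_pos m with rfl | hm
    · exact h1
    · exact Groth.Agent.Lib.helper7.RelFib.subsingleton_H1_of_isAmple A X hfib h1 _
        ((Groth.Agent.Lib.helper12.AmplePow.isAmple_tensorPow_iff hLinv m hm).mp hLa)
  have hmc : Coh.IsCoh (CohB1.tensorPow L m) :=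
    Groth.Agent.Lib.Lead.CurveInv.isCoh_of_isInvertible X
      (Groth.Agent.Lib.helper12.TensorInv.isInvertible_tensorPow hLinv m)
  have hspan := Groth.Agent.Lib.helper7.KoszulRel.span_tmul_eq_top_of_H1
    (Groth.Agent.Lib.helper7.RelFib.subsingleton_H2 A X hfib) (CohB1.tensorPow L m) L hmc hLc T hT hH1m
  rw [eq_top_iff]
  intro τ _
  have hτ : τ ∈ Submodule.span (X.ringCatSheaf.obj.obj (Opposite.op ⊤))
      (Set.range (fun p : (CohB1.tensorMod (CohB1.tensorPow L m) L).val.obj (Opposite.op ⊤) ×
          L.val.obj (Opposite.op ⊤) =>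
        SecTwist.tmul (CohB1.tensorMod (CohB1.tensorPow L m) L) L ⊤ p.1 p.2)) := by
    rw [hspan]; trivial
  induction hτ using Submodule.closure_induction with
  | zero => exact zero_mem _
  | add x y _ _ hx hy => exact add_mem (hx trivial) (hy trivial)
  | smul_mem γ x hx =>
    obtain ⟨⟨y, v⟩, rfl⟩ := hx
    apply AddSubgroup.subset_closure
    refine ⟨γ • y, v, ?_⟩
    exact (Groth.Agent.Lib.helper12.AmpleBasis.tmul_smul_left
      (CohB1.tensorMod (CohB1.tensorPow L m) L) L ⊤ γ y v).symm

end Groth.Agent.S19503
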