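import Groth.Statements.S9443
import Groth.Agent.S11741
-- import your own Groth.Agent.* helpers here

set_option autoImplicit false
universe u
open CAlg

namespace Groth.Agent.S9443

open IsLocalRing ArtFun Groth.Agent.LibCR29 Groth.Agent.LibObs29


/-- A complete regular local ring R with a coefficient field k (a subfield mapping isomorphically onto
the residue field) is k-isomorphic to a power series ring over k in finitely many variables
(existence of an isomorphism only; the number of variables is then the dimension of R). -/
theorem result (R : Type u)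
    [CommRing R] [IsRegularLocalRing R] [IsAdicComplete (IsLocalRing.maximalIdeal R) R]
    (k : Type u) [Field k] [Algebra k R]
    (hk : Function.Bijective (algebraMap k (IsLocalRing.ResidueField R))) :
    ∃ d : ℕ, Nonempty (R ≃ₐ[k] MvPowerSeries (Fin d) k) := by
  classical
  have hR : Function.Surjective ((IsLocalRing.residue R).comp (algebraMap k R)) := by
    intro c
    obtain ⟨a, ha⟩ := hk.2 c
    exact ⟨a, by rw [← ha]; exact (IsScalarTower.algebraMap_apply k R (ResidueField R) a).symm⟩
  obtain ⟨res, hressurj, hresm⟩ := Groth.Agent.S11740.exists_cring k R hR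
  let S : CRing k k :=
    { carrier := R
      res := res
      res_surjective := hressurj
      isAdicComplete := inferInstance }
  let d := Module.finrank (ResidueField R) (CotangentSpace R)
  let b := Module.finBasis (ResidueField R) (CotangentSpace R)
  have hl : ∀ i : Fin d, ∃ x : maximalIdeal R, (maximalIdeal R).toCotangent x = b i :=
    fun i => (maximalIdeal R).toCotangent_surjective (b i)
  choose x hx using hl
  obtain ⟨ψ, hψX⟩ : ∃ ψ : MvPowerSeries (Fin d) k →ₐ[k] R,
      ∀ i, ψ (MvPowerSeries.X i) = (x i : R) :=
    exists_ps_algHom S d (fun i => (x i : R)) (fun i => (x i).2)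
  have hψ : ∀ i : Fin d, ψ (MvPowerSeries.X i) ∈ maximalIdeal R := fun i => by
    rw [hψX]; exact (x i).2
  have hfun : (fun i : Fin d => (maximalIdeal R).toCotangent ⟨ψ (MvPowerSeries.X i), hψ i⟩) = b := by
    funext i
    rw [← hx i]
    congr 1
    exact Subtype.ext (hψX i)
  have hbij := (Groth.Agent.S11741.result k R hR d ψ hψ (by rw [hfun]; exact b.linearIndependent)
    (by rw [hfun]; exact b.span_eq)).1 inferInstance
  exact ⟨d, ⟨(AlgEquiv.ofBijective ψ hbij).symm⟩⟩

end Groth.Agent.S9443
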