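import Groth.Statements.S19506
import Mathlib
import Groth.Agent.LibObs29d
import Groth.Agent.S9443
import Groth.Agent.S12707
import Groth.Agent.S12722

set_option autoImplicit false
universe u
open CAlg

namespace Groth.Agent.S19506

open MvPowerSeries Groth.Agent.LibPS29 Groth.Agent.LibCR29 Groth.Agent.LibObs29
open ArtFun IsLocalRing CategoryTheory

section aux

variable {k : Type u} [Field k]

/-- the augmentation of a complete local `k`-algebra with residue field `k` is the only `k`-algebra map to `k`. -/
lemma res_unique (R : CRing k k) (g : R.carrier →ₐ[k] k) : g = R.res := by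
  have hm : ∀ x ∈ maximalIdeal R.carrier, g x = 0 := by
    intro x hx
    by_contra hc
    have hu : IsUnit (algebraMap k R.carrier (g x)) := (Ne.isUnit hc).map _
    have hnu : ¬ IsUnit (x - algebraMap k R.carrier (g x)) := by
      intro h
      have h2 := h.map g
      rw [map_sub, AlgHom.commutes] at h2
      simp at h2
    have h3 : x - algebraMap k R.carrier (g x) ∈ maximalIdeal R.carrier := hnu
    have h4 : algebraMap k R.carrier (g x) ∈ maximalIdeal R.carrier := by
      have := Ideal.sub_mem _ hx h3
      rwa [sub_sub_cancel] at this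
    exact h4 hu
  apply AlgHom.ext
  intro r
  have h1 : r - algebraMap k R.carrier (R.res r) ∈ maximalIdeal R.carrier := by
    rw [ArtFun.CRing.mem_maximalIdeal_iff, map_sub, AlgHom.commutes]
    exact sub_self _
  have h2 := hm _ h1
  rw [map_sub, AlgHom.commutes, sub_eq_zero] at h2
  exact h2

/-- lifting maps out of a power series ring along a quotient of an Artinian local algebra. -/
theorem lift_ps_quot {n : ℕ} (R : Type u) [CommRing R] [Algebra k R] [IsArtinianRing R] [IsLocalRing R]
    (J : Ideal R) (f : MvPowerSeries (Fin n) k →ₐ[k] R ⧸ J)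
    (hf : ∀ i, ¬ IsUnit (f (X i))) :
    ∃ g : MvPowerSeries (Fin n) k →ₐ[k] R, (Ideal.Quotient.mkₐ k J).comp g = f := by
  obtain ⟨N, hN⟩ := (isArtinianRing_iff_isNilpotent_maximalIdeal (R := R)).1 inferInstance
  choose r hr using fun i : Fin n => Ideal.Quotient.mk_surjective (f (X i))
  have hrm : ∀ i, r i ∈ maximalIdeal R := by
    intro i
    rw [IsLocalRing.mem_maximalIdeal, mem_nonunits_iff]
    intro hu
    apply hf i
    rw [← hr i]
    exact hu.map _
  have hz : ∀ i, r i ^ (N + 1 + 1) = 0 := by
    intro i
    have := Ideal.pow_mem_pow (hrm i) N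
    rw [hN] at this
    have h0 : r i ^ N = 0 := this
    rw [pow_succ, pow_succ, h0, zero_mul, zero_mul]
  have hz' : ∀ i, (f (X i)) ^ (N + 1 + 1) = 0 := by
    intro i
    rw [← hr i, ← map_pow, hz i, map_zero]
  refine ⟨ev (A := k) r (N + 1) hz, ?_⟩
  have h1 : f = ev (A := k) (fun i => f (X i)) (N + 1) hz' := algHom_eq_ev _ (N + 1) hz' f (fun i => rfl)
  have h2 : (Ideal.Quotient.mkₐ k J).comp (ev (A := k) r (N + 1) hz) =
      ev (A := k) (fun i => f (X i)) (N + 1) hz' := by
    apply algHom_eq_ev
    intro i
    change Ideal.Quotient.mk J (ev (A := k) r (N + 1) hz (X i)) = f (X i)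
    rw [ev_X _ (N + 1) (by omega) hz i, hr i]
  exact h2.trans h1.symm

end aux

/-- (i) ⇔ (iii): let k be a field and A a complete local Noetherian k-algebra with residue field k (a
k-algebra map π : A → k with kernel the maximal ideal; A complete for the adic topology of its
maximal ideal). Then A is regular if and only if A satisfies the infinitesimal lifting criterion:
for every Artinian local k-algebra R and every ideal J of R of square zero, every local k-algebra
homomorphism A → R/J (one carrying non-units to non-units) lifts to a k-algebra homomorphism A → R.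
(The test algebras R range over one universe, that of A. The published criterion is worded for
arbitrary k-algebra homomorphisms A → R/J; it is stated here for local ones, the case the argument
establishes and the form in which the text itself restates the criterion afterwards. The published
statement lists a third equivalent condition, A ≅ k[[x_1, …, x_d]].) -/
theorem result (k A : Type u) [Field k]
    [CommRing A] [Algebra k A] [IsLocalRing A] [IsNoetherianRing A]
    [IsAdicComplete (IsLocalRing.maximalIdeal A) A]
    (π : A →ₐ[k] k) (hπ : RingHom.ker π = IsLocalRing.maximalIdeal A) :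
    IsRegularLocalRing A ↔
      ∀ (R : Type u) [CommRing R] [Algebra k R] [IsArtinianRing R] [IsLocalRing R] (J : Ideal R),
        J ^ 2 = ⊥ → ∀ f : A →ₐ[k] R ⧸ J, IsLocalHom (f : A →+* R ⧸ J) →
          ∃ g : A →ₐ[k] R, (Ideal.Quotient.mkₐ k J).comp g = f := by
  constructor
  · intro hreg R _ _ _ _ J _ f hfl
    have hk : Function.Bijective (algebraMap k (IsLocalRing.ResidueField A)) := by
      refine ⟨(algebraMap k (IsLocalRing.ResidueField A)).injective, fun x => ?_⟩
      obtain ⟨a, rfl⟩ := IsLocalRing.residue_surjective x
      refine ⟨π a, ?_⟩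
      rw [IsScalarTower.algebraMap_apply k A (IsLocalRing.ResidueField A)]
      change IsLocalRing.residue A (algebraMap k A (π a)) = IsLocalRing.residue A a
      rw [← sub_eq_zero, ← map_sub, IsLocalRing.residue_eq_zero_iff, ← hπ, RingHom.mem_ker, map_sub,
        AlgHom.commutes]
      exact sub_self _
    obtain ⟨d, ⟨e⟩⟩ := Groth.Agent.S9443.result A k hk
    have hf : ∀ i, ¬ IsUnit ((f.comp e.symm.toAlgHom) (X i)) := by
      intro i hu
      have h1 : IsUnit (e.symm (X i)) := hfl.map_nonunit _ hu
      have h2 : IsUnit (e (e.symm (X i))) := h1.map e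
      rw [AlgEquiv.apply_symm_apply] at h2
      have h3 : (X i : MvPowerSeries (Fin d) k) ∈ maximalIdeal _ := X_mem_maximalIdeal_ps i
      exact h3 h2
    obtain ⟨g', hg'⟩ := lift_ps_quot R J (f.comp e.symm.toAlgHom) hf
    refine ⟨g'.comp e.toAlgHom, ?_⟩
    apply AlgHom.ext
    intro a
    have h1 := congrArg (fun χ : MvPowerSeries (Fin d) k →ₐ[k] R ⧸ J => χ (e a)) hg'
    change (Ideal.Quotient.mkₐ k J) (g' (e a)) = f (e.symm (e a)) at h1
    rw [AlgEquiv.symm_apply_apply] at h1
    exact h1
  · intro h
    have : IsAdicComplete (maximalIdeal k) k := by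
      rw [IsLocalRing.maximalIdeal_eq_bot]
      exact IsAdicComplete.bot k
    let R₀ : CRing k k :=
      { carrier := A, res := π, res_surjective := fun c => ⟨algebraMap k A c, π.commutes c⟩,
        isAdicComplete := inferInstance }
    have hsm : IsSmoothFunctor (hR R₀.carrier R₀.res) := by
      intro B A' μ hμ
      refine Groth.Agent.S12707.result (Λ := k) (k := k)
        (fun A' B μ => Function.Surjective ((hR R₀.carrier R₀.res).map μ)) ?_ ?_ ?_ μ hμ
      · intro A' B e he
        exact ((hR R₀.carrier R₀.res).mapIso (asIso e)).toEquiv.surjective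
      · intro A' B p hp φ
        have hJm : RingHom.ker p.toAlgHom ≤ maximalIdeal B := by
          intro x hx
          rw [IsLocalRing.mem_maximalIdeal, mem_nonunits_iff]
          intro hu
          have h1 : IsUnit (p.toAlgHom x) := hu.map _
          rw [(RingHom.mem_ker).1 hx] at h1
          exact not_isUnit_zero h1
        have hJ2 : RingHom.ker p.toAlgHom ^ 2 = ⊥ := by
          rw [eq_bot_iff, pow_two, ← hp.2.2.2]
          exact Ideal.mul_mono_left hJm
        let e := Ideal.quotientKerAlgEquivOfSurjective (f := p.toAlgHom) hp.1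
        have he : ∀ b : B, e (Ideal.Quotient.mk _ b) = p b := fun b => rfl
        have hloc : IsLocalHom ((e.symm.toAlgHom.comp φ.1 : A →ₐ[k] B ⧸ RingHom.ker p.toAlgHom) :
            A →+* B ⧸ RingHom.ker p.toAlgHom) := by
          constructor
          intro a hu
          have h1 : IsUnit (e (e.symm (φ.1 a))) := hu.map e
          rw [AlgEquiv.apply_symm_apply] at h1
          have h2 : IsUnit (A'.res (φ.1 a)) := h1.map A'.res
          have h3 : A'.res (φ.1 a) = π a := congrArg (fun χ : A →ₐ[k] k => χ a) φ.2
          rw [h3] at h2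
          by_contra hna
          have h4 : a ∈ maximalIdeal A := hna
          rw [← hπ, RingHom.mem_ker] at h4
          rw [h4] at h2
          exact not_isUnit_zero h2
        obtain ⟨g, hg⟩ := h B (RingHom.ker p.toAlgHom) hJ2 (e.symm.toAlgHom.comp φ.1) hloc
        have hres : B.res.comp g = R₀.res := res_unique R₀ (B.res.comp g)
        refine ⟨⟨g, hres⟩, ?_⟩
        apply Subtype.ext
        apply AlgHom.ext
        intro a
        have h1 := congrArg (fun χ : A →ₐ[k] B ⧸ RingHom.ker p.toAlgHom => e (χ a)) hg
        change e (Ideal.Quotient.mk _ (g a)) = e (e.symm (φ.1 a)) at h1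
        rw [AlgEquiv.apply_symm_apply, he] at h1
        exact h1
      · intro A' B C p q hp hq
        rw [Functor.map_comp]
        exact hq.comp hp
    obtain ⟨n, ⟨e⟩⟩ := (Groth.Agent.S12722.result (fun c => ⟨c, rfl⟩) R₀).1 hsm
    haveI := isRegularLocalRing_mvPowerSeries k n
    exact IsRegularLocalRing.of_ringEquiv (R := MvPowerSeries (Fin n) k) e.symm.toRingEquiv

end Groth.Agent.S19506
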