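import Groth.Statements.S19512
import Mathlib
import Groth.Agent.S19511

set_option autoImplicit false
universe u
open CategoryTheory CategoryTheory.Limits AlgebraicGeometry
open Variety

namespace Groth.Agent.S19512

/-- Let k be a field and f : X → Y a k-morphism between proper k-schemes which is a fibration, i.e. O_Y
→ f_*O_X is an isomorphism (Γ(V, O_Y) → Γ(f⁻¹V, O_X) bijective for every open V ⊆ Y). If X is
integral, then Y is integral. (The second assertion of (ii), generic flatness of f, is quoted from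
the literature and not stated.) -/
theorem result (k : Type u) [Field k] (X Y : Scheme.{u})
    [X.Over (Spec (CommRingCat.of k))] [Y.Over (Spec (CommRingCat.of k))] [IsProper (X ↘ Spec (CommRingCat.of k))] [IsProper (Y ↘ Spec (CommRingCat.of k))]
    (f : X ⟶ Y) (hf : f ≫ (Y ↘ Spec (CommRingCat.of k)) = X ↘ Spec (CommRingCat.of k)) (hfib : ∀ V : Y.Opens, IsIso (f.app V))
    [AlgebraicGeometry.IsIntegral X] : AlgebraicGeometry.IsIntegral Y := by
  have hsurj : Surjective f := Groth.Agent.S19511.result k X Y f hf hfib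
  have hne : Nonempty X := inferInstance
  refine ⟨⟨f hne.some⟩, fun U hU => ?_⟩
  have hiso := hfib U
  have hne' : Nonempty (f ⁻¹ᵁ U) := by
    obtain ⟨⟨y, hy⟩⟩ := hU
    obtain ⟨x, rfl⟩ := hsurj.surj y
    exact ⟨⟨x, hy⟩⟩
  have hdom : IsDomain Γ(X, f ⁻¹ᵁ U) := inferInstance
  let e : Γ(Y, U) ≃+* Γ(X, f ⁻¹ᵁ U) := (asIso (f.app U)).commRingCatIsoToRingEquiv
  exact MulEquiv.isDomain Γ(X, f ⁻¹ᵁ U) e.toMulEquiv

end Groth.Agent.S19512
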