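import Groth.Statements.S19514
import Groth.Agent.Lib.Helper8.FibrationFlat
import Groth.Agent.S19512

set_option autoImplicit false
universe u
open CategoryTheory CategoryTheory.Limits AlgebraicGeometry
open Variety

namespace Groth.Agent.S19514

/-- Let k be a field and f : X → Y a k-morphism between proper k-schemes which is a fibration, i.e. O_Y
→ f_*O_X is an isomorphism (Γ(V, O_Y) → Γ(f⁻¹V, O_X) bijective for every open V ⊆ Y). If X is
geometrically integral over k, then so is Y. (The assertion of (iii) for geometric normality is not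
stated here.) -/
theorem result (k : Type u) [Field k] (X Y : Scheme.{u})
    [X.Over (Spec (CommRingCat.of k))] [Y.Over (Spec (CommRingCat.of k))] [IsProper (X ↘ Spec (CommRingCat.of k))] [IsProper (Y ↘ Spec (CommRingCat.of k))]
    (f : X ⟶ Y) (hf : f ≫ (Y ↘ Spec (CommRingCat.of k)) = X ↘ Spec (CommRingCat.of k)) (hfib : ∀ V : Y.Opens, IsIso (f.app V))
    [GeometricallyIntegral (X ↘ Spec (CommRingCat.of k))] : GeometricallyIntegral (Y ↘ Spec (CommRingCat.of k)) := by
  constructor
  intro K _ σ Z fst snd h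
  haveI : IsProper f := by
    haveI : IsProper (f ≫ (Y ↘ Spec (CommRingCat.of k))) := by
      rw [hf]
      infer_instance
    exact IsProper.of_comp f (Y ↘ Spec (CommRingCat.of k))
  let XK := pullback (X ↘ Spec (CommRingCat.of k)) σ
  have hcomm : (pullback.fst (X ↘ Spec (CommRingCat.of k)) σ ≫ f) ≫ (Y ↘ Spec (CommRingCat.of k)) =
      pullback.snd (X ↘ Spec (CommRingCat.of k)) σ ≫ σ := by
    rw [Category.assoc, hf, pullback.condition]
  let fK : XK ⟶ Z := h.lift (pullback.fst _ _ ≫ f) (pullback.snd _ _) hcomm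
  have hfK1 : fK ≫ fst = pullback.fst _ _ ≫ f := h.lift_fst _ _ _
  have hfK2 : fK ≫ snd = pullback.snd _ _ := h.lift_snd _ _ _
  have hbig : IsPullback (fK ≫ snd) (pullback.fst (X ↘ Spec (CommRingCat.of k)) σ) σ
      (f ≫ (Y ↘ Spec (CommRingCat.of k))) := by
    rw [hfK2, hf]
    exact (IsPullback.of_hasPullback _ _).flip
  have hsq : IsPullback (pullback.fst (X ↘ Spec (CommRingCat.of k)) σ) fK f fst :=
    (IsPullback.of_right hbig hfK1 h.flip).flip
  haveI : Flat fst := MorphismProperty.of_isPullback h.flip inferInstance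
  have hfibK : ∀ V : Z.Opens, IsIso (fK.app V) :=
    Groth.Agent.Lib.helper8.FibFlat.isIso_app_of_isPullback_of_flat f fst _ fK hsq hfib
  letI : XK.Over (Spec (CommRingCat.of K)) := ⟨pullback.snd _ _⟩
  letI : Z.Over (Spec (CommRingCat.of K)) := ⟨snd⟩
  haveI : IsProper (XK ↘ Spec (CommRingCat.of K)) :=
    inferInstanceAs (IsProper (pullback.snd (X ↘ Spec (CommRingCat.of k)) σ))
  haveI : IsProper (Z ↘ Spec (CommRingCat.of K)) :=
    MorphismProperty.of_isPullback h (inferInstance : IsProper (Y ↘ Spec (CommRingCat.of k)))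
  haveI : AlgebraicGeometry.IsIntegral XK :=
    GeometricallyIntegral.geometrically_isIntegral (f := X ↘ Spec (CommRingCat.of k)) σ _ _
      (IsPullback.of_hasPullback _ _)
  exact Groth.Agent.S19512.result K XK Z fK hfK2 hfibK

end Groth.Agent.S19514
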