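import Groth.Statements.S19515
import Groth.Agent.Lib.Helper8.FibrationFlat
import Groth.Agent.S19513

set_option autoImplicit false
universe u
open CategoryTheory CategoryTheory.Limits AlgebraicGeometry
open Variety

namespace Groth.Agent.S19515

/-- Let k be a field and f : X → Y a k-morphism between proper k-schemes which is a fibration, i.e. O_Y
→ f_*O_X is an isomorphism (Γ(V, O_Y) → Γ(f⁻¹V, O_X) bijective for every open V ⊆ Y). If X is
geometrically normal, i.e. its base change to every algebraic closure of k has all local rings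
integrally closed domains, then Y is geometrically normal in the same sense. -/
theorem result (k : Type u) [Field k] (X Y : Scheme.{u})
    [X.Over (Spec (CommRingCat.of k))] [Y.Over (Spec (CommRingCat.of k))] [IsProper (X ↘ Spec (CommRingCat.of k))] [IsProper (Y ↘ Spec (CommRingCat.of k))]
    (f : X ⟶ Y) (hf : f ≫ (Y ↘ Spec (CommRingCat.of k)) = X ↘ Spec (CommRingCat.of k)) (hfib : ∀ V : Y.Opens, IsIso (f.app V))
    (hX : ∀ (K : Type u) [Field K] [Algebra k K] [IsAlgClosure k K],
      Pi1.IsNormalScheme (pullback (X ↘ Spec (CommRingCat.of k)) (Spec.map (CommRingCat.ofHom (algebraMap k K)))))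
    (K : Type u) [Field K] [Algebra k K] [IsAlgClosure k K] :
    Pi1.IsNormalScheme (pullback (Y ↘ Spec (CommRingCat.of k)) (Spec.map (CommRingCat.ofHom (algebraMap k K)))) := by
  haveI : IsProper f := by
    haveI : IsProper (f ≫ (Y ↘ Spec (CommRingCat.of k))) := by
      rw [hf]
      infer_instance
    exact IsProper.of_comp f (Y ↘ Spec (CommRingCat.of k))
  set σ := Spec.map (CommRingCat.ofHom (algebraMap k K)) with hσ
  let XK := pullback (X ↘ Spec (CommRingCat.of k)) σ
  let Z := pullback (Y ↘ Spec (CommRingCat.of k)) σ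
  have h : IsPullback (pullback.fst (Y ↘ Spec (CommRingCat.of k)) σ)
      (pullback.snd (Y ↘ Spec (CommRingCat.of k)) σ) (Y ↘ Spec (CommRingCat.of k)) σ :=
    IsPullback.of_hasPullback _ _
  have hcomm : (pullback.fst (X ↘ Spec (CommRingCat.of k)) σ ≫ f) ≫ (Y ↘ Spec (CommRingCat.of k)) =
      pullback.snd (X ↘ Spec (CommRingCat.of k)) σ ≫ σ := by
    rw [Category.assoc, hf, pullback.condition]
  let fK : XK ⟶ Z := h.lift (pullback.fst _ _ ≫ f) (pullback.snd _ _) hcomm
  have hfK1 : fK ≫ pullback.fst (Y ↘ Spec (CommRingCat.of k)) σ = pullback.fst _ _ ≫ f :=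
    h.lift_fst _ _ _
  have hfK2 : fK ≫ pullback.snd (Y ↘ Spec (CommRingCat.of k)) σ = pullback.snd _ _ :=
    h.lift_snd _ _ _
  have hbig : IsPullback (fK ≫ pullback.snd (Y ↘ Spec (CommRingCat.of k)) σ)
      (pullback.fst (X ↘ Spec (CommRingCat.of k)) σ) σ
      (f ≫ (Y ↘ Spec (CommRingCat.of k))) := by
    rw [hfK2, hf]
    exact (IsPullback.of_hasPullback _ _).flip
  have hsq : IsPullback (pullback.fst (X ↘ Spec (CommRingCat.of k)) σ) fK f
      (pullback.fst (Y ↘ Spec (CommRingCat.of k)) σ) :=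
    (IsPullback.of_right hbig hfK1 h.flip).flip
  haveI : Flat (pullback.fst (Y ↘ Spec (CommRingCat.of k)) σ) :=
    MorphismProperty.of_isPullback h.flip inferInstance
  have hfibK : ∀ V : Z.Opens, IsIso (fK.app V) :=
    Groth.Agent.Lib.helper8.FibFlat.isIso_app_of_isPullback_of_flat f
      (pullback.fst (Y ↘ Spec (CommRingCat.of k)) σ) _ fK hsq hfib
  letI : XK.Over (Spec (CommRingCat.of K)) := ⟨pullback.snd _ _⟩
  letI : Z.Over (Spec (CommRingCat.of K)) := ⟨pullback.snd _ _⟩
  haveI : IsProper (XK ↘ Spec (CommRingCat.of K)) :=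
    inferInstanceAs (IsProper (pullback.snd (X ↘ Spec (CommRingCat.of k)) σ))
  haveI : IsProper (Z ↘ Spec (CommRingCat.of K)) :=
    inferInstanceAs (IsProper (pullback.snd (Y ↘ Spec (CommRingCat.of k)) σ))
  exact Groth.Agent.S19513.result K XK Z fK hfK2 hfibK (hX K)

end Groth.Agent.S19515
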