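import Groth.Statements.S19522
-- import your own Groth.Agent.* helpers here

set_option autoImplicit false
universe u
open TensorProduct
open GLin

namespace Groth.Agent.S19522

/-- Let k be a field, A a commutative k-bialgebra coacting multiplicatively on a commutative k-algebra
R, and χ ∈ A a group-like element with an inverse χ' (χχ' = 1). Suppose the polynomial ring R[t]
carries a multiplicative coaction which restricts to the given one on constants and sends t to t ⊗
χ'. Then g ∈ R[t] is coinvariant if and only if, for every r, its r-th coefficient has coaction g_r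
↦ g_r ⊗ χ^r; that is, the ring of invariants of R[t] is the sum over r ≥ 0 of the weight-χ^r
semi-invariants of R times t^r. (The published statement is phrased for an affine variety with an
action of a linear algebraic group over an algebraically closed field of characteristic zero and
identifies the invariants of X × A¹ with the graded ring of invariant sections of the powers of the
linearised trivial bundle; this is its coordinate-ring content, valid over any field.) -/
theorem result (k : Type u) [Field k]
    (A : Type u) [CommRing A] [Bialgebra k A]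
    (R : Type u) [CommRing R] [Algebra k R] [HopfRep.Comod k A R] [GLin.IsCoactAlg k A R]
    [HopfRep.Comod k A (Polynomial R)] [GLin.IsCoactAlg k A (Polynomial R)]
    (χ χ' : A) (hχ : CoalgebraStruct.comul (R := k) (A := A) χ = χ ⊗ₜ[k] χ)
    (hχε : CoalgebraStruct.counit (R := k) (A := A) χ = 1) (hχχ' : χ * χ' = 1)
    (hC : ∀ r : R, HopfRep.Comod.coact (k := k) (A := A) (Polynomial.C r) =
      Algebra.TensorProduct.map (Polynomial.CAlgHom : R →ₐ[k] Polynomial R) (AlgHom.id k A)
        (HopfRep.Comod.coact (k := k) (A := A) r))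
    (hX : HopfRep.Comod.coact (k := k) (A := A) (Polynomial.X : Polynomial R) = Polynomial.X ⊗ₜ[k] χ')
    (g : Polynomial R) :
    g ∈ GLin.invariants k A (Polynomial R) ↔
      ∀ r : ℕ, g.coeff r ∈ HopfRep.eigenspace k A R (χ ^ r) := by
  classical
  -- coefficient extraction
  let Φ : ℕ → (Polynomial R ⊗[k] A →ₗ[k] R ⊗[k] A) := fun r =>
    ((Polynomial.lcoeff R r).restrictScalars k).rTensor A
  have hΦ : ∀ (r m : ℕ) (s : R ⊗[k] A) (a : A),
      Φ r (Algebra.TensorProduct.map (Polynomial.CAlgHom : R →ₐ[k] Polynomial R) (AlgHom.id k A) s *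
        (((Polynomial.X : Polynomial R) ^ m) ⊗ₜ[k] a)) = if m = r then s * ((1 : R) ⊗ₜ[k] a) else 0 := by
    intro r m s a
    induction s using TensorProduct.induction_on with
    | zero => simp
    | add s₁ s₂ h₁ h₂ =>
      rw [map_add, add_mul, map_add, h₁, h₂]
      split_ifs
      · rw [add_mul]
      · rw [add_zero]
    | tmul b c =>
      simp only [Φ, Algebra.TensorProduct.map_tmul, Polynomial.CAlgHom_apply, AlgHom.id_apply,
        Algebra.TensorProduct.tmul_mul_tmul, LinearMap.rTensor_tmul, LinearMap.restrictScalars_apply,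
        Polynomial.lcoeff_apply, Polynomial.coeff_C_mul_X_pow, mul_one]
      by_cases h : m = r
      · subst h
        simp
      · rw [if_neg h, if_neg (Ne.symm h), TensorProduct.zero_tmul]
  have hcoact : HopfRep.Comod.coact (k := k) (A := A) g =
      ∑ m ∈ g.support, Algebra.TensorProduct.map (Polynomial.CAlgHom : R →ₐ[k] Polynomial R) (AlgHom.id k A)
        (HopfRep.Comod.coact (k := k) (A := A) (g.coeff m)) *
          (((Polynomial.X : Polynomial R) ^ m) ⊗ₜ[k] (χ' ^ m)) := by
    conv_lhs => rw [g.as_sum_support_C_mul_X_pow]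
    rw [map_sum]
    apply Finset.sum_congr rfl
    intro m _
    rw [GLin.IsCoactAlg.coact_mul (k := k) (A := A), hC]
    congr 1
    have := map_pow (GLin.coactAlgHom k A (Polynomial R)) (Polynomial.X : Polynomial R) m
    rw [GLin.coactAlgHom_apply, GLin.coactAlgHom_apply, hX, Algebra.TensorProduct.tmul_pow] at this
    exact this
  have hpow : ∀ r : ℕ, χ ^ r * χ' ^ r = 1 := fun r => by rw [← mul_pow, hχχ', one_pow]
  constructor
  · intro hg r
    have hg' : HopfRep.Comod.coact (k := k) (A := A) g = g ⊗ₜ[k] (1 : A) := hg
    have h1 := congrArg (Φ r) hg'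
    rw [hcoact, map_sum] at h1
    simp only [hΦ] at h1
    rw [Finset.sum_ite_eq'] at h1
    have h2 : Φ r (g ⊗ₜ[k] (1 : A)) = g.coeff r ⊗ₜ[k] (1 : A) := by
      simp [Φ]
    rw [h2] at h1
    change HopfRep.Comod.coact (k := k) (A := A) (g.coeff r) = g.coeff r ⊗ₜ[k] (χ ^ r)
    by_cases hr : r ∈ g.support
    · rw [if_pos hr] at h1
      have h3 := congrArg (fun z => z * ((1 : R) ⊗ₜ[k] (χ ^ r))) h1
      simp only [mul_assoc, Algebra.TensorProduct.tmul_mul_tmul, mul_one, one_mul] at h3
      rw [mul_comm (χ' ^ r), hpow] at h3
      rw [← h3]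
      exact (mul_one _).symm
    · rw [Polynomial.notMem_support_iff.mp hr]
      simp
  · intro h
    change HopfRep.Comod.coact (k := k) (A := A) g = g ⊗ₜ[k] (1 : A)
    rw [hcoact]
    conv_rhs => rw [g.as_sum_support_C_mul_X_pow, TensorProduct.sum_tmul]
    apply Finset.sum_congr rfl
    intro m _
    have hm : HopfRep.Comod.coact (k := k) (A := A) (g.coeff m) = g.coeff m ⊗ₜ[k] (χ ^ m) := h m
    rw [hm, Algebra.TensorProduct.map_tmul, Algebra.TensorProduct.tmul_mul_tmul, AlgHom.id_apply, hpow]
    rfl


end Groth.Agent.S19522
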