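import Groth.Statements.S19532
import Groth.Agent.Lib.Helper15.TwoBranch2
import Groth.Agent.Lib.Helper15.CubExt5

set_option autoImplicit false
set_option linter.style.haveILetI false
universe u
open CategoryTheory
open TFCurv

namespace Groth.Agent.S19532

open Groth.Agent.Lib.helper15 Groth.Agent.Lib.helper15.TwoBranch PowerSeries

section main

variable {k : Type u} [Field k] {O : Subalgebra k (PowerSeries k × PowerSeries k)} {δ : ℕ}
  (h : IsTB O δ)

include h in
set_option maxHeartbeats 2000000 in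
theorem length_ext_aux [IsLocalRing ↥O] (i j e a' : ℕ) (hi : i ≤ δ) (hj : j ≤ δ)
    (he1 : e ≤ δ) (he2 : e ≤ δ - i + j) (he3 : e = δ ∨ e = δ - i + j)
    (ha1 : δ ≤ a') (ha2 : δ + j ≤ a' + i) (ha3 : a' = δ ∨ a' + i = δ + j) :
    (((δ + j) + (δ + e) : ℕ) : ℕ∞) = ((a' + (2 * δ - i) : ℕ) : ℕ∞) +
      Module.length ↥O (Abelian.Ext.{u}
        (ModuleCat.of ↥O ↥(Submodule.span ↥O ({((X : PowerSeries k) ^ i, (X : PowerSeries k) ^ i),
          ((X : PowerSeries k) ^ δ, 0)} : Set (PowerSeries k × PowerSeries k))))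
        (ModuleCat.of ↥O ↥(Submodule.span ↥O ({((X : PowerSeries k) ^ j, (X : PowerSeries k) ^ j),
          ((X : PowerSeries k) ^ δ, 0)} : Set (PowerSeries k × PowerSeries k)))) 1) := by
  obtain ⟨ιM, hιM⟩ : ∃ ι : ↥(Submodule.span ↥O ({((X : PowerSeries k) ^ i, (X : PowerSeries k) ^ i),
      ((X : PowerSeries k) ^ δ, 0)} : Set (PowerSeries k × PowerSeries k))) →ₗ[↥O]
      PowerSeries k × PowerSeries k, ι = (Submodule.span ↥O ({((X : PowerSeries k) ^ i,
      (X : PowerSeries k) ^ i), ((X : PowerSeries k) ^ δ, 0)} :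
      Set (PowerSeries k × PowerSeries k))).subtype := ⟨_, rfl⟩
  obtain ⟨ιN, hιN⟩ : ∃ ι : ↥(Submodule.span ↥O ({((X : PowerSeries k) ^ j, (X : PowerSeries k) ^ j),
      ((X : PowerSeries k) ^ δ, 0)} : Set (PowerSeries k × PowerSeries k))) →ₗ[↥O]
      PowerSeries k × PowerSeries k, ι = (Submodule.span ↥O ({((X : PowerSeries k) ^ j,
      (X : PowerSeries k) ^ j), ((X : PowerSeries k) ^ δ, 0)} :
      Set (PowerSeries k × PowerSeries k))).subtype := ⟨_, rfl⟩
  obtain ⟨v₀, hv₀⟩ : ∃ v : ↥(Submodule.span ↥O ({((X : PowerSeries k) ^ i, (X : PowerSeries k) ^ i),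
      ((X : PowerSeries k) ^ δ, 0)} : Set (PowerSeries k × PowerSeries k))),
      (v : PowerSeries k × PowerSeries k) = ((X : PowerSeries k) ^ i, (X : PowerSeries k) ^ i) :=
    ⟨⟨_, Submodule.subset_span (Or.inl rfl)⟩, rfl⟩
  obtain ⟨v₁, hv₁⟩ : ∃ v : ↥(Submodule.span ↥O ({((X : PowerSeries k) ^ i, (X : PowerSeries k) ^ i),
      ((X : PowerSeries k) ^ δ, 0)} : Set (PowerSeries k × PowerSeries k))),
      (v : PowerSeries k × PowerSeries k) = ((X : PowerSeries k) ^ δ, 0) :=
    ⟨⟨_, Submodule.subset_span (Or.inr rfl)⟩, rfl⟩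
  have hspan : Submodule.span ↥O {v₀, v₁} = ⊤ := by
    rw [_root_.eq_top_iff]
    rintro ⟨f, hf⟩ -
    obtain ⟨a, b, hab⟩ := Submodule.mem_span_pair.mp hf
    rw [Submodule.mem_span_pair]
    refine ⟨a, b, Subtype.ext ?_⟩
    rw [Submodule.coe_add, Submodule.coe_smul, Submodule.coe_smul, hv₀, hv₁]
    exact hab
  have hιMinj : Function.Injective ιM := by
    rw [hιM]
    exact Subtype.val_injective
  have hιNinj : Function.Injective ιN := by
    rw [hιN]
    exact Subtype.val_injective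
  have hu : ∀ b : PowerSeries k × PowerSeries k,
      ((X : PowerSeries k) ^ i, (X : PowerSeries k) ^ i) * b = 0 → b = 0 := by
    rintro ⟨b₁, b₂⟩ hb
    rw [Prod.mk_mul_mk, Prod.mk_eq_zero] at hb
    have hX : (X : PowerSeries k) ^ i ≠ 0 := pow_ne_zero i X_ne_zero
    rw [Prod.mk_eq_zero]
    exact ⟨(mul_eq_zero.mp hb.1).resolve_left hX, (mul_eq_zero.mp hb.2).resolve_left hX⟩
  have hv₀' : ιM v₀ = ((X : PowerSeries k) ^ i, (X : PowerSeries k) ^ i) := by
    rw [hιM]
    exact hv₀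
  have hv₁' : ιM v₁ = ((X : PowerSeries k) ^ i, (X : PowerSeries k) ^ i) *
      (((X : PowerSeries k) ^ (δ - i), 0) : PowerSeries k × PowerSeries k) := by
    rw [hιM, Prod.mk_mul_mk, mul_zero, ← pow_split hi]
    exact hv₁
  have hex := TwoGenExt.exact_rho' (A := O)
    (((X : PowerSeries k) ^ (δ - i), 0) : PowerSeries k × PowerSeries k) ιM v₀ v₁
    ((X : PowerSeries k) ^ i, (X : PowerSeries k) ^ i) hu hιMinj hv₀' hv₁'
  have hxA : ∀ b : PowerSeries k × PowerSeries k,
      ((X : PowerSeries k) ^ δ, (X : PowerSeries k) ^ δ) * b ∈ O := by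
    rintro ⟨b₁, b₂⟩
    rw [Prod.mk_mul_mk, mem_iff h]
    exact ⟨b₁ - b₂, by ring⟩
  have hx₀ : ∀ b b' : PowerSeries k × PowerSeries k,
      ((X : PowerSeries k) ^ δ, (X : PowerSeries k) ^ δ) * b =
        ((X : PowerSeries k) ^ δ, (X : PowerSeries k) ^ δ) * b' → b = b' := by
    rintro ⟨b₁, b₂⟩ ⟨b₁', b₂'⟩ hbb
    rw [Prod.mk_mul_mk, Prod.mk_mul_mk, Prod.mk.injEq] at hbb
    rw [Prod.mk.injEq]
    exact ⟨cancel_pow hbb.1, cancel_pow hbb.2⟩
  have hNr : LinearMap.range ιN = WW h j δ (by omega) := by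
    rw [hιN, Submodule.range_subtype, span_eq_WW h j hj]
  have hLF := TwoGenExt.length_formula' (A := O)
    (Mm := ↥(Submodule.span ↥O ({((X : PowerSeries k) ^ i, (X : PowerSeries k) ^ i),
      ((X : PowerSeries k) ^ δ, 0)} : Set (PowerSeries k × PowerSeries k))))
    (Nm := ↥(Submodule.span ↥O ({((X : PowerSeries k) ^ j, (X : PowerSeries k) ^ j),
      ((X : PowerSeries k) ^ δ, 0)} : Set (PowerSeries k × PowerSeries k))))
    (((X : PowerSeries k) ^ (δ - i), 0) : PowerSeries k × PowerSeries k)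
    ((X : PowerSeries k) ^ δ, (X : PowerSeries k) ^ δ) hxA ιN v₀ v₁ hx₀ hιNinj hspan hex
  rw [range_Lam_eq (Nm := ↥(Submodule.span ↥O ({((X : PowerSeries k) ^ j, (X : PowerSeries k) ^ j),
      ((X : PowerSeries k) ^ δ, 0)} : Set (PowerSeries k × PowerSeries k)))) h ιN j hNr (δ - i) e
      he1 he2 he3,
    YY_eq (Nm := ↥(Submodule.span ↥O ({((X : PowerSeries k) ^ j, (X : PowerSeries k) ^ j),
      ((X : PowerSeries k) ^ δ, 0)} : Set (PowerSeries k × PowerSeries k)))) h ιN j hNr hj i a' hi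
      ha1 ha2 ha3,
    length_quot_WW h _ _ _ (by omega), length_quot_WW h _ _ _ (by omega)] at hLF
  exact hLF

include h in
theorem length_ext (hδ : 1 ≤ δ) (i j : ℕ) (hi : i ≤ δ) (hj : j ≤ δ) :
    Module.length ↥O (Abelian.Ext.{u}
        (ModuleCat.of ↥O ↥(Submodule.span ↥O ({((X : PowerSeries k) ^ i, (X : PowerSeries k) ^ i),
          ((X : PowerSeries k) ^ δ, 0)} : Set (PowerSeries k × PowerSeries k))))
        (ModuleCat.of ↥O ↥(Submodule.span ↥O ({((X : PowerSeries k) ^ j, (X : PowerSeries k) ^ j),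
          ((X : PowerSeries k) ^ δ, 0)} : Set (PowerSeries k × PowerSeries k)))) 1) =
      ((2 * min i j : ℕ) : ℕ∞) := by
  haveI : IsLocalRing ↥O := isLocalRing h hδ
  rcases le_total i j with hij | hij
  · have hLF := length_ext_aux h i j δ (δ + j - i) hi hj le_rfl (by omega) (Or.inl rfl)
      (by omega) (by omega) (Or.inr (by omega))
    obtain ⟨E', hE1, hE2⟩ := CubExt.enat_aux hLF
    rw [hE1, min_eq_left hij]
    congr 1
    omega
  · have hLF := length_ext_aux h i j (δ - i + j) δ hi hj (by omega) le_rfl (Or.inr rfl)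
      le_rfl (by omega) (Or.inl rfl)
    obtain ⟨E', hE1, hE2⟩ := CubExt.enat_aux hLF
    rw [hE1, min_eq_right hij]
    congr 1
    omega

end main

/-- Let k be an algebraically closed field of characteristic zero, δ ≥ 1, and O ⊂ k[[t]] × k[[t]] the
complete local ring of the simple plane curve singularity A_{2δ−1} (two smooth branches with contact
of order δ, y² = x^{2δ}), namely the k-subalgebra of all pairs (f, g) of power series with f − g
divisible by t^δ. For 0 ≤ j ≤ δ let I_j ⊂ k[[t]] × k[[t]] be the O-submodule generated by (t^j, t^j)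
and (t^δ, 0), so that I_0 = O and I_δ is the conductor; the I_j represent the rank-one torsion-free
O-modules M_j. Then for all 0 ≤ i, j ≤ δ the O-module Ext¹_O(I_i, I_j) has length 2·min(i, j)
(length over O equals k-dimension here). (The one-branch case n = 2δ of the published lemma is
stated separately.) -/
theorem result (k : Type u) [Field k] [IsAlgClosed k] [CharZero k] (δ : ℕ) (hδ : 1 ≤ δ) (O : Subalgebra k (PowerSeries k × PowerSeries k)) (hO : ∀ f : (PowerSeries k × PowerSeries k), f ∈ O ↔ (δ : ℕ∞) ≤ PowerSeries.order (f.1 - f.2)) (i j : ℕ) (hi : i ≤ δ) (hj : j ≤ δ) : Module.length ↥O (Abelian.Ext (ModuleCat.of ↥O ↥(Submodule.span ↥O ({((PowerSeries.X : PowerSeries k) ^ i, (PowerSeries.X : PowerSeries k) ^ i), ((PowerSeries.X : PowerSeries k) ^ δ, 0)} : Set (PowerSeries k × PowerSeries k)))) (ModuleCat.of ↥O ↥(Submodule.span ↥O ({((PowerSeries.X : PowerSeries k) ^ j, (PowerSeries.X : PowerSeries k) ^ j), ((PowerSeries.X : PowerSeries k) ^ δ,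 0)} : Set (PowerSeries k × PowerSeries k)))) 1) = ((2 * min i j : ℕ) : ℕ∞) := by
  exact length_ext (h := hO) hδ i j hi hj

end Groth.Agent.S19532
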