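import Groth.Statements.S19533
import Groth.Agent.Lib.Helper14.FibreTrans3

set_option autoImplicit false
universe u
open CategoryTheory CategoryTheory.Limits MonoidalCategory CartesianMonoidalCategory MonObj GrpObj AlgebraicGeometry
open AbVar

namespace Groth.Agent.S19533

/-- Let k be an algebraically closed field, A an abelian variety over k (a k-group scheme whose
structure morphism is proper, smooth and geometrically connected) with unit point e, Y a scheme
separated over k and f : A → Y a morphism over k. Write F₀ for the connected component of e in the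
fibre f⁻¹(f(e)). Then the k-rational points of F₀ are stable under the group law: if k-points x and
y of A lie in F₀ then so do the product point x·y and the inverse point x⁻¹. (The published
statement is for Y a k-variety and concludes that F₀ with its reduced structure is an abelian
subvariety, together with the translation formula F_a = a + F₀; this row records the closure of
F₀(k) under multiplication and inversion, for Y merely separated over k.) -/
theorem result (k : Type u) [Field k] [IsAlgClosed k]
    (A : Over (Spec (CommRingCat.of k))) [GrpObj A] [IsProper A.hom] [Smooth A.hom] [GeometricallyConnected A.hom]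
    {Y : Scheme.{u}} (q : Y ⟶ Spec (CommRingCat.of k)) [IsSeparated q] (f : A.left ⟶ Y) (hf : f ≫ q = A.hom)
    (x y : 𝟙_ (Over (Spec (CommRingCat.of k))) ⟶ A)
    (hx : x.left (IsLocalRing.closedPoint k) ∈
      connectedComponentIn (f ⁻¹' {f (η[A].left (IsLocalRing.closedPoint k))}) (η[A].left (IsLocalRing.closedPoint k)))
    (hy : y.left (IsLocalRing.closedPoint k) ∈
      connectedComponentIn (f ⁻¹' {f (η[A].left (IsLocalRing.closedPoint k))}) (η[A].left (IsLocalRing.closedPoint k))) :
    (lift x y ≫ μ[A]).left (IsLocalRing.closedPoint k) ∈
        connectedComponentIn (f ⁻¹' {f (η[A].left (IsLocalRing.closedPoint k))}) (η[A].left (IsLocalRing.closedPoint k)) ∧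
      (x ≫ ι[A]).left (IsLocalRing.closedPoint k) ∈
        connectedComponentIn (f ⁻¹' {f (η[A].left (IsLocalRing.closedPoint k))}) (η[A].left (IsLocalRing.closedPoint k)) := by
  haveI : ConnectedSpace A.left :=
    GeometricallyConnected.connectedSpace_of_subsingleton (f := A.hom)
  set e := η[A].left (IsLocalRing.closedPoint k) with he
  set F := f ⁻¹' {f e} with hF
  have heF : e ∈ F := rfl
  have heF₀ : e ∈ connectedComponentIn F e := mem_connectedComponentIn heF
  have h1 : (η[A] : 𝟙_ _ ⟶ A) = 1 := by
    rw [Hom.one_def, toUnit_unique (toUnit _) (𝟙 _), Category.id_comp]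
  -- general facts
  have hfib : ∀ z : A.left, z ∈ connectedComponentIn F e → f z = f e := fun z hz =>
    connectedComponentIn_subset F e hz
  have hcc : ∀ z : A.left, z ∈ connectedComponentIn F e →
      connectedComponentIn (f ⁻¹' {f z}) z = connectedComponentIn F e := by
    intro z hz
    rw [hfib z hz]
    exact (connectedComponentIn_eq hz).symm
  have htr : ∀ b : 𝟙_ (Over (Spec (CommRingCat.of k))) ⟶ A,
      (Groth.Agent.Lib.Helper14.FibreTrans.tr A b).left e = b.left (IsLocalRing.closedPoint k) := by
    intro b
    have := Groth.Agent.Lib.Helper14.FibreTrans.tr_apply_point A η[A] b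
    rw [h1, _root_.mul_one] at this
    rw [he, h1]
    exact this
  constructor
  · have hsub := Groth.Agent.Lib.Helper14.FibreTrans.image_tr_subset A q f hf y x
    rw [hcc _ hy] at hsub
    have hxm : x.left (IsLocalRing.closedPoint k) ∈
        connectedComponentIn (f ⁻¹' {f ((x * y).left (IsLocalRing.closedPoint k))})
          ((x * y).left (IsLocalRing.closedPoint k)) := by
      rw [← htr x]
      exact hsub ⟨e, heF₀, rfl⟩
    have hfx : f (x.left (IsLocalRing.closedPoint k)) =
        f ((x * y).left (IsLocalRing.closedPoint k)) :=
      (connectedComponentIn_subset (f ⁻¹' {f ((x * y).left (IsLocalRing.closedPoint k))}) _ hxm :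
        x.left (IsLocalRing.closedPoint k) ∈
          f ⁻¹' {f ((x * y).left (IsLocalRing.closedPoint k))})
    have hxy : (lift x y ≫ μ[A]) = x * y := (Hom.mul_def x y).symm
    rw [hxy]
    have h3 : connectedComponentIn (f ⁻¹' {f ((x * y).left (IsLocalRing.closedPoint k))})
          ((x * y).left (IsLocalRing.closedPoint k)) = connectedComponentIn F e := by
      rw [connectedComponentIn_eq hxm, ← hfx]
      exact hcc _ hx
    rw [← h3]
    exact mem_connectedComponentIn rfl
  · have hsub := Groth.Agent.Lib.Helper14.FibreTrans.image_tr_subset A q f hf x x⁻¹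
    rw [hcc _ hx, inv_mul_cancel] at hsub
    have hxi : (x ≫ ι[A]) = x⁻¹ := (Hom.inv_def x).symm
    rw [hxi, ← htr x⁻¹]
    have h4 : (1 : 𝟙_ (Over (Spec (CommRingCat.of k))) ⟶ A).left (IsLocalRing.closedPoint k) = e := by
      rw [he, h1]
    rw [h4] at hsub
    exact hsub ⟨e, heF₀, rfl⟩

end Groth.Agent.S19533
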