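import Groth.Statements.S19540
import Mathlib

set_option autoImplicit false
open CategoryTheory CategoryTheory.Limits Opposite
universe w v u
open CohSite

namespace Groth.Agent.S19540

/-- Let (C, J) be a site and B a class of objects of C, each weakly contractible (every epimorphism of
sheaves of sets, valued in a fixed universe, is surjective on sections over it), such that every
object V of C has a covering sieve all of whose arrows factor through some object of B. Then a
three-term complex F ⟶ G ⟶ H of abelian sheaves on (C, J) is exact if and only if for every U in B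
the sequence of section groups F(U) ⟶ G(U) ⟶ H(U) is exact. (The published statement is for sheaves
of modules over a sheaf of rings O; this row is the case of the constant sheaf of rings ℤ, i.e.
abelian sheaves, to which exactness questions for O-modules reduce. The universe set-up assumes that
abelian sheafification exists and inverts exactly the locally bijective maps, as on any small site.) -/
theorem result
    {C : Type u} [Category.{v} C] (J : GrothendieckTopology C) [HasSheafify J AddCommGrpCat.{w}]
    [J.WEqualsLocallyBijective AddCommGrpCat.{w}]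
    (B : C → Prop)
    (hB : ∀ U : C, B U → ∀ (P Q : Sheaf J (Type w)) (ψ : P ⟶ Q), Epi ψ → Function.Surjective (ψ.hom.app (op U)))
    (hcov : ∀ V : C, ∃ S : Sieve V, S ∈ J V ∧ ∀ ⦃W : C⦄ (f : W ⟶ V), S.arrows f →
      ∃ (U : C) (g : W ⟶ U) (h : U ⟶ V), B U ∧ g ≫ h = f)
    (S : ShortComplex (Sheaf J AddCommGrpCat.{w})) :
    S.Exact ↔ ∀ U : C, B U →
      (S.map (sheafToPresheaf J AddCommGrpCat.{w} ⋙ (evaluation Cᵒᵖ AddCommGrpCat.{w}).obj (op U))).Exact := by
  classical
  -- the section functors
  let Φ : C → (Sheaf J AddCommGrpCat.{w} ⥤ AddCommGrpCat.{w}) := fun U =>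
    sheafToPresheaf J AddCommGrpCat.{w} ⋙ (evaluation Cᵒᵖ AddCommGrpCat.{w}).obj (op U)
  -- sections of the cycles are the kernel of sections
  have hK : ∀ U : C, (ShortComplex.mk ((Φ U).map S.iCycles) ((Φ U).map S.g)
      (by rw [← Functor.map_comp, S.iCycles_g, Functor.map_zero])).Exact ∧
      Mono ((Φ U).map S.iCycles) := by
    intro U
    have hlim : IsLimit ((KernelFork.ofι S.iCycles S.iCycles_g).map (Φ U)) :=
      KernelFork.mapIsLimit _ S.cyclesIsKernel (Φ U)
    exact ⟨ShortComplex.exact_of_f_is_kernel _ hlim, mono_of_isLimit_fork hlim⟩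
  have hKex : ∀ (U : C) (x₂ : S.X₂.obj.obj (op U)), S.g.hom.app (op U) x₂ = 0 →
      ∃ k : S.cycles.obj.obj (op U), S.iCycles.hom.app (op U) k = x₂ := by
    intro U x₂ hx₂
    exact (ShortComplex.ab_exact_iff _).1 (hK U).1 x₂ hx₂
  have hKinj : ∀ U : C, Function.Injective (S.iCycles.hom.app (op U)) := by
    intro U
    exact (AddCommGrpCat.mono_iff_injective _).1 (hK U).2
  have hfi : ∀ (U : C) (x₁ : S.X₁.obj.obj (op U)),
      S.iCycles.hom.app (op U) (S.toCycles.hom.app (op U) x₁) = S.f.hom.app (op U) x₁ := by
    intro U x₁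
    have := congrArg (fun φ => φ.hom.app (op U) x₁) S.toCycles_i
    exact this
  have hig : ∀ (U : C) (k : S.cycles.obj.obj (op U)),
      S.g.hom.app (op U) (S.iCycles.hom.app (op U) k) = 0 := by
    intro U k
    have := congrArg (fun φ => φ.hom.app (op U) k) S.iCycles_g
    exact this
  rw [S.exact_iff_epi_toCycles, ← Sheaf.isLocallySurjective_iff_epi']
  constructor
  · intro hls U hU
    rw [ShortComplex.ab_exact_iff]
    intro x₂ hx₂
    obtain ⟨k, hk⟩ := hKex U x₂ hx₂
    have hls' : Sheaf.IsLocallySurjective
        ((sheafCompose J (forget AddCommGrpCat.{w})).map S.toCycles) := inferInstance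
    have hepi : Epi ((sheafCompose J (forget AddCommGrpCat.{w})).map S.toCycles) := inferInstance
    obtain ⟨x₁, hx₁⟩ := hB U hU _ _ _ hepi k
    refine ⟨x₁, ?_⟩
    have h1 : S.toCycles.hom.app (op U) x₁ = k := hx₁
    have := hfi U x₁
    rw [h1, hk] at this
    exact this.symm
  · intro hex
    constructor
    intro V k
    obtain ⟨SV, hSV, hfac⟩ := hcov V
    refine J.superset_covering ?_ hSV
    intro W φ hφ
    obtain ⟨U, g', h, hU, rfl⟩ := hfac φ hφ
    have hexU : ∀ x₂ : S.X₂.obj.obj (op U), S.g.hom.app (op U) x₂ = 0 →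
        ∃ x₁ : S.X₁.obj.obj (op U), S.f.hom.app (op U) x₁ = x₂ :=
      (ShortComplex.ab_exact_iff _).1 (hex U hU)
    obtain ⟨x₁, hx₁⟩ := hexU (S.iCycles.hom.app (op U) (S.cycles.obj.map h.op k)) (hig U _)
    have hx₁' : S.toCycles.hom.app (op U) x₁ = S.cycles.obj.map h.op k := by
      apply hKinj U
      rw [hfi]
      exact hx₁
    refine ⟨S.X₁.obj.map g'.op x₁, ?_⟩
    have hnat := NatTrans.naturality_apply S.toCycles.hom g'.op x₁
    rw [hnat, hx₁', op_comp, Functor.map_comp]
    rfl

end Groth.Agent.S19540
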