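import Groth.Statements.S19547
import Mathlib

set_option autoImplicit false
universe u
open TensorProduct
open Desc

namespace Groth.Agent.S19547

/-- Let A → A' be a faithfully flat homomorphism of commutative rings, M' an A'-module and φ : M' ⊗_A A'
→ A' ⊗_A M' an isomorphism of (A' ⊗_A A')-modules for the diagonal actions (x ⊗ y)(u ⊗ z) = xu ⊗ yz
and (x ⊗ y)(z ⊗ u) = xz ⊗ yu, satisfying the cocycle condition φ_13 = φ_23 ∘ φ_12 between the three
pullbacks to A' ⊗_A A' ⊗_A A'. Here linearity over A' ⊗_A A' is stated on the generators x ⊗ 1 and 1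
⊗ y, and the cocycle condition on pure tensors u ⊗ a ⊗ b: writing φ(u ⊗ a) = Σ a_i ⊗ u_i, it says Σ
a_i ⊗ φ(u_i ⊗ b) = Σ b_j ⊗ a ⊗ u'_j where φ(u ⊗ b) = Σ b_j ⊗ u'_j. Let M = {u ∈ M' : φ(u ⊗ 1) = 1 ⊗
u}, an A-submodule of M'. Then the canonical map λ : A' ⊗_A M → M', x ⊗ u ↦ xu, is an isomorphism. -/
theorem result (A A' : Type u) [CommRing A] [CommRing A']
    [Algebra A A'] [Module.FaithfullyFlat A A'] (M' : Type u) [AddCommGroup M'] [Module A M']
    [Module A' M'] [IsScalarTower A A' M']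
    (φ : M' ⊗[A] A' →ₗ[A] A' ⊗[A] M') (hφ : Function.Bijective φ)
    (h1 : ∀ (x : A') (u : M') (z : A'),
      φ ((x • u) ⊗ₜ[A] z) = LinearMap.rTensor M' (LinearMap.mulLeft A x) (φ (u ⊗ₜ[A] z)))
    (h2 : ∀ (y : A') (u : M') (z : A'),
      φ (u ⊗ₜ[A] (y * z)) = LinearMap.lTensor A' (Algebra.lsmul A A M' y) (φ (u ⊗ₜ[A] z)))
    (hcoc : ∀ (u : M') (a b : A'),
      LinearMap.lTensor A' φ (TensorProduct.assoc A A' M' A' (LinearMap.rTensor A' φ ((u ⊗ₜ[A] a) ⊗ₜ[A] b))) =
        LinearMap.lTensor A' (TensorProduct.mk A A' M' a) (φ (u ⊗ₜ[A] b)))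
    (M : Submodule A M') (hM : ∀ u : M', u ∈ M ↔ φ (u ⊗ₜ[A] (1 : A')) = (1 : A') ⊗ₜ[A] u) :
    Function.Bijective
      ((TensorProduct.lift (Algebra.lsmul A A M').toLinearMap) ∘ₗ (LinearMap.lTensor A' M.subtype)) := by
  classical
  -- the map u ↦ φ (u ⊗ 1) - 1 ⊗ u
  set D1 : M' →ₗ[A] A' ⊗[A] M' := φ ∘ₗ (TensorProduct.mk A M' A').flip 1 with hD1
  set D2 : M' →ₗ[A] A' ⊗[A] M' := TensorProduct.mk A A' M' 1 with hD2
  have hMker : M = LinearMap.ker (D1 - D2) := by
    ext u
    rw [hM, LinearMap.mem_ker, LinearMap.sub_apply, sub_eq_zero]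
    simp [hD1, hD2]
  -- step 1
  have step1 : ∀ (u : M) (a : A'), φ ((u : M') ⊗ₜ[A] a) = (1 : A') ⊗ₜ[A] (a • (u : M')) := by
    intro u a
    have := h2 a (u : M') 1
    rw [mul_one, (hM _).mp u.2] at this
    rw [this]
    simp
  set lam' : M ⊗[A] A' →ₗ[A] M' :=
    TensorProduct.lift ((Algebra.lsmul A A M').toLinearMap.flip ∘ₗ M.subtype) with hlam'
  have hlam'_tmul : ∀ (u : M) (a : A'), lam' (u ⊗ₜ a) = a • (u : M') := by
    intro u a; simp [hlam']
  set θ : M ⊗[A] A' →ₗ[A] A' ⊗[A] M' := φ ∘ₗ LinearMap.rTensor A' M.subtype with hθ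
  have hθ_eq : θ = D2 ∘ₗ lam' := by
    apply TensorProduct.ext'
    intro u a
    simp only [hθ, LinearMap.comp_apply, LinearMap.rTensor_tmul, Submodule.subtype_apply, step1,
      hlam'_tmul, hD2, TensorProduct.mk_apply]
  have hθ_inj : Function.Injective θ := by
    rw [hθ, LinearMap.coe_comp]
    exact hφ.1.comp (Module.Flat.rTensor_preserves_injective_linearMap _ M.subtype_injective)
  have hD2_inj : Function.Injective D2 := Module.FaithfullyFlat.tensorProduct_mk_injective M'
  have hlam'_inj : Function.Injective lam' := by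
    have : Function.Injective (D2 ∘ lam') := by
      rw [← LinearMap.coe_comp, ← hθ_eq]; exact hθ_inj
    exact this.of_comp
  have hlam'_surj : Function.Surjective lam' := by
    intro w
    obtain ⟨y, hy⟩ := hφ.2 ((1 : A') ⊗ₜ[A] w)
    set Φ : (A' ⊗[A] M') ⊗[A] A' →ₗ[A] A' ⊗[A] (A' ⊗[A] M') :=
      LinearMap.lTensor A' φ ∘ₗ (TensorProduct.assoc A A' M' A').toLinearMap with hΦ
    have hΦ_inj : Function.Injective Φ := by
      rw [hΦ, LinearMap.coe_comp]
      exact (Module.Flat.lTensor_preserves_injective_linearMap _ hφ.1).comp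
        (TensorProduct.assoc A A' M' A').injective
    have e1 : Φ ∘ₗ LinearMap.rTensor A' D1 = LinearMap.lTensor A' (TensorProduct.mk A A' M' 1) ∘ₗ φ := by
      apply TensorProduct.ext'
      intro u b
      have := hcoc u 1 b
      simp only [LinearMap.comp_apply, hΦ, LinearMap.rTensor_tmul, hD1, LinearMap.flip_apply,
        TensorProduct.mk_apply, LinearEquiv.coe_coe]
      simp only [LinearMap.rTensor_tmul] at this
      exact this
    have e2 : Φ ∘ₗ LinearMap.rTensor A' D2 = TensorProduct.mk A A' (A' ⊗[A] M') 1 ∘ₗ φ := by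
      apply TensorProduct.ext'
      intro u b
      simp [hΦ, hD2]
    have hker : LinearMap.rTensor A' (D1 - D2) y = 0 := by
      rw [LinearMap.rTensor_sub]
      show LinearMap.rTensor A' D1 y - LinearMap.rTensor A' D2 y = 0
      rw [sub_eq_zero]
      apply hΦ_inj
      have a1 := congrArg (fun f => f y) e1
      have a2 := congrArg (fun f => f y) e2
      simp only [LinearMap.comp_apply] at a1 a2
      rw [a1, a2, hy]
      simp
    have hex : Function.Exact (LinearMap.rTensor A' M.subtype) (LinearMap.rTensor A' (D1 - D2)) := by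
      apply Module.Flat.rTensor_exact
      rw [hMker]
      exact LinearMap.exact_subtype_ker_map _
    obtain ⟨y', hy'⟩ := (hex y).mp hker
    refine ⟨y', hD2_inj ?_⟩
    have := congrArg (fun f => f y') hθ_eq
    simp only [LinearMap.comp_apply] at this
    rw [← this, hθ, LinearMap.comp_apply, hy', hy]
    rfl
  -- conclude
  have hcomp : ((TensorProduct.lift (Algebra.lsmul A A M').toLinearMap) ∘ₗ (LinearMap.lTensor A' M.subtype))
      = lam' ∘ₗ (TensorProduct.comm A A' M).toLinearMap := by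
    apply TensorProduct.ext'
    intro a u
    simp [hlam'_tmul]
  rw [hcomp, LinearMap.coe_comp]
  exact ⟨hlam'_inj.comp (TensorProduct.comm A A' M).injective,
    hlam'_surj.comp (TensorProduct.comm A A' M).surjective⟩

end Groth.Agent.S19547
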