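import Groth.Statements.S19551
import Mathlib

set_option autoImplicit false
universe u v w
open KronMod

namespace Groth.Agent.S19551

set_option linter.style.haveILetI false
set_option linter.unusedSectionVars false
set_option linter.unusedVariables false

open Polynomial

section Core

variable {K : Type*} [Field K] {k : ℕ}

/-- A nonzero polynomial kernel vector can be normalized to have nonzero constant term. -/
theorem exists_normalized (P : Matrix (Fin k) (Fin k) K[X]) :
    ∀ n : ℕ, ∀ v : Fin k → K[X], v ≠ 0 → P.mulVec v = 0 → (∑ i, (v i).natDegree) = n →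
      ∃ w : Fin k → K[X], P.mulVec w = 0 ∧ ∃ i, (w i).coeff 0 ≠ 0 := by
  intro n
  induction n using Nat.strong_induction_on with
  | _ n ih =>
    intro v hv hPv hn
    by_cases h0 : ∃ i, (v i).coeff 0 ≠ 0
    · exact ⟨v, hPv, h0⟩
    · push Not at h0
      have hvX : ∀ i, v i = X * divX (v i) := by
        intro i
        have := X_mul_divX_add (v i)
        rw [h0 i, map_zero, add_zero] at this
        exact this.symm
      let w : Fin k → K[X] := fun i => divX (v i)
      have hw : w ≠ 0 := by
        intro hw
        apply hv
        funext i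
        rw [hvX i]
        change X * w i = 0
        rw [hw]; simp
      have hPw : P.mulVec w = 0 := by
        have h1 : v = (X : K[X]) • w := by
          funext i
          rw [hvX i]; rfl
        rw [h1, Matrix.mulVec_smul] at hPv
        funext i
        have := congrFun hPv i
        simp only [Pi.smul_apply, smul_eq_mul, Pi.zero_apply, mul_eq_zero, X_ne_zero,
          false_or] at this
        exact this
      have hlt : (∑ i, (w i).natDegree) < n := by
        rw [← hn]
        obtain ⟨i₀, hi₀⟩ : ∃ i, v i ≠ 0 := by
          by_contra hcon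
          push Not at hcon
          exact hv (funext hcon)
        have hle : ∀ i ∈ Finset.univ, (w i).natDegree ≤ (v i).natDegree := by
          intro i _
          change (divX (v i)).natDegree ≤ _
          rw [natDegree_divX_eq_natDegree_tsub_one]
          exact Nat.sub_le _ _
        refine Finset.sum_lt_sum hle ⟨i₀, Finset.mem_univ _, ?_⟩
        change (divX (v i₀)).natDegree < _
        rw [natDegree_divX_eq_natDegree_tsub_one]
        have hpos : 0 < (v i₀).natDegree := by
          rw [Nat.pos_iff_ne_zero]
          intro hdeg
          have := eq_C_of_natDegree_eq_zero hdeg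
          rw [h0 i₀, map_zero] at this
          exact hi₀ this
        omega
      exact ih _ hlt w hw hPw rfl

/-- The pencil matrix. -/
noncomputable def pencil (A B : Matrix (Fin k) (Fin k) K) : Matrix (Fin k) (Fin k) K[X] :=
  A.map C + (X : K[X]) • B.map C

theorem eval_det_pencil (A B : Matrix (Fin k) (Fin k) K) (z : K) :
    (pencil A B).det.eval z = (A + z • B).det := by
  have h1 : (evalRingHom z).mapMatrix (pencil A B) = A + z • B := by
    ext i j
    simp [pencil, Matrix.map_apply]
    ring
  rw [← h1, ← RingHom.map_det]
  rfl

theorem kron_core [Infinite K] (A B : Matrix (Fin k) (Fin k) K)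
    (h : ∀ z : K, (A + z • B).det = 0) :
    ∃ c : ℕ → Fin k → K, c 0 ≠ 0 ∧ A.mulVec (c 0) = 0 ∧
      ∀ j, A.mulVec (c (j + 1)) + B.mulVec (c j) = 0 := by
  classical
  have hdet : (pencil A B).det = 0 := by
    apply eq_zero_of_infinite_isRoot
    have : {x | IsRoot (pencil A B).det x} = Set.univ := by
      ext z
      simp only [Set.mem_ofPred_eq, Set.mem_univ, iff_true, IsRoot.def]
      rw [eval_det_pencil, h z]
    rw [this]
    exact Set.infinite_univ
  obtain ⟨v, hv, hPv⟩ := Matrix.exists_mulVec_eq_zero_iff.2 hdet
  obtain ⟨w, hPw, i₀, hi₀⟩ := exists_normalized (pencil A B) _ v hv hPv rfl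
  refine ⟨fun j i => (w i).coeff j, ?_, ?_, ?_⟩
  · intro h0
    exact hi₀ (congrFun h0 i₀)
  · funext i
    have := congrArg (fun p => p.coeff 0) (congrFun hPw i)
    simp only [Matrix.mulVec, dotProduct, pencil, Matrix.add_apply, Matrix.map_apply,
      Matrix.smul_apply, smul_eq_mul, Pi.zero_apply, coeff_zero, finsetSum_coeff, add_mul,
      coeff_add, mul_assoc, coeff_X_mul_zero, coeff_C_mul, add_zero] at this
    simpa [Matrix.mulVec, dotProduct] using this
  · intro j
    funext i
    have := congrArg (fun p => p.coeff (j + 1)) (congrFun hPw i)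
    simp only [Matrix.mulVec, dotProduct, pencil, Matrix.add_apply, Matrix.map_apply,
      Matrix.smul_apply, smul_eq_mul, Pi.zero_apply, coeff_zero, finsetSum_coeff, add_mul,
      coeff_add, mul_assoc, coeff_X_mul, coeff_C_mul] at this
    simp only [Matrix.mulVec, dotProduct, Pi.add_apply, Pi.zero_apply]
    rw [← Finset.sum_add_distrib]
    exact this

end Core

section Main

variable {K : Type*} [Field K] [Infinite K] {V W : Type*}
  [AddCommGroup V] [Module K V] [FiniteDimensional K V]
  [AddCommGroup W] [Module K W] [FiniteDimensional K W]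

theorem exists_bijective (f : Fin 2 → (V →ₗ[K] W)) (k : ℕ)
    (hV : Module.finrank K V = k) (hW : Module.finrank K W = k)
    (hf : KronMod.IsSemistable f) :
    ∃ z : K, Function.Bijective ((f 0 + z • f 1 : V →ₗ[K] W) : V → W) := by
  classical
  by_contra hno
  push Not at hno
  have hk : 0 < k := by
    have := hf.1
    omega
  let bV : Module.Basis (Fin k) K V := Module.finBasisOfFinrankEq K V hV
  let bW : Module.Basis (Fin k) K W := Module.finBasisOfFinrankEq K W hW
  let A := LinearMap.toMatrix bV bW (f 0)
  let B := LinearMap.toMatrix bV bW (f 1)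
  have hdet : ∀ z : K, (A + z • B).det = 0 := by
    intro z
    by_contra hne
    have hM : LinearMap.toMatrix bV bW (f 0 + z • f 1) = A + z • B := by
      rw [map_add, map_smul]
    have hu : IsUnit (LinearMap.toMatrix bV bW (f 0 + z • f 1)).det := by
      rw [hM]
      exact isUnit_iff_ne_zero.2 hne
    apply hno z
    have := (LinearEquiv.ofIsUnitDet hu).bijective
    have hc : ((LinearEquiv.ofIsUnitDet hu : V ≃ₗ[K] W) : V → W) = (f 0 + z • f 1 : V →ₗ[K] W) := by
      funext x
      rfl
    rw [hc] at this
    exact this
  obtain ⟨c, hc0, hA0, hrec⟩ := kron_core A B hdet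
  -- back to V
  let vv : ℕ → V := fun j => bV.equivFun.symm (c j)
  have hrepr : ∀ j, ((bV.repr (vv j) : Fin k →₀ K) : Fin k → K) = c j := by
    intro j
    have := bV.equivFun.apply_symm_apply (c j)
    exact this
  have hf0 : ∀ j, (bW.repr (f 0 (vv j)) : Fin k → K) = A.mulVec (c j) := by
    intro j
    rw [← hrepr j]
    exact (LinearMap.toMatrix_mulVec_repr bV bW (f 0) (vv j)).symm
  have hf1 : ∀ j, (bW.repr (f 1 (vv j)) : Fin k → K) = B.mulVec (c j) := by
    intro j
    rw [← hrepr j]
    exact (LinearMap.toMatrix_mulVec_repr bV bW (f 1) (vv j)).symm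
  have hreprinj : ∀ y : W, ((bW.repr y : Fin k →₀ K) : Fin k → K) = 0 → y = 0 := by
    intro y hy
    have : bW.repr y = 0 := by
      ext i
      exact congrFun hy i
    exact (LinearEquiv.map_eq_zero_iff _).1 this
  have h0 : f 0 (vv 0) = 0 := by
    apply hreprinj
    rw [hf0, hA0]
  have hstep : ∀ j, f 0 (vv (j + 1)) + f 1 (vv j) = 0 := by
    intro j
    apply hreprinj
    rw [map_add, Finsupp.coe_add, hf0, hf1, hrec]
  have hvv0 : vv 0 ≠ 0 := by
    intro h
    apply hc0
    have := hrepr 0
    rw [h, map_zero] at this
    exact this.symm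
  -- the destabilizing subrepresentation
  let U : Submodule K V := Submodule.span K (Set.range vv)
  let W' : Submodule K W := U.map (f 0)
  have hvvU : ∀ j, vv j ∈ U := fun j => Submodule.subset_span ⟨j, rfl⟩
  have hsub : KronMod.IsSubrep f U W' := by
    intro j
    fin_cases j
    · exact le_rfl
    · change U.map (f 1) ≤ U.map (f 0)
      rw [Submodule.map_span_le]
      rintro _ ⟨j, rfl⟩
      have : f 1 (vv j) = f 0 (- vv (j + 1)) := by
        rw [map_neg]
        exact eq_neg_of_add_eq_zero_right (hstep j)
      rw [this]
      exact Submodule.mem_map_of_mem (U.neg_mem (hvvU (j + 1)))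
  have hU : U ≠ ⊥ := by
    intro h
    have := hvvU 0
    rw [h, Submodule.mem_bot] at this
    exact hvv0 this
  have hdim : Module.finrank K W' < Module.finrank K U := by
    have h1 := LinearMap.finrank_range_add_finrank_ker ((f 0).domRestrict U)
    have h2 : LinearMap.range ((f 0).domRestrict U) = W' := LinearMap.range_domRestrict _ _
    rw [h2] at h1
    have h3 : 0 < Module.finrank K (LinearMap.ker ((f 0).domRestrict U)) := by
      rw [Module.finrank_pos_iff_exists_ne_zero]
      refine ⟨⟨⟨vv 0, hvvU 0⟩, ?_⟩, ?_⟩
      · rw [LinearMap.mem_ker]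
        exact h0
      · intro h
        apply hvv0
        have := congrArg (fun x => ((x : U) : V)) (congrArg Subtype.val h)
        exact this
    omega
  have hne1 : ¬ (U = ⊥ ∧ W' = ⊥) := fun h => hU h.1
  have hne2 : ¬ (U = ⊤ ∧ W' = ⊤) := by
    rintro ⟨h1, h2⟩
    rw [h2, finrank_top, hW] at hdim
    have := Submodule.finrank_le U
    omega
  have := hf.2 U W' hsub hne1 hne2
  rw [hW, hV] at this
  have := Nat.le_of_mul_le_mul_left this hk
  omega

end Main


/-- Case of two arrows. Over an algebraically closed field K, if a Kronecker module f = (f_0, f_1) with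
two arrows between spaces V and W of the same finite dimension k is semistable, then some linear
combination z_0 f_0 + z_1 f_1 of its arrows is a linear isomorphism V → W: for two arrows the
semistable locus of dimension vector (k, k) lies in the open set of modules whose generic
combination is invertible, for every k. (The published statement, over an algebraically closed field
of characteristic zero, also covers the dimension vectors (1, 1) and (2, 2) for any number of
arrows; this row states the two-arrow case for all k, without the characteristic assumption.) -/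
theorem result (K : Type u) [Field K] [IsAlgClosed K]
    (V : Type v) (W : Type w)
    [AddCommGroup V] [Module K V] [FiniteDimensional K V]
    [AddCommGroup W] [Module K W] [FiniteDimensional K W]
    (f : Fin 2 → (V →ₗ[K] W)) (k : ℕ)
    (hV : Module.finrank K V = k) (hW : Module.finrank K W = k)
    (hf : KronMod.IsSemistable f) :
    ∃ z : Fin 2 → K, Function.Bijective ((∑ j, z j • f j : V →ₗ[K] W) : V → W) := by
  obtain ⟨z, hz⟩ := exists_bijective f k hV hW hf
  refine ⟨![1, z], ?_⟩
  have : (∑ j, (![1, z] : Fin 2 → K) j • f j : V →ₗ[K] W) = f 0 + z • f 1 := by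
    rw [Fin.sum_univ_two]
    simp
  rw [this]
  exact hz

end Groth.Agent.S19551
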