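import Groth.Statements.S19556
import Mathlib.AlgebraicGeometry.Morphisms.Immersion
import Mathlib.AlgebraicGeometry.Morphisms.Proper

set_option autoImplicit false
universe u
open CategoryTheory AlgebraicGeometry
open Mor

namespace Groth.Agent.S19556

open CategoryTheory.Limits in
/-- Let S be a scheme, p : X → S and q : Y → S schemes over S, and π : X → Y a finite surjective
morphism over S (π ≫ q = p). If X is separated over S then Y is separated over S. (The published
statement is about the quotient map X → X/G of a scheme by an action of a finite group scheme,
assumed to exist and then finite and surjective; this row keeps of it only a finite surjective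
S-morphism π, which is all the argument uses.) -/
theorem result {S X Y : Scheme.{u}} (p : X ⟶ S) (q : Y ⟶ S)
    (π : X ⟶ Y) (hπ : π ≫ q = p) [IsFinite π] [Surjective π] [IsSeparated p] :
    IsSeparated q := by
  subst hπ
  -- the map π × π on fibre products over S
  let ππ : pullback (π ≫ q) (π ≫ q) ⟶ pullback q q :=
    pullback.map (π ≫ q) (π ≫ q) q q π π (𝟙 S) ((Category.comp_id _).trans rfl)
      ((Category.comp_id _).trans rfl)
  have hfin : IsFinite ππ :=
    MorphismProperty.pullbackMap (P := @IsFinite) ‹IsFinite π› ‹IsFinite π› rfl rfl
  have hcomm : pullback.diagonal (π ≫ q) ≫ ππ = π ≫ pullback.diagonal q := by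
    apply pullback.hom_ext
    · simp only [ππ, pullback.map, Category.assoc, pullback.lift_fst, pullback.diagonal_fst,
        pullback.diagonal_fst_assoc, Category.comp_id]
    · simp only [ππ, pullback.map, Category.assoc, pullback.lift_snd, pullback.diagonal_snd,
        pullback.diagonal_snd_assoc, Category.comp_id]
  have hclosedmap : IsClosedMap ππ := ππ.isClosedMap
  have hrange : Set.range (pullback.diagonal q) =
      ππ '' (Set.range (pullback.diagonal (π ≫ q))) := by
    have h1 : Set.range (pullback.diagonal (π ≫ q) ≫ ππ) =
        ππ '' (Set.range (pullback.diagonal (π ≫ q))) := by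
      rw [← Set.range_comp]; rfl
    have h2 : Set.range (π ≫ pullback.diagonal q) = Set.range (pullback.diagonal q) := by
      have : ⇑(π ≫ pullback.diagonal q) = ⇑(pullback.diagonal q) ∘ ⇑π := rfl
      rw [this, Set.range_comp, (Surjective.surj (f := π)).range_eq, Set.image_univ]
    rw [← h1, hcomm, h2]
  have hclosed : IsClosed (Set.range (pullback.diagonal q)) := by
    rw [hrange]
    exact hclosedmap _ (pullback.diagonal (π ≫ q)).isClosedEmbedding.isClosed_range
  exact ⟨IsClosedImmersion.of_isPreimmersion _ hclosed⟩

end Groth.Agent.S19556
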