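import Groth.Statements.S19562
import Mathlib.LinearAlgebra.Dimension.RankNullity
import Mathlib.LinearAlgebra.FiniteDimensional.Lemmas
import Mathlib.RingTheory.Spectrum.Prime.FreeLocus

set_option autoImplicit false
universe u
open W4c1limliniiii

namespace Groth.Agent.S19562

/-- Rank-nullity for the restriction of a linear map to a subspace. -/
theorem finrank_map_add_finrank_ker_inf {k E : Type*} [Field k] [AddCommGroup E] [Module k E]
    [FiniteDimensional k E] (φ : E →ₗ[k] E) (V : Submodule k E) :
    Module.finrank k ↥(V.map φ) + Module.finrank k ↥(LinearMap.ker φ ⊓ V) = Module.finrank k ↥V := by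
  have h := LinearMap.finrank_range_add_finrank_ker (φ.domRestrict V)
  rw [LinearMap.range_domRestrict, LinearMap.ker_domRestrict] at h
  have e : (LinearMap.ker φ).comap V.subtype = (LinearMap.ker φ ⊓ V).comap V.subtype := by
    rw [Submodule.comap_inf, Submodule.comap_subtype_self, inf_top_eq]
  rw [e, LinearEquiv.finrank_eq (Submodule.comapSubtypeEquivOfLe (inf_le_right :
    LinearMap.ker φ ⊓ V ≤ V))] at h
  exact h

/-- The linear-algebra core: exactness of a linked pair is a dimension count. -/
theorem exact_iff_finrank {k E : Type*} [Field k] [AddCommGroup E] [Module k E]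
    [FiniteDimensional k E] (φ ψ : E →ₗ[k] E) (hψφ : ψ.comp φ = 0) (hφψ : φ.comp ψ = 0)
    (V W : Submodule k E) (r : ℕ) (hVr : Module.finrank k ↥V = r) (hWr : Module.finrank k ↥W = r)
    (hφV : V.map φ ≤ W) (hψW : W.map ψ ≤ V) :
    ((LinearMap.ker ψ ⊓ W ≤ V.map φ) ∧ (LinearMap.ker φ ⊓ V ≤ W.map ψ)) ↔
      Module.finrank k ↥(V.map φ) + Module.finrank k ↥(W.map ψ) = r := by
  have h1 : V.map φ ≤ LinearMap.ker ψ ⊓ W := by
    refine le_inf ?_ hφV
    rintro _ ⟨v, _, rfl⟩
    exact LinearMap.mem_ker.mpr (LinearMap.congr_fun hψφ v)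
  have h2 : W.map ψ ≤ LinearMap.ker φ ⊓ V := by
    refine le_inf ?_ hψW
    rintro _ ⟨w, _, rfl⟩
    exact LinearMap.mem_ker.mpr (LinearMap.congr_fun hφψ w)
  have rnV := finrank_map_add_finrank_ker_inf φ V
  have rnW := finrank_map_add_finrank_ker_inf ψ W
  rw [hVr] at rnV
  rw [hWr] at rnW
  constructor
  · rintro ⟨a, b⟩
    have e2 : W.map ψ = LinearMap.ker φ ⊓ V := le_antisymm h2 b
    rw [e2]; exact rnV
  · intro hsum
    constructor
    · have : Module.finrank k ↥(V.map φ) = Module.finrank k ↥(LinearMap.ker ψ ⊓ W) := by omega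
      exact (Submodule.eq_of_le_of_finrank_eq h1 this).ge
    · have : Module.finrank k ↥(W.map ψ) = Module.finrank k ↥(LinearMap.ker φ ⊓ V) := by omega
      exact (Submodule.eq_of_le_of_finrank_eq h2 this).ge

open TensorProduct in
/-- Let k be a field, 0 < r < d, and f_i, g_i (i < n) linear maps forward and backward between
consecutive ones of n + 1 copies of k^d, forming a linked Grassmannian over Spec k whose scalar s is
zero: every composite f_i ∘ g_i and g_i ∘ f_i vanishes, rank f_i + rank g_i ≥ d, and for consecutive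
indices im f_i ∩ ker f_{i+1} = 0 and im g_{i+1} ∩ ker g_i = 0. Let (V_i) be a k-valued point of the
linked Grassmannian of rank-r sub-bundles (subspaces V_i of k ⊗ k^d with quotient of rank d − r,
with f_i(V_i) ⊆ V_{i+1} and g_i(V_{i+1}) ⊆ V_i). Then (V_i) is exact, meaning ker g_i ∩ V_{i+1} ⊆
f_i(V_i) and ker f_i ∩ V_i ⊆ g_i(V_{i+1}) for all i, if and only if dim f_i(V_i) + dim g_i(V_{i+1})
= r for all i. (The published assertion is for points with values in an arbitrary scheme and also
says that f_i(V_i) and g_i(V_{i+1}) are then sub-bundles; this row is the case of a field, where the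
last clause is empty.) -/
theorem result (k : Type u) [Field k]
    (d r n : ℕ) (hr : 0 < r) (hrd : r < d) (f g : Fin n → ((Fin d → k) →ₗ[k] (Fin d → k)))
    (hI : ∀ i, (f i).comp (g i) = 0 ∧ (g i).comp (f i) = 0)
    (hII : ∀ i, d ≤ Module.finrank k (LinearMap.range (f i)) + Module.finrank k (LinearMap.range (g i)))
    (hIII : ∀ i j : Fin n, i.val + 1 = j.val →
      LinearMap.range (f i) ⊓ LinearMap.ker (f j) = ⊥ ∧
        LinearMap.range (g j) ⊓ LinearMap.ker (g i) = ⊥)
    (V : Fin (n + 1) → Module.Grassmannian k (k ⊗[k] (Fin d → k)) (d - r))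
    (hV : V ∈ W4c1limliniiii.LGPoints k d r n f g k) :
    W4c1limliniiii.IsExact k d r n f g k V ↔
      ∀ i : Fin n,
        Module.finrank k ↥(Submodule.map ((f i).baseChange k) (V i.castSucc).toSubmodule) +
          Module.finrank k ↥(Submodule.map ((g i).baseChange k) (V i.succ).toSubmodule) = r := by
  have hE : Module.finrank k (k ⊗[k] (Fin d → k)) = d := by
    rw [LinearEquiv.finrank_eq (TensorProduct.lid k (Fin d → k)), Module.finrank_fin_fun]
  have hdim : ∀ N : Module.Grassmannian k (k ⊗[k] (Fin d → k)) (d - r),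
      Module.finrank k ↥N.toSubmodule = r := by
    intro N
    have h1 := N.rankAtStalk_eq ⟨⊥, Ideal.isPrime_bot⟩
    rw [Module.rankAtStalk_eq_finrank_of_free] at h1
    replace h1 : Module.finrank k (k ⊗[k] (Fin d → k) ⧸ N.toSubmodule) = d - r := h1
    have h2 := N.toSubmodule.finrank_quotient_add_finrank
    rw [hE] at h2
    omega
  unfold W4c1limliniiii.IsExact
  refine forall_congr' fun i => ?_
  have hgf : ((g i).baseChange k).comp ((f i).baseChange k) = 0 := by
    rw [← LinearMap.baseChange_comp, (hI i).2, LinearMap.baseChange_zero]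
  have hfg : ((f i).baseChange k).comp ((g i).baseChange k) = 0 := by
    rw [← LinearMap.baseChange_comp, (hI i).1, LinearMap.baseChange_zero]
  exact exact_iff_finrank ((f i).baseChange k) ((g i).baseChange k) hgf hfg
    (V i.castSucc).toSubmodule (V i.succ).toSubmodule r (hdim _) (hdim _) (hV i).1 (hV i).2

end Groth.Agent.S19562
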