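import Groth.Statements.S19564
import Mathlib
import Groth.Agent.Lib.Helper22.W2Quadric
import Groth.Agent.Lib.Helper22.W2Pres

set_option autoImplicit false
universe u
open scoped BigOperators
open FrobAlg

namespace Groth.Agent.S19564

section helpers

theorem pderiv_quad {W : Type*} [CommRing W] (n : ℕ) (v : Fin n × Fin 2) :
    MvPolynomial.pderiv v (Groth.Agent.Lib.helper22.W2Quadric.quad W n) =
      MvPolynomial.X (v.1, 1 - v.2) := by
  classical
  unfold Groth.Agent.Lib.helper22.W2Quadric.quad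
  rw [map_sum]
  obtain ⟨i, j⟩ := v
  have : ∀ i' ∈ (Finset.univ : Finset (Fin n)),
      MvPolynomial.pderiv (i, j) ((MvPolynomial.X (i', (0 : Fin 2)) * MvPolynomial.X (i', (1 : Fin 2)) :
        MvPolynomial (Fin n × Fin 2) W)) = if i' = i then MvPolynomial.X (i, 1 - j) else 0 := by
    intro i' _
    rw [MvPolynomial.pderiv_mul, MvPolynomial.pderiv_X, MvPolynomial.pderiv_X]
    by_cases h : i' = i
    · subst h
      fin_cases j
      · simp
      · simp
    · have h1 : ¬ ((i', (0 : Fin 2)) = (i, j)) := fun e => h (Prod.mk.inj e).1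
      have h2 : ¬ ((i', (1 : Fin 2)) = (i, j)) := fun e => h (Prod.mk.inj e).1
      simp [h, h1, h2]
  rw [Finset.sum_congr rfl this, Finset.sum_ite_eq']
  simp

theorem aux
    (p : ℕ) [Fact p.Prime] (k : Type u) [Field k] [CharP k p] [PerfectRing k p]
    (n : ℕ) (hn : 3 ≤ n) (f : Unit → MvPolynomial (Fin n × Fin 2) k)
    (hf : f () = ∑ i : Fin n, MvPolynomial.X (i, (0 : Fin 2)) * MvPolynomial.X (i, (1 : Fin 2))) :
    ¬ FrobAlg.IsFLiftable p k (MvPolynomial (Fin n × Fin 2) k ⧸ Ideal.span (Set.range f)) := by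
  classical
  have hp2 : 2 ≤ p := (Fact.out : p.Prime).two_le
  intro hF
  obtain ⟨f', h, hf'ρ, hcond⟩ := Groth.Agent.Lib.helper22.W2Pres.exists_of_isFLiftable f hF
  have hpp := Groth.Agent.Lib.helper22.W2Poly.p_mul_p_poly p k (Fin n × Fin 2)
  set q' := Groth.Agent.Lib.helper22.W2Quadric.quad (FrobAlg.W2 p k) n with hq'
  set M' : Ideal (MvPolynomial (Fin n × Fin 2) (FrobAlg.W2 p k)) :=
    Ideal.span (Set.range fun v : Fin n × Fin 2 =>
      (MvPolynomial.X v : MvPolynomial (Fin n × Fin 2) (FrobAlg.W2 p k)) ^ p) with hM'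
  have hXM : ∀ v, (MvPolynomial.X v : MvPolynomial (Fin n × Fin 2) (FrobAlg.W2 p k)) ^ p ∈ M' :=
    fun v => Ideal.subset_span ⟨v, rfl⟩
  have hρq : MvPolynomial.map (FrobAlg.res p k) q' = f () := by
    rw [hf]
    exact Groth.Agent.Lib.helper22.W2Quadric.map_res_quad p k n
  obtain ⟨g, hg⟩ := Groth.Agent.Lib.helper22.W2Poly.exists_eq_p_mul_of_map_res_eq_zero p k
    (Fin n × Fin 2) (f' () - q') (by rw [map_sub, hf'ρ, hρq, sub_self])
  have hf'eq : f' () = q' + (p : MvPolynomial (Fin n × Fin 2) (FrobAlg.W2 p k)) * g := by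
    rw [← hg]; ring
  -- (a + p b)^p = a^p
  have hpowp : ∀ a b : MvPolynomial (Fin n × Fin 2) (FrobAlg.W2 p k),
      (a + (p : MvPolynomial (Fin n × Fin 2) (FrobAlg.W2 p k)) * b) ^ p = a ^ p := by
    intro a b
    obtain ⟨c, hc⟩ := exists_add_pow_prime_eq (Fact.out : p.Prime) a
      ((p : MvPolynomial (Fin n × Fin 2) (FrobAlg.W2 p k)) * b)
    have hpb : ((p : MvPolynomial (Fin n × Fin 2) (FrobAlg.W2 p k)) * b) ^ p = 0 := by
      have e : ((p : MvPolynomial (Fin n × Fin 2) (FrobAlg.W2 p k)) * b) ^ p =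
          ((p : MvPolynomial (Fin n × Fin 2) (FrobAlg.W2 p k)) * b) ^ 2 *
            ((p : MvPolynomial (Fin n × Fin 2) (FrobAlg.W2 p k)) * b) ^ (p - 2) := by
        rw [← pow_add]; congr 1; omega
      rw [e]
      linear_combination (b ^ 2 * ((p : MvPolynomial (Fin n × Fin 2) (FrobAlg.W2 p k)) * b) ^ (p - 2)) * hpp
    rw [hc, hpb]
    linear_combination (a * b * c) * hpp
  have hcond1 := hcond ()
  rw [Ideal.mem_span_singleton_mul] at hcond1
  obtain ⟨z, hz, hzE⟩ := hcond1
  rw [Set.range_unique, Ideal.mem_span_singleton'] at hz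
  obtain ⟨c, rfl⟩ := hz
  change (p : MvPolynomial (Fin n × Fin 2) (FrobAlg.W2 p k)) * (c * f' ()) = _ at hzE
  -- derivatives
  have hder : ∀ j : Fin n × Fin 2, MvPolynomial.pderiv j (f' ()) ^ p =
      (MvPolynomial.X (j.1, 1 - j.2) : MvPolynomial (Fin n × Fin 2) (FrobAlg.W2 p k)) ^ p := by
    intro j
    rw [hf'eq, map_add, Derivation.leibniz, Derivation.map_natCast, smul_zero, add_zero,
      smul_eq_mul, hpowp, hq', pderiv_quad]
  set m₁ : MvPolynomial (Fin n × Fin 2) (FrobAlg.W2 p k) :=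
    ∑ j : Fin n × Fin 2, MvPolynomial.X (j.1, 1 - j.2) ^ p * h j with hm₁
  have hm₁M : m₁ ∈ M' := Ideal.sum_mem _ fun j _ => Ideal.mul_mem_right _ _ (hXM _)
  have hFqM := Groth.Agent.Lib.helper22.W2Quadric.polyFrob_quad_mem p k n
  rw [← hq', ← hM'] at hFqM
  obtain ⟨w, hw⟩ := Groth.Agent.Lib.helper22.W2Quadric.polyFrob_sub_C_mem p k n g
  rw [← hM'] at hw
  set mg := FrobAlg.polyFrob p k (Fin n × Fin 2) g - MvPolynomial.C w with hmg
  have hpF := Groth.Agent.Lib.helper22.W2Poly.p_mul_polyFrob p k (Fin n × Fin 2) q'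
  have hE : q' ^ p = FrobAlg.polyFrob p k (Fin n × Fin 2) q' +
      (p : MvPolynomial (Fin n × Fin 2) (FrobAlg.W2 p k)) * FrobAlg.polyFrob p k (Fin n × Fin 2) g
      - (p : MvPolynomial (Fin n × Fin 2) (FrobAlg.W2 p k)) * m₁
      - (p : MvPolynomial (Fin n × Fin 2) (FrobAlg.W2 p k)) * (c * q') := by
    have e1 : ∑ j, MvPolynomial.pderiv j (f' ()) ^ p * h j = m₁ := by
      rw [hm₁]
      exact Finset.sum_congr rfl fun j _ => by rw [hder]
    rw [e1, hf'eq, hpowp, map_add, map_mul, map_natCast] at hzE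
    linear_combination hzE - (c * g) * hpp
  have hqpow : q' ^ (p - 1) * q' = q' ^ p := by
    rw [← pow_succ]; congr 1; omega
  have hq2 : q' ^ (2 * p - 1) = q' ^ p * q' ^ (p - 1) := by
    rw [← pow_add]; congr 1; omega
  have hfinal : q' ^ (2 * p - 1) =
      (FrobAlg.polyFrob p k (Fin n × Fin 2) q' * q' ^ (p - 1)
        + mg * ((p : MvPolynomial (Fin n × Fin 2) (FrobAlg.W2 p k)) * q' ^ (p - 1))
        - m₁ * ((p : MvPolynomial (Fin n × Fin 2) (FrobAlg.W2 p k)) * q' ^ (p - 1))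
        - FrobAlg.polyFrob p k (Fin n × Fin 2) q' * ((p : MvPolynomial (Fin n × Fin 2) (FrobAlg.W2 p k)) * c))
      + MvPolynomial.C ((p : FrobAlg.W2 p k) * w) * q' ^ (p - 1) := by
    have hCp : (MvPolynomial.C ((p : FrobAlg.W2 p k) * w) : MvPolynomial (Fin n × Fin 2) (FrobAlg.W2 p k)) =
        (p : MvPolynomial (Fin n × Fin 2) (FrobAlg.W2 p k)) * MvPolynomial.C w := by
      rw [map_mul, map_natCast]
    rw [hq2, hCp, hmg]
    linear_combination (q' ^ (p - 1)) * hE + c * hpF
      - ((p : MvPolynomial (Fin n × Fin 2) (FrobAlg.W2 p k)) * c) * hqpow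
  apply Groth.Agent.Lib.helper22.W2Quadric.coeff_kappa_quad_pow_ne_zero p k n hn
  rw [← hq', hfinal, MvPolynomial.coeff_add, MvPolynomial.coeff_C_mul,
    Groth.Agent.Lib.helper22.W2Quadric.coeff_kappa_quad_pow_pred p k n hn, mul_zero, add_zero]
  apply Groth.Agent.Lib.helper22.W2Quadric.coeff_nu_of_mem _
    (Groth.Agent.Lib.helper22.W2Quadric.kappa_lt p n hn)
  rw [← hM']
  refine Ideal.sub_mem _ (Ideal.sub_mem _ (Ideal.add_mem _ ?_ ?_) ?_) ?_
  · exact Ideal.mul_mem_right _ _ hFqM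
  · exact Ideal.mul_mem_right _ _ hw
  · exact Ideal.mul_mem_right _ _ hm₁M
  · exact Ideal.mul_mem_right _ _ hFqM
  

end helpers

/-- Let k be a perfect field of characteristic p ≥ 3 and n ≥ 3. Then the ordinary double point k[x_1,
y_1, …, x_n, y_n]/(x_1y_1 + ⋯ + x_ny_n), the affine cone over the split quadric in 2n ≥ 6 variables,
admits no flat lifting over W₂(k) compatible with Frobenius (no flat W₂(k)-algebra reducing to it
that carries a ring endomorphism which is σ₂-semilinear and reduces to the p-th power map). (The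
published statement is for any number N ≥ 5 of variables and allows arbitrary terms of degree ≥ 3 to
be added to a non-degenerate quadratic form; this row is the case of the split form in an even
number of variables with nothing added, the case in which the argument is a pure comparison of
homogeneous components.) -/
theorem result
    (p : ℕ) [Fact p.Prime] (hp : 3 ≤ p) (k : Type u) [Field k] [CharP k p] [PerfectRing k p]
    (n : ℕ) (hn : 3 ≤ n) :
    ¬ FrobAlg.IsFLiftable p k
      (MvPolynomial (Fin n × Fin 2) k ⧸ Ideal.span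
        {(∑ i : Fin n, MvPolynomial.X (i, (0 : Fin 2)) * MvPolynomial.X (i, (1 : Fin 2)) : MvPolynomial (Fin n × Fin 2) k)}) := by
  have := aux p k n hn (fun _ => ∑ i : Fin n, MvPolynomial.X (i, (0 : Fin 2)) * MvPolynomial.X (i, (1 : Fin 2))) rfl
  rw [Set.range_const] at this
  exact this

end Groth.Agent.S19564
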