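import Groth.Statements.S2042
import Mathlib
import Groth.Agent.Lib.Helper26.EtaleLift

set_option autoImplicit false
universe u
open CAlg

namespace Groth.Agent.S2042

open Polynomial in
/-- The main construction, with the bijectivity stated through the canonical algebra structure. -/
theorem main {A : Type u} [CommRing A] (I : Ideal A) (f : A[X])
    (hf : f.Monic) (g h : (A ⧸ I)[X]) (hg : g.Monic) (hh : h.Monic) (hcop : IsCoprime g h)
    (hfgh : f.map (Ideal.Quotient.mk I) = g * h) (a : A) (ha : IsUnit (Ideal.Quotient.mk I a)) :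
    ∃ (A' : Type u) (_ : CommRing A') (_ : Algebra A A'), Algebra.Etale A A' ∧
      Function.Bijective (algebraMap (A ⧸ I) (A' ⧸ I.map (algebraMap A A'))) ∧
      IsUnit (algebraMap A A' a) ∧
      ∃ g' h' : A'[X], g'.Monic ∧ h'.Monic ∧ f.map (algebraMap A A') = g' * h' ∧
        g'.map (Ideal.Quotient.mk (I.map (algebraMap A A'))) =
          g.map (algebraMap (A ⧸ I) (A' ⧸ I.map (algebraMap A A'))) ∧
        h'.map (Ideal.Quotient.mk (I.map (algebraMap A A'))) =
          h.map (algebraMap (A ⧸ I) (A' ⧸ I.map (algebraMap A A'))) := by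
  rcases subsingleton_or_nontrivial (A ⧸ I) with hsub | hnt
  · -- degenerate case `I = ⊤`
    have hI : I = ⊤ := Ideal.Quotient.subsingleton_iff.mp hsub
    have hsub' : Subsingleton (Localization.Away a ⧸ I.map (algebraMap A (Localization.Away a))) := by
      rw [Ideal.Quotient.subsingleton_iff, hI, Ideal.map_top]
    refine ⟨Localization.Away a, inferInstance, inferInstance, inferInstance, ⟨?_, ?_⟩,
      IsLocalization.Away.algebraMap_isUnit a, f.map (algebraMap A (Localization.Away a)), 1,
      hf.map _, monic_one, ?_, ?_, ?_⟩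
    · intro x y _; exact Subsingleton.elim _ _
    · intro y; exact ⟨0, Subsingleton.elim _ _⟩
    · simp
    · exact Subsingleton.elim _ _
    · exact Subsingleton.elim _ _
  · have hn : f.natDegree = g.natDegree + h.natDegree := by
      have := congrArg Polynomial.natDegree hfgh
      rw [hf.natDegree_map, hg.natDegree_mul hh] at this
      exact this
    let p : MonicDegreeEq A f.natDegree := .mk f hf rfl
    let σ : UniversalCoprimeFactorizationRing g.natDegree h.natDegree hn p →ₐ[A] A ⧸ I :=
      (UniversalCoprimeFactorizationRing.homEquiv (A ⧸ I) g.natDegree h.natDegree hn p).symm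
        ⟨(.mk g hg rfl, .mk h hh rfl), by
          change g * h = f.map (algebraMap A (A ⧸ I))
          rw [← hfgh]; rfl, hcop⟩
    obtain ⟨A', _, _, hét, hbij, hua, ψ, hψ⟩ :=
      Groth.Agent.Lib.helper26.EtaleLift.exists_etale_lift_of_algHom_of_isUnit I σ a ha
    let q := UniversalCoprimeFactorizationRing.homEquiv A' g.natDegree h.natDegree hn p ψ
    -- the two algebra maps to the quotient agree
    let mkₐ : A' →ₐ[A] A' ⧸ I.map (algebraMap A A') := Ideal.Quotient.mkₐ A _
    let ι : (A ⧸ I) →ₐ[A] A' ⧸ I.map (algebraMap A A') :=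
      IsScalarTower.toAlgHom A (A ⧸ I) (A' ⧸ I.map (algebraMap A A'))
    have hcomp : mkₐ.comp ψ = ι.comp σ := AlgHom.ext fun b => hψ b
    have hσq : UniversalCoprimeFactorizationRing.homEquiv (A ⧸ I) g.natDegree h.natDegree hn p σ =
        ⟨(.mk g hg rfl, .mk h hh rfl), by
          change g * h = f.map (algebraMap A (A ⧸ I))
          rw [← hfgh]; rfl, hcop⟩ := Equiv.apply_symm_apply _ _
    refine ⟨A', inferInstance, inferInstance, hét, hbij, hua, q.1.1.1, q.1.2.1, q.1.1.monic, q.1.2.monic,
      q.2.1.symm, ?_, ?_⟩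
    · have h1 := UniversalCoprimeFactorizationRing.homEquiv_comp_fst A' g.natDegree h.natDegree hn p ψ mkₐ
      have h2 := UniversalCoprimeFactorizationRing.homEquiv_comp_fst (A ⧸ I) g.natDegree h.natDegree hn p σ ι
      rw [hcomp, h2, hσq] at h1
      exact (congrArg Subtype.val h1).symm
    · have h1 := UniversalCoprimeFactorizationRing.homEquiv_comp_snd A' g.natDegree h.natDegree hn p ψ mkₐ
      have h2 := UniversalCoprimeFactorizationRing.homEquiv_comp_snd (A ⧸ I) g.natDegree h.natDegree hn p σ ι
      rw [hcomp, h2, hσq] at h1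
      exact (congrArg Subtype.val h1).symm


open Polynomial in
/-- Let `I ⊆ A` be an ideal and `f ∈ A[X]` monic whose image in `(A/I)[X]` factors as a product of two
monic polynomials generating the unit ideal. Then over some étale `A`-algebra `A'` with `A/I →
A'/IA'` bijective, `f` factors as a product of two monic polynomials lifting the given factors. -/
theorem result {A : Type u} [CommRing A] (I : Ideal A) (f : A[X])
    (hf : f.Monic) (g h : (A ⧸ I)[X]) (hg : g.Monic) (hh : h.Monic) (hcop : IsCoprime g h)
    (hfgh : f.map (Ideal.Quotient.mk I) = g * h) :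
    ∃ (A' : Type u) (_ : CommRing A') (_ : Algebra A A'), Algebra.Etale A A' ∧
      Function.Bijective (algebraMap (A ⧸ I) (A' ⧸ I.map (algebraMap A A'))) ∧
      ∃ g' h' : A'[X], g'.Monic ∧ h'.Monic ∧ f.map (algebraMap A A') = g' * h' ∧
        g'.map (Ideal.Quotient.mk (I.map (algebraMap A A'))) =
          g.map (algebraMap (A ⧸ I) (A' ⧸ I.map (algebraMap A A'))) ∧
        h'.map (Ideal.Quotient.mk (I.map (algebraMap A A'))) =
          h.map (algebraMap (A ⧸ I) (A' ⧸ I.map (algebraMap A A'))) := by
  obtain ⟨A', i1, i2, h1, h2, -, h3⟩ :=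
    main I f hf g h hg hh hcop hfgh 1 (by rw [map_one]; exact isUnit_one)
  exact ⟨A', i1, i2, h1, h2, h3⟩


end Groth.Agent.S2042
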