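import Groth.Statements.S1957
import Mathlib
import Groth.Agent.S2042

set_option autoImplicit false
universe u
open Polynomial
open EtAlg

namespace Groth.Agent.S1957

/-- Let A be a ring, I an ideal and f a monic polynomial over A. Suppose the image of f in (A/I)[x]
factors as g h where the leading coefficient of g is a unit and g, h generate the unit ideal. Then
there is an etale A-algebra A' such that A/I -> A'/IA' is bijective, together with a factorization f
= g' h' in A'[x] whose reduction modulo IA' is the image of the given one. -/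
theorem result (A : Type u) [CommRing A] (I : Ideal A) (f : A[X]) (hf : f.Monic)
    (g h : (A ⧸ I)[X]) (hgh : f.map (Ideal.Quotient.mk I) = g * h) (hlead : IsUnit g.leadingCoeff)
    (hcop : IsCoprime g h) :
    ∃ (A' : Type u) (_ : CommRing A') (_ : Algebra A A') (_ : Algebra.Etale A A'),
      Function.Bijective (Ideal.quotientMap (I.map (algebraMap A A')) (algebraMap A A') Ideal.le_comap_map) ∧
      ∃ g' h' : A'[X], f.map (algebraMap A A') = g' * h' ∧
        g'.map (Ideal.Quotient.mk (I.map (algebraMap A A'))) =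
          g.map (Ideal.quotientMap (I.map (algebraMap A A')) (algebraMap A A') Ideal.le_comap_map) ∧
        h'.map (Ideal.Quotient.mk (I.map (algebraMap A A'))) =
          h.map (Ideal.quotientMap (I.map (algebraMap A A')) (algebraMap A A') Ideal.le_comap_map) := by
  obtain ⟨u, hu⟩ := hlead
  -- normalise the factors
  set g₁ : (A ⧸ I)[X] := Polynomial.C ((u⁻¹ : (A ⧸ I)ˣ) : A ⧸ I) * g with hg₁
  set h₁ : (A ⧸ I)[X] := Polynomial.C (u : A ⧸ I) * h with hh₁
  have hCC : (Polynomial.C ((u⁻¹ : (A ⧸ I)ˣ) : A ⧸ I)) * Polynomial.C (u : A ⧸ I) = 1 := by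
    rw [← Polynomial.C_mul, Units.inv_mul, Polynomial.C_1]
  have hprod : g₁ * h₁ = g * h := by
    calc g₁ * h₁ = (Polynomial.C ((u⁻¹ : (A ⧸ I)ˣ) : A ⧸ I) * Polynomial.C (u : A ⧸ I)) * (g * h) := by
          rw [hg₁, hh₁]; ring
      _ = g * h := by rw [hCC, one_mul]
  have hg₁m : g₁.Monic :=
    Polynomial.monic_C_mul_of_mul_leadingCoeff_eq_one (by rw [← hu, Units.inv_mul])
  have hh₁m : h₁.Monic := by
    apply hg₁m.of_mul_monic_left
    rw [hprod, ← hgh]
    exact hf.map _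
  have hcop₁ : IsCoprime g₁ h₁ := by
    rw [hg₁, hh₁, isCoprime_mul_unit_left_left (Polynomial.isUnit_C.mpr (Units.isUnit _)),
      isCoprime_mul_unit_left_right (Polynomial.isUnit_C.mpr (Units.isUnit _))]
    exact hcop
  obtain ⟨a, ha⟩ := Ideal.Quotient.mk_surjective (u : A ⧸ I)
  obtain ⟨A', i1, i2, hét, hbij, hua, g₁', h₁', -, -, hfac, hgred, hhred⟩ :=
    Groth.Agent.S2042.main I f hf g₁ h₁ hg₁m hh₁m hcop₁ (by rw [hgh, hprod]) a
      (by rw [ha]; exact u.isUnit)
  obtain ⟨α, hα⟩ := hua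
  have hCα : (Polynomial.C (α : A')) * Polynomial.C ((α⁻¹ : A'ˣ) : A') = 1 := by
    rw [← Polynomial.C_mul, Units.mul_inv, Polynomial.C_1]
  have hmkα : Ideal.Quotient.mk (I.map (algebraMap A A')) (α : A') =
      algebraMap (A ⧸ I) (A' ⧸ I.map (algebraMap A A')) (u : A ⧸ I) := by
    rw [hα, ← ha]; rfl
  have hmkαinv : Ideal.Quotient.mk (I.map (algebraMap A A')) ((α⁻¹ : A'ˣ) : A') =
      algebraMap (A ⧸ I) (A' ⧸ I.map (algebraMap A A')) ((u⁻¹ : (A ⧸ I)ˣ) : A ⧸ I) := by
    have h1 : Ideal.Quotient.mk (I.map (algebraMap A A')) (α : A') *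
        Ideal.Quotient.mk (I.map (algebraMap A A')) ((α⁻¹ : A'ˣ) : A') = 1 := by
      rw [← map_mul, Units.mul_inv, map_one]
    have h2 : algebraMap (A ⧸ I) (A' ⧸ I.map (algebraMap A A')) (u : A ⧸ I) *
        algebraMap (A ⧸ I) (A' ⧸ I.map (algebraMap A A')) ((u⁻¹ : (A ⧸ I)ˣ) : A ⧸ I) = 1 := by
      rw [← map_mul, Units.mul_inv, map_one]
    rw [hmkα] at h1
    calc Ideal.Quotient.mk (I.map (algebraMap A A')) ((α⁻¹ : A'ˣ) : A')
        = (algebraMap (A ⧸ I) (A' ⧸ I.map (algebraMap A A')) ((u⁻¹ : (A ⧸ I)ˣ) : A ⧸ I) *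
            algebraMap (A ⧸ I) (A' ⧸ I.map (algebraMap A A')) (u : A ⧸ I)) *
            Ideal.Quotient.mk (I.map (algebraMap A A')) ((α⁻¹ : A'ˣ) : A') := by
          rw [mul_comm (algebraMap (A ⧸ I) (A' ⧸ I.map (algebraMap A A')) _), h2, one_mul]
      _ = algebraMap (A ⧸ I) (A' ⧸ I.map (algebraMap A A')) ((u⁻¹ : (A ⧸ I)ˣ) : A ⧸ I) := by
          rw [mul_assoc, h1, mul_one]
  refine ⟨A', i1, i2, hét, hbij, Polynomial.C (α : A') * g₁', Polynomial.C ((α⁻¹ : A'ˣ) : A') * h₁',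
    ?_, ?_, ?_⟩
  · rw [hfac]
    calc g₁' * h₁' = (Polynomial.C (α : A') * Polynomial.C ((α⁻¹ : A'ˣ) : A')) * (g₁' * h₁') := by
          rw [hCα, one_mul]
      _ = _ := by ring
  · change _ = g.map (algebraMap (A ⧸ I) (A' ⧸ I.map (algebraMap A A')))
    rw [Polynomial.map_mul, Polynomial.map_C, hgred, hg₁, Polynomial.map_mul, Polynomial.map_C,
      hmkα, ← mul_assoc, ← Polynomial.C_mul, ← map_mul, Units.mul_inv, map_one, Polynomial.C_1,
      one_mul]
  · change _ = h.map (algebraMap (A ⧸ I) (A' ⧸ I.map (algebraMap A A')))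
    rw [Polynomial.map_mul, Polynomial.map_C, hhred, hh₁, Polynomial.map_mul, Polynomial.map_C,
      hmkαinv, ← mul_assoc, ← Polynomial.C_mul, ← map_mul, Units.inv_mul, map_one, Polynomial.C_1,
      one_mul]


end Groth.Agent.S1957
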