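import Groth.Statements.S19571
import Mathlib.AlgebraicGeometry.Morphisms.UniversallyOpen

set_option autoImplicit false
universe u
open CategoryTheory AlgebraicGeometry
open EtaPt

namespace Groth.Agent.S19571

/-- Let f : Y → X be a morphism of schemes which is flat, surjective and locally of finite presentation.
Then every affine open U of X is covered by affine opens V each of which is the image f(W) of some
affine open W of Y; stated pointwise: for every x ∈ U there are an affine open V of X with x ∈ V ≤ U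
and an affine open W of Y with f(W) = V as sets. (For such V and W the induced ring map Γ(V) → Γ(W)
is then faithfully flat.) -/
theorem result
    {X Y : Scheme.{u}} (f : Y ⟶ X) [Flat f] [Surjective f] [LocallyOfFinitePresentation f]
    (U : X.affineOpens) (x : X) (hx : x ∈ (U : X.Opens)) :
    ∃ V : X.affineOpens, x ∈ (V : X.Opens) ∧ (V : X.Opens) ≤ (U : X.Opens) ∧
      ∃ W : Y.affineOpens, f.base '' ((W : Y.Opens) : Set Y) = ((V : X.Opens) : Set X) := by
  obtain ⟨y, rfl⟩ := f.surjective x
  have hyU : y ∈ f ⁻¹ᵁ (U : X.Opens) := hx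
  obtain ⟨W₀, hW₀aff, hyW₀, hW₀U⟩ := exists_isAffineOpen_mem_and_subset hyU
  have hopen : IsOpenMap f.base := f.isOpenMap
  let O : X.Opens := ⟨f.base '' (W₀ : Set Y), hopen _ W₀.isOpen⟩
  have hxO : f.base y ∈ O := ⟨y, hyW₀, rfl⟩
  obtain ⟨g, hgO, hxg⟩ := U.2.exists_basicOpen_le (V := O) ⟨f.base y, hxO⟩ hx
  have hVaff : IsAffineOpen (X.basicOpen g) := U.2.basicOpen g
  refine ⟨⟨X.basicOpen g, hVaff⟩, hxg, X.basicOpen_le g, ?_⟩
  -- W = W₀ ∩ f⁻¹ V is a basic open of W₀
  have hWaff : IsAffineOpen (Y.basicOpen (Y.presheaf.map (homOfLE hW₀U).op (f.app U g))) :=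
    hW₀aff.basicOpen _
  refine ⟨⟨_, hWaff⟩, ?_⟩
  change f.base '' ((Y.basicOpen (Y.presheaf.map (homOfLE hW₀U).op (f.app U g)) : Y.Opens) : Set Y)
    = ((X.basicOpen g : X.Opens) : Set X)
  rw [Scheme.basicOpen_res, ← Scheme.preimage_basicOpen]
  change f.base '' ((W₀ : Set Y) ∩ f.base ⁻¹' ((X.basicOpen g : X.Opens) : Set X)) = _
  rw [Set.image_inter_preimage]
  apply Set.inter_eq_right.mpr
  exact hgO

end Groth.Agent.S19571
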