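import Groth.Statements.S19573
import Mathlib

set_option autoImplicit false
universe u
open LocInt

namespace Groth.Agent.S19573

section aux

variable {R : Type u} [CommRing R] {n : ℕ} (a : Fin n → R)

lemma sum_single_eq : (∑ k, a k • (Pi.single k (1:R) : Fin n → R)) = a := by
  ext m
  simp [Finset.sum_apply, Pi.single_apply]

lemma smul_ιMulti_eq_zero (i : Fin n) (v : Fin n → Fin n) (hv : Function.Injective v) :
    a i • exteriorPower.ιMulti R n
      (fun k => (Submodule.span R {a}).mkQ (Pi.single (v k) (1:R))) = 0 := by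
  classical
  have hbij : Function.Bijective v := Finite.injective_iff_bijective.mp hv
  obtain ⟨j, hj⟩ := hbij.2 i
  have hsum : ∑ k, a k • (Submodule.span R {a}).mkQ (Pi.single k (1:R)) = 0 := by
    simp_rw [← map_smul]
    rw [← map_sum, sum_single_eq, Submodule.mkQ_apply, Submodule.Quotient.mk_eq_zero]
    exact Submodule.mem_span_singleton_self a
  have h0 : exteriorPower.ιMulti R n (Function.update
      (fun k => (Submodule.span R {a}).mkQ (Pi.single (v k) (1:R))) j
      (∑ k, a k • (Submodule.span R {a}).mkQ (Pi.single k (1:R)))) = 0 := by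
    rw [hsum, AlternatingMap.map_update_zero]
  rw [AlternatingMap.map_update_sum] at h0
  simp_rw [AlternatingMap.map_update_smul] at h0
  rw [Finset.sum_eq_single i] at h0
  · have hupd : Function.update
        (fun k => (Submodule.span R {a}).mkQ (Pi.single (v k) (1:R))) j
        ((Submodule.span R {a}).mkQ (Pi.single i (1:R))) =
        (fun k => (Submodule.span R {a}).mkQ (Pi.single (v k) (1:R))) := by
      rw [← hj]
      exact Function.update_eq_self j _
    rwa [hupd] at h0
  · intro k _ hk
    obtain ⟨j', hj'⟩ := hbij.2 k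
    have hjj : j' ≠ j := by
      rintro rfl
      exact hk (hj'.symm.trans hj)
    rw [AlternatingMap.map_eq_zero_of_eq _ _ (i := j') (j := j) ?_ hjj, smul_zero]
    rw [Function.update_self, Function.update_of_ne hjj, hj']
  · intro h
    exact absurd (Finset.mem_univ i) h

lemma smul_eq_zero_all (i : Fin n) (x : ⋀[R]^n ((Fin n → R) ⧸ Submodule.span R {a})) :
    a i • x = 0 := by
  have hΦ : (a i • (exteriorPower.ιMulti R n
      (M := (Fin n → R) ⧸ Submodule.span R {a})).compLinearMap (Submodule.span R {a}).mkQ) = 0 := by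
    apply Module.Basis.ext_alternating (Pi.basisFun R (Fin n))
    intro v hv
    simp only [AlternatingMap.smul_apply, AlternatingMap.compLinearMap_apply,
      AlternatingMap.zero_apply, Pi.basisFun_apply]
    exact smul_ιMulti_eq_zero a i v hv
  have hspan := exteriorPower.ιMulti_span R n ((Fin n → R) ⧸ Submodule.span R {a})
  have hx : x ∈ Submodule.span R (Set.range (exteriorPower.ιMulti R n
      (M := (Fin n → R) ⧸ Submodule.span R {a}))) := by rw [hspan]; trivial
  induction hx using Submodule.span_induction with
  | mem y hy =>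
    obtain ⟨m, rfl⟩ := hy
    obtain ⟨mt, rfl⟩ : ∃ mt : Fin n → (Fin n → R),
        (fun k => (Submodule.span R {a}).mkQ (mt k)) = m :=
      ⟨fun k => ((Submodule.span R {a}).mkQ_surjective (m k)).choose,
        funext fun k => ((Submodule.span R {a}).mkQ_surjective (m k)).choose_spec⟩
    have h1 := DFunLike.congr_fun hΦ mt
    simpa using h1
  | zero => exact smul_zero _
  | add y z _ _ hy hz => rw [smul_add, hy, hz, add_zero]
  | smul r y _ hy => rw [smul_comm, hy, smul_zero]

noncomputable def detR (I : Ideal R) (n : ℕ) : (Fin n → R ⧸ I) [⋀^Fin n]→ₗ[R] (R ⧸ I) :=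
  { (Matrix.detRowAlternating (R := R ⧸ I) (n := Fin n)).toMultilinearMap.restrictScalars R with
    map_eq_zero_of_eq' := fun v i j h hij =>
      (Matrix.detRowAlternating (R := R ⧸ I) (n := Fin n)).map_eq_zero_of_eq v h hij }

lemma detR_apply (I : Ideal R) (n : ℕ) (v : Fin n → Fin n → R ⧸ I) :
    detR I n v = Matrix.det (Matrix.of v) := rfl

lemma mem_of_ann (r : R)
    (hr : r • exteriorPower.ιMulti R n
      (fun k => (Submodule.span R {a}).mkQ (Pi.single k (1:R))) = 0) :
    r ∈ Ideal.span (Set.range a) := by
  classical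
  set I := Ideal.span (Set.range a) with hI
  let q₀ : (Fin n → R) →ₗ[R] (Fin n → R ⧸ I) :=
    ((Ideal.Quotient.mkₐ R I).toLinearMap).compLeft (Fin n)
  have hq₀ : Submodule.span R {a} ≤ LinearMap.ker q₀ := by
    rw [Submodule.span_le, Set.singleton_subset_iff, SetLike.mem_coe, LinearMap.mem_ker]
    ext k
    show Ideal.Quotient.mk I (a k) = 0
    rw [Ideal.Quotient.eq_zero_iff_mem]
    exact Ideal.subset_span ⟨k, rfl⟩
  let q : ((Fin n → R) ⧸ Submodule.span R {a}) →ₗ[R] (Fin n → R ⧸ I) :=
    (Submodule.span R {a}).liftQ q₀ hq₀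
  let φ : ⋀[R]^n ((Fin n → R) ⧸ Submodule.span R {a}) →ₗ[R] R ⧸ I :=
    exteriorPower.alternatingMapLinearEquiv ((detR I n).compLinearMap q)
  have h1 := congrArg φ hr
  rw [map_smul, map_zero, exteriorPower.alternatingMapLinearEquiv_apply_ιMulti,
    AlternatingMap.compLinearMap_apply, detR_apply] at h1
  have hone : (Matrix.of fun k => q ((Submodule.span R {a}).mkQ (Pi.single k (1:R)))) =
      (1 : Matrix (Fin n) (Fin n) (R ⧸ I)) := by
    ext k m
    show Ideal.Quotient.mk I ((Pi.single k (1:R) : Fin n → R) m) = _
    rw [Matrix.one_apply, Pi.single_apply]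
    split_ifs with h1 h2 h2
    · rw [map_one]
    · exact absurd h1.symm h2
    · exact absurd h2.symm h1
    · rw [map_zero]
  rw [hone, Matrix.det_one, Algebra.smul_def, mul_one] at h1
  exact Ideal.Quotient.eq_zero_iff_mem.mp h1

lemma freeQuot (S : Type*) [CommRing S] (n : ℕ) (b : Fin n → S) (i : Fin n) (hu : IsUnit (b i)) :
    Nonempty (((Fin n → S) ⧸ Submodule.span S {b}) ≃ₗ[S] ({k : Fin n // k ≠ i} → S)) := by
  classical
  obtain ⟨c, hc⟩ := hu.exists_left_inv
  let ψ : (Fin n → S) →ₗ[S] ({k : Fin n // k ≠ i} → S) :=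
    { toFun := fun x k => x k - c * x i * b k
      map_add' := by intro x y; ext k; simp only [Pi.add_apply]; ring
      map_smul' := by
        intro r x; ext k; simp only [Pi.smul_apply, smul_eq_mul, RingHom.id_apply]; ring }
  have hψb : ψ b = 0 := by
    ext k
    show b k - c * b i * b k = 0
    rw [hc, one_mul, sub_self]
  let Ψ : ((Fin n → S) ⧸ Submodule.span S {b}) →ₗ[S] ({k : Fin n // k ≠ i} → S) :=
    (Submodule.span S {b}).liftQ ψ (by
      rw [Submodule.span_le, Set.singleton_subset_iff]
      exact hψb)
  let ext0 : ({k : Fin n // k ≠ i} → S) →ₗ[S] (Fin n → S) :=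
    { toFun := fun y k => if h : k ≠ i then y ⟨k, h⟩ else 0
      map_add' := by intro x y; ext k; simp only [Pi.add_apply]; split_ifs <;> simp
      map_smul' := by
        intro r x; ext k; simp only [Pi.smul_apply, smul_eq_mul, RingHom.id_apply]
        split_ifs <;> simp }
  refine ⟨LinearEquiv.ofLinear Ψ ((Submodule.span S {b}).mkQ ∘ₗ ext0) ?_ ?_⟩
  · refine LinearMap.ext fun y => funext fun k => ?_
    show (if h : (k : Fin n) ≠ i then y ⟨k, h⟩ else 0) -
      c * (if h : i ≠ i then y ⟨i, h⟩ else 0) * b k = y k
    rw [dif_pos k.2, dif_neg (by simp)]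
    simp
  · refine LinearMap.ext fun z => ?_
    obtain ⟨x, rfl⟩ := (Submodule.span S {b}).mkQ_surjective z
    show (Submodule.span S {b}).mkQ (ext0 (ψ x)) = (Submodule.span S {b}).mkQ x
    rw [← sub_eq_zero, ← map_sub, Submodule.mkQ_apply, Submodule.Quotient.mk_eq_zero,
      Submodule.mem_span_singleton]
    refine ⟨-(c * x i), ?_⟩
    ext k
    show -(c * x i) * b k = (if h : k ≠ i then x k - c * x i * b k else 0) - x k
    by_cases h : k = i
    · subst h
      rw [dif_neg (by simp)]
      linear_combination (-(x k)) * hc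
    · rw [dif_pos h]
      ring

lemma local_free (p : PrimeSpectrum R) (i : Fin n) (hi : a i ∉ p.asIdeal) :
    p ∈ Module.freeLocus R ((Fin n → R) ⧸ Submodule.span R {a}) ∧
      Module.rankAtStalk ((Fin n → R) ⧸ Submodule.span R {a}) p = n - 1 := by
  classical
  let Rp := Localization.AtPrime p.asIdeal
  let f₀ : (Fin n → R) →ₗ[R] (Fin n → Rp) :=
    LinearMap.pi (fun k => (Algebra.linearMap R Rp) ∘ₗ LinearMap.proj k)
  haveI : IsLocalizedModule p.asIdeal.primeCompl f₀ := inferInstance
  let g := (Submodule.span R {a}).toLocalizedQuotient' Rp p.asIdeal.primeCompl f₀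
  haveI : IsLocalizedModule p.asIdeal.primeCompl g := inferInstance
  let b : Fin n → Rp := fun k => algebraMap R Rp (a k)
  have hM' : (Submodule.span R {a}).localized' Rp p.asIdeal.primeCompl f₀ =
      Submodule.span Rp {b} := by
    rw [Submodule.localized'_span, Set.image_singleton]
    rfl
  have hu : IsUnit (b i) :=
    IsLocalization.map_units Rp (⟨a i, hi⟩ : p.asIdeal.primeCompl)
  obtain ⟨e⟩ := freeQuot Rp n b i hu
  let e' : ((Fin n → Rp) ⧸ (Submodule.span R {a}).localized' Rp p.asIdeal.primeCompl f₀)
      ≃ₗ[Rp] ({k : Fin n // k ≠ i} → Rp) :=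
    (Submodule.quotEquivOfEq _ _ hM').trans e
  constructor
  · rw [Module.mem_freeLocus_of_isLocalization p Rp _ g]
    exact Module.Free.of_equiv e'.symm
  · let e0 : LocalizedModule p.asIdeal.primeCompl ((Fin n → R) ⧸ Submodule.span R {a}) ≃ₗ[Rp]
        ((Fin n → Rp) ⧸ (Submodule.span R {a}).localized' Rp p.asIdeal.primeCompl f₀) :=
      (IsLocalizedModule.iso p.asIdeal.primeCompl g).extendScalarsOfIsLocalization
        p.asIdeal.primeCompl Rp
    unfold Module.rankAtStalk
    rw [(e0.trans e').finrank_eq, Module.finrank_fintype_fun_eq_card,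
      Fintype.card_subtype_compl (fun k : Fin n => k = i), Fintype.card_subtype_eq,
      Fintype.card_fin]

end aux

/-- The first sentence of the lemma together with the description of the closed subscheme Z given in its
proof, in the local model. Let R be a commutative ring, n ≥ 1, a ∈ R^n, and F = R^n / R·a the
cokernel of R → R^n, 1 ↦ a (the zeroth homology of the two-term complex R → R^n). Then the
annihilator ideal of the top exterior power ⋀^n F is the ideal generated by the coordinates a_1, …,
a_n of a, and at every prime p of R off the closed set V(a_1, …, a_n) the module F is free of rank n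
− 1 after localization at p. (The published statement is for a complex on a scheme which is locally
quasi-isomorphic to such a two-term complex L → E with L invertible and E locally free of rank n,
and says that H^0 restricted to the complement of the closed subscheme cut out by the annihilator of
its n-th exterior power is locally free of rank n − 1; this row is the local model.) -/
theorem result (R : Type u) [CommRing R]
    (n : ℕ) (hn : 1 ≤ n) (a : Fin n → R) :
    (⋀[R]^n ((Fin n → R) ⧸ Submodule.span R {a})).annihilator = Ideal.span (Set.range a) ∧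
    ∀ p : PrimeSpectrum R, ¬ Ideal.span (Set.range a) ≤ p.asIdeal →
      p ∈ Module.freeLocus R ((Fin n → R) ⧸ Submodule.span R {a}) ∧
      Module.rankAtStalk ((Fin n → R) ⧸ Submodule.span R {a}) p = n - 1 := by
  constructor
  · apply le_antisymm
    · intro r hr
      rw [Module.mem_annihilator] at hr
      exact mem_of_ann a r (hr _)
    · rw [Ideal.span_le]
      rintro _ ⟨i, rfl⟩
      rw [SetLike.mem_coe, Module.mem_annihilator]
      exact smul_eq_zero_all a i
  · intro p hp
    have hex : ∃ i, a i ∉ p.asIdeal := by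
      by_contra h
      push_neg at h
      exact hp (Ideal.span_le.mpr (by rintro _ ⟨i, rfl⟩; exact h i))
    obtain ⟨i, hi⟩ := hex
    exact local_free a p i hi

end Groth.Agent.S19573
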