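import Groth.Statements.S19574
import Mathlib

set_option autoImplicit false
universe u
open CategoryTheory MonoidalCategory
open Lie3Mod

namespace Groth.Agent.S19574

section aux
open TensorProduct
variable {R : Type u} [CommRing R]

noncomputable abbrev phi (I : Ideal R) (N : Type u) [AddCommGroup N] [Module R N] : I ⊗[R] N →ₗ[R] N :=
  TensorProduct.lift ((LinearMap.lsmul R N).comp I.subtype)

lemma phi_nat (I : Ideal R) {N N' : Type u} [AddCommGroup N] [Module R N] [AddCommGroup N']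
    [Module R N'] (g : N →ₗ[R] N') (t : I ⊗[R] N) : phi I N' (g.lTensor I t) = g (phi I N t) := by
  induction t using TensorProduct.induction_on with
  | zero => simp
  | tmul a n => simp
  | add x y hx hy => simp only [map_add, hx, hy]

lemma mem_range_phi (I : Ideal R) {N : Type u} [AddCommGroup N] [Module R N] (u : N)
    (hu : u ∈ I • (⊤ : Submodule R N)) : ∃ v, phi I N v = u := by
  refine Submodule.smul_induction_on hu ?_ ?_
  · intro a ha n _
    exact ⟨(⟨a, ha⟩ : I) ⊗ₜ n, by simp⟩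
  · rintro x y ⟨v, rfl⟩ ⟨w, rfl⟩
    exact ⟨v + w, map_add _ _ _⟩

lemma phi_mem (I : Ideal R) {N : Type u} [AddCommGroup N] [Module R N] (v : I ⊗[R] N) :
    phi I N v ∈ I • (⊤ : Submodule R N) := by
  induction v using TensorProduct.induction_on with
  | zero => simp
  | tmul a n =>
    simp only [phi, TensorProduct.lift.tmul, LinearMap.comp_apply, Submodule.subtype_apply,
      LinearMap.lsmul_apply]
    exact Submodule.smul_mem_smul a.2 Submodule.mem_top
  | add x y hx hy =>
    rw [map_add]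
    exact Submodule.add_mem _ hx hy

lemma one_tmul_eq_zero_iff (I : Ideal R) {N : Type u} [AddCommGroup N] [Module R N] (n : N) :
    (1 : R ⧸ I) ⊗ₜ[R] n = 0 ↔ n ∈ I • (⊤ : Submodule R N) := by
  rw [← (TensorProduct.quotTensorEquivQuotSMul N I).map_eq_zero_iff,
    TensorProduct.quotTensorEquivQuotSMul_mk_one_tmul, Submodule.Quotient.mk_eq_zero]

lemma exists_one_tmul (I : Ideal R) {N : Type u} [AddCommGroup N] [Module R N]
    (w : (R ⧸ I) ⊗[R] N) : ∃ n : N, w = (1 : R ⧸ I) ⊗ₜ[R] n := by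
  obtain ⟨n, hn⟩ := Submodule.Quotient.mk_surjective _ (TensorProduct.quotTensorEquivQuotSMul N I w)
  refine ⟨n, ?_⟩
  rw [← TensorProduct.quotTensorEquivQuotSMul_symm_mk, hn, LinearEquiv.symm_apply_apply]

lemma flat_of_exact {P M K2 K3 : Type u} [AddCommGroup P] [Module R P] [AddCommGroup M]
    [Module R M] [AddCommGroup K2] [Module R K2] [AddCommGroup K3] [Module R K3]
    (f : P →ₗ[R] M) (d2 : K2 →ₗ[R] P) (d3 : K3 →ₗ[R] K2)
    (hf : Function.Surjective f) (h21 : ∀ y, f (d2 y) = 0) (h32 : ∀ w, d2 (d3 w) = 0)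
    (hex1 : ∀ p, f p = 0 → ∃ y, d2 y = p) [Module.Flat R P]
    (hex2 : ∀ (I : Ideal R) (y : (R ⧸ I) ⊗[R] K2), d2.lTensor (R ⧸ I) y = 0 →
      ∃ w, d3.lTensor (R ⧸ I) w = y) : Module.Flat R M := by
  rw [Module.Flat.iff_lift_lsmul_comp_subtype_injective]
  intro I _
  rw [injective_iff_map_eq_zero]
  intro t ht
  obtain ⟨s, rfl⟩ := LinearMap.lTensor_surjective I hf t
  change phi I M (f.lTensor I s) = 0 at ht
  rw [phi_nat] at ht
  obtain ⟨y, hy⟩ := hex1 _ ht
  -- d2 y ∈ I • ⊤
  have hyI : d2 y ∈ I • (⊤ : Submodule R P) := hy ▸ phi_mem I s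
  have h0 : d2.lTensor (R ⧸ I) ((1 : R ⧸ I) ⊗ₜ[R] y) = 0 := by
    rw [LinearMap.lTensor_tmul, one_tmul_eq_zero_iff]
    exact hyI
  obtain ⟨w, hw⟩ := hex2 I _ h0
  obtain ⟨w', rfl⟩ := exists_one_tmul I w
  rw [LinearMap.lTensor_tmul, ← sub_eq_zero, ← TensorProduct.tmul_sub, one_tmul_eq_zero_iff] at hw
  -- d3 w' - y ∈ I • ⊤
  obtain ⟨v, hv⟩ := mem_range_phi I _ hw
  have h1 : phi I P (d2.lTensor I v) = - phi I P s := by
    rw [phi_nat, hv, map_sub, h32, zero_sub, hy]
  have h2 : d2.lTensor I v = - s := by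
    apply (Module.Flat.iff_lift_lsmul_comp_subtype_injective.1 (inferInstance : Module.Flat R P)
      ‹I.FG›)
    change phi I P _ = phi I P _
    rw [h1, map_neg]
  have h3 : s = - d2.lTensor I v := by rw [h2, neg_neg]
  rw [h3, map_neg, ← LinearMap.comp_apply, ← LinearMap.lTensor_comp]
  have : f ∘ₗ d2 = 0 := LinearMap.ext h21
  rw [this, LinearMap.lTensor_zero, LinearMap.zero_apply, neg_zero]

end aux


/-- Let R be a commutative ring and d ≥ 1. Let K be a chain complex of R-modules concentrated in degrees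
0, …, d + 1, written … → 0 → P_{d+1} → P_d → … → P_1 → M with M = K_0, which is exact (so 0 →
P_{d+1} → … → P_1 → M → 0 is an exact sequence), such that P_1, …, P_d are flat R-modules and such
that for every ideal I of R the complex obtained by applying (R/I) ⊗_R − termwise is again exact.
Then M is a flat R-module. (No flatness is assumed for P_{d+1}. The published lemma adds that for R
Noetherian it suffices to test prime ideals I; that refinement is not part of this statement.) -/
theorem result (R : Type u) [CommRing R]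
    (d : ℕ) (hd : 1 ≤ d) (K : ChainComplex (ModuleCat.{u} R) ℕ)
    (hzero : ∀ i : ℕ, d + 1 < i → Limits.IsZero (K.X i))
    (hflat : ∀ i : ℕ, 1 ≤ i → i ≤ d → Module.Flat R (K.X i))
    (hK : K.Acyclic)
    (hbc : ∀ I : Ideal R,
      (((tensorLeft (ModuleCat.of R (R ⧸ I))).mapHomologicalComplex (ComplexShape.down ℕ)).obj K).Acyclic) :
    Module.Flat R (K.X 0) := by
  have : Module.Flat R (K.X 1) := hflat 1 le_rfl hd
  have e0 : (K.sc' 1 0 0).Exact :=
    (K.exactAt_iff' 1 0 0 (by simp) (by simp)).1 (hK 0)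
  have e1 : (K.sc' 2 1 0).Exact :=
    (K.exactAt_iff' 2 1 0 (by simp) (by simp)).1 (hK 1)
  rw [ShortComplex.moduleCat_exact_iff] at e0 e1
  refine flat_of_exact (K.d 1 0).hom (K.d 2 1).hom (K.d 3 2).hom ?_ ?_ ?_ ?_ ?_
  · intro m
    obtain ⟨p, hp⟩ := e0 m (by
      have h : (K.sc' 1 0 0).g = 0 := K.shape _ _ (by simp)
      rw [h]
      rfl)
    exact ⟨p, hp⟩
  · intro y
    have := K.d_comp_d 2 1 0
    exact congrArg (fun g => g.hom y) this
  · intro w
    have := K.d_comp_d 3 2 1
    exact congrArg (fun g => g.hom w) this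
  · intro p hp
    obtain ⟨y, hy⟩ := e1 p hp
    exact ⟨y, hy⟩
  · intro I y hy
    have e2 := ((((tensorLeft (ModuleCat.of R (R ⧸ I))).mapHomologicalComplex
      (ComplexShape.down ℕ)).obj K).exactAt_iff' 3 2 1 (by simp) (by simp)).1 (hbc I 2)
    rw [ShortComplex.moduleCat_exact_iff] at e2
    obtain ⟨w, hw⟩ := e2 y hy
    exact ⟨w, hw⟩

end Groth.Agent.S19574
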