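import Groth.Statements.S19575
import Groth.Agent.S13829

set_option autoImplicit false
universe u
open EtaPt

namespace Groth.Agent.S19575

open Groth.Agent.Lib.helper2.EtaPtLib

/-- Let η be the field-endofunctor datum of the pointwise construction, A a commutative ring with
finitely many minimal prime ideals and φ : A → B a ring map inducing a surjection on prime spectra.
If the canonical map A → (B/A)_η (the corestriction of φ onto the subring of B of elements whose
image in ∏_q F(k(q)) comes from M_η(A)) is bijective, then for every f ∈ A the canonical map A_f →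
(B_f/A_f)_η attached to the localized map A_f → B_{φ(f)} is bijective as well. -/
theorem result (η : EtaPt.FieldEndo.{u}) {A B : Type u} [CommRing A] [CommRing B]
    (hA : (minimalPrimes A).Finite) (φ : A →+* B) (hs : Function.Surjective (PrimeSpectrum.comap φ))
    (h : Function.Bijective (η.qRel φ)) (f : A) :
    Function.Bijective (η.qRel (Localization.awayMap φ f)) := by
  classical
  set Af := Localization.Away f with hAf
  set B' := Localization.Away (φ f) with hB'
  set ℓA : A →+* Af := algebraMap A Af with hℓA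
  set ℓB : B →+* B' := algebraMap B B' with hℓB
  set φ' : Af →+* B' := Localization.awayMap φ f with hφ'
  have hcomm' : ∀ a, φ' (ℓA a) = ℓB (φ a) := fun a =>
    congrArg (fun h => h a) (awayMap_comp φ f)
  have hφinj : ∀ a, φ a = 0 → a = 0 := by
    intro a ha
    have : η.qRel φ a = 0 := Subtype.ext ha
    exact h.1 (this.trans (map_zero _).symm)
  have hunit : IsUnit (ℓA f) := IsLocalization.Away.algebraMap_isUnit f
  refine ⟨?_, ?_⟩
  · rw [injective_iff_map_eq_zero]
    intro z hz
    have hz' : φ' z = 0 := congrArg Subtype.val hz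
    obtain ⟨⟨a, ⟨_, k, rfl⟩⟩, ha⟩ := IsLocalization.surj (Submonoid.powers f) z
    have ha' : z * ℓA (f ^ k) = ℓA a := ha
    have h1 : ℓB (φ a) = 0 := by
      rw [← hcomm', ← ha', map_mul, hz', zero_mul]
    obtain ⟨⟨_, ⟨n, rfl⟩⟩, hn⟩ := (IsLocalization.map_eq_zero_iff (Submonoid.powers (φ f)) B' _).1 h1
    have h2 : φ (f ^ n * a) = 0 := by
      rw [map_mul, map_pow]
      exact hn
    have h3 := hφinj _ h2
    have h4 : ℓA a = 0 := by
      have : ℓA (f ^ n) * ℓA a = 0 := by rw [← map_mul, h3, map_zero]
      have hu : IsUnit (ℓA (f ^ n)) := by rw [map_pow]; exact hunit.pow n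
      exact (hu.mul_right_eq_zero).1 this
    have hu : IsUnit (ℓA (f ^ k)) := by rw [map_pow]; exact hunit.pow k
    exact (hu.mul_left_eq_zero).1 (ha'.trans h4)
  · rintro ⟨y, hy⟩
    obtain ⟨x, hx, n, hn⟩ := (Groth.Agent.S13829.result η hA φ hs f).2 y hy
    obtain ⟨a, ha⟩ := h.2 ⟨x, hx⟩
    have ha' : φ a = x := congrArg Subtype.val ha
    have hu : IsUnit (ℓA f ^ n) := hunit.pow n
    obtain ⟨u, hu'⟩ := hu
    refine ⟨ℓA a * ↑u⁻¹, Subtype.ext ?_⟩
    show φ' (ℓA a * ↑u⁻¹) = y
    have h1 : φ' (ℓA a) = y * φ' (ℓA f ^ n) := by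
      rw [hcomm', ha', map_pow, hcomm']
      exact hn.symm
    have h2 : φ' (ℓA f ^ n) * φ' (↑u⁻¹ : Af) = 1 := by
      rw [← map_mul, ← hu', Units.mul_inv, map_one]
    rw [map_mul, h1, mul_assoc, h2, mul_one]

end Groth.Agent.S19575
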