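import Groth.Statements.S19576
import Groth.Agent.S13829

set_option autoImplicit false
universe u
open EtaPt

namespace Groth.Agent.S19576

open Groth.Agent.Lib.helper2.EtaPtLib

theorem ideal_eq_top_of_pow_mem {A : Type u} [CommRing A] (s : Finset A)
    (hspan : Ideal.span (s : Set A) = ⊤) (I : Ideal A) (h : ∀ f ∈ s, ∃ n : ℕ, f ^ n ∈ I) :
    I = ⊤ := by
  by_contra hI
  obtain ⟨𝔪, h𝔪, hle⟩ := Ideal.exists_le_maximal I hI
  have : Ideal.span (s : Set A) ≤ 𝔪 := by
    rw [Ideal.span_le]
    intro f hf
    obtain ⟨n, hn⟩ := h f hf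
    exact h𝔪.isPrime.mem_of_pow_mem n (hle hn)
  rw [hspan] at this
  exact h𝔪.ne_top (top_le_iff.1 this)

/-- Let η be the field-endofunctor datum of the pointwise construction, A a commutative ring with
finitely many minimal prime ideals and φ : A → B a ring map inducing a surjection on prime spectra.
If finitely many elements f_1, …, f_n of A generate the unit ideal and, for each i, the canonical
map A_{f_i} → (B_{f_i}/A_{f_i})_η attached to the localized map A_{f_i} → B_{φ(f_i)} is bijective,
then the canonical map A → (B/A)_η is bijective. -/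
theorem result (η : EtaPt.FieldEndo.{u}) {A B : Type u} [CommRing A] [CommRing B]
    (hA : (minimalPrimes A).Finite) (φ : A →+* B) (hs : Function.Surjective (PrimeSpectrum.comap φ))
    (s : Finset A) (hspan : Ideal.span (s : Set A) = ⊤)
    (h : ∀ f ∈ s, Function.Bijective (η.qRel (Localization.awayMap φ f))) :
    Function.Bijective (η.qRel φ) := by
  classical
  refine ⟨?_, ?_⟩
  · rw [injective_iff_map_eq_zero]
    intro a ha
    have ha' : φ a = 0 := congrArg Subtype.val ha
    let I : Ideal A :=
      { carrier := {r | r * a = 0}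
        add_mem' := by
          intro r₁ r₂ (h₁ : r₁ * a = 0) (h₂ : r₂ * a = 0)
          show (r₁ + r₂) * a = 0
          rw [add_mul, h₁, h₂, add_zero]
        zero_mem' := zero_mul a
        smul_mem' := by
          intro c r (hr : r * a = 0)
          show (c * r) * a = 0
          rw [mul_assoc, hr, mul_zero] }
    have hI : I = ⊤ := by
      refine ideal_eq_top_of_pow_mem s hspan I (fun f hf => ?_)
      have hcomm' : ∀ a, (Localization.awayMap φ f) (algebraMap A (Localization.Away f) a) =
          algebraMap B (Localization.Away (φ f)) (φ a) := fun a =>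
        congrArg (fun h => h a) (awayMap_comp φ f)
      have h1 : η.qRel (Localization.awayMap φ f) (algebraMap A (Localization.Away f) a) = 0 := by
        apply Subtype.ext
        show (Localization.awayMap φ f) (algebraMap A (Localization.Away f) a) = 0
        rw [hcomm', ha', map_zero]
      have h2 : algebraMap A (Localization.Away f) a = 0 :=
        (h f hf).1 (h1.trans (map_zero _).symm)
      obtain ⟨⟨_, ⟨n, rfl⟩⟩, hn⟩ :=
        (IsLocalization.map_eq_zero_iff (Submonoid.powers f) (Localization.Away f) _).1 h2
      exact ⟨n, hn⟩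
    have h1 : (1 : A) ∈ I := by rw [hI]; exact Submodule.mem_top
    have h2 : (1 : A) * a = 0 := h1
    rw [one_mul] at h2
    exact h2
  · rintro ⟨b, hb⟩
    let I : Ideal A :=
      { carrier := {r | φ r * b ∈ φ.range}
        add_mem' := by
          rintro r₁ r₂ ⟨a₁, h₁⟩ ⟨a₂, h₂⟩
          exact ⟨a₁ + a₂, by rw [map_add, map_add, add_mul, h₁, h₂]⟩
        zero_mem' := ⟨0, by simp⟩
        smul_mem' := by
          rintro c r ⟨a, ha⟩
          exact ⟨c * a, by rw [smul_eq_mul, map_mul, map_mul, mul_assoc, ha]⟩ }
    have hI : I = ⊤ := by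
      refine ideal_eq_top_of_pow_mem s hspan I (fun f hf => ?_)
      have hcomm' : ∀ a, (Localization.awayMap φ f) (algebraMap A (Localization.Away f) a) =
          algebraMap B (Localization.Away (φ f)) (φ a) := fun a =>
        congrArg (fun h => h a) (awayMap_comp φ f)
      have h1 : algebraMap B (Localization.Away (φ f)) b ∈ η.rel (Localization.awayMap φ f) :=
        (Groth.Agent.S13829.result η hA φ hs f).1 ⟨b, hb, rfl⟩
      obtain ⟨z, hz⟩ := (h f hf).2 ⟨_, h1⟩
      have hz' : (Localization.awayMap φ f) z = algebraMap B (Localization.Away (φ f)) b :=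
        congrArg Subtype.val hz
      obtain ⟨⟨a, ⟨_, k, rfl⟩⟩, ha⟩ := IsLocalization.surj (Submonoid.powers f) z
      have ha' : z * algebraMap A (Localization.Away f) (f ^ k) =
          algebraMap A (Localization.Away f) a := ha
      have h2 : algebraMap B (Localization.Away (φ f)) (b * φ (f ^ k)) =
          algebraMap B (Localization.Away (φ f)) (φ a) := by
        rw [map_mul, ← hz', ← hcomm', ← hcomm', ← map_mul, ha']
      obtain ⟨⟨_, ⟨n, rfl⟩⟩, hn⟩ :=
        (IsLocalization.eq_iff_exists (Submonoid.powers (φ f)) (Localization.Away (φ f))).1 h2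
      refine ⟨n + k, a * f ^ n, ?_⟩
      have hn' : φ f ^ n * (b * φ (f ^ k)) = φ f ^ n * φ a := hn
      show φ (a * f ^ n) = φ (f ^ (n + k)) * b
      rw [map_mul, map_pow, map_pow, pow_add, mul_comm (φ a), ← hn', map_pow]
      ring
    have h1 : (1 : A) ∈ I := by rw [hI]; exact Submodule.mem_top
    obtain ⟨a, ha⟩ := h1
    refine ⟨a, Subtype.ext ?_⟩
    show φ a = b
    rw [ha, map_one, one_mul]

end Groth.Agent.S19576
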