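import Groth.Statements.S19578
import Groth.Agent.S13803
import Groth.Agent.Lib.Helper2.EtaPtRel

set_option autoImplicit false
universe u
open EtaPt

namespace Groth.Agent.S19578

/-- Let f : A → B be a homomorphism of commutative rings, each with only finitely many minimal primes,
and suppose the induced map M_η(f) : M_η(A) → M_η(B) is an isomorphism. Then Spec f is a bijection
between the prime ideals of B and of A, and for every prime q of B, with p = f⁻¹(q), there is a ring
map φ : k(q) → F(k(p)) whose composite with the residue field map k(p) → k(q) equals η_{k(p)}. Here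
η is the field-endofunctor datum of the pointwise construction, M_η(A) ⊆ ∏_p F(k(p)) the subring
attached to A with q_A : A → M_η(A), and M_η(f) : M_η(A) → M_η(B) the ring map induced by N_η(f),
pinned here as the ring map g compatible with N_η(f) under the two subring inclusions. -/
theorem result (η : EtaPt.FieldEndo.{u}) {A B : Type u} [CommRing A] [CommRing B]
    (hA : (minimalPrimes A).Finite) (hB : (minimalPrimes B).Finite) (f : A →+* B)
    (g : η.M A →+* η.M B) (hg : ∀ x : η.M A, ((g x : η.M B) : η.N B) = η.Nmap f (x : η.N A))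
    (hbij : Function.Bijective g) :
    Function.Bijective (PrimeSpectrum.comap f) ∧
      ∀ Q : PrimeSpectrum B,
        ∃ φ : Q.asIdeal.ResidueField →+* η.obj (PrimeSpectrum.comap f Q).asIdeal.ResidueField,
          φ.comp (Ideal.ResidueField.map (PrimeSpectrum.comap f Q).asIdeal Q.asIdeal f rfl) =
            η.eta (PrimeSpectrum.comap f Q).asIdeal.ResidueField := by
  classical
  have hsq : g.comp (η.q A) = (η.q B).comp f := by
    refine RingHom.ext (fun a => ?_)
    apply Subtype.ext
    show ((g (η.q A a) : η.M B) : η.N B) = η.t B (f a)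
    rw [hg, ← η.Nmap_t_apply]
    rfl
  have hcA := (Groth.Agent.S13803.result η A hA).1
  have hcB := (Groth.Agent.S13803.result η B hB).1
  have hcomap : ∀ Q' : PrimeSpectrum (η.M B),
      PrimeSpectrum.comap f (PrimeSpectrum.comap (η.q B) Q') =
        PrimeSpectrum.comap (η.q A) (PrimeSpectrum.comap g Q') := by
    intro Q'
    apply PrimeSpectrum.ext
    show (Q'.asIdeal.comap (η.q B)).comap f = (Q'.asIdeal.comap g).comap (η.q A)
    rw [Ideal.comap_comap, Ideal.comap_comap, hsq]
  let e : η.M A ≃+* η.M B := RingEquiv.ofBijective g hbij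
  have heg : ∀ x : η.M B, g (e.symm x) = x := fun x => e.apply_symm_apply x
  refine ⟨⟨?_, ?_⟩, ?_⟩
  · intro P₁ P₂ h12
    obtain ⟨Q₁, rfl⟩ := hcB.2 P₁
    obtain ⟨Q₂, rfl⟩ := hcB.2 P₂
    rw [hcomap, hcomap] at h12
    have h1 := hcA.1 h12
    have h2 : Q₁ = Q₂ := PrimeSpectrum.comap_injective_of_surjective g hbij.2 h1
    rw [h2]
  · intro p
    obtain ⟨Q, hQ⟩ := hcA.2 p
    refine ⟨PrimeSpectrum.comap (η.q B) (PrimeSpectrum.comap (e.symm : η.M B →+* η.M A) Q), ?_⟩
    rw [hcomap, ← hQ]
    congr 1
    apply PrimeSpectrum.ext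
    show ((Q.asIdeal.comap (e.symm : η.M B →+* η.M A)).comap g) = Q.asIdeal
    ext x
    simp only [Ideal.mem_comap]
    have : (e.symm : η.M B →+* η.M A) (g x) = x := e.symm_apply_apply x
    rw [this]
  · intro Q
    set p := PrimeSpectrum.comap f Q with hp
    set ρ := η.map (Ideal.ResidueField.map p.asIdeal Q.asIdeal f rfl) with hρ
    -- key relation
    have hkey : ∀ x : η.M B, ρ (((e.symm x : η.M A) : η.N A) p) = (x : η.N B) Q := by
      intro x
      have h1 := hg (e.symm x)
      rw [heg] at h1
      rw [h1]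
      rfl
    let ψ : B →+* η.obj p.asIdeal.ResidueField :=
      (Groth.Agent.Lib.helper2.EtaPtLib.proj η A p).comp
        ((e.symm : η.M B →+* η.M A).comp (η.q B))
    have hψ : ∀ b : B, ρ (ψ b) = η.t B b Q := fun b => hkey (η.q B b)
    have hψ0 : ∀ b : B, ψ b = 0 ↔ b ∈ Q.asIdeal := by
      intro b
      rw [← map_eq_zero ρ, hψ, Groth.Agent.Lib.helper2.EtaPtLib.t_apply, map_eq_zero,
        Ideal.algebraMap_residueField_eq_zero]
    refine ⟨Ideal.ResidueField.lift Q.asIdeal ψ (fun b hb => (hψ0 b).2 hb) (fun b hb => ?_), ?_⟩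
    · show IsUnit (ψ b)
      exact IsUnit.mk0 _ (fun h0 => hb ((hψ0 b).1 h0))
    · apply Ideal.ResidueField.ringHom_ext
      refine RingHom.ext (fun a => ?_)
      simp only [RingHom.comp_apply]
      rw [Ideal.ResidueField.map_algebraMap, Ideal.ResidueField.lift_algebraMap]
      show Groth.Agent.Lib.helper2.EtaPtLib.proj η A p (e.symm (η.q B (f a))) = _
      have h1 : η.q B (f a) = g (η.q A a) := (congrArg (fun h => h a) hsq).symm
      rw [h1]
      have h2 : e.symm (g (η.q A a)) = η.q A a := e.symm_apply_apply _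
      rw [h2]
      rfl

end Groth.Agent.S19578
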