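import Groth.Statements.S1959
import Mathlib
-- import your own Groth.Agent.* helpers here

set_option autoImplicit false
universe u
open Polynomial
open EtAlg

namespace Groth.Agent.S1959

/-- Let I be an ideal of a ring A, A -> B an integral ring map and b an element of B whose image in B/IB
is idempotent. Then there are d ≥ 1 and a monic polynomial f over A with f(b) = 0 whose reduction
modulo I is x^d (x - 1)^d. -/
theorem result (A B : Type u) [CommRing A] [CommRing B] [Algebra A B]
    [Algebra.IsIntegral A B] (I : Ideal A) (b : B)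
    (hb : IsIdempotentElem (Ideal.Quotient.mk (I.map (algebraMap A B)) b)) :
    ∃ (f : A[X]) (d : ℕ), f.Monic ∧ 1 ≤ d ∧ aeval b f = 0 ∧
      f.map (Ideal.Quotient.mk I) = X ^ d * (X - 1) ^ d := by
  have hz : b ^ 2 - b ∈ I.map (algebraMap A B) := by
    rw [← Ideal.Quotient.eq_zero_iff_mem, map_sub, map_pow, pow_two, hb.eq, sub_self]
  obtain ⟨g, hg, hg0, hgI⟩ := Polynomial.exists_monic_aeval_eq_zero_forall_mem_of_mem_map hz
  have hgmap : g.map (Ideal.Quotient.mk I) = X ^ g.natDegree := by
    ext i
    rw [Polynomial.coeff_map, Polynomial.coeff_X_pow]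
    split_ifs with h
    · rw [h, hg.coeff_natDegree, map_one]
    · exact Ideal.Quotient.eq_zero_iff_mem.2 (hgI i h)
  have hmonic : ((g * X).comp (X ^ 2 - X)).Monic := by
    rcases subsingleton_or_nontrivial A with hA | hA
    · exact Subsingleton.elim _ _
    · have hq : (X ^ 2 - X : A[X]).Monic := by
        apply Polynomial.monic_X_pow_sub
        simp
      have hqd : (X ^ 2 - X : A[X]).natDegree ≠ 0 := by
        rw [Polynomial.natDegree_sub_eq_left_of_natDegree_lt] <;> simp
      exact (hg.mul Polynomial.monic_X).comp hq hqd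
  refine ⟨(g * X).comp (X ^ 2 - X), g.natDegree + 1, hmonic,
    Nat.le_add_left _ _, ?_, ?_⟩
  · rw [Polynomial.aeval_comp]
    simp [hg0]
  · rw [Polynomial.map_comp, Polynomial.map_mul, hgmap]
    simp only [Polynomial.map_X, Polynomial.map_sub, Polynomial.map_pow, Polynomial.mul_comp,
      Polynomial.X_pow_comp, Polynomial.X_comp]
    have : (X ^ 2 - X : (A ⧸ I)[X]) = X * (X - 1) := by ring
    rw [this, mul_pow, pow_succ, pow_succ]
    ring

end Groth.Agent.S1959
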