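import Groth.Statements.S19590
import Mathlib.Data.ZMod.Basic
import Mathlib.GroupTheory.OrderOfElement
import Mathlib.Tactic.NoncommRing
import Mathlib.Tactic.Module
import Mathlib.Tactic.Abel
import Mathlib.Tactic.Ring
import Mathlib.Tactic.Linarith
import Mathlib.RingTheory.Coprime.Basic

set_option autoImplicit false
open BddFin

namespace Groth.Agent.S19590

/-- In any ring, `(1 + N) ^ q = 1 + q • N + N ^ 2 * P` for some `P`. -/
lemma expand {R : Type*} [Ring R] (N : R) (q : ℕ) :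
    ∃ P : R, (1 + N) ^ q = 1 + (q : ℤ) • N + N ^ 2 * P := by
  induction q with
  | zero => exact ⟨0, by simp⟩
  | succ q ih =>
    obtain ⟨P, hP⟩ := ih
    refine ⟨P + (q : ℤ) • 1 + P * N, ?_⟩
    have e1 : ((q + 1 : ℕ) : ℤ) • N = (q : ℤ) • N + N := by
      push_cast; rw [add_smul, one_smul]
    rw [pow_succ, hP, e1]
    noncomm_ring

/-- Reduction of integer matrices modulo `3`. -/
noncomputable def red (n : ℕ) : Matrix (Fin n) (Fin n) ℤ →+* Matrix (Fin n) (Fin n) (ZMod 3) :=
  (Int.castRingHom (ZMod 3)).mapMatrix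

lemma three_zsmul_eq_zero {n : ℕ} (Y : Matrix (Fin n) (Fin n) (ZMod 3)) : (3 : ℤ) • Y = 0 := by
  ext i j
  simp only [Matrix.smul_apply, Matrix.zero_apply, zsmul_eq_mul]
  have : ((3 : ℤ) : ZMod 3) = 0 := by decide
  rw [this, zero_mul]

lemma exists_eq_three_smul {n : ℕ} (M : Matrix (Fin n) (Fin n) ℤ) (h : red n M = 0) :
    ∃ M' : Matrix (Fin n) (Fin n) ℤ, M = (3 : ℤ) • M' := by
  have hdvd : ∀ i j, (3 : ℤ) ∣ M i j := by
    intro i j
    have := congrFun (congrFun h i) j
    simp only [red, RingHom.mapMatrix_apply, Matrix.map_apply, Matrix.zero_apply,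
      Int.coe_castRingHom] at this
    exact_mod_cast (ZMod.intCast_zmod_eq_zero_iff_dvd (M i j) 3).1 this
  refine ⟨Matrix.of fun i j => M i j / 3, ?_⟩
  ext i j
  simp only [Matrix.smul_apply, Matrix.of_apply, smul_eq_mul]
  exact (Int.mul_ediv_cancel' (hdvd i j)).symm

lemma red_eq_zero_of_coprime {n : ℕ} (u : ℤ) (hu : IsCoprime u 3)
    (M Y : Matrix (Fin n) (Fin n) ℤ) (h : u • M + (3 : ℤ) • Y = 0) : red n M = 0 := by
  have h1 := congrArg (red n) h
  rw [map_add, map_zsmul, map_zsmul, three_zsmul_eq_zero, add_zero, map_zero] at h1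
  obtain ⟨a, b, hab⟩ := hu
  have : red n M = (a * u + b * 3) • red n M := by rw [hab, one_smul]
  rw [this, add_smul, mul_smul, mul_smul, h1, three_zsmul_eq_zero, smul_zero, smul_zero, add_zero]

lemma zsmul_matrix_cancel {n : ℕ} (c : ℤ) (hc : c ≠ 0) (X : Matrix (Fin n) (Fin n) ℤ)
    (h : c • X = 0) : X = 0 := by
  ext i j
  have := congrFun (congrFun h i) j
  simp only [Matrix.smul_apply, Matrix.zero_apply, smul_eq_mul] at this
  rcases mul_eq_zero.1 this with h | h
  · exact absurd h hc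
  · exact h

/-- The inductive step: improve divisibility of `N` by a power of `3`. -/
lemma step {n : ℕ} (N M : Matrix (Fin n) (Fin n) ℤ) (k : ℕ) (hk : 1 ≤ k)
    (hN : N = ((3 : ℤ) ^ k) • M) (q : ℕ) (hq : q.Prime) (hpow : (1 + N) ^ q = 1) :
    red n M = 0 := by
  obtain ⟨k', rfl⟩ : ∃ k', k = k' + 1 := ⟨k - 1, by omega⟩
  have hc : ((3 : ℤ) ^ (k' + 1)) ≠ 0 := pow_ne_zero _ (by norm_num)
  by_cases hq3 : q = 3
  · subst hq3
    have h3 : (1 + N) ^ 3 = 1 + (3 : ℤ) • N + (3 : ℤ) • N ^ 2 + N ^ 3 := by noncomm_ring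
    rw [h3] at hpow
    have e : (3 : ℤ) • N + (3 : ℤ) • N ^ 2 + N ^ 3 =
        ((3 : ℤ) * 3 ^ (k' + 1)) •
          ((1 : ℤ) • M + (3 : ℤ) • (((3 : ℤ) ^ k') • M ^ 2 + ((3 : ℤ) ^ (k' + k')) • M ^ 3)) := by
      rw [hN]
      simp only [smul_pow]
      module
    have h0 : (3 : ℤ) • N + (3 : ℤ) • N ^ 2 + N ^ 3 = 0 := by
      calc (3 : ℤ) • N + (3 : ℤ) • N ^ 2 + N ^ 3
          = (1 + (3 : ℤ) • N + (3 : ℤ) • N ^ 2 + N ^ 3) - 1 := by abel
        _ = 0 := by rw [hpow, sub_self]
    rw [e] at h0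
    have h1 := zsmul_matrix_cancel _ (mul_ne_zero (by norm_num) hc) _ h0
    exact red_eq_zero_of_coprime 1 isCoprime_one_left M _ h1
  · obtain ⟨P, hP⟩ := expand N q
    rw [hpow] at hP
    have h0 : (q : ℤ) • N + N ^ 2 * P = 0 := by
      calc (q : ℤ) • N + N ^ 2 * P = (1 + (q : ℤ) • N + N ^ 2 * P) - 1 := by abel
        _ = 0 := by rw [← hP, sub_self]
    have e : (q : ℤ) • N + N ^ 2 * P =
        ((3 : ℤ) ^ (k' + 1)) • ((q : ℤ) • M + (3 : ℤ) • (((3 : ℤ) ^ k') • (M ^ 2 * P))) := by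
      rw [hN]
      simp only [smul_pow, smul_mul_assoc]
      module
    rw [e] at h0
    have h1 := zsmul_matrix_cancel _ hc _ h0
    refine red_eq_zero_of_coprime q ?_ M _ h1
    have h3 : Nat.Coprime q 3 := by
      rw [Nat.coprime_primes hq Nat.prime_three]
      exact hq3
    exact_mod_cast (Nat.isCoprime_iff_coprime.2 h3)

/-- A matrix of prime order congruent to `1` modulo `3` is `1`. -/
lemma eq_one_of_pow_prime {n : ℕ} (A : Matrix (Fin n) (Fin n) ℤ) (q : ℕ) (hq : q.Prime)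
    (hA : A ^ q = 1) (hred : red n A = 1) : A = 1 := by
  set N := A - 1 with hNdef
  have hAN : A = 1 + N := by rw [hNdef]; abel
  have hredN : red n N = 0 := by rw [hNdef, map_sub, hred, map_one, sub_self]
  have hpow : (1 + N) ^ q = 1 := by rw [← hAN]; exact hA
  have hdiv : ∀ k, 1 ≤ k → ∃ M : Matrix (Fin n) (Fin n) ℤ, N = ((3 : ℤ) ^ k) • M := by
    intro k hk
    induction k, hk using Nat.le_induction with
    | base =>
      obtain ⟨M, hM⟩ := exists_eq_three_smul N hredN
      exact ⟨M, by rw [pow_one]; exact hM⟩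
    | succ k hk ih =>
      obtain ⟨M, hM⟩ := ih
      have h1 := step N M k hk hM q hq hpow
      obtain ⟨M', hM'⟩ := exists_eq_three_smul M h1
      exact ⟨M', by rw [hM, hM', smul_smul, pow_succ]⟩
  have hN0 : N = 0 := by
    ext i j
    simp only [Matrix.zero_apply]
    obtain ⟨M, hM⟩ := hdiv ((N i j).natAbs + 1) (by omega)
    have hdvd : ((3 : ℤ) ^ ((N i j).natAbs + 1)) ∣ N i j := by
      refine ⟨M i j, ?_⟩
      have := congrFun (congrFun hM i) j
      simpa only [Matrix.smul_apply, smul_eq_mul] using this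
    apply Int.eq_zero_of_abs_lt_dvd hdvd
    have h1 : (N i j).natAbs < 3 ^ ((N i j).natAbs + 1) :=
      lt_of_lt_of_le (Nat.lt_pow_self (by norm_num : 1 < 3))
        (Nat.pow_le_pow_right (by norm_num) (Nat.le_succ _))
    rw [Int.abs_eq_natAbs]
    exact_mod_cast h1
  rw [hAN, hN0, add_zero]

/-- The kernel of reduction modulo `3` on `GL_n(ℤ)` has no non-trivial elements of finite order. -/
lemma eq_one_of_isOfFinOrder {n : ℕ} (g : Matrix.GeneralLinearGroup (Fin n) ℤ)
    (hg : IsOfFinOrder g)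
    (hmap : Matrix.GeneralLinearGroup.map (Int.castRingHom (ZMod 3)) g = 1) : g = 1 := by
  by_contra hne
  have hk1 : orderOf g ≠ 1 := fun h => hne (orderOf_eq_one_iff.1 h)
  have hk0 : orderOf g ≠ 0 := (orderOf_pos_iff.2 hg).ne'
  obtain ⟨q, hq, hqk⟩ := Nat.exists_prime_and_dvd hk1
  set h := g ^ (orderOf g / q) with hh
  have hord : orderOf h = q := orderOf_pow_orderOf_div hk0 hqk
  have hpow : h ^ q = 1 := by rw [← hord]; exact pow_orderOf_eq_one h
  have hmaph : Matrix.GeneralLinearGroup.map (Int.castRingHom (ZMod 3)) h = 1 := by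
    rw [hh, map_pow, hmap, one_pow]
  have h1 : (h : Matrix (Fin n) (Fin n) ℤ) ^ q = 1 := by
    have := congrArg Units.val hpow
    simpa using this
  have h2 : red n (h : Matrix (Fin n) (Fin n) ℤ) = 1 := by
    have := congrArg Units.val hmaph
    exact this
  have h3 := eq_one_of_pow_prime _ q hq h1 h2
  have h4 : h = 1 := Units.ext h3
  rw [h4, orderOf_one] at hord
  exact hq.one_lt.ne hord

/-- For every n, the orders of the finite subgroups of GL_n(ℤ) are bounded: there is B such that every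
finite subgroup of GL_n(ℤ) has at most B elements. -/
theorem result (n : ℕ) :
    ∃ B : ℕ, ∀ H : Subgroup (Matrix.GeneralLinearGroup (Fin n) ℤ), Finite H → Nat.card H ≤ B := by
  refine ⟨Nat.card (Matrix.GeneralLinearGroup (Fin n) (ZMod 3)), fun H hH => ?_⟩
  let φ : H →* Matrix.GeneralLinearGroup (Fin n) (ZMod 3) :=
    (Matrix.GeneralLinearGroup.map (Int.castRingHom (ZMod 3))).comp H.subtype
  have hinj : Function.Injective φ := by
    rw [injective_iff_map_eq_one]
    intro x hx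
    have hfin : IsOfFinOrder (x : Matrix.GeneralLinearGroup (Fin n) ℤ) := by
      have := isOfFinOrder_of_finite x
      exact (Submonoid.isOfFinOrder_coe (H := H.toSubmonoid) (x := x)).2 this
    have := eq_one_of_isOfFinOrder (x : Matrix.GeneralLinearGroup (Fin n) ℤ) hfin hx
    exact Subtype.ext this
  exact Nat.card_le_card_of_injective φ hinj

end Groth.Agent.S19590
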