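import Groth.Statements.S19593
import Mathlib
import Groth.Agent.Lib.Helper28.ProjBundleQuot
import Groth.Agent.Lib.Helper28.GTwistAll
import Groth.Agent.Lib.Helper12.GTwistSecHom
import Groth.Agent.Lib.Helper11.InvPullback
import Groth.Agent.Lib.Helper28.RelTwistChart
-- import your own Groth.Agent.* helpers here

set_option autoImplicit false
universe u
open CategoryTheory AlgebraicGeometry
open PicF

namespace Groth.Agent.S19593

theorem exists_deg_one_avoiding {k : Type*} [Field k] [Infinite k] {B : Type*} [CommRing B]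
    (ρ : k →+* B) (𝒜 : ℕ → AddSubgroup B) [GradedRing 𝒜] (hρ : ∀ c, ρ c ∈ 𝒜 0)
    {ι : Type*} [Finite ι] (I : ι → Ideal B) (hI : ∀ i, ∃ g ∈ 𝒜 1, g ∉ I i) :
    ∃ g ∈ 𝒜 1, ∀ i, g ∉ I i := by
  let _ : Algebra k B := ρ.toAlgebra
  have hsm : ∀ (c : k) (b : B), c • b = ρ c * b := fun c b => Algebra.smul_def c b
  let W : Submodule k B :=
    { carrier := (𝒜 1 : Set B)
      add_mem' := fun ha hb => (𝒜 1).add_mem ha hb
      zero_mem' := (𝒜 1).zero_mem
      smul_mem' := fun c b hb => by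
        rw [hsm]
        have := SetLike.GradedMul.mul_mem (hρ c) hb
        simpa using this }
  let p : ι → Submodule k W := fun i =>
    { carrier := {g | (g : B) ∈ I i}
      add_mem' := fun ha hb => (I i).add_mem ha hb
      zero_mem' := (I i).zero_mem
      smul_mem' := fun c b hb => by
        show ((c • b : W) : B) ∈ I i
        rw [Submodule.coe_smul, hsm]
        exact (I i).mul_mem_left _ hb }
  by_contra hcon
  have hcov : ⋃ i, (p i : Set W) = Set.univ := by
    rw [Set.eq_univ_iff_forall]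
    intro g
    by_contra hg
    apply hcon
    refine ⟨g.1, g.2, fun i hi => hg ?_⟩
    exact Set.mem_iUnion.mpr ⟨i, hi⟩
  obtain ⟨i, hi⟩ := Subspace.exists_eq_top_of_iUnion_eq_univ hcov
  obtain ⟨g, hg, hgi⟩ := hI i
  have : (⟨g, hg⟩ : W) ∈ p i := by rw [hi]; trivial
  exact hgi this

/-- Let k be an infinite field, Y a scheme proper over k with a relatively very ample O_Y-module A (the
pullback of O(1) along an immersion of Y into the Proj of a symmetric algebra over k), and y_1, …,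
y_m finitely many points of Y. Then some global section of A generates A at every y_i. (The
published statement takes Y projective over k and A a very ample line bundle; here Y is proper over
k and A very ample relative to Y → Spec k, which makes Y projective.) -/
theorem result
    (k : Type u) [Field k] [Infinite k] (Y : Scheme.{u}) (f : Y ⟶ Spec (CommRingCat.of k)) [IsProper f]
    (A : Y.Modules) (hA : RelProj.IsRelVeryAmple f A)
    (ι : Type) [Finite ι] (y : ι → ↥Y) :
    ∃ s : Coh.structureModule Y ⟶ A, ∀ i : ι, y i ∈ CohB1.genLocus A s := by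
  obtain ⟨E, hE, 𝒮, j, hj, P, p, chart, hP, O1, lam, hO1, i, hi, hip, ⟨e⟩⟩ := hA
  have hS : IsAffineOpen (⊤ : (Spec (CommRingCat.of k)).Opens) := isAffineOpen_top _
  have hrange : Set.range i ⊆ Set.range (RelProj.emb p chart ⊤ hS) := by
    rw [Groth.Agent.Lib.helper28.RelTwistChart.range_emb]
    intro x _
    trivial
  let w : Y ⟶ Proj (𝒮.deg ⊤ hS) := IsOpenImmersion.lift (RelProj.emb p chart ⊤ hS) i hrange
  have hw : w ≫ RelProj.emb p chart ⊤ hS = i := IsOpenImmersion.lift_fac _ _ _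
  have : E.IsQuasicoherent := hE
  have h𝒮 := Groth.Agent.Lib.helper28.ProjBundleQuot.isGenDegOne_of_isGrSymAlg E 𝒮 j hj
  have hcov := Groth.Agent.Lib.helper28.GTwistAll.hcov_of_closure (𝒮.deg ⊤ hS) (h𝒮 ⊤ hS)
  let ρ : k →+* 𝒮.presheaf.obj (Opposite.op ⊤) :=
    (𝒮.str.app (Opposite.op ⊤)).hom.comp (Scheme.ΓSpecIso (CommRingCat.of k)).inv.hom
  obtain ⟨g, hg, hgi⟩ := exists_deg_one_avoiding ρ (𝒮.deg ⊤ hS) (fun c => 𝒮.str_mem ⊤ hS _)
    (fun i' => (show ProjectiveSpectrum (𝒮.deg ⊤ hS) from w (y i')).asHomogeneousIdeal.toIdeal)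
    (fun i' => hcov _)
  have hL' : PicF.IsInvertible (GrTwist.twist (𝒮.deg ⊤ hS) ((1 : ℕ) : ℤ)) :=
    Groth.Agent.Lib.helper28.GTwistAll.isInvertible_twist (𝒮.deg ⊤ hS) hcov _
  let s₀ := Groth.Agent.Lib.helper12.GTwistSecHom.secHom (𝒮.deg ⊤ hS) (⟨g, hg⟩ : 𝒮.deg ⊤ hS 1)
  have hgen := Groth.Agent.Lib.helper11.InvPullback.genLocus_pullback w _ hL' s₀
    (Groth.Agent.Lib.helper11.InvMod.pullbackUnitIso w).symm
  let e1 : (Scheme.Modules.pullback w).obj (GrTwist.twist (𝒮.deg ⊤ hS) ((1 : ℕ) : ℤ)) ≅ A :=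
    (Scheme.Modules.pullback w).mapIso
      ((Groth.Agent.Lib.helper28.RelTwistChart.chartIso lam hO1 ⊤ hS).symm ≪≫
        (Scheme.Modules.restrictFunctorIsoPullback (RelProj.emb p chart ⊤ hS)).app O1) ≪≫
      (Scheme.Modules.pullbackComp w (RelProj.emb p chart ⊤ hS)).app O1 ≪≫
      (Scheme.Modules.pullbackCongr hw).app O1 ≪≫ e.symm
  refine ⟨((Groth.Agent.Lib.helper11.InvMod.pullbackUnitIso w).symm.hom ≫
    (Scheme.Modules.pullback w).map s₀) ≫ e1.hom, fun i' => ?_⟩
  rw [Groth.Agent.Lib.helper11.IsoLocus.genLocus_comp_iso, hgen]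
  show w (y i') ∈ CohB1.genLocus _ s₀
  exact Groth.Agent.Lib.helper12.GTwistSecHom.basicOpen_le_genLocus (𝒮.deg ⊤ hS) Nat.one_pos
    (⟨g, hg⟩ : 𝒮.deg ⊤ hS 1) ((ProjectiveSpectrum.mem_basicOpen _ _ _).mpr (hgi i'))

end Groth.Agent.S19593
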