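import Groth.Statements.S19596
import Groth.Agent.Lib.Helper22.ArLefColon

set_option autoImplicit false
universe u
open ArLef ArLef.NodeAlg

namespace Groth.Agent.S19596

open Groth.Agent.Lib.helper22.ArLefGen Groth.Agent.Lib.helper22.ArLefNode Groth.Agent.Lib.helper22.ArLefLen

/-- In the cases where σ fixes the two branches through the point, these lie on different components,
and the second branch lies in the divisorial part of the fixed locus with multiplicity i₂ strictly
between 0 and j while the first has multiplicity i₁ ≤ i₂, let B be a discrete valuation ring with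
uniformizer π, N = B[[t, e]]/(te - π) the complete local ring of a semi-stable arithmetic surface
over B at a singular point x of the closed fibre, and σ a ring automorphism of N with σ(π) = π + γ
π^j (γ a unit of B, j ≥ 1) and σ(c) - c ∈ π^j N for all c ∈ B. Suppose σ(t) = α t and σ(e) = β e
with units α, β, and α - 1 = t^{i₁} e^{i₂} a, β - 1 = t^{i₁} e^{i₂} b with i₁ ≤ i₂, 0 < i₂ < j, e
not dividing a and t not dividing b. Then, I being the fixed-point ideal of σ, whose divisorial part
near x is t^{i₁} e^{i₂}, the residual fixed-point scheme with ideal (I : t^{i₁} e^{i₂}) has length 1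
+ (j - i₁)·Leng N/(t, b) + (j - i₂)·Leng N/(e, a) at x; here Leng N/(t, b) + i₂ + 1 and Leng N/(e,
a) + i₁ + 1 are the orders at x of the derivations σ induces on the two components (the fixed-point
multiplicities when the component is outside the divisorial part). -/
theorem result (B : Type u) [CommRing B] [IsDomain B] [IsDiscreteValuationRing B] (π : B) (hπ : Irreducible π)
    (j i₁ i₂ : ℕ) (h12 : i₁ ≤ i₂) (h2 : 0 < i₂) (h2j : i₂ < j) (γ : B) (hγ : IsUnit γ)
    (σ : ArLef.NodeAlg B π ≃+* ArLef.NodeAlg B π)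
    (hσB : ∀ c : B, σ (algebraMap B (ArLef.NodeAlg B π) c) - algebraMap B (ArLef.NodeAlg B π) c ∈
      Ideal.span ({algebraMap B (ArLef.NodeAlg B π) (π ^ j)} : Set (ArLef.NodeAlg B π)))
    (hσπ : σ (algebraMap B (ArLef.NodeAlg B π) π) = algebraMap B (ArLef.NodeAlg B π) (π + γ * π ^ j))
    (α β : (ArLef.NodeAlg B π)ˣ) (ht : σ (ArLef.NodeAlg.t π) = (α : ArLef.NodeAlg B π) * ArLef.NodeAlg.t π) (he : σ (ArLef.NodeAlg.e π) = (β : ArLef.NodeAlg B π) * ArLef.NodeAlg.e π)
    (a b : ArLef.NodeAlg B π) (ha : (α : ArLef.NodeAlg B π) - 1 = ArLef.NodeAlg.t π ^ i₁ * ArLef.NodeAlg.e π ^ i₂ * a) (hb : (β : ArLef.NodeAlg B π) - 1 = ArLef.NodeAlg.t π ^ i₁ * ArLef.NodeAlg.e π ^ i₂ * b)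
    (hea : ¬ (ArLef.NodeAlg.e π ∣ a)) (htb : ¬ (ArLef.NodeAlg.t π ∣ b)) :
    Module.length (ArLef.NodeAlg B π) (ArLef.NodeAlg B π ⧸ (ArLef.fixIdeal σ).colon ({ArLef.NodeAlg.t π ^ i₁ * ArLef.NodeAlg.e π ^ i₂} : Set (ArLef.NodeAlg B π))) =
      1 + ((j - i₁ : ℕ) : ℕ∞) * Module.length (ArLef.NodeAlg B π) (ArLef.NodeAlg B π ⧸ Ideal.span ({ArLef.NodeAlg.t π, b} : Set (ArLef.NodeAlg B π))) +
        ((j - i₂ : ℕ) : ℕ∞) * Module.length (ArLef.NodeAlg B π) (ArLef.NodeAlg B π ⧸ Ideal.span ({ArLef.NodeAlg.e π, a} : Set (ArLef.NodeAlg B π))) := by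
  have hπm : IsLocalRing.maximalIdeal B = Ideal.span ({π} : Set B) := hπ.maximalIdeal_eq
  haveI := isLocalRing_node π (span_ne_top π hπm)
  haveI := isDomain_node π hπ.ne_zero hπm
  have pt : Prime (ArLef.NodeAlg.t π) := prime_v π hπm 0
  have pe : Prime (ArLef.NodeAlg.e π) := prime_v π hπm 1
  have hte : ¬ ArLef.NodeAlg.t π ∣ ArLef.NodeAlg.e π :=
    not_v_dvd_v π (span_ne_top π hπm) (i := 1) (j := 0) (by decide)
  have het : ¬ ArLef.NodeAlg.e π ∣ ArLef.NodeAlg.t π :=
    not_v_dvd_v π (span_ne_top π hπm) (i := 0) (j := 1) (by decide)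
  obtain ⟨k, rfl⟩ : ∃ k, j = k + 1 := ⟨j - 1, by omega⟩
  have hfixeq := node_fixIdeal_eq π hπm (k + 1) γ hγ σ hσB hσπ
  have hrel := node_rel π k γ σ hσπ
  obtain ⟨γ', hγ'⟩ : ∃ γ' : ArLef.NodeAlg B π, γ' * algebraMap B (ArLef.NodeAlg B π) γ = 1 := by
    obtain ⟨v, rfl⟩ := hγ
    exact ⟨algebraMap B (ArLef.NodeAlg B π) ((v⁻¹ : Bˣ) : B), by rw [← map_mul]; simp⟩
  obtain ⟨α', hα'⟩ : ∃ α' : ArLef.NodeAlg B π, α' * (α : ArLef.NodeAlg B π) = 1 :=
    ⟨((α⁻¹ : (ArLef.NodeAlg B π)ˣ) : ArLef.NodeAlg B π), by simp⟩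
  generalize (α : ArLef.NodeAlg B π) = A at *
  generalize (β : ArLef.NodeAlg B π) = Bt at *
  set T := ArLef.NodeAlg.t π with hT
  set E := ArLef.NodeAlg.e π with hE
  set G := algebraMap B (ArLef.NodeAlg B π) γ with hG
  rw [ht, he] at hrel hfixeq
  set D := T ^ i₁ * E ^ i₂ with hD
  have hD0 : D ≠ 0 := mul_ne_zero (pow_ne_zero _ pt.ne_zero) (pow_ne_zero _ pe.ne_zero)
  set m := k - i₁ with hm
  set n := k - i₂ with hn
  set P := T ^ m * E ^ n with hP
  have hTEk : (T * E) ^ k = D * P := by
    rw [hD, hP, mul_pow]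
    have e1 : T ^ k = T ^ i₁ * T ^ m := by rw [← pow_add]; congr 1; omega
    have e2 : E ^ k = E ^ i₂ * E ^ n := by rw [← pow_add]; congr 1; omega
    rw [e1, e2]; ring
  have hA : A = 1 + D * a := by linear_combination ha
  have hBt : Bt = 1 + D * b := by linear_combination hb
  have hAB : A * Bt = 1 + G * (T * E) ^ k := by
    have h2 : (T * E) * (A * Bt) = (T * E) * (1 + G * (T * E) ^ k) := by linear_combination hrel
    exact mul_left_cancel₀ (mul_ne_zero pt.ne_zero pe.ne_zero) h2
  have hab : a + b + D * a * b = G * P := by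
    apply mul_left_cancel₀ hD0
    rw [hTEk, hA, hBt] at hAB
    linear_combination hAB
  have hbA : b = α' * (G * P - a) := by
    have : b * A = G * P - a := by rw [hA]; linear_combination hab
    calc b = α' * (b * A) := by linear_combination (-b) * hα'
      _ = _ := by rw [this]
  have hPeq : P = γ' * (a + b + D * a * b) := by
    rw [hab]; linear_combination (-P) * hγ'
  set J : Ideal (ArLef.NodeAlg B π) := Ideal.span ({T * a, E * b} : Set (ArLef.NodeAlg B π)) with hJ
  have hPTE : P * T * E ∈ J := by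
    have : P * T * E = (γ' * E + γ' * D * E * b) * (T * a) + (γ' * T) * (E * b) := by
      rw [hPeq]; ring
    rw [this]
    exact Ideal.add_mem _ (Ideal.mul_mem_left _ _ (Ideal.subset_span (by simp)))
      (Ideal.mul_mem_left _ _ (Ideal.subset_span (by simp)))
  have hI : ArLef.fixIdeal σ = Ideal.span ({D} : Set (ArLef.NodeAlg B π)) * J := by
    rw [hfixeq]
    apply le_antisymm
    · rw [Ideal.span_le]
      rintro z (rfl | rfl | rfl)
      · have : algebraMap B (ArLef.NodeAlg B π) (π ^ (k + 1)) = D * (P * T * E) := by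
          rw [map_pow, ← t_mul_e, pow_succ, hTEk]; ring
        rw [SetLike.mem_coe, this]
        exact Ideal.mul_mem_mul (Ideal.mem_span_singleton_self D) hPTE
      · have : A * T - T = D * (T * a) := by rw [hA]; ring
        rw [SetLike.mem_coe, this]
        exact Ideal.mul_mem_mul (Ideal.mem_span_singleton_self D) (Ideal.subset_span (by simp))
      · have : Bt * E - E = D * (E * b) := by rw [hBt]; ring
        rw [SetLike.mem_coe, this]
        exact Ideal.mul_mem_mul (Ideal.mem_span_singleton_self D) (Ideal.subset_span (by simp))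
    · rw [Ideal.span_singleton_mul_le_iff]
      intro z hz
      obtain ⟨c1, c2, rfl⟩ := Ideal.mem_span_pair.mp hz
      have : D * (c1 * (T * a) + c2 * (E * b)) = c1 * (A * T - T) + c2 * (Bt * E - E) := by
        rw [hA, hBt]; ring
      rw [this]
      exact Ideal.add_mem _ (Ideal.mul_mem_left _ _ (Ideal.subset_span (by simp)))
        (Ideal.mul_mem_left _ _ (Ideal.subset_span (by simp)))
  have hcolon : (ArLef.fixIdeal σ).colon ({D} : Set (ArLef.NodeAlg B π)) = J := by
    rw [hI]; exact colon_span_singleton_mul hD0 J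
  have hspanab : Ideal.span ({a, b} : Set (ArLef.NodeAlg B π)) =
      Ideal.span ({T ^ m * E ^ n, a} : Set (ArLef.NodeAlg B π)) := by
    apply le_antisymm
    · rw [Ideal.span_le]
      rintro z (rfl | rfl)
      · exact Ideal.subset_span (by simp)
      · rw [SetLike.mem_coe, hbA, Ideal.mem_span_pair]
        exact ⟨α' * G, -α', by ring⟩
    · rw [Ideal.span_le]
      rintro z (rfl | rfl)
      · rw [SetLike.mem_coe, ← hP, hPeq, Ideal.mem_span_pair]
        exact ⟨γ' + γ' * D * b, γ', by ring⟩
      · exact Ideal.subset_span (by simp)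
  have hlenab : Module.length (ArLef.NodeAlg B π)
      (ArLef.NodeAlg B π ⧸ Ideal.span ({a, b} : Set (ArLef.NodeAlg B π))) =
      (m : ℕ∞) * Module.length (ArLef.NodeAlg B π)
          (ArLef.NodeAlg B π ⧸ Ideal.span ({T, b} : Set (ArLef.NodeAlg B π))) +
        (n : ℕ∞) * Module.length (ArLef.NodeAlg B π)
          (ArLef.NodeAlg B π ⧸ Ideal.span ({E, a} : Set (ArLef.NodeAlg B π))) := by
    have hta : 1 ≤ m → ¬ T ∣ a := by
      intro hm1 hdiv
      apply htb
      rw [hbA]
      have hTP : T ∣ P := Dvd.dvd.mul_right (dvd_pow_self _ (by omega)) _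
      exact Dvd.dvd.mul_left (dvd_sub (Dvd.dvd.mul_left hTP _) hdiv) _
    rw [length_quot_congr hspanab, len_pow_mul_pow pt pe m n hta (fun _ => hea)]
    congr 1
    rcases Nat.eq_zero_or_pos m with hm0 | hmpos
    · rw [hm0]; simp
    · have hTP : T ∣ P := Dvd.dvd.mul_right (dvd_pow_self _ (by omega)) _
      obtain ⟨c, hc⟩ := hTP
      have hspanT : Ideal.span ({T, a} : Set (ArLef.NodeAlg B π)) =
          Ideal.span ({T, b} : Set (ArLef.NodeAlg B π)) := by
        have hthis : a = (G * c) * T + (-A) * b := by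
          have h1 : b * A = G * P - a := by rw [hA]; linear_combination hab
          rw [hc] at h1
          linear_combination h1
        apply le_antisymm
        · rw [Ideal.span_le]
          rintro z (hz | hz)
          · rw [hz]; exact Ideal.subset_span (by simp)
          · rw [SetLike.mem_coe, hz, hthis]
            exact Ideal.add_mem _ (Ideal.mul_mem_left _ _ (Ideal.subset_span (by simp)))
              (Ideal.mul_mem_left _ _ (Ideal.subset_span (by simp)))
        · rw [Ideal.span_le]
          rintro z (rfl | rfl)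
          · exact Ideal.subset_span (by simp)
          · rw [SetLike.mem_coe, hbA, hc, Ideal.mem_span_pair]
            exact ⟨α' * G * c, -α', by ring⟩
      rw [length_quot_congr hspanT]
  rw [length_quot_congr hcolon, hJ, len_pq_mul pt pe hte het htb hea, length_quot_t_e π hπm, hlenab]
  have e1 : k + 1 - i₁ = m + 1 := by omega
  have e2 : k + 1 - i₂ = n + 1 := by omega
  rw [e1, e2]
  push_cast
  ring

end Groth.Agent.S19596
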