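import Groth.Statements.S19597
import Groth.Agent.Lib.Helper22.ArLefColon

set_option autoImplicit false
universe u
open ArLef ArLef.NodeAlg

namespace Groth.Agent.S19597

open Groth.Agent.Lib.helper22.ArLefGen Groth.Agent.Lib.helper22.ArLefNode Groth.Agent.Lib.helper22.ArLefLen

/-- In the cases where σ fixes the two branches through the point, these lie on different components,
the second lies in the divisorial part of the fixed locus with the maximal multiplicity j and the
first with multiplicity i₁ < j, let B be a discrete valuation ring with uniformizer π, N = B[[t,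
e]]/(te - π) the complete local ring of a semi-stable arithmetic surface over B at a singular point
x of the closed fibre, and σ a ring automorphism of N with σ(π) = π + γ π^j (γ a unit of B, j ≥ 1)
and σ(c) - c ∈ π^j N for all c ∈ B. Suppose σ(t) = α t and σ(e) = β e with units α, β, that α - 1 =
t^{i₁} e^j a and β - 1 = t^{i₁} e^{j-1} b with i₁ < j and t not dividing b. Then, I being the
fixed-point ideal of σ, whose divisorial part near x is t^{i₁} e^j, the length l of the residual
fixed-point scheme with ideal (I : t^{i₁} e^j) satisfies l + (j - 1 - i₁) = (j - i₁)·Leng N/(t, b);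
for i₁ = 0, Leng N/(t, b) + j is the fixed-point multiplicity s₁ of σ at x on the first component
and l = j (s₁ - j - 1) + 1. -/
theorem result (B : Type u) [CommRing B] [IsDomain B] [IsDiscreteValuationRing B] (π : B) (hπ : Irreducible π)
    (j i₁ : ℕ) (h1 : i₁ < j) (γ : B) (hγ : IsUnit γ)
    (σ : ArLef.NodeAlg B π ≃+* ArLef.NodeAlg B π)
    (hσB : ∀ c : B, σ (algebraMap B (ArLef.NodeAlg B π) c) - algebraMap B (ArLef.NodeAlg B π) c ∈
      Ideal.span ({algebraMap B (ArLef.NodeAlg B π) (π ^ j)} : Set (ArLef.NodeAlg B π)))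
    (hσπ : σ (algebraMap B (ArLef.NodeAlg B π) π) = algebraMap B (ArLef.NodeAlg B π) (π + γ * π ^ j))
    (α β : (ArLef.NodeAlg B π)ˣ) (ht : σ (ArLef.NodeAlg.t π) = (α : ArLef.NodeAlg B π) * ArLef.NodeAlg.t π) (he : σ (ArLef.NodeAlg.e π) = (β : ArLef.NodeAlg B π) * ArLef.NodeAlg.e π)
    (a b : ArLef.NodeAlg B π) (ha : (α : ArLef.NodeAlg B π) - 1 = ArLef.NodeAlg.t π ^ i₁ * ArLef.NodeAlg.e π ^ j * a) (hb : (β : ArLef.NodeAlg B π) - 1 = ArLef.NodeAlg.t π ^ i₁ * ArLef.NodeAlg.e π ^ (j - 1) * b)
    (htb : ¬ (ArLef.NodeAlg.t π ∣ b)) :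
    Module.length (ArLef.NodeAlg B π) (ArLef.NodeAlg B π ⧸ (ArLef.fixIdeal σ).colon ({ArLef.NodeAlg.t π ^ i₁ * ArLef.NodeAlg.e π ^ j} : Set (ArLef.NodeAlg B π))) + ((j - 1 - i₁ : ℕ) : ℕ∞) =
      ((j - i₁ : ℕ) : ℕ∞) * Module.length (ArLef.NodeAlg B π) (ArLef.NodeAlg B π ⧸ Ideal.span ({ArLef.NodeAlg.t π, b} : Set (ArLef.NodeAlg B π))) := by
  have hπm : IsLocalRing.maximalIdeal B = Ideal.span ({π} : Set B) := hπ.maximalIdeal_eq
  haveI := isLocalRing_node π (span_ne_top π hπm)
  haveI := isDomain_node π hπ.ne_zero hπm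
  have pt : Prime (ArLef.NodeAlg.t π) := prime_v π hπm 0
  have pe : Prime (ArLef.NodeAlg.e π) := prime_v π hπm 1
  have hte : ¬ ArLef.NodeAlg.t π ∣ ArLef.NodeAlg.e π :=
    not_v_dvd_v π (span_ne_top π hπm) (i := 1) (j := 0) (by decide)
  have het : ¬ ArLef.NodeAlg.e π ∣ ArLef.NodeAlg.t π :=
    not_v_dvd_v π (span_ne_top π hπm) (i := 0) (j := 1) (by decide)
  obtain ⟨k, rfl⟩ : ∃ k, j = k + 1 := ⟨j - 1, by omega⟩
  have hfixeq := node_fixIdeal_eq π hπm (k + 1) γ hγ σ hσB hσπ
  have hrel := node_rel π k γ σ hσπ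
  obtain ⟨γ', hγ'⟩ : ∃ γ' : ArLef.NodeAlg B π, γ' * algebraMap B (ArLef.NodeAlg B π) γ = 1 := by
    obtain ⟨v, rfl⟩ := hγ
    exact ⟨algebraMap B (ArLef.NodeAlg B π) ((v⁻¹ : Bˣ) : B), by rw [← map_mul]; simp⟩
  obtain ⟨α', hα'⟩ : ∃ α' : ArLef.NodeAlg B π, α' * (α : ArLef.NodeAlg B π) = 1 :=
    ⟨((α⁻¹ : (ArLef.NodeAlg B π)ˣ) : ArLef.NodeAlg B π), by simp⟩
  generalize (α : ArLef.NodeAlg B π) = A at *
  generalize (β : ArLef.NodeAlg B π) = Bt at *
  set T := ArLef.NodeAlg.t π with hT
  set E := ArLef.NodeAlg.e π with hE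
  set G := algebraMap B (ArLef.NodeAlg B π) γ with hG
  rw [ht, he] at hrel hfixeq
  rw [show k + 1 - 1 = k by omega] at hb
  set D' := T ^ i₁ * E ^ k with hD'
  set D := T ^ i₁ * E ^ (k + 1) with hD
  have hDD' : D = D' * E := by rw [hD, hD', pow_succ]; ring
  have hD0 : D ≠ 0 := mul_ne_zero (pow_ne_zero _ pt.ne_zero) (pow_ne_zero _ pe.ne_zero)
  have hD'0 : D' ≠ 0 := mul_ne_zero (pow_ne_zero _ pt.ne_zero) (pow_ne_zero _ pe.ne_zero)
  set m := k - i₁ with hm
  have hTEk : (T * E) ^ k = D' * T ^ m := by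
    rw [hD', mul_pow]
    have e1 : T ^ k = T ^ i₁ * T ^ m := by rw [← pow_add]; congr 1; omega
    rw [e1]; ring
  have hA : A = 1 + D * a := by linear_combination ha
  have hBt : Bt = 1 + D' * b := by linear_combination hb
  have hAB : A * Bt = 1 + G * (T * E) ^ k := by
    have h2 : (T * E) * (A * Bt) = (T * E) * (1 + G * (T * E) ^ k) := by linear_combination hrel
    exact mul_left_cancel₀ (mul_ne_zero pt.ne_zero pe.ne_zero) h2
  have hab : E * a + b + D * a * b = G * T ^ m := by
    apply mul_left_cancel₀ hD'0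
    rw [hTEk, hA, hBt, hDD'] at hAB
    rw [hDD']
    linear_combination hAB
  have hbA' : b * A = G * T ^ m - E * a := by rw [hA]; linear_combination hab
  have hbA : b = α' * (G * T ^ m - E * a) := by
    calc b = α' * (b * A) := by linear_combination (-b) * hα'
      _ = _ := by rw [hbA']
  have hTm : T ^ m = γ' * (E * a + b + D * a * b) := by
    rw [hab]; linear_combination (-(T ^ m)) * hγ'
  set J : Ideal (ArLef.NodeAlg B π) := Ideal.span ({T * a, b} : Set (ArLef.NodeAlg B π)) with hJ
  have hTm1 : T ^ (m + 1) ∈ J := by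
    have : T ^ (m + 1) = (γ' * E) * (T * a) + (γ' * T + γ' * T * D * a) * b := by
      rw [pow_succ, hTm]; ring
    rw [this]
    exact Ideal.add_mem _ (Ideal.mul_mem_left _ _ (Ideal.subset_span (by simp)))
      (Ideal.mul_mem_left _ _ (Ideal.subset_span (by simp)))
  have hI : ArLef.fixIdeal σ = Ideal.span ({D} : Set (ArLef.NodeAlg B π)) * J := by
    rw [hfixeq]
    apply le_antisymm
    · rw [Ideal.span_le]
      rintro z (hz | hz | hz)
      · have : algebraMap B (ArLef.NodeAlg B π) (π ^ (k + 1)) = D * T ^ (m + 1) := by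
          rw [map_pow, ← t_mul_e, pow_succ, hTEk, hDD']; ring
        rw [SetLike.mem_coe, hz, this]
        exact Ideal.mul_mem_mul (Ideal.mem_span_singleton_self D) hTm1
      · have : A * T - T = D * (T * a) := by rw [hA]; ring
        rw [SetLike.mem_coe, hz, this]
        exact Ideal.mul_mem_mul (Ideal.mem_span_singleton_self D) (Ideal.subset_span (by simp))
      · have : Bt * E - E = D * b := by rw [hBt, hDD']; ring
        rw [SetLike.mem_coe, hz, this]
        exact Ideal.mul_mem_mul (Ideal.mem_span_singleton_self D) (Ideal.subset_span (by simp))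
    · rw [Ideal.span_singleton_mul_le_iff]
      intro z hz
      obtain ⟨c1, c2, rfl⟩ := Ideal.mem_span_pair.mp hz
      have : D * (c1 * (T * a) + c2 * b) = c1 * (A * T - T) + c2 * (Bt * E - E) := by
        rw [hA, hBt, hDD']; ring
      rw [this]
      exact Ideal.add_mem _ (Ideal.mul_mem_left _ _ (Ideal.subset_span (by simp)))
        (Ideal.mul_mem_left _ _ (Ideal.subset_span (by simp)))
  have hcolon : (ArLef.fixIdeal σ).colon ({D} : Set (ArLef.NodeAlg B π)) = J := by
    rw [hI]; exact colon_span_singleton_mul hD0 J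
  have hspanab : Ideal.span ({a, b} : Set (ArLef.NodeAlg B π)) =
      Ideal.span ({T ^ m, a} : Set (ArLef.NodeAlg B π)) := by
    apply le_antisymm
    · rw [Ideal.span_le]
      rintro z (hz | hz)
      · rw [hz]; exact Ideal.subset_span (by simp)
      · rw [SetLike.mem_coe, hz, hbA, Ideal.mem_span_pair]
        exact ⟨α' * G, -α' * E, by ring⟩
    · rw [Ideal.span_le]
      rintro z (hz | hz)
      · rw [SetLike.mem_coe, hz, hTm, Ideal.mem_span_pair]
        exact ⟨γ' * E + γ' * D * b, γ', by ring⟩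
      · rw [hz]; exact Ideal.subset_span (by simp)
  have hta : 1 ≤ m → ¬ T ∣ a := by
    intro hm1 hdiv
    apply htb
    rw [hbA]
    have hTP : T ∣ T ^ m := dvd_pow_self _ (by omega)
    exact Dvd.dvd.mul_left (dvd_sub (Dvd.dvd.mul_left hTP _) (Dvd.dvd.mul_left hdiv _)) _
  have hlen1 : Module.length (ArLef.NodeAlg B π) (ArLef.NodeAlg B π ⧸ J) =
      Module.length (ArLef.NodeAlg B π)
          (ArLef.NodeAlg B π ⧸ Ideal.span ({T, b} : Set (ArLef.NodeAlg B π))) +
        (m : ℕ∞) * Module.length (ArLef.NodeAlg B π)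
          (ArLef.NodeAlg B π ⧸ Ideal.span ({T, a} : Set (ArLef.NodeAlg B π))) := by
    rw [hJ, length_quot_mul T a b (isSMulRegular_of_prime pt htb), length_quot_congr hspanab,
      length_quot_pow' T a m (fun h => isSMulRegular_of_prime pt (hta h))]
  rw [length_quot_congr hcolon, hlen1]
  have e1 : k + 1 - 1 - i₁ = m := by omega
  have e2 : k + 1 - i₁ = m + 1 := by omega
  rw [e1, e2]
  rcases Nat.eq_zero_or_pos m with hm0 | hmpos
  · rw [hm0]; simp
  · obtain ⟨c, hc⟩ : T ∣ T ^ m := dvd_pow_self _ (by omega)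
    have hspanT : Ideal.span ({T, b} : Set (ArLef.NodeAlg B π)) =
        Ideal.span ({E * a, T} : Set (ArLef.NodeAlg B π)) := by
      apply le_antisymm
      · rw [Ideal.span_le]
        rintro z (hz | hz)
        · rw [hz]; exact Ideal.subset_span (by simp)
        · rw [SetLike.mem_coe, hz, hbA, hc, Ideal.mem_span_pair]
          exact ⟨-α', α' * G * c, by ring⟩
      · rw [Ideal.span_le]
        rintro z (hz | hz)
        · have : E * a = (G * c) * T + (-A) * b := by
            rw [hc] at hbA'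
            linear_combination hbA'
          rw [SetLike.mem_coe, hz, this]
          exact Ideal.add_mem _ (Ideal.mul_mem_left _ _ (Ideal.subset_span (by simp)))
            (Ideal.mul_mem_left _ _ (Ideal.subset_span (by simp)))
        · rw [hz]; exact Ideal.subset_span (by simp)
    rw [length_quot_congr hspanT, length_quot_mul E a T (isSMulRegular_of_prime pe het),
      length_pair_comm E T, length_quot_t_e π hπm, length_pair_comm a T]
    push_cast
    ring

end Groth.Agent.S19597
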