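import Groth.Statements.S19603
import Groth.Agent.Lib.Helper22.GradedCoact
import Groth.Agent.Lib.Helper22.LinRed

set_option autoImplicit false
universe u
open GIT

namespace Groth.Agent.S19603

/-- For the whole projective space U = P(V), let k be an algebraically closed field of arbitrary
characteristic and G = Spec A a linearly reductive affine algebraic group acting linearly on affine
ι-space, and let v be a vector. Then some invariant homogeneous polynomial of positive degree is
non-zero at v (the point of v is semistable) if and only if the origin is not in the closure of the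
orbit of v. -/
theorem result (k : Type u) [Field k] [IsAlgClosed k]
    (A : Type u) [CommRing A] [HopfAlgebra k A] [Algebra.FiniteType k A] (hG : HopfRep.IsLinearlyReductive k A)
    (ι : Type u) [Fintype ι] [HopfRep.Comod k A (MvPolynomial ι k)] [GLin.IsCoactAlg k A (MvPolynomial ι k)]
    (hlin : GLin.IsLinear k A ι) (v : ι → k) :
    GLin.IsSemistableVec k A v ↔
      ¬ GLin.InOrbitClosure k A (GLin.vecPt k ι v) (GLin.vecPt k ι (fun _ => (0 : k))) := by
  classical
  unfold GLin.IsSemistableVec GLin.InOrbitClosure
  constructor
  · intro hss hclos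
    apply hss
    intro F hF d hd hFd
    by_contra hne
    -- F - F(v) vanishes on the orbit of v
    have h1 : F - MvPolynomial.C (MvPolynomial.eval v F) ∈
        RingHom.ker (GLin.orbitHom k A (GLin.vecPt k ι v)) := by
      rw [RingHom.mem_ker, map_sub, Groth.Agent.Lib.helper22.orbitHom_of_mem_invariants _ F hF,
        ← MvPolynomial.algebraMap_eq, AlgHom.commutes, sub_eq_zero]
      congr 1
    have h2 := hclos h1
    rw [RingHom.mem_ker, map_sub, ← MvPolynomial.algebraMap_eq, AlgHom.commutes,
      Groth.Agent.Lib.helper22.aeval_zero_of_isHomogeneous hFd hd, zero_sub, neg_eq_zero] at h2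
    exact hne h2
  · intro hclos hnull
    apply hclos
    have hss : HopfRep.IsSemisimpleComod k A (MvPolynomial ι k) :=
      Groth.Agent.Lib.helper22.isSemisimpleComod_of_isLinearlyReductive hG (MvPolynomial ι k)
    have hagree : ∀ f ∈ GLin.invariants k A (MvPolynomial ι k),
        GLin.vecPt k ι v f = GLin.vecPt k ι (fun _ => (0 : k)) f := by
      intro f hf
      conv_lhs => rw [← MvPolynomial.sum_homogeneousComponent f]
      conv_rhs => rw [← MvPolynomial.sum_homogeneousComponent f]
      rw [map_sum, map_sum]
      apply Finset.sum_congr rfl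
      intro j _
      by_cases hj : j = 0
      · subst hj
        rw [MvPolynomial.homogeneousComponent_zero]
        simp
      · have hjpos : 0 < j := Nat.pos_of_ne_zero hj
        have h1 := hnull (MvPolynomial.homogeneousComponent j f)
          (Groth.Agent.Lib.helper22.homogeneousComponent_mem_invariants hlin j hf) j hjpos
          (MvPolynomial.homogeneousComponent_isHomogeneous j f)
        have h2 := Groth.Agent.Lib.helper22.aeval_zero_of_isHomogeneous
          (MvPolynomial.homogeneousComponent_isHomogeneous j f) hjpos
        change MvPolynomial.aeval v (MvPolynomial.homogeneousComponent j f) =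
          MvPolynomial.aeval (fun _ => (0 : k)) (MvPolynomial.homogeneousComponent j f)
        rw [h2, MvPolynomial.aeval_eq_eval, h1]
    have hne := Groth.Agent.Lib.helper22.ker_orbitHom_sup_ne_top hss _ _ hagree
    by_contra hnot
    apply hne
    rw [SetLike.not_le_iff_exists] at hnot
    obtain ⟨h, hh1, hh2⟩ := hnot
    rw [RingHom.mem_ker] at hh2
    obtain ⟨c, hc⟩ : ∃ c : k, c = GLin.vecPt k ι (fun _ => (0 : k)) h := ⟨_, rfl⟩
    have hc0 : c ≠ 0 := hc ▸ hh2
    have h3 : h - MvPolynomial.C c ∈ RingHom.ker (GLin.orbitHom k A (GLin.vecPt k ι (fun _ => (0 : k)))) := by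
      apply Groth.Agent.Lib.helper22.ker_vecPt_zero_le_ker_orbitHom hlin
      rw [RingHom.mem_ker, map_sub, ← MvPolynomial.algebraMap_eq, AlgHom.commutes, ← hc]
      simp
    rw [Ideal.eq_top_iff_one]
    have h4 : MvPolynomial.C c ∈ RingHom.ker (GLin.orbitHom k A (GLin.vecPt k ι v)) ⊔
        RingHom.ker (GLin.orbitHom k A (GLin.vecPt k ι (fun _ => (0 : k)))) := by
      have : MvPolynomial.C c = h - (h - MvPolynomial.C c) := by ring
      rw [this]
      exact sub_mem (Ideal.mem_sup_left hh1) (Ideal.mem_sup_right h3)
    have h5 := Ideal.mul_mem_left _ (MvPolynomial.C c⁻¹) h4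
    rw [← map_mul, inv_mul_cancel₀ hc0, map_one] at h5
    exact h5

end Groth.Agent.S19603
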