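import Groth.Statements.S19610
import Mathlib
import Groth.Agent.Lib.Helper8.LocalFlat

set_option autoImplicit false
universe u
open scoped TensorProduct
open CartMod

namespace Groth.Agent.S19610

open TensorProduct Groth.Agent.Lib.helper8.LocalFlat


/-- `(a) ⊗ L → A ⊗ L` is injective if `a` is regular on `A` and on `L`. -/
lemma span_singleton_rTensor_injective {A : Type*} [CommRing A] (a : A)
    (L : Type*) [AddCommGroup L] [Module A L] (hL : IsSMulRegular L a) :
    Function.Injective ((Ideal.span {a}).subtype.rTensor L) := by
  rw [injective_iff_map_eq_zero]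
  intro x hx
  -- every element is of the form ⟨a⟩ ⊗ l
  have hform : ∀ x : (Ideal.span {a} : Ideal A) ⊗[A] L,
      ∃ l : L, x = (⟨a, Ideal.mem_span_singleton_self a⟩ : Ideal.span {a}) ⊗ₜ[A] l := by
    intro x
    induction x using TensorProduct.induction_on with
    | zero => exact ⟨0, by simp⟩
    | tmul i l =>
      obtain ⟨i, hi⟩ := i
      obtain ⟨c, rfl⟩ := Ideal.mem_span_singleton'.mp hi
      refine ⟨c • l, ?_⟩
      rw [TensorProduct.tmul_smul, TensorProduct.smul_tmul']
      rfl
    | add x y hx hy =>
      obtain ⟨l₁, rfl⟩ := hx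
      obtain ⟨l₂, rfl⟩ := hy
      exact ⟨l₁ + l₂, by rw [TensorProduct.tmul_add]⟩
  obtain ⟨l, rfl⟩ := hform x
  rw [LinearMap.rTensor_tmul] at hx
  have h2 : (TensorProduct.lid A L) ((Ideal.span {a}).subtype
      (⟨a, Ideal.mem_span_singleton_self a⟩ : Ideal.span {a}) ⊗ₜ[A] l) = 0 := by
    rw [hx, map_zero]
  rw [TensorProduct.lid_tmul] at h2
  have h3 : a • l = a • (0 : L) := by rw [smul_zero]; exact h2
  rw [hL h3, TensorProduct.tmul_zero]



/-- Let p be a prime and B a commutative algebra over the commutative ring A, both complete and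
separated for the p-adic topology and both without p-torsion (flat over the p-adic base). If B/pB is
flat over A/pA, then B/p^nB is flat over A/p^nA for every n ≥ 1 (the quotients are written as base
changes (A/p^n) ⊗_A B). (The published statement is for a morphism of flat p-adic formal schemes
over the Witt vectors of a perfect field: if its special fibre is flat, so are the induced morphisms
of schemes modulo every power of p; this row is its affine, ring-level case.) -/
theorem result (p : ℕ) [Fact p.Prime]
    {A B : Type u} [CommRing A] [CommRing B] [Algebra A B]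
    [IsAdicComplete (Ideal.span {(p : A)}) A] [IsAdicComplete (Ideal.span {(p : B)}) B]
    (hA : IsSMulRegular A (p : A)) (hB : IsSMulRegular B (p : B))
    (h : Module.Flat (A ⧸ Ideal.span {(p : A)}) ((A ⧸ Ideal.span {(p : A)}) ⊗[A] B))
    (n : ℕ) (hn : 1 ≤ n) :
    Module.Flat (A ⧸ (Ideal.span {(p : A)} ^ n)) ((A ⧸ (Ideal.span {(p : A)} ^ n)) ⊗[A] B) := by
  have hB' : IsSMulRegular B (p : A) := by
    intro x y hxy
    apply hB
    simpa [Algebra.smul_def] using hxy
  exact flat_quotient_pow (Ideal.span {(p : A)}) B
    (span_singleton_rTensor_injective (p : A) B hB') n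

end Groth.Agent.S19610
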