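import Groth.Statements.S19611
import Mathlib
import Groth.Agent.Lib.Helper12.QuotDesc

set_option autoImplicit false
universe u
open CategoryTheory AlgebraicGeometry
open CartMod

namespace Groth.Agent.S19611

open Groth.Agent.Lib.Helper12 in
theorem epi_toImage {X Y : Scheme.{u}} (f : X ⟶ Y) [QuasiCompact f]
    (hq : Topology.IsQuotientMap f.toImage.base) : Epi f.toImage := by
  have hinj : ∀ V : f.image.Opens, Function.Injective (f.toImage.app V) := by
    intro V
    rw [injective_iff_map_eq_zero]
    intro s hs
    refine f.image.IsSheaf.section_ext fun x hx ↦ ?_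
    obtain ⟨_, ⟨_, ⟨U, hU, rfl⟩, rfl⟩, hxU, hUV⟩ :=
      (Y.isBasis_affineOpens.of_isInducing f.imageι.isEmbedding.isInducing).exists_subset_of_mem_open
        hx V.isOpen
    have hUV' : f.imageι ⁻¹ᵁ U ≤ V := hUV
    refine ⟨f.imageι ⁻¹ᵁ U, hUV', hxU, ?_⟩
    apply Scheme.Hom.toImage_app_injective f ⟨U, hU⟩
    rw [map_zero, map_zero]
    have := congrArg (fun k => k.hom s) (f.toImage.naturality (homOfLE hUV').op)
    simp only [CommRingCat.hom_comp, RingHom.coe_comp, Function.comp_apply] at this
    erw [this, hs, map_zero]
  constructor
  intro Z g h hgh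
  exact QuotDesc.Sch.uniq _ hq hinj g h hgh


/-- For a prime p and a scheme Y of characteristic p, write Y♭ for the scheme-theoretic image of the
absolute Frobenius F_Y : Y → Y, i.e. the closed subscheme of Y defined by the sections of O_Y whose
p-th power vanishes, and Y → Y♭ for the canonical morphism through which F_Y factors. Then Y → Y♭ is
an epimorphism of schemes: two morphisms g₁, g₂ from Y♭ to a scheme Z with equal composites Y → Y♭ →
Z are equal. (The published statement is for k-morphisms g₁, g₂ from Y♭ to a k-scheme Z over a
perfect field k of characteristic p, compared after Frobenius twist through Y → (Y♭)'; this row asks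
right-cancellation against morphisms to every scheme Z, which is equivalent to it for k-morphisms.) -/
theorem result (p : ℕ) [Fact p.Prime] (Y : Scheme.{u}) [FrobSch.IsCharP Y p] :
    Epi (FrobSch.frob Y p).toImage := by
  have : QuasiCompact (FrobSch.frob Y p) := ⟨fun U hU hc => hc⟩
  apply epi_toImage
  have hti : ∀ y : Y, (FrobSch.frob Y p).imageι ((FrobSch.frob Y p).toImage y) = y := by
    intro y
    have := congrArg (fun k : Y ⟶ Y => k y) (FrobSch.frob Y p).toImage_imageι
    exact this
  have hit : ∀ y' : (FrobSch.frob Y p).image,
      (FrobSch.frob Y p).toImage ((FrobSch.frob Y p).imageι y') = y' :=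
    fun y' => (FrobSch.frob Y p).imageι.isEmbedding.injective (hti _)
  exact (Homeomorph.mk ⟨(FrobSch.frob Y p).toImage, (FrobSch.frob Y p).imageι, hti, hit⟩
    (FrobSch.frob Y p).toImage.continuous (FrobSch.frob Y p).imageι.continuous).isQuotientMap

end Groth.Agent.S19611
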