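import Groth.Statements.S19612
import Mathlib

set_option autoImplicit false
universe u
open scoped TensorProduct
open CartMod

namespace Groth.Agent.S19612

section helpers

section helpers

lemma mem_pow_smul_top_of_smul_eq_zero {W : Type u} [CommRing W] [IsDomain W] (π : W) (hπ : π ≠ 0)
    (A : Type u) [AddCommGroup A] [Module W A] (n : ℕ)
    (hflat : Module.Flat (W ⧸ (Ideal.span {π} ^ (n + 1)))
      ((W ⧸ (Ideal.span {π} ^ (n + 1))) ⊗[W] A))
    (a : A) (ha : π • a = 0) : a ∈ ((Ideal.span {π}) ^ n • ⊤ : Submodule W A) := by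
  set J : Ideal W := Ideal.span {π} ^ (n + 1) with hJ
  set R' := W ⧸ J
  set M' := R' ⊗[W] A
  let t : M' := (1 : R') ⊗ₜ[W] a
  have ht : (Ideal.Quotient.mk J π) • t = 0 := by
    show (Ideal.Quotient.mk J π) • ((1 : R') ⊗ₜ[W] a) = 0
    rw [TensorProduct.smul_tmul', smul_eq_mul, mul_one]
    have : (Ideal.Quotient.mk J π : R') = π • (1 : R') := by
      rw [Algebra.smul_def, mul_one]; rfl
    rw [this, TensorProduct.smul_tmul, ha, TensorProduct.tmul_zero]
  have hrel : ∑ i : Unit, (fun _ : Unit => Ideal.Quotient.mk J π) i • (fun _ : Unit => t) i = 0 := by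
    simpa using ht
  obtain ⟨κ, c, y, hy, hc⟩ := Module.Flat.isTrivialRelation_of_sum_smul_eq_zero hrel
  have hy' : t = ∑ j, c () j • y j := hy ()
  have hc' : ∀ j, Ideal.Quotient.mk J π * c () j = 0 := by
    intro j; simpa using hc j
  -- lifts of the coefficients lie in `I^n`
  have hw : ∀ j, ∃ w : W, w ∈ Ideal.span {π} ^ n ∧ Ideal.Quotient.mk J w = c () j := by
    intro j
    obtain ⟨w, hw⟩ := Ideal.Quotient.mk_surjective (c () j)
    refine ⟨w, ?_, hw⟩
    have h1 := hc' j
    rw [← hw, ← map_mul, Ideal.Quotient.eq_zero_iff_mem, hJ, Ideal.span_singleton_pow,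
      Ideal.mem_span_singleton] at h1
    obtain ⟨d, hd⟩ := h1
    rw [Ideal.span_singleton_pow, Ideal.mem_span_singleton]
    refine ⟨d, ?_⟩
    apply mul_left_cancel₀ hπ
    rw [hd, pow_succ]; ring
  choose w hwI hwc using hw
  let ψ := TensorProduct.quotTensorEquivQuotSMul A J
  have hψt : ψ t = Submodule.Quotient.mk a := TensorProduct.quotTensorEquivQuotSMul_mk_one_tmul J a
  have hb : ∀ j, ∃ b : A, Submodule.Quotient.mk b = ψ (y j) := fun j =>
    Submodule.Quotient.mk_surjective _ _
  choose b hb using hb
  have hsmul : ∀ j, ψ (c () j • y j) = Submodule.Quotient.mk (w j • b j) := by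
    intro j
    have : c () j • y j = w j • y j := by
      rw [← hwc j]
      show (Ideal.Quotient.mk J (w j)) • y j = w j • y j
      rw [← algebraMap_smul R' (w j) (y j)]
      rfl
    rw [this, map_smul, ← hb j, ← Submodule.Quotient.mk_smul]
  have h2 : (Submodule.Quotient.mk a : A ⧸ (J • ⊤ : Submodule W A)) =
      Submodule.Quotient.mk (∑ j, w j • b j) := by
    rw [← hψt, hy', map_sum]
    have : (Submodule.Quotient.mk (∑ j, w j • b j) : A ⧸ (J • ⊤ : Submodule W A)) =
        ∑ j, Submodule.Quotient.mk (w j • b j) := map_sum (Submodule.mkQ _) _ _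
    rw [this]
    exact Finset.sum_congr rfl fun j _ => hsmul j
  rw [Submodule.Quotient.eq] at h2
  have h3 : (J • ⊤ : Submodule W A) ≤ (Ideal.span {π} ^ n • ⊤ : Submodule W A) :=
    Submodule.smul_mono (Ideal.pow_le_pow_right (Nat.le_succ n)) le_rfl
  have h4 : ∑ j, w j • b j ∈ (Ideal.span {π} ^ n • ⊤ : Submodule W A) :=
    Submodule.sum_mem _ fun j _ => Submodule.smul_mem_smul (hwI j) trivial
  have := Submodule.add_mem _ (h3 h2) h4
  simpa using this

end helpers


end helpers

/-- Let k be a perfect field of characteristic p, W = W(k) the ring of Witt vectors of k, and A a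
commutative W-algebra which is complete and separated for the p-adic topology (an adic W-algebra).
Then flatness of A over W is equivalent to flatness of A/p^nA = (W/p^nW) ⊗_W A over W/p^nW for every
n ≥ 1. -/
theorem result (p : ℕ) [Fact p.Prime] (k : Type u) [Field k]
    [CharP k p] [PerfectRing k p] (A : Type u) [CommRing A] [Algebra (WittVector p k) A]
    [IsAdicComplete (Ideal.span {(p : WittVector p k)}) A] :
    Module.Flat (WittVector p k) A ↔
      ∀ n : ℕ, 1 ≤ n →
        Module.Flat (WittVector p k ⧸ (Ideal.span {(p : WittVector p k)} ^ n))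
          ((WittVector p k ⧸ (Ideal.span {(p : WittVector p k)} ^ n)) ⊗[WittVector p k] A) := by
  constructor
  · intro h n _
    infer_instance
  · intro h
    have hp0 : (p : WittVector p k) ≠ 0 := (WittVector.irreducible p).ne_zero
    have hptf : ∀ a : A, (p : WittVector p k) • a = 0 → a = 0 := by
      intro a ha
      apply IsHausdorff.haus' (I := Ideal.span {(p : WittVector p k)}) a
      intro n
      rw [SModEq.zero]
      exact mem_pow_smul_top_of_smul_eq_zero _ hp0 A n (h (n + 1) (by omega)) a ha
    rw [Module.Flat.flat_iff_torsion_eq_bot_of_isBezout, eq_bot_iff]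
    intro x hx
    rw [Submodule.mem_torsion_iff] at hx
    obtain ⟨⟨r, hr⟩, hrx⟩ := hx
    have hr0 : r ≠ 0 := nonZeroDivisors.ne_zero hr
    obtain ⟨m, b, hb⟩ := WittVector.exists_eq_pow_p_mul' r hr0
    have h1 : ((p : WittVector p k) ^ m) • x = 0 := by
      have : r • x = 0 := hrx
      rw [hb, mul_comm, mul_smul] at this
      have h2 := congrArg (fun z => ((b⁻¹ : (WittVector p k)ˣ) : WittVector p k) • z) this
      simpa [smul_smul] using h2
    have h2 : ∀ m : ℕ, ((p : WittVector p k) ^ m) • x = 0 → x = 0 := by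
      intro m
      induction m with
      | zero => intro h; simpa using h
      | succ m ih =>
        intro h
        rw [pow_succ, mul_comm, mul_smul] at h
        exact ih (hptf _ h)
    rw [Submodule.mem_bot]
    exact h2 m h1

end Groth.Agent.S19612
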