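import Groth.Statements.S19616
import Mathlib
import Groth.Agent.Lib.Helper10.PadicDil1

set_option autoImplicit false
universe u
open CartMod

namespace Groth.Agent.S19616

set_option linter.style.haveILetI false
set_option linter.unusedSectionVars false

open MvPolynomial Groth.Agent.Lib.helper10.PadicDil

variable (p : ℕ) (A : Type u) [CommRing A] {n : ℕ} (a : Fin n → A)

/-- the relations `p x_i - a_i` -/
noncomputable def J₀ : Ideal (MvPolynomial (Fin n) A) :=
  Ideal.span (Set.range fun i => C (p : A) * X i - C (a i))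

/-- the `p`-saturation of `J₀` -/
noncomputable def J : Ideal (MvPolynomial (Fin n) A) where
  carrier := {F | ∃ k : ℕ, C (p : A) ^ k * F ∈ J₀ p A a}
  add_mem' := by
    rintro F G ⟨k, hk⟩ ⟨l, hl⟩
    refine ⟨k + l, ?_⟩
    have : C (p : A) ^ (k + l) * (F + G) =
        C (p : A) ^ l * (C (p : A) ^ k * F) + C (p : A) ^ k * (C (p : A) ^ l * G) := by ring
    rw [this]
    exact Ideal.add_mem _ (Ideal.mul_mem_left _ _ hk) (Ideal.mul_mem_left _ _ hl)
  zero_mem' := ⟨0, by simp⟩
  smul_mem' := by
    rintro c F ⟨k, hk⟩
    refine ⟨k, ?_⟩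
    have : C (p : A) ^ k * (c • F) = c * (C (p : A) ^ k * F) := by rw [smul_eq_mul]; ring
    rw [this]
    exact Ideal.mul_mem_left _ _ hk

lemma mem_J (F : MvPolynomial (Fin n) A) : F ∈ J p A a ↔ ∃ k : ℕ, C (p : A) ^ k * F ∈ J₀ p A a :=
  Iff.rfl

lemma J₀_le_J : J₀ p A a ≤ J p A a := fun F hF => ⟨0, by simpa using hF⟩

/-- the torsion-free quotient -/
abbrev D1 : Type u := MvPolynomial (Fin n) A ⧸ J p A a

lemma natCast_D1 : (p : D1 p A a) = Ideal.Quotient.mk _ (C (p : A)) := by
  rw [map_natCast C, map_natCast]

lemma isSMulRegular_D1 : IsSMulRegular (D1 p A a) (p : D1 p A a) := by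
  intro x y hxy
  rw [← sub_eq_zero]
  have h0 : (p : D1 p A a) * (x - y) = 0 := by
    have : (p : D1 p A a) * x = (p : D1 p A a) * y := hxy
    rw [mul_sub, this, sub_self]
  obtain ⟨F, hF⟩ := Ideal.Quotient.mk_surjective (x - y)
  rw [← hF, natCast_D1, ← map_mul, Ideal.Quotient.eq_zero_iff_mem, mem_J] at h0
  obtain ⟨k, hk⟩ := h0
  rw [← hF, Ideal.Quotient.eq_zero_iff_mem, mem_J]
  refine ⟨k + 1, ?_⟩
  rw [pow_succ, mul_assoc]
  exact hk

lemma mk_C_a (i : Fin n) : (Ideal.Quotient.mk (J p A a) (C (a i))) =
    (p : D1 p A a) * Ideal.Quotient.mk _ (X i) := by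
  rw [natCast_D1, ← map_mul, eq_comm, ← sub_eq_zero, ← map_sub, Ideal.Quotient.eq_zero_iff_mem]
  exact J₀_le_J p A a (Ideal.subset_span ⟨i, rfl⟩)

theorem main (p : ℕ) [Fact p.Prime]
    (A : Type u) [CommRing A] [IsAdicComplete (Ideal.span {(p : A)}) A]
    (_hA : IsSMulRegular A (p : A)) {n : ℕ} (a : Fin n → A) :
    ∃ (D : Type u) (_ : CommRing D) (_ : Algebra A D),
      IsAdicComplete (Ideal.span {(p : D)}) D ∧ IsSMulRegular D (p : D) ∧
      (∀ i, algebraMap A D (a i) ∈ Ideal.span {(p : D)}) ∧
      ∀ (B : Type u) [CommRing B] [Algebra A B] [IsAdicComplete (Ideal.span {(p : B)}) B],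
        IsSMulRegular B (p : B) → (∀ i, algebraMap A B (a i) ∈ Ideal.span {(p : B)}) →
          Nonempty (D →ₐ[A] B) ∧ Subsingleton (D →ₐ[A] B) ∧
            (Function.Surjective (algebraMap A B) → ∀ f : D →ₐ[A] B, Function.Surjective f) := by
  refine ⟨Dhat p (D1 p A a), inferInstance, inferInstance, isAdicComplete_Dhat p _,
    isSMulRegular_Dhat p _ (isSMulRegular_D1 p A a), ?_, ?_⟩
  · intro i
    rw [Ideal.mem_span_singleton']
    refine ⟨algebraMap (D1 p A a) (Dhat p (D1 p A a)) (Ideal.Quotient.mk _ (X i)), ?_⟩
    rw [IsScalarTower.algebraMap_apply A (D1 p A a) (Dhat p (D1 p A a)), mul_comm,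
      ← map_natCast (algebraMap (D1 p A a) (Dhat p (D1 p A a))), ← map_mul]
    congr 1
    exact (mk_C_a p A a i).symm
  · intro B _ _ _ hB hdiv
    have hdiv' : ∀ i, ∃ b : B, algebraMap A B (a i) = (p : B) * b := by
      intro i
      obtain ⟨b, hb⟩ := Ideal.mem_span_singleton'.mp (hdiv i)
      exact ⟨b, by rw [← hb, mul_comm]⟩
    choose b hb using hdiv'
    refine ⟨?_, ?_, ?_⟩
    · -- existence
      have hker : ∀ F ∈ J p A a, (aeval b : MvPolynomial (Fin n) A →ₐ[A] B) F = 0 := by
        intro F hF
        obtain ⟨k, hk⟩ := (mem_J p A a F).mp hF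
        have h0 : J₀ p A a ≤ RingHom.ker (aeval b : MvPolynomial (Fin n) A →ₐ[A] B) := by
          rw [J₀, Ideal.span_le]
          rintro _ ⟨i, rfl⟩
          rw [SetLike.mem_coe, RingHom.mem_ker, map_sub, map_mul, aeval_C, aeval_C, aeval_X,
            map_natCast, hb i, sub_self]
        have h1 := h0 hk
        rw [RingHom.mem_ker, map_mul, map_pow, aeval_C, map_natCast] at h1
        exact (hB.pow k) (by simpa using h1)
      exact ⟨liftHat p (Ideal.Quotient.liftₐ (J p A a) (aeval b) hker)⟩
    · -- uniqueness
      constructor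
      intro g₁ g₂
      apply hat_ext p
      intro d
      have key : g₁.comp (IsScalarTower.toAlgHom A (D1 p A a) (Dhat p (D1 p A a))) =
          g₂.comp (IsScalarTower.toAlgHom A (D1 p A a) (Dhat p (D1 p A a))) := by
        apply Ideal.Quotient.algHom_ext
        apply MvPolynomial.algHom_ext
        intro i
        simp only [AlgHom.comp_apply, Ideal.Quotient.mkₐ_eq_mk, IsScalarTower.coe_toAlgHom']
        apply hB
        simp only [smul_eq_mul]
        have : ∀ g : Dhat p (D1 p A a) →ₐ[A] B,
            (p : B) * g (algebraMap (D1 p A a) (Dhat p (D1 p A a)) (Ideal.Quotient.mk _ (X i))) =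
              algebraMap A B (a i) := by
          intro g
          rw [← map_natCast g, ← map_mul,
            ← map_natCast (algebraMap (D1 p A a) (Dhat p (D1 p A a))), ← map_mul, ← mk_C_a,
            ← g.commutes (a i), IsScalarTower.algebraMap_apply A (D1 p A a) (Dhat p (D1 p A a))]
          rfl
        rw [this g₁, this g₂]
      exact AlgHom.congr_fun key d
    · intro hsurj f x
      obtain ⟨y, rfl⟩ := hsurj x
      exact ⟨algebraMap A _ y, f.commutes y⟩



/-- Let p be a prime, A a commutative ring which is complete and separated for the p-adic topology and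
has no p-torsion, and a_1, …, a_n elements of A (so that (p, a_1, …, a_n) is an open ideal
containing p). Then there is a commutative A-algebra D, complete and separated for the p-adic
topology and without p-torsion, in which each a_i is divisible by p, with the following universal
property: for every A-algebra B which is p-adically complete and separated, has no p-torsion, and in
which each a_i is divisible by p, there is exactly one A-algebra homomorphism D → B; moreover this
homomorphism is surjective whenever A → B is. (D is the coordinate ring of the dilatation of Spf A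
with respect to p along the closed subscheme defined by (p, a_1, …, a_n). The published statement is
for flat p-adic formal schemes locally of finite type over the Witt vectors of a perfect field; this
row is its affine, ring-level case without a finiteness hypothesis.) -/
theorem result (p : ℕ) [Fact p.Prime]
    (A : Type u) [CommRing A] [IsAdicComplete (Ideal.span {(p : A)}) A]
    (hA : IsSMulRegular A (p : A)) {n : ℕ} (a : Fin n → A) :
    ∃ (D : Type u) (_ : CommRing D) (_ : Algebra A D),
      IsAdicComplete (Ideal.span {(p : D)}) D ∧ IsSMulRegular D (p : D) ∧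
      (∀ i, algebraMap A D (a i) ∈ Ideal.span {(p : D)}) ∧
      ∀ (B : Type u) [CommRing B] [Algebra A B] [IsAdicComplete (Ideal.span {(p : B)}) B],
        IsSMulRegular B (p : B) → (∀ i, algebraMap A B (a i) ∈ Ideal.span {(p : B)}) →
          Nonempty (D →ₐ[A] B) ∧ Subsingleton (D →ₐ[A] B) ∧
            (Function.Surjective (algebraMap A B) → ∀ f : D →ₐ[A] B, Function.Surjective f) := by
  exact main p A hA a

end Groth.Agent.S19616
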