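import Groth.Statements.S19618
import Mathlib


set_option autoImplicit false
universe u
open CategoryTheory CategoryTheory.Limits AlgebraicGeometry Opposite TopologicalSpace
open BlowUp

namespace Groth.Agent.S19618

set_option linter.style.haveILetI false

/-- a local ring with a nonzerodivisor in its maximal ideal has dimension at least one -/
theorem one_le_dim_of_nzd {R : Type*} [CommRing R] [IsLocalRing R] (f : R)
    (hf : f ∈ nonZeroDivisors R) (hfm : f ∈ IsLocalRing.maximalIdeal R) :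
    (1 : WithBot ℕ∞) ≤ ringKrullDim R := by
  by_contra hlt
  have h0 : ringKrullDim R ≤ 0 := by
    rw [not_le] at hlt
    cases h : ringKrullDim R with
    | bot => exact bot_le
    | coe d =>
      rw [h] at hlt
      have h1 : (d : WithBot ℕ∞) < ((1 : ℕ∞) : WithBot ℕ∞) := hlt
      rw [WithBot.coe_lt_coe] at h1
      have h2 : d = 0 := Order.lt_one_iff.mp h1
      rw [h2]
      rfl
  haveI : Ring.KrullDimLE 0 R := (Ring.krullDimLE_iff).mpr (by simpa using h0)
  have hnil : IsNilpotent f := Ring.KrullDimLE.isNilpotent_iff_mem_maximalIdeal.mpr hfm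
  obtain ⟨n, hn⟩ := hnil
  have h1 : f ^ n ∈ nonZeroDivisors R := pow_mem hf n
  rw [hn] at h1
  exact zero_notMem_nonZeroDivisors h1

theorem one_le_dim_stalk {X : Scheme.{u}} (𝓘 : X.IdealSheafData) (hY : BlowUp.IsEffCartierIdeal 𝓘)
    (y : X) (hy : y ∈ (𝓘.support : Set X)) :
    (1 : WithBot ℕ∞) ≤ ringKrullDim ↑(X.presheaf.stalk y) := by
  obtain ⟨U, hyU, f, hf, hI⟩ := hY y
  have hz : y ∈ X.zeroLocus (U := U.1) (𝓘.ideal U) :=
    (Scheme.IdealSheafData.mem_support_iff_of_mem hyU).mp hy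
  rw [Scheme.mem_zeroLocus_iff] at hz
  have hfI : f ∈ 𝓘.ideal U := by rw [hI]; exact Ideal.subset_span rfl
  have hnb : y ∉ X.basicOpen f := hz f hfI
  have hnu : ¬ IsUnit (X.presheaf.germ U.1 y hyU f) := by
    intro hu
    exact hnb ((Scheme.mem_basicOpen X f y hyU).mpr hu)
  letI : Algebra Γ(X, U.1) (X.presheaf.stalk y) :=
    TopCat.Presheaf.algebra_section_stalk X.presheaf ⟨y, hyU⟩
  haveI hloc : IsLocalization.AtPrime (X.presheaf.stalk y) (U.2.primeIdealOf ⟨y, hyU⟩).asIdeal :=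
    U.2.isLocalization_stalk ⟨y, hyU⟩
  have hnzd : algebraMap Γ(X, U.1) (X.presheaf.stalk y) f ∈ nonZeroDivisors (X.presheaf.stalk y) :=
    IsLocalization.map_nonZeroDivisors_le (U.2.primeIdealOf ⟨y, hyU⟩).asIdeal.primeCompl
      (X.presheaf.stalk y) (Submonoid.mem_map_of_mem _ hf)
  refine one_le_dim_of_nzd (algebraMap Γ(X, U.1) (X.presheaf.stalk y) f) hnzd ?_
  rw [IsLocalRing.mem_maximalIdeal, mem_nonunits_iff]
  exact hnu

theorem main {X Z : Scheme.{u}}
    [IsLocallyNoetherian X] (𝓘 : X.IdealSheafData) (hY : BlowUp.IsEffCartierIdeal 𝓘)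
    (i : Z ⟶ X) [IsClosedImmersion i] [IsIntegral Z]
    (hprop : ∀ ζ : ↥X, ζ ∈ (𝓘.support : Set ↥X) ∩ Set.range i.base →
        (∀ ζ' : ↥X, ζ' ∈ (𝓘.support : Set ↥X) ∩ Set.range i.base → ζ' ⤳ ζ → ζ' = ζ) →
        ringKrullDim ↑(X.presheaf.stalk ζ) =
          (⨅ y : (𝓘.support : Set ↥X), ringKrullDim ↑(X.presheaf.stalk y.1)) +
            ringKrullDim ↑(X.presheaf.stalk (i (genericPoint ↥Z)))) :
    ¬ Set.range i.base ⊆ (𝓘.support : Set ↥X) := by
  intro hsub
  let ξ : Z := genericPoint Z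
  let ζ : X := i ξ
  have hζr : ζ ∈ Set.range i.base := ⟨ξ, rfl⟩
  have hζs : ζ ∈ (𝓘.support : Set X) := hsub hζr
  have hmax : ∀ ζ' : ↥X, ζ' ∈ (𝓘.support : Set ↥X) ∩ Set.range i.base → ζ' ⤳ ζ → ζ' = ζ := by
    intro ζ' hζ' hspec
    obtain ⟨z', rfl⟩ := hζ'.2
    have h1 : ξ ⤳ z' := (genericPoint_spec Z).specializes (by simp)
    have h2 : ζ ⤳ i z' := h1.map i.continuous
    exact (hspec.antisymm h2).eq
  have h := hprop ζ ⟨hζs, hζr⟩ hmax
  have hc : (1 : WithBot ℕ∞) ≤ ⨅ y : (𝓘.support : Set ↥X), ringKrullDim ↑(X.presheaf.stalk y.1) :=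
    le_iInf (fun y => one_le_dim_stalk 𝓘 hY y.1 y.2)
  have hfin : ringKrullDim ↑(X.presheaf.stalk ζ) < ⊤ := ringKrullDim_lt_top
  have hbot : ringKrullDim ↑(X.presheaf.stalk ζ) ≠ ⊥ := ringKrullDim_ne_bot
  change ringKrullDim ↑(X.presheaf.stalk ζ) = _ + ringKrullDim ↑(X.presheaf.stalk ζ) at h
  -- arithmetic in WithBot ℕ∞
  obtain ⟨d, hd⟩ := WithBot.ne_bot_iff_exists.mp hbot
  rw [← hd] at h hfin
  have hdtop : d ≠ ⊤ := by
    intro h0
    rw [h0] at hfin
    exact lt_irrefl _ hfin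
  have h2 : (1 : WithBot ℕ∞) + (d : WithBot ℕ∞) ≤ (d : WithBot ℕ∞) := by
    calc (1 : WithBot ℕ∞) + (d : WithBot ℕ∞)
        ≤ (⨅ y : (𝓘.support : Set ↥X), ringKrullDim ↑(X.presheaf.stalk y.1)) + (d : WithBot ℕ∞) :=
          add_le_add_left hc _
      _ = d := h.symm
  have h3 : ((1 + d : ℕ∞) : WithBot ℕ∞) ≤ (d : WithBot ℕ∞) := by
    rw [WithBot.coe_add]; exact h2
  rw [WithBot.coe_le_coe] at h3
  lift d to ℕ using hdtop
  have h4 : (1 + d : ℕ) ≤ d := by exact_mod_cast h3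
  omega



/-- Let X be a locally Noetherian scheme, Y an effective Cartier divisor on X (a quasi-coherent ideal
sheaf which, near every point, is generated on some affine open by one nonzerodivisor; Y is its
support) and Z a closed integral subscheme (a closed immersion i from an integral scheme with
generic point ξ). If Y and Z intersect properly — every point ζ of Y ∩ Z which is maximal under
generization inside Y ∩ Z satisfies dim O_{X,ζ} = codim(Y,X) + codim(Z,X), where codim(Y,X) is the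
infimum over y ∈ Y of dim O_{X,y} and codim(Z,X) = dim O_{X,i(ξ)} — then Z is not contained in Y. -/
theorem result {X Z : Scheme.{u}}
    [IsLocallyNoetherian X] (𝓘 : X.IdealSheafData) (hY : BlowUp.IsEffCartierIdeal 𝓘)
    (i : Z ⟶ X) [IsClosedImmersion i] [IsIntegral Z]
    (hprop : ∀ ζ : ↥X, ζ ∈ (𝓘.support : Set ↥X) ∩ Set.range i.base →
        (∀ ζ' : ↥X, ζ' ∈ (𝓘.support : Set ↥X) ∩ Set.range i.base → ζ' ⤳ ζ → ζ' = ζ) →
        ringKrullDim ↑(X.presheaf.stalk ζ) =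
          (⨅ y : (𝓘.support : Set ↥X), ringKrullDim ↑(X.presheaf.stalk y.1)) +
            ringKrullDim ↑(X.presheaf.stalk (i (genericPoint ↥Z)))) :
    ¬ Set.range i.base ⊆ (𝓘.support : Set ↥X) := by
  exact main 𝓘 hY i hprop

end Groth.Agent.S19618
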