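import Groth.Statements.S1962
import Groth.Agent.Lib.Helper12.HenselSqZero
-- import your own Groth.Agent.* helpers here

set_option autoImplicit false
universe u
open EtAlg

namespace Groth.Agent.S1962

open Groth.Agent.Lib.helper12 in
theorem main (R S : Type u) [CommRing R] [IsLocalRing R] [CommRing S]
    [IsLocalRing S] [Algebra R S] [IsLocalHom (algebraMap R S)] [Hensel.IsStrictHenselization R S] :
    Algebra.FormallyEtale R S := by
  rw [Algebra.FormallyEtale.iff_comp_bijective]
  intro B _ _ I hI
  have hS : HenselianLocalRing S := Hensel.IsStrictHenselization.henselian R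
  have key : ∀ φ : S →ₐ[R] B ⧸ I,
      (∃ ψ : S →ₐ[R] B, (Ideal.Quotient.mkₐ R I).comp ψ = φ) ∧
      (∀ ψ₁ ψ₂ : S →ₐ[R] B, (Ideal.Quotient.mkₐ R I).comp ψ₁ = φ →
        (Ideal.Quotient.mkₐ R I).comp ψ₂ = φ → ψ₁ = ψ₂) := by
    intro φ
    have hT : HenselianLocalRing (fibreProd I φ.toRingHom) := fibreProd_henselian I _ hI
    have hπloc : IsLocalHom (fibreProdFst I φ.toRingHom) := fibreProdFst_isLocalHom I _ hI
    have hcompat : ∀ r : R, φ.toRingHom (algebraMap R S r)
        = Ideal.Quotient.mk I (algebraMap R B r) := fun r => φ.commutes r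
    let fT : R →+* fibreProd I φ.toRingHom :=
      fibreProdLift I φ.toRingHom (algebraMap R S) (algebraMap R B) hcompat
    have hfT : IsLocalHom fT := by
      refine ⟨fun r hr => ?_⟩
      have : IsUnit (fibreProdFst I φ.toRingHom (fT r)) := hr.map _
      rw [fibreProdFst_lift] at this
      exact IsLocalHom.map_nonunit r this
    -- the residue field iso
    let κπ : IsLocalRing.ResidueField (fibreProd I φ.toRingHom) →+* IsLocalRing.ResidueField S :=
      IsLocalRing.ResidueField.map (fibreProdFst I φ.toRingHom)
    have hκπ : ∀ t, κπ (IsLocalRing.residue _ t)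
        = IsLocalRing.residue S (fibreProdFst I φ.toRingHom t) := fun t =>
      IsLocalRing.ResidueField.map_residue _ t
    have hbij : Function.Bijective κπ := by
      refine ⟨κπ.injective, fun y => ?_⟩
      obtain ⟨s, rfl⟩ := IsLocalRing.residue_surjective y
      obtain ⟨t, rfl⟩ := fibreProdFst_surjective I φ.toRingHom s
      exact ⟨IsLocalRing.residue _ t, hκπ t⟩
    let e := RingEquiv.ofBijective κπ hbij
    let τ : IsLocalRing.ResidueField S →+* IsLocalRing.ResidueField (fibreProd I φ.toRingHom) :=
      e.symm.toRingHom
    have hτ : ∀ y z, κπ z = y → τ y = z := by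
      intro y z h
      change e.symm y = z
      rw [RingEquiv.symm_apply_eq]
      exact h.symm
    have hτcompat : τ.comp (IsLocalRing.ResidueField.map (algebraMap R S))
        = IsLocalRing.ResidueField.map fT := by
      ext x
      obtain ⟨r, rfl⟩ := IsLocalRing.residue_surjective x
      rw [RingHom.comp_apply, IsLocalRing.ResidueField.map_residue,
        IsLocalRing.ResidueField.map_residue]
      apply hτ
      rw [hκπ]
      rfl
    obtain ⟨g, ⟨hg, hgτ⟩, hguniq⟩ :=
      Hensel.IsStrictHenselization.universal (R := R) (S := S) _ fT τ hτcompat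
    have hid : (fibreProdFst I φ.toRingHom).comp g = RingHom.id S := by
      obtain ⟨g0, -, hg0⟩ := Hensel.IsStrictHenselization.universal (R := R) (S := S) S
        (algebraMap R S) (RingHom.id _) (RingHom.id_comp _)
      have h1 : (fibreProdFst I φ.toRingHom).comp g = g0 := by
        apply hg0
        constructor
        · rw [RingHom.comp_assoc, hg]
          ext r
          rfl
        · intro x
          rw [RingHom.comp_apply, ← hκπ, hgτ]
          change κπ (e.symm _) = _
          exact e.apply_symm_apply _
      have h2 : RingHom.id S = g0 := by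
        apply hg0
        exact ⟨rfl, fun x => rfl⟩
      rw [h1, h2]
    constructor
    · refine ⟨{ toRingHom := (fibreProdSnd I φ.toRingHom).comp g, commutes' := ?_ }, ?_⟩
      · intro r
        have : g (algebraMap R S r) = fT r := RingHom.congr_fun hg r
        change fibreProdSnd I φ.toRingHom (g (algebraMap R S r)) = _
        rw [this]
        rfl
      · ext s
        change Ideal.Quotient.mk I (fibreProdSnd I φ.toRingHom (g s)) = φ s
        rw [← fibreProd_comm]
        have : fibreProdFst I φ.toRingHom (g s) = s := RingHom.congr_fun hid s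
        rw [this]
        rfl
    · intro ψ₁ ψ₂ h₁ h₂
      have hc : ∀ (ψ : S →ₐ[R] B), (Ideal.Quotient.mkₐ R I).comp ψ = φ →
          ∀ s, φ.toRingHom ((RingHom.id S) s) = Ideal.Quotient.mk I (ψ.toRingHom s) := by
        intro ψ hψ s
        rw [← hψ]
        rfl
      have hG : ∀ (ψ : S →ₐ[R] B) (hψ : (Ideal.Quotient.mkₐ R I).comp ψ = φ),
          fibreProdLift I φ.toRingHom (RingHom.id S) ψ.toRingHom (hc ψ hψ) = g := by
        intro ψ hψ
        apply hguniq
        constructor
        · ext r
          · rfl
          · exact ψ.commutes r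
        · intro x
          symm
          apply hτ
          rw [hκπ]
          rfl
      have := (hG ψ₁ h₁).trans (hG ψ₂ h₂).symm
      ext s
      exact congrArg (fun G => fibreProdSnd I φ.toRingHom (G s)) this
  constructor
  · intro ψ₁ ψ₂ h
    exact (key ((Ideal.Quotient.mkₐ R I).comp ψ₂)).2 ψ₁ ψ₂ h rfl
  · intro φ
    exact (key φ).1

/-- A strict henselization S of a local ring R (characterized by its universal property, with R → S a
local homomorphism) is formally étale over R. -/
theorem result (R S : Type u) [CommRing R] [IsLocalRing R] [CommRing S]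
    [IsLocalRing S] [Algebra R S] [IsLocalHom (algebraMap R S)] [Hensel.IsStrictHenselization R S] :
    Algebra.FormallyEtale R S := by
  exact main R S

end Groth.Agent.S1962
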