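import Groth.Statements.S19624
import Mathlib
import Groth.Agent.Lib.Helper10.DetLen1

set_option autoImplicit false
universe u v
open IntTh

namespace Groth.Agent.S19624

set_option linter.style.haveILetI false
set_option linter.unusedSectionVars false

open Groth.Agent.Lib.helper10.DetLen Matrix

/-- the length function as an additive function -/
noncomputable def lenFun (B : Type u) [CommRing B] : AddFun B where
  lam := fun X _ _ => Module.length B X
  zero := fun _ _ _ _ => Module.length_eq_zero
  add := fun _ _ _ _ _ _ _ _ _ f g hf hg hfg => Module.length_eq_add_of_exact f g hf hg hfg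

section DVR

variable {B : Type u} [CommRing B] [IsDomain B] [IsDiscreteValuationRing B]

lemma length_self_eq_top : Module.length B B = ⊤ := by
  rw [← Ring.ord_zero, Ring.ord_eq_addVal, AddValuation.map_zero]

/-- cokernel of a matrix over a DVR has length `v(det)`. -/
theorem length_coker_eq_addVal {r : ℕ} (A : Matrix (Fin r) (Fin r) B) :
    Module.length B ((Fin r → B) ⧸ LinearMap.range A.mulVecLin) =
      IsDiscreteValuationRing.addVal B A.det := by
  by_cases hdet : A.det = 0
  · rw [hdet, AddValuation.map_zero]
    obtain ⟨w, hw0, hw⟩ := (Matrix.exists_vecMul_eq_zero_iff (M := A)).2 hdet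
    -- the functional
    let ℓ : (Fin r → B) →ₗ[B] B :=
      { toFun := fun y => w ⬝ᵥ y
        map_add' := fun y z => dotProduct_add w y z
        map_smul' := fun b y => by simp [dotProduct_smul] }
    have hker : LinearMap.range A.mulVecLin ≤ LinearMap.ker ℓ := by
      rintro _ ⟨v, rfl⟩
      rw [LinearMap.mem_ker]
      show w ⬝ᵥ (A *ᵥ v) = 0
      rw [Matrix.dotProduct_mulVec, hw, zero_dotProduct]
    let ℓ' : ((Fin r → B) ⧸ LinearMap.range A.mulVecLin) →ₗ[B] B :=
      (LinearMap.range A.mulVecLin).liftQ ℓ hker
    obtain ⟨j, hj⟩ : ∃ j, w j ≠ 0 := by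
      by_contra h
      push Not at h
      exact hw0 (funext h)
    have hℓj : ℓ' (Submodule.Quotient.mk (Pi.single j 1)) = w j := by
      show w ⬝ᵥ (Pi.single j 1) = w j
      simp
    -- B embeds into the range of ℓ'
    let ι : B →ₗ[B] LinearMap.range ℓ' :=
      { toFun := fun b => ⟨b * w j, ⟨b • Submodule.Quotient.mk (Pi.single j 1), by
          rw [map_smul, hℓj, smul_eq_mul]⟩⟩
        map_add' := fun a b => by ext; simp [add_mul]
        map_smul' := fun a b => by ext; simp [mul_assoc] }
    have hι : Function.Injective ι := by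
      intro a b hab
      have : a * w j = b * w j := congrArg Subtype.val hab
      exact mul_right_cancel₀ hj this
    have h1 : Module.length B B ≤ Module.length B (LinearMap.range ℓ') :=
      Module.length_le_of_injective ι hι
    have h2 : Module.length B (LinearMap.range ℓ') ≤
        Module.length B ((Fin r → B) ⧸ LinearMap.range A.mulVecLin) :=
      Module.length_le_of_surjective ℓ'.rangeRestrict ℓ'.surjective_rangeRestrict
    rw [length_self_eq_top] at h1
    exact top_le_iff.1 (h1.trans h2)
  · have hdet' : LinearMap.det A.mulVecLin = A.det := by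
      rw [← Matrix.toLin'_apply', LinearMap.det_toLin']
    have hnz : LinearMap.det A.mulVecLin ∈ nonZeroDivisors B := by
      rw [hdet']; exact mem_nonZeroDivisors_of_ne_zero hdet
    have key := (lenFun B).lam_coker_eq (fun a ha => Ring.ord_ne_top ha) A.mulVecLin hnz
    have : Module.length B ((Fin r → B) ⧸ LinearMap.range A.mulVecLin) =
        Module.length B (B ⧸ Ideal.span {LinearMap.det A.mulVecLin}) := key
    rw [this, hdet']
    exact Ring.ord_eq_addVal A.det

end DVR

theorem main {B : Type u} [CommRing B] [IsDomain B]
    [IsDiscreteValuationRing B] (ω : B ≃+* B) {n : ℕ} (r : Fin n → ℕ)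
    (M N : Fin n → Type v) [∀ i, AddCommGroup (M i)] [∀ i, Module B (M i)]
    [∀ i, AddCommGroup (N i)] [∀ i, Module B (N i)]
    (bM : ∀ i, Module.Basis (Fin (r i)) B (M i)) (bN : ∀ i, Module.Basis (Fin (r i)) B (N i))
    (χ : ∀ i, M i →+ N i) (hχ : ∀ i (b : B) (x : M i), χ i (b • x) = ω b • χ i x) :
    Module.length B ((∀ i, N i) ⧸ Submodule.span B (Set.range (fun (x : ∀ i, M i) (i : Fin n) => χ i (x i)))) =
      IsDiscreteValuationRing.addVal B (∏ i, Matrix.det
        (Matrix.of fun (a c : Fin (r i)) => (bN i).repr (χ i (bM i c)) a)) := by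
  classical
  -- the matrices
  set A : ∀ i, Matrix (Fin (r i)) (Fin (r i)) B :=
    fun i => Matrix.of fun (a c : Fin (r i)) => (bN i).repr (χ i (bM i c)) a with hA
  -- the per-index submodules
  let Λ : ∀ i, (Fin (r i) → B) →ₗ[B] N i := fun i =>
    Fintype.linearCombination B (fun c => χ i (bM i c))
  have hΛ : ∀ i v, Λ i v = ∑ c, v c • χ i (bM i c) := fun i v =>
    Fintype.linearCombination_apply B _ v
  let R : ∀ i, Submodule B (N i) := fun i => LinearMap.range (Λ i)
  -- χ i x ∈ R i
  have hχR : ∀ i (x : M i), χ i x ∈ R i := by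
    intro i x
    refine ⟨fun c => ω ((bM i).repr x c), ?_⟩
    rw [hΛ]
    conv_rhs => rw [← (bM i).sum_repr x]
    rw [map_sum]
    exact Finset.sum_congr rfl fun c _ => (hχ i _ _).symm
  -- generators of R i are values of χ i
  have hRχ : ∀ i (y : N i), y ∈ R i → ∃ x : M i, χ i x = y := by
    rintro i _ ⟨v, rfl⟩
    refine ⟨∑ c, ω.symm (v c) • bM i c, ?_⟩
    rw [hΛ, map_sum]
    refine Finset.sum_congr rfl fun c _ => ?_
    rw [hχ, RingEquiv.apply_symm_apply]
  -- the span equals the product submodule
  have hspan : Submodule.span B (Set.range (fun (x : ∀ i, M i) (i : Fin n) => χ i (x i))) =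
      Submodule.pi Set.univ R := by
    apply le_antisymm
    · rw [Submodule.span_le]
      rintro _ ⟨x, rfl⟩
      rw [SetLike.mem_coe, Submodule.mem_pi]
      intro i _
      exact hχR i (x i)
    · intro y hy
      rw [Submodule.mem_pi] at hy
      choose x hx using fun i => hRχ i (y i) (hy i (Set.mem_univ i))
      exact Submodule.subset_span ⟨x, funext hx⟩
  rw [hspan, (Submodule.quotientPi R).length_eq, Module.length_pi_of_fintype]
  -- each factor
  have hfac : ∀ i, Module.length B (N i ⧸ R i) =
      IsDiscreteValuationRing.addVal B (A i).det := by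
    intro i
    rw [← length_coker_eq_addVal (A i)]
    have hmap : (R i).map ((bN i).equivFun : N i →ₗ[B] (Fin (r i) → B)) =
        LinearMap.range (A i).mulVecLin := by
      have hcomp : ((bN i).equivFun : N i →ₗ[B] (Fin (r i) → B)) ∘ₗ Λ i = (A i).mulVecLin := by
        refine LinearMap.ext fun v => ?_
        ext a
        rw [LinearMap.comp_apply, hΛ, map_sum]
        simp only [LinearEquiv.coe_coe, map_smul, Module.Basis.equivFun_apply, Finset.sum_apply,
          Pi.smul_apply, smul_eq_mul, Matrix.mulVecLin_apply, Matrix.mulVec, dotProduct]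
        refine Finset.sum_congr rfl fun c _ => ?_
        rw [mul_comm]
        rfl
      rw [← hcomp, LinearMap.range_comp]
    exact (Submodule.Quotient.equiv (R i) _ (bN i).equivFun hmap).length_eq
  simp_rw [hfac]
  -- additivity of the valuation over the product
  have hprod : ∀ s : Finset (Fin n), ∑ i ∈ s, IsDiscreteValuationRing.addVal B (A i).det =
      IsDiscreteValuationRing.addVal B (∏ i ∈ s, (A i).det) := by
    intro s
    induction s using Finset.induction_on with
    | empty => simp
    | insert a s ha ih =>
      rw [Finset.sum_insert ha, Finset.prod_insert ha, AddValuation.map_mul, ih]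
  exact hprod Finset.univ



/-- Let B be a discrete valuation ring with its normalised additive valuation v (so v(0) = ∞) and ω a
ring automorphism of B. For each i in a finite index set let M_i and N_i be free B-modules with
chosen bases indexed by one and the same finite type, and χ_i : M_i → N_i an additive map which is
ω-semilinear, χ_i(b·x) = ω(b)·χ_i(x); write A_i for the matrix of χ_i in the chosen bases. Then the
length over B of the cokernel of the direct sum χ = ⊕_i χ_i : ⊕_i M_i → ⊕_i N_i (the quotient of ⊕_i
N_i by the submodule generated by the image of χ) equals v(∏_i det A_i); in particular both sides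
are infinite exactly when some det A_i is zero. -/
theorem result {B : Type u} [CommRing B] [IsDomain B]
    [IsDiscreteValuationRing B] (ω : B ≃+* B) {n : ℕ} (r : Fin n → ℕ)
    (M N : Fin n → Type v) [∀ i, AddCommGroup (M i)] [∀ i, Module B (M i)]
    [∀ i, AddCommGroup (N i)] [∀ i, Module B (N i)]
    (bM : ∀ i, Module.Basis (Fin (r i)) B (M i)) (bN : ∀ i, Module.Basis (Fin (r i)) B (N i))
    (χ : ∀ i, M i →+ N i) (hχ : ∀ i (b : B) (x : M i), χ i (b • x) = ω b • χ i x) :
    Module.length B ((∀ i, N i) ⧸ Submodule.span B (Set.range (fun (x : ∀ i, M i) (i : Fin n) => χ i (x i)))) =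
      IsDiscreteValuationRing.addVal B (∏ i, Matrix.det
        (Matrix.of fun (a c : Fin (r i)) => (bN i).repr (χ i (bM i c)) a)) := by
  exact main ω r M N bM bN χ hχ

end Groth.Agent.S19624
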