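import Groth.Statements.S19626
import Groth.Agent.S14452

set_option autoImplicit false
universe u
open CategoryTheory CategoryTheory.Limits AlgebraicGeometry Opposite
open EtCore

namespace Groth.Agent.S19626

open Groth.Agent.S14452

variable {X Y : Scheme.{u}}

/-- flasque in the etale-cohomological sense -/
def Flasque (F : EtCoh.Ab X) : Prop :=
  ∀ (W : X.Etale) (q : ℕ), 0 < q →
    Subsingleton (EtCoh.H W.left ((EtCoh.pull W.hom).obj F) q)

open Groth.Agent.H1.SuppSect Groth.Agent.Lib.Helper18.JCont Groth.Agent.H1.EtGerm in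
theorem injective_pull_of_etale {X' : Scheme.{u}} (w : X' ⟶ X) [AlgebraicGeometry.Etale w]
    (I : EtCoh.Ab X) [Injective I] : Injective ((EtCoh.pull w).obj I) := by
  have h1 := Groth.Agent.S14454.injective_restrAlong w I
  exact Injective.of_iso ((Groth.Agent.S14454.pullIsoRestr' w).symm.app I) h1

theorem flasque_of_injective (I : EtCoh.Ab X) [Injective I] : Flasque I := by
  intro W q hq
  obtain ⟨w, hw⟩ : ∃ w : W.left ⟶ X, w = W.hom := ⟨_, rfl⟩
  have hwe : AlgebraicGeometry.Etale w := hw ▸ W.prop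
  have := injective_pull_of_etale w I
  obtain ⟨n, rfl⟩ : ∃ n, q = n + 1 := ⟨q - 1, by omega⟩
  have h' : Subsingleton (EtCoh.H W.left ((EtCoh.pull w).obj I) (n + 1)) := inferInstance
  exact hw ▸ h'

theorem shortExact_pull {X' : Scheme.{u}} (w : X' ⟶ X) (S : ShortComplex (EtCoh.Ab X))
    (hS : S.ShortExact) : (S.map (EtCoh.pull w)).ShortExact := by
  have hlim : PreservesFiniteLimits (EtCoh.pull w) := Groth.Agent.S0101.result w
  have hcolim : PreservesFiniteColimits (EtCoh.pull w) := by
    have : PreservesColimitsOfSize.{0, 0} (EtCoh.pull w) :=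
      (EtCoh.pullPushAdj w).leftAdjoint_preservesColimits
    infer_instance
  have hadd : (EtCoh.pull w).Additive := (EtCoh.pullPushAdj w).left_adjoint_additive
  exact hS.map_of_exact (EtCoh.pull w)

/-- vanishing of the third term in the long exact sequence -/
theorem subsingleton_X₃ {Y' : Scheme.{u}} (S : ShortComplex (EtCoh.Ab Y')) (hS : S.ShortExact) (q : ℕ)
    (h2 : Subsingleton (EtCoh.H Y' S.X₂ q)) (h1 : Subsingleton (EtCoh.H Y' S.X₁ (q + 1))) :
    Subsingleton (EtCoh.H Y' S.X₃ q) := by
  refine subsingleton_of_forall_eq 0 (fun x₃ => ?_)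
  obtain ⟨x₂, hx₂⟩ := Abelian.Ext.covariant_sequence_exact₃ _ hS x₃ rfl (Subsingleton.elim _ _)
  rw [← hx₂, Subsingleton.elim x₂ 0, Abelian.Ext.zero_comp]

/-- vanishing of the first term in the long exact sequence -/
theorem subsingleton_X₁ {Y' : Scheme.{u}} (S : ShortComplex (EtCoh.Ab Y')) (hS : S.ShortExact) (q : ℕ)
    (h2 : Subsingleton (EtCoh.H Y' S.X₂ (q + 1))) (h3 : Subsingleton (EtCoh.H Y' S.X₃ q)) :
    Subsingleton (EtCoh.H Y' S.X₁ (q + 1)) := by
  refine subsingleton_of_forall_eq 0 (fun x₁ => ?_)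
  obtain ⟨x₃, hx₃⟩ := Abelian.Ext.covariant_sequence_exact₁ _ hS x₁ (Subsingleton.elim _ _) rfl
  rw [← hx₃, Subsingleton.elim x₃ 0, Abelian.Ext.zero_comp]

theorem flasque_X₃ (S : ShortComplex (EtCoh.Ab X)) (hS : S.ShortExact) (h1 : Flasque S.X₁)
    (h2 : Flasque S.X₂) : Flasque S.X₃ := by
  intro W q hq
  exact subsingleton_X₃ (S.map (EtCoh.pull W.hom)) (shortExact_pull W.hom S hS) q (h2 W q hq)
    (h1 W (q + 1) (Nat.succ_pos q))

theorem epi_of_surjective_app {A B : EtCoh.Ab Y} (φ : A ⟶ B)
    (h : ∀ V : Y.Etaleᵒᵖ, Function.Surjective (φ.hom.app V)) : Epi φ := by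
  have : Sheaf.IsLocallySurjective φ :=
    Presheaf.isLocallySurjective_of_surjective Y.smallEtaleTopology φ.hom h
  infer_instance

theorem shortExact_push (f : X ⟶ Y) (S : ShortComplex (EtCoh.Ab X)) (hS : S.ShortExact)
    (h1 : Flasque S.X₁) : (S.map (EtCoh.push f)).ShortExact := by
  have hadd : (EtCoh.push f).Additive := (EtCoh.pullPushAdj f).right_adjoint_additive
  have hp : PreservesFiniteLimits (EtCoh.push f) := by
    have : PreservesLimitsOfSize.{0, 0} (EtCoh.push f) :=
      (EtCoh.pullPushAdj f).rightAdjoint_preservesLimits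
    infer_instance
  have hm : Mono S.f := hS.mono_f
  have h0 : PreservesFiniteLimits (EtCoh.push f) ↔ ∀ (S : ShortComplex (EtCoh.Ab X)),
      S.Exact ∧ Mono S.f → (S.map (EtCoh.push f)).Exact ∧ Mono ((EtCoh.push f).map S.f) :=
    (Functor.preservesFiniteLimits_tfae (EtCoh.push f)).out 3 1
  have h := h0.mp hp S ⟨hS.exact, hm⟩
  have hepi : Epi ((EtCoh.push f).map S.g) := by
    apply epi_of_surjective_app
    intro V
    exact surjective_app_of_H1 S hS ((EtCoh.bc f).obj V.unop) (h1 _ 1 Nat.one_pos)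
  exact ShortComplex.ShortExact.mk' h.1 h.2 hepi

open Groth.Agent.H1.SuppSect Groth.Agent.Lib.Helper18.JCont Groth.Agent.H1.EtGerm in
/-- surjectivity on sections over `W` gives surjectivity on global sections of the pullback to `W` -/
theorem surjective_pull_top_of_surjective_app {A B : EtCoh.Ab Y} (φ : A ⟶ B) (W : Y.Etale)
    (h : Function.Surjective (φ.hom.app (op W))) :
    Function.Surjective (((EtCoh.pull W.hom).map φ).hom.app (op (EtCoh.top W.left))) := by
  obtain ⟨w, hw⟩ : ∃ w : W.left ⟶ Y, w = W.hom := ⟨_, rfl⟩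
  have hwe : AlgebraicGeometry.Etale w := hw ▸ W.prop
  suffices h' : Function.Surjective (((EtCoh.pull w).map φ).hom.app (op (EtCoh.top W.left))) from
    hw ▸ h'
  obtain ⟨θ, hθ⟩ : ∃ θ : EtCoh.pull w ≅ EtShriek.restrAlong w,
      θ = Groth.Agent.S14454.pullIsoRestr' w := ⟨_, rfl⟩
  have eW : (EtShriek.compEtale w).obj (EtCoh.top W.left) ≅ W :=
    MorphismProperty.Over.isoMk (Iso.refl _) (by
      change 𝟙 W.left ≫ W.hom = 𝟙 W.left ≫ w
      rw [hw])
  obtain ⟨aB, haB⟩ : ∃ aB : ((EtCoh.pull w).obj B).obj.obj (op (EtCoh.top W.left)) ⟶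
      B.obj.obj (op ((EtShriek.compEtale w).obj (EtCoh.top W.left))),
      aB = (θ.hom.app B).hom.app (op (EtCoh.top W.left)) := ⟨_, rfl⟩
  obtain ⟨bB, hbB⟩ : ∃ bB : B.obj.obj (op ((EtShriek.compEtale w).obj (EtCoh.top W.left))) ⟶
      ((EtCoh.pull w).obj B).obj.obj (op (EtCoh.top W.left)),
      bB = (θ.inv.app B).hom.app (op (EtCoh.top W.left)) := ⟨_, rfl⟩
  obtain ⟨bA, hbA⟩ : ∃ bA : A.obj.obj (op ((EtShriek.compEtale w).obj (EtCoh.top W.left))) ⟶
      ((EtCoh.pull w).obj A).obj.obj (op (EtCoh.top W.left)),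
      bA = (θ.inv.app A).hom.app (op (EtCoh.top W.left)) := ⟨_, rfl⟩
  have hab : aB ≫ bB = 𝟙 _ := by
    subst haB hbB
    exact congrArg (fun ψ => ψ.hom.app (op (EtCoh.top W.left))) (θ.hom_inv_id_app B)
  have hnat : bA ≫ ((EtCoh.pull w).map φ).hom.app (op (EtCoh.top W.left)) =
      φ.hom.app (op ((EtShriek.compEtale w).obj (EtCoh.top W.left))) ≫ bB := by
    subst hbA hbB
    exact (congrArg (fun ψ => ψ.hom.app (op (EtCoh.top W.left))) (θ.inv.naturality φ)).symm
  intro c''
  obtain ⟨b, hb⟩ := h (B.obj.map eW.inv.op (aB c''))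
  refine ⟨bA (A.obj.map eW.hom.op b), ?_⟩
  have n3 := ConcreteCategory.congr_hom hnat (A.obj.map eW.hom.op b)
  rw [ConcreteCategory.comp_apply, ConcreteCategory.comp_apply] at n3
  refine n3.trans ?_
  have n2 := ConcreteCategory.congr_hom (φ.hom.naturality eW.hom.op) b
  rw [ConcreteCategory.comp_apply, ConcreteCategory.comp_apply] at n2
  rw [n2, hb, Groth.Agent.S0728.map_map, Iso.hom_inv_id]
  have n4 : B.obj.map (𝟙 ((EtShriek.compEtale w).obj (EtCoh.top W.left))).op (aB c'') = aB c'' := by
    change B.obj.map (𝟙 (op ((EtShriek.compEtale w).obj (EtCoh.top W.left)))) (aB c'') = aB c''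
    rw [CategoryTheory.Functor.map_id]
    rfl
  rw [n4]
  have n5 := ConcreteCategory.congr_hom hab c''
  rw [ConcreteCategory.comp_apply] at n5
  exact n5

open Abelian.Ext in
/-- `H¹` of the first term vanishes when global sections are right exact and `H¹` of the middle
term vanishes -/
theorem subsingleton_X₁_one {Y' : Scheme.{u}} (S : ShortComplex (EtCoh.Ab Y')) (hS : S.ShortExact)
    (h2 : Subsingleton (EtCoh.H Y' S.X₂ 1))
    (hsurj : Function.Surjective (S.g.hom.app (op (EtCoh.top Y')))) :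
    Subsingleton (EtCoh.H Y' S.X₁ 1) := by
  refine subsingleton_of_forall_eq 0 (fun x₁ => ?_)
  obtain ⟨x₃, hx₃⟩ := Abelian.Ext.covariant_sequence_exact₁ _ hS x₁ (Subsingleton.elim _ _)
    (zero_add 1)
  have hT := EtCore.topIsTerminal Y'
  obtain ⟨b, hb⟩ := hsurj (Sheaf.H.equiv₀ S.X₃ hT x₃)
  have e : Sheaf.H.map S.g 0 ((Sheaf.H.equiv₀ S.X₂ hT).symm b) = x₃ := by
    rw [Sheaf.H.equiv₀_symm_naturality, hb, AddEquiv.symm_apply_apply]
  have e' : ((Sheaf.H.equiv₀ S.X₂ hT).symm b).comp (Abelian.Ext.mk₀ S.g) (add_zero 0) = x₃ := e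
  rw [← hx₃, ← e']
  simp only [comp_assoc_of_second_deg_zero, ShortComplex.ShortExact.comp_extClass,
    Abelian.Ext.comp_zero]

theorem injective_push (f : X ⟶ Y) (I : EtCoh.Ab X) [Injective I] :
    Injective ((EtCoh.push f).obj I) := by
  have : PreservesFiniteLimits (EtCoh.pull f) := Groth.Agent.S0101.result f
  exact Injective.injective_of_adjoint (EtCoh.pullPushAdj f) I

theorem main (f : X ⟶ Y) : ∀ q : ℕ, 0 < q → ∀ F : EtCoh.Ab X, Flasque F → ∀ W' : Y.Etale,
    Subsingleton (EtCoh.H W'.left ((EtCoh.pull W'.hom).obj ((EtCoh.push f).obj F)) q) := by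
  have key : ∀ n : ℕ, ∀ F : EtCoh.Ab X, Flasque F → ∀ W' : Y.Etale,
      Subsingleton (EtCoh.H W'.left ((EtCoh.pull W'.hom).obj ((EtCoh.push f).obj F)) (n + 1)) := by
    intro n
    induction n with
    | zero =>
      intro F hF W'
      -- the injective hull sequence
      have hι : Mono (Injective.ι F) := inferInstance
      have hS : (ShortComplex.mk (Injective.ι F) (cokernel.π (Injective.ι F))
          (cokernel.condition (Injective.ι F))).ShortExact :=
        ShortComplex.ShortExact.mk' (ShortComplex.exact_cokernel (Injective.ι F)) hι inferInstance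
      have hS2 := shortExact_push f _ hS hF
      have hS3 := shortExact_pull W'.hom _ hS2
      have hI1 := injective_push f (Injective.under F)
      have hI2 := flasque_of_injective ((EtCoh.push f).obj (Injective.under F)) W' 1 Nat.one_pos
      have hs1 : Function.Surjective
          (((EtCoh.push f).map (cokernel.π (Injective.ι F))).hom.app (op W')) :=
        surjective_app_of_H1 _ hS ((EtCoh.bc f).obj W') (hF _ 1 Nat.one_pos)
      have hs2 := surjective_pull_top_of_surjective_app _ W' hs1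
      exact subsingleton_X₁_one _ hS3 hI2 hs2
    | succ n ih =>
      intro F hF W'
      have hι : Mono (Injective.ι F) := inferInstance
      have hS : (ShortComplex.mk (Injective.ι F) (cokernel.π (Injective.ι F))
          (cokernel.condition (Injective.ι F))).ShortExact :=
        ShortComplex.ShortExact.mk' (ShortComplex.exact_cokernel (Injective.ι F)) hι inferInstance
      have hS2 := shortExact_push f _ hS hF
      have hS3 := shortExact_pull W'.hom _ hS2
      have hI1 := injective_push f (Injective.under F)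
      have hI2 := flasque_of_injective ((EtCoh.push f).obj (Injective.under F)) W' (n + 1 + 1)
        (Nat.succ_pos _)
      have hQ : Flasque (cokernel (Injective.ι F)) :=
        flasque_X₃ _ hS hF (flasque_of_injective (Injective.under F))
      have h3 := ih (cokernel (Injective.ι F)) hQ W'
      exact subsingleton_X₁ _ hS3 (n + 1) hI2 h3
  intro q hq F hF W'
  obtain ⟨n, rfl⟩ : ∃ n, q = n + 1 := ⟨q - 1, by omega⟩
  exact key n F hF W'

/-- Let f : X → Y be a morphism of schemes and F an abelian sheaf on the small étale site of X which is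
flasque in the sense of étale cohomology: H^q(W, F|_W) = 0 for every étale X-scheme W and every q >
0, where F|_W is the pullback of F along the structure morphism of W. Then the direct image f_*F is
flasque on Y in the same sense: H^q(W', (f_*F)|_{W'}) = 0 for every étale Y-scheme W' and every q >
0. -/
theorem result {X Y : Scheme.{u}} (f : X ⟶ Y)
    (F : EtCoh.Ab X)
    (hF : ∀ (W : X.Etale) (q : ℕ), 0 < q → Subsingleton (EtCoh.H W.left ((EtCoh.pull W.hom).obj F) q))
    (W' : Y.Etale) (q : ℕ) (hq : 0 < q) :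
    Subsingleton (EtCoh.H W'.left ((EtCoh.pull W'.hom).obj ((EtCoh.push f).obj F)) q) := by
  exact main f q hq F hF W'

end Groth.Agent.S19626
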