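import Groth.Statements.S19628
import Groth.Agent.Lib.Helper22.DeRhamGen
import Groth.Agent.S15295

set_option autoImplicit false
universe u
open DeRham

namespace Groth.Agent.S19628

open exteriorPower in
/-- In the affine case, at ring level, let k ⊆ K be an extension of fields of characteristic zero, A a
smooth k-algebra and A' = K ⊗_k A (a pushout square of commutative rings with the scalar-tower
conventions). Let d be the de Rham differential of A over k, d' that of A' over K, and ψ the map of
de Rham complexes induced by A → A', assumed compatible with d and d'. Then for every p the K-span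
of ψ(closed p-forms of A/k) is the module of closed p-forms of A'/K, and the K-span of ψ(exact
p-forms of A/k) is the module of exact p-forms of A'/K. Together with the degreewise base-change
bijection for exterior powers of differentials, this says that the natural map H^p_dR(A/k) ⊗_k K →
H^p_dR(A'/K) is an isomorphism. (The source states the isomorphism H^i_dR(X) ⊗_k K ≅ H^i_dR(X_K) for
a smooth variety X, induced by a quasi-isomorphism of complexes; this row is the case of an affine
X, phrased through closed and exact forms.) -/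
theorem result
    (k K : Type u) [Field k] [Field K] [CharZero k] [Algebra k K]
    (A A' : Type u) [CommRing A] [CommRing A'] [Algebra k A] [Algebra.Smooth k A]
    [Algebra A A'] [Algebra k A'] [IsScalarTower k A A'] [Algebra K A'] [IsScalarTower k K A']
    [Algebra.IsPushout k K A A']
    (d : ∀ p : ℕ, ↥(⋀[A]^p (Ω[A⁄k])) →ₗ[k] ↥(⋀[A]^(p + 1) (Ω[A⁄k])))
    (hd : DeRham.IsDiff (KaehlerDifferential.D k A) d)
    (d' : ∀ p : ℕ, ↥(⋀[A']^p (Ω[A'⁄K])) →ₗ[K] ↥(⋀[A']^(p + 1) (Ω[A'⁄K])))
    (hd' : DeRham.IsDiff (KaehlerDifferential.D K A') d')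
    (ψ : ∀ p : ℕ, ↥(⋀[A]^p (Ω[A⁄k])) →+ ↥(⋀[A']^p (Ω[A'⁄K])))
    (hψ : DeRham.IsCxMap (KaehlerDifferential.D k A) (KaehlerDifferential.D K A') (algebraMap A A') ψ)
    (hcomm : ∀ (p : ℕ) (x : ↥(⋀[A]^p (Ω[A⁄k]))), ψ (p + 1) (d p x) = d' p (ψ p x))
    (p : ℕ) :
    Submodule.span K (ψ p '' (DeRham.cocycles d p : Set ↥(⋀[A]^p (Ω[A⁄k])))) = DeRham.cocycles d' p ∧
      Submodule.span K (ψ p '' (DeRham.coboundaries d p : Set ↥(⋀[A]^p (Ω[A⁄k])))) =
        DeRham.coboundaries d' p := by
  classical
  -- ψ is k-linear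
  have hψlin : ∀ (q : ℕ) (c : k) (x : ↥(⋀[A]^q (Ω[A⁄k]))), ψ q (c • x) = c • ψ q x := by
    intro q c x
    induction x using Groth.Agent.Lib.helper22.DeRhamGen.kaehler_gen_induction with
    | zero => simp
    | add x y hx hy => rw [smul_add, map_add, map_add, hx, hy, smul_add]
    | gen b₀ b =>
      have h1 : c • DeRham.gen (KaehlerDifferential.D k A) q b₀ b =
          DeRham.gen (KaehlerDifferential.D k A) q (c • b₀) b := by
        rw [DeRham.gen, DeRham.gen, smul_assoc]
      rw [h1, hψ q, hψ q, DeRham.gen, DeRham.gen, Algebra.smul_def c b₀, map_mul,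
        ← IsScalarTower.algebraMap_apply k A A', mul_smul, algebraMap_smul]
  let ψL : ∀ q : ℕ, ↥(⋀[A]^q (Ω[A⁄k])) →ₗ[k] ↥(⋀[A']^q (Ω[A'⁄K])) := fun q =>
    { toFun := ψ q, map_add' := (ψ q).map_add, map_smul' := hψlin q }
  let Φ : ∀ q : ℕ, TensorProduct k K ↥(⋀[A]^q (Ω[A⁄k])) →ₗ[K] ↥(⋀[A']^q (Ω[A'⁄K])) := fun q =>
    LinearMap.liftBaseChange K (ψL q)
  have hΦ : ∀ (q : ℕ) (s : K) (x : ↥(⋀[A]^q (Ω[A⁄k]))),
      Φ q (TensorProduct.tmul k s x) = s • ψ q x := fun q s x =>
    LinearMap.liftBaseChange_tmul _ _ _ _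
  have hbij : ∀ q, Function.Bijective (Φ q) := fun q =>
    Groth.Agent.S15295.result k K A A' ψ hψ q (Φ q).toAddMonoidHom (hΦ q)
  -- compatibility with the differentials
  have hcommΦ : ∀ (q : ℕ) (t : TensorProduct k K ↥(⋀[A]^q (Ω[A⁄k]))),
      Φ (q + 1) ((d q).lTensor K t) = d' q (Φ q t) := by
    intro q t
    induction t with
    | zero => simp
    | add x y hx hy => rw [map_add, map_add, map_add, map_add, hx, hy]
    | tmul s x => rw [LinearMap.lTensor_tmul, hΦ, hΦ, hcomm, map_smul]
  constructor
  · apply le_antisymm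
    · rw [Submodule.span_le]
      rintro _ ⟨z, hz, rfl⟩
      have hz' : d p z = 0 := hz
      change d' p (ψ p z) = 0
      rw [← hcomm, hz', map_zero]
    · have claim : ∀ t' : TensorProduct k K ↥(LinearMap.ker (d p)),
          Φ p ((LinearMap.ker (d p)).subtype.lTensor K t') ∈
            Submodule.span K (ψ p '' (DeRham.cocycles d p : Set ↥(⋀[A]^p (Ω[A⁄k])))) := by
        intro t'
        induction t' with
        | zero => simp
        | add x y hx hy =>
          rw [map_add, map_add]
          exact Submodule.add_mem _ hx hy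
        | tmul s z =>
          rw [LinearMap.lTensor_tmul, hΦ]
          exact Submodule.smul_mem _ _ (Submodule.subset_span ⟨z.1, z.2, rfl⟩)
      intro y hy
      have hy' : d' p y = 0 := hy
      obtain ⟨t, rfl⟩ := (hbij p).2 y
      have ht : (d p).lTensor K t = 0 := by
        apply (hbij (p + 1)).1
        rw [hcommΦ, hy', map_zero]
      have hex' := Module.Flat.lTensor_exact (R := k) K (N := ↥(LinearMap.ker (d p)))
        (N' := ↥(⋀[A]^p (Ω[A⁄k]))) (N'' := ↥(⋀[A]^(p + 1) (Ω[A⁄k])))
        (f := (LinearMap.ker (d p)).subtype) (g := d p) (LinearMap.exact_subtype_ker_map (d p))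
      obtain ⟨t', rfl⟩ := (hex' t).1 ht
      exact claim t'
  · cases p with
    | zero =>
      simp only [DeRham.coboundaries]
      rw [Submodule.span_eq_bot]
      rintro _ ⟨z, hz, rfl⟩
      have : z = 0 := hz
      rw [this, map_zero]
    | succ q =>
      simp only [DeRham.coboundaries]
      apply le_antisymm
      · rw [Submodule.span_le]
        rintro _ ⟨z, ⟨x, rfl⟩, rfl⟩
        exact ⟨ψ q x, (hcomm q x).symm⟩
      · rintro _ ⟨y', rfl⟩
        obtain ⟨t, rfl⟩ := (hbij q).2 y'
        induction t with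
        | zero => simp
        | add x y hx hy =>
          rw [map_add, map_add]
          exact Submodule.add_mem _ hx hy
        | tmul s x =>
          rw [hΦ, map_smul, ← hcomm]
          exact Submodule.smul_mem _ _ (Submodule.subset_span ⟨d q x, ⟨x, rfl⟩, rfl⟩)

end Groth.Agent.S19628
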