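import Groth.Statements.S19630
import Groth.Agent.Lib.Helper22.DeRhamGen

set_option autoImplicit false
universe u
open DeRham

namespace Groth.Agent.S19630

open exteriorPower in
/-- In the affine case, at ring level, let k ⊆ K be a finite extension of fields of characteristic zero
and B a smooth K-algebra, so that Y = Spec B is a smooth affine variety over K which may also be
regarded over k. Let ψ be the map of de Rham complexes from Ω•_{B/k} to Ω•_{B/K} induced by the
identity of B. Then ψ is bijective in every degree: the de Rham complex of Y over k and over K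
coincide, and hence the natural map H^i_dR(Y/k) → H^i_dR(Y/K) is an isomorphism. (The source states
the isomorphism on de Rham cohomology for any smooth variety Y over K, through the equality of the
two de Rham complexes; this row is that equality for affine Y.) -/
theorem result
    (k K : Type u) [Field k] [Field K] [CharZero k] [Algebra k K] [Module.Finite k K]
    (B : Type u) [CommRing B] [Algebra K B] [Algebra k B] [IsScalarTower k K B] [Algebra.Smooth K B]
    (ψ : ∀ p : ℕ, ↥(⋀[B]^p (Ω[B⁄k])) →+ ↥(⋀[B]^p (Ω[B⁄K])))
    (hψ : DeRham.IsCxMap (KaehlerDifferential.D k B) (KaehlerDifferential.D K B) (RingHom.id B) ψ)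
    (p : ℕ) :
    Function.Bijective (ψ p) := by
  have hsep : Algebra.IsSeparable k K := Algebra.IsAlgebraic.isSeparable_of_perfectField
  have hU : Algebra.FormallyUnramified k K := Algebra.FormallyUnramified.of_isSeparable k K
  let f : Ω[B⁄k] →ₗ[B] Ω[B⁄K] := KaehlerDifferential.map k K B B
  have hsurj : Function.Surjective f := KaehlerDifferential.map_surjective k K B
  have hinj : Function.Injective f := by
    rw [← LinearMap.ker_eq_bot, ← KaehlerDifferential.range_mapBaseChange, LinearMap.range_eq_bot]
    refine LinearMap.ext fun x => ?_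
    rw [Subsingleton.elim x 0, map_zero, map_zero]
  let e : Ω[B⁄k] ≃ₗ[B] Ω[B⁄K] := LinearEquiv.ofBijective f ⟨hinj, hsurj⟩
  have hψ_eq : ∀ x, ψ p x = exteriorPower.map p f x := by
    intro x
    induction x using Groth.Agent.Lib.helper22.DeRhamGen.kaehler_gen_induction with
    | zero => simp
    | add x y hx hy => rw [map_add, map_add, hx, hy]
    | gen b₀ b =>
      rw [hψ p b₀ b]
      simp only [DeRham.gen, map_smul, exteriorPower.map_apply_ιMulti, RingHom.id_apply]
      congr 2
      funext i
      simp [f]
  have h1 : (exteriorPower.map p (e.symm : Ω[B⁄K] →ₗ[B] Ω[B⁄k])).comp (exteriorPower.map p f) =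
      LinearMap.id := by
    rw [← exteriorPower.map_comp]
    have : (e.symm : Ω[B⁄K] →ₗ[B] Ω[B⁄k]).comp f = LinearMap.id := by
      exact LinearMap.ext fun x => e.symm_apply_apply x
    rw [this, exteriorPower.map_id]
  have h2 : (exteriorPower.map p f).comp (exteriorPower.map p (e.symm : Ω[B⁄K] →ₗ[B] Ω[B⁄k])) =
      LinearMap.id := by
    rw [← exteriorPower.map_comp]
    have : f.comp (e.symm : Ω[B⁄K] →ₗ[B] Ω[B⁄k]) = LinearMap.id := by
      exact LinearMap.ext fun x => e.apply_symm_apply x
    rw [this, exteriorPower.map_id]
  have hfun : (ψ p : _ → _) = exteriorPower.map p f := funext hψ_eq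
  rw [hfun]
  refine ⟨fun x y hxy => ?_, fun y => ⟨exteriorPower.map p (e.symm : Ω[B⁄K] →ₗ[B] Ω[B⁄k]) y, ?_⟩⟩
  · have := congrArg (exteriorPower.map p (e.symm : Ω[B⁄K] →ₗ[B] Ω[B⁄k])) hxy
    rwa [← LinearMap.comp_apply, ← LinearMap.comp_apply, h1] at this
  · rw [← LinearMap.comp_apply, h2]
    rfl

end Groth.Agent.S19630
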