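import Groth.Statements.S19634
import Mathlib

set_option autoImplicit false
universe u
open DeRham

namespace Groth.Agent.S19634

open MvPolynomial

section
variable (k : Type u) [Field k]

local notation "II" => Ideal.span {(X 0 * X 1 : MvPolynomial (Fin 2) k)}

theorem memI (x : MvPolynomial (Fin 2) k) :
    x ∈ II ↔ ∀ m ∈ x.support, 1 ≤ m 0 ∧ 1 ≤ m 1 := by
  have h1 : ({(X 0 * X 1 : MvPolynomial (Fin 2) k)} : Set _)
      = (fun s => monomial s (1 : k)) '' {Finsupp.single 0 1 + Finsupp.single 1 1} := by
    rw [Set.image_singleton, X, X, monomial_mul, one_mul]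
  rw [h1, mem_ideal_span_monomial_image]
  constructor
  · intro h m hm
    obtain ⟨s, hs, hle⟩ := h m hm
    rw [Set.mem_singleton_iff] at hs
    subst hs
    have h0 := hle 0
    have h1 := hle 1
    simp at h0 h1
    exact ⟨h0, h1⟩
  · intro h m hm
    refine ⟨_, rfl, ?_⟩
    intro i
    fin_cases i
    · simpa using (h m hm).1
    · simpa using (h m hm).2

theorem coeff_X_mul_pderiv (i : Fin 2) (x : MvPolynomial (Fin 2) k) (m : Fin 2 →₀ ℕ) :
    coeff m (X i * pderiv i x) = (m i : k) * coeff m x := by
  induction x using MvPolynomial.induction_on' with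
  | monomial u a =>
    rw [X_mul_pderiv_monomial, coeff_smul, coeff_monomial]
    split_ifs with h
    · subst h; rw [nsmul_eq_mul]
    · rw [smul_zero, mul_zero]
  | add p q hp hq =>
    rw [map_add, mul_add, coeff_add, coeff_add, hp, hq, mul_add]

/-- the Euler derivation -/
noncomputable def E : Derivation k (MvPolynomial (Fin 2) k) (MvPolynomial (Fin 2) k) :=
  (X 0 : MvPolynomial (Fin 2) k) • pderiv 0 + (X 1 : MvPolynomial (Fin 2) k) • pderiv 1

theorem E_apply (x : MvPolynomial (Fin 2) k) :
    E k x = X 0 * pderiv 0 x + X 1 * pderiv 1 x := rfl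

theorem coeff_E (x : MvPolynomial (Fin 2) k) (m : Fin 2 →₀ ℕ) :
    coeff m (E k x) = ((m 0 : k) + (m 1 : k)) * coeff m x := by
  rw [E_apply, coeff_add, coeff_X_mul_pderiv, coeff_X_mul_pderiv, add_mul]

theorem main [CharZero k] (P : MvPolynomial (Fin 2) k ⧸ II) :
    KaehlerDifferential.D k (MvPolynomial (Fin 2) k ⧸ II) P = 0 ↔
      P ∈ Set.range (algebraMap k (MvPolynomial (Fin 2) k ⧸ II)) := by
  constructor
  · intro hD
    have hsurj : Function.Surjective (Ideal.Quotient.mkₐ k II) :=
      Ideal.Quotient.mkₐ_surjective k II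
    have hd : ∀ x, Ideal.Quotient.mkₐ k II x = 0 → Ideal.Quotient.mkₐ k II (E k x) = 0 := by
      intro x hx
      rw [Ideal.Quotient.mkₐ_eq_mk, Ideal.Quotient.eq_zero_iff_mem] at hx ⊢
      rw [memI] at hx ⊢
      intro m hm
      apply hx
      rw [mem_support_iff] at hm ⊢
      intro h0
      apply hm
      rw [coeff_E, h0, mul_zero]
    obtain ⟨x, rfl⟩ := hsurj P
    have h1 : (Derivation.liftOfSurjective hsurj hd) (Ideal.Quotient.mkₐ k II x) = 0 := by
      rw [← Derivation.liftKaehlerDifferential_comp_D (Derivation.liftOfSurjective hsurj hd),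
        hD, map_zero]
    rw [Derivation.liftOfSurjective_apply] at h1
    rw [Ideal.Quotient.mkₐ_eq_mk, Ideal.Quotient.eq_zero_iff_mem, memI] at h1
    refine ⟨coeff 0 x, ?_⟩
    show Ideal.Quotient.mk II (C (coeff 0 x)) = Ideal.Quotient.mk II x
    rw [eq_comm, Ideal.Quotient.mk_eq_mk_iff_sub_mem, memI]
    intro m hm
    rw [mem_support_iff, coeff_sub, coeff_C] at hm
    by_cases hm0 : m = 0
    · exfalso; apply hm; rw [if_pos hm0.symm, hm0, sub_self]
    · rw [if_neg (Ne.symm hm0), sub_zero] at hm
      by_contra hcon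
      have h2 : coeff m (E k x) = 0 := by
        by_contra h3
        exact hcon (h1 m (mem_support_iff.mpr h3))
      rw [coeff_E] at h2
      rcases mul_eq_zero.mp h2 with h4 | h4
      · have h5 : ((m 0 + m 1 : ℕ) : k) = 0 := by push_cast; exact h4
        have h6 : m 0 + m 1 = 0 := by exact_mod_cast h5
        apply hm0
        ext i
        fin_cases i
        · simp; omega
        · simp; omega
      · exact hm h4
  · rintro ⟨c, rfl⟩
    exact Derivation.map_algebraMap _ c

end



/-- Let k be a field of characteristic zero and A = k[X, Y]/(XY), the coordinate ring of two affine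
lines crossing in a point. In the naive de Rham complex A → Ω¹_{A/k} the kernel of d consists of the
constants: dP = 0 if and only if P is in the image of k. -/
theorem result (k : Type u) [Field k] [CharZero k]
    (P : MvPolynomial (Fin 2) k ⧸ Ideal.span {(MvPolynomial.X 0 * MvPolynomial.X 1 : MvPolynomial (Fin 2) k)}) :
    KaehlerDifferential.D k (MvPolynomial (Fin 2) k ⧸ Ideal.span {(MvPolynomial.X 0 * MvPolynomial.X 1 : MvPolynomial (Fin 2) k)}) P = 0 ↔
      P ∈ Set.range (algebraMap k (MvPolynomial (Fin 2) k ⧸ Ideal.span {(MvPolynomial.X 0 * MvPolynomial.X 1 : MvPolynomial (Fin 2) k)})) := by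
  exact main k P


end Groth.Agent.S19634
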