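import Groth.Statements.S19635
import Mathlib

set_option autoImplicit false
universe u
open DeRham

namespace Groth.Agent.S19635

set_option linter.style.haveILetI false


section

variable (k : Type u) [Field k]

/-- the algebra `k[x,y]/(x,y)^2` -/
abbrev B : Type u := TrivSqZeroExt k (k × k)

/-- the three-dimensional module (the dual of `B`) -/
def M3 : Type u := Fin 3 → k

instance : AddCommGroup (M3 k) := inferInstanceAs (AddCommGroup (Fin 3 → k))
instance : Module k (M3 k) := inferInstanceAs (Module k (Fin 3 → k))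

variable {k}

@[ext] lemma M3.ext {m n : M3 k} (h0 : m 0 = n 0) (h1 : m 1 = n 1) (h2 : m 2 = n 2) : m = n := by
  funext i; fin_cases i <;> assumption

/-- action of `B` -/
def bsmul (b : B k) (m : M3 k) : M3 k :=
  ![b.fst * m 0, b.fst * m 1, b.fst * m 2 + b.snd.1 * m 1 - b.snd.2 * m 0]

instance : SMul (B k) (M3 k) := ⟨bsmul⟩

lemma smul_def (b : B k) (m : M3 k) :
    b • m = ![b.fst * m 0, b.fst * m 1, b.fst * m 2 + b.snd.1 * m 1 - b.snd.2 * m 0] := rfl

@[simp] lemma smul_0 (b : B k) (m : M3 k) : (b • m) 0 = b.fst * m 0 := rfl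
@[simp] lemma smul_1 (b : B k) (m : M3 k) : (b • m) 1 = b.fst * m 1 := rfl
@[simp] lemma smul_2 (b : B k) (m : M3 k) :
    (b • m) 2 = b.fst * m 2 + b.snd.1 * m 1 - b.snd.2 * m 0 := rfl
@[simp] lemma add_0 (m n : M3 k) : (m + n) 0 = m 0 + n 0 := rfl
@[simp] lemma add_1 (m n : M3 k) : (m + n) 1 = m 1 + n 1 := rfl
@[simp] lemma add_2 (m n : M3 k) : (m + n) 2 = m 2 + n 2 := rfl
@[simp] lemma zero_0 : (0 : M3 k) 0 = 0 := rfl
@[simp] lemma zero_1 : (0 : M3 k) 1 = 0 := rfl
@[simp] lemma zero_2 : (0 : M3 k) 2 = 0 := rfl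
@[simp] lemma ksmul_0 (c : k) (m : M3 k) : (c • m) 0 = c * m 0 := rfl
@[simp] lemma ksmul_1 (c : k) (m : M3 k) : (c • m) 1 = c * m 1 := rfl
@[simp] lemma ksmul_2 (c : k) (m : M3 k) : (c • m) 2 = c * m 2 := rfl

instance : Module (B k) (M3 k) where
  one_smul m := by
    ext <;> simp
  mul_smul a b m := by
    ext <;> simp [TrivSqZeroExt.fst_mul, TrivSqZeroExt.snd_mul] <;> ring
  smul_zero a := by
    ext <;> simp
  smul_add a m n := by
    ext <;> simp <;> ring
  add_smul a b m := by
    ext <;> simp <;> ring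
  zero_smul m := by
    ext <;> simp

instance : IsScalarTower k (B k) (M3 k) where
  smul_assoc c b m := by
    ext <;> simp [TrivSqZeroExt.fst_smul, TrivSqZeroExt.snd_smul] <;> ring

/-- the derivation `B → M3` -/
def dBlin : B k →ₗ[k] M3 k where
  toFun b := ![b.snd.1, b.snd.2, 0]
  map_add' a b := by
    ext <;> simp
  map_smul' c b := by
    ext <;> simp

@[simp] lemma dBlin_0 (b : B k) : dBlin b 0 = b.snd.1 := rfl
@[simp] lemma dBlin_1 (b : B k) : dBlin b 1 = b.snd.2 := rfl
@[simp] lemma dBlin_2 (b : B k) : dBlin b 2 = 0 := rfl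

lemma dBlin_mul (a b : B k) : dBlin (a * b) = a • dBlin b + b • dBlin a := by
  ext <;> simp [TrivSqZeroExt.fst_mul, TrivSqZeroExt.snd_mul] <;> ring

variable (k)

noncomputable abbrev Jn : Ideal (MvPolynomial (Fin 2) k) :=
  Ideal.span {(MvPolynomial.X 0 * MvPolynomial.X 1 : MvPolynomial (Fin 2) k)}

abbrev An : Type u := MvPolynomial (Fin 2) k ⧸ Jn k

noncomputable def bx : B k := TrivSqZeroExt.inr (1, 0)
noncomputable def by' : B k := TrivSqZeroExt.inr (0, 1)

noncomputable def rho0 : MvPolynomial (Fin 2) k →ₐ[k] B k :=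
  MvPolynomial.aeval ![bx k, by' k]

lemma rho0_J : ∀ a ∈ Jn k, rho0 k a = 0 := by
  intro a ha
  have : Jn k ≤ RingHom.ker (rho0 k).toRingHom := by
    rw [Ideal.span_le, Set.singleton_subset_iff]
    change rho0 k (MvPolynomial.X 0 * MvPolynomial.X 1) = 0
    unfold rho0
    rw [map_mul, MvPolynomial.aeval_X, MvPolynomial.aeval_X]
    simp [bx, by']
  exact this ha

noncomputable def rho : An k →ₐ[k] B k := Ideal.Quotient.liftₐ (Jn k) (rho0 k) (rho0_J k)

lemma rho_X (i : Fin 2) :
    rho k (Ideal.Quotient.mk (Jn k) (MvPolynomial.X i)) = ![bx k, by' k] i := by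
  unfold rho
  rw [Ideal.Quotient.liftₐ_apply, Ideal.Quotient.lift_mk]
  change rho0 k (MvPolynomial.X i) = _
  unfold rho0
  rw [MvPolynomial.aeval_X]

noncomputable instance : Module (An k) (M3 k) := Module.compHom (M3 k) (rho k).toRingHom

lemma asmul_def (a : An k) (m : M3 k) : a • m = rho k a • m := rfl

instance : IsScalarTower k (An k) (M3 k) where
  smul_assoc c a m := by
    rw [asmul_def, asmul_def, map_smul, smul_assoc]

noncomputable def delta : Derivation k (An k) (M3 k) :=
  Derivation.mk' (dBlin.comp (rho k).toLinearMap) (by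
    intro a b
    change dBlin (rho k (a * b)) = rho k a • dBlin (rho k b) + rho k b • dBlin (rho k a)
    rw [map_mul, dBlin_mul])

lemma delta_apply (a : An k) : delta k a = dBlin (rho k a) := rfl

theorem main : ¬ Function.Surjective (KaehlerDifferential.D k (An k)) := by
  intro hsurj
  let x : An k := Ideal.Quotient.mk (Jn k) (MvPolynomial.X 0)
  let y : An k := Ideal.Quotient.mk (Jn k) (MvPolynomial.X 1)
  obtain ⟨P, hP⟩ := hsurj (x • KaehlerDifferential.D k (An k) y)
  have h1 := congrArg (delta k).liftKaehlerDifferential hP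
  rw [Derivation.liftKaehlerDifferential_comp_D, map_smul,
    Derivation.liftKaehlerDifferential_comp_D] at h1
  have h2 := congrFun h1 2
  rw [delta_apply, asmul_def, delta_apply] at h2
  have hx : rho k x = bx k := rho_X k 0
  have hy : rho k y = by' k := rho_X k 1
  rw [hx, hy] at h2
  simp [bx, by'] at h2

end



/-- Let k be a field of characteristic zero and A = k[X, Y]/(XY), the coordinate ring of two affine
lines crossing in a point. The differential d : A → Ω¹_{A/k} of the naive de Rham complex is not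
surjective, so the naive H^1 of this singular curve does not vanish although one expects trivial
cohomology; this is the example motivating the h-topology definition. -/
theorem result (k : Type u) [Field k] [CharZero k] :
    ¬ Function.Surjective (KaehlerDifferential.D k (MvPolynomial (Fin 2) k ⧸ Ideal.span {(MvPolynomial.X 0 * MvPolynomial.X 1 : MvPolynomial (Fin 2) k)})) := by
  exact main k

end Groth.Agent.S19635
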