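import Groth.Statements.S1965
import Mathlib

set_option autoImplicit false
universe u
open Polynomial
open EtAlg

namespace Groth.Agent.S1965

/-- Hensel's lemma for adically complete rings, without any monicity hypothesis
(Newton iteration, following Mathlib's proof of `IsAdicComplete.henselianRing`). -/
theorem hensel_complete {R : Type*} [CommRing R] (I : Ideal R) [IsAdicComplete I R]
    (f : R[X]) (a₀ : R) (h₁ : f.eval a₀ ∈ I)
    (h₂ : IsUnit (Ideal.Quotient.mk I (f.derivative.eval a₀))) :
    ∃ a : R, f.IsRoot a ∧ a - a₀ ∈ I := by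
  classical
  let f' := derivative f
  let c : ℕ → R := fun n => Nat.recOn n a₀ fun _ b => b - f.eval b * Ring.inverse (f'.eval b)
  have hc : ∀ n, c (n + 1) = c n - f.eval (c n) * Ring.inverse (f'.eval (c n)) := by
    intro n
    simp only [c]
  have hc_mod : ∀ n, c n ≡ a₀ [SMOD I] := by
    intro n
    induction n with
    | zero => rfl
    | succ n ih =>
      rw [hc, sub_eq_add_neg, ← add_zero a₀]
      refine ih.add ?_
      rw [SModEq.zero, Ideal.neg_mem_iff]
      refine I.mul_mem_right _ ?_
      rw [← SModEq.zero] at h₁ ⊢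
      exact (ih.eval f).trans h₁
  have hf'c : ∀ n, IsUnit (f'.eval (c n)) := by
    intro n
    have := isLocalHom_of_le_jacobson_bot I (IsAdicComplete.le_jacobson_bot I)
    apply IsUnit.of_map (Ideal.Quotient.mk I)
    have h : Ideal.Quotient.mk I (f'.eval (c n)) = Ideal.Quotient.mk I (f'.eval a₀) :=
      SModEq.def.mp ((hc_mod n).eval f')
    rw [h]
    exact h₂
  have hfcI : ∀ n, f.eval (c n) ∈ I ^ (n + 1) := by
    intro n
    induction n with
    | zero =>
      show f.eval a₀ ∈ I ^ (0 + 1)
      rw [zero_add, pow_one]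
      exact h₁
    | succ n ih =>
      rw [← taylor_eval_sub (c n), hc, sub_eq_add_neg, sub_eq_add_neg,
        add_neg_cancel_comm]
      rw [eval_eq_sum, sum_over_range' _ _ _ (lt_add_of_pos_right _ zero_lt_two), ←
        Finset.sum_range_add_sum_Ico _ (Nat.le_add_left _ _)]
      swap
      · intro i
        rw [zero_mul]
      refine Ideal.add_mem _ ?_ ?_
      · rw [← one_add_one_eq_two, Finset.sum_range_succ, Finset.range_one, Finset.sum_singleton,
          taylor_coeff_zero, taylor_coeff_one, pow_zero, pow_one, mul_one, mul_neg,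
          mul_left_comm, Ring.mul_inverse_cancel _ (hf'c n), mul_one, add_neg_cancel]
        exact Ideal.zero_mem _
      · refine Submodule.sum_mem _ ?_
        simp only [Finset.mem_Ico]
        rintro i ⟨h2i, _⟩
        have aux : n + 2 ≤ i * (n + 1) := by trans 2 * (n + 1) <;> nlinarith only [h2i]
        refine Ideal.mul_mem_left _ _ (Ideal.pow_le_pow_right aux ?_)
        rw [pow_mul']
        exact Ideal.pow_mem_pow ((Ideal.neg_mem_iff _).2 <| Ideal.mul_mem_right _ _ ih) _
  have aux : ∀ m n, m ≤ n → c m ≡ c n [SMOD (I ^ m • ⊤ : Ideal R)] := by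
    intro m n hmn
    rw [← Ideal.one_eq_top, Ideal.smul_eq_mul, mul_one]
    obtain ⟨k, rfl⟩ := Nat.exists_eq_add_of_le hmn
    clear hmn
    induction k with
    | zero => rw [add_zero]
    | succ k ih =>
      rw [← add_assoc, hc, ← add_zero (c m), sub_eq_add_neg]
      refine ih.add ?_
      symm
      rw [SModEq.zero, Ideal.neg_mem_iff]
      refine Ideal.mul_mem_right _ _ (Ideal.pow_le_pow_right ?_ (hfcI _))
      rw [add_assoc]
      exact le_self_add
  obtain ⟨a, ha⟩ := IsPrecomplete.prec' c (aux _ _)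
  refine ⟨a, ?_, ?_⟩
  · show f.IsRoot a
    suffices ∀ n, f.eval a ≡ 0 [SMOD (I ^ n • ⊤ : Ideal R)] by exact IsHausdorff.haus' _ this
    intro n
    specialize ha n
    rw [← Ideal.one_eq_top, Ideal.smul_eq_mul, mul_one] at ha ⊢
    refine (ha.symm.eval f).trans ?_
    rw [SModEq.zero]
    exact Ideal.pow_le_pow_right le_self_add (hfcI _)
  · show a - a₀ ∈ I
    specialize ha (0 + 1)
    rw [hc, pow_one, ← Ideal.one_eq_top, Ideal.smul_eq_mul, mul_one, sub_eq_add_neg] at ha
    rw [← SModEq.sub_mem, ← add_zero a₀]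
    refine ha.symm.trans (SModEq.rfl.add ?_)
    rw [SModEq.zero, Ideal.neg_mem_iff]
    exact Ideal.mul_mem_right _ _ h₁

theorem eval_mem_of_coeff_mem {R : Type*} [CommRing R] (I : Ideal R) (Q : R[X])
    (h : ∀ i, Q.coeff i ∈ I) (a : R) : Q.eval a ∈ I := by
  rw [Polynomial.eval_eq_sum_range]
  exact Submodule.sum_mem _ fun i _ => Ideal.mul_mem_right _ _ (h i)

theorem exists_pow_le_span (A : Type u) [CommRing A] [IsDomain A] [IsLocalRing A]
    [IsNoetherianRing A] (hdim : ringKrullDim A = 1) (p : A) (hp : p ≠ 0) :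
    ∃ N : ℕ, IsLocalRing.maximalIdeal A ^ N ≤ Ideal.span {p} := by
  have hK : Ring.KrullDimLE 1 A := Ring.krullDimLE_iff.mpr hdim.le
  have hrad : IsLocalRing.maximalIdeal A ≤ (Ideal.span {p}).radical := by
    rw [Ideal.radical_eq_sInf]
    refine le_sInf ?_
    rintro J ⟨hJ, hJp⟩
    have hJne : J ≠ ⊥ := by
      intro h
      apply hp
      have : p ∈ J := hJ (Ideal.subset_span rfl)
      rw [h] at this
      simpa using this
    have hmax : J.IsMaximal := hJp.isMaximal_of_ne_bot hJne
    exact (IsLocalRing.eq_maximalIdeal hmax).ge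
  exact Ideal.exists_pow_le_of_le_radical_of_fg hrad (IsNoetherian.noetherian _)

/-- Let A be a complete Noetherian local domain of Krull dimension 1 with maximal ideal m, P a
polynomial over A and α a root of P which is not a root of the derivative P'. Then for every c there
is an n such that for every polynomial Q all of whose coefficients lie in m^n, the polynomial P + Q
has a root β with β - α in m^c. -/
theorem result (A : Type u) [CommRing A] [IsDomain A] [IsLocalRing A] [IsNoetherianRing A]
    [IsAdicComplete (IsLocalRing.maximalIdeal A) A] (hdim : ringKrullDim A = 1) (P : A[X]) (α : A)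
    (hα : P.eval α = 0) (hα' : (derivative P).eval α ≠ 0) (c : ℕ) :
    ∃ n : ℕ, ∀ Q : A[X], (∀ i, Q.coeff i ∈ IsLocalRing.maximalIdeal A ^ n) →
      ∃ β : A, (P + Q).eval β = 0 ∧ β - α ∈ IsLocalRing.maximalIdeal A ^ c := by
  set m := IsLocalRing.maximalIdeal A with hm
  set p := (derivative P).eval α with hp
  obtain ⟨N, hN⟩ := exists_pow_le_span A hdim p hα'
  refine ⟨N + N + (c + 1), fun Q hQ => ?_⟩
  -- evaluate Q and Q' at α
  have hQα : Q.eval α ∈ m ^ (N + N + (c + 1)) := eval_mem_of_coeff_mem _ Q hQ α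
  have hQ'α : (derivative Q).eval α ∈ m ^ (N + N + (c + 1)) := by
    refine eval_mem_of_coeff_mem _ _ (fun i => ?_) α
    rw [Polynomial.coeff_derivative]
    exact Ideal.mul_mem_right _ _ (hQ _)
  -- Q'(α) = p * μ with μ ∈ m
  have h1 : m ^ (N + N + (c + 1)) ≤ Ideal.span {p} * m := by
    have : N + N + (c + 1) = N + (N + c + 1) := by ring
    rw [this, pow_add]
    refine Ideal.mul_mono hN ?_
    calc m ^ (N + c + 1) ≤ m ^ 1 := Ideal.pow_le_pow_right (by omega)
      _ = m := pow_one m
  obtain ⟨μ, hμ, hμeq⟩ := Ideal.mem_span_singleton_mul.mp (h1 hQ'α)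
  -- Q(α) = p^2 * e' with e' ∈ m^(c+1)
  have h2 : m ^ (N + N + (c + 1)) ≤ Ideal.span {p ^ 2} * m ^ (c + 1) := by
    rw [pow_add, pow_add]
    refine Ideal.mul_mono ?_ le_rfl
    calc m ^ N * m ^ N ≤ Ideal.span {p} * Ideal.span {p} := Ideal.mul_mono hN hN
      _ = Ideal.span {p ^ 2} := by rw [Ideal.span_singleton_mul_span_singleton, pow_two]
  obtain ⟨e', he', he'eq⟩ := Ideal.mem_span_singleton_mul.mp (h2 hQα)
  -- the unit u = 1 + μ
  have hu : IsUnit (1 + μ) := by
    by_contra hnu
    have h1m : (1 + μ) ∈ m := (IsLocalRing.mem_maximalIdeal _).mpr hnu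
    have : (1 : A) ∈ m := by
      have := m.sub_mem h1m hμ
      simpa using this
    exact (Ideal.ne_top_iff_one m).mp (IsLocalRing.maximalIdeal.isMaximal A).ne_top this
  obtain ⟨u, hu'⟩ := hu
  set F := P + Q with hF
  set d := p * (u : A) with hd
  have hdne : d ≠ 0 := mul_ne_zero hα' u.ne_zero
  set e := e' * ((↑(u⁻¹) : A)) ^ 2 with he
  have hem : e ∈ m ^ (c + 1) := Ideal.mul_mem_right _ _ he'
  have hFα : F.eval α = d ^ 2 * e := by
    rw [hF, eval_add, hα, zero_add, ← he'eq, hd, he]
    have : (u : A) * (↑(u⁻¹) : A) = 1 := by simp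
    calc p ^ 2 * e' = p ^ 2 * e' * ((u : A) * (↑(u⁻¹) : A)) ^ 2 := by rw [this]; ring
      _ = (p * ↑u) ^ 2 * (e' * (↑(u⁻¹) : A) ^ 2) := by ring
  have hF'α : (derivative F).eval α = d := by
    rw [hF, derivative_add, eval_add, ← hp, ← hμeq, hd, hu']
    ring
  -- the auxiliary polynomial
  set T := taylor α F with hT
  set U := divX (divX T) with hU
  set W := U.comp (C d * X) with hW
  set g : A[X] := C e + X + X ^ 2 * W with hg
  have hT0 : T.coeff 0 = d ^ 2 * e := by rw [hT, taylor_coeff_zero, hFα]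
  have hT1 : T.coeff 1 = d := by rw [hT, taylor_coeff_one, hF'α]
  have hTdecomp : T = C (T.coeff 0) + X * (C (T.coeff 1) + X * U) := by
    have e1 := Polynomial.divX_mul_X_add T
    have e2 := Polynomial.divX_mul_X_add (divX T)
    rw [Polynomial.coeff_divX, zero_add] at e2
    conv_lhs => rw [← e1, ← e2]
    rw [hU]
    ring
  have key : ∀ y : A, d ^ 2 * g.eval y = F.eval (α + d * y) := by
    intro y
    have : F.eval (α + d * y) = T.eval (d * y) := by
      rw [hT, taylor_eval, add_comm]
    rw [this, hTdecomp, hT0, hT1, hg, hW]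
    simp only [eval_add, eval_mul, eval_C, eval_X, eval_pow, eval_comp]
    ring
  have hg0 : g.eval 0 ∈ m := by
    have : g.eval 0 = e := by
      rw [hg]; simp
    rw [this]
    exact Ideal.pow_le_self (by omega) hem
  have hg'0 : IsUnit (Ideal.Quotient.mk m (g.derivative.eval 0)) := by
    have : g.derivative.eval 0 = 1 := by
      rw [hg]
      simp [derivative_mul]
    rw [this, map_one]
    exact isUnit_one
  obtain ⟨y, hy, hym⟩ := hensel_complete m g 0 hg0 hg'0
  rw [sub_zero] at hym
  have hyroot : g.eval y = 0 := hy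
  refine ⟨α + d * y, ?_, ?_⟩
  · rw [← key y, hyroot, mul_zero]
  · rw [add_sub_cancel_left]
    -- y ∈ m^(c+1)
    have hval : e + y * (1 + y * W.eval y) = 0 := by
      have := hyroot
      rw [hg] at this
      simp only [eval_add, eval_mul, eval_C, eval_X, eval_pow] at this
      rw [← this]; ring
    have hunit : IsUnit (1 + y * W.eval y) := by
      by_contra hnu
      have h1m : (1 + y * W.eval y) ∈ m := (IsLocalRing.mem_maximalIdeal _).mpr hnu
      have : (1 : A) ∈ m := by
        have := m.sub_mem h1m (m.mul_mem_right (W.eval y) hym)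
        simpa using this
      exact (Ideal.ne_top_iff_one m).mp (IsLocalRing.maximalIdeal.isMaximal A).ne_top this
    obtain ⟨v, hv⟩ := hunit
    have hyeq : y = -e * (↑(v⁻¹) : A) := by
      have h3 : y * (v : A) = -e := by
        rw [hv]; linear_combination hval
      calc y = y * ((v : A) * (↑(v⁻¹) : A)) := by simp
        _ = (y * (v : A)) * (↑(v⁻¹) : A) := by ring
        _ = -e * (↑(v⁻¹) : A) := by rw [h3]
    have hyc : y ∈ m ^ (c + 1) := by
      rw [hyeq]
      exact Ideal.mul_mem_right _ _ ((Ideal.neg_mem_iff _).mpr hem)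
    exact Ideal.mul_mem_left _ _ (Ideal.pow_le_pow_right (Nat.le_succ c) hyc)

end Groth.Agent.S1965
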