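import Groth.Statements.S19651
import Mathlib
-- import your own Groth.Agent.* helpers here

set_option autoImplicit false
universe u v
open AbVar

namespace Groth.Agent.S19651

section helpers
open Polynomial
variable {k : Type u} [Field k] {V : Type v} [AddCommGroup V] [Module k V]
    (B : LinearMap.BilinForm k V) (M : V ≃ₗ[k] V)
    (hM : ∀ x y : V, B (M x) (M y) = B x y)

include hM in
lemma inv_pow (j : ℕ) (a b : V) : B (((M : V →ₗ[k] V) ^ j) a) (((M : V →ₗ[k] V) ^ j) b) = B a b := by
  induction j generalizing a b with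
  | zero => simp
  | succ j ih =>
    rw [pow_succ, Module.End.mul_apply, Module.End.mul_apply, ih]
    exact hM a b

include hM in
lemma star (P : k[X]) (u w : V) :
    B (aeval (M : V →ₗ[k] V) P u) (((M : V →ₗ[k] V) ^ P.natDegree) w) =
      B u (aeval (M : V →ₗ[k] V) P.reverse w) := by
  set d := P.natDegree with hd
  rw [aeval_eq_sum_range, aeval_eq_sum_range' (lt_of_le_of_lt (reverse_natDegree_le P) (Nat.lt_succ_self d))]
  simp only [LinearMap.sum_apply, map_sum, LinearMap.smul_apply, map_smul, smul_eq_mul]
  rw [← Finset.sum_range_reflect]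
  apply Finset.sum_congr rfl
  intro i hi
  have hi' : i ≤ d := Nat.lt_succ_iff.mp (Finset.mem_range.mp hi)
  have e1 : d + 1 - 1 - i = d - i := by omega
  rw [e1, coeff_reverse, revAt_le hi']
  congr 1
  have e2 : ((M : V →ₗ[k] V) ^ d) w = ((M : V →ₗ[k] V) ^ (d - i)) (((M : V →ₗ[k] V) ^ i) w) := by
    rw [← Module.End.mul_apply, ← pow_add, Nat.sub_add_cancel hi']
  rw [e2, inv_pow B M hM]

/-- polynomials in M commute with powers of M -/
lemma comm_pow (P : k[X]) (j : ℕ) :
    Commute (aeval (M : V →ₗ[k] V) P) ((M : V →ₗ[k] V) ^ j) := by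
  have : ((M : V →ₗ[k] V) ^ j) = aeval (M : V →ₗ[k] V) (X ^ j : k[X]) := by simp
  rw [this]
  exact (Commute.all P (X ^ j)).map (aeval (M : V →ₗ[k] V))

include hM in
lemma star_pow (P : k[X]) (n : ℕ) (u w : V) :
    B ((aeval (M : V →ₗ[k] V) P ^ n) u) (((M : V →ₗ[k] V) ^ (P.natDegree * n)) w) =
      B u ((aeval (M : V →ₗ[k] V) P.reverse ^ n) w) := by
  induction n generalizing u w with
  | zero => simp
  | succ n ih =>
    have e1 : (aeval (M : V →ₗ[k] V) P ^ (n + 1)) u =
        aeval (M : V →ₗ[k] V) P ((aeval (M : V →ₗ[k] V) P ^ n) u) := by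
      rw [pow_succ', Module.End.mul_apply]
    have e2 : ((M : V →ₗ[k] V) ^ (P.natDegree * (n + 1))) w =
        ((M : V →ₗ[k] V) ^ P.natDegree) (((M : V →ₗ[k] V) ^ (P.natDegree * n)) w) := by
      rw [← Module.End.mul_apply, ← pow_add]; congr 2; ring
    rw [e1, e2, star B M hM]
    -- B (P^n u) (P.rev (M^(dn) w)) ; commute
    have e3 : aeval (M : V →ₗ[k] V) P.reverse (((M : V →ₗ[k] V) ^ (P.natDegree * n)) w) =
        ((M : V →ₗ[k] V) ^ (P.natDegree * n)) (aeval (M : V →ₗ[k] V) P.reverse w) := by
      have := (comm_pow M P.reverse (P.natDegree * n)).eq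
      rw [← Module.End.mul_apply, this, Module.End.mul_apply]
    rw [e3, ih, pow_succ, Module.End.mul_apply]

end helpers

open Polynomial in
/-- Stated for an arbitrary invariant bilinear form, as the argument there allows. Let k be a field, V a
k-vector space with a bilinear form B and M a linear automorphism of V with B(Mx, My) = B(x, y) for
all x, y. If Q₁ and Q₂ are polynomials such that the reciprocal polynomial of Q₁ (its coefficient
list reversed) is coprime to Q₂, then every vector killed by a power of Q₁(M) is B-orthogonal to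
every vector killed by a power of Q₂(M). With Q₁ = Q₂ = Q this says that the generalized kernel of
Q(M) is totally isotropic whenever Q is coprime to its reciprocal polynomial, which for an
irreducible Q means that Q is not self-reciprocal. (The published statement takes M symplectic and
Q₁, Q₂ irreducible factors of the characteristic polynomial, with Q not self-reciprocal in the first
clause; its second clause asks Q₁ and Q₂ to be distinct and not reciprocal, which holds as proved
when this is read as saying that Q₂ is not the reciprocal of Q₁, but fails if it only means that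
neither is self-reciprocal, as the diagonal matrix with entries 2 and 1/2 preserving the standard
alternating form on k² shows; the coprimality of the reciprocal of Q₁ with Q₂, which is what the
published proof uses, is imposed here and covers both clauses.) -/
theorem result
    {k : Type u} [Field k] {V : Type v} [AddCommGroup V] [Module k V]
    (B : LinearMap.BilinForm k V) (M : V ≃ₗ[k] V)
    (hM : ∀ x y : V, B (M x) (M y) = B x y)
    (Q₁ Q₂ : k[X]) (h : IsCoprime Q₁.reverse Q₂)
    (x y : V)
    (hx : ∃ n : ℕ, (Polynomial.aeval (M : V →ₗ[k] V) Q₁ ^ n) x = 0)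
    (hy : ∃ n : ℕ, (Polynomial.aeval (M : V →ₗ[k] V) Q₂ ^ n) y = 0) :
    B x y = 0 := by
  obtain ⟨n, hn⟩ := hx
  obtain ⟨m, hm⟩ := hy
  obtain ⟨a, b, hab⟩ := (h.pow (m := n) (n := m))
  have hy' : y = (aeval (M : V →ₗ[k] V) Q₁.reverse ^ n) (aeval (M : V →ₗ[k] V) a y) := by
    have h1 : aeval (M : V →ₗ[k] V) (a * Q₁.reverse ^ n + b * Q₂ ^ m) y = y := by
      rw [hab]; simp
    rw [map_add, map_mul, map_mul, map_pow, map_pow, LinearMap.add_apply,
      Module.End.mul_apply, Module.End.mul_apply, hm, map_zero, add_zero] at h1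
    have hc : Commute (aeval (M : V →ₗ[k] V) a) (aeval (M : V →ₗ[k] V) Q₁.reverse ^ n) := by
      rw [← map_pow]
      exact (Commute.all a (Q₁.reverse ^ n)).map (aeval (M : V →ₗ[k] V))
    rw [← Module.End.mul_apply, ← hc.eq, Module.End.mul_apply]
    exact h1.symm
  rw [hy', ← star_pow B M hM Q₁ n x (aeval (M : V →ₗ[k] V) a y), hn]
  simp

end Groth.Agent.S19651
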