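import Groth.Statements.S19652
import Mathlib
-- import your own Groth.Agent.* helpers here

set_option autoImplicit false
universe u v
open AbVar

namespace Groth.Agent.S19652

section helpers
open Polynomial
variable {k : Type u} [Field k] {V : Type v} [AddCommGroup V] [Module k V]
    (B : LinearMap.BilinForm k V) (M : V ≃ₗ[k] V)
    (hM : ∀ x y : V, B (M x) (M y) = B x y)

include hM in
lemma inv_pow (j : ℕ) (a b : V) : B (((M : V →ₗ[k] V) ^ j) a) (((M : V →ₗ[k] V) ^ j) b) = B a b := by
  induction j generalizing a b with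
  | zero => simp
  | succ j ih =>
    rw [pow_succ, Module.End.mul_apply, Module.End.mul_apply, ih]
    exact hM a b

include hM in
lemma star (P : k[X]) (u w : V) :
    B (aeval (M : V →ₗ[k] V) P u) (((M : V →ₗ[k] V) ^ P.natDegree) w) =
      B u (aeval (M : V →ₗ[k] V) P.reverse w) := by
  set d := P.natDegree with hd
  rw [aeval_eq_sum_range, aeval_eq_sum_range' (lt_of_le_of_lt (reverse_natDegree_le P) (Nat.lt_succ_self d))]
  simp only [LinearMap.sum_apply, map_sum, LinearMap.smul_apply, map_smul, smul_eq_mul]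
  rw [← Finset.sum_range_reflect]
  apply Finset.sum_congr rfl
  intro i hi
  have hi' : i ≤ d := Nat.lt_succ_iff.mp (Finset.mem_range.mp hi)
  have e1 : d + 1 - 1 - i = d - i := by omega
  rw [e1, coeff_reverse, revAt_le hi']
  congr 1
  have e2 : ((M : V →ₗ[k] V) ^ d) w = ((M : V →ₗ[k] V) ^ (d - i)) (((M : V →ₗ[k] V) ^ i) w) := by
    rw [← Module.End.mul_apply, ← pow_add, Nat.sub_add_cancel hi']
  rw [e2, inv_pow B M hM]

/-- polynomials in M commute with powers of M -/
lemma comm_pow (P : k[X]) (j : ℕ) :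
    Commute (aeval (M : V →ₗ[k] V) P) ((M : V →ₗ[k] V) ^ j) := by
  have : ((M : V →ₗ[k] V) ^ j) = aeval (M : V →ₗ[k] V) (X ^ j : k[X]) := by simp
  rw [this]
  exact (Commute.all P (X ^ j)).map (aeval (M : V →ₗ[k] V))

include hM in
lemma star_pow (P : k[X]) (n : ℕ) (u w : V) :
    B ((aeval (M : V →ₗ[k] V) P ^ n) u) (((M : V →ₗ[k] V) ^ (P.natDegree * n)) w) =
      B u ((aeval (M : V →ₗ[k] V) P.reverse ^ n) w) := by
  induction n generalizing u w with
  | zero => simp
  | succ n ih =>
    have e1 : (aeval (M : V →ₗ[k] V) P ^ (n + 1)) u =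
        aeval (M : V →ₗ[k] V) P ((aeval (M : V →ₗ[k] V) P ^ n) u) := by
      rw [pow_succ', Module.End.mul_apply]
    have e2 : ((M : V →ₗ[k] V) ^ (P.natDegree * (n + 1))) w =
        ((M : V →ₗ[k] V) ^ P.natDegree) (((M : V →ₗ[k] V) ^ (P.natDegree * n)) w) := by
      rw [← Module.End.mul_apply, ← pow_add]; congr 2; ring
    rw [e1, e2, star B M hM]
    -- B (P^n u) (P.rev (M^(dn) w)) ; commute
    have e3 : aeval (M : V →ₗ[k] V) P.reverse (((M : V →ₗ[k] V) ^ (P.natDegree * n)) w) =
        ((M : V →ₗ[k] V) ^ (P.natDegree * n)) (aeval (M : V →ₗ[k] V) P.reverse w) := by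
      have := (comm_pow M P.reverse (P.natDegree * n)).eq
      rw [← Module.End.mul_apply, this, Module.End.mul_apply]
    rw [e3, ih, pow_succ, Module.End.mul_apply]


include hM in
/-- if `Q.reverse` is associated to `Q`, the generalized kernel is orthogonal to the image of powers -/
lemma ortho_range (Q : k[X]) (hQ : Associated Q Q.reverse) (n : ℕ) (w v : V)
    (hw : (aeval (M : V →ₗ[k] V) Q ^ n) w = 0) :
    B w ((aeval (M : V →ₗ[k] V) Q ^ n) v) = 0 := by
  obtain ⟨c, hc⟩ := hQ
  obtain ⟨r, hr, hrc⟩ := Polynomial.isUnit_iff.mp c.isUnit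
  have hr0 : r ≠ 0 := hr.ne_zero
  have h1 : aeval (M : V →ₗ[k] V) Q.reverse = r • aeval (M : V →ₗ[k] V) Q := by
    rw [← hc, ← hrc, map_mul, aeval_C, Algebra.algebraMap_eq_smul_one, mul_smul_comm, mul_one]
  have h2 := star_pow B M hM Q n w (((r⁻¹) ^ n) • v)
  rw [hw] at h2
  simp only [map_zero, LinearMap.zero_apply] at h2
  rw [h1, _root_.smul_pow, LinearMap.smul_apply, map_smul, map_smul, map_smul, smul_smul, ← mul_pow,
    mul_inv_cancel₀ hr0, one_pow, one_smul] at h2
  exact h2.symm

end helpers

open Polynomial in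
/-- Stated for an arbitrary invariant nondegenerate bilinear form, as the argument there allows. Let k
be a field, V a finite-dimensional k-vector space with a nondegenerate bilinear form B and M a
linear automorphism of V with B(Mx, My) = B(x, y) for all x, y. If Q is a polynomial associated to
its own reciprocal polynomial (its coefficient list reversed), then B restricted to the generalized
kernel of Q(M), the union of the kernels of the powers Q(M)^n, is nondegenerate. (The published
statement takes M symplectic and Q a self-reciprocal divisor of the characteristic polynomial;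
divisibility plays no role and is not assumed.) -/
theorem result
    {k : Type u} [Field k] {V : Type v} [AddCommGroup V] [Module k V] [FiniteDimensional k V]
    (B : LinearMap.BilinForm k V) (hB : B.Nondegenerate) (M : V ≃ₗ[k] V)
    (hM : ∀ x y : V, B (M x) (M y) = B x y)
    (Q : k[X]) (hQ : Associated Q Q.reverse) :
    (B.restrict (⨆ n : ℕ, LinearMap.ker (Polynomial.aeval (M : V →ₗ[k] V) Q ^ n))).Nondegenerate := by
  set f := aeval (M : V →ₗ[k] V) Q with hf
  have hcompl := LinearMap.isCompl_iSup_ker_pow_iInf_range_pow f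
  have hflip : ∀ x y : V, B.flip (M x) (M y) = B.flip x y := fun x y => hM y x
  have key : ∀ w : V, w ∈ (⨆ n : ℕ, LinearMap.ker (f ^ n)) → ∀ w' ∈ (⨅ n : ℕ, LinearMap.range (f ^ n)),
      B w w' = 0 ∧ B w' w = 0 := by
    intro w hw w' hw'
    obtain ⟨n, hn⟩ : ∃ n, w ∈ LinearMap.ker (f ^ n) := by
      exact (Submodule.mem_iSup_of_chain f.iterateKer w).mp hw
    have hn' : (f ^ n) w = 0 := hn
    obtain ⟨v, rfl⟩ : w' ∈ LinearMap.range (f ^ n) := (Submodule.mem_iInf _).mp hw' n
    exact ⟨ortho_range B M hM Q hQ n w v hn', ortho_range B.flip M hflip Q hQ n w v hn'⟩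
  constructor
  · rintro ⟨w, hw⟩ h
    have : w = 0 := by
      apply hB.1 w
      intro v
      obtain ⟨a, ha, b, hb, rfl⟩ := Submodule.mem_sup.mp (by rw [hcompl.sup_eq_top]; exact Submodule.mem_top : v ∈ _ ⊔ _)
      rw [map_add, (key w hw b hb).1, add_zero]
      exact h ⟨a, ha⟩
    exact Subtype.ext this
  · rintro ⟨w, hw⟩ h
    have : w = 0 := by
      apply hB.2 w
      intro v
      obtain ⟨a, ha, b, hb, rfl⟩ := Submodule.mem_sup.mp (by rw [hcompl.sup_eq_top]; exact Submodule.mem_top : v ∈ _ ⊔ _)
      rw [map_add, LinearMap.add_apply, (key w hw b hb).2, add_zero]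
      exact h ⟨a, ha⟩
    exact Subtype.ext this

end Groth.Agent.S19652
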