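import Groth.Statements.S19657
import Groth.Agent.Lib.Helper9.PropDvr6
import Groth.Agent.Lib.Helper9.SemiCont3
import Groth.Agent.Lib.Helper9.NGeom16
import Groth.Agent.S2156

set_option autoImplicit false
universe u
open AlgebraicGeometry CategoryTheory CategoryTheory.Limits Topology
open EGA43

namespace Groth.Agent.S19657

theorem exists_maximal_generization {T : Type*} [TopologicalSpace T] [QuasiSober T] [T0Space T]
    (s : T) : ∃ η : T, η ⤳ s ∧ ∀ η' : T, η' ⤳ η → η' = η := by
  have hC : irreducibleComponent s ∈ irreducibleComponents T :=
    irreducibleComponent_mem_irreducibleComponents s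
  obtain ⟨η, hη⟩ := QuasiSober.sober hC.1 (isClosed_of_mem_irreducibleComponents _ hC)
  refine ⟨η, hη.specializes mem_irreducibleComponent, ?_⟩
  intro c' hc'
  have h2 : irreducibleComponent s ⊆ closure {c'} := by
    rw [← hη.def]
    exact specializes_iff_closure_subset.mp hc'
  have h3 : IsIrreducible (closure ({c'} : Set T)) := isIrreducible_singleton.closure
  have h4 : closure ({c'} : Set T) ⊆ irreducibleComponent s := hC.2 h3 h2
  have h5 : IsGenericPoint c' (irreducibleComponent s) :=
    isGenericPoint_def.mpr (subset_antisymm h4 h2)
  exact h5.eq hη

theorem nGeomConnComp_ne_zero {X S : Scheme.{u}} (f : X ⟶ S) (s : S)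
    [Nonempty ↥(f.fiber s)] : MoreMor.nGeomConnComp f s ≠ 0 := by
  unfold MoreMor.nGeomConnComp
  rw [Ne, ENat.card_eq_zero_iff_empty, not_isEmpty_iff]
  obtain ⟨x⟩ := (inferInstance : Nonempty ↥(f.fiber s))
  obtain ⟨z, -, -⟩ := Scheme.Pullback.exists_preimage_pullback
    (f := f.fiberToSpecResidueField s)
    (g := Spec.map (CommRingCat.ofHom
      (algebraMap (S.residueField s) (SeparableClosure (S.residueField s)))))
    x (IsLocalRing.closedPoint (SeparableClosure (S.residueField s)))
    (Subsingleton.elim (α := PrimeSpectrum (S.residueField s)) _ _)
  exact ⟨ConnectedComponents.mk z⟩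

/-- The implication from the weakest fibrewise condition to the global one. Let S be a locally
Noetherian scheme and f : X → S a surjective, flat, separated morphism, locally of finite
presentation and quasi-compact, whose fibres are all smooth and proper over the residue fields and
whose fibres over the maximal points of S (points without proper generization) are geometrically
connected. Then f is proper and smooth with geometrically connected fibres. (The text states the
criterion over an arbitrary base, appealing to a limit argument it does not carry out, and without
the words separated and surjective, which its proof uses through the properness criterion it invokes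
and which are both needed: an abelian variety over the fraction field of a discrete valuation ring,
viewed over the ring, is flat of finite presentation with smooth proper fibres, the closed one
empty, and is not proper; and two copies of the projective line over a discrete valuation ring glued
along their generic fibres form a flat, surjective, finitely presented scheme over the ring with
smooth proper fibres and geometrically connected generic fibre which is neither separated nor
proper.) -/
theorem result
    {X S : Scheme.{u}} [IsLocallyNoetherian S] (f : X ⟶ S)
    [Surjective f] [Flat f] [IsSeparated f] [LocallyOfFinitePresentation f] [QuasiCompact f]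
    (hsm : ∀ s : S, Smooth (f.fiberToSpecResidueField s))
    (hpr : ∀ s : S, IsProper (f.fiberToSpecResidueField s))
    (hgen : ∀ η : S, (∀ η' : S, η' ⤳ η → η' = η) → GeometricallyConnected (f.fiberToSpecResidueField η)) :
    IsProper f ∧ Smooth f ∧ GeometricallyConnected f := by
  have : LocallyOfFiniteType f := inferInstance
  have hne : ∀ s : S, Nonempty ↥(f.fiber s) := fun s => by
    obtain ⟨x, hx⟩ := f.surjective s
    subst hx
    exact ⟨f.asFiber x⟩
  have hprop : IsProper f := by
    have H : ∀ s : S, ∃ U : S.Opens, s ∈ U ∧ IsProper (f ∣_ U) := fun s => by
      have := hne s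
      exact Groth.Agent.Lib.helper9.PropDvr.exists_isProper_restrict_of_flat f
        (fun η hη _ => hgen η hη) s (hpr s)
    choose U hsU hU using H
    refine IsZariskiLocalAtTarget.of_iSup_eq_top (P := @IsProper) U ?_ hU
    rw [eq_top_iff]
    intro s _
    exact TopologicalSpace.Opens.mem_iSup.mpr ⟨s, hsU s⟩
  have := hprop
  refine ⟨hprop, ?_, ?_⟩
  · rw [← Scheme.Hom.smoothLocus_eq_top_iff, eq_top_iff]
    intro x _
    have := hsm (f x)
    have : LocallyOfFinitePresentation (f.fiberToSpecResidueField (f x)) := inferInstance
    rw [Groth.Agent.S2156.result f x]
    refine ⟨Flat.stalkMap f x, ?_⟩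
    rw [Scheme.Hom.smoothLocus_eq_top]
    trivial
  · rw [Groth.Agent.Lib.helper9.NGeom.geometricallyConnected_iff]
    intro s
    obtain ⟨η, hηs, hηmax⟩ := exists_maximal_generization s
    have h1 : MoreMor.nGeomConnComp f η = 1 :=
      (Groth.Agent.Lib.helper9.NGeom.geometricallyConnected_fiber_iff f η).mp (hgen η hηmax)
    have hlsc := Groth.Agent.Lib.helper9.SemiCont.lowerSemicontinuous_of_flat f
    apply le_antisymm
    · by_contra hlt
      rw [not_le] at hlt
      have h2 := hlsc s 1 hlt
      have h3 : ∀ᶠ z in nhds η, 1 < MoreMor.nGeomConnComp f z := hηs.nhds_le_nhds h2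
      have h4 := h3.self_of_nhds
      rw [h1] at h4
      exact lt_irrefl _ h4
    · haveI := hne s
      exact Order.one_le_iff_ne_zero.mpr (nGeomConnComp_ne_zero f s)

end Groth.Agent.S19657
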