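import Groth.Statements.S19659
import Groth.Agent.Lib.Helper14.HomFlatFib1
import Groth.Agent.Lib.Helper14.AbSchFib4
import Groth.Agent.Lib.Helper5.GrpHomLocus7

set_option autoImplicit false
universe u
open CategoryTheory CategoryTheory.Limits MonoidalCategory CartesianMonoidalCategory MonObj GrpObj AlgebraicGeometry
open AbSch

namespace Groth.Agent.S19659

/-- Let S be a scheme, A and B abelian schemes over S (proper smooth S-group schemes with geometrically
connected fibres) and f : A → B a homomorphism. Then f is flat exactly when it is surjective. -/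
theorem result
    {S : Scheme.{u}} (A B : Over S) [GrpObj A] [IsProper A.hom] [Smooth A.hom] [GeometricallyConnected A.hom]
    [GrpObj B] [IsProper B.hom] [Smooth B.hom] [GeometricallyConnected B.hom]
    (f : A ⟶ B) [IsMonHom f] :
    Flat f.left ↔ Surjective f.left := by
  haveI : GeometricallyReduced B.hom :=
    Groth.Agent.Lib.Helper14.AbSchFib.geometricallyReduced_of_smooth B.hom
  constructor
  · intro hflat
    haveI : LocallyOfFinitePresentation f.left := Groth.Agent.Lib.helper5.GrpHomLocus.lfp_left' f
    haveI : IsProper (f.left ≫ B.hom) := by rw [Over.w f]; infer_instance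
    haveI : IsProper f.left := IsProper.of_comp f.left B.hom
    have hopen : IsOpen (Set.range f.left) := f.left.isOpenMap.isOpen_range
    have hclosed : IsClosed (Set.range f.left) := f.left.isClosedMap.isClosed_range
    refine ⟨fun b => ?_⟩
    haveI : ConnectedSpace ↥(B.hom.fiber (B.hom b)) :=
      GeometricallyConnected.connectedSpace_of_subsingleton
        (f := B.hom.fiberToSpecResidueField (B.hom b))
    have hconn : _root_.IsConnected (B.hom ⁻¹' {B.hom b}) := by
      rw [← Scheme.Hom.range_fiberι]
      exact isConnected_range (B.hom.fiberι (B.hom b)).continuous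
    have hmem : f.left (η[A].left (B.hom b)) ∈ B.hom ⁻¹' {B.hom b} := by
      show B.hom (f.left (η[A].left (B.hom b))) = B.hom b
      rw [← Scheme.Hom.comp_apply, Over.w f]
      exact Groth.Agent.Lib.helper5.GrpHomLocus.hom_unit_apply (B.hom b)
    have hsub : B.hom ⁻¹' {B.hom b} ⊆ Set.range f.left :=
      hconn.isPreconnected.subset_isClopen ⟨hclosed, hopen⟩ ⟨_, hmem, ⟨_, rfl⟩⟩
    exact hsub rfl
  · intro hsurj
    exact Groth.Agent.Lib.Helper14.HomFlatFib.flat_of_surjective_of_geometricallyReduced A B f

end Groth.Agent.S19659
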