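import Groth.Statements.S1966
import Groth.Agent.Lib.Helper12.HenselPair
-- import your own Groth.Agent.* helpers here

set_option autoImplicit false
universe u
open EtAlg

namespace Groth.Agent.S1966

section helpers
open Polynomial Groth.Agent.Lib.helper12

section
variable (A : Type u) [CommRing A] (As : ℕ → Type u) [∀ k, CommRing (As k)]
    (t : ∀ k, As (k + 1) →+* As k)
    (hnil : ∀ k (x : As (k + 1)), t k x = 0 → IsNilpotent x)
    (p : ∀ k, A →+* As k) (hp : ∀ k, (t k).comp (p (k + 1)) = p k)

include hp in
theorem tp (k : ℕ) (a : A) : t k (p (k + 1) a) = p k a := RingHom.congr_fun (hp k) a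

include hp in
theorem ker_le (j : ℕ) (x : A) : ∀ k, j ≤ k → p k x = 0 → p j x = 0 := by
  intro k hjk
  induction k, hjk using Nat.le_induction with
  | base => exact id
  | succ k _ ih =>
    intro h
    apply ih
    rw [← tp A As t p hp, h, map_zero]

include hp hnil in
theorem nilp (k : ℕ) (x : A) (hx : p k x = 0) : ∀ j, IsNilpotent (p j x) := by
  intro j
  rcases le_total j k with hjk | hkj
  · rw [ker_le A As t p hp j x k hjk hx]
    exact IsNilpotent.zero
  · induction j, hkj using Nat.le_induction with
    | base => rw [hx]; exact IsNilpotent.zero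
    | succ j _ ih =>
      obtain ⟨n, hn⟩ := ih
      have : t j (p (j + 1) x ^ n) = 0 := by
        rw [map_pow, tp A As t p hp, hn]
      obtain ⟨m, hm⟩ := hnil j _ this
      exact ⟨n * m, by rw [pow_mul, hm]⟩

end

/-- uniqueness of roots near a point with invertible derivative -/
theorem root_unique {R : Type u} [CommRing R] (f : R[X]) (c b b' : R)
    (hu : IsUnit (f.derivative.eval c)) (hb : f.eval b = 0) (hb' : f.eval b' = 0)
    (hn : IsNilpotent (b - c)) (hn' : IsNilpotent (b' - c)) : b = b' := by
  obtain ⟨d, hd⟩ := Polynomial.exists_mul_sq_add_linear_part_eq_eval_add f b (b' - b)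
  rw [add_sub_cancel, hb, hb', add_zero] at hd
  have hub : IsUnit (f.derivative.eval b) := isUnit_eval_of_isNilpotent_sub _ c b hn hu
  have hdiff : IsNilpotent (b' - b) := by
    have : b' - b = (b' - c) - (b - c) := by ring
    rw [this]
    exact (Commute.all _ _).isNilpotent_sub hn' hn
  have hunit : IsUnit (f.derivative.eval b + d * (b' - b)) :=
    ((Commute.all _ _).isNilpotent_mul_left hdiff).isUnit_add_left_of_commute hub (Commute.all _ _)
  have e : (b' - b) * (f.derivative.eval b + d * (b' - b)) = 0 := by
    linear_combination hd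
  have := (hunit.mul_left_eq_zero).1 e
  exact (sub_eq_zero.1 this).symm

theorem main (A : Type u) [CommRing A] (As : ℕ → Type u) [∀ k, CommRing (As k)]
    (t : ∀ k, As (k + 1) →+* As k) (ht : ∀ k, Function.Surjective (t k))
    (hnil : ∀ k (x : As (k + 1)), t k x = 0 → IsNilpotent x)
    (p : ∀ k, A →+* As k) (hp : ∀ k, (t k).comp (p (k + 1)) = p k)
    (hinj : ∀ a b : A, (∀ k, p k a = p k b) → a = b)
    (hsurj : ∀ x : ∀ k, As k, (∀ k, t k (x (k + 1)) = x k) → ∃ a : A, ∀ k, p k a = x k) (k : ℕ) :
    HenselianRing A (RingHom.ker (p k)) := by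
  have htp := tp A As t p hp
  have hN := nilp A As t hnil p hp k
  constructor
  · -- Jacobson
    intro x hx
    rw [Ideal.mem_jacobson_bot]
    intro y
    have hz : p k (x * y) = 0 := by
      rw [map_mul, RingHom.mem_ker.1 hx, zero_mul]
    have hunit : ∀ j, IsUnit (p j (x * y + 1)) := by
      intro j
      rw [map_add, map_one]
      exact (hN _ hz j).isUnit_add_one
    choose u hu using fun j => (hunit j).exists_right_inv
    have hcompat : ∀ j, t j (u (j + 1)) = u j := by
      intro j
      have h1 : p j (x * y + 1) * t j (u (j + 1)) = 1 := by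
        rw [← htp, ← map_mul, hu, map_one]
      calc t j (u (j + 1)) = (u j * p j (x * y + 1)) * t j (u (j + 1)) := by
            rw [mul_comm (u j), hu, one_mul]
        _ = u j * (p j (x * y + 1) * t j (u (j + 1))) := by ring
        _ = u j := by rw [h1, mul_one]
    obtain ⟨w, hw⟩ := hsurj u hcompat
    refine IsUnit.of_mul_eq_one w ?_
    apply hinj
    intro j
    rw [map_mul, hw, hu, map_one]
  · intro f hf a₀ h₁ h₂
    -- derivative is a unit at every level
    obtain ⟨c', hc'⟩ := h₂.exists_right_inv
    obtain ⟨c, rfl⟩ := Ideal.Quotient.mk_surjective c'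
    rw [← map_mul, ← map_one (Ideal.Quotient.mk _), Ideal.Quotient.eq, RingHom.mem_ker] at hc'
    have hder : ∀ j, IsUnit ((f.map (p j)).derivative.eval (p j a₀)) := by
      intro j
      rw [derivative_map, eval_map, eval₂_at_apply]
      have h3 := hN _ hc' j
      rw [map_sub, map_mul, map_one] at h3
      have h4 : IsUnit (p j (f.derivative.eval a₀) * p j c) := by
        have := h3.isUnit_add_one
        simpa using this
      exact isUnit_of_mul_isUnit_left h4
    have hval : ∀ j, IsNilpotent ((f.map (p j)).eval (p j a₀)) := by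
      intro j
      rw [eval_map, eval₂_at_apply]
      exact hN _ (RingHom.mem_ker.1 h₁) j
    have hex : ∀ j, ∃ b : As j, (f.map (p j)).eval b = 0 ∧ IsNilpotent (b - p j a₀) := by
      intro j
      obtain ⟨b, hb, hb'⟩ := newton_isNilpotent (f.map (p j)) (p j a₀) (hval j) (hder j)
      refine ⟨b, hb, ?_⟩
      obtain ⟨d, hd⟩ := Ideal.mem_span_singleton.1 hb'
      rw [hd]
      exact (Commute.all _ _).isNilpotent_mul_right (hval j)
    choose b hb hb' using hex
    have hmapt : ∀ j, (f.map (p (j + 1))).map (t j) = f.map (p j) := by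
      intro j
      rw [Polynomial.map_map, hp]
    have hcompat : ∀ j, t j (b (j + 1)) = b j := by
      intro j
      apply root_unique (f.map (p j)) (p j a₀) _ _ (hder j) _ (hb j) _ (hb' j)
      · rw [← hmapt, eval_map, eval₂_at_apply, hb, map_zero]
      · rw [← htp, ← map_sub]
        exact (hb' (j + 1)).map (t j)
    obtain ⟨a, ha⟩ := hsurj b hcompat
    refine ⟨a, ?_, ?_⟩
    · apply hinj
      intro j
      rw [map_zero, ← eval₂_at_apply, ← eval_map, ha, hb]
    · rw [RingHom.mem_ker, map_sub, ha, sub_eq_zero]
      apply root_unique (f.map (p k)) (p k a₀) _ _ (hder k) (hb k) _ (hb' k)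
      · rw [sub_self]; exact IsNilpotent.zero
      · rw [eval_map, eval₂_at_apply, RingHom.mem_ker.1 h₁]


end helpers

/-- Towers indexed by the natural numbers: let (A_k) be rings with surjective transition maps A_{k+1} ->
A_k whose kernels consist of nilpotent elements, and let A be a ring with compatible projections p_k
: A -> A_k identifying A with the set of compatible sequences (p is jointly injective and every
compatible sequence comes from an element of A). Then for every k the pair (A, ker p_k) is
henselian. -/
theorem result (A : Type u) [CommRing A] (As : ℕ → Type u) [∀ k, CommRing (As k)]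
    (t : ∀ k, As (k + 1) →+* As k) (ht : ∀ k, Function.Surjective (t k))
    (hnil : ∀ k (x : As (k + 1)), t k x = 0 → IsNilpotent x)
    (p : ∀ k, A →+* As k) (hp : ∀ k, (t k).comp (p (k + 1)) = p k)
    (hinj : ∀ a b : A, (∀ k, p k a = p k b) → a = b)
    (hsurj : ∀ x : ∀ k, As k, (∀ k, t k (x (k + 1)) = x k) → ∃ a : A, ∀ k, p k a = x k) (k : ℕ) :
    HenselianRing A (RingHom.ker (p k)) := by
  exact main A As t ht hnil p hp hinj hsurj k

end Groth.Agent.S1966
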