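import Groth.Statements.S19660
import Mathlib
-- import your own Groth.Agent.* helpers here

set_option autoImplicit false
universe u v
open AbVar

namespace Groth.Agent.S19660

section helpers
open Polynomial

variable {k : Type u} [Field k] {V : Type v} [AddCommGroup V] [Module k V]
    (B : LinearMap.BilinForm k V) (q : k) (M : V ≃ₗ[k] V)
    (hM : ∀ x y : V, B (M x) (M y) = q * B x y)

local notation "T" => ((M : V ≃ₗ[k] V) : Module.End k V)
local notation "I" => (1 : Module.End k V)

include hM in
/-- left adjunction: `B ((M-1)^n x) (M^n z) = (-1)^n B x ((M - q)^n z)` -/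
lemma adjL (n : ℕ) (x z : V) :
    B (((T - (1:k) • I) ^ n) x) ((T ^ n) z) = (-1) ^ n * B x (((T - q • I) ^ n) z) := by
  induction n generalizing x z with
  | zero => simp
  | succ n ih =>
    have base : ∀ a b : V, B ((T - (1:k) • I) a) (T b) = (-1) * B a ((T - q • I) b) := by
      intro a b
      simp only [LinearMap.sub_apply, Module.End.one_apply, LinearMap.smul_apply, map_sub,
        LinearEquiv.coe_coe, map_smul, smul_eq_mul, one_smul]
      rw [hM]; ring
    have hc : Commute (T ^ n) (T - q • I) := by
      apply Commute.sub_right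
      · exact (Commute.refl T).pow_left n
      · exact (Commute.one_right _).smul_right q
    calc B (((T - (1:k) • I) ^ (n + 1)) x) ((T ^ (n + 1)) z)
        = B ((T - (1:k) • I) (((T - (1:k) • I) ^ n) x)) (T ((T ^ n) z)) := by
          rw [pow_succ', pow_succ', Module.End.mul_apply, Module.End.mul_apply]
      _ = (-1) * B (((T - (1:k) • I) ^ n) x) ((T - q • I) ((T ^ n) z)) := base _ _
      _ = (-1) * B (((T - (1:k) • I) ^ n) x) ((T ^ n) ((T - q • I) z)) := by
          rw [← Module.End.mul_apply, ← hc.eq, Module.End.mul_apply]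
      _ = (-1) * ((-1) ^ n * B x (((T - q • I) ^ n) ((T - q • I) z))) := by rw [ih]
      _ = (-1) ^ (n + 1) * B x (((T - q • I) ^ (n + 1)) z) := by
          rw [pow_succ (T - q • I), Module.End.mul_apply]; ring

include hM in
/-- right adjunction: `B (M^n z) ((M-q)^n y) = (-q)^n B ((M - 1)^n z) y` -/
lemma adjR (n : ℕ) (z y : V) :
    B ((T ^ n) z) (((T - q • I) ^ n) y) = (-q) ^ n * B (((T - (1:k) • I) ^ n) z) y := by
  induction n generalizing z y with
  | zero => simp
  | succ n ih =>
    have base : ∀ a b : V, B (T a) ((T - q • I) b) = (-q) * B ((T - (1:k) • I) a) b := by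
      intro a b
      simp only [LinearMap.sub_apply, Module.End.one_apply, LinearMap.smul_apply, map_sub,
        LinearEquiv.coe_coe, map_smul, smul_eq_mul, one_smul]
      rw [hM]; ring
    have hc : Commute (T ^ n) (T - (1:k) • I) := by
      apply Commute.sub_right
      · exact (Commute.refl T).pow_left n
      · exact (Commute.one_right _).smul_right 1
    calc B ((T ^ (n + 1)) z) (((T - q • I) ^ (n + 1)) y)
        = B (T ((T ^ n) z)) ((T - q • I) (((T - q • I) ^ n) y)) := by
          rw [pow_succ', pow_succ', Module.End.mul_apply, Module.End.mul_apply]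
      _ = (-q) * B ((T - (1:k) • I) ((T ^ n) z)) (((T - q • I) ^ n) y) := base _ _
      _ = (-q) * B ((T ^ n) ((T - (1:k) • I) z)) (((T - q • I) ^ n) y) := by
          rw [← Module.End.mul_apply, ← hc.eq, Module.End.mul_apply]
      _ = (-q) * ((-q) ^ n * B (((T - (1:k) • I) ^ n) ((T - (1:k) • I) z)) y) := by rw [ih]
      _ = (-q) ^ (n + 1) * B (((T - (1:k) • I) ^ (n + 1)) z) y := by
          rw [pow_succ (T - (1:k) • I), Module.End.mul_apply]; ring

/-- a vector killed by a power of `f - a` lies in the image of every power of `f - b`, `a ≠ b` -/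
lemma mem_range_pow (f : Module.End k V) (a b : k) (hab : a ≠ b) (m n : ℕ) (x : V)
    (hx : ((f - a • I) ^ m) x = 0) : ∃ z, ((f - b • I) ^ n) z = x := by
  have hcop : IsCoprime ((X - C a : k[X]) ^ m) ((X - C b) ^ n) :=
    (isCoprime_X_sub_C_of_isUnit_sub (sub_ne_zero_of_ne hab).isUnit).pow
  obtain ⟨u, v, huv⟩ := hcop
  have ea : aeval f (X - C a : k[X]) = f - a • I := by
    rw [map_sub, aeval_X, aeval_C, Algebra.algebraMap_eq_smul_one]
  have eb : aeval f (X - C b : k[X]) = f - b • I := by
    rw [map_sub, aeval_X, aeval_C, Algebra.algebraMap_eq_smul_one]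
  have h1 : aeval f (u * (X - C a) ^ m + v * (X - C b) ^ n) x = x := by
    rw [huv]; simp
  rw [map_add, map_mul, map_mul, map_pow, map_pow, ea, eb, LinearMap.add_apply,
    Module.End.mul_apply, Module.End.mul_apply, hx, map_zero, zero_add] at h1
  have hc : Commute (aeval f v) ((f - b • I) ^ n) := by
    rw [← eb, ← map_pow]
    exact (Commute.all v ((X - C b) ^ n)).map (aeval f)
  refine ⟨aeval f v x, ?_⟩
  rw [← Module.End.mul_apply, ← hc.eq, Module.End.mul_apply]
  exact h1

end helpers

/-- The text applies this to the Frobenius acting on the points of prime order of a principally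
polarised abelian variety over a finite field with q elements and to their Weil pairing. Let k be a
field, V a finite-dimensional k-vector space with a nondegenerate bilinear form B, q a nonzero
element of k and M a linear automorphism of V with B(Mx, My) = q·B(x, y) for all x, y. Write V₁ and
V_q for the generalized eigenspaces of M at 1 and at q. Then every vector of V₁ that is B-orthogonal
to all of V_q is zero, every vector of V_q that is B-orthogonal (on the right) to all of V₁ is zero,
and when q ≠ 1 the form B vanishes identically on V₁ × V₁ and on V_q × V_q. (The text asserts this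
as the evident adaptation, to a form scaled by q, of the orthogonality and nondegeneracy facts for
generalized kernels of an automorphism preserving a form; the abstract statement is recorded here,
the application to the Weil pairing needing that pairing's formalism.) -/
theorem result
    {k : Type u} [Field k] {V : Type v} [AddCommGroup V] [Module k V] [FiniteDimensional k V]
    (B : LinearMap.BilinForm k V) (hB : B.Nondegenerate) (q : k) (hq : q ≠ 0)
    (M : V ≃ₗ[k] V) (hM : ∀ x y : V, B (M x) (M y) = q * B x y) :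
    (∀ x ∈ Module.End.maxGenEigenspace (M : Module.End k V) 1,
        (∀ y ∈ Module.End.maxGenEigenspace (M : Module.End k V) q, B x y = 0) → x = 0) ∧
      (∀ y ∈ Module.End.maxGenEigenspace (M : Module.End k V) q,
        (∀ x ∈ Module.End.maxGenEigenspace (M : Module.End k V) 1, B x y = 0) → y = 0) ∧
      (q ≠ 1 → ∀ x ∈ Module.End.maxGenEigenspace (M : Module.End k V) 1,
        ∀ x' ∈ Module.End.maxGenEigenspace (M : Module.End k V) 1, B x x' = 0) ∧
      (q ≠ 1 → ∀ y ∈ Module.End.maxGenEigenspace (M : Module.End k V) q,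
        ∀ y' ∈ Module.End.maxGenEigenspace (M : Module.End k V) q, B y y' = 0) := by
  -- F1: x ∈ V₁ is orthogonal to the image of a power of `M - q`
  have F1 : ∀ x ∈ Module.End.maxGenEigenspace (M : Module.End k V) 1,
      ∃ n : ℕ, ∀ z : V, B x (((((M : V ≃ₗ[k] V) : Module.End k V) - q • 1) ^ n) z) = 0 := by
    intro x hx
    obtain ⟨n, hn⟩ := (Module.End.mem_maxGenEigenspace _ _ _).mp hx
    refine ⟨n, fun z => ?_⟩
    have hsurj : ∀ j : ℕ, Function.Surjective ((((M : V ≃ₗ[k] V) : Module.End k V) ^ j)) := by
      intro j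
      induction j with
      | zero => intro v; exact ⟨v, by simp⟩
      | succ j ih => rw [pow_succ]; exact ih.comp M.surjective
    have h := adjL B q M hM n x z
    rw [hn] at h
    simp only [map_zero, LinearMap.zero_apply] at h
    have hne : ((-1 : k)) ^ n ≠ 0 := pow_ne_zero _ (by simp)
    exact (mul_eq_zero.mp h.symm).resolve_left hne
  -- F2: y ∈ V_q is orthogonal to the image of a power of `M - 1`
  have F2 : ∀ y ∈ Module.End.maxGenEigenspace (M : Module.End k V) q,
      ∃ n : ℕ, ∀ z : V, B (((((M : V ≃ₗ[k] V) : Module.End k V) - (1:k) • 1) ^ n) z) y = 0 := by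
    intro y hy
    obtain ⟨n, hn⟩ := (Module.End.mem_maxGenEigenspace _ _ _).mp hy
    refine ⟨n, fun z => ?_⟩
    have h := adjR B q M hM n z y
    rw [hn] at h
    simp only [map_zero] at h
    have hne : (-q) ^ n ≠ 0 := pow_ne_zero _ (neg_ne_zero.mpr hq)
    exact (mul_eq_zero.mp h.symm).resolve_left hne
  have Vq : Module.End.maxGenEigenspace (M : Module.End k V) q =
      ⨆ n : ℕ, LinearMap.ker (((((M : V ≃ₗ[k] V) : Module.End k V) - q • 1) ^ n)) := by
    rw [← Module.End.iSup_genEigenspace_eq]; simp_rw [Module.End.genEigenspace_nat]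
  have V1 : Module.End.maxGenEigenspace (M : Module.End k V) 1 =
      ⨆ n : ℕ, LinearMap.ker (((((M : V ≃ₗ[k] V) : Module.End k V) - (1:k) • 1) ^ n)) := by
    rw [← Module.End.iSup_genEigenspace_eq]; simp_rw [Module.End.genEigenspace_nat]
  refine ⟨?_, ?_, ?_, ?_⟩
  · intro x hx h
    obtain ⟨n, hn⟩ := F1 x hx
    apply hB.1 x
    intro v
    have hcompl := LinearMap.isCompl_iSup_ker_pow_iInf_range_pow
      ((((M : V ≃ₗ[k] V) : Module.End k V) - q • 1))
    obtain ⟨a, ha, b, hb, rfl⟩ := Submodule.mem_sup.mp
      (by rw [hcompl.sup_eq_top]; exact Submodule.mem_top : v ∈ _ ⊔ _)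
    obtain ⟨z, rfl⟩ : b ∈ LinearMap.range _ := (Submodule.mem_iInf _).mp hb n
    rw [map_add, hn z, add_zero]
    exact h a (by rw [Vq]; exact ha)
  · intro y hy h
    obtain ⟨n, hn⟩ := F2 y hy
    apply hB.2 y
    intro v
    have hcompl := LinearMap.isCompl_iSup_ker_pow_iInf_range_pow
      ((((M : V ≃ₗ[k] V) : Module.End k V) - (1:k) • 1))
    obtain ⟨a, ha, b, hb, rfl⟩ := Submodule.mem_sup.mp
      (by rw [hcompl.sup_eq_top]; exact Submodule.mem_top : v ∈ _ ⊔ _)
    obtain ⟨z, rfl⟩ : b ∈ LinearMap.range _ := (Submodule.mem_iInf _).mp hb n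
    rw [map_add, LinearMap.add_apply, hn z, add_zero]
    exact h a (by rw [V1]; exact ha)
  · intro hq1 x hx x' hx'
    obtain ⟨n, hn⟩ := F1 x hx
    obtain ⟨m, hm⟩ := (Module.End.mem_maxGenEigenspace _ _ _).mp hx'
    obtain ⟨z, rfl⟩ := mem_range_pow (M : Module.End k V) 1 q (Ne.symm hq1) m n x' hm
    exact hn z
  · intro hq1 y hy y' hy'
    obtain ⟨n, hn⟩ := F2 y' hy'
    obtain ⟨m, hm⟩ := (Module.End.mem_maxGenEigenspace _ _ _).mp hy
    obtain ⟨z, rfl⟩ := mem_range_pow (M : Module.End k V) q 1 hq1 m n y hm
    exact hn z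

end Groth.Agent.S19660
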