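import Groth.Statements.S1968
import Mathlib

set_option autoImplicit false
universe u
open EtAlg

namespace Groth.Agent.S1968


section aux

theorem gcd_aux {V : Type u} [CommRing V] [IsDomain V] [ValuationRing V] {l : ℕ} (v : Fin l → V) :
    ∃ (d : V) (c b : Fin l → V), (∀ i, v i = c i * d) ∧ d = ∑ i, b i * v i := by
  have hfg : (Ideal.span (Set.range v)).FG := Submodule.fg_span (Set.finite_range v)
  obtain ⟨⟨d, hd⟩⟩ := IsBezout.isPrincipal_of_FG _ hfg
  have hdmem : d ∈ Ideal.span (Set.range v) := by
    rw [hd]; exact Submodule.mem_span_singleton_self d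
  obtain ⟨b, hb⟩ := (Submodule.mem_span_range_iff_exists_fun V).mp hdmem
  have hv : ∀ i, ∃ c, v i = c * d := by
    intro i
    have h1 : v i ∈ Ideal.span (Set.range v) := Ideal.subset_span ⟨i, rfl⟩
    rw [hd] at h1
    obtain ⟨c, hc⟩ := Submodule.mem_span_singleton.mp h1
    exact ⟨c, by rw [← hc, smul_eq_mul]⟩
  choose c hc using hv
  exact ⟨d, c, b, hc, by rw [← hb]; simp [smul_eq_mul]⟩

theorem flat_aux {J : Type u} (A : J → Type u) [∀ j, CommRing (A j)] [∀ j, IsDomain (A j)]
    [∀ j, ValuationRing (A j)] (I : Ideal (∀ j, A j)) : Module.Flat (∀ j, A j) I := by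
  classical
  apply Module.Flat.of_forall_isTrivialRelation
  intro l f x hfx
  choose d c b hc hb using fun j => gcd_aux (fun i => (x i : ∀ j, A j) j)
  let e : ∀ j, A j := fun j => if d j = 0 then 0 else 1
  let y : I := ∑ i, (fun j => b j i) • x i
  have hy : ∀ j, (y : ∀ j, A j) j = d j := by
    intro j
    rw [hb j]
    simp [y, Submodule.coe_sum, Finset.sum_apply, Pi.smul_apply, smul_eq_mul]
  have hfx' : ∀ j, ∑ i, f i j * (x i : ∀ j, A j) j = 0 := by
    intro j
    have := congrArg (fun z : I => (z : ∀ j, A j) j) hfx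
    simpa [Submodule.coe_sum, Finset.sum_apply, Pi.smul_apply, smul_eq_mul] using this
  refine ⟨1, fun i _ => fun j => c j i * e j, fun _ => y, ?_, ?_⟩
  · intro i
    simp only [Finset.univ_unique, Finset.sum_singleton]
    apply Subtype.ext
    funext j
    show (x i : ∀ j, A j) j = (c j i * e j) * (y : ∀ j, A j) j
    rw [hy j, hc j i]
    by_cases h0 : d j = 0
    · simp [e, h0]
    · simp [e, h0]
  · intro _
    funext j
    simp only [Finset.sum_apply, Pi.mul_apply, Pi.zero_apply]
    by_cases h0 : d j = 0
    · simp [e, h0]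
    · have h1 : (∑ i, f i j * c j i) * d j = 0 := by
        rw [Finset.sum_mul, ← hfx' j]
        apply Finset.sum_congr rfl
        intro i _
        rw [hc j i]; ring
      have h2 := (mul_eq_zero.mp h1).resolve_right h0
      simpa [e, h0] using h2

theorem nzd_aux {J : Type u} (A : J → Type u) [∀ j, CommRing (A j)] [∀ j, IsDomain (A j)] :
    nonZeroDivisors (∀ j, A j) = Submonoid.pi Set.univ (fun j => nonZeroDivisors (A j)) := by
  classical
  ext x
  simp only [Submonoid.mem_pi, Set.mem_univ, true_implies, mem_nonZeroDivisors_iff_ne_zero]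
  constructor
  · intro hx j h0
    have h1 := (mem_nonZeroDivisors_iff.mp hx).1 (Pi.single j 1) (by
      funext k
      by_cases hk : k = j
      · subst hk; simp [h0]
      · simp [Pi.single_eq_of_ne hk])
    have h2 := congrFun h1 j
    simp at h2
  · intro hx
    rw [mem_nonZeroDivisors_iff]
    refine ⟨fun y hy => ?_, fun y hy => ?_⟩
    · funext j
      have h1 := congrFun hy j
      simp only [Pi.mul_apply, Pi.zero_apply] at h1
      exact (mul_eq_zero.mp h1).resolve_left (hx j)
    · funext j
      have h1 := congrFun hy j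
      simp only [Pi.mul_apply, Pi.zero_apply] at h1
      exact (mul_eq_zero.mp h1).resolve_right (hx j)

end aux


/-- Let (A_j) be a family of valuation rings with fraction fields K_j. Then every ideal of the product
ring Π A_j is a flat Π A_j-module (that is, Π A_j has weak dimension at most 1), and Π K_j is the
localization of Π A_j at its non-zero-divisors. -/
theorem result {J : Type u} (A : J → Type u) [∀ j, CommRing (A j)] [∀ j, IsDomain (A j)]
    [∀ j, ValuationRing (A j)] (K : J → Type u) [∀ j, Field (K j)] [∀ j, Algebra (A j) (K j)]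
    [∀ j, IsFractionRing (A j) (K j)] :
    (∀ I : Ideal (∀ j, A j), Module.Flat (∀ j, A j) I) ∧
      IsLocalization (nonZeroDivisors (∀ j, A j)) (∀ j, K j) := by
  refine ⟨fun I => flat_aux A I, ?_⟩
  rw [nzd_aux A]
  infer_instance


end Groth.Agent.S1968
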