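import Groth.Statements.S19701
import Mathlib
import Groth.Agent.Lib.Helper15.TraceCover
import Groth.Agent.Lib.Helper18.P1Euler
import Groth.Agent.Lib.Helper9.CurveVanish
import Groth.Agent.Lib.Helper14.AbVarComm
import Groth.Agent.Lib.Helper19.ProjSpaceProper

set_option autoImplicit false
set_option linter.style.haveILetI false
universe u
open CategoryTheory CategoryTheory.Limits AlgebraicGeometry Opposite
open Curves

namespace Groth.Agent.S19701

/-- Let k be an algebraically closed field of characteristic different from 2 and X a hyperelliptic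
curve of genus g over k: X → Spec k is smooth and proper, X is connected of dimension one with g =
dim_k H¹(X, O_X) ≥ 2, and h : X → P¹_k is a k-morphism which is a double cover (finite, flat,
locally of finite presentation, of rank 2 at every point). Let τ : h_*O_X → O_{P¹} be the trace of h
(the O-linear map which over every affine open of P¹_k where h_*O_X is finite free is the trace of
the regular representation). Then the kernel of τ — an invertible sheaf on P¹_k — has degree −g − 1,
the degree of a rank-one sheaf E on P¹_k being χ(E) − χ(O). (On P¹_k this says that ker τ is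
isomorphic to O(−g − 1); only the degree is asserted here.) -/
theorem result (k : Type u) [Field k] [IsAlgClosed k]
    (h2 : (2 : k) ≠ 0) {X : Scheme.{u}} (p : X ⟶ Spec (CommRingCat.of k)) [IsProper p] [Smooth p]
    [ConnectedSpace ↥X] (hX : topologicalKrullDim ↥X = 1) (hg : 2 ≤ @Curv2.genus k _ X ⟨p⟩)
    (h : X ⟶ CohB1.ProjSpace 1 k) (hh : h ≫ CohB1.ProjSpace.toSpec 1 k = p)
    [IsFinite h] [Flat h] [LocallyOfFinitePresentation h]
    (hr : ∀ y : ↥(CohB1.ProjSpace 1 k), h.finrank y = 2)
    (τ : (Scheme.Modules.pushforward h).obj (Coh.structureModule X) ⟶ Coh.structureModule (CohB1.ProjSpace 1 k))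
    (hτ : FinCov.IsTraceHom h τ) :
    @Curv2.deg k _ (CohB1.ProjSpace 1 k) ⟨CohB1.ProjSpace.toSpec 1 k⟩ (kernel τ) 1 =
      -((@Curv2.genus k _ X ⟨p⟩ : ℤ) + 1) := by
  letI : X.Over (Spec (CommRingCat.of k)) := ⟨p⟩
  haveI : IsProper (X ↘ Spec (CommRingCat.of k)) := inferInstanceAs (IsProper p)
  haveI : IsProper (CohB1.ProjSpace 1 k ↘ Spec (CommRingCat.of k)) :=
    Groth.Agent.Lib.helper19.ProjSpaceProper.proper_toSpec 1 k
  haveI : IsIntegral X := Groth.Agent.Lib.Helper14.AbVarComm.isIntegral_of_smooth_connected p
  have h0 : Module.finrank k (Coh.HH X (Coh.structureModule X) 0) = 1 :=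
    Groth.Agent.Lib.helper9.CurveVanish.finrank_H0_structureModule_eq_one k X
  have hOq : Coh.IsQCoh (Coh.structureModule X) := inferInstance
  have hχX : Curv2.euler k X (Coh.structureModule X) = 1 - (Curv2.genus k X : ℤ) := by
    rw [Groth.Agent.Lib.Lead.CurveEuler.euler_eq k X hX.le _ hOq, h0]
    rfl
  have hχP : Curv2.euler k (CohB1.ProjSpace 1 k) (Coh.structureModule (CohB1.ProjSpace 1 k)) = 1 := by
    rw [Groth.Agent.Lib.Helper18.HH.euler_eq_sum k _ 0 (fun i hi =>
      Groth.Agent.Lib.Helper18.P1Euler.subsingleton_HH_projSpace k 1 i (by omega))]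
    simp [Groth.Agent.Lib.Helper18.P1Euler.finrank_H0_projSpace]
  have hker := Groth.Agent.Lib.helper15.TraceCover.euler_kernel_trace h k hh τ hτ 2 hr
    (by exact_mod_cast h2)
  change Curv2.euler k _ (kernel τ) - ((1 : ℕ) : ℤ) * Curv2.euler k _ (Coh.structureModule _) = _
  rw [hker, hχX, hχP]
  push_cast
  ring

end Groth.Agent.S19701
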