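import Groth.Statements.S19703
import Groth.Agent.S14578
import Groth.Agent.Lib.Helper14.HomImage3
import Groth.Agent.Lib.Helper12.Chow1

set_option autoImplicit false
universe u
open CategoryTheory MonoidalCategory CartesianMonoidalCategory MonObj GrpObj AlgebraicGeometry CategoryTheory.Limits
open AlgGrp

namespace Groth.Agent.S19703

/-- Let k be a field, G an anti-affine algebraic group over k (smooth, of finite type, with O(G) = k), H
a connected k-group scheme of finite type and j : M → H its largest anti-affine closed subgroup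
scheme H_ant (O(M) = k and every anti-affine closed subgroup scheme of H factors through M). Then
every morphism of k-schemes f : G → H with f(e_G) = e_H factors through H_ant. -/
theorem result (k : Type u) [Field k]
    (G H : Over (Spec (CommRingCat.of k))) [GrpObj G] [Smooth G.hom] [QuasiCompact G.hom]
    (hG : Function.Bijective ((Scheme.ΓSpecIso (CommRingCat.of k)).inv ≫ G.hom.appTop).hom)
    [GrpObj H] [LocallyOfFiniteType H.hom] [QuasiCompact H.hom] [ConnectedSpace ↥H.left]
    (M : Over (Spec (CommRingCat.of k))) [GrpObj M] [LocallyOfFiniteType M.hom] [QuasiCompact M.hom] (j : M ⟶ H) [IsMonHom j] [IsClosedImmersion j.left]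
    (hM : Function.Bijective ((Scheme.ΓSpecIso (CommRingCat.of k)).inv ≫ M.hom.appTop).hom)
    (hMmax : ∀ (M₁ : Over (Spec (CommRingCat.of k))) [GrpObj M₁] [LocallyOfFiniteType M₁.hom] [QuasiCompact M₁.hom] (j₁ : M₁ ⟶ H) [IsMonHom j₁] [IsClosedImmersion j₁.left],
      Function.Bijective ((Scheme.ΓSpecIso (CommRingCat.of k)).inv ≫ M₁.hom.appTop).hom → ∃ g : M₁ ⟶ M, g ≫ j = j₁)
    (f : G ⟶ H) (hf : η[G] ≫ f = η[H]) :
    ∃ g : G ⟶ M, g ≫ j = f := by
  classical
  haveI : LocallyOfFiniteType G.hom := inferInstance
  have hfhom : IsMonHom f := Groth.Agent.S14578.result k G H hG f hf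
  haveI : CompactSpace G.left :=
    (HasAffineProperty.iff_of_isAffine (P := @QuasiCompact) (f := G.hom)).mp inferInstance
  haveI : IsLocallyNoetherian H.left := LocallyOfFiniteType.isLocallyNoetherian H.hom
  haveI : QuasiSeparatedSpace H.left := inferInstance
  haveI : QuasiCompact f.left := inferInstance
  -- the schematic image
  let K : Over (Spec (CommRingCat.of k)) := Over.mk (f.left.imageι ≫ H.hom)
  let i : K ⟶ H := Over.homMk f.left.imageι rfl
  let g : G ⟶ K := Over.homMk f.left.toImage (by
    show f.left.toImage ≫ f.left.imageι ≫ H.hom = G.hom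
    rw [← Category.assoc, f.left.toImage_imageι, Over.w f])
  have hgi : g ≫ i = f := by
    apply Over.OverMorphism.ext
    exact f.left.toImage_imageι
  haveI : IsClosedImmersion i.left := inferInstanceAs (IsClosedImmersion f.left.imageι)
  haveI : QuasiCompact g.left := inferInstanceAs (QuasiCompact f.left.toImage)
  haveI : IsSchemeTheoreticallyDominant g.left :=
    ⟨Groth.Agent.Lib.helper12.Chow1.ker_toImage f.left⟩
  haveI : Mono i.left := inferInstance
  haveI : Mono i := Over.mono_of_mono_left i
  obtain ⟨d, hd⟩ := Groth.Agent.Lib.Helper14.HomImage.exists_div f i g hgi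
  have he : (η[G] ≫ g) ≫ i = η[H] := by rw [Category.assoc, hgi, hf]
  obtain ⟨str, hstr⟩ := Groth.Agent.Lib.Helper14.HomImage.exists_grpObj_of_div i (η[G] ≫ g) he d hd
  letI := str
  haveI : IsMonHom i := hstr
  haveI : LocallyOfFiniteType K.hom :=
    inferInstanceAs (LocallyOfFiniteType (f.left.imageι ≫ H.hom))
  haveI : QuasiCompact K.hom := inferInstanceAs (QuasiCompact (f.left.imageι ≫ H.hom))
  have hK : Function.Bijective ((Scheme.ΓSpecIso (CommRingCat.of k)).inv ≫ K.hom.appTop).hom := by
    have hinj : Function.Injective g.left.appTop.hom := g.left.app_injective ⊤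
    have hcomp : (Scheme.ΓSpecIso (CommRingCat.of k)).inv ≫ G.hom.appTop =
        ((Scheme.ΓSpecIso (CommRingCat.of k)).inv ≫ K.hom.appTop) ≫ g.left.appTop := by
      rw [Category.assoc, ← Scheme.Hom.comp_appTop, Over.w g]
    rw [hcomp] at hG
    have hG' : Function.Bijective (g.left.appTop.hom ∘
        ((Scheme.ΓSpecIso (CommRingCat.of k)).inv ≫ K.hom.appTop).hom) := by
      have : (g.left.appTop.hom ∘
          ((Scheme.ΓSpecIso (CommRingCat.of k)).inv ≫ K.hom.appTop).hom) =
          ⇑(((Scheme.ΓSpecIso (CommRingCat.of k)).inv ≫ K.hom.appTop) ≫ g.left.appTop).hom := by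
        ext t
        simp
      rw [this]
      exact hG
    refine ⟨hG'.1.of_comp, fun y => ?_⟩
    obtain ⟨c, hc⟩ := hG'.2 (g.left.appTop.hom y)
    exact ⟨c, hinj hc⟩
  obtain ⟨g', hg'⟩ := hMmax K i hK
  exact ⟨g ≫ g', by rw [Category.assoc, hg', hgi]⟩

end Groth.Agent.S19703
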