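import Groth.Statements.S1971
import Groth.Agent.Lib.Helper12.HenselPair
-- import your own Groth.Agent.* helpers here

set_option autoImplicit false
universe u
open EtAlg

namespace Groth.Agent.S1971


open Groth.Agent.Lib.helper12 in
theorem one_dir (A : Type u) [CommRing A] (I J : Ideal A)
    (h : I.radical = J.radical) (B : Type u) [CommRing B] [Algebra A B]
    (hB : Hens2.IsPairHenselization A I B) : Hens2.IsPairHenselization A J B := by
  have hmap : ∀ {C : Type u} [CommRing C] (φ : A →+* C),
      (I.map φ).radical = (J.map φ).radical := by
    intro C _ φ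
    have key : ∀ (I J : Ideal A), I.radical = J.radical → (I.map φ).radical ≤ (J.map φ).radical := by
      intro I J hIJ
      rw [Ideal.radical_le_radical_iff]
      have h1 : I ≤ J.radical := hIJ ▸ Ideal.le_radical
      exact (Ideal.map_mono h1).trans (Ideal.map_radical_le φ)
    exact le_antisymm (key I J h) (key J I h.symm)
  obtain ⟨hH, hU⟩ := hB
  refine ⟨henselianRing_of_radical_eq (hmap (algebraMap A B)) hH, ?_⟩
  intro C _ J' f hC hle
  refine hU C J'.radical f (henselianRing_radical hC) ?_
  have h1 : I.map f ≤ (J.map f).radical := by
    rw [← hmap f]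
    exact Ideal.le_radical
  exact h1.trans (Ideal.radical_mono hle)


/-- Let A be a ring with ideals I and J having the same zero locus in Spec A. Then an A-algebra is a
henselization of the pair (A, I) if and only if it is a henselization of the pair (A, J). -/
theorem result (A : Type u) [CommRing A] (I J : Ideal A)
    (h : PrimeSpectrum.zeroLocus (I : Set A) = PrimeSpectrum.zeroLocus (J : Set A)) (B : Type u) [CommRing B] [Algebra A B] :
    Hens2.IsPairHenselization A I B ↔ Hens2.IsPairHenselization A J B := by
  have hr : I.radical = J.radical := by
    rw [← PrimeSpectrum.vanishingIdeal_zeroLocus_eq_radical,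
      ← PrimeSpectrum.vanishingIdeal_zeroLocus_eq_radical, h]
  exact ⟨one_dir A I J hr B, one_dir A J I hr.symm B⟩

end Groth.Agent.S1971
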