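import Groth.Statements.S19711
import Mathlib
set_option linter.style.haveILetI false

set_option autoImplicit false
universe u
open CategoryTheory
open Coh

namespace Groth.Agent.S19711

open LocalizedModule IsLocalizedModule in

/-- elements of `u • ⊤` in a localized module come from `u • ⊤`. -/
lemma mem_smul_top_localized {A : Type*} [CommRing A] (S : Submonoid A) {N : Type*} [AddCommGroup N]
    [Module A N] (I : Ideal A) (x : LocalizedModule S N)
    (hx : x ∈ I • (⊤ : Submodule A (LocalizedModule S N))) :
    ∃ (y : N) (s : S), y ∈ I • (⊤ : Submodule A N) ∧ x = LocalizedModule.mk y s := by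
  refine Submodule.smul_induction_on hx ?_ ?_
  · intro a ha n _
    induction n using LocalizedModule.induction_on with
    | h m s =>
      refine ⟨a • m, s, Submodule.smul_mem_smul ha Submodule.mem_top, ?_⟩
      rw [LocalizedModule.smul'_mk]
  · intro x y hx hy
    obtain ⟨y₁, s₁, h₁, rfl⟩ := hx
    obtain ⟨y₂, s₂, h₂, rfl⟩ := hy
    refine ⟨s₂ • y₁ + s₁ • y₂, s₁ * s₂, ?_, ?_⟩
    · exact Submodule.add_mem _ (Submodule.smul_mem _ _ h₁) (Submodule.smul_mem _ _ h₂)
    · rw [LocalizedModule.mk_add_mk]

open LocalizedModule IsLocalizedModule in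
lemma core (A : Type u) [CommRing A] [IsNoetherianRing A] [IsDomain A] {M N : Type u}
    [AddCommGroup M] [Module A M] [Module.Finite A M] [AddCommGroup N] [Module A N]
    (j : N →ₗ[A] M) (hj : Function.Injective j) :
    ∃ f : A, f ≠ 0 ∧ ∀ (I : Ideal A) (n : N), j n ∈ I • (⊤ : Submodule A M) →
      ∃ k : ℕ, f ^ k • n ∈ I • (⊤ : Submodule A N) := by
  classical
  let Q := M ⧸ LinearMap.range j
  let π : M →ₗ[A] Q := (LinearMap.range j).mkQ
  have hex : Function.Exact j π := LinearMap.exact_map_mkQ_range j
  have hπ : Function.Surjective π := Submodule.mkQ_surjective _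
  haveI : Module.FinitePresentation A Q := Module.finitePresentation_of_finite A Q
  obtain ⟨r, hr, hfree, -⟩ := Module.FinitePresentation.exists_free_localizedModule_powers
    (nonZeroDivisors A) (LocalizedModule.mkLinearMap (nonZeroDivisors A) Q) (FractionRing A)
  have hr0 : r ≠ 0 := nonZeroDivisors.ne_zero hr
  refine ⟨r, hr0, ?_⟩
  let S := Submonoid.powers r
  let jr := IsLocalizedModule.map S (mkLinearMap S N) (mkLinearMap S M) j
  let πr := IsLocalizedModule.map S (mkLinearMap S M) (mkLinearMap S Q) π
  have hexr : Function.Exact jr πr := LocalizedModule.map_exact S j π hex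
  have hπr : Function.Surjective πr := IsLocalizedModule.map_surjective S _ _ π hπ
  have hjr : Function.Injective jr := IsLocalizedModule.map_injective S _ _ j hj
  let πr' : LocalizedModule S M →ₗ[Localization S] LocalizedModule S Q :=
    πr.extendScalarsOfIsLocalization S (Localization S)
  haveI : Module.Projective (Localization S) (LocalizedModule S Q) := by
    haveI : Module.Free (Localization S) (LocalizedModule S Q) := hfree
    infer_instance
  obtain ⟨σ, hσ⟩ := Module.projective_lifting_property πr' LinearMap.id hπr
  let ρ : LocalizedModule S M →ₗ[A] LocalizedModule S M :=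
    LinearMap.id - (σ.restrictScalars A) ∘ₗ πr
  have hρ1 : ∀ x, ρ x ∈ LinearMap.range jr := by
    intro x
    rw [LinearMap.mem_range]
    refine (hexr (ρ x)).1 ?_
    have h1 : πr' (σ (πr x)) = πr x := by
      have := LinearMap.congr_fun hσ (πr x)
      simpa using this
    change πr (x - σ (πr x)) = 0
    rw [map_sub]
    have h2 : πr (σ (πr x)) = πr x := h1
    rw [h2, sub_self]
  have hρ2 : ∀ y, ρ (jr y) = jr y := by
    intro y
    change jr y - σ (πr (jr y)) = jr y
    rw [hexr.apply_apply_eq_zero, map_zero, sub_zero]
  intro I n hn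
  -- key: ρ (mk x 1) ∈ map jr (I • ⊤) for x ∈ I • ⊤
  have key : I • (⊤ : Submodule A M) ≤
      ((I • (⊤ : Submodule A (LocalizedModule S N))).map jr).comap (ρ ∘ₗ mkLinearMap S M) := by
    rw [Submodule.smul_le]
    intro a ha m _
    rw [Submodule.mem_comap, map_smul]
    obtain ⟨y, hy⟩ := hρ1 (mkLinearMap S M m)
    refine ⟨a • y, Submodule.smul_mem_smul ha Submodule.mem_top, ?_⟩
    rw [map_smul, hy]
    rfl
  have h3 := key hn
  rw [Submodule.mem_comap] at h3
  obtain ⟨y, hyI, hy⟩ := h3
  have h4 : jr (mkLinearMap S N n) = mkLinearMap S M (j n) := by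
    exact IsLocalizedModule.map_apply S _ _ j n
  have h5 : jr y = jr (mkLinearMap S N n) := by
    rw [hy, LinearMap.comp_apply, ← h4, hρ2]
  have h6 : y = mkLinearMap S N n := hjr h5
  rw [h6] at hyI
  obtain ⟨y', s, hy', hys⟩ := mem_smul_top_localized S I _ hyI
  rw [LocalizedModule.mkLinearMap_apply, LocalizedModule.mk_eq] at hys
  obtain ⟨t, ht⟩ := hys
  obtain ⟨_, k₁, rfl⟩ := s
  obtain ⟨_, k₂, rfl⟩ := t
  refine ⟨k₂ + k₁, ?_⟩
  have : r ^ (k₂ + k₁) • n = r ^ k₂ • y' := by
    simpa [pow_add, mul_smul, Submonoid.smul_def] using ht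
  rw [this]
  exact Submodule.smul_mem _ _ hy'

/-- Let A be a Noetherian integral domain and F an A-linear additive functor from A-modules to A-modules
with F(A) a finitely generated A-module. Call such a functor generically injective when there is a
dense open subset U of Spec A such that for every point u of U whose residue field κ(u) is a
finitely generated A-algebra the comparison map F(A) ⊗_A κ(u) → F(κ(u)) is injective; since F is
A-linear this injectivity says: every m in F(A) whose image under F(A → κ(u)) vanishes satisfies s·m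
∈ u·F(A) for some s outside u. If F is generically injective then so is every A-linear additive
subfunctor K ⊆ F (a natural transformation K → F with injective components). (The published
statement is over a reduced Noetherian affine scheme, for additive functors on quasi-coherent
sheaves with values in abelian groups and the induced A-action, assumes F weakly bounded (F(A/p)
finitely generated for every prime ideal p) and also records that K is again weakly bounded; only
the finite generation of F(A), which its argument uses, is assumed here, and the integral case with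
A-linear functors stated here is the one its argument by generic flatness treats.) -/
theorem result {A : Type u} [CommRing A] [IsNoetherianRing A] [IsDomain A]
    (F K : ModuleCat.{u} A ⥤ ModuleCat.{u} A) [F.Additive] [F.Linear A] [K.Additive] [K.Linear A]
    (ι : K ⟶ F) (hι : ∀ X : ModuleCat.{u} A, Function.Injective (ι.app X).hom)
    (hfin : Module.Finite A (F.obj (ModuleCat.of A A)))
    (hGI : ∃ U : Set (PrimeSpectrum A), IsOpen U ∧ Dense U ∧ ∀ u ∈ U, Algebra.FiniteType A u.asIdeal.ResidueField →
        ∀ m : F.obj (ModuleCat.of A A),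
          (F.map (ModuleCat.ofHom (Algebra.linearMap A u.asIdeal.ResidueField))).hom m = 0 →
            ∃ s ∉ u.asIdeal, s • m ∈ u.asIdeal • (⊤ : Submodule A (F.obj (ModuleCat.of A A)))) :
    ∃ U : Set (PrimeSpectrum A), IsOpen U ∧ Dense U ∧ ∀ u ∈ U, Algebra.FiniteType A u.asIdeal.ResidueField →
        ∀ m : K.obj (ModuleCat.of A A),
          (K.map (ModuleCat.ofHom (Algebra.linearMap A u.asIdeal.ResidueField))).hom m = 0 →
            ∃ s ∉ u.asIdeal, s • m ∈ u.asIdeal • (⊤ : Submodule A (K.obj (ModuleCat.of A A))) := by
  classical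
  obtain ⟨U, hUo, hUd, hU⟩ := hGI
  haveI := hfin
  obtain ⟨f, hf0, hf⟩ := core A (ι.app (ModuleCat.of A A)).hom (hι _)
  refine ⟨U ∩ (PrimeSpectrum.basicOpen f : Set (PrimeSpectrum A)), hUo.inter (PrimeSpectrum.basicOpen f).2, ?_, ?_⟩
  · refine hUd.inter_of_isOpen_right ?_ (PrimeSpectrum.basicOpen f).2
    refine IsOpen.dense (PrimeSpectrum.basicOpen f).2 ?_
    refine ⟨⟨⊥, Ideal.isPrime_bot⟩, ?_⟩
    change f ∉ (⊥ : Ideal A)
    simpa using hf0
  · rintro u ⟨huU, huf⟩ hft m hm
    have hnat := ι.naturality (ModuleCat.ofHom (Algebra.linearMap A u.asIdeal.ResidueField))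
    have h1 : (F.map (ModuleCat.ofHom (Algebra.linearMap A u.asIdeal.ResidueField))).hom
        ((ι.app (ModuleCat.of A A)).hom m) = 0 := by
      have := congrArg (fun φ => φ.hom m) hnat
      simp only [ModuleCat.hom_comp, LinearMap.comp_apply] at this
      rw [← this, hm, map_zero]
    obtain ⟨s, hs, hsm⟩ := hU u huU hft _ h1
    rw [← map_smul] at hsm
    obtain ⟨k, hk⟩ := hf u.asIdeal (s • m) hsm
    refine ⟨f ^ k * s, ?_, ?_⟩
    · intro h
      rcases u.2.mem_or_mem h with h | h
      · exact huf (u.2.mem_of_pow_mem k h)
      · exact hs h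
    · rw [mul_smul]
      exact hk

end Groth.Agent.S19711
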