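import Groth.Statements.S1972
import Groth.Agent.S12236
import Groth.Agent.S12237
import Groth.Agent.S0733
import Groth.Agent.Lib.Helper24.IndEtaleProps
-- import your own Groth.Agent.* helpers here

set_option autoImplicit false
universe u
open EtAlg

namespace Groth.Agent.S1972

/-- Let R be a local ring and S a henselization or a strict henselization of R. Then the nilradical of S
is the extension of the nilradical of R. -/
theorem result (R S : Type u) [CommRing R] [IsLocalRing R] [CommRing S] [IsLocalRing S]
    [Algebra R S] [IsLocalHom (algebraMap R S)]
    (h : Hensel.IsHenselization R S ∨ Hensel.IsStrictHenselization R S) :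
    (nilradical R).map (algebraMap R S) = nilradical S := by
  have hind : EtPBC.IsIndEtale R S := by
    rcases h with h | h
    · exact Groth.Agent.S12236.result R S
    · exact Groth.Agent.S12237.result R S
  have hrad : (nilradical R).IsRadical := by
    rw [nilradical]
    exact Ideal.radical_isRadical _
  have hred : IsReduced (R ⧸ nilradical R) :=
    (Ideal.isRadical_iff_quotient_reduced (nilradical R)).1 hrad
  have hind' : EtPBC.IsIndEtale (R ⧸ nilradical R) (TensorProduct R (R ⧸ nilradical R) S) :=
    Groth.Agent.S0733.result R S (R ⧸ nilradical R) hind
  have hred2 : IsReduced (TensorProduct R (R ⧸ nilradical R) S) :=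
    Groth.Agent.Lib.Helper24.IndEtaleProps.isReduced_of_isIndEtale _ _ hind'
  have hred3 : IsReduced (S ⧸ (nilradical R).map (algebraMap R S)) :=
    isReduced_of_injective
      (Algebra.TensorProduct.quotIdealMapEquivQuotTensor S (nilradical R)).toRingEquiv.toRingHom
      (Algebra.TensorProduct.quotIdealMapEquivQuotTensor S (nilradical R)).injective
  apply le_antisymm
  · rw [Ideal.map_le_iff_le_comap]
    intro x hx
    rw [Ideal.mem_comap, mem_nilradical]
    exact (mem_nilradical.1 hx).map (algebraMap R S)
  · intro s hs
    have h1 : IsNilpotent (Ideal.Quotient.mk ((nilradical R).map (algebraMap R S)) s) :=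
      (mem_nilradical.1 hs).map _
    have h2 := IsNilpotent.eq_zero h1
    exact Ideal.Quotient.eq_zero_iff_mem.1 h2

end Groth.Agent.S1972
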