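import Groth.Statements.S1973
import Mathlib
import Groth.Agent.Lib.Helper24.EtaleNormal

set_option autoImplicit false
set_option linter.style.haveILetI false
universe u
open EtAlg

namespace Groth.Agent.S1973

open Groth.Agent.Lib.Helper24.EtaleNormal

/-- local rings of an étale algebra over a Dedekind domain are normal domains -/
theorem loc_normal (A C : Type u) [CommRing A] [IsDedekindDomain A] [CommRing C] [Algebra A C]
    [Algebra.Etale A C] (q : Ideal C) [q.IsPrime] :
    IsDomain (Localization.AtPrime q) ∧ IsIntegrallyClosed (Localization.AtPrime q) :=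
  isDomain_and_isIntegrallyClosed_of_localization_etale A C (Localization.AtPrime q) q.primeCompl

/-- chains of primes in an étale algebra over a Dedekind domain have length at most one -/
theorem eq_of_lt_of_le (A C : Type u) [CommRing A] [IsDedekindDomain A] [CommRing C] [Algebra A C]
    [Algebra.Etale A C] (P₀ P₁ P₂ : Ideal C) [P₀.IsPrime] [P₁.IsPrime] [P₂.IsPrime]
    (h01 : P₀ < P₁) (h12 : P₁ ≤ P₂) : P₁ = P₂ := by
  haveI : Algebra.QuasiFinite A C := inferInstance
  have hne : P₀.under A ≠ P₁.under A := fun h =>
    h01.ne (Algebra.QuasiFinite.eq_of_le_of_under_eq (R := A) P₀ P₁ h01.le h)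
  have hle : P₀.under A ≤ P₁.under A := Ideal.comap_mono h01.le
  have h1ne : P₁.under A ≠ ⊥ := by
    intro h
    apply hne
    rw [h] at hle ⊢
    exact le_bot_iff.1 hle
  have hmax : (P₁.under A).IsMaximal :=
    Ideal.IsPrime.isMaximal (inferInstance : (P₁.under A).IsPrime) h1ne
  have : P₁.under A = P₂.under A :=
    hmax.eq_of_le (Ideal.IsPrime.ne_top inferInstance) (Ideal.comap_mono h12)
  exact Algebra.QuasiFinite.eq_of_le_of_under_eq (R := A) P₁ P₂ h12 this

/-- a domain étale over a Dedekind domain is a Dedekind domain -/
theorem isDedekindDomain_of_etale (A C : Type u) [CommRing A] [IsDedekindDomain A] [CommRing C]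
    [IsDomain C] [Algebra A C] [Algebra.Etale A C] : IsDedekindDomain C := by
  haveI : IsNoetherianRing C := Algebra.FiniteType.isNoetherianRing A C
  haveI : Ring.DimensionLEOne C := by
    refine ⟨fun {p} hp0 hp => ?_⟩
    haveI := hp
    obtain ⟨m, hm, hpm⟩ := Ideal.exists_le_maximal p hp.ne_top
    haveI := hm.isPrime
    have : p = m := eq_of_lt_of_le A C ⊥ p m (bot_lt_iff_ne_bot.2 hp0) hpm
    exact this ▸ hm
  haveI : IsIntegrallyClosed C :=
    IsIntegrallyClosed.of_localization_maximal fun p _ _ => (loc_normal A C p).2
  exact { }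

/-- the kernel of the localization map at a prime containing a minimal prime `𝔭`, when the
localization is a domain, is `𝔭`. -/
theorem comap_bot_eq (C : Type u) [CommRing C] (𝔭 m : Ideal C) (h𝔭 : 𝔭 ∈ minimalPrimes C)
    [m.IsPrime] (hle : 𝔭 ≤ m) [IsDomain (Localization.AtPrime m)] :
    (⊥ : Ideal (Localization.AtPrime m)).comap (algebraMap C (Localization.AtPrime m)) = 𝔭 := by
  haveI : 𝔭.IsPrime := h𝔭.1.1
  have hdisj : Disjoint (m.primeCompl : Set C) (𝔭 : Set C) := by
    rw [Set.disjoint_left]
    intro x hx hx'
    exact hx (hle hx')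
  have hcm : (𝔭.map (algebraMap C (Localization.AtPrime m))).comap
      (algebraMap C (Localization.AtPrime m)) = 𝔭 :=
    IsLocalization.under_map_of_isPrime_disjoint m.primeCompl (Localization.AtPrime m) ‹_› hdisj
  have h1 : (⊥ : Ideal (Localization.AtPrime m)).comap (algebraMap C (Localization.AtPrime m)) ≤ 𝔭 := by
    rw [← hcm]
    exact Ideal.comap_mono bot_le
  haveI : ((⊥ : Ideal (Localization.AtPrime m)).comap
      (algebraMap C (Localization.AtPrime m))).IsPrime := Ideal.IsPrime.comap _
  exact le_antisymm h1 (h𝔭.2 ⟨inferInstance, bot_le⟩ h1)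

/-- Let A be a Dedekind domain and B an etale A-algebra. Then B is isomorphic as a ring to a finite
product of Dedekind domains, and for every maximal ideal q of B whose localization is not a field,
the localization B_q is a discrete valuation ring. (The source states the last claim for all maximal
ideals; it fails for field factors, e.g. A a DVR with uniformizer π and B = A[1/π], so the guard is
needed.) -/
theorem result (A B : Type u) [CommRing A] [IsDedekindDomain A] [CommRing B] [Algebra A B]
    [Algebra.Etale A B] :
    (∃ (n : ℕ) (D : Fin n → Type u) (_ : ∀ i, CommRing (D i)) (_ : ∀ i, IsDedekindDomain (D i)),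
      Nonempty (B ≃+* ∀ i, D i)) ∧
    ∀ (q : Ideal B) [q.IsMaximal], ¬ IsField (Localization.AtPrime q) →
      ∃ _ : IsDomain (Localization.AtPrime q), IsDiscreteValuationRing (Localization.AtPrime q) := by
  classical
  haveI : IsNoetherianRing B := Algebra.FiniteType.isNoetherianRing A B
  refine ⟨?_, ?_⟩
  · -- product decomposition
    have hfin : (minimalPrimes B).Finite := minimalPrimes.finite_of_isNoetherianRing B
    haveI : Finite (minimalPrimes B) := hfin.to_subtype
    obtain ⟨n, ⟨e⟩⟩ := Finite.exists_equiv_fin (minimalPrimes B)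
    let f : Fin n → Ideal B := fun i => ((e.symm i : minimalPrimes B) : Ideal B)
    have hfmem : ∀ i, f i ∈ minimalPrimes B := fun i => (e.symm i).2
    haveI hfprime : ∀ i, (f i).IsPrime := fun i => (hfmem i).1.1
    have hfinj : Function.Injective f := fun i j h => e.symm.injective (Subtype.ext h)
    -- B is reduced
    haveI : IsReduced B := by
      apply isReduced_ofLocalizationMaximal
      intro J hJ
      haveI := hJ
      haveI := (loc_normal A B J).1
      infer_instance
    have hinf : ⨅ i, f i = ⊥ := by
      have h1 : sInf (minimalPrimes B) = (⊥ : Ideal B) := by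
        have := Ideal.sInf_minimalPrimes (I := (⊥ : Ideal B))
        rw [Ideal.radical_eq_sInf] at this
        rw [minimalPrimes, this, ← Ideal.radical_eq_sInf]
        exact (nilradical_eq_zero B)
      rw [eq_bot_iff, ← h1]
      apply le_sInf
      intro p hp
      have : f (e ⟨p, hp⟩) = p := by simp [f]
      rw [← this]
      exact iInf_le _ _
    have hcop : Pairwise (Function.onFun IsCoprime f) := by
      intro i j hij
      show IsCoprime (f i) (f j)
      rw [Ideal.isCoprime_iff_sup_eq]
      by_contra hne
      obtain ⟨m, hm, hle⟩ := Ideal.exists_le_maximal _ hne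
      haveI := hm
      haveI := (loc_normal A B m).1
      have h1 := comap_bot_eq B (f i) m (hfmem i) (le_sup_left.trans hle)
      have h2 := comap_bot_eq B (f j) m (hfmem j) (le_sup_right.trans hle)
      exact hij (hfinj (h1.symm.trans h2))
    let e0 : B ≃+* ∀ i, B ⧸ f i :=
      ((RingEquiv.quotientBot B).symm.trans (Ideal.quotEquivOfEq hinf.symm)).trans
        (Ideal.quotientInfRingEquivPiQuotient f hcop)
    have he0 : ∀ (b : B) (i : Fin n), e0 b i = Ideal.Quotient.mk (f i) b := by
      intro b i
      rfl
    let e1 : B ≃ₐ[A] ∀ i, B ⧸ f i := AlgEquiv.ofRingEquiv (f := e0) (by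
      intro a
      funext i
      rw [he0]
      rfl)
    haveI : Algebra.FormallyEtale A (∀ i, B ⧸ f i) := Algebra.FormallyEtale.of_equiv e1
    have hfe : ∀ i, Algebra.FormallyEtale A (B ⧸ f i) :=
      (Algebra.FormallyEtale.pi_iff (fun i => B ⧸ f i)).1 inferInstance
    have het : ∀ i, Algebra.Etale A (B ⧸ f i) := by
      intro i
      haveI := hfe i
      haveI : Algebra.FinitePresentation A (B ⧸ f i) :=
        Algebra.FinitePresentation.of_surjective (f := Ideal.Quotient.mkₐ A (f i))
          (Ideal.Quotient.mkₐ_surjective A (f i))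
          ((isNoetherianRing_iff_ideal_fg B).1 inferInstance _)
      exact ⟨inferInstance, inferInstance⟩
    refine ⟨n, fun i => B ⧸ f i, fun i => inferInstance, fun i => ?_, ⟨e0⟩⟩
    haveI := het i
    exact isDedekindDomain_of_etale A (B ⧸ f i)
  · intro q hq hnf
    obtain ⟨hdom, hic⟩ := loc_normal A B q
    haveI := hdom
    haveI := hic
    refine ⟨hdom, ?_⟩
    haveI : Ring.DimensionLEOne (Localization.AtPrime q) := by
      refine ⟨fun {𝔭} h𝔭0 h𝔭 => ?_⟩
      haveI := h𝔭
      set φ := algebraMap B (Localization.AtPrime q)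
      have hmc : ∀ I : Ideal (Localization.AtPrime q), (I.comap φ).map φ = I :=
        fun I => IsLocalization.map_under q.primeCompl (Localization.AtPrime q) I
      have h01 : (⊥ : Ideal (Localization.AtPrime q)).comap φ < 𝔭.comap φ := by
        refine lt_of_le_of_ne (Ideal.comap_mono bot_le) ?_
        intro h
        apply h𝔭0
        rw [← hmc 𝔭, ← h, hmc ⊥]
      have h12 : 𝔭.comap φ ≤ q := by
        have : 𝔭 ≤ IsLocalRing.maximalIdeal (Localization.AtPrime q) :=
          IsLocalRing.le_maximalIdeal h𝔭.ne_top
        have h2 := Ideal.comap_mono (f := φ) this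
        have h3 : (IsLocalRing.maximalIdeal (Localization.AtPrime q)).comap φ = q :=
          Localization.AtPrime.under_maximalIdeal
        rwa [h3] at h2
      haveI : ((⊥ : Ideal (Localization.AtPrime q)).comap φ).IsPrime := Ideal.IsPrime.comap _
      haveI : (𝔭.comap φ).IsPrime := Ideal.IsPrime.comap _
      have heq : 𝔭.comap φ = q := eq_of_lt_of_le A B _ _ q h01 h12
      have : 𝔭 = IsLocalRing.maximalIdeal (Localization.AtPrime q) := by
        rw [← hmc 𝔭, heq, Localization.AtPrime.map_eq_maximalIdeal]
      rw [this]
      infer_instance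
    haveI : IsDedekindDomain (Localization.AtPrime q) := { }
    have hD : IsDedekindDomain (Localization.AtPrime q) := inferInstance
    exact ((IsDiscreteValuationRing.TFAE (Localization.AtPrime q) hnf).out 0 2).2 hD

end Groth.Agent.S1973
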