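import Groth.Statements.S1974
import Mathlib
import Groth.Agent.Lib.Helper3.WEtale3

set_option autoImplicit false
universe u
open EtAlg

namespace Groth.Agent.S1974

/-- Let A -> B be weakly etale and q a prime of B lying over the prime p of A. Then the residue field of
q is a separable algebraic extension of the residue field of p. -/
theorem result (A B : Type u) [CommRing A] [CommRing B] [Algebra A B]
    [Algebra.WeaklyEtale A B] (p : Ideal A) [p.IsPrime] (q : Ideal B) [q.IsPrime] [q.LiesOver p]
    [Algebra (Localization.AtPrime p) (Localization.AtPrime q)] [Localization.AtPrime.IsLiesOverAlgebra p q] :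
    Algebra.IsSeparable p.ResidueField q.ResidueField := by
  have hwe : Algebra.WeaklyEtale p.ResidueField (TensorProduct A p.ResidueField B) :=
    inferInstance
  let ψ : TensorProduct A p.ResidueField B →ₐ[p.ResidueField] q.ResidueField :=
    Algebra.TensorProduct.lift (Algebra.ofId _ _) (IsScalarTower.toAlgHom A B q.ResidueField)
      (fun _ _ => Commute.all _ _)
  have hker : (RingHom.ker ψ).IsPrime := RingHom.ker_isPrime ψ
  have hmax : (RingHom.ker ψ).IsMaximal :=
    Groth.Agent.Lib.helper3.WEtale3.isMaximal_of_isPrime (k := p.ResidueField) _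
  have hψ : ∀ b : B, ψ ((1 : p.ResidueField) ⊗ₜ[A] b) = algebraMap B q.ResidueField b := by
    intro b
    simp [ψ]
  have hsurj : Function.Surjective ψ := by
    intro x
    obtain ⟨a, s, rfl⟩ := IsLocalization.exists_mk'_eq (nonZeroDivisors (B ⧸ q)) x
    obtain ⟨a, rfl⟩ := Ideal.Quotient.mk_surjective a
    obtain ⟨s0, hs0⟩ := Ideal.Quotient.mk_surjective s.1
    have hs0ne : algebraMap B q.ResidueField s0 ≠ 0 := by
      rw [IsScalarTower.algebraMap_apply B (B ⧸ q) q.ResidueField]
      intro h
      have h1 := (IsFractionRing.injective (B ⧸ q) q.ResidueField)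
        (h.trans (map_zero _).symm)
      have : (s : B ⧸ q) = 0 := by rw [← hs0]; exact h1
      exact nonZeroDivisors.coe_ne_zero s this
    have hne : ((1 : p.ResidueField) ⊗ₜ[A] s0 : TensorProduct A p.ResidueField B) ∉
        RingHom.ker ψ := by
      rw [RingHom.mem_ker, hψ]
      exact hs0ne
    obtain ⟨t, ht⟩ := hmax.exists_inv hne
    refine ⟨((1 : p.ResidueField) ⊗ₜ[A] a) * t, ?_⟩
    rw [IsLocalization.eq_mk'_iff_mul_eq, map_mul, hψ, mul_assoc]
    have h2 : ψ t * algebraMap (B ⧸ q) q.ResidueField s = 1 := by
      obtain ⟨i, hi, hti⟩ := ht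
      have h3 := congrArg ψ hti
      rw [map_add, map_mul, hψ, map_one, (RingHom.mem_ker).mp hi, add_zero] at h3
      rw [← h3, ← hs0]
      rfl
    rw [h2, mul_one]
    rfl
  have hwe2 : Algebra.WeaklyEtale p.ResidueField q.ResidueField :=
    Groth.Agent.Lib.helper3.WEtale3.weaklyEtale_of_surjective ψ hsurj
  exact Groth.Agent.S0426.result

end Groth.Agent.S1974
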