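import Groth.Statements.S19741
import Mathlib


set_option autoImplicit false
universe w u
open EssDim

namespace Groth.Agent.S19741

set_option linter.style.haveILetI false
open CategoryTheory AlgebraicGeometry Opposite

section trdeg
variable {k K L : Type u} [Field k] [Field K] [Field L] [Algebra k K] [Algebra K L] [Algebra k L]
  [IsScalarTower k K L]

lemma trdeg_adjoin_le (E : IntermediateField k L) :
    Algebra.trdeg K (IntermediateField.adjoin K (E : Set L)) ≤ Algebra.trdeg k E := by
  classical
  obtain ⟨B, hB⟩ := exists_isTranscendenceBasis k E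
  rw [← hB.cardinalMk_eq_trdeg]
  let E' := IntermediateField.adjoin K (E : Set L)
  let j : E →+* E' :=
    { toFun := fun x => ⟨x.1, IntermediateField.subset_adjoin K _ x.2⟩
      map_one' := rfl
      map_mul' := fun _ _ => rfl
      map_zero' := rfl
      map_add' := fun _ _ => rfl }
  let s : Set E' := j '' B
  have hs : Cardinal.mk s ≤ Cardinal.mk B := Cardinal.mk_image_le
  -- the restriction of j to subalgebras
  let R₀ : Subalgebra k E := Algebra.adjoin k (Set.range ((↑) : B → E))
  let S₀ : Subalgebra K E' := Algebra.adjoin K s
  have hjR : ∀ x : E, x ∈ R₀ → j x ∈ S₀ := by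
    intro x hx
    induction hx using Algebra.adjoin_induction with
    | mem x hx =>
      obtain ⟨b, rfl⟩ := hx
      exact Algebra.subset_adjoin ⟨b.1, b.2, rfl⟩
    | algebraMap r =>
      have : j (algebraMap k E r) = algebraMap K E' (algebraMap k K r) := by
        apply Subtype.ext
        change algebraMap k L r = algebraMap K L (algebraMap k K r)
        exact IsScalarTower.algebraMap_apply k K L r
      rw [this]
      exact Subalgebra.algebraMap_mem _ _
    | add x y _ _ hx hy => rw [map_add]; exact add_mem hx hy
    | mul x y _ _ hx hy => rw [map_mul]; exact mul_mem hx hy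
  let f : R₀ →+* S₀ :=
    { toFun := fun x => ⟨j x.1, hjR x.1 x.2⟩
      map_one' := Subtype.ext (map_one j)
      map_mul' := fun x y => Subtype.ext (map_mul j x.1 y.1)
      map_zero' := Subtype.ext (map_zero j)
      map_add' := fun x y => Subtype.ext (map_add j x.1 y.1) }
  have hjinj : Function.Injective j := fun x y h => Subtype.ext (congrArg (fun z : E' => (z : L)) h)
  have hfinj : Function.Injective f := fun x y h =>
    Subtype.ext (hjinj (congrArg Subtype.val h))
  have hBalg : Algebra.IsAlgebraic R₀ E := hB.isAlgebraic
  haveI : Algebra.IsAlgebraic S₀ E' := by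
    constructor
    rintro ⟨x, hx⟩
    induction hx using IntermediateField.adjoin_induction with
    | mem x hx =>
      have h1 : IsAlgebraic R₀ (⟨x, hx⟩ : E) := hBalg.isAlgebraic _
      exact h1.ringHom_of_comp_eq f j hfinj (by ext; rfl)
    | algebraMap x =>
      have : (⟨algebraMap K L x, IntermediateField.algebraMap_mem _ x⟩ : E') =
        algebraMap S₀ E' (algebraMap K S₀ x) := rfl
      rw [this]
      exact isAlgebraic_algebraMap _
    | add x y hx hy ihx ihy => exact ihx.add ihy
    | inv x hx ih => exact ih.inv
    | mul x y hx hy ihx ihy => exact ihx.mul ihy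
  exact (Algebra.IsAlgebraic.trdeg_le_cardinalMk K s).trans hs

end trdeg

section main
variable {k K L : Type u} [Field k] [Field K] [Field L] [Algebra k K] [Algebra K L] [Algebra k L]
  [IsScalarTower k K L] (P : (Over (Spec (CommRingCat.of k)))ᵒᵖ ⥤ Type w)

/-- the restricted presheaf -/
noncomputable abbrev Q : (Over (Spec (CommRingCat.of K)))ᵒᵖ ⥤ Type w :=
  (Over.map (Spec.map (CommRingCat.ofHom (algebraMap k K)))).op ⋙ P

variable (k K) in
/-- comparison iso -/
noncomputable def e (L : Type u) [Field L] [Algebra K L] [Algebra k L] [IsScalarTower k K L] :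
    (Over.map (Spec.map (CommRingCat.ofHom (algebraMap k K)))).obj (SGA7.pt (K := K) L) ≅
      SGA7.pt (K := k) L :=
  Over.isoMk (Iso.refl _) (by
    change 𝟙 _ ≫ Spec.map _ = Spec.map _ ≫ Spec.map _
    rw [Category.id_comp, ← Spec.map_comp, ← CommRingCat.ofHom_comp,
      ← IsScalarTower.algebraMap_eq])

theorem edAt_le (ξ : EssDim.FPt (k := K) (Q (K := K) P) L) :
    (EssDim.edAt (k := K) (Q (K := K) P) ξ : WithBot ℕ∞) ≤ EssDim.ed P := by
  -- transport ξ
  let ξ' : EssDim.FPt (k := k) P L := P.map (e k K L).inv.op ξ
  refine le_trans ?_ (EssDim.edAt_le_ed (P := P) ξ')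
  rw [WithBot.coe_le_coe]
  unfold EssDim.edAt
  refine le_iInf ?_
  rintro ⟨E, ξ₀, hξ₀⟩
  let E' : IntermediateField K L := IntermediateField.adjoin K (E : Set L)
  have htr : Cardinal.toENat (Algebra.trdeg K E') ≤ Cardinal.toENat (Algebra.trdeg k E) :=
    Cardinal.toENat.monotone' (trdeg_adjoin_le (K := K) E)
  refine le_trans ?_ htr
  have hdesc : EssDim.Descends (k := K) (Q (K := K) P) ξ E' := by
    let jE : E →+* E' :=
      { toFun := fun x => ⟨x.1, IntermediateField.subset_adjoin K _ x.2⟩
        map_one' := rfl
        map_mul' := fun _ _ => rfl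
        map_zero' := rfl
        map_add' := fun _ _ => rfl }
    have hj1 : jE.comp (algebraMap k E) = (algebraMap K E').comp (algebraMap k K) := by
      ext r
      change algebraMap k L r = algebraMap K L (algebraMap k K r)
      exact IsScalarTower.algebraMap_apply k K L r
    let m : (Over.map (Spec.map (CommRingCat.ofHom (algebraMap k K)))).obj (SGA7.pt (K := K) E') ⟶
        SGA7.pt (K := k) E :=
      Over.homMk (Spec.map (CommRingCat.ofHom jE)) (by
        change Spec.map _ ≫ Spec.map _ = Spec.map _ ≫ Spec.map _
        rw [← Spec.map_comp, ← Spec.map_comp, ← CommRingCat.ofHom_comp, ← CommRingCat.ofHom_comp,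
          hj1])
    have hkey : (Over.map (Spec.map (CommRingCat.ofHom (algebraMap k K)))).map
        (EssDim.resPt (k := K) E'.val) ≫ m = (e k K L).hom ≫ EssDim.resPt (k := k) E.val := by
      ext : 1
      change Spec.map (CommRingCat.ofHom (E'.val : E' →+* L)) ≫ Spec.map (CommRingCat.ofHom jE) =
        𝟙 _ ≫ Spec.map (CommRingCat.ofHom (E.val : E →+* L))
      rw [Category.id_comp, ← Spec.map_comp, ← CommRingCat.ofHom_comp]
      rfl
    refine ⟨P.map m.op ξ₀, ?_⟩
    have hξ : ξ = P.map (e k K L).hom.op ξ' := by
      change ξ = P.map (e k K L).hom.op (P.map (e k K L).inv.op ξ)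
      rw [← Functor.map_comp_apply, ← op_comp, Iso.hom_inv_id, op_id, P.map_id]
      rfl
    change P.map ((Over.map (Spec.map (CommRingCat.ofHom (algebraMap k K)))).map
        (EssDim.resPt (k := K) E'.val)).op (P.map m.op ξ₀) = ξ
    rw [hξ, ← hξ₀]
    change _ = P.map (e k K L).hom.op (P.map (EssDim.resPt (k := k) E.val).op ξ₀)
    rw [← Functor.map_comp_apply, ← Functor.map_comp_apply, ← op_comp, ← op_comp, hkey]
  exact iInf_le (fun K' : {K' : IntermediateField K L // EssDim.Descends (k := K) (Q (K := K) P) ξ K'} =>
    Cardinal.toENat (Algebra.trdeg K K'.1)) ⟨E', hdesc⟩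

end main

theorem main (k : Type u) [Field k] (K : Type u) [Field K] [Algebra k K]
    (P : (Over (Spec (CommRingCat.of k)))ᵒᵖ ⥤ Type w) :
    EssDim.ed (k := K) ((Over.map (Spec.map (CommRingCat.ofHom (algebraMap k K)))).op ⋙ P) ≤
      EssDim.ed P := by
  refine iSup_le fun L => iSup_le fun _ => iSup_le fun _ => iSup_le fun ξ => ?_
  letI : Algebra k L := ((algebraMap K L).comp (algebraMap k K)).toAlgebra
  haveI : IsScalarTower k K L := IsScalarTower.of_algebraMap_eq (fun x => rfl)
  exact edAt_le (k := k) (K := K) (L := L) P ξ



open CategoryTheory AlgebraicGeometry in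
/-- For a field extension `K` of `k` and a presheaf of sets `P` on schemes over `k`, restrict `P` to
schemes over `K` by viewing a scheme over `Spec K` as a scheme over `Spec k`; then the essential
dimension over `K` of the restricted presheaf is at most the essential dimension of `P` over `k`.
(The source states this for an algebraic stack over `k` and its base change to `K`, through the
presheaf of isomorphism classes of objects, whose restriction to schemes over `K` is the presheaf of
classes of the base-changed stack; the inequality is stated here for an arbitrary presheaf, which is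
what the argument with composita of fields of definition gives.) -/
theorem result (k : Type u) [Field k] (K : Type u) [Field K] [Algebra k K]
    (P : (Over (Spec (CommRingCat.of k)))ᵒᵖ ⥤ Type w) :
    EssDim.ed (k := K) ((Over.map (Spec.map (CommRingCat.ofHom (algebraMap k K)))).op ⋙ P) ≤ EssDim.ed P := by
  exact main k K P

end Groth.Agent.S19741
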