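import Groth.Statements.S19748
import Mathlib
import Groth.Agent.Lib.Helper19.Segre

set_option autoImplicit false
universe u
open scoped TensorProduct
open GrSegre

namespace Groth.Agent.S19748

-- MARK
section Aux
open Groth.Agent.Lib.helper19.Segre

theorem pow_smul_bijective {R M : Type u} [CommRing R] [AddCommGroup M] [Module R M] (f : R)
    (hf : Function.Bijective (fun x : M => f • x)) (e : ℕ) :
    Function.Bijective (fun x : M => f ^ e • x) := by
  induction e with
  | zero =>
    simp only [pow_zero, one_smul]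
    exact Function.bijective_id
  | succ e ih =>
    have : (fun x : M => f ^ (e + 1) • x) = (fun x : M => f ^ e • x) ∘ (fun x : M => f • x) := by
      funext x
      simp [pow_succ, mul_smul]
    rw [this]
    exact ih.comp hf

end Aux



/-- Let R and S be graded rings defined over a field k with Segre product T = R # S, M a graded R-module
and N a graded S-module. Suppose that multiplication by some homogeneous element f ∈ R_d of positive
degree d is bijective on M and multiplication by some homogeneous g ∈ S_e of positive degree e is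
bijective on N. Then multiplication by some homogeneous element of T of positive degree is bijective
on M # N. Here a graded ring defined over k is a commutative k-algebra of finite type, graded in
nonnegative degrees by k-subspaces with degree-zero part k·1; the Segre product T = R # S = ⊕_n R_n
⊗_k S_n is presented abstractly as a graded k-algebra T with an injective k-algebra homomorphism ψ :
T → R ⊗_k S carrying T_n onto the k-span of the elementary tensors a ⊗ b with a ∈ R_n, b ∈ S_n; the
Segre product M # N = ⊕_n M_n ⊗_k N_n of a graded R-module M and a graded S-module N is presented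
abstractly as a graded T-module P with an injective k-linear map φ : P → M ⊗_k N carrying P_n onto
the k-span of the tensors x ⊗ y with x ∈ M_n, y ∈ N_n and turning the action of t ∈ T into that of
ψ(t) (acting factorwise on M ⊗_k N). -/
theorem result (k : Type u) [Field k] (R : Type u) [CommRing R] [Algebra k R] (𝒜 : ℤ → Submodule k R) [GradedAlgebra 𝒜] (hposR : ∀ n : ℤ, n < 0 → 𝒜 n = ⊥) (h0R : 𝒜 0 = Submodule.span k {(1 : R)}) [Algebra.FiniteType k R] (S : Type u) [CommRing S] [Algebra k S] (ℬ : ℤ → Submodule k S) [GradedAlgebra ℬ] (hposS : ∀ n : ℤ, n < 0 → ℬ n = ⊥) (h0S : ℬ 0 = Submodule.span k {(1 : S)}) [Algebra.FiniteType k S] (T : Type u) [CommRing T] [Algebra k T] (𝒯 : ℤ → Submodule k T) [GradedAlgebra 𝒯] (ψ : T →ₐ[k] TensorProduct k R S) (hT : GrSeg.IsSegreRing 𝒜 ℬ 𝒯 ψ) (M : Type u) [AddCommGroup M] [Module R M] [Module k M] [IsScalarTower k R M] (ℳ : ℤ → AddSubgroup M) [DirectSum.Decomposition ℳ] [SetLike.GradedSMul 𝒜 ℳ] (N : Type u) [AddCommGroup N] [Module S N] [Module k N] [IsScalarTower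 k S N] (𝒩 : ℤ → AddSubgroup N) [DirectSum.Decomposition 𝒩] [SetLike.GradedSMul ℬ 𝒩] (P : Type u) [AddCommGroup P] [Module T P] [Module k P] [IsScalarTower k T P] (𝒬 : ℤ → AddSubgroup P) [DirectSum.Decomposition 𝒬] (φ : P →ₗ[k] TensorProduct k M N) (hP : GrSeg.IsSegreMod ψ ℳ 𝒩 𝒬 φ) (d : ℕ) (hd : 0 < d) (f : R) (hf : f ∈ 𝒜 (d : ℤ)) (hfM : Function.Bijective (fun x : M => f • x)) (e : ℕ) (he : 0 < e) (g : S) (hg : g ∈ ℬ (e : ℤ)) (hgN : Function.Bijective (fun y : N => g • y)) : ∃ (c : ℤ) (t : T), 0 < c ∧ t ∈ 𝒯 c ∧ Function.Bijective (fun p : P => t • p) := by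
  classical
  have hfe : f ^ e ∈ 𝒜 ((d : ℤ) * e) := by
    have := SetLike.pow_mem_graded e hf
    rwa [nsmul_eq_mul, mul_comm] at this
  have hgd : g ^ d ∈ ℬ ((d : ℤ) * e) := by
    have := SetLike.pow_mem_graded d hg
    rwa [nsmul_eq_mul] at this
  have hbM := pow_smul_bijective f hfM e
  have hbN := pow_smul_bijective g hgN d
  set c : ℤ := (d : ℤ) * e with hc
  have hcpos : 0 < c := by positivity
  have h1 : (f ^ e) ⊗ₜ[k] (g ^ d) ∈ (𝒯 c).map ψ.toLinearMap := by
    rw [hT.2 c]
    exact Submodule.subset_span ⟨_, hfe, _, hgd, rfl⟩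
  obtain ⟨t, ht, hte⟩ := h1
  have hte' : ψ t = (f ^ e) ⊗ₜ[k] (g ^ d) := hte
  refine ⟨c, t, hcpos, ht, ?_⟩
  -- the action of ψ t as a linear equivalence
  let uM : M ≃ₗ[k] M := LinearEquiv.ofBijective ((Algebra.lsmul k k M (f ^ e))) hbM
  let uN : N ≃ₗ[k] N := LinearEquiv.ofBijective ((Algebra.lsmul k k N (g ^ d))) hbN
  have hF : GrSeg.act k R S M N (ψ t) = (TensorProduct.congr uM uN).toLinearMap := by
    rw [hte']
    apply TensorProduct.ext'
    intro m n
    rw [GrSeg.act_tmul]
    rfl
  have hFinj : Function.Injective (GrSeg.act k R S M N (ψ t)) := by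
    rw [hF]; exact (TensorProduct.congr uM uN).injective
  constructor
  · intro p p' h
    have h2 : φ (t • p) = φ (t • p') := congrArg φ h
    rw [hP.map_smul, hP.map_smul] at h2
    exact hP.injective (hFinj h2)
  · have hpiece : ∀ n : ℤ, ∀ ξ ∈ GrSeg.segrePiece k ℳ 𝒩 n, ∃ q : P, φ (t • q) = ξ := by
      intro n ξ hξ
      induction hξ using Submodule.span_induction with
      | mem ξ hξ =>
        obtain ⟨a, ha, b, hb, rfl⟩ := hξ
        obtain ⟨a', rfl⟩ := hbM.2 a
        obtain ⟨b', rfl⟩ := hbN.2 b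
        have ha' : a' ∈ ℳ (n - c) := Groth.Agent.Lib.helper19.Segre.mem_of_smul_mem 𝒜 ℳ hfe hbM.1 ha
        have hb' : b' ∈ 𝒩 (n - c) := Groth.Agent.Lib.helper19.Segre.mem_of_smul_mem ℬ 𝒩 hgd hbN.1 hb
        have h3 : a' ⊗ₜ[k] b' ∈ (GrSeg.segrePiece k ℳ 𝒩 (n - c) : Set (M ⊗[k] N)) :=
          Submodule.subset_span ⟨a', ha', b', hb', rfl⟩
        rw [← hP.image_piece] at h3
        obtain ⟨q, _, hq⟩ := h3
        refine ⟨q, ?_⟩
        rw [hP.map_smul, hq, hte', GrSeg.act_tmul]
      | zero => exact ⟨0, by simp⟩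
      | add ξ ξ' _ _ h h' =>
        obtain ⟨q, e1⟩ := h
        obtain ⟨q', e2⟩ := h'
        exact ⟨q + q', by rw [smul_add, map_add, e1, e2]⟩
      | smul c' ξ _ h =>
        obtain ⟨q, e1⟩ := h
        exact ⟨c' • q, by rw [smul_comm, map_smul, e1]⟩
    intro p
    induction p using DirectSum.Decomposition.inductionOn 𝒬 with
    | zero => exact ⟨0, by simp⟩
    | @homogeneous n p =>
      have h4 : φ p ∈ (GrSeg.segrePiece k ℳ 𝒩 n : Set (M ⊗[k] N)) := by
        rw [← hP.image_piece]
        exact ⟨p, p.2, rfl⟩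
      obtain ⟨q, hq⟩ := hpiece n _ h4
      exact ⟨q, hP.injective hq⟩
    | add p p' h h' =>
      obtain ⟨q, e1⟩ := h
      obtain ⟨q', e2⟩ := h'
      refine ⟨q + q', ?_⟩
      simp only at e1 e2 ⊢
      rw [smul_add, e1, e2]

end Groth.Agent.S19748
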