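import Groth.Statements.S19749
import Mathlib

set_option autoImplicit false
universe u
open scoped TensorProduct
open GrSegre

namespace Groth.Agent.S19749

-- MARK
section Aux
variable {k : Type u} [Field k]

/-- contraction with a functional on the right factor -/
noncomputable def contr {M N : Type u} [AddCommGroup M] [Module k M] [AddCommGroup N] [Module k N]
    (lam : N →ₗ[k] k) : M ⊗[k] N →ₗ[k] M :=
  (TensorProduct.rid k M).toLinearMap.comp (LinearMap.lTensor M lam)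

theorem contr_tmul {M N : Type u} [AddCommGroup M] [Module k M] [AddCommGroup N] [Module k N]
    (lam : N →ₗ[k] k) (m : M) (n : N) : contr lam (m ⊗ₜ[k] n) = lam n • m := by
  simp [contr]

end Aux



/-- Let R and S be graded rings defined over a field k, both generated over k by their degree-one parts
and of positive Krull dimension, T = R # S, M a graded R-module and N a graded S-module, n an
integer with N_m ≠ 0 for every m ≥ n, and x ∈ M_n, y ∈ N_n. If x # y generates M # N as a T-module,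
then R_d x = M_{n+d} for every d ≥ 0 (every element of M_{n+d} is r x for some r ∈ R_d). Here a
graded ring defined over k is a commutative k-algebra of finite type, graded in nonnegative degrees
by k-subspaces with degree-zero part k·1; the Segre product T = R # S = ⊕_n R_n ⊗_k S_n is presented
abstractly as a graded k-algebra T with an injective k-algebra homomorphism ψ : T → R ⊗_k S carrying
T_n onto the k-span of the elementary tensors a ⊗ b with a ∈ R_n, b ∈ S_n; the Segre product M # N =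
⊕_n M_n ⊗_k N_n of a graded R-module M and a graded S-module N is presented abstractly as a graded
T-module P with an injective k-linear map φ : P → M ⊗_k N carrying P_n onto the k-span of the
tensors x ⊗ y with x ∈ M_n, y ∈ N_n and turning the action of t ∈ T into that of ψ(t) (acting
factorwise on M ⊗_k N), and x # y is the element of P mapped to x ⊗ y. -/
theorem result (k : Type u) [Field k] (R : Type u) [CommRing R] [Algebra k R] (𝒜 : ℤ → Submodule k R) [GradedAlgebra 𝒜] (hposR : ∀ n : ℤ, n < 0 → 𝒜 n = ⊥) (h0R : 𝒜 0 = Submodule.span k {(1 : R)}) [Algebra.FiniteType k R] (S : Type u) [CommRing S] [Algebra k S] (ℬ : ℤ → Submodule k S) [GradedAlgebra ℬ] (hposS : ∀ n : ℤ, n < 0 → ℬ n = ⊥) (h0S : ℬ 0 = Submodule.span k {(1 : S)}) [Algebra.FiniteType k S] (T : Type u) [CommRing T] [Algebra k T] (𝒯 : ℤ → Submodule k T) [GradedAlgebra 𝒯] (ψ : T →ₐ[k] TensorProduct k R S) (hT : GrSeg.IsSegreRing 𝒜 ℬ 𝒯 ψ) (hstdR : Ideal.span (⋃ n ∈ Set.Ioi (0 : ℤ),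 (𝒜 n : Set R)) = Ideal.span ((𝒜 1 : Submodule k R) : Set R)) (hstdS : Ideal.span (⋃ n ∈ Set.Ioi (0 : ℤ), (ℬ n : Set S)) = Ideal.span ((ℬ 1 : Submodule k S) : Set S)) (hr1 : 1 ≤ ringKrullDim R) (hs1 : 1 ≤ ringKrullDim S) (M : Type u) [AddCommGroup M] [Module R M] [Module k M] [IsScalarTower k R M] (ℳ : ℤ → AddSubgroup M) [DirectSum.Decomposition ℳ] [SetLike.GradedSMul 𝒜 ℳ] (N : Type u) [AddCommGroup N] [Module S N] [Module k N] [IsScalarTower k S N] (𝒩 : ℤ → AddSubgroup N) [DirectSum.Decomposition 𝒩] [SetLike.GradedSMul ℬ 𝒩] (P : Type u) [AddCommGroup P] [Module T P] [Module k P] [IsScalarTower k T P] (𝒬 : ℤ → AddSubgroup P) [DirectSum.Decomposition 𝒬] (φ : P →ₗ[k] TensorProduct k M N) (hP : GrSeg.IsSegreMod ψ ℳ 𝒩 𝒬 φ) (n : ℤ) (hNn : ∀ m : ℤ, n ≤ m → 𝒩 m ≠ ⊥) (x : M) (hx : x ∈ ℳ n) (y : N) (hy : y ∈ 𝒩 n) (p : P) (hp : φ p = x ⊗ₜ[k] y) (hgen : Submodule.span T {p} = ⊤) (d : ℤ) (hd : 0 ≤ d) (z : M) (hz : z ∈ ℳ (n + d)) : ∃ r ∈ 𝒜 d, r • x = z := by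
  classical
  have hne := hNn (n + d) (by omega)
  obtain ⟨w, hw, hw0⟩ : ∃ w ∈ 𝒩 (n + d), w ≠ 0 := by
    by_contra hcon
    push Not at hcon
    exact hne ((AddSubgroup.eq_bot_iff_forall _).2 hcon)
  have h1 : z ⊗ₜ[k] w ∈ (GrSeg.segrePiece k ℳ 𝒩 (n + d) : Set (M ⊗[k] N)) :=
    Submodule.subset_span ⟨z, hz, w, hw, rfl⟩
  rw [← hP.image_piece] at h1
  obtain ⟨q, hq, hqe⟩ := h1
  have hqs : q ∈ Submodule.span T {p} := by rw [hgen]; trivial
  obtain ⟨t, rfl⟩ := Submodule.mem_span_singleton.1 hqs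
  -- homogeneous elements act homogeneously on p
  have hact : ∀ c : ℤ, ∀ ξ ∈ GrSeg.segrePiece k 𝒜 ℬ c,
      GrSeg.act k R S M N ξ (x ⊗ₜ[k] y) ∈ GrSeg.segrePiece k ℳ 𝒩 (n + c) := by
    intro c ξ hξ
    induction hξ using Submodule.span_induction with
    | mem ξ hξ =>
      obtain ⟨a, ha, b, hb, rfl⟩ := hξ
      rw [GrSeg.act_tmul]
      refine Submodule.subset_span ⟨a • x, ?_, b • y, ?_, rfl⟩
      · have := SetLike.GradedSMul.smul_mem ha hx
        rwa [vadd_eq_add, add_comm] at this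
      · have := SetLike.GradedSMul.smul_mem hb hy
        rwa [vadd_eq_add, add_comm] at this
    | zero => simp
    | add ξ ξ' _ _ h h' => rw [map_add, LinearMap.add_apply]; exact add_mem h h'
    | smul c' ξ _ h => rw [map_smul, LinearMap.smul_apply]; exact Submodule.smul_mem _ _ h
  have hpsi : ∀ c : ℤ, ∀ t' ∈ 𝒯 c, ψ t' ∈ GrSeg.segrePiece k 𝒜 ℬ c := by
    intro c t' ht'
    rw [← hT.2 c]
    exact ⟨t', ht', rfl⟩
  have key : ∀ c : ℤ, ∀ t' ∈ 𝒯 c, t' • p ∈ 𝒬 (n + c) := by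
    intro c t' ht'
    have h2 : φ (t' • p) ∈ (GrSeg.segrePiece k ℳ 𝒩 (n + c) : Set (M ⊗[k] N)) := by
      rw [hP.map_smul, hp]
      exact hact c _ (hpsi c t' ht')
    rw [← hP.image_piece] at h2
    obtain ⟨q', hq', e⟩ := h2
    rw [← hP.injective e]
    exact hq'
  -- reduce to homogeneous t
  have hsum : t • p = ((DirectSum.decompose 𝒯 t d : 𝒯 d) : T) • p := by
    have h3 : t • p = ∑ c ∈ (DirectSum.decompose 𝒯 t).support, ((DirectSum.decompose 𝒯 t c : 𝒯 c) : T) • p := by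
      conv_lhs => rw [← DirectSum.sum_support_decompose 𝒯 t]
      rw [Finset.sum_smul]
    have h4 : ((DirectSum.decompose 𝒬 (t • p) (n + d) : 𝒬 (n + d)) : P) = t • p :=
      DirectSum.decompose_of_mem_same 𝒬 hq
    rw [← h4]
    conv_lhs => rw [h3]
    rw [DirectSum.decompose_sum, DFinsupp.finsetSum_apply, AddSubmonoidClass.coe_finsetSum]
    have h5 : ∀ c ∈ (DirectSum.decompose 𝒯 t).support,
        ((DirectSum.decompose 𝒬 (((DirectSum.decompose 𝒯 t c : 𝒯 c) : T) • p) (n + d) : 𝒬 (n + d)) : P)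
          = if c = d then ((DirectSum.decompose 𝒯 t d : 𝒯 d) : T) • p else 0 := by
      intro c _
      split_ifs with h
      · subst h
        exact DirectSum.decompose_of_mem_same 𝒬 (key c _ (SetLike.coe_mem _))
      · exact DirectSum.decompose_of_mem_ne 𝒬 (key c _ (SetLike.coe_mem _)) (by omega)
    rw [Finset.sum_congr rfl h5, Finset.sum_ite_eq']
    split_ifs with h
    · rfl
    · rw [DFinsupp.notMem_support_iff.1 h]
      simp
  rw [hsum, hP.map_smul, hp] at hqe
  set td : T := ((DirectSum.decompose 𝒯 t d : 𝒯 d) : T) with htd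
  have htd' : ψ td ∈ GrSeg.segrePiece k 𝒜 ℬ d := hpsi d td (SetLike.coe_mem _)
  -- functional
  obtain ⟨lam, hlam⟩ : ∃ lam : N →ₗ[k] k, lam w = 1 := by
    obtain ⟨f, hf⟩ : ∃ f : Module.Dual k N, f w ≠ 0 := by
      by_contra hcon
      push Not at hcon
      exact hw0 ((Module.forall_dual_apply_eq_zero_iff k w).1 hcon)
    refine ⟨(f w)⁻¹ • f, ?_⟩
    rw [LinearMap.smul_apply, smul_eq_mul, inv_mul_cancel₀ hf]
  have hz' : z = contr lam (GrSeg.act k R S M N (ψ td) (x ⊗ₜ[k] y)) := by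
    rw [hqe, contr_tmul, hlam, one_smul]
  have hgen' : ∀ ξ ∈ GrSeg.segrePiece k 𝒜 ℬ d,
      ∃ r ∈ 𝒜 d, r • x = contr lam (GrSeg.act k R S M N ξ (x ⊗ₜ[k] y)) := by
    intro ξ hξ
    induction hξ using Submodule.span_induction with
    | mem ξ hξ =>
      obtain ⟨a, ha, b, hb, rfl⟩ := hξ
      refine ⟨lam (b • y) • a, Submodule.smul_mem _ _ ha, ?_⟩
      rw [GrSeg.act_tmul, contr_tmul, smul_assoc]
    | zero => exact ⟨0, zero_mem _, by simp⟩
    | add ξ ξ' _ _ h h' =>
      obtain ⟨r, hr, e⟩ := h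
      obtain ⟨r', hr', e'⟩ := h'
      exact ⟨r + r', add_mem hr hr', by rw [add_smul, e, e', map_add, LinearMap.add_apply, map_add]⟩
    | smul c' ξ _ h =>
      obtain ⟨r, hr, e⟩ := h
      exact ⟨c' • r, Submodule.smul_mem _ _ hr, by rw [smul_assoc, e, map_smul, LinearMap.smul_apply, map_smul]⟩
  obtain ⟨r, hr, e⟩ := hgen' _ htd'
  exact ⟨r, hr, by rw [e, ← hz']⟩

end Groth.Agent.S19749
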