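import Groth.Statements.S19750
import Mathlib
import Groth.Agent.Lib.Helper19.Segre

set_option autoImplicit false
universe u
open scoped TensorProduct
open GrSegre

namespace Groth.Agent.S19750

-- MARK
section Aux
open Groth.Agent.Lib.helper19.Segre

variable {k : Type u} [Field k]

/-- contraction with a functional on the right factor -/
noncomputable def contr {M N : Type u} [AddCommGroup M] [Module k M] [AddCommGroup N] [Module k N]
    (lam : N →ₗ[k] k) : M ⊗[k] N →ₗ[k] M :=
  (TensorProduct.rid k M).toLinearMap.comp (LinearMap.lTensor M lam)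

theorem contr_tmul {M N : Type u} [AddCommGroup M] [Module k M] [AddCommGroup N] [Module k N]
    (lam : N →ₗ[k] k) (m : M) (n : N) : contr lam (m ⊗ₜ[k] n) = lam n • m := by
  simp [contr]

section Std
variable {R : Type u} [CommRing R] [Algebra k R] (𝒜 : ℤ → Submodule k R) [GradedAlgebra 𝒜]

theorem std_decomp
    (hstd : Ideal.span (⋃ n ∈ Set.Ioi (0 : ℤ), (𝒜 n : Set R)) = Ideal.span ((𝒜 1 : Submodule k R) : Set R))
    {j : ℤ} (hj : 0 ≤ j) {x : R} (hx : x ∈ 𝒜 (j + 1)) :
    ∃ (n : ℕ) (f g : Fin n → R), (∀ i, f i ∈ 𝒜 j) ∧ (∀ i, g i ∈ 𝒜 1) ∧ ∑ i, f i * g i = x := by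
  classical
  have h1 : x ∈ Ideal.span ((𝒜 1 : Submodule k R) : Set R) := by
    rw [← hstd]
    apply Ideal.subset_span
    simp only [Set.mem_iUnion]
    exact ⟨j + 1, by simp only [Set.mem_Ioi]; omega, hx⟩
  obtain ⟨n, c, g, e⟩ := Submodule.mem_span_set'.1 h1
  refine ⟨n, fun i => ((DirectSum.decompose 𝒜 (c i) j : 𝒜 j) : R), fun i => (g i : R),
    fun i => SetLike.coe_mem _, fun i => (g i).2, ?_⟩
  have h2 : ((DirectSum.decompose 𝒜 x (j + 1) : 𝒜 (j + 1)) : R) = x := DirectSum.decompose_of_mem_same 𝒜 hx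
  rw [← h2, ← e, DirectSum.decompose_sum, DFinsupp.finsetSum_apply, AddSubmonoidClass.coe_finsetSum]
  apply Finset.sum_congr rfl
  intro i _
  rw [smul_eq_mul]
  rw [DirectSum.coe_decompose_mul_add_of_right_mem 𝒜 (g i).2]

theorem exists_theta [Nontrivial R] (hpos : ∀ n : ℤ, n < 0 → 𝒜 n = ⊥) :
    ∃ θ : R →ₗ[k] k, θ 1 = 1 ∧ (∀ m : ℤ, m ≠ 0 → ∀ y ∈ 𝒜 m, θ y = 0) ∧
      (∀ c : ℤ, 0 < c → ∀ b ∈ 𝒜 c, ∀ y : R, θ (b * y) = 0) := by
  classical
  obtain ⟨lam, hlam⟩ : ∃ lam : R →ₗ[k] k, lam 1 = 1 := by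
    obtain ⟨f, hf⟩ : ∃ f : Module.Dual k R, f 1 ≠ 0 := by
      by_contra hcon
      push Not at hcon
      exact one_ne_zero ((Module.forall_dual_apply_eq_zero_iff k (1 : R)).1 hcon)
    refine ⟨(f 1)⁻¹ • f, ?_⟩
    rw [LinearMap.smul_apply, smul_eq_mul, inv_mul_cancel₀ hf]
  refine ⟨lam.comp (GradedAlgebra.proj 𝒜 0), ?_, ?_, ?_⟩
  · rw [LinearMap.comp_apply, GradedAlgebra.proj_apply,
      DirectSum.decompose_of_mem_same 𝒜 (SetLike.GradedOne.one_mem), hlam]
  · intro m hm y hy
    rw [LinearMap.comp_apply, GradedAlgebra.proj_apply, DirectSum.decompose_of_mem_ne 𝒜 hy hm, map_zero]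
  · intro c hc b hb y
    rw [LinearMap.comp_apply, GradedAlgebra.proj_apply]
    have h0 : (0 : ℤ) = c + (-c) := by ring
    rw [h0, DirectSum.coe_decompose_mul_add_of_left_mem 𝒜 hb]
    have h' : ∀ z ∈ 𝒜 (-c), z = 0 := by
      intro z hz
      rwa [hpos (-c) (by omega), Submodule.mem_bot] at hz
    rw [h' _ (SetLike.coe_mem _), mul_zero, map_zero]

end Std

end Aux



/-- Let R and S be graded rings defined over a field k, both generated over k by their degree-one parts
and of positive Krull dimension, T = R # S with irrelevant ideal T_+, and let a ≥ b be integers.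
Then the number of generators ν_T(R(a) # S(b)) = dim_k (R(a) # S(b)) / T_+ (R(a) # S(b)) equals
dim_k R_{a−b}. Here a graded ring defined over k is a commutative k-algebra of finite type, graded
in nonnegative degrees by k-subspaces with degree-zero part k·1; the Segre product T = R # S = ⊕_n
R_n ⊗_k S_n is presented abstractly as a graded k-algebra T with an injective k-algebra homomorphism
ψ : T → R ⊗_k S carrying T_n onto the k-span of the elementary tensors a ⊗ b with a ∈ R_n, b ∈ S_n;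
the Segre product R(a) # S(b) = ⊕_n R_{n+a} ⊗_k S_{n+b} of the shifted modules is presented
abstractly as a graded T-module P with an injective k-linear map φ : P → R ⊗_k S carrying P_n onto
the k-span of the tensors x ⊗ y with x ∈ R_{n+a}, y ∈ S_{n+b} and turning the action of t ∈ T into
that of ψ(t); T_+ is the ideal spanned by the T_n with n > 0. -/
theorem result (k : Type u) [Field k] (R : Type u) [CommRing R] [Algebra k R] (𝒜 : ℤ → Submodule k R) [GradedAlgebra 𝒜] (hposR : ∀ n : ℤ, n < 0 → 𝒜 n = ⊥) (h0R : 𝒜 0 = Submodule.span k {(1 : R)}) [Algebra.FiniteType k R] (S : Type u) [CommRing S] [Algebra k S] (ℬ : ℤ → Submodule k S) [GradedAlgebra ℬ] (hposS : ∀ n : ℤ, n < 0 → ℬ n = ⊥) (h0S : ℬ 0 = Submodule.span k {(1 : S)}) [Algebra.FiniteType k S] (T : Type u) [CommRing T] [Algebra k T] (𝒯 : ℤ → Submodule k T) [GradedAlgebra 𝒯] (ψ : T →ₐ[k] TensorProduct k R S) (hT : GrSeg.IsSegreRing 𝒜 ℬ 𝒯 ψ) (hstdR : Ideal.span (⋃ n ∈ Set.Ioi (0 : ℤ), (𝒜 n : Set R)) = Ideal.span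 ((𝒜 1 : Submodule k R) : Set R)) (hstdS : Ideal.span (⋃ n ∈ Set.Ioi (0 : ℤ), (ℬ n : Set S)) = Ideal.span ((ℬ 1 : Submodule k S) : Set S)) (hr1 : 1 ≤ ringKrullDim R) (hs1 : 1 ≤ ringKrullDim S) (mT : HomogeneousIdeal 𝒯) (hmT : mT.toIdeal = Ideal.span (⋃ n ∈ Set.Ioi (0 : ℤ), (𝒯 n : Set T))) (a b : ℤ) (hab : b ≤ a) (P : Type u) [AddCommGroup P] [Module T P] [Module k P] [IsScalarTower k T P] (𝒬 : ℤ → AddSubgroup P) [DirectSum.Decomposition 𝒬] (φ : P →ₗ[k] TensorProduct k R S) (hP : GrSeg.IsSegreMod ψ (fun n : ℤ => 𝒜 (n + a)) (fun n : ℤ => ℬ (n + b)) 𝒬 φ) : Module.finrank k (P ⧸ (mT.toIdeal • (⊤ : Submodule T P))) = Module.finrank k (𝒜 (a - b)) := by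
  classical
  have : Nontrivial S := by
    by_contra h
    rw [not_nontrivial_iff_subsingleton] at h
    have h1 := ringKrullDim_eq_bot_of_subsingleton (R := S)
    rw [h1] at hs1
    simp at hs1
  obtain ⟨θ, hθ1, hθne, hθpos⟩ := exists_theta ℬ hposS
  set Ψ : P →ₗ[k] R := (contr θ).comp φ with hΨ
  set Q : Submodule T P := mT.toIdeal • ⊤ with hQ
  have hpsi : ∀ c : ℤ, ∀ t' ∈ 𝒯 c, ψ t' ∈ GrSeg.segrePiece k 𝒜 ℬ c := by
    intro c t' ht'
    rw [← hT.2 c]
    exact ⟨t', ht', rfl⟩
  have hksmul : ∀ (c : k) (q : P), q ∈ Q → c • q ∈ Q := by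
    intro c q hq
    rw [← algebraMap_smul T c q]
    exact Q.smul_mem _ hq
  -- (A) pieces of degree ≠ -b are killed
  have hA : ∀ n : ℤ, n ≠ -b → ∀ ξ ∈ GrSeg.segrePiece k (fun n : ℤ => 𝒜 (n + a)) (fun n : ℤ => ℬ (n + b)) n,
      contr θ ξ = 0 := by
    intro n hn ξ hξ
    induction hξ using Submodule.span_induction with
    | mem ξ hξ =>
      obtain ⟨x, hx, y, hy, rfl⟩ := hξ
      rw [contr_tmul, hθne (n + b) (by omega) y hy, zero_smul]
    | zero => simp
    | add _ _ _ _ h h' => rw [map_add, h, h', add_zero]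
    | smul c _ _ h => rw [map_smul, h, smul_zero]
  -- (B) the piece of degree -b
  have hB : ∀ ξ ∈ GrSeg.segrePiece k (fun n : ℤ => 𝒜 (n + a)) (fun n : ℤ => ℬ (n + b)) (-b),
      ξ = (contr θ ξ) ⊗ₜ[k] (1 : S) ∧ contr θ ξ ∈ 𝒜 (a - b) := by
    intro ξ hξ
    induction hξ using Submodule.span_induction with
    | mem ξ hξ =>
      obtain ⟨x, hx, y, hy, rfl⟩ := hξ
      have hx' : x ∈ 𝒜 (-b + a) := hx
      have hy' : y ∈ ℬ (-b + b) := hy
      rw [neg_add_cancel, h0S, Submodule.mem_span_singleton] at hy'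
      obtain ⟨c, rfl⟩ := hy'
      rw [contr_tmul, map_smul, hθ1, smul_eq_mul, mul_one]
      constructor
      · rw [TensorProduct.tmul_smul, TensorProduct.smul_tmul']
      · have : -b + a = a - b := by ring
        rw [← this]; exact Submodule.smul_mem _ _ hx'
    | zero => simp
    | add _ _ _ _ h h' =>
      refine ⟨?_, by rw [map_add]; exact add_mem h.2 h'.2⟩
      rw [map_add, TensorProduct.add_tmul, ← h.1, ← h'.1]
    | smul c _ _ h =>
      refine ⟨?_, by rw [map_smul]; exact Submodule.smul_mem _ _ h.2⟩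
      rw [map_smul, ← TensorProduct.smul_tmul', ← h.1]
  -- (C) positive-degree elements of the Segre ring act into the kernel of the contraction
  have hC : ∀ c : ℤ, 0 < c → ∀ ξ ∈ GrSeg.segrePiece k 𝒜 ℬ c, ∀ w : R ⊗[k] S,
      contr θ (GrSeg.act k R S R S ξ w) = 0 := by
    intro c hc ξ hξ w
    induction hξ using Submodule.span_induction with
    | mem ξ hξ =>
      obtain ⟨a', ha', b', hb', rfl⟩ := hξ
      induction w using TensorProduct.induction_on with
      | zero => simp
      | tmul x y =>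
        rw [GrSeg.act_tmul, contr_tmul, smul_eq_mul, smul_eq_mul, hθpos c hc b' hb' y, zero_smul]
      | add w w' h h' => rw [map_add, map_add, h, h', add_zero]
    | zero => simp
    | add _ _ _ _ h h' => rw [map_add, LinearMap.add_apply, map_add, h, h', add_zero]
    | smul c' _ _ h => rw [map_smul, LinearMap.smul_apply, map_smul, h, smul_zero]
  -- (D) Q ≤ ker Ψ
  have hD : ∀ q ∈ Q, Ψ q = 0 := by
    intro q hq
    refine Submodule.smul_induction_on hq ?_ ?_
    · intro t ht p _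
      rw [hmT] at ht
      have hgen : ∀ t ∈ Ideal.span (⋃ n ∈ Set.Ioi (0 : ℤ), (𝒯 n : Set T)), ∀ p : P, Ψ (t • p) = 0 := by
        intro t ht
        induction ht using Submodule.span_induction with
        | mem t ht =>
          intro p
          simp only [Set.mem_iUnion] at ht
          obtain ⟨c, hc, htc⟩ := ht
          show contr θ (φ (t • p)) = 0
          rw [hP.map_smul]
          exact hC c hc _ (hpsi c t htc) _
        | zero => intro p; simp
        | add t t' _ _ h h' => intro p; rw [add_smul, map_add, h p, h' p, add_zero]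
        | smul s t _ h => intro p; rw [smul_eq_mul, mul_comm, mul_smul]; exact h (s • p)
      exact hgen t ht p
    · intro q q' h h'; rw [map_add, h, h', add_zero]
  -- (E) pieces of degree > -b lie in Q
  have hE : ∀ n : ℤ, -b < n → ∀ ξ ∈ GrSeg.segrePiece k (fun n : ℤ => 𝒜 (n + a)) (fun n : ℤ => ℬ (n + b)) n,
      ∃ q ∈ Q, φ q = ξ := by
    intro n hn ξ hξ
    induction hξ using Submodule.span_induction with
    | mem ξ hξ =>
      obtain ⟨x, hx, y, hy, rfl⟩ := hξ
      have hx' : x ∈ 𝒜 ((n - 1 + a) + 1) := by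
        have : (n - 1 + a) + 1 = n + a := by ring
        rw [this]; exact hx
      have hy' : y ∈ ℬ ((n - 1 + b) + 1) := by
        have : (n - 1 + b) + 1 = n + b := by ring
        rw [this]; exact hy
      obtain ⟨n1, f, g, hf, hg, rfl⟩ := std_decomp 𝒜 hstdR (by omega) hx'
      obtain ⟨n2, f', g', hf', hg', rfl⟩ := std_decomp ℬ hstdS (by omega) hy'
      have hterm : ∀ i l, ∃ q ∈ Q, φ q = (f i * g i) ⊗ₜ[k] (f' l * g' l) := by
        intro i l
        have h1 : g i ⊗ₜ[k] g' l ∈ (𝒯 1).map ψ.toLinearMap := by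
          rw [hT.2 1]; exact Submodule.subset_span ⟨_, hg i, _, hg' l, rfl⟩
        obtain ⟨t, ht, hte⟩ := h1
        have hte' : ψ t = g i ⊗ₜ[k] g' l := hte
        have h2 : f i ⊗ₜ[k] f' l ∈
            (GrSeg.segrePiece k (fun n : ℤ => 𝒜 (n + a)) (fun n : ℤ => ℬ (n + b)) (n - 1) : Set (R ⊗[k] S)) :=
          Submodule.subset_span ⟨f i, hf i, f' l, hf' l, rfl⟩
        rw [← hP.image_piece] at h2
        obtain ⟨p, _, hp⟩ := h2
        refine ⟨t • p, Submodule.smul_mem_smul ?_ trivial, ?_⟩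
        · rw [hmT]
          apply Ideal.subset_span
          simp only [Set.mem_iUnion]
          exact ⟨1, by simp, ht⟩
        · rw [hP.map_smul, hp, hte', GrSeg.act_tmul, smul_eq_mul, smul_eq_mul, mul_comm (g i),
            mul_comm (g' l)]
      choose q hq hqe using hterm
      refine ⟨∑ i, ∑ l, q i l, Submodule.sum_mem _ (fun i _ => Submodule.sum_mem _ (fun l _ => hq i l)), ?_⟩
      rw [TensorProduct.sum_tmul, map_sum]
      apply Finset.sum_congr rfl
      intro i _
      rw [TensorProduct.tmul_sum, map_sum]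
      apply Finset.sum_congr rfl
      intro l _
      exact hqe i l
    | zero => exact ⟨0, zero_mem _, map_zero _⟩
    | add _ _ _ _ h h' =>
      obtain ⟨q, hq, e⟩ := h
      obtain ⟨q', hq', e'⟩ := h'
      exact ⟨q + q', add_mem hq hq', by rw [map_add, e, e']⟩
    | smul c _ _ h =>
      obtain ⟨q, hq, e⟩ := h
      exact ⟨c • q, hksmul c q hq, by rw [map_smul, e]⟩
  -- (E') pieces of degree < -b vanish
  have hE' : ∀ n : ℤ, n < -b → ∀ ξ ∈ GrSeg.segrePiece k (fun n : ℤ => 𝒜 (n + a)) (fun n : ℤ => ℬ (n + b)) n,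
      ξ = 0 := by
    intro n hn ξ hξ
    induction hξ using Submodule.span_induction with
    | mem ξ hξ =>
      obtain ⟨x, hx, y, hy, rfl⟩ := hξ
      have hy' : y ∈ ℬ (n + b) := hy
      rw [hposS (n + b) (by omega), Submodule.mem_bot] at hy'
      rw [hy', TensorProduct.tmul_zero]
    | zero => rfl
    | add _ _ _ _ h h' => rw [h, h', add_zero]
    | smul c _ _ h => rw [h, smul_zero]
  -- (F) P = P_{-b} + Q
  have hF : ∀ p : P, ∃ p₀ : P, ∃ q ∈ Q,
      φ p₀ ∈ GrSeg.segrePiece k (fun n : ℤ => 𝒜 (n + a)) (fun n : ℤ => ℬ (n + b)) (-b) ∧ p = p₀ + q := by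
    intro p
    induction p using DirectSum.Decomposition.inductionOn 𝒬 with
    | zero => exact ⟨0, 0, zero_mem _, by simp, by simp⟩
    | @homogeneous n p =>
      have h4 : φ p ∈ (GrSeg.segrePiece k (fun n : ℤ => 𝒜 (n + a)) (fun n : ℤ => ℬ (n + b)) n : Set (R ⊗[k] S)) := by
        rw [← hP.image_piece]; exact ⟨p, p.2, rfl⟩
      rcases lt_trichotomy n (-b) with h | h | h
      · have h5 : φ p = 0 := hE' n h _ h4
        have h6 : (p : P) = 0 := hP.injective (by rw [h5, map_zero])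
        exact ⟨0, 0, zero_mem _, by simp, by simp [h6]⟩
      · subst h; exact ⟨p, 0, zero_mem _, h4, by simp⟩
      · obtain ⟨q, hq, e⟩ := hE n h _ h4
        have h6 : (p : P) = q := hP.injective e.symm
        exact ⟨0, q, hq, by simp, by simp [h6]⟩
    | add p p' h h' =>
      obtain ⟨p₀, q, hq, h1, e⟩ := h
      obtain ⟨p₀', q', hq', h1', e'⟩ := h'
      refine ⟨p₀ + p₀', q + q', add_mem hq hq', by rw [map_add]; exact add_mem h1 h1', ?_⟩
      rw [e, e']; abel
  -- (G) ker Ψ = Q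
  have hG : Q.restrictScalars k = LinearMap.ker Ψ := by
    apply le_antisymm
    · intro q hq
      exact hD q hq
    · intro p hp
      rw [LinearMap.mem_ker] at hp
      obtain ⟨p₀, q, hq, h1, e⟩ := hF p
      have h2 : Ψ p₀ = 0 := by
        have : Ψ p = Ψ p₀ + Ψ q := by rw [e, map_add]
        rw [hp, hD q hq, add_zero] at this
        exact this.symm
      have h3 : φ p₀ = 0 := by
        rw [(hB _ h1).1]
        have : contr θ (φ p₀) = 0 := h2
        rw [this, TensorProduct.zero_tmul]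
      have h4 : p₀ = 0 := hP.injective (by rw [h3, map_zero])
      rw [e, h4, zero_add]
      exact hq
  -- (H) range Ψ = R_{a-b}
  have hH : LinearMap.range Ψ = 𝒜 (a - b) := by
    apply le_antisymm
    · rintro _ ⟨p, rfl⟩
      obtain ⟨p₀, q, hq, h1, e⟩ := hF p
      rw [e, map_add, hD q hq, add_zero]
      exact (hB _ h1).2
    · intro r hr
      have h1 : r ⊗ₜ[k] (1 : S) ∈
          (GrSeg.segrePiece k (fun n : ℤ => 𝒜 (n + a)) (fun n : ℤ => ℬ (n + b)) (-b) : Set (R ⊗[k] S)) := by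
        refine Submodule.subset_span ⟨r, ?_, 1, ?_, rfl⟩
        · show r ∈ 𝒜 (-b + a)
          have : -b + a = a - b := by ring
          rw [this]; exact hr
        · show (1 : S) ∈ ℬ (-b + b)
          rw [neg_add_cancel]; exact SetLike.GradedOne.one_mem
      rw [← hP.image_piece] at h1
      obtain ⟨p, _, hp⟩ := h1
      refine ⟨p, ?_⟩
      show contr θ (φ p) = r
      rw [hp, contr_tmul, hθ1, one_smul]
  rw [← (Submodule.Quotient.restrictScalarsEquiv k Q).finrank_eq, ← hH,
    ← Ψ.quotKerEquivRange.finrank_eq]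
  exact (Submodule.quotEquivOfEq _ _ hG).finrank_eq

end Groth.Agent.S19750
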