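import Groth.Statements.S19751
import Mathlib
import Groth.Agent.Lib.Helper19.GDual

set_option autoImplicit false
universe u
open GrDual

namespace Groth.Agent.S19751

-- MARK
section Aux
open Groth.Agent.Lib.helper19.Segre Groth.Agent.Lib.helper19.GDual

variable {k : Type u} [Field k] {R : Type u} [CommRing R] [Algebra k R] (𝒜 : ℤ → Submodule k R)
  [GradedAlgebra 𝒜]
  {F : Type u} [AddCommGroup F] [Module R F] (ℱ : ℤ → AddSubgroup F) [DirectSum.Decomposition ℱ]
  {M : Type u} [AddCommGroup M] [Module R M] (ℳ : ℤ → AddSubgroup M) [DirectSum.Decomposition ℳ]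

omit [Field k] [Algebra k R] in
/-- a graded homomorphism commutes with taking components -/
theorem grHom_decompose (f : F →ₗ[R] M) (hf : GrLC.IsGrHom ℱ ℳ f) (x : F) (n : ℤ) :
    ((DirectSum.decompose ℳ (f x) n : ℳ n) : M) = f ((DirectSum.decompose ℱ x n : ℱ n) : F) := by
  classical
  induction x using DirectSum.Decomposition.inductionOn ℱ with
  | zero => simp
  | @homogeneous m x =>
    by_cases h : m = n
    · subst h
      rw [DirectSum.decompose_of_mem_same ℳ (hf m x x.2), DirectSum.decompose_of_mem_same ℱ x.2]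
    · rw [DirectSum.decompose_of_mem_ne ℳ (hf m x x.2) h, DirectSum.decompose_of_mem_ne ℱ x.2 h,
        map_zero]
  | add x y hx hy =>
    rw [map_add, DirectSum.decompose_add, DirectSum.add_apply, AddSubgroup.coe_add, hx, hy,
      DirectSum.decompose_add, DirectSum.add_apply, AddSubgroup.coe_add, map_add]

end Aux



/-- Let R be a graded ring defined over a field k with m = R_+, let F and M be finitely generated graded
R-modules and f : F → M a surjective homomorphism of graded R-modules, with dual f^* : M^* → F^* on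
graded k-duals. Then f is minimal, that is Ker f ⊆ m F, if and only if f^* is essential: an
injective homomorphism of graded modules such that every nonzero graded submodule of F^* meets its
image. Here a graded ring defined over k is a commutative k-algebra of finite type, graded in
nonnegative degrees by k-subspaces with degree-zero part k·1, and R_+ is the ideal spanned by the
R_n with n > 0; the graded k-dual M^* = ⊕_n Hom_k(M_{−n}, k) of a graded R-module M (with r ∈ R
acting by (r f)(x) = f(r x)) is presented abstractly as a graded R-module D with a k-bilinear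
pairing β : D × M → k compatible with the R-actions, under which D_n pairs to zero with M_m for m ≠
−n and is identified with the full dual space of M_{−n}; f^* is presented as the R-linear map g :
M^* → F^* with β_F(g d, x) = β_M(d, f x). -/
theorem result (k : Type u) [Field k] (R : Type u) [CommRing R] [Algebra k R] (𝒜 : ℤ → Submodule k R) [GradedAlgebra 𝒜] (hposR : ∀ n : ℤ, n < 0 → 𝒜 n = ⊥) (h0R : 𝒜 0 = Submodule.span k {(1 : R)}) [Algebra.FiniteType k R] (mR : HomogeneousIdeal 𝒜) (hmR : mR.toIdeal = Ideal.span (⋃ n ∈ Set.Ioi (0 : ℤ), (𝒜 n : Set R))) (F : Type u) [AddCommGroup F] [Module R F] [Module k F] [IsScalarTower k R F] (ℱ : ℤ → AddSubgroup F) [DirectSum.Decomposition ℱ] [SetLike.GradedSMul 𝒜 ℱ] [Module.Finite R F] (M : Type u) [AddCommGroup M] [Module R M] [Module k M] [IsScalarTower k R M] (ℳ : ℤ → AddSubgroup M) [DirectSum.Decomposition ℳ] [SetLike.GradedSMul 𝒜 ℳ] [Module.Finite R M] (f : F →ₗ[R] M) (hf : Function.Surjective f) (hfgr : GrLC.IsGrHom ℱ ℳ f) (DM : Type u) [AddCommGroup DM] [Module R DM] [Module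 k DM] [IsScalarTower k R DM] (𝒟M : ℤ → AddSubgroup DM) [DirectSum.Decomposition 𝒟M] [SetLike.GradedSMul 𝒜 𝒟M] (βM : DM →ₗ[k] M →ₗ[k] k) (hDM : GrSeg.IsGDual R ℳ 𝒟M βM) (DF : Type u) [AddCommGroup DF] [Module R DF] [Module k DF] [IsScalarTower k R DF] (𝒟F : ℤ → AddSubgroup DF) [DirectSum.Decomposition 𝒟F] [SetLike.GradedSMul 𝒜 𝒟F] (βF : DF →ₗ[k] F →ₗ[k] k) (hDF : GrSeg.IsGDual R ℱ 𝒟F βF) (g : DM →ₗ[R] DF) (hg : GrSeg.IsGDualMap βM βF f g) : LinearMap.ker f ≤ mR.toIdeal • (⊤ : Submodule R F) ↔ GrLC.IsStarEss 𝒟M 𝒟F g := by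
  classical
  have hginj : Function.Injective g := by
    rw [injective_iff_map_eq_zero]
    intro d hd
    apply Groth.Agent.Lib.helper19.GDual.eq_zero_of_forall ℳ 𝒟M βM hDM d
    intro m
    obtain ⟨x, rfl⟩ := hf m
    rw [← hg d x, hd, map_zero, LinearMap.zero_apply]
  have hggr : GrLC.IsGrHom 𝒟M 𝒟F g := by
    intro n d hd
    apply Groth.Agent.Lib.helper19.GDual.mem_of_vanish ℱ 𝒟F βF hDF (g d) n
    intro m hm x hx
    rw [hg d x]
    exact hDM.vanish n d hd m hm (f x) (hfgr m x hx)
  -- an element killed by the positive-degree part pairs to zero with `m F`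
  have hkill : ∀ u : DF, (∀ j : ℤ, 0 < j → ∀ s ∈ 𝒜 j, s • u = 0) →
      ∀ y ∈ mR.toIdeal • (⊤ : Submodule R F), βF u y = 0 := by
    intro u hu y hy
    have h1 : ∀ s ∈ mR.toIdeal, s • u = 0 := by
      intro s hs
      rw [hmR] at hs
      induction hs using Submodule.span_induction with
      | mem s hs =>
        simp only [Set.mem_iUnion] at hs
        obtain ⟨j, hj, hsj⟩ := hs
        exact hu j hj s hsj
      | zero => simp
      | add s s' _ _ h h' => rw [add_smul, h, h', add_zero]
      | smul a s _ h => rw [smul_eq_mul, mul_smul, h, smul_zero]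
    refine Submodule.smul_induction_on hy ?_ ?_
    · intro s hs y _
      rw [← hDF.map_smul, h1 s hs, map_zero, LinearMap.zero_apply]
    · intro y y' h h'
      rw [map_add, h, h', add_zero]
  constructor
  · intro hker
    refine ⟨hginj, hggr, ?_⟩
    intro P hP hPne
    obtain ⟨u0, hu0P, hu0⟩ := Submodule.exists_mem_ne_zero_of_ne_bot hPne
    have h1 : ∃ n : ℤ, ((DirectSum.decompose 𝒟F u0 n : 𝒟F n) : DF) ≠ 0 := by
      by_contra hcon
      push Not at hcon
      apply hu0
      rw [← DirectSum.sum_support_decompose 𝒟F u0]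
      exact Finset.sum_eq_zero (fun n _ => hcon n)
    obtain ⟨n, hn⟩ := h1
    set u : DF := ((DirectSum.decompose 𝒟F u0 n : 𝒟F n) : DF) with hu
    have huP : u ∈ P := hP n hu0P
    have hudeg : u ∈ 𝒟F n := SetLike.coe_mem _
    obtain ⟨j0, hj0⟩ := Groth.Agent.Lib.helper19.GDual.exists_bound_below 𝒜 ℱ hposR
    let Pt : ℕ → Prop := fun t => ∃ r ∈ 𝒜 (t : ℤ), r • u ≠ 0
    have hP0 : Pt 0 := ⟨1, by rw [Nat.cast_zero]; exact SetLike.GradedOne.one_mem, by rwa [one_smul]⟩
    set B : ℕ := (-n - j0).toNat with hB
    have hbound : ∀ t : ℕ, Pt t → t ≤ B := by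
      rintro t ⟨r, hr, hru⟩
      by_contra hlt
      apply hru
      have hdeg : r • u ∈ 𝒟F ((t : ℤ) + n) :=
        Groth.Agent.Lib.helper19.Segre.smul_mem_add 𝒜 𝒟F hr hudeg
      apply hDF.eq_zero _ _ hdeg
      intro y hy
      have : y = 0 := hj0 _ (by omega) y hy
      rw [this, map_zero]
    have hPt0 : Pt (Nat.findGreatest Pt B) := Nat.findGreatest_spec (Nat.zero_le B) hP0
    obtain ⟨r, hr, hru⟩ := hPt0
    set t0 := Nat.findGreatest Pt B with ht0
    set u' : DF := r • u with hu'
    have hu'P : u' ∈ P := P.smul_mem r huP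
    have hu'deg : u' ∈ 𝒟F ((t0 : ℤ) + n) :=
      Groth.Agent.Lib.helper19.Segre.smul_mem_add 𝒜 𝒟F hr hudeg
    have hsoc : ∀ j : ℤ, 0 < j → ∀ s ∈ 𝒜 j, s • u' = 0 := by
      intro j hj s hs
      by_contra hne
      have hsr : s * r ∈ 𝒜 (((j.toNat + t0 : ℕ) : ℤ)) := by
        have h2 := SetLike.mul_mem_graded hs hr
        have h3 : j + (t0 : ℤ) = ((j.toNat + t0 : ℕ) : ℤ) := by
          rw [Nat.cast_add, Int.toNat_of_nonneg hj.le]
        rwa [h3] at h2
      have hPt : Pt (j.toNat + t0) := ⟨s * r, hsr, by rwa [mul_smul]⟩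
      have hle := hbound _ hPt
      have hlt : Nat.findGreatest Pt B < j.toNat + t0 := by
        have : 0 < j.toNat := by omega
        omega
      exact Nat.findGreatest_is_greatest hlt hle hPt
    have hk := hkill u' hsoc
    -- the functional on M
    let f' : F →ₗ[k] M := f.restrictScalars k
    have hf' : Function.Surjective f' := hf
    have hle : LinearMap.ker f' ≤ LinearMap.ker (βF u') := by
      intro x hx
      rw [LinearMap.mem_ker]
      apply hk
      apply hker
      exact hx
    let lam : M →ₗ[k] k :=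
      ((LinearMap.ker f').liftQ (βF u') hle).comp (f'.quotKerEquivOfSurjective hf').symm.toLinearMap
    have hlam : ∀ x : F, lam (f x) = βF u' x := by
      intro x
      show ((LinearMap.ker f').liftQ (βF u') hle) ((f'.quotKerEquivOfSurjective hf').symm (f' x)) = _
      rw [LinearMap.quotKerEquivOfSurjective_symm_apply, Submodule.liftQ_apply]
    obtain ⟨d, hd, hdx⟩ := hDM.exists_eq ((t0 : ℤ) + n) lam
    have hgd : g d = u' := by
      rw [← sub_eq_zero]
      apply Groth.Agent.Lib.helper19.GDual.eq_zero_of_forall ℱ 𝒟F βF hDF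
      intro x
      rw [map_sub, LinearMap.sub_apply, sub_eq_zero]
      induction x using DirectSum.Decomposition.inductionOn ℱ with
      | zero => simp
      | @homogeneous m x =>
        by_cases hm : m = -((t0 : ℤ) + n)
        · subst hm
          rw [hg d x, hdx _ (hfgr _ x x.2), hlam]
        · rw [hg d x, hDM.vanish _ d hd m hm _ (hfgr m x x.2),
            hDF.vanish _ u' hu'deg m hm _ x.2]
      | add x y hx hy => rw [map_add, map_add, hx, hy]
    intro hbot
    have hmem : u' ∈ P ⊓ LinearMap.range g := ⟨hu'P, ⟨d, hgd⟩⟩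
    rw [hbot, Submodule.mem_bot] at hmem
    exact hru hmem
  · intro hess
    -- reduce to homogeneous elements
    have hhom : ∀ n : ℤ, ∀ x ∈ ℱ n, f x = 0 → x ∈ mR.toIdeal • (⊤ : Submodule R F) := by
      intro n x hxn hfx
      by_contra hxN
      have hxN' : x ∉ (mR.toIdeal • (⊤ : Submodule R F)).restrictScalars k := hxN
      obtain ⟨lam, hlamx, hlamN⟩ := Submodule.exists_dual_map_eq_bot_of_notMem hxN' inferInstance
      have hlamN' : ∀ y ∈ mR.toIdeal • (⊤ : Submodule R F), lam y = 0 := by
        intro y hy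
        have h1 : lam y ∈ ((mR.toIdeal • (⊤ : Submodule R F)).restrictScalars k).map lam :=
          Submodule.mem_map_of_mem hy
        rw [hlamN] at h1
        exact h1
      obtain ⟨u, hu, hux⟩ := hDF.exists_eq (-n) (lam.comp (Groth.Agent.Lib.helper19.GDual.projK 𝒜 ℱ n))
      have hux' : ∀ y ∈ ℱ n, βF u y = lam y := by
        intro y hy
        rw [hux y (by rwa [neg_neg]), LinearMap.comp_apply,
          Groth.Agent.Lib.helper19.GDual.projK_of_mem 𝒜 ℱ hy]
      have hu1 : βF u x ≠ 0 := by rw [hux' x hxn]; exact hlamx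
      have hune : u ≠ 0 := by
        intro h0
        apply hu1
        rw [h0, map_zero, LinearMap.zero_apply]
      have hsoc : ∀ j : ℤ, 0 < j → ∀ s ∈ 𝒜 j, s • u = 0 := by
        intro j hj s hs
        have hdeg : s • u ∈ 𝒟F (j + -n) := Groth.Agent.Lib.helper19.Segre.smul_mem_add 𝒜 𝒟F hs hu
        apply hDF.eq_zero _ _ hdeg
        intro y hy
        rw [hDF.map_smul]
        have hsy : s • y ∈ ℱ n := by
          have h2 := Groth.Agent.Lib.helper19.Segre.smul_mem_add 𝒜 ℱ hs hy
          have h3 : j + -(j + -n) = n := by ring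
          rwa [h3] at h2
        rw [hux' _ hsy]
        apply hlamN'
        refine Submodule.smul_mem_smul ?_ Submodule.mem_top
        rw [hmR]
        apply Ideal.subset_span
        simp only [Set.mem_iUnion]
        exact ⟨j, hj, hs⟩
      -- the span of u
      have hspan : ∀ w ∈ Submodule.span R {u}, ∃ c : k, w = c • u := by
        intro w hw
        obtain ⟨r, rfl⟩ := Submodule.mem_span_singleton.1 hw
        have h3 : r • u = ((DirectSum.decompose 𝒜 r 0 : 𝒜 0) : R) • u := by
          conv_lhs => rw [← DirectSum.sum_support_decompose 𝒜 r]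
          rw [Finset.sum_smul]
          have hterm : ∀ a : ℤ, a ≠ 0 → ((DirectSum.decompose 𝒜 r a : 𝒜 a) : R) • u = 0 := by
            intro a ha
            rcases lt_or_gt_of_ne ha with h | h
            · have h' : ∀ z ∈ 𝒜 a, z = 0 := by
                intro z hz
                rwa [hposR a h, Submodule.mem_bot] at hz
              rw [h' _ (SetLike.coe_mem _), zero_smul]
            · exact hsoc a h _ (SetLike.coe_mem _)
          by_cases h0 : (0 : ℤ) ∈ (DirectSum.decompose 𝒜 r).support
          · rw [Finset.sum_eq_single_of_mem 0 h0]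
            intro a _ ha
            exact hterm a ha
          · rw [DFinsupp.notMem_support_iff.1 h0, Finset.sum_eq_zero]
            · simp
            · intro a ha
              by_cases ha0 : a = 0
              · subst ha0; exact absurd ha h0
              · exact hterm a ha0
        have h4 : ∀ z ∈ 𝒜 0, ∃ c : k, c • (1 : R) = z := by
          intro z hz
          rw [h0R, Submodule.mem_span_singleton] at hz
          exact hz
        obtain ⟨c, hc⟩ := h4 _ (SetLike.coe_mem (DirectSum.decompose 𝒜 r 0))
        refine ⟨c, ?_⟩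
        rw [h3, ← hc, smul_assoc, one_smul]
      have hPhom : (Submodule.span R {u}).IsHomogeneous 𝒟F := by
        intro i w hw
        obtain ⟨c, rfl⟩ := hspan w hw
        have hcu : c • u ∈ 𝒟F (-n) := Groth.Agent.Lib.helper19.Segre.ksmul_mem 𝒜 𝒟F c hu
        by_cases hi : -n = i
        · subst hi
          rw [DirectSum.decompose_of_mem_same 𝒟F hcu]
          exact hw
        · rw [DirectSum.decompose_of_mem_ne 𝒟F hcu hi]
          exact zero_mem _
      have hPne : Submodule.span R {u} ≠ ⊥ := by
        intro h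
        have : u ∈ Submodule.span R {u} := Submodule.mem_span_singleton_self u
        rw [h, Submodule.mem_bot] at this
        exact hune this
      obtain ⟨w, hw, hwne⟩ := Submodule.exists_mem_ne_zero_of_ne_bot (hess.essential _ hPhom hPne)
      obtain ⟨c, hc⟩ := hspan w hw.1
      obtain ⟨d, hd⟩ := hw.2
      have h5 : βF w x = 0 := by
        rw [← hd, hg d x, hfx, map_zero]
      rw [hc, map_smul, LinearMap.smul_apply, smul_eq_mul] at h5
      rcases mul_eq_zero.1 h5 with h | h
      · apply hwne
        rw [hc, h, zero_smul]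
      · exact hu1 h
    intro x hx
    rw [LinearMap.mem_ker] at hx
    rw [← DirectSum.sum_support_decompose ℱ x]
    apply Submodule.sum_mem
    intro n _
    apply hhom n _ (SetLike.coe_mem _)
    rw [← grHom_decompose ℱ ℳ f hfgr x n, hx, DirectSum.decompose_zero]
    rfl

end Groth.Agent.S19751
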