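import Groth.Statements.S19752
import Mathlib
import Groth.Agent.Lib.Helper19.GrMod
import Groth.Agent.Lib.Helper19.GDual
import Groth.Agent.Lib.Helper19.GDualG

set_option autoImplicit false
universe u
open GrDual

namespace Groth.Agent.S19752

-- MARK
section Aux
open Groth.Agent.Lib.helper19.GrMod Groth.Agent.Lib.helper19.GDualG

variable {k : Type u} [Field k] {R : Type u} [CommRing R] [Algebra k R] (𝒜 : ℤ → Submodule k R)
  [GradedAlgebra 𝒜]
  {D : Type u} [AddCommGroup D] [Module R D] [Module k D] [IsScalarTower k R D]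
  (𝒟 : ℤ → AddSubgroup D) [DirectSum.Decomposition 𝒟] [SetLike.GradedSMul 𝒜 𝒟]
  (β : D →ₗ[k] R →ₗ[k] k)

/-- the graded dual of `R` is *injective -/
theorem gdual_starInj (hD : GrSeg.IsGDual R 𝒜 𝒟 β) : GrLC.IsStarInj 𝒜 𝒟 := by
  classical
  intro A B φ hφgr hφinj γ hγgr
  let _ : Module k A.carrier := Module.compHom A.carrier (algebraMap k R)
  have : IsScalarTower k R A.carrier := IsScalarTower.of_algebraMap_smul (fun _ _ => rfl)
  let _ : Module k B.carrier := Module.compHom B.carrier (algebraMap k R)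
  have : IsScalarTower k R B.carrier := IsScalarTower.of_algebraMap_smul (fun _ _ => rfl)
  obtain ⟨ρ, hρ⟩ := (φ.restrictScalars k).exists_leftInverse_of_injective
    (LinearMap.ker_eq_bot.2 hφinj)
  have hρ' : ∀ a : A.carrier, ρ (φ a) = a := fun a => LinearMap.congr_fun hρ a
  let lamA : A.carrier →ₗ[k] k := (β.flip 1).comp (γ.restrictScalars k)
  have hlamA : ∀ a, lamA a = β (γ a) 1 := fun a => rfl
  let lamB : B.carrier →ₗ[k] k := lamA.comp ρ
  let lam' : B.carrier →ₗ[k] k := lamB.comp (Groth.Agent.Lib.helper19.GDual.projK 𝒜 B.gr 0)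
  have hlam' : ∀ b, lam' b = lamA (ρ ((DirectSum.decompose B.gr b 0 : B.gr 0) : B.carrier)) := fun b => rfl
  have huniq : ∀ d d' : D, (∀ r, β d r = β d' r) → d = d' := by
    intro d d' h
    rw [← sub_eq_zero]
    apply eq_zero_of_forall 𝒜 𝒟 β hD
    intro r
    rw [map_sub, LinearMap.sub_apply, h r, sub_self]
  have key : ∀ g : ℤ, ∀ b ∈ B.gr g, ∃ d ∈ 𝒟 g, ∀ r : R, β d r = lam' (r • b) := by
    intro g b hb
    let ν : R →ₗ[k] k := lam'.comp ((LinearMap.toSpanSingleton R B.carrier b).restrictScalars k)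
    have hν : ∀ r, ν r = lam' (r • b) := fun r => rfl
    obtain ⟨d, hd, hdx⟩ := hD.exists_eq g (ν.comp (GradedAlgebra.proj 𝒜 (-g)))
    refine ⟨d, hd, fun r => ?_⟩
    rw [beta_decompose_right 𝒜 𝒟 β hD hd r, hdx _ (SetLike.coe_mem _), LinearMap.comp_apply, hν,
      GradedAlgebra.proj_apply, DirectSum.decompose_of_mem_same 𝒜 (SetLike.coe_mem _), hlam', hlam']
    have h1 : ((DirectSum.decompose 𝒜 r (-g) : 𝒜 (-g)) : R) • b ∈ B.gr 0 := by
      have := smul_mem_add 𝒜 B.gr (SetLike.coe_mem (DirectSum.decompose 𝒜 r (-g))) hb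
      rwa [neg_add_cancel] at this
    have hcongr : ∀ i j : ℤ, i = j →
        ((DirectSum.decompose 𝒜 r i : 𝒜 i) : R) = ((DirectSum.decompose 𝒜 r j : 𝒜 j) : R) := by
      intro i j h
      subst h
      rfl
    rw [DirectSum.decompose_of_mem_same B.gr h1, decompose_smul_apply' 𝒜 B.gr r hb 0,
      hcongr (0 - g) (-g) (zero_sub g)]
  have hrange : ∀ b : B.carrier, ∃ d : D, ∀ r : R, β d r = lam' (r • b) := by
    intro b
    induction b using DirectSum.Decomposition.inductionOn B.gr with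
    | zero => exact ⟨0, fun r => by rw [map_zero, LinearMap.zero_apply, smul_zero, map_zero]⟩
    | @homogeneous g b =>
      obtain ⟨d, _, hd⟩ := key g b b.2
      exact ⟨d, hd⟩
    | add x x' h h' =>
      obtain ⟨y, hy⟩ := h
      obtain ⟨y', hy'⟩ := h'
      exact ⟨y + y', fun r => by rw [map_add, LinearMap.add_apply, hy, hy', smul_add, map_add]⟩
  choose f0 hf0 using hrange
  let χ : B.carrier →ₗ[R] D :=
    { toFun := f0
      map_add' := by
        intro x x'
        apply huniq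
        intro r
        rw [hf0, map_add, LinearMap.add_apply, hf0, hf0, smul_add, map_add]
      map_smul' := by
        intro s b
        apply huniq
        intro r
        rw [hf0, RingHom.id_apply, hD.map_smul s (f0 b) r, hf0, smul_smul, smul_eq_mul, mul_comm] }
  have hχ : ∀ b, χ b = f0 b := fun _ => rfl
  refine ⟨χ, ?_, ?_⟩
  · intro g b hb
    obtain ⟨d, hd, hdr⟩ := key g b hb
    have : χ b = d := by
      apply huniq
      intro r
      rw [hχ, hf0, hdr]
    rw [this]
    exact hd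
  · apply LinearMap.ext
    intro a
    apply huniq
    intro r
    rw [LinearMap.comp_apply, hχ, hf0, hlam', ← map_smul,
      grHom_decompose A.gr B.gr φ hφgr (r • a) 0, hρ', hlamA,
      ← grHom_decompose A.gr 𝒟 γ hγgr (r • a) 0]
    have h1 : (1 : R) ∈ 𝒜 (-0) := by
      rw [neg_zero]
      exact SetLike.one_mem_graded 𝒜
    rw [← beta_decompose_left 𝒜 𝒟 β hD (γ (r • a)) h1, map_smul, hD.map_smul, smul_eq_mul, mul_one]

end Aux



/-- Let R = ⊕_{n ≥ 0} R_n be a Noetherian graded ring with R_0 = k a field, m = R_+ and k = R/m. Then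
the graded k-dual R^* = ⊕_n Hom_k(R_{−n}, k) is the injective envelope of R/m in the category of
graded R-modules: for every injective homomorphism of graded R-modules e : R/m → R^*, the module R^*
is an injective object of the graded category and every nonzero graded submodule of R^* meets the
image of e. Here a graded ring defined over k is a commutative k-algebra of finite type, graded in
nonnegative degrees by k-subspaces with degree-zero part k·1, and R_+ is the ideal spanned by the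
R_n with n > 0 (a Noetherian such ring is the same as one of finite type over k); the graded k-dual
M^* = ⊕_n Hom_k(M_{−n}, k) of a graded R-module M (with r ∈ R acting by (r f)(x) = f(r x)) is
presented abstractly as a graded R-module D with a k-bilinear pairing β : D × M → k compatible with
the R-actions, under which D_n pairs to zero with M_m for m ≠ −n and is identified with the full
dual space of M_{−n}. -/
theorem result (k : Type u) [Field k] (R : Type u) [CommRing R] [Algebra k R] (𝒜 : ℤ → Submodule k R) [GradedAlgebra 𝒜] (hposR : ∀ n : ℤ, n < 0 → 𝒜 n = ⊥) (h0R : 𝒜 0 = Submodule.span k {(1 : R)}) [Algebra.FiniteType k R] (mR : HomogeneousIdeal 𝒜) (hmR : mR.toIdeal = Ideal.span (⋃ n ∈ Set.Ioi (0 : ℤ), (𝒜 n : Set R))) (D : Type u) [AddCommGroup D] [Module R D] [Module k D] [IsScalarTower k R D] (𝒟 : ℤ → AddSubgroup D) [DirectSum.Decomposition 𝒟] [SetLike.GradedSMul 𝒜 𝒟] (β : D →ₗ[k] R →ₗ[k] k) (hD : GrSeg.IsGDual R 𝒜 𝒟 β) (e : (R ⧸ mR.toIdeal) →ₗ[R] D) (he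 : Function.Injective e) (hegr : GrLC.IsGrHom (GrLC.quotGr 𝒜 mR) 𝒟 e) : GrLC.IsStarInjHull 𝒜 (GrLC.quotGr 𝒜 mR) 𝒟 e := by
  classical
  have hstar : GrLC.IsStarInj 𝒜 𝒟 := gdual_starInj 𝒜 𝒟 β hD
  refine ⟨⟨he, hegr, ?_⟩, hstar⟩
  have hcongr : ∀ (z : R) (i j : ℤ), i = j →
      ((DirectSum.decompose 𝒜 z i : 𝒜 i) : R) = ((DirectSum.decompose 𝒜 z j : 𝒜 j) : R) := by
    intro z i j h
    subst h
    rfl
  have hneg : ∀ c : ℤ, c < 0 → ∀ z ∈ 𝒜 c, z = 0 := by
    intro c hc z hz
    rw [hposR c hc] at hz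
    exact (Submodule.mem_bot k).1 hz
  -- the degree-zero part of an element of `mR` vanishes
  have hm0 : ∀ x ∈ mR.toIdeal, ((DirectSum.decompose 𝒜 x 0 : 𝒜 0) : R) = 0 := by
    intro x hx
    rw [hmR] at hx
    induction hx using Submodule.span_induction with
    | mem y hy =>
      obtain ⟨n, hn, hyn⟩ := Set.mem_iUnion₂.1 hy
      exact DirectSum.decompose_of_mem_ne 𝒜 hyn (ne_of_gt hn)
    | zero => rw [DirectSum.decompose_zero]; rfl
    | add y z _ _ hy hz =>
      rw [DirectSum.decompose_add, DirectSum.add_apply, Submodule.coe_add, hy, hz, add_zero]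
    | smul r y _ hy =>
      rw [smul_eq_mul, ← DirectSum.sum_support_decompose 𝒜 r, Finset.sum_mul, DirectSum.decompose_sum,
        DFinsupp.finsetSum_apply, AddSubmonoidClass.coe_finsetSum]
      apply Finset.sum_eq_zero
      intro c _
      have h1 := DirectSum.coe_decompose_mul_add_of_left_mem 𝒜 (i := c) (j := -c) (b := y)
        (SetLike.coe_mem (DirectSum.decompose 𝒜 r c))
      rw [hcongr _ 0 (c + -c) (add_neg_cancel c).symm, h1]
      rcases lt_trichotomy c 0 with hc | hc | hc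
      · rw [hneg c hc _ (SetLike.coe_mem _), zero_mul]
      · subst hc
        rw [hcongr y (-0) 0 neg_zero, hy, mul_zero]
      · rw [hneg (-c) (by omega) _ (SetLike.coe_mem _), mul_zero]
  intro P hPhom hPne
  obtain ⟨n, d, hdP, hdn, hd0⟩ :=
    Groth.Agent.Lib.helper19.GrMod.exists_homogeneous_ne_zero 𝒟 hPhom hPne
  have hR1 : (1 : R) ≠ 0 := by
    intro h
    apply hd0
    rw [← one_smul R d, h, zero_smul]
  have h1 : ∃ r ∈ 𝒜 (-n), β d r ≠ 0 := by
    by_contra hcon
    push Not at hcon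
    exact hd0 (hD.eq_zero n d hdn hcon)
  obtain ⟨r, hr, hβ⟩ := h1
  have hd'P : r • d ∈ P := P.smul_mem r hdP
  have hd'0 : r • d ∈ 𝒟 0 := by
    have := Groth.Agent.Lib.helper19.GrMod.smul_mem_add 𝒜 𝒟 hr hdn
    rwa [neg_add_cancel] at this
  have hβ' : β (r • d) 1 = β d r := by rw [hD.map_smul, smul_eq_mul, mul_one]
  generalize r • d = d' at hd'P hd'0 hβ'
  have hd₀0 : e (Ideal.Quotient.mk mR.toIdeal 1) ∈ 𝒟 0 :=
    hegr 0 _ ⟨1, SetLike.one_mem_graded 𝒜, rfl⟩
  have h1mem : (1 : R) ∉ mR.toIdeal := by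
    intro h
    have h2 := hm0 1 h
    rw [DirectSum.decompose_of_mem_same 𝒜 (SetLike.one_mem_graded 𝒜)] at h2
    exact hR1 h2
  have hd₀ne : e (Ideal.Quotient.mk mR.toIdeal 1) ≠ 0 := by
    intro h
    have h2 : Ideal.Quotient.mk mR.toIdeal 1 = 0 := he (by rw [h, map_zero])
    exact h1mem (Ideal.Quotient.eq_zero_iff_mem.1 h2)
  obtain ⟨d₀, hd₀def⟩ : ∃ d₀, d₀ = e (Ideal.Quotient.mk mR.toIdeal 1) := ⟨_, rfl⟩
  rw [← hd₀def] at hd₀0 hd₀ne
  have hβ₀ : β d₀ 1 ≠ 0 := by
    intro h
    apply hd₀ne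
    apply hD.eq_zero 0 _ hd₀0
    intro x hx
    rw [neg_zero, h0R] at hx
    obtain ⟨c, rfl⟩ := Submodule.mem_span_singleton.1 hx
    rw [LinearMap.map_smul, h, smul_zero]
  have hksmul : ∀ (c : k) (y : D), y ∈ 𝒟 0 → c • y ∈ 𝒟 0 := by
    intro c y hy
    rw [← algebraMap_smul R c y]
    have := Groth.Agent.Lib.helper19.GrMod.smul_mem_add 𝒜 𝒟 (SetLike.algebraMap_mem_graded 𝒜 c) hy
    rwa [add_zero] at this
  have hd'eq : d' = (β d' 1 / β d₀ 1) • d₀ := by
    rw [← sub_eq_zero]
    apply hD.eq_zero 0 _ (sub_mem hd'0 (hksmul _ _ hd₀0))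
    intro x hx
    rw [neg_zero, h0R] at hx
    obtain ⟨a, rfl⟩ := Submodule.mem_span_singleton.1 hx
    have h3 : β (d' - (β d' 1 / β d₀ 1) • d₀) 1 = 0 := by
      rw [map_sub, LinearMap.sub_apply, LinearMap.map_smul, LinearMap.smul_apply, smul_eq_mul,
        div_mul_cancel₀ _ hβ₀, sub_self]
    rw [LinearMap.map_smul, h3, smul_zero]
  intro hbot
  have hmem : d' ∈ P ⊓ LinearMap.range e := by
    refine ⟨hd'P, ⟨algebraMap k R (β d' 1 / β d₀ 1) • Ideal.Quotient.mk mR.toIdeal 1, ?_⟩⟩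
    rw [LinearMap.map_smul, algebraMap_smul, ← hd₀def]
    exact hd'eq.symm
  rw [hbot, Submodule.mem_bot] at hmem
  apply hβ
  rw [← hβ', hmem, map_zero, LinearMap.zero_apply]

end Groth.Agent.S19752
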