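import Groth.Statements.S19753
import Groth.Agent.Lib.Helper26.Seg27

set_option autoImplicit false
universe u
open scoped TensorProduct
open GrSegre

namespace Groth.Agent.S19753

theorem exists_nat_eq {z : WithBot ℕ∞} {a b : ℕ} (h1 : (a : WithBot ℕ∞) ≤ z)
    (h2 : z ≤ (b : WithBot ℕ∞)) : ∃ c : ℕ, z = c ∧ a ≤ c := by
  induction z using WithBot.recBotCoe with
  | bot => simp at h1
  | coe z =>
    induction z using ENat.recTopCoe with
    | top =>
      exfalso
      have : ((⊤ : ℕ∞) : WithBot ℕ∞) ≤ ((b : ℕ∞) : WithBot ℕ∞) := h2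
      rw [WithBot.coe_le_coe] at this
      simp at this
    | coe c =>
      refine ⟨c, rfl, ?_⟩
      have : ((a : ℕ∞) : WithBot ℕ∞) ≤ ((c : ℕ∞) : WithBot ℕ∞) := h1
      rw [WithBot.coe_le_coe] at this
      exact_mod_cast this

/-- Let R and S be graded rings defined over a field k, both generated over k by their degree-one parts
and of positive Krull dimension, T = R # S, and let M and N be finitely generated graded modules
over R and S respectively, neither of them Artinian. Then dim (M # N) = dim M + dim N − 1,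
dimensions being Krull dimensions of supports. Here a graded ring defined over k is a commutative
k-algebra of finite type, graded in nonnegative degrees by k-subspaces with degree-zero part k·1;
the Segre product T = R # S = ⊕_n R_n ⊗_k S_n is presented abstractly as a graded k-algebra T with
an injective k-algebra homomorphism ψ : T → R ⊗_k S carrying T_n onto the k-span of the elementary
tensors a ⊗ b with a ∈ R_n, b ∈ S_n; the Segre product M # N = ⊕_n M_n ⊗_k N_n of a graded R-module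
M and a graded S-module N is presented abstractly as a graded T-module P with an injective k-linear
map φ : P → M ⊗_k N carrying P_n onto the k-span of the tensors x ⊗ y with x ∈ M_n, y ∈ N_n and
turning the action of t ∈ T into that of ψ(t) (acting factorwise on M ⊗_k N). -/
theorem result (k : Type u) [Field k] (R : Type u) [CommRing R] [Algebra k R] (𝒜 : ℤ → Submodule k R) [GradedAlgebra 𝒜] (hposR : ∀ n : ℤ, n < 0 → 𝒜 n = ⊥) (h0R : 𝒜 0 = Submodule.span k {(1 : R)}) [Algebra.FiniteType k R] (S : Type u) [CommRing S] [Algebra k S] (ℬ : ℤ → Submodule k S) [GradedAlgebra ℬ] (hposS : ∀ n : ℤ, n < 0 → ℬ n = ⊥) (h0S : ℬ 0 = Submodule.span k {(1 : S)}) [Algebra.FiniteType k S] (T : Type u) [CommRing T] [Algebra k T] (𝒯 : ℤ → Submodule k T) [GradedAlgebra 𝒯] (ψ : T →ₐ[k] TensorProduct k R S) (hT : GrSeg.IsSegreRing 𝒜 ℬ 𝒯 ψ) (hstdR : Ideal.span (⋃ n ∈ Set.Ioi (0 : ℤ), (𝒜 n : Set R)) = Ideal.span ((𝒜 1 : Submodule k R) : Set R)) (hstdS : Ideal.span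 (⋃ n ∈ Set.Ioi (0 : ℤ), (ℬ n : Set S)) = Ideal.span ((ℬ 1 : Submodule k S) : Set S)) (hr1 : 1 ≤ ringKrullDim R) (hs1 : 1 ≤ ringKrullDim S) (M : Type u) [AddCommGroup M] [Module R M] [Module k M] [IsScalarTower k R M] (ℳ : ℤ → AddSubgroup M) [DirectSum.Decomposition ℳ] [SetLike.GradedSMul 𝒜 ℳ] [Module.Finite R M] (N : Type u) [AddCommGroup N] [Module S N] [Module k N] [IsScalarTower k S N] (𝒩 : ℤ → AddSubgroup N) [DirectSum.Decomposition 𝒩] [SetLike.GradedSMul ℬ 𝒩] [Module.Finite S N] (P : Type u) [AddCommGroup P] [Module T P] [Module k P] [IsScalarTower k T P] (𝒬 : ℤ → AddSubgroup P) [DirectSum.Decomposition 𝒬] (φ : P →ₗ[k] TensorProduct k M N) (hP : GrSeg.IsSegreMod ψ ℳ 𝒩 𝒬 φ) (dM dN : ℕ) (hdM : Module.supportDim R M = dM) (hdN : Module.supportDim S N = dN) (hMA : ¬ IsArtinian R M) (hNA : ¬ IsArtinian S N) : Module.supportDim T P = ((dM + dN - 1 : ℕ) : WithBot ℕ∞) := by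
  have hnoeR : IsNoetherianRing R := Algebra.FiniteType.isNoetherianRing k R
  have hnoeS : IsNoetherianRing S := Algebra.FiniteType.isNoetherianRing k S
  have h1M := Groth.Agent.Lib.helper26.Seg.one_le_of_not_isArtinian hMA dM hdM
  have h1N := Groth.Agent.Lib.helper26.Seg.one_le_of_not_isArtinian hNA dN hdN
  obtain ⟨hψ, hdegT⟩ := hT
  have hdegT' : ∀ n : ℤ, (𝒯 n).map ψ.toLinearMap =
      Submodule.span k {x : TensorProduct k R S | ∃ a ∈ 𝒜 n, ∃ b ∈ ℬ n, x = a ⊗ₜ[k] b} := hdegT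
  apply le_antisymm
  · refine Groth.Agent.Lib.helper26.Seg.supportDim_le 𝒜 ℬ 𝒯 ψ ℳ 𝒩 𝒬 φ hP hdegT' hposR h0R hposS h0S
      dM dN ?_ ?_ h1M h1N
    · rw [← Module.supportDim_eq_ringKrullDim_quotient_annihilator]; exact hdM
    · rw [← Module.supportDim_eq_ringKrullDim_quotient_annihilator]; exact hdN
  · obtain ⟨n₁, h₁⟩ := Groth.Agent.Lib.helper26.Seg.exists_homogeneous_dim_ge 𝒜 hposR h0R ℳ hstdR
      dM hdM h1M
    obtain ⟨n₂, h₂⟩ := Groth.Agent.Lib.helper26.Seg.exists_homogeneous_dim_ge ℬ hposS h0S 𝒩 hstdS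
      dN hdN h1N
    obtain ⟨x, hx, hxd⟩ := h₁ (max n₁ n₂) (le_max_left _ _)
    obtain ⟨y, hy, hyd⟩ := h₂ (max n₁ n₂) (le_max_right _ _)
    obtain ⟨p, -, hp⟩ := Groth.Agent.Lib.helper26.Seg.exists_preimage_tmul ψ ℳ 𝒩 𝒬 φ hP hx hy
    obtain ⟨a₀, ha₀⟩ := Groth.Agent.Lib.helper26.Seg.exists_nat_ringKrullDim_le k
      (R ⧸ Ideal.torsionOf R M x)
    obtain ⟨b₀, hb₀⟩ := Groth.Agent.Lib.helper26.Seg.exists_nat_ringKrullDim_le k
      (S ⧸ Ideal.torsionOf S N y)
    obtain ⟨a, ha, haM⟩ := exists_nat_eq hxd ha₀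
    obtain ⟨b, hb, hbN⟩ := exists_nat_eq hyd hb₀
    have hlow := Groth.Agent.Lib.helper26.Seg.le_supportDim_of_tmul 𝒜 ℬ 𝒯 ψ ℳ 𝒩 𝒬 φ hP hdegT'
      hposR h0R hposS h0S hx hy hp a b ha hb (by omega) (by omega)
    refine le_trans ?_ hlow
    have : dM + dN - 1 ≤ a + b - 1 := by omega
    exact_mod_cast this

end Groth.Agent.S19753
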