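import Groth.Statements.S1976
import Mathlib
import Groth.Agent.Lib.Helper3.WEtale3
import Groth.Agent.Lib.Helper3.WEtale
import Groth.Agent.S0736
import Groth.Agent.Lib.Helper24.IndEtaleCrit

set_option autoImplicit false
universe u
open CategoryTheory
open EtAlg

namespace Groth.Agent.S1976

theorem etale_of_fg {K : Type u} [Field K] {B : Type u} [CommRing B] [Algebra K B]
    [Algebra.WeaklyEtale K B] (S : Subalgebra K B) (hS : S.FG) : Algebra.Etale K S := by
  haveI : Algebra.WeaklyEtale K S := Groth.Agent.Lib.helper3.WEtale3.weaklyEtale_subalgebra S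
  haveI : Algebra.FormallyUnramified K S := Groth.Agent.Lib.helper3.WEtale.formallyUnramified K S
  haveI : Algebra.FiniteType K S := (Subalgebra.fg_iff_finiteType S).mp hS
  haveI : Algebra.FormallyEtale K S := Algebra.FormallyEtale.of_formallyUnramified_of_field K S
  haveI : Algebra.FinitePresentation K S := Algebra.FinitePresentation.of_finiteType.mp inferInstance
  exact ⟨inferInstance, inferInstance⟩

/-- (2) ⇔ (3): a K-algebra B over a field K is weakly etale exactly when it can be written as a filtered
colimit of etale K-algebras, and in that case its finitely generated K-subalgebras are etale. -/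
theorem result (K : Type u) [Field K] (B : Type u) [CommRing B] [Algebra K B] :
    (Algebra.WeaklyEtale K B ↔ EtPBC.IsIndEtale K B) ∧
    (Algebra.WeaklyEtale K B → ∀ S : Subalgebra K B, S.FG → Algebra.Etale K S) := by
  refine ⟨⟨fun h => ?_, fun h => Groth.Agent.S0736.result K B h⟩, fun h S hS => etale_of_fg S hS⟩
  haveI : ∀ S : {S : Subalgebra K B // S.FG}, Algebra.Etale K (S.1) := fun S => etale_of_fg S.1 S.2
  refine Groth.Agent.Lib.Helper24.IndEtaleCrit.isIndEtale_of_family
    (ι := {S : Subalgebra K B // S.FG}) (fun S => ↥S.1) (fun S => S.1.val) ?_ ?_ ?_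
  · intro S₁ S₂
    refine ⟨⟨S₁.1 ⊔ S₂.1, S₁.2.sup S₂.2⟩, Subalgebra.inclusion le_sup_left,
      Subalgebra.inclusion le_sup_right, ?_, ?_⟩ <;> ext x <;> rfl
  · intro S x hx
    refine ⟨S, AlgHom.id K _, rfl, ?_⟩
    exact Subtype.ext hx
  · intro b
    have hfg : (Algebra.adjoin K ({b} : Set B)).FG := by
      have := Subalgebra.fg_adjoin_finset (R := K) ({b} : Finset B)
      simpa using this
    exact ⟨⟨Algebra.adjoin K {b}, hfg⟩, ⟨b, Algebra.self_mem_adjoin_singleton K b⟩, rfl⟩

end Groth.Agent.S1976
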