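import Groth.Statements.S19762
import Mathlib
import Groth.Agent.Lib.Helper19.GDual

set_option autoImplicit false
universe u
open GrDual

namespace Groth.Agent.S19762

-- MARK
section Aux
open Groth.Agent.Lib.helper19.Segre Groth.Agent.Lib.helper19.GDual

variable {k : Type u} [Field k] {R : Type u} [CommRing R] [Algebra k R] (𝒜 : ℤ → Submodule k R)
  [GradedAlgebra 𝒜]
  {M : Type u} [AddCommGroup M] [Module R M] [Module k M] [IsScalarTower k R M]
  (ℳ : ℤ → AddSubgroup M) [DirectSum.Decomposition ℳ] [SetLike.GradedSMul 𝒜 ℳ]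
  {D : Type u} [AddCommGroup D] [Module R D] [Module k D] [IsScalarTower k R D]
  (𝒟 : ℤ → AddSubgroup D) [DirectSum.Decomposition 𝒟] [SetLike.GradedSMul 𝒜 𝒟]
  (β : D →ₗ[k] M →ₗ[k] k) (hD : GrSeg.IsGDual R ℳ 𝒟 β)

include hD in
/-- reflexivity in one degree: a `k`-linear functional on `D` is represented on `D_{-n}` by an element of `M_n`
when `M_n` is finite-dimensional. -/
theorem exists_represent [IsNoetherianRing R] [Module.Finite R M]
    (hpos : ∀ n : ℤ, n < 0 → 𝒜 n = ⊥) (h0 : 𝒜 0 = Submodule.span k {(1 : R)}) (n : ℤ)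
    (ℓ : D →ₗ[k] k) : ∃ y ∈ ℳ n, ∀ d ∈ 𝒟 (-n), β d y = ℓ d := by
  classical
  obtain ⟨s, hs_mem, hs_span⟩ := exists_finset_span_piece 𝒜 ℳ hpos h0 n
  set V : Submodule k M := Submodule.span k (s : Set M) with hV
  have hVle : ∀ v ∈ V, v ∈ ℳ n := by
    intro v hv
    induction hv using Submodule.span_induction with
    | mem v hv => exact hs_mem v hv
    | zero => exact zero_mem _
    | add v v' _ _ h h' => exact add_mem h h'
    | smul c v _ h => exact ksmul_mem 𝒜 ℳ c h
  have : FiniteDimensional k V := FiniteDimensional.span_finset k s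
  let b := Module.finBasis k V
  let π : M →ₗ[k] V := (projK 𝒜 ℳ n).codRestrict V (fun m => hs_span _ (projK_mem 𝒜 ℳ n m))
  have hπ : ∀ v : V, π (v : M) = v := by
    intro v
    apply Subtype.ext
    exact projK_of_mem 𝒜 ℳ (hVle _ v.2)
  have hdi : ∀ i, ∃ d ∈ 𝒟 (-n), ∀ v : V, β d (v : M) = b.coord i v := by
    intro i
    obtain ⟨d, hd, hdx⟩ := hD.exists_eq (-n) ((b.coord i).comp π)
    refine ⟨d, hd, ?_⟩
    intro v
    rw [hdx (v : M) (by rw [neg_neg]; exact hVle _ v.2), LinearMap.comp_apply, hπ]
  choose dd hdd_mem hdd using hdi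
  refine ⟨∑ i, ℓ (dd i) • ((b i : V) : M), ?_, ?_⟩
  · exact sum_mem (fun i _ => ksmul_mem 𝒜 ℳ _ (hVle _ (b i).2))
  · intro d hd
    have hdecomp : d = ∑ i, β d ((b i : V) : M) • dd i := by
      rw [← sub_eq_zero]
      apply hD.eq_zero (-n) _ (sub_mem hd (sum_mem (fun i _ => ksmul_mem 𝒜 𝒟 _ (hdd_mem i))))
      intro m hm
      rw [neg_neg] at hm
      have hmV : m ∈ V := hs_span m hm
      rw [map_sub, LinearMap.sub_apply, sub_eq_zero, map_sum, LinearMap.sum_apply]
      have hm2 : m = ∑ j, b.repr ⟨m, hmV⟩ j • ((b j : V) : M) := by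
        have := congrArg (Subtype.val) (b.sum_repr ⟨m, hmV⟩)
        simp only [Submodule.coe_sum, Submodule.coe_smul] at this
        exact this.symm
      have h3 : ∀ i, β (β d ((b i : V) : M) • dd i) m = β d ((b i : V) : M) * b.repr ⟨m, hmV⟩ i := by
        intro i
        rw [map_smul, LinearMap.smul_apply, smul_eq_mul]
        congr 1
        exact hdd i ⟨m, hmV⟩
      rw [Finset.sum_congr rfl (fun i _ => h3 i)]
      conv_lhs => rw [hm2]
      rw [map_sum]
      apply Finset.sum_congr rfl
      intro j _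
      rw [map_smul, smul_eq_mul, mul_comm]
    rw [map_sum]
    conv_rhs => rw [hdecomp]
    rw [map_sum]
    apply Finset.sum_congr rfl
    intro i _
    rw [map_smul, map_smul, smul_eq_mul, smul_eq_mul, mul_comm]

end Aux



/-- Let R = ⊕_{n ≥ 0} R_n be a Noetherian graded ring with R_0 = k a field. The graded k-dual is an
equivalence between Noetherian graded R-modules and the opposite category of Artinian graded
R-modules; on morphisms: for finitely generated graded R-modules F and M, every homomorphism of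
graded R-modules g : M^* → F^* is f^* for a unique homomorphism of graded R-modules f : F → M. Here
a graded ring defined over k is a commutative k-algebra of finite type, graded in nonnegative
degrees by k-subspaces with degree-zero part k·1, and R_+ is the ideal spanned by the R_n with n > 0
(a Noetherian such ring is the same as one of finite type over k); the graded k-dual M^* = ⊕_n
Hom_k(M_{−n}, k) of a graded R-module M (with r ∈ R acting by (r f)(x) = f(r x)) is presented
abstractly as a graded R-module D with a k-bilinear pairing β : D × M → k compatible with the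
R-actions, under which D_n pairs to zero with M_m for m ≠ −n and is identified with the full dual
space of M_{−n}; f^* = g means β_F(g d, x) = β_M(d, f x) for all d and x. -/
theorem result (k : Type u) [Field k] (R : Type u) [CommRing R] [Algebra k R] (𝒜 : ℤ → Submodule k R) [GradedAlgebra 𝒜] (hposR : ∀ n : ℤ, n < 0 → 𝒜 n = ⊥) (h0R : 𝒜 0 = Submodule.span k {(1 : R)}) [Algebra.FiniteType k R] (F : Type u) [AddCommGroup F] [Module R F] [Module k F] [IsScalarTower k R F] (ℱ : ℤ → AddSubgroup F) [DirectSum.Decomposition ℱ] [SetLike.GradedSMul 𝒜 ℱ] [Module.Finite R F] (M : Type u) [AddCommGroup M] [Module R M] [Module k M] [IsScalarTower k R M] (ℳ : ℤ → AddSubgroup M) [DirectSum.Decomposition ℳ] [SetLike.GradedSMul 𝒜 ℳ] [Module.Finite R M] (DM : Type u) [AddCommGroup DM] [Module R DM] [Module k DM] [IsScalarTower k R DM] (𝒟M : ℤ → AddSubgroup DM) [DirectSum.Decomposition 𝒟M] [SetLike.GradedSMul 𝒜 𝒟M] (βM : DM →ₗ[k] M →ₗ[k] k) (hDM : GrSeg.IsGDual R ℳ 𝒟M βM) (DF : Type u) [AddCommGroup DF] [Module R DF] [Module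 k DF] [IsScalarTower k R DF] (𝒟F : ℤ → AddSubgroup DF) [DirectSum.Decomposition 𝒟F] [SetLike.GradedSMul 𝒜 𝒟F] (βF : DF →ₗ[k] F →ₗ[k] k) (hDF : GrSeg.IsGDual R ℱ 𝒟F βF) (g : DM →ₗ[R] DF) (hg : GrLC.IsGrHom 𝒟M 𝒟F g) : ∃! f : F →ₗ[R] M, GrLC.IsGrHom ℱ ℳ f ∧ GrSeg.IsGDualMap βM βF f g := by
  classical
  have hnoeth : IsNoetherianRing R := Algebra.FiniteType.isNoetherianRing k R
  -- uniqueness of representing elements
  have huniq : ∀ y y' : M, (∀ d, βM d y = βM d y') → y = y' := by
    intro y y' h
    rw [← sub_eq_zero]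
    apply Groth.Agent.Lib.helper19.GDual.eq_zero_of_forall_right 𝒜 ℳ 𝒟M βM hDM
    intro d
    rw [map_sub, h d, sub_self]
  -- homogeneous elements
  have key : ∀ n : ℤ, ∀ x ∈ ℱ n, ∃ y ∈ ℳ n, ∀ d, βM d y = βF (g d) x := by
    intro n x hx
    let ℓ : DM →ₗ[k] k := (βF.flip x).comp (g.restrictScalars k)
    obtain ⟨y, hy, hyd⟩ := exists_represent 𝒜 ℳ 𝒟M βM hDM hposR h0R n ℓ
    refine ⟨y, hy, ?_⟩
    intro d
    induction d using DirectSum.Decomposition.inductionOn 𝒟M with
    | zero => simp
    | @homogeneous l d =>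
      by_cases hl : l = -n
      · subst hl
        rw [hyd d d.2]
        rfl
      · rw [hDM.vanish l d d.2 n (by omega) y hy,
          hDF.vanish l (g d) (hg l d d.2) n (by omega) x hx]
    | add d d' h h' => rw [map_add, LinearMap.add_apply, h, h', map_add, map_add, LinearMap.add_apply]
  have hrange : ∀ x : F, ∃ y : M, ∀ d, βM d y = βF (g d) x := by
    intro x
    induction x using DirectSum.Decomposition.inductionOn ℱ with
    | zero => exact ⟨0, by simp⟩
    | @homogeneous n x =>
      obtain ⟨y, _, hy⟩ := key n x x.2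
      exact ⟨y, hy⟩
    | add x x' h h' =>
      obtain ⟨y, hy⟩ := h
      obtain ⟨y', hy'⟩ := h'
      exact ⟨y + y', fun d => by rw [map_add, hy, hy', map_add]⟩
  choose f0 hf0 using hrange
  let f : F →ₗ[R] M :=
    { toFun := f0
      map_add' := by
        intro x x'
        apply huniq
        intro d
        rw [hf0, map_add, map_add, hf0, hf0]
      map_smul' := by
        intro r x
        apply huniq
        intro d
        rw [hf0, RingHom.id_apply, ← hDM.map_smul r d (f0 x), hf0, LinearMap.map_smul g r d,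
          hDF.map_smul r (g d) x] }
  have hfapp : ∀ x, f x = f0 x := fun _ => rfl
  refine ⟨f, ⟨?_, ?_⟩, ?_⟩
  · intro n x hx
    obtain ⟨y, hy, hyd⟩ := key n x hx
    have : f x = y := by
      apply huniq
      intro d
      rw [hfapp, hf0, hyd]
    rw [this]; exact hy
  · intro d x
    rw [hfapp, hf0]
  · rintro f' ⟨_, hf'⟩
    apply LinearMap.ext
    intro x
    apply huniq
    intro d
    rw [hfapp, hf0, ← hf' d x]

end Groth.Agent.S19762
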