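import Groth.Statements.S19764
import Groth.Agent.Lib.Helper26.GrCM13
import Groth.Agent.Lib.Helper26.GrCM14
import Groth.Agent.Lib.Helper26.Seg15
import Groth.Agent.S19747

set_option autoImplicit false
universe u
open scoped TensorProduct
attribute [local instance] MvPolynomial.weightedGradedAlgebra
open GrSegre

namespace Groth.Agent.S19764

open Groth.Agent.Lib.helper26.Seg Groth.Agent.Lib.helper26.GrCM

theorem bijective_aeval_X0 (k : Type u) [Field k] :
    Function.Bijective (Polynomial.aeval (R := k) (MvPolynomial.X 0 : MvPolynomial (Fin 1) k)) := by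
  set F := Polynomial.aeval (R := k) (MvPolynomial.X 0 : MvPolynomial (Fin 1) k) with hF
  set G : MvPolynomial (Fin 1) k →ₐ[k] Polynomial k :=
    MvPolynomial.aeval (fun _ => Polynomial.X) with hG
  have h1 : G.comp F = AlgHom.id k _ := by
    apply Polynomial.algHom_ext
    simp [hF, hG]
  have h2 : F.comp G = AlgHom.id k _ := by
    apply MvPolynomial.algHom_ext
    intro i
    have : i = 0 := Subsingleton.elim _ _
    subst this
    simp [hF, hG]
  refine ⟨fun x y h => ?_, fun y => ⟨G y, AlgHom.congr_fun h2 y⟩⟩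
  have h3 := congrArg G h
  rw [← AlgHom.comp_apply, ← AlgHom.comp_apply, h1] at h3
  exact h3

theorem act_eq_mul {k : Type u} [Field k] {R S : Type u} [CommRing R] [Algebra k R] [CommRing S]
    [Algebra k S] (w z : TensorProduct k R S) : GrSeg.act k R S R S w z = w * z := by
  induction w using TensorProduct.induction_on with
  | zero => simp
  | tmul r s =>
    induction z using TensorProduct.induction_on with
    | zero => simp
    | tmul r' s' =>
      rw [GrSeg.act_tmul, Algebra.TensorProduct.tmul_mul_tmul, smul_eq_mul, smul_eq_mul]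
    | add z z' h h' => rw [map_add, h, h', mul_add]
  | add w w' h h' => rw [map_add, LinearMap.add_apply, h, h', add_mul]


/-- Let R = k[X] and S = k[Y_1, …, Y_s] be polynomial rings over a field k with every variable of degree
1, s ≥ 2, T = R # S, and M = R(a), N = S(b) for integers a, b. Then (a) if a ≥ b, M # N is a
Cohen–Macaulay T-module; (b) if a < b, depth (M # N) = 1. (Part (a) of the published statement also
identifies M # N with S(b); that identification is not stated here.) Here the polynomial rings carry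
the standard grading by k-subspaces of homogeneous polynomials (indexed by ℤ, all variables of
weight 1); the Segre product T = R # S = ⊕_n R_n ⊗_k S_n is presented abstractly as a graded
k-algebra T with an injective k-algebra homomorphism ψ : T → R ⊗_k S carrying T_n onto the k-span of
the elementary tensors of bidegree (n, n), T_+ is the ideal spanned by the T_n with n > 0, and R(a)
# S(b) = ⊕_n R_{n+a} ⊗_k S_{n+b} is presented abstractly as a graded T-module P with an injective
k-linear map φ : P → R ⊗_k S carrying P_n onto the k-span of the tensors x ⊗ y with x ∈ R_{n+a}, y ∈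
S_{n+b} and turning the action of t ∈ T into that of ψ(t); a module over a ring is called
Cohen–Macaulay when each of its localizations at a prime ideal is zero or a Cohen–Macaulay module
over the local ring (dimension of the support equal to the depth), and the dimension of a module is
the Krull dimension of its support; the depth of P is its grade with respect to T_+ (the common
length of the maximal P-regular sequences in T_+). -/
theorem result (k : Type u) [Field k] (s : ℕ) (h2s : 2 ≤ s) (T : Type u) [CommRing T] [Algebra k T] (𝒯 : ℤ → Submodule k T) [GradedAlgebra 𝒯] (ψ : T →ₐ[k] TensorProduct k (MvPolynomial (Fin 1) k) (MvPolynomial (Fin s) k)) (hT : GrSeg.IsSegreRing (MvPolynomial.weightedHomogeneousSubmodule k (fun _ : Fin 1 => (1 : ℤ))) (MvPolynomial.weightedHomogeneousSubmodule k (fun _ : Fin s => (1 : ℤ))) 𝒯 ψ) (mT : HomogeneousIdeal 𝒯) (hmT : mT.toIdeal = Ideal.span (⋃ n ∈ Set.Ioi (0 : ℤ), (𝒯 n : Set T))) (a b : ℤ) (P : Type u) [AddCommGroup P] [Module T P] [Module k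 P] [IsScalarTower k T P] (𝒬 : ℤ → AddSubgroup P) [DirectSum.Decomposition 𝒬] (φ : P →ₗ[k] TensorProduct k (MvPolynomial (Fin 1) k) (MvPolynomial (Fin s) k)) (hP : GrSeg.IsSegreMod ψ (fun n : ℤ => (MvPolynomial.weightedHomogeneousSubmodule k (fun _ : Fin 1 => (1 : ℤ))) (n + a)) (fun n : ℤ => (MvPolynomial.weightedHomogeneousSubmodule k (fun _ : Fin s => (1 : ℤ))) (n + b)) 𝒬 φ) : (b ≤ a → (∀ (q : Ideal T) [q.IsPrime], Subsingleton (LocalizedModule q.primeCompl P) ∨ LocCoh.IsCohenMacaulayModule (Localization.AtPrime q) (LocalizedModule q.primeCompl P))) ∧ (a < b → LocCoh.idealDepth mT.toIdeal P = (1 : ℕ∞)) := by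
  classical
  obtain ⟨hψ, hdegT⟩ := hT
  have hdegT' : ∀ n : ℤ, (𝒯 n).map ψ.toLinearMap =
      Submodule.span k {x : TensorProduct k (MvPolynomial (Fin 1) k) (MvPolynomial (Fin s) k) |
        ∃ a ∈ stdGr k (Fin 1) n, ∃ b ∈ stdGr k (Fin s) n, x = a ⊗ₜ[k] b} := hdegT
  have hposR := stdGr_eq_bot (k := k) (σ := Fin 1)
  have h0R := stdGr_zero (k := k) (σ := Fin 1)
  have hposS := stdGr_eq_bot (k := k) (σ := Fin s)
  have h0S := stdGr_zero (k := k) (σ := Fin s)
  -- the shifted gradings
  let ℳ' : ℤ → AddSubgroup (MvPolynomial (Fin 1) k) :=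
    fun n => (stdGr k (Fin 1) (n + a)).toAddSubgroup
  let 𝒩' : ℤ → AddSubgroup (MvPolynomial (Fin s) k) :=
    fun n => (stdGr k (Fin s) (n + b)).toAddSubgroup
  have hdecM : DirectSum.Decomposition ℳ' := (shiftRing (stdGr k (Fin 1)) a).dec
  have hgsM : SetLike.GradedSMul (stdGr k (Fin 1)) ℳ' := (shiftRing (stdGr k (Fin 1)) a).gsmul
  have hdecN : DirectSum.Decomposition 𝒩' := (shiftRing (stdGr k (Fin s)) b).dec
  have hgsN : SetLike.GradedSMul (stdGr k (Fin s)) 𝒩' := (shiftRing (stdGr k (Fin s)) b).gsmul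
  have hP' : GrSeg.IsSegreMod ψ ℳ' 𝒩' 𝒬 φ := ⟨hP.injective, hP.image_piece, hP.map_smul⟩
  have hmemM : ∀ (n : ℤ) (r : MvPolynomial (Fin 1) k), r ∈ ℳ' n ↔ r ∈ stdGr k (Fin 1) (n + a) :=
    fun n r => Iff.rfl
  have hmemN : ∀ (n : ℤ) (g : MvPolynomial (Fin s) k), g ∈ 𝒩' n ↔ g ∈ stdGr k (Fin s) (n + b) :=
    fun n g => Iff.rfl
  have hfinP : Module.Finite T P := Groth.Agent.S19747.result k (MvPolynomial (Fin 1) k)
    (stdGr k (Fin 1)) hposR h0R (MvPolynomial (Fin s) k) (stdGr k (Fin s)) hposS h0S T 𝒯 ψ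
    ⟨hψ, hdegT⟩ (MvPolynomial (Fin 1) k) ℳ' (MvPolynomial (Fin s) k) 𝒩' P 𝒬 φ hP'
  have hFT : Algebra.FiniteType k T := finiteType_segre (stdGr k (Fin 1)) (stdGr k (Fin s)) 𝒯 ψ
    hdegT' hψ hposR h0R hposS h0S
  have hNoethT : IsNoetherianRing T := Algebra.FiniteType.isNoetherianRing k T
  have hposT := pieceT_eq_bot (stdGr k (Fin 1)) (stdGr k (Fin s)) 𝒯 ψ hdegT' hψ hposR
  have hgs : SetLike.GradedSMul 𝒯 𝒬 := gradedSMul (stdGr k (Fin 1)) (stdGr k (Fin s)) 𝒯 ψ ℳ' 𝒩' 𝒬
    φ hP' hdegT'
  have hbddP := exists_forall_lt_eq_bot 𝒯 hposT 𝒬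
  let i₀ : Fin s := ⟨0, by omega⟩
  refine ⟨fun hba q _ => ?_, fun hab => ?_⟩
  · -- (a): `P` is free of rank one over the Cohen–Macaulay ring `T`
    have hall : ∀ n : ℤ, 1 ≤ n → ∀ r ∈ stdGr k (Fin 1) n,
        r ∈ Ideal.span {(MvPolynomial.X 0 : MvPolynomial (Fin 1) k)} := by
      intro n hn r hr
      exact irr_le_span_X (mem_irr_of_mem _ (by omega) hr)
    obtain ⟨E⟩ := nonempty_ringEquiv_of_polynomial (stdGr k (Fin 1)) (stdGr k (Fin s)) 𝒯 ψ hdegT' hψ
      hposR h0R hposS (X_mem_stdGr 0) (bijective_aeval_X0 k) hall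
    have hk : LocCoh.IsCohenMacaulayRing k :=
      Groth.Agent.Lib.helper17.FieldCM.isCohenMacaulayRing_of_isArtinianRing k
    have hScm : LocCoh.IsCohenMacaulayRing (MvPolynomial (Fin s) k) :=
      Groth.Agent.Lib.helper26.CMPoly.isCohenMacaulayRing_mvPolynomial k s
    have hTcm : LocCoh.IsCohenMacaulayRing T :=
      Groth.Agent.Lib.helper26.CMPoly.isCohenMacaulayRing_of_ringEquiv E.symm
    -- the generator
    set c : ℕ := (a - b).toNat with hc
    have hcab : (c : ℤ) = a - b := Int.toNat_of_nonneg (by omega)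
    have hX : (MvPolynomial.X 0 ^ c : MvPolynomial (Fin 1) k) ∈ ℳ' (-b) := by
      rw [hmemM]
      have h1 := X_pow_mem_stdGr (k := k) (0 : Fin 1) c
      have h2 : (c : ℤ) = -b + a := by omega
      rwa [h2] at h1
    have h1N : (1 : MvPolynomial (Fin s) k) ∈ 𝒩' (-b) := by
      rw [hmemN]
      have h1 : (1 : MvPolynomial (Fin s) k) ∈ stdGr k (Fin s) 0 := SetLike.GradedOne.one_mem
      have h2 : (0 : ℤ) = -b + b := by omega
      rwa [h2] at h1
    obtain ⟨p₀, hp₀Q, hp₀⟩ := exists_of_mem_segrePiece ψ ℳ' 𝒩' 𝒬 φ hP'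
      (Submodule.subset_span ⟨_, hX, _, h1N, rfl⟩ :
        (MvPolynomial.X 0 ^ c : MvPolynomial (Fin 1) k) ⊗ₜ[k] (1 : MvPolynomial (Fin s) k) ∈
          GrSeg.segrePiece k ℳ' 𝒩' (-b))
    let f : T →ₗ[T] P := LinearMap.toSpanSingleton T P p₀
    have hf : ∀ t, φ (f t) = ψ t * ((MvPolynomial.X 0 ^ c : MvPolynomial (Fin 1) k) ⊗ₜ[k]
        (1 : MvPolynomial (Fin s) k)) := by
      intro t
      show φ (t • p₀) = _
      rw [hP.map_smul, hp₀, act_eq_mul]
    have hinj : Function.Injective f := by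
      rw [← LinearMap.ker_eq_bot, LinearMap.ker_eq_bot']
      intro t ht
      have h1 := hf t
      rw [ht, map_zero] at h1
      have hreg := isSMulRegular_tmul_one (k := k) (S := MvPolynomial (Fin s) k)
        ((X_isSMulRegular (k := k) (0 : Fin 1)).pow c)
      have h2 : ψ t = 0 := by
        apply hreg
        show ((MvPolynomial.X 0 ^ c : MvPolynomial (Fin 1) k) ⊗ₜ[k]
          (1 : MvPolynomial (Fin s) k)) * ψ t = _ * 0
        rw [mul_zero, mul_comm]
        exact h1.symm
      exact hψ (h2.trans (map_zero ψ).symm)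
    have hsurj : Function.Surjective f := by
      have hpiece : ∀ (n : ℤ) (z : TensorProduct k (MvPolynomial (Fin 1) k) (MvPolynomial (Fin s) k)),
          z ∈ GrSeg.segrePiece k ℳ' 𝒩' n → ∃ t : T, φ (f t) = z := by
        intro n z hz
        unfold GrSeg.segrePiece at hz
        induction hz using Submodule.span_induction with
        | mem z hz =>
          obtain ⟨r, hr, g, hg, rfl⟩ := hz
          rw [hmemM] at hr
          rw [hmemN] at hg
          by_cases hnb : n + b < 0
          · rw [hposS _ hnb, Submodule.mem_bot] at hg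
            exact ⟨0, by rw [map_zero, map_zero, hg, TensorProduct.tmul_zero]⟩
          · push Not at hnb
            obtain ⟨m, hm⟩ : ∃ m : ℕ, (m : ℤ) = n + b := ⟨(n + b).toNat, Int.toNat_of_nonneg hnb⟩
            have hma : ((m + c : ℕ) : ℤ) = n + a := by push_cast; omega
            rw [← hma] at hr
            obtain ⟨c', rfl⟩ := exists_eq_smul_X_pow hr
            have h1 : (c' • (MvPolynomial.X 0 ^ m : MvPolynomial (Fin 1) k)) ⊗ₜ[k] g ∈
                (𝒯 (n + b)).map ψ.toLinearMap := by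
              rw [hdegT']
              refine Submodule.subset_span ⟨_, ?_, g, hg, rfl⟩
              rw [← hm]
              exact Submodule.smul_mem _ _ (X_pow_mem_stdGr 0 m)
            obtain ⟨t, -, ht⟩ := h1
            refine ⟨t, ?_⟩
            rw [hf]
            have ht' : ψ t = (c' • (MvPolynomial.X 0 ^ m : MvPolynomial (Fin 1) k)) ⊗ₜ[k] g := ht
            rw [ht', Algebra.TensorProduct.tmul_mul_tmul, mul_one, smul_mul_assoc, ← pow_add]
        | zero => exact ⟨0, by rw [map_zero, map_zero]⟩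
        | add z z' _ _ h h' =>
          obtain ⟨t, ht⟩ := h
          obtain ⟨t', ht'⟩ := h'
          exact ⟨t + t', by rw [map_add, map_add, ht, ht']⟩
        | smul c' z _ h =>
          obtain ⟨t, ht⟩ := h
          refine ⟨c' • t, ?_⟩
          have h1 : f (c' • t) = c' • f t := by
            show (c' • t) • p₀ = c' • (t • p₀)
            rw [smul_assoc]
          rw [h1, map_smul, ht]
      intro p
      induction p using DirectSum.Decomposition.inductionOn 𝒬 with
      | zero => exact ⟨0, map_zero _⟩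
      | @homogeneous n p =>
        obtain ⟨t, ht⟩ := hpiece n (φ p) (phi_mem ψ ℳ' 𝒩' 𝒬 φ hP' p.2)
        exact ⟨t, hP.injective ht⟩
      | add p p' h h' =>
        obtain ⟨t, ht⟩ := h
        obtain ⟨t', ht'⟩ := h'
        exact ⟨t + t', by rw [map_add, ht, ht']⟩
    let e : T ≃ₗ[T] P := LinearEquiv.ofBijective f ⟨hinj, hsurj⟩
    have hfree : Module.Free T P := Module.Free.of_equiv e
    exact isCohenMacaulayModule_localization_of_free (A := T) (T := T) (P := P) q
  · -- (b): depth one
    have hntP : Nontrivial P := by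
      set c : ℕ := (b - a).toNat with hc
      have hcab : (c : ℤ) = b - a := Int.toNat_of_nonneg (by omega)
      have h1M : (1 : MvPolynomial (Fin 1) k) ∈ ℳ' (-a) := by
        rw [hmemM]
        have h1 : (1 : MvPolynomial (Fin 1) k) ∈ stdGr k (Fin 1) 0 := SetLike.GradedOne.one_mem
        have h2 : (0 : ℤ) = -a + a := by omega
        rwa [h2] at h1
      have hY : (MvPolynomial.X i₀ ^ c : MvPolynomial (Fin s) k) ∈ 𝒩' (-a) := by
        rw [hmemN]
        have h1 := X_pow_mem_stdGr (k := k) i₀ c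
        have h2 : (c : ℤ) = -a + b := by omega
        rwa [h2] at h1
      obtain ⟨p, -, hp⟩ := exists_of_mem_segrePiece ψ ℳ' 𝒩' 𝒬 φ hP'
        (Submodule.subset_span ⟨_, h1M, _, hY, rfl⟩ :
          (1 : MvPolynomial (Fin 1) k) ⊗ₜ[k] (MvPolynomial.X i₀ ^ c : MvPolynomial (Fin s) k) ∈
            GrSeg.segrePiece k ℳ' 𝒩' (-a))
      refine ⟨⟨p, 0, fun h0 => ?_⟩⟩
      rw [h0, map_zero] at hp
      exact tmul_ne_zero (k := k) one_ne_zero (pow_ne_zero c (MvPolynomial.X_ne_zero i₀)) hp.symm
    have hJP := irr_smul_top_ne_top 𝒯 hposT 𝒬 hbddP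
    set c : ℕ := (b - a - 1).toNat with hc
    have hcab : (c : ℤ) = b - a - 1 := Int.toNat_of_nonneg (by omega)
    have hμ : (1 : MvPolynomial (Fin 1) k) ∈ ℳ' ((-a - 1) + ((1 : ℕ) : ℤ)) := by
      rw [hmemM]
      have h1 : (1 : MvPolynomial (Fin 1) k) ∈ stdGr k (Fin 1) 0 := SetLike.GradedOne.one_mem
      have h2 : (0 : ℤ) = (-a - 1) + ((1 : ℕ) : ℤ) + a := by push_cast; omega
      rwa [h2] at h1
    have hν : (MvPolynomial.X i₀ ^ c : MvPolynomial (Fin s) k) ∈ 𝒩' (-a - 1) := by
      rw [hmemN]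
      have h1 := X_pow_mem_stdGr (k := k) i₀ c
      have h2 : (c : ℤ) = -a - 1 + b := by omega
      rwa [h2] at h1
    have hK : ∀ a' ∈ irr (stdGr k (Fin 1)) ^ 1, ∀ m : MvPolynomial (Fin 1) k,
        ∃ m' : MvPolynomial (Fin 1) k, a' • m = (MvPolynomial.X 0 : MvPolynomial (Fin 1) k) • m' := by
      intro a' ha' m
      rw [pow_one] at ha'
      obtain ⟨c', hc'⟩ := Ideal.mem_span_singleton'.1 (irr_le_span_X ha')
      exact ⟨c' * m, by rw [← hc', smul_eq_mul, smul_eq_mul]; ring⟩
    have hone := idealDepth_irr_segre_mod_eq_one (stdGr k (Fin 1)) (stdGr k (Fin s)) 𝒯 ψ ℳ' 𝒩' 𝒬 φ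
      hP' hdegT' hJP (D := 1) one_pos (by exact_mod_cast X_mem_stdGr (k := k) (0 : Fin 1))
      (X_isSMulRegular 0) (by exact_mod_cast X_mem_stdGr (k := k) i₀) (X_isSMulRegular i₀)
      hμ (X_smul_ne_one 0) 1 hK hν (pow_ne_zero c (MvPolynomial.X_ne_zero i₀))
    rw [hmT]
    exact hone

end Groth.Agent.S19764
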