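import Groth.Statements.S19766
import Groth.Agent.Lib.Helper14.PicCls

set_option autoImplicit false
universe u
open CategoryTheory MonoidalCategory CartesianMonoidalCategory MonObj GrpObj AlgebraicGeometry
open AbVar

namespace Groth.Agent.S19766

/-- Let X be an abelian variety over a field k (a proper, geometrically integral k-group scheme), L an
invertible O_X-module, and i : K → X a closed immersion exhibiting K as K(L): the maximal closed
subscheme of X over which the Mumford bundle m^*L ⊗ p_1^*L⁻¹ ⊗ p_2^*L⁻¹ on X ×_k X, restricted to X
×_k K, is the inverse image of an invertible module on K, with its universal property for morphisms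
T → X. Let T be a k-scheme and x : T → X a T-valued point, t_x : X_T → X_T the translation by x and
L_T the inverse image of L on X_T = X ×_k T. Then x factors through i if and only if t_x^*L_T ⊗
L_T⁻¹ is the inverse image of a line bundle on T, stated without inverses: there is an invertible
O_T-module M with L_T ⊗ pr_T^*M ≅ t_x^*L_T. -/
theorem result (k : Type u) [Field k] (X : Over (Spec (CommRingCat.of k)))
    [GrpObj X] [IsProper X.hom] [GeometricallyIntegral X.hom] (L : X.left.Modules) (hL : PicF.IsInvertible L)
    (K : Over (Spec (CommRingCat.of k))) (i : K ⟶ X) (hK : ThetaGrp.IsKL X L i)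
    (T : Over (Spec (CommRingCat.of k))) (x : T ⟶ X) :
    (∃ y : T ⟶ K, y ≫ i = x) ↔ ∃ M : T.left.Modules, PicF.IsInvertible M ∧
      Nonempty (CohB1.tensorMod ((Scheme.Modules.pullback (fst X T).left).obj L)
          ((Scheme.Modules.pullback (snd X T).left).obj M) ≅
        (Scheme.Modules.pullback (ThetaGrp.transl X x ≫ fst X T).left).obj L) := by
  open Groth.Agent.Lib.Helper14.PicCls in
  rw [← hK.univ T x]
  have hm : (X ◁ x) ≫ μ[X] = ThetaGrp.transl X x ≫ fst X T := by
    rw [ThetaGrp.transl_fst, Hom.mul_def]
    congr 1
  have hx : pull (snd X T).left (pull x.left (cls L)) = pull (snd X T ≫ x).left (cls L) :=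
    pull_left_comp _ _ _
  constructor
  · rintro ⟨M, hM, hlam⟩
    rw [isLambdaSheaf_iff, hm] at hlam
    refine ⟨CohB1.tensorMod M ((Scheme.Modules.pullback x.left).obj L),
      Groth.Agent.Lib.helper12.TensorInv.isInvertible_tensorMod hM
        (Groth.Agent.Lib.helper11.InvMod.isInvertible_pullback _ hL), ?_⟩
    rw [← cls_eq_iff, cls_tensor, ← pull_cls, ← pull_cls, ← pull_cls, cls_tensor, map_mul,
      ← pull_cls x.left, hx, ← hlam, ← pull_cls]
    ac_rfl
  · rintro ⟨M, hM, hiso⟩
    obtain ⟨L', hL', hLL'⟩ := exists_inverse_cls
      (Groth.Agent.Lib.helper11.InvMod.isInvertible_pullback x.left hL)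
    refine ⟨CohB1.tensorMod M L',
      Groth.Agent.Lib.helper12.TensorInv.isInvertible_tensorMod hM hL', ?_⟩
    rw [isLambdaSheaf_iff, hm]
    rw [← cls_eq_iff, cls_tensor, ← pull_cls, ← pull_cls, ← pull_cls] at hiso
    rw [← hiso, ← pull_cls, cls_tensor, map_mul, ← hx]
    rw [← pull_cls] at hLL'
    calc pull (snd X T).left (cls M) * pull (snd X T).left (cls L') * pull (fst X T).left (cls L) *
          pull (snd X T).left (pull x.left (cls L))
        = pull (fst X T).left (cls L) * pull (snd X T).left (cls M) *
            (pull (snd X T).left (pull x.left (cls L)) * pull (snd X T).left (cls L')) := by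
          ac_rfl
      _ = pull (fst X T).left (cls L) * pull (snd X T).left (cls M) := by
          rw [← map_mul, hLL', map_one, _root_.mul_one]

end Groth.Agent.S19766
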