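import Groth.Statements.S19770
import Groth.Agent.Lib.Helper14.PicCls

set_option autoImplicit false
universe u
open CategoryTheory MonoidalCategory CartesianMonoidalCategory MonObj GrpObj AlgebraicGeometry
open AbVar

namespace Groth.Agent.S19770

/-- Let X be an abelian variety over a field k (a proper, geometrically integral k-group scheme), L an
invertible O_X-module, i : K → X a closed immersion exhibiting K as K(L) (the maximal closed
subscheme over which the Mumford bundle m^*L ⊗ p_1^*L⁻¹ ⊗ p_2^*L⁻¹, restricted to X ×_k K, is the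
inverse image of an invertible module on K, with its universal property), and B a k-group scheme
with a homomorphism j : B → X that factors through i. Write M = j^*L. Then M ⊗ [-1]^*M ≅ O_B, where
[-1] : B → B is the inversion (existence of an isomorphism). (The published statement assumes k
algebraically closed and takes for B the reduced identity component of K(L), an abelian subvariety;
the argument — restrict the Mumford bundle to B × B and pull back along (1, -1) — applies to any
group scheme over k mapping homomorphically into K(L).) -/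
theorem result (k : Type u) [Field k] (X : Over (Spec (CommRingCat.of k)))
    [GrpObj X] [IsProper X.hom] [GeometricallyIntegral X.hom] (L : X.left.Modules) (hL : PicF.IsInvertible L)
    (K : Over (Spec (CommRingCat.of k))) (i : K ⟶ X) (hK : ThetaGrp.IsKL X L i)
    (B : Over (Spec (CommRingCat.of k))) [GrpObj B] (j : B ⟶ X) [IsMonHom j] (hj : ∃ y : B ⟶ K, y ≫ i = j) :
    Nonempty (CohB1.tensorMod ((Scheme.Modules.pullback j.left).obj L)
        ((Scheme.Modules.pullback ((𝟙 B)⁻¹ ≫ j).left).obj L) ≅ Coh.structureModule B.left) := by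
  open Groth.Agent.Lib.Helper14.PicCls in
  obtain ⟨N, hN, hlam⟩ := (hK.univ B j).mpr hj
  rw [isLambdaSheaf_iff] at hlam
  rw [← cls_eq_iff, cls_tensor, cls_unit, ← pull_cls, ← pull_cls]
  -- the two sections of `X ⊗ B ⟶ B`
  have hσ1 : lift (toUnit B ≫ η[X]) (𝟙 B) ≫ snd X B = 𝟙 B := lift_snd _ _
  have hσ2 : lift (toUnit B ≫ η[X]) (𝟙 B) ≫ fst X B = toUnit B ≫ η[X] := lift_fst _ _
  have hσ3 : lift (toUnit B ≫ η[X]) (𝟙 B) ≫ snd X B ≫ j = j := by
    rw [lift_snd_assoc, Category.id_comp]
  have hσ4 : lift (toUnit B ≫ η[X]) (𝟙 B) ≫ (X ◁ j) ≫ μ[X] = j := by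
    rw [lift_whiskerLeft_assoc, Category.id_comp, ← Hom.mul_def, ← Hom.one_def, _root_.one_mul]
  have hψ1 : lift ((𝟙 B)⁻¹ ≫ j) (𝟙 B) ≫ snd X B = 𝟙 B := lift_snd _ _
  have hψ2 : lift ((𝟙 B)⁻¹ ≫ j) (𝟙 B) ≫ fst X B = (𝟙 B)⁻¹ ≫ j := lift_fst _ _
  have hψ3 : lift ((𝟙 B)⁻¹ ≫ j) (𝟙 B) ≫ snd X B ≫ j = j := by
    rw [lift_snd_assoc, Category.id_comp]
  have hψ4 : lift ((𝟙 B)⁻¹ ≫ j) (𝟙 B) ≫ (X ◁ j) ≫ μ[X] = toUnit B ≫ η[X] := by
    rw [lift_whiskerLeft_assoc, Category.id_comp, ← Hom.mul_def, GrpObj.inv_comp, Category.id_comp,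
      inv_mul_cancel, Hom.one_def]
  have h1 := congrArg (pull (lift (toUnit B ≫ η[X]) (𝟙 B)).left) hlam
  have h2 := congrArg (pull (lift ((𝟙 B)⁻¹ ≫ j) (𝟙 B)).left) hlam
  simp only [map_mul, ← pull_cls, pull_left_comp] at h1 h2
  rw [hσ1, hσ2, hσ3, hσ4, pull_left_id, pull_const hL η[X], _root_.mul_one] at h1
  rw [hψ1, hψ2, hψ3, hψ4, pull_left_id, pull_const hL η[X]] at h2
  -- `h1 : cls N * pull j ℓ = pull j ℓ`, `h2 : cls N * pull (inv ≫ j) ℓ * pull j ℓ = 1`
  have hu : IsUnit (pull j.left (cls L)) := by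
    rw [pull_cls]
    exact isUnit_cls (Groth.Agent.Lib.helper11.InvMod.isInvertible_pullback _ hL)
  have hN1 : cls N = 1 := by
    have := hu.mul_left_inj.mp (h1.trans (_root_.one_mul _).symm)
    exact this
  rw [hN1, _root_.one_mul] at h2
  rw [_root_.mul_comm]
  exact h2

end Groth.Agent.S19770
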