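import Groth.Statements.S19779
import Groth.Agent.Lib.Helper12.GabberMatLaurent

set_option autoImplicit false
universe u
open Polynomial TensorProduct
open CAlg

namespace Groth.Agent.S19779

/-- For general linear groups, in the case R{t}[1/t] → R((t)), let R be a commutative ring, B = R{t} a
henselization of R[t] along (t), ψ : B → R[[t]] the R[t]-algebra map, L = B[1/t], and L' an
L-algebra identified with R((t)) compatibly with ψ. Then base change along L → L' is a bijection on
isomorphism classes of finitely generated projective modules: two finitely generated projective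
L-modules isomorphic over L' are isomorphic, and every finitely generated projective L'-module is
extended from one over L. (The published statement is the bijection H¹(R{t}[1/t], G) ≅ H¹(R((t)), G)
for every quasi-affine smooth group G; this row is the case of the general linear groups, stated for
finitely generated projective modules of arbitrary rank.) -/
theorem result (R : Type u) [CommRing R]
    (B : Type u) [CommRing B] [Algebra R[X] B] (hB : Hens2.IsPairHenselization R[X] (Ideal.span {(X : R[X])}) B)
    (ψ : B →ₐ[R[X]] PowerSeries R)
    (L' : Type u) [CommRing L'] [Algebra (Localization.Away (algebraMap R[X] B X)) L'] (e : L' ≃+* LaurentSeries R)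
    (he : ∀ b : B, e (algebraMap (Localization.Away (algebraMap R[X] B X)) L' (algebraMap B (Localization.Away (algebraMap R[X] B X)) b)) =
      HahnSeries.ofPowerSeries ℤ R (ψ b)) :
    (∀ (M N : Type u) [AddCommGroup M] [Module (Localization.Away (algebraMap R[X] B X)) M] [Module.Finite (Localization.Away (algebraMap R[X] B X)) M] [Module.Projective (Localization.Away (algebraMap R[X] B X)) M]
        [AddCommGroup N] [Module (Localization.Away (algebraMap R[X] B X)) N] [Module.Finite (Localization.Away (algebraMap R[X] B X)) N] [Module.Projective (Localization.Away (algebraMap R[X] B X)) N],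
        Nonempty (L' ⊗[Localization.Away (algebraMap R[X] B X)] M ≃ₗ[L'] L' ⊗[Localization.Away (algebraMap R[X] B X)] N) → Nonempty (M ≃ₗ[Localization.Away (algebraMap R[X] B X)] N)) ∧
    (∀ (M' : Type u) [AddCommGroup M'] [Module L' M'] [Module.Finite L' M'] [Module.Projective L' M'],
        ∃ (M : Type u) (_ : AddCommGroup M) (_ : Module (Localization.Away (algebraMap R[X] B X)) M),
          Module.Finite (Localization.Away (algebraMap R[X] B X)) M ∧ Module.Projective (Localization.Away (algebraMap R[X] B X)) M ∧
          Nonempty (L' ⊗[Localization.Away (algebraMap R[X] B X)] M ≃ₗ[L'] M')) := by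
  let _ : Algebra (PowerSeries R) L' :=
    ((e.symm : LaurentSeries R →+* L').comp (HahnSeries.ofPowerSeries ℤ R)).toAlgebra
  have halgL' : ∀ f : PowerSeries R, e (algebraMap (PowerSeries R) L' f) =
      HahnSeries.ofPowerSeries ℤ R f := fun f => e.apply_symm_apply _
  have : IsLocalization.Away ((ψ : B →+* PowerSeries R) (algebraMap R[X] B X)) L' := by
    rw [Groth.Agent.Lib.helper12.GabberMat.laurent_φt]
    exact Groth.Agent.Lib.helper12.GabberMat.isLocalization_away_of_equiv e halgL'
  have hu : (((IsLocalization.Away.algebraMap_isUnit
      (S := Localization.Away (algebraMap R[X] B X)) (algebraMap R[X] B X)).unit :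
      (Localization.Away (algebraMap R[X] B X))ˣ) : Localization.Away (algebraMap R[X] B X)) =
      algebraMap B (Localization.Away (algebraMap R[X] B X)) (algebraMap R[X] B X) :=
    IsUnit.unit_spec _
  have huh : (((IsLocalization.Away.algebraMap_isUnit (S := L')
      ((ψ : B →+* PowerSeries R) (algebraMap R[X] B X))).unit : L'ˣ) : L') =
      algebraMap (PowerSeries R) L' ((ψ : B →+* PowerSeries R) (algebraMap R[X] B X)) :=
    IsUnit.unit_spec _
  have hψ' : ∀ a : B, algebraMap (Localization.Away (algebraMap R[X] B X)) L'
      (algebraMap B (Localization.Away (algebraMap R[X] B X)) a) =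
      algebraMap (PowerSeries R) L' ((ψ : B →+* PowerSeries R) a) := by
    intro a
    apply e.injective
    rw [he, halgL']
    rfl
  have hc := Groth.Agent.Lib.helper12.GabberMat.laurent_hc ψ
  have hd := Groth.Agent.Lib.helper12.GabberMat.laurent_hd hB ψ
  have hA := Groth.Agent.Lib.helper12.GabberMat.laurent_hA hB
  have hth := Groth.Agent.Lib.helper12.GabberMat.laurent_hth ψ
  have ht := Groth.Agent.Lib.helper12.HensIdem.hens_H4 hB
  refine ⟨?_, ?_⟩
  · intro M N _ _ _ _ _ _ _ _ e'
    exact Groth.Agent.Lib.helper12.GabberMat.nonempty_linearEquiv_of_baseChange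
      (ψ : B →+* PowerSeries R) hu huh hψ' hc hd ht M N e'
  · intro M' _ _ _ _
    obtain ⟨n, p, hp, hiso⟩ := Groth.Agent.Lib.helper12.GabberMat.exists_projective_extension
      (ψ : B →+* PowerSeries R) hu huh hψ' hc hd hA hth M'
    have hIm := Groth.Agent.Lib.helper12.ProjIdem.isImage_range hp
    exact ⟨LinearMap.range (Matrix.mulVecLin p), inferInstance, inferInstance,
      hIm.finite, hIm.projective, hiso⟩

end Groth.Agent.S19779
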