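import Groth.Statements.S19801
import Groth.Agent.Lib.Helper7.Growth3

set_option autoImplicit false
universe u
open CategoryTheory CategoryTheory.Limits AlgebraicGeometry Asymptotics
open Variety

namespace Groth.Agent.S19801

/-- Let X be a projective variety of dimension d over a field k, i.e. a geometrically integral scheme
proper over k admitting an ample invertible module, with dim X = d; let L be an invertible
O_X-module and F a coherent O_X-module. Then dim_k H^0(X, F ⊗ L^m) = O(m^d) as m → ∞. -/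
theorem result (k : Type u) [Field k] (X : Scheme.{u})
    [X.Over (Spec (CommRingCat.of k))] [IsIntegral X] [GeometricallyIntegral (X ↘ Spec (CommRingCat.of k))]
    [IsProper (X ↘ Spec (CommRingCat.of k))] (hproj : ∃ A : X.Modules, CohB1.IsAmple A)
    (d : ℕ) (hd : topologicalKrullDim X = d) (L : X.Modules) (hL : PicF.IsInvertible L)
    (F : X.Modules) (hF : Coh.IsCoh F) :
    (fun m : ℕ => (Module.finrank k (Coh.HH X (CohB1.tensorMod F (CohB1.tensorPow L m)) 0) : ℝ)) =O[Filter.atTop]
      (fun m : ℕ => (m : ℝ) ^ d) := by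
  have hdimF : topologicalKrullDim (CohB1.support F) < ((d + 1 : ℕ) : WithBot ℕ∞) := by
    refine lt_of_le_of_lt (topologicalKrullDim_subspace_le _ _) ?_
    rw [hd]
    exact_mod_cast Nat.lt_succ_self d
  obtain ⟨C, hC⟩ := Groth.Agent.Lib.helper7.Growth.growth_general k (d + 1) X L hL trivial F hF hdimF 0
  refine Asymptotics.IsBigO.of_bound ((C : ℝ) * 2 ^ d) (Filter.eventually_atTop.mpr ⟨1, fun m hm => ?_⟩)
  have h1 : Module.finrank k (Coh.HH X (CohB1.tensorMod F (CohB1.tensorPow L m)) 0) ≤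
      C * (m + 1) ^ d := hC m
  have h2 : ((m + 1 : ℕ) : ℝ) ≤ 2 * (m : ℝ) := by
    have : (1 : ℝ) ≤ (m : ℝ) := by exact_mod_cast hm
    push_cast
    linarith
  have h3 : (((m + 1) ^ d : ℕ) : ℝ) ≤ 2 ^ d * (m : ℝ) ^ d := by
    push_cast
    rw [← mul_pow]
    exact pow_le_pow_left₀ (by positivity) (by exact_mod_cast h2) d
  rw [Real.norm_of_nonneg (by positivity), Real.norm_of_nonneg (by positivity)]
  calc ((Module.finrank k (Coh.HH X (CohB1.tensorMod F (CohB1.tensorPow L m)) 0) : ℕ) : ℝ)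
      ≤ ((C * (m + 1) ^ d : ℕ) : ℝ) := by exact_mod_cast h1
    _ = (C : ℝ) * (((m + 1) ^ d : ℕ) : ℝ) := by push_cast; ring
    _ ≤ (C : ℝ) * (2 ^ d * (m : ℝ) ^ d) := mul_le_mul_of_nonneg_left h3 (by positivity)
    _ = (C : ℝ) * 2 ^ d * (m : ℝ) ^ d := by ring

end Groth.Agent.S19801
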