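import Groth.Statements.S19804
import Mathlib

set_option autoImplicit false
open scoped TensorProduct
universe u v w
open Brauer

namespace Groth.Agent.S19804

theorem aux {R : Type u} [CommRing R]
    [ConnectedSpace (PrimeSpectrum R)] {A : Type v} [Ring A] [Algebra R A]
    [Module.Finite R A] [Module.Projective R A]
    (e : A) (he : IsIdempotentElem e) (R' : Type w) [CommRing R'] [Nontrivial R'] [Algebra R R']
    (h : (1 : R') ⊗ₜ[R] e = (0 : R' ⊗[R] A)) : e = 0 := by
  set M : Submodule R A := LinearMap.range (LinearMap.mulRight R e) with hM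
  let pr : A →ₗ[R] M := LinearMap.codRestrict M (LinearMap.mulRight R e) (fun a => ⟨a, rfl⟩)
  have hpr : ∀ m : M, pr (M.subtype m) = m := by
    rintro ⟨m, a, rfl⟩
    apply Subtype.ext
    change a * e * e = a * e
    rw [mul_assoc, he.eq]
  haveI : Module.Finite R M := Module.Finite.of_surjective pr (fun m => ⟨M.subtype m, hpr m⟩)
  haveI : Module.Projective R M := Module.Projective.of_split M.subtype pr (LinearMap.ext hpr)
  haveI : Module.FinitePresentation R M := Module.finitePresentation_of_projective R M
  haveI : Subsingleton (R' ⊗[R] M) := by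
    refine ⟨fun a b => ?_⟩
    have h0 : ∀ z : R' ⊗[R] M, z = 0 := by
      intro z
      have h2 : LinearMap.lTensor R' M.subtype z = 0 := by
        induction z using TensorProduct.induction_on with
        | zero => simp
        | add a b ha hb => rw [map_add, ha, hb, add_zero]
        | tmul r m =>
          obtain ⟨m, a, rfl⟩ := m
          rw [LinearMap.lTensor_tmul]
          change r ⊗ₜ[R] (a * e) = 0
          have : r ⊗ₜ[R] (a * e) = (r ⊗ₜ[R] a) * ((1 : R') ⊗ₜ[R] e) := by
            rw [Algebra.TensorProduct.tmul_mul_tmul, mul_one]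
          rw [this, h, mul_zero]
      have h3 : LinearMap.lTensor R' pr (LinearMap.lTensor R' M.subtype z) = z := by
        rw [← LinearMap.comp_apply, ← LinearMap.lTensor_comp]
        have : pr ∘ₗ M.subtype = LinearMap.id := LinearMap.ext hpr
        rw [this, LinearMap.lTensor_id, LinearMap.id_apply]
      rw [← h3, h2, map_zero]
    rw [h0 a, h0 b]
  obtain ⟨p'⟩ : Nonempty (PrimeSpectrum R') := inferInstance
  have h1 : Module.rankAtStalk M (p'.comap (algebraMap R R')) = 0 := by
    rw [← Module.rankAtStalk_baseChange, Module.rankAtStalk_eq_zero_of_subsingleton]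
    rfl
  have hlc : IsLocallyConstant (Module.rankAtStalk (R := R) M) :=
    Module.isLocallyConstant_rankAtStalk
  have h2 : Module.rankAtStalk (R := R) M = 0 := by
    ext q
    rw [hlc.apply_eq_of_preconnectedSpace q (p'.comap (algebraMap R R')), h1]
    rfl
  haveI : Subsingleton M := Module.rankAtStalk_eq_zero_iff_subsingleton.mp h2
  have hmem : e ∈ M := ⟨1, by simp⟩
  have : (⟨e, hmem⟩ : M) = 0 := Subsingleton.elim _ _
  exact congrArg Subtype.val this

/-- Let R be a commutative ring with Spec R connected, A an Azumaya R-algebra and e an idempotent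
element of A. If for some nonzero commutative R-algebra R' the element 1 ⊗ e of R' ⊗_R A is 0, then
e = 0; and if 1 ⊗ e = 1 in R' ⊗_R A, then e = 1. (The published statement is for an Azumaya algebra
over a connected scheme S and base change to an arbitrary nonempty S-scheme T; this row takes S and
T affine.) -/
theorem result {R : Type u} [CommRing R]
    [ConnectedSpace (PrimeSpectrum R)] {A : Type v} [Ring A] [Algebra R A] [IsAzumaya R A]
    (e : A) (he : IsIdempotentElem e) (R' : Type w) [CommRing R'] [Nontrivial R'] [Algebra R R'] :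
    ((1 : R') ⊗ₜ[R] e = (0 : R' ⊗[R] A) → e = 0) ∧ ((1 : R') ⊗ₜ[R] e = (1 : R' ⊗[R] A) → e = 1) := by
  haveI : Module.Finite R A := inferInstance
  haveI : Module.Projective R A := inferInstance
  refine ⟨fun h => aux e he R' h, fun h => ?_⟩
  have he' : IsIdempotentElem (1 - e) := he.one_sub
  have h' : (1 : R') ⊗ₜ[R] (1 - e) = (0 : R' ⊗[R] A) := by
    rw [TensorProduct.tmul_sub, h, ← Algebra.TensorProduct.one_def, sub_self]
  have := aux (1 - e) he' R' h'
  exact (sub_eq_zero.mp this).symm

end Groth.Agent.S19804
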