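import Groth.Statements.S19809
import Mathlib
import Groth.Agent.S16516

set_option autoImplicit false
universe u
open RatCurv

namespace Groth.Agent.S19809


open MvPolynomial Module

section factor
variable (K : Type u) [Field K]

theorem cubic_form (g : MvPolynomial (Fin 2) K) (hg : g ∈ homogeneousSubmodule (Fin 2) K 3) :
    ∃ a b c d : K, g = C a * X 0 ^ 3 + C b * X 0 ^ 2 * X 1 + C c * X 0 * X 1 ^ 2 + C d * X 1 ^ 3 := by
  rw [mem_homogeneousSubmodule] at hg
  rw [← MvPolynomial.support_sum_monomial_coeff g]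
  refine Finset.sum_induction _
    (fun g : MvPolynomial (Fin 2) K => ∃ a b c d : K,
      g = C a * X 0 ^ 3 + C b * X 0 ^ 2 * X 1 + C c * X 0 * X 1 ^ 2 + C d * X 1 ^ 3) ?_ ?_ ?_
  · rintro _ _ ⟨a, b, c, d, rfl⟩ ⟨a', b', c', d', rfl⟩
    refine ⟨a + a', b + b', c + c', d + d', ?_⟩
    simp only [map_add]; ring
  · exact ⟨0, 0, 0, 0, by simp⟩
  · intro m hm
    have hdeg : m.degree = 3 := by
      have := hg.degree_eq_sum_deg_support hm
      rw [Finsupp.degree_apply]
      exact this.symm
    rw [Finsupp.degree_eq_sum, Fin.sum_univ_two] at hdeg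
    have hmon : monomial m (coeff m g) = C (coeff m g) * X 0 ^ (m 0) * X 1 ^ (m 1) := by
      rw [MvPolynomial.monomial_eq, Finsupp.prod_fintype _ _ (fun i => pow_zero _),
        Fin.prod_univ_two, mul_assoc]
    rw [hmon]
    have h0 : m 0 ≤ 3 := by omega
    interval_cases h : m 0
    · have h1 : m 1 = 3 := by omega
      rw [h1]
      exact ⟨0, 0, 0, coeff m g, by simp⟩
    · have h1 : m 1 = 2 := by omega
      rw [h1]
      exact ⟨0, 0, coeff m g, 0, by simp⟩
    · have h1 : m 1 = 1 := by omega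
      rw [h1]
      exact ⟨0, coeff m g, 0, 0, by simp⟩
    · have h1 : m 1 = 0 := by omega
      rw [h1]
      exact ⟨coeff m g, 0, 0, 0, by simp⟩

theorem cubic_factor [IsAlgClosed K] (g : MvPolynomial (Fin 2) K)
    (hg : g ∈ homogeneousSubmodule (Fin 2) K 3) (hg0 : g ≠ 0) :
    ∃ l ∈ homogeneousSubmodule (Fin 2) K 1, ∃ q ∈ homogeneousSubmodule (Fin 2) K 2,
      l ≠ 0 ∧ q ≠ 0 ∧ g = l * q := by
  obtain ⟨a, b, c, d, rfl⟩ := cubic_form K g hg
  have hX0 : (X 0 : MvPolynomial (Fin 2) K).IsHomogeneous 1 := isHomogeneous_X _ _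
  have hX1 : (X 1 : MvPolynomial (Fin 2) K).IsHomogeneous 1 := isHomogeneous_X _ _
  have hq : ∀ a' b' c' : K, (C a' * X 0 ^ 2 + C b' * X 0 * X 1 + C c' * X 1 ^ 2 :
      MvPolynomial (Fin 2) K) ∈ homogeneousSubmodule (Fin 2) K 2 := by
    intro a' b' c'
    rw [mem_homogeneousSubmodule]
    refine ((IsHomogeneous.C_mul (hX0.pow 2) a').add ?_).add (IsHomogeneous.C_mul (hX1.pow 2) c')
    have := IsHomogeneous.C_mul (hX0.mul hX1) b'
    rw [← mul_assoc] at this
    exact this
  by_cases ha : a = 0
  · subst ha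
    refine ⟨X 1, hX1, C b * X 0 ^ 2 + C c * X 0 * X 1 + C d * X 1 ^ 2, hq b c d, ?_, ?_, ?_⟩
    · exact X_ne_zero _
    · intro h0
      apply hg0
      have : (C 0 * X 0 ^ 3 + C b * X 0 ^ 2 * X 1 + C c * X 0 * X 1 ^ 2 + C d * X 1 ^ 3 :
        MvPolynomial (Fin 2) K) = X 1 * (C b * X 0 ^ 2 + C c * X 0 * X 1 + C d * X 1 ^ 2) := by
        simp only [map_zero]; ring
      rw [this, h0, mul_zero]
    · simp only [map_zero]; ring
  · -- the univariate cubic has a root
    let p : Polynomial K := Polynomial.C a * Polynomial.X ^ 3 + Polynomial.C b * Polynomial.X ^ 2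
      + Polynomial.C c * Polynomial.X + Polynomial.C d
    have hp : p.degree = 3 := by
      change (Polynomial.C a * Polynomial.X ^ 3 + Polynomial.C b * Polynomial.X ^ 2
        + Polynomial.C c * Polynomial.X + Polynomial.C d).degree = 3
      exact Polynomial.degree_cubic ha
    obtain ⟨r, hr⟩ := IsAlgClosed.exists_root p (by rw [hp]; decide)
    have hr' : a * r ^ 3 + b * r ^ 2 + c * r + d = 0 := by
      have : Polynomial.eval r p = 0 := hr
      simpa [p] using this
    have hd : d = -(a * r ^ 3 + b * r ^ 2 + c * r) := by linear_combination hr'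
    have hfac : (C a * X 0 ^ 3 + C b * X 0 ^ 2 * X 1 + C c * X 0 * X 1 ^ 2 + C d * X 1 ^ 3 :
        MvPolynomial (Fin 2) K) = (X 0 - C r * X 1) *
        (C a * X 0 ^ 2 + C (b + a * r) * X 0 * X 1 + C (c + b * r + a * r ^ 2) * X 1 ^ 2) := by
      rw [hd]
      simp only [map_add, map_mul, map_neg, map_pow]
      ring
    refine ⟨X 0 - C r * X 1, ?_, _, hq a (b + a * r) (c + b * r + a * r ^ 2), ?_, ?_, hfac⟩
    · rw [mem_homogeneousSubmodule]
      exact hX0.sub (IsHomogeneous.C_mul hX1 r)
    · intro h0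
      apply hg0
      rw [hfac, h0, zero_mul]
    · intro h0
      apply hg0
      rw [hfac, h0, mul_zero]

end factor


/-- A smooth rational quintic curve C ⊂ P^3 has a one-parameter family of 3-secant lines. Stated, as for
the nondegenerate case, through binary forms: C is the image of P^1 under a 4-dimensional linear
series V of binary quintic forms which separates every length-2 subscheme of P^1 (for every nonzero
quadratic form e, the forms of V together with the multiples of e span all quintic forms), so that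
P^1 → P(V^*) = P^3 is a closed embedding; the linear forms on P^3 are the elements of V, a line L ⊂
P^3 is the 2-dimensional space of linear forms vanishing on it, and L ∩ C has length at least 3
exactly when that space is contained in g · K[s,t]_2 for a cubic form g. The conclusion: there are
infinitely many pairwise non-proportional nonzero cubic forms g with dim (V ∩ g · K[s,t]_2) ≥ 2,
i.e. for every finite set of cubics there is such a g proportional to none of them. (The ground
field is algebraically closed of characteristic zero in place of the complex numbers; the third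
printed assertion, on curves all of whose 3-secants are 4-secant, is not stated.) -/
theorem result (K : Type u) [Field K] [IsAlgClosed K]
    [CharZero K] (V : Submodule K (MvPolynomial (Fin 2) K))
    (hV : V ≤ MvPolynomial.homogeneousSubmodule (Fin 2) K 5) (hdim : Module.finrank K ↥V = 4)
    (hsep : ∀ e ∈ MvPolynomial.homogeneousSubmodule (Fin 2) K 2, e ≠ 0 →
      ∀ F ∈ MvPolynomial.homogeneousSubmodule (Fin 2) K 5, ∃ v ∈ V,
        ∃ h ∈ MvPolynomial.homogeneousSubmodule (Fin 2) K 3, F = v + e * h)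
    (F : Finset (MvPolynomial (Fin 2) K)) :
    ∃ g ∈ MvPolynomial.homogeneousSubmodule (Fin 2) K 3, g ≠ 0 ∧
      2 ≤ Module.finrank K ↥(V ⊓ (MvPolynomial.homogeneousSubmodule (Fin 2) K 2).map (LinearMap.mulLeft K g)) ∧
      ∀ g' ∈ F, ∀ c : K, g ≠ c • g' := by
  classical
  have fh := Groth.Agent.S16515.finrank_homogeneous K
  set S3 := homogeneousSubmodule (Fin 2) K 3 with hS3
  set S2 := homogeneousSubmodule (Fin 2) K 2 with hS2
  set S5 := homogeneousSubmodule (Fin 2) K 5 with hS5
  let B : S3 →ₗ[K] S2 →ₗ[K] S5 :=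
    LinearMap.mk₂ K (fun g h => ⟨g.1 * h.1, IsHomogeneous.mul g.2 h.2⟩)
      (fun g₁ g₂ h => Subtype.ext (by simp [add_mul]))
      (fun c g h => Subtype.ext (by simp))
      (fun g h₁ h₂ => Subtype.ext (by simp [mul_add]))
      (fun c g h => Subtype.ext (by simp))
  let V' : Submodule K S5 := V.comap S5.subtype
  have hV' : finrank K V' = 4 := by
    rw [← hdim]; exact (Submodule.comapSubtypeEquivOfLe hV).finrank_eq
  have hS5f : finrank K S5 = 6 := fh 5
  have hS3f : finrank K S3 = 4 := fh 3
  have hS2f : finrank K S2 = 3 := fh 2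
  have : Module.Finite K S5 := Module.finite_of_finrank_pos (by omega)
  have : Module.Finite K S3 := Module.finite_of_finrank_pos (by omega)
  have : Module.Finite K S2 := Module.finite_of_finrank_pos (by omega)
  have hQ : finrank K (S5 ⧸ V') = 2 := by
    have := Submodule.finrank_quotient_add_finrank V'
    omega
  let Φ : S3 →ₗ[K] S2 →ₗ[K] (S5 ⧸ V') := B.compr₂ V'.mkQ
  have hΦ : ∀ (g : S3) (h : S2), Φ g h = 0 ↔ g.1 * h.1 ∈ V := by
    intro g h
    change V'.mkQ (⟨g.1 * h.1, IsHomogeneous.mul g.2 h.2⟩ : S5) = 0 ↔ _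
    rw [Submodule.mkQ_apply, Submodule.Quotient.mk_eq_zero]
    rfl
  -- Step 1: no nonzero cubic `g` has `g * S2 ⊆ V`
  have hZ : ∀ g : S3, g ≠ 0 → ∃ h : S2, Φ g h ≠ 0 := by
    intro g hg0
    by_contra hcon
    push Not at hcon
    obtain ⟨l, hl, q, hq, hl0, hq0, hgq⟩ :=
      cubic_factor K g.1 g.2 (fun h0 => hg0 (Subtype.ext h0))
    let e : S2 := ⟨q, hq⟩
    let T : S3 →ₗ[K] (S5 ⧸ V') := Φ.flip e
    have hT : ∀ k : S3, T k = Φ k e := fun k => rfl
    have hTsurj : LinearMap.range T = ⊤ := by
      rw [LinearMap.range_eq_top]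
      intro y
      obtain ⟨F', rfl⟩ := V'.mkQ_surjective y
      obtain ⟨v, hv, h, hh, hF⟩ := hsep q hq hq0 F'.1 F'.2
      refine ⟨⟨h, hh⟩, ?_⟩
      rw [hT]
      change V'.mkQ (B ⟨h, hh⟩ e) = V'.mkQ F'
      rw [← sub_eq_zero, ← map_sub, Submodule.mkQ_apply, Submodule.Quotient.mk_eq_zero]
      change (B ⟨h, hh⟩ e - F').1 ∈ V
      have h1 : (B ⟨h, hh⟩ e - F').1 = -v := by
        change h * q - F'.1 = -v
        rw [hF]; ring
      rw [h1]; exact V.neg_mem hv
    have hker : finrank K (LinearMap.ker T) = 2 := by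
      have h1 := LinearMap.finrank_range_add_finrank_ker T
      rw [hTsurj, finrank_top] at h1
      omega
    let L : S2 →ₗ[K] S3 :=
      { toFun := fun h => ⟨l * h.1, IsHomogeneous.mul hl h.2⟩
        map_add' := fun h₁ h₂ => Subtype.ext (by simp [mul_add])
        map_smul' := fun c h => Subtype.ext (by simp) }
    have hLker : ∀ h, L h ∈ LinearMap.ker T := by
      intro h
      rw [LinearMap.mem_ker, hT, hΦ]
      change l * h.1 * q ∈ V
      have h1 : l * h.1 * q = g.1 * h.1 := by rw [hgq]; ring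
      rw [h1]; exact (hΦ g h).mp (hcon h)
    let L' : S2 →ₗ[K] LinearMap.ker T := L.codRestrict _ hLker
    have hL'inj : Function.Injective L' := by
      intro h1 h2 h12
      have h3 : l * h1.1 = l * h2.1 := congrArg (fun x : LinearMap.ker T => x.1.1) h12
      exact Subtype.ext (mul_left_cancel₀ hl0 h3)
    have := LinearMap.finrank_le_finrank_of_injective hL'inj
    omega
  -- Step 3: choose a functional avoiding finitely many bad lines
  have hEfin : finrank K (Module.Dual K (S5 ⧸ V')) = 2 := by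
    rw [Subspace.dual_finrank_eq, hQ]
  have : Nontrivial (Module.Dual K (S5 ⧸ V')) := Module.nontrivial_of_finrank_pos (R := K) (by omega)
  let F3 : Finset S3 := (F.subtype (· ∈ S3)).filter (· ≠ 0)
  let s : Finset (Subspace K (Module.Dual K (S5 ⧸ V'))) :=
    insert ⊥ (F3.image (fun g' => LinearMap.ker (Φ g').dualMap))
  have hs : ⊤ ∉ s := by
    intro htop
    rcases Finset.mem_insert.mp htop with h | h
    · exact top_ne_bot h
    · obtain ⟨g', hg', hg'top⟩ := Finset.mem_image.mp h
      have hg'0 : g' ≠ 0 := (Finset.mem_filter.mp hg').2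
      obtain ⟨h0, hh0⟩ := hZ g' hg'0
      apply hh0
      rw [← Module.forall_dual_apply_eq_zero_iff K]
      intro φ
      have : φ ∈ LinearMap.ker (Φ g').dualMap := by rw [hg'top]; exact Submodule.mem_top
      rw [LinearMap.mem_ker] at this
      have h2 := LinearMap.congr_fun this h0
      rwa [LinearMap.dualMap_apply] at h2
  obtain ⟨lam, hlam⟩ := (Set.ne_univ_iff_exists_notMem _).mp
    (Subspace.biUnion_ne_univ_of_top_notMem hs)
  have hlam0 : lam ≠ 0 := by
    intro h0
    apply hlam
    refine Set.mem_biUnion (Finset.mem_insert_self _ _) ?_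
    rw [h0]; exact Submodule.zero_mem _
  have hlamF : ∀ g' ∈ F3, (Φ g').dualMap lam ≠ 0 := by
    intro g' hg' h0
    apply hlam
    refine Set.mem_biUnion (Finset.mem_insert_of_mem (Finset.mem_image_of_mem _ hg')) ?_
    exact LinearMap.mem_ker.mpr h0
  -- Step 2: a nonzero cubic `g` with `lam ∘ Φ g = 0`
  let Ψ : S3 →ₗ[K] Module.Dual K S2 := Φ.compr₂ lam
  have hΨ : ∀ g : S3, Ψ g = (Φ g).dualMap lam := fun g => rfl
  have hΨker : LinearMap.ker Ψ ≠ ⊥ := by
    apply LinearMap.ker_ne_bot_of_finrank_lt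
    rw [Subspace.dual_finrank_eq]
    omega
  obtain ⟨g, hgker, hg0⟩ := (Submodule.ne_bot_iff _).mp hΨker
  have hglam : ∀ h : S2, lam (Φ g h) = 0 := by
    intro h
    have h1 : Ψ g = 0 := hgker
    exact LinearMap.congr_fun h1 h
  refine ⟨g.1, g.2, fun h0 => hg0 (Subtype.ext h0), ?_, ?_⟩
  · -- dimension estimate
    have hrange : LinearMap.range (Φ g) ≤ LinearMap.ker lam := by
      rintro _ ⟨h, rfl⟩
      exact LinearMap.mem_ker.mpr (hglam h)
    have hkl : finrank K (LinearMap.ker lam) + 1 = finrank K (S5 ⧸ V') :=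
      Module.Dual.finrank_ker_add_one_of_ne_zero hlam0
    have hr1 : finrank K (LinearMap.range (Φ g)) ≤ 1 := by
      have := Submodule.finrank_mono hrange
      omega
    have hk2 : 2 ≤ finrank K (LinearMap.ker (Φ g)) := by
      have := LinearMap.finrank_range_add_finrank_ker (Φ g)
      omega
    have hVfin : Module.Finite K V := Module.finite_of_finrank_pos (by omega)
    let M : LinearMap.ker (Φ g) →ₗ[K] ↥(V ⊓ S2.map (LinearMap.mulLeft K g.1)) :=
      { toFun := fun h => ⟨g.1 * h.1.1, ⟨(hΦ g h.1).mp h.2, ⟨h.1.1, h.1.2, rfl⟩⟩⟩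
        map_add' := fun h₁ h₂ => Subtype.ext (by simp [mul_add])
        map_smul' := fun c h => Subtype.ext (by simp) }
    have hMinj : Function.Injective M := by
      intro h1 h2 h12
      have h3 : g.1 * h1.1.1 = g.1 * h2.1.1 :=
        congrArg (fun x : ↥(V ⊓ S2.map (LinearMap.mulLeft K g.1)) => x.1) h12
      exact Subtype.ext (Subtype.ext (mul_left_cancel₀ (fun h0 => hg0 (Subtype.ext h0)) h3))
    have := LinearMap.finrank_le_finrank_of_injective hMinj
    omega
  · intro g' hg' c hgc
    have hc0 : c ≠ 0 := by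
      intro h0
      apply hg0
      apply Subtype.ext
      rw [hgc, h0, zero_smul]; rfl
    have hg'S3 : g' ∈ S3 := by
      have h1 : g' = c⁻¹ • g.1 := by rw [hgc, smul_smul, inv_mul_cancel₀ hc0, one_smul]
      rw [h1]; exact S3.smul_mem _ g.2
    have hg'0 : (⟨g', hg'S3⟩ : S3) ≠ 0 := by
      intro h0
      apply hg0
      apply Subtype.ext
      have h1 : g' = 0 := congrArg Subtype.val h0
      rw [hgc, h1, smul_zero]; rfl
    have hmem : (⟨g', hg'S3⟩ : S3) ∈ F3 := by
      refine Finset.mem_filter.mpr ⟨?_, hg'0⟩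
      exact Finset.mem_subtype.mpr hg'
    apply hlamF _ hmem
    have hgg' : g = c • (⟨g', hg'S3⟩ : S3) := Subtype.ext hgc
    have h1 : Ψ g = 0 := hgker
    rw [hgg', map_smul, hΨ] at h1
    exact (smul_eq_zero.mp h1).resolve_left hc0

end Groth.Agent.S19809
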