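import Groth.Statements.S19816
import Groth.Agent.Lib.Helper4.TorsFibProd1

set_option autoImplicit false
universe u
open CategoryTheory CategoryTheory.Limits MonoidalCategory CartesianMonoidalCategory MonObj GrpObj AlgebraicGeometry
open NoriFGS

namespace Groth.Agent.S19816

/-- Let X be a quasi-compact scheme over a field k with a rational point x which possesses a fundamental
group scheme with its universal pointed torsor. Let G, G₁, G₂ be finite group schemes over k with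
homomorphisms φ₁ : G₁ → G and φ₂ : G₂ → G, and let T, T₁, T₂ be torsors over X (locally trivial for
the fpqc topology) under the base changes to X of G, G₁, G₂, each pointed by a k-point lying over x;
let f₁ : T₁ → T and f₂ : T₂ → T be morphisms of pointed torsors along φ₁ and φ₂. Let Q be the fibre
product group scheme G₁ ×_G G₂ with its projections π₁, π₂. Then the fibre product T₁ ×_T T₂ carries
an action of the base change of Q for which both projections to T₁ and T₂ are equivariant (along π₁,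
π₂) and which makes it a torsor over X, locally trivial for the fpqc topology: the category of
pointed finite torsors over X is closed under fibre products. (The published statement is an
equivalence; this row is the implication from possessing a fundamental group scheme. The source's
standing convention for that chapter assumes the base field has characteristic p > 0; the printed
proof uses no characteristic hypothesis, so the row states it for any field.) -/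
theorem result
    (k : Type u) [Field k] (X : Scheme.{u}) [X.Over (Spec (CommRingCat.of k))]
    (x : Spec (CommRingCat.of k) ⟶ X) (hx : x ≫ (X ↘ Spec (CommRingCat.of k)) = 𝟙 _)
    (πN : Over (Spec (CommRingCat.of k))) [GrpObj πN] (P : Over X)
    (a : AlgGrp.Action (Red.bc (X ↘ Spec (CommRingCat.of k)) πN) P) (p : Spec (CommRingCat.of k) ⟶ P.left)
    (hP : NoriFGS.IsFGS x πN a p) [CompactSpace X]
    (G G₁ G₂ : Over (Spec (CommRingCat.of k))) [GrpObj G] [GrpObj G₁] [GrpObj G₂]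
    [IsFinite G.hom] [IsFinite G₁.hom] [IsFinite G₂.hom]
    (φ₁ : G₁ ⟶ G) (φ₂ : G₂ ⟶ G) [IsMonHom φ₁] [IsMonHom φ₂]
    (T T₁ T₂ : Over X)
    (b : AlgGrp.Action (Red.bc (X ↘ Spec (CommRingCat.of k)) G) T)
    (b₁ : AlgGrp.Action (Red.bc (X ↘ Spec (CommRingCat.of k)) G₁) T₁)
    (b₂ : AlgGrp.Action (Red.bc (X ↘ Spec (CommRingCat.of k)) G₂) T₂)
    (hT : NonAbH1.IsTorsorFor Scheme.fpqcPrecoverage b)
    (hT₁ : NonAbH1.IsTorsorFor Scheme.fpqcPrecoverage b₁)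
    (hT₂ : NonAbH1.IsTorsorFor Scheme.fpqcPrecoverage b₂)
    (t : Spec (CommRingCat.of k) ⟶ T.left) (t₁ : Spec (CommRingCat.of k) ⟶ T₁.left) (t₂ : Spec (CommRingCat.of k) ⟶ T₂.left)
    (ht : t ≫ T.hom = x) (ht₁ : t₁ ≫ T₁.hom = x) (ht₂ : t₂ ≫ T₂.hom = x)
    (f₁ : T₁ ⟶ T) (f₂ : T₂ ⟶ T)
    (hf₁ : NoriFGS.IsPtTorsorHom b₁ t₁ b t φ₁ f₁) (hf₂ : NoriFGS.IsPtTorsorHom b₂ t₂ b t φ₂ f₂)
    (Q : Over (Spec (CommRingCat.of k))) [GrpObj Q] (π₁ : Q ⟶ G₁) (π₂ : Q ⟶ G₂) [IsMonHom π₁] [IsMonHom π₂]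
    (hQ : IsPullback π₁ π₂ φ₁ φ₂) :
    ∃ c : AlgGrp.Action (Red.bc (X ↘ Spec (CommRingCat.of k)) Q) (pullback f₁ f₂),
      AlgGrp.Action.IsEquivariant c (b₁.restrict ((Over.pullback (X ↘ Spec (CommRingCat.of k))).map π₁)) (pullback.fst f₁ f₂) ∧
      AlgGrp.Action.IsEquivariant c (b₂.restrict ((Over.pullback (X ↘ Spec (CommRingCat.of k))).map π₂)) (pullback.snd f₁ f₂) ∧
      NonAbH1.IsTorsorFor Scheme.fpqcPrecoverage c := by
  obtain ⟨-, hPt, hpx, huniv⟩ := hP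
  obtain ⟨ψ₁, hψ₁, g₁, hg₁, -⟩ := huniv G₁ T₁ b₁ t₁ hT₁ ht₁
  obtain ⟨ψ₂, hψ₂, g₂, hg₂, -⟩ := huniv G₂ T₂ b₂ t₂ hT₂ ht₂
  obtain ⟨ψ, hψ, g, hg, huniq⟩ := huniv G T b t hT ht
  have hcomp : ∀ {H : Over (Spec (CommRingCat.of k))} [GrpObj H] (φ : H ⟶ G) [IsMonHom φ] (χ : πN ⟶ H) [IsMonHom χ]
      {T' : Over X} (b' : AlgGrp.Action (Red.bc (X ↘ Spec (CommRingCat.of k)) H) T')
      (t' : Spec (CommRingCat.of k) ⟶ T'.left) (f : T' ⟶ T) (g' : P ⟶ T'),
      NoriFGS.IsPtTorsorHom b' t' b t φ f → NoriFGS.IsPtTorsorHom a p b' t' χ g' →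
      NoriFGS.IsPtTorsorHom a p b t (χ ≫ φ) (g' ≫ f) := by
    intro H _ φ _ χ _ T' b' t' f g' hf hg'
    refine ⟨?_, ?_⟩
    · have h1 : a.act ≫ g' = (_ ◁ g') ≫ ((Over.pullback (X ↘ Spec (CommRingCat.of k))).map χ ▷ T') ≫ b'.act :=
        hg'.1
      have h2 : b'.act ≫ f = (_ ◁ f) ≫ ((Over.pullback (X ↘ Spec (CommRingCat.of k))).map φ ▷ T) ≫ b.act :=
        hf.1
      show a.act ≫ g' ≫ f = (_ ◁ (g' ≫ f)) ≫
        ((Over.pullback (X ↘ Spec (CommRingCat.of k))).map (χ ≫ φ) ▷ T) ≫ b.act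
      rw [reassoc_of% h1, h2, Functor.map_comp, MonoidalCategory.whiskerLeft_comp,
        MonoidalCategory.comp_whiskerRight]
      simp only [Category.assoc]
      have h3 : (Red.bc (X ↘ Spec (CommRingCat.of k)) πN ◁ f) ≫
          ((Over.pullback (X ↘ Spec (CommRingCat.of k))).map χ ▷ T) =
          ((Over.pullback (X ↘ Spec (CommRingCat.of k))).map χ ▷ T') ≫
            (Red.bc (X ↘ Spec (CommRingCat.of k)) H ◁ f) := whisker_exchange _ _
      rw [reassoc_of% h3]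
    · rw [Over.comp_left, ← Category.assoc, hg'.2, hf.2]
  have e1 := huniq (ψ₁ ≫ φ₁) (g₁ ≫ f₁) (hcomp φ₁ ψ₁ b₁ t₁ f₁ g₁ hf₁ hg₁)
  have e2 := huniq (ψ₂ ≫ φ₂) (g₂ ≫ f₂) (hcomp φ₂ ψ₂ b₂ t₂ f₂ g₂ hf₂ hg₂)
  have hgg : g₁ ≫ f₁ = g₂ ≫ f₂ := e1.2.trans e2.2.symm
  have : IsIso (lift b.act (snd _ T)) := hT.1
  have : IsIso (lift b₁.act (snd _ T₁)) := hT₁.1
  have : IsIso (lift b₂.act (snd _ T₂)) := hT₂.1
  have hQ' : IsPullback ((Over.pullback (X ↘ Spec (CommRingCat.of k))).map π₁)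
      ((Over.pullback (X ↘ Spec (CommRingCat.of k))).map π₂)
      ((Over.pullback (X ↘ Spec (CommRingCat.of k))).map φ₁)
      ((Over.pullback (X ↘ Spec (CommRingCat.of k))).map φ₂) :=
    hQ.map (Over.pullback (X ↘ Spec (CommRingCat.of k)))
  refine ⟨Groth.Agent.Lib.helper4.TorsFibProd.fibAct _ _ _ _ hQ' b b₁ b₂ f₁ f₂ hf₁.1 hf₂.1,
    Groth.Agent.Lib.helper4.TorsFibProd.isEquivariant_fst _ _ _ _ hQ' b b₁ b₂ f₁ f₂ hf₁.1 hf₂.1,
    Groth.Agent.Lib.helper4.TorsFibProd.isEquivariant_snd _ _ _ _ hQ' b b₁ b₂ f₁ f₂ hf₁.1 hf₂.1,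
    Groth.Agent.Lib.helper4.TorsFibProd.isPseudoTorsorSch_fibAct _ _ _ _ hQ' b b₁ b₂ f₁ f₂ hf₁.1 hf₂.1, ?_⟩
  obtain ⟨R, hR, hsec⟩ := hPt.2
  refine ⟨R, hR, fun S' f hf => ?_⟩
  obtain ⟨s, hs⟩ := hsec f hf
  refine ⟨s ≫ (pullback.lift g₁ g₂ hgg).left, ?_⟩
  rw [Category.assoc, Over.w, hs]

end Groth.Agent.S19816
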