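import Groth.Statements.S1982
import Mathlib
import Groth.Agent.Lib.Helper10.CompDvr10
import Groth.Agent.Lib.Helper3.GeomRed
import Groth.Agent.S1984

set_option autoImplicit false
universe u
open EtAlg

namespace Groth.Agent.S1982

set_option linter.style.haveILetI false
set_option linter.unusedSectionVars false

open TensorProduct IsLocalRing IsDedekindDomain Groth.Agent.Lib.helper10
  Groth.Agent.Lib.helper10.DvrExt

section Core

variable (A B K L : Type u) [CommRing A] [IsDomain A] [IsDiscreteValuationRing A]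
    [CommRing B] [IsDomain B] [IsDiscreteValuationRing B] [Algebra A B] [IsLocalHom (algebraMap A B)]
    [Field K] [Field L] [Algebra A K] [IsFractionRing A K] [Algebra B L] [IsFractionRing B L]
    [Algebra K L] [Algebra A L] [IsScalarTower A K L] [IsScalarTower A B L]
    (K₁ : Type u) [Field K₁] [Algebra K K₁] [FiniteDimensional K K₁]
    (M : Type u) [Field M] [Algebra K M] [Algebra L M] [Algebra K₁ M] [IsScalarTower K L M]
    [IsScalarTower K K₁ M]

theorem core (hinj : Function.Injective (algebraMap A B))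
    [Algebra.IsGeometricallyReduced (ResidueField A) (ResidueField B)]
    (hne : ((Ideal.ramificationIdx' (maximalIdeal A) (maximalIdeal B) : ℕ) : ResidueField A) ≠ 0)
    (hgen : Algebra.adjoin L (Set.range (algebraMap K₁ M)) = ⊤)
    (W : ValuationSubring M)
    (hW : EtRam.Dominates B ((algebraMap L M).comp (algebraMap B L)) W)
    (hA : ∀ a : A, (algebraMap K K₁) (algebraMap A K a) ∈ W.comap (algebraMap K₁ M))
    (hdvd : letI : Algebra A (W.comap (algebraMap K₁ M)) :=
        (RingHom.codRestrict ((algebraMap K K₁).comp (algebraMap A K))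
          (W.comap (algebraMap K₁ M)) hA).toAlgebra
      Ideal.ramificationIdx' (maximalIdeal A) (maximalIdeal B) ∣
        Ideal.ramificationIdx' (maximalIdeal A) (maximalIdeal (W.comap (algebraMap K₁ M)))) :
    letI : Algebra (W.comap (algebraMap K₁ M)) W :=
      (EtRam.inclOfComap W (algebraMap K₁ M)).toAlgebra
    EtRam.IsWeaklyUnramified (W.comap (algebraMap K₁ M)) W ∧
      @Algebra.IsGeometricallyReduced (ResidueField (W.comap (algebraMap K₁ M))) (ResidueField W) _ _
        (IsLocalRing.ResidueField.map (EtRam.inclOfComap W (algebraMap K₁ M))).toAlgebra := by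
  obtain ⟨hfd, -⟩ := Groth.Agent.S1984.finite_of_gen K L K₁ M hgen
  haveI := hfd
  letI : Algebra A K₁ := ((algebraMap K K₁).comp (algebraMap A K)).toAlgebra
  haveI : IsScalarTower A K K₁ := IsScalarTower.of_algebraMap_eq (fun _ => rfl)
  letI : Algebra B M := ((algebraMap L M).comp (algebraMap B L)).toAlgebra
  haveI : IsScalarTower B L M := IsScalarTower.of_algebraMap_eq (fun _ => rfl)
  obtain ⟨v, hv, hv1, hv2⟩ := CompDvr.exists_discrete_valuation B L M W hW
  have hcomp : ∀ a : A, algebraMap K₁ M (algebraMap A K₁ a) =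
      algebraMap B M (algebraMap A B a) := by
    intro a
    show algebraMap K₁ M (algebraMap K K₁ (algebraMap A K a)) =
      algebraMap L M (algebraMap B L (algebraMap A B a))
    rw [← IsScalarTower.algebraMap_apply K K₁ M, ← IsScalarTower.algebraMap_apply A B L,
      IsScalarTower.algebraMap_apply A K L, ← IsScalarTower.algebraMap_apply K L M]
  have hdomA : EtRam.Dominates A (algebraMap A K₁) (W.comap (algebraMap K₁ M)) := by
    refine ⟨hA, fun a ha => ?_⟩
    rw [TotRam.comap_val_lt_one_iff, hcomp]
    apply hW.2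
    exact (IsLocalRing.mem_maximalIdeal _).mpr (fun hu' =>
      (IsLocalRing.mem_maximalIdeal _).mp ha (isUnit_of_map_unit (algebraMap A B) a hu'))
  letI : Algebra A (W.comap (algebraMap K₁ M)) :=
    (RingHom.codRestrict (algebraMap A K₁) _ hA).toAlgebra
  haveI : IsLocalHom (algebraMap A (W.comap (algebraMap K₁ M))) :=
    CompDvr.isLocalHom_codRestrict _ _ hdomA
  haveI hintQ : Algebra.IsIntegral (ResidueField A) (ResidueField (W.comap (algebraMap K₁ M))) :=
    CompDvr.isIntegral_residue A K K₁ _ hdomA
  obtain ⟨πA, hπAirr⟩ := IsDiscreteValuationRing.exists_irreducible A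
  have hπA : maximalIdeal A = Ideal.span {πA} := hπAirr.maximalIdeal_eq
  obtain ⟨πB, hπBirr⟩ := IsDiscreteValuationRing.exists_irreducible B
  have hπB : maximalIdeal B = Ideal.span {πB} := hπBirr.maximalIdeal_eq
  have hinjBM : Function.Injective (algebraMap B M) :=
    (algebraMap L M).injective.comp (IsFractionRing.injective B L)
  have hinjAK₁ : Function.Injective (algebraMap A K₁) :=
    (algebraMap K K₁).injective.comp (IsFractionRing.injective A K)
  have hne' : ∃ q : K₁, q ≠ 0 ∧ v (algebraMap K₁ M q) < 1 := by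
    refine ⟨algebraMap A K₁ πA, fun h0 => hπAirr.ne_zero (hinjAK₁ (by rw [h0, map_zero])), ?_⟩
    rw [← hv1, ← TotRam.comap_val_lt_one_iff]
    apply hdomA.2
    rw [hπA]; exact Ideal.mem_span_singleton_self _
  obtain ⟨πQ, hπQ, hπQ0, hπQv⟩ :=
    CompDvr.exists_uniformizer_comap W (algebraMap K₁ M) v hv hv1 hne'
  have hπQ0' : πQ ≠ 0 := fun h => hπQ0 (by rw [h]; rfl)
  -- factorizations
  have hab0 : algebraMap A B πA ≠ 0 := fun h0 => hπAirr.ne_zero (hinj (by rw [h0, map_zero]))
  obtain ⟨e, w, hw⟩ := IsDiscreteValuationRing.eq_unit_mul_pow_irreducible hab0 hπBirr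
  have he : Ideal.ramificationIdx' (maximalIdeal A) (maximalIdeal B) = e :=
    CompDvr.ramificationIdx'_eq hπA hπB hπBirr.ne_zero w e hw
  have haq0 : algebraMap A (W.comap (algebraMap K₁ M)) πA ≠ 0 := by
    intro h0
    apply hπAirr.ne_zero
    apply hinjAK₁
    rw [map_zero]
    exact congrArg Subtype.val h0
  obtain ⟨e₁, u₁, hu₁⟩ := CompDvr.factor_comap W (algebraMap K₁ M) v hv πQ hπQ hπQv _ haq0
  have he₁ : Ideal.ramificationIdx' (maximalIdeal A) (maximalIdeal (W.comap (algebraMap K₁ M)))
      = e₁ := CompDvr.ramificationIdx'_eq hπA hπQ hπQ0' u₁ e₁ hu₁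
  have hdvd' : e ∣ e₁ := by rw [← he, ← he₁]; exact hdvd
  obtain ⟨d, hd⟩ := hdvd'
  have hπAmem : πA ∈ maximalIdeal A := by rw [hπA]; exact Ideal.mem_span_singleton_self _
  have he0 : e ≠ 0 := by
    rintro rfl
    rw [pow_zero, mul_one] at hw
    have : IsUnit πA := isUnit_of_map_unit (algebraMap A B) πA (hw ▸ w.isUnit)
    exact (IsLocalRing.mem_maximalIdeal _).mp hπAmem this
  have he₁0 : e₁ ≠ 0 := by
    rintro rfl
    rw [pow_zero, mul_one] at hu₁
    have : IsUnit πA :=
      isUnit_of_map_unit (algebraMap A (W.comap (algebraMap K₁ M))) πA (hu₁ ▸ u₁.isUnit)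
    exact (IsLocalRing.mem_maximalIdeal _).mp hπAmem this
  have hd0 : d ≠ 0 := by
    rintro rfl; rw [mul_zero] at hd; exact he₁0 hd
  rw [he] at hne
  -- maps
  obtain ⟨jQ, hjQ⟩ : ∃ jQ : W.comap (algebraMap K₁ M) →+* M,
      jQ = (algebraMap K₁ M).comp (W.comap (algebraMap K₁ M)).subtype := ⟨_, rfl⟩
  have hjQ' : ∀ q : W.comap (algebraMap K₁ M), jQ q = algebraMap K₁ M (q : K₁) := by
    intro q; rw [hjQ]; rfl
  have hQdom : EtRam.Dominates (W.comap (algebraMap K₁ M)) jQ W := by
    refine ⟨fun q => ?_, fun q hq => ?_⟩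
    · rw [hjQ']; exact q.2
    · rw [ValuationSubring.valuation_lt_one_iff] at hq
      rw [hjQ']
      exact (TotRam.comap_val_lt_one_iff W (algebraMap K₁ M) q).mp hq
  have hcompat : ∀ a : A, algebraMap B M (algebraMap A B a) =
      jQ (algebraMap A (W.comap (algebraMap K₁ M)) a) := by
    intro a
    rw [hjQ']
    exact (hcomp a).symm
  obtain ⟨x, hx⟩ : ∃ x : M, x = jQ πQ := ⟨_, rfl⟩
  obtain ⟨y, hy⟩ : ∃ y : M, y = algebraMap B M πB := ⟨_, rfl⟩
  have hx0 : x ≠ 0 := by
    rw [hx, hjQ']; exact (map_ne_zero _).mpr hπQ0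
  have hy0 : y ≠ 0 := by
    rw [hy]; exact fun h0 => hπBirr.ne_zero (hinjBM (by rw [h0, map_zero]))
  -- units have valuation one
  have hunitB : ∀ u : Bˣ, v (algebraMap B M u) = 1 := by
    intro u
    have h1 := (hv _).mp (hW.1 (u : B))
    have h2 := (hv _).mp (hW.1 ((u⁻¹ : Bˣ) : B))
    have h3 : algebraMap B M u * algebraMap B M ((u⁻¹ : Bˣ) : B) = 1 := by
      rw [← map_mul, ← Units.val_mul, mul_inv_cancel, Units.val_one, map_one]
    have h4 := congrArg v h3
    rw [map_mul, map_one] at h4
    refine le_antisymm h1 ?_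
    calc (1 : WithZero (Multiplicative ℤ)) = v (algebraMap B M u) * v (algebraMap B M ((u⁻¹ : Bˣ) : B)) := h4.symm
      _ ≤ v (algebraMap B M u) * 1 := mul_le_mul' le_rfl h2
      _ = _ := mul_one _
  have hunitQ : ∀ u : (W.comap (algebraMap K₁ M))ˣ, v (jQ u) = 1 := by
    intro u
    have h1 := (hv _).mp (hQdom.1 (u : W.comap (algebraMap K₁ M)))
    have h2 := (hv _).mp (hQdom.1 ((u⁻¹ : (W.comap (algebraMap K₁ M))ˣ) : W.comap (algebraMap K₁ M)))
    have h3 : jQ u * jQ ((u⁻¹ : (W.comap (algebraMap K₁ M))ˣ) : W.comap (algebraMap K₁ M)) = 1 := by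
      rw [← map_mul, ← Units.val_mul, mul_inv_cancel, Units.val_one, map_one]
    have h4 := congrArg v h3
    rw [map_mul, map_one] at h4
    refine le_antisymm h1 ?_
    calc (1 : WithZero (Multiplicative ℤ)) = v (jQ u) * v (jQ ((u⁻¹ : (W.comap (algebraMap K₁ M))ˣ) : W.comap (algebraMap K₁ M))) := h4.symm
      _ ≤ v (jQ u) * 1 := mul_le_mul' le_rfl h2
      _ = _ := mul_one _
  -- the key relation
  have hrel : jQ u₁ * x ^ (e * d) = algebraMap B M w * y ^ e := by
    have h1 := congrArg jQ hu₁
    rw [map_mul, map_pow, ← hcompat, hw, map_mul, map_pow, hd, ← hx, ← hy] at h1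
    exact h1.symm
  have hu₁0 : jQ u₁ ≠ 0 := by
    intro h0
    have := hunitQ u₁
    rw [h0, map_zero] at this
    exact zero_ne_one this
  have hzn : (x ^ d / y) ^ e = algebraMap B M w *
      jQ ((u₁⁻¹ : (W.comap (algebraMap K₁ M))ˣ) : W.comap (algebraMap K₁ M)) := by
    have h3 : jQ u₁ * jQ ((u₁⁻¹ : (W.comap (algebraMap K₁ M))ˣ) : W.comap (algebraMap K₁ M)) = 1 := by
      rw [← map_mul, ← Units.val_mul, mul_inv_cancel, Units.val_one, map_one]
    have h4 : jQ ((u₁⁻¹ : (W.comap (algebraMap K₁ M))ˣ) : W.comap (algebraMap K₁ M)) = (jQ u₁)⁻¹ :=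
      eq_inv_of_mul_eq_one_right h3
    rw [h4, div_pow, ← pow_mul, mul_comm d e]
    rw [div_eq_iff (pow_ne_zero _ hy0), mul_assoc, mul_comm _ (y ^ e), ← mul_assoc, ← hrel]
    field_simp
  have hzz : (x ^ d / y) * (y / x ^ d) = 1 := by
    field_simp
  have hvz : v (x ^ d / y) = 1 := by
    have h1 := congrArg v hzn
    rw [map_pow, map_mul, hunitB, hunitQ, mul_one] at h1
    exact (pow_eq_one_iff_of_nonneg zero_le he0).mp h1
  have hzW : x ^ d / y ∈ W := (hv _).mpr hvz.le
  have hziW : y / x ^ d ∈ W := by
    rw [hv]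
    have h1 := congrArg v hzz
    rw [map_mul, hvz, one_mul, map_one] at h1
    exact h1.le
  haveI : Algebra.IsAlgebraic (ResidueField A) (ResidueField (W.comap (algebraMap K₁ M))) :=
    Algebra.IsIntegral.isAlgebraic
  have hT : ∀ t : ResidueField B ⊗[ResidueField A] ResidueField (W.comap (algebraMap K₁ M)),
      ∃ u, t = t * t * u := by
    haveI : IsReduced (ResidueField (W.comap (algebraMap K₁ M)) ⊗[ResidueField A]
        ResidueField B) := inferInstance
    haveI : IsReduced (ResidueField B ⊗[ResidueField A]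
        ResidueField (W.comap (algebraMap K₁ M))) :=
      isReduced_of_injective (Algebra.TensorProduct.comm (ResidueField A) (ResidueField B)
        (ResidueField (W.comap (algebraMap K₁ M)))).toRingEquiv.toRingHom
        (Algebra.TensorProduct.comm (ResidueField A) (ResidueField B)
        (ResidueField (W.comap (algebraMap K₁ M)))).injective
    exact CompDvr.vnr_tensor_right (ResidueField A) (ResidueField B)
      (ResidueField (W.comap (algebraMap K₁ M)))
  have hgenR : ∀ x : M, x ∈ CompDvr.fracField (CompDvr.RR (algebraMap B M) jQ) := by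
    apply CompDvr.gen_of_adjoin (L := L) (algebraMap K₁ M) _ _ _ hgen
    · intro l
      obtain ⟨b₁, b₂, hb₂, rfl⟩ := IsFractionRing.div_surjective (A := B) l
      rw [CompDvr.mem_fracField]
      refine ⟨algebraMap B M b₁, CompDvr.jP_mem _ _ b₁, algebraMap B M b₂, CompDvr.jP_mem _ _ b₂,
        ?_, ?_⟩
      · exact fun h0 => nonZeroDivisors.ne_zero hb₂ (hinjBM (by rw [h0, map_zero]))
      · rw [IsScalarTower.algebraMap_apply B L M b₂, IsScalarTower.algebraMap_apply B L M b₁,
          ← map_mul, div_mul_cancel₀]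
        exact fun h0 => nonZeroDivisors.ne_zero hb₂
          (IsFractionRing.injective B L (by rw [h0, map_zero]))
    · intro y'
      rcases (W.comap (algebraMap K₁ M)).mem_or_inv_mem y' with hy' | hy'
      · apply CompDvr.subring_le_fracField
        have := CompDvr.jQ_mem (algebraMap B M) jQ ⟨y', hy'⟩
        rwa [hjQ'] at this
      · have h3 := CompDvr.jQ_mem (algebraMap B M) jQ ⟨y'⁻¹, hy'⟩
        rw [hjQ'] at h3
        have h4 := (CompDvr.fracField (CompDvr.RR (algebraMap B M) jQ)).inv_mem
          (CompDvr.subring_le_fracField _ h3)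
        simpa using h4
  have hxmem : x ∈ CompDvr.RRz (algebraMap B M) jQ (x ^ d / y) (y / x ^ d) := by
    rw [hx]; exact CompDvr.jQ_mem_z _ _ _ _ πQ
  have hπv : W.valuation x < 1 := by
    rw [hx]
    apply hQdom.2
    rw [hπQ]; exact Ideal.mem_span_singleton_self _
  have hPπ : ∀ p ∈ maximalIdeal B, ∃ t ∈ CompDvr.RRz (algebraMap B M) jQ (x ^ d / y) (y / x ^ d),
      algebraMap B M p = x * t := by
    intro p hp
    rw [hπB, Ideal.mem_span_singleton'] at hp
    obtain ⟨c, rfl⟩ := hp
    refine ⟨algebraMap B M c * x ^ (d - 1) * (y / x ^ d),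
      Subring.mul_mem _ (Subring.mul_mem _ (CompDvr.jP_mem_z _ _ _ _ c)
        (Subring.pow_mem _ hxmem _)) (CompDvr.zi_mem _ _ _ _), ?_⟩
    rw [map_mul, ← hy]
    obtain ⟨d', rfl⟩ : ∃ d', d = d' + 1 := ⟨d - 1, by omega⟩
    rw [Nat.add_sub_cancel]
    field_simp
    ring
  have hQπ : ∀ q ∈ maximalIdeal (W.comap (algebraMap K₁ M)),
      ∃ t ∈ CompDvr.RRz (algebraMap B M) jQ (x ^ d / y) (y / x ^ d), jQ q = x * t := by
    intro q hq
    rw [hπQ, Ideal.mem_span_singleton'] at hq
    obtain ⟨c, rfl⟩ := hq
    exact ⟨jQ c, CompDvr.jQ_mem_z _ _ _ _ c, by rw [map_mul, hx, mul_comm]⟩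
  obtain ⟨h1, h2⟩ := CompDvr.apply_root (algebraMap B M) jQ (x ^ d / y) (y / x ^ d) W v hv hv1
    hW.1 hQdom.1 hzW hziW hcompat x hxmem hx0 hπv hPπ hQπ hzz e he0 w u₁⁻¹ hzn hne hT hgenR
  letI : Algebra (W.comap (algebraMap K₁ M)) W :=
    (EtRam.inclOfComap W (algebraMap K₁ M)).toAlgebra
  constructor
  · -- weakly unramified
    unfold EtRam.IsWeaklyUnramified
    apply le_antisymm
    · exact IsLocalRing.map_maximalIdeal_le (EtRam.inclOfComap W (algebraMap K₁ M))
    · intro z hz
      rw [ValuationSubring.valuation_lt_one_iff] at hz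
      obtain ⟨y', hy', hzy⟩ := h1 _ hz
      have hz' : z = (⟨y', hy'⟩ : W) * algebraMap (W.comap (algebraMap K₁ M)) W πQ := by
        apply Subtype.ext
        rw [hzy, hx, hjQ']; rfl
      rw [hz']
      apply Ideal.mul_mem_left
      apply Ideal.mem_map_of_mem
      rw [hπQ]; exact Ideal.mem_span_singleton_self _
  · letI algQW : Algebra (ResidueField (W.comap (algebraMap K₁ M))) (ResidueField W) :=
      (IsLocalRing.ResidueField.map (EtRam.inclOfComap W (algebraMap K₁ M))).toAlgebra
    letI : Algebra B W := (RingHom.codRestrict (algebraMap B M) W hW.1).toAlgebra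
    haveI : IsLocalHom (algebraMap B W) := CompDvr.isLocalHom_codRestrict _ _ hW
    letI : Algebra A W := ((algebraMap B W).comp (algebraMap A B)).toAlgebra
    haveI : IsScalarTower A B W := IsScalarTower.of_algebraMap_eq (fun _ => rfl)
    haveI : IsLocalHom (algebraMap A W) := by
      show IsLocalHom ((algebraMap B W).comp (algebraMap A B))
      exact RingHom.isLocalHom_comp _ _
    haveI : IsScalarTower (ResidueField A) (ResidueField (W.comap (algebraMap K₁ M)))
        (ResidueField W) := by
      refine IsScalarTower.of_algebraMap_eq (fun abar => ?_)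
      obtain ⟨a, rfl⟩ := residue_surjective abar
      show residue W (algebraMap A W a) =
        IsLocalRing.ResidueField.map (EtRam.inclOfComap W (algebraMap K₁ M))
          (residue _ (algebraMap A (W.comap (algebraMap K₁ M)) a))
      rw [IsLocalRing.ResidueField.map_residue]
      congr 1
      exact Subtype.ext (hcomp a).symm
    have hwres : residue B (w : B) ≠ 0 := by
      rw [Ne, residue_eq_zero_iff]
      exact fun h => (IsLocalRing.mem_maximalIdeal _).mp h w.isUnit
    have hures : residue (W.comap (algebraMap K₁ M))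
        ((u₁⁻¹ : (W.comap (algebraMap K₁ M))ˣ) : W.comap (algebraMap K₁ M)) ≠ 0 := by
      rw [Ne, residue_eq_zero_iff]
      exact fun h => (IsLocalRing.mem_maximalIdeal _).mp h (u₁⁻¹).isUnit
    apply CompDvr.geomReduced_compositum_root (ResidueField A) (ResidueField B)
      (ResidueField (W.comap (algebraMap K₁ M))) (ResidueField W)
      (residue W ⟨x ^ d / y, hzW⟩) (residue W ⟨y / x ^ d, hziW⟩) ?_ e he0 hne
      (residue B (w : B)) hwres
      (residue _ ((u₁⁻¹ : (W.comap (algebraMap K₁ M))ˣ) : W.comap (algebraMap K₁ M))) hures ?_ ?_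
    · rw [← map_mul, ← map_one (residue W)]
      congr 1
      exact Subtype.ext hzz
    · show residue W ⟨x ^ d / y, hzW⟩ ^ e = residue W (algebraMap B W w) *
        IsLocalRing.ResidueField.map (EtRam.inclOfComap W (algebraMap K₁ M)) (residue _ _)
      rw [IsLocalRing.ResidueField.map_residue, ← map_pow, ← map_mul]
      congr 1
      apply Subtype.ext
      show (x ^ d / y) ^ e = algebraMap B M w * algebraMap K₁ M _
      rw [hzn, hjQ']
    · intro y''
      have hy := CompDvr.residue_mem_closure_root (algebraMap B M) jQ (x ^ d / y) (y / x ^ d) W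
        hW.1 hQdom.1 hzW hziW h2 y''
      refine Subring.closure_mono ?_ hy
      rintro _ ((⟨p, rfl⟩ | ⟨q, rfl⟩) | h)
      · left; left
        exact ⟨residue B p, rfl⟩
      · left; right
        refine ⟨residue _ q, ?_⟩
        show IsLocalRing.ResidueField.map (EtRam.inclOfComap W (algebraMap K₁ M)) (residue _ q) = _
        rw [IsLocalRing.ResidueField.map_residue]
        congr 1
        apply Subtype.ext
        show algebraMap K₁ M (q : K₁) = jQ q
        rw [hjQ']
      · right
        exact h

end Core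

section Main

variable (A B K L : Type u) [CommRing A] [IsDomain A] [IsDiscreteValuationRing A]
    [CommRing B] [IsDomain B] [IsDiscreteValuationRing B] [Algebra A B] [IsLocalHom (algebraMap A B)]
    [Field K] [Field L] [Algebra A K] [IsFractionRing A K] [Algebra B L] [IsFractionRing B L]
    [Algebra K L] [Algebra A L] [IsScalarTower A K L] [IsScalarTower A B L]

theorem ramIdx_ne_zero (hinj : Function.Injective (algebraMap A B)) :
    Ideal.ramificationIdx' (maximalIdeal A) (maximalIdeal B) ≠ 0 := by
  obtain ⟨πA, hπAirr⟩ := IsDiscreteValuationRing.exists_irreducible A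
  have hπA : maximalIdeal A = Ideal.span {πA} := hπAirr.maximalIdeal_eq
  obtain ⟨πB, hπBirr⟩ := IsDiscreteValuationRing.exists_irreducible B
  have hπB : maximalIdeal B = Ideal.span {πB} := hπBirr.maximalIdeal_eq
  have hab0 : algebraMap A B πA ≠ 0 := fun h0 => hπAirr.ne_zero (hinj (by rw [h0, map_zero]))
  obtain ⟨e, w, hw⟩ := IsDiscreteValuationRing.eq_unit_mul_pow_irreducible hab0 hπBirr
  rw [CompDvr.ramificationIdx'_eq hπA hπB hπBirr.ne_zero w e hw]
  rintro rfl
  rw [pow_zero, mul_one] at hw
  have : IsUnit πA := isUnit_of_map_unit (algebraMap A B) πA (hw ▸ w.isUnit)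
  have hπAmem : πA ∈ maximalIdeal A := by rw [hπA]; exact Ideal.mem_span_singleton_self _
  exact (IsLocalRing.mem_maximalIdeal _).mp hπAmem this

theorem main (hinj : Function.Injective (algebraMap A B))
    (htame : CharZero (IsLocalRing.ResidueField A) ∨
      ∃ p : ℕ, p.Prime ∧ CharP (IsLocalRing.ResidueField A) p ∧
        ¬ p ∣ Ideal.ramificationIdx' (IsLocalRing.maximalIdeal A) (IsLocalRing.maximalIdeal B) ∧
        Algebra.IsGeometricallyReduced (IsLocalRing.ResidueField A) (IsLocalRing.ResidueField B))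
    (K₁ : Type u) [Field K₁] [Algebra K K₁] [FiniteDimensional K K₁] :
    EtRam.ForallLocalExt B K L K₁ (fun M _ W f =>
      ∀ hA : ∀ a : A, (algebraMap K K₁) (algebraMap A K a) ∈ W.comap f,
        letI : Algebra A (W.comap f) := (RingHom.codRestrict ((algebraMap K K₁).comp (algebraMap A K)) (W.comap f) hA).toAlgebra
        letI : Algebra (W.comap f) W := (EtRam.inclOfComap W f).toAlgebra
        Ideal.ramificationIdx' (IsLocalRing.maximalIdeal A) (IsLocalRing.maximalIdeal B) ∣
          Ideal.ramificationIdx' (IsLocalRing.maximalIdeal A) (IsLocalRing.maximalIdeal (W.comap f)) →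
        EtRam.IsWeaklyUnramified (W.comap f) W ∧
          @Algebra.IsGeometricallyReduced (IsLocalRing.ResidueField (W.comap f)) (IsLocalRing.ResidueField W) _ _
            (IsLocalRing.ResidueField.map (EtRam.inclOfComap W f)).toAlgebra) := by
  intro M _ _ _ _ _ _ hgen W hW hA hdvd
  rcases htame with h0 | ⟨p, hp, hcp, hpe, hgr⟩
  · haveI := h0
    haveI : Algebra.IsGeometricallyReduced (ResidueField A) (ResidueField B) :=
      Groth.Agent.Lib.helper3.GeomRed.isGeometricallyReduced_of_perfectField _ _
    have hne : ((Ideal.ramificationIdx' (maximalIdeal A) (maximalIdeal B) : ℕ) : ResidueField A) ≠ 0 :=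
      Nat.cast_ne_zero.mpr (ramIdx_ne_zero A B hinj)
    exact core A B K L K₁ M hinj hne hgen W hW hA hdvd
  · haveI := hgr
    haveI := hcp
    have hne : ((Ideal.ramificationIdx' (maximalIdeal A) (maximalIdeal B) : ℕ) : ResidueField A) ≠ 0 := by
      rw [Ne, CharP.cast_eq_zero_iff (ResidueField A) p]
      exact hpe
    exact core A B K L K₁ M hinj hne hgen W hW hA hdvd

end Main



/-- Suppose A -> B makes the discrete valuation ring B an extension of the discrete valuation ring A,
write K ⊂ L for their fraction fields and e for the ramification index; assume the residue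
characteristic of A is zero, or it is p with p not dividing e and the residue field extension of A
-> B separable (in the general sense, i.e. geometrically reduced; it need not be algebraic). Let
K₁/K be a finite extension. Then for every compositum M of L and K₁ and every valuation subring W of
M dominating B such that e divides the ramification index of A -> W ∩ K₁, the extension W ∩ K₁ -> W
is weakly unramified with separable (geometrically reduced) residue field extension. -/
theorem result (A B K L : Type u) [CommRing A] [IsDomain A] [IsDiscreteValuationRing A]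
    [CommRing B] [IsDomain B] [IsDiscreteValuationRing B] [Algebra A B] [IsLocalHom (algebraMap A B)]
    (hinj : Function.Injective (algebraMap A B))
    [Field K] [Field L] [Algebra A K] [IsFractionRing A K] [Algebra B L] [IsFractionRing B L]
    [Algebra K L] [Algebra A L] [IsScalarTower A K L] [IsScalarTower A B L]
    (htame : CharZero (IsLocalRing.ResidueField A) ∨
      ∃ p : ℕ, p.Prime ∧ CharP (IsLocalRing.ResidueField A) p ∧
        ¬ p ∣ Ideal.ramificationIdx' (IsLocalRing.maximalIdeal A) (IsLocalRing.maximalIdeal B) ∧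
        Algebra.IsGeometricallyReduced (IsLocalRing.ResidueField A) (IsLocalRing.ResidueField B))
    (K₁ : Type u) [Field K₁] [Algebra K K₁] [FiniteDimensional K K₁] :
    EtRam.ForallLocalExt B K L K₁ (fun M _ W f =>
      ∀ hA : ∀ a : A, (algebraMap K K₁) (algebraMap A K a) ∈ W.comap f,
        letI : Algebra A (W.comap f) := (RingHom.codRestrict ((algebraMap K K₁).comp (algebraMap A K)) (W.comap f) hA).toAlgebra
        letI : Algebra (W.comap f) W := (EtRam.inclOfComap W f).toAlgebra
        Ideal.ramificationIdx' (IsLocalRing.maximalIdeal A) (IsLocalRing.maximalIdeal B) ∣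
          Ideal.ramificationIdx' (IsLocalRing.maximalIdeal A) (IsLocalRing.maximalIdeal (W.comap f)) →
        EtRam.IsWeaklyUnramified (W.comap f) W ∧
          @Algebra.IsGeometricallyReduced (IsLocalRing.ResidueField (W.comap f)) (IsLocalRing.ResidueField W) _ _
            (IsLocalRing.ResidueField.map (EtRam.inclOfComap W f)).toAlgebra) := by
  exact main A B K L hinj htame K₁

end Groth.Agent.S1982
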