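import Groth.Statements.S19821
import Groth.Agent.Lib.Lead.HomHartogs
import Groth.Agent.Lib.Lead.RefHull5
import Groth.Agent.Lib.Helper26.ReflexiveCrit2
import Groth.Agent.Lib.Helper17.FibreDim
-- import your own Groth.Agent.* helpers here

set_option autoImplicit false
set_option backward.isDefEq.respectTransparency false
universe u
open QGor

namespace Groth.Agent.S19821


open CategoryTheory AlgebraicGeometry in
/-- depth `≥ 2` of a Noetherian local ring satisfying `(S_2)` of dimension `≥ 2` -/
theorem two_le_depth_of_hasSk {R : Type u} [CommRing R] [IsLocalRing R] [IsNoetherianRing R]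
    {M : Type u} [AddCommGroup M] [Module R M] (e : M ≃ₗ[R] R) (hS : LocCoh.HasSk 2 R M)
    (hd : (2 : WithBot ℕ∞) ≤ ringKrullDim R) : (2 : ℕ∞) ≤ LocCoh.depth R R := by
  have hA : LocCoh.HasSk 2 R R := Groth.Agent.Lib.helper26.Depth.hasSk_congr 2 e hS
  have hI : (2 : ℕ∞) ≤ (IsLocalRing.maximalIdeal R).height := by
    rw [← IsLocalRing.maximalIdeal_height_eq_ringKrullDim] at hd
    exact WithBot.coe_le_coe.mp hd
  exact Groth.Agent.Lib.helper26.Depth.two_le_idealDepth_self_of_hasSk hA _ hI


open CategoryTheory AlgebraicGeometry in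
/-- For a proper S₂-morphism Y → Spec A to a Noetherian affine base, of pure relative dimension d, with
relative canonical sheaf ω (characterised by the d-dualizing property over A), and an open subset U
of the relative Gorenstein locus whose complement has codimension at least 2 in every fibre (the
local ring of the fibre at every point outside U has dimension ≥ 2), each reflexive power ω^{[m]}, m
∈ ℤ (the double dual of the m-th tensor power of ω, resp. of its dual for m < 0), is the direct
image of its restriction to U: the unit ω^{[m]} → j_* (ω^{[m]}|_U) of the restriction–direct-image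
adjunction along j : U → Y is an isomorphism. (On U the sheaf ω is invertible, so ω^{[m]}|_U is the
m-th tensor power of ω|_U; the source phrases the conclusion as ω^{[m]} ≅ j_*(ω_U^{⊗ m}).) -/
theorem result
    (A : Type u) [CommRing A] [IsNoetherianRing A] (Y : Scheme.{u}) [Y.Over (Spec (CommRingCat.of A))]
    [IsProper (Y ↘ Spec (CommRingCat.of A))] (d : ℕ)
    (hS : RelCanon.IsSkMor (Y ↘ Spec (CommRingCat.of A)) 2) (hd : Cyc.HasRelDim (Y ↘ Spec (CommRingCat.of A)) d)
    (ω : Y.Modules) (hω : RelCanon.IsDualizingSheaf A Y d ω)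
    (U : Y.Opens) (hU : (U : Set Y) ⊆ RelCanon.gorLocus (Y ↘ Spec (CommRingCat.of A)))
    (hcod : ∀ y : Y, y ∉ U → (2 : WithBot ℕ∞) ≤ ringKrullDim (((Y ↘ Spec (CommRingCat.of A)).fiber ((Y ↘ Spec (CommRingCat.of A)) y)).presheaf.stalk ((Y ↘ Spec (CommRingCat.of A)).asFiber y)))
    (m : ℤ) :
    IsIso ((Scheme.Modules.restrictAdjunction U.ι).unit.app (RelCanon.refPowZ ω m)) := by
  classical
  obtain ⟨hfl, hft, hsk⟩ := hS
  haveI := hfl
  haveI := hft
  haveI : IsLocallyNoetherian Y :=
    LocallyOfFiniteType.isLocallyNoetherian (Y ↘ Spec (CommRingCat.of A))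
  have hdepth : ∀ y : Y, y ∉ U →
      (2 : ℕ∞) ≤ LocCoh.depth (Y.presheaf.stalk y) (Y.presheaf.stalk y) := by
    intro y hy
    haveI : IsNoetherianRing (Y.presheaf.stalk y) := inferInstance
    haveI : IsNoetherianRing ((Spec (CommRingCat.of A)).presheaf.stalk
        ((Y ↘ Spec (CommRingCat.of A)) y)) := inferInstance
    rw [Groth.Agent.Lib.helper17.FibreDim.depth_stalk_eq (Y ↘ Spec (CommRingCat.of A)) y
      (Flat.stalkMap (Y ↘ Spec (CommRingCat.of A)) y)]
    haveI := Groth.Agent.Lib.helper17.FibreDim.isNoetherianRing_fiberStalk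
      (Y ↘ Spec (CommRingCat.of A)) y
    obtain ⟨e⟩ := Groth.Agent.Lib.Lead.RH.exists_stalkUnitEquiv
      (X := (Y ↘ Spec (CommRingCat.of A)).fiber ((Y ↘ Spec (CommRingCat.of A)) y))
      ((Y ↘ Spec (CommRingCat.of A)).asFiber y)
    have h2 := two_le_depth_of_hasSk e (hsk y) (hcod y hy)
    exact le_trans h2 le_add_self
  have hO : IsIso ((ZClos.resPushUnit U).app (Coh.structureModule Y)) :=
    Groth.Agent.Lib.helper2.Hartogs.isIso_resPushUnit_structure U hdepth
  cases m with
  | ofNat n =>
    exact Groth.Agent.Lib.Lead.HomHartogs.isIso_resPushUnit_dual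
      (RefHull.dual (CohB1.tensorPow ω n)) U hO
  | negSucc n =>
    exact Groth.Agent.Lib.Lead.HomHartogs.isIso_resPushUnit_dual
      (RefHull.dual (CohB1.tensorPow (RefHull.dual ω) (n + 1))) U hO

end Groth.Agent.S19821
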