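import Groth.Statements.S1985
import Mathlib
import Groth.Agent.S17703
import Groth.Agent.S2654
import Groth.Agent.Lib.Helper24.NagFF
import Groth.Agent.Lib.Helper24.CplFlat
import Groth.Agent.Lib.Helper3.GeomRed2
import Groth.Agent.Lib.Helper17.SmoothArtin

set_option autoImplicit false
set_option linter.style.haveILetI false
universe u
open EtAlg TensorProduct IsLocalRing

namespace Groth.Agent.S1985

open TensorProduct IsLocalRing in
/-- Transitivity of geometric reducedness along a field extension. -/
theorem geomRed_trans (k l F : Type u) [Field k] [Field l] [CommRing F] [Algebra k l]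
    [Algebra l F] [Algebra k F] [IsScalarTower k l F] [Algebra.IsGeometricallyReduced k l]
    [Algebra.IsGeometricallyReduced l F] : Algebra.IsGeometricallyReduced k F := by
  rw [Algebra.isGeometricallyReduced_field_iff]
  have h0 : IsReduced (AlgebraicClosure k ⊗[k] l) :=
    (Algebra.isGeometricallyReduced_field_iff k l).mp inferInstance
  haveI h1 : IsReduced (l ⊗[k] AlgebraicClosure k) :=
    Groth.Agent.Lib.helper3.GeomRed.isReduced_comm _ _ h0
  have h2 : IsReduced (F ⊗[l] (l ⊗[k] AlgebraicClosure k)) := by
    apply Groth.Agent.Lib.helper3.GeomRed.isReduced_tensor_of_forall_field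
    intro L _ _ _
    have := Groth.Agent.Lib.helper3.GeomRed.isReduced_tensor_of_isGeometricallyReduced l L F
    exact Groth.Agent.Lib.helper3.GeomRed.isReduced_comm _ _ this
  have h3 : IsReduced (F ⊗[k] AlgebraicClosure k) :=
    isReduced_of_injective
      (Algebra.TensorProduct.cancelBaseChange k l l F (AlgebraicClosure k)).symm
      (Algebra.TensorProduct.cancelBaseChange k l l F (AlgebraicClosure k)).symm.injective
  exact Groth.Agent.Lib.helper3.GeomRed.isReduced_comm _ _ h3

/-- Let A -> B be an extension of discrete valuation rings whose extension of fraction fields L/K is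
separable. If B is a Nagata ring then so is A. -/
theorem result (A B K L : Type u) [CommRing A] [IsDomain A] [IsDiscreteValuationRing A]
    [CommRing B] [IsDomain B] [IsDiscreteValuationRing B] [Algebra A B] [IsLocalHom (algebraMap A B)]
    (hinj : Function.Injective (algebraMap A B))
    [Field K] [Field L] [Algebra A K] [IsFractionRing A K] [Algebra B L] [IsFractionRing B L]
    [Algebra K L] [Algebra A L] [IsScalarTower A K L] [IsScalarTower A B L] [Algebra.IsSeparable K L] (hB : CAlg.IsNagata B) :
    CAlg.IsNagata A := by
  classical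
  haveI : IsNoetherianRing B := hB.1
  suffices key : Algebra.IsGeometricallyReduced (⊥ : Ideal A).ResidueField
      (EGA4.formalFibre A (⊥ : Ideal A)) by
    obtain ⟨h1, -, h3, h4⟩ := (Groth.Agent.S17703.result A).2 key
    exact Groth.Agent.S2654.result A ⟨h1, h3, h4⟩
  haveI hBfib : Algebra.IsGeometricallyReduced (⊥ : Ideal B).ResidueField
      ((⊥ : Ideal B).ResidueField ⊗[B] AdicCompletion (maximalIdeal B) B) :=
    Groth.Agent.Lib.Helper24.NagFF.hasGeomReducedFormalFibres_of_isNagata B hB ⊥
  -- the map of fraction fields
  have hinj' : Function.Injective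
      ((algebraMap B (⊥ : Ideal B).ResidueField).comp (algebraMap A B)) :=
    (IsFractionRing.injective B (⊥ : Ideal B).ResidueField).comp hinj
  letI algk : Algebra (⊥ : Ideal A).ResidueField (⊥ : Ideal B).ResidueField :=
    (IsFractionRing.lift hinj').toAlgebra
  have hι : ∀ a : A, algebraMap (⊥ : Ideal A).ResidueField (⊥ : Ideal B).ResidueField
      (algebraMap A (⊥ : Ideal A).ResidueField a) =
      algebraMap B (⊥ : Ideal B).ResidueField (algebraMap A B a) :=
    fun a => IsFractionRing.lift_algebraMap hinj' a
  haveI hsep : Algebra.IsSeparable (⊥ : Ideal A).ResidueField (⊥ : Ideal B).ResidueField := by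
    let e₁ : K ≃+* (⊥ : Ideal A).ResidueField :=
      (IsLocalization.algEquiv (nonZeroDivisors A) K (⊥ : Ideal A).ResidueField).toRingEquiv
    let e₂ : L ≃+* (⊥ : Ideal B).ResidueField :=
      (IsLocalization.algEquiv (nonZeroDivisors B) L (⊥ : Ideal B).ResidueField).toRingEquiv
    refine Algebra.IsSeparable.of_equiv_equiv e₁ e₂ ?_
    apply IsLocalization.ringHom_ext (nonZeroDivisors A)
    ext a
    simp only [RingHom.comp_apply]
    have h1 : e₁ (algebraMap A K a) = algebraMap A (⊥ : Ideal A).ResidueField a :=
      (IsLocalization.algEquiv (nonZeroDivisors A) K (⊥ : Ideal A).ResidueField).commutes a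
    have h2 : algebraMap K L (algebraMap A K a) = algebraMap B L (algebraMap A B a) := by
      rw [← IsScalarTower.algebraMap_apply, ← IsScalarTower.algebraMap_apply]
    have h3 : e₂ (algebraMap B L (algebraMap A B a)) =
        algebraMap B (⊥ : Ideal B).ResidueField (algebraMap A B a) :=
      (IsLocalization.algEquiv (nonZeroDivisors B) L (⊥ : Ideal B).ResidueField).commutes _
    change algebraMap _ _ (e₁ (algebraMap A K a)) = e₂ (algebraMap K L (algebraMap A K a))
    rw [h1, h2, h3, hι]
  haveI hgrk : Algebra.IsGeometricallyReduced (⊥ : Ideal A).ResidueField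
      (⊥ : Ideal B).ResidueField := by
    haveI : Algebra.FormallyEtale (⊥ : Ideal A).ResidueField (⊥ : Ideal B).ResidueField :=
      Algebra.FormallyEtale.of_isSeparable _ _
    exact Groth.Agent.Lib.helper17.SmoothArtin.isGeometricallyReduced_of_formallySmooth
  haveI hgrF : Algebra.IsGeometricallyReduced (⊥ : Ideal A).ResidueField
      ((⊥ : Ideal B).ResidueField ⊗[B] AdicCompletion (maximalIdeal B) B) :=
    geomRed_trans _ (⊥ : Ideal B).ResidueField _
  haveI t0 : IsScalarTower A B (⊥ : Ideal B).ResidueField := inferInstance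
  haveI t2 : IsScalarTower A (⊥ : Ideal A).ResidueField
      ((⊥ : Ideal B).ResidueField ⊗[B] AdicCompletion (maximalIdeal B) B) := by
    refine IsScalarTower.of_algebraMap_eq (R := A) (S := (⊥ : Ideal A).ResidueField)
      (A := (⊥ : Ideal B).ResidueField ⊗[B] AdicCompletion (maximalIdeal B) B) (fun a => ?_)
    have e1 : algebraMap A ((⊥ : Ideal B).ResidueField ⊗[B] AdicCompletion (maximalIdeal B) B) a
        = (algebraMap A (⊥ : Ideal B).ResidueField a) ⊗ₜ[B] 1 :=
      Algebra.TensorProduct.algebraMap_apply a
    have e2 : algebraMap (⊥ : Ideal A).ResidueField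
        ((⊥ : Ideal B).ResidueField ⊗[B] AdicCompletion (maximalIdeal B) B)
        (algebraMap A (⊥ : Ideal A).ResidueField a)
        = (algebraMap (⊥ : Ideal A).ResidueField (⊥ : Ideal B).ResidueField
          (algebraMap A (⊥ : Ideal A).ResidueField a)) ⊗ₜ[B] 1 :=
      Algebra.TensorProduct.algebraMap_apply _
    rw [e1, e2, hι, ← IsScalarTower.algebraMap_apply A B (⊥ : Ideal B).ResidueField]
  -- the comparison map of generic formal fibres
  let φ : AdicCompletion (maximalIdeal A) A →+* AdicCompletion (maximalIdeal B) B :=
    Groth.Agent.Lib.Helper24.CplFlat.cplMap A B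
  let g : AdicCompletion (maximalIdeal A) A →ₐ[A]
      ((⊥ : Ideal B).ResidueField ⊗[B] AdicCompletion (maximalIdeal B) B) :=
    { toRingHom := (Algebra.TensorProduct.includeRight :
          AdicCompletion (maximalIdeal B) B →ₐ[B]
            ((⊥ : Ideal B).ResidueField ⊗[B] AdicCompletion (maximalIdeal B) B)).toRingHom.comp φ
      commutes' := fun a => by
        have e1 : algebraMap A
            ((⊥ : Ideal B).ResidueField ⊗[B] AdicCompletion (maximalIdeal B) B) a
            = (algebraMap A (⊥ : Ideal B).ResidueField a) ⊗ₜ[B] 1 :=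
          Algebra.TensorProduct.algebraMap_apply a
        rw [e1]
        change (1 : (⊥ : Ideal B).ResidueField) ⊗ₜ[B]
          φ (algebraMap A (AdicCompletion (maximalIdeal A) A) a) = _
        have e2 : AdicCompletion.of (maximalIdeal B) B (algebraMap A B a)
            = (algebraMap A B a) • (1 : AdicCompletion (maximalIdeal B) B) := by
          rw [← Algebra.algebraMap_eq_smul_one]
          rfl
        rw [AdicCompletion.algebraMap_apply, Algebra.algebraMap_self, RingHom.id_apply,
          Groth.Agent.Lib.Helper24.CplFlat.cplMap_of, e2,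
          ← TensorProduct.smul_tmul, ← Algebra.algebraMap_eq_smul_one,
          ← IsScalarTower.algebraMap_apply A B (⊥ : Ideal B).ResidueField] }
  let Ψ : ((⊥ : Ideal A).ResidueField ⊗[A] AdicCompletion (maximalIdeal A) A)
      →ₐ[(⊥ : Ideal A).ResidueField]
      ((⊥ : Ideal B).ResidueField ⊗[B] AdicCompletion (maximalIdeal B) B) :=
    Algebra.TensorProduct.lift (Algebra.ofId _ _) g (fun _ _ => Commute.all _ _)
  -- the generic formal fibre of `A` is a field
  obtain ⟨hdom, -⟩ := (Groth.Agent.S0549.result A).1 ⟨inferInstance, inferInstance⟩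
  haveI := hdom
  haveI hArt : IsArtinianRing
      ((⊥ : Ideal A).ResidueField ⊗[A] AdicCompletion (maximalIdeal A) A) :=
    Groth.Agent.S17703.isArtinianRing_fiber_bot A
  haveI hffA : Module.FaithfullyFlat A (AdicCompletion (maximalIdeal A) A) :=
    Module.FaithfullyFlat.of_flat_of_isLocalHom
  haveI hdomF : IsDomain
      ((⊥ : Ideal A).ResidueField ⊗[A] AdicCompletion (maximalIdeal A) A) := by
    letI : Algebra (AdicCompletion (maximalIdeal A) A)
        ((⊥ : Ideal A).ResidueField ⊗[A] AdicCompletion (maximalIdeal A) A) :=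
      Algebra.TensorProduct.rightAlgebra
    haveI : IsLocalization
        (Algebra.algebraMapSubmonoid (AdicCompletion (maximalIdeal A) A) (nonZeroDivisors A))
        ((⊥ : Ideal A).ResidueField ⊗[A] AdicCompletion (maximalIdeal A) A) :=
      IsLocalization.tensorRight _ (nonZeroDivisors A)
    refine IsLocalization.isDomain_of_le_nonZeroDivisors
      (R := AdicCompletion (maximalIdeal A) A)
      ((⊥ : Ideal A).ResidueField ⊗[A] AdicCompletion (maximalIdeal A) A)
      (M := Algebra.algebraMapSubmonoid (AdicCompletion (maximalIdeal A) A)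
        (nonZeroDivisors A)) ?_
    rintro x ⟨a, ha, rfl⟩
    apply mem_nonZeroDivisors_of_ne_zero
    intro h0
    have : a = 0 :=
      FaithfulSMul.algebraMap_injective A (AdicCompletion (maximalIdeal A) A)
        (by rw [h0, map_zero])
    exact nonZeroDivisors.ne_zero ha this
  have hfield : IsField
      ((⊥ : Ideal A).ResidueField ⊗[A] AdicCompletion (maximalIdeal A) A) :=
    IsArtinianRing.isField_of_isDomain _
  haveI hffB : Module.FaithfullyFlat B (AdicCompletion (maximalIdeal B) B) :=
    Module.FaithfullyFlat.of_flat_of_isLocalHom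
  haveI : Nontrivial ((⊥ : Ideal B).ResidueField ⊗[B] AdicCompletion (maximalIdeal B) B) :=
    Module.FaithfullyFlat.rTensor_nontrivial B (AdicCompletion (maximalIdeal B) B)
      (⊥ : Ideal B).ResidueField
  have hΨ : Function.Injective Ψ := by
    rw [injective_iff_map_eq_zero]
    intro x hx
    by_contra hne
    obtain ⟨y, hy⟩ := hfield.mul_inv_cancel hne
    have := congrArg Ψ hy
    rw [map_mul, hx, zero_mul, map_one] at this
    exact zero_ne_one this
  exact Algebra.IsGeometricallyReduced.of_injective Ψ hΨ

end Groth.Agent.S1985
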