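import Groth.Statements.S19856
import Mathlib

set_option autoImplicit false
universe u v
open CAlg

namespace Groth.Agent.S19856

/-- Ring-level form: let O be a discrete valuation ring and G a finite group acting faithfully on O by
ring automorphisms, such that every element of G acts trivially on the residue field of O (that is,
g • a - a lies in the maximal ideal for all a) and such that the order of G is nonzero in the
residue field of O. Then G is cyclic. (The source states this for a finite group of order invertible
in an algebraically closed field k acting faithfully on a smooth connected k-variety and the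
subgroup of elements fixing pointwise a codimension-one irreducible component of the ramification
locus, applied to the local ring at the generic point of that component; it is stated here for an
arbitrary discrete valuation ring with a faithful action. The source also shows that this subgroup
is nontrivial; that geometric part is not stated.) -/
theorem result
    (O : Type u) [CommRing O] [IsDomain O] [IsDiscreteValuationRing O]
    (G : Type v) [Group G] [Finite G] [MulSemiringAction G O] [FaithfulSMul G O]
    (htriv : ∀ (g : G) (a : O), g • a - a ∈ IsLocalRing.maximalIdeal O)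
    (hcard : ((Nat.card G : ℕ) : IsLocalRing.ResidueField O) ≠ 0) :
    IsCyclic G := by
  classical
  obtain ⟨π, hπ⟩ := IsDiscreteValuationRing.exists_irreducible O
  have hm : IsLocalRing.maximalIdeal O = Ideal.span {π} := hπ.maximalIdeal_eq
  have hπ0 : π ≠ 0 := hπ.ne_zero
  have mem_m : ∀ x : O, x ∈ IsLocalRing.maximalIdeal O ↔ π ∣ x := fun x => by
    rw [hm, Ideal.mem_span_singleton]
  let res := IsLocalRing.residue O
  have res_eq : ∀ x y : O, res x = res y ↔ π ∣ x - y := fun x y => by
    rw [← sub_eq_zero, ← map_sub, IsLocalRing.residue_eq_zero_iff, mem_m]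
  have hdvd : ∀ (g : G) (a : O), π ∣ g • a - a := fun g a => (mem_m _).mp (htriv g a)
  have hu : ∀ g : G, ∃ u : O, g • π = π * u := fun g => by
    have h1 := hdvd g π
    have h2 : π ∣ g • π := by
      have := dvd_add h1 (dvd_refl π)
      simpa using this
    exact h2
  choose u hu using hu
  have hGres : ∀ (g : G) (x : O), res (g • x) = res x := fun g x => by
    rw [res_eq]; exact hdvd g x
  let ψ : G →* IsLocalRing.ResidueField O :=
    { toFun := fun g => res (u g)
      map_one' := by
        have h1 := hu 1
        rw [one_smul] at h1
        have h3 : u 1 = 1 := (mul_left_cancel₀ hπ0 (by rw [mul_one]; exact h1)).symm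
        rw [h3, map_one]
      map_mul' := fun g h => by
        have h1 := hu (g * h)
        rw [mul_smul, hu h, smul_mul', hu g, mul_assoc] at h1
        have h3 : u g * g • u h = u (g * h) := mul_left_cancel₀ hπ0 h1
        rw [← h3, map_mul, hGres] }
  apply isCyclic_of_injective_ringHom ψ
  rw [injective_iff_map_eq_one]
  intro g hg
  by_contra hne
  have hug : π ∣ u g - 1 := by
    rw [← res_eq, map_one]; exact hg
  obtain ⟨a₀, ha₀⟩ : ∃ a : O, g • a ≠ a := by
    by_contra hall
    push Not at hall
    apply hne
    apply FaithfulSMul.eq_of_smul_eq_smul (α := O)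
    intro a
    rw [hall a, one_smul]
  have hfin : ∃ N, ¬ ∀ a : O, π ^ N ∣ g • a - a := by
    obtain ⟨N, hN⟩ := FiniteMultiplicity.of_not_isUnit hπ.not_isUnit (sub_ne_zero.mpr ha₀)
    exact ⟨N + 1, fun h => hN (h a₀)⟩
  have hj0 : Nat.find hfin ≠ 0 := by
    intro h0
    have := Nat.find_spec hfin
    rw [h0] at this
    exact this (fun a => by rw [pow_zero]; exact one_dvd _)
  obtain ⟨i, hi⟩ := Nat.exists_eq_succ_of_ne_zero hj0
  have hmin : ∀ a : O, π ^ i ∣ g • a - a := by
    have := Nat.find_min hfin (m := i) (by omega)
    push Not at this
    exact this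
  have hmax : ¬ ∀ a : O, π ^ (i + 1) ∣ g • a - a := by
    have := Nat.find_spec hfin
    rw [hi] at this
    exact this
  -- claim 1
  have hc1 : ∀ x : O, π ^ i ∣ x → π ^ (i + 1) ∣ g • x - x := by
    rintro x ⟨y, rfl⟩
    rw [smul_mul', smul_pow', hu g, mul_pow, pow_succ]
    have e1 : π ^ i * u g ^ i * g • y - π ^ i * y = π ^ i * (u g ^ i * g • y - y) := by ring
    rw [e1]
    apply mul_dvd_mul_left
    have e2 : u g ^ i * g • y - y = (u g ^ i - 1) * g • y + (g • y - y) := by ring
    rw [e2]
    refine dvd_add (Dvd.dvd.mul_right ?_ _) (hdvd g y)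
    exact dvd_trans hug (by simpa using sub_dvd_pow_sub_pow (u g) 1 i)
  -- claim 2
  have hc2 : ∀ (n : ℕ) (a : O), π ^ (i + 1) ∣ g ^ n • a - a - (n : O) * (g • a - a) := by
    intro n a
    induction n with
    | zero => simp
    | succ n ih =>
      have hgn : g • ((n : O)) = (n : O) := by
        have h := map_natCast (MulSemiringAction.toRingHom G O g) n
        rw [MulSemiringAction.toRingHom_apply] at h
        exact h
      have e1 : g ^ (n + 1) • a - a - ((n + 1 : ℕ) : O) * (g • a - a) =
          (n : O) * (g • (g • a - a) - (g • a - a)) +
            g • (g ^ n • a - a - (n : O) * (g • a - a)) := by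
        rw [pow_succ', mul_smul]
        simp only [smul_sub, smul_mul', hgn]
        push_cast
        ring
      rw [e1]
      refine dvd_add (Dvd.dvd.mul_left (hc1 _ (hmin a)) _) ?_
      obtain ⟨c, hc⟩ := ih
      rw [hc, smul_mul', smul_pow', hu g, mul_pow, mul_assoc]
      exact Dvd.intro _ rfl
  apply hmax
  intro a
  have h1 := hc2 (orderOf g) a
  rw [pow_orderOf_eq_one, one_smul, sub_self, zero_sub, dvd_neg] at h1
  have hunit : IsUnit ((orderOf g : ℕ) : O) := by
    rw [← IsLocalRing.notMem_maximalIdeal, ← IsLocalRing.residue_eq_zero_iff, map_natCast]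
    intro h0
    obtain ⟨m, hm'⟩ := orderOf_dvd_natCard g
    apply hcard
    rw [hm', Nat.cast_mul, h0, zero_mul]
  exact (hunit.dvd_mul_left).mp h1

end Groth.Agent.S19856
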