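import Groth.Statements.S19858
import Groth.Agent.Lib.Helper24.NormalDescent
-- import your own Groth.Agent.* helpers here

set_option autoImplicit false
universe u
open EGA4

namespace Groth.Agent.S19858

/-- Let A → B → C be homomorphisms of Noetherian rings such that C is faithfully flat over B and the
composite A → C is a normal homomorphism (flat, with geometrically normal fibres). Then A → B is a
normal homomorphism. (In the source C is the adic completion of A along an ideal and A → C is
assumed normal; only the faithful flatness of B → C and the normality of A → C enter, so C is an
arbitrary Noetherian ring here.) -/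
theorem result (A B C : Type u)
    [CommRing A] [CommRing B] [CommRing C] [IsNoetherianRing A] [IsNoetherianRing B] [IsNoetherianRing C]
    [Algebra A B] [Algebra B C] [Algebra A C] [IsScalarTower A B C] [Module.FaithfullyFlat B C]
    (hAC : EGA4.IsNormalHom A C) : EGA4.IsNormalHom A B := by
  obtain ⟨hflat, hfib⟩ := hAC
  haveI := hflat
  refine ⟨Groth.Agent.Lib.Helper24.FFComp.flat_of_flat_comp A B C, fun p hp k' _ _ hfin => ?_⟩
  exact Groth.Agent.Lib.Helper24.NormalDescent.isNormalRing_of_faithfullyFlat_ringHom _
    (Groth.Agent.Lib.Helper24.NormalDescent.faithfullyFlat_map_left_left A B C p.ResidueField k')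
    (hfib p k' hfin)

end Groth.Agent.S19858
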