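import Groth.Statements.S7151
import Mathlib
import Groth.Agent.Lib.Helper10.EppSol8
import Groth.Agent.Lib.Helper10.EppPI6

set_option autoImplicit false
universe u
open EtAlg

namespace Groth.Agent.S7151

set_option linter.style.haveILetI false
set_option linter.unusedSectionVars false

open IsLocalRing Polynomial IntermediateField Groth.Agent.Lib.helper10 Groth.Agent.Lib.helper10.EppSol

/-- a generator of a purely inseparable extension of degree `p`, with integral `p`-th power. -/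
theorem exists_gen (p : ℕ) (hp : p.Prime) (A K K₁ K₂ : Type u) [CommRing A] [IsDomain A]
    [Field K] [Algebra A K] [IsFractionRing A K] [CharP K p]
    [Field K₁] [Field K₂] [Algebra K K₁] [Algebra K K₂] [Algebra K₁ K₂] [IsScalarTower K K₁ K₂]
    [Algebra A K₁] [IsScalarTower A K K₁]
    [FiniteDimensional K K₁] [FiniteDimensional K₁ K₂]
    [IsPurelyInseparable K₁ K₂] (hdeg : Module.finrank K₁ K₂ = p) :
    ∃ (a : K₁) (θ₂ : K₂), θ₂ ^ p = algebraMap K₁ K₂ a ∧ IsIntegral A a ∧
      (∀ b : K₁, b ^ p ≠ a) ∧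
      (∀ k₂ : K₂, ∃ h : K₁[X], h.natDegree < p ∧ k₂ = aeval θ₂ h) := by
  haveI : Fact p.Prime := ⟨hp⟩
  haveI : CharP K₂ p := charP_of_injective_algebraMap (algebraMap K K₂).injective p
  -- a generator
  have h0 : ∃ θ₀ : K₂, θ₀ ∉ Set.range (algebraMap K₁ K₂) := by
    by_contra hcon
    push Not at hcon
    have h1 : Module.finrank K₁ K₂ = 1 := by
      rw [finrank_eq_one_iff_of_nonzero' (1 : K₂) one_ne_zero]
      intro w
      obtain ⟨c, hc⟩ := hcon w
      exact ⟨c, by rw [← hc, Algebra.algebraMap_eq_smul_one]⟩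
    rw [hdeg] at h1
    exact hp.one_lt.ne' h1
  obtain ⟨θ₀, hθ₀⟩ := h0
  obtain ⟨a₀, ha₀⟩ := EppPI.pow_p_mem K₁ K₂ hp hdeg θ₀
  -- scaling
  have halg : IsAlgebraic A a₀ := by
    rw [IsFractionRing.isAlgebraic_iff A K K₁]
    exact Algebra.IsAlgebraic.isAlgebraic a₀
  obtain ⟨s, hs0, hsint⟩ := halg.exists_integral_multiple
  have hσ0 : algebraMap A K₁ s ≠ 0 := by
    rw [IsScalarTower.algebraMap_apply A K K₁, Ne, map_eq_zero,
      map_eq_zero_iff _ (IsFractionRing.injective A K)]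
    exact hs0
  have hp1 : p - 1 + 1 = p := Nat.sub_add_cancel hp.pos
  have haint : IsIntegral A ((algebraMap A K₁ s) ^ p * a₀) := by
    have h1 : (algebraMap A K₁ s) ^ p * a₀ = (algebraMap A K₁ s) ^ (p - 1) * (s • a₀) := by
      rw [Algebra.smul_def, ← mul_assoc, ← pow_succ, hp1]
    rw [h1]
    exact (isIntegral_algebraMap.pow _).mul hsint
  have hθ₂ : (algebraMap K₁ K₂ (algebraMap A K₁ s) * θ₀) ^ p =
      algebraMap K₁ K₂ ((algebraMap A K₁ s) ^ p * a₀) := by
    rw [mul_pow, ha₀, map_mul, map_pow]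
  have hθ₂range : algebraMap K₁ K₂ (algebraMap A K₁ s) * θ₀ ∉ Set.range (algebraMap K₁ K₂) := by
    rintro ⟨c, hc⟩
    apply hθ₀
    refine ⟨c / algebraMap A K₁ s, ?_⟩
    rw [map_div₀, hc, mul_div_assoc, mul_comm, div_mul_cancel₀]
    rwa [Ne, map_eq_zero]
  refine ⟨(algebraMap A K₁ s) ^ p * a₀, algebraMap K₁ K₂ (algebraMap A K₁ s) * θ₀, hθ₂, haint,
    ?_, ?_⟩
  · intro b hb
    apply hθ₂range
    refine ⟨b, ?_⟩
    have h1 : (algebraMap K₁ K₂ (algebraMap A K₁ s) * θ₀ - algebraMap K₁ K₂ b) ^ p = 0 := by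
      rw [sub_pow_char, hθ₂, ← hb, map_pow, sub_self]
    have h2 := (pow_eq_zero_iff hp.ne_zero).mp h1
    exact (sub_eq_zero.mp h2).symm
  · intro k₂
    have hprime : (Module.finrank K₁ K₂).Prime := by rw [hdeg]; exact hp
    haveI := IntermediateField.isSimpleOrder_of_finrank_prime K₁ K₂ hprime
    have htop : K₁⟮algebraMap K₁ K₂ (algebraMap A K₁ s) * θ₀⟯ = ⊤ := by
      rcases eq_bot_or_eq_top K₁⟮algebraMap K₁ K₂ (algebraMap A K₁ s) * θ₀⟯ with h | h
      · exfalso
        apply hθ₂range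
        have h1 : algebraMap K₁ K₂ (algebraMap A K₁ s) * θ₀ ∈
            K₁⟮algebraMap K₁ K₂ (algebraMap A K₁ s) * θ₀⟯ :=
          IntermediateField.mem_adjoin_simple_self K₁ _
        rw [h, IntermediateField.mem_bot] at h1
        exact h1
      · exact h
    have h2 : k₂ ∈ Algebra.adjoin K₁ {algebraMap K₁ K₂ (algebraMap A K₁ s) * θ₀} := by
      rw [← IntermediateField.adjoin_simple_toSubalgebra_of_isAlgebraic
        (Algebra.IsAlgebraic.isAlgebraic _), htop]
      exact Algebra.mem_top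
    refine rep_of_root p _ (X ^ p - C ((algebraMap A K₁ s) ^ p * a₀))
      (monic_X_pow_sub_C _ hp.ne_zero) natDegree_X_pow_sub_C hp.pos ?_ k₂ h2
    rw [map_sub, map_pow, aeval_X, aeval_C, hθ₂, sub_self]

/-- the separable extension `K₁(z)`, `z ^ p - ε z = a`. -/
theorem exists_K3 (p : ℕ) (hp : p.Prime) {K₁ : Type u} [Field K₁] [CharP K₁ p] (ε₁ a : K₁)
    (hε₁ne : ε₁ ≠ 0) :
    ∃ f : K₁[X], ∃ hf : Fact (Irreducible f),
      Module.Finite K₁ (AdjoinRoot f) ∧ Algebra.IsSeparable K₁ (AdjoinRoot f) ∧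
      (AdjoinRoot.root f) ^ p - algebraMap K₁ (AdjoinRoot f) ε₁ * AdjoinRoot.root f =
        algebraMap K₁ (AdjoinRoot f) a ∧
      ∀ k₃ : AdjoinRoot f, ∃ h : K₁[X], h.natDegree < p ∧ k₃ = aeval (AdjoinRoot.root f) h := by
  have hq_deg : (C ε₁ * X + C a : K₁[X]).degree < (p : WithBot ℕ) := by
    refine lt_of_le_of_lt (degree_linear_le) ?_
    have : (1 : ℕ) < p := hp.one_lt
    exact_mod_cast this
  have hg_monic : (X ^ p - (C ε₁ * X + C a) : K₁[X]).Monic := monic_X_pow_sub hq_deg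
  have hg_deg : (X ^ p - (C ε₁ * X + C a) : K₁[X]).natDegree = p := by
    have h1 : (C ε₁ * X + C a : K₁[X]).natDegree < (X ^ p : K₁[X]).natDegree := by
      rw [natDegree_X_pow]
      exact lt_of_le_of_lt (natDegree_linear_le) hp.one_lt
    rw [natDegree_sub_eq_left_of_natDegree_lt h1, natDegree_X_pow]
  have hg_sep : (X ^ p - (C ε₁ * X + C a) : K₁[X]).Separable := by
    rw [separable_def]
    have hder : derivative (X ^ p - (C ε₁ * X + C a) : K₁[X]) = - C ε₁ := by
      rw [derivative_sub, derivative_X_pow, derivative_add, derivative_C, add_zero,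
        derivative_C_mul, derivative_X, mul_one]
      have : (C ((p : ℕ) : K₁) : K₁[X]) = 0 := by
        rw [CharP.cast_eq_zero, C_0]
      rw [this, zero_mul, zero_sub]
    rw [hder]
    have hu : IsUnit (- C ε₁ : K₁[X]) := (isUnit_C.mpr (IsUnit.mk0 _ hε₁ne)).neg
    obtain ⟨w, hw⟩ := hu.exists_left_inv
    exact ⟨0, w, by rw [zero_mul, zero_add, hw]⟩
  obtain ⟨g, hg⟩ : ∃ g : K₁[X], g = X ^ p - (C ε₁ * X + C a) := ⟨_, rfl⟩
  rw [← hg] at hg_monic hg_deg hg_sep
  have hfdvd : g.factor ∣ g :=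
    factor_dvd_of_natDegree_ne_zero (by rw [hg_deg]; exact hp.ne_zero)
  haveI hfirr : Fact (Irreducible g.factor) := ⟨irreducible_factor _⟩
  have hroot : aeval (AdjoinRoot.root g.factor) g = 0 := by
    obtain ⟨q, hq⟩ := hfdvd
    refine (congrArg (aeval (AdjoinRoot.root g.factor)) hq).trans ?_
    rw [map_mul, AdjoinRoot.aeval_eq, AdjoinRoot.mk_self, zero_mul]
  have hadj : Algebra.adjoin K₁ {AdjoinRoot.root g.factor} = ⊤ := AdjoinRoot.adjoinRoot_eq_top
  refine ⟨g.factor, hfirr, ?_, ?_, ?_, ?_⟩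
  · exact (AdjoinRoot.powerBasis hfirr.out.ne_zero).finite
  · have hsepz : IsSeparable K₁ (AdjoinRoot.root g.factor) := by
      unfold IsSeparable
      exact hg_sep.of_dvd (minpoly.dvd K₁ _ hroot)
    have h1 : Algebra.IsSeparable K₁ K₁⟮AdjoinRoot.root g.factor⟯ :=
      (IntermediateField.isSeparable_adjoin_simple_iff_isSeparable K₁ _).mpr hsepz
    have h2 : K₁⟮AdjoinRoot.root g.factor⟯ = ⊤ :=
      IntermediateField.adjoin_eq_top_of_algebra K₁ _ hadj
    rw [h2] at h1
    exact AlgEquiv.Algebra.isSeparable (IntermediateField.topEquiv (F := K₁)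
      (E := AdjoinRoot g.factor))
  · have h1 : aeval (AdjoinRoot.root g.factor) (X ^ p - (C ε₁ * X + C a) : K₁[X]) = 0 :=
      (congrArg (aeval (AdjoinRoot.root g.factor)) hg.symm).trans hroot
    rw [map_sub, map_pow, aeval_X, map_add, map_mul, aeval_X, aeval_C, aeval_C] at h1
    rw [← sub_eq_zero, ← h1]
    ring
  · intro k₃
    refine rep_of_root p _ _ hg_monic hg_deg hp.pos hroot k₃ ?_
    rw [hadj]
    exact Algebra.mem_top

theorem main (p : ℕ) (hp : p.Prime) (A B K L : Type u)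
    [CommRing A] [IsDomain A] [IsDiscreteValuationRing A] [CommRing B] [IsDomain B]
    [IsDiscreteValuationRing B]
    [Algebra A B] (hinj : Function.Injective (algebraMap A B)) [IsLocalHom (algebraMap A B)]
    [Field K] [Field L] [Algebra A K] [IsFractionRing A K] [Algebra B L] [IsFractionRing B L]
    [Algebra K L] [Algebra A L] [IsScalarTower A K L] [IsScalarTower A B L] [CharP K p]
    [Algebra.IsGeometricallyReduced K L] (hB : CAlg.IsNagata B)
    (K₁ K₂ : Type u) [Field K₁] [Field K₂] [Algebra K K₁] [Algebra K K₂] [Algebra K₁ K₂]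
    [IsScalarTower K K₁ K₂]
    [FiniteDimensional K K₁] [FiniteDimensional K₁ K₂] (hsol : EtRam.IsSolution B K L K₂)
    [IsPurelyInseparable K₁ K₂] (hdeg : Module.finrank K₁ K₂ = p) :
    ∃ (K₃ : Type u) (_ : Field K₃) (_ : Algebra K K₃) (_ : Algebra K₁ K₃)
      (_ : IsScalarTower K K₁ K₃),
      FiniteDimensional K₁ K₃ ∧ Algebra.IsSeparable K₁ K₃ ∧ EtRam.IsSolution B K L K₃ := by
  haveI : Fact p.Prime := ⟨hp⟩
  letI algAK₁ : Algebra A K₁ := ((algebraMap K K₁).comp (algebraMap A K)).toAlgebra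
  haveI : IsScalarTower A K K₁ := IsScalarTower.of_algebraMap_eq (fun _ => rfl)
  haveI : CharP K₁ p := charP_of_injective_algebraMap (algebraMap K K₁).injective p
  have hfin₁ : Module.Finite K K₁ := inferInstance
  have hfin₂ : Module.Finite K K₂ := Module.Finite.trans K₁ K₂
  obtain ⟨a, θ₂, hθ₂, haint, hanp, hrep₂⟩ := exists_gen p hp A K K₁ K₂ hdeg
  obtain ⟨πB, hπB⟩ := IsDiscreteValuationRing.exists_irreducible B
  obtain ⟨πA, hπA⟩ := IsDiscreteValuationRing.exists_irreducible A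
  have hN2 : CAlg.IsN2 B := EppPI.isN2_of_isNagata B hB
  obtain ⟨N, hdepth⟩ := uniform_depth p B K L K₁ hfin₁ hN2 hπB a hanp
  -- the small element
  have hπAB : algebraMap A B πA ∈ maximalIdeal B := by
    rw [mem_maximalIdeal, mem_nonunits_iff]
    intro hu
    exact hπA.not_isUnit ((isUnit_map_iff (algebraMap A B) πA).mp hu)
  rw [(IsDiscreteValuationRing.irreducible_iff_uniformizer πB).mp hπB,
    Ideal.mem_span_singleton'] at hπAB
  obtain ⟨b', hb'⟩ := hπAB
  have hε₀ : algebraMap K L (algebraMap A K (πA ^ N)) = algebraMap B L (πB ^ N * b' ^ N) := by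
    rw [← IsScalarTower.algebraMap_apply A K L, IsScalarTower.algebraMap_apply A B L, map_pow,
      ← hb', mul_pow, mul_comm]
  have hε₀ne : algebraMap A K (πA ^ N) ≠ 0 := by
    rw [Ne, map_eq_zero_iff _ (IsFractionRing.injective A K)]
    exact pow_ne_zero _ hπA.ne_zero
  -- integrality
  have haW : ∀ (F : Type u) [Field F] [Algebra K F] [Algebra L F] [Algebra K₁ F]
      [IsScalarTower K L F] [IsScalarTower K K₁ F] (W : ValuationSubring F),
      EtRam.Dominates B ((algebraMap L F).comp (algebraMap B L)) W → algebraMap K₁ F a ∈ W := by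
    intro F _ _ _ _ _ _ W hdom
    letI : Algebra A F := ((algebraMap K₁ F).comp (algebraMap A K₁)).toAlgebra
    haveI : IsScalarTower A K₁ F := IsScalarTower.of_algebraMap_eq (fun _ => rfl)
    have hint : IsIntegral A (algebraMap K₁ F a) := haint.algebraMap
    refine mem_of_isIntegral W (fun x => ?_) _ hint
    have h1 : algebraMap A F x = algebraMap L F (algebraMap B L (algebraMap A B x)) := by
      show algebraMap K₁ F (algebraMap K K₁ (algebraMap A K x)) = _
      rw [← IsScalarTower.algebraMap_apply K K₁ F, IsScalarTower.algebraMap_apply K L F,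
        ← IsScalarTower.algebraMap_apply A K L, IsScalarTower.algebraMap_apply A B L]
    rw [h1]
    exact hdom.1 _
  have hε₁ne : algebraMap K K₁ (algebraMap A K (πA ^ N)) ≠ 0 := by
    rw [Ne, map_eq_zero]; exact hε₀ne
  obtain ⟨f, hf, hfin₃, hsep₃, hz₃, hrep₃⟩ := exists_K3 p hp
    (algebraMap K K₁ (algebraMap A K (πA ^ N))) a hε₁ne
  haveI := hf
  refine ⟨AdjoinRoot f, inferInstance, inferInstance, inferInstance, inferInstance, hfin₃, hsep₃,
    ?_⟩
  exact local_step p B K L K₁ K₂ (AdjoinRoot f) hfin₁ hfin₂ hπB a θ₂ hθ₂ hrep₂ hsol N hdepth haW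
      (algebraMap A K (πA ^ N)) (b' ^ N) hε₀ (AdjoinRoot.root f) hz₃ hrep₃



/-- Let p be a prime and A → B an injective local homomorphism of discrete valuation rings whose fields
of fractions are K ⊆ L, where K has characteristic p, L is separable (geometrically reduced) over K
and B is a Nagata ring. Let K ⊆ K₁ ⊆ K₂ be finite extensions such that K₂ is a solution for A ⊆ B
and K₂/K₁ is purely inseparable of degree p. Then some finite separable extension K₃/K₁ is also a
solution for A ⊆ B. -/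
theorem result (p : ℕ) (hp : p.Prime) (A B K L : Type u)
    [CommRing A] [IsDomain A] [IsDiscreteValuationRing A] [CommRing B] [IsDomain B] [IsDiscreteValuationRing B]
    [Algebra A B] (hinj : Function.Injective (algebraMap A B)) [IsLocalHom (algebraMap A B)]
    [Field K] [Field L] [Algebra A K] [IsFractionRing A K] [Algebra B L] [IsFractionRing B L]
    [Algebra K L] [Algebra A L] [IsScalarTower A K L] [IsScalarTower A B L] [CharP K p]
    [Algebra.IsGeometricallyReduced K L] (hB : CAlg.IsNagata B)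
    (K₁ K₂ : Type u) [Field K₁] [Field K₂] [Algebra K K₁] [Algebra K K₂] [Algebra K₁ K₂] [IsScalarTower K K₁ K₂]
    [FiniteDimensional K K₁] [FiniteDimensional K₁ K₂] (hsol : EtRam.IsSolution B K L K₂)
    [IsPurelyInseparable K₁ K₂] (hdeg : Module.finrank K₁ K₂ = p) :
    ∃ (K₃ : Type u) (_ : Field K₃) (_ : Algebra K K₃) (_ : Algebra K₁ K₃) (_ : IsScalarTower K K₁ K₃),
      FiniteDimensional K₁ K₃ ∧ Algebra.IsSeparable K₁ K₃ ∧ EtRam.IsSolution B K L K₃ := by
  exact main p hp A B K L hinj hB K₁ K₂ hsol hdeg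

end Groth.Agent.S7151
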