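import Groth.Statements.S1986
import Mathlib
import Groth.Agent.S7151
import Groth.Agent.Lib.Helper17.SmoothArtin

set_option autoImplicit false
universe u
open EtAlg

namespace Groth.Agent.S1986

set_option linter.style.haveILetI false
set_option linter.unusedSectionVars false

open IsLocalRing Polynomial IntermediateField

/-- in a nontrivial purely inseparable extension there is an element outside the base whose `p`-th
power lies in the base. -/
theorem exists_pth_root_step (p : ℕ) (hp : p.Prime) (K₁ K₂ : Type u) [Field K₁] [Field K₂]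
    [Algebra K₁ K₂] [CharP K₁ p] [IsPurelyInseparable K₁ K₂]
    (hne : ∃ y : K₂, y ∉ Set.range (algebraMap K₁ K₂)) :
    ∃ x : K₂, x ∉ Set.range (algebraMap K₁ K₂) ∧ ∃ c : K₁, x ^ p = algebraMap K₁ K₂ c := by
  classical
  obtain ⟨y, hy⟩ := hne
  haveI : ExpChar K₁ p := ExpChar.prime hp
  have h := IsPurelyInseparable.pow_mem K₁ p y
  have hk := Nat.find_spec h
  have hk0 : Nat.find h ≠ 0 := by
    intro h0
    rw [h0, pow_zero, pow_one] at hk
    exact hy hk
  have hmin := Nat.find_min h (m := Nat.find h - 1) (by omega)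
  refine ⟨y ^ p ^ (Nat.find h - 1), hmin, ?_⟩
  obtain ⟨c, hc⟩ := hk
  refine ⟨c, ?_⟩
  rw [hc, ← pow_mul, ← pow_succ]
  congr 2
  omega

theorem finrank_adjoin_pth_root (p : ℕ) (hp : p.Prime) (K₁ K₂ : Type u) [Field K₁] [Field K₂]
    [Algebra K₁ K₂] [CharP K₁ p] (x : K₂) (hx : x ∉ Set.range (algebraMap K₁ K₂)) (c : K₁)
    (hc : x ^ p = algebraMap K₁ K₂ c) : Module.finrank K₁ K₁⟮x⟯ = p := by
  haveI : Fact p.Prime := ⟨hp⟩
  haveI : CharP K₂ p := charP_of_injective_algebraMap (algebraMap K₁ K₂).injective p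
  have hn : ∀ b : K₁, b ^ p ≠ c := by
    intro b hb
    apply hx
    refine ⟨b, ?_⟩
    have h1 : (x - algebraMap K₁ K₂ b) ^ p = 0 := by
      rw [sub_pow_char, hc, ← hb, map_pow, sub_self]
    have h2 := (pow_eq_zero_iff hp.ne_zero).mp h1
    exact (sub_eq_zero.mp h2).symm
  have hirr : Irreducible (X ^ p - C c : K₁[X]) := X_pow_sub_C_irreducible_of_prime hp hn
  have hroot : aeval x (X ^ p - C c : K₁[X]) = 0 := by
    rw [map_sub, map_pow, aeval_X, aeval_C, hc, sub_self]
  have hmin : X ^ p - C c = minpoly K₁ x :=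
    minpoly.eq_of_irreducible_of_monic hirr hroot (monic_X_pow_sub_C c hp.ne_zero)
  have hint : IsIntegral K₁ x := ⟨X ^ p - C c, monic_X_pow_sub_C c hp.ne_zero, hroot⟩
  rw [adjoin.finrank hint, ← hmin, natDegree_X_pow_sub_C]

theorem chain (p : ℕ) (hp : p.Prime) (A B K L : Type u)
    [CommRing A] [IsDomain A] [IsDiscreteValuationRing A] [CommRing B] [IsDomain B]
    [IsDiscreteValuationRing B]
    [Algebra A B] (hinj : Function.Injective (algebraMap A B)) [IsLocalHom (algebraMap A B)]
    [Field K] [Field L] [Algebra A K] [IsFractionRing A K] [Algebra B L] [IsFractionRing B L]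
    [Algebra K L] [Algebra A L] [IsScalarTower A K L] [IsScalarTower A B L] [CharP K p]
    [Algebra.IsGeometricallyReduced K L] (hB : CAlg.IsNagata B) :
    ∀ n : ℕ, ∀ (K₁ K₂ : Type u) [Field K₁] [Field K₂] [Algebra K K₁] [Algebra K K₂]
      [Algebra K₁ K₂] [IsScalarTower K K₁ K₂] [FiniteDimensional K K₁] [FiniteDimensional K₁ K₂]
      [IsPurelyInseparable K₁ K₂],
      Module.finrank K₁ K₂ = p ^ n → EtRam.IsSolution B K L K₂ →
      ∃ (K₃ : Type u) (_ : Field K₃) (_ : Algebra K K₃) (_ : Algebra K₁ K₃)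
        (_ : IsScalarTower K K₁ K₃),
        FiniteDimensional K₁ K₃ ∧ Algebra.IsSeparable K₁ K₃ ∧ EtRam.IsSolution B K L K₃ := by
  intro n
  induction n with
  | zero =>
    intro K₁ K₂ _ _ _ _ _ _ _ _ _ hdeg hsol
    rw [pow_zero] at hdeg
    refine ⟨K₂, inferInstance, inferInstance, inferInstance, inferInstance, inferInstance, ?_,
      hsol⟩
    have hbt : (⊥ : Subalgebra K₁ K₂) = ⊤ := Subalgebra.bot_eq_top_of_finrank_eq_one hdeg
    rw [Algebra.isSeparable_def]
    intro y
    have hy : y ∈ (⊥ : Subalgebra K₁ K₂) := by rw [hbt]; exact Algebra.mem_top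
    obtain ⟨k, rfl⟩ := Algebra.mem_bot.mp hy
    exact isSeparable_algebraMap k
  | succ n ih =>
    intro K₁ K₂ _ _ _ _ _ _ _ _ _ hdeg hsol
    haveI : Fact p.Prime := ⟨hp⟩
    haveI : CharP K₁ p := charP_of_injective_algebraMap (algebraMap K K₁).injective p
    have hne : ∃ y : K₂, y ∉ Set.range (algebraMap K₁ K₂) := by
      by_contra hcon
      push Not at hcon
      have h1 : Module.finrank K₁ K₂ = 1 := by
        rw [finrank_eq_one_iff_of_nonzero' (1 : K₂) one_ne_zero]
        intro w
        obtain ⟨c, hc⟩ := hcon w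
        exact ⟨c, by rw [← hc, Algebra.algebraMap_eq_smul_one]⟩
      rw [hdeg] at h1
      have h2 : 1 < p ^ (n + 1) := Nat.one_lt_pow (Nat.succ_ne_zero n) hp.one_lt
      omega
    obtain ⟨x, hxn, c, hxc⟩ := exists_pth_root_step p hp K₁ K₂ hne
    have hfr : Module.finrank K₁ K₁⟮x⟯ = p := finrank_adjoin_pth_root p hp K₁ K₂ x hxn c hxc
    haveI : IsPurelyInseparable K₁⟮x⟯ K₂ := IsPurelyInseparable.tower_top K₁ K₁⟮x⟯ K₂
    haveI : IsPurelyInseparable K₁ K₁⟮x⟯ := IsPurelyInseparable.tower_bot K₁ K₁⟮x⟯ K₂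
    have hfr' : Module.finrank K₁⟮x⟯ K₂ = p ^ n := by
      have h1 := Module.finrank_mul_finrank K₁ K₁⟮x⟯ K₂
      rw [hfr, hdeg, pow_succ'] at h1
      exact Nat.eq_of_mul_eq_mul_left hp.pos h1
    haveI : FiniteDimensional K K₁⟮x⟯ := Module.Finite.trans K₁ K₁⟮x⟯
    haveI : IsScalarTower K K₁⟮x⟯ K₂ := IsScalarTower.of_algebraMap_eq (fun _ => rfl)
    obtain ⟨K₃', iF, iA, iA', iT, hfin₃', hsep₃', hsol₃'⟩ := ih K₁⟮x⟯ K₂ hfr' hsol
    -- the swap
    letI algK₁K₃' : Algebra K₁ K₃' :=
      ((algebraMap K₁⟮x⟯ K₃').comp (algebraMap K₁ K₁⟮x⟯)).toAlgebra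
    haveI : IsScalarTower K₁ K₁⟮x⟯ K₃' := IsScalarTower.of_algebraMap_eq (fun _ => rfl)
    haveI : IsScalarTower K K₁ K₃' := IsScalarTower.of_algebraMap_eq (fun k => by
      show algebraMap K K₃' k = algebraMap K₁⟮x⟯ K₃' (algebraMap K₁ K₁⟮x⟯ (algebraMap K K₁ k))
      rw [← IsScalarTower.algebraMap_apply K K₁ K₁⟮x⟯,
        ← IsScalarTower.algebraMap_apply K K₁⟮x⟯ K₃'])
    haveI : FiniteDimensional K₁ K₃' := Module.Finite.trans K₁⟮x⟯ K₃'
    haveI : Algebra.IsAlgebraic K₁ K₃' := Algebra.IsAlgebraic.of_finite K₁ K₃'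
    haveI : IsPurelyInseparable (separableClosure K₁ K₃') K₃' :=
      separableClosure.isPurelyInseparable K₁ K₃'
    have hfrE : Module.finrank (separableClosure K₁ K₃') K₃' = p := by
      have h1 := Field.finInsepDegree_mul_finInsepDegree_of_isAlgebraic K₁ K₁⟮x⟯ K₃'
      rw [IsPurelyInseparable.finInsepDegree_eq, hfr, Algebra.IsSeparable.finInsepDegree_eq,
        mul_one] at h1
      exact h1.symm
    haveI : FiniteDimensional K (separableClosure K₁ K₃') :=
      Module.Finite.trans K₁ (separableClosure K₁ K₃')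
    haveI : IsScalarTower K (separableClosure K₁ K₃') K₃' :=
      IsScalarTower.of_algebraMap_eq (fun _ => rfl)
    obtain ⟨K₃, jF, jA, jA', jT, hfin₃, hsep₃, hsol₃⟩ :=
      Groth.Agent.S7151.result p hp A B K L hinj hB (separableClosure K₁ K₃') K₃' hsol₃' hfrE
    letI algK₁K₃ : Algebra K₁ K₃ :=
      ((algebraMap (separableClosure K₁ K₃') K₃).comp
        (algebraMap K₁ (separableClosure K₁ K₃'))).toAlgebra
    haveI : IsScalarTower K₁ (separableClosure K₁ K₃') K₃ :=
      IsScalarTower.of_algebraMap_eq (fun _ => rfl)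
    haveI : IsScalarTower K K₁ K₃ := IsScalarTower.of_algebraMap_eq (fun k => by
      show algebraMap K K₃ k = algebraMap (separableClosure K₁ K₃') K₃
        (algebraMap K₁ (separableClosure K₁ K₃') (algebraMap K K₁ k))
      rw [← IsScalarTower.algebraMap_apply K K₁ (separableClosure K₁ K₃'),
        ← IsScalarTower.algebraMap_apply K (separableClosure K₁ K₃') K₃])
    haveI : Algebra.IsSeparable K₁ (separableClosure K₁ K₃') :=
      separableClosure.isSeparable K₁ K₃'
    refine ⟨K₃, jF, jA, algK₁K₃, inferInstance, ?_, ?_, hsol₃⟩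
    · exact Module.Finite.trans (separableClosure K₁ K₃') K₃
    · exact Algebra.IsSeparable.trans K₁ (separableClosure K₁ K₃') K₃

theorem main (A B K L : Type u) [CommRing A] [IsDomain A] [IsDiscreteValuationRing A]
    [CommRing B] [IsDomain B] [IsDiscreteValuationRing B] [Algebra A B]
    [IsLocalHom (algebraMap A B)]
    (hinj : Function.Injective (algebraMap A B))
    [Field K] [Field L] [Algebra A K] [IsFractionRing A K] [Algebra B L] [IsFractionRing B L]
    [Algebra K L] [Algebra A L] [IsScalarTower A K L] [IsScalarTower A B L]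
    [Algebra.IsSeparable K L] (hB : CAlg.IsNagata B)
    (K₂ : Type u) [Field K₂] [Algebra K K₂] [FiniteDimensional K K₂]
    (h₂ : EtRam.IsSolution B K L K₂) :
    ∃ (K₃ : Type u) (_ : Field K₃) (_ : Algebra K K₃) (_ : FiniteDimensional K K₃)
      (_ : Algebra.IsSeparable K K₃), EtRam.IsSolution B K L K₃ := by
  haveI : Algebra.FormallyEtale K L := Algebra.FormallyEtale.of_isSeparable K L
  haveI : Algebra.IsGeometricallyReduced K L :=
    Groth.Agent.Lib.helper17.SmoothArtin.isGeometricallyReduced_of_formallySmooth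
  obtain ⟨q, hq⟩ := ExpChar.exists K
  cases hq with
  | zero =>
    exact ⟨K₂, inferInstance, inferInstance, inferInstance, inferInstance, h₂⟩
  | prime hq' =>
    haveI : ExpChar K q := ExpChar.prime hq'
    haveI : Algebra.IsAlgebraic K K₂ := Algebra.IsAlgebraic.of_finite K K₂
    haveI : IsPurelyInseparable (separableClosure K K₂) K₂ :=
      separableClosure.isPurelyInseparable K K₂
    obtain ⟨n, hn⟩ := finInsepDegree_eq_pow K K₂ q
    obtain ⟨K₃, jF, jA, jA', jT, hfin₃, hsep₃, hsol₃⟩ :=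
      chain q hq' A B K L hinj hB n (separableClosure K K₂) K₂ hn h₂
    haveI : Algebra.IsSeparable K (separableClosure K K₂) := separableClosure.isSeparable K K₂
    exact ⟨K₃, jF, jA, Module.Finite.trans (separableClosure K K₂) K₃,
      Algebra.IsSeparable.trans K (separableClosure K K₂) K₃, hsol₃⟩



/-- Let A -> B be an extension of discrete valuation rings with separable extension of fraction fields
L/K and B a Nagata ring. If some finite extension of K is a solution for A -> B, then some finite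
separable extension of K is a solution as well. -/
theorem result (A B K L : Type u) [CommRing A] [IsDomain A] [IsDiscreteValuationRing A]
    [CommRing B] [IsDomain B] [IsDiscreteValuationRing B] [Algebra A B] [IsLocalHom (algebraMap A B)]
    (hinj : Function.Injective (algebraMap A B))
    [Field K] [Field L] [Algebra A K] [IsFractionRing A K] [Algebra B L] [IsFractionRing B L]
    [Algebra K L] [Algebra A L] [IsScalarTower A K L] [IsScalarTower A B L] [Algebra.IsSeparable K L] (hB : CAlg.IsNagata B)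
    (K₂ : Type u) [Field K₂] [Algebra K K₂] [FiniteDimensional K K₂] (h₂ : EtRam.IsSolution B K L K₂) :
    ∃ (K₃ : Type u) (_ : Field K₃) (_ : Algebra K K₃) (_ : FiniteDimensional K K₃) (_ : Algebra.IsSeparable K K₃),
      EtRam.IsSolution B K L K₃ := by
  exact main A B K L hinj hB K₂ h₂

end Groth.Agent.S1986
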