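import Groth.Statements.S19864
import Mathlib
import Groth.Agent.S2038
import Groth.Agent.Lib.Helper24.RegHomLoc

set_option autoImplicit false
set_option linter.style.haveILetI false
universe u
open CAlg
open scoped TensorProduct

namespace Groth.Agent.S19864

/-- Let A and B be Noetherian rings and B an A-algebra. Then A → B is a regular homomorphism (flat with
Noetherian, geometrically regular fibres) if and only if for every prime q of B lying over the prime
p of A the induced local homomorphism A_p → B_q is formally smooth for the adic topologies of the
maximal ideals (equivalently, for the adic topology of the maximal ideal of B_q). -/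
theorem result (A B : Type u)
    [CommRing A] [CommRing B] [Algebra A B] [IsNoetherianRing A] [IsNoetherianRing B] :
    CAlg.IsRegularHom A B ↔
      ∀ (q : Ideal B) [q.IsPrime],
        letI := (Localization.localRingHom (Ideal.comap (algebraMap A B) q) q (algebraMap A B) rfl).toAlgebra
        CAlgX.IsAdicFormallySmooth (Localization.AtPrime (Ideal.comap (algebraMap A B) q))
          (Localization.AtPrime q) (IsLocalRing.maximalIdeal (Localization.AtPrime q)) := by
  classical
  constructor
  · intro h q _
    letI : Algebra (Localization.AtPrime (q.comap (algebraMap A B))) (Localization.AtPrime q) :=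
      (Localization.localRingHom (q.comap (algebraMap A B)) q (algebraMap A B) rfl).toAlgebra
    haveI : IsLocalHom (algebraMap (Localization.AtPrime (q.comap (algebraMap A B)))
        (Localization.AtPrime q)) := by
      rw [RingHom.algebraMap_toAlgebra]
      infer_instance
    obtain ⟨hflat, hfib⟩ := Groth.Agent.Lib.Helper24.RegHomLoc.isRegularHom_localization A B h q
    exact (Groth.Agent.S2038.result).1 ⟨hflat, (hfib (IsLocalRing.maximalIdeal _)).2⟩
  · intro h
    have key : ∀ (q : Ideal B) [q.IsPrime],
        letI := (Localization.localRingHom (Ideal.comap (algebraMap A B) q) q (algebraMap A B)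
          rfl).toAlgebra
        Module.Flat (Localization.AtPrime (Ideal.comap (algebraMap A B) q))
          (Localization.AtPrime q) ∧
        CAlg.IsGeometricallyRegular
          (IsLocalRing.maximalIdeal
            (Localization.AtPrime (Ideal.comap (algebraMap A B) q))).ResidueField
          ((IsLocalRing.maximalIdeal
            (Localization.AtPrime (Ideal.comap (algebraMap A B) q))).Fiber
              (Localization.AtPrime q)) := by
      intro q _
      letI : Algebra (Localization.AtPrime (q.comap (algebraMap A B))) (Localization.AtPrime q) :=
        (Localization.localRingHom (q.comap (algebraMap A B)) q (algebraMap A B) rfl).toAlgebra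
      haveI : IsLocalHom (algebraMap (Localization.AtPrime (q.comap (algebraMap A B)))
          (Localization.AtPrime q)) := by
        rw [RingHom.algebraMap_toAlgebra]
        infer_instance
      exact (Groth.Agent.S2038.result).2 (h q)
    refine ⟨?_, fun p _ =>
      ⟨Groth.Agent.Lib.Helper24.RegHomLoc.isNoetherianRing_fibre A B p, ?_⟩⟩
    · refine Module.flat_of_isLocalized_maximal B B (fun P _ => Localization.AtPrime P)
        (fun P _ => Algebra.linearMap B (Localization.AtPrime P)) ?_
      intro n _
      letI : Algebra (Localization.AtPrime (n.comap (algebraMap A B))) (Localization.AtPrime n) :=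
        (Localization.localRingHom (n.comap (algebraMap A B)) n (algebraMap A B) rfl).toAlgebra
      haveI : IsScalarTower A (Localization.AtPrime (n.comap (algebraMap A B)))
          (Localization.AtPrime n) := IsScalarTower.of_algebraMap_eq (by
        intro x
        rw [RingHom.algebraMap_toAlgebra, Localization.localRingHom_to_map,
          ← IsScalarTower.algebraMap_apply])
      haveI := (key n).1
      exact Module.Flat.trans A (Localization.AtPrime (n.comap (algebraMap A B)))
        (Localization.AtPrime n)
    · intro K _ _ hfin
      letI iRK : Algebra A K :=
        ((algebraMap p.ResidueField K).comp (algebraMap A p.ResidueField)).toAlgebra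
      haveI : IsScalarTower A p.ResidueField K := IsScalarTower.of_algebraMap_eq' rfl
      suffices hT : IsRegularRing (K ⊗[A] B) from
        Groth.Agent.Lib.Helper24.FibLoc.locStable_isRegularRing.iso _ _
          (Algebra.TensorProduct.cancelBaseChange A p.ResidueField K K B).symm.toRingEquiv hT
      haveI : Algebra.EssFiniteType A K := Algebra.EssFiniteType.comp A p.ResidueField K
      haveI hTN : IsNoetherianRing (K ⊗[A] B) := by
        have h1 : IsNoetherianRing (B ⊗[A] K) := Algebra.EssFiniteType.isNoetherianRing B _
        exact isNoetherianRing_of_ringEquiv _ (Algebra.TensorProduct.comm A B K).toRingEquiv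
      rw [isRegularRing_iff]
      intro Q _
      set q0 : Ideal B := Q.comap (Algebra.TensorProduct.includeRight (R := A) (A := K) (B := B))
        with hq0
      haveI hq0p : q0.IsPrime := Ideal.IsPrime.comap _
      letI : Algebra (Localization.AtPrime (q0.comap (algebraMap A B)))
          (Localization.AtPrime q0) :=
        (Localization.localRingHom (q0.comap (algebraMap A B)) q0 (algebraMap A B) rfl).toAlgebra
      haveI : IsScalarTower A (Localization.AtPrime (q0.comap (algebraMap A B)))
          (Localization.AtPrime q0) := IsScalarTower.of_algebraMap_eq (by
        intro x
        rw [RingHom.algebraMap_toAlgebra, Localization.localRingHom_to_map,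
          ← IsScalarTower.algebraMap_apply])
      obtain ⟨-, hgr⟩ := key q0
      have hker : ∀ r ∈ p, algebraMap A K r = 0 := by
        intro r hr
        show algebraMap p.ResidueField K (algebraMap A p.ResidueField r) = 0
        rw [(Ideal.algebraMap_residueField_eq_zero (I := p)).2 hr, map_zero]
      have hincl : ∀ r : A,
          Algebra.TensorProduct.includeRight (R := A) (A := K) (B := B) (algebraMap A B r) =
          algebraMap A K r ⊗ₜ[A] (1 : B) := by
        intro r
        rw [Algebra.TensorProduct.includeRight_apply, Algebra.algebraMap_eq_smul_one,
          Algebra.algebraMap_eq_smul_one, TensorProduct.smul_tmul]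
      have hpq : q0.comap (algebraMap A B) = p := by
        apply le_antisymm
        · intro r hr
          by_contra hrp
          rw [Ideal.mem_comap, hq0, Ideal.mem_comap, hincl] at hr
          have hne : algebraMap A K r ≠ 0 := by
            show algebraMap p.ResidueField K (algebraMap A p.ResidueField r) ≠ 0
            rw [Ne, map_eq_zero_iff _ (algebraMap p.ResidueField K).injective,
              Ideal.algebraMap_residueField_eq_zero]
            exact hrp
          have hunit : IsUnit (algebraMap A K r ⊗ₜ[A] (1 : B)) :=
            (hne.isUnit).map (Algebra.TensorProduct.includeLeft (R := A) (S := A) (A := K) (B := B))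
          exact (Ideal.IsPrime.ne_top inferInstance) (Ideal.eq_top_of_isUnit_mem Q hr hunit)
        · intro r hr
          rw [Ideal.mem_comap, hq0, Ideal.mem_comap, hincl, hker r hr, TensorProduct.zero_tmul]
          exact Q.zero_mem
      have hpp : (IsLocalRing.maximalIdeal
          (Localization.AtPrime (q0.comap (algebraMap A B)))).comap
          (algebraMap A (Localization.AtPrime (q0.comap (algebraMap A B)))) = p := by
        have h7 := IsLocalization.AtPrime.under_maximalIdeal
          (Localization.AtPrime (q0.comap (algebraMap A B))) (q0.comap (algebraMap A B))
        exact h7.trans hpq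
      obtain ⟨inst, hfin', htr⟩ := Groth.Agent.Lib.Helper24.RegHomLoc.untransfer A
        (q0.comap (algebraMap A B)).primeCompl
        (Localization.AtPrime (q0.comap (algebraMap A B))) (Localization.AtPrime q0)
        Groth.Agent.Lib.Helper24.FibLoc.locStable_isRegularRing
        (IsLocalRing.maximalIdeal (Localization.AtPrime (q0.comap (algebraMap A B)))) p hpp K
      haveI hreg : IsRegularRing (K ⊗[A] Localization.AtPrime q0) :=
        htr (hgr K (hfin' hfin))
      refine Groth.Agent.Lib.Helper24.RegHomLoc.regular_at_tensor A B q0.primeCompl
        (Localization.AtPrime q0) K Q ?_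
      intro s hs hsQ
      exact hs hsQ

end Groth.Agent.S19864
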