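import Groth.Statements.S19868
import Mathlib
import Groth.Agent.Lib.Helper13.Jac3
-- import your own Groth.Agent.* helpers here

set_option autoImplicit false
set_option linter.unusedSimpArgs false
set_option linter.unusedTactic false
set_option linter.unreachableTactic false
set_option linter.unusedSectionVars false
set_option linter.unusedVariables false
set_option linter.unnecessarySeqFocus false
universe u v
open PLie

namespace Groth.Agent.S19868

section Aux
open DualNumber

variable {K : Type u} [Field K] {L : Type v} [LieRing L] [LieAlgebra (DualNumber K) L]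
  (bs : Module.Basis (Fin 3) (DualNumber K) L)

/-- equality in `L` can be checked on the `K`-coordinates -/
theorem coord_eq {u v : L}
    (h : ∀ j : Fin 3, (TrivSqZeroExt.fst (bs.repr u j) = TrivSqZeroExt.fst (bs.repr v j)) ∧
      (TrivSqZeroExt.snd (bs.repr u j) = TrivSqZeroExt.snd (bs.repr v j))) : u = v := by
  apply bs.repr.injective
  ext j
  · exact (h j).1
  · exact (h j).2

theorem lin_ext {F G : L →ₗ[DualNumber K] L} (h0 : F (bs 0) = G (bs 0)) (h1 : F (bs 1) = G (bs 1))
    (h2 : F (bs 2) = G (bs 2)) : F = G := by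
  refine bs.ext fun j => ?_
  fin_cases j
  · exact h0
  · exact h1
  · exact h2

variable (a b c d e f g h i : K)
  (hxy : ⁅bs 0, bs 1⁆ = (a • ε : DualNumber K) • bs 0 + (b • ε : DualNumber K) • bs 1 + (c • ε : DualNumber K) • bs 2)
  (hxz : ⁅bs 0, bs 2⁆ = (d • ε : DualNumber K) • bs 0 + (e • ε : DualNumber K) • bs 1 + (f • ε : DualNumber K) • bs 2)
  (hyz : ⁅bs 1, bs 2⁆ = (1 + g • ε : DualNumber K) • bs 0 + (h • ε : DualNumber K) • bs 1 + (i • ε : DualNumber K) • bs 2)

include hxy in
theorem hyx : ⁅bs 1, bs 0⁆ = -((a • ε : DualNumber K) • bs 0 + (b • ε : DualNumber K) • bs 1 + (c • ε : DualNumber K) • bs 2) := by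
  rw [← lie_skew, hxy]

include hxz in
theorem hzx : ⁅bs 2, bs 0⁆ = -((d • ε : DualNumber K) • bs 0 + (e • ε : DualNumber K) • bs 1 + (f • ε : DualNumber K) • bs 2) := by
  rw [← lie_skew, hxz]

include hyz in
theorem hzy : ⁅bs 2, bs 1⁆ = -((1 + g • ε : DualNumber K) • bs 0 + (h • ε : DualNumber K) • bs 1 + (i • ε : DualNumber K) • bs 2) := by
  rw [← lie_skew, hyz]

include hxy hxz hyz

/-- the Jacobi identity forces `b + f = 0` -/
theorem b_add_f : b + f = 0 := by
  have hJ := lie_jacobi (bs 0) (bs 1) (bs 2)
  rw [hyz, hzx bs d e f hxz, hxy] at hJ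
  simp only [lie_add, lie_smul, lie_neg, lie_self, hxy, hxz, hyz, hyx bs a b c hxy,
    hzx bs d e f hxz, hzy bs g h i hyz] at hJ
  have h1 := congrArg (fun u => TrivSqZeroExt.snd (bs.repr u 0)) hJ
  simp at h1
  linear_combination -h1

theorem adX_sq : LieAlgebra.ad (DualNumber K) L (bs 0) ^ (1 + 1) = 0 := by
  apply lin_ext bs
  ·
    simp only [pow_succ, pow_zero, one_mul, Module.End.mul_apply, LieAlgebra.ad_apply,
      LinearMap.zero_apply, map_smul, map_neg, LinearMap.smul_apply, LinearMap.neg_apply, smul_lie,
      neg_lie, lie_add, lie_smul, lie_neg, lie_self, lie_zero, smul_zero, neg_zero, hxy, hxz, hyz,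
      hyx bs a b c hxy, hzx bs d e f hxz, hzy bs g h i hyz]
    try (apply coord_eq bs; intro j; fin_cases j <;> simp <;> ring)
  ·
    simp only [pow_succ, pow_zero, one_mul, Module.End.mul_apply, LieAlgebra.ad_apply,
      LinearMap.zero_apply, map_smul, map_neg, LinearMap.smul_apply, LinearMap.neg_apply, smul_lie,
      neg_lie, lie_add, lie_smul, lie_neg, lie_self, lie_zero, smul_zero, neg_zero, hxy, hxz, hyz,
      hyx bs a b c hxy, hzx bs d e f hxz, hzy bs g h i hyz]
    try (apply coord_eq bs; intro j; fin_cases j <;> simp <;> ring)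
  ·
    simp only [pow_succ, pow_zero, one_mul, Module.End.mul_apply, LieAlgebra.ad_apply,
      LinearMap.zero_apply, map_smul, map_neg, LinearMap.smul_apply, LinearMap.neg_apply, smul_lie,
      neg_lie, lie_add, lie_smul, lie_neg, lie_self, lie_zero, smul_zero, neg_zero, hxy, hxz, hyz,
      hyx bs a b c hxy, hzx bs d e f hxz, hzy bs g h i hyz]
    try (apply coord_eq bs; intro j; fin_cases j <;> simp <;> ring)

theorem adY_cube : LieAlgebra.ad (DualNumber K) L (bs 1) ^ (1 + 1 + 1) =
      LieAlgebra.ad (DualNumber K) L (-((c • ε : DualNumber K) • bs 1)) := by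
  apply lin_ext bs
  ·
    simp only [pow_succ, pow_zero, one_mul, Module.End.mul_apply, LieAlgebra.ad_apply,
      LinearMap.zero_apply, map_smul, map_neg, LinearMap.smul_apply, LinearMap.neg_apply, smul_lie,
      neg_lie, lie_add, lie_smul, lie_neg, lie_self, lie_zero, smul_zero, neg_zero, hxy, hxz, hyz,
      hyx bs a b c hxy, hzx bs d e f hxz, hzy bs g h i hyz]
    try (apply coord_eq bs; intro j; fin_cases j <;> simp <;> ring)
  ·
    simp only [pow_succ, pow_zero, one_mul, Module.End.mul_apply, LieAlgebra.ad_apply,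
      LinearMap.zero_apply, map_smul, map_neg, LinearMap.smul_apply, LinearMap.neg_apply, smul_lie,
      neg_lie, lie_add, lie_smul, lie_neg, lie_self, lie_zero, smul_zero, neg_zero, hxy, hxz, hyz,
      hyx bs a b c hxy, hzx bs d e f hxz, hzy bs g h i hyz]
    try (apply coord_eq bs; intro j; fin_cases j <;> simp <;> ring)
  ·
    simp only [pow_succ, pow_zero, one_mul, Module.End.mul_apply, LieAlgebra.ad_apply,
      LinearMap.zero_apply, map_smul, map_neg, LinearMap.smul_apply, LinearMap.neg_apply, smul_lie,
      neg_lie, lie_add, lie_smul, lie_neg, lie_self, lie_zero, smul_zero, neg_zero, hxy, hxz, hyz,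
      hyx bs a b c hxy, hzx bs d e f hxz, hzy bs g h i hyz]
    try (apply coord_eq bs; intro j; fin_cases j <;> simp <;> ring)

theorem adZ_cube : LieAlgebra.ad (DualNumber K) L (bs 2) ^ (1 + 1 + 1) =
      LieAlgebra.ad (DualNumber K) L ((e • ε : DualNumber K) • bs 2) := by
  apply lin_ext bs
  ·
    simp only [pow_succ, pow_zero, one_mul, Module.End.mul_apply, LieAlgebra.ad_apply,
      LinearMap.zero_apply, map_smul, map_neg, LinearMap.smul_apply, LinearMap.neg_apply, smul_lie,
      neg_lie, lie_add, lie_smul, lie_neg, lie_self, lie_zero, smul_zero, neg_zero, hxy, hxz, hyz,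
      hyx bs a b c hxy, hzx bs d e f hxz, hzy bs g h i hyz]
    try (apply coord_eq bs; intro j; fin_cases j <;> simp <;> ring)
  ·
    simp only [pow_succ, pow_zero, one_mul, Module.End.mul_apply, LieAlgebra.ad_apply,
      LinearMap.zero_apply, map_smul, map_neg, LinearMap.smul_apply, LinearMap.neg_apply, smul_lie,
      neg_lie, lie_add, lie_smul, lie_neg, lie_self, lie_zero, smul_zero, neg_zero, hxy, hxz, hyz,
      hyx bs a b c hxy, hzx bs d e f hxz, hzy bs g h i hyz]
    try (apply coord_eq bs; intro j; fin_cases j <;> simp <;> ring)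
  ·
    simp only [pow_succ, pow_zero, one_mul, Module.End.mul_apply, LieAlgebra.ad_apply,
      LinearMap.zero_apply, map_smul, map_neg, LinearMap.smul_apply, LinearMap.neg_apply, smul_lie,
      neg_lie, lie_add, lie_smul, lie_neg, lie_self, lie_zero, smul_zero, neg_zero, hxy, hxz, hyz,
      hyx bs a b c hxy, hzx bs d e f hxz, hzy bs g h i hyz]
    try (apply coord_eq bs; intro j; fin_cases j <;> simp <;> ring)

theorem adY_four : LieAlgebra.ad (DualNumber K) L (bs 1) ^ (1 + 1 + 1 + 1) = 0 := by
  rw [pow_succ _ (1 + 1 + 1), adY_cube bs a b c d e f g h i hxy hxz hyz]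
  apply lin_ext bs
  ·
    simp only [pow_succ, pow_zero, one_mul, Module.End.mul_apply, LieAlgebra.ad_apply,
      LinearMap.zero_apply, map_smul, map_neg, LinearMap.smul_apply, LinearMap.neg_apply, smul_lie,
      neg_lie, lie_add, lie_smul, lie_neg, lie_self, lie_zero, smul_zero, neg_zero, hxy, hxz, hyz,
      hyx bs a b c hxy, hzx bs d e f hxz, hzy bs g h i hyz]
    try (apply coord_eq bs; intro j; fin_cases j <;> simp <;> ring)
  ·
    simp only [pow_succ, pow_zero, one_mul, Module.End.mul_apply, LieAlgebra.ad_apply,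
      LinearMap.zero_apply, map_smul, map_neg, LinearMap.smul_apply, LinearMap.neg_apply, smul_lie,
      neg_lie, lie_add, lie_smul, lie_neg, lie_self, lie_zero, smul_zero, neg_zero, hxy, hxz, hyz,
      hyx bs a b c hxy, hzx bs d e f hxz, hzy bs g h i hyz]
    try (apply coord_eq bs; intro j; fin_cases j <;> simp <;> ring)
  ·
    simp only [pow_succ, pow_zero, one_mul, Module.End.mul_apply, LieAlgebra.ad_apply,
      LinearMap.zero_apply, map_smul, map_neg, LinearMap.smul_apply, LinearMap.neg_apply, smul_lie,
      neg_lie, lie_add, lie_smul, lie_neg, lie_self, lie_zero, smul_zero, neg_zero, hxy, hxz, hyz,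
      hyx bs a b c hxy, hzx bs d e f hxz, hzy bs g h i hyz]
    try (apply coord_eq bs; intro j; fin_cases j <;> simp <;> ring)

theorem adZ_four : LieAlgebra.ad (DualNumber K) L (bs 2) ^ (1 + 1 + 1 + 1) = 0 := by
  rw [pow_succ _ (1 + 1 + 1), adZ_cube bs a b c d e f g h i hxy hxz hyz]
  apply lin_ext bs
  ·
    simp only [pow_succ, pow_zero, one_mul, Module.End.mul_apply, LieAlgebra.ad_apply,
      LinearMap.zero_apply, map_smul, map_neg, LinearMap.smul_apply, LinearMap.neg_apply, smul_lie,
      neg_lie, lie_add, lie_smul, lie_neg, lie_self, lie_zero, smul_zero, neg_zero, hxy, hxz, hyz,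
      hyx bs a b c hxy, hzx bs d e f hxz, hzy bs g h i hyz]
    try (apply coord_eq bs; intro j; fin_cases j <;> simp <;> ring)
  ·
    simp only [pow_succ, pow_zero, one_mul, Module.End.mul_apply, LieAlgebra.ad_apply,
      LinearMap.zero_apply, map_smul, map_neg, LinearMap.smul_apply, LinearMap.neg_apply, smul_lie,
      neg_lie, lie_add, lie_smul, lie_neg, lie_self, lie_zero, smul_zero, neg_zero, hxy, hxz, hyz,
      hyx bs a b c hxy, hzx bs d e f hxz, hzy bs g h i hyz]
    try (apply coord_eq bs; intro j; fin_cases j <;> simp <;> ring)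
  ·
    simp only [pow_succ, pow_zero, one_mul, Module.End.mul_apply, LieAlgebra.ad_apply,
      LinearMap.zero_apply, map_smul, map_neg, LinearMap.smul_apply, LinearMap.neg_apply, smul_lie,
      neg_lie, lie_add, lie_smul, lie_neg, lie_self, lie_zero, smul_zero, neg_zero, hxy, hxz, hyz,
      hyx bs a b c hxy, hzx bs d e f hxz, hzy bs g h i hyz]
    try (apply coord_eq bs; intro j; fin_cases j <;> simp <;> ring)

theorem adY_sq : b = 0 → c = 0 → LieAlgebra.ad (DualNumber K) L (bs 1) ^ (1 + 1) =
      LieAlgebra.ad (DualNumber K) L (((i - a) • ε : DualNumber K) • bs 1) := by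
  intro hb hc
  apply lin_ext bs
  ·
    simp only [pow_succ, pow_zero, one_mul, Module.End.mul_apply, LieAlgebra.ad_apply,
      LinearMap.zero_apply, map_smul, map_neg, LinearMap.smul_apply, LinearMap.neg_apply, smul_lie,
      neg_lie, lie_add, lie_smul, lie_neg, lie_self, lie_zero, smul_zero, neg_zero, hxy, hxz, hyz,
      hyx bs a b c hxy, hzx bs d e f hxz, hzy bs g h i hyz]
    try (apply coord_eq bs; intro j; fin_cases j <;> simp [hb, hc] <;> ring)
  ·
    simp only [pow_succ, pow_zero, one_mul, Module.End.mul_apply, LieAlgebra.ad_apply,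
      LinearMap.zero_apply, map_smul, map_neg, LinearMap.smul_apply, LinearMap.neg_apply, smul_lie,
      neg_lie, lie_add, lie_smul, lie_neg, lie_self, lie_zero, smul_zero, neg_zero, hxy, hxz, hyz,
      hyx bs a b c hxy, hzx bs d e f hxz, hzy bs g h i hyz]
    try (apply coord_eq bs; intro j; fin_cases j <;> simp [hb, hc] <;> ring)
  ·
    simp only [pow_succ, pow_zero, one_mul, Module.End.mul_apply, LieAlgebra.ad_apply,
      LinearMap.zero_apply, map_smul, map_neg, LinearMap.smul_apply, LinearMap.neg_apply, smul_lie,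
      neg_lie, lie_add, lie_smul, lie_neg, lie_self, lie_zero, smul_zero, neg_zero, hxy, hxz, hyz,
      hyx bs a b c hxy, hzx bs d e f hxz, hzy bs g h i hyz]
    try (apply coord_eq bs; intro j; fin_cases j <;> simp [hb, hc] <;> ring)

theorem adZ_sq : e = 0 → f = 0 → LieAlgebra.ad (DualNumber K) L (bs 2) ^ (1 + 1) =
      LieAlgebra.ad (DualNumber K) L ((-(h + d) • ε : DualNumber K) • bs 2) := by
  intro he hf
  apply lin_ext bs
  ·
    simp only [pow_succ, pow_zero, one_mul, Module.End.mul_apply, LieAlgebra.ad_apply,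
      LinearMap.zero_apply, map_smul, map_neg, LinearMap.smul_apply, LinearMap.neg_apply, smul_lie,
      neg_lie, lie_add, lie_smul, lie_neg, lie_self, lie_zero, smul_zero, neg_zero, hxy, hxz, hyz,
      hyx bs a b c hxy, hzx bs d e f hxz, hzy bs g h i hyz]
    try (apply coord_eq bs; intro j; fin_cases j <;> simp [he, hf] <;> ring)
  ·
    simp only [pow_succ, pow_zero, one_mul, Module.End.mul_apply, LieAlgebra.ad_apply,
      LinearMap.zero_apply, map_smul, map_neg, LinearMap.smul_apply, LinearMap.neg_apply, smul_lie,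
      neg_lie, lie_add, lie_smul, lie_neg, lie_self, lie_zero, smul_zero, neg_zero, hxy, hxz, hyz,
      hyx bs a b c hxy, hzx bs d e f hxz, hzy bs g h i hyz]
    try (apply coord_eq bs; intro j; fin_cases j <;> simp [he, hf] <;> ring)
  ·
    simp only [pow_succ, pow_zero, one_mul, Module.End.mul_apply, LieAlgebra.ad_apply,
      LinearMap.zero_apply, map_smul, map_neg, LinearMap.smul_apply, LinearMap.neg_apply, smul_lie,
      neg_lie, lie_add, lie_smul, lie_neg, lie_self, lie_zero, smul_zero, neg_zero, hxy, hxz, hyz,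
      hyx bs a b c hxy, hzx bs d e f hxz, hzy bs g h i hyz]
    try (apply coord_eq bs; intro j; fin_cases j <;> simp [he, hf] <;> ring)

end Aux

end Groth.Agent.S19868

namespace Groth.Agent.S19868

open DualNumber in
/-- Let K be a field of prime characteristic p, K[ε] the ring of dual numbers (taken with its
characteristic-p structure) and a, …, i ∈ K. Let L be a Lie algebra over K[ε], free as a module with
basis x = bs 0, y = bs 1, z = bs 2 and brackets [x,y] = aε x + bε y + cε z, [x,z] = dε x + eε y + fε
z, [y,z] = (1 + gε) x + hε y + iε z, a first-order deformation of the Heisenberg algebra (the Jacobi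
identity forces b + f = 0). Then L carries a p-mapping over K[ε] if and only if b = c = e = 0 when p
= 2; for odd p there is no condition. (The published statement is about the singularity of the point
h_3 in the restrictable locus of the rank-one-centre stratum of the moduli scheme of based
three-dimensional Lie algebras over the prime field; this row states the restrictability criterion
for the first-order deformations of h_3 asserted in its proof, over any field of characteristic p in
place of the prime field.) -/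
theorem result (K : Type u) [Field K] (p : ℕ) [Fact p.Prime] [CharP K p]
    [CharP (DualNumber K) p] (a b c d e f g h i : K)
    (L : Type v) [LieRing L] [LieAlgebra (DualNumber K) L] (bs : Module.Basis (Fin 3) (DualNumber K) L)
    (hxy : ⁅bs 0, bs 1⁆ = (a • ε : DualNumber K) • bs 0 + (b • ε : DualNumber K) • bs 1 + (c • ε : DualNumber K) • bs 2)
    (hxz : ⁅bs 0, bs 2⁆ = (d • ε : DualNumber K) • bs 0 + (e • ε : DualNumber K) • bs 1 + (f • ε : DualNumber K) • bs 2)
    (hyz : ⁅bs 1, bs 2⁆ = (1 + g • ε : DualNumber K) • bs 0 + (h • ε : DualNumber K) • bs 1 + (i • ε : DualNumber K) • bs 2) :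
    Nonempty (PLie.PMap (DualNumber K) p L) ↔ (p = 2 → b = 0 ∧ c = 0 ∧ e = 0) := by
  have hbf : b + f = 0 := b_add_f bs a b c d e f g h i hxy hxz hyz
  constructor
  · rintro ⟨φ⟩ hp2
    subst hp2
    have hY := φ.ad_map (bs 1)
    have hZ := φ.ad_map (bs 2)
    obtain ⟨α, β, γ, hw⟩ : ∃ α β γ : DualNumber K,
        φ.toFun (bs 1) = α • bs 0 + β • bs 1 + γ • bs 2 :=
      ⟨_, _, _, by rw [← Fin.sum_univ_three (fun j => bs.repr _ j • bs j), bs.sum_repr]⟩
    obtain ⟨α', β', γ', hw'⟩ : ∃ α β γ : DualNumber K,
        φ.toFun (bs 2) = α • bs 0 + β • bs 1 + γ • bs 2 :=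
      ⟨_, _, _, by rw [← Fin.sum_univ_three (fun j => bs.repr _ j • bs j), bs.sum_repr]⟩
    have EX := congrArg (fun F => F (bs 0)) hY
    have EY := congrArg (fun F => F (bs 1)) hY
    have EZ := congrArg (fun F => F (bs 2)) hY
    simp only [pow_two, Module.End.mul_apply, LieAlgebra.ad_apply, hw, add_lie, smul_lie,
      lie_add, lie_smul, lie_neg, lie_self, lie_zero, smul_zero, neg_zero, hxy, hxz, hyz,
      hyx bs a b c hxy, hzx bs d e f hxz, hzy bs g h i hyz] at EX EY EZ
    have e1 := congrArg (fun u => TrivSqZeroExt.fst (bs.repr u 0)) EY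
    have e2 := congrArg (fun u => TrivSqZeroExt.snd (bs.repr u 1)) EY
    have e3 := congrArg (fun u => TrivSqZeroExt.fst (bs.repr u 0)) EZ
    have e4 := congrArg (fun u => TrivSqZeroExt.snd (bs.repr u 1)) EZ
    have e5 := congrArg (fun u => TrivSqZeroExt.snd (bs.repr u 0)) EX
    simp at e1 e2 e3 e4 e5
    have hc0 : c = 0 := by
      rw [e1, e3] at e5
      linear_combination e5
    have hb0 : b = 0 := by
      rw [e1] at e2
      rw [e3] at e4
      have hbb : b * b = 0 := by linear_combination (-e) * e2 + b * e4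
      exact mul_self_eq_zero.1 hbb
    have EX' := congrArg (fun F => F (bs 0)) hZ
    have EY' := congrArg (fun F => F (bs 1)) hZ
    have EZ' := congrArg (fun F => F (bs 2)) hZ
    simp only [pow_two, Module.End.mul_apply, LieAlgebra.ad_apply, hw', add_lie, smul_lie,
      lie_add, lie_smul, lie_neg, lie_self, lie_zero, smul_zero, neg_zero, hxy, hxz, hyz,
      hyx bs a b c hxy, hzx bs d e f hxz, hzy bs g h i hyz] at EX' EY' EZ'
    have e1' := congrArg (fun u => TrivSqZeroExt.fst (bs.repr u 0)) EZ'
    have e2' := congrArg (fun u => TrivSqZeroExt.fst (bs.repr u 0)) EY'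
    have e3' := congrArg (fun u => TrivSqZeroExt.snd (bs.repr u 0)) EX'
    simp at e1' e2' e3'
    have he0 : e = 0 := by
      rw [e1', e2'] at e3'
      linear_combination -e3'
    exact ⟨hb0, hc0, he0⟩
  · intro hcond
    have hp := (Fact.out : p.Prime)
    have hX2 := adX_sq bs a b c d e f g h i hxy hxz hyz
    by_cases hp2 : p = 2
    · subst hp2
      obtain ⟨hb0, hc0, he0⟩ := hcond rfl
      have hf0 : f = 0 := by rw [hb0, zero_add] at hbf; exact hbf
      have hY2 := adY_sq bs a b c d e f g h i hxy hxz hyz hb0 hc0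
      have hZ2 := adZ_sq bs a b c d e f g h i hxy hxz hyz he0 hf0
      have hy : ∀ j : Fin 3, LieAlgebra.ad (DualNumber K) L (bs j) ^ 2 =
          LieAlgebra.ad (DualNumber K) L
            ((![0, ((i - a) • ε : DualNumber K) • bs 1, (-(h + d) • ε : DualNumber K) • bs 2] :
              Fin 3 → L) j) := by
        intro j
        fin_cases j
        · change LieAlgebra.ad (DualNumber K) L (bs 0) ^ (1 + 1) = LieAlgebra.ad (DualNumber K) L 0
          rw [hX2, map_zero]
        · exact hY2
        · exact hZ2
      exact ⟨(Groth.Agent.Lib.helper13.Jac.existsUnique_pmap_basis bs 2 _ hy).exists.choose⟩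
    · by_cases hp3 : p = 3
      · subst hp3
        have hY3 := adY_cube bs a b c d e f g h i hxy hxz hyz
        have hZ3 := adZ_cube bs a b c d e f g h i hxy hxz hyz
        have hy : ∀ j : Fin 3, LieAlgebra.ad (DualNumber K) L (bs j) ^ 3 =
            LieAlgebra.ad (DualNumber K) L
              ((![0, -((c • ε : DualNumber K) • bs 1), (e • ε : DualNumber K) • bs 2] :
                Fin 3 → L) j) := by
          intro j
          fin_cases j
          · change LieAlgebra.ad (DualNumber K) L (bs 0) ^ (1 + 1 + 1) =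
              LieAlgebra.ad (DualNumber K) L 0
            rw [pow_succ, hX2, zero_mul, map_zero]
          · exact hY3
          · exact hZ3
        exact ⟨(Groth.Agent.Lib.helper13.Jac.existsUnique_pmap_basis bs 3 _ hy).exists.choose⟩
      · have hp4 : 1 + 1 + 1 + 1 ≤ p := by
          have := hp.two_le
          omega
        have hY4 := adY_four bs a b c d e f g h i hxy hxz hyz
        have hZ4 := adZ_four bs a b c d e f g h i hxy hxz hyz
        have hy : ∀ j : Fin 3, LieAlgebra.ad (DualNumber K) L (bs j) ^ p =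
            LieAlgebra.ad (DualNumber K) L ((fun _ => 0 : Fin 3 → L) j) := by
          intro j
          change _ = LieAlgebra.ad (DualNumber K) L 0
          rw [map_zero]
          fin_cases j
          · exact pow_eq_zero_of_le (by omega) hX2
          · exact pow_eq_zero_of_le hp4 hY4
          · exact pow_eq_zero_of_le hp4 hZ4
        exact ⟨(Groth.Agent.Lib.helper13.Jac.existsUnique_pmap_basis bs p _ hy).exists.choose⟩

end Groth.Agent.S19868
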