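import Groth.Statements.S19881
import Mathlib
import Groth.Agent.Lib.Helper19.GrLin1
import Groth.Agent.Lib.Helper19.GrLin2
import Groth.Agent.Lib.Helper19.GrLin3
import Groth.Agent.Lib.Helper19.CanPoly3

set_option autoImplicit false
universe u
open GrLC

namespace Groth.Agent.S19881

-- MARK


/-- Let R = ⊕_{n ≥ 0} R_n be a (Noetherian) positively ℤ-graded ring which is standard graded
(irrelevant ideal generated by R_1), with R_0 Artinian, *local with unique homogeneous maximal ideal
m, Cohen–Macaulay of Krull dimension d, and with infinite residue field R/m. If the a-invariant of R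
equals −d, i.e. the end (largest nonzero degree) of the graded local cohomology module H^d_m(R),
computed from any *injective resolution of R in the graded category, is −d, then R is a polynomial
ring over R_0 in d variables of degree one: there is an R_0-algebra isomorphism R_0[T_1, …, T_d] ≅ R
mapping every variable into R_1. (The published statement asserts the equivalence of a(R) = −d with
R ≅ R_0[T_1, …, T_d] without the residue-field hypothesis; its argument treats the case of an
infinite residue field, which is the case stated here, and only the forward implication is stated.) -/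
theorem result (R : Type u) [CommRing R]
    [LocCoh.IsCohenMacaulayRing R] (𝒜 : ℤ → AddSubgroup R) [GradedRing 𝒜]
    (hpos : ∀ n : ℤ, n < 0 → 𝒜 n = ⊥)
    (hstd : Ideal.span (⋃ n ∈ Set.Ioi (0 : ℤ), (𝒜 n : Set R)) = Ideal.span ((𝒜 1 : AddSubgroup R) : Set R))
    [IsArtinianRing (GrLC.deg0 𝒜)] (m : HomogeneousIdeal 𝒜) (hm : GrLC.IsStarLocal 𝒜 m)
    (hinf : Infinite (R ⧸ m.toIdeal)) (d : ℕ) (hd : ringKrullDim R = d) (I : GrLC.StarInjRes 𝒜 𝒜)
    (ha : GrLC.endDeg (I.Hgr m d) = (((-(d : ℤ) : ℤ) : WithTop ℤ) : WithBot (WithTop ℤ))) :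
    ∃ e : MvPolynomial (Fin d) (GrLC.deg0 𝒜) ≃ₐ[GrLC.deg0 𝒜] R, ∀ t : Fin d, e (MvPolynomial.X t) ∈ 𝒜 1 := by
  classical
  open Groth.Agent.Lib.helper19.PolyChar Groth.Agent.Lib.helper19.GrFin
    Groth.Agent.Lib.helper19.GrLin in
  have hstd' : irr 𝒜 = Ideal.span ((𝒜 1 : AddSubgroup R) : Set R) := hstd
  have hmax : m.toIdeal.IsMaximal :=
    Groth.Agent.Lib.helper19.StarLocalArt.isMaximal_of_isCoatom 𝒜 hpos m hm.1
  have hhtm : m.toIdeal.height = d := by
    have h1 := Groth.Agent.Lib.helper19.GrHt.ringKrullDim_eq_height 𝒜 hpos m hm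
    rw [hd] at h1
    exact_mod_cast h1.symm
  have hdepth : LocCoh.idealDepth m.toIdeal R = m.toIdeal.height :=
    ((Groth.Agent.Lib.helper26.Depth.isCohenMacaulayRing_iff_idealDepth_eq_height R).1
      inferInstance) m.toIdeal hmax.ne_top
  obtain ⟨rs, hrslen, hrs1, hrsreg⟩ :=
    exists_linear_regular_sequence 𝒜 hpos m hm hstd' hinf d (by rw [hdepth, hhtm]) d le_rfl
  subst hrslen
  have hofFn : List.ofFn (fun i : Fin rs.length => rs.get i) = rs := List.ofFn_get rs
  have hx : ∀ i : Fin rs.length, rs.get i ∈ 𝒜 1 := fun i => hrs1 _ (List.get_mem rs i)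
  have hreg : RingTheory.Sequence.IsWeaklyRegular R (List.ofFn (fun i : Fin rs.length => rs.get i)) := by
    rw [hofFn]; exact hrsreg
  have hspan := irr_eq_span_of_regular 𝒜 hpos m hm hd I ha (fun i : Fin rs.length => rs.get i) hx hreg
  have hsurj := phi_surjective 𝒜 (fun i : Fin rs.length => rs.get i) hpos hx hspan
  have h0 : ∀ c ∈ 𝒜 0, c ∈ Ideal.span (Set.range (fun i : Fin rs.length => rs.get i)) → c = 0 := by
    intro c hc hcJ
    rw [← hspan] at hcJ
    have h1 := Groth.Agent.Lib.helper19.CanPoly.decompose_zero_of_mem_pos 𝒜 hpos hcJ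
    rw [DirectSum.decompose_of_mem_same 𝒜 hc] at h1
    exact h1
  have hinj := phi_injective_of_regular 𝒜 (fun i : Fin rs.length => rs.get i) hx
    (hreg_of_isWeaklyRegular _ hreg) h0
  have haev : ∀ p : MvPolynomial (Fin rs.length) (deg0 𝒜),
      MvPolynomial.aeval (fun i : Fin rs.length => rs.get i) p
        = phi 𝒜 (fun i : Fin rs.length => rs.get i) p := by
    intro p
    rfl
  have hbij : Function.Bijective (MvPolynomial.aeval (R := deg0 𝒜) (fun i : Fin rs.length => rs.get i)) := by
    constructor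
    · intro p q hpq
      rw [haev, haev] at hpq
      exact hinj hpq
    · intro r
      obtain ⟨p, hp⟩ := hsurj r
      exact ⟨p, by rw [haev, hp]⟩
  refine ⟨AlgEquiv.ofBijective (MvPolynomial.aeval (R := deg0 𝒜) (fun i : Fin rs.length => rs.get i)) hbij, ?_⟩
  intro t
  rw [AlgEquiv.ofBijective_apply, MvPolynomial.aeval_X]
  exact hx t

end Groth.Agent.S19881
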