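import Groth.Statements.S19890
import Mathlib

set_option autoImplicit false
universe u
open CAlg

namespace Groth.Agent.S19890

theorem smul_eq_mul_of_quot {R : Type*} [CommRing R] (I : Ideal R) (r b : R) :
    r • (Ideal.Quotient.mk I b) = Ideal.Quotient.mk I (r * b) := by
  rw [map_mul]
  rfl

/-- In a UFD, the colon ideal `(a : b)` is principal. -/
theorem exists_colon_eq (R' : Type*) [CommRing R'] [IsDomain R'] [UniqueFactorizationMonoid R']
    (a b : R') (ha : a ≠ 0) : ∃ c : R', c ≠ 0 ∧ ∀ r : R', a ∣ r * b ↔ c ∣ r := by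
  classical
  let _ := UniqueFactorizationMonoid.toGCDMonoid R'
  obtain ⟨a', b', ha', hb', hu⟩ := extract_gcd a b
  have hg : gcd a b ≠ 0 := fun h => ha ((gcd_eq_zero_iff a b).1 h).1
  generalize gcd a b = g at ha' hb' hg
  have ha'0 : a' ≠ 0 := by
    rintro rfl
    apply ha
    rw [ha', mul_zero]
  refine ⟨a', ha'0, fun r => ?_⟩
  constructor
  · intro h
    rw [ha', hb'] at h
    have h2 : a' ∣ r * b' := by
      have : g * a' ∣ g * (r * b') := by
        convert h using 1
        ring
      exact (mul_dvd_mul_iff_left hg).1 this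
    have hrel : IsRelPrime a' b' := (gcd_isUnit_iff_isRelPrime).1 hu
    exact hrel.dvd_of_dvd_mul_right h2
  · intro h
    obtain ⟨t, rfl⟩ := h
    refine ⟨t * b', ?_⟩
    conv_lhs => rw [hb']
    conv_rhs => rw [ha']
    ring

/-- Flatness: extension of a colon ideal. -/
theorem mem_map_of_dvd (R R' : Type*) [CommRing R] [CommRing R'] [Algebra R R'] [Module.Flat R R']
    (p : Ideal R) (a b : R) (hp : ∀ r : R, r ∈ p ↔ a ∣ r * b) (r' : R')
    (h : algebraMap R R' a ∣ r' * algebraMap R R' b) : r' ∈ p.map (algebraMap R R') := by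
  obtain ⟨s', hs'⟩ := h
  -- relation b • r' - a • s' = 0
  have hrel : ∑ i : Fin 2, (![b, -a] i) • (![r', s'] i) = 0 := by
    simp only [Fin.sum_univ_two, Matrix.cons_val_zero, Matrix.cons_val_one, Algebra.smul_def]
    rw [map_neg]
    linear_combination hs'
  obtain ⟨k, A, y, hxy, hA⟩ := Module.Flat.isTrivialRelation_of_sum_smul_eq_zero (R := R) (M := R') (f := ![b, -a]) (x := ![r', s']) hrel
  have h0 := hxy 0
  simp only [Matrix.cons_val_zero] at h0
  rw [h0]
  refine Ideal.sum_mem _ fun j _ => ?_
  rw [Algebra.smul_def]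
  refine Ideal.mul_mem_right _ _ (Ideal.mem_map_of_mem _ ?_)
  rw [hp]
  have := hA j
  simp only [Fin.sum_univ_two, Matrix.cons_val_zero, Matrix.cons_val_one] at this
  refine ⟨A 1 j, ?_⟩
  linear_combination this

/-- Let R → R' be a faithfully flat ring map between Noetherian integrally closed local domains. Then
unique factorization descends along this map: when R' is a UFD, so is R. (The first assertion of the
lemma, descent of principality for an ideal whose extension to R' is principal, is a separate
statement.) -/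
theorem result
    (R R' : Type u) [CommRing R] [CommRing R'] [IsDomain R] [IsDomain R']
    [IsNoetherianRing R] [IsNoetherianRing R'] [IsLocalRing R] [IsLocalRing R']
    [IsIntegrallyClosed R] [IsIntegrallyClosed R']
    [Algebra R R'] [Module.FaithfullyFlat R R'] [UniqueFactorizationMonoid R'] :
    UniqueFactorizationMonoid R := by
  classical
  have hinj : Function.Injective (algebraMap R R') := FaithfulSMul.algebraMap_injective R R'
  refine UniqueFactorizationMonoid.iff_exists_prime_mem_of_isPrime.2 fun P hP hPprime => ?_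
  obtain ⟨a, haP, ha0⟩ := Submodule.exists_mem_ne_zero_of_ne_bot hP
  obtain ⟨p, hpmin, hpP⟩ := Ideal.exists_minimalPrimes_le (I := Ideal.span {a}) (J := P)
    ((Ideal.span_singleton_le_iff_mem _).2 haP)
  have hpprime : p.IsPrime := hpmin.1.1
  have hap : a ∈ p := hpmin.1.2 (Ideal.mem_span_singleton_self a)
  -- p is an associated prime of R/(a)
  have hass : p ∈ associatedPrimes R (R ⧸ Ideal.span {a}) := by
    apply Module.associatedPrimes.minimalPrimes_annihilator_subset_associatedPrimes
    rw [Ideal.annihilator_quotient]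
    exact hpmin
  obtain ⟨-, x, hx⟩ := (isAssociatedPrime_iff).1 hass
  obtain ⟨b, rfl⟩ := Ideal.Quotient.mk_surjective x
  have hp : ∀ r : R, r ∈ p ↔ a ∣ r * b := by
    intro r
    rw [hx, Submodule.mem_colon_singleton, Submodule.mem_bot]
    change r • (Ideal.Quotient.mk (Ideal.span {a}) b) = 0 ↔ _
    rw [smul_eq_mul_of_quot, Ideal.Quotient.eq_zero_iff_mem, Ideal.mem_span_singleton]
  -- the extension of p is principal
  obtain ⟨c, hc0, hc⟩ := exists_colon_eq R' (algebraMap R R' a) (algebraMap R R' b)
    (by rwa [Ne, map_eq_zero_iff _ hinj])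
  have hmap : p.map (algebraMap R R') = Ideal.span {c} := by
    apply le_antisymm
    · rw [Ideal.map_le_iff_le_comap]
      intro r hr
      rw [Ideal.mem_comap, Ideal.mem_span_singleton, ← hc, ← map_mul]
      exact map_dvd _ ((hp r).1 hr)
    · rw [Ideal.span_singleton_le_iff_mem]
      apply mem_map_of_dvd R R' p a b hp
      rw [hc]
  -- p is finitely generated
  obtain ⟨S, hS⟩ := (isNoetherianRing_iff_ideal_fg R).1 inferInstance p
  have hmapS : p.map (algebraMap R R') = Ideal.span ((algebraMap R R') '' (S : Set R)) := by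
    rw [← hS, Ideal.map_span]
  have hcmem : c ∈ Ideal.span ((algebraMap R R') '' (S : Set R)) := by
    rw [← hmapS, hmap]
    exact Ideal.mem_span_singleton_self c
  rw [← Finset.coe_image, Ideal.span, Submodule.mem_span_finset] at hcmem
  obtain ⟨g, -, hg⟩ := hcmem
  -- every element of the image is a multiple of c
  have hmul : ∀ y ∈ S.image (algebraMap R R'), ∃ u, y = c * u := by
    intro y hy
    obtain ⟨s0, hs0, rfl⟩ := Finset.mem_image.1 hy
    have : algebraMap R R' s0 ∈ p.map (algebraMap R R') :=
      Ideal.mem_map_of_mem _ (hS ▸ Ideal.subset_span hs0)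
    rw [hmap, Ideal.mem_span_singleton] at this
    exact this
  choose! u hu using hmul
  have hsum : ∑ y ∈ S.image (algebraMap R R'), g y * u y = 1 := by
    have h1 : c * ∑ y ∈ S.image (algebraMap R R'), g y * u y = c * 1 := by
      rw [mul_one, Finset.mul_sum]
      conv_rhs => rw [← hg]
      apply Finset.sum_congr rfl
      intro y hy
      rw [smul_eq_mul]
      have h3 : g y * y = g y * (c * u y) := by rw [← hu y hy]
      rw [h3]
      ring
    exact mul_left_cancel₀ hc0 h1
  have hex : ∃ y ∈ S.image (algebraMap R R'), IsUnit (u y) := by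
    by_contra hcon
    push Not at hcon
    have : (1 : R') ∈ IsLocalRing.maximalIdeal R' := by
      rw [← hsum]
      refine Ideal.sum_mem _ fun y hy => ?_
      exact Ideal.mul_mem_left _ _ ((IsLocalRing.mem_maximalIdeal _).2 (hcon y hy))
    exact (Ideal.ne_top_iff_one _).1 (IsLocalRing.maximalIdeal.isMaximal R').ne_top this
  obtain ⟨y, hy, huy⟩ := hex
  obtain ⟨s0, hs0, rfl⟩ := Finset.mem_image.1 hy
  have hs0p : s0 ∈ p := hS ▸ Ideal.subset_span hs0
  have hspan : p.map (algebraMap R R') = (Ideal.span {s0}).map (algebraMap R R') := by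
    rw [hmap, Ideal.map_span, Set.image_singleton, hu _ hy]
    exact (Ideal.span_singleton_mul_right_unit huy c).symm
  have hpeq : p = Ideal.span {s0} := by
    rw [← Ideal.comap_map_eq_self_of_faithfullyFlat (B := R') p, hspan,
      Ideal.comap_map_eq_self_of_faithfullyFlat]
  have hs00 : s0 ≠ 0 := by
    rintro rfl
    apply ha0
    have := hap
    rw [hpeq] at this
    simpa using this
  refine ⟨s0, hpP hs0p, ?_⟩
  rw [← Ideal.span_singleton_prime hs00, ← hpeq]
  exact hpprime

end Groth.Agent.S19890
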