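import Groth.Statements.S19891
import Mathlib
-- import your own Groth.Agent.* helpers here

set_option autoImplicit false
universe u
open CategoryTheory AlgebraicGeometry
open ValCrit

namespace Groth.Agent.S19891

open CategoryTheory.Limits IsLocalRing

/-- For a quasi-compact morphism, every point of the closure of the image is a specialization of a
point of the image. -/
theorem exists_specializes_of_mem_closure_range {W P : Scheme.{u}} (g : W ⟶ P) [QuasiCompact g]
    (w' : P) (hw : w' ∈ closure (Set.range g.base)) : ∃ z : W, g.base z ⤳ w' := by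
  obtain ⟨V, hV, hwV⟩ : ∃ V : P.Opens, IsAffineOpen V ∧ w' ∈ V := by
    obtain ⟨_, ⟨V, hV, rfl⟩, hwV, -⟩ :=
      P.isBasis_affineOpens.exists_subset_of_mem_open (Set.mem_univ w') isOpen_univ
    exact ⟨V, hV, hwV⟩
  have hcomp : CompactSpace (g ⁻¹ᵁ V).toScheme :=
    isCompact_iff_compactSpace.mp (QuasiCompact.isCompact_preimage (f := g) _ V.2 hV.isCompact)
  obtain ⟨C, a, ha⟩ := compactSpace_iff_exists.mp hcomp
  let k : Spec C ⟶ Spec Γ(P, V) := a ≫ (g ∣_ V) ≫ hV.isoSpec.hom
  obtain ⟨φ, hφ⟩ := Spec.map_surjective k
  let p : Spec Γ(P, V) := hV.isoSpec.hom.base ⟨w', hwV⟩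
  have hke : k ≫ hV.fromSpec = a ≫ (g ⁻¹ᵁ V).ι ≫ g := by
    simp only [k, Category.assoc, ← IsAffineOpen.isoSpec_inv_ι, Iso.hom_inv_id_assoc,
      morphismRestrict_ι]
  have hep : hV.fromSpec.base p = w' := by
    rw [← IsAffineOpen.isoSpec_inv_ι]
    show (hV.isoSpec.inv ≫ V.ι).base (hV.isoSpec.hom.base ⟨w', hwV⟩) = w'
    rw [← Scheme.Hom.comp_apply, Iso.hom_inv_id_assoc]
    rfl
  have hrange : Set.range (k ≫ hV.fromSpec).base = (V : Set P) ∩ Set.range g.base := by
    rw [hke, ← Category.assoc, Scheme.Hom.comp_base, TopCat.coe_comp, Set.range_comp]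
    have : Set.range (a ≫ (g ⁻¹ᵁ V).ι).base = g.base ⁻¹' (V : Set P) := by
      rw [Scheme.Hom.comp_base, TopCat.coe_comp, Set.range_comp, Set.range_eq_univ.2 ha,
        Set.image_univ, Scheme.Opens.range_ι]
      rfl
    rw [this, Set.image_preimage_eq_inter_range]
  have hp : p ∈ closure (Set.range k.base) := by
    rw [hV.fromSpec.isOpenEmbedding.isInducing.closure_eq_preimage_closure_image, Set.mem_preimage,
      hep, ← Set.range_comp, ← TopCat.coe_comp, ← Scheme.Hom.comp_base, hrange]
    exact V.2.inter_closure ⟨hwV, hw⟩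
  rw [← hφ] at hp
  have hp' : p ∈ PrimeSpectrum.zeroLocus (RingHom.ker φ.hom : Set Γ(P, V)) := by
    rw [← PrimeSpectrum.closure_range_comap]
    exact hp
  obtain ⟨q, hqmin, hqle⟩ := Ideal.exists_minimalPrimes_le
    (show RingHom.ker φ.hom ≤ p.asIdeal from hp')
  obtain ⟨q', hq'prime, -, hq'⟩ := Ideal.exists_comap_eq_of_mem_minimalPrimes φ.hom (I := ⊥) q
    (by rwa [← RingHom.ker_eq_comap_bot])
  let c : Spec C := ⟨q', hq'prime⟩
  have hkc : k.base c = ⟨q, hqmin.1.1⟩ := by
    rw [← hφ]
    exact PrimeSpectrum.ext hq'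
  have hsp : k.base c ⤳ p := by
    rw [hkc]
    exact (PrimeSpectrum.le_iff_specializes _ _).1 hqle
  refine ⟨(a ≫ (g ⁻¹ᵁ V).ι).base c, ?_⟩
  have := hsp.map hV.fromSpec.continuous
  rw [hep, ← Scheme.Hom.comp_apply, hke] at this
  simpa only [Scheme.Hom.comp_apply, Category.assoc] using this

/-- A specialization of the image of a point is realized by a valuation ring of the residue field
of the point. -/
theorem exists_valuationSubring_of_specializes {Z P : Scheme.{u}} (g : Z ⟶ P) (z : Z) (w' : P)
    (hsp : g.base z ⤳ w') :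
    ∃ (R : ValuationSubring (Z.residueField z)) (m : Spec (.of R) ⟶ P),
      m.base (closedPoint R) = w' ∧
        Spec.map (CommRingCat.ofHom R.subtype) ≫ m = Z.fromSpecResidueField z ≫ g := by
  let ψ : P.presheaf.stalk w' ⟶ Z.residueField z :=
    P.presheaf.stalkSpecializes hsp ≫ g.stalkMap z ≫ Z.residue z
  obtain ⟨R, hR, hR_local⟩ := IsLocalRing.exists_factor_valuationRing ψ.hom
  let ψR : P.presheaf.stalk w' ⟶ .of R := CommRingCat.ofHom (ψ.hom.codRestrict _ hR)
  refine ⟨R, Spec.map ψR ≫ P.fromSpecStalk w', ?_, ?_⟩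
  · simp only [Scheme.Hom.comp_base, TopCat.coe_comp, Function.comp_apply]
    have : (Spec.map ψR).base (closedPoint R) = closedPoint (P.presheaf.stalk w') :=
      comap_closedPoint (S := R) (ψ.hom.codRestrict R.toSubring hR)
    rw [this, P.fromSpecStalk_closedPoint]
  · have e1 : ψR ≫ CommRingCat.ofHom R.subtype = ψ := by
      ext x
      rfl
    rw [← Category.assoc, ← Spec.map_comp, e1]
    simp only [ψ, Spec.map_comp, Category.assoc]
    rw [Scheme.SpecMap_stalkSpecializes_fromSpecStalk hsp, Scheme.SpecMap_stalkMap_fromSpecStalk]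
    rfl

/-- Let h : Z → Y and f : Y → X be morphisms of quasi-compact quasi-separated schemes, with h dominant.
Then f is separated if and only if the following refined uniqueness criterion holds: for every point
z of Z, every valuation ring R of the residue field κ(z) and every morphism φ : Spec R → X whose
restriction to Spec κ(z) is the canonical morphism Spec κ(z) → Z → Y → X, any two morphisms Spec R →
Y lying over φ and restricting to Spec κ(z) → Z → Y on the generic point coincide. (The published
statement does not require h to be dominant; its proof uses that every point of Y generalises to a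
point of h(Z), and for Z empty the criterion holds whatever f is, so dominance of h is assumed
here.) -/
theorem result {X Y Z : Scheme.{u}} (h : Z ⟶ Y) (f : Y ⟶ X)
    [CompactSpace ↥Z] [QuasiSeparatedSpace ↥Z] [CompactSpace ↥Y] [QuasiSeparatedSpace ↥Y]
    [CompactSpace ↥X] [QuasiSeparatedSpace ↥X] (hd : DenseRange h.base) :
    IsSeparated f ↔
      ∀ (z : ↥Z) (R : ValuationSubring ↑(Z.residueField z)) (φ : Spec (CommRingCat.of ↥R) ⟶ X),
        Spec.map (CommRingCat.ofHom R.subtype) ≫ φ = Z.fromSpecResidueField z ≫ h ≫ f →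
        ∀ φ₁ φ₂ : Spec (CommRingCat.of ↥R) ⟶ Y,
          Spec.map (CommRingCat.ofHom R.subtype) ≫ φ₁ = Z.fromSpecResidueField z ≫ h → φ₁ ≫ f = φ →
          Spec.map (CommRingCat.ofHom R.subtype) ≫ φ₂ = Z.fromSpecResidueField z ≫ h → φ₂ ≫ f = φ →
          φ₁ = φ₂ := by
  constructor
  · intro hf z R φ hφ φ₁ φ₂ h₁ h₁' h₂ h₂'
    have hdom : IsDominant (Spec.map (CommRingCat.ofHom R.subtype)) := by
      constructor
      show DenseRange (PrimeSpectrum.comap R.subtype)
      rw [PrimeSpectrum.denseRange_comap_iff_ker_le_nilRadical,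
        (RingHom.injective_iff_ker_eq_bot _).1 Subtype.val_injective]
      exact bot_le
    exact ext_of_isDominant_of_isSeparated f (h₁'.trans h₂'.symm)
      (Spec.map (CommRingCat.ofHom R.subtype)) (h₁.trans h₂.symm)
  · intro hC
    have hqs : QuasiSeparated f := inferInstance
    have hqc : QuasiCompact (pullback.diagonal f) := inferInstance
    have hqh : QuasiCompact h := inferInstance
    have hqg : QuasiCompact (h ≫ pullback.diagonal f) := inferInstance
    have hcl : IsClosed (Set.range (pullback.diagonal f).base) := by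
      rw [← closure_subset_iff_isClosed]
      intro w' hw'
      have hw'' : w' ∈ closure (Set.range (h ≫ pullback.diagonal f).base) := by
        have h1 : Set.range (pullback.diagonal f).base ⊆
            closure (Set.range (h ≫ pullback.diagonal f).base) := by
          rw [Scheme.Hom.comp_base, TopCat.coe_comp, Set.range_comp, ← Set.image_univ,
            ← hd.closure_range]
          exact image_closure_subset_closure_image (pullback.diagonal f).continuous
        exact closure_minimal h1 isClosed_closure hw'
      obtain ⟨z, hz⟩ := exists_specializes_of_mem_closure_range _ w' hw''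
      obtain ⟨R, m, hm1, hm2⟩ := exists_valuationSubring_of_specializes _ z w' hz
      have hφ : ∀ pr : pullback f f ⟶ Y, pullback.diagonal f ≫ pr = 𝟙 Y →
          Spec.map (CommRingCat.ofHom R.subtype) ≫ (m ≫ pr) = Z.fromSpecResidueField z ≫ h := by
        intro pr hpr
        rw [← Category.assoc, hm2, Category.assoc, Category.assoc, hpr, Category.comp_id]
      have h12 : m ≫ pullback.fst f f = m ≫ pullback.snd f f := by
        refine hC z R ((m ≫ pullback.fst f f) ≫ f) ?_ _ _ (hφ _ (pullback.diagonal_fst f)) rfl
          (hφ _ (pullback.diagonal_snd f)) ?_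
        · rw [← Category.assoc, hφ _ (pullback.diagonal_fst f), Category.assoc]
        · rw [Category.assoc, Category.assoc, pullback.condition]
      have hm : m = (m ≫ pullback.fst f f) ≫ pullback.diagonal f := by
        apply pullback.hom_ext
        · rw [Category.assoc, pullback.diagonal_fst, Category.comp_id]
        · rw [Category.assoc, pullback.diagonal_snd, Category.comp_id, h12]
      refine ⟨(m ≫ pullback.fst f f).base (closedPoint R), ?_⟩
      rw [← Scheme.Hom.comp_apply, ← hm, hm1]
    have : IsClosedImmersion (pullback.diagonal f) := IsClosedImmersion.of_isPreimmersion _ hcl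
    exact ⟨this⟩

end Groth.Agent.S19891
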