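import Groth.Statements.S19892
import Mathlib
import Groth.Agent.S19891
import Groth.Agent.Lib.Helper4.ValRefined

set_option autoImplicit false
universe u
open CategoryTheory AlgebraicGeometry
open ValCrit

namespace Groth.Agent.S19892

/-- Let h : Z → Y and f : Y → X be morphisms of quasi-compact quasi-separated schemes, with h dominant
and f locally of finite type. Then f is proper if and only if the following refined valuative
criterion holds: for every point z of Z, every valuation ring R of the residue field κ(z) and every
morphism φ : Spec R → X whose restriction to Spec κ(z) is the canonical morphism Spec κ(z) → Z → Y →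
X, there is exactly one morphism Spec R → Y lying over φ and restricting to Spec κ(z) → Z → Y on the
generic point. (The published statement does not require h to be dominant; its proof uses that every
point of Y generalises to a point of h(Z), and for Z empty the criterion holds whatever f is, so
dominance of h is assumed here.) -/
theorem result {X Y Z : Scheme.{u}} (h : Z ⟶ Y) (f : Y ⟶ X)
    [CompactSpace ↥Z] [QuasiSeparatedSpace ↥Z] [CompactSpace ↥Y] [QuasiSeparatedSpace ↥Y]
    [CompactSpace ↥X] [QuasiSeparatedSpace ↥X] (hd : DenseRange h.base)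
    [LocallyOfFiniteType f] :
    IsProper f ↔
      ∀ (z : ↥Z) (R : ValuationSubring ↑(Z.residueField z)) (φ : Spec (CommRingCat.of ↥R) ⟶ X),
        Spec.map (CommRingCat.ofHom R.subtype) ≫ φ = Z.fromSpecResidueField z ≫ h ≫ f →
        ∃! φ' : Spec (CommRingCat.of ↥R) ⟶ Y,
          Spec.map (CommRingCat.ofHom R.subtype) ≫ φ' = Z.fromSpecResidueField z ≫ h ∧ φ' ≫ f = φ := by
  constructor
  · intro hf z R φ hφ
    have h1 : (ValuativeCriterion ⊓ @QuasiCompact ⊓ @QuasiSeparated ⊓ @LocallyOfFiniteType) f := by
      rw [← IsProper.eq_valuativeCriterion]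
      exact hf
    have hvc : ValuativeCriterion f := h1.1.1.1
    let S : ValuativeCommSq f :=
      { R := ↥R
        K := Z.residueField z
        i₁ := Z.fromSpecResidueField z ≫ h
        i₂ := φ
        commSq := ⟨by rw [Category.assoc]; exact hφ.symm⟩ }
    obtain ⟨⟨l, hl1, hl2⟩⟩ := (hvc.existence S).exists_lift
    refine ⟨l, ⟨hl1, hl2⟩, ?_⟩
    rintro l' ⟨hl'1, hl'2⟩
    have hsep : IsSeparated f := inferInstance
    exact (Groth.Agent.S19891.result h f hd).mp hsep z R φ hφ l' l hl'1 hl'2 hl1 hl2
  · intro H
    have hsep : IsSeparated f := (Groth.Agent.S19891.result h f hd).mpr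
      (fun z R φ hφ φ₁ φ₂ h1 h1' h2 h2' => (H z R φ hφ).unique ⟨h1, h1'⟩ ⟨h2, h2'⟩)
    have hqc : QuasiCompact f := inferInstance
    have hqh : QuasiCompact h := inferInstance
    have huc : UniversallyClosed f :=
      Groth.Agent.Lib.helper4.ValRefined.universallyClosed_of_refined h f hd H
    exact { toIsSeparated := hsep, toUniversallyClosed := huc, toLocallyOfFiniteType := inferInstance }

end Groth.Agent.S19892
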