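import Groth.Statements.S19895
import Mathlib
import Groth.Agent.Lib.Helper13.Verl6
-- import your own Groth.Agent.* helpers here

set_option autoImplicit false
open Complex
open VerlindeComb
open Groth.Agent.Lib.helper13.Verl

namespace Groth.Agent.S19895

/-- Fix integers r ≥ 2 and k ≥ 1, and two partitions λ, λ' with k ≥ λ_1 ≥ ⋯ ≥ λ_{r-1} ≥ λ_r = 0 and k ≥
λ'_1 ≥ ⋯ ≥ λ'_{r-1} ≥ λ'_r = 0 such that λ is not equivalent to the dual partition λ'* = (k − λ'_r,
…, k − λ'_1), two integer vectors being equivalent when their difference is a constant vector (a, …,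
a). For an integer vector v with r + k > v_1 > ⋯ > v_{r-1} > v_r = 0 put z(v)_j = exp(2πi v_j / (r +
k)), let S_μ(v) = det(z(v)_j^{μ_i + r − i}) / det(z(v)_j^{r − i}) be the Schur value and P(v) =
∏_{i<j} (2 sin(π (v_i − v_j)/(r + k)))². Then the sum over all such v of exp(−2πi (|λ| + |λ'|) (v_1
+ ⋯ + v_r) / (r (r + k))) · S_λ(v) · S_{λ'}(v) · P(v) vanishes; that is, the genus-zero Verlinde
number of rank r, degree 0 and level k with two parabolic points of types λ, λ' is zero. (Only the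
vanishing case is stated; the complementary case, where the number equals 1, is not part of this
statement. The source allows r = 1, where the non-equivalence hypothesis cannot hold.) Indices are
0-based below: lam i stands for λ_{i+1}. -/
theorem result (r k : ℕ) (hr : 2 ≤ r)
    (hk : 1 ≤ k) (lam lam' : Fin r → ℕ) (hlam : Antitone lam) (hlamk : ∀ i, lam i ≤ k)
    (hlam0 : ∀ i : Fin r, (i : ℕ) = r - 1 → lam i = 0)
    (hlam' : Antitone lam') (hlam'k : ∀ i, lam' i ≤ k) (hlam'0 : ∀ i : Fin r, (i : ℕ) = r - 1 → lam' i = 0)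
    (hne : ¬ ∃ a : ℤ, ∀ i, (lam i : ℤ) - ((k - lam' (Fin.rev i) : ℕ) : ℤ) = a)
    (z : (Fin r → ℕ) → Fin r → ℂ)
    (hz : ∀ v j, z v j = Complex.exp (2 * Real.pi * Complex.I * (v j : ℂ) / ((r : ℂ) + k)))
    (S : (Fin r → ℕ) → (Fin r → ℕ) → ℂ)
    (hS : ∀ μ v, S μ v = (Matrix.of fun i j : Fin r => z v j ^ (μ i + (r - 1 - (i : ℕ)))).det /
        (Matrix.of fun i j : Fin r => z v j ^ (r - 1 - (i : ℕ))).det)
    (P : (Fin r → ℕ) → ℝ)
    (hP : ∀ v, P v = ∏ p ∈ (Finset.univ : Finset (Fin r × Fin r)).filter (fun p => p.1 < p.2),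
        ((2 : ℝ) * Real.sin (Real.pi * ((v p.1 : ℝ) - (v p.2 : ℝ)) / ((r : ℝ) + k))) ^ 2) :
    (∑ v ∈ (Finset.univ : Finset (Fin r → Fin (r + k))).filter
        (fun v : Fin r → Fin (r + k) => StrictAnti v ∧ ∀ i : Fin r, (i : ℕ) = r - 1 → (v i : ℕ) = 0),
      Complex.exp (-(2 * Real.pi * Complex.I * (((∑ i, lam i) + (∑ i, lam' i) : ℕ) : ℂ) *
          ((∑ j, (v j : ℕ) : ℕ) : ℂ) / ((r : ℂ) * ((r : ℂ) + k)))) *
        S lam (fun j => (v j : ℕ)) * S lam' (fun j => (v j : ℕ)) * (P (fun j => (v j : ℕ)) : ℂ)) = 0 := by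
  classical
  haveI : NeZero (r + k) := ⟨by omega⟩
  set e : Fin r → ℕ := fun i => lam i + (r - 1 - (i : ℕ)) with he
  set f : Fin r → ℕ :=
    fun i => r + k - 1 - (lam' (Fin.rev i) + (r - 1 - ((Fin.rev i : Fin r) : ℕ))) with hf
  have hdual : (fun i => r + k - 1 - f (Fin.rev i)) = fun i => lam' i + (r - 1 - (i : ℕ)) := by
    funext i
    have := i.2
    have := hlam'k i
    simp only [hf, Fin.rev_rev]
    omega
  have he_sa : StrictAnti e := by
    intro i j hij
    have h1 : lam j ≤ lam i := hlam hij.le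
    have h2 : (i : ℕ) < (j : ℕ) := hij
    have := j.2
    simp only [he]
    omega
  have hf_sa : StrictAnti f := by
    intro i j hij
    have h1 : lam' (Fin.rev i) ≤ lam' (Fin.rev j) := hlam' (Fin.rev_le_rev.2 hij.le)
    have h2 : (i : ℕ) < (j : ℕ) := hij
    have := j.2
    have := hlam'k (Fin.rev j)
    simp only [hf, Fin.val_rev]
    omega
  have heN : ∀ i, e i < r + k := by
    intro i
    have := hlamk i
    have := i.2
    simp only [he]
    omega
  have hfN : ∀ i, f i < r + k := by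
    intro i
    simp only [hf]
    omega
  have hdiff : ∀ i, (e i : ℤ) - (f i : ℤ) = (lam i : ℤ) + (lam' (Fin.rev i) : ℤ) - k := by
    intro i
    have := i.2
    have := hlam'k (Fin.rev i)
    simp only [he, hf, Fin.val_rev]
    omega
  have hne' : ¬ ∃ c : ℤ, ∀ i, (e i : ℤ) - (f i : ℤ) = c := by
    rintro ⟨c, hc⟩
    apply hne
    refine ⟨c, fun i => ?_⟩
    have h1 := hc i
    rw [hdiff i] at h1
    have := hlam'k (Fin.rev i)
    omega
  have hcore := core2 (r + k) (by omega) e f he_sa hf_sa heN hfN hne'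
  have hD : ((∑ i, e i : ℕ) : ℤ) - ((∑ i, f i : ℕ) : ℤ)
      = ((∑ i, lam i : ℕ) : ℤ) + ((∑ i, lam' i : ℕ) : ℤ) - (r : ℤ) * k := by
    have h0 : ((∑ i, e i : ℕ) : ℤ) - ((∑ i, f i : ℕ) : ℤ) = ∑ i, ((e i : ℤ) - (f i : ℤ)) := by
      rw [Finset.sum_sub_distrib]; push_cast; rfl
    have h2 : ∑ i : Fin r, (lam' (Fin.rev i) : ℤ) = ∑ i : Fin r, (lam' i : ℤ) :=
      Equiv.sum_comp Fin.revPerm (fun i => (lam' i : ℤ))
    rw [h0, Finset.sum_congr rfl (fun i _ => hdiff i), Finset.sum_sub_distrib,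
      Finset.sum_add_distrib, h2]
    push_cast
    simp
  -- rewrite the index set
  have hset : (Finset.univ : Finset (Fin r → Fin (r + k))).filter
        (fun v : Fin r → Fin (r + k) => StrictAnti v ∧ ∀ i : Fin r, (i : ℕ) = r - 1 → (v i : ℕ) = 0)
      = (Finset.univ : Finset (Fin r → Fin (r + k))).filter
        (fun v : Fin r → Fin (r + k) => StrictAnti v ∧ ∃ p, v p = 0) := by
    apply Finset.filter_congr
    intro v _
    constructor
    · rintro ⟨h, h'⟩; exact ⟨h, (exists_eq_zero_iff_last (by omega) h).2 h'⟩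
    · rintro ⟨h, h'⟩; exact ⟨h, (exists_eq_zero_iff_last (by omega) h).1 h'⟩
  rw [hset, ← hcore]
  refine Finset.sum_congr rfl fun v hv => ?_
  have hvsa : StrictAnti v := (Finset.mem_filter.1 hv).2.1
  set vn : Fin r → ℕ := fun j => (v j : ℕ) with hvn
  have hvn_sa : StrictAnti vn := Fin.val_strictMono.comp_strictAnti hvsa
  have hvinj := injective_mod_of_strictAnti (r + k) vn hvn_sa (fun i => (v i).2)
  have hz' : ∀ j, z vn j = zeta (r + k) ^ (vn j) := fun j => by rw [hz vn j, exp_eq_zeta_pow]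
  have hden : (Matrix.of fun i j : Fin r => z vn j ^ (r - 1 - (i : ℕ))).det = A (r + k) (delta r) vn :=
    det_eq_A (r + k) (delta r) vn (z vn) hz'
  have hS1 : S lam vn = A (r + k) e vn / A (r + k) (delta r) vn := by
    rw [hS, hden]
    congr 1
    exact det_eq_A (r + k) e vn (z vn) hz'
  have hS2 : S lam' vn = A (r + k) (fun i => r + k - 1 - f (Fin.rev i)) vn / A (r + k) (delta r) vn := by
    rw [hS, hden, hdual]
    congr 1
    exact det_eq_A (r + k) (fun i => lam' i + (r - 1 - (i : ℕ))) vn (z vn) hz'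
  have hcast : ((r : ℝ) + k) = ((r + k : ℕ) : ℝ) := by push_cast; rfl
  have hPv : P vn = Groth.Agent.Lib.helper13.Verl.P (r + k) vn := by
    rw [hP, Groth.Agent.Lib.helper13.Verl.P, hcast]
  have hpair := schur_pair k vn hvinj e f (fun i => by have := hfN i; omega)
  rw [hS1, hS2, hPv, mul_assoc, mul_assoc, ← mul_assoc (A (r + k) e vn / _), hpair, G2, hD,
    zeta_pow_eq_exp, twist, ← mul_assoc, ← mul_assoc, ← Complex.exp_add]
  congr 2
  congr 1
  have hr0 : (r : ℂ) ≠ 0 := Nat.cast_ne_zero.2 (by omega)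
  have hN0 : ((r : ℂ) + k) ≠ 0 := by
    have : ((r + k : ℕ) : ℂ) ≠ 0 := Nat.cast_ne_zero.2 (by omega)
    push_cast at this; exact this
  push_cast
  field_simp
  ring

end Groth.Agent.S19895
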