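import Groth.Statements.S19898
import Mathlib

set_option autoImplicit false
universe u
open scoped TensorProduct
open SymTen

namespace Groth.Agent.S19898

open PiTensorProduct

section core
variable {R : Type u} [CommRing R] {R' : Type u} [CommRing R'] [Algebra R R'] {d : ℕ}
  (b : Module.Basis (Fin d) R R')

/-- the determinant functional on the tensor power -/
noncomputable def Del : (⨂[R] _ : Fin d, R') →ₗ[R] R :=
  PiTensorProduct.lift b.det.toMultilinearMap

theorem Del_tprod (u : Fin d → R') : Del b (tprod R u) = b.det u := by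
  unfold Del
  rw [PiTensorProduct.lift.tprod]
  rfl

theorem mk_tprod_eq (v : Fin d → R') :
    (SymTen.altSpan R R' d).mkQ (tprod R v) =
      b.det v • (SymTen.altSpan R R' d).mkQ (tprod R ⇑b) := by
  classical
  let g : R' [⋀^Fin d]→ₗ[R] ((⨂[R] _ : Fin d, R') ⧸ SymTen.altSpan R R' d) :=
    { ((SymTen.altSpan R R' d).mkQ).compMultilinearMap (tprod R) with
      map_eq_zero_of_eq' := fun v i j h hij => by
        show (SymTen.altSpan R R' d).mkQ (tprod R v) = 0
        rw [Submodule.mkQ_apply, Submodule.Quotient.mk_eq_zero]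
        exact Submodule.subset_span ⟨v, i, j, hij, h, rfl⟩ }
  have hg : g = (b.det).smulRight (g ⇑b) := by
    refine Module.Basis.ext_alternating b fun i h => ?_
    let σ : Equiv.Perm (Fin d) := Equiv.ofBijective i (Finite.injective_iff_bijective.1 h)
    change g (⇑b ∘ σ) = ((b.det).smulRight (g ⇑b)) (⇑b ∘ σ)
    rw [AlternatingMap.map_perm, AlternatingMap.smulRight_apply, AlternatingMap.map_perm,
      Module.Basis.det_self]
    simp
  have h2 := DFunLike.congr_fun hg v
  rw [AlternatingMap.smulRight_apply] at h2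
  exact h2

theorem mk_eq_Del (w : ⨂[R] _ : Fin d, R') :
    (SymTen.altSpan R R' d).mkQ w = Del b w • (SymTen.altSpan R R' d).mkQ (tprod R ⇑b) := by
  induction w using PiTensorProduct.induction_on with
  | smul_tprod r v =>
    rw [map_smul, map_smul, mk_tprod_eq b v, Del_tprod, smul_assoc]
  | add x y hx hy => rw [map_add, map_add, hx, hy, add_smul]

theorem mem_altSpan_of_Del_eq_zero (w : ⨂[R] _ : Fin d, R') (h : Del b w = 0) :
    w ∈ SymTen.altSpan R R' d := by
  have h1 := mk_eq_Del b w
  rw [h, zero_smul, Submodule.mkQ_apply, Submodule.Quotient.mk_eq_zero] at h1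
  exact h1

theorem tpowAct_tprod (a p : Fin d → R') :
    SymTen.tpowAct R R' R' d (tprod R a) (tprod R p) = tprod R (a * p) := by
  unfold SymTen.tpowAct
  rw [PiTensorProduct.lift.tprod]
  simp only [MultilinearMap.compLinearMap_apply, PiTensorProduct.mapMultilinear_apply,
    PiTensorProduct.map_tprod, AlgHom.toLinearMap_apply, Algebra.lsmul_coe, smul_eq_mul]
  rfl

theorem tpowAct_eq_mul (z x : ⨂[R] _ : Fin d, R') :
    SymTen.tpowAct R R' R' d z x = z * x := by
  induction z using PiTensorProduct.induction_on with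
  | smul_tprod r a =>
    induction x using PiTensorProduct.induction_on with
    | smul_tprod s p =>
      rw [map_smul, map_smul, LinearMap.smul_apply, tpowAct_tprod, smul_mul_assoc, mul_smul_comm,
        tprod_mul_tprod, smul_comm]
    | add x y hx hy => rw [map_add, mul_add, hx, hy]
  | add z z' hz hz' => rw [map_add, LinearMap.add_apply, add_mul, hz, hz']

/-- the ideal of tensors acting trivially modulo `ker Del` -/
noncomputable def J : Ideal (⨂[R] _ : Fin d, R') where
  carrier := {z | ∀ y, Del b (z * y) = 0}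
  zero_mem' := fun y => by rw [zero_mul, map_zero]
  add_mem' := fun {a c} ha hc y => by rw [add_mul, map_add, ha y, hc y, add_zero]
  smul_mem' := fun a z hz y => by
    have : a • z * y = z * (a * y) := by rw [smul_eq_mul]; ring
    rw [this]
    exact hz _

theorem mem_J (z : ⨂[R] _ : Fin d, R') : z ∈ J b ↔ ∀ y, Del b (z * y) = 0 := Iff.rfl

end core

section poly
variable {R : Type u} [CommRing R] {R' : Type u} [CommRing R'] [Algebra R R'] {d : ℕ}
  (b : Module.Basis (Fin d) R R')

open MvPolynomial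

/-- the multidegree of an index function -/
noncomputable def typ (c : Fin d → Fin d) : Fin d →₀ ℕ := ∑ j, Finsupp.single (c j) 1

/-- the monomial of an index function -/
noncomputable def mono (c : Fin d → Fin d) : MvPolynomial (Fin d) R := ∏ j, X (c j)

theorem mono_eq (c : Fin d → Fin d) :
    (mono c : MvPolynomial (Fin d) R) = monomial (typ c) 1 := by
  unfold mono typ
  rw [monomial_sum_one]
  rfl

theorem det_sum_expand {P' : Type*} [CommRing P'] {n : ℕ} (t : Fin n → P')
    (A' : Fin n → Fin d → Fin d → P') :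
    Matrix.det (Matrix.of fun k j => ∑ i, t i * A' i k j) =
      ∑ c : Fin d → Fin n, (∏ j, t (c j)) * Matrix.det (Matrix.of fun k j => A' (c j) k j) := by
  classical
  rw [Matrix.det_apply']
  have h1 : ∀ σ : Equiv.Perm (Fin d),
      ∏ j, (Matrix.of fun k j => ∑ i, t i * A' i k j) (σ j) j
        = ∑ c : Fin d → Fin n, (∏ j, t (c j)) * ∏ j, A' (c j) (σ j) j := by
    intro σ
    simp only [Matrix.of_apply]
    rw [Finset.prod_univ_sum, Fintype.piFinset_univ]
    refine Finset.sum_congr rfl fun c _ => ?_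
    rw [Finset.prod_mul_distrib]
  simp_rw [h1, Finset.mul_sum]
  rw [Finset.sum_comm]
  refine Finset.sum_congr rfl fun c _ => ?_
  rw [Matrix.det_apply', Finset.mul_sum]
  refine Finset.sum_congr rfl fun σ _ => ?_
  simp only [Matrix.of_apply]
  ring

theorem repr_mul_expand (x v : R') (k : Fin d) :
    b.repr (x * v) k = ∑ l, b.repr v l * b.repr (x * b l) k := by
  conv_lhs => rw [← b.sum_repr v]
  rw [Finset.mul_sum, map_sum, Finsupp.finsetSum_apply]
  refine Finset.sum_congr rfl fun l _ => ?_
  rw [mul_smul_comm, map_smul, Finsupp.smul_apply, smul_eq_mul]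

/-- the generic multiplication matrix -/
noncomputable def Nmat (v : Fin d → R') : Matrix (Fin d) (Fin d) (MvPolynomial (Fin d) R) :=
  Matrix.of fun k j => ∑ i, X i * C (b.repr (b i * v j) k)

theorem Nmat_eq (v : Fin d → R') : Nmat b v = Nmat b ⇑b * (b.toMatrix v).map C := by
  refine Matrix.ext fun k j => ?_
  rw [Matrix.mul_apply]
  simp only [Nmat, Matrix.of_apply, Matrix.map_apply, Module.Basis.toMatrix_apply]
  have hR : (∑ l, (∑ i, (X i : MvPolynomial (Fin d) R) * C (b.repr (b i * b l) k)) *
        C (b.repr (v j) l))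
      = ∑ i, ∑ l, X i * C (b.repr (b i * b l) k) * C (b.repr (v j) l) := by
    rw [Finset.sum_comm]
    exact Finset.sum_congr rfl (fun l _ => Finset.sum_mul _ _ _)
  rw [hR]
  refine Finset.sum_congr rfl fun i _ => ?_
  rw [repr_mul_expand b (b i) (v j) k, map_sum, Finset.mul_sum]
  refine Finset.sum_congr rfl fun l _ => ?_
  rw [map_mul]
  ring

theorem det_Nmat (v : Fin d → R') :
    (Nmat b v).det = ∑ c : Fin d → Fin d, mono c * C (b.det fun j => b (c j) * v j) := by
  unfold Nmat
  rw [det_sum_expand (fun i => (X i : MvPolynomial (Fin d) R))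
    (fun i k j => C (b.repr (b i * v j) k))]
  refine Finset.sum_congr rfl fun c _ => ?_
  rw [Module.Basis.det_apply, RingHom.map_det]
  rfl

theorem poly_identity (v : Fin d → R') :
    ∑ c : Fin d → Fin d, (mono c : MvPolynomial (Fin d) R) * C (b.det fun j => b (c j) * v j) =
      (∑ c : Fin d → Fin d, mono c * C (b.det fun j => b (c j) * b j)) * C (b.det v) := by
  rw [← det_Nmat, ← det_Nmat, Nmat_eq b v, Matrix.det_mul, Module.Basis.det_apply,
    RingHom.map_det]
  rfl

theorem coeff_sum_mono (r : (Fin d → Fin d) → R) (α : Fin d →₀ ℕ) :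
    coeff α (∑ c : Fin d → Fin d, (mono c : MvPolynomial (Fin d) R) * C (r c)) =
      ∑ c ∈ Finset.univ.filter (fun c : Fin d → Fin d => typ c = α), r c := by
  classical
  rw [coeff_sum, Finset.sum_filter]
  refine Finset.sum_congr rfl fun c _ => ?_
  rw [mono_eq, mul_comm, C_mul_monomial, mul_one, coeff_monomial]

/-- the coefficient tensors -/
noncomputable def wv (c : Fin d → Fin d) : ⨂[R] _ : Fin d, R' :=
  tprod R (fun j => b (c j)) - (b.det fun j => b (c j) * b j) • (1 : ⨂[R] _ : Fin d, R')

theorem Del_wv_mul (c : Fin d → Fin d) (v : Fin d → R') :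
    Del b (wv b c * tprod R v) =
      (b.det fun j => b (c j) * v j) - (b.det fun j => b (c j) * b j) * b.det v := by
  unfold wv
  rw [sub_mul, smul_mul_assoc, one_mul, tprod_mul_tprod, map_sub, map_smul, Del_tprod,
    Del_tprod, smul_eq_mul]
  rfl

theorem fiber_sum_mem_J (α : Fin d →₀ ℕ) :
    (∑ c ∈ Finset.univ.filter (fun c : Fin d → Fin d => typ c = α), wv b c) ∈ J b := by
  rw [mem_J]
  intro y
  induction y using PiTensorProduct.induction_on with
  | smul_tprod r v =>
    rw [mul_smul_comm, map_smul]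
    have h0 : Del b ((∑ c ∈ Finset.univ.filter (fun c : Fin d → Fin d => typ c = α), wv b c) *
        tprod R v) = 0 := by
      rw [Finset.sum_mul, map_sum]
      simp_rw [Del_wv_mul]
      rw [Finset.sum_sub_distrib, ← Finset.sum_mul]
      have h2 := congrArg (coeff α) (poly_identity b v)
      rw [mul_comm _ (C (b.det v)), coeff_C_mul, coeff_sum_mono, coeff_sum_mono] at h2
      rw [h2]
      ring
    rw [h0, smul_zero]
  | add x y hx hy => rw [mul_add, map_add, hx, hy, add_zero]

end poly

section law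
variable {R : Type u} [CommRing R] {R' : Type u} [CommRing R'] [Algebra R R'] {d : ℕ}

open MvPolynomial

theorem prod_tmul {S : Type u} [CommSemiring S] [Algebra R S] {B : Type u} [CommRing B]
    [Algebra R B] {κ : Type*} (s : Finset κ) (f : κ → S) (g : κ → B) :
    ∏ j ∈ s, (f j ⊗ₜ[R] g j) = (∏ j ∈ s, f j) ⊗ₜ[R] (∏ j ∈ s, g j) := by
  classical
  induction s using Finset.induction_on with
  | empty => simp [Algebra.TensorProduct.one_def]
  | insert j s hj ih =>
    rw [Finset.prod_insert hj, Finset.prod_insert hj, Finset.prod_insert hj, ih,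
      Algebra.TensorProduct.tmul_mul_tmul]

theorem prod_single (a : Fin d → R') :
    ∏ j, PiTensorProduct.singleAlgHom (R := R) (A := fun _ : Fin d => R') j (a j) =
      tprod R a := by
  simp only [PiTensorProduct.singleAlgHom_apply, MonoidHom.mulSingle_apply]
  rw [← PiTensorProduct.tprod_prod]
  exact congrArg _ (Finset.univ_prod_mulSingle a)

theorem tpow_formula (S : Type u) [CommSemiring S] [Algebra R S] {n : ℕ} (s : Fin n → S)
    (r : Fin n → R') :
    (SymTen.tpowLaw R R' d).law.toFun' S (∑ i, s i ⊗ₜ[R] r i) =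
      ∑ c : Fin d → Fin n, (∏ j, s (c j)) ⊗ₜ[R] tprod R (fun j => r (c j)) := by
  classical
  unfold SymTen.tpowLaw
  rw [PolLaw.MulLaw.prodMap_toFun']
  simp only [map_sum, Algebra.TensorProduct.map_tmul, AlgHom.coe_id, id_eq]
  rw [Finset.prod_univ_sum, Fintype.piFinset_univ]
  refine Finset.sum_congr rfl fun c _ => ?_
  rw [prod_tmul, prod_single]

theorem norm_formula (b : Module.Basis (Fin d) R R') :
    Algebra.norm (MvPolynomial (Fin d) R)
      (∑ i, (X i : MvPolynomial (Fin d) R) ⊗ₜ[R] b i) = (Nmat b ⇑b).det := by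
  classical
  rw [Algebra.norm_eq_matrix_det (Algebra.TensorProduct.basis (MvPolynomial (Fin d) R) b)]
  congr 1
  refine Matrix.ext fun k j => ?_
  rw [Algebra.leftMulMatrix_eq_repr_mul, Algebra.TensorProduct.basis_apply, Finset.sum_mul,
    map_sum, Finsupp.finsetSum_apply]
  simp only [Nmat, Matrix.of_apply]
  refine Finset.sum_congr rfl fun i _ => ?_
  rw [Algebra.TensorProduct.tmul_mul_tmul, mul_one, Algebra.TensorProduct.basis_repr_tmul,
    Finsupp.smul_apply, Finsupp.mapRange_apply, smul_eq_mul]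
  rfl

theorem fiber_zero (b : Module.Basis (Fin d) R R') :
    ∑ c : Fin d → Fin d, (mono c : MvPolynomial (Fin d) R) ⊗ₜ[R]
      (Ideal.Quotient.mkₐ R (J b) (wv b c)) = 0 := by
  classical
  rw [← Finset.sum_fiberwise_of_maps_to (s := Finset.univ) (t := Finset.univ.image typ)
    (g := typ) (fun c _ => Finset.mem_image_of_mem _ (Finset.mem_univ c))]
  refine Finset.sum_eq_zero fun α _ => ?_
  have h1 : ∀ c ∈ Finset.univ.filter (fun c : Fin d → Fin d => typ c = α),
      (mono c : MvPolynomial (Fin d) R) ⊗ₜ[R] (Ideal.Quotient.mkₐ R (J b) (wv b c)) =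
      (monomial α 1 : MvPolynomial (Fin d) R) ⊗ₜ[R] (Ideal.Quotient.mkₐ R (J b) (wv b c)) := by
    intro c hc
    rw [mono_eq, (Finset.mem_filter.mp hc).2]
  have h2 : Ideal.Quotient.mkₐ R (J b)
      (∑ c ∈ Finset.univ.filter (fun c : Fin d → Fin d => typ c = α), wv b c) = 0 := by
    rw [Ideal.Quotient.mkₐ_eq_mk]
    exact Ideal.Quotient.eq_zero_iff_mem.mpr (fiber_sum_mem_J b α)
  rw [Finset.sum_congr rfl h1, ← TensorProduct.tmul_sum, ← map_sum, h2, TensorProduct.tmul_zero]

theorem claimA (b : Module.Basis (Fin d) R R') [Module.Free R R'] [Module.Finite R R']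
    (hd : Module.finrank R R' = d) :
    ((Ideal.Quotient.mkₐ R (J b)).toLinearMap).lTensor (MvPolynomial (Fin d) R)
      ((SymTen.tpowLaw R R' d).law.toFun' (MvPolynomial (Fin d) R)
        (∑ i, (X i : MvPolynomial (Fin d) R) ⊗ₜ[R] b i)) =
    ((Algebra.ofId R ((⨂[R] _ : Fin d, R') ⧸ J b)).toLinearMap).lTensor (MvPolynomial (Fin d) R)
      ((PolLaw.normLaw R R' d hd).law.toFun' (MvPolynomial (Fin d) R)
        (∑ i, (X i : MvPolynomial (Fin d) R) ⊗ₜ[R] b i)) := by
  have hL : ((Ideal.Quotient.mkₐ R (J b)).toLinearMap).lTensor (MvPolynomial (Fin d) R)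
      ((SymTen.tpowLaw R R' d).law.toFun' (MvPolynomial (Fin d) R)
        (∑ i, (X i : MvPolynomial (Fin d) R) ⊗ₜ[R] b i)) =
      ∑ c : Fin d → Fin d, (mono c : MvPolynomial (Fin d) R) ⊗ₜ[R]
        (Ideal.Quotient.mkₐ R (J b) (tprod R fun j => b (c j))) := by
    rw [tpow_formula, map_sum]
    refine Finset.sum_congr rfl fun c _ => ?_
    rw [LinearMap.lTensor_tmul]
    rfl
  have hR : ((Algebra.ofId R ((⨂[R] _ : Fin d, R') ⧸ J b)).toLinearMap).lTensor
      (MvPolynomial (Fin d) R)
      ((PolLaw.normLaw R R' d hd).law.toFun' (MvPolynomial (Fin d) R)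
        (∑ i, (X i : MvPolynomial (Fin d) R) ⊗ₜ[R] b i)) =
      ∑ c : Fin d → Fin d, ((mono c : MvPolynomial (Fin d) R) *
        C (b.det fun j => b (c j) * b j)) ⊗ₜ[R] (1 : (⨂[R] _ : Fin d, R') ⧸ J b) := by
    rw [PolLaw.normLaw_apply, norm_formula b, det_Nmat b ⇑b, LinearMap.lTensor_tmul,
      TensorProduct.sum_tmul]
    refine Finset.sum_congr rfl fun c _ => ?_
    congr 1
    exact map_one (Algebra.ofId R ((⨂[R] _ : Fin d, R') ⧸ J b))
  rw [hL, hR, ← sub_eq_zero, ← Finset.sum_sub_distrib, ← fiber_zero b]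
  refine Finset.sum_congr rfl fun c _ => ?_
  have h3 : (mono c : MvPolynomial (Fin d) R) ⊗ₜ[R]
      ((b.det fun j => b (c j) * b j) • (1 : (⨂[R] _ : Fin d, R') ⧸ J b)) =
      ((mono c : MvPolynomial (Fin d) R) * C (b.det fun j => b (c j) * b j)) ⊗ₜ[R]
        (1 : (⨂[R] _ : Fin d, R') ⧸ J b) := by
    rw [mul_comm, MvPolynomial.C_mul', TensorProduct.smul_tmul]
  have h4 : Ideal.Quotient.mkₐ R (J b) (wv b c) =
      Ideal.Quotient.mkₐ R (J b) (tprod R fun j => b (c j)) -
        (b.det fun j => b (c j) * b j) • (1 : (⨂[R] _ : Fin d, R') ⧸ J b) := by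
    unfold wv
    rw [map_sub, map_smul, map_one]
  rw [h4, TensorProduct.tmul_sub, h3]

theorem exists_repr (b : Module.Basis (Fin d) R R') (S : Type u) [CommSemiring S] [Algebra R S]
    (x : S ⊗[R] R') : ∃ s : Fin d → S, x = ∑ i, s i ⊗ₜ[R] b i := by
  induction x using TensorProduct.induction_on with
  | zero => exact ⟨0, by simp⟩
  | tmul s r =>
    refine ⟨fun i => b.repr r i • s, ?_⟩
    conv_lhs => rw [← b.sum_repr r]
    rw [TensorProduct.tmul_sum]
    refine Finset.sum_congr rfl fun i _ => ?_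
    rw [TensorProduct.tmul_smul, TensorProduct.smul_tmul']
  | add x y hx hy =>
    obtain ⟨s, hs⟩ := hx
    obtain ⟨s', hs'⟩ := hy
    refine ⟨s + s', ?_⟩
    rw [hs, hs', ← Finset.sum_add_distrib]
    refine Finset.sum_congr rfl fun i _ => ?_
    rw [Pi.add_apply, TensorProduct.add_tmul]

theorem claimS (b : Module.Basis (Fin d) R R') [Module.Free R R'] [Module.Finite R R']
    (hd : Module.finrank R R' = d) (S : Type u) [CommSemiring S] [Algebra R S] (x : S ⊗[R] R') :
    ((Ideal.Quotient.mkₐ R (J b)).toLinearMap).lTensor S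
      ((SymTen.tpowLaw R R' d).law.toFun' S x) =
    ((Algebra.ofId R ((⨂[R] _ : Fin d, R') ⧸ J b)).toLinearMap).lTensor S
      ((PolLaw.normLaw R R' d hd).law.toFun' S x) := by
  obtain ⟨s, rfl⟩ := exists_repr b S x
  obtain ⟨ev, hev⟩ : ∃ ev : MvPolynomial (Fin d) R →ₐ[R] S, ∀ i, ev (X i) = s i :=
    ⟨MvPolynomial.aeval s, fun i => MvPolynomial.aeval_X s i⟩
  have hx : ev.toLinearMap.rTensor R' (∑ i, (X i : MvPolynomial (Fin d) R) ⊗ₜ[R] b i) =
      ∑ i, s i ⊗ₜ[R] b i := by
    rw [map_sum]
    refine Finset.sum_congr rfl fun i _ => ?_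
    rw [LinearMap.rTensor_tmul, AlgHom.toLinearMap_apply, hev]
  have e1 : ∀ (N N' : Type u) [AddCommGroup N] [Module R N] [AddCommGroup N'] [Module R N']
      (g : N →ₗ[R] N') (z : MvPolynomial (Fin d) R ⊗[R] N),
      g.lTensor S (ev.toLinearMap.rTensor N z) =
        ev.toLinearMap.rTensor N' (g.lTensor (MvPolynomial (Fin d) R) z) := by
    intro N N' _ _ _ _ g z
    rw [← LinearMap.comp_apply, ← LinearMap.comp_apply, LinearMap.lTensor_comp_rTensor,
      LinearMap.rTensor_comp_lTensor]
  rw [← hx, ← PolynomialLaw.isCompat_apply', ← PolynomialLaw.isCompat_apply', e1, e1,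
    claimA b hd]

end law



/-- Let R be a commutative ring and R' a commutative R-algebra that is free of rank d as an R-module.
Let (C, γ) be the degree-d divided power algebra of R' over R, given as an R-algebra C with a
multiplicative homogeneous degree-d polynomial law γ : R' → C that is universal among such laws; let
φ : C → T^d_R(R') be the R-algebra homomorphism into the d-fold tensor power whose composite with γ
is the law x ↦ x ⊗ ⋯ ⊗ x, and π : C → R the R-algebra homomorphism whose composite with γ is the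
norm law of R' over R. Let T^d_R(R') act on itself factor by factor and let I_d ⊂ T^d_R(R') be the
R-span of the pure tensors with two equal factors, so that T^d_R(R')/I_d is the top exterior power
Λ^d_R(R'), free of rank one. Then for every c ∈ C and every x ∈ T^d_R(R') the element φ(c)·x − π(c)
x lies in I_d: the symmetric tensor φ(c) acts on Λ^d_R(R') as multiplication by the scalar π(c),
i.e. the homomorphism TS^d_R(R') → R given by the action on the top exterior power, composed with φ,
equals π. (The source states this for R' finite locally free of constant rank d; the free case is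
the affine-local form.) -/
theorem result (R : Type u) [CommRing R] (R' : Type u) [CommRing R']
    [Algebra R R'] [Module.Free R R'] [Module.Finite R R'] (d : ℕ) (hd : Module.finrank R R' = d)
    {C : Type u} [CommRing C] [Algebra R C] (γ : PolLaw.MulLaw R R' C d) (hγ : PolLaw.IsGammaD γ)
    (φ : C →ₐ[R] (⨂[R] _ : Fin d, R')) (hφ : PolLaw.MulLaw.postcomp φ γ = SymTen.tpowLaw R R' d)
    (π : C →ₐ[R] R) (hπ : PolLaw.MulLaw.postcomp π γ = PolLaw.normLaw R R' d hd)
    (c : C) (x : ⨂[R] _ : Fin d, R') :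
    SymTen.tpowAct R R' R' d (φ c) x - π c • x ∈ SymTen.altSpan R R' d := by
  classical
  rcases subsingleton_or_nontrivial R with hR | hR
  · haveI : Subsingleton (⨂[R] _ : Fin d, R') := Module.subsingleton R _
    rw [Subsingleton.elim (SymTen.tpowAct R R' R' d (φ c) x - π c • x) 0]
    exact zero_mem _
  obtain ⟨b⟩ : Nonempty (Module.Basis (Fin d) R R') := ⟨Module.finBasisOfFinrankEq R R' hd⟩
  obtain ⟨u, hu⟩ : ∃ u : C →ₐ[R] ((⨂[R] _ : Fin d, R') ⧸ J b),
      u = (Ideal.Quotient.mkₐ R (J b)).comp φ := ⟨_, rfl⟩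
  obtain ⟨v, hv⟩ : ∃ v : C →ₐ[R] ((⨂[R] _ : Fin d, R') ⧸ J b),
      v = (Algebra.ofId R ((⨂[R] _ : Fin d, R') ⧸ J b)).comp π := ⟨_, rfl⟩
  have huv : u = v := by
    obtain ⟨f, hf, huniq⟩ := hγ _ (PolLaw.MulLaw.postcomp u γ)
    have h1 : u = f := huniq u rfl
    have h2 : v = f := by
      apply huniq v
      apply PolynomialLaw.ext
      funext S _ _ x
      have e1 : π.toLinearMap.lTensor S (γ.law.toFun' S x) =
          (PolLaw.normLaw R R' d hd).law.toFun' S x :=
        congrArg (fun F : PolLaw.MulLaw R R' R d => F.law.toFun' S x) hπ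
      have e2 : φ.toLinearMap.lTensor S (γ.law.toFun' S x) =
          (SymTen.tpowLaw R R' d).law.toFun' S x :=
        congrArg (fun F : PolLaw.MulLaw R R' (⨂[R] _ : Fin d, R') d => F.law.toFun' S x) hφ
      show v.toLinearMap.lTensor S (γ.law.toFun' S x) = u.toLinearMap.lTensor S (γ.law.toFun' S x)
      rw [hu, hv, AlgHom.comp_toLinearMap, AlgHom.comp_toLinearMap, LinearMap.lTensor_comp,
        LinearMap.lTensor_comp, LinearMap.comp_apply, LinearMap.comp_apply, e1, e2]
      exact (claimS b hd S x).symm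
    rw [h1, h2]
  have hc : φ c - algebraMap R (⨂[R] _ : Fin d, R') (π c) ∈ J b := by
    rw [← Ideal.Quotient.eq]
    have h := AlgHom.congr_fun huv c
    rw [hu, hv] at h
    exact h
  apply mem_altSpan_of_Del_eq_zero b
  rw [tpowAct_eq_mul]
  have h := (mem_J b _).mp hc x
  rw [sub_mul, ← Algebra.smul_def] at h
  exact h


end Groth.Agent.S19898
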