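import Groth.Statements.S19904
import Mathlib.CategoryTheory.Limits.Types.Pullbacks
import Mathlib.CategoryTheory.Limits.Shapes.Pullback.IsPullback.Basic
import Mathlib.CategoryTheory.Limits.Preserves.Shapes.Pullbacks
-- import your own Groth.Agent.* helpers here

set_option autoImplicit false
universe u v
open CategoryTheory
open ArtFun

namespace Groth.Agent.S19904

/-- For functors F, G, G' on Artinian local Λ-algebras with residue field k and morphisms φ : F → G, ψ :
G' → G: if φ is smooth then the base change F ×_G G' → G' (second projection of the fibre product of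
functors) is smooth. -/
theorem result {Λ : Type u} {k : Type u} [CommRing Λ] [Field k] [Algebra Λ k]
    [IsNoetherianRing Λ] [Module.Finite Λ k]
    {F G G' : ArtFun.Art Λ k ⥤ Type v} (φ : F ⟶ G) (ψ : G' ⟶ G) (hφ : ArtFun.IsSmooth φ) :
    ArtFun.IsSmooth (Limits.pullback.snd φ ψ) := by
  intro B A μ hμ
  -- pointwise pullback squares
  have hPB : ∀ C : ArtFun.Art Λ k, IsPullback ((Limits.pullback.fst φ ψ).app C)
      ((Limits.pullback.snd φ ψ).app C) (φ.app C) (ψ.app C) := fun C =>
    (IsPullback.of_hasPullback φ ψ).map ((evaluation (ArtFun.Art Λ k) (Type v)).obj C)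
  rintro ⟨⟨x, y⟩, hxy⟩
  -- hxy : (pullback.snd φ ψ).app A x = G'.map μ y
  have hxy' : (Limits.pullback.snd φ ψ).app A x = G'.map μ y := hxy
  -- the element of `RelFib φ μ`
  have hcomm : φ.app A ((Limits.pullback.fst φ ψ).app A x) = G.map μ (ψ.app B y) := by
    have h1 : φ.app A ((Limits.pullback.fst φ ψ).app A x) =
        ψ.app A ((Limits.pullback.snd φ ψ).app A x) := by
      simpa using ConcreteCategory.congr_hom (hPB A).w x
    rw [h1, hxy']
    exact NatTrans.naturality_apply ψ μ y
  obtain ⟨fB, hfB⟩ := hφ μ hμ ⟨((Limits.pullback.fst φ ψ).app A x, ψ.app B y), hcomm⟩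
  have hfB1 : F.map μ fB = (Limits.pullback.fst φ ψ).app A x := by
    have := congrArg (fun t => t.1.1) hfB
    exact this
  have hfB2 : φ.app B fB = ψ.app B y := by
    have := congrArg (fun t => t.1.2) hfB
    exact this
  obtain ⟨z, hz1, hz2⟩ := Limits.Types.exists_of_isPullback (hPB B) fB y hfB2
  refine ⟨z, ?_⟩
  apply Subtype.ext
  apply Prod.ext
  · -- first component
    change (Limits.pullback φ ψ).map μ z = x
    apply Limits.Types.ext_of_isPullback (hPB A)
    · rw [← hfB1, ← hz1]
      exact NatTrans.naturality_apply (Limits.pullback.fst φ ψ) μ z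
    · rw [hxy', ← hz2]
      exact NatTrans.naturality_apply (Limits.pullback.snd φ ψ) μ z
  · exact hz2

end Groth.Agent.S19904
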