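import Groth.Statements.S19907
import Mathlib

set_option autoImplicit false
universe u
open CategoryTheory TensorProduct
open ArtFun

namespace Groth.Agent.S19907

open TensorProduct Algebra Polynomial

variable {R S T : Type u} [CommRing R] [CommRing S] [CommRing T]
variable [Algebra R S] [Algebra R T] [Algebra S T] [IsScalarTower R S T]

set_option backward.isDefEq.respectTransparency false in
/-- the canonical hom from the standard extension to any extension. -/
noncomputable def selfHom (Q : Extension.{u} R T) : (Generators.self R T).toExtension.Hom Q :=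
  { toRingHom := (MvPolynomial.aeval Q.σ).toRingHom
    toRingHom_algebraMap := (MvPolynomial.aeval Q.σ).commutes
    algebraMap_toRingHom := by
      have : (IsScalarTower.toAlgHom R Q.Ring T).comp (MvPolynomial.aeval Q.σ) =
          IsScalarTower.toAlgHom _ (Generators.self R T).toExtension.Ring _ := by
        ext i
        change _ = algebraMap (Generators.self R T).Ring _ (.X i)
        simp
      exact DFunLike.congr_fun this }

set_option backward.isDefEq.respectTransparency false in
theorem lemA (P : Extension.{u} R S) (Q : Extension.{u} R T) (f : P.Hom Q)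
    [FormallySmooth R P.Ring] [FormallySmooth R Q.Ring]
    (h : Function.Bijective ((Extension.H1Cotangent.map f).liftBaseChange T)) :
    Function.Bijective ((Algebra.H1Cotangent.map R R S T).liftBaseChange T) := by
  haveI : FormallySmooth R (Generators.self R S).toExtension.Ring :=
    inferInstanceAs (FormallySmooth R (MvPolynomial _ _))
  haveI : FormallySmooth R (Generators.self R T).toExtension.Ring :=
    inferInstanceAs (FormallySmooth R (MvPolynomial _ _))
  let eP := Extension.H1Cotangent.equivOfFormallySmooth (Generators.self R S).toExtension P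
  let eQ := Extension.H1Cotangent.equivOfFormallySmooth (Generators.self R T).toExtension Q
  have hcomm : ∀ x, eQ (Algebra.H1Cotangent.map R R S T x) = Extension.H1Cotangent.map f (eP x) := by
    intro x
    rw [Extension.H1Cotangent.equivOfFormallySmooth_apply (selfHom Q),
      Extension.H1Cotangent.equivOfFormallySmooth_apply (selfHom P), Algebra.H1Cotangent.map,
      ← Extension.H1Cotangent.map_comp_apply, ← Extension.H1Cotangent.map_comp_apply,
      Extension.H1Cotangent.map_eq]
  let bP := LinearEquiv.baseChange S T _ _ eP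
  have hz : ∀ z, eQ ((Algebra.H1Cotangent.map R R S T).liftBaseChange T z) =
      (Extension.H1Cotangent.map f).liftBaseChange T (bP z) := by
    intro z
    induction z with
    | zero => simp
    | add x y hx hy => simp only [map_add, hx, hy]
    | tmul t x =>
      simp only [LinearMap.liftBaseChange_tmul, map_smul, hcomm, bP]
      rfl
  have heq : ⇑((Algebra.H1Cotangent.map R R S T).liftBaseChange T) =
      eQ.symm ∘ ((Extension.H1Cotangent.map f).liftBaseChange T) ∘ bP := by
    funext z
    simp only [Function.comp_apply]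
    rw [← hz, LinearEquiv.symm_apply_apply]
  rw [heq]
  exact eQ.symm.bijective.comp (h.comp bP.bijective)

/-- primitive element data for a finite separable extension. -/
theorem lemB (K k : Type u) [Field K] [Field k] [Algebra K k] [FiniteDimensional K k]
    [Algebra.IsSeparable K k] :
    ∃ (α : k) (g : K[X]), g.Monic ∧ aeval α g = 0 ∧ aeval α (derivative g) ≠ 0 ∧
      (∀ h : K[X], aeval α h = 0 → g ∣ h) ∧ Algebra.adjoin K {α} = ⊤ := by
  obtain ⟨α, hα⟩ := Field.exists_primitive_element K k
  have hint : IsIntegral K α := Algebra.IsIntegral.isIntegral α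
  refine ⟨α, minpoly K α, minpoly.monic hint, minpoly.aeval K α, ?_, fun h hh => minpoly.dvd K α hh, ?_⟩
  · exact (Algebra.IsSeparable.isSeparable K α).aeval_derivative_ne_zero (minpoly.aeval K α)
  · have := IntermediateField.adjoin_simple_toSubalgebra_of_isAlgebraic hint.isAlgebraic
    rw [← this, hα]
    rfl

/-- the canonical standard étale presentation of a standard étale algebra. -/
noncomputable def sep {R : Type u} [CommRing R] (P : StandardEtalePair R) :
    StandardEtalePresentation R P.Ring :=
  ⟨P, P.X, P.hasMap_X, by simpa [StandardEtalePair.lift_X_left] using Function.bijective_id⟩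

theorem aeval_mem_map_of_coeff_mem {R E : Type u} [CommRing R] [CommRing E] [Algebra R E]
    (m : Ideal R) (x : E) (h : R[X]) (hh : ∀ i, h.coeff i ∈ m) :
    aeval x h ∈ Ideal.map (algebraMap R E) m := by
  rw [aeval_eq_sum_range]
  refine Ideal.sum_mem _ (fun i _ => ?_)
  rw [Algebra.smul_def]
  exact Ideal.mul_mem_right _ _ (Ideal.mem_map_of_mem _ (hh i))

theorem lemC (Λ K k : Type u) [CommRing Λ] [CommRing K] [Field k] [Algebra Λ K] [Algebra K k]
    [Algebra Λ k] [IsScalarTower Λ K k] (hsurj : Function.Surjective (algebraMap Λ K))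
    (α : k) (g : K[X]) (hg : g.Monic) (hroot : aeval α g = 0)
    (hder : aeval α (derivative g) ≠ 0) (hmin : ∀ h : K[X], aeval α h = 0 → g ∣ h)
    (hadj : Algebra.adjoin K {α} = ⊤) :
    ∃ (P : StandardEtalePair Λ) (π : P.Ring →ₐ[Λ] k), Function.Surjective π ∧
      RingHom.ker π = Ideal.map (algebraMap Λ P.Ring) (RingHom.ker (algebraMap Λ K)) := by
  -- lift `g`
  obtain ⟨G, hGmap, -, hGmonic⟩ := Polynomial.lifts_and_natDegree_eq_and_monic
    ((Polynomial.mem_lifts g).mpr (Polynomial.map_surjective _ hsurj g)) hg
  have haeval : ∀ H : Λ[X], aeval α H = aeval α (H.map (algebraMap Λ K)) := fun H =>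
    (aeval_map_algebraMap K α H).symm
  let P : StandardEtalePair Λ := ⟨G, hGmonic, derivative G, ⟨1, 0, 1, by simp⟩⟩
  have hmap : P.HasMap α := by
    refine ⟨?_, ?_⟩
    · show aeval α G = 0
      rw [haeval, hGmap, hroot]
    · show IsUnit (aeval α (derivative G))
      rw [haeval, ← derivative_map, hGmap]
      exact IsUnit.mk0 _ hder
  let π : P.Ring →ₐ[Λ] k := P.lift α hmap
  have hπX : π P.X = α := P.lift_X α hmap
  have hπaeval : ∀ H : Λ[X], π (aeval P.X H) = aeval α H := fun H => by
    rw [← aeval_algHom_apply, hπX]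
  refine ⟨P, π, ?_, ?_⟩
  · intro y
    have hy : y ∈ Algebra.adjoin K {α} := by rw [hadj]; trivial
    rw [Algebra.adjoin_singleton_eq_range_aeval] at hy
    obtain ⟨h, rfl⟩ := hy
    obtain ⟨H, rfl⟩ := Polynomial.map_surjective _ hsurj h
    exact ⟨aeval P.X H, by rw [hπaeval, haeval]; rfl⟩
  · apply le_antisymm
    · intro z hz
      obtain ⟨H, n, hHn⟩ := (sep P).exists_mul_aeval_x_g_pow_eq_aeval_x z
      have hHn' : z * aeval P.X (derivative G) ^ n = aeval P.X H := hHn
      have hH0 : aeval α H = 0 := by
        rw [← hπaeval, ← hHn', map_mul, (RingHom.mem_ker).mp hz, zero_mul]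
      rw [haeval] at hH0
      obtain ⟨q, hq⟩ := hmin _ hH0
      obtain ⟨Q, rfl⟩ := Polynomial.map_surjective _ hsurj q
      have hcoeff : ∀ i, (H - G * Q).coeff i ∈ RingHom.ker (algebraMap Λ K) := by
        intro i
        rw [RingHom.mem_ker, ← Polynomial.coeff_map, Polynomial.map_sub, Polynomial.map_mul, hq,
          hGmap, sub_self, coeff_zero]
      have h1 := aeval_mem_map_of_coeff_mem (E := P.Ring) _ P.X _ hcoeff
      have hGX : aeval P.X G = 0 := P.hasMap_X.1
      rw [map_sub, map_mul, hGX, zero_mul, sub_zero, ← hHn'] at h1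
      have hunit : IsUnit (aeval P.X (derivative G) ^ n) := (P.hasMap_X.2).pow n
      obtain ⟨u, hu⟩ := hunit
      have : z = (z * aeval P.X (derivative G) ^ n) * ↑u⁻¹ := by
        rw [← hu, mul_assoc, Units.mul_inv, mul_one]
      rw [this]
      exact Ideal.mul_mem_right _ _ h1
    · rw [Ideal.map_le_iff_le_comap]
      intro a ha
      rw [Ideal.mem_comap, RingHom.mem_ker, AlgHom.commutes,
        IsScalarTower.algebraMap_apply Λ K k, (RingHom.mem_ker).mp ha, map_zero]

set_option backward.isDefEq.respectTransparency false in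
theorem lemD (Λ K k E : Type u) [CommRing Λ] [CommRing K] [CommRing k] [Algebra Λ K] [Algebra K k]
    [Algebra Λ k] [IsScalarTower Λ K k] (hsurj : Function.Surjective (algebraMap Λ K))
    [Module.Flat K k] [CommRing E] [Algebra Λ E] [Algebra.FormallyEtale Λ E] [Module.Flat Λ E]
    (π : E →ₐ[Λ] k) (hπ : Function.Surjective π)
    (hker : RingHom.ker π = Ideal.map (algebraMap Λ E) (RingHom.ker (algebraMap Λ K))) :
    ∃ (P : Extension.{u} Λ K) (Q : Extension.{u} Λ k) (f : P.Hom Q),
      FormallySmooth Λ P.Ring ∧ FormallySmooth Λ Q.Ring ∧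
      Function.Bijective ((Extension.H1Cotangent.map f).liftBaseChange k) := by
  let P : Extension.{u} Λ K := Extension.ofSurjective (Algebra.ofId Λ K) hsurj
  let Q : Extension.{u} Λ k := Extension.ofSurjective π hπ
  let f : P.Hom Q :=
    { toRingHom := algebraMap Λ E
      toRingHom_algebraMap := fun x => rfl
      algebraMap_toRingHom := fun x => by
        show π (algebraMap Λ E x) = algebraMap K k (algebraMap Λ K x)
        rw [AlgHom.commutes, ← IsScalarTower.algebraMap_apply] }
  letI alg : Algebra P.Ring Q.Ring := (inferInstance : Algebra Λ E)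
  have halg : algebraMap P.Ring Q.Ring = f.toRingHom := rfl
  have hP : FormallySmooth Λ P.Ring := inferInstanceAs (FormallySmooth Λ Λ)
  have hQ : FormallySmooth Λ Q.Ring := inferInstanceAs (FormallySmooth Λ E)
  have H₁ : f.toRingHom.FormallyEtale :=
    RingHom.formallyEtale_algebraMap.mpr (inferInstanceAs (FormallyEtale Λ E))
  have hPker : P.ker = RingHom.ker (algebraMap Λ K) := rfl
  have hQker : Q.ker = RingHom.ker π := rfl
  have H₂ : Function.Bijective ((f.mapKer halg).liftBaseChange Q.Ring) := by
    have happ : ∀ (e : Q.Ring) (x : P.ker),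
        (((f.mapKer halg).liftBaseChange Q.Ring) (e ⊗ₜ x)).1 = e * algebraMap P.Ring Q.Ring x.1 := by
      intro e x
      rw [LinearMap.liftBaseChange_tmul]
      rfl
    haveI : Module.Flat P.Ring Q.Ring := inferInstanceAs (Module.Flat Λ E)
    constructor
    · -- injectivity from flatness
      have hinj : Function.Injective (LinearMap.lTensor Q.Ring (Submodule.subtype P.ker)) :=
        Module.Flat.lTensor_preserves_injective_linearMap (M := Q.Ring) _
          (Submodule.subtype_injective _)
      have hcomp : ∀ z, (((f.mapKer halg).liftBaseChange Q.Ring) z).1 =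
          TensorProduct.rid P.Ring Q.Ring (LinearMap.lTensor Q.Ring (Submodule.subtype P.ker) z) := by
        intro z
        induction z with
        | zero => simp
        | add x y hx hy =>
          rw [map_add, map_add, map_add, ← hx, ← hy]
          rfl
        | tmul e x =>
          rw [happ, LinearMap.lTensor_tmul, TensorProduct.rid_tmul, Algebra.smul_def, mul_comm]
          rfl
      intro z₁ z₂ h12
      apply hinj
      apply (TensorProduct.rid P.Ring Q.Ring).injective
      rw [← hcomp, ← hcomp, h12]
    · -- surjectivity from the description of the kernel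
      let L := (f.mapKer halg).liftBaseChange Q.Ring
      let J : Ideal Q.Ring := (LinearMap.range L).map (Submodule.subtype Q.ker)
      have hJ : Ideal.map (algebraMap P.Ring Q.Ring) P.ker ≤ J := by
        rw [Ideal.map_le_iff_le_comap]
        intro x hx
        rw [Ideal.mem_comap]
        refine ⟨L ((1 : Q.Ring) ⊗ₜ ⟨x, hx⟩), ⟨_, rfl⟩, ?_⟩
        show (L ((1 : Q.Ring) ⊗ₜ ⟨x, hx⟩)).1 = algebraMap P.Ring Q.Ring x
        rw [happ, one_mul]
      intro y
      have hy : y.1 ∈ J := by
        apply hJ
        have h1 : y.1 ∈ RingHom.ker π := y.2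
        rw [hker] at h1
        exact h1
      obtain ⟨z, ⟨w, rfl⟩, hz⟩ := hy
      exact ⟨w, Subtype.ext hz⟩
  refine ⟨P, Q, f, hP, hQ, ?_⟩
  exact (Extension.tensorH1CotangentOfFormallyEtale f halg H₁ H₂).bijective

/-- Let Λ be a Noetherian ring with a finite ring map to a field k, let k' ⊂ k be the image of Λ and m_Λ
the kernel, so that m_Λ/m_Λ² = H₁(L_{k'/Λ}) (Λ → k' being surjective with kernel m_Λ). If k is
separable over k', the canonical map m_Λ/m_Λ² ⊗_{k'} k → H₁(L_{k/Λ}) is an isomorphism. Stated for
H₁(L_{k'/Λ}) in place of m_Λ/m_Λ²: the k-linear base change of the functoriality map H₁(L_{k'/Λ}) →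
H₁(L_{k/Λ}) is bijective. (The general construction of the map and the case k = k' are the other
assertions of the source; only the separable case is stated here.) -/
theorem result {Λ : Type u} {k : Type u} [CommRing Λ] [Field k] [Algebra Λ k]
    [IsNoetherianRing Λ] [Module.Finite Λ k]
    [Algebra.IsSeparable (↥(algebraMap Λ k).range) k] :
    letI : Algebra Λ (↥(algebraMap Λ k).range) := (algebraMap Λ k).rangeRestrict.toAlgebra
    letI : IsScalarTower Λ (↥(algebraMap Λ k).range) k := IsScalarTower.of_algebraMap_eq (fun _ ↦ rfl)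
    Function.Bijective ((Algebra.H1Cotangent.map Λ Λ (↥(algebraMap Λ k).range) k).liftBaseChange k) := by
  letI inst1 : Algebra Λ (↥(algebraMap Λ k).range) := (algebraMap Λ k).rangeRestrict.toAlgebra
  letI inst2 : IsScalarTower Λ (↥(algebraMap Λ k).range) k :=
    IsScalarTower.of_algebraMap_eq (fun _ ↦ rfl)
  have hsurj : Function.Surjective (algebraMap Λ ↥(algebraMap Λ k).range) :=
    (algebraMap Λ k).rangeRestrict_surjective
  haveI hfin : Module.Finite ↥(algebraMap Λ k).range k :=
    Module.Finite.of_restrictScalars_finite Λ ↥(algebraMap Λ k).range k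
  have hfield : IsField ↥(algebraMap Λ k).range :=
    isField_of_isIntegral_of_isField (R := ↥(algebraMap Λ k).range) (S := k)
      Subtype.val_injective (Field.toIsField k)
  obtain ⟨α, g, hg, hroot, hder, hmin, hadj⟩ : ∃ (α : k) (g : (↥(algebraMap Λ k).range)[X]),
      g.Monic ∧ Polynomial.aeval α g = 0 ∧ Polynomial.aeval α (Polynomial.derivative g) ≠ 0 ∧
      (∀ h : (↥(algebraMap Λ k).range)[X], Polynomial.aeval α h = 0 → g ∣ h) ∧
      Algebra.adjoin ↥(algebraMap Λ k).range {α} = ⊤ :=
    @lemB ↥(algebraMap Λ k).range k hfield.toField _ _ hfin ‹_›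
  obtain ⟨P, π, hπ, hker⟩ := lemC Λ ↥(algebraMap Λ k).range k hsurj α g hg hroot hder hmin hadj
  haveI : Module.Flat ↥(algebraMap Λ k).range k := by
    letI := hfield.toField
    infer_instance
  obtain ⟨P', Q', f, hP, hQ, hbij⟩ := lemD Λ ↥(algebraMap Λ k).range k P.Ring hsurj π hπ hker
  exact lemA P' Q' f hbij

end Groth.Agent.S19907
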