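import Groth.Statements.S19912
import Mathlib
import Groth.Agent.Lib.Helper15.Regular

set_option autoImplicit false
universe u
open CategoryTheory CategoryTheory.Limits AlgebraicGeometry
open Models

namespace Groth.Agent.S19912

/-- Let R be a discrete valuation ring with fraction field K and YR a scheme over Spec R. Let V be a
discrete valuation ring which is an R-algebra in such a way that the maximal ideal of R generates
the maximal ideal of V (ramification index one), and let σ : Spec V -> YR be a morphism over Spec R
sending the closed point of Spec V to y. If the local ring of YR at y is regular, then the local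
ring at y of the special fibre of YR, namely O_{YR,y}/𝔪_R O_{YR,y}, is regular. (The published
statement takes YR a normal projective flat model of a smooth projective geometrically connected
curve Y over K and phrases the hypothesis through a point Q of Y rational over an extension L of K
unramified over K with y in the closure of Q: by the valuative criterion such a point yields a
morphism as above from the spectrum of the localization of the integral closure of R in L at a
maximal ideal over y, which is the form used here.) -/
theorem result
    (R : Type u) [CommRing R] [IsDomain R] [IsDiscreteValuationRing R]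
    (YR : Over (Spec (CommRingCat.of R)))
    (V : Type u) [CommRing V] [IsDomain V] [IsDiscreteValuationRing V] [Algebra R V]
    (hV : Ideal.map (algebraMap R V) (IsLocalRing.maximalIdeal R) = IsLocalRing.maximalIdeal V)
    (σ : Spec (CommRingCat.of V) ⟶ YR.left)
    (hσ : σ ≫ YR.hom = Spec.map (CommRingCat.ofHom (algebraMap R V)))
    (y : YR.left) (hy : σ.base (IsLocalRing.closedPoint V) = y)
    (hreg : IsRegularLocalRing (YR.left.presheaf.stalk y)) :
    IsRegularLocalRing (YR.left.presheaf.stalk y ⧸
      Ideal.map (Models.stalkHom R YR y) (IsLocalRing.maximalIdeal R)) := by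
  subst hy
  have key : ∀ r : R, (Scheme.stalkClosedPointTo σ).hom
      (Models.stalkHom R YR (σ.base (IsLocalRing.closedPoint V)) r) = algebraMap R V r := by
    intro r
    have h1 := Scheme.germ_stalkClosedPointTo σ ⊤ trivial
    have h2 := congrArg (fun f => f.hom ((Coh.toGlobal YR.hom) r)) h1
    simp only [CommRingCat.hom_comp] at h2
    have h3 : (Scheme.ΓSpecIso (CommRingCat.of R)).inv ≫ YR.hom.appTop ≫ σ.appTop ≫
        (Scheme.ΓSpecIso (CommRingCat.of V)).hom = CommRingCat.ofHom (algebraMap R V) := by
      rw [← Category.assoc YR.hom.appTop, ← Scheme.Hom.comp_appTop, hσ,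
        Scheme.ΓSpecIso_naturality, Iso.inv_hom_id_assoc]
    have h4 := congrArg (fun f => f.hom r) h3
    simp only [CommRingCat.hom_comp, CommRingCat.hom_ofHom, RingHom.comp_apply] at h4
    refine h2.trans ?_
    rw [← h4]
    simp only [Coh.toGlobal, Iso.trans_hom, Functor.mapIso_hom, CommRingCat.hom_comp]
    rfl
  obtain ⟨ϖ, hϖ⟩ := IsDiscreteValuationRing.exists_irreducible R
  have hmR : IsLocalRing.maximalIdeal R = Ideal.span {ϖ} := hϖ.maximalIdeal_eq
  have hmV : IsLocalRing.maximalIdeal V = Ideal.span {algebraMap R V ϖ} := by
    rw [← hV, hmR, Ideal.map_span, Set.image_singleton]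
  have hϖ' : Irreducible (algebraMap R V ϖ) :=
    (IsDiscreteValuationRing.irreducible_iff_uniformizer _).mpr hmV
  set O := YR.left.presheaf.stalk (σ.base (IsLocalRing.closedPoint V)) with hO
  set φ := Models.stalkHom R YR (σ.base (IsLocalRing.closedPoint V)) with hφ
  set ψ := (Scheme.stalkClosedPointTo σ).hom with hψ
  have hloc : IsLocalHom ψ := Scheme.isLocalHom_stalkClosedPointTo' σ
  have e : Ideal.map φ (IsLocalRing.maximalIdeal R) = Ideal.span {φ ϖ} := by
    rw [hmR, Ideal.map_span, Set.image_singleton]
  have h1 : φ ϖ ∈ IsLocalRing.maximalIdeal O := by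
    rw [IsLocalRing.mem_maximalIdeal, mem_nonunits_iff]
    intro hu
    have := hu.map ψ
    rw [key] at this
    exact hϖ'.not_isUnit this
  have h2 : φ ϖ ∉ IsLocalRing.maximalIdeal O ^ 2 := by
    intro hmem
    have h3 : Ideal.map ψ (IsLocalRing.maximalIdeal O) ≤ IsLocalRing.maximalIdeal V := by
      rw [Ideal.map_le_iff_le_comap]
      intro a ha
      exact _root_.map_nonunit ψ a ha
    have h4 : ψ (φ ϖ) ∈ IsLocalRing.maximalIdeal V ^ 2 := by
      have := Ideal.mem_map_of_mem ψ hmem
      rw [Ideal.map_pow] at this
      exact Ideal.pow_right_mono h3 2 this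
    rw [key, hmV, Ideal.span_singleton_pow, Ideal.mem_span_singleton] at h4
    have := (pow_dvd_pow_iff hϖ'.ne_zero hϖ'.not_isUnit (n := 2) (m := 1)).mp (by simpa using h4)
    omega
  obtain ⟨hreg', -⟩ := Groth.Agent.Lib.helper15.isRegularLocalRing_quotient_singleton (φ ϖ) h1 h2
  rw [e]
  exact hreg'

end Groth.Agent.S19912
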