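import Groth.Statements.S19919
import Mathlib

set_option autoImplicit false
universe u v w
open DPow

namespace Groth.Agent.S19919

section helpers

section helpers
variable {R : Type u} [CommRing R] {N : ℕ} {P : Type v} [CommRing P] [Algebra R P]
  {S : Type w} [CommRing S] [Algebra R S]

/-- the linear map defined on the monomial basis -/
noncomputable def phi0 (b : Module.Basis (Fin N →₀ ℕ) R P) (J : Ideal S) (δ : DividedPowers J)
    (s : Fin N → S) : P →ₗ[R] S :=
  b.constr R (fun e => ∏ i, δ.dpow (e i) (s i))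

lemma phi0_basis (b : Module.Basis (Fin N →₀ ℕ) R P) (J : Ideal S) (δ : DividedPowers J)
    (s : Fin N → S) (e : Fin N →₀ ℕ) : phi0 b J δ s (b e) = ∏ i, δ.dpow (e i) (s i) := by
  simp [phi0]

lemma basis_eq_prod (x : Fin N → ℕ → P) (hx0 : ∀ i, x i 0 = 1)
    (b : Module.Basis (Fin N →₀ ℕ) R P) (hb : ∀ e : Fin N →₀ ℕ, b e = e.prod (fun i k => x i k))
    (e : Fin N →₀ ℕ) : b e = ∏ i, x i (e i) := by
  rw [hb, Finsupp.prod_fintype _ _ (fun i => hx0 i)]

lemma basis_mul (x : Fin N → ℕ → P) (hx0 : ∀ i, x i 0 = 1)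
    (hxmul : ∀ i n m, x i n * x i m = ((n + m).choose n : P) * x i (n + m))
    (b : Module.Basis (Fin N →₀ ℕ) R P) (hb : ∀ e : Fin N →₀ ℕ, b e = e.prod (fun i k => x i k))
    (e e' : Fin N →₀ ℕ) :
    b e * b e' = (∏ i, (e i + e' i).choose (e i)) • b (e + e') := by
  rw [basis_eq_prod x hx0 b hb, basis_eq_prod x hx0 b hb, basis_eq_prod x hx0 b hb,
    ← Finset.prod_mul_distrib, nsmul_eq_mul, Nat.cast_prod, ← Finset.prod_mul_distrib]
  apply Finset.prod_congr rfl
  intro i _
  rw [hxmul]; rfl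

end helpers


end helpers

/-- Let R be a commutative ring and P = R⟨X_1, …, X_N⟩ the divided power polynomial algebra over R,
presented concretely as an R-algebra P with elements x i n = X_i^[n] (i < N, n ≥ 0) such that
X_i^[0] = 1, X_i^[n] · X_i^[m] = C(n+m, n) X_i^[n+m], and the monomials ∏_i X_i^[e_i] form an
R-basis of P; let P_+ be the ideal generated by the X_i^[n] with n ≥ 1 and γ the divided power
structure on P_+ with γ_n(X_i^[1]) = X_i^[n]. Then (P, P_+, γ) is the free divided power R-algebra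
on N variables: for every commutative R-algebra S, every ideal J of S with a divided power structure
δ and every family s_1, …, s_N of elements of J there is exactly one R-algebra homomorphism φ : P →
S that is a divided power morphism from (P_+, γ) to (J, δ) and satisfies φ(X_i^[1]) = s_i for all i. -/
theorem result (R : Type u) [CommRing R] (N : ℕ)
    (P : Type v) [CommRing P] [Algebra R P] (x : Fin N → ℕ → P)
    (hx0 : ∀ i, x i 0 = 1)
    (hxmul : ∀ i n m, x i n * x i m = ((n + m).choose n : P) * x i (n + m))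
    (b : Module.Basis (Fin N →₀ ℕ) R P) (hb : ∀ e : Fin N →₀ ℕ, b e = e.prod (fun i k => x i k))
    (γ : DividedPowers (Ideal.span {y : P | ∃ (i : Fin N) (n : ℕ), 1 ≤ n ∧ y = x i n}))
    (hγ : ∀ (i : Fin N) (n : ℕ), γ.dpow n (x i 1) = x i n)
    (S : Type w) [CommRing S] [Algebra R S] (J : Ideal S) (δ : DividedPowers J)
    (s : Fin N → S) (hs : ∀ i, s i ∈ J) :
    ∃! φ : P →ₐ[R] S, γ.IsDPMorphism δ φ.toRingHom ∧ ∀ i, φ (x i 1) = s i := by
  classical
  set φ₀ := phi0 b J δ s with hφ₀
  have hone : φ₀ 1 = 1 := by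
    have h1 : (1 : P) = b 0 := by
      rw [basis_eq_prod x hx0 b hb]; simp [hx0]
    rw [h1, phi0_basis]
    simp [δ.dpow_zero (hs _)]
  have hmul : ∀ u v : P, φ₀ (u * v) = φ₀ u * φ₀ v := by
    have key : (LinearMap.mul R P).compr₂ φ₀ = (LinearMap.mul R S).compl₁₂ φ₀ φ₀ := by
      apply b.ext
      intro e
      apply b.ext
      intro e'
      simp only [LinearMap.compr₂_apply, LinearMap.mul_apply', LinearMap.compl₁₂_apply]
      rw [basis_mul x hx0 hxmul b hb, map_nsmul, phi0_basis, phi0_basis, phi0_basis,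
        ← Finset.prod_mul_distrib, nsmul_eq_mul, Nat.cast_prod, ← Finset.prod_mul_distrib]
      apply Finset.prod_congr rfl
      intro i _
      rw [δ.mul_dpow (hs i)]
      rfl
    intro u v
    have := congrArg (fun B => B u v) key
    simpa using this
  let φ : P →ₐ[R] S := AlgHom.ofLinearMap φ₀ hone hmul
  have hφx : ∀ i n, φ (x i n) = δ.dpow n (s i) := by
    intro i n
    have h1 : x i n = b (Finsupp.single i n) := by
      rw [hb, Finsupp.prod_single_index (hx0 i)]
    show φ₀ (x i n) = _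
    rw [h1, phi0_basis, Finset.prod_eq_single i]
    · simp
    · intro j _ hji
      rw [Finsupp.single_eq_of_ne hji, δ.dpow_zero (hs j)]
    · intro h; exact absurd (Finset.mem_univ i) h
  have hx1mem : ∀ i, x i 1 ∈ Ideal.span {y : P | ∃ (i : Fin N) (n : ℕ), 1 ≤ n ∧ y = x i n} :=
    fun i => Ideal.subset_span ⟨i, 1, le_rfl, rfl⟩
  have hdp : γ.IsDPMorphism δ φ.toRingHom := by
    apply DividedPowers.IsDPMorphism.on_span γ δ rfl
    · rintro _ ⟨i, n, hn, rfl⟩
      show φ (x i n) ∈ J
      rw [hφx]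
      exact δ.dpow_mem (by omega) (hs i)
    · rintro m _ ⟨i, n, hn, rfl⟩
      show φ (γ.dpow m (x i n)) = δ.dpow m (φ (x i n))
      rw [hφx, ← hγ i n, γ.dpow_comp (by omega) (hx1mem i), hγ, δ.dpow_comp (by omega) (hs i),
        map_mul, hφx, map_natCast]
  refine ⟨φ, ⟨hdp, fun i => by rw [hφx, δ.dpow_one (hs i)]⟩, ?_⟩
  rintro ψ ⟨hψ, hψ1⟩
  have hψx : ∀ i n, ψ (x i n) = δ.dpow n (s i) := by
    intro i n
    rw [← hγ i n]
    have := hψ.map_dpow (n := n) (hx1mem i)
    rw [AlgHom.toRingHom_eq_coe, RingHom.coe_coe] at this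
    rw [this, hψ1]
  apply AlgHom.toLinearMap_injective
  apply b.ext
  intro e
  show ψ (b e) = φ (b e)
  rw [basis_eq_prod x hx0 b hb, map_prod, map_prod]
  apply Finset.prod_congr rfl
  intro i _
  rw [hψx, hφx]

end Groth.Agent.S19919
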