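import Groth.Statements.S1992
import Mathlib
-- import your own Groth.Agent.* helpers here

set_option autoImplicit false
universe u
open Polynomial
open EtAlg

namespace Groth.Agent.S1992

section helpers
open Polynomial IsLocalRing

/-- every monic polynomial over the localization splits -/
theorem splits_localization (A : Type u) [CommRing A]
    (hA : ∀ f : A[X], f.Monic → ∃ s : Multiset A, f = (s.map fun a => X - C a).prod)
    (M : Submonoid A) (R : Type u) [CommRing R] [Algebra A R] [IsLocalization M R]
    (f : R[X]) (hf : f.Monic) : f.Splits := by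
  classical
  obtain ⟨b, hb⟩ := IsLocalization.exist_integer_multiples_of_finset M f.coeffs
  set s : R := algebraMap A R b with hs
  have hsu : IsUnit s := IsLocalization.map_units R b
  set G := f.scaleRoots s with hG
  have hGm : G.Monic := (monic_scaleRoots_iff s).2 hf
  have hGl : G ∈ lifts (algebraMap A R) := by
    rw [lifts_iff_coeff_lifts]
    intro i
    rw [hG, coeff_scaleRoots]
    rcases lt_trichotomy i f.natDegree with hi | hi | hi
    · by_cases hc : f.coeff i = 0
      · rw [hc, zero_mul]; exact ⟨0, map_zero _⟩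
      · have hmem : f.coeff i ∈ f.coeffs := coeff_mem_coeffs hc
        obtain ⟨c, hc'⟩ := hb _ hmem
        obtain ⟨k, hk⟩ : ∃ k, f.natDegree - i = k + 1 := ⟨f.natDegree - i - 1, by omega⟩
        refine ⟨c * b ^ k, ?_⟩
        rw [hk, pow_succ, map_mul, map_pow, hc', Algebra.smul_def]
        ring
    · rw [hi, hf.coeff_natDegree, Nat.sub_self, pow_zero, mul_one]
      exact ⟨1, map_one _⟩
    · rw [coeff_eq_zero_of_natDegree_lt hi, zero_mul]
      exact ⟨0, map_zero _⟩
  obtain ⟨F, hFG, -, hFm⟩ := lifts_and_natDegree_eq_and_monic hGl hGm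
  obtain ⟨m, hm⟩ := hA F hFm
  have hFs : F.Splits := by
    rw [hm]
    apply Splits.multisetProd
    intro g hg
    obtain ⟨a, -, rfl⟩ := Multiset.mem_map.1 hg
    exact Splits.X_sub_C a
  have hGs : G.Splits := hFG ▸ hFs.map (algebraMap A R)
  obtain ⟨t, hst⟩ := hsu.exists_right_inv
  have := hGs.scaleRoots t
  rwa [hG, ← scaleRoots_mul, hst, scaleRoots_one] at this

theorem exists_root_lift {R : Type u} [CommRing R] [IsLocalRing R] (f : R[X]) (hf : f.Monic)
    (hs : f.Splits) (a₀ : ResidueField R) (h₁ : (f.map (residue R)).eval a₀ = 0) :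
    ∃ a : R, f.IsRoot a ∧ residue R a = a₀ := by
  obtain ⟨m, hm⟩ := splits_iff_exists_multiset.1 hs
  rw [hf.leadingCoeff, map_one, one_mul] at hm
  rw [hm, Polynomial.map_multiset_prod, eval_multiset_prod, Multiset.map_map, Multiset.map_map,
    Multiset.prod_eq_zero_iff] at h₁
  obtain ⟨a, ha, ha0⟩ := Multiset.mem_map.1 h₁
  refine ⟨a, ?_, ?_⟩
  · rw [hm, IsRoot.def, eval_multiset_prod, Multiset.map_map]
    exact Multiset.prod_eq_zero (Multiset.mem_map.2 ⟨a, ha, by simp⟩)
  · simp only [Function.comp_apply, Polynomial.map_sub, map_X, map_C, eval_sub, eval_X,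
      eval_C] at ha0
    exact (sub_eq_zero.1 ha0).symm

theorem main (A : Type u) [CommRing A]
    (hA : ∀ f : A[X], f.Monic → ∃ s : Multiset A, f = (s.map fun a => X - C a).prod)
    (p : Ideal A) [p.IsPrime] :
    EtCoh.IsStrictlyHenselianLocalRing (Localization.AtPrime p) := by
  have hsplit := splits_localization A hA p.primeCompl (Localization.AtPrime p)
  have hH : HenselianLocalRing (Localization.AtPrime p) := by
    apply ((HenselianLocalRing.TFAE (Localization.AtPrime p)).out 0 1).2
    intro f hf a₀ h₁ _
    rw [aeval_def, ResidueField.algebraMap_eq, eval₂_eq_eval_map] at h₁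
    exact exists_root_lift f hf (hsplit f hf) a₀ h₁
  refine ⟨hH, ?_⟩
  apply IsSepClosed.of_exists_root
  intro q hqm hqi _
  obtain ⟨f, hfq, hfd, hfm⟩ :=
    lifts_and_natDegree_eq_and_monic (mem_lifts_of_surjective residue_surjective q) hqm
  have hs := hsplit f hfm
  obtain ⟨m, hm⟩ := splits_iff_exists_multiset.1 hs
  rw [hfm.leadingCoeff, map_one, one_mul] at hm
  have hdeg : q.natDegree ≠ 0 := by
    intro h0
    have : q.degree = 0 := by
      rw [degree_eq_natDegree hqm.ne_zero, h0]; rfl
    exact hqi.not_isUnit (isUnit_iff_degree_eq_zero.2 this)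
  have hmne : m ≠ 0 := by
    intro h0
    rw [h0] at hm
    simp only [Multiset.map_zero, Multiset.prod_zero] at hm
    rw [hm] at hfd
    simp at hfd
    exact hdeg hfd.symm
  obtain ⟨a, ha⟩ := Multiset.exists_mem_of_ne_zero hmne
  refine ⟨residue _ a, ?_⟩
  rw [← hfq, eval_map, eval₂_at_apply]
  have : f.eval a = 0 := by
    rw [hm, eval_multiset_prod, Multiset.map_map]
    exact Multiset.prod_eq_zero (Multiset.mem_map.2 ⟨a, ha, by simp⟩)
  rw [this, map_zero]


end helpers

/-- Let A be an absolutely integrally closed ring, i.e. every monic polynomial over A is a product of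
linear factors X - a. Then for every prime p of A the localization A_p is a strictly henselian local
ring (henselian with separably closed residue field). -/
theorem result (A : Type u) [CommRing A]
    (hA : ∀ f : A[X], f.Monic → ∃ s : Multiset A, f = (s.map fun a => X - C a).prod)
    (p : Ideal A) [p.IsPrime] :
    EtCoh.IsStrictlyHenselianLocalRing (Localization.AtPrime p) := by
  exact main A hA p

end Groth.Agent.S1992
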