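import Groth.Statements.S19926
import Groth.Agent.Lib.Helper26.ProjDim7

set_option autoImplicit false
universe u
open ProjDeg
open Groth.Agent.Lib.helper26.ProjDim

namespace Groth.Agent.S19926

/-- Let k be a field, n ≥ 0, S = k[X_0, …, X_n] graded by degree, and p a homogeneous prime ideal of S
which does not contain the irrelevant ideal S_+, so that X = V_+(p) is a nonempty integral closed
subscheme of P^n_k (every such subscheme arises this way); its affine cone C(X) ⊆ A^{n+1}_k, the
closure of the preimage of X under the projection from A^{n+1} minus the origin, is the closed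
subset V(p), with coordinate ring S/p. Then dim C(X) = dim X + 1: the Krull dimension of S/p is the
topological Krull dimension of the closed subset V_+(p) of Proj S plus one. -/
theorem result (k : Type u) [Field k] (n : ℕ)
    (p : Ideal (MvPolynomial (Fin (n + 1)) k)) [p.IsPrime] (hph : p.IsHomogeneous (CohB1.polyGrading n k))
    (hrel : ¬ (HomogeneousIdeal.irrelevant (CohB1.polyGrading n k)).toIdeal ≤ p) :
    ringKrullDim (MvPolynomial (Fin (n + 1)) k ⧸ p) =
      topologicalKrullDim ↥(ProjectiveSpectrum.zeroLocus (CohB1.polyGrading n k) (p : Set (MvPolynomial (Fin (n + 1)) k))) + 1 := by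
  classical
  have hne : p ≠ mm k n := fun h => hrel (by rw [irrelevant_toIdeal, h])
  have hV : ProjectiveSpectrum.zeroLocus (CohB1.polyGrading n k)
      (p : Set (MvPolynomial (Fin (n + 1)) k)) = Set.Ici (mkPt p hph inferInstance hne) := by
    ext y
    rw [ProjectiveSpectrum.mem_zeroLocus, Set.mem_Ici, ← idl_le_idl, idl_mkPt]
    rfl
  rw [hV, topologicalKrullDim_Ici']
  have h1 := Groth.Agent.Lib.helper26.DimFormula.height_add_dim_quotient_of_domain k
    (MvPolynomial (Fin (n + 1)) k) p
  have h2 : ringKrullDim (MvPolynomial (Fin (n + 1)) k) = ((n + 1 : ℕ) : WithBot ℕ∞) := by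
    rw [MvPolynomial.ringKrullDim_of_isNoetherianRing, ringKrullDim_eq_zero_of_field, zero_add,
      Nat.card_eq_fintype_card, Fintype.card_fin]
  rw [h2] at h1
  have h3 := htN_mkPt p hph inferInstance hne
  have h4 := htN_le (mkPt p hph inferInstance hne)
  rw [← h3] at h1
  obtain ⟨N, -, hN⟩ := Groth.Agent.Lib.helper26.DimFormula.exists_nat_trdeg_eq_ringKrullDim k
    (MvPolynomial (Fin (n + 1)) k ⧸ p)
  rw [hN] at h1 ⊢
  have h5 : htN (mkPt p hph inferInstance hne) + N = n + 1 := by exact_mod_cast h1
  have h6 : N = (n - htN (mkPt p hph inferInstance hne)) + 1 := by omega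
  exact_mod_cast h6

end Groth.Agent.S19926
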