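import Groth.Statements.S19963
import Groth.Agent.Lib.Helper12.HorAff
import Groth.Agent.Lib.Helper12.HorIso

set_option linter.style.haveILetI false
set_option linter.unusedSectionVars false

set_option autoImplicit false
open Polynomial TensorProduct
universe u
open CAlg

namespace Groth.Agent.S19963

/-- Let A be a commutative ring and let A(t) denote the localization of the polynomial ring A[t] at the
multiplicative subset of monic polynomials, viewed as an A-algebra. If P and P' are finitely
generated projective A-modules such that A(t) ⊗_A P and A(t) ⊗_A P' are isomorphic A(t)-modules,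
then P and P' are isomorphic A-modules: non-isomorphic finite projective modules stay non-isomorphic
over A(t). (The published statement also covers base change to the ring A((t)) of Laurent power
series, and modules over A(t) itself; only the A(t) assertion for modules over A is stated.) -/
theorem result
    (A : Type u) [CommRing A] (M : Submonoid A[X]) (hM : ∀ f : A[X], f ∈ M ↔ f.Monic)
    (At : Type u) [CommRing At] [Algebra A[X] At] [IsLocalization M At]
    [Algebra A At] [IsScalarTower A A[X] At]
    (P P' : Type u) [AddCommGroup P] [Module A P] [Module.Finite A P] [Module.Projective A P]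
    [AddCommGroup P'] [Module A P'] [Module.Finite A P'] [Module.Projective A P']
    (h : Nonempty ((At ⊗[A] P) ≃ₗ[At] (At ⊗[A] P'))) :
    Nonempty (P ≃ₗ[A] P') := by
  classical
  obtain ⟨h⟩ := h
  obtain ⟨F, u, v, hF, hvu, huv⟩ :=
    Groth.Agent.Lib.helper12.HorIso.exists_monic_pseudoIso M hM At P P' h
  obtain ⟨k, g, ut, vt, hg, hvut, huvt⟩ :=
    Groth.Agent.Lib.helper12.HorIso.exists_reverse_pseudoIso P P' F hF u v hvu huv
  obtain ⟨a, b, hab⟩ := Groth.Agent.Lib.helper12.HorIso.exists_comax k g hg
  obtain ⟨Q, r, uu, vv, ww, zz, hr, hvvuu, huuvv, hzzww, hwwzz⟩ :=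
    Groth.Agent.Lib.helper12.HorIso.exists_lattice ut vt k g a b hvut huvt hab
  haveI : Module.Finite A[X] Q :=
    Module.Finite.of_surjective r (fun x => ⟨(x : _ × _), hr x⟩)
  haveI : Module.Projective A[X] Q :=
    Module.Projective.of_split Q.subtype r (LinearMap.ext hr)
  obtain ⟨Q₀, _, _, ⟨φ⟩⟩ := Groth.Agent.Lib.helper12.HorAff.extended_of_pseudoIso Q P
    ((X : A[X]) ^ k) (monic_X_pow k) uu vv hvvuu huuvv
  obtain ⟨e1⟩ := Groth.Agent.Lib.helper12.HorIso.fibre_iso (Q := Q) (1 : A) P uu vv ((X : A[X]) ^ k)
    (by simp) hvvuu huuvv Q₀ φ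
  obtain ⟨e2⟩ := Groth.Agent.Lib.helper12.HorIso.fibre_iso (Q := Q) (0 : A) P' ww zz g
    (by rw [← coeff_zero_eq_eval_zero, hg]) hzzww hwwzz Q₀ φ
  exact ⟨e1 ≪≫ₗ e2.symm⟩

end Groth.Agent.S19963
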