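import Groth.Statements.S19967
import Mathlib

set_option autoImplicit false
universe u
open CategoryTheory CategoryTheory.Limits AlgebraicGeometry
open FlatMor

namespace Groth.Agent.S19967

lemma dominant_fromSpecStalk_generic (T : Scheme.{u}) [IsIntegral T] :
    IsSchemeTheoreticallyDominant (T.fromSpecStalk (genericPoint T)) := by
  haveI : IsDominant (T.fromSpecStalk (genericPoint T)) := by
    constructor
    rw [DenseRange, dense_iff_closure_eq, Scheme.range_fromSpecStalk]
    have h1 : closure {genericPoint T} ⊆ closure {y | y ⤳ genericPoint T} :=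
      closure_mono (Set.singleton_subset_iff.mpr (specializes_rfl))
    rw [(genericPoint_spec T).def] at h1
    exact Set.eq_univ_of_univ_subset h1
  exact IsSchemeTheoreticallyDominant.of_isDominant _

lemma quasiCompact_fromSpecStalk (S : Scheme.{u}) [IsLocallyNoetherian S] (η : S) :
    QuasiCompact (S.fromSpecStalk η) := by
  obtain ⟨_, ⟨U, hU, rfl⟩, hxU, -⟩ := S.isBasis_affineOpens.exists_subset_of_mem_open
    (Set.mem_univ η) isOpen_univ
  rw [← hU.fromSpecStalk_eq_fromSpecStalk hxU]
  unfold IsAffineOpen.fromSpecStalk
  infer_instance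


/-- Let f : S' → S be a flat morphism of locally Noetherian schemes, i : C → S and i' : C' → S' closed
immersions with C and C' integral, and g : C' → C with g ≫ i = i' ≫ f. Let φ : C' → C ×_S S' be the
induced morphism and η ∈ S the image of the generic point of C. If φ becomes an isomorphism after
base change along the canonical morphism Spec O_{S,η} → S (that is, after pulling back to (C ×_S S')
×_S Spec O_{S,η}), then φ is an isomorphism. (In the source S and S' are excellent surfaces over an
algebraically closed field, C and C' regular curves not inside the singular loci, and the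
isomorphism over Spec O_{S,η} is part of the definition of a morphism of surface-curve pairs; those
extra hypotheses play no part.) -/
theorem result
    {S S' C C' : Scheme.{u}} [IsLocallyNoetherian S] [IsLocallyNoetherian S']
    (f : S' ⟶ S) [Flat f] (i : C ⟶ S) [IsClosedImmersion i] [IsIntegral C]
    (i' : C' ⟶ S') [IsClosedImmersion i'] [IsIntegral C']
    (g : C' ⟶ C) (hsq : g ≫ i = i' ≫ f)
    (hgen : IsIso (pullback.snd (pullback.lift g i' hsq)
      (pullback.fst (pullback.fst i f ≫ i) (S.fromSpecStalk (i.base (genericPoint C)))))) :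
    IsIso (pullback.lift g i' hsq) := by
  let pr₁ : pullback i f ⟶ C := pullback.fst i f
  let pr₂ : pullback i f ⟶ S' := pullback.snd i f
  let φ : C' ⟶ pullback i f := pullback.lift g i' hsq
  let ξ : C := genericPoint C
  let s : Spec (S.presheaf.stalk (i.base ξ)) ⟶ S := S.fromSpecStalk (i.base ξ)
  -- φ is a closed immersion
  haveI : IsClosedImmersion pr₂ := inferInstance
  have hφ2 : φ ≫ pr₂ = i' := pullback.lift_snd _ _ _
  haveI : IsClosedImmersion (φ ≫ pr₂) := by rw [hφ2]; infer_instance
  haveI : IsClosedImmersion φ := IsClosedImmersion.of_comp φ pr₂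
  -- the generic fibre of C
  let q : pullback i s ⟶ C := pullback.fst i s
  let t : Spec (C.presheaf.stalk ξ) ⟶ pullback i s :=
    pullback.lift (C.fromSpecStalk ξ) (Spec.map (i.stalkMap ξ))
      (Scheme.SpecMap_stalkMap_fromSpecStalk i (x := ξ)).symm
  have ht : t ≫ q = C.fromSpecStalk ξ := pullback.lift_fst _ _ _
  haveI : IsSchemeTheoreticallyDominant q := ⟨by
    have h1 := Scheme.Hom.le_ker_comp t q
    rw [ht, (dominant_fromSpecStalk_generic C).ker_eq_bot] at h1
    exact le_bot_iff.mp h1⟩
  haveI : QuasiCompact s := quasiCompact_fromSpecStalk S _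
  haveI : QuasiCompact q := inferInstance
  haveI : Flat pr₁ := inferInstance
  haveI : IsSchemeTheoreticallyDominant (pullback.fst pr₁ q) := inferInstance
  let e : pullback pr₁ (pullback.fst i s) ≅ pullback (pr₁ ≫ i) s := pullbackRightPullbackFstIso i s pr₁
  have he : e.hom ≫ pullback.fst (pr₁ ≫ i) s = pullback.fst pr₁ q :=
    pullbackRightPullbackFstIso_hom_fst i s pr₁
  let pη : pullback (pr₁ ≫ i) s ⟶ pullback i f := pullback.fst (pr₁ ≫ i) s
  have hpη : pη = e.inv ≫ pullback.fst pr₁ q := by
    rw [← he, Iso.inv_hom_id_assoc]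
  haveI : IsSchemeTheoreticallyDominant pη := by
    rw [hpη]; infer_instance
  haveI : IsIso (pullback.snd φ pη) := hgen
  have hfac : pη = (inv (pullback.snd φ pη) ≫ pullback.fst φ pη) ≫ φ := by
    rw [Category.assoc, IsIso.eq_inv_comp]
    exact (pullback.condition (f := φ) (g := pη)).symm
  have hker : φ.ker = ⊥ := by
    have h1 := Scheme.Hom.le_ker_comp (inv (pullback.snd φ pη) ≫ pullback.fst φ pη) φ
    rw [← hfac, pη.ker_eq_bot] at h1
    exact le_bot_iff.mp h1
  exact IsClosedImmersion.isIso_iff_ker_eq_bot.mpr hker

end Groth.Agent.S19967
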