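import Groth.Statements.S19968
import Mathlib
import Groth.Agent.Lib.Helper16.SepPts
import Groth.Agent.Lib.Helper12.AmpleBasis

set_option autoImplicit false
universe u
open CategoryTheory AlgebraicGeometry Opposite
open LinSer

namespace Groth.Agent.S19968

section
open CategoryTheory CategoryTheory.Limits AlgebraicGeometry Opposite TopologicalSpace
open Groth.Agent.Lib.helper11.IsoLocus Groth.Agent.Lib.helper11.GenLocus
open Groth.Agent.Lib.helper12.ProjUP4 Groth.Agent.Lib.helper16.SepPts
open Groth.Agent.Lib.helper12.AmpleBasis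
open Groth.Agent.Lib.helper12.TwistExtend
open Scheme.Modules

variable {X : Scheme.{u}} {L : X.Modules}

theorem sec_homOfSec_top (σ : L.val.obj (op ⊤)) : sec (homOfSec L σ) ⊤ = σ := by
  have h := val_homOfSec L σ ⊤
  refine h.trans ?_
  unfold res
  have : (homOfLE (le_top : (⊤ : X.Opens) ≤ ⊤)).op = 𝟙 (op (⊤ : X.Opens)) := rfl
  rw [this, L.val.map_id]
  rfl

theorem gen_homOfSec (σ : L.val.obj (op ⊤)) (x : X) :
    gen (homOfSec L σ) x = (L.presheaf.germ ⊤ x trivial).hom σ := by
  unfold gen
  rw [sec_homOfSec_top]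

/-- F1 -/
theorem not_mem_genLocus_of_gen_mem (s : Coh.structureModule X ⟶ L) (x : X)
    (h : gen s x ∈ (IsLocalRing.maximalIdeal (X.presheaf.stalk x)) •
      (⊤ : Submodule (X.presheaf.stalk x) (L.presheaf.stalk x))) :
    x ∉ CohB1.genLocus L s := by
  intro hx
  have h1 := (smul_gen_mem_iff s x hx (IsLocalRing.maximalIdeal _) 1).mp (by rwa [one_smul])
  exact (Ideal.ne_top_iff_one _).mp (IsLocalRing.maximalIdeal.isMaximal _).ne_top h1

variable (k : Type u) [Field k]

noncomputable def evalAt (p : Spec (CommRingCat.of k) ⟶ X) :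
    X.presheaf.stalk (p (IsLocalRing.closedPoint k)) →+* k :=
  (Scheme.stalkClosedPointTo p).hom

theorem germ_top_stalkClosedPointTo (p : Spec (CommRingCat.of k) ⟶ X) :
    X.presheaf.germ ⊤ _ trivial ≫ Scheme.stalkClosedPointTo p =
      p.appTop ≫ (Scheme.ΓSpecIso (CommRingCat.of k)).hom := by
  rw [Scheme.germ_stalkClosedPointTo p ⊤ trivial]
  change p.appTop ≫ ((Spec (CommRingCat.of k)).presheaf.map (𝟙 (op ⊤))) ≫
    (Scheme.ΓSpecIso (CommRingCat.of k)).hom = _
  rw [CategoryTheory.Functor.map_id, Category.id_comp]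

theorem evalAt_germ_toGlobal (q : X ⟶ Spec (CommRingCat.of k)) (p : Spec (CommRingCat.of k) ⟶ X)
    (hp : p ≫ q = 𝟙 _) (a : k) :
    evalAt k p ((X.presheaf.germ ⊤ _ trivial).hom (Coh.toGlobal q a)) = a := by
  have h2 : evalAt k p ((X.presheaf.germ ⊤ _ trivial).hom (Coh.toGlobal q a)) =
      (X.presheaf.germ ⊤ _ trivial ≫ Scheme.stalkClosedPointTo p).hom (Coh.toGlobal q a) := rfl
  rw [h2, germ_top_stalkClosedPointTo]
  have h3 : q.appTop ≫ p.appTop = 𝟙 _ := by
    rw [← Scheme.Hom.comp_appTop, hp, Scheme.Hom.id_appTop]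
  have h5 : ∀ z, (Scheme.Hom.appTop p).hom ((Scheme.Hom.appTop q).hom z) = z := by
    intro z
    have := congrArg (fun f => f.hom z) h3
    simpa using this
  change (Scheme.ΓSpecIso (CommRingCat.of k)).hom.hom
    (p.appTop.hom (q.appTop.hom ((Scheme.ΓSpecIso (CommRingCat.of k)).inv.hom a))) = a
  rw [h5]
  simp

theorem point_lemma (q : X ⟶ Spec (CommRingCat.of k)) (x : X)
    (φ : X.presheaf.stalk x →+* k)
    (hφ : ∀ a : k, φ ((X.presheaf.germ ⊤ x trivial).hom (Coh.toGlobal q a)) = a) {m : ℕ}
    (σ : Fin m → L.val.obj (op ⊤)) :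
    ∃ w : Fin m → k, ∀ c : Fin m → k, ∑ j, c j * w j = 0 →
      x ∉ CohB1.genLocus L (homOfSec L (∑ j, Coh.toGlobal q (c j) • σ j)) := by
  classical
  by_cases h : ∃ c0 : Fin m → k, x ∈
      CohB1.genLocus L (homOfSec L (∑ j, Coh.toGlobal q (c0 j) • σ j))
  · obtain ⟨c0, hx0⟩ := h
    have hb : ∀ j, ∃ b : X.presheaf.stalk x,
        (L.presheaf.germ ⊤ x trivial).hom (σ j) =
          b • gen (homOfSec L (∑ j, Coh.toGlobal q (c0 j) • σ j)) x :=
      fun j => exists_eq_smul_gen _ _ hx0 _
    choose b hb using hb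
    refine ⟨fun j => φ (b j), fun c hc hx => ?_⟩
    let B : X.presheaf.stalk x :=
      ∑ j, (X.presheaf.germ ⊤ x trivial).hom (Coh.toGlobal q (c j)) * b j
    have hgen : gen (homOfSec L (∑ j, Coh.toGlobal q (c j) • σ j)) x =
        B • gen (homOfSec L (∑ j, Coh.toGlobal q (c0 j) • σ j)) x := by
      rw [gen_homOfSec, Finset.sum_smul]
      refine (map_sum (L.presheaf.germ ⊤ x trivial).hom _ _).trans ?_
      refine Finset.sum_congr rfl fun j _ => ?_
      rw [mul_smul, ← hb j]
      exact germ_smul'' L ⊤ _ trivial (Coh.toGlobal q (c j)) (σ j)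
    have hB0 : φ B = 0 := by
      rw [map_sum]
      simp_rw [map_mul, hφ]
      exact hc
    have hB : B ∈ IsLocalRing.maximalIdeal (X.presheaf.stalk x) := by
      rw [IsLocalRing.mem_maximalIdeal, mem_nonunits_iff]
      intro hu
      have := hu.map φ
      rw [hB0] at this
      exact not_isUnit_zero this
    refine not_mem_genLocus_of_gen_mem _ _ ?_ hx
    rw [hgen]
    exact Submodule.smul_mem_smul hB trivial
  · push Not at h
    exact ⟨0, fun c _ => h c⟩

end

/-- Rational points impose at most one condition each on a complete linear system. Let k be a field, X a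
scheme over k, L an invertible O_X-module, and p_1, …, p_n morphisms Spec k → X over k (k-rational
points). Suppose there are n + 1 global sections of L, given as morphisms t_0, …, t_n : O_X → L,
whose values in Γ(X, L) are linearly independent over k. Then there is a nonzero morphism s : O_X →
L such that no p_i lands in the open X_s where s generates L; that is, s vanishes at every p_i and
the p_i lie on a common member of the complete linear system of L. (The source has X an irreducible
projective variety over the complex numbers, L base-point-free and the points closed, and phrases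
this as surjectivity of the incidence correspondence onto X^n for n at most the dimension of the
linear system; only rationality of the points and the dimension count are used, and
base-point-freeness plays no part in this item.) -/
theorem result
    (k : Type u) [Field k] (X : Scheme.{u}) [X.Over (Spec (CommRingCat.of k))]
    (L : X.Modules) (hL : PicF.IsInvertible L)
    (n : ℕ) (p : Fin n → (Spec (CommRingCat.of k) ⟶ X))
    (hp : ∀ i, p i ≫ (X ↘ Spec (CommRingCat.of k)) = 𝟙 _)
    (t : Fin (n + 1) → (Coh.structureModule X ⟶ L))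
    (ht : LinSer.LinIndep k X L (fun j => (L.unitHomEquiv (t j)).val (op ⊤))) :
    ∃ s : Coh.structureModule X ⟶ L, s ≠ 0 ∧
      ∀ i, (p i) (IsLocalRing.closedPoint k) ∉ CohB1.genLocus L s := by
  classical
  let σ : Fin (n + 1) → L.val.obj (op ⊤) := fun j => (L.unitHomEquiv (t j)).val (op ⊤)
  have hw : ∀ i : Fin n, ∃ w : Fin (n + 1) → k, ∀ c : Fin (n + 1) → k, ∑ j, c j * w j = 0 →
      (p i) (IsLocalRing.closedPoint k) ∉ CohB1.genLocus L
        (Groth.Agent.Lib.helper12.AmpleBasis.homOfSec L
          (∑ j, Coh.toGlobal (X ↘ Spec (CommRingCat.of k)) (c j) • σ j)) :=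
    fun i => point_lemma k (X ↘ Spec (CommRingCat.of k)) _ (evalAt k (p i))
      (evalAt_germ_toGlobal k (X ↘ Spec (CommRingCat.of k)) (p i) (hp i)) σ
  choose w hw using hw
  let Φ : (Fin (n + 1) → k) →ₗ[k] (Fin n → k) := Matrix.mulVecLin (Matrix.of fun i j => w i j)
  have hninj : ¬ Function.Injective Φ := by
    intro hinj
    have := LinearMap.finrank_le_finrank_of_injective hinj
    simp at this
  obtain ⟨c, hc0, hcne⟩ : ∃ c, Φ c = 0 ∧ c ≠ 0 := by
    by_contra hcon
    push Not at hcon
    exact hninj ((injective_iff_map_eq_zero Φ).mpr hcon)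
  refine ⟨Groth.Agent.Lib.helper12.AmpleBasis.homOfSec L
    (∑ j, Coh.toGlobal (X ↘ Spec (CommRingCat.of k)) (c j) • σ j), ?_, fun i => hw i c ?_⟩
  · intro hs
    apply hcne
    apply ht c
    have h1 := sec_homOfSec_top (L := L)
      (∑ j, Coh.toGlobal (X ↘ Spec (CommRingCat.of k)) (c j) • σ j)
    rw [hs] at h1
    refine h1.symm.trans ?_
    exact map_zero ((0 : Coh.structureModule X ⟶ L).app ⊤).hom
  · have h1 := congrFun hc0 i
    simpa [Φ, Matrix.mulVec, dotProduct, mul_comm] using h1

end Groth.Agent.S19968
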