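import Groth.Statements.S1997
import Mathlib

set_option autoImplicit false
universe u
open CategoryTheory
open EtAlg

namespace Groth.Agent.S1997

open TensorProduct in
/-- over a ring all of whose ideals are flat, submodules of flat modules are flat. -/
lemma flat_of_le {A : Type u} [CommRing A] (hA : ∀ I : Ideal A, Module.Flat A I)
    {M : Type u} [AddCommGroup M] [Module A M] [Module.Flat A M] (N : Submodule A M) :
    Module.Flat A N := by
  rw [Module.Flat.iff_lTensor_injective']
  intro I
  have := hA I
  have h1 : Function.Injective (N.subtype.rTensor I) :=
    Module.Flat.rTensor_preserves_injective_linearMap N.subtype N.injective_subtype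
  have h2 : Function.Injective (I.subtype.lTensor M) :=
    Module.Flat.lTensor_preserves_injective_linearMap I.subtype I.injective_subtype
  have hcomm : (N.subtype.rTensor A) ∘ₗ (I.subtype.lTensor N) =
      (I.subtype.lTensor M) ∘ₗ (N.subtype.rTensor I) := by
    ext n i
    simp
  have h3 : Function.Injective ((N.subtype.rTensor A) ∘ₗ (I.subtype.lTensor N)) := by
    rw [hcomm]
    exact h2.comp h1
  exact Function.Injective.of_comp h3


/-- Let A be a ring all of whose ideals are flat (weak dimension at most one) and A -> B a flat,
injective ring map which is an epimorphism in the category of commutative rings. Then A is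
integrally closed in B. -/
theorem result (A B : Type u) [CommRing A] [CommRing B] [Algebra A B]
    (hA : ∀ I : Ideal A, Module.Flat A I) [Module.Flat A B] (hinj : Function.Injective (algebraMap A B))
    (hepi : Epi (CommRingCat.ofHom (algebraMap A B))) : IsIntegrallyClosedIn A B := by
  classical
  have hepi' : Algebra.IsEpi A B := CommRingCat.epi_iff_epi.mp hepi
  rw [isIntegrallyClosedIn_iff]
  refine ⟨hinj, fun {x} hx => ?_⟩
  -- the finite subalgebra generated by x
  let A' : Subalgebra A B := Algebra.adjoin A {x}
  have hfin : Module.Finite A A' := Module.Finite.iff_fg.mpr hx.fg_adjoin_singleton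
  have hflat : Module.Flat A A' := flat_of_le hA (Subalgebra.toSubmodule A')
  -- A → A' is an epimorphism
  have hepiA' : Algebra.IsEpi A A' := by
    rw [Algebra.isEpi_iff_forall_one_tmul_eq]
    intro a
    let ι : A' →ₗ[A] B := A'.val.toLinearMap
    have hι : Function.Injective ι := Subtype.val_injective
    have h1 : Function.Injective (ι.lTensor A') :=
      Module.Flat.lTensor_preserves_injective_linearMap ι hι
    have h2 : Function.Injective (ι.rTensor B) :=
      Module.Flat.rTensor_preserves_injective_linearMap ι hι
    have h3 : Function.Injective ((ι.rTensor B) ∘ₗ (ι.lTensor A')) := h2.comp h1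
    apply h3
    have := (Algebra.isEpi_iff_forall_one_tmul_eq A B).mp hepi' (a : B)
    simpa [ι] using this
  have hsurj := (Algebra.isEpi_iff_surjective_algebraMap_of_finite (R := A) (A := A')).mp hepiA'
  obtain ⟨y, hy⟩ := hsurj ⟨x, Algebra.subset_adjoin (Set.mem_singleton x)⟩
  exact ⟨y, congrArg Subtype.val hy⟩

end Groth.Agent.S1997
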