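import Groth.Statements.S19974
import Mathlib
import Groth.Agent.Lib.Lead.OreUP
-- import your own Groth.Agent.* helpers here

set_option autoImplicit false
set_option backward.isDefEq.respectTransparency false
set_option backward.isDefEq.respectTransparency.types false
universe u v w x
open scoped BigOperators
open DefMod

namespace Groth.Agent.S19974

/-- Let K be a field of characteristic 0, O a commutative K-algebra with a K-linear derivation δ, and D
the ring of differential operators O[∂], presented abstractly as a K-algebra D with an algebra map ι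
: O → D and an element ∂ of D such that ∂ ι(f) = ι(f) ∂ + ι(δ f) for every f in O and such that
every element of D is in a unique way a finite sum of terms ι(f_i) ∂^i. Let E be a left D-module,
given as a K-vector space with a K-algebra map ρ : D → End_K(E), which is finite free as an
O-module. A K-derivation of D with values in the D-bimodule End_K(E) is a K-linear map s with s(PQ)
= s(P) ρ(Q) + ρ(P) s(Q); a K-derivation of O with values in End_K(E) is a K-linear map r with r(fg)
= r(f) ρ(ι g) + ρ(ι f) r(g). Then: (a) for every K-derivation s of D into End_K(E), the pair (r, v)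
= (s ∘ ι, s(∂)) satisfies the identity [r(f), ρ(∂)] + [ρ(ι f), v] + r(δ f) = 0 for all f in O; (b)
conversely, for every K-derivation r of O into End_K(E) and every v in End_K(E) satisfying that
identity for all f, there is exactly one K-derivation s of D into End_K(E) with s ∘ ι = r and s(∂) =
v. In other words s ↦ (s ∘ ι, s(∂)) maps the K-derivations of D injectively onto the pairs
satisfying the identity. -/
theorem result
    (K : Type u) [Field K] [CharZero K]
    (O : Type v) [CommRing O] [Algebra K O] (δ : Derivation K O O)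
    (D : Type w) [Ring D] [Algebra K D] (ι : O →ₐ[K] D) (d : D)
    (hd : ∀ f : O, d * ι f = ι f * d + ι (δ f))
    (hbasis : Function.Bijective (fun c : ℕ →₀ O => c.sum (fun i f => ι f * d ^ i)))
    (E : Type x) [AddCommGroup E] [Module K E] (ρ : D →ₐ[K] Module.End K E)
    (hE : ∃ (n : ℕ) (b : Fin n → E), Function.Bijective (fun c : Fin n → O => ∑ i, ρ (ι (c i)) (b i))) :
    (∀ s : D →ₗ[K] Module.End K E, (∀ P Q : D, s (P * Q) = s P * ρ Q + ρ P * s Q) →
      ∀ f : O, (s (ι f) * ρ d - ρ d * s (ι f)) + (ρ (ι f) * s d - s d * ρ (ι f)) + s (ι (δ f)) = 0) ∧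
    ∀ (r : O →ₗ[K] Module.End K E) (v : Module.End K E),
      (∀ f g : O, r (f * g) = r f * ρ (ι g) + ρ (ι f) * r g) →
      (∀ f : O, (r f * ρ d - ρ d * r f) + (ρ (ι f) * v - v * ρ (ι f)) + r (δ f) = 0) →
      ∃! s : D →ₗ[K] Module.End K E,
        (∀ P Q : D, s (P * Q) = s P * ρ Q + ρ P * s Q) ∧ s ∘ₗ ι.toLinearMap = r ∧ s d = v := by
  classical
  refine ⟨?_, ?_⟩
  · intro s hs f
    have h := congrArg s (hd f)
    rw [hs, map_add, hs] at h
    calc (s (ι f) * ρ d - ρ d * s (ι f)) + (ρ (ι f) * s d - s d * ρ (ι f)) + s (ι (δ f))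
        = (s (ι f) * ρ d + ρ (ι f) * s d + s (ι (δ f))) - (s d * ρ (ι f) + ρ d * s (ι f)) := by abel
      _ = 0 := by rw [← h]; exact sub_self _
  · intro r v hr hrv
    -- general facts about derivations D → End E
    have hder1 : ∀ s : D →ₗ[K] Module.End K E,
        (∀ P Q : D, s (P * Q) = s P * ρ Q + ρ P * s Q) → s 1 = 0 := by
      intro s hs
      have h := hs 1 1
      rw [mul_one, map_one ρ, mul_one, one_mul] at h
      exact left_eq_add.1 h
    have hr1 : r 1 = 0 := by
      have h := hr 1 1
      rw [mul_one, map_one ι, map_one ρ, mul_one, one_mul] at h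
      exact left_eq_add.1 h
    -- the algebra map O → End E ⋉ End E
    let φl : O →ₗ[K] TrivSqZeroExt (Module.End K E) (Module.End K E) :=
      { toFun := fun f => TrivSqZeroExt.inl (ρ (ι f)) + TrivSqZeroExt.inr (r f)
        map_add' := fun f g => by
          ext <;> simp [map_add]
        map_smul' := fun c f => by
          ext <;> simp [map_smul] }
    have hφ1 : φl 1 = 1 := by
      ext <;> simp [φl, hr1]
    have hφmul : ∀ f g : O, φl (f * g) = φl f * φl g := by
      intro f g
      ext
      · simp [φl, map_mul]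
      · simp only [φl, LinearMap.coe_mk, AddHom.coe_mk, TrivSqZeroExt.snd_add, TrivSqZeroExt.snd_inl,
          TrivSqZeroExt.snd_inr, zero_add, TrivSqZeroExt.snd_mul, TrivSqZeroExt.fst_add,
          TrivSqZeroExt.fst_inl, TrivSqZeroExt.fst_inr, add_zero, smul_eq_mul,
          MulOpposite.smul_eq_mul_unop, MulOpposite.unop_op]
        rw [hr f g, add_comm]
    obtain ⟨φ, hφfst, hφsnd⟩ : ∃ φ : O →ₐ[K] TrivSqZeroExt (Module.End K E) (Module.End K E),
        (∀ f, (φ f).fst = ρ (ι f)) ∧ ∀ f, (φ f).snd = r f :=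
      ⟨AlgHom.ofLinearMap φl hφ1 hφmul, fun f => by simp [φl], fun f => by simp [φl]⟩
    obtain ⟨t, htfst, htsnd⟩ : ∃ t : TrivSqZeroExt (Module.End K E) (Module.End K E),
        t.fst = ρ d ∧ t.snd = v :=
      ⟨TrivSqZeroExt.inl (ρ d) + TrivSqZeroExt.inr v, by simp, by simp⟩
    have ht : ∀ f : O, t * φ f = φ f * t + φ (δ f) := by
      intro f
      refine TrivSqZeroExt.ext ?_ ?_
      · rw [TrivSqZeroExt.fst_mul, TrivSqZeroExt.fst_add, TrivSqZeroExt.fst_mul, htfst, hφfst, hφfst,
          ← map_mul, hd, map_add, map_mul]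
      · rw [TrivSqZeroExt.snd_mul, TrivSqZeroExt.snd_add, TrivSqZeroExt.snd_mul, htfst, htsnd, hφfst,
          hφsnd, hφsnd]
        simp only [smul_eq_mul, MulOpposite.smul_eq_mul_unop, MulOpposite.unop_op]
        have h := hrv f
        have h2 : ρ d * r f + v * ρ (ι f) = (ρ d * r f + v * ρ (ι f)) +
            ((r f * ρ d - ρ d * r f) + (ρ (ι f) * v - v * ρ (ι f)) + r (δ f)) := by
          rw [h, add_zero]
        rw [h2]
        abel
    let Ψ := Groth.Agent.Lib.Lead.OreUP.psi ι d hbasis φ t
    have hΨmul : ∀ P Q : D, Ψ (P * Q) = Ψ P * Ψ Q :=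
      Groth.Agent.Lib.Lead.OreUP.psi_mul δ ι d hd hbasis φ t ht
    have hΨι : ∀ f, Ψ (ι f) = φ f := Groth.Agent.Lib.Lead.OreUP.psi_ι ι d hbasis φ t
    have hΨd : Ψ d = t := Groth.Agent.Lib.Lead.OreUP.psi_d ι d hbasis φ t
    have hΨbasis : ∀ (f : O) (i : ℕ), Ψ (ι f * d ^ i) = φ f * t ^ i :=
      Groth.Agent.Lib.Lead.OreUP.psi_basis ι d hbasis φ t
    have hΨfst : ∀ P : D, (Ψ P).fst = ρ P := by
      let a : D →+ Module.End K E :=
        AddMonoidHom.mk' (fun P => (Ψ P).fst) (fun P Q => by simp [map_add])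
      have hab : a = (ρ : D →+ Module.End K E) := by
        apply Groth.Agent.Lib.Lead.OreUP.ext_of_basis ι d hbasis
        intro f i
        show (Ψ (ι f * d ^ i)).fst = ρ (ι f * d ^ i)
        rw [hΨbasis, TrivSqZeroExt.fst_mul, TrivSqZeroExt.fst_pow, hφfst, htfst, map_mul, map_pow]
      intro P
      exact DFunLike.congr_fun hab P
    let s : D →ₗ[K] Module.End K E :=
      { toFun := fun P => (Ψ P).snd
        map_add' := fun P Q => by simp [map_add]
        map_smul' := fun c P => by simp [map_smul] }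
    have hs : ∀ P Q : D, s (P * Q) = s P * ρ Q + ρ P * s Q := by
      intro P Q
      show (Ψ (P * Q)).snd = (Ψ P).snd * ρ Q + ρ P * (Ψ Q).snd
      rw [hΨmul, TrivSqZeroExt.snd_mul, hΨfst, hΨfst]
      simp only [smul_eq_mul, MulOpposite.smul_eq_mul_unop, MulOpposite.unop_op]
      rw [add_comm]
    have hsι : s ∘ₗ ι.toLinearMap = r := by
      refine LinearMap.ext fun f => ?_
      show (Ψ (ι f)).snd = r f
      rw [hΨι, hφsnd]
    have hsd : s d = v := by
      show (Ψ d).snd = v
      rw [hΨd, htsnd]
    refine ⟨s, ⟨hs, hsι, hsd⟩, ?_⟩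
    rintro s' ⟨hs', hs'ι, hs'd⟩
    have hpow : ∀ i : ℕ, s' (d ^ i) = s (d ^ i) := by
      intro i
      induction i with
      | zero => rw [pow_zero, hder1 s' hs', hder1 s hs]
      | succ i ih => rw [pow_succ', hs', hs, ih, hs'd, hsd]
    have hι' : ∀ f, s' (ι f) = s (ι f) := by
      intro f
      have h1 := LinearMap.congr_fun hs'ι f
      have h2 := LinearMap.congr_fun hsι f
      simp only [LinearMap.comp_apply, AlgHom.toLinearMap_apply] at h1 h2
      rw [h1, h2]
    have hadd : (s'.toAddMonoidHom : D →+ Module.End K E) = s.toAddMonoidHom := by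
      apply Groth.Agent.Lib.Lead.OreUP.ext_of_basis ι d hbasis
      intro f i
      show s' (ι f * d ^ i) = s (ι f * d ^ i)
      rw [hs', hs, hpow, hι']
    exact LinearMap.ext fun P => DFunLike.congr_fun hadd P

end Groth.Agent.S19974
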