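import Groth.Statements.S19975
import Groth.Agent.Lib.Helper1.EtLocTors

set_option autoImplicit false
universe u
open CategoryTheory Opposite AlgebraicGeometry
open EtCoh

namespace Groth.Agent.S19975

open CategoryTheory.Limits
open Groth.Agent.H1.EtFiltH Groth.Agent.H1.EtCartan Groth.Agent.H1.FiltExt CategoryTheory.Abelian

variable {X : Scheme.{u}}

theorem app_comp_apply {A B C : EtCoh.Ab X} (a : A ⟶ B) (b : B ⟶ C) (U : X.Etaleᵒᵖ)
    (t : A.obj.obj U) : (a ≫ b).hom.app U t = b.hom.app U (a.hom.app U t) := rfl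

theorem app_zero_apply {A B : EtCoh.Ab X} (U : X.Etaleᵒᵖ) (t : A.obj.obj U) :
    (0 : A ⟶ B).hom.app U t = 0 := rfl

theorem locTors_kernel (S : Submonoid ℤ) {F G : EtCoh.Ab X} (φ : F ⟶ G)
    (hφ : ∀ U : X.Etale, IsAffine U.left →
      IsLocalizedModule S (φ.hom.app (op U)).hom.toIntLinearMap) :
    LocTors S (kernel φ) := by
  intro U hU t e
  refine ⟨U, 𝟙 U, ⟨e, rfl⟩, ?_⟩
  have h0 : φ.hom.app (op U) ((kernel.ι φ).hom.app (op U) t) = 0 := by
    rw [← app_comp_apply, kernel.condition]
    rfl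
  haveI := hφ U hU
  obtain ⟨c, hc⟩ := IsLocalizedModule.exists_of_eq (S := S)
    (f := (φ.hom.app (op U)).hom.toIntLinearMap) (x₁ := (kernel.ι φ).hom.app (op U) t) (x₂ := 0)
    (h0.trans (map_zero _).symm)
  refine ⟨c.1, c.2, ?_⟩
  have h1 : (kernel φ).obj.map (𝟙 U).op t = t := by
    rw [op_id, (kernel φ).obj.map_id]
    rfl
  rw [h1]
  apply Groth.Agent.H1.SheafExactLoc.injective_app_of_mono (kernel.ι φ) (op U)
  rw [map_zsmul, map_zero]
  rw [smul_zero] at hc
  exact hc

theorem locTors_cokernel (S : Submonoid ℤ) {F G I : EtCoh.Ab X} (φ : F ⟶ G) (p : F ⟶ I)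
    (j : I ⟶ G) (hfac : p ≫ j = φ)
    (hφ : ∀ U : X.Etale, IsAffine U.left →
      IsLocalizedModule S (φ.hom.app (op U)).hom.toIntLinearMap) :
    LocTors S (cokernel j) := by
  intro U hU t e
  have h : Sheaf.IsLocallySurjective (cokernel.π j) := by
    rw [Sheaf.isLocallySurjective_iff_epi']
    infer_instance
  have hmem := h.imageSieve_mem t
  obtain ⟨W, f, y, ⟨r, hr⟩, hy, hW⟩ := Groth.Agent.H1.FiltSecEt.exists_affine_of_mem _ hmem e
  refine ⟨W, f, ⟨y, hy⟩, ?_⟩
  haveI := hφ W hW
  obtain ⟨⟨x, c⟩, hxc⟩ := IsLocalizedModule.surj S (φ.hom.app (op W)).hom.toIntLinearMap r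
  refine ⟨c.1, c.2, ?_⟩
  have hxc' : (c : ℤ) • r = φ.hom.app (op W) x := hxc
  have hr' : (cokernel.π j).hom.app (op W) r = (cokernel j).obj.map f.op t := hr
  rw [← hr', ← map_zsmul, hxc', ← hfac, app_comp_apply, ← app_comp_apply j, cokernel.condition]
  rfl

theorem isLocalizedModule_of {M M' : Type*} [AddCommGroup M] [AddCommGroup M']
    (S : Submonoid ℤ) (f : M →+ M')
    (ha : ∀ s : ℤ, s ∈ S → Function.Bijective (fun y : M' => s • y))
    (hb : ∀ y : M', ∃ (s : ℤ) (x : M), s ∈ S ∧ s • y = f x)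
    (hc : ∀ x : M, f x = 0 → ∃ s : ℤ, s ∈ S ∧ s • x = 0) :
    IsLocalizedModule S f.toIntLinearMap := by
  refine ⟨?_, ?_, ?_⟩
  · intro s
    rw [Module.End.isUnit_iff]
    exact ha s.1 s.2
  · intro y
    obtain ⟨s, x, hs, hsx⟩ := hb y
    exact ⟨⟨x, ⟨s, hs⟩⟩, hsx⟩
  · intro x₁ x₂ h12
    have h12' : f x₁ = f x₂ := h12
    obtain ⟨s, hs, hsx⟩ := hc (x₁ - x₂) (by rw [map_sub, h12', sub_self])
    refine ⟨⟨s, hs⟩, ?_⟩
    rw [smul_sub, sub_eq_zero] at hsx
    exact hsx

theorem main (X : Scheme.{u})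
    [CompactSpace X] [QuasiSeparatedSpace X] (S : Submonoid ℤ)
    (F G : EtCoh.Ab X) (φ : F ⟶ G)
    (hφ : ∀ U : X.Etale, IsAffine U.left →
      IsLocalizedModule S (φ.hom.app (op U)).hom.toIntLinearMap)
    (i : ℕ) : IsLocalizedModule S ((EtCoh.HF X i).map φ).hom.toIntLinearMap := by
  have hfac : Abelian.coimage.π φ ≫ Abelian.factorThruCoimage φ = φ := Abelian.coimage.fac φ
  have h₁ : (ShortComplex.mk (kernel.ι φ) (Abelian.coimage.π φ)
      (cokernel.condition (kernel.ι φ))).ShortExact :=
    { exact := ShortComplex.exact_cokernel (kernel.ι φ)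
      mono_f := inferInstanceAs (Mono (kernel.ι φ))
      epi_g := inferInstanceAs (Epi (cokernel.π (kernel.ι φ))) }
  have h₂ : (ShortComplex.mk (Abelian.factorThruCoimage φ)
      (cokernel.π (Abelian.factorThruCoimage φ)) (cokernel.condition _)).ShortExact :=
    { exact := ShortComplex.exact_cokernel _
      mono_f := inferInstanceAs (Mono (Abelian.factorThruCoimage φ))
      epi_g := inferInstanceAs (Epi (cokernel.π (Abelian.factorThruCoimage φ))) }
  have tN := torsExt_of_locTors S _ (locTors_kernel S φ hφ)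
  have tC := torsExt_of_locTors S _ (locTors_cokernel S φ _ _ hfac hφ)
  have key : IsLocalizedModule S (push (ZZ X) φ i).toIntLinearMap := by
    apply isLocalizedModule_of
    · intro s hs
      haveI : IsIso (s • 𝟙 G) := by
        apply isIso_of_bijective_affine
        intro U hU
        haveI := hφ U hU
        have hu := IsLocalizedModule.map_units (φ.hom.app (op U)).hom.toIntLinearMap ⟨s, hs⟩
        rw [Module.End.isUnit_iff] at hu
        exact hu
      have hfun : ∀ y : Ext (ZZ X) G i, s • y = push (ZZ X) (s • 𝟙 G) i y := by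
        intro y
        rw [push_zsmul_id]
      constructor
      · intro y y' hyy
        have hyy' : s • y = s • y' := hyy
        rw [hfun, hfun] at hyy'
        have := congrArg (push (ZZ X) (inv (s • 𝟙 G)) i) hyy'
        rwa [← push_comp, ← push_comp, IsIso.hom_inv_id, push_id, push_id] at this
      · intro y
        refine ⟨push (ZZ X) (inv (s • 𝟙 G)) i y, ?_⟩
        change s • push (ZZ X) (inv (s • 𝟙 G)) i y = y
        rw [hfun, ← push_comp, IsIso.inv_hom_id, push_id]
    · intro y
      obtain ⟨s, x, hs, hsx⟩ := tors_coker _ _ _ _ _ _ h₁ h₂ tN tC i y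
      rw [hfac] at hsx
      exact ⟨s, x, hs, hsx⟩
    · intro x hx
      rw [← hfac] at hx
      exact tors_ker _ _ _ _ _ _ h₁ h₂ tN tC i x hx
  exact key

/-- In the case of the small etale topos of a quasi-compact quasi-separated scheme X (X is then a
coherent object of it), let R = S⁻¹ℤ be a localization of the ring of integers at a multiplicative
subset S, and let φ : F ⟶ G be a morphism of abelian etale sheaves on X which exhibits G as F ⊗ R:
over every affine scheme U etale over X, the map on sections F(U) → G(U) is a localization of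
ℤ-modules at S. Then for every i the induced map on etale cohomology Hⁱ(X, F) → Hⁱ(X, G) is a
localization at S, i.e. the natural map Hⁱ(X, F) ⊗ R → Hⁱ(X, F ⊗ R) is invertible. (The source
states this for a coherent object of an arbitrary topos; the tensor product F ⊗ R is rendered
through its characterisation on affine etale schemes over X.) -/
theorem result (X : Scheme.{u})
    [CompactSpace X] [QuasiSeparatedSpace X] (S : Submonoid ℤ)
    (F G : EtCoh.Ab X) (φ : F ⟶ G)
    (hφ : ∀ U : X.Etale, IsAffine U.left →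
      IsLocalizedModule S (φ.hom.app (op U)).hom.toIntLinearMap)
    (i : ℕ) : IsLocalizedModule S ((EtCoh.HF X i).map φ).hom.toIntLinearMap := by
  exact main X S F G φ hφ i

end Groth.Agent.S19975
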