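import Groth.Statements.S19985
import Groth.Agent.Lib.Helper28.PProjRetr3
import Groth.Agent.Lib.Helper28.LaurentAway
import Groth.Agent.Lib.Helper28.PolyAway
import Groth.Agent.Lib.Helper28.FibreChartLaurent
import Groth.Agent.Lib.Helper28.ChartLocal
-- import your own Groth.Agent.* helpers here

set_option autoImplicit false
universe u
open CategoryTheory CategoryTheory.Limits AlgebraicGeometry Opposite TopologicalSpace
open scoped HomogeneousIdeal
noncomputable section
open EGA2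

namespace Groth.Agent.S19985

/-- Let 𝒮 be a quasi-coherent positively graded O_Y-algebra with 𝒮_0 = O_Y which is generated by 𝒮_1
(over every affine open U the ring 𝒮(U) is generated by its degree-0 and degree-1 parts), Ŝ = 𝒮[z]
(graded homomorphism ι : 𝒮 → Ŝ and a degree-one global section z, polynomial over affine opens), C =
Spec(𝒮), X = Proj(𝒮) and Ĉ = Proj(Ŝ) with their charts, E ⊆ C and Ê ⊆ Ĉ the pointed cones, i : C → Ĉ
the canonical open immersion and p : Ê → X the canonical retraction (the morphism which on each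
affine piece Spec Ŝ(U)_(ι f), f ∈ 𝒮(U) homogeneous of positive degree, is Spec of 𝒮(U)_(f) → Ŝ(U)_(ι
f) followed by the chart of X). Then p is of finite type (locally of finite type and quasi-compact)
and for every point x of X the fibre p⁻¹(x) = Ê ×_X Spec k(x) is isomorphic over k(x) to the affine
line Spec k(x)[T]; and for every factorisation i' : E → Ê of i restricted to E, the composite π = p
∘ i' : E → X is of finite type and its fibre at every x is isomorphic over k(x) to Spec k(x)[T,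
T⁻¹]. -/
theorem result {Y PC P : Scheme.{u}} (𝒮 𝒮h : RelProj.QCGrAlg Y) (h0 : RelCone.StrZeroBij 𝒮)
    (hgen : 𝒮.IsGenDegOne)
    (ι : 𝒮.toQCAlg ⟶ 𝒮h.toQCAlg) (z : 𝒮h.presheaf.obj (op ⊤)) (hz : RelCone.IsPolyOver 𝒮 𝒮h ι z)
    (pC : PC ⟶ Y)
    (chartC : ∀ (U : Y.Opens) (hU : IsAffineOpen U), (((pC ⁻¹ᵁ U : PC.Opens) : Scheme.{u}) ≅ Proj (𝒮h.deg U hU)))
    (hPC : RelProj.IsRelProj 𝒮h pC chartC)
    (p : P ⟶ Y)
    (chart : ∀ (U : Y.Opens) (hU : IsAffineOpen U), (((p ⁻¹ᵁ U : P.Opens) : Scheme.{u}) ≅ Proj (𝒮.deg U hU)))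
    (hP : RelProj.IsRelProj 𝒮 p chart)
    (i : 𝒮.toQCAlg.spec ⟶ PC) (hi : RelCone.IsConeImm 𝒮 hz pC chartC i)
    (r : ((RelCone.pointedProjCone 𝒮 hz pC chartC : PC.Opens) : Scheme.{u}) ⟶ P)
    (hr : (∀ (U : Y.Opens) (hU : IsAffineOpen U) (d : ℕ) (hd : 0 < d) (f : 𝒮.presheaf.obj (op U)) (hf : f ∈ 𝒮.deg U hU d)
        (g : Spec (CommRingCat.of (HomogeneousLocalization.Away (𝒮h.deg U hU) ((RelProj.gradedHomAt ι hz.graded U hU) f))) ⟶
          ((RelCone.pointedProjCone 𝒮 hz pC chartC : PC.Opens) : Scheme.{u})),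
        g ≫ (RelCone.pointedProjCone 𝒮 hz pC chartC).ι =
            Proj.awayι (𝒮h.deg U hU) ((RelProj.gradedHomAt ι hz.graded U hU) f) ((RelProj.gradedHomAt ι hz.graded U hU).2 hf) hd ≫
              RelProj.emb pC chartC U hU →
          g ≫ r =
            Spec.map (CommRingCat.ofHom (HomogeneousLocalization.Away.map (RelProj.gradedHomAt ι hz.graded U hU) f)) ≫
              Proj.awayι (𝒮.deg U hU) f hf hd ≫ RelProj.emb p chart U hU)) :
    (LocallyOfFiniteType r ∧ QuasiCompact r ∧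
        ∀ x : ↥P, ∃ e : pullback r (P.fromSpecResidueField x) ≅ Spec (CommRingCat.of (Polynomial (P.residueField x))),
          e.hom ≫ Spec.map (CommRingCat.ofHom (algebraMap (P.residueField x) (Polynomial (P.residueField x)))) =
            pullback.snd r (P.fromSpecResidueField x)) ∧
      ∀ i' : ((RelCone.pointedCone 𝒮 : 𝒮.toQCAlg.spec.Opens) : Scheme.{u}) ⟶
          ((RelCone.pointedProjCone 𝒮 hz pC chartC : PC.Opens) : Scheme.{u}),
        i' ≫ (RelCone.pointedProjCone 𝒮 hz pC chartC).ι = (RelCone.pointedCone 𝒮).ι ≫ i →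
          LocallyOfFiniteType (i' ≫ r) ∧ QuasiCompact (i' ≫ r) ∧
        ∀ x : ↥P, ∃ e : pullback (i' ≫ r) (P.fromSpecResidueField x) ≅ Spec (CommRingCat.of (LaurentPolynomial (P.residueField x))),
          e.hom ≫ Spec.map (CommRingCat.ofHom (algebraMap (P.residueField x) (LaurentPolynomial (P.residueField x)))) =
            pullback.snd (i' ≫ r) (P.fromSpecResidueField x) := by
  classical
  have hr' : Groth.Agent.Lib.helper28.PProjRetr.IsRetr hz (chart := chart) r := hr
  have haff : IsAffineHom r := hr'.isAffineHom hPC hP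
  let J : Type u := Σ U : {U : Y.Opens // IsAffineOpen U},
    {f : 𝒮.presheaf.obj (op U.1) // f ∈ 𝒮.deg U.1 U.2 1}
  have hcov : ∀ x : P, ∃ j : J, x ∈ Set.range
      (Proj.awayι (𝒮.deg j.1.1 j.1.2) j.2.1 j.2.2 one_pos ≫
        RelProj.emb p chart j.1.1 j.1.2).base := by
    intro x
    obtain ⟨U, hU, f, hf, h⟩ :=
      Groth.Agent.Lib.helper28.PProjRetr.exists_deg_one_chart (p := p) (chart := chart) hgen x
    exact ⟨⟨⟨U, hU⟩, ⟨f, hf⟩⟩, h⟩
  refine ⟨⟨?_, inferInstance, ?_⟩, ?_⟩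
  · refine Groth.Agent.Lib.helper28.ChartLocal.of_charts r (J := J)
      (T := fun j => Spec (CommRingCat.of (HomogeneousLocalization.Away (𝒮h.deg j.1.1 j.1.2)
        ((RelProj.gradedHomAt ι hz.graded j.1.1 j.1.2) j.2.1))))
      (Q := fun j => Spec (CommRingCat.of (HomogeneousLocalization.Away (𝒮.deg j.1.1 j.1.2) j.2.1)))
      (fun j => Groth.Agent.Lib.helper28.PProjRetr.wChart hz (pC := pC) (chartC := chartC)
        j.1.1 j.1.2 one_pos j.2.1 j.2.2)
      (fun j => Proj.awayι (𝒮.deg j.1.1 j.1.2) j.2.1 j.2.2 one_pos ≫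
        RelProj.emb p chart j.1.1 j.1.2)
      (fun j => Spec.map (CommRingCat.ofHom (HomogeneousLocalization.Away.map
        (RelProj.gradedHomAt ι hz.graded j.1.1 j.1.2) j.2.1)))
      @LocallyOfFiniteType
      (fun j => hr' j.1.1 j.1.2 1 one_pos j.2.1 j.2.2 _
        (Groth.Agent.Lib.helper28.PProjRetr.wChart_ι hz j.1.1 j.1.2 one_pos j.2.1 j.2.2))
      (fun j => hr'.preimage_chart hPC hP j.1.1 j.1.2 one_pos j.2.1 j.2.2) hcov ?_
    intro j
    rw [HasRingHomProperty.Spec_iff (P := @LocallyOfFiniteType)]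
    have h1 : HomogeneousLocalization.Away.map (RelProj.gradedHomAt ι hz.graded j.1.1 j.1.2) j.2.1 =
        (Groth.Agent.Lib.helper28.PolyAway.polyToAway (RelProj.gradedHomAt ι hz.graded j.1.1 j.1.2)
          (RelCone.restrictTop 𝒮h z j.1.1) j.2.1 j.2.2 (hz.deg_z j.1.1 j.1.2)).comp
          Polynomial.C := by
      refine RingHom.ext fun c => ?_
      exact (Groth.Agent.Lib.helper28.PolyAway.polyToAway_C _ _ j.2.1 j.2.2
        (hz.deg_z j.1.1 j.1.2) c).symm
    change RingHom.FiniteType (HomogeneousLocalization.Away.map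
      (RelProj.gradedHomAt ι hz.graded j.1.1 j.1.2) j.2.1)
    rw [h1]
    refine RingHom.FiniteType.comp (RingHom.FiniteType.of_surjective _
      (Groth.Agent.Lib.helper28.PolyAway.polyToAway_surjective _ _ j.2.1 j.2.2
        (hz.deg_z j.1.1 j.1.2) (hz.bij j.1.1 j.1.2).2)) ?_
    exact (RingHom.finiteType_algebraMap
      (A := HomogeneousLocalization.Away (𝒮.deg j.1.1 j.1.2) j.2.1)
      (B := Polynomial (HomogeneousLocalization.Away (𝒮.deg j.1.1 j.1.2) j.2.1))).mpr inferInstance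
  · intro x
    obtain ⟨j, hxj⟩ := hcov x
    exact Groth.Agent.Lib.helper28.FibreChart.exists_fibre_iso_polynomial r x
      (Proj.awayι (𝒮.deg j.1.1 j.1.2) j.2.1 j.2.2 one_pos ≫ RelProj.emb p chart j.1.1 j.1.2)
      (Groth.Agent.Lib.helper28.PProjRetr.wChart hz (pC := pC) (chartC := chartC)
        j.1.1 j.1.2 one_pos j.2.1 j.2.2)
      (CommRingCat.ofHom (HomogeneousLocalization.Away.map
        (RelProj.gradedHomAt ι hz.graded j.1.1 j.1.2) j.2.1)) hxj
      (hr' j.1.1 j.1.2 1 one_pos j.2.1 j.2.2 _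
        (Groth.Agent.Lib.helper28.PProjRetr.wChart_ι hz j.1.1 j.1.2 one_pos j.2.1 j.2.2))
      (hr'.preimage_chart hPC hP j.1.1 j.1.2 one_pos j.2.1 j.2.2)
      (Groth.Agent.Lib.helper28.PolyAway.polyAwayEquiv (RelProj.gradedHomAt ι hz.graded j.1.1 j.1.2)
        (RelCone.restrictTop 𝒮h z j.1.1) j.2.1 j.2.2 (hz.deg_z j.1.1 j.1.2) (hz.bij j.1.1 j.1.2))
      (Groth.Agent.Lib.helper28.PolyAway.polyAwayEquiv_C (RelProj.gradedHomAt ι hz.graded j.1.1 j.1.2)
        (RelCone.restrictTop 𝒮h z j.1.1) j.2.1 j.2.2 (hz.deg_z j.1.1 j.1.2) (hz.bij j.1.1 j.1.2))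
  · intro i' hi'
    have haff' : IsAffineHom i' :=
      Groth.Agent.Lib.helper28.PProjRetr.isAffineHom_of_lift hPC hi i' hi'
    have haffc : IsAffineHom (i' ≫ r) := inferInstance
    refine ⟨?_, inferInstance, ?_⟩
    · refine Groth.Agent.Lib.helper28.ChartLocal.of_charts (i' ≫ r) (J := J)
        (T := fun j => Spec (CommRingCat.of (Localization.Away j.2.1)))
        (Q := fun j => Spec (CommRingCat.of
          (HomogeneousLocalization.Away (𝒮.deg j.1.1 j.1.2) j.2.1)))
        (fun j => Groth.Agent.Lib.helper28.PProjRetr.cChart 𝒮 j.1.1 j.1.2 one_pos j.2.1 j.2.2)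
        (fun j => Proj.awayι (𝒮.deg j.1.1 j.1.2) j.2.1 j.2.2 one_pos ≫
          RelProj.emb p chart j.1.1 j.1.2)
        (fun j => Spec.map (CommRingCat.ofHom (algebraMap
          (HomogeneousLocalization.Away (𝒮.deg j.1.1 j.1.2) j.2.1) (Localization.Away j.2.1))))
        @LocallyOfFiniteType
        (fun j => Groth.Agent.Lib.helper28.PProjRetr.cChart_comp hi hr' i' hi' j.1.1 j.1.2
          one_pos j.2.1 j.2.2)
        (fun j => Groth.Agent.Lib.helper28.PProjRetr.preimage_cChart hPC hP hi hr' i' hi'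
          j.1.1 j.1.2 one_pos j.2.1 j.2.2) hcov ?_
      intro j
      rw [HasRingHomProperty.Spec_iff (P := @LocallyOfFiniteType)]
      have h1 : algebraMap (HomogeneousLocalization.Away (𝒮.deg j.1.1 j.1.2) j.2.1)
          (Localization.Away j.2.1) =
          (Groth.Agent.Lib.helper28.LaurentAway.laurentToAway (𝒮.deg j.1.1 j.1.2) j.2.1).comp
            LaurentPolynomial.C := by
        refine RingHom.ext fun c => ?_
        exact (Groth.Agent.Lib.helper28.LaurentAway.laurentToAway_C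
          (𝒮.deg j.1.1 j.1.2) j.2.1 c).symm
      change RingHom.FiniteType (algebraMap
        (HomogeneousLocalization.Away (𝒮.deg j.1.1 j.1.2) j.2.1) (Localization.Away j.2.1))
      rw [h1]
      refine RingHom.FiniteType.comp (RingHom.FiniteType.of_surjective _
        (Groth.Agent.Lib.helper28.LaurentAway.laurentToAway_surjective
          (𝒮.deg j.1.1 j.1.2) j.2.1 j.2.2)) ?_
      exact (RingHom.finiteType_algebraMap
        (A := HomogeneousLocalization.Away (𝒮.deg j.1.1 j.1.2) j.2.1)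
        (B := LaurentPolynomial
          (HomogeneousLocalization.Away (𝒮.deg j.1.1 j.1.2) j.2.1))).mpr inferInstance
    · intro x
      obtain ⟨j, hxj⟩ := hcov x
      exact Groth.Agent.Lib.helper28.FibreChart.exists_fibre_iso_laurent (i' ≫ r) x
        (Proj.awayι (𝒮.deg j.1.1 j.1.2) j.2.1 j.2.2 one_pos ≫ RelProj.emb p chart j.1.1 j.1.2)
        (Groth.Agent.Lib.helper28.PProjRetr.cChart 𝒮 j.1.1 j.1.2 one_pos j.2.1 j.2.2)
        (CommRingCat.ofHom (algebraMap
          (HomogeneousLocalization.Away (𝒮.deg j.1.1 j.1.2) j.2.1) (Localization.Away j.2.1)))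
        hxj
        (Groth.Agent.Lib.helper28.PProjRetr.cChart_comp hi hr' i' hi' j.1.1 j.1.2
          one_pos j.2.1 j.2.2)
        (Groth.Agent.Lib.helper28.PProjRetr.preimage_cChart hPC hP hi hr' i' hi'
          j.1.1 j.1.2 one_pos j.2.1 j.2.2)
        (Groth.Agent.Lib.helper28.LaurentAway.laurentAwayEquiv (𝒮.deg j.1.1 j.1.2) j.2.1 j.2.2)
        (Groth.Agent.Lib.helper28.LaurentAway.laurentAwayEquiv_C (𝒮.deg j.1.1 j.1.2) j.2.1 j.2.2)

end Groth.Agent.S19985
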