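import Groth.Statements.S1999
import Mathlib
set_option linter.style.haveILetI false
set_option linter.unusedSectionVars false

set_option autoImplicit false
universe u
open scoped Pointwise
open EtAlg

namespace Groth.Agent.S1999

section abstract

open Polynomial

variable {A B G : Type*} [CommRing A] [CommRing B] [IsDedekindDomain B] [Algebra A B]
  [Group G] [MulSemiringAction G B] [SMulCommClass G A B]
  (m : Ideal B) [hm : m.IsMaximal]

omit [IsDedekindDomain B] in
/-- for `x ∉ m`, `x * d ∈ m^(j+1)`, `d ∈ m^j` implies `d ∈ m^(j+1)`. -/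
theorem mem_pow_succ_of_mul_mem {j : ℕ} {x d : B} (hx : x ∉ m) (hd : d ∈ m ^ j)
    (hxd : x * d ∈ m ^ (j + 1)) : d ∈ m ^ (j + 1) := by
  obtain ⟨y, i, hi, hy⟩ := Ideal.IsMaximal.exists_inv hm hx
  have h1 : d = y * (x * d) + i * d := by
    calc d = (y * x + i) * d := by rw [hy, one_mul]
      _ = _ := by ring
  rw [h1]
  refine Ideal.add_mem _ (Ideal.mul_mem_left _ _ hxd) ?_
  rw [pow_succ']
  exact Ideal.mul_mem_mul hi hd

/-- `σ` acts trivially on `B / m^j`. -/
def Triv (j : ℕ) (σ : G) : Prop := ∀ x : B, σ • x - x ∈ m ^ j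

variable {m}

omit [IsDedekindDomain B] hm in
theorem Triv.mono {j j' : ℕ} (h : j' ≤ j) {σ : G} (hσ : Triv m j σ) : Triv m j' σ :=
  fun x => Ideal.pow_le_pow_right h (hσ x)

omit [IsDedekindDomain B] hm in
theorem Triv.one (j : ℕ) : Triv m j (1 : G) := fun x => by simp

omit [IsDedekindDomain B] hm in
theorem Triv.mul {j : ℕ} {σ τ : G} (hσ : Triv m j σ) (hτ : Triv m j τ) : Triv m j (σ * τ) := by
  intro x
  have : (σ * τ) • x - x = (σ • (τ • x) - τ • x) + (τ • x - x) := by rw [mul_smul]; ring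
  rw [this]
  exact Ideal.add_mem _ (hσ _) (hτ _)

omit [IsDedekindDomain B] hm in
theorem Triv.pow {j : ℕ} {σ : G} (hσ : Triv m j σ) (n : ℕ) : Triv m j (σ ^ n) := by
  induction n with
  | zero => rw [pow_zero]; exact Triv.one j
  | succ n ih => rw [pow_succ]; exact ih.mul hσ

omit [IsDedekindDomain B] hm in
/-- a trivially acting element preserves `m^r`. -/
theorem Triv.smul_mem {j : ℕ} {σ : G} (hσ : Triv m j σ) {r : ℕ} (hr : r ≤ j) {y : B}
    (hy : y ∈ m ^ r) : σ • y ∈ m ^ r := by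
  have : σ • y = (σ • y - y) + y := by ring
  rw [this]
  exact Ideal.add_mem _ (Ideal.pow_le_pow_right hr (hσ y)) hy

omit [IsDedekindDomain B] hm in
/-- Leibniz rule. -/
theorem smul_mul_sub (σ : G) (x y : B) :
    σ • (x * y) - x * y = σ • x * (σ • y - y) + (σ • x - x) * y := by
  rw [smul_mul']; ring

omit [IsDedekindDomain B] hm in
/-- **Lemma B**: if `σ` acts trivially mod `m^(j+1)` then `σ y - y ∈ m^(r+j)` for `y ∈ m^r`. -/
theorem Triv.sub_mem_pow_add {j : ℕ} {σ : G} (hσ : Triv m (j + 1) σ) (r : ℕ) {y : B}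
    (hy : y ∈ m ^ r) : σ • y - y ∈ m ^ (r + j) := by
  induction r generalizing y with
  | zero =>
    rw [zero_add]
    exact Ideal.pow_le_pow_right (Nat.le_succ j) (hσ y)
  | succ r ih =>
    rw [pow_succ] at hy
    refine Submodule.mul_induction_on hy ?_ ?_
    · intro u hu v hv
      rw [smul_mul_sub]
      refine Ideal.add_mem _ ?_ ?_
      · have h1 : σ • u ∈ m ^ r := by
          have : σ • u = (σ • u - u) + u := by ring
          rw [this]
          exact Ideal.add_mem _ (Ideal.pow_le_pow_right (Nat.le_add_right r j) (ih hu)) hu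
        have h2 : σ • u * (σ • v - v) ∈ m ^ r * m ^ (j + 1) := Ideal.mul_mem_mul h1 (hσ v)
        rw [← pow_add] at h2
        convert h2 using 2
        ring
      · have h2 : (σ • u - u) * v ∈ m ^ (r + j) * m := Ideal.mul_mem_mul (ih hu) hv
        rw [← pow_succ] at h2
        convert h2 using 2
        ring
    · intro u v hu hv
      have : σ • (u + v) - (u + v) = (σ • u - u) + (σ • v - v) := by rw [smul_add]; ring
      rw [this]
      exact Ideal.add_mem _ hu hv

variable (m) in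
omit [IsDedekindDomain B] [Group G] [MulSemiringAction G B] [SMulCommClass G A B] in
theorem exists_poly [Algebra.IsSeparable (A ⧸ m.comap (algebraMap A B)) (B ⧸ m)] (x : B) :
    ∃ f : A[X], aeval x f ∈ m ∧ aeval x (derivative f) ∉ m := by
  let p : Ideal A := m.comap (algebraMap A B)
  let xb : B ⧸ m := Ideal.Quotient.mk m x
  have hs : (minpoly (A ⧸ p) xb).Separable := Algebra.IsSeparable.isSeparable (A ⧸ p) xb
  obtain ⟨f, hf⟩ := Polynomial.map_surjective (Ideal.Quotient.mk p) Ideal.Quotient.mk_surjective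
    (minpoly (A ⧸ p) xb)
  have hcomp : ∀ g : A[X], aeval xb (g.map (Ideal.Quotient.mk p)) =
      Ideal.Quotient.mk m (aeval x g) := by
    intro g
    have h1 : Ideal.Quotient.mk p = algebraMap A (A ⧸ p) := rfl
    have h2 : xb = algebraMap B (B ⧸ m) x := rfl
    have h3 : Ideal.Quotient.mk m = algebraMap B (B ⧸ m) := rfl
    rw [h1, Polynomial.aeval_map_algebraMap, h2, Polynomial.aeval_algebraMap_apply, h3]
  refine ⟨f, ?_, ?_⟩
  · rw [← Ideal.Quotient.eq_zero_iff_mem, ← hcomp, hf, minpoly.aeval]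
  · obtain ⟨a, b, hab⟩ := hs
    have h1 := congrArg (aeval xb) hab
    rw [map_add, map_mul, map_mul, minpoly.aeval, mul_zero, zero_add, map_one, ← hf,
      Polynomial.derivative_map, hcomp] at h1
    intro hmem
    rw [← Ideal.Quotient.eq_zero_iff_mem] at hmem
    rw [hmem, mul_zero] at h1
    have : Nontrivial (B ⧸ m) := Ideal.Quotient.nontrivial_iff.mpr hm.ne_top
    exact zero_ne_one h1

omit [IsDedekindDomain B] hm in
theorem smul_aeval (σ : G) (x : B) (f : A[X]) : σ • aeval x f = aeval (σ • x) f := by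
  have := Polynomial.aeval_algHom_apply (MulSemiringAction.toAlgHom A B σ) x f
  exact this.symm

/-- `m = (π) + m²` for `π ∈ m ∖ m²`. -/
theorem span_sup_sq_eq {π : B} (hπ : π ∈ m) (hπ2 : π ∉ m ^ 2) :
    Ideal.span {π} ⊔ m ^ 2 = m := by
  have hm0 : m ≠ ⊥ := by
    rintro rfl
    apply hπ2
    rw [Ideal.mem_bot] at hπ
    rw [hπ]
    exact Ideal.zero_mem _
  have h := Ideal.eq_prime_pow_of_succ_lt_of_le (P := m) (I := Ideal.span {π} ⊔ m ^ 2) hm0 (i := 1)
    ?_ ?_
  · rw [h, pow_one]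
  · refine lt_of_le_of_ne le_sup_right ?_
    intro h
    apply hπ2
    change π ∈ m ^ (1 + 1)
    rw [h]
    exact Ideal.mem_sup_left (Ideal.mem_span_singleton_self π)
  · rw [pow_one]
    exact sup_le ((Ideal.span_singleton_le_iff_mem _).mpr hπ) (Ideal.pow_le_self two_ne_zero)

/-- **Lemma A**. -/
theorem Triv.succ [Algebra.IsSeparable (A ⧸ m.comap (algebraMap A B)) (B ⧸ m)] {j : ℕ} {σ : G}
    (hσ : Triv m (j + 1) σ) {π : B} (hπ : π ∈ m) (hπ2 : π ∉ m ^ 2)
    (hσπ : σ • π - π ∈ m ^ (j + 2)) : Triv m (j + 2) σ := by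
  -- Step 1: elements of `m`
  have step1 : ∀ y ∈ m, σ • y - y ∈ m ^ (j + 2) := by
    intro y hy
    rw [← span_sup_sq_eq hπ hπ2, Submodule.mem_sup] at hy
    obtain ⟨y₁, hy₁, z, hz, rfl⟩ := hy
    obtain ⟨b, rfl⟩ := Ideal.mem_span_singleton'.mp hy₁
    have e : σ • (b * π + z) - (b * π + z) =
        σ • b * (σ • π - π) + (σ • b - b) * π + (σ • z - z) := by
      rw [smul_add, smul_mul']; ring
    rw [e]
    refine Ideal.add_mem _ (Ideal.add_mem _ (Ideal.mul_mem_left _ _ hσπ) ?_) ?_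
    · have := Ideal.mul_mem_mul (hσ b) hπ
      rwa [← pow_succ] at this
    · have := hσ.sub_mem_pow_add 2 hz
      rwa [add_comm 2 j] at this
  intro x
  obtain ⟨f, hf, hf'⟩ := exists_poly (A := A) m x
  set d := σ • x - x with hd
  have hdm : d ∈ m ^ (j + 1) := hσ x
  have h1 : σ • aeval x f - aeval x f ∈ m ^ (j + 2) := step1 _ hf
  rw [smul_aeval, show σ • x = x + d by rw [hd]; ring] at h1
  obtain ⟨c, hc⟩ := (f.map (algebraMap A B)).binomExpansion x d
  rw [Polynomial.eval_map_algebraMap, Polynomial.eval_map_algebraMap,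
    Polynomial.derivative_map, Polynomial.eval_map_algebraMap] at hc
  rw [hc] at h1
  have h2 : c * d ^ 2 ∈ m ^ (j + 2) := by
    refine Ideal.mul_mem_left _ _ ?_
    have := Ideal.pow_mem_pow hdm 2
    rw [← pow_mul] at this
    exact Ideal.pow_le_pow_right (by omega) this
  have h3 : aeval x (derivative f) * d ∈ m ^ (j + 2) := by
    have e : aeval x (derivative f) * d =
        (aeval x f + aeval x (derivative f) * d + c * d ^ 2 - aeval x f) - c * d ^ 2 := by ring
    rw [e]
    exact Ideal.sub_mem _ h1 h2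
  exact mem_pow_succ_of_mul_mem m hf' hdm h3

omit [IsDedekindDomain B] hm in
/-- **Lemma C**. -/
theorem Triv.pow_smul_sub {j : ℕ} {σ : G} (hσ : Triv m (j + 2) σ) (π : B) (n : ℕ) :
    σ ^ n • π - π - n • (σ • π - π) ∈ m ^ (j + 3) := by
  induction n with
  | zero => simp
  | succ n ih =>
    have ha : σ • π - π ∈ m ^ (j + 2) := hσ π
    have h1 : σ ^ n • (σ • π - π) - (σ • π - π) ∈ m ^ (j + 3) := by
      have := (hσ.pow n).sub_mem_pow_add (j := j + 1) (j + 2) ha
      exact Ideal.pow_le_pow_right (by omega) this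
    have e : σ ^ (n + 1) • π - π - (n + 1) • (σ • π - π) =
        (σ ^ n • π - π - n • (σ • π - π)) + (σ ^ n • (σ • π - π) - (σ • π - π)) := by
      have e1 : σ ^ (n + 1) • π = σ ^ n • (σ • π) := by rw [pow_succ, mul_smul]
      have e2 : σ ^ n • (σ • π - π) = σ ^ n • (σ • π) - σ ^ n • π := smul_sub _ _ _
      rw [e1, e2, succ_nsmul]; ring
    rw [e]
    exact Ideal.add_mem _ ih h1

/-- **Lemma D**. -/
theorem Triv.pow_of_mem [Algebra.IsSeparable (A ⧸ m.comap (algebraMap A B)) (B ⧸ m)] {j : ℕ} {σ : G}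
    (hσ : Triv m (j + 2) σ) {π : B} (hπ : π ∈ m) (hπ2 : π ∉ m ^ 2) {p : ℕ} (hp : (p : B) ∈ m) :
    Triv m (j + 3) (σ ^ p) := by
  refine Triv.succ (A := A) (j := j + 1) (hσ.pow p) hπ hπ2 ?_
  have h1 := hσ.pow_smul_sub π p
  have h2 : p • (σ • π - π) ∈ m ^ (j + 3) := by
    rw [nsmul_eq_mul, pow_succ']
    exact Ideal.mul_mem_mul hp (hσ π)
  have e : σ ^ p • π - π = (σ ^ p • π - π - p • (σ • π - π)) + p • (σ • π - π) := by ring
  rw [e]
  exact Ideal.add_mem _ h1 h2

/-- **Lemma E**. -/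
theorem Triv.succ_of_pow_eq_one [Algebra.IsSeparable (A ⧸ m.comap (algebraMap A B)) (B ⧸ m)]
    {j : ℕ} {σ : G} (hσ : Triv m (j + 2) σ) {π : B} (hπ : π ∈ m) (hπ2 : π ∉ m ^ 2) {n : ℕ}
    (hn : (n : B) ∉ m) (hσn : σ ^ n = 1) : Triv m (j + 3) σ := by
  refine Triv.succ (A := A) (j := j + 1) hσ hπ hπ2 ?_
  have h1 := hσ.pow_smul_sub π n
  rw [hσn, one_smul, sub_self, zero_sub, neg_mem_iff, nsmul_eq_mul] at h1
  exact mem_pow_succ_of_mul_mem m hn (hσ π) h1

omit [Algebra A B] [SMulCommClass G A B] in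
theorem exists_unif (hm0 : m ≠ ⊥) : ∃ π : B, π ∈ m ∧ π ∉ m ^ 2 := by
  have hlt : m ^ 2 < m := by
    have := Ideal.pow_right_strictAnti m hm0 hm.ne_top (show 1 < 2 by norm_num)
    simpa using this
  obtain ⟨π, h1, h2⟩ := SetLike.exists_of_lt hlt
  exact ⟨π, h1, h2⟩

omit [Algebra A B] [SMulCommClass G A B] in
/-- acting trivially modulo all powers of `m` means being trivial. -/
theorem eq_one_of_forall_triv [FaithfulSMul G B] {τ : G} (h : ∀ N, Triv m N τ) : τ = 1 := by
  apply FaithfulSMul.eq_of_smul_eq_smul (α := B)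
  intro x
  rw [one_smul, ← sub_eq_zero]
  have hx : τ • x - x ∈ ⨅ N, m ^ N := by
    rw [Ideal.mem_iInf]
    exact fun N => h N x
  rw [Ideal.iInf_pow_eq_bot_of_isDomain m hm.ne_top] at hx
  exact hx

omit [Algebra A B] [SMulCommClass G A B] in
theorem exists_bound [Finite G] [FaithfulSMul G B] : ∃ N, ∀ τ : G, Triv m N τ → τ = 1 := by
  classical
  have key : ∀ τ : G, ∃ N, Triv m N τ → τ = 1 := by
    intro τ
    by_cases hτ : τ = 1
    · exact ⟨0, fun _ => hτ⟩
    · have : ¬ ∀ N, Triv m N τ := fun h => hτ (eq_one_of_forall_triv h)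
      push Not at this
      obtain ⟨N, hN⟩ := this
      exact ⟨N, fun h => (hN h).elim⟩
  choose N hN using key
  cases nonempty_fintype G
  refine ⟨Finset.univ.sup N, fun τ hτ => hN τ (hτ.mono (Finset.le_sup (Finset.mem_univ τ)))⟩

theorem exists_pow_eq_one [Finite G] [FaithfulSMul G B]
    [Algebra.IsSeparable (A ⧸ m.comap (algebraMap A B)) (B ⧸ m)] (hm0 : m ≠ ⊥) {p : ℕ}
    (hp : (p : B) ∈ m) {σ : G} (hσ : Triv m 2 σ) : ∃ k, σ ^ (p ^ k) = 1 := by
  obtain ⟨π, hπ, hπ2⟩ := exists_unif hm0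
  obtain ⟨N, hN⟩ := exists_bound (m := m) (G := G)
  have key : ∀ n : ℕ, Triv m (n + 2) (σ ^ (p ^ n)) := by
    intro n
    induction n with
    | zero => simpa using hσ
    | succ n ih =>
      rw [pow_succ, pow_mul]
      exact Triv.pow_of_mem (A := A) ih hπ hπ2 hp
  exact ⟨N, hN _ ((key N).mono (by omega))⟩

theorem eq_one_of_triv_two [Finite G] [FaithfulSMul G B]
    [Algebra.IsSeparable (A ⧸ m.comap (algebraMap A B)) (B ⧸ m)] (hm0 : m ≠ ⊥)
    (hchar : ∀ n : ℕ, n ≠ 0 → (n : B) ∉ m) {σ : G} (hσ : Triv m 2 σ) : σ = 1 := by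
  obtain ⟨π, hπ, hπ2⟩ := exists_unif hm0
  have key : ∀ j : ℕ, Triv m (j + 2) σ := by
    intro j
    induction j with
    | zero => exact hσ
    | succ j ih =>
      exact Triv.succ_of_pow_eq_one (A := A) ih hπ hπ2 (hchar _ (orderOf_pos σ).ne')
        (pow_orderOf_eq_one σ)
  exact eq_one_of_forall_triv fun N => (key N).mono (by omega)

omit [Algebra A B] [SMulCommClass G A B] in
theorem exists_coeff {π : B} (hπ : π ∈ m) (hπ2 : π ∉ m ^ 2) {σ : G} (hσ : Triv m 1 σ) :
    ∃ b : B, σ • π - b * π ∈ m ^ 2 := by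
  have h1 : σ • π ∈ m := by
    have := hσ.smul_mem (r := 1) le_rfl (y := π) (by rwa [pow_one])
    rwa [pow_one] at this
  rw [← span_sup_sq_eq hπ hπ2, Submodule.mem_sup] at h1
  obtain ⟨y₁, hy₁, z, hz, e⟩ := h1
  obtain ⟨b, rfl⟩ := Ideal.mem_span_singleton'.mp hy₁
  refine ⟨b, ?_⟩
  rw [← e]
  simpa using hz

omit [IsDedekindDomain B] [Algebra A B] [Group G] [MulSemiringAction G B] [SMulCommClass G A B] in
theorem coeff_unique {π : B} (hπ : π ∈ m) (hπ2 : π ∉ m ^ 2) {y b b' : B}
    (h : y - b * π ∈ m ^ 2) (h' : y - b' * π ∈ m ^ 2) : b - b' ∈ m := by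
  by_contra hb
  apply hπ2
  have h1 : (b - b') * π ∈ m ^ (1 + 1) := by
    have e : (b - b') * π = (y - b' * π) - (y - b * π) := by ring
    rw [e]
    exact Ideal.sub_mem _ h' h
  exact mem_pow_succ_of_mul_mem m hb (by rwa [pow_one]) h1

omit [IsDedekindDomain B] hm [Algebra A B] [SMulCommClass G A B] in
theorem mem_inertia_iff {j : ℕ} {σ : G} : σ ∈ (m ^ j).inertia G ↔ Triv m j σ := Iff.rfl

omit [IsDedekindDomain B] hm [Algebra A B] [SMulCommClass G A B] in
theorem triv_one_iff {σ : G} : Triv m 1 σ ↔ σ ∈ m.inertia G := by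
  constructor
  · intro h x
    have := h x
    rwa [pow_one] at this
  · intro h x
    rw [pow_one]
    exact h x

/-- the coefficient `b` with `σ π ≡ b π mod m²`. -/
noncomputable def coeff {π : B} (hπ : π ∈ m) (hπ2 : π ∉ m ^ 2) (σ : m.inertia G) : B :=
  Classical.choose (exists_coeff (G := G) hπ hπ2 (σ := σ.1) (triv_one_iff.mpr σ.2))

omit [Algebra A B] [SMulCommClass G A B] in
theorem coeff_spec {π : B} (hπ : π ∈ m) (hπ2 : π ∉ m ^ 2) (σ : m.inertia G) :
    σ.1 • π - coeff hπ hπ2 σ * π ∈ m ^ 2 :=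
  Classical.choose_spec (exists_coeff (G := G) hπ hπ2 (σ := σ.1) (triv_one_iff.mpr σ.2))

omit [Algebra A B] [SMulCommClass G A B] in
theorem mk_coeff_eq {π : B} (hπ : π ∈ m) (hπ2 : π ∉ m ^ 2) (σ : m.inertia G) {b : B}
    (h : σ.1 • π - b * π ∈ m ^ 2) :
    Ideal.Quotient.mk m (coeff hπ hπ2 σ) = Ideal.Quotient.mk m b := by
  rw [Ideal.Quotient.eq]
  exact coeff_unique hπ hπ2 (coeff_spec hπ hπ2 σ) h

/-- the tame character. -/
noncomputable def theta {π : B} (hπ : π ∈ m) (hπ2 : π ∉ m ^ 2) : m.inertia G →* (B ⧸ m) where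
  toFun σ := Ideal.Quotient.mk m (coeff hπ hπ2 σ)
  map_one' := by
    rw [← map_one (Ideal.Quotient.mk m)]
    apply mk_coeff_eq
    simp
  map_mul' := by
    intro σ τ
    rw [← map_mul (Ideal.Quotient.mk m)]
    apply mk_coeff_eq
    have hσ : Triv m 1 σ.1 := triv_one_iff.mpr σ.2
    have h1 := coeff_spec hπ hπ2 σ
    have h2 := coeff_spec hπ hπ2 τ
    set bσ := coeff hπ hπ2 σ
    set bτ := coeff hπ hπ2 τ
    have h3 : σ.1 • (τ.1 • π - bτ * π) ∈ m ^ 2 := by
      have := hσ.sub_mem_pow_add (j := 0) 2 h2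
      have e : σ.1 • (τ.1 • π - bτ * π) =
          (σ.1 • (τ.1 • π - bτ * π) - (τ.1 • π - bτ * π)) + (τ.1 • π - bτ * π) := by ring
      rw [e]
      exact Ideal.add_mem _ this h2
    have h4 : (σ.1 • bτ - bτ) * (bσ * π) ∈ m ^ 2 := by
      rw [pow_two]
      refine Ideal.mul_mem_mul ?_ (Ideal.mul_mem_left _ _ hπ)
      have := hσ bτ
      rwa [pow_one] at this
    have e : (σ * τ).1 • π - (bσ * bτ) * π =
        σ.1 • (τ.1 • π - bτ * π) + σ.1 • bτ * (σ.1 • π - bσ * π) + (σ.1 • bτ - bτ) * (bσ * π) := by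
      rw [Subgroup.coe_mul, mul_smul, smul_sub, smul_mul']; ring
    rw [e]
    exact Ideal.add_mem _ (Ideal.add_mem _ h3 (Ideal.mul_mem_left _ _ h1)) h4

theorem theta_eq_one_iff [Algebra.IsSeparable (A ⧸ m.comap (algebraMap A B)) (B ⧸ m)] {π : B}
    (hπ : π ∈ m) (hπ2 : π ∉ m ^ 2) (σ : m.inertia G) :
    theta hπ hπ2 σ = 1 ↔ Triv m 2 σ.1 := by
  constructor
  · intro h
    have h1 : coeff hπ hπ2 σ - 1 ∈ m := by
      rw [← Ideal.Quotient.eq, map_one]
      exact h
    have h2 := coeff_spec hπ hπ2 σ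
    refine Triv.succ (A := A) (j := 0) (triv_one_iff.mpr σ.2) hπ hπ2 ?_
    have e : σ.1 • π - π = (σ.1 • π - coeff hπ hπ2 σ * π) + (coeff hπ hπ2 σ - 1) * π := by ring
    rw [e]
    refine Ideal.add_mem _ h2 ?_
    rw [pow_two]
    exact Ideal.mul_mem_mul h1 hπ
  · intro h
    change Ideal.Quotient.mk m (coeff hπ hπ2 σ) = 1
    rw [← map_one (Ideal.Quotient.mk m)]
    apply mk_coeff_eq
    simpa using h π

/-- the tame character, valued in units. -/
noncomputable def thetaU {π : B} (hπ : π ∈ m) (hπ2 : π ∉ m ^ 2) : m.inertia G →* (B ⧸ m)ˣ :=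
  (theta (G := G) hπ hπ2).toHomUnits

theorem thetaU_ker [Algebra.IsSeparable (A ⧸ m.comap (algebraMap A B)) (B ⧸ m)] {π : B}
    (hπ : π ∈ m) (hπ2 : π ∉ m ^ 2) :
    (thetaU (G := G) hπ hπ2).ker = ((m ^ 2).inertia G).subgroupOf (m.inertia G) := by
  ext σ
  rw [MonoidHom.mem_ker, Subgroup.mem_subgroupOf, mem_inertia_iff,
    ← theta_eq_one_iff (A := A) hπ hπ2 σ, Units.ext_iff]
  rfl

/-- the induced injection `I/P → (B/m)ˣ`. -/
noncomputable def psi [Algebra.IsSeparable (A ⧸ m.comap (algebraMap A B)) (B ⧸ m)] {π : B}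
    (hπ : π ∈ m) (hπ2 : π ∉ m ^ 2)
    [hN : (((m ^ 2).inertia G).subgroupOf (m.inertia G)).Normal] :
    (m.inertia G ⧸ ((m ^ 2).inertia G).subgroupOf (m.inertia G)) →* (B ⧸ m)ˣ :=
  QuotientGroup.lift _ (thetaU (G := G) hπ hπ2) (fun σ hσ => by
    rw [← thetaU_ker (A := A) hπ hπ2] at hσ
    exact hσ)

theorem psi_injective [Algebra.IsSeparable (A ⧸ m.comap (algebraMap A B)) (B ⧸ m)] {π : B}
    (hπ : π ∈ m) (hπ2 : π ∉ m ^ 2)
    [hN : (((m ^ 2).inertia G).subgroupOf (m.inertia G)).Normal] :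
    Function.Injective (psi (A := A) (G := G) hπ hπ2) := by
  rw [injective_iff_map_eq_one]
  intro x hx
  induction x using QuotientGroup.induction_on with
  | H σ =>
    change thetaU hπ hπ2 σ = 1 at hx
    rw [← MonoidHom.mem_ker, thetaU_ker (A := A) hπ hπ2] at hx
    exact (QuotientGroup.eq_one_iff σ).mpr hx

omit [IsDedekindDomain B] [Algebra A B] [Group G] [MulSemiringAction G B] [SMulCommClass G A B] in
theorem natCast_mem_of_charP {p : ℕ} [CharP (B ⧸ m) p] : (p : B) ∈ m := by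
  rw [← Ideal.Quotient.eq_zero_iff_mem, map_natCast]
  exact CharP.cast_eq_zero (B ⧸ m) p

omit [IsDedekindDomain B] [Algebra A B] [Group G] [MulSemiringAction G B] [SMulCommClass G A B] in
theorem natCast_notMem_of_charZero [CharZero (B ⧸ m)] {n : ℕ} (hn : n ≠ 0) : (n : B) ∉ m := by
  rw [← Ideal.Quotient.eq_zero_iff_mem, map_natCast]
  exact Nat.cast_ne_zero.mpr hn

theorem numeric {c e p a : ℕ} (hp : p.Prime) (hc : ¬ p ∣ c) (h : c * p ^ a = e) :
    c = e / p ^ e.factorization p := by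
  have hc0 : c ≠ 0 := fun h0 => hc (h0 ▸ dvd_zero p)
  have hpa : p ^ a ≠ 0 := pow_ne_zero _ hp.ne_zero
  have hf : e.factorization p = a := by
    rw [← h, Nat.factorization_mul hc0 hpa, Finsupp.add_apply,
      Nat.factorization_eq_zero_of_not_dvd hc, hp.factorization_pow, Finsupp.single_eq_same,
      zero_add]
  rw [hf, ← h, Nat.mul_div_cancel _ (Nat.pos_of_ne_zero hpa)]

theorem isPGroup_wild [Finite G] [FaithfulSMul G B]
    [Algebra.IsSeparable (A ⧸ m.comap (algebraMap A B)) (B ⧸ m)] (hm0 : m ≠ ⊥) {p : ℕ}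
    [CharP (B ⧸ m) p] : IsPGroup p ((m ^ 2).inertia G) := by
  intro σ
  obtain ⟨k, hk⟩ := exists_pow_eq_one (A := A) hm0 (natCast_mem_of_charP (m := m) (p := p))
    (mem_inertia_iff.mp σ.2)
  exact ⟨k, Subtype.ext (by simpa using hk)⟩

theorem wild_eq_bot [Finite G] [FaithfulSMul G B]
    [Algebra.IsSeparable (A ⧸ m.comap (algebraMap A B)) (B ⧸ m)] (hm0 : m ≠ ⊥)
    [CharZero (B ⧸ m)] : (m ^ 2).inertia G = ⊥ := by
  rw [eq_bot_iff]
  intro σ hσ
  rw [Subgroup.mem_bot]
  exact eq_one_of_triv_two (A := A) hm0 (fun n hn => natCast_notMem_of_charZero hn)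
    (mem_inertia_iff.mp hσ)

omit [IsDedekindDomain B] hm [Algebra A B] [SMulCommClass G A B] in
theorem wild_le : (m ^ 2).inertia G ≤ m.inertia G := by
  intro σ hσ
  exact triv_one_iff.mp ((mem_inertia_iff.mp hσ).mono one_le_two)

theorem tame_structure [Finite G] [FaithfulSMul G B]
    [Algebra.IsSeparable (A ⧸ m.comap (algebraMap A B)) (B ⧸ m)] (hm0 : m ≠ ⊥)
    [hN : (((m ^ 2).inertia G).subgroupOf (m.inertia G)).Normal] :
    IsCyclic (m.inertia G ⧸ ((m ^ 2).inertia G).subgroupOf (m.inertia G)) ∧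
    (∀ p : ℕ, p.Prime → CharP (B ⧸ m) p →
      Nat.card (m.inertia G ⧸ ((m ^ 2).inertia G).subgroupOf (m.inertia G)) =
        Nat.card (m.inertia G) / p ^ (Nat.card (m.inertia G)).factorization p) ∧
    (CharZero (B ⧸ m) →
      Nat.card (m.inertia G ⧸ ((m ^ 2).inertia G).subgroupOf (m.inertia G)) =
        Nat.card (m.inertia G)) ∧
    Nonempty (m.inertia G ⧸ ((m ^ 2).inertia G).subgroupOf (m.inertia G) ≃*
      rootsOfUnity (Nat.card (m.inertia G)) (B ⧸ m)) := by
  obtain ⟨π, hπ, hπ2⟩ := exists_unif hm0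
  haveI : IsDomain (B ⧸ m) := Ideal.Quotient.isDomain m
  set I := m.inertia G with hI
  set N := ((m ^ 2).inertia G).subgroupOf I with hNdef
  set e := Nat.card I with he
  set c := Nat.card (I ⧸ N) with hc
  let ψ := psi (A := A) (G := G) hπ hπ2
  have hψ : Function.Injective ψ := psi_injective (A := A) (G := G) hπ hπ2
  have hcN : c * Nat.card N = e := (Subgroup.card_eq_card_quotient_mul_card_subgroup N).symm
  have hNP : Nat.card N = Nat.card ((m ^ 2).inertia G) :=
    Nat.card_congr (Subgroup.subgroupOfEquivOfLe (wild_le (m := m) (G := G))).toEquiv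
  have hc0 : c ≠ 0 := Nat.card_pos.ne'
  -- char p
  have hcharp : ∀ p : ℕ, p.Prime → CharP (B ⧸ m) p →
      ∃ a, c * p ^ a = e ∧ ¬ p ∣ c := by
    intro p hp hchar
    haveI := hchar
    haveI : Fact p.Prime := ⟨hp⟩
    obtain ⟨a, ha⟩ := (isPGroup_wild (A := A) (G := G) hm0 (p := p)).exists_card_eq
    refine ⟨a, by rw [← hcN, hNP, ha], ?_⟩
    intro hdvd
    obtain ⟨x, hx⟩ := exists_prime_orderOf_dvd_card' p hdvd
    have h1 : (ψ x) ^ p = 1 := by rw [← map_pow, ← hx, pow_orderOf_eq_one, map_one]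
    have h2 : ((ψ x : (B ⧸ m)ˣ) : B ⧸ m) ^ p = 1 := by
      rw [← Units.val_pow_eq_pow_val, h1, Units.val_one]
    have h3 : (((ψ x : (B ⧸ m)ˣ) : B ⧸ m) - 1) ^ p = 0 := by
      rw [sub_pow_char, h2, one_pow, sub_self]
    have h4 : ψ x = 1 := by
      apply Units.ext
      rw [Units.val_one, ← sub_eq_zero]
      exact pow_eq_zero_iff hp.ne_zero |>.mp h3
    have h5 : x = 1 := hψ (by rw [h4, map_one])
    rw [h5, orderOf_one] at hx
    exact hp.one_lt.ne hx
  refine ⟨?_, ?_, ?_, ?_⟩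
  · exact isCyclic_of_injective_ringHom ((Units.coeHom (B ⧸ m)).comp ψ)
      (Units.val_injective.comp hψ)
  · intro p hp hchar
    obtain ⟨a, ha, hnd⟩ := hcharp p hp hchar
    exact numeric hp hnd ha
  · intro hchar
    haveI := hchar
    rw [wild_eq_bot (A := A) (G := G) hm0, Subgroup.card_bot] at hNP
    rw [← hcN, hNP, mul_one]
  · -- the isomorphism
    have key : c ∣ e ∧ ∀ u : (B ⧸ m)ˣ, u ^ e = 1 → u ^ c = 1 := by
      obtain ⟨q, hq⟩ := CharP.exists (B ⧸ m)
      rcases CharP.char_is_prime_or_zero (B ⧸ m) q with hq' | hq'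
      · obtain ⟨a, ha, -⟩ := hcharp q hq' hq
        haveI : Fact q.Prime := ⟨hq'⟩
        refine ⟨⟨q ^ a, ha.symm⟩, ?_⟩
        intro u hu
        rw [← ha, pow_mul] at hu
        have h2 : (((u ^ c : (B ⧸ m)ˣ) : B ⧸ m)) ^ (q ^ a) = 1 := by
          rw [← Units.val_pow_eq_pow_val, hu, Units.val_one]
        have h3 : ((((u ^ c : (B ⧸ m)ˣ) : B ⧸ m)) - 1) ^ (q ^ a) = 0 := by
          rw [sub_pow_char_pow, h2, one_pow, sub_self]
        apply Units.ext
        rw [Units.val_one, ← sub_eq_zero]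
        exact pow_eq_zero_iff (pow_ne_zero _ hq'.ne_zero) |>.mp h3
      · subst hq'
        haveI : CharZero (B ⧸ m) := CharP.charP_to_charZero (B ⧸ m)
        have hN1 : Nat.card N = 1 := by
          rw [hNP, wild_eq_bot (A := A) (G := G) hm0, Subgroup.card_bot]
        have hce : c = e := by rw [← hcN, hN1, mul_one]
        exact ⟨hce ▸ dvd_rfl, fun u hu => hce ▸ hu⟩
    obtain ⟨hdvd, hroots⟩ := key
    have hle : ψ.range ≤ rootsOfUnity e (B ⧸ m) := by
      rintro _ ⟨x, rfl⟩
      rw [mem_rootsOfUnity, ← map_pow]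
      obtain ⟨d, hd⟩ := hdvd
      rw [hd, pow_mul, pow_card_eq_one', one_pow, map_one]
    haveI : NeZero c := ⟨hc0⟩
    have hcard : Nat.card (rootsOfUnity e (B ⧸ m)) ≤ Nat.card ψ.range := by
      have h1 : rootsOfUnity e (B ⧸ m) ≤ rootsOfUnity c (B ⧸ m) := by
        intro u hu
        rw [mem_rootsOfUnity] at hu ⊢
        exact hroots u hu
      have h2 : Nat.card ψ.range = c :=
        (Nat.card_congr (MonoidHom.ofInjective hψ).toEquiv).symm
      rw [h2]
      exact (Subgroup.card_le_of_le h1).trans (card_rootsOfUnity (B ⧸ m) c)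
    have heq : ψ.range = rootsOfUnity e (B ⧸ m) := Subgroup.eq_of_le_of_card_ge hle hcard
    exact ⟨(MonoidHom.ofInjective hψ).trans (MulEquiv.subgroupCongr heq)⟩

omit [IsDedekindDomain B] hm [Algebra A B] [SMulCommClass G A B] in
theorem smul_mem_sq_of_stab {s : G} (hs : s ∈ MulAction.stabilizer G m) {y : B} (hy : y ∈ m ^ 2) :
    s • y ∈ m ^ 2 := by
  have hsm : ∀ u ∈ m, s • u ∈ m := fun u hu => by
    have := Ideal.smul_mem_pointwise_smul s u m hu
    rwa [MulAction.mem_stabilizer_iff.mp hs] at this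
  rw [pow_two] at hy ⊢
  refine Submodule.mul_induction_on hy ?_ ?_
  · intro u hu v hv
    rw [smul_mul']
    exact Ideal.mul_mem_mul (hsm u hu) (hsm v hv)
  · intro u v hu hv
    rw [smul_add]
    exact Ideal.add_mem _ hu hv

omit [IsDedekindDomain B] hm [Algebra A B] [SMulCommClass G A B] in
theorem wild_le_stab : (m ^ 2).inertia G ≤ MulAction.stabilizer G m :=
  (wild_le (m := m) (G := G)).trans (Ideal.inertia_le_stabilizer m)

omit [IsDedekindDomain B] hm [Algebra A B] [SMulCommClass G A B] in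
theorem wild_normal : (((m ^ 2).inertia G).subgroupOf (MulAction.stabilizer G m)).Normal := by
  refine (Subgroup.normal_subgroupOf_iff (wild_le_stab (m := m) (G := G))).mpr fun g s hg hs x => ?_
  have e : (s * g * s⁻¹) • x - x = s • (g • (s⁻¹ • x) - s⁻¹ • x) := by
    rw [smul_sub, mul_smul, mul_smul, smul_inv_smul]
  change (s * g * s⁻¹) • x - x ∈ m ^ 2
  rw [e]
  exact smul_mem_sq_of_stab hs (hg (s⁻¹ • x))

end abstract

section concrete

attribute [local instance] Ideal.Quotient.field in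
theorem card_inertia_eq (A K L B : Type u) [CommRing A] [IsDomain A] [IsDiscreteValuationRing A]
    [CommRing B] [IsDomain B] [Field K] [Field L] [Algebra A K] [Algebra B L] [IsFractionRing A K] [IsFractionRing B L]
    [Algebra A B] [Algebra K L] [Algebra A L] [IsScalarTower A K L] [IsScalarTower A B L] [IsIntegralClosure B A L]
    [FiniteDimensional K L] [IsGalois K L] (m : Ideal B) [m.IsMaximal]
    [Algebra.IsSeparable (A ⧸ m.comap (algebraMap A B)) (B ⧸ m)] :
    letI := IsIntegralClosure.MulSemiringAction A K L B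
    Nat.card (m.inertia (L ≃ₐ[K] L)) = Ideal.ramificationIdx' (IsLocalRing.maximalIdeal A) m := by
  letI := IsIntegralClosure.MulSemiringAction A K L B
  haveI : Algebra.IsIntegral A B := IsIntegralClosure.isIntegral_algebra A L
  haveI : IsGaloisGroup (L ≃ₐ[K] L) A B := IsGaloisGroup.of_isFractionRing (L ≃ₐ[K] L) A B K L
  haveI : IsDedekindDomain B := IsIntegralClosure.isDedekindDomain A K L B
  haveI : Module.Finite A B := IsIntegralClosure.finite A K L B
  haveI : FaithfulSMul A B := by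
    rw [faithfulSMul_iff_algebraMap_injective]
    have h : Function.Injective (algebraMap A L) := by
      rw [IsScalarTower.algebraMap_eq A K L]
      exact (algebraMap K L).injective.comp (IsFractionRing.injective A K)
    rw [IsScalarTower.algebraMap_eq A B L] at h
    exact Function.Injective.of_comp h
  haveI : Module.IsTorsionFree A B := inferInstance
  haveI : Module.Flat A B := inferInstance
  set p : Ideal A := m.under A with hp
  haveI hpmax : p.IsMaximal := inferInstance
  have hpeq : p = IsLocalRing.maximalIdeal A := IsLocalRing.eq_maximalIdeal hpmax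
  haveI : m.LiesOver p := inferInstance
  haveI : Algebra.IsSeparable (A ⧸ p) (B ⧸ m) := ‹_›
  let G := L ≃ₐ[K] L
  -- |stab| = |inertia| * f
  have h1 : Nat.card (MulAction.stabilizer G m) = Nat.card (m.inertia G) * m.inertiaDeg A := by
    have hnorm : Normal (A ⧸ p) (B ⧸ m) := Ideal.Quotient.normal G p m
    haveI : IsGalois (A ⧸ p) (B ⧸ m) := { __ := hnorm }
    haveI : Module.Finite (A ⧸ p) (B ⧸ m) := Ideal.Quotient.finite_of_isInvariant G p m
    have : Subgroup.index _ = _ := Nat.card_congr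
      (Ideal.Quotient.stabilizerQuotientInertiaEquiv G p m).toEquiv
    rw [Ideal.inertiaDeg_eq_of_isMaximal p m, ← IsGalois.card_aut_eq_finrank (A ⧸ p) (B ⧸ m), ← this,
      ← ((m.inertia G).subgroupOf (MulAction.stabilizer G m)).card_mul_index,
      Nat.card_congr (Subgroup.subgroupOfEquivOfLe (Ideal.inertia_le_stabilizer (M := G) m)).toEquiv,
      AddSubgroup.subgroupOf_inertia]
  have h2 : (p.primesOver B).ncard * Nat.card (MulAction.stabilizer G m) = Nat.card G := by
    rw [← Algebra.IsInvariant.orbit_eq_primesOver A B G p m]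
    simpa using Nat.card_congr (MulAction.orbitProdStabilizerEquivGroup G m)
  have h3 := Ideal.ncard_primesOver_mul_ramificationIdxIn_mul_inertiaDegIn p B G
  rw [Ideal.ramificationIdxIn_eq_ramificationIdx p m G, Ideal.inertiaDegIn_eq_inertiaDeg p m G] at h3
  have hp0 : p ≠ ⊥ := by
    rw [hpeq]
    exact IsDiscreteValuationRing.not_a_field A
  rw [← hpeq, Ideal.ramificationIdx'_eq_ramificationIdx p m hp0]
  have hg : (p.primesOver B).ncard ≠ 0 := by
    have hfin : (p.primesOver B).Finite := Algebra.QuasiFinite.finite_primesOver p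
    exact Set.ncard_ne_zero_of_mem (a := m) ⟨inferInstance, inferInstance⟩ hfin
  have hf : m.inertiaDeg A ≠ 0 := (Ideal.inertiaDeg_pos m A).ne'
  rw [h1, ← h3] at h2
  exact Nat.eq_of_mul_eq_mul_right (Nat.pos_of_ne_zero hf) (Nat.eq_of_mul_eq_mul_left (Nat.pos_of_ne_zero hg) h2)

end concrete


/-- Parts (2)–(5) in the case of part (6): let A be a discrete valuation ring with fraction field K, L/K
a finite Galois extension with group G, B the integral closure of A in L, m a maximal ideal of B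
whose residue field is separable over that of A, and e the ramification index of m over A. Let D be
the decomposition group (stabilizer of m), I the inertia group (elements acting trivially on B/m)
and P the wild inertia group, here the elements of D acting trivially on B/m² (the description valid
in the separable residue field case). Then P ≤ I, P is normal in D, P is a p-group if the residue
characteristic is p > 0 and trivial if it is 0, and I/P is cyclic of order the prime-to-p part of e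
and isomorphic to a subgroup of the e-th roots of unity of B/m — more precisely to the full group of
e-th roots of unity of B/m. -/
theorem result (A K L B : Type u) [CommRing A] [IsDomain A] [IsDiscreteValuationRing A]
    [CommRing B] [IsDomain B] [Field K] [Field L] [Algebra A K] [Algebra B L] [IsFractionRing A K] [IsFractionRing B L]
    [Algebra A B] [Algebra K L] [Algebra A L] [IsScalarTower A K L] [IsScalarTower A B L] [IsIntegralClosure B A L]
    [FiniteDimensional K L] [IsGalois K L] (m : Ideal B) [m.IsMaximal]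
    [Algebra.IsSeparable (A ⧸ m.comap (algebraMap A B)) (B ⧸ m)] :
    letI := IsIntegralClosure.MulSemiringAction A K L B
    let D : Subgroup (L ≃ₐ[K] L) := MulAction.stabilizer (L ≃ₐ[K] L) m
    let I : Subgroup (L ≃ₐ[K] L) := m.inertia (L ≃ₐ[K] L)
    let P : Subgroup (L ≃ₐ[K] L) := D ⊓ (m ^ 2).inertia (L ≃ₐ[K] L)
    let e : ℕ := Ideal.ramificationIdx' (IsLocalRing.maximalIdeal A) m
    P ≤ I ∧ I ≤ D ∧ (P.subgroupOf D).Normal ∧
    (∀ p : ℕ, p.Prime → CharP (A ⧸ m.comap (algebraMap A B)) p → IsPGroup p P) ∧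
    (CharZero (A ⧸ m.comap (algebraMap A B)) → P = ⊥) ∧
    (∀ [(P.subgroupOf I).Normal],
      IsCyclic (I ⧸ P.subgroupOf I) ∧
      (∀ p : ℕ, p.Prime → CharP (A ⧸ m.comap (algebraMap A B)) p → Nat.card (I ⧸ P.subgroupOf I) = e / p ^ e.factorization p) ∧
      (CharZero (A ⧸ m.comap (algebraMap A B)) → Nat.card (I ⧸ P.subgroupOf I) = e) ∧
      Nonempty (I ⧸ P.subgroupOf I ≃* ↥(rootsOfUnity e (B ⧸ m)))) := by
  letI := IsIntegralClosure.MulSemiringAction A K L B
  intro D I P e
  haveI : Algebra.IsIntegral A B := IsIntegralClosure.isIntegral_algebra A L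
  haveI hGal : IsGaloisGroup (L ≃ₐ[K] L) A B := IsGaloisGroup.of_isFractionRing (L ≃ₐ[K] L) A B K L
  haveI : IsDedekindDomain B := IsIntegralClosure.isDedekindDomain A K L B
  haveI : FaithfulSMul (L ≃ₐ[K] L) B := hGal.faithful
  haveI : SMulCommClass (L ≃ₐ[K] L) A B := hGal.commutes
  have hinj : Function.Injective (algebraMap (A ⧸ m.comap (algebraMap A B)) (B ⧸ m)) :=
    Ideal.algebraMap_quotient_injective
  have hm0 : m ≠ ⊥ := by
    intro h
    have hinjAB : Function.Injective (algebraMap A B) := by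
      have h1 : Function.Injective (algebraMap A L) := by
        rw [IsScalarTower.algebraMap_eq A K L]
        exact (algebraMap K L).injective.comp (IsFractionRing.injective A K)
      rw [IsScalarTower.algebraMap_eq A B L] at h1
      exact Function.Injective.of_comp h1
    have hpmax : (m.under A).IsMaximal := inferInstance
    have hpeq : m.under A = IsLocalRing.maximalIdeal A := IsLocalRing.eq_maximalIdeal hpmax
    have h0 : m.under A = ⊥ := by
      rw [h]
      exact Ideal.comap_bot_of_injective _ hinjAB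
    exact IsDiscreteValuationRing.not_a_field A (hpeq ▸ h0)
  have he : e = Nat.card I := (card_inertia_eq A K L B m).symm
  have hP : P = (m ^ 2).inertia (L ≃ₐ[K] L) := inf_eq_right.mpr wild_le_stab
  clear_value e P
  subst he hP
  refine ⟨wild_le, Ideal.inertia_le_stabilizer m, wild_normal, ?_, ?_, ?_⟩
  · intro p hp hchar
    haveI := hchar
    haveI : CharP (B ⧸ m) p := charP_of_injective_algebraMap hinj p
    exact isPGroup_wild (A := A) hm0
  · intro hchar
    haveI := hchar
    haveI : CharZero (B ⧸ m) := charZero_of_injective_algebraMap hinj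
    exact wild_eq_bot (A := A) hm0
  · intro hN
    obtain ⟨h1, h2, h3, h4⟩ := tame_structure (A := A) (G := L ≃ₐ[K] L) hm0 (m := m)
    refine ⟨h1, ?_, ?_, h4⟩
    · intro p hp hchar
      haveI := hchar
      exact h2 p hp (charP_of_injective_algebraMap hinj p)
    · intro hchar
      haveI := hchar
      exact h3 (charZero_of_injective_algebraMap hinj)

end Groth.Agent.S1999
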