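import Groth.Statements.S19995
import Mathlib
import Groth.Agent.S14272
-- import your own Groth.Agent.* helpers here

set_option autoImplicit false
universe u
open CategoryTheory AlgebraicGeometry
open WildQuot

namespace Groth.Agent.S19995

/-- Let `S` be a Noetherian scheme, `f_1 : G_1 → S` and `f_2 : G_2 → S` finite flat morphisms, and `U ⊆
S` an open subset such that at every point of `S` outside `U` the local ring of `S` has depth at
least `2` (equivalently, for Noetherian `S`: `U` contains every point of codimension at most `1` and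
every point at which `S` fails Serre's condition `S_2`). Then every morphism `f_1⁻¹(U) → f_2⁻¹(U)`
over `U` is the restriction of exactly one `S`-morphism `G_1 → G_2`. (The published statements draw
this conclusion for homomorphisms of finite flat group schemes and for group-scheme actions on
finite flat schemes; this row states the underlying extension property of morphisms of finite flat
`S`-schemes, from which those follow by uniqueness.) -/
theorem result
    (S G₁ G₂ : Scheme.{u}) [AlgebraicGeometry.IsNoetherian S] (f₁ : G₁ ⟶ S) (f₂ : G₂ ⟶ S)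
    [AlgebraicGeometry.IsFinite f₁] [AlgebraicGeometry.Flat f₁]
    [AlgebraicGeometry.IsFinite f₂] [AlgebraicGeometry.Flat f₂]
    (U : S.Opens)
    (hU : ∀ s : S, s ∉ U → (2 : ℕ∞) ≤ LocCoh.depth (S.presheaf.stalk s) (S.presheaf.stalk s))
    (φU : ((f₁ ⁻¹ᵁ U : G₁.Opens) : Scheme.{u}) ⟶ ((f₂ ⁻¹ᵁ U : G₂.Opens) : Scheme.{u}))
    (hφU : φU ≫ (f₂ ⁻¹ᵁ U).ι ≫ f₂ = (f₁ ⁻¹ᵁ U).ι ≫ f₁) :
    ∃! φ : G₁ ⟶ G₂, φ ≫ f₂ = f₁ ∧ (f₁ ⁻¹ᵁ U).ι ≫ φ = φU ≫ (f₂ ⁻¹ᵁ U).ι := by
  classical
  haveI : IsLocallyNoetherian G₁ := LocallyOfFiniteType.isLocallyNoetherian f₁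
  haveI : LocallyOfFinitePresentation f₂ := inferInstance
  -- depth two condition on `G₁`
  have hZ : ∀ z : G₁, z ∉ (f₁ ⁻¹ᵁ U) → ∃ a b : G₁.presheaf.stalk z,
      a ∈ IsLocalRing.maximalIdeal (G₁.presheaf.stalk z) ∧
      b ∈ IsLocalRing.maximalIdeal (G₁.presheaf.stalk z) ∧
      RingTheory.Sequence.IsWeaklyRegular (G₁.presheaf.stalk z) [a, b] := by
    intro z hz
    have hs : f₁ z ∉ U := hz
    have hd := hU (f₁ z) hs
    -- extract a weakly regular sequence of length two in the local ring of `S`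
    obtain ⟨a, b, ha, hb, hreg⟩ : ∃ a b : S.presheaf.stalk (f₁ z),
        a ∈ IsLocalRing.maximalIdeal (S.presheaf.stalk (f₁ z)) ∧
        b ∈ IsLocalRing.maximalIdeal (S.presheaf.stalk (f₁ z)) ∧
        RingTheory.Sequence.IsWeaklyRegular (S.presheaf.stalk (f₁ z)) [a, b] := by
      set R := S.presheaf.stalk (f₁ z)
      have hne : IsLocalRing.maximalIdeal R • (⊤ : Submodule R R) ≠ ⊤ := by
        rw [Ideal.smul_top_eq_map, Algebra.algebraMap_self, Ideal.map_id]
        intro h
        have h1 : (1 : R) ∈ Submodule.restrictScalars R (IsLocalRing.maximalIdeal R) := by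
          rw [h]; trivial
        exact (IsLocalRing.maximalIdeal.isMaximal R).ne_top
          ((Ideal.eq_top_iff_one _).2 h1)
      unfold LocCoh.depth LocCoh.idealDepth at hd
      rw [if_neg hne] at hd
      have hlt : ((1 : ℕ) : ℕ∞) < ⨆ (rs : List R)
          (_ : RingTheory.Sequence.IsWeaklyRegular R rs ∧
            ∀ r ∈ rs, r ∈ IsLocalRing.maximalIdeal R), (rs.length : ℕ∞) :=
        lt_of_lt_of_le (by norm_num) hd
      obtain ⟨rs, hrs⟩ := lt_iSup_iff.mp hlt
      obtain ⟨⟨hreg, hmem⟩, hlen⟩ := lt_iSup_iff.mp hrs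
      have hlen' : 1 < rs.length := by exact_mod_cast hlen
      match rs, hreg, hmem, hlen' with
      | a :: b :: tl, hreg, hmem, _ =>
        refine ⟨a, b, hmem a (by simp), hmem b (by simp), ?_⟩
        have h := hreg
        rw [show a :: b :: tl = [a, b] ++ tl from rfl,
          RingTheory.Sequence.isWeaklyRegular_append_iff] at h
        exact h.1
    letI : Algebra (S.presheaf.stalk (f₁ z)) (G₁.presheaf.stalk z) :=
      (f₁.stalkMap z).hom.toAlgebra
    haveI : Module.Flat (S.presheaf.stalk (f₁ z)) (G₁.presheaf.stalk z) :=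
      AlgebraicGeometry.Flat.stalkMap f₁ z
    have hloc : ∀ c : S.presheaf.stalk (f₁ z),
        c ∈ IsLocalRing.maximalIdeal (S.presheaf.stalk (f₁ z)) →
        (f₁.stalkMap z).hom c ∈ IsLocalRing.maximalIdeal (G₁.presheaf.stalk z) := by
      intro c hc
      rw [IsLocalRing.mem_maximalIdeal, mem_nonunits_iff] at hc ⊢
      intro hu
      exact hc (isUnit_of_map_unit (f₁.stalkMap z).hom c hu)
    refine ⟨(f₁.stalkMap z).hom a, (f₁.stalkMap z).hom b, hloc a ha, hloc b hb, ?_⟩
    exact RingTheory.Sequence.IsWeaklyRegular.of_flat (S := G₁.presheaf.stalk z) hreg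
  -- the base change `G₁ ×_S G₂ ⟶ G₁`
  let P := Limits.pullback f₁ f₂
  let p : P ⟶ G₁ := Limits.pullback.fst f₁ f₂
  let t : ((f₁ ⁻¹ᵁ U : G₁.Opens) : Scheme.{u}) ⟶ P :=
    Limits.pullback.lift (f₁ ⁻¹ᵁ U).ι (φU ≫ (f₂ ⁻¹ᵁ U).ι) (by rw [Category.assoc, hφU])
  have ht : t ≫ p = (f₁ ⁻¹ᵁ U).ι := Limits.pullback.lift_fst _ _ _
  obtain ⟨s, ⟨hs1, hs2⟩, hsu⟩ := Groth.Agent.S14272.result G₁ (f₁ ⁻¹ᵁ U) hZ P p t ht
  refine ⟨s ≫ Limits.pullback.snd f₁ f₂, ⟨?_, ?_⟩, ?_⟩
  · rw [Category.assoc, ← Limits.pullback.condition, ← Category.assoc]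
    change (s ≫ p) ≫ f₁ = f₁
    rw [hs1, Category.id_comp]
  · rw [← Category.assoc, hs2]
    exact Limits.pullback.lift_snd _ _ _
  · rintro φ' ⟨hφ'1, hφ'2⟩
    have hs' : Limits.pullback.lift (𝟙 G₁) φ' (by rw [Category.id_comp, hφ'1]) = s := by
      apply hsu
      constructor
      · exact Limits.pullback.lift_fst _ _ _
      · apply Limits.pullback.hom_ext
        · rw [Category.assoc, Limits.pullback.lift_fst, Category.comp_id]
          exact ht.symm
        · rw [Category.assoc, Limits.pullback.lift_snd, hφ'2]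
          exact (Limits.pullback.lift_snd _ _ _).symm
    rw [← hs', Limits.pullback.lift_snd]

end Groth.Agent.S19995
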