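import Groth.Statements.S20004
import Groth.Agent.Lib.Helper22.LiftAut

set_option autoImplicit false
universe u v w
open WildQuot

namespace Groth.Agent.S20004

/-- Let `A` be a complete regular local ring of Krull dimension at least `2` and prime characteristic
`p`; let `k` be a field with `k → A` mapping onto the residue field, such that `k` has no Galois
extension of degree `p`; let `G` be a group of order `p` acting on `A` by `k`-algebra automorphisms,
ramified precisely at the origin (for every non-maximal prime `P`, the inertia subgroup of `P` is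
trivial). Let `R` be a `k`-algebra with an injective structure map `R → A` whose image is fixed by
`G` (so `R ⊆ A^G`), with `A` finite over `R`. Galois extensions of fraction fields are expressed
through automorphism counts: since `A` and `A^G` are normal domains finite over `R`,
`Frac(A^G)/Frac(R)` is Galois exactly when `p` times the number of `k`-algebra automorphisms of
`A^G` fixing the image of `R` equals the rank `[Frac A : Frac R]` of `A` over `R`, and
`Frac(A)/Frac(R)` is Galois exactly when the number of `R`-algebra automorphisms of `A` equals that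
rank. The row: the first equality implies the second. (The published statement assumes `R ⊆ A^G`
finite with `Frac(A^G)/Frac(R)` Galois and concludes that `Frac(A)/Frac(R)` is Galois; here `R` is
taken to contain `k`, as the norm subrings of the source do.) -/
theorem result
    (p : ℕ) [Fact p.Prime] (A : Type u) [CommRing A] [IsRegularLocalRing A] [CharP A p]
    [IsAdicComplete (IsLocalRing.maximalIdeal A) A] (hdim : 2 ≤ ringKrullDim A)
    (k : Type v) [Field k] [Algebra k A]
    (hk : Function.Surjective (IsLocalRing.residue A ∘ algebraMap k A))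
    (hkp : ∀ (L : Type v) [Field L] [Algebra k L], IsGalois k L → Module.finrank k L ≠ p)
    (G : Type w) [Group G] [Finite G] [MulSemiringAction G A] (hcard : Nat.card G = p)
    [SMulCommClass G k A]
    (hram : ∀ P : Ideal A, P.IsPrime → P ≠ IsLocalRing.maximalIdeal A → P.inertia G = ⊥)
    (R : Type v) [CommRing R] [Algebra k R] [Algebra R A] [IsScalarTower k R A] [Module.Finite R A]
    (hRinj : Function.Injective (algebraMap R A))
    (hRG : ∀ (σ : G) (r : R), σ • algebraMap R A r = algebraMap R A r)
    (hgal : p * Nat.card {φ : FixedPoints.subalgebra k A G ≃ₐ[k] FixedPoints.subalgebra k A G //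
        ∀ b : FixedPoints.subalgebra k A G, (b : A) ∈ Set.range (algebraMap R A) → (φ b : A) = b} =
      Module.finrank R A) :
    Nat.card (A ≃ₐ[R] A) = Module.finrank R A := by
  classical
  haveI : IsDomain A := Groth.Agent.Lib.helper15.isDomain_of_isRegularLocalRing _
  haveI : IsIntegrallyClosed A := Groth.Agent.Lib.helper26.RegNormal.isIntegrallyClosed A
  haveI : FaithfulSMul G A := Groth.Agent.Lib.helper22.LiftAut.faithfulSMul_of_ram A hdim G hram
  haveI : IsDomain R := hRinj.isDomain _
  haveI : FaithfulSMul R A := (faithfulSMul_iff_algebraMap_injective R A).mpr hRinj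
  haveI : Algebra.IsIntegral R A := Algebra.IsIntegral.of_finite R A
  haveI : SMulCommClass G R A := by
    refine ⟨fun g r a => ?_⟩
    rw [Algebra.smul_def, Algebra.smul_def, smul_mul', hRG]
  -- upper bound through the fraction fields
  letI : Algebra (FractionRing R) (FractionRing A) := FractionRing.liftAlgebra R (FractionRing A)
  haveI : IsScalarTower R (FractionRing R) (FractionRing A) :=
    FractionRing.isScalarTower_liftAlgebra _ _
  have hrank : Module.finrank (FractionRing R) (FractionRing A) = Module.finrank R A :=
    IsFractionRing.finrank_eq R (FractionRing R) A (FractionRing A)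
  have hpos : 0 < Module.finrank R A := Module.finrank_pos
  haveI : FiniteDimensional (FractionRing R) (FractionRing A) :=
    Module.finite_of_finrank_pos (by rw [hrank]; exact hpos)
  have hιinj : Function.Injective
      (IsFractionRing.fieldEquivOfAlgEquivHom (FractionRing R) (FractionRing A) :
        (A ≃ₐ[R] A) →* _) :=
    IsFractionRing.fieldEquivOfAlgEquivHom_injective R A (FractionRing R) (FractionRing A)
  haveI : Finite (A ≃ₐ[R] A) := Finite.of_injective _ hιinj
  have hle : Nat.card (A ≃ₐ[R] A) ≤ Module.finrank R A := by
    rw [← hrank]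
    refine (Nat.card_le_card_of_injective _ hιinj).trans ?_
    rw [Nat.card_eq_fintype_card]
    exact AlgEquiv.card_le
  -- lower bound: lifts of the automorphisms of the invariant ring composed with `G`
  have hlift : ∀ φ : {φ : FixedPoints.subalgebra k A G ≃ₐ[k] FixedPoints.subalgebra k A G //
      ∀ b : FixedPoints.subalgebra k A G, (b : A) ∈ Set.range (algebraMap R A) → (φ b : A) = b},
      ∃ ψ : A ≃ₐ[R] A, ∀ x : FixedPoints.subalgebra k A G, ψ x = φ.1 x := by
    intro φ
    obtain ⟨ψ, hψ⟩ := Groth.Agent.Lib.helper22.LiftAut.exists_algEquiv_extends p A hdim k hk hkp G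
      hcard hram φ.1
    refine ⟨AlgEquiv.ofRingEquiv (f := ψ.toRingEquiv) (fun r => ?_), fun x => hψ x⟩
    have h1 := hψ ⟨algebraMap R A r, fun g => hRG g r⟩
    have h2 := φ.2 ⟨algebraMap R A r, fun g => hRG g r⟩ ⟨r, rfl⟩
    exact h1.trans h2
  choose Ψ hΨ using hlift
  let f : {φ : FixedPoints.subalgebra k A G ≃ₐ[k] FixedPoints.subalgebra k A G //
      ∀ b : FixedPoints.subalgebra k A G, (b : A) ∈ Set.range (algebraMap R A) → (φ b : A) = b} × G →
      (A ≃ₐ[R] A) := fun x => Ψ x.1 * MulSemiringAction.toAlgEquiv R A x.2
  have hf : Function.Injective f := by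
    rintro ⟨φ, g⟩ ⟨φ', g'⟩ h
    have h1 : ∀ a : A, Ψ φ (g • a) = Ψ φ' (g' • a) := fun a =>
      congrArg (fun e : A ≃ₐ[R] A => e a) h
    have hφ : φ = φ' := by
      apply Subtype.ext
      apply AlgEquiv.ext
      intro b
      apply Subtype.ext
      have := h1 (b : A)
      rw [b.2 g, b.2 g', hΨ, hΨ] at this
      exact this
    subst hφ
    have hg : g = g' := by
      apply FaithfulSMul.eq_of_smul_eq_smul (α := A)
      intro a
      exact (Ψ φ).injective (h1 a)
    rw [hg]
  have hge : Module.finrank R A ≤ Nat.card (A ≃ₐ[R] A) := by
    rw [← hgal, mul_comm, ← hcard, ← Nat.card_prod]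
    exact Nat.card_le_card_of_injective f hf
  exact le_antisymm hle hge

end Groth.Agent.S20004
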