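import Groth.Statements.S2001
import Mathlib

set_option autoImplicit false
universe u
open TensorProduct
open EtAlg

namespace Groth.Agent.S2001

/-- Let (R -> R', f) be a glueing pair and M, N R-modules glueable for it. Given an R'-linear map φ' :
R' ⊗_R M -> R' ⊗_R N and an R-linear map φ₁ : M_f -> N_f which induce the same map into (R' ⊗_R N)_f
on elements of M, there is a unique R-linear map ψ : M -> N whose base change to R' is φ' and whose
localization is φ₁. -/
theorem result (R R' : Type u) [CommRing R] [CommRing R'] [Algebra R R'] (f : R)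
    (hRR : EtGlue.IsGlueingPair R R' f) (M N : Type u) [AddCommGroup M] [Module R M] [AddCommGroup N] [Module R N]
    (hM : EtGlue.IsGlueable R R' f M) (hN : EtGlue.IsGlueable R R' f N)
    (φ' : R' ⊗[R] M →ₗ[R'] R' ⊗[R] N)
    (φ₁ : LocalizedModule (Submonoid.powers f) M →ₗ[R] LocalizedModule (Submonoid.powers f) N)
    (hc : ∀ m : M, EtGlue.locOfTensor R R' f N (φ' ((1 : R') ⊗ₜ[R] m)) =
      EtGlue.tensorOfLoc R R' f N (φ₁ (LocalizedModule.mkLinearMap (Submonoid.powers f) M m))) :
    ∃! ψ : M →ₗ[R] N, ψ.baseChange R' = φ' ∧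
      IsLocalizedModule.map (Submonoid.powers f) (LocalizedModule.mkLinearMap (Submonoid.powers f) M)
        (LocalizedModule.mkLinearMap (Submonoid.powers f) N) ψ = φ₁ := by
  classical
  obtain ⟨hNinj, hNex⟩ := hN
  have hex : ∀ m : M, ∃ n : N, (1 : R') ⊗ₜ[R] n = φ' ((1 : R') ⊗ₜ[R] m) ∧
      LocalizedModule.mkLinearMap (Submonoid.powers f) N n =
        φ₁ (LocalizedModule.mkLinearMap (Submonoid.powers f) M m) := fun m => hNex _ _ (hc m)
  choose ψ₀ hψ₁ hψ₂ using hex
  have hinj' : ∀ n n' : N, (1 : R') ⊗ₜ[R] n = (1 : R') ⊗ₜ[R] n' →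
      LocalizedModule.mkLinearMap (Submonoid.powers f) N n =
        LocalizedModule.mkLinearMap (Submonoid.powers f) N n' → n = n' := by
    intro n n' h1 h2
    apply hNinj
    simp only [Prod.mk.injEq]
    exact ⟨h1, h2⟩
  let ψ : M →ₗ[R] N :=
    { toFun := ψ₀
      map_add' := by
        intro x y
        apply hinj'
        · rw [hψ₁, TensorProduct.tmul_add, map_add, TensorProduct.tmul_add, hψ₁, hψ₁]
        · rw [hψ₂, map_add, map_add, map_add, hψ₂, hψ₂]
      map_smul' := by
        intro r x
        apply hinj'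
        · rw [hψ₁, RingHom.id_apply, TensorProduct.tmul_smul, LinearMap.map_smul_of_tower,
            TensorProduct.tmul_smul, hψ₁]
        · rw [hψ₂, RingHom.id_apply, map_smul, map_smul, map_smul, hψ₂] }
  have hψb : ψ.baseChange R' = φ' := by
    apply TensorProduct.AlgebraTensorModule.curry_injective
    ext m
    simp only [TensorProduct.AlgebraTensorModule.curry_apply,
      TensorProduct.curry_apply, LinearMap.coe_restrictScalars, LinearMap.baseChange_tmul]
    exact hψ₁ m
  have hψl : IsLocalizedModule.map (Submonoid.powers f)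
      (LocalizedModule.mkLinearMap (Submonoid.powers f) M)
      (LocalizedModule.mkLinearMap (Submonoid.powers f) N) ψ = φ₁ := by
    apply IsLocalizedModule.ext (Submonoid.powers f)
      (LocalizedModule.mkLinearMap (Submonoid.powers f) M)
      (IsLocalizedModule.map_units (LocalizedModule.mkLinearMap (Submonoid.powers f) N))
    ext m
    simp only [LinearMap.coe_comp, Function.comp_apply, IsLocalizedModule.map_apply]
    exact hψ₂ m
  refine ⟨ψ, ⟨hψb, hψl⟩, ?_⟩
  rintro ψ' ⟨h1, h2⟩
  ext m
  apply hinj'
  · rw [← LinearMap.baseChange_tmul, h1]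
    exact (hψ₁ m).symm
  · have := congrArg (fun g => g (LocalizedModule.mkLinearMap (Submonoid.powers f) M m)) h2
    simp only [IsLocalizedModule.map_apply] at this
    rw [this]
    exact (hψ₂ m).symm

end Groth.Agent.S2001
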