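import Groth.Statements.S20010
-- import your own Groth.Agent.* helpers here
import Mathlib.AlgebraicGeometry.AffineTransitionLimit

set_option autoImplicit false
universe u
open CategoryTheory CategoryTheory.Limits AlgebraicGeometry TopologicalSpace
open ModPair

namespace Groth.Agent.S20010

/-- Let (X_i) be a cofiltered system of schemes with affine transition morphisms such that X_{i₀} is
quasi-compact and quasi-separated for some index i₀, let X be its limit, and let {U_a ⟶ X} be a
family of quasi-compact open immersions (open immersions of finite presentation) which is jointly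
surjective (a covering family for the Zariski class). Then the covering descends: for some index i
there is a finite jointly surjective family {V_j ⟶ X_i}_{j < n} of quasi-compact open immersions
such that every V_j ×_{X_i} X is one of the U_a, i.e. for each j some U_{a_j} ⟶ X is the base change
of V_j ⟶ X_i along X ⟶ X_i. -/
theorem result {I : Type u} [SmallCategory I] [IsCofiltered I]
    (D : I ⥤ Scheme.{u}) (c : Cone D) (hc : IsLimit c)
    [∀ (i j : I) (t : i ⟶ j), IsAffineHom (D.map t)] (i₀ : I) [CompactSpace (D.obj i₀)]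
    [QuasiSeparatedSpace (D.obj i₀)] {ι : Type u} (U : ι → Scheme.{u}) (u : ∀ a, U a ⟶ c.pt)
    [∀ a, IsOpenImmersion (u a)] [∀ a, QuasiCompact (u a)] (hcov : ∀ x : c.pt, ∃ (a : ι) (y : U a), (u a).base y = x) :
    ∃ (i : I) (n : ℕ) (V : Fin n → Scheme.{u}) (v : ∀ j, V j ⟶ D.obj i) (a : Fin n → ι)
      (e : ∀ j, U (a j) ⟶ V j),
      (∀ j, IsOpenImmersion (v j) ∧ QuasiCompact (v j)) ∧
      (∀ x : D.obj i, ∃ (j : Fin n) (y : V j), (v j).base y = x) ∧
      ∀ j, IsPullback (e j) (u (a j)) (v j) (c.π.app i) := by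
  classical
  have hπ : ∀ i, IsAffineHom (c.π.app i) := fun i => isAffineHom_π_app D c hc i
  have hcpt : CompactSpace c.pt := QuasiCompact.compactSpace_of_compactSpace (c.π.app i₀)
  -- finite subcover
  obtain ⟨t, ht⟩ := isCompact_univ.elim_finite_subcover (fun a => ((u a).opensRange : Set c.pt))
    (fun a => (u a).opensRange.isOpen) (by
      intro x _
      obtain ⟨a, y, rfl⟩ := hcov x
      exact Set.mem_iUnion.2 ⟨a, ⟨y, rfl⟩⟩)
  let a : Fin t.card → ι := fun j => (t.equivFin.symm j).1
  have ha : ∀ x : c.pt, ∃ j, x ∈ (u (a j)).opensRange := by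
    intro x
    have := ht (Set.mem_univ x)
    simp only [Set.mem_iUnion] at this
    obtain ⟨b, hb, hx⟩ := this
    refine ⟨t.equivFin ⟨b, hb⟩, ?_⟩
    have hab : a (t.equivFin ⟨b, hb⟩) = b := by simp [a]
    rw [hab]; exact hx
  have hUc : ∀ j, IsCompact ((u (a j)).opensRange : Set c.pt) := by
    intro j
    have : CompactSpace (U (a j)) := QuasiCompact.compactSpace_of_compactSpace (u (a j))
    exact isCompact_range (u (a j)).continuous
  choose i V hVc hV using fun j => exists_preimage_eq D c hc _ (hUc j)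
  obtain ⟨k, hk⟩ := IsCofiltered.inf_objs_exists (insert i₀ (Finset.univ.image i))
  have fk : ∀ j, k ⟶ i j := fun j => (hk (by simp)).some
  have fk₀ : k ⟶ i₀ := (hk (by simp)).some
  have hkc : CompactSpace (D.obj k) := QuasiCompact.compactSpace_of_compactSpace (D.map fk₀)
  let W : Fin t.card → (D.obj k).Opens := fun j => D.map (fk j) ⁻¹ᵁ V j
  have hWc : ∀ j, IsCompact (W j : Set (D.obj k)) := fun j =>
    QuasiCompact.isCompact_preimage (f := D.map (fk j)) _ (V j).2 (hVc j)
  have hW : ∀ j, c.π.app k ⁻¹ᵁ W j = (u (a j)).opensRange := by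
    intro j
    rw [← hV j, ← c.w (fk j), Scheme.Hom.comp_preimage]
  have hsup : c.π.app k ⁻¹ᵁ (⨆ j, W j) = c.π.app k ⁻¹ᵁ ⊤ := by
    rw [Scheme.Hom.preimage_iSup, Scheme.Hom.preimage_top, eq_top_iff]
    intro x _
    obtain ⟨j, hj⟩ := ha x
    rw [← hW j] at hj
    exact TopologicalSpace.Opens.mem_iSup.2 ⟨j, hj⟩
  have hsupc : IsCompact ((⨆ j, W j : (D.obj k).Opens) : Set (D.obj k)) := by
    rw [TopologicalSpace.Opens.coe_iSup]
    exact isCompact_iUnion hWc
  obtain ⟨l, fl, hl⟩ := exists_map_preimage_eq_map_preimage D c hc hsupc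
    (V := ⊤) (by simpa using isCompact_univ) hsup
  have hls : QuasiSeparatedSpace (D.obj l) :=
    quasiSeparatedSpace_of_quasiSeparated (D.map (fl ≫ fk₀))
  have hlc : CompactSpace (D.obj l) :=
    QuasiCompact.compactSpace_of_compactSpace (D.map (fl ≫ fk₀))
  let W' : Fin t.card → (D.obj l).Opens := fun j => D.map fl ⁻¹ᵁ W j
  have hW'c : ∀ j, IsCompact (W' j : Set (D.obj l)) := fun j =>
    QuasiCompact.isCompact_preimage (f := D.map fl) _ (W j).2 (hWc j)
  have hW' : ∀ j, c.π.app l ⁻¹ᵁ W' j = (u (a j)).opensRange := by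
    intro j
    rw [← hW j, ← c.w fl, Scheme.Hom.comp_preimage]
  have hrange : ∀ j, Set.range (u (a j) ≫ c.π.app l).base ⊆ Set.range (W' j).ι.base := by
    intro j
    rintro _ ⟨y, rfl⟩
    have hy : (u (a j)).base y ∈ c.π.app l ⁻¹ᵁ W' j := by
      rw [hW' j]; exact ⟨y, rfl⟩
    simpa using hy
  refine ⟨l, t.card, fun j => (W' j : Scheme.{u}), fun j => (W' j).ι, a,
    fun j => IsOpenImmersion.lift (W' j).ι (u (a j) ≫ c.π.app l) (hrange j), ?_, ?_, ?_⟩
  · intro j
    refine ⟨inferInstance, ?_⟩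
    have : CompactSpace ↥(W' j : Scheme.{u}) := isCompact_iff_compactSpace.mp (hW'c j)
    exact quasiCompact_of_compactSpace (W' j).ι
  · intro x
    have hx : x ∈ (⨆ j, W' j : (D.obj l).Opens) := by
      have : (⨆ j, W' j : (D.obj l).Opens) = ⊤ := by
        rw [← Scheme.Hom.preimage_iSup, hl, Scheme.Hom.preimage_top]
      rw [this]; trivial
    obtain ⟨j, hj⟩ := TopologicalSpace.Opens.mem_iSup.1 hx
    exact ⟨j, ⟨x, hj⟩, rfl⟩
  · intro j
    refine IsOpenImmersion.isPullback _ _ _ _ ?_ ?_
    · rw [IsOpenImmersion.lift_fac]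
    · rw [Scheme.Opens.opensRange_ι, hW' j]

end Groth.Agent.S20010
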