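import Groth.Statements.S20018


set_option autoImplicit false
open CAlg

namespace Groth.Agent.S20018

/-- The partial products, defined recursively. -/
noncomputable def Q {R : Type*} [CommRing R] (x : PowerSeries R) : ℕ → PowerSeries R
  | 0 => 1
  | (N + 1) => Q x N * (1 - PowerSeries.C (PowerSeries.coeff (N + 1) (Q x N) - PowerSeries.coeff (N + 1) x) *
      PowerSeries.X ^ (N + 1))

theorem coeff_mul_one_sub {R : Type*} [CommRing R] (q : PowerSeries R) (a : R) (n k : ℕ) :
    PowerSeries.coeff k (q * (1 - PowerSeries.C a * PowerSeries.X ^ n)) =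
      PowerSeries.coeff k q - (if n ≤ k then a * PowerSeries.coeff (k - n) q else 0) := by
  have h : q * (1 - PowerSeries.C a * PowerSeries.X ^ n) =
      q - PowerSeries.C a * (q * PowerSeries.X ^ n) := by ring
  rw [h, map_sub, PowerSeries.coeff_C_mul, PowerSeries.coeff_mul_X_pow']
  split_ifs <;> simp

theorem Q_spec {R : Type*} [CommRing R] (x : PowerSeries R) (hx : PowerSeries.constantCoeff x = 1)
    (N : ℕ) : ∀ k < N + 1, PowerSeries.coeff k (Q x N) = PowerSeries.coeff k x := by
  induction N with
  | zero =>
    intro k hk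
    obtain rfl : k = 0 := by omega
    simp [Q, hx]
  | succ N ih =>
    intro k hk
    rw [Q, coeff_mul_one_sub]
    by_cases hk' : N + 1 ≤ k
    · obtain rfl : k = N + 1 := by omega
      have h0 : PowerSeries.coeff 0 (Q x N) = 1 := by
        rw [ih 0 (by omega), PowerSeries.coeff_zero_eq_constantCoeff_apply, hx]
      simp [h0]
    · rw [if_neg hk', sub_zero]
      exact ih k (by omega)

theorem Q_eq_prod {R : Type*} [CommRing R] (x : PowerSeries R) (N : ℕ) :
    Q x N = ∏ i ∈ Finset.range N,
      (1 - PowerSeries.C (PowerSeries.coeff (i + 1) (Q x i) - PowerSeries.coeff (i + 1) x) *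
        PowerSeries.X ^ (i + 1) : PowerSeries R) := by
  induction N with
  | zero => simp [Q]
  | succ N ih => rw [Finset.prod_range_succ, ← ih, Q]

theorem trunc_eq_iff {R : Type*} [CommRing R] (n : ℕ) (p q : PowerSeries R) :
    PowerSeries.trunc n p = PowerSeries.trunc n q ↔
      ∀ k < n, PowerSeries.coeff k p = PowerSeries.coeff k q := by
  constructor
  · intro h k hk
    have := congr_arg (fun f => Polynomial.coeff f k) h
    simpa [PowerSeries.coeff_trunc, hk] using this
  · intro h
    ext k
    rw [PowerSeries.coeff_trunc, PowerSeries.coeff_trunc]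
    split_ifs with hk
    · exact h k hk
    · rfl

open PowerSeries in
/-- Product expansion of big Witt vectors: let R be a commutative ring and x ∈ 1 + tR[[t]] a formal
power series with constant term 1. Then x can be written uniquely as an infinite product ∏_{i ≥ 1}
(1 - α_i t^i) with α_i ∈ R. The infinite product is expressed through its truncations: there is a
unique sequence α : ℕ → R (α i standing for the coefficient attached to t^{i+1}) such that for every
N the series x and the finite product ∏_{i=0}^{N} (1 - α_i t^{i+1}) agree modulo t^{N+2}. -/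
theorem result
    (R : Type*) [CommRing R] (x : PowerSeries R) (hx : PowerSeries.constantCoeff x = 1) :
    ∃! α : ℕ → R, ∀ N : ℕ,
      PowerSeries.trunc (N + 2) x =
        PowerSeries.trunc (N + 2) (∏ i ∈ Finset.range (N + 1),
          (1 - PowerSeries.C (α i) * PowerSeries.X ^ (i + 1) : PowerSeries R)) := by
  have h0 : ∀ N, PowerSeries.coeff 0 (Q x N) = 1 := fun N => by
    rw [Q_spec x hx N 0 (by omega), PowerSeries.coeff_zero_eq_constantCoeff_apply, hx]
  refine ⟨fun i => PowerSeries.coeff (i + 1) (Q x i) - PowerSeries.coeff (i + 1) x, ?_, ?_⟩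
  · intro N
    show PowerSeries.trunc (N + 2) x = PowerSeries.trunc (N + 2) (∏ i ∈ Finset.range (N + 1),
      (1 - PowerSeries.C (PowerSeries.coeff (i + 1) (Q x i) - PowerSeries.coeff (i + 1) x) *
        PowerSeries.X ^ (i + 1) : PowerSeries R))
    rw [← Q_eq_prod, trunc_eq_iff]
    intro k hk
    exact (Q_spec x hx (N + 1) k hk).symm
  · intro β hβ
    funext n
    induction n using Nat.strong_induction_on with
    | _ n ih =>
    have hprod : ∏ i ∈ Finset.range n, (1 - PowerSeries.C (β i) * PowerSeries.X ^ (i + 1) :
        PowerSeries R) = Q x n := by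
      rw [Q_eq_prod]
      refine Finset.prod_congr rfl fun i hi => ?_
      rw [ih i (Finset.mem_range.mp hi)]
    have h1 := (trunc_eq_iff _ _ _).mp (hβ n) (n + 1) (by omega)
    rw [Finset.prod_range_succ, hprod, coeff_mul_one_sub, if_pos le_rfl, Nat.sub_self, h0,
      mul_one] at h1
    show β n = PowerSeries.coeff (n + 1) (Q x n) - PowerSeries.coeff (n + 1) x
    rw [h1]
    ring

end Groth.Agent.S20018
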