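import Groth.Statements.S20022
import Mathlib
import Groth.Agent.Lib.Helper10.GrFree

set_option autoImplicit false
universe u
open GrLC

namespace Groth.Agent.S20022

set_option linter.style.haveILetI false

open DirectSum Groth.Agent.Lib.helper10.GrFree

section

variable {R : Type u} [CommRing R] (𝒜 : ℤ → AddSubgroup R) [GradedRing 𝒜]
  {M : Type u} [AddCommGroup M] [Module R M] (ℳ : ℤ → AddSubgroup M)
  [DirectSum.Decomposition ℳ] [SetLike.GradedSMul 𝒜 ℳ]

/-- elements of `M` all of whose nonzero components have degree with residue mod `d` in `C`. -/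
def resSub (d : ℤ) (hdvd : ∀ (n : ℤ) (x : R), x ∈ 𝒜 n → x ≠ 0 → d ∣ n) (C : Set ℤ) :
    Submodule R M where
  carrier := {x | ∀ e : ℤ, e % d ∉ C → projM ℳ e x = 0}
  add_mem' := by
    intro a b ha hb e he
    rw [map_add, ha e he, hb e he, add_zero]
  zero_mem' := by
    intro e _
    rw [map_zero]
  smul_mem' := by
    classical
    intro c x hx e he
    rw [← sum_support_decompose ℳ x, Finset.smul_sum, map_sum]
    apply Finset.sum_eq_zero
    intro s _
    rw [projM_smul_of_mem 𝒜 ℳ c (decompose ℳ x s).2 e]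
    by_cases hs : s % d ∈ C
    · by_cases hc : (decompose 𝒜 c (e - s) : R) = 0
      · rw [hc, zero_smul]
      · exfalso
        have h1 := hdvd (e - s) _ (decompose 𝒜 c (e - s)).2 hc
        apply he
        have h2 : e % d = s % d := by
          have h3 : e = s + (e - s) := by ring
          rw [h3, Int.add_emod, Int.emod_eq_zero_of_dvd h1, add_zero, Int.emod_emod_of_dvd _ dvd_rfl]
        rw [h2]; exact hs
    · have h1 : (decompose ℳ x s : M) = 0 := hx s hs
      rw [h1, smul_zero]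

theorem mem_resSub (d : ℤ) (hdvd : ∀ (n : ℤ) (x : R), x ∈ 𝒜 n → x ≠ 0 → d ∣ n) (C : Set ℤ)
    (x : M) : x ∈ resSub 𝒜 ℳ d hdvd C ↔ ∀ e : ℤ, e % d ∉ C → projM ℳ e x = 0 := Iff.rfl

theorem resSub_mono (d : ℤ) (hdvd : ∀ (n : ℤ) (x : R), x ∈ 𝒜 n → x ≠ 0 → d ∣ n) {C C' : Set ℤ}
    (h : C ⊆ C') : resSub 𝒜 ℳ d hdvd C ≤ resSub 𝒜 ℳ d hdvd C' :=
  fun x hx e he => hx e (fun h' => he (h h'))

theorem mem_resSub_of_mem (d : ℤ) (hdvd : ∀ (n : ℤ) (x : R), x ∈ 𝒜 n → x ≠ 0 → d ∣ n)
    {r : ℤ} {x : M} (hx : x ∈ ℳ r) : x ∈ resSub 𝒜 ℳ d hdvd {r % d} := by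
  intro e he
  apply projM_of_mem_ne ℳ hx
  rintro rfl
  exact he rfl

theorem eq_zero_of_mem_resSub_disjoint (d : ℤ)
    (hdvd : ∀ (n : ℤ) (x : R), x ∈ 𝒜 n → x ≠ 0 → d ∣ n) {C C' : Set ℤ} (h : Disjoint C C')
    {x : M} (hx : x ∈ resSub 𝒜 ℳ d hdvd C) (hx' : x ∈ resSub 𝒜 ℳ d hdvd C') : x = 0 := by
  classical
  rw [← sum_support_decompose ℳ x]
  apply Finset.sum_eq_zero
  intro e _
  by_cases he : e % d ∈ C
  · exact hx' e (fun h' => Set.disjoint_left.mp h he h')
  · exact hx e he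

end

theorem main (R : Type u) [CommRing R]
    (𝒜 : ℤ → AddSubgroup R) [GradedRing 𝒜] (h0 : IsField (GrLC.deg0 𝒜))
    (d : ℤ) (hd : 0 < d) (T : Rˣ) (hT : (T : R) ∈ 𝒜 d)
    (hA : ∀ (n : ℤ) (x : R), x ∈ 𝒜 n → x ≠ 0 →
      ∃ j : ℤ, ∃ a ∈ 𝒜 0, j * d = n ∧ x = a * ((T ^ j : Rˣ) : R))
    (M : Type u) [AddCommGroup M] [Module R M] (ℳ : ℤ → AddSubgroup M)
    [DirectSum.Decomposition ℳ] [SetLike.GradedSMul 𝒜 ℳ] :
    ∃ (κ : Type u) (b : Module.Basis κ R M), ∀ i : κ, SetLike.IsHomogeneousElem ℳ (b i) := by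
  classical
  letI : Field (GrLC.deg0 𝒜) := h0.toField
  have hdvd : ∀ (n : ℤ) (x : R), x ∈ 𝒜 n → x ≠ 0 → d ∣ n := by
    intro n x hx hx0
    obtain ⟨j, a, _, hj, _⟩ := hA n x hx hx0
    exact ⟨j, by rw [← hj]; ring⟩
  have hTinv : ((T⁻¹ : Rˣ) : R) ∈ 𝒜 (-d) := by
    have hcomp : ∀ s : ℤ, s ≠ -d → (decompose 𝒜 ((T⁻¹ : Rˣ) : R) s : R) = 0 := by
      intro s hs
      have h1 := projM_smul_of_mem 𝒜 𝒜 ((T⁻¹ : Rˣ) : R) hT (s + d)
      rw [smul_eq_mul, Units.inv_mul] at h1
      have h2 : projM 𝒜 (s + d) (1 : R) = 0 :=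
        projM_of_mem_ne 𝒜 (SetLike.GradedOne.one_mem) (by omega : (0 : ℤ) ≠ s + d)
      have h3 : s + d - d = s := by ring
      rw [h3, h2, smul_eq_mul] at h1
      exact (Units.mul_left_eq_zero T).mp h1.symm
    rw [← sum_support_decompose 𝒜 ((T⁻¹ : Rˣ) : R)]
    apply sum_mem
    intro s _
    by_cases hs : s = -d
    · rw [hs]; exact (decompose 𝒜 ((T⁻¹ : Rˣ) : R) (-d)).2
    · rw [hcomp s hs]; exact zero_mem _
  have hTpow : ∀ j : ℤ, ((T ^ j : Rˣ) : R) ∈ 𝒜 (j * d) := by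
    intro j
    obtain ⟨n, rfl | rfl⟩ := Int.eq_nat_or_neg j
    · rw [zpow_natCast, Units.val_pow_eq_pow_val]
      have h1 := SetLike.pow_mem_graded n hT
      rwa [nsmul_eq_mul] at h1
    · rw [zpow_neg, zpow_natCast, ← inv_pow, Units.val_pow_eq_pow_val]
      have h1 := SetLike.pow_mem_graded n hTinv
      rw [nsmul_eq_mul] at h1
      have h2 : (n : ℤ) * (-d) = -(n : ℤ) * d := by ring
      rwa [h2] at h1
  let k := GrLC.deg0 𝒜
  let V : ℤ → Submodule k M := fun r => GrLC.comp 𝒜 ℳ r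
  let η := ↥(Set.Ico (0 : ℤ) d)
  let ιs : η → Type u := fun r => Module.Free.ChooseBasisIndex k (V r)
  let B : ∀ r : η, Module.Basis (ιs r) k (V r) := fun r => Module.Free.chooseBasis k (V r)
  let f : ∀ r : η, ιs r → M := fun r i => ((B r i : V r) : M)
  have hfmem : ∀ (r : η) (i : ιs r), f r i ∈ ℳ (r : ℤ) := fun r i => (B r i).2
  have hindep : ∀ r : η, LinearIndependent R (f r) := by
    intro r
    rw [linearIndependent_iff']
    intro s g hrel i0 hi0
    have hcomp : ∀ t : ℤ, (decompose 𝒜 (g i0) t : R) = 0 := by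
      intro t
      by_contra hne
      obtain ⟨q, hq⟩ := hdvd t _ (decompose 𝒜 (g i0) t).2 hne
      have hrel2 := sum_proj_smul_eq_zero 𝒜 ℳ s g (f r) (fun _ => (r : ℤ))
        (fun i _ => hfmem r i) hrel (t + r)
      have ha : ∀ i, ∃ a : k, (decompose 𝒜 (g i) t : R) = (a : R) * ((T ^ q : Rˣ) : R) := by
        intro i
        by_cases h : (decompose 𝒜 (g i) t : R) = 0
        · exact ⟨0, by rw [h]; simp⟩
        · obtain ⟨j, a, ha0, hj, hx⟩ := hA t _ (decompose 𝒜 (g i) t).2 h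
          have hjq : j = q := by
            have h1 : j * d = q * d := by rw [hj, hq]; ring
            exact mul_right_cancel₀ hd.ne' h1
          exact ⟨⟨a, ha0⟩, by rw [hx, hjq]⟩
      choose a ha using ha
      have hsum : ∑ i ∈ s, a i • B r i = 0 := by
        apply Subtype.ext
        rw [Submodule.coe_sum, Submodule.coe_zero]
        have hT2 : (T ^ q : Rˣ) • ∑ i ∈ s, (((a i • B r i : V r)) : M) = 0 := by
          rw [Units.smul_def, Finset.smul_sum, ← hrel2]
          refine Finset.sum_congr rfl fun i _ => ?_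
          have h3 : t + (r : ℤ) - (r : ℤ) = t := by ring
          rw [h3, ha i, mul_comm, mul_smul]
          rfl
        exact (smul_eq_zero_iff_eq (T ^ q)).mp hT2
      have hai := (linearIndependent_iff'.mp (B r).linearIndependent) s a hsum i0 hi0
      apply hne
      rw [ha i0, hai]
      simp
    rw [← sum_support_decompose 𝒜 (g i0)]
    exact Finset.sum_eq_zero fun t _ => hcomp t
  have hspan_le : ∀ r : η, Submodule.span R (Set.range (f r)) ≤
      resSub 𝒜 ℳ d hdvd {(r : ℤ)} := by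
    intro r
    rw [Submodule.span_le]
    rintro _ ⟨i, rfl⟩
    have h1 := mem_resSub_of_mem 𝒜 ℳ d hdvd (hfmem r i)
    rwa [Int.emod_eq_of_lt r.2.1 r.2.2] at h1
  have hdisj : ∀ (r : η) (t : Set η), t.Finite → r ∉ t →
      Disjoint (Submodule.span R (Set.range (f r)))
        (⨆ r' ∈ t, Submodule.span R (Set.range (f r'))) := by
    intro r t _ hrt
    rw [Submodule.disjoint_def]
    intro x hx hx'
    have h1 : x ∈ resSub 𝒜 ℳ d hdvd {(r : ℤ)} := hspan_le r hx
    have h2 : x ∈ resSub 𝒜 ℳ d hdvd ((fun r' : η => (r' : ℤ)) '' t) := by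
      have hle : (⨆ r' ∈ t, Submodule.span R (Set.range (f r'))) ≤
          resSub 𝒜 ℳ d hdvd ((fun r' : η => (r' : ℤ)) '' t) := by
        apply iSup₂_le
        intro r' hr'
        exact (hspan_le r').trans (resSub_mono 𝒜 ℳ d hdvd
          (Set.singleton_subset_iff.mpr ⟨r', hr', rfl⟩))
      exact hle hx'
    refine eq_zero_of_mem_resSub_disjoint 𝒜 ℳ d hdvd ?_ h1 h2
    rw [Set.disjoint_singleton_left]
    rintro ⟨r', hr', hrr'⟩
    exact hrt (by rwa [← Subtype.ext hrr'])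
  have hli := linearIndependent_iUnion_finite hindep hdisj
  have hspan : ⊤ ≤ Submodule.span R (Set.range (fun ji : Σ r, ιs r => f ji.1 ji.2)) := by
    intro x _
    rw [← sum_support_decompose ℳ x]
    apply Submodule.sum_mem
    intro n _
    generalize hy : (decompose ℳ x n : M) = y
    have hyn : y ∈ ℳ n := hy ▸ (decompose ℳ x n).2
    let q := n / d
    let r : η := ⟨n % d, Int.emod_nonneg n hd.ne', Int.emod_lt_of_pos n hd⟩
    have hz : ((T ^ (-q) : Rˣ) : R) • y ∈ ℳ (r : ℤ) := by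
      have h1 := SetLike.GradedSMul.smul_mem (hTpow (-q)) hyn
      have heq : -q * d + n = n % d := by rw [Int.emod_def]; ring
      rw [vadd_eq_add, heq] at h1
      exact h1
    have hzspan : ((T ^ (-q) : Rˣ) : R) • y ∈ Submodule.span R (Set.range (f r)) := by
      have h1 : (⟨_, hz⟩ : V r) ∈ Submodule.span k (Set.range (B r)) := by
        rw [(B r).span_eq]; trivial
      have h2 := Submodule.mem_map_of_mem (f := (V r).subtype) h1
      rw [Submodule.map_span, ← Set.range_comp] at h2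
      exact (Submodule.span_le_restrictScalars k R _) h2
    have hy2 : y = ((T ^ q : Rˣ) : R) • (((T ^ (-q) : Rˣ) : R) • y) := by
      rw [smul_smul, ← Units.val_mul, ← zpow_add, add_neg_cancel, zpow_zero, Units.val_one,
        one_smul]
    rw [hy2]
    apply Submodule.smul_mem
    refine Submodule.span_mono ?_ hzspan
    rintro _ ⟨i, rfl⟩
    exact ⟨⟨r, i⟩, rfl⟩
  refine ⟨Σ r, ιs r, Module.Basis.mk hli hspan, fun i => ?_⟩
  rw [Module.Basis.mk_apply]
  exact ⟨(i.1 : ℤ), hfmem i.1 i.2⟩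



/-- Let R be a commutative ℤ-graded ring whose degree-zero subring R_0 is a field k and which is the
Laurent polynomial ring k[T, T⁻¹] on a homogeneous invertible element T of positive degree d, in the
following intrinsic sense: T is a unit lying in R_d, and every nonzero homogeneous element of degree
n equals a·T^j for some a ∈ R_0 and some integer j with j·d = n (so R_n = 0 unless d divides n, and
R_{jd} = k·T^j). Then every graded R-module M is free in the graded sense: M has an R-basis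
consisting of homogeneous elements. (The other case of condition (2), R = k concentrated in degree
zero, is not included.) -/
theorem result (R : Type u) [CommRing R]
    (𝒜 : ℤ → AddSubgroup R) [GradedRing 𝒜] (h0 : IsField (GrLC.deg0 𝒜))
    (d : ℤ) (hd : 0 < d) (T : Rˣ) (hT : (T : R) ∈ 𝒜 d)
    (hA : ∀ (n : ℤ) (x : R), x ∈ 𝒜 n → x ≠ 0 →
      ∃ j : ℤ, ∃ a ∈ 𝒜 0, j * d = n ∧ x = a * ((T ^ j : Rˣ) : R))
    (M : Type u) [AddCommGroup M] [Module R M] (ℳ : ℤ → AddSubgroup M)
    [DirectSum.Decomposition ℳ] [SetLike.GradedSMul 𝒜 ℳ] :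
    ∃ (κ : Type u) (b : Module.Basis κ R M), ∀ i : κ, SetLike.IsHomogeneousElem ℳ (b i) := by
  exact main R 𝒜 h0 d hd T hT hA M ℳ

end Groth.Agent.S20022
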