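import Groth.Statements.S20025
import Mathlib

set_option autoImplicit false
universe u
open InvQ

namespace Groth.Agent.S20025

open MvPolynomial

/-- the linear form `b X₀ - a X₁` -/
noncomputable def lin {k : Type u} [Field k] (a b : k) : MvPolynomial (Fin 2) k :=
  C b * X 0 - C a * X 1

/-- first normal form -/
def PA {k : Type u} [Field k] (f : MvPolynomial (Fin 2) k) : Prop :=
  ∃ (M : Matrix (Fin 2) (Fin 2) k) (c : k), IsUnit M.det ∧ c ≠ 0 ∧
    f = C c * W4c6intromoduli.subst M (X 0 ^ 2 * X 1 * (X 0 - X 1))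

/-- second normal form -/
def PB {k : Type u} [Field k] (f : MvPolynomial (Fin 2) k) : Prop :=
  ∃ (M : Matrix (Fin 2) (Fin 2) k) (c : k), IsUnit M.det ∧ c ≠ 0 ∧
    f = C c * W4c6intromoduli.subst M (X 0 ^ 2 * X 1 ^ 2)

theorem subst_X {k : Type u} [Field k] (M : Matrix (Fin 2) (Fin 2) k) (i : Fin 2) :
    W4c6intromoduli.subst M (X i) = C (M i 0) * X 0 + C (M i 1) * X 1 := by
  simp [W4c6intromoduli.subst, Fin.sum_univ_two]

theorem eval_subst_X {k : Type u} [Field k] (M : Matrix (Fin 2) (Fin 2) k) (v : Fin 2 → k)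
    (i : Fin 2) :
    MvPolynomial.eval v (W4c6intromoduli.subst M (X i)) = M i 0 * v 0 + M i 1 * v 1 := by
  rw [subst_X]; simp

theorem PA_of {k : Type u} [Field k] (f : MvPolynomial (Fin 2) k) (p q r s c : k)
    (hdet : p * s - q * r ≠ 0) (hc : c ≠ 0)
    (hf : f = C c * ((C p * X 0 + C q * X 1) ^ 2 * (C r * X 0 + C s * X 1) *
      ((C p * X 0 + C q * X 1) - (C r * X 0 + C s * X 1)))) : PA f := by
  refine ⟨!![p, q; r, s], c, ?_, hc, ?_⟩
  · rw [Matrix.det_fin_two_of]; exact isUnit_iff_ne_zero.2 hdet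
  · rw [hf, map_mul, map_mul, map_pow, map_sub, subst_X, subst_X]
    rfl

theorem PB_of {k : Type u} [Field k] (f : MvPolynomial (Fin 2) k) (p q r s c : k)
    (hdet : p * s - q * r ≠ 0) (hc : c ≠ 0)
    (hf : f = C c * ((C p * X 0 + C q * X 1) ^ 2 * (C r * X 0 + C s * X 1) ^ 2)) : PB f := by
  refine ⟨!![p, q; r, s], c, ?_, hc, ?_⟩
  · rw [Matrix.det_fin_two_of]; exact isUnit_iff_ne_zero.2 hdet
  · rw [hf, map_mul, map_pow, map_pow, subst_X, subst_X]
    rfl

theorem prop_of {k : Type u} [Field k] (a0 b0 a1 b1 : k) (h0 : a0 ≠ 0 ∨ b0 ≠ 0)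
    (h1 : a1 ≠ 0 ∨ b1 ≠ 0) (h : a0 * b1 = a1 * b0) :
    ∃ c : k, c ≠ 0 ∧ a1 = c * a0 ∧ b1 = c * b0 := by
  rcases h0 with h0 | h0
  · refine ⟨a1 / a0, ?_, ?_, ?_⟩
    · intro hc
      have ha1 : a1 = 0 := by
        rcases div_eq_zero_iff.1 hc with h' | h'
        · exact h'
        · exact absurd h' h0
      have hb1 : b1 = 0 := by
        have : a0 * b1 = 0 := by rw [h, ha1, zero_mul]
        rcases mul_eq_zero.1 this with h' | h'
        · exact absurd h' h0
        · exact h'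
      rcases h1 with h1 | h1
      · exact h1 ha1
      · exact h1 hb1
    · rw [div_mul_cancel₀ _ h0]
    · rw [div_mul_eq_mul_div, eq_div_iff h0]; linear_combination h
  · refine ⟨b1 / b0, ?_, ?_, ?_⟩
    · intro hc
      have hb1 : b1 = 0 := by
        rcases div_eq_zero_iff.1 hc with h' | h'
        · exact h'
        · exact absurd h' h0
      have ha1 : a1 = 0 := by
        have : a1 * b0 = 0 := by rw [← h, hb1, mul_zero]
        rcases mul_eq_zero.1 this with h' | h'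
        · exact h'
        · exact absurd h' h0
      rcases h1 with h1 | h1
      · exact h1 ha1
      · exact h1 hb1
    · rw [div_mul_eq_mul_div, eq_div_iff h0]; linear_combination -h
    · rw [div_mul_cancel₀ _ h0]

theorem solve {k : Type u} [Field k] (a0 b0 a2 b2 a3 b3 : k) (hΔ : a0 * b2 - a2 * b0 ≠ 0) :
    ∃ u v : k, a3 = u * a0 + v * a2 ∧ b3 = u * b0 + v * b2 ∧
      u * (a0 * b2 - a2 * b0) = a3 * b2 - a2 * b3 ∧
      v * (a0 * b2 - a2 * b0) = a0 * b3 - a3 * b0 := by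
  refine ⟨(a3 * b2 - a2 * b3) / (a0 * b2 - a2 * b0), (a0 * b3 - a3 * b0) / (a0 * b2 - a2 * b0),
    ?_, ?_, ?_, ?_⟩
  · rw [div_mul_eq_mul_div, div_mul_eq_mul_div, ← add_div, eq_div_iff hΔ]; ring
  · rw [div_mul_eq_mul_div, div_mul_eq_mul_div, ← add_div, eq_div_iff hΔ]; ring
  · rw [div_mul_cancel₀ _ hΔ]
  · rw [div_mul_cancel₀ _ hΔ]

theorem core {k : Type u} [Field k] (a0 b0 a1 b1 a2 b2 a3 b3 : k)
    (h0 : a0 ≠ 0 ∨ b0 ≠ 0) (h1 : a1 ≠ 0 ∨ b1 ≠ 0) (h2 : a2 ≠ 0 ∨ b2 ≠ 0) (h3 : a3 ≠ 0 ∨ b3 ≠ 0)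
    (h01 : a0 * b1 = a1 * b0) (hn02 : a0 * b2 ≠ a2 * b0) (hn03 : a0 * b3 ≠ a3 * b0) :
    PA (lin a0 b0 * lin a1 b1 * lin a2 b2 * lin a3 b3) ∨
    PB (lin a0 b0 * lin a1 b1 * lin a2 b2 * lin a3 b3) := by
  obtain ⟨c1, hc1, rfl, rfl⟩ := prop_of a0 b0 a1 b1 h0 h1 h01
  have hΔ : a0 * b2 - a2 * b0 ≠ 0 := sub_ne_zero.2 hn02
  by_cases h23 : a2 * b3 = a3 * b2
  · right
    obtain ⟨c3, hc3, rfl, rfl⟩ := prop_of a2 b2 a3 b3 h2 h3 h23
    refine PB_of _ b0 (-a0) b2 (-a2) (c1 * c3) ?_ (mul_ne_zero hc1 hc3) ?_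
    · intro h; apply hΔ; linear_combination h
    · unfold lin
      simp only [map_mul, map_neg]
      ring
  · left
    obtain ⟨u, v, ha3, hb3, hu, hv⟩ := solve a0 b0 a2 b2 a3 b3 hΔ
    have hu0 : u ≠ 0 := by
      intro hu0; rw [hu0, zero_mul] at hu; apply h23; linear_combination hu
    have hv0 : v ≠ 0 := by
      intro hv0; rw [hv0, zero_mul] at hv; apply hn03; linear_combination -hv
    have hne : -(u ^ 2 * v) ≠ 0 := neg_ne_zero.2 (mul_ne_zero (pow_ne_zero 2 hu0) hv0)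
    obtain ⟨c, hc⟩ : ∃ c : k, c1 = c * (-(u ^ 2 * v)) :=
      ⟨c1 / (-(u ^ 2 * v)), (div_mul_cancel₀ _ hne).symm⟩
    have hc0 : c ≠ 0 := by
      intro h; apply hc1; rw [hc, h, zero_mul]
    refine PA_of _ (u * b0) (-(u * a0)) (-(v * b2)) (v * a2) c ?_ hc0 ?_
    · have : u * b0 * (v * a2) - -(u * a0) * -(v * b2) = -(u * v * (a0 * b2 - a2 * b0)) := by ring
      rw [this]
      exact neg_ne_zero.2 (mul_ne_zero (mul_ne_zero hu0 hv0) hΔ)
    · unfold lin
      rw [ha3, hb3, hc]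
      simp only [map_mul, map_neg, map_add, map_pow]
      ring

theorem excl {k : Type u} [Field k] (f : MvPolynomial (Fin 2) k) (hA : PA f) (hB : PB f) :
    False := by
  obtain ⟨M, c, hM, hc, hA⟩ := hA
  obtain ⟨M', c', hM', hc', hB⟩ := hB
  have key : ∀ v : Fin 2 → k,
      c * ((M 0 0 * v 0 + M 0 1 * v 1) ^ 2 * (M 1 0 * v 0 + M 1 1 * v 1) *
        ((M 0 0 * v 0 + M 0 1 * v 1) - (M 1 0 * v 0 + M 1 1 * v 1))) =
      c' * ((M' 0 0 * v 0 + M' 0 1 * v 1) ^ 2 * (M' 1 0 * v 0 + M' 1 1 * v 1) ^ 2) := by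
    intro v
    have h := congrArg (MvPolynomial.eval v) (hA.symm.trans hB)
    simpa only [map_mul, map_pow, map_sub, MvPolynomial.eval_C, eval_subst_X] using h
  have hd : M 0 0 * M 1 1 - M 0 1 * M 1 0 ≠ 0 := by
    rw [← Matrix.det_fin_two M]; exact hM.ne_zero
  have hd' : M' 0 0 * M' 1 1 - M' 0 1 * M' 1 0 ≠ 0 := by
    rw [← Matrix.det_fin_two M']; exact hM'.ne_zero
  obtain ⟨p1, hp1⟩ : ∃ p1, p1 = M' 0 0 * (-M 0 1) + M' 0 1 * M 0 0 := ⟨_, rfl⟩
  obtain ⟨q1, hq1⟩ : ∃ q1, q1 = M' 1 0 * (-M 0 1) + M' 1 1 * M 0 0 := ⟨_, rfl⟩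
  obtain ⟨p2, hp2⟩ : ∃ p2, p2 = M' 0 0 * (-M 1 1) + M' 0 1 * M 1 0 := ⟨_, rfl⟩
  obtain ⟨q2, hq2⟩ : ∃ q2, q2 = M' 1 0 * (-M 1 1) + M' 1 1 * M 1 0 := ⟨_, rfl⟩
  have sq : ∀ x y : k, c' * (x ^ 2 * y ^ 2) = 0 → x * y = 0 := by
    intro x y h
    rcases mul_eq_zero.1 h with h | h
    · exact absurd h hc'
    · rw [← mul_pow] at h
      exact (pow_eq_zero_iff (two_ne_zero)).1 h
  have e1 : p1 * q1 = 0 := by
    apply sq
    have k1 := key ![-M 0 1, M 0 0]
    simp only [Matrix.cons_val_zero, Matrix.cons_val_one] at k1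
    rw [hp1, hq1, ← k1]; ring
  have e2 : p2 * q2 = 0 := by
    apply sq
    have k2 := key ![-M 1 1, M 1 0]
    simp only [Matrix.cons_val_zero, Matrix.cons_val_one] at k2
    rw [hp2, hq2, ← k2]; ring
  have e3 : (p1 - p2) * (q1 - q2) = 0 := by
    apply sq
    have k3 := key ![-M 0 1 + M 1 1, M 0 0 - M 1 0]
    simp only [Matrix.cons_val_zero, Matrix.cons_val_one] at k3
    have a1 : p1 - p2 = M' 0 0 * (-M 0 1 + M 1 1) + M' 0 1 * (M 0 0 - M 1 0) := by
      rw [hp1, hp2]; ring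
    have a2 : q1 - q2 = M' 1 0 * (-M 0 1 + M 1 1) + M' 1 1 * (M 0 0 - M 1 0) := by
      rw [hq1, hq2]; ring
    rw [a1, a2, ← k3]; ring
  have hD : p1 * q2 - p2 * q1 ≠ 0 := by
    have : p1 * q2 - p2 * q1 =
        (M' 0 0 * M' 1 1 - M' 0 1 * M' 1 0) * (M 0 0 * M 1 1 - M 0 1 * M 1 0) := by
      rw [hp1, hq1, hp2, hq2]; ring
    rw [this]; exact mul_ne_zero hd' hd
  apply hD
  rcases mul_eq_zero.1 e1 with h | h <;> rcases mul_eq_zero.1 e2 with h' | h'
  · linear_combination q2 * h - q1 * h'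
  · linear_combination e3 - e1 - e2 + 2 * q2 * h
  · linear_combination -e3 + e1 + e2 - 2 * p2 * h
  · linear_combination p1 * h' - p2 * h

theorem case_of {k : Type u} [Field k] (la mu : Fin 4 → k)
    (hne : ∀ i, la i ≠ 0 ∨ mu i ≠ 0)
    (h3z : ∀ i j l : Fin 4, i ≠ j → j ≠ l → i ≠ l →
      ¬ (la i * mu j = la j * mu i ∧ la j * mu l = la l * mu j))
    (i j a b : Fin 4)
    (hperm : W4c6intromoduli.binForm la mu =
      lin (la i) (mu i) * lin (la j) (mu j) * lin (la a) (mu a) * lin (la b) (mu b))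
    (hij : i ≠ j) (hia : i ≠ a) (hib : i ≠ b) (hja : j ≠ a) (hjb : j ≠ b)
    (h : la i * mu j = la j * mu i) :
    PA (W4c6intromoduli.binForm la mu) ∨ PB (W4c6intromoduli.binForm la mu) := by
  rw [hperm]
  exact core (la i) (mu i) (la j) (mu j) (la a) (mu a) (la b) (mu b) (hne i) (hne j) (hne a)
    (hne b) h
    (fun h' => h3z j i a hij.symm hia hja ⟨h.symm, h'⟩)
    (fun h' => h3z j i b hij.symm hib hjb ⟨h.symm, h'⟩)

theorem main {k : Type u} [Field k] (la mu : Fin 4 → k)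
    (hne : ∀ i, la i ≠ 0 ∨ mu i ≠ 0) (hd : W4c6intromoduli.disc la mu = 0)
    (h3z : ∀ i j l : Fin 4, i ≠ j → j ≠ l → i ≠ l →
      ¬ (la i * mu j = la j * mu i ∧ la j * mu l = la l * mu j)) :
    Xor (PA (W4c6intromoduli.binForm la mu)) (PB (W4c6intromoduli.binForm la mu)) := by
  have hex : PA (W4c6intromoduli.binForm la mu) ∨ PB (W4c6intromoduli.binForm la mu) := by
    unfold W4c6intromoduli.disc at hd
    rw [Finset.prod_eq_zero_iff] at hd
    obtain ⟨⟨i, j⟩, hp, hz⟩ := hd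
    simp only [Finset.mem_filter, Finset.mem_univ, true_and] at hp
    have hij : la i * mu j = la j * mu i := by
      have := (pow_eq_zero_iff (two_ne_zero)).1 hz
      linear_combination -this
    have hbin : W4c6intromoduli.binForm la mu =
        lin (la 0) (mu 0) * lin (la 1) (mu 1) * lin (la 2) (mu 2) * lin (la 3) (mu 3) := by
      unfold W4c6intromoduli.binForm lin
      rw [Fin.prod_univ_four]
    have cases : ∀ i j : Fin 4, i < j → (i = 0 ∧ j = 1) ∨ (i = 0 ∧ j = 2) ∨ (i = 0 ∧ j = 3) ∨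
        (i = 1 ∧ j = 2) ∨ (i = 1 ∧ j = 3) ∨ (i = 2 ∧ j = 3) := by decide
    rcases cases i j hp with ⟨rfl, rfl⟩ | ⟨rfl, rfl⟩ | ⟨rfl, rfl⟩ | ⟨rfl, rfl⟩ | ⟨rfl, rfl⟩ |
      ⟨rfl, rfl⟩
    · exact case_of la mu hne h3z 0 1 2 3 hbin (by decide) (by decide) (by decide) (by decide)
        (by decide) hij
    · exact case_of la mu hne h3z 0 2 1 3 (by rw [hbin]; ring) (by decide) (by decide) (by decide)
        (by decide) (by decide) hij
    · exact case_of la mu hne h3z 0 3 1 2 (by rw [hbin]; ring) (by decide) (by decide) (by decide)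
        (by decide) (by decide) hij
    · exact case_of la mu hne h3z 1 2 0 3 (by rw [hbin]; ring) (by decide) (by decide) (by decide)
        (by decide) (by decide) hij
    · exact case_of la mu hne h3z 1 3 0 2 (by rw [hbin]; ring) (by decide) (by decide) (by decide)
        (by decide) (by decide) hij
    · exact case_of la mu hne h3z 2 3 0 1 (by rw [hbin]; ring) (by decide) (by decide) (by decide)
        (by decide) (by decide) hij
  rcases hex with hA | hB
  · exact Or.inl ⟨hA, fun hB => excl _ hA hB⟩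
  · exact Or.inr ⟨hB, fun hA => excl _ hA hB⟩



/-- For the special fibre of the invariant map, over a field in which 2 and 3 are nonzero, consider a
split binary quartic f = ∏_i (μ_i X₀ − λ_i X₁) given by four root points (λ_i, μ_i) ≠ (0, 0), with a
double zero (vanishing discriminant ∏_{i<j} (λ_j μ_i − λ_i μ_j)²) and no triple zero (no three root
points pairwise proportional); these are the forms of the fibre over the special point P³/Q² = 6 of
the invariant map. Then exactly one of the two alternatives holds: f is a nonzero constant times the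
form X₀² X₁ (X₀ − X₁) after an invertible linear substitution of the variables, or f is a nonzero
constant times X₀² X₁² after such a substitution. So this fibre consists of exactly two classes
under substitutions and scalars (one double zero and two simple zeros; two double zeros). (The
dimensions of the two orbits and which of them is open or closed in the fibre are not part of this
row; stated for split forms over any such field.) -/
theorem result (k : Type u) [Field k]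
    (h2 : (2 : k) ≠ 0) (h3 : (3 : k) ≠ 0) (la mu : Fin 4 → k)
    (hne : ∀ i, la i ≠ 0 ∨ mu i ≠ 0) (hd : W4c6intromoduli.disc la mu = 0)
    (h3z : ∀ i j l : Fin 4, i ≠ j → j ≠ l → i ≠ l →
      ¬ (la i * mu j = la j * mu i ∧ la j * mu l = la l * mu j)) :
    Xor
      (∃ (M : Matrix (Fin 2) (Fin 2) k) (c : k), IsUnit M.det ∧ c ≠ 0 ∧
        W4c6intromoduli.binForm la mu =
          MvPolynomial.C c * W4c6intromoduli.subst M
            (MvPolynomial.X 0 ^ 2 * MvPolynomial.X 1 * (MvPolynomial.X 0 - MvPolynomial.X 1)))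
      (∃ (M : Matrix (Fin 2) (Fin 2) k) (c : k), IsUnit M.det ∧ c ≠ 0 ∧
        W4c6intromoduli.binForm la mu =
          MvPolynomial.C c * W4c6intromoduli.subst M
            (MvPolynomial.X 0 ^ 2 * MvPolynomial.X 1 ^ 2)) := by
  exact main la mu hne hd h3z


end Groth.Agent.S20025
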