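import Groth.Statements.S2006
import Groth.Agent.Lib.Helper7.GlueFin

set_option autoImplicit false
universe u
open TensorProduct
open EtAlg

namespace Groth.Agent.S2006


open Groth.Agent.Lib.helper7

/-- Let R -> R' induce bijections R/f^n R -> R'/f^n R' for all n > 0 and let M be an R-module. Then M is
finitely generated if and only if R' ⊗_R M is finitely generated over R' and M_f is finitely
generated over R_f. -/
theorem result (R R' : Type u) [CommRing R] [CommRing R'] [Algebra R R'] (f : R)
    (hq : EtGlue.QuotPowBijective R R' f) (M : Type u) [AddCommGroup M] [Module R M] :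
    Module.Finite R M ↔ Module.Finite R' (R' ⊗[R] M) ∧
      Module.Finite (Localization.Away f) (LocalizedModule (Submonoid.powers f) M) := by
  constructor
  · intro h
    exact ⟨inferInstance, Module.Finite.of_isLocalizedModule (Submonoid.powers f)
      (LocalizedModule.mkLinearMap (Submonoid.powers f) M)⟩
  · rintro ⟨h1, h2⟩
    classical
    obtain ⟨S₁, hS₁⟩ := h1.1
    obtain ⟨T₁, hT₁⟩ := GlueFin.exists_finset_subset_span (R := R) S₁
    obtain ⟨T₂, hT₂⟩ := GlueFin.exists_finset_pow_smul_mem_span f (Localization.Away f)
      (LocalizedModule.mkLinearMap (Submonoid.powers f) M)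
    refine ⟨⟨T₁ ∪ T₂, ?_⟩⟩
    apply GlueFin.eq_top_of_glue hq
    · intro m
      obtain ⟨n, hn⟩ := hT₂ m
      exact ⟨n, Submodule.span_mono (by simp) hn⟩
    · rw [eq_top_iff, ← hS₁, Submodule.span_le]
      refine hT₁.trans ?_
      apply Submodule.span_mono
      apply Set.image_mono
      intro m hm
      exact Submodule.subset_span (by simp [hm])

end Groth.Agent.S2006
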