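import Groth.Statements.S2008
import Groth.Agent.Lib.Helper7.FormalGlueFF

set_option autoImplicit false
universe u
open TensorProduct
open EtAlg

namespace Groth.Agent.S2008


open Groth.Agent.Lib.helper7

/-- For a ring map R -> S and an ideal I of R the following are equivalent: (1) S is flat over R and
S/IS is faithfully flat over R/I; (2) S is flat over R and Spec(S/IS) -> Spec(R/I) is surjective;
(3) S is flat over R and S ⊗_R M is nonzero for every nonzero R-module M killed by I; (4) S is flat
over R and S ⊗_R M is nonzero for every nonzero I-power torsion R-module M. (Faithfulness of base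
change on these subcategories is stated as detection of nonzero objects, which is equivalent for an
exact functor.) -/
theorem result (R S : Type u) [CommRing R] [CommRing S] [Algebra R S] (I : Ideal R) :
    List.TFAE [
      Module.Flat R S ∧ Module.FaithfullyFlat (R ⧸ I) (S ⧸ I.map (algebraMap R S)),
      Module.Flat R S ∧ Function.Surjective (PrimeSpectrum.comap (Ideal.quotientMap (I.map (algebraMap R S)) (algebraMap R S) Ideal.le_comap_map)),
      Module.Flat R S ∧ ∀ (M : Type u) [AddCommGroup M] [Module R M], (∀ (a : R) (m : M), a ∈ I → a • m = 0) →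
        Nontrivial M → Nontrivial (S ⊗[R] M),
      Module.Flat R S ∧ ∀ (M : Type u) [AddCommGroup M] [Module R M], (∀ m : M, ∃ n : ℕ, ∀ a ∈ I ^ n, a • m = 0) →
        Nontrivial M → Nontrivial (S ⊗[R] M)] := by
  have eqAlg : algebraMap (R ⧸ I) (S ⧸ I.map (algebraMap R S)) =
      Ideal.quotientMap (I.map (algebraMap R S)) (algebraMap R S) Ideal.le_comap_map := rfl
  tfae_have 1 ↔ 2 := by
    constructor
    · rintro ⟨hF, hFF⟩
      refine ⟨hF, ?_⟩
      rw [← eqAlg]
      exact PrimeSpectrum.comap_surjective_of_faithfullyFlat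
    · rintro ⟨hF, hs⟩
      refine ⟨hF, ?_⟩
      rw [← eqAlg] at hs
      exact Module.FaithfullyFlat.of_comap_surjective hs
  tfae_have 1 → 3 := by
    rintro ⟨hF, hFF⟩
    refine ⟨hF, ?_⟩
    intro M _ _ hM hnt
    have hT : Module.IsTorsionBySet R M (I : Set R) := fun x a => hM a.1 x a.2
    letI : Module (R ⧸ I) M := Module.IsTorsionBySet.module hT
    haveI : IsScalarTower R (R ⧸ I) M := Module.IsTorsionBySet.isScalarTower hT
    haveI : Nontrivial (M ⊗[R ⧸ I] (S ⧸ I.map (algebraMap R S))) :=
      Module.FaithfullyFlat.rTensor_nontrivial _ _ M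
    exact (FormalGlue.quotTensorEquiv (S := S) I M).symm.nontrivial
  tfae_have 3 → 1 := by
    rintro ⟨hF, h⟩
    refine ⟨hF, ?_⟩
    rw [Module.FaithfullyFlat.iff_flat_and_rTensor_faithful]
    refine ⟨inferInstance, ?_⟩
    intro N _ _ hnt
    letI : Module R N := Module.compHom N (Ideal.Quotient.mk I)
    haveI : IsScalarTower R (R ⧸ I) N := IsScalarTower.of_algebraMap_smul fun r x => rfl
    have hk : ∀ (a : R) (m : N), a ∈ I → a • m = 0 := by
      intro a m ha
      change (Ideal.Quotient.mk I a) • m = 0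
      rw [Ideal.Quotient.eq_zero_iff_mem.2 ha, zero_smul]
    haveI := h N hk hnt
    exact (FormalGlue.quotTensorEquiv (S := S) I N).nontrivial
  tfae_have 4 → 3 := by
    rintro ⟨hF, h⟩
    refine ⟨hF, ?_⟩
    intro M _ _ hM hnt
    exact h M (fun m => ⟨1, fun a ha => hM a m (by simpa using ha)⟩) hnt
  tfae_have 3 → 4 := by
    rintro ⟨hF, h⟩
    refine ⟨hF, ?_⟩
    intro M _ _ hM hnt
    obtain ⟨m, hm⟩ := exists_ne (0 : M)
    classical
    have hex := hM m
    obtain ⟨n, hn⟩ : ∃ n, n = Nat.find hex := ⟨_, rfl⟩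
    have hspec : ∀ a ∈ I ^ n, a • m = 0 := hn ▸ Nat.find_spec hex
    have hmin : ∀ k < n, ¬ ∀ a ∈ I ^ k, a • m = 0 := fun k hk => Nat.find_min hex (hn ▸ hk)
    have hn0 : n ≠ 0 := by
      rintro rfl
      exact hm (by simpa using hspec 1 (by simp))
    obtain ⟨k, rfl⟩ := Nat.exists_eq_succ_of_ne_zero hn0
    have := hmin k (Nat.lt_succ_self k)
    push_neg at this
    obtain ⟨a, ha, ham⟩ := this
    have hmem : a • m ∈ FormalGlue.torsPow I M 1 := by
      intro b hb
      rw [smul_smul]
      exact hspec _ (by rw [pow_succ']; exact Ideal.mul_mem_mul (by simpa using hb) ha)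
    haveI : Nontrivial (FormalGlue.torsPow I M 1) :=
      ⟨⟨⟨a • m, hmem⟩, 0, fun h0 => ham (congrArg Subtype.val h0)⟩⟩
    haveI := h (FormalGlue.torsPow I M 1)
      (fun b x hb => Subtype.ext (x.2 b (by simpa using hb))) inferInstance
    exact (Module.Flat.lTensor_preserves_injective_linearMap (M := S) _
      (Submodule.subtype_injective (FormalGlue.torsPow I M 1))).nontrivial
  tfae_finish

end Groth.Agent.S2008
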