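import Groth.Statements.S2009
import Groth.Agent.Lib.Helper7.FormalGlue

set_option autoImplicit false
universe u
open TensorProduct
open EtAlg

namespace Groth.Agent.S2009


open Groth.Agent.Lib.helper7

/-- Let R -> S be flat with S/IS faithfully flat over R/I. Then the natural map M -> S ⊗_R M is
bijective for every I-power torsion R-module M if and only if R/I -> S/IS is bijective. -/
theorem result (R S : Type u) [CommRing R] [CommRing S] [Algebra R S] (I : Ideal R)
    [Module.Flat R S] [Module.FaithfullyFlat (R ⧸ I) (S ⧸ I.map (algebraMap R S))] :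
    (∀ (M : Type u) [AddCommGroup M] [Module R M], (∀ m : M, ∃ n : ℕ, ∀ a ∈ I ^ n, a • m = 0) →
      Function.Bijective (TensorProduct.mk R S M 1)) ↔
    Function.Bijective (Ideal.quotientMap (I.map (algebraMap R S)) (algebraMap R S) Ideal.le_comap_map) := by
  constructor
  · intro h
    have hkill : ∀ a ∈ I, ∀ m : R ⧸ I, a • m = 0 := by
      intro a ha m
      obtain ⟨r, rfl⟩ := Ideal.Quotient.mk_surjective m
      rw [Algebra.smul_def, Ideal.Quotient.algebraMap_eq, ← map_mul, Ideal.Quotient.eq_zero_iff_mem]
      exact I.mul_mem_right _ ha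
    have hb := h (R ⧸ I) (fun m => ⟨1, fun a ha => hkill a (by simpa using ha) m⟩)
    constructor
    · rw [injective_iff_map_eq_zero]
      intro q hq0
      obtain ⟨r, rfl⟩ := Ideal.Quotient.mk_surjective q
      rw [Ideal.quotientMap_mk, Ideal.Quotient.eq_zero_iff_mem] at hq0
      have h0 := FormalGlue.map_tmul_eq_zero (S := S) I hkill hq0 (1 : R ⧸ I)
      apply hb.1
      rw [map_zero, TensorProduct.mk_apply, ← h0, Algebra.algebraMap_eq_smul_one,
        TensorProduct.smul_tmul]
      congr 1
      rw [Algebra.smul_def, mul_one]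
      rfl
    · intro q
      obtain ⟨s, rfl⟩ := Ideal.Quotient.mk_surjective q
      obtain ⟨x, hx⟩ := hb.2 (s ⊗ₜ[R] (1 : R ⧸ I))
      obtain ⟨r, rfl⟩ := Ideal.Quotient.mk_surjective x
      refine ⟨Ideal.Quotient.mk I r, ?_⟩
      rw [Ideal.quotientMap_mk, eq_comm, Ideal.Quotient.eq]
      have h1 := congrArg (TensorProduct.tensorQuotEquivQuotSMul S I) hx
      rw [TensorProduct.mk_apply] at h1
      have e1 : TensorProduct.tensorQuotEquivQuotSMul S I ((1 : S) ⊗ₜ[R] Ideal.Quotient.mk I r) =
          Submodule.Quotient.mk (r • (1 : S)) := by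
        simp [TensorProduct.tensorQuotEquivQuotSMul]
      have e2 : TensorProduct.tensorQuotEquivQuotSMul S I (s ⊗ₜ[R] (1 : R ⧸ I)) =
          Submodule.Quotient.mk s := by
        simp [TensorProduct.tensorQuotEquivQuotSMul]
      rw [e1, e2, eq_comm, Submodule.Quotient.eq, Ideal.smul_top_eq_map] at h1
      rw [Algebra.algebraMap_eq_smul_one]
      exact h1
  · intro hq M _ _ hM
    exact FormalGlue.mk_bijective_of_tors I hq M hM

end Groth.Agent.S2009
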