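import Groth.Statements.S2014
import Mathlib

set_option autoImplicit false
universe u
open EtAlg

namespace Groth.Agent.S2014


lemma mapQ_surj {R : Type u} [CommRing R] (I' I : Ideal R) (h : I' ≤ I) :
    Function.Surjective (Submodule.mapQ I' I LinearMap.id h) := by
  intro y
  obtain ⟨r, rfl⟩ := Submodule.Quotient.mk_surjective _ y
  exact ⟨Submodule.Quotient.mk r, rfl⟩

lemma length_succ_le {R : Type u} [CommRing R] (I' I : Ideal R) (h : I' ≤ I) (hne : ¬ I ≤ I') :
    Module.length R (R ⧸ I) + 1 ≤ Module.length R (R ⧸ I') := by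
  classical
  set f : (R ⧸ I') →ₗ[R] (R ⧸ I) := Submodule.mapQ I' I LinearMap.id h with hf
  have hsurj : Function.Surjective f := mapQ_surj I' I h
  rw [Module.length_eq_add_of_exact (LinearMap.ker f).subtype f (Submodule.subtype_injective _)
    hsurj (LinearMap.exact_subtype_ker_map f), add_comm]
  gcongr
  rw [Order.one_le_iff_pos, Module.length_pos_iff]
  obtain ⟨a, haI, haI'⟩ := SetLike.not_le_iff_exists.mp hne
  have hmem : (Submodule.Quotient.mk a : R ⧸ I') ∈ LinearMap.ker f := by
    rw [LinearMap.mem_ker]
    show (Submodule.Quotient.mk a : R ⧸ I) = 0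
    rw [Submodule.Quotient.mk_eq_zero]
    exact haI
  refine ⟨⟨⟨Submodule.Quotient.mk a, hmem⟩, 0, ?_⟩⟩
  intro h0
  apply haI'
  have h1 := congrArg Subtype.val h0
  simp only [ZeroMemClass.coe_zero] at h1
  rwa [Submodule.Quotient.mk_eq_zero] at h1


/-- Let R be a Noetherian local ring of Krull dimension 1 and x an element of the maximal ideal
contained in no minimal prime of R. Then the number of minimal prime ideals of R is at most the
length of R/xR as an R-module. -/
theorem result (R : Type u) [CommRing R] [IsNoetherianRing R] [IsLocalRing R]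
    (hdim : ringKrullDim R = 1) (x : R) (hx : x ∈ IsLocalRing.maximalIdeal R) (hmin : ∀ p ∈ minimalPrimes R, x ∉ p) :
    (Set.ncard (minimalPrimes R) : ℕ∞) ≤ Module.length R (R ⧸ Ideal.span {x}) := by
  classical
  have hfin : (minimalPrimes R).Finite := minimalPrimes.finite_of_isNoetherianRing R
  have key : ∀ t : Finset (Ideal R), (∀ q ∈ t, q ∈ minimalPrimes R) →
      (t.card : ℕ∞) ≤ Module.length R (R ⧸ (Ideal.span {x} ⊔ t.inf id)) := by
    intro t
    induction t using Finset.induction_on with
    | empty => intro _; simp
    | insert p t hpt ih =>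
      intro hmem
      have hp : p ∈ minimalPrimes R := hmem p (Finset.mem_insert_self p t)
      have ht : ∀ q ∈ t, q ∈ minimalPrimes R := fun q hq => hmem q (Finset.mem_insert_of_mem hq)
      have ih' := ih ht
      rw [Finset.card_insert_of_notMem hpt, Finset.inf_insert]
      simp only [id_eq]
      set J := t.inf id with hJ
      have hle : Ideal.span {x} ⊔ (p ⊓ J) ≤ Ideal.span {x} ⊔ J := sup_le_sup_left inf_le_right _
      have hne : ¬ (Ideal.span {x} ⊔ J ≤ Ideal.span {x} ⊔ (p ⊓ J)) := by
        intro hcon
        have hJmem : ∀ r : R, r ∈ J ↔ ∀ q ∈ t, r ∈ q := by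
          intro r
          rw [hJ, Submodule.mem_finsetInf]
          simp
        have h1 : J ≤ (p ⊓ J) ⊔ Ideal.span {x} • J := by
          intro a ha
          have ha' : a ∈ Ideal.span {x} ⊔ (p ⊓ J) := hcon (Ideal.mem_sup_right ha)
          obtain ⟨y, hy, b, hb, rfl⟩ := Submodule.mem_sup.mp ha'
          obtain ⟨r, rfl⟩ := Ideal.mem_span_singleton'.mp hy
          have hrx : r * x ∈ J := by
            have h2 := J.sub_mem ha hb.2
            simpa using h2
          have hr : r ∈ J := by
            rw [hJmem]
            intro q hq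
            have hqp : q.IsPrime := (ht q hq).1.1
            rcases hqp.mem_or_mem ((hJmem _).mp hrx q hq) with h | h
            · exact h
            · exact absurd h (hmin q (ht q hq))
          refine Submodule.mem_sup.mpr ⟨b, hb, r * x, ?_, add_comm _ _⟩
          have h3 : x • r ∈ Ideal.span {x} • J :=
            Submodule.smul_mem_smul (Ideal.mem_span_singleton_self x) hr
          have h4 : x • r = r * x := by rw [smul_eq_mul, mul_comm]
          rw [← h4]
          exact h3
        have hjac : Ideal.span {x} ≤ Ideal.jacobson (⊥ : Ideal R) := by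
          rw [IsLocalRing.jacobson_eq_maximalIdeal ⊥ bot_ne_top]
          exact (Ideal.span_singleton_le_iff_mem _).mpr hx
        have h2 : J ≤ p ⊓ J :=
          Submodule.le_of_le_smul_of_le_jacobson_bot (IsNoetherian.noetherian J) hjac h1
        have h3 : J ≤ p := h2.trans inf_le_left
        obtain ⟨q, hq, hqp⟩ := hp.1.1.inf_le'.mp h3
        have hpq : p ≤ q := hp.2 (ht q hq).1 hqp
        have : p = q := le_antisymm hpq hqp
        exact hpt (this ▸ hq)
      have h4 := length_succ_le _ _ hle hne
      push_cast
      exact (add_le_add_left ih' 1).trans h4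
  have h1 := key hfin.toFinset (fun q hq => hfin.mem_toFinset.mp hq)
  rw [Set.ncard_eq_toFinset_card _ hfin]
  refine h1.trans ?_
  exact Module.length_le_of_surjective (Submodule.mapQ _ _ LinearMap.id le_sup_left)
    (mapQ_surj _ _ le_sup_left)


end Groth.Agent.S2014
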