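import Groth.Statements.S2015
import Mathlib

set_option autoImplicit false
universe u
open EtAlg

namespace Groth.Agent.S2015

section aux
variable {R : Type u} [CommRing R]

theorem exists_dvd_all (h : ∀ a b : R, a ∣ b ∨ b ∣ a) (C : Finset R) (hC : C.Nonempty) :
    ∃ c ∈ C, ∀ x ∈ C, c ∣ x := by
  induction hC using Finset.Nonempty.cons_induction with
  | singleton a =>
    exact ⟨a, Finset.mem_singleton_self a, fun x hx => by rw [Finset.mem_singleton.mp hx]⟩
  | cons a s ha hs ih =>
    obtain ⟨c, hc, hcs⟩ := ih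
    rcases h a c with hac | hca
    · refine ⟨a, Finset.mem_cons_self a s, fun x hx => ?_⟩
      rcases Finset.mem_cons.mp hx with rfl | hx
      · exact dvd_rfl
      · exact hac.trans (hcs x hx)
    · refine ⟨c, Finset.mem_cons.mpr (Or.inr hc), fun x hx => ?_⟩
      rcases Finset.mem_cons.mp hx with rfl | hx
      · exact hca
      · exact hcs x hx

theorem step (h : ∀ a b : R, a ∣ b ∨ b ∣ a) (n : ℕ) (M : Type u) [AddCommGroup M] [Module R M]
    [Module.FinitePresentation R M] (g : Fin (n + 1) → M)
    (hg : Submodule.span R (Set.range g) = ⊤) :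
    ∃ (c : R) (y : M) (i₀ : Fin (n + 1)), (∀ r : R, r • y = 0 ↔ c ∣ r) ∧
      IsCompl (Submodule.span R (Set.range (fun j => g (i₀.succAbove j))))
        (Submodule.span R {y}) := by
  classical
  have hπ : Function.Surjective (Fintype.linearCombination R g) := by
    rw [← LinearMap.range_eq_top, Fintype.range_linearCombination, hg]
  have hπa : ∀ v : Fin (n + 1) → R, Fintype.linearCombination R g v = ∑ i, v i • g i :=
    fun v => Fintype.linearCombination_apply R g v
  obtain ⟨T, hT⟩ := Module.FinitePresentation.fg_ker (Fintype.linearCombination R g) hπ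
  have hT' : Submodule.span R (↑(insert (0 : Fin (n + 1) → R) T) : Set (Fin (n + 1) → R)) =
      LinearMap.ker (Fintype.linearCombination R g) := by
    rw [Finset.coe_insert, Submodule.span_insert_zero, hT]
  have hCne : ((insert (0 : Fin (n + 1) → R) T ×ˢ (Finset.univ : Finset (Fin (n + 1)))).image
      (fun p => p.1 p.2)).Nonempty :=
    ⟨(0 : Fin (n + 1) → R) 0, Finset.mem_image.mpr ⟨(0, 0),
      Finset.mem_product.mpr ⟨Finset.mem_insert_self _ _, Finset.mem_univ _⟩, rfl⟩⟩
  obtain ⟨c, hcC, hcdiv⟩ := exists_dvd_all h _ hCne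
  obtain ⟨⟨ρ₀, i₀⟩, hmem, hρ⟩ := Finset.mem_image.mp hcC
  have hρ₀T : ρ₀ ∈ insert (0 : Fin (n + 1) → R) T := (Finset.mem_product.mp hmem).1
  have hρ₀c : ρ₀ i₀ = c := hρ
  have hρ₀K : ρ₀ ∈ LinearMap.ker (Fintype.linearCombination R g) := by
    rw [← hT']; exact Submodule.subset_span hρ₀T
  have hdivK : ∀ v ∈ LinearMap.ker (Fintype.linearCombination R g), ∀ i, c ∣ v i := by
    intro v hv
    rw [← hT'] at hv
    induction hv using Submodule.span_induction with
    | mem v hv =>
      intro i
      exact hcdiv _ (Finset.mem_image.mpr ⟨(v, i),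
        Finset.mem_product.mpr ⟨hv, Finset.mem_univ _⟩, rfl⟩)
    | zero => intro i; exact dvd_zero c
    | add v v' _ _ hv hv' => intro i; exact dvd_add (hv i) (hv' i)
    | smul r v _ hv => intro i; exact Dvd.dvd.mul_left (hv i) r
  have hw' : ∀ i, ∃ t, ρ₀ i = c * t := fun i => hdivK ρ₀ hρ₀K i
  choose w' hw' using hw'
  have hcw : c • Function.update w' i₀ 1 = ρ₀ := by
    funext i
    by_cases hi : i = i₀
    · subst hi
      rw [Pi.smul_apply, Function.update_self, smul_eq_mul, mul_one, hρ₀c]
    · rw [Pi.smul_apply, Function.update_of_ne hi, smul_eq_mul, ← hw']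
  have hwi₀ : Function.update w' i₀ 1 i₀ = 1 := Function.update_self _ _ _
  have hcy : c • Fintype.linearCombination R g (Function.update w' i₀ 1) = 0 := by
    rw [← map_smul, hcw]; exact hρ₀K
  have hann : ∀ r : R, r • Fintype.linearCombination R g (Function.update w' i₀ 1) = 0 ↔ c ∣ r := by
    intro r
    constructor
    · intro hr
      rw [← map_smul] at hr
      have h1 := hdivK _ hr i₀
      rwa [Pi.smul_apply, hwi₀, smul_eq_mul, mul_one] at h1
    · rintro ⟨t, rfl⟩
      rw [mul_comm, mul_smul, hcy, smul_zero]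
  refine ⟨c, Fintype.linearCombination R g (Function.update w' i₀ 1), i₀, hann, ?_⟩
  constructor
  · rw [Submodule.disjoint_def]
    intro x hx1 hx2
    obtain ⟨r, rfl⟩ := Submodule.mem_span_singleton.mp hx2
    obtain ⟨s, hs⟩ := (Submodule.mem_span_range_iff_exists_fun R).mp hx1
    have h1 : Fintype.linearCombination R g (i₀.insertNth (0 : R) s) =
        ∑ j, s j • g (i₀.succAbove j) := by
      rw [hπa, Fin.sum_univ_succAbove _ i₀, Fin.insertNth_apply_same, zero_smul, zero_add]
      refine Finset.sum_congr rfl fun j _ => ?_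
      rw [Fin.insertNth_apply_succAbove]
    have h2 : r • Function.update w' i₀ 1 - i₀.insertNth (0 : R) s ∈
        LinearMap.ker (Fintype.linearCombination R g) := by
      rw [LinearMap.mem_ker, map_sub, map_smul, h1, hs, sub_self]
    have h3 := hdivK _ h2 i₀
    rw [Pi.sub_apply, Pi.smul_apply, hwi₀, Fin.insertNth_apply_same, smul_eq_mul, mul_one,
      sub_zero] at h3
    exact (hann r).mpr h3
  · rw [codisjoint_iff, eq_top_iff, ← hg]
    apply Submodule.span_le.mpr
    rintro _ ⟨i, rfl⟩
    rcases Fin.eq_self_or_eq_succAbove i₀ i with rfl | ⟨j, rfl⟩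
    · have h1 : Fintype.linearCombination R g (Function.update w' i 1) =
          g i + ∑ j, Function.update w' i 1 (i.succAbove j) • g (i.succAbove j) := by
        rw [hπa, Fin.sum_univ_succAbove _ i, hwi₀, one_smul]
      have h2 : g i = Fintype.linearCombination R g (Function.update w' i 1) -
          ∑ j, Function.update w' i 1 (i.succAbove j) • g (i.succAbove j) := by
        rw [h1]; abel
      show g i ∈ _
      rw [h2]
      refine Submodule.sub_mem _ (Submodule.mem_sup_right (Submodule.mem_span_singleton_self _)) ?_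
      refine Submodule.mem_sup_left (Submodule.sum_mem _ fun j _ => ?_)
      exact Submodule.smul_mem _ _ (Submodule.subset_span ⟨j, rfl⟩)
    · exact Submodule.mem_sup_left (Submodule.subset_span ⟨j, rfl⟩)

theorem main (h : ∀ a b : R, a ∣ b ∨ b ∣ a) (n : ℕ) :
    ∀ (M : Type u) [AddCommGroup M] [Module R M] [Module.FinitePresentation R M]
      (g : Fin n → M), Submodule.span R (Set.range g) = ⊤ →
      ∃ (ι : Type) (_ : Fintype ι) (f : ι → R),
        Nonempty (M ≃ₗ[R] ((i : ι) → R ⧸ Ideal.span {f i})) := by
  induction n with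
  | zero =>
    intro M _ _ _ g hg
    have hz : ∀ x : M, x = 0 := by
      intro x
      have hx : x ∈ Submodule.span R (Set.range g) := by rw [hg]; trivial
      rw [Set.range_eq_empty g, Submodule.span_empty] at hx
      exact (Submodule.mem_bot R).mp hx
    have : Subsingleton M := ⟨fun a b => by rw [hz a, hz b]⟩
    exact ⟨Empty, inferInstance, fun e => e.elim, ⟨LinearEquiv.ofSubsingleton _ _⟩⟩
  | succ n ih =>
    intro M _ _ _ g hg
    obtain ⟨c, y, i₀, hann, hcompl⟩ := step h n M g hg
    have hfp : Module.FinitePresentation R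
        ↥(Submodule.span R (Set.range (fun j => g (i₀.succAbove j)))) := by
      refine Module.finitePresentation_of_surjective
        (Submodule.projectionOnto _ (Submodule.span R {y}) hcompl)
        (Submodule.projectionOnto_surjective hcompl) ?_
      rw [Submodule.ker_projectionOnto]
      exact Submodule.fg_span_singleton y
    have hg' : Submodule.span R (Set.range (fun j : Fin n =>
        (⟨g (i₀.succAbove j), Submodule.subset_span ⟨j, rfl⟩⟩ :
          ↥(Submodule.span R (Set.range (fun j => g (i₀.succAbove j))))))) = ⊤ := by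
      apply Submodule.map_injective_of_injective
        (Submodule.span R (Set.range (fun j => g (i₀.succAbove j)))).injective_subtype
      rw [Submodule.map_span, ← Set.range_comp, Submodule.map_subtype_top]
      rfl
    obtain ⟨ι, _, f, ⟨e⟩⟩ := ih _ _ hg'
    have hker : LinearMap.ker (LinearMap.toSpanSingleton R M y) = Ideal.span {c} := by
      ext r
      rw [LinearMap.mem_ker, LinearMap.toSpanSingleton_apply, hann, Ideal.mem_span_singleton]
    have hrange : Submodule.span R {y} = LinearMap.range (LinearMap.toSpanSingleton R M y) :=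
      LinearMap.span_singleton_eq_range R M y
    let e2 : ↥(Submodule.span R {y}) ≃ₗ[R] (R ⧸ Ideal.span {c}) :=
      (LinearEquiv.ofEq _ _ hrange) ≪≫ₗ
        (LinearMap.toSpanSingleton R M y).quotKerEquivRange.symm ≪≫ₗ
          Submodule.quotEquivOfEq _ _ hker
    refine ⟨ι ⊕ Unit, inferInstance, Sum.elim f (fun _ => c), ⟨?_⟩⟩
    exact (Submodule.prodEquivOfIsCompl _ _ hcompl).symm ≪≫ₗ
      (LinearEquiv.prodCongr e (e2 ≪≫ₗ (LinearEquiv.funUnique Unit R _).symm)) ≪≫ₗ
      (LinearEquiv.sumPiEquivProdPi R ι Unit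
        (fun st => R ⧸ Ideal.span {Sum.elim f (fun _ => c) st})).symm

end aux



/-- Let R be a nonzero ring such that for all a, b in R either a divides b or b divides a. Then each
finitely presented R-module decomposes as a direct sum of finitely many cyclic modules R/fR. -/
theorem result (R : Type u) [CommRing R] [Nontrivial R] (h : ∀ a b : R, a ∣ b ∨ b ∣ a)
    (M : Type u) [AddCommGroup M] [Module R M] [Module.FinitePresentation R M] :
    ∃ (n : ℕ) (f : Fin n → R), Nonempty (M ≃ₗ[R] ((i : Fin n) → R ⧸ Ideal.span {f i})) := by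
  obtain ⟨n, g, hg⟩ := Module.Finite.exists_fin (R := R) (M := M)
  obtain ⟨ι, _, f, ⟨e⟩⟩ := main h n M g hg
  exact ⟨Fintype.card ι, fun j => f ((Fintype.equivFin ι).symm j),
    ⟨e ≪≫ₗ LinearEquiv.piCongrLeft' R (fun i => R ⧸ Ideal.span {f i}) (Fintype.equivFin ι)⟩⟩


end Groth.Agent.S2015
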