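import Groth.Statements.S2016
import Mathlib
import Groth.Agent.S2015

set_option autoImplicit false
universe u
open EtAlg

namespace Groth.Agent.S2016

section aux
variable (R : Type u) [CommRing R] (M : Type u) [AddCommGroup M] [Module R M]

/-- `s • id_M` factors through a finite product of cyclic modules `R/(a)` -/
def Good (s : R) : Prop :=
  ∃ (ι : Type) (_ : Fintype ι) (a : ι → R) (φ : ((i : ι) → R ⧸ Ideal.span {a i}) →ₗ[R] M)
    (σ : M →ₗ[R] ((i : ι) → R ⧸ Ideal.span {a i})), φ ∘ₗ σ = s • LinearMap.id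

theorem good_zero : Good R M 0 :=
  ⟨Empty, inferInstance, fun e => e.elim, 0, 0, by rw [zero_smul, LinearMap.comp_zero]⟩

theorem good_smul (r s : R) (hs : Good R M s) : Good R M (r * s) := by
  obtain ⟨ι, _, a, φ, σ, h⟩ := hs
  exact ⟨ι, inferInstance, a, φ, r • σ, by rw [LinearMap.comp_smul, h, smul_smul]⟩

theorem good_add (s₁ s₂ : R) (h₁ : Good R M s₁) (h₂ : Good R M s₂) : Good R M (s₁ + s₂) := by
  obtain ⟨ι₁, _, a₁, φ₁, σ₁, h₁⟩ := h₁
  obtain ⟨ι₂, _, a₂, φ₂, σ₂, h₂⟩ := h₂
  refine ⟨ι₁ ⊕ ι₂, inferInstance, Sum.elim a₁ a₂,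
    (φ₁.coprod φ₂) ∘ₗ (LinearEquiv.sumPiEquivProdPi R ι₁ ι₂
      (fun st => R ⧸ Ideal.span {Sum.elim a₁ a₂ st})).toLinearMap,
    (LinearEquiv.sumPiEquivProdPi R ι₁ ι₂
      (fun st => R ⧸ Ideal.span {Sum.elim a₁ a₂ st})).symm.toLinearMap ∘ₗ (σ₁.prod σ₂), ?_⟩
  apply LinearMap.ext
  intro x
  have e1 : φ₁ (σ₁ x) = s₁ • x := LinearMap.congr_fun h₁ x
  have e2 : φ₂ (σ₂ x) = s₂ • x := LinearMap.congr_fun h₂ x
  show (φ₁.coprod φ₂) ((LinearEquiv.sumPiEquivProdPi R ι₁ ι₂
      (fun st => R ⧸ Ideal.span {Sum.elim a₁ a₂ st}))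
    ((LinearEquiv.sumPiEquivProdPi R ι₁ ι₂
      (fun st => R ⧸ Ideal.span {Sum.elim a₁ a₂ st})).symm (σ₁ x, σ₂ x))) = (s₁ + s₂) • x
  rw [LinearEquiv.apply_symm_apply, LinearMap.coprod_apply, e1, e2, add_smul]

theorem exists_split (hgood : Good R M 1) :
    ∃ (n : ℕ) (f : Fin n → R) (N : Type u) (_ : AddCommGroup N) (_ : Module R N),
      Nonempty ((M × N) ≃ₗ[R] ((i : Fin n) → R ⧸ Ideal.span {f i})) := by
  obtain ⟨ι, _, a, φ, σ, h⟩ := hgood
  rw [one_smul] at h
  have hφσ : ∀ x, φ (σ x) = x := fun x => LinearMap.congr_fun h x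
  let g₂ : ((i : ι) → R ⧸ Ideal.span {a i}) →ₗ[R] LinearMap.ker φ :=
    LinearMap.codRestrict (LinearMap.ker φ) (LinearMap.id - σ ∘ₗ φ) (fun y => by
      rw [LinearMap.mem_ker, LinearMap.sub_apply, map_sub, LinearMap.id_apply,
        LinearMap.comp_apply, hφσ, sub_self])
  have hg₂ : ∀ y, ((g₂ y : LinearMap.ker φ) : (i : ι) → R ⧸ Ideal.span {a i}) = y - σ (φ y) :=
    fun y => rfl
  let E : (M × LinearMap.ker φ) ≃ₗ[R] ((i : ι) → R ⧸ Ideal.span {a i}) :=
    LinearEquiv.ofLinearMap (σ.coprod (LinearMap.ker φ).subtype) (φ.prod g₂)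
      (by
        apply LinearMap.ext
        intro y
        show σ (φ y) + ((g₂ y : LinearMap.ker φ) : (i : ι) → R ⧸ Ideal.span {a i}) = y
        rw [hg₂]
        abel)
      (by
        apply LinearMap.ext
        rintro ⟨x, k⟩
        have hk : φ (k : (i : ι) → R ⧸ Ideal.span {a i}) = 0 := LinearMap.mem_ker.mp k.2
        have h1 : φ (σ x + (k : (i : ι) → R ⧸ Ideal.span {a i})) = x := by
          rw [map_add, hφσ, hk, add_zero]
        show (φ (σ x + (k : (i : ι) → R ⧸ Ideal.span {a i})),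
          g₂ (σ x + (k : (i : ι) → R ⧸ Ideal.span {a i}))) = (x, k)
        refine Prod.ext h1 (Subtype.ext ?_)
        show ((g₂ (σ x + (k : (i : ι) → R ⧸ Ideal.span {a i})) : LinearMap.ker φ) :
          (i : ι) → R ⧸ Ideal.span {a i}) = k
        rw [hg₂, h1]
        abel)
  exact ⟨Fintype.card ι, fun j => a ((Fintype.equivFin ι).symm j), LinearMap.ker φ, inferInstance,
    inferInstance,
    ⟨E ≪≫ₗ LinearEquiv.piCongrLeft' R (fun i => R ⧸ Ideal.span {a i}) (Fintype.equivFin ι)⟩⟩

theorem stepA (h : ∀ (m : Ideal R) [m.IsMaximal], ∀ a b : Localization.AtPrime m, a ∣ b ∨ b ∣ a)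
    [Module.FinitePresentation R M] (m : Ideal R) [hm : m.IsMaximal] :
    ∃ s : R, s ∉ m ∧ Good R M s := by
  classical
  obtain ⟨n, F, ⟨e⟩⟩ := Groth.Agent.S2015.result (Localization.AtPrime m) (h m)
    (LocalizedModule m.primeCompl M)
  have hF : ∀ i, ∃ (a : R) (t : m.primeCompl),
      IsLocalization.mk' (Localization.AtPrime m) a t = F i := by
    intro i
    obtain ⟨⟨a, t⟩, hat⟩ := IsLocalization.mk'_surjective m.primeCompl (F i)
    exact ⟨a, t, hat⟩
  choose a t hat using hF
  have h1 : ∀ i, Ideal.span {F i} = (Ideal.span {a i}).localized' (Localization.AtPrime m)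
      m.primeCompl (Algebra.linearMap R (Localization.AtPrime m)) := by
    intro i
    rw [show (Ideal.span {a i} : Submodule R R) = Submodule.span R {a i} from rfl,
      Submodule.localized'_span, Set.image_singleton, Algebra.linearMap_apply]
    show Ideal.span {F i} = Ideal.span {algebraMap R (Localization.AtPrime m) (a i)}
    apply le_antisymm
    · apply (Ideal.span_singleton_le_span_singleton).mpr
      exact ⟨IsLocalization.mk' _ 1 (t i), by rw [← hat i, IsLocalization.mk'_eq_mul_mk'_one]⟩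
    · apply (Ideal.span_singleton_le_span_singleton).mpr
      exact ⟨algebraMap R _ (t i), by rw [← hat i, IsLocalization.mk'_spec]⟩
  have : ∀ i, Module.FinitePresentation R (R ⧸ Ideal.span {a i}) := fun i =>
    Module.finitePresentation_of_surjective (Submodule.mkQ (Ideal.span {a i}))
      (Submodule.mkQ_surjective _)
      (by rw [Submodule.ker_mkQ]; exact Submodule.fg_span_singleton _)
  let ℓN : ((i : Fin n) → R ⧸ Ideal.span {a i}) →ₗ[R]
      ((i : Fin n) → Localization.AtPrime m ⧸ (Ideal.span {a i}).localized'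
        (Localization.AtPrime m) m.primeCompl (Algebra.linearMap R (Localization.AtPrime m))) :=
    LinearMap.pi fun i => ((Ideal.span {a i}).toLocalizedQuotient' (Localization.AtPrime m)
      m.primeCompl (Algebra.linearMap R (Localization.AtPrime m))) ∘ₗ LinearMap.proj i
  have : IsLocalizedModule m.primeCompl ℓN := IsLocalizedModule.pi m.primeCompl _
  let e' : LocalizedModule m.primeCompl M ≃ₗ[Localization.AtPrime m]
      ((i : Fin n) → Localization.AtPrime m ⧸ (Ideal.span {a i}).localized'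
        (Localization.AtPrime m) m.primeCompl (Algebra.linearMap R (Localization.AtPrime m))) :=
    e ≪≫ₗ LinearEquiv.piCongrRight (fun i => Submodule.quotEquivOfEq _ _ (h1 i))
  obtain ⟨σ, s₁, hσ⟩ := Module.FinitePresentation.exists_lift_of_isLocalizedModule m.primeCompl ℓN
    ((e'.restrictScalars R).toLinearMap ∘ₗ LocalizedModule.mkLinearMap m.primeCompl M)
  obtain ⟨φ, s₂, hφ⟩ := Module.FinitePresentation.exists_lift_of_isLocalizedModule m.primeCompl
    (LocalizedModule.mkLinearMap m.primeCompl M)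
    ((e'.symm.restrictScalars R).toLinearMap ∘ₗ ℓN)
  have hclaim : (LocalizedModule.mkLinearMap m.primeCompl M) ∘ₗ (φ ∘ₗ σ) =
      (LocalizedModule.mkLinearMap m.primeCompl M) ∘ₗ
        (((s₂ : R) * (s₁ : R)) • (LinearMap.id : M →ₗ[R] M)) := by
    apply LinearMap.ext
    intro x
    have e1 : LocalizedModule.mkLinearMap m.primeCompl M (φ (σ x)) =
        (s₂ : R) • e'.symm (ℓN (σ x)) := LinearMap.congr_fun hφ (σ x)
    have e2 : ℓN (σ x) = (s₁ : R) • e' (LocalizedModule.mkLinearMap m.primeCompl M x) :=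
      LinearMap.congr_fun hσ x
    show LocalizedModule.mkLinearMap m.primeCompl M (φ (σ x)) =
      LocalizedModule.mkLinearMap m.primeCompl M (((s₂ : R) * (s₁ : R)) • x)
    have e3 : ∀ y, e'.symm ((s₁ : R) • y) = (s₁ : R) • e'.symm y := fun y =>
      (e'.symm.restrictScalars R).map_smul (s₁ : R) y
    rw [e1, e2, e3, LinearEquiv.symm_apply_apply, mul_smul, map_smul, map_smul]
  obtain ⟨s₃, h3⟩ := Module.Finite.exists_smul_of_comp_eq_of_isLocalizedModule m.primeCompl
    (LocalizedModule.mkLinearMap m.primeCompl M) (φ ∘ₗ σ)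
    (((s₂ : R) * (s₁ : R)) • (LinearMap.id : M →ₗ[R] M)) hclaim
  refine ⟨(s₃ : R) * ((s₂ : R) * (s₁ : R)), (s₃ * (s₂ * s₁)).2, Fin n, inferInstance, a, φ,
    (s₃ : R) • σ, ?_⟩
  rw [LinearMap.comp_smul, ← smul_smul]
  exact h3

end aux



/-- Let R be a ring such that for every maximal ideal m and all a, b in R_m, either a divides b or b
divides a in R_m. Then each finitely presented R-module is a direct summand of a direct sum of
finitely many cyclic modules R/fR. -/
theorem result (R : Type u) [CommRing R]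
    (h : ∀ (m : Ideal R) [m.IsMaximal], ∀ a b : Localization.AtPrime m, a ∣ b ∨ b ∣ a)
    (M : Type u) [AddCommGroup M] [Module R M] [Module.FinitePresentation R M] :
    ∃ (n : ℕ) (f : Fin n → R) (N : Type u) (_ : AddCommGroup N) (_ : Module R N),
      Nonempty ((M × N) ≃ₗ[R] ((i : Fin n) → R ⧸ Ideal.span {f i})) := by
  let I : Ideal R :=
    { carrier := {s | Good R M s}
      zero_mem' := good_zero R M
      add_mem' := fun {x y} hx hy => good_add R M x y hx hy
      smul_mem' := fun c {x} hx => by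
        show Good R M (c • x)
        rw [smul_eq_mul]
        exact good_smul R M c x hx }
  have htop : I = ⊤ := by
    by_contra hne
    obtain ⟨m, hm, hle⟩ := Ideal.exists_le_maximal I hne
    obtain ⟨s, hsm, hs⟩ := stepA R M h m
    exact hsm (hle hs)
  have h1 : Good R M 1 := by
    have h2 : (1 : R) ∈ I := by rw [htop]; trivial
    exact h2
  exact exists_split R M h1


end Groth.Agent.S2016
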