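import Groth.Statements.S2017
import Mathlib

set_option autoImplicit false
universe u
open EtAlg

namespace Groth.Agent.S2017

/-- Let R be a Noetherian ring, A, B, C R-algebras of finite type, f : A -> B a surjective R-algebra map
and g : C -> B an R-algebra map making B a finite C-module. Then the fibre product A ×_B C (the
equalizer of f ∘ pr₁ and g ∘ pr₂ in A × C) is an R-algebra of finite type. -/
theorem result (R A B C : Type u) [CommRing R] [IsNoetherianRing R] [CommRing A] [CommRing B]
    [CommRing C] [Algebra R A] [Algebra R B] [Algebra R C] [Algebra.FiniteType R A] [Algebra.FiniteType R B]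
    [Algebra.FiniteType R C] (f : A →ₐ[R] B) (hf : Function.Surjective f) (g : C →ₐ[R] B)
    (hg : (g.toRingHom).Finite) :
    Algebra.FiniteType R ↥(AlgHom.equalizer (f.comp (AlgHom.fst R A C)) (g.comp (AlgHom.snd R A C))) := by
  classical
  set P := AlgHom.equalizer (f.comp (AlgHom.fst R A C)) (g.comp (AlgHom.snd R A C)) with hP
  have hmem : ∀ x : A × C, x ∈ P ↔ f x.1 = g x.2 := fun x => Iff.rfl
  -- finiteness of B over C
  let algCB : Algebra C B := g.toRingHom.toAlgebra
  have hfinCB : Module.Finite C B := hg
  obtain ⟨s, hs⟩ := Module.finite_def.1 hfinCB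
  have hsmul : ∀ (c : C) (b : B), c • b = g c * b := fun c b => rfl
  choose lift hlift using hf
  let S : Set (A × C) := {((1 : A), (0 : C)), ((0 : A), (1 : C))} ∪ (fun b => (lift b, (0 : C))) '' (s : Set B)
  have hSfin : S.Finite := (Set.toFinite _).union ((Finset.finite_toSet s).image _)
  let N : Submodule P (A × C) := Submodule.span P S
  have h10 : ((1 : A), (0 : C)) ∈ N := Submodule.subset_span (Or.inl (Or.inl rfl))
  have h01 : ((0 : A), (1 : C)) ∈ N := Submodule.subset_span (Or.inl (Or.inr rfl))
  have hker : ∀ a : A, f a = 0 → (a, (0 : C)) ∈ N := by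
    intro a ha
    have hp : (a, (0 : C)) ∈ P := by rw [hmem]; simpa using ha
    have : (a, (0 : C)) = (⟨(a, (0 : C)), hp⟩ : P) • ((1 : A), (0 : C)) := by
      ext <;> simp [Subalgebra.smul_def]
    rw [this]
    exact N.smul_mem _ h10
  have hQ : ∀ b : B, ∀ a : A, f a = b → (a, (0 : C)) ∈ N := by
    intro b
    have hb : b ∈ Submodule.span C (s : Set B) := by rw [hs]; trivial
    induction hb using Submodule.span_induction with
    | mem b hb =>
      intro a ha
      have h1 : (lift b, (0 : C)) ∈ N := Submodule.subset_span (Or.inr ⟨b, hb, rfl⟩)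
      have h2 : (a - lift b, (0 : C)) ∈ N := hker _ (by rw [map_sub, ha, hlift, sub_self])
      have : (a, (0 : C)) = (lift b, (0 : C)) + (a - lift b, (0 : C)) := by ext <;> simp
      rw [this]; exact N.add_mem h1 h2
    | zero => intro a ha; exact hker a ha
    | add b₁ b₂ _ _ h₁ h₂ =>
      intro a ha
      have h1 := h₁ (lift b₁) (hlift b₁)
      have h2 := h₂ (a - lift b₁) (by rw [map_sub, ha, hlift]; abel)
      have : (a, (0 : C)) = (lift b₁, (0 : C)) + (a - lift b₁, (0 : C)) := by ext <;> simp
      rw [this]; exact N.add_mem h1 h2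
    | smul c b _ h =>
      intro a ha
      have h0 := h (lift b) (hlift b)
      have hp : (lift (g c), c) ∈ P := by rw [hmem]; exact hlift _
      have h1 : (lift (g c) * lift b, (0 : C)) ∈ N := by
        have : (lift (g c) * lift b, (0 : C)) = (⟨(lift (g c), c), hp⟩ : P) • (lift b, (0 : C)) := by
          ext <;> simp [Subalgebra.smul_def]
        rw [this]; exact N.smul_mem _ h0
      have h2 : (a - lift (g c) * lift b, (0 : C)) ∈ N :=
        hker _ (by rw [map_sub, map_mul, ha, hlift, hlift, hsmul, sub_self])
      have : (a, (0 : C)) = (lift (g c) * lift b, (0 : C)) + (a - lift (g c) * lift b, (0 : C)) := by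
        ext <;> simp
      rw [this]; exact N.add_mem h1 h2
  have hNtop : N = ⊤ := by
    rw [eq_top_iff]
    rintro ⟨a, c⟩ -
    have h1 : (a, (0 : C)) ∈ N := hQ (f a) a rfl
    have hp : (lift (g c), c) ∈ P := by rw [hmem]; exact hlift _
    have h2 : ((0 : A), c) ∈ N := by
      have : ((0 : A), c) = (⟨(lift (g c), c), hp⟩ : P) • ((0 : A), (1 : C)) := by
        ext <;> simp [Subalgebra.smul_def]
      rw [this]; exact N.smul_mem _ h01
    have : (a, c) = (a, (0 : C)) + ((0 : A), c) := by ext <;> simp
    rw [this]; exact N.add_mem h1 h2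
  have hfg : (⊤ : Submodule P (A × C)).FG := by
    rw [← hNtop]
    exact ⟨hSfin.toFinset, by simp [N]⟩
  have hAC : (⊤ : Subalgebra R (A × C)).FG := Algebra.FiniteType.out
  exact ⟨fg_of_fg_of_fg (A := R) (B := P) (C := A × C) hAC hfg Subtype.val_injective⟩

end Groth.Agent.S2017
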