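import Groth.Statements.S2018
import Mathlib

set_option autoImplicit false
universe u
open EtAlg

namespace Groth.Agent.S2018

/-- Let g : A' -> A be a surjective ring map and f : B -> A an integral ring map. Then the projection
from the fibre product B ×_A A' (the equalizer of f ∘ pr₁ and g ∘ pr₂ in B × A') to A' is integral. -/
theorem result (A A' B : Type u) [CommRing A] [CommRing A'] [CommRing B] (g : A' →+* A)
    (hg : Function.Surjective g) (f : B →+* A) (hf : f.IsIntegral) :
    ((RingHom.snd B A').comp ((f.comp (RingHom.fst B A')).eqLocus (g.comp (RingHom.snd B A'))).subtype).IsIntegral := by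
  classical
  set P := (f.comp (RingHom.fst B A')).eqLocus (g.comp (RingHom.snd B A')) with hP
  set h : P →+* A' := (RingHom.snd B A').comp P.subtype with hh
  set π₁ : P →+* B := (RingHom.fst B A').comp P.subtype with hπ₁
  have hcomm : g.comp h = f.comp π₁ := by
    ext ⟨x, hx⟩
    exact hx.symm
  have hπ₁surj : Function.Surjective π₁ := by
    intro b
    obtain ⟨a'', ha''⟩ := hg (f b)
    exact ⟨⟨(b, a''), ha''.symm⟩, rfl⟩
  intro a'
  obtain ⟨p, hpm, hp0⟩ := hf (g a')
  obtain ⟨Q₀, hQ₀map, -, hQ₀m⟩ := Polynomial.lifts_and_natDegree_eq_and_monic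
    (f := π₁) (p := p) (by
      rw [Polynomial.lifts_iff_coeff_lifts]
      intro n
      exact hπ₁surj _) hpm
  set k : A' := Polynomial.eval₂ h a' Q₀ with hk
  have hk0 : g k = 0 := by
    rw [hk, Polynomial.hom_eval₂, hcomm, ← Polynomial.eval₂_map, hQ₀map, hp0]
  have hmem : ((0 : B), k * a') ∈ P := by
    change f 0 = g (k * a')
    rw [map_zero, map_mul, hk0, zero_mul]
  rcases subsingleton_or_nontrivial P with hsub | hnt
  · refine ⟨1, Polynomial.monic_one, ?_⟩
    have : (1 : P) = 0 := Subsingleton.elim _ _
    have h1 : (1 : A') = 0 := by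
      rw [← map_one h, this, map_zero]
    have : Subsingleton A' := subsingleton_of_zero_eq_one h1.symm
    exact Subsingleton.elim _ _
  · refine ⟨Q₀ * Polynomial.X - Polynomial.C ⟨((0 : B), k * a'), hmem⟩, ?_, ?_⟩
    · apply Polynomial.Monic.sub_of_left (hQ₀m.mul Polynomial.monic_X)
      rw [Polynomial.degree_mul_X]
      refine lt_of_le_of_lt Polynomial.degree_C_le ?_
      have : (0 : WithBot ℕ) ≤ Q₀.degree := by
        rw [Polynomial.zero_le_degree_iff]
        exact hQ₀m.ne_zero
      have h01 : (0 : WithBot ℕ) < 0 + 1 := by decide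
      exact lt_of_lt_of_le h01 (add_le_add_left this 1)
    · rw [Polynomial.eval₂_sub, Polynomial.eval₂_mul, Polynomial.eval₂_X, Polynomial.eval₂_C]
      change k * a' - k * a' = 0
      exact sub_self _

end Groth.Agent.S2018
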