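import Groth.Statements.S2032
import Groth.Agent.Lib.Helper7.SmoothingStd

set_option autoImplicit false
universe u
open Smoothing

namespace Groth.Agent.S2032


open Groth.Agent.Lib.helper7

/-- For a finitely presented `R`-algebra `A` and `a ∈ A`, if `a` is elementary standard then `A_a` is
standard smooth over `R`. (Part (f), the converse for large powers of `a`, is not stated: as
published it fails, for example for the nodal cubic `A = {g ∈ ℚ[u] : g(0) = g(1)}` and `a =
u(u-1)`.) -/
theorem result {R A : Type u} [CommRing R] [CommRing A]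
    [Algebra R A] [Algebra.FinitePresentation R A] (a : A)
    (ha : Smoothing.IsElementaryStandard R A a) : Algebra.IsStandardSmooth R (Localization.Away a) := by
  classical
  obtain ⟨P, ⟨a', ha'⟩, hkt⟩ := ha
  obtain ⟨at', hat⟩ := P.surj a
  have hker : RingHom.ker P.hom.toRingHom = Ideal.span (Set.range P.rel) := P.ker_eq
  have hrel : ∀ j, P.hom (P.rel j) = 0 := by
    intro j
    have : P.rel j ∈ RingHom.ker P.hom.toRingHom := by
      rw [hker]
      exact Ideal.subset_span ⟨j, rfl⟩
    exact this
  refine SmoothingStd.isStandardSmooth_away P.hcn (fun j => P.rel (Fin.castLE P.hcm j)) P.hom P.surj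
    (fun j => hrel _) a a' at' hat ha' ?_ ?_
  · rw [hker]
    exact Submodule.fg_span (Set.finite_range _)
  · intro x hx
    rw [hker] at hx ⊢
    have hsub : Ideal.span (P.rel '' {j' : Fin P.m | (j' : ℕ) < P.c}) ≤
        Ideal.span (Set.range fun j : Fin P.c => P.rel (Fin.castLE P.hcm j)) := by
      apply Ideal.span_mono
      rintro _ ⟨j', hj', rfl⟩
      exact ⟨⟨j', hj'⟩, rfl⟩
    induction hx using Submodule.span_induction with
    | mem y hy =>
      obtain ⟨j, rfl⟩ := hy
      by_cases hj : (j : ℕ) < P.c
      · apply Submodule.mem_sup_left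
        apply Ideal.mul_mem_left
        exact Ideal.subset_span ⟨⟨j, hj⟩, rfl⟩
      · have := hkt at' hat j (not_lt.mp hj)
        exact (sup_le_sup_right hsub _) this
    | zero => rw [mul_zero]; exact Submodule.zero_mem _
    | add y z _ _ hy hz => rw [mul_add]; exact Submodule.add_mem _ hy hz
    | smul r y _ hy =>
      rw [smul_eq_mul, mul_left_comm]
      exact Ideal.mul_mem_left _ _ hy

end Groth.Agent.S2032
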