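import Groth.Statements.S2040
import Groth.Agent.Lib.Helper24.FSFlat3
import Groth.Agent.Lib.Helper24.FSReg
import Groth.Agent.Lib.Helper24.CohenFlat6
import Groth.Agent.Lib.Helper24.CplCofinal

set_option autoImplicit false
universe u
open CAlg
open scoped TensorProduct

namespace Groth.Agent.S2040

/-- For a complete Noetherian local ring `A` with residue field `k`, and a complete Noetherian local
`k`-algebra `B` which is formally smooth over `k` for the adic topology of its maximal ideal, there
is a Noetherian complete local ring `C` with a local homomorphism `A → C`, formally smooth for the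
adic topology of the maximal ideal of `C`, whose special fibre `C ⊗ k` is isomorphic to `B` over
`k`. -/
theorem result {A B : Type u} [CommRing A] [IsLocalRing A]
    [IsNoetherianRing A] [IsAdicComplete (IsLocalRing.maximalIdeal A) A] [CommRing B] [IsLocalRing B]
    [IsNoetherianRing B] [IsAdicComplete (IsLocalRing.maximalIdeal B) B]
    [Algebra (IsLocalRing.maximalIdeal A).ResidueField B]
    (hB : CAlgX.IsAdicFormallySmooth (IsLocalRing.maximalIdeal A).ResidueField B (IsLocalRing.maximalIdeal B)) :
    ∃ (C : Type u) (_ : CommRing C) (_ : IsLocalRing C) (_ : Algebra A C),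
      IsNoetherianRing C ∧ IsAdicComplete (IsLocalRing.maximalIdeal C) C ∧ IsLocalHom (algebraMap A C) ∧
        CAlgX.IsAdicFormallySmooth A C (IsLocalRing.maximalIdeal C) ∧
        Nonempty ((IsLocalRing.maximalIdeal A).Fiber C ≃ₐ[(IsLocalRing.maximalIdeal A).ResidueField] B) := by
  classical
  haveI hreg : IsRegularLocalRing B :=
    Groth.Agent.Lib.Helper24.FSReg.isRegularLocalRing_of_fs _ B hB
  let r₀ : IsLocalRing.ResidueField A ≃ₐ[A] (IsLocalRing.maximalIdeal A).ResidueField :=
    Groth.Agent.Lib.Helper24.CplCofinal.resEquiv A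
  letI algRB : Algebra (IsLocalRing.ResidueField A) B :=
    ((algebraMap (IsLocalRing.maximalIdeal A).ResidueField B).comp
      (r₀ : IsLocalRing.ResidueField A →+* _)).toAlgebra
  have halg : ∀ x : IsLocalRing.ResidueField A, algebraMap (IsLocalRing.ResidueField A) B x =
      algebraMap (IsLocalRing.maximalIdeal A).ResidueField B (r₀ x) := fun x => rfl
  obtain ⟨C, _, _, _, _, _, hcompl, hflat, ⟨e⟩⟩ :=
    Groth.Agent.Lib.Helper24.CohenFlat.exists_flat_lift_noeth (A := A) B
  let t₁ : (IsLocalRing.maximalIdeal A).ResidueField ⊗[A] C ≃ₐ[A]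
      (IsLocalRing.ResidueField A) ⊗[A] C :=
    Algebra.TensorProduct.congr r₀.symm AlgEquiv.refl
  let θ : (IsLocalRing.maximalIdeal A).ResidueField ⊗[A] C ≃+* B :=
    t₁.toRingEquiv.trans e.toRingEquiv
  have hθ : ∀ c : (IsLocalRing.maximalIdeal A).ResidueField,
      θ (algebraMap _ ((IsLocalRing.maximalIdeal A).ResidueField ⊗[A] C) c) = algebraMap _ B c := by
    intro c
    rw [Algebra.TensorProduct.algebraMap_apply, Algebra.algebraMap_self_apply]
    show e (t₁ (c ⊗ₜ[A] (1 : C))) = _
    have h1 : t₁ (c ⊗ₜ[A] (1 : C)) = (r₀.symm c) ⊗ₜ[A] (1 : C) := rfl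
    have h2 : (r₀.symm c) ⊗ₜ[A] (1 : C) =
        algebraMap (IsLocalRing.ResidueField A) ((IsLocalRing.ResidueField A) ⊗[A] C) (r₀.symm c) := by
      rw [Algebra.TensorProduct.algebraMap_apply, Algebra.algebraMap_self_apply]
    rw [h1, h2, e.commutes, halg, AlgEquiv.apply_symm_apply]
  let ε : (IsLocalRing.maximalIdeal A).Fiber C ≃ₐ[(IsLocalRing.maximalIdeal A).ResidueField] B :=
    AlgEquiv.ofRingEquiv (f := θ) hθ
  refine ⟨C, inferInstance, inferInstance, inferInstance, inferInstance, hcompl, inferInstance, ?_,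
    ⟨ε⟩⟩
  -- formal smoothness
  let ρ : C →+* B := θ.toRingHom.comp (Groth.Agent.Lib.Helper24.CplCofinal.fibreMap A C)
  have hρ : Function.Surjective ρ :=
    θ.surjective.comp (Groth.Agent.Lib.Helper24.CplCofinal.fibreMap_surjective A C)
  have hker : RingHom.ker ρ = (IsLocalRing.maximalIdeal A).map (algebraMap A C) := by
    rw [← Groth.Agent.Lib.Helper24.CplCofinal.ker_fibreMap A C]
    exact RingHom.ker_equiv_comp _ θ
  have hmap : (IsLocalRing.maximalIdeal C).map ρ = IsLocalRing.maximalIdeal B :=
    IsLocalRing.map_maximalIdeal_of_surjective ρ hρ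
  refine Groth.Agent.Lib.Helper24.FSFlat.isAdicFormallySmooth_of_flat (IsLocalRing.maximalIdeal A)
    (IsLocalRing.maximalIdeal C) (algebraMap A (IsLocalRing.maximalIdeal A).ResidueField) ρ ?_
    (Ideal.algebraMap_residueField_surjective _) ?_ hρ hker ?_ (by rw [hmap]; exact hB)
  · exact ((IsLocalRing.local_hom_TFAE (algebraMap A C)).out 0 2).1 ‹IsLocalHom (algebraMap A C)›
  · intro a ha
    exact (Ideal.algebraMap_residueField_eq_zero).1 ((RingHom.mem_ker).1 ha)
  · apply RingHom.ext
    intro a
    show θ ((1 : (IsLocalRing.maximalIdeal A).ResidueField) ⊗ₜ[A] (algebraMap A C a)) = _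
    rw [RingHom.comp_apply, ← hθ, Algebra.TensorProduct.algebraMap_apply,
      Algebra.algebraMap_self_apply, Algebra.algebraMap_eq_smul_one (A := C),
      TensorProduct.tmul_smul, TensorProduct.smul_tmul', Algebra.smul_def, mul_one]

end Groth.Agent.S2040
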