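import Groth.Statements.S2043
import Mathlib
import Groth.Agent.S2025
import Groth.Agent.S0536

set_option autoImplicit false
universe u
open CAlg

namespace Groth.Agent.S2043

section aux
open TensorProduct Pointwise


theorem exists_elem_section {A A₁ : Type u} [CommRing A] [CommRing A₁] [Algebra A A₁]
    [Algebra.FiniteType A A₁] [Algebra.FormallyUnramified A A₁] (I : Ideal A)
    (σ₁ : A₁ →ₐ[A] A ⧸ I) :
    ∃ h : A₁, σ₁ h = 1 ∧ ∀ y, σ₁ y = 0 → h * y ∈ I.map (algebraMap A A₁) := by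
  classical
  set J₁ : Ideal A₁ := RingHom.ker σ₁.toRingHom with hJ₁
  set IA : Ideal A₁ := I.map (algebraMap A A₁) with hIAdef
  have hmemJ : ∀ y, y ∈ J₁ ↔ σ₁ y = 0 := fun y => Iff.rfl
  have hσalg : ∀ a : A, σ₁ (algebraMap A A₁ a) = Ideal.Quotient.mk I a := fun a => σ₁.commutes a
  have hlift : ∀ y : A₁, ∃ a : A, σ₁ y = Ideal.Quotient.mk I a := fun y =>
    (Ideal.Quotient.mk_surjective (σ₁ y)).imp fun a h => h.symm
  have hIA : IA ≤ J₁ := by
    rw [hIAdef, Ideal.map_le_iff_le_comap]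
    intro a ha
    rw [Ideal.mem_comap, hmemJ, hσalg]
    exact Ideal.Quotient.eq_zero_iff_mem.mpr ha
  -- Claim: J₁ ≤ IA ⊔ J₁²
  have hclaim : J₁ ≤ IA ⊔ J₁ ^ 2 := by
    set K : Ideal A₁ := IA ⊔ J₁ ^ 2 with hK
    let f₁ : A₁ →ₐ[A] A₁ ⧸ K := Ideal.Quotient.mkₐ A K
    let ι : A ⧸ I →ₐ[A] A₁ ⧸ K := Ideal.Quotient.liftₐ I (Algebra.ofId A (A₁ ⧸ K)) (by
      intro a ha
      change algebraMap A (A₁ ⧸ K) a = 0
      rw [IsScalarTower.algebraMap_apply A A₁ (A₁ ⧸ K), Ideal.Quotient.algebraMap_eq,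
        Ideal.Quotient.eq_zero_iff_mem]
      exact le_sup_left (α := Ideal A₁) (Ideal.mem_map_of_mem _ ha))
    let f₂ : A₁ →ₐ[A] A₁ ⧸ K := ι.comp σ₁
    have hnil : IsNilpotent (J₁.map (Ideal.Quotient.mk K)) := by
      refine ⟨2, ?_⟩
      rw [← Ideal.map_pow, Ideal.zero_eq_bot, Ideal.map_eq_bot_iff_le_ker, Ideal.mk_ker]
      exact le_sup_right
    have hf : f₁ = f₂ := by
      refine Algebra.FormallyUnramified.ext (J₁.map (Ideal.Quotient.mk K)) hnil (fun y => ?_)
      obtain ⟨a, ha⟩ := hlift y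
      have h2 : f₂ y = f₁ (algebraMap A A₁ a) := by
        change ι (σ₁ y) = _
        rw [ha]
        change ι (Ideal.Quotient.mkₐ A I a) = _
        rw [Ideal.Quotient.liftₐ_apply]
        simp only [Ideal.Quotient.mkₐ_eq_mk, Ideal.Quotient.lift_mk]
        change algebraMap A (A₁ ⧸ K) a = _
        rw [f₁.commutes]
      rw [h2, Ideal.Quotient.eq, ← map_sub]
      apply Ideal.mem_map_of_mem
      rw [hmemJ, map_sub, ha, hσalg, sub_self]
    intro y hy
    have h1 : f₁ y = f₂ y := congr($hf y)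
    have h2 : f₂ y = 0 := by
      change ι (σ₁ y) = 0
      rw [(hmemJ y).mp hy, map_zero]
    exact Ideal.Quotient.eq_zero_iff_mem.mp (h1.trans h2)
  -- a finitely generated `J'` with `J₁ = J' ⊔ IA`
  obtain ⟨s, hs⟩ := Algebra.FiniteType.out (R := A) (A := A₁)
  choose a ha using hlift
  set J' : Ideal A₁ := Ideal.span ((fun x => x - algebraMap A A₁ (a x)) '' (s : Set A₁)) with hJ'
  have hJ'fg : J'.FG := Submodule.fg_span ((Finset.finite_toSet s).image _)
  have hJ'le : J' ≤ J₁ := by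
    rw [hJ', Ideal.span_le]
    rintro _ ⟨x, -, rfl⟩
    change _ ∈ J₁
    rw [hmemJ, map_sub, ha, hσalg, sub_self]
  have hall : ∀ y : A₁, ∃ c : A, y - algebraMap A A₁ c ∈ J' := by
    intro y
    have hy : y ∈ Algebra.adjoin A (s : Set A₁) := hs ▸ trivial
    induction hy using Algebra.adjoin_induction with
    | mem x hx => exact ⟨a x, Ideal.subset_span ⟨x, hx, rfl⟩⟩
    | algebraMap r => exact ⟨r, by simp⟩
    | add x y _ _ hx hy =>
      obtain ⟨c, hc⟩ := hx
      obtain ⟨d, hd⟩ := hy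
      refine ⟨c + d, ?_⟩
      have : x + y - algebraMap A A₁ (c + d) =
          (x - algebraMap A A₁ c) + (y - algebraMap A A₁ d) := by rw [map_add]; ring
      rw [this]; exact add_mem hc hd
    | mul x y _ _ hx hy =>
      obtain ⟨c, hc⟩ := hx
      obtain ⟨d, hd⟩ := hy
      refine ⟨c * d, ?_⟩
      have : x * y - algebraMap A A₁ (c * d) =
          x * (y - algebraMap A A₁ d) + algebraMap A A₁ d * (x - algebraMap A A₁ c) := by
        rw [map_mul]; ring
      rw [this]; exact add_mem (J'.mul_mem_left _ hd) (J'.mul_mem_left _ hc)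
  have hdecomp : J₁ ≤ J' ⊔ IA := by
    intro y hy
    obtain ⟨c, hc⟩ := hall y
    have hcI : c ∈ I := by
      rw [← Ideal.Quotient.eq_zero_iff_mem, ← hσalg]
      have h1 : σ₁ (y - algebraMap A A₁ c) = 0 := (hmemJ _).mp (hJ'le hc)
      rw [map_sub, (hmemJ y).mp hy, zero_sub, neg_eq_zero] at h1
      exact h1
    have : y = (y - algebraMap A A₁ c) + algebraMap A A₁ c := by ring
    rw [this]
    exact add_mem (Ideal.mem_sup_left hc) (Ideal.mem_sup_right (Ideal.mem_map_of_mem _ hcI))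
  have hP : J₁ ≤ IA ⊔ J₁ • J' := by
    refine hclaim.trans (sup_le le_sup_left ?_)
    rw [pow_two]
    calc J₁ * J₁ ≤ J₁ * (J' ⊔ IA) := Ideal.mul_mono_right hdecomp
      _ = J₁ * J' ⊔ J₁ * IA := Ideal.mul_sup _ _ _
      _ ≤ IA ⊔ J₁ • J' := sup_le le_sup_right (Ideal.mul_le_right.trans le_sup_left)
  obtain ⟨r, hr1, hr2⟩ := Submodule.exists_sub_one_mem_and_smul_le_of_fg_of_le_sup
    (I := J₁) (N := IA) (N' := J') (P := J₁) hJ'fg hJ'le hP
  refine ⟨r, ?_, fun y hy => ?_⟩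
  · have := (hmemJ _).mp hr1
    rwa [map_sub, map_one, sub_eq_zero] at this
  · have h1 : r • y ∈ r • J₁ := Submodule.smul_mem_pointwise_smul y r J₁ ((hmemJ y).mpr hy)
    exact hr2 h1


theorem localization_props {A A₁ : Type u} [CommRing A] [CommRing A₁] [Algebra A A₁] (I : Ideal A)
    (σ₁ : A₁ →ₐ[A] A ⧸ I) (h : A₁) (h1 : σ₁ h = 1)
    (h2 : ∀ y, σ₁ y = 0 → h * y ∈ I.map (algebraMap A A₁))
    (A' : Type u) [CommRing A'] [Algebra A₁ A'] [Algebra A A'] [IsScalarTower A A₁ A']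
    [IsLocalization.Away h A'] :
    Function.Bijective (algebraMap (A ⧸ I) (A' ⧸ I.map (algebraMap A A'))) ∧
      ∀ y : A₁, Ideal.Quotient.mk (I.map (algebraMap A A')) (algebraMap A₁ A' y) =
        algebraMap (A ⧸ I) (A' ⧸ I.map (algebraMap A A')) (σ₁ y) := by
  have hmap : I.map (algebraMap A A') = (I.map (algebraMap A A₁)).map (algebraMap A₁ A') := by
    rw [Ideal.map_map, IsScalarTower.algebraMap_eq A A₁ A']
  have hu : IsUnit (algebraMap A₁ A' h) := IsLocalization.Away.algebraMap_isUnit h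
  have hσalg : ∀ a : A, σ₁ (algebraMap A A₁ a) = Ideal.Quotient.mk I a := fun a => σ₁.commutes a
  -- F
  have hF : ∀ y : A₁, σ₁ y = 0 → algebraMap A₁ A' y ∈ I.map (algebraMap A A') := by
    intro y hy
    have h3 : algebraMap A₁ A' (h * y) ∈ I.map (algebraMap A A') := by
      rw [hmap]; exact Ideal.mem_map_of_mem _ (h2 y hy)
    rw [map_mul] at h3
    exact (Ideal.unit_mul_mem_iff_mem _ hu).mp h3
  have hcompat : ∀ y : A₁, Ideal.Quotient.mk (I.map (algebraMap A A')) (algebraMap A₁ A' y) =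
      algebraMap (A ⧸ I) (A' ⧸ I.map (algebraMap A A')) (σ₁ y) := by
    intro y
    obtain ⟨a, ha⟩ := Ideal.Quotient.mk_surjective (σ₁ y)
    rw [← ha, Ideal.Quotient.algebraMap_quotient_map_quotient, Ideal.Quotient.eq,
      IsScalarTower.algebraMap_apply A A₁ A', ← map_sub]
    apply hF
    rw [map_sub, hσalg, ha, sub_self]
  refine ⟨⟨?_, ?_⟩, hcompat⟩
  · rw [injective_iff_map_eq_zero]
    intro x hx
    obtain ⟨a, rfl⟩ := Ideal.Quotient.mk_surjective x
    rw [Ideal.Quotient.algebraMap_quotient_map_quotient, Ideal.Quotient.eq_zero_iff_mem, hmap,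
      IsScalarTower.algebraMap_apply A A₁ A',
      IsLocalization.algebraMap_mem_map_algebraMap_iff (Submonoid.powers h)] at hx
    obtain ⟨m, ⟨k, rfl⟩, hm⟩ := hx
    have h4 : σ₁ (h ^ k * algebraMap A A₁ a) = 0 := by
      have hle : I.map (algebraMap A A₁) ≤ RingHom.ker σ₁.toRingHom := by
        rw [Ideal.map_le_iff_le_comap]
        intro a ha
        rw [Ideal.mem_comap, RingHom.mem_ker]
        change σ₁ _ = 0
        rw [hσalg]; exact Ideal.Quotient.eq_zero_iff_mem.mpr ha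
      exact hle hm
    rwa [map_mul, map_pow, h1, one_pow, one_mul, hσalg] at h4
  · intro z
    obtain ⟨z, rfl⟩ := Ideal.Quotient.mk_surjective z
    obtain ⟨⟨x, ⟨_, k, rfl⟩⟩, hx⟩ := IsLocalization.surj (Submonoid.powers h) z
    simp only at hx
    have h5 : Ideal.Quotient.mk (I.map (algebraMap A A')) (algebraMap A₁ A' (h ^ k)) = 1 := by
      rw [hcompat, map_pow, h1, one_pow, map_one]
    refine ⟨σ₁ x, ?_⟩
    rw [← hcompat, ← hx, map_mul, h5, mul_one]


end aux


/-- Let `I ⊆ A` be an ideal, `B` a smooth `A`-algebra and `B → A/I` an `A`-algebra map. Then there is an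
étale `A`-algebra `A'` with `A/I → A'/IA'` bijective and an `A`-algebra map `B → A'` lifting the
given map. -/
theorem result {A B : Type u} [CommRing A] [CommRing B] [Algebra A B]
    [Algebra.Smooth A B] (I : Ideal A) (σ : B →ₐ[A] A ⧸ I) :
    ∃ (A' : Type u) (_ : CommRing A') (_ : Algebra A A'), Algebra.Etale A A' ∧
      Function.Bijective (algebraMap (A ⧸ I) (A' ⧸ I.map (algebraMap A A'))) ∧
      ∃ τ : B →ₐ[A] A', ∀ b : B,
        Ideal.Quotient.mk (I.map (algebraMap A A')) (τ b) =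
          algebraMap (A ⧸ I) (A' ⧸ I.map (algebraMap A A')) (σ b) := by
  obtain ⟨B', _, _, _, _, hsm, ⟨r⟩, hstd⟩ := Groth.Agent.S2025.result (R := A) (A := B)
  let σ'' : B' →ₐ[A] A ⧸ I := σ.comp (r.restrictScalars A)
  obtain ⟨A₁, _, _, _, φ, σ₁, hσ₁⟩ := Groth.Agent.S0536.exists_etale_factor I σ''
  obtain ⟨h, h1, h2⟩ := exists_elem_section I σ₁
  haveI : Algebra.Etale A₁ (Localization.Away h) := Algebra.Etale.of_isLocalizationAway h
  haveI : Algebra.Etale A (Localization.Away h) := Algebra.Etale.comp A A₁ (Localization.Away h)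
  obtain ⟨hbij, hcompat⟩ := localization_props I σ₁ h h1 h2 (Localization.Away h)
  refine ⟨Localization.Away h, inferInstance, inferInstance, inferInstance, hbij,
    (IsScalarTower.toAlgHom A A₁ (Localization.Away h)).comp
      (φ.comp (IsScalarTower.toAlgHom A B B')), fun b => ?_⟩
  change Ideal.Quotient.mk _ (algebraMap A₁ (Localization.Away h) (φ (algebraMap B B' b))) = _
  rw [hcompat]
  congr 1
  have h3 : σ₁ (φ (algebraMap B B' b)) = σ'' (algebraMap B B' b) := congr($hσ₁ _)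
  rw [h3]
  change σ (r (algebraMap B B' b)) = σ b
  rw [r.commutes]
  rfl

end Groth.Agent.S2043
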