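import Groth.Statements.S2054
import Groth.Agent.Lib.Helper26.ReflexiveCrit3
import Groth.Agent.Lib.Helper24.NormalAscent
import Groth.Agent.S0601

set_option autoImplicit false
universe u
open CAlg

namespace Groth.Agent.S2054

/-- Let `R` be a Noetherian normal domain and `M` a finite `R`-module. Then `M` is reflexive (the map to
its double dual is bijective) if and only if `M` is torsion free and satisfies Serre's condition
`(S_2)`. -/
theorem result {R M : Type u} [CommRing R] [IsDomain R] [IsNoetherianRing R]
    [IsIntegrallyClosed R] [AddCommGroup M] [Module R M] [Module.Finite R M] :
    Module.IsReflexive R M ↔ NoZeroSMulDivisors R M ∧ LocCoh.HasSk 2 R M := by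
  classical
  constructor
  · intro hrefl
    haveI := hrefl
    constructor
    · -- torsion-free
      have hinj : Function.Injective (Module.Dual.eval R M) :=
        (Module.bijective_dual_eval R M).injective
      refine ⟨?_⟩
      intro c x hcx
      by_cases hc : c = 0
      · exact Or.inl hc
      · right
        apply hinj
        rw [map_zero]
        ext φ
        have h1 : Module.Dual.eval R M (c • x) φ = 0 := by rw [hcx, map_zero]; rfl
        rw [map_smul, LinearMap.smul_apply, smul_eq_mul] at h1
        rcases mul_eq_zero.mp h1 with h | h
        · exact absurd h hc
        · simpa using h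
    · intro p _
      have hnorm : EGA4.IsNormalRing R :=
        Groth.Agent.Lib.Helper24.NormalAscent.isNormalRing_of_isIntegrallyClosed R
      have hS2 : LocCoh.HasSk 2 R R := ((Groth.Agent.S0601.result R).mp hnorm).2
      haveI := Groth.Agent.Lib.helper26.Depth.isReflexive_localization M p
      exact Groth.Agent.Lib.helper26.Depth.sk_two_at_of_isReflexive hS2 p M
  · rintro ⟨htf, hS2⟩
    haveI := htf
    apply Groth.Agent.Lib.helper26.Depth.isReflexive_of_forall_localization_or_depth M
    intro p _
    haveI : Module.IsTorsionFree (Localization.AtPrime p) (LocalizedModule p.primeCompl M) :=
      inferInstance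
    haveI : IsNoetherianRing (Localization.AtPrime p) :=
      IsLocalization.isNoetherianRing p.primeCompl _ inferInstance
    haveI : Module.Finite (Localization.AtPrime p) (LocalizedModule p.primeCompl M) :=
      Module.Finite.of_isLocalizedModule p.primeCompl
        (LocalizedModule.mkLinearMap p.primeCompl M)
    by_cases hht : p.height ≤ 1
    · left
      -- `R_p` is a field or a DVR
      haveI : IsIntegrallyClosed (Localization.AtPrime p) :=
        isIntegrallyClosed_of_isLocalization _ p.primeCompl (Ideal.primeCompl_le_nonZeroDivisors p)
      have hdim : ringKrullDim (Localization.AtPrime p) ≤ 1 := by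
        rw [IsLocalization.AtPrime.ringKrullDim_eq_height p]
        exact_mod_cast hht
      haveI : Ring.KrullDimLE 1 (Localization.AtPrime p) := Ring.krullDimLE_iff.mpr (by simpa using hdim)
      haveI : IsPrincipalIdealRing (Localization.AtPrime p) := by
        by_cases hf : IsField (Localization.AtPrime p)
        · letI := hf.toField
          infer_instance
        · haveI hDR : IsDedekindRing (Localization.AtPrime p) :=
            (isDedekindRing_iff (Localization.AtPrime p) (FractionRing R)).mpr
              ⟨inferInstance, ⟨fun hp hprime => Ideal.IsPrime.isMaximal_of_ne_bot hprime hp⟩,
                fun hx => (isIntegrallyClosed_iff _).mp inferInstance hx⟩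
          haveI : IsDedekindDomain (Localization.AtPrime p) :=
            { toIsDomain := inferInstance
              toIsDedekindRing := hDR }
          haveI : IsDiscreteValuationRing (Localization.AtPrime p) :=
            ((IsDiscreteValuationRing.TFAE (Localization.AtPrime p) hf).out 0 2).mpr ‹IsDedekindDomain (Localization.AtPrime p)›
          infer_instance
      haveI : Module.Free (Localization.AtPrime p) (LocalizedModule p.primeCompl M) :=
        Module.free_of_finite_type_torsion_free'
      infer_instance
    · rw [not_le] at hht
      by_cases hsub : Subsingleton (LocalizedModule p.primeCompl M)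
      · left
        haveI := hsub
        haveI : Module.Free (Localization.AtPrime p) (LocalizedModule p.primeCompl M) :=
          Module.Free.of_subsingleton _ _
        infer_instance
      · right
        rw [not_subsingleton_iff_nontrivial] at hsub
        haveI := hsub
        have h1 := hS2 p
        have hann : Module.annihilator (Localization.AtPrime p)
            (LocalizedModule p.primeCompl M) = ⊥ := by
          rw [eq_bot_iff]
          intro a ha
          rw [Ideal.mem_bot]
          by_contra ha0
          obtain ⟨x, hx⟩ := exists_ne (0 : LocalizedModule p.primeCompl M)
          have h2 : a • x = 0 := Module.mem_annihilator.mp ha x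
          have hreg : IsSMulRegular (LocalizedModule p.primeCompl M) a :=
            Module.IsTorsionFree.isSMulRegular (IsRegular.of_ne_zero ha0)
          exact hx (hreg (show a • x = a • 0 by rw [h2, smul_zero]))
        have hdim : Module.supportDim (Localization.AtPrime p)
            (LocalizedModule p.primeCompl M) = p.height := by
          rw [Module.supportDim_eq_ringKrullDim_quotient_annihilator, hann,
            ringKrullDim_eq_of_ringEquiv (RingEquiv.quotientBot (Localization.AtPrime p)),
            IsLocalization.AtPrime.ringKrullDim_eq_height p]
        rw [hdim] at h1
        have h2 : ((2 : ℕ) : WithBot ℕ∞) ≤ (p.height : WithBot ℕ∞) := by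
          have : (2 : ℕ∞) ≤ p.height := by
            have := Order.add_one_le_of_lt hht
            simpa [one_add_one_eq_two] using this
          exact WithBot.coe_le_coe.mpr this
        rw [min_eq_left h2] at h1
        exact WithBot.coe_le_coe.mp h1

end Groth.Agent.S2054
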