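import Groth.Statements.S2055
import Mathlib

set_option autoImplicit false
universe u
open CAlg

namespace Groth.Agent.S2055


section aux

open TensorProduct

variable {R S : Type u} [CommRing R] [CommRing S] [Algebra R S]

theorem range_sup_pow (I : Ideal R)
    (hq : Function.Surjective (algebraMap (R ⧸ I) (S ⧸ I.map (algebraMap R S)))) (n : ℕ) :
    LinearMap.range (Algebra.linearMap R S) ⊔ (I ^ n • ⊤ : Submodule R S) = ⊤ := by
  have h1 : LinearMap.range (Algebra.linearMap R S) ⊔ (I • ⊤ : Submodule R S) = ⊤ := by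
    rw [eq_top_iff]
    intro s _
    obtain ⟨rbar, hr⟩ := hq (Ideal.Quotient.mk _ s)
    obtain ⟨r, rfl⟩ := Ideal.Quotient.mk_surjective rbar
    have hr' : Ideal.Quotient.mk (I.map (algebraMap R S)) (algebraMap R S r) =
        Ideal.Quotient.mk (I.map (algebraMap R S)) s := hr
    rw [Ideal.Quotient.eq] at hr'
    have h2 : s = algebraMap R S r + (s - algebraMap R S r) := by ring
    rw [h2]
    refine Submodule.add_mem_sup ⟨r, rfl⟩ ?_
    rw [Ideal.smul_top_eq_map]
    have h3 : s - algebraMap R S r = -(algebraMap R S r - s) := by ring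
    rw [h3]
    exact (I.map (algebraMap R S)).neg_mem hr'
  induction n with
  | zero => rw [pow_zero, Ideal.one_eq_top, Submodule.top_smul, sup_top_eq]
  | succ n ih =>
    rw [eq_top_iff]
    have h2 : (I ^ n • ⊤ : Submodule R S) ≤
        LinearMap.range (Algebra.linearMap R S) ⊔ (I ^ (n + 1) • ⊤ : Submodule R S) := by
      calc (I ^ n • ⊤ : Submodule R S)
          = I ^ n • (LinearMap.range (Algebra.linearMap R S) ⊔ (I • ⊤ : Submodule R S)) := by
            rw [h1]
        _ = I ^ n • LinearMap.range (Algebra.linearMap R S) ⊔ I ^ n • (I • ⊤ : Submodule R S) :=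
            Submodule.smul_sup _ _ _
        _ ≤ LinearMap.range (Algebra.linearMap R S) ⊔ (I ^ (n + 1) • ⊤ : Submodule R S) := by
            refine sup_le_sup Submodule.smul_le_right ?_
            rw [← Submodule.mul_smul, ← pow_succ]
    calc (⊤ : Submodule R S)
        = LinearMap.range (Algebra.linearMap R S) ⊔ (I ^ n • ⊤ : Submodule R S) := ih.symm
      _ ≤ LinearMap.range (Algebra.linearMap R S) ⊔ (I ^ (n + 1) • ⊤ : Submodule R S) :=
          sup_le le_sup_left h2

theorem tmul_eq_zero_of_mem (I : Ideal R) (n : ℕ) {X : Type u} [AddCommGroup X] [Module R X]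
    (x : X) (hx : ∀ a ∈ I ^ n, a • x = 0) (e : S) (he : e ∈ (I ^ n • ⊤ : Submodule R S)) :
    e ⊗ₜ[R] x = 0 := by
  refine Submodule.smul_induction_on he (fun a ha s _ => ?_) (fun e₁ e₂ h₁ h₂ => ?_)
  · rw [TensorProduct.smul_tmul, hx a ha, TensorProduct.tmul_zero]
  · rw [TensorProduct.add_tmul, h₁, h₂, add_zero]

theorem exists_one_tmul (I : Ideal R)
    (hq : Function.Surjective (algebraMap (R ⧸ I) (S ⧸ I.map (algebraMap R S))))
    {X : Type u} [AddCommGroup X] [Module R X]
    (hX : ∀ x : X, ∃ n : ℕ, ∀ a ∈ I ^ n, a • x = 0) (y : S ⊗[R] X) :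
    ∃ x : X, (1 : S) ⊗ₜ[R] x = y := by
  induction y using TensorProduct.induction_on with
  | zero => exact ⟨0, TensorProduct.tmul_zero _ _⟩
  | tmul s x =>
    obtain ⟨n, hn⟩ := hX x
    have hs : s ∈ LinearMap.range (Algebra.linearMap R S) ⊔ (I ^ n • ⊤ : Submodule R S) := by
      rw [range_sup_pow I hq n]; exact Submodule.mem_top
    obtain ⟨_, ⟨r, rfl⟩, e, he, rfl⟩ := Submodule.mem_sup.mp hs
    refine ⟨r • x, ?_⟩
    rw [TensorProduct.add_tmul, tmul_eq_zero_of_mem I n x hn e he, add_zero,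
      Algebra.linearMap_apply, Algebra.algebraMap_eq_smul_one, TensorProduct.smul_tmul]
  | add y₁ y₂ h₁ h₂ =>
    obtain ⟨x₁, rfl⟩ := h₁
    obtain ⟨x₂, rfl⟩ := h₂
    exact ⟨x₁ + x₂, TensorProduct.tmul_add _ _ _⟩

theorem eq_zero_of_killed (I : Ideal R)
    (hq : Function.Bijective (algebraMap (R ⧸ I) (S ⧸ I.map (algebraMap R S))))
    {T : Type u} [AddCommGroup T] [Module R T] (hT : ∀ a ∈ I, ∀ x : T, a • x = 0)
    (x : T) (h0 : (1 : S) ⊗ₜ[R] x = 0) : x = 0 := by
  have hT' : Module.IsTorsionBySet R T (I : Set R) := fun x a => hT a.1 a.2 x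
  letI : Module (R ⧸ I) T := hT'.module
  haveI : IsScalarTower R (R ⧸ I) T := hT'.isScalarTower
  let e : (R ⧸ I) ≃+* (S ⧸ I.map (algebraMap R S)) := RingEquiv.ofBijective _ hq
  let θ : S →+* R ⧸ I := e.symm.toRingHom.comp (Ideal.Quotient.mk (I.map (algebraMap R S)))
  have hθ : ∀ r : R, θ (algebraMap R S r) = Ideal.Quotient.mk I r := by
    intro r
    show e.symm (Ideal.Quotient.mk _ (algebraMap R S r)) = Ideal.Quotient.mk I r
    rw [RingEquiv.symm_apply_eq]
    rfl
  have hmk : ∀ (r : R) (t : T), Ideal.Quotient.mk I r • t = r • t := by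
    intro r t
    rw [← Ideal.Quotient.algebraMap_eq]
    exact algebraMap_smul (R ⧸ I) r t
  let B : S →ₗ[R] T →ₗ[R] T := LinearMap.mk₂ R (fun s t => θ s • t)
    (fun s₁ s₂ t => by rw [map_add, add_smul])
    (fun c s t => by rw [Algebra.smul_def, map_mul, hθ, mul_smul, hmk])
    (fun s t₁ t₂ => by rw [smul_add])
    (fun c s t => by rw [smul_comm])
  have h1 := congrArg (TensorProduct.lift B) h0
  rw [TensorProduct.lift.tmul, map_zero] at h1
  have h2 : B 1 x = x := by
    show θ 1 • x = x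
    rw [map_one, one_smul]
  rw [h2] at h1
  exact h1

theorem eq_zero_of_one_tmul [Module.Flat R S] (I : Ideal R)
    (hq : Function.Bijective (algebraMap (R ⧸ I) (S ⧸ I.map (algebraMap R S)))) :
    ∀ (n : ℕ) {X : Type u} [AddCommGroup X] [Module R X] (x : X),
      (∀ a ∈ I ^ n, a • x = 0) → (1 : S) ⊗ₜ[R] x = 0 → x = 0 := by
  intro n
  induction n with
  | zero =>
    intro X _ _ x hx _
    have h1 := hx 1 (by rw [pow_zero, Ideal.one_eq_top]; exact Submodule.mem_top)
    rwa [one_smul] at h1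
  | succ n ih =>
    intro X _ _ x hx h0
    have hIx : ∀ b ∈ I, b • x = 0 := by
      intro b hb
      apply ih (b • x)
      · intro a ha
        rw [smul_smul]
        exact hx (a * b) (by rw [pow_succ]; exact Ideal.mul_mem_mul ha hb)
      · rw [TensorProduct.tmul_smul, h0, smul_zero]
    let T : Submodule R X :=
      { carrier := {y | ∀ b ∈ I, b • y = 0}
        add_mem' := fun {y z} hy hz b hb => by rw [smul_add, hy b hb, hz b hb, add_zero]
        zero_mem' := fun b _ => smul_zero b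
        smul_mem' := fun c y hy b hb => by rw [smul_comm, hy b hb, smul_zero] }
    have hinj := Module.Flat.lTensor_preserves_injective_linearMap (M := S) T.subtype
      T.injective_subtype
    have h1 : (1 : S) ⊗ₜ[R] (⟨x, hIx⟩ : T) = 0 := by
      apply hinj
      rw [LinearMap.lTensor_tmul, map_zero]
      exact h0
    have h2 := eq_zero_of_killed I hq (T := T) (fun a ha y => Subtype.ext (y.2 a ha)) ⟨x, hIx⟩ h1
    exact congrArg Subtype.val h2

theorem exists_one_tmul_of_killed [Module.Flat R S] (I : Ideal R) (hI : I.FG)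
    (hq : Function.Surjective (algebraMap (R ⧸ I) (S ⧸ I.map (algebraMap R S)))) (n : ℕ)
    {N : Type u} [AddCommGroup N] [Module R N]
    (y : S ⊗[R] N) (hy : ∀ a ∈ I ^ n, a • y = 0) :
    ∃ x : N, (∀ a ∈ I ^ n, a • x = 0) ∧ (1 : S) ⊗ₜ[R] x = y := by
  classical
  obtain ⟨gens, hgens⟩ := (hI.pow : (I ^ n).FG)
  let u : N →ₗ[R] (gens → N) := LinearMap.pi (fun a : gens => LinearMap.lsmul R N (a : R))
  have hker : ∀ x ∈ LinearMap.ker u, ∀ a ∈ I ^ n, a • x = 0 := by
    intro x hx a ha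
    rw [← hgens] at ha
    have hle : Ideal.span (gens : Set R) ≤ LinearMap.ker (LinearMap.toSpanSingleton R N x) := by
      rw [Ideal.span_le]
      intro b hb
      rw [SetLike.mem_coe, LinearMap.mem_ker, LinearMap.toSpanSingleton_apply]
      have h1 := congr_fun (LinearMap.mem_ker.mp hx) ⟨b, hb⟩
      exact h1
    have h2 := hle ha
    rwa [LinearMap.mem_ker, LinearMap.toSpanSingleton_apply] at h2
  have hls : ∀ (a : R) (z : S ⊗[R] N), (LinearMap.lsmul R N a).lTensor S z = a • z := by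
    intro a z
    induction z using TensorProduct.induction_on with
    | zero => rw [map_zero, smul_zero]
    | tmul s x => rw [LinearMap.lTensor_tmul, LinearMap.lsmul_apply, TensorProduct.tmul_smul]
    | add z₁ z₂ h₁ h₂ => rw [map_add, h₁, h₂, smul_add]
  have hproj : ∀ (a : gens) (z : S ⊗[R] (gens → N)),
      (TensorProduct.piRight R R S (fun _ : gens => N) z) a =
        (LinearMap.proj a : (gens → N) →ₗ[R] N).lTensor S z := by
    intro a z
    induction z using TensorProduct.induction_on with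
    | zero => rw [map_zero, map_zero]; rfl
    | tmul s f => rfl
    | add z₁ z₂ h₁ h₂ => rw [map_add, map_add, Pi.add_apply, h₁, h₂]
  have hz : u.lTensor S y = 0 := by
    apply (TensorProduct.piRight R R S (fun _ : gens => N)).injective
    rw [map_zero]
    funext a
    rw [hproj, Pi.zero_apply, ← LinearMap.comp_apply, ← LinearMap.lTensor_comp]
    have h1 : (LinearMap.proj a : (gens → N) →ₗ[R] N) ∘ₗ u = LinearMap.lsmul R N (a : R) := rfl
    rw [h1, hls]
    exact hy a (by rw [← hgens]; exact Ideal.subset_span (Finset.mem_coe.mpr a.2))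
  have hex := Module.Flat.lTensor_exact S (LinearMap.exact_subtype_ker_map u)
  obtain ⟨y', hy'⟩ := (hex y).mp hz
  obtain ⟨x', hx'⟩ := exists_one_tmul I hq (X := LinearMap.ker u)
    (fun x => ⟨n, fun a ha => Subtype.ext (hker x x.2 a ha)⟩) y'
  refine ⟨x', hker x' x'.2, ?_⟩
  rw [← hy', ← hx', LinearMap.lTensor_tmul]
  rfl

theorem exists_baseChange_eq [Module.Flat R S] (I : Ideal R)
    (hq : Function.Bijective (algebraMap (R ⧸ I) (S ⧸ I.map (algebraMap R S))))
    {M N : Type u} [AddCommGroup M] [Module R M] [AddCommGroup N] [Module R N]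
    (h : S ⊗[R] M →ₗ[S] S ⊗[R] N)
    (hex : ∀ m : M, ∃ x : N, (∃ n : ℕ, ∀ a ∈ I ^ n, a • x = 0) ∧
      (1 : S) ⊗ₜ[R] x = h ((1 : S) ⊗ₜ[R] m)) :
    ∃ f : M →ₗ[R] N, f.baseChange S = h := by
  let Γ : Submodule R N :=
    { carrier := {x | ∃ n : ℕ, ∀ a ∈ I ^ n, a • x = 0}
      add_mem' := by
        rintro y z ⟨n₁, h₁⟩ ⟨n₂, h₂⟩
        refine ⟨max n₁ n₂, fun a ha => ?_⟩
        rw [smul_add, h₁ a (Ideal.pow_le_pow_right (le_max_left n₁ n₂) ha),
          h₂ a (Ideal.pow_le_pow_right (le_max_right n₁ n₂) ha), add_zero]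
      zero_mem' := ⟨0, fun a _ => smul_zero a⟩
      smul_mem' := by
        rintro c y ⟨n₁, h₁⟩
        exact ⟨n₁, fun a ha => by rw [smul_comm, h₁ a ha, smul_zero]⟩ }
  let ιΓ : Γ →ₗ[R] S ⊗[R] N := (TensorProduct.mk R S N 1) ∘ₗ Γ.subtype
  have hιΓ : ∀ x : Γ, ιΓ x = (1 : S) ⊗ₜ[R] (x : N) := fun x => rfl
  have hinj : Function.Injective ιΓ := by
    rw [← LinearMap.ker_eq_bot, LinearMap.ker_eq_bot']
    intro x hx
    obtain ⟨n, hn⟩ := x.2
    exact Subtype.ext (eq_zero_of_one_tmul I hq n (x : N) hn hx)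
  let g₀ : M →ₗ[R] S ⊗[R] N := (h.restrictScalars R) ∘ₗ (TensorProduct.mk R S M 1)
  have hg₀ : ∀ m, g₀ m ∈ LinearMap.range ιΓ := by
    intro m
    obtain ⟨x, hx1, hx2⟩ := hex m
    exact ⟨⟨x, hx1⟩, hx2⟩
  let f : M →ₗ[R] N := Γ.subtype ∘ₗ (LinearEquiv.ofInjective ιΓ hinj).symm.toLinearMap ∘ₗ
    (g₀.codRestrict (LinearMap.range ιΓ) hg₀)
  have hf : ∀ m, (1 : S) ⊗ₜ[R] f m = h ((1 : S) ⊗ₜ[R] m) := by
    intro m
    let w : Γ := (LinearEquiv.ofInjective ιΓ hinj).symm (g₀.codRestrict (LinearMap.range ιΓ) hg₀ m)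
    have h1 : (LinearEquiv.ofInjective ιΓ hinj) w = g₀.codRestrict (LinearMap.range ιΓ) hg₀ m :=
      LinearEquiv.apply_symm_apply _ _
    have h2 : ιΓ w = g₀ m := by
      have h3 := congrArg Subtype.val h1
      rwa [LinearEquiv.ofInjective_apply] at h3
    exact h2
  refine ⟨f, ?_⟩
  apply TensorProduct.AlgebraTensorModule.ext
  intro s m
  rw [LinearMap.baseChange_tmul]
  have h4 : s ⊗ₜ[R] f m = s • ((1 : S) ⊗ₜ[R] f m) := by
    rw [TensorProduct.smul_tmul', smul_eq_mul, mul_one]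
  have h5 : s ⊗ₜ[R] m = s • ((1 : S) ⊗ₜ[R] m) := by
    rw [TensorProduct.smul_tmul', smul_eq_mul, mul_one]
  rw [h4, hf, h5, map_smul]

end aux


open TensorProduct in
/-- Let `R → S` be flat and `I ⊆ R` a finitely generated ideal with `R/I → S/IS` bijective. If one of
the `R`-modules `M`, `N` has every element killed by a power of `I`, then base change of linear maps
`Hom_R(M, N) → Hom_S(S ⊗ M, S ⊗ N)` is bijective. -/
theorem result {R S M N : Type u} [CommRing R] [CommRing S]
    [Algebra R S] [Module.Flat R S] (I : Ideal R) (hI : I.FG)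
    (hq : Function.Bijective (algebraMap (R ⧸ I) (S ⧸ I.map (algebraMap R S))))
    [AddCommGroup M] [Module R M] [AddCommGroup N] [Module R N]
    (hMN : (∀ x : M, ∃ n : ℕ, ∀ a ∈ I ^ n, a • x = 0) ∨ (∀ y : N, ∃ n : ℕ, ∀ a ∈ I ^ n, a • y = 0)) :
    Function.Bijective (fun f : M →ₗ[R] N => LinearMap.baseChange S f) := by
  constructor
  · intro f f' hff'
    have hff'' : f.baseChange S = f'.baseChange S := hff'
    apply LinearMap.ext
    intro m
    have e1 : (1 : S) ⊗ₜ[R] f m = f.baseChange S ((1 : S) ⊗ₜ[R] m) :=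
      (LinearMap.baseChange_tmul _ _ _).symm
    have e2 : (1 : S) ⊗ₜ[R] f' m = f'.baseChange S ((1 : S) ⊗ₜ[R] m) :=
      (LinearMap.baseChange_tmul _ _ _).symm
    have h1 : (1 : S) ⊗ₜ[R] (f m - f' m) = 0 := by
      rw [TensorProduct.tmul_sub, e1, e2, hff'', sub_self]
    have h2 : ∃ n : ℕ, ∀ a ∈ I ^ n, a • (f m - f' m) = 0 := by
      rcases hMN with hM | hN
      · obtain ⟨n, hn⟩ := hM m
        exact ⟨n, fun a ha => by
          rw [smul_sub, ← map_smul, ← map_smul, hn a ha, map_zero, map_zero, sub_zero]⟩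
      · exact hN _
    obtain ⟨n, hn⟩ := h2
    exact sub_eq_zero.mp (eq_zero_of_one_tmul I hq n _ hn h1)
  · intro h
    apply exists_baseChange_eq I hq h
    intro m
    rcases hMN with hM | hN
    · obtain ⟨n, hn⟩ := hM m
      obtain ⟨x, hx1, hx2⟩ := exists_one_tmul_of_killed I hI hq.2 n (h ((1 : S) ⊗ₜ[R] m))
        (fun a ha => by
          rw [← h.map_smul_of_tower, ← TensorProduct.tmul_smul, hn a ha, TensorProduct.tmul_zero,
            map_zero])
      exact ⟨x, ⟨n, hx1⟩, hx2⟩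
    · obtain ⟨x, hx⟩ := exists_one_tmul I hq.2 hN (h ((1 : S) ⊗ₜ[R] m))
      exact ⟨x, hN x, hx⟩


end Groth.Agent.S2055
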