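import Groth.Statements.S2057
import Mathlib.LinearAlgebra.TensorProduct.Vanishing
import Mathlib.RingTheory.TensorProduct.DirectLimitFG
import Mathlib.LinearAlgebra.TensorProduct.Finiteness

set_option autoImplicit false
universe u
open CAlg

namespace Groth.Agent.S2057

open TensorProduct

/-- The matrix map `c ↦ (Σ_j a i j * c j)_i`. -/
def matMap {R : Type u} [CommRing R] {n m : ℕ} (a : Fin n → Fin m → R) :
    (Fin m → R) →ₗ[R] (Fin n → R) where
  toFun c i := ∑ j, a i j * c j
  map_add' c d := by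
    ext i
    simp [mul_add, Finset.sum_add_distrib]
  map_smul' r c := by
    ext i
    simp [Finset.mul_sum, mul_left_comm]

lemma matMap_apply {R : Type u} [CommRing R] {n m : ℕ} (a : Fin n → Fin m → R)
    (c : Fin m → R) (i : Fin n) : matMap a c i = ∑ j, a i j * c j := rfl

/-- Forward direction. -/
lemma forward {R M₁ M₂ : Type u} [CommRing R] [AddCommGroup M₁]
    [Module R M₁] [AddCommGroup M₂] [Module R M₂] (f : M₁ →ₗ[R] M₂)
    (hUI : CAlgX.UniversallyInjective R f)
    (n m : ℕ) (x : Fin n → M₁) (y : Fin m → M₂) (a : Fin n → Fin m → R)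
    (hxy : ∀ i, f (x i) = ∑ j, a i j • y j) : ∃ z : Fin m → M₁, ∀ i, x i = ∑ j, a i j • z j := by
  classical
  obtain ⟨A, hA⟩ : ∃ A : (Fin m → R) →ₗ[R] (Fin n → R), A = matMap a := ⟨_, rfl⟩
  obtain ⟨e, he⟩ : ∃ e : Fin n → ((Fin n → R) ⧸ LinearMap.range A),
      e = fun i => Submodule.Quotient.mk (Pi.single i 1) := ⟨_, rfl⟩
  have hsum : ∀ b : Fin n → R, ∑ i, b i • e i = Submodule.Quotient.mk b := by
    intro b
    rw [he]
    have hb : b = ∑ i, b i • (Pi.single i 1 : Fin n → R) := by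
      ext i
      simp [Finset.sum_apply, Pi.single_apply]
    conv_rhs => rw [hb]
    rw [← Submodule.mkQ_apply, map_sum]
    simp only [map_smul, Submodule.mkQ_apply]
  have hspan : Submodule.span R (Set.range e) = ⊤ := by
    rw [eq_top_iff]
    rintro v -
    obtain ⟨b, rfl⟩ := Submodule.Quotient.mk_surjective _ v
    rw [← hsum b]
    exact Submodule.sum_mem _ (fun i _ => Submodule.smul_mem _ _ (Submodule.subset_span ⟨i, rfl⟩))
  have ht : ∑ i, x i ⊗ₜ[R] e i = (0 : M₁ ⊗[R] ((Fin n → R) ⧸ LinearMap.range A)) := by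
    apply hUI ((Fin n → R) ⧸ LinearMap.range A)
    rw [map_zero, map_sum]
    simp only [LinearMap.rTensor_tmul, hxy, TensorProduct.sum_tmul, TensorProduct.smul_tmul]
    rw [Finset.sum_comm]
    simp only [← TensorProduct.tmul_sum]
    apply Finset.sum_eq_zero
    intro j _
    have : ∑ i, a i j • e i = 0 := by
      rw [hsum, Submodule.Quotient.mk_eq_zero]
      refine ⟨Pi.single j 1, ?_⟩
      rw [hA]
      ext i
      simp [matMap_apply, Pi.single_apply]
    rw [this, TensorProduct.tmul_zero]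
  have ht' : ∑ i, e i ⊗ₜ[R] x i = (0 : ((Fin n → R) ⧸ LinearMap.range A) ⊗[R] M₁) := by
    have := congrArg (TensorProduct.comm R M₁ _) ht
    simpa using this
  obtain ⟨k, b, z', hz1, hz2⟩ := TensorProduct.vanishesTrivially_of_sum_tmul_eq_zero R hspan ht'
  have hc : ∀ l, ∃ c : Fin m → R, A c = fun i => b i l := by
    intro l
    have h1 := hz2 l
    rw [hsum, Submodule.Quotient.mk_eq_zero] at h1
    exact h1
  choose c hc using hc
  refine ⟨fun j => ∑ l, c l j • z' l, fun i => ?_⟩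
  rw [hz1 i]
  have hb : ∀ l, b i l = ∑ j, a i j * c l j := by
    intro l
    have := congrFun (hc l) i
    rw [hA, matMap_apply] at this
    exact this.symm
  simp only [hb, Finset.sum_smul, Finset.smul_sum, mul_smul]
  rw [Finset.sum_comm]

/-- Backward direction. -/
lemma backward {R M₁ M₂ : Type u} [CommRing R] [AddCommGroup M₁]
    [Module R M₁] [AddCommGroup M₂] [Module R M₂] (f : M₁ →ₗ[R] M₂)
    (hEq : ∀ (n m : ℕ) (x : Fin n → M₁) (y : Fin m → M₂) (a : Fin n → Fin m → R),
        (∀ i, f (x i) = ∑ j, a i j • y j) → ∃ z : Fin m → M₁, ∀ i, x i = ∑ j, a i j • z j) :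
    CAlgX.UniversallyInjective R f := by
  classical
  intro Q _ _
  rw [injective_iff_map_eq_zero]
  intro t ht
  obtain ⟨n, x, q, rfl⟩ := TensorProduct.exists_sum_tmul_eq t
  have h1 : ∑ i, q i ⊗ₜ[R] f (x i) = (0 : Q ⊗[R] M₂) := by
    have := congrArg (TensorProduct.comm R M₂ Q) ht
    simpa using this
  obtain ⟨P, hPdef⟩ : ∃ P : Submodule R Q, P = Submodule.span R (Set.range q) := ⟨_, rfl⟩
  have hP : P.FG := hPdef ▸ Submodule.fg_span (Set.finite_range q)
  have hqP : ∀ i, q i ∈ P := fun i => hPdef ▸ Submodule.subset_span ⟨i, rfl⟩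
  have h2 : LinearMap.rTensor M₂ P.subtype (∑ i, (⟨q i, hqP i⟩ : P) ⊗ₜ[R] f (x i)) = 0 := by
    rw [map_sum]
    simpa using h1
  obtain ⟨Q', hPQ, hQ'fg, h3⟩ := TensorProduct.eq_zero_of_fg_of_subtype_eq_zero hP h2
  rw [map_sum] at h3
  simp only [LinearMap.rTensor_tmul] at h3
  have hfin : Module.Finite R Q' := Module.Finite.iff_fg.mpr hQ'fg
  obtain ⟨r, g, hg⟩ := Module.Finite.exists_fin (R := R) (M := Q')
  -- the combined families
  obtain ⟨mm, hmm⟩ : ∃ mm : Fin (n + r) → Q',
      mm = Fin.append (fun i => Submodule.inclusion hPQ ⟨q i, hqP i⟩) g := ⟨_, rfl⟩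
  obtain ⟨xx, hxx⟩ : ∃ xx : Fin (n + r) → M₁, xx = Fin.append x (fun _ => 0) := ⟨_, rfl⟩
  have hsum0 : ∑ i, mm i ⊗ₜ[R] f (xx i) = (0 : Q' ⊗[R] M₂) := by
    rw [Fin.sum_univ_add, hmm, hxx]
    simp only [Fin.append_left, Fin.append_right, map_zero, TensorProduct.tmul_zero,
      Finset.sum_const_zero, add_zero]
    exact h3
  have hspan : Submodule.span R (Set.range mm) = ⊤ := by
    rw [eq_top_iff, ← hg]
    apply Submodule.span_mono
    rintro _ ⟨l, rfl⟩
    exact ⟨Fin.natAdd n l, by rw [hmm, Fin.append_right]⟩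
  obtain ⟨k, a, y, hy1, hy2⟩ := TensorProduct.vanishesTrivially_of_sum_tmul_eq_zero R hspan hsum0
  obtain ⟨z, hz⟩ := hEq (n + r) k xx y a hy1
  -- compute
  have hfinal : ∑ i, xx i ⊗ₜ[R] ((mm i : Q') : Q) = (0 : M₁ ⊗[R] Q) := by
    simp only [hz, TensorProduct.sum_tmul, TensorProduct.smul_tmul]
    rw [Finset.sum_comm]
    simp only [← TensorProduct.tmul_sum]
    apply Finset.sum_eq_zero
    intro j _
    have h4 : ∑ i, a i j • ((mm i : Q') : Q) = 0 := by
      have := congrArg (Submodule.subtype Q') (hy2 j)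
      simpa using this
    rw [h4, TensorProduct.tmul_zero]
  rw [Fin.sum_univ_add, hmm, hxx] at hfinal
  simp only [Fin.append_left, Fin.append_right, TensorProduct.zero_tmul,
    Finset.sum_const_zero, add_zero] at hfinal
  exact hfinal

/-- An injective linear map `f : M₁ → M₂` is universally injective if and only if: whenever elements
`x_i` of `M₁` satisfy `f(x_i) = Σ_j a_{ij} y_j` for some `y_j ∈ M₂` and scalars `a_{ij}`, there are
`z_j ∈ M₁` with `x_i = Σ_j a_{ij} z_j`. -/
theorem result {R M₁ M₂ : Type u} [CommRing R] [AddCommGroup M₁]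
    [Module R M₁] [AddCommGroup M₂] [Module R M₂] (f : M₁ →ₗ[R] M₂) (hf : Function.Injective f) :
    CAlgX.UniversallyInjective R f ↔
      ∀ (n m : ℕ) (x : Fin n → M₁) (y : Fin m → M₂) (a : Fin n → Fin m → R),
        (∀ i, f (x i) = ∑ j, a i j • y j) → ∃ z : Fin m → M₁, ∀ i, x i = ∑ j, a i j • z j := by
  exact ⟨fun hUI n m x y a hxy => forward f hUI n m x y a hxy, fun hEq => backward f hEq⟩

end Groth.Agent.S2057
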