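import Groth.Statements.S2056
import Groth.Agent.S2057
import Mathlib.Algebra.Module.FinitePresentation

set_option autoImplicit false
universe u
open CAlg

namespace Groth.Agent.S2056

open TensorProduct Groth.Agent.S2057

/-- Forward direction of the equational criterion, only using finitely presented test modules. -/
lemma forward' {R M₁ M₂ : Type u} [CommRing R] [AddCommGroup M₁]
    [Module R M₁] [AddCommGroup M₂] [Module R M₂] (f : M₁ →ₗ[R] M₂)
    (hUI : ∀ (Q : Type u) [AddCommGroup Q] [Module R Q], Module.FinitePresentation R Q →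
        Function.Injective (f.rTensor Q))
    (n m : ℕ) (x : Fin n → M₁) (y : Fin m → M₂) (a : Fin n → Fin m → R)
    (hxy : ∀ i, f (x i) = ∑ j, a i j • y j) : ∃ z : Fin m → M₁, ∀ i, x i = ∑ j, a i j • z j := by
  classical
  obtain ⟨A, hA⟩ : ∃ A : (Fin m → R) →ₗ[R] (Fin n → R), A = matMap a := ⟨_, rfl⟩
  have hfp : Module.FinitePresentation R ((Fin n → R) ⧸ LinearMap.range A) := by
    apply Module.finitePresentation_of_surjective (LinearMap.range A).mkQ
      (Submodule.mkQ_surjective _)
    rw [Submodule.ker_mkQ, LinearMap.range_eq_map]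
    exact (Module.Finite.fg_top).map A
  obtain ⟨e, he⟩ : ∃ e : Fin n → ((Fin n → R) ⧸ LinearMap.range A),
      e = fun i => Submodule.Quotient.mk (Pi.single i 1) := ⟨_, rfl⟩
  have hsum : ∀ b : Fin n → R, ∑ i, b i • e i = Submodule.Quotient.mk b := by
    intro b
    rw [he]
    have hb : b = ∑ i, b i • (Pi.single i 1 : Fin n → R) := by
      ext i
      simp [Finset.sum_apply, Pi.single_apply]
    conv_rhs => rw [hb]
    rw [← Submodule.mkQ_apply, map_sum]
    simp only [map_smul, Submodule.mkQ_apply]
  have hspan : Submodule.span R (Set.range e) = ⊤ := by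
    rw [eq_top_iff]
    rintro v -
    obtain ⟨b, rfl⟩ := Submodule.Quotient.mk_surjective _ v
    rw [← hsum b]
    exact Submodule.sum_mem _ (fun i _ => Submodule.smul_mem _ _ (Submodule.subset_span ⟨i, rfl⟩))
  have ht : ∑ i, x i ⊗ₜ[R] e i = (0 : M₁ ⊗[R] ((Fin n → R) ⧸ LinearMap.range A)) := by
    apply hUI ((Fin n → R) ⧸ LinearMap.range A) hfp
    rw [map_zero, map_sum]
    simp only [LinearMap.rTensor_tmul, hxy, TensorProduct.sum_tmul, TensorProduct.smul_tmul]
    rw [Finset.sum_comm]
    simp only [← TensorProduct.tmul_sum]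
    apply Finset.sum_eq_zero
    intro j _
    have : ∑ i, a i j • e i = 0 := by
      rw [hsum, Submodule.Quotient.mk_eq_zero]
      refine ⟨Pi.single j 1, ?_⟩
      rw [hA]
      ext i
      simp [matMap_apply, Pi.single_apply]
    rw [this, TensorProduct.tmul_zero]
  have ht' : ∑ i, e i ⊗ₜ[R] x i = (0 : ((Fin n → R) ⧸ LinearMap.range A) ⊗[R] M₁) := by
    have := congrArg (TensorProduct.comm R M₁ _) ht
    simpa using this
  obtain ⟨k, b, z', hz1, hz2⟩ := TensorProduct.vanishesTrivially_of_sum_tmul_eq_zero R hspan ht'
  have hc : ∀ l, ∃ c : Fin m → R, A c = fun i => b i l := by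
    intro l
    have h1 := hz2 l
    rw [hsum, Submodule.Quotient.mk_eq_zero] at h1
    exact h1
  choose c hc using hc
  refine ⟨fun j => ∑ l, c l j • z' l, fun i => ?_⟩
  rw [hz1 i]
  have hb : ∀ l, b i l = ∑ j, a i j * c l j := by
    intro l
    have := congrFun (hc l) i
    rw [hA, matMap_apply] at this
    exact this.symm
  simp only [hb, Finset.sum_smul, Finset.smul_sum, mul_smul]
  rw [Finset.sum_comm]

/-- A linear map of `R`-modules is universally injective (injective after tensoring with any module) if
and only if it is injective after tensoring with every finitely presented module. -/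
theorem result {R M N : Type u} [CommRing R] [AddCommGroup M]
    [Module R M] [AddCommGroup N] [Module R N] (f : M →ₗ[R] N) :
    CAlgX.UniversallyInjective R f ↔
      ∀ (Q : Type u) [AddCommGroup Q] [Module R Q], Module.FinitePresentation R Q →
        Function.Injective (f.rTensor Q) := by
  constructor
  · intro h Q _ _ _
    exact h Q
  · intro h
    exact backward f (fun n m x y a hxy => forward' f h n m x y a hxy)

end Groth.Agent.S2056
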