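import Groth.Statements.S2059
import Mathlib

set_option autoImplicit false
universe u
open CAlg

namespace Groth.Agent.S2059

section aux

theorem part1 {k : Type u} [Field k] (T : Type u) [CommRing T] [Algebra k T]
    (t : Set T) (ht : Algebra.adjoin k t = ⊤) (hcard : Cardinal.mk t < Cardinal.mk k)
    (m : Ideal T) [hm : m.IsMaximal] : Algebra.IsAlgebraic k (T ⧸ m) := by
  classical
  letI := Ideal.Quotient.field m
  by_cases hfin : t.Finite
  · haveI : Algebra.FiniteType k T :=
      ⟨⟨hfin.toFinset, by rw [Set.Finite.coe_toFinset]; exact ht⟩⟩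
    haveI : Algebra.FiniteType k (T ⧸ m) :=
      Algebra.FiniteType.of_surjective (Ideal.Quotient.mkₐ k m) (Ideal.Quotient.mkₐ_surjective k m)
    haveI : Module.Finite k (T ⧸ m) := finite_of_finite_type_of_isJacobsonRing k (T ⧸ m)
    infer_instance
  · have hinf : Cardinal.aleph0 ≤ Cardinal.mk t :=
      Cardinal.infinite_iff.mp (Set.infinite_coe_iff.mpr hfin)
    by_contra hnot
    haveI : Algebra.Transcendental k (T ⧸ m) :=
      Algebra.transcendental_iff_not_isAlgebraic.mpr hnot
    have h1 : Module.rank k (T ⧸ m) = Cardinal.mk (T ⧸ m) :=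
      Algebra.Transcendental.rank_eq_cardinalMk k (T ⧸ m)
    have h2 : Cardinal.mk k ≤ Cardinal.mk (T ⧸ m) :=
      Cardinal.mk_le_of_injective (algebraMap k (T ⧸ m)).injective
    let φ : MvPolynomial t k →ₐ[k] T ⧸ m :=
      (Ideal.Quotient.mkₐ k m).comp (MvPolynomial.aeval ((↑) : t → T))
    have hae : Function.Surjective (MvPolynomial.aeval ((↑) : t → T) : MvPolynomial t k →ₐ[k] T) := by
      rw [← AlgHom.range_eq_top, ← Algebra.adjoin_eq_range, ht]
    have hφ : Function.Surjective φ := by
      intro y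
      obtain ⟨x, rfl⟩ := Ideal.Quotient.mkₐ_surjective k m y
      obtain ⟨p, rfl⟩ := hae x
      exact ⟨p, rfl⟩
    have h3 : Module.rank k (T ⧸ m) ≤ Module.rank k (MvPolynomial t k) :=
      LinearMap.rank_le_of_surjective φ.toLinearMap hφ
    haveI : Nonempty t := (Set.infinite_coe_iff.mpr hfin).nonempty
    rw [MvPolynomial.rank_eq, Cardinal.mk_finsupp_nat, max_eq_left hinf, h1] at h3
    exact absurd (lt_of_le_of_lt (h2.trans h3) hcard) (lt_irrefl _)

theorem jac_step {k : Type u} [Field k] (S : Type u) [CommRing S] [Algebra k S]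
    (s : Set S) (hs : Algebra.adjoin k s = ⊤) (hcard : Cardinal.mk s < Cardinal.mk k)
    (hinf : s.Infinite) (P : Ideal S) [hP : P.IsPrime] (f : S) (hf : f ∉ P) :
    ∃ m : Ideal S, m.IsMaximal ∧ P ≤ m ∧ f ∉ m := by
  classical
  let t : Set (Polynomial S) := (Polynomial.C '' s) ∪ {Polynomial.X}
  have ht : Algebra.adjoin k t = ⊤ := by
    rw [eq_top_iff]
    intro p hp0
    clear hp0
    induction p using Polynomial.induction_on' with
    | add p q hp hq => exact Subalgebra.add_mem _ hp hq
    | monomial n a =>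
      rw [← Polynomial.C_mul_X_pow_eq_monomial]
      refine Subalgebra.mul_mem _ ?_ (Subalgebra.pow_mem _
        (Algebra.subset_adjoin (show Polynomial.X ∈ t from Or.inr rfl)) n)
      have ha : a ∈ Algebra.adjoin k s := by rw [hs]; exact Algebra.mem_top
      induction ha using Algebra.adjoin_induction with
      | mem x hx =>
        exact Algebra.subset_adjoin (show Polynomial.C x ∈ t from Or.inl ⟨x, hx, rfl⟩)
      | algebraMap r =>
        rw [← Polynomial.algebraMap_apply]
        exact Subalgebra.algebraMap_mem _ r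
      | add x y _ _ hx hy => rw [map_add]; exact Subalgebra.add_mem _ hx hy
      | mul x y _ _ hx hy => rw [map_mul]; exact Subalgebra.mul_mem _ hx hy
  have hcard' : Cardinal.mk t < Cardinal.mk k := by
    have hinf' : Cardinal.aleph0 ≤ Cardinal.mk s :=
      Cardinal.infinite_iff.mp (Set.infinite_coe_iff.mpr hinf)
    calc Cardinal.mk t ≤ Cardinal.mk (Polynomial.C '' s) +
          Cardinal.mk ({Polynomial.X} : Set (Polynomial S)) := Cardinal.mk_union_le _ _
      _ ≤ Cardinal.mk s + 1 := add_le_add Cardinal.mk_image_le (by rw [Cardinal.mk_singleton])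
      _ < Cardinal.mk k := Cardinal.add_lt_of_lt (hinf'.trans hcard.le) hcard
          (lt_of_lt_of_le Cardinal.one_lt_aleph0 (hinf'.trans hcard.le))
  let φ : S →+* FractionRing (S ⧸ P) :=
    (algebraMap (S ⧸ P) (FractionRing (S ⧸ P))).comp (Ideal.Quotient.mk P)
  have hφf : φ f ≠ 0 := by
    intro h0
    apply hf
    have h1 : (Ideal.Quotient.mk P f) = 0 :=
      (map_eq_zero_iff _ (IsFractionRing.injective (S ⧸ P) (FractionRing (S ⧸ P)))).mp h0
    exact Ideal.Quotient.eq_zero_iff_mem.mp h1
  let ev : Polynomial S →+* FractionRing (S ⧸ P) := Polynomial.eval₂RingHom φ (φ f)⁻¹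
  let I : Ideal (Polynomial S) :=
    P.map Polynomial.C ⊔ Ideal.span {Polynomial.C f * Polynomial.X - 1}
  have hIker : I ≤ RingHom.ker ev := by
    apply sup_le
    · rw [Ideal.map_le_iff_le_comap]
      intro a ha
      rw [Ideal.mem_comap, RingHom.mem_ker]
      show Polynomial.eval₂ φ (φ f)⁻¹ (Polynomial.C a) = 0
      rw [Polynomial.eval₂_C]
      show algebraMap (S ⧸ P) (FractionRing (S ⧸ P)) (Ideal.Quotient.mk P a) = 0
      rw [Ideal.Quotient.eq_zero_iff_mem.mpr ha, map_zero]
    · rw [Ideal.span_le, Set.singleton_subset_iff, SetLike.mem_coe, RingHom.mem_ker]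
      show Polynomial.eval₂ φ (φ f)⁻¹ (Polynomial.C f * Polynomial.X - 1) = 0
      rw [Polynomial.eval₂_sub, Polynomial.eval₂_mul, Polynomial.eval₂_C, Polynomial.eval₂_X,
        Polynomial.eval₂_one, mul_inv_cancel₀ hφf, sub_self]
  have hI : I ≠ ⊤ := by
    intro htop
    have h1 : (1 : Polynomial S) ∈ RingHom.ker ev := hIker (htop ▸ Submodule.mem_top)
    rw [RingHom.mem_ker, map_one] at h1
    exact one_ne_zero h1
  obtain ⟨M, hM, hIM⟩ := Ideal.exists_le_maximal I hI
  haveI := hM
  haveI := hM.isPrime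
  have halgM : Algebra.IsAlgebraic k (Polynomial S ⧸ M) := part1 (Polynomial S) t ht hcard' M
  let m : Ideal S := Ideal.comap (Polynomial.CAlgHom : S →ₐ[k] Polynomial S) M
  haveI hmprime : m.IsPrime := Ideal.comap_isPrime _ M
  let ψ : S ⧸ m →ₐ[k] Polynomial S ⧸ M :=
    Ideal.quotientMapₐ M (Polynomial.CAlgHom : S →ₐ[k] Polynomial S) (le_refl _)
  have hψ : Function.Injective ψ := by
    rw [injective_iff_map_eq_zero]
    intro a ha
    obtain ⟨r, rfl⟩ := Ideal.Quotient.mk_surjective a
    have h1 : Ideal.Quotient.mk M ((Polynomial.CAlgHom : S →ₐ[k] Polynomial S) r) = 0 := ha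
    have h2 : (Polynomial.CAlgHom : S →ₐ[k] Polynomial S) r ∈ M :=
      Ideal.Quotient.eq_zero_iff_mem.mp h1
    exact Ideal.Quotient.eq_zero_iff_mem.mpr h2
  haveI : Algebra.IsAlgebraic k (S ⧸ m) := Algebra.IsAlgebraic.of_injective ψ hψ
  haveI : IsDomain (S ⧸ m) := Ideal.Quotient.isDomain m
  have hfield : IsField (S ⧸ m) :=
    isField_of_isIntegral_of_isField' (R := k) (Field.toIsField k)
  refine ⟨m, Ideal.Quotient.maximal_of_isField m hfield, ?_, ?_⟩
  · intro a ha
    show Polynomial.C a ∈ M
    exact hIM (Ideal.mem_sup_left (Ideal.mem_map_of_mem _ ha))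
  · intro hfm
    have h1 : Polynomial.C f ∈ M := hfm
    have h2 : Polynomial.C f * Polynomial.X - 1 ∈ M :=
      hIM (Ideal.mem_sup_right (Ideal.subset_span rfl))
    apply hM.ne_top
    rw [Ideal.eq_top_iff_one]
    have h3 : (1 : Polynomial S) =
        Polynomial.C f * Polynomial.X - (Polynomial.C f * Polynomial.X - 1) := by ring
    rw [h3]
    exact M.sub_mem (M.mul_mem_right _ h1) h2

end aux



/-- Let `k` be a field and `S` a `k`-algebra generated by a set of cardinality smaller than that of `k`.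
Then for every maximal ideal `𝔪` of `S` the residue field `S/𝔪` is algebraic over `k`, and `S` is a
Jacobson ring. -/
theorem result {k S : Type u} [Field k] [CommRing S] [Algebra k S]
    (s : Set S) (hs : Algebra.adjoin k s = ⊤) (hcard : Cardinal.mk s < Cardinal.mk k) :
    (∀ (m : Ideal S) [m.IsMaximal], Algebra.IsAlgebraic k (S ⧸ m)) ∧ IsJacobsonRing S := by
  classical
  refine ⟨fun m hm => part1 S s hs hcard m, ?_⟩
  by_cases hfin : s.Finite
  · haveI : Algebra.FiniteType k S :=
      ⟨⟨hfin.toFinset, by rw [Set.Finite.coe_toFinset]; exact hs⟩⟩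
    exact isJacobsonRing_of_finiteType (A := k) (B := S)
  · rw [isJacobsonRing_iff_prime_eq]
    intro P hP
    apply le_antisymm
    · intro f hf
      by_contra hfP
      obtain ⟨m, hmmax, hPm, hfm⟩ := jac_step S s hs hcard hfin P f hfP
      apply hfm
      rw [Ideal.jacobson, Ideal.mem_sInf] at hf
      exact hf ⟨hPm, hmmax⟩
    · exact Ideal.le_jacobson


end Groth.Agent.S2059
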