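import Groth.Statements.S2060
import Groth.Agent.LibSmallExt29
import Mathlib.RingTheory.Ideal.Quotient.PowTransition
-- import your own Groth.Agent.* helpers here

set_option autoImplicit false
universe u
open CAlg

namespace Groth.Agent.S2060

open IsLocalRing Groth.Agent.LibSmallExt29

lemma exists_descend {R P S L : Type*} [CommRing R] [CommRing P] [CommRing S] [CommRing L]
    [Algebra R P] [Algebra R S] [Algebra R L] [Algebra P S] [Algebra P L] [IsScalarTower R P S]
    [IsScalarTower R P L] (hsurj : Function.Surjective (algebraMap P S)) (𝔠 : Ideal L)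
    (h : ∀ j, algebraMap P S j = 0 → algebraMap P L j ∈ 𝔠) :
    ∃ g : S →ₐ[R] L ⧸ 𝔠, ∀ p, g (algebraMap P S p) = Ideal.Quotient.mk 𝔠 (algebraMap P L p) := by
  let g₀ : P →ₐ[R] (L ⧸ 𝔠) := (Ideal.Quotient.mkₐ R 𝔠).comp (IsScalarTower.toAlgHom R P L)
  let φ' : P →ₐ[R] S := IsScalarTower.toAlgHom R P S
  have hφ' : Function.Surjective φ' := hsurj
  have hle : RingHom.ker φ'.toRingHom ≤ RingHom.ker g₀.toRingHom := by
    intro j hj
    rw [RingHom.mem_ker]
    change Ideal.Quotient.mk _ (algebraMap P L j) = 0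
    rw [Ideal.Quotient.eq_zero_iff_mem]
    exact h j hj
  exact ⟨AlgHom.liftOfSurjective φ' hφ' g₀ hle, fun p =>
      AlgHom.liftOfSurjective_apply φ' hφ' g₀ hle p⟩

section Converse

variable {R S : Type u} [CommRing R] [IsNoetherianRing R] [CommRing S] [Algebra R S] {n : ℕ}
  [Algebra (MvPolynomial (Fin n) R) S] [IsScalarTower R (MvPolynomial (Fin n) R) S]
  (q : Ideal S) [q.IsPrime]

local notation "PP" => MvPolynomial (Fin n) R
local notation "LL" => Localization.AtPrime (Ideal.comap (algebraMap (MvPolynomial (Fin n) R) S) q)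
local notation "JL" => Ideal.map (algebraMap (MvPolynomial (Fin n) R)
  (Localization.AtPrime (Ideal.comap (algebraMap (MvPolynomial (Fin n) R) S) q)))
  (RingHom.ker (algebraMap (MvPolynomial (Fin n) R) S))

lemma lifting_imp (hsurj : Function.Surjective (algebraMap PP S))
    (Hyp : ∀ (B' B : Type u) [CommRing B'] [CommRing B] [IsLocalRing B'] [IsLocalRing B]
        [IsArtinianRing B'] [IsArtinianRing B] [Algebra R B'] [Algebra R B] (π : B' →ₐ[R] B),
        Function.Surjective π →
        (∃ t : B', RingHom.ker π.toRingHom = Ideal.span {t} ∧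
          ∀ a ∈ IsLocalRing.maximalIdeal B', a * t = 0) →
        ∀ g : S →ₐ[R] B, (IsLocalRing.maximalIdeal B).comap g = q →
          ∃ g' : S →ₐ[R] B', π.comp g' = g) :
    Algebra.FormallySmooth R (Localization.AtPrime q) := by
  apply formallySmooth_of_lifting hsurj q
  intro 𝔟 t ht𝔟 hmt hart heq
  have h𝔟top : 𝔟 ≠ ⊤ := fun h => ht𝔟 (h ▸ Submodule.mem_top)
  have hJle : JL ≤ maximalIdeal LL := by
    rw [← IsLocalization.AtPrime.map_eq_maximalIdeal
      (q.comap (algebraMap PP S)) LL]
    apply Ideal.map_mono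
    intro j hj
    rw [Ideal.mem_comap, (RingHom.mem_ker).mp hj]
    exact Ideal.zero_mem _
  have h𝔠top : 𝔟 ⊔ JL ≠ ⊤ := by
    intro h
    have hle := sup_le (IsLocalRing.le_maximalIdeal h𝔟top) hJle
    rw [h] at hle
    exact (maximalIdeal.isMaximal _).ne_top (top_le_iff.mp hle)
  have := isLocalRing_quotient 𝔟 h𝔟top
  have := isLocalRing_quotient _ h𝔠top
  have := hart
  let π : (LL ⧸ 𝔟) →ₐ[R] (LL ⧸ (𝔟 ⊔ JL)) :=
    Ideal.Quotient.factorₐ R (le_sup_left : 𝔟 ≤ 𝔟 ⊔ JL)
  have hπ : Function.Surjective π := Ideal.Quotient.factor_surjective le_sup_left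
  have : IsArtinianRing (LL ⧸ (𝔟 ⊔ JL)) := hπ.isArtinianRing
  have hkerπ : RingHom.ker π.toRingHom = Ideal.span {Ideal.Quotient.mk 𝔟 t} := by
    change RingHom.ker (Ideal.Quotient.factor le_sup_left) = _
    rw [Ideal.Quotient.factor_ker, heq, Ideal.map_sup, Ideal.map_quotient_self, bot_sup_eq,
      Ideal.map_span, Set.image_singleton]
  have hmt' : ∀ a ∈ maximalIdeal (LL ⧸ 𝔟), a * Ideal.Quotient.mk 𝔟 t = 0 := by
    intro a ha
    obtain ⟨a', rfl⟩ := Ideal.Quotient.mk_surjective a
    rw [mk_mem_maximalIdeal_iff 𝔟 h𝔟top] at ha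
    rw [← map_mul, Ideal.Quotient.eq_zero_iff_mem]
    exact hmt a' ha
  obtain ⟨g, hg⟩ := exists_descend (R := R) hsurj (𝔟 ⊔ JL) (fun j hj =>
    Ideal.mem_sup_right (Ideal.mem_map_of_mem _ (RingHom.mem_ker.mpr hj)))
  let φ' : PP →ₐ[R] S := IsScalarTower.toAlgHom R _ S
  have hgq : (maximalIdeal _).comap g = q := by
    ext s
    obtain ⟨p, rfl⟩ := hsurj s
    rw [Ideal.mem_comap, hg, mk_mem_maximalIdeal_iff _ h𝔠top,
      IsLocalization.AtPrime.to_map_mem_maximal_iff _ (q.comap (algebraMap PP S)),
      Ideal.mem_comap]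
  obtain ⟨g', hg'⟩ := Hyp _ _ π hπ ⟨Ideal.Quotient.mk 𝔟 t, hkerπ, hmt'⟩ g hgq
  refine ⟨g'.comp φ', fun j hj => ?_, fun p => ?_⟩
  · have : φ' j = 0 := hj
    rw [AlgHom.comp_apply, this, map_zero]
  · rw [← hkerπ, RingHom.mem_ker]
    have h1 : π (g' (φ' p)) = g (φ' p) := AlgHom.congr_fun hg' (φ' p)
    change π (g' (φ' p) - Ideal.Quotient.mk 𝔟 _) = 0
    rw [map_sub, h1]
    change g (algebraMap _ S p) - _ = 0
    rw [hg, sub_eq_zero]
    rfl

end Converse


/-- Let `R` be Noetherian, `S` of finite type over `R` and `𝔮` a prime of `S`. Then `R → S` is smooth at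
`𝔮` if and only if for every surjection `B' → B` of Artinian local `R`-algebras whose kernel is
principal and killed by the maximal ideal of `B'`, every `R`-algebra map `S → B` under which the
maximal ideal pulls back to `𝔮` lifts to `B'`. -/
theorem result {R S : Type u} [CommRing R] [IsNoetherianRing R]
    [CommRing S] [Algebra R S] [Algebra.FiniteType R S] (q : Ideal S) [q.IsPrime] :
    Algebra.IsSmoothAt R q ↔
      ∀ (B' B : Type u) [CommRing B'] [CommRing B] [IsLocalRing B'] [IsLocalRing B]
        [IsArtinianRing B'] [IsArtinianRing B] [Algebra R B'] [Algebra R B] (π : B' →ₐ[R] B),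
        Function.Surjective π →
        (∃ t : B', RingHom.ker π.toRingHom = Ideal.span {t} ∧
          ∀ a ∈ IsLocalRing.maximalIdeal B', a * t = 0) →
        ∀ g : S →ₐ[R] B, (IsLocalRing.maximalIdeal B).comap g = q →
          ∃ g' : S →ₐ[R] B', π.comp g' = g := by
  constructor
  · intro hsm B' B _ _ _ _ _ _ _ _ π hπ ht g hg
    obtain ⟨t, hker, hmt⟩ := ht
    have : Algebra.FormallySmooth R (Localization.AtPrime q) := hsm
    -- `g` extends to the localization
    have hunits : ∀ y : q.primeCompl, IsUnit (g.toRingHom (y : S)) := by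
      intro y
      by_contra hy
      have : (y : S) ∈ (maximalIdeal B).comap g := hy
      rw [hg] at this
      exact y.2 this
    let gq : Localization.AtPrime q →ₐ[R] B :=
      { IsLocalization.lift hunits with
        commutes' := fun r => by
          change IsLocalization.lift hunits (algebraMap R (Localization.AtPrime q) r) = _
          rw [IsScalarTower.algebraMap_apply R S (Localization.AtPrime q), IsLocalization.lift_eq]
          exact g.commutes r }
    have hnil : IsNilpotent (RingHom.ker (π : B' →+* B)) := by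
      refine ⟨2, ?_⟩
      have hk : RingHom.ker (π : B' →+* B) = Ideal.span {t} := hker
      have htm : t ∈ maximalIdeal B' := by
        by_contra htu
        have hu : IsUnit t := by
          by_contra h
          exact htu h
        have : RingHom.ker (π : B' →+* B) = ⊤ := by
          rw [hk]
          exact Ideal.span_singleton_eq_top.mpr hu
        exact (RingHom.ker_ne_top (π : B' →+* B)) this
      have h2 := pow_two (RingHom.ker (π : B' →+* B))
      rw [h2, hk, Ideal.zero_eq_bot, eq_bot_iff, Ideal.span_singleton_mul_span_singleton,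
        hmt t htm]
      simp
    let g'q : Localization.AtPrime q →ₐ[R] B' :=
      Algebra.FormallySmooth.liftOfSurjective gq π hπ hnil
    have hg'q : π.comp g'q = gq := Algebra.FormallySmooth.comp_liftOfSurjective gq π hπ hnil
    refine ⟨g'q.comp (IsScalarTower.toAlgHom R S (Localization.AtPrime q)), ?_⟩
    rw [← AlgHom.comp_assoc, hg'q]
    ext s
    change IsLocalization.lift hunits (algebraMap S (Localization.AtPrime q) s) = g s
    rw [IsLocalization.lift_eq]
    rfl
  · intro Hyp
    obtain ⟨n, φ, hφ⟩ := Algebra.FiniteType.iff_quotient_mvPolynomial''.mp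
      (inferInstance : Algebra.FiniteType R S)
    letI : Algebra (MvPolynomial (Fin n) R) S := φ.toAlgebra
    have : IsScalarTower R (MvPolynomial (Fin n) R) S :=
      IsScalarTower.of_algebraMap_eq' φ.comp_algebraMap.symm
    exact lifting_imp q hφ Hyp

end Groth.Agent.S2060
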