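import Groth.Statements.S2061
import Mathlib
import Groth.Agent.Lib.Helper26.SerreConverse

set_option autoImplicit false
universe u
open CategoryTheory
open CAlg

namespace Groth.Agent.S2061

/-- For a Noetherian local ring `R` write `𝔪` for its maximal ideal and `κ` for its residue field. The
projective dimension of `κ` as an `R`-module is at least the `κ`-dimension of `𝔪/𝔪²`: if `κ` has
projective dimension less than `d` then `dim_κ 𝔪/𝔪² < d`. -/
theorem result {R : Type u} [CommRing R] [IsLocalRing R]
    [IsNoetherianRing R] (d : ℕ)
    (hd : HasProjectiveDimensionLT (ModuleCat.of R (IsLocalRing.ResidueField R)) d) :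
    Module.finrank (IsLocalRing.ResidueField R) (IsLocalRing.CotangentSpace R) < d := by
  have hreg : IsRegularLocalRing R :=
    Groth.Agent.Lib.helper26.SerreConv.isRegularLocalRing_of_hasProjectiveDimensionLT R d hd
  obtain ⟨s, hscard, hsspan⟩ :=
    Submodule.FG.exists_span_finset_card_eq_spanFinrank
      (IsNoetherian.noetherian (IsLocalRing.maximalIdeal R))
  set n := (IsLocalRing.maximalIdeal R).spanFinrank with hn
  let e : Fin n ≃ s := (Finset.equivFinOfCardEq hscard).symm
  let x : Fin n → R := fun i => (e i : R)
  have hrange : Set.range x = (s : Set R) := by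
    ext z
    constructor
    · rintro ⟨i, rfl⟩
      exact (e i).2
    · intro hz
      exact ⟨e.symm ⟨z, hz⟩, by simp [x]⟩
  have hx : Ideal.span (Set.range x) = IsLocalRing.maximalIdeal R := by
    rw [hrange]
    exact hsspan
  have hwr := Groth.Agent.Lib.helper15.isWeaklyRegular_ofFn R n rfl x hx
  have hofList : Ideal.ofList (List.ofFn x) = IsLocalRing.maximalIdeal R := by
    rw [← hx]
    change Ideal.span {r | r ∈ List.ofFn x} = _
    congr 1
    ext z
    simp [List.mem_ofFn]
  have hregular : RingTheory.Sequence.IsRegular R (List.ofFn x) := by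
    refine ⟨hwr, ?_⟩
    rw [hofList, smul_eq_mul, Ideal.mul_top]
    exact (IsLocalRing.maximalIdeal.isMaximal R).ne_top.symm
  have hpd := ModuleCat.projectiveDimension_quotient_eq_length.{u} (List.ofFn x) hregular
  rw [List.length_ofFn, hofList] at hpd
  have hpd' : projectiveDimension (ModuleCat.of R (IsLocalRing.ResidueField R)) = (n : ℕ) := by
    rw [← hpd]
    exact ModuleCat.projectiveDimension_eq_of_linearEquiv (Shrink.linearEquiv R _).symm
  have hlt : projectiveDimension (ModuleCat.of R (IsLocalRing.ResidueField R)) < (d : ℕ) :=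
    (projectiveDimension_lt_iff).2 hd
  rw [hpd'] at hlt
  have hnd : n < d := by exact_mod_cast hlt
  rw [← IsLocalRing.spanFinrank_maximalIdeal_eq_finrank_cotangentSpace]
  exact hnd


end Groth.Agent.S2061
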