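import Groth.Statements.S2068
import Mathlib
import Groth.Agent.Lib.Helper23.DRingPC9
-- import your own Groth.Agent.* helpers here

set_option autoImplicit false
universe u
open CategoryTheory
attribute [local instance] HasDerivedCategory.standard
open CAlg

namespace Groth.Agent.S2068

/-- If `K` is `m`-pseudo-coherent in `D(A)`, its cohomology in degree `m` is a finitely generated module
when nothing above degree `m` survives, and its cohomology in degree `m+1` is finitely presented
when nothing above degree `m+1` survives. -/
theorem result {A : Type u} [CommRing A] (K : Dual.D A) (m : ℤ)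
    (hK : DRing.IsPseudoCoherent A m K) :
    ((∀ i : ℤ, m < i → Limits.IsZero ((DerivedCategory.homologyFunctor (ModuleCat.{u} A) i).obj K)) →
        Module.Finite A ((DerivedCategory.homologyFunctor (ModuleCat.{u} A) m).obj K)) ∧
      ((∀ i : ℤ, m + 1 < i → Limits.IsZero ((DerivedCategory.homologyFunctor (ModuleCat.{u} A) i).obj K)) →
        Module.FinitePresentation A ((DerivedCategory.homologyFunctor (ModuleCat.{u} A) (m + 1)).obj K)) := by
  have hK' := (Groth.Agent.Lib.helper23.DRingPC.isPseudoCoherent_iff_npc A m K).1 hK
  refine ⟨fun hac => ?_, fun hac => ?_⟩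
  · exact (Groth.Agent.Lib.helper23.DRingPC.isOfFiniteType_iff_finite A _).1
      ((Groth.Agent.Lib.helper23.PCohCore.npc_iff_isOfFiniteType
        (Groth.Agent.Lib.helper23.DRingPC.FF A) (Groth.Agent.Lib.helper23.DRingPC.FF_sum A)
        (Groth.Agent.Lib.helper23.DRingPC.FF_hqs A) (Groth.Agent.Lib.helper23.DRingPC.FF_hql A)
        m K hac).1 hK')
  · exact (Groth.Agent.Lib.helper23.DRingPC.npc_negOne_single_iff_finitePresentation A _).1
      (Groth.Agent.Lib.helper23.PCohCore.NPC.single_top_homology
        (Groth.Agent.Lib.helper23.DRingPC.FF A) (Groth.Agent.Lib.helper23.DRingPC.FF_sum A)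
        (Groth.Agent.Lib.helper23.DRingPC.FF_hqs A) (Groth.Agent.Lib.helper23.DRingPC.FF_hql A)
        m K hK' hac)

end Groth.Agent.S2068
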