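import Groth.Statements.S2071
import Mathlib

set_option autoImplicit false
universe u
open CAlg

namespace Groth.Agent.S2071

/-- Lemma A: a separable element outside `F` has a conjugate `y ≠ x` in the algebraic closure,
and all translates by `F` have equal powers. -/
theorem lemA {F K : Type u} [Field F] [Field K] [Algebra F K]
    (H : ∀ x : K, ∃ n : ℕ, 0 < n ∧ x ^ n ∈ Set.range (algebraMap F K))
    (x : K) (hsep : IsSeparable F x) (hx : x ∉ Set.range (algebraMap F K)) :
    ∃ y : AlgebraicClosure K, y ≠ algebraMap K (AlgebraicClosure K) x ∧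
      ∀ c : F, ∃ n : ℕ, 0 < n ∧
        (y + algebraMap F (AlgebraicClosure K) c) ^ n =
          (algebraMap K (AlgebraicClosure K) x + algebraMap F (AlgebraicClosure K) c) ^ n := by
  classical
  have hint : IsIntegral F x := hsep.isIntegral
  have hμsep : (minpoly F x).Separable := hsep
  have hdeg : 2 ≤ (minpoly F x).natDegree :=
    (minpoly.two_le_natDegree_iff hint).2 (fun h => hx (RingHom.mem_range.1 h))
  have hcard : Fintype.card ((minpoly F x).rootSet (AlgebraicClosure K)) =
      (minpoly F x).natDegree :=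
    Polynomial.card_rootSet_eq_natDegree hμsep (IsAlgClosed.splits _)
  have hx0 : algebraMap K (AlgebraicClosure K) x ∈
      (minpoly F x).rootSet (AlgebraicClosure K) := by
    rw [Polynomial.mem_rootSet]
    refine ⟨minpoly.ne_zero hint, ?_⟩
    rw [Polynomial.aeval_algebraMap_apply, minpoly.aeval, map_zero]
  obtain ⟨⟨y, hy⟩, hne⟩ :=
    Fintype.exists_ne_of_one_lt_card (by rw [hcard]; omega)
      (⟨_, hx0⟩ : (minpoly F x).rootSet (AlgebraicClosure K))
  refine ⟨y, fun h => hne (Subtype.ext h), fun c => ?_⟩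
  obtain ⟨n, hn, a, ha⟩ := H (x + algebraMap F K c)
  refine ⟨n, hn, ?_⟩
  have hq : Polynomial.aeval x
      ((Polynomial.X + Polynomial.C c) ^ n - Polynomial.C a : Polynomial F) = 0 := by
    simp only [map_sub, map_pow, map_add, Polynomial.aeval_X, Polynomial.aeval_C]
    rw [ha, sub_self]
  have hdvd := minpoly.dvd F x hq
  have hy0 : Polynomial.aeval y (minpoly F x) = 0 := (Polynomial.mem_rootSet.1 hy).2
  have hyq := Polynomial.aeval_eq_zero_of_dvd_aeval_eq_zero hdvd hy0
  have h1 : (y + algebraMap F (AlgebraicClosure K) c) ^ n =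
      algebraMap F (AlgebraicClosure K) a := by
    simp only [map_sub, map_pow, map_add, Polynomial.aeval_X, Polynomial.aeval_C] at hyq
    exact sub_eq_zero.1 hyq
  rw [h1, IsScalarTower.algebraMap_apply F K (AlgebraicClosure K) a, ha, map_pow, map_add,
    ← IsScalarTower.algebraMap_apply F K (AlgebraicClosure K) c]

/-- Lemma B: under the hypotheses (and the output of Lemma A), `K` is algebraic over any
field `P` it is an algebra over. -/
theorem lemB {F K : Type u} [Field F] [Field K] [Algebra F K]
    (P : Type*) [Field P] [Algebra P K]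
    (H : ∀ x : K, ∃ n : ℕ, 0 < n ∧ x ^ n ∈ Set.range (algebraMap F K))
    (x : K) (hx : x ∉ Set.range (algebraMap F K))
    (y : AlgebraicClosure K) (hy : y ≠ algebraMap K (AlgebraicClosure K) x)
    (hc : ∀ c : F, ∃ n : ℕ, 0 < n ∧
        (y + algebraMap F (AlgebraicClosure K) c) ^ n =
          (algebraMap K (AlgebraicClosure K) x + algebraMap F (AlgebraicClosure K) c) ^ n) :
    Algebra.IsAlgebraic P K := by
  obtain ⟨A, hA⟩ : ∃ A : IntermediateField P (AlgebraicClosure K),
      A = algebraicClosure P (AlgebraicClosure K) := ⟨_, rfl⟩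
  have hmem : ∀ z : AlgebraicClosure K, z ∈ A ↔ IsAlgebraic P z := fun z => by
    rw [hA]; exact mem_algebraicClosure_iff
  obtain ⟨X, hX⟩ : ∃ X : AlgebraicClosure K, X = algebraMap K (AlgebraicClosure K) x :=
    ⟨_, rfl⟩
  rw [← hX] at hy hc
  have hroot : ∀ (ζ : AlgebraicClosure K) (n : ℕ), 0 < n → ζ ^ n = 1 → ζ ∈ A :=
    fun ζ n hn h => (hmem ζ).2 (IsAlgebraic.of_pow hn (h ▸ isAlgebraic_one))
  have hXc : ∀ c : F, X + algebraMap F (AlgebraicClosure K) c ≠ 0 := by
    intro c h0
    apply hx
    refine ⟨-c, ?_⟩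
    have h1 : algebraMap K (AlgebraicClosure K) (x + algebraMap F K c) = 0 := by
      rw [map_add, ← IsScalarTower.algebraMap_apply, ← hX]; exact h0
    have h2 : x + algebraMap F K c = 0 :=
      (map_eq_zero (algebraMap K (AlgebraicClosure K))).1 h1
    rw [map_neg]; exact (eq_neg_of_add_eq_zero_left h2).symm
  have ht : y - X ≠ 0 := sub_ne_zero.2 hy
  have key : ∀ c : F, ∃ ζ ∈ A, ζ - 1 ≠ 0 ∧
      X + algebraMap F (AlgebraicClosure K) c = (y - X) * (ζ - 1)⁻¹ := by
    intro c
    obtain ⟨n, hn, hpow⟩ := hc c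
    have hne := hXc c
    have hmul : ((y + algebraMap F (AlgebraicClosure K) c) /
        (X + algebraMap F (AlgebraicClosure K) c) - 1) *
        (X + algebraMap F (AlgebraicClosure K) c) = y - X := by
      rw [sub_mul, div_mul_cancel₀ _ hne, one_mul]; ring
    have hζ1 : (y + algebraMap F (AlgebraicClosure K) c) /
        (X + algebraMap F (AlgebraicClosure K) c) - 1 ≠ 0 := by
      intro h0
      rw [h0, zero_mul] at hmul
      exact ht hmul.symm
    refine ⟨(y + algebraMap F (AlgebraicClosure K) c) /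
      (X + algebraMap F (AlgebraicClosure K) c), ?_, hζ1, ?_⟩
    · apply hroot _ n hn
      rw [div_pow, hpow, div_self (pow_ne_zero n hne)]
    · exact (eq_mul_inv_iff_mul_eq₀ hζ1).2 (by rw [mul_comm]; exact hmul)
  obtain ⟨ζ0, hζ0A, hζ0, h0⟩ := key 0
  obtain ⟨ζ1, hζ1A, hζ1, h1⟩ := key 1
  rw [map_zero, add_zero] at h0
  rw [map_one] at h1
  have htu : (y - X) * ((ζ1 - 1)⁻¹ - (ζ0 - 1)⁻¹) = 1 := by
    rw [mul_sub, ← h1, ← h0]; ring
  have htA : y - X ∈ A := by
    rw [eq_inv_of_mul_eq_one_left htu]
    exact inv_mem (sub_mem (inv_mem (sub_mem hζ1A (one_mem A)))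
      (inv_mem (sub_mem hζ0A (one_mem A))))
  have hXcA : ∀ c : F, X + algebraMap F (AlgebraicClosure K) c ∈ A := by
    intro c
    obtain ⟨ζ, hζA, _, h⟩ := key c
    rw [h]
    exact mul_mem htA (inv_mem (sub_mem hζA (one_mem A)))
  have hXA : X ∈ A := by
    have := hXcA 0
    rwa [map_zero, add_zero] at this
  have hcA : ∀ c : F, algebraMap F (AlgebraicClosure K) c ∈ A := by
    intro c
    have := sub_mem (hXcA c) hXA
    rwa [add_sub_cancel_left] at this
  refine ⟨fun z => ?_⟩
  obtain ⟨n, hn, a, ha⟩ := H z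
  have h1 : IsAlgebraic P (algebraMap F (AlgebraicClosure K) a) := (hmem _).1 (hcA a)
  have h2 : algebraMap F (AlgebraicClosure K) a =
      (algebraMap K (AlgebraicClosure K) z) ^ n := by
    rw [IsScalarTower.algebraMap_apply F K (AlgebraicClosure K), ha, map_pow]
  rw [h2] at h1
  have h3 := IsAlgebraic.of_pow hn h1
  exact (isAlgebraic_algebraMap_iff (algebraMap K (AlgebraicClosure K)).injective).1 h3

/-- Lemma C: in characteristic zero, the conclusion of Lemma A is contradictory
(a number field has finitely many roots of unity). -/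
theorem lemC {K : Type u} [Field K] [CharZero K] [Algebra.IsAlgebraic ℚ K]
    (X y : AlgebraicClosure K) (hne : y ≠ X)
    (hX : ∀ c : ℕ, X + (c : AlgebraicClosure K) ≠ 0)
    (h : ∀ c : ℕ, ∃ n : ℕ, 0 < n ∧
      (y + (c : AlgebraicClosure K)) ^ n = (X + (c : AlgebraicClosure K)) ^ n) : False := by
  have halg : Algebra.IsAlgebraic ℚ (AlgebraicClosure K) :=
    Algebra.IsAlgebraic.trans ℚ K (AlgebraicClosure K)
  obtain ⟨L, hL⟩ : ∃ L : IntermediateField ℚ (AlgebraicClosure K),
      L = IntermediateField.adjoin ℚ {X, y} := ⟨_, rfl⟩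
  have hXL : X ∈ L := by rw [hL]; exact IntermediateField.subset_adjoin ℚ _ (by simp)
  have hyL : y ∈ L := by rw [hL]; exact IntermediateField.subset_adjoin ℚ _ (by simp)
  have hfd : FiniteDimensional ℚ L := by
    rw [hL]
    exact IntermediateField.finiteDimensional_adjoin_pair
      (Algebra.IsIntegral.isIntegral X) (Algebra.IsIntegral.isIntegral y)
  have hCZ : CharZero L := charZero_of_injective_algebraMap (algebraMap ℚ L).injective
  have hNF : NumberField L := { to_charZero := hCZ, to_finiteDimensional := hfd }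
  have hfin := NumberField.Embeddings.finite_of_norm_le L ℂ 1
  have hmemL : ∀ c : ℕ, (y + (c : AlgebraicClosure K)) / (X + (c : AlgebraicClosure K)) ∈ L :=
    fun c => div_mem (add_mem hyL (natCast_mem L c)) (add_mem hXL (natCast_mem L c))
  obtain ⟨f, hf⟩ : ∃ f : ℕ → L, ∀ c, ((f c : L) : AlgebraicClosure K) =
      (y + (c : AlgebraicClosure K)) / (X + (c : AlgebraicClosure K)) :=
    ⟨fun c => ⟨_, hmemL c⟩, fun c => rfl⟩
  have hf_inj : Function.Injective f := by
    intro c d hcd
    have h1 : (y + (c : AlgebraicClosure K)) / (X + c) = (y + d) / (X + d) := by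
      rw [← hf c, ← hf d, hcd]
    rw [div_eq_div_iff (hX c) (hX d)] at h1
    have h2 : (y - X) * ((d : AlgebraicClosure K) - c) = 0 := by linear_combination h1
    rcases mul_eq_zero.1 h2 with h3 | h3
    · exact absurd (sub_eq_zero.1 h3) hne
    · exact (Nat.cast_injective (sub_eq_zero.1 h3)).symm
  have hf_mem : ∀ c, f c ∈ {x : L | IsIntegral ℤ x ∧ ∀ φ : L →+* ℂ, ‖φ x‖ ≤ 1} := by
    intro c
    obtain ⟨n, hn, hpow⟩ := h c
    have h1 : (f c) ^ n = 1 := by
      apply Subtype.ext
      rw [IntermediateField.coe_pow, IntermediateField.coe_one, hf c, div_pow, hpow,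
        div_self (pow_ne_zero n (hX c))]
    refine ⟨IsIntegral.of_pow hn (h1 ▸ isIntegral_one), fun φ => ?_⟩
    have h2 : (φ (f c)) ^ n = 1 := by rw [← map_pow, h1, map_one]
    exact (Complex.norm_eq_one_of_pow_eq_one h2 hn.ne').le
  exact (Set.infinite_of_injective_forall_mem hf_inj hf_mem) hfin

/-- algebraic over `ZMod p` implies algebraic over the prime subfield. -/
theorem algebraic_bot_of_zmod {K : Type u} [Field K] (p : ℕ) [Fact p.Prime]
    [Algebra (ZMod p) K] [Algebra.IsAlgebraic (ZMod p) K] :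
    Algebra.IsAlgebraic (⊥ : Subfield K) K := by
  have hbot := Subfield.bot_eq_of_zMod_algebra (K := K) p
  obtain ⟨φ, hφ⟩ : ∃ φ : ZMod p →+* (⊥ : Subfield K),
      ∀ a, ((φ a : (⊥ : Subfield K)) : K) = algebraMap (ZMod p) K a :=
    ⟨(algebraMap (ZMod p) K).codRestrict (⊥ : Subfield K) (fun a => by
      rw [hbot]; exact RingHom.mem_fieldRange.2 ⟨a, rfl⟩), fun a => rfl⟩
  refine ⟨fun z => ?_⟩
  have hz : IsAlgebraic (ZMod p) z := Algebra.IsAlgebraic.isAlgebraic z
  exact hz.ringHom_of_comp_eq φ (RingHom.id K) φ.injective (RingHom.ext fun a => hφ a)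

/-- a nonzero element algebraic over the prime field in char `p` is a root of unity. -/
theorem pow_eq_one_of_algebraic_bot {K : Type u} [Field K] (p : ℕ) [Fact p.Prime] [CharP K p]
    (x : K) (hx0 : x ≠ 0) (hx : IsAlgebraic (⊥ : Subfield K) x) :
    ∃ n : ℕ, 0 < n ∧ x ^ n = 1 := by
  let _ft : Fintype (⊥ : Subfield K) := Subfield.fintypeBot K p
  have hfd : FiniteDimensional (⊥ : Subfield K)
      (IntermediateField.adjoin (⊥ : Subfield K) {x}) :=
    IntermediateField.adjoin.finiteDimensional hx.isIntegral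
  have hfin : Finite (IntermediateField.adjoin (⊥ : Subfield K) {x}) :=
    Module.finite_of_finite (⊥ : Subfield K)
  obtain ⟨xE, hxE⟩ : ∃ xE : IntermediateField.adjoin (⊥ : Subfield K) {x}, (xE : K) = x :=
    ⟨⟨x, IntermediateField.mem_adjoin_simple_self _ x⟩, rfl⟩
  have hxE0 : xE ≠ 0 := by
    intro h
    apply hx0
    rw [← hxE, h, IntermediateField.coe_zero]
  obtain ⟨n, hn, hpow⟩ :=
    isOfFinOrder_iff_pow_eq_one.1 (isOfFinOrder_of_finite (Units.mk0 xE hxE0))
  refine ⟨n, hn, ?_⟩
  have h1 : xE ^ n = 1 := by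
    have := congrArg Units.val hpow
    rwa [Units.val_pow_eq_pow_val, Units.val_mk0, Units.val_one] at this
  have h2 := congrArg Subtype.val h1
  rw [IntermediateField.coe_pow, IntermediateField.coe_one, hxE] at h2
  exact h2



/-- For a field extension `k'/k`, every element of `k'` has a positive power in `k` if and only if
either `k' = k`, or the characteristic is a prime `p` and either `k'/k` is purely inseparable or
`k'` is algebraic over its prime field. -/
theorem result {k k' : Type u} [Field k] [Field k'] [Algebra k k'] :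
    (∀ x : k', ∃ n : ℕ, 0 < n ∧ x ^ n ∈ Set.range (algebraMap k k')) ↔
      Function.Surjective (algebraMap k k') ∨
        ∃ p : ℕ, p.Prime ∧ CharP k' p ∧
          (IsPurelyInseparable k k' ∨ Algebra.IsAlgebraic (⊥ : Subfield k') k') := by
  constructor
  · intro H
    by_cases hs : Function.Surjective (algebraMap k k')
    · exact Or.inl hs
    right
    have halg : Algebra.IsAlgebraic k k' := ⟨fun z => by
      obtain ⟨n, hn, a, ha⟩ := H z
      exact IsAlgebraic.of_pow hn (ha ▸ isAlgebraic_algebraMap a)⟩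
    have hexists : ¬ IsPurelyInseparable k k' →
        ∃ x : k', IsSeparable k x ∧ x ∉ Set.range (algebraMap k k') := by
      intro hPI
      by_contra hcon
      apply hPI
      rw [isPurelyInseparable_iff]
      intro x
      refine ⟨(Algebra.IsAlgebraic.isAlgebraic x).isIntegral, fun hsep => ?_⟩
      by_contra hx
      exact hcon ⟨x, hsep, fun h => hx (RingHom.mem_range.2 h)⟩
    have hchar : CharP k' (ringChar k') := ringChar.charP k'
    rcases CharP.char_is_prime_or_zero k' (ringChar k') with hp | h0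
    · refine ⟨ringChar k', hp, hchar, ?_⟩
      by_cases hPI : IsPurelyInseparable k k'
      · exact Or.inl hPI
      right
      obtain ⟨x, hsep, hx⟩ := hexists hPI
      obtain ⟨y, hy, hc⟩ := lemA H x hsep hx
      have hfact : Fact (ringChar k').Prime := ⟨hp⟩
      let _alg : Algebra (ZMod (ringChar k')) k' := ZMod.algebra k' (ringChar k')
      have hZ : Algebra.IsAlgebraic (ZMod (ringChar k')) k' :=
        lemB (ZMod (ringChar k')) H x hx y hy hc
      exact algebraic_bot_of_zmod (ringChar k')
    · exfalso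
      rw [h0] at hchar
      have hCZ : CharZero k' := CharP.charP_to_charZero k'
      by_cases hPI : IsPurelyInseparable k k'
      · have hCZk : CharZero k := (algebraMap k k').charZero
        exact hs (IsPurelyInseparable.surjective_algebraMap_of_isSeparable k k')
      · obtain ⟨x, hsep, hx⟩ := hexists hPI
        obtain ⟨y, hy, hc⟩ := lemA H x hsep hx
        have hQ : Algebra.IsAlgebraic ℚ k' := lemB ℚ H x hx y hy hc
        refine lemC (algebraMap k' (AlgebraicClosure k') x) y hy ?_ ?_
        · intro c h0'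
          apply hx
          refine ⟨-(c : k), ?_⟩
          have h1 : algebraMap k' (AlgebraicClosure k') (x + (c : k')) = 0 := by
            rw [map_add, map_natCast]; exact h0'
          have h2 : x + (c : k') = 0 :=
            (map_eq_zero (algebraMap k' (AlgebraicClosure k'))).1 h1
          rw [map_neg, map_natCast]; exact (eq_neg_of_add_eq_zero_left h2).symm
        · intro c
          obtain ⟨n, hn, h⟩ := hc (c : k)
          rw [map_natCast] at h
          exact ⟨n, hn, h⟩
  · rintro (hs | ⟨p, hp, hchar, hPI | halg⟩) x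
    · obtain ⟨a, ha⟩ := hs x
      exact ⟨1, one_pos, a, by rw [pow_one, ha]⟩
    · have hck : CharP k p := (algebraMap k k').charP (algebraMap k k').injective p
      have hek : ExpChar k p := ExpChar.prime hp
      obtain ⟨n, hn⟩ := IsPurelyInseparable.pow_mem k p x
      exact ⟨p ^ n, pow_pos hp.pos n, RingHom.mem_range.1 hn⟩
    · by_cases hx0 : x = 0
      · exact ⟨1, one_pos, 0, by rw [hx0, pow_one, map_zero]⟩
      have hfact : Fact p.Prime := ⟨hp⟩
      obtain ⟨n, hn, hxn⟩ :=
        pow_eq_one_of_algebraic_bot p x hx0 (Algebra.IsAlgebraic.isAlgebraic x)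
      exact ⟨n, hn, 1, by rw [hxn, map_one]⟩


end Groth.Agent.S2071
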