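import Groth.Statements.S2073
import Mathlib

set_option autoImplicit false
universe u
open CAlg

namespace Groth.Agent.S2073

set_option linter.style.haveILetI false

section Helpers
open MvPolynomial

theorem stage1 {R S : Type u} [CommRing R] [IsDomain R] [CommRing S] [Algebra R S]
    [Algebra.FiniteType R S] (hinj : Function.Injective (algebraMap R S)) :
    ∃ (d : ℕ) (y : Fin d → S)
      (g : MvPolynomial (Fin d) (FractionRing R) →ₐ[FractionRing R]
        Localization (Algebra.algebraMapSubmonoid S (nonZeroDivisors R))),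
      Function.Injective g ∧ g.IsIntegral ∧ ∀ i, g (X i) = algebraMap S _ (y i) := by
  classical
  set K := FractionRing R with hK
  set T := Localization (Algebra.algebraMapSubmonoid S (nonZeroDivisors R)) with hT
  have hKT : Function.Injective (algebraMap K T) :=
    localizationAlgebra_injective (Rₘ := K) (Sₘ := T) hinj
  haveI : Nontrivial T := hKT.nontrivial
  haveI : IsLocalization ((nonZeroDivisors R).map (algebraMap R S)) T :=
    inferInstanceAs (IsLocalization (Algebra.algebraMapSubmonoid S (nonZeroDivisors R)) T)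
  haveI : Algebra.FiniteType K T := by
    have h1 : (algebraMap R S).FiniteType := RingHom.finiteType_algebraMap.mpr inferInstance
    have h2 := RingHom.finiteType_localizationPreserves (algebraMap R S) (nonZeroDivisors R) K T h1
    exact RingHom.finiteType_algebraMap.mp h2
  obtain ⟨d, g, hginj, hgint⟩ := exists_integral_inj_algHom_of_fg K T
  -- denominators
  have hden : ∀ i : Fin d, ∃ (s : S) (c : R), c ∈ nonZeroDivisors R ∧
      algebraMap K T (algebraMap R K c) * g (X i) = algebraMap S T s := by
    intro i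
    obtain ⟨⟨s, ⟨_, c, hc, rfl⟩⟩, hs⟩ := IsLocalization.surj
      (Algebra.algebraMapSubmonoid S (nonZeroDivisors R)) (g (X i))
    refine ⟨s, c, hc, ?_⟩
    simp only at hs
    rw [← hs, mul_comm, ← IsScalarTower.algebraMap_apply, IsScalarTower.algebraMap_apply R S T]
  choose s c hc hsc using hden
  have hcK : ∀ i, algebraMap R K (c i) ≠ 0 := fun i =>
    IsFractionRing.to_map_ne_zero_of_mem_nonZeroDivisors (hc i)
  let ρ : MvPolynomial (Fin d) K →ₐ[K] MvPolynomial (Fin d) K :=
    aeval (fun i => C (algebraMap R K (c i)) * X i)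
  let ρ' : MvPolynomial (Fin d) K →ₐ[K] MvPolynomial (Fin d) K :=
    aeval (fun i => C (algebraMap R K (c i))⁻¹ * X i)
  have h1 : ρ'.comp ρ = AlgHom.id K _ := by
    apply MvPolynomial.algHom_ext
    intro i
    simp only [AlgHom.comp_apply, ρ, ρ', aeval_X, map_mul, AlgHom.id_apply, algHom_C]
    rw [MvPolynomial.algebraMap_eq]
    have hCC : (C (algebraMap R K (c i)) : MvPolynomial (Fin d) K) * C (algebraMap R K (c i))⁻¹ = 1 := by
      rw [← C_mul, mul_inv_cancel₀ (hcK i), C_1]
    linear_combination (X i) * hCC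
  have h2 : ρ.comp ρ' = AlgHom.id K _ := by
    apply MvPolynomial.algHom_ext
    intro i
    simp only [AlgHom.comp_apply, ρ, ρ', aeval_X, map_mul, AlgHom.id_apply, algHom_C]
    rw [MvPolynomial.algebraMap_eq]
    have hCC : (C (algebraMap R K (c i)) : MvPolynomial (Fin d) K) * C (algebraMap R K (c i))⁻¹ = 1 := by
      rw [← C_mul, mul_inv_cancel₀ (hcK i), C_1]
    linear_combination (X i) * hCC
  have hρinj : Function.Injective ρ := by
    intro a b hab
    have := congrArg ρ' hab
    rwa [← AlgHom.comp_apply, ← AlgHom.comp_apply, h1] at this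
  have hρsurj : Function.Surjective ρ := by
    intro a
    refine ⟨ρ' a, ?_⟩
    rw [← AlgHom.comp_apply, h2]
    rfl
  refine ⟨d, s, g.comp ρ, hginj.comp hρinj, ?_, ?_⟩
  · exact RingHom.IsIntegral.trans _ _ (RingHom.isIntegral_of_surjective _ hρsurj) hgint
  · intro i
    rw [AlgHom.comp_apply]
    simp only [ρ, aeval_X, map_mul, algHom_C]
    exact hsc i


theorem stage2 {R S : Type u} [CommRing R] [IsDomain R] [CommRing S] [Algebra R S]
    (d : ℕ) (y : Fin d → S)
    (g : MvPolynomial (Fin d) (FractionRing R) →ₐ[FractionRing R]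
        Localization (Algebra.algebraMapSubmonoid S (nonZeroDivisors R)))
    (hginj : Function.Injective g) (hgint : g.IsIntegral)
    (hgy : ∀ i, g (X i) = algebraMap S _ (y i)) :
    AlgebraicIndependent R y ∧
      ∀ t : S, ∃ r : R, r ≠ 0 ∧ (aeval y : MvPolynomial (Fin d) R →ₐ[R] S).toRingHom.IsIntegralElem (r • t) := by
  classical
  set K := FractionRing R with hK
  set T := Localization (Algebra.algebraMapSubmonoid S (nonZeroDivisors R)) with hT
  set A := MvPolynomial (Fin d) R with hA
  -- compatibility
  have hcomp : (g : MvPolynomial (Fin d) K →+* T).comp (MvPolynomial.map (algebraMap R K)) =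
      (algebraMap S T).comp (aeval y : A →ₐ[R] S).toRingHom := by
    apply MvPolynomial.ringHom_ext
    · intro r
      rw [RingHom.comp_apply, RingHom.comp_apply, MvPolynomial.map_C]
      change g (C (algebraMap R K r)) = algebraMap S T (aeval y (C r))
      rw [aeval_C, ← MvPolynomial.algebraMap_eq, AlgHom.commutes,
        ← IsScalarTower.algebraMap_apply, ← IsScalarTower.algebraMap_apply]
    · intro i
      simp only [RingHom.comp_apply, map_X, AlgHom.toRingHom_eq_coe, RingHom.coe_coe, aeval_X]
      exact hgy i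
  refine ⟨?_, ?_⟩
  · rw [algebraicIndependent_iff_injective_aeval]
    intro p q hpq
    have h1 := congrArg (algebraMap S T) hpq
    have h2 : ∀ p : A, algebraMap S T (aeval y p) = g (MvPolynomial.map (algebraMap R K) p) :=
      fun p => (RingHom.congr_fun hcomp p).symm
    rw [h2, h2] at h1
    exact MvPolynomial.map_injective _ (IsFractionRing.injective R K) (hginj h1)
  · intro t
    letI algKYA : Algebra A (MvPolynomial (Fin d) K) := MvPolynomial.algebraMvPolynomial
    letI algAS : Algebra A S := (aeval y : A →ₐ[R] S).toRingHom.toAlgebra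
    letI algKYT : Algebra (MvPolynomial (Fin d) K) T := (g : MvPolynomial (Fin d) K →+* T).toAlgebra
    haveI : IsScalarTower A (MvPolynomial (Fin d) K) T :=
      IsScalarTower.of_algebraMap_eq (fun p => by
        rw [IsScalarTower.algebraMap_apply A S T]
        exact (RingHom.congr_fun hcomp p).symm)
    haveI : IsLocalization ((nonZeroDivisors R).map (C (σ := Fin d)))
        (MvPolynomial (Fin d) K) := MvPolynomial.isLocalization (nonZeroDivisors R) K
    have hint : IsIntegral (MvPolynomial (Fin d) K) (algebraMap S T t) := hgint _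
    obtain ⟨⟨m, r, hr, rfl⟩, hm⟩ := IsIntegral.exists_multiple_integral_of_isLocalization
      ((nonZeroDivisors R).map (C (σ := Fin d))) (algebraMap S T t) hint
    have hm' : IsIntegral A (algebraMap S T (r • t)) := by
      have : (⟨C r, r, hr, rfl⟩ : (nonZeroDivisors R).map (C (σ := Fin d))) • algebraMap S T t =
          algebraMap S T (r • t) := by
        rw [Submonoid.smul_def, Algebra.smul_def]
        change algebraMap S T (aeval y (C r)) * _ = _
        rw [aeval_C, ← map_mul, ← Algebra.smul_def]
      rw [← this]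
      exact hm
    haveI : IsLocalization
        (Algebra.algebraMapSubmonoid S ((nonZeroDivisors R).map (C (σ := Fin d)))) T := by
      have heq : Algebra.algebraMapSubmonoid S ((nonZeroDivisors R).map (C (σ := Fin d))) =
          Algebra.algebraMapSubmonoid S (nonZeroDivisors R) := by
        ext x
        simp only [Algebra.algebraMapSubmonoid, Submonoid.mem_map]
        constructor
        · rintro ⟨_, ⟨r', hr', rfl⟩, rfl⟩
          refine ⟨r', hr', ?_⟩
          change _ = aeval y (C r')
          rw [aeval_C]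
        · rintro ⟨r', hr', rfl⟩
          refine ⟨C r', ⟨r', hr', rfl⟩, ?_⟩
          change aeval y (C r') = _
          rw [aeval_C]
      rw [heq]
      infer_instance
    obtain ⟨m', ⟨r', hr', rfl⟩, hm''⟩ := IsLocalization.exists_isIntegral_smul_of_isIntegral_map
      (R := A) (S := S) (Sₘ := T) ((nonZeroDivisors R).map (C (σ := Fin d))) hm'
    refine ⟨r' * r, mul_ne_zero (nonZeroDivisors.ne_zero hr') (nonZeroDivisors.ne_zero hr), ?_⟩
    have : (C r' : A) • (r • t) = (r' * r) • t := by
      rw [Algebra.smul_def]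
      change aeval y (C r') * _ = _
      rw [aeval_C, ← Algebra.smul_def, smul_smul]
    rw [← this]
    exact hm''


theorem stage3 {R S : Type u} [CommRing R] [IsDomain R] [CommRing S] [Algebra R S]
    [Algebra.FiniteType R S] (d : ℕ) (y : Fin d → S)
    (key : ∀ t : S, ∃ r : R, r ≠ 0 ∧
      (aeval y : MvPolynomial (Fin d) R →ₐ[R] S).toRingHom.IsIntegralElem (r • t)) :
    ∃ (S' : Subalgebra R S), (∀ i, y i ∈ S') ∧ S'.FG ∧
      (∀ s ∈ S', IsIntegral (Algebra.adjoin R (Set.range y)) s) ∧
      ∃ f : R, f ≠ 0 ∧ ∀ s : S, ∃ n : ℕ, (f ^ n) • s ∈ S' := by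
  classical
  obtain ⟨T₀, hT₀⟩ := (Algebra.FiniteType.out : (⊤ : Subalgebra R S).FG)
  choose r hr0 hrint using key
  set A₀ := Algebra.adjoin R (Set.range y) with hA₀
  -- integrality transfer
  have hmemA₀ : ∀ p : MvPolynomial (Fin d) R, aeval y p ∈ A₀ := by
    intro p
    rw [hA₀, Algebra.adjoin_range_eq_range_aeval]
    exact ⟨p, rfl⟩
  let ψ : MvPolynomial (Fin d) R →ₐ[R] A₀ := (aeval y).codRestrict A₀ hmemA₀
  have hψ : (algebraMap A₀ S).comp (ψ : MvPolynomial (Fin d) R →+* A₀) =
      (aeval y : MvPolynomial (Fin d) R →ₐ[R] S).toRingHom := by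
    ext p <;> rfl
  have hint : ∀ t : S, IsIntegral A₀ (r t • t) := by
    intro t
    obtain ⟨P, hPm, hP⟩ := hrint t
    refine ⟨P.map (ψ : MvPolynomial (Fin d) R →+* A₀), hPm.map _, ?_⟩
    rw [Polynomial.eval₂_map, hψ]
    exact hP
  set U : Finset S := T₀.image (fun t => r t • t) with hU
  set G : Finset S := Finset.univ.image y ∪ U with hG
  refine ⟨Algebra.adjoin R (↑G : Set S), ?_, Subalgebra.fg_adjoin_finset G, ?_, ?_⟩
  · intro i
    apply Algebra.subset_adjoin
    rw [hG, Finset.coe_union]
    left
    exact Finset.mem_coe.mpr (Finset.mem_image_of_mem y (Finset.mem_univ i))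
  · intro s hs
    have hle : Algebra.adjoin R (↑G : Set S) ≤ (integralClosure A₀ S).restrictScalars R := by
      apply Algebra.adjoin_le
      intro x hx
      rw [hG, Finset.coe_union] at hx
      rcases hx with hx | hx
      · obtain ⟨i, _, rfl⟩ := Finset.mem_image.mp (Finset.mem_coe.mp hx)
        have : y i ∈ A₀ := Algebra.subset_adjoin ⟨i, rfl⟩
        exact (isIntegral_algebraMap (R := A₀) (x := (⟨y i, this⟩ : A₀)))
      · obtain ⟨t, _, rfl⟩ := Finset.mem_image.mp (Finset.mem_coe.mp hx)
        exact hint t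
    exact hle hs
  · refine ⟨∏ t ∈ T₀, r t, Finset.prod_ne_zero_iff.mpr fun t _ => hr0 t, ?_⟩
    set f := ∏ t ∈ T₀, r t with hf
    set S' := Algebra.adjoin R (↑G : Set S) with hS'
    intro s
    have hs : s ∈ Algebra.adjoin R (↑T₀ : Set S) := hT₀ ▸ Algebra.mem_top
    induction hs using Algebra.adjoin_induction with
    | mem t ht =>
      refine ⟨1, ?_⟩
      have ht' : t ∈ T₀ := Finset.mem_coe.mp ht
      have h1 : f = (∏ t' ∈ T₀.erase t, r t') * r t := (Finset.prod_erase_mul T₀ r ht').symm
      rw [pow_one, h1, mul_smul]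
      apply Subalgebra.smul_mem
      apply Algebra.subset_adjoin
      rw [hG, Finset.coe_union]
      right
      exact Finset.mem_coe.mpr (Finset.mem_image_of_mem _ ht')
    | algebraMap c =>
      exact ⟨0, by rw [pow_zero, one_smul]; exact Subalgebra.algebraMap_mem _ c⟩
    | add a b _ _ ha hb =>
      obtain ⟨n, hn⟩ := ha
      obtain ⟨m, hm⟩ := hb
      refine ⟨n + m, ?_⟩
      have : f ^ (n + m) • (a + b) = f ^ m • (f ^ n • a) + f ^ n • (f ^ m • b) := by
        rw [smul_add, smul_smul, smul_smul, pow_add, mul_comm (f ^ m) (f ^ n)]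
      rw [this]
      exact add_mem (Subalgebra.smul_mem _ hn _) (Subalgebra.smul_mem _ hm _)
    | mul a b _ _ ha hb =>
      obtain ⟨n, hn⟩ := ha
      obtain ⟨m, hm⟩ := hb
      refine ⟨n + m, ?_⟩
      have : f ^ (n + m) • (a * b) = (f ^ n • a) * (f ^ m • b) := by
        rw [smul_mul_smul_comm, pow_add]
      rw [this]
      exact mul_mem hn hm


end Helpers

/-- Let `R` be a domain and `R → S` an injective ring map of finite type. Then there are elements `y_1,
…, y_d` of `S` algebraically independent over `R`, a finitely generated `R`-subalgebra `S'` of `S`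
containing them and integral over `R[y_1, …, y_d]`, and a nonzero `f ∈ R` such that every element of
`S` lands in `S'` after multiplication by a power of `f`. -/
theorem result {R S : Type u} [CommRing R] [IsDomain R] [CommRing S] [Algebra R S]
    [Algebra.FiniteType R S] (hinj : Function.Injective (algebraMap R S)) :
    ∃ (d : ℕ) (y : Fin d → S) (S' : Subalgebra R S), AlgebraicIndependent R y ∧ (∀ i, y i ∈ S') ∧ S'.FG ∧
      (∀ s ∈ S', IsIntegral (Algebra.adjoin R (Set.range y)) s) ∧
      ∃ f : R, f ≠ 0 ∧ ∀ s : S, ∃ n : ℕ, (f ^ n) • s ∈ S' := by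
  obtain ⟨d, y, g, hginj, hgint, hgy⟩ := stage1 hinj
  obtain ⟨hind, key⟩ := stage2 d y g hginj hgint hgy
  obtain ⟨S', h1, h2, h3, h4⟩ := stage3 d y key
  exact ⟨d, y, S', hind, h1, h2, h3, h4⟩

end Groth.Agent.S2073
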