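import Groth.Statements.S2078
-- import your own Groth.Agent.* helpers here
import Groth.Agent.Lib.Helper9.AbsApprox24
import Groth.Agent.Lib.Helper9.ClosedImmIntoStage

set_option autoImplicit false
universe u
open CategoryTheory AlgebraicGeometry
open Lim

namespace Groth.Agent.S2078

/-- Let `f : X → S` be locally of finite type with `X` quasi-compact and quasi-separated and `S`
quasi-separated. Then there are a morphism `f' : X' → S` of finite presentation and a closed
immersion `X → X'` over `S`. -/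
theorem result {X S : Scheme.{u}} (f : X ⟶ S) [LocallyOfFiniteType f]
    [CompactSpace X] [QuasiSeparatedSpace X] [QuasiSeparatedSpace S] :
    ∃ (X' : Scheme.{u}) (f' : X' ⟶ S) (j : X ⟶ X'), LocallyOfFinitePresentation f' ∧ QuasiCompact f' ∧
      QuasiSeparated f' ∧ IsClosedImmersion j ∧ j ≫ f' = f := by
  obtain ⟨I, hI1, hI2, hI3, D, t, c, hc, e, h1, h2, h3, h4⟩ :=
    Groth.Agent.Lib.helper9.AbsApprox.exists_relative_approx' f
  have : ∀ {i j : Iᵒᵖ} (a : i ⟶ j), IsAffineHom (D.map a) := fun a => h3 _ _ a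
  have : ∀ i, CompactSpace (D.obj i) := fun i => (h4 i).1
  obtain ⟨i₀⟩ : Nonempty Iᵒᵖ := ⟨Opposite.op hI3.some⟩
  have : LocallyOfFiniteType (e.inv ≫ c.π.app i₀) := by
    have : LocallyOfFiniteType ((e.inv ≫ c.π.app i₀) ≫ t.app i₀) := by
      rw [Category.assoc, h1, Iso.inv_hom_id_assoc]
      infer_instance
    exact locallyOfFiniteType_of_comp _ (t.app i₀)
  obtain ⟨i, hi⟩ := Groth.Agent.Lib.helper9.exists_isClosedImmersion_comp_π D c hc i₀ e.inv
  refine ⟨D.obj i, t.app i, e.inv ≫ c.π.app i, (h2 i).1, (h2 i).2.1, (h2 i).2.2, hi, ?_⟩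
  rw [Category.assoc, h1, Iso.inv_hom_id_assoc]

end Groth.Agent.S2078
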