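import Groth.Statements.S2084
import Mathlib
import Groth.Agent.Lib.Helper26.CMCat

set_option autoImplicit false
universe u
open CAlg

namespace Groth.Agent.S2084

/-- Let `R` be a Noetherian local ring admitting a finite Cohen–Macaulay module whose support is all of
`Spec R`. Then every maximal chain of prime ideals (starting at a minimal prime, ending at the
maximal ideal, with no prime strictly between consecutive members) has length equal to the dimension
of `R`. -/
theorem result {R M : Type u} [CommRing R] [IsLocalRing R] [IsNoetherianRing R]
    [AddCommGroup M] [Module R M] [Module.Finite R M] (hM : LocCoh.IsCohenMacaulayModule R M)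
    (hsupp : Module.support R M = Set.univ) (s : LTSeries (PrimeSpectrum R))
    (hhead : s.head.asIdeal ∈ minimalPrimes R) (hlast : s.last.asIdeal = IsLocalRing.maximalIdeal R)
    (hsat : ∀ i : Fin s.length, s (Fin.castSucc i) ⋖ s (Fin.succ i)) :
    (s.length : WithBot ℕ∞) = ringKrullDim R := by
  classical
  have hheadS : s.head ∈ Module.support R M := by rw [hsupp]; exact Set.mem_univ _
  have hchain := Groth.Agent.Lib.helper26.CMCat.D_chain M hM s hheadS hsat (Fin.last s.length)
  -- `D` at the head is `0`
  have hD0 : Groth.Agent.Lib.helper26.CMCat.D M s.head = 0 := by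
    have hnt : Nontrivial (LocalizedModule s.head.asIdeal.primeCompl M) := hheadS
    apply le_antisymm
    · have h1 := Module.supportDim_le_ringKrullDim (Localization.AtPrime s.head.asIdeal)
        (LocalizedModule s.head.asIdeal.primeCompl M)
      have h2 := IsLocalization.AtPrime.ringKrullDim_eq_height s.head.asIdeal
        (Localization.AtPrime s.head.asIdeal)
      have h3 : s.head.asIdeal.height = 0 := Ideal.height_eq_zero_iff.mpr hhead
      rw [h2, h3] at h1
      exact h1
    · obtain ⟨n, hn⟩ := Groth.Agent.Lib.helper26.Depth.exists_nat_supportDim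
        (A := Localization.AtPrime s.head.asIdeal) (LocalizedModule s.head.asIdeal.primeCompl M)
      unfold Groth.Agent.Lib.helper26.CMCat.D
      rw [hn]
      exact_mod_cast Nat.zero_le n
  -- `D` at the closed point is `dim R`
  have hDlast : Groth.Agent.Lib.helper26.CMCat.D M s.last = ringKrullDim R := by
    have hx : s.last = ⟨IsLocalRing.maximalIdeal R, inferInstance⟩ := PrimeSpectrum.ext hlast
    rw [hx]
    unfold Groth.Agent.Lib.helper26.CMCat.D
    have hloc : IsLocalization.AtPrime R (IsLocalRing.maximalIdeal R) :=
      IsLocalization.of_le_isUnit (fun x hx => IsLocalRing.notMem_maximalIdeal.mp hx)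
    have hid : IsLocalizedModule (IsLocalRing.maximalIdeal R).primeCompl
        (LinearMap.id : M →ₗ[R] M) := isLocalizedModule_id _ M R
    have e2 := Groth.Agent.Lib.helper26.Depth.supportDim_eq_of_isLocalizedModule
      (IsLocalRing.maximalIdeal R) M R M LinearMap.id
    rw [← e2]
    unfold Module.supportDim
    rw [hsupp]
    exact Order.krullDim_eq_of_orderIso (OrderIso.Set.univ)
  have hlast' : s (Fin.last s.length) = s.last := rfl
  rw [hlast', hDlast, hD0, zero_add] at hchain
  rw [hchain]
  simp


end Groth.Agent.S2084
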