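import Groth.Statements.S2088
import Groth.Agent.Lib.Helper24.Tower5

set_option autoImplicit false
universe u
open CAlg

namespace Groth.Agent.S2088

/-- Let `(R, 𝔪, k)` be a local ring and `K/k` a field extension. Then there is a flat local homomorphism
of local rings `R → R'` with `𝔪R' = 𝔪_{R'}` whose residue field is isomorphic to `K` over `k`. -/
theorem result {R K : Type u} [CommRing R] [IsLocalRing R] [Field K]
    [Algebra (IsLocalRing.ResidueField R) K] :
    ∃ (R' : Type u) (_ : CommRing R') (_ : IsLocalRing R') (_ : Algebra R R') (_ : IsLocalHom (algebraMap R R')),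
      Module.Flat R R' ∧ (IsLocalRing.maximalIdeal R).map (algebraMap R R') = IsLocalRing.maximalIdeal R' ∧
      Nonempty (IsLocalRing.ResidueField R' ≃ₐ[IsLocalRing.ResidueField R] K) := by
  obtain ⟨R', _, _, _, toK', hloc, hflat, hmax, hsurj, hker, hcompat⟩ :=
    Groth.Agent.Lib.Helper24.Tower.exists_flat_local R K
  refine ⟨R', inferInstance, inferInstance, inferInstance, hloc, hflat, hmax, ?_⟩
  haveI := hloc
  let e₀ : IsLocalRing.ResidueField R' ≃+* K :=
    (Ideal.quotEquivOfEq hker.symm).trans (RingHom.quotientKerEquivOfSurjective hsurj)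
  have he₀ : ∀ y : R', e₀ (IsLocalRing.residue R' y) = toK' y := fun y => rfl
  refine ⟨AlgEquiv.ofRingEquiv (f := e₀) (fun x => ?_)⟩
  obtain ⟨a, rfl⟩ := IsLocalRing.residue_surjective x
  rw [IsLocalRing.ResidueField.algebraMap_residue, he₀, hcompat]

end Groth.Agent.S2088
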