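import Groth.Statements.S2090
import Mathlib
import Groth.Agent.Lib.Helper26.DepthLoc
import Groth.Agent.Lib.Helper26.CM7

set_option autoImplicit false
universe u
open CAlg

namespace Groth.Agent.S2090

open IsLocalRing RingTheory.Sequence LocCoh in
/-- local key lemma: over a Noetherian local ring, `ψ : M → N` injective with `depth M ≥ 2`
and `𝔪 ∉ Ass N`; an element `ν` with `𝔪 ν ⊆ im ψ` lies in `im ψ`. -/
lemma key {R : Type u} [CommRing R] [IsLocalRing R] [IsNoetherianRing R]
    {M N : Type u} [AddCommGroup M] [Module R M] [Module.Finite R M]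
    [AddCommGroup N] [Module R N] (ψ : M →ₗ[R] N) (hψ : Function.Injective ψ)
    (hd : 2 ≤ LocCoh.depth R M) (hass : maximalIdeal R ∉ associatedPrimes R N)
    (ν : N) (hν : ∀ z ∈ maximalIdeal R, ∃ μ : M, ψ μ = z • ν) : ∃ μ : M, ψ μ = ν := by
  classical
  -- if `𝔪 ν' = 0` then `ν' = 0`
  have hkill : ∀ ν' : N, (∀ z ∈ maximalIdeal R, z • ν' = 0) → ν' = 0 := by
    intro ν' h
    by_contra hne
    apply hass
    rw [AssociatedPrimes.mem_iff, isAssociatedPrime_iff]
    refine ⟨inferInstance, ν', ?_⟩
    have hle : maximalIdeal R ≤ Submodule.colon (⊥ : Submodule R N) {ν'} := by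
      intro z hz
      rw [Submodule.mem_colon_singleton, Submodule.mem_bot]
      exact h z hz
    have hne' : Submodule.colon (⊥ : Submodule R N) {ν'} ≠ ⊤ := by
      intro htop
      have : (1 : R) ∈ Submodule.colon (⊥ : Submodule R N) {ν'} := htop ▸ Submodule.mem_top
      rw [Submodule.mem_colon_singleton, Submodule.mem_bot, one_smul] at this
      exact hne this
    exact ((maximalIdeal.isMaximal R).eq_of_le hne' hle)
  by_cases hM : Subsingleton M
  · refine ⟨0, ?_⟩
    rw [map_zero]
    symm
    apply hkill
    intro z hz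
    obtain ⟨μ, hμ⟩ := hν z hz
    rw [← hμ, Subsingleton.elim μ 0, map_zero]
  rw [not_subsingleton_iff_nontrivial] at hM
  have hIM : maximalIdeal R • (⊤ : Submodule R M) ≠ ⊤ :=
    Groth.Agent.Lib.helper26.Depth.maximalIdeal_smul_top_ne_top (A := R) M
  have hd' : ((2 : ℕ) : ℕ∞) ≤ idealDepth (maximalIdeal R) M := by exact_mod_cast hd
  obtain ⟨rs, hlen, hmem, hreg⟩ :=
    Groth.Agent.Lib.helper26.Depth.exists_isWeaklyRegular_of_le hIM hd'
  match rs, hlen with
  | [x, y], _ =>
    have hx : x ∈ maximalIdeal R := hmem x (by simp)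
    have hy : y ∈ maximalIdeal R := hmem y (by simp)
    rw [isWeaklyRegular_cons_iff, isWeaklyRegular_singleton_iff] at hreg
    obtain ⟨hxreg, hyreg⟩ := hreg
    obtain ⟨μ, hμ⟩ := hν x hx
    obtain ⟨μ', hμ'⟩ := hν y hy
    have h1 : y • μ = x • μ' := by
      apply hψ
      rw [map_smul, map_smul, hμ, hμ', smul_smul, smul_smul, mul_comm]
    have h2 : (Submodule.Quotient.mk μ : QuotSMulTop x M) = 0 := by
      apply hyreg
      change y • _ = y • _
      rw [smul_zero, ← Submodule.Quotient.mk_smul, h1, Submodule.Quotient.mk_eq_zero]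
      exact Submodule.smul_mem_pointwise_smul _ _ _ Submodule.mem_top
    rw [Submodule.Quotient.mk_eq_zero] at h2
    obtain ⟨μ'', -, hμ''⟩ := (Submodule.mem_smul_pointwise_iff_exists μ x ⊤).mp h2
    refine ⟨μ'', ?_⟩
    have h3 : ν - ψ μ'' = 0 := by
      apply hkill
      intro z hz
      obtain ⟨μz, hμz⟩ := hν z hz
      have h4 : μz = z • μ'' := by
        apply hxreg
        change x • _ = x • _
        apply hψ
        rw [map_smul, map_smul, hμz, map_smul, smul_comm x z (ψ μ''), (map_smul ψ x μ'').symm, hμ'',
          hμ, smul_comm]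
      rw [smul_sub, ← hμz, h4, map_smul, sub_self]
    exact (sub_eq_zero.mp h3).symm


/-- Let `R` be Noetherian and `φ : M → N` a map of `R`-modules with `M` finite. Suppose that for every
prime `𝔭` either `φ_𝔭` is bijective, or `M_𝔭` has depth at least two and `𝔭` is not an associated
prime of `N`. Then `φ` is bijective. -/
theorem result {R M N : Type u} [CommRing R] [IsNoetherianRing R] [AddCommGroup M]
    [Module R M] [Module.Finite R M] [AddCommGroup N] [Module R N] (φ : M →ₗ[R] N)
    (h : ∀ (p : Ideal R) [p.IsPrime],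
      Function.Bijective (LocalizedModule.map p.primeCompl φ) ∨
        (2 ≤ LocCoh.depth (Localization.AtPrime p) (LocalizedModule p.primeCompl M) ∧
          p ∉ associatedPrimes R N)) :
    Function.Bijective φ := by
  classical
  -- injectivity
  have hinj : Function.Injective φ := by
    rw [← LinearMap.ker_eq_bot, Submodule.eq_bot_iff]
    intro x hx
    by_contra hx0
    obtain ⟨P, hP, hle⟩ := exists_le_isAssociatedPrime_of_isNoetherianRing R x hx0
    obtain ⟨hprime, hd0⟩ :=
      Groth.Agent.Lib.helper26.Depth.depth_localization_eq_zero_of_mem_associatedPrimes M P hP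
    have _hp := hprime
    rcases h P with hb | ⟨hd, -⟩
    · have h0 : LocalizedModule.map P.primeCompl φ (LocalizedModule.mk x 1) =
          LocalizedModule.map P.primeCompl φ 0 := by
        rw [LocalizedModule.map_mk, map_zero, LinearMap.mem_ker.mp hx, LocalizedModule.zero_mk]
      have h1 := hb.1 h0
      rw [← LocalizedModule.zero_mk 1, LocalizedModule.mk_eq] at h1
      obtain ⟨u, hu⟩ := h1
      have hu' : (u : R) • x = 0 := by
        simpa [Submonoid.smul_def] using hu
      have : (u : R) ∈ P := by
        apply hle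
        rw [Submodule.mem_colon_singleton, Submodule.mem_bot]
        exact hu'
      exact u.2 this
    · rw [hd0] at hd
      simp at hd
  refine ⟨hinj, ?_⟩
  -- surjectivity
  rw [← LinearMap.range_eq_top]
  by_contra hne
  obtain ⟨n, hn⟩ : ∃ n : N, n ∉ LinearMap.range φ := by
    by_contra hall
    push Not at hall
    exact hne (eq_top_iff.mpr fun n _ => hall n)
  have hn0 : (Submodule.Quotient.mk n : N ⧸ LinearMap.range φ) ≠ 0 := by
    rwa [Ne, Submodule.Quotient.mk_eq_zero]
  obtain ⟨P, hP, -⟩ := exists_le_isAssociatedPrime_of_isNoetherianRing R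
    (Submodule.Quotient.mk n : N ⧸ LinearMap.range φ) hn0
  rw [isAssociatedPrime_iff] at hP
  obtain ⟨hprime, c, hc⟩ := hP
  have _hp := hprime
  obtain ⟨n', rfl⟩ := Submodule.Quotient.mk_surjective _ c
  have hPmem : ∀ a : R, a ∈ P ↔ a • n' ∈ LinearMap.range φ := by
    intro a
    rw [hc, Submodule.mem_colon_singleton, Submodule.mem_bot, ← Submodule.Quotient.mk_smul,
      Submodule.Quotient.mk_eq_zero]
  -- it suffices that `n'/1` is in the range of `φ_P`
  have hsuff : ¬ ∃ μ, LocalizedModule.map P.primeCompl φ μ = LocalizedModule.mk n' 1 := by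
    rintro ⟨μ, hμ⟩
    induction μ using LocalizedModule.induction_on with
    | h m t =>
      rw [LocalizedModule.map_mk, LocalizedModule.mk_eq] at hμ
      obtain ⟨u, hu⟩ := hμ
      have hu' : ((u : R) * (t : R)) • n' = φ ((u : R) • m) := by
        rw [map_smul, mul_smul]
        simpa [Submonoid.smul_def] using hu.symm
      have : (u : R) * (t : R) ∈ P := by
        rw [hPmem, hu']
        exact LinearMap.mem_range_self _ _
      rcases hprime.mem_or_mem this with h1 | h1
      · exact u.2 h1
      · exact t.2 h1
  apply hsuff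
  rcases h P with hb | ⟨hd, hass⟩
  · exact hb.2 _
  · refine key (LocalizedModule.map P.primeCompl φ) (LocalizedModule.map_injective _ φ hinj) hd ?_ _ ?_
    · intro hmem
      apply hass
      have := Module.associatedPrimes.comap_mem_associatedPrimes_of_mem_associatedPrimes_of_isLocalizedModule_of_fg
        P.primeCompl (LocalizedModule.mkLinearMap P.primeCompl N) _ hmem
        ((isNoetherianRing_iff_ideal_fg R).mp inferInstance _)
      have h5 : (IsLocalRing.maximalIdeal (Localization.AtPrime P)).comap
          (algebraMap R (Localization.AtPrime P)) = P :=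
        IsLocalization.AtPrime.under_maximalIdeal (Localization.AtPrime P) P
      rwa [h5] at this
    · intro z hz
      obtain ⟨a, t, rfl⟩ := IsLocalization.exists_mk'_eq P.primeCompl z
      have haP : a ∈ P := by
        have := (IsLocalization.AtPrime.mk'_mem_maximal_iff (Localization.AtPrime P) P a t).mp hz
        exact this
      obtain ⟨m, hm⟩ := (hPmem a).mp haP
      refine ⟨LocalizedModule.mk m t, ?_⟩
      rw [LocalizedModule.map_mk, ← Localization.mk_eq_mk', LocalizedModule.mk_smul_mk, hm, mul_one]


end Groth.Agent.S2090
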