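import Groth.Statements.S2094
import Mathlib.LinearAlgebra.SymmetricAlgebra.Basis
import Mathlib.RingTheory.Smooth.Basic
import Mathlib.Algebra.TrivSqZeroExt.Basic
import Mathlib.RingTheory.FinitePresentation
-- import your own Groth.Agent.* helpers here

set_option autoImplicit false
universe u
open CAlg

namespace Groth.Agent.S2094

section
variable {A M : Type u} [CommRing A] [AddCommGroup M] [Module A M]

/-- formal smoothness of `Sym M` forces `M` projective -/
lemma projective_of_formallySmooth [Algebra.FormallySmooth A (SymmetricAlgebra A M)] :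
    Module.Projective A M := by
  refine Module.Projective.of_lifting_property (fun {N' N} _ _ _ _ f g hf => ?_)
  letI : Module Aᵐᵒᵖ N' := Module.compHom _ ((RingHom.id A).fromOpposite mul_comm)
  have : IsCentralScalar A N' := ⟨fun _ _ => rfl⟩
  letI : Module Aᵐᵒᵖ N := Module.compHom _ ((RingHom.id A).fromOpposite mul_comm)
  have : IsCentralScalar A N := ⟨fun _ _ => rfl⟩
  let π : TrivSqZeroExt A N' →ₐ[A] TrivSqZeroExt A N := TrivSqZeroExt.map f
  have hπ : Function.Surjective π := by
    intro x
    obtain ⟨n', hn'⟩ := hf x.snd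
    refine ⟨TrivSqZeroExt.inl x.fst + TrivSqZeroExt.inr n', ?_⟩
    ext
    · simp [π]
    · simp [π, hn']
  have hnil : IsNilpotent (RingHom.ker (π : TrivSqZeroExt A N' →+* TrivSqZeroExt A N)) := by
    refine ⟨2, ?_⟩
    have h2 := pow_two (RingHom.ker (π : TrivSqZeroExt A N' →+* TrivSqZeroExt A N))
    rw [h2, Ideal.zero_eq_bot, eq_bot_iff, Ideal.mul_le]
    intro x hx y hy
    rw [RingHom.mem_ker] at hx hy
    have hx1 : x.fst = 0 := by
      have := congrArg TrivSqZeroExt.fst hx
      simpa [π] using this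
    have hy1 : y.fst = 0 := by
      have := congrArg TrivSqZeroExt.fst hy
      simpa [π] using this
    rw [Ideal.mem_bot]
    ext
    · simp [hx1]
    · simp [hx1, hy1]
  let φ : SymmetricAlgebra A M →ₐ[A] TrivSqZeroExt A N :=
    SymmetricAlgebra.lift ((TrivSqZeroExt.inrHom A N).comp g)
  let φ' : SymmetricAlgebra A M →ₐ[A] TrivSqZeroExt A N' :=
    Algebra.FormallySmooth.liftOfSurjective φ π hπ hnil
  have hφ' : π.comp φ' = φ := Algebra.FormallySmooth.comp_liftOfSurjective φ π hπ hnil
  refine ⟨(TrivSqZeroExt.sndHom A N').comp (φ'.toLinearMap.comp (SymmetricAlgebra.ι A M)), ?_⟩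
  ext m
  have h1 := AlgHom.congr_fun hφ' (SymmetricAlgebra.ι A M m)
  have h2 := congrArg TrivSqZeroExt.snd h1
  simpa [π, φ] using h2

lemma exists_finset_mem_adjoin (x : SymmetricAlgebra A M) :
    ∃ T : Finset M, x ∈ Algebra.adjoin A (SymmetricAlgebra.ι A M '' (T : Set M)) := by
  classical
  induction x using SymmetricAlgebra.induction with
  | algebraMap r => exact ⟨∅, Subalgebra.algebraMap_mem _ r⟩
  | ι m => exact ⟨{m}, Algebra.subset_adjoin ⟨m, by simp, rfl⟩⟩
  | mul a b ha hb =>
    obtain ⟨Ta, hTa⟩ := ha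
    obtain ⟨Tb, hTb⟩ := hb
    refine ⟨Ta ∪ Tb, Subalgebra.mul_mem _ ?_ ?_⟩
    · exact Algebra.adjoin_mono (Set.image_mono (by simp)) hTa
    · exact Algebra.adjoin_mono (Set.image_mono (by simp)) hTb
  | add a b ha hb =>
    obtain ⟨Ta, hTa⟩ := ha
    obtain ⟨Tb, hTb⟩ := hb
    refine ⟨Ta ∪ Tb, Subalgebra.add_mem _ ?_ ?_⟩
    · exact Algebra.adjoin_mono (Set.image_mono (by simp)) hTa
    · exact Algebra.adjoin_mono (Set.image_mono (by simp)) hTb

lemma finite_of_finiteType [Algebra.FiniteType A (SymmetricAlgebra A M)] :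
    Module.Finite A M := by
  classical
  obtain ⟨s, hs⟩ := (Algebra.FiniteType.out : (⊤ : Subalgebra A (SymmetricAlgebra A M)).FG)
  choose T hT using fun x : SymmetricAlgebra A M => exists_finset_mem_adjoin x
  let T₀ : Finset M := s.biUnion T
  have htop : Algebra.adjoin A (SymmetricAlgebra.ι A M '' (T₀ : Set M)) = ⊤ := by
    rw [eq_top_iff, ← hs, Algebra.adjoin_le_iff]
    intro x hx
    refine Algebra.adjoin_mono (Set.image_mono ?_) (hT x)
    intro t ht
    simp only [T₀, Finset.coe_biUnion, Set.mem_iUnion]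
    exact ⟨x, hx, ht⟩
  let M₀ : Submodule A M := Submodule.span A (T₀ : Set M)
  letI : Module Aᵐᵒᵖ (M ⧸ M₀) := Module.compHom _ ((RingHom.id A).fromOpposite mul_comm)
  have : IsCentralScalar A (M ⧸ M₀) := ⟨fun _ _ => rfl⟩
  let φ : SymmetricAlgebra A M →ₐ[A] TrivSqZeroExt A (M ⧸ M₀) :=
    SymmetricAlgebra.lift ((TrivSqZeroExt.inrHom A (M ⧸ M₀)).comp M₀.mkQ)
  have hle : Algebra.adjoin A (SymmetricAlgebra.ι A M '' (T₀ : Set M)) ≤
      (⊥ : Subalgebra A (TrivSqZeroExt A (M ⧸ M₀))).comap φ := by
    rw [Algebra.adjoin_le_iff]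
    rintro _ ⟨t, ht, rfl⟩
    change φ (SymmetricAlgebra.ι A M t) ∈ (⊥ : Subalgebra A (TrivSqZeroExt A (M ⧸ M₀)))
    have : φ (SymmetricAlgebra.ι A M t) = 0 := by
      simp only [φ, SymmetricAlgebra.lift_ι_apply, LinearMap.comp_apply]
      have : M₀.mkQ t = 0 := by
        rw [Submodule.mkQ_apply, Submodule.Quotient.mk_eq_zero]
        exact Submodule.subset_span ht
      rw [this, map_zero]
    rw [this]
    exact Subalgebra.zero_mem _
  have hM₀ : M₀ = ⊤ := by
    rw [eq_top_iff]
    intro m _
    have h1 : SymmetricAlgebra.ι A M m ∈ (⊥ : Subalgebra A (TrivSqZeroExt A (M ⧸ M₀))).comap φ :=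
      hle (htop ▸ Algebra.mem_top)
    rw [Subalgebra.mem_comap, Algebra.mem_bot] at h1
    obtain ⟨a, ha⟩ := h1
    have h2 := congrArg TrivSqZeroExt.snd ha
    simp only [φ, SymmetricAlgebra.lift_ι_apply, LinearMap.comp_apply] at h2
    rw [TrivSqZeroExt.algebraMap_eq_inl] at h2
    simp only [TrivSqZeroExt.snd_inl, TrivSqZeroExt.inrHom_apply, TrivSqZeroExt.snd_inr] at h2
    rw [← Submodule.Quotient.mk_eq_zero M₀]
    exact h2.symm
  exact ⟨⟨T₀, hM₀⟩⟩

lemma formallySmooth_of_projective [Module.Projective A M] :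
    Algebra.FormallySmooth A (SymmetricAlgebra A M) := by
  refine Algebra.FormallySmooth.of_comp_surjective (fun B _ _ I hI g => ?_)
  obtain ⟨l, hl⟩ := Module.projective_lifting_property (Ideal.Quotient.mkₐ A I).toLinearMap
    (g.toLinearMap.comp (SymmetricAlgebra.ι A M)) Ideal.Quotient.mk_surjective
  refine ⟨SymmetricAlgebra.lift l, ?_⟩
  apply SymmetricAlgebra.algHom_ext
  ext m
  have := LinearMap.congr_fun hl m
  simpa using this

lemma finitePresentation_of_finite_projective [Module.Finite A M] [Module.Projective A M] :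
    Algebra.FinitePresentation A (SymmetricAlgebra A M) := by
  obtain ⟨n, r, hr⟩ := Module.Finite.exists_fin' A M
  obtain ⟨i, hi⟩ := Module.projective_lifting_property r LinearMap.id hr
  let e : SymmetricAlgebra A (Fin n → A) ≃ₐ[A] MvPolynomial (Fin n) A :=
    SymmetricAlgebra.equivMvPolynomial (Pi.basisFun A (Fin n))
  have hfp : Algebra.FinitePresentation A (SymmetricAlgebra A (Fin n → A)) :=
    Algebra.FinitePresentation.equiv e.symm
  let s : SymmetricAlgebra A M →ₐ[A] SymmetricAlgebra A (Fin n → A) :=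
    SymmetricAlgebra.lift ((SymmetricAlgebra.ι A (Fin n → A)).comp i)
  let π : SymmetricAlgebra A (Fin n → A) →ₐ[A] SymmetricAlgebra A M :=
    SymmetricAlgebra.lift ((SymmetricAlgebra.ι A M).comp r)
  have hπs : π.comp s = AlgHom.id A _ := by
    apply SymmetricAlgebra.algHom_ext
    ext m
    have := LinearMap.congr_fun hi m
    simp only [LinearMap.comp_apply, LinearMap.id_apply] at this
    simp [π, s, this]
  have h1 : (π.toRingHom.comp s.toRingHom).FinitePresentation := by
    have : π.toRingHom.comp s.toRingHom = RingHom.id _ := by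
      ext x
      exact AlgHom.congr_fun hπs x
    rw [this]
    exact RingHom.FinitePresentation.id _
  have h2 : s.toRingHom.FiniteType := by
    have h3 : (s.toRingHom.comp (algebraMap A (SymmetricAlgebra A M))).FiniteType := by
      have : s.toRingHom.comp (algebraMap A (SymmetricAlgebra A M)) =
          algebraMap A (SymmetricAlgebra A (Fin n → A)) := by
        ext a
        exact s.commutes a
      rw [this]
      exact (RingHom.finiteType_algebraMap).mpr inferInstance
    exact RingHom.FiniteType.of_comp_finiteType h3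
  have h4 : π.toRingHom.FinitePresentation :=
    RingHom.FinitePresentation.of_comp_finiteType s.toRingHom h1 h2
  have h5 : (algebraMap A (SymmetricAlgebra A M)).FinitePresentation := by
    have : algebraMap A (SymmetricAlgebra A M) =
        π.toRingHom.comp (algebraMap A (SymmetricAlgebra A (Fin n → A))) := by
      ext a
      exact (π.commutes a).symm
    rw [this]
    exact RingHom.FinitePresentation.comp h4
      ((RingHom.finitePresentation_algebraMap).mpr hfp)
  exact (RingHom.finitePresentation_algebraMap).mp h5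

end


/-- The symmetric algebra of an `A`-module is a smooth `A`-algebra exactly when the module is finite
projective. -/
theorem result {A M : Type u} [CommRing A] [AddCommGroup M] [Module A M] :
    Algebra.Smooth A (SymmetricAlgebra A M) ↔ Module.Finite A M ∧ Module.Projective A M := by
  constructor
  · intro h
    exact ⟨finite_of_finiteType, projective_of_formallySmooth⟩
  · rintro ⟨h1, h2⟩
    exact ⟨formallySmooth_of_projective, finitePresentation_of_finite_projective⟩

end Groth.Agent.S2094
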