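import Groth.Statements.S2095
import Mathlib

set_option autoImplicit false
universe u
open CAlg

namespace Groth.Agent.S2095


section aux
open TensorProduct
variable {R R' T : Type u} [CommRing R] [CommRing R'] [CommRing T] [Algebra R R'] [Algebra R T]

/-- the retraction `ρ ⊗ id : R' ⊗ T → T` -/
noncomputable def rr (ρ : R' →ₗ[R] R) : R' ⊗[R] T →ₗ[R] T :=
  (TensorProduct.lid R T).toLinearMap ∘ₗ (LinearMap.rTensor T ρ)

lemma rr_tmul (ρ : R' →ₗ[R] R) (a : R') (t : T) : rr ρ (a ⊗ₜ[R] t) = ρ a • t := by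
  simp [rr]

lemma rr_one_tmul (ρ : R' →ₗ[R] R) (hρ : ∀ r : R, ρ (algebraMap R R' r) = r) (t : T) :
    rr ρ ((1 : R') ⊗ₜ[R] t) = t := by
  rw [rr_tmul]
  have : ρ 1 = 1 := by
    have := hρ 1
    rwa [map_one] at this
  rw [this, one_smul]

lemma rr_mul (ρ : R' →ₗ[R] R) (t : T) (x : R' ⊗[R] T) :
    rr ρ (((1 : R') ⊗ₜ[R] t) * x) = t * rr ρ x := by
  induction x using TensorProduct.induction_on with
  | zero => simp
  | tmul a t' =>
    rw [Algebra.TensorProduct.tmul_mul_tmul, one_mul, rr_tmul, rr_tmul, mul_smul_comm]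
  | add x y hx hy => rw [mul_add, map_add, hx, hy, map_add, mul_add]

lemma rr_mem (ρ : R' →ₗ[R] R) (N : Ideal T) (z : R' ⊗[R] T)
    (hz : z ∈ N.map (Algebra.TensorProduct.includeRight : T →ₐ[R] R' ⊗[R] T)) :
    rr ρ z ∈ N := by
  have key : ∀ y : R' ⊗[R] T, rr ρ (y * z) ∈ N := by
    rw [Ideal.map] at hz
    refine Submodule.span_induction (p := fun z _ => ∀ y : R' ⊗[R] T, rr ρ (y * z) ∈ N)
      ?_ ?_ ?_ ?_ hz
    · rintro _ ⟨n, hn, rfl⟩ y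
      show rr ρ (y * ((1 : R') ⊗ₜ[R] n)) ∈ N
      rw [mul_comm, rr_mul]
      exact N.mul_mem_right _ hn
    · intro y
      rw [mul_zero, map_zero]
      exact N.zero_mem
    · intro a b _ _ ha hb y
      rw [mul_add, map_add]
      exact N.add_mem (ha y) (hb y)
    · intro a b _ hb y
      rw [smul_eq_mul, ← mul_assoc]
      exact hb (y * a)
  have := key 1
  rwa [one_mul] at this

end aux

open TensorProduct in
/-- Let `R → S` be a ring map, `𝔫 ⊆ S` an ideal and `R → R'` a ring map admitting an `R`-linear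
retraction. If `R' → R' ⊗ S` is formally smooth for the adic topology of the extension of `𝔫`, then
`R → S` is formally smooth for the `𝔫`-adic topology. -/
theorem result {R S R' : Type u} [CommRing R] [CommRing S] [Algebra R S]
    (𝔫 : Ideal S) [CommRing R'] [Algebra R R'] (ρ : R' →ₗ[R] R) (hρ : ∀ r : R, ρ (algebraMap R R' r) = r)
    (h : CAlgX.IsAdicFormallySmooth R' (R' ⊗[R] S)
      (𝔫.map (Algebra.TensorProduct.includeRight : S →ₐ[R] R' ⊗[R] S))) :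
    CAlgX.IsAdicFormallySmooth R S 𝔫 := by
  classical
  intro T _ _ N hN ψ hψ
  obtain ⟨k, hk⟩ := hψ
  have hN' : (N.map (Algebra.TensorProduct.includeRight : T →ₐ[R] R' ⊗[R] T)) ^ 2 = ⊥ := by
    rw [← Ideal.map_pow, hN, Ideal.map_bot]
  -- ε : T/N → T'/N'
  obtain ⟨ε, hε⟩ : ∃ ε : T ⧸ N →ₐ[R] (R' ⊗[R] T) ⧸
      N.map (Algebra.TensorProduct.includeRight : T →ₐ[R] R' ⊗[R] T),
      ∀ t : T, ε (Ideal.Quotient.mk N t) = Ideal.Quotient.mk _ ((1 : R') ⊗ₜ[R] t) :=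
    ⟨Ideal.Quotient.liftₐ N ((Ideal.Quotient.mkₐ R _).comp
      (Algebra.TensorProduct.includeRight : T →ₐ[R] R' ⊗[R] T)) (fun x hx => by
        show Ideal.Quotient.mk _ ((1 : R') ⊗ₜ[R] x) = 0
        exact Ideal.Quotient.eq_zero_iff_mem.mpr (Ideal.mem_map_of_mem _ hx)), fun t => rfl⟩
  -- ψ'
  obtain ⟨ψ', hψ'⟩ : ∃ ψ' : R' ⊗[R] S →ₐ[R'] (R' ⊗[R] T) ⧸
      N.map (Algebra.TensorProduct.includeRight : T →ₐ[R] R' ⊗[R] T),
      ∀ s : S, ψ' ((1 : R') ⊗ₜ[R] s) = ε (ψ s) := by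
    refine ⟨Algebra.TensorProduct.lift (Algebra.ofId R' _) (ε.comp ψ) (fun _ _ => Commute.all _ _),
      fun s => ?_⟩
    rw [Algebra.TensorProduct.lift_tmul, map_one, one_mul]
    rfl
  have hkill : ∃ k : ℕ, ∀ x ∈ (𝔫.map (Algebra.TensorProduct.includeRight : S →ₐ[R] R' ⊗[R] S)) ^ k,
      ψ' x = 0 := by
    refine ⟨k, fun x hx => ?_⟩
    rw [← Ideal.map_pow] at hx
    have hle : (𝔫 ^ k).map (Algebra.TensorProduct.includeRight : S →ₐ[R] R' ⊗[R] S) ≤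
        RingHom.ker ψ'.toRingHom := by
      rw [Ideal.map_le_iff_le_comap]
      intro s hs
      rw [Ideal.mem_comap, RingHom.mem_ker]
      show ψ' ((1 : R') ⊗ₜ[R] s) = 0
      rw [hψ', hk s hs, map_zero]
    exact hle hx
  obtain ⟨χ', hχ'⟩ := h (R' ⊗[R] T) _ hN' ψ' hkill
  have hχ'' : ∀ x, Ideal.Quotient.mk _ (χ' x) = ψ' x := fun x => congrArg (fun f => f x) hχ'
  -- decomposition of χ'(1 ⊗ s)
  have hdec : ∀ (s : S) (t : T), Ideal.Quotient.mk N t = ψ s →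
      χ' ((1 : R') ⊗ₜ[R] s) - (1 : R') ⊗ₜ[R] t ∈
        N.map (Algebra.TensorProduct.includeRight : T →ₐ[R] R' ⊗[R] T) := by
    intro s t hts
    rw [← Ideal.Quotient.eq, hχ'', hψ', ← hts, hε]
  have hval : ∀ (s : S) (t : T), Ideal.Quotient.mk N t = ψ s →
      ∃ n ∈ N.map (Algebra.TensorProduct.includeRight : T →ₐ[R] R' ⊗[R] T),
        χ' ((1 : R') ⊗ₜ[R] s) = (1 : R') ⊗ₜ[R] t + n :=
    fun s t hts => ⟨_, hdec s t hts, by ring⟩
  have hone : rr ρ (χ' ((1 : R') ⊗ₜ[R] (1 : S))) = (1 : T) := by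
    have : ((1 : R') ⊗ₜ[R] (1 : S)) = (1 : R' ⊗[R] S) := rfl
    rw [this, map_one]
    exact rr_one_tmul ρ hρ 1
  have hmul : ∀ s s' : S, rr ρ (χ' ((1 : R') ⊗ₜ[R] (s * s'))) =
      rr ρ (χ' ((1 : R') ⊗ₜ[R] s)) * rr ρ (χ' ((1 : R') ⊗ₜ[R] s')) := by
    intro s s'
    obtain ⟨t, ht⟩ := Ideal.Quotient.mk_surjective (ψ s)
    obtain ⟨t', ht'⟩ := Ideal.Quotient.mk_surjective (ψ s')
    obtain ⟨n, hn, hx⟩ := hval s t ht
    obtain ⟨n', hn', hx'⟩ := hval s' t' ht'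
    have h1 : ((1 : R') ⊗ₜ[R] (s * s')) = ((1 : R') ⊗ₜ[R] s) * ((1 : R') ⊗ₜ[R] s') := by
      rw [Algebra.TensorProduct.tmul_mul_tmul, one_mul]
    have hnn : n * n' = 0 := by
      have : n * n' ∈ (N.map (Algebra.TensorProduct.includeRight : T →ₐ[R] R' ⊗[R] T)) ^ 2 := by
        rw [pow_two]; exact Ideal.mul_mem_mul hn hn'
      rw [hN'] at this
      exact this
    have hrr : rr ρ n * rr ρ n' = 0 := by
      have : rr ρ n * rr ρ n' ∈ N ^ 2 := by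
        rw [pow_two]; exact Ideal.mul_mem_mul (rr_mem ρ N n hn) (rr_mem ρ N n' hn')
      rw [hN] at this
      exact this
    rw [h1, map_mul, hx, hx']
    have h2 : ((1 : R') ⊗ₜ[R] t + n) * ((1 : R') ⊗ₜ[R] t' + n') =
        ((1 : R') ⊗ₜ[R] t) * ((1 : R') ⊗ₜ[R] t') + ((1 : R') ⊗ₜ[R] t) * n' +
          ((1 : R') ⊗ₜ[R] t') * n + n * n' := by ring
    rw [h2, hnn, add_zero, map_add, map_add, map_add, map_add, rr_mul, rr_mul, rr_mul,
      rr_one_tmul ρ hρ, rr_one_tmul ρ hρ]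
    have h3 : (t + rr ρ n) * (t' + rr ρ n') = t * t' + t * rr ρ n' + t' * rr ρ n + rr ρ n * rr ρ n' := by
      ring
    rw [h3, hrr, add_zero]
  refine ⟨AlgHom.ofLinearMap
    ((rr ρ) ∘ₗ (χ'.toLinearMap.restrictScalars R) ∘ₗ
      (Algebra.TensorProduct.includeRight : S →ₐ[R] R' ⊗[R] S).toLinearMap) hone hmul, ?_⟩
  ext s
  obtain ⟨t, ht⟩ := Ideal.Quotient.mk_surjective (ψ s)
  obtain ⟨n, hn, hx⟩ := hval s t ht
  show Ideal.Quotient.mk N (rr ρ (χ' ((1 : R') ⊗ₜ[R] s))) = ψ s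
  rw [hx, map_add, rr_one_tmul ρ hρ, map_add, Ideal.Quotient.eq_zero_iff_mem.mpr (rr_mem ρ N n hn),
    add_zero, ht]

end Groth.Agent.S2095
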