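import Groth.Statements.S2096
import Groth.Agent.S0733
import Groth.Agent.Lib.Helper24.IndEtaleField
-- import your own Groth.Agent.* helpers here

set_option autoImplicit false
universe u
open CAlg

namespace Groth.Agent.S2096

/-- Let `B` be a Noetherian ind-étale `A`-algebra (a filtered colimit of étale algebras) and `𝔭` a prime
of `A`. Then only finitely many primes of `B` lie over `𝔭`, the fibre ring `B ⊗ κ(𝔭)` is reduced of
dimension zero, and each residue field extension `κ(𝔮)/κ(𝔭)` is separable algebraic. -/
theorem result {A B : Type u} [CommRing A] [CommRing B] [Algebra A B] (hB : EtPBC.IsIndEtale A B)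
    [IsNoetherianRing B] (p : Ideal A) [p.IsPrime] :
    {q : PrimeSpectrum B | q.asIdeal.LiesOver p}.Finite ∧ IsReduced (p.Fiber B) ∧ ringKrullDim (p.Fiber B) ≤ 0 ∧
      ∀ (q : Ideal B) [q.IsPrime] [q.LiesOver p],
        @Algebra.IsSeparable p.ResidueField q.ResidueField _ _
          (Ideal.ResidueField.mapₐ p q (Algebra.ofId A B) (q.over_def p)).toRingHom.toAlgebra := by
  have hF : EtPBC.IsIndEtale p.ResidueField (p.Fiber B) :=
    Groth.Agent.S0733.result A B p.ResidueField hB
  have hdim : Ring.KrullDimLE 0 (p.Fiber B) :=
    Groth.Agent.Lib.Helper24.IndEtaleField.krullDimLE_zero_of_isIndEtale _ _ hF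
  have hred : IsReduced (p.Fiber B) :=
    Groth.Agent.Lib.Helper24.IndEtaleProps.isReduced_of_isIndEtale _ _ hF
  refine ⟨?_, hred, ?_, ?_⟩
  · -- finiteness
    have hN : IsNoetherianRing (p.Fiber B) := by
      have h1 : IsNoetherianRing (Localization (Algebra.algebraMapSubmonoid B p.primeCompl)) :=
        IsLocalization.isNoetherianRing (Algebra.algebraMapSubmonoid B p.primeCompl) _ inferInstance
      letI : Algebra B (p.Fiber B) := Algebra.TensorProduct.rightAlgebra
      exact isNoetherianRing_of_ringEquiv _ (Ideal.Fiber.algEquivQuotient p).symm.toRingEquiv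
    have hArt : IsArtinianRing (p.Fiber B) :=
      isArtinianRing_iff_isNoetherianRing_krullDimLE_zero.2 ⟨hN, hdim⟩
    have hfin : Finite (PrimeSpectrum (p.Fiber B)) := inferInstance
    have hset : {q : PrimeSpectrum B | q.asIdeal.LiesOver p} =
        PrimeSpectrum.comap (algebraMap A B) ⁻¹' {(⟨p, inferInstance⟩ : PrimeSpectrum A)} := by
      ext q
      simp only [Set.mem_ofPred_eq, Set.mem_preimage, Set.mem_singleton_iff]
      constructor
      · intro h
        apply PrimeSpectrum.ext
        exact (h.over).symm
      · intro h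
        exact ⟨(congrArg PrimeSpectrum.asIdeal h).symm⟩
    rw [hset]
    have : Finite ↥(PrimeSpectrum.comap (algebraMap A B) ⁻¹'
        {(⟨p, inferInstance⟩ : PrimeSpectrum A)}) :=
      Finite.of_equiv _ (PrimeSpectrum.preimageEquivFiber A B ⟨p, inferInstance⟩).symm
    exact Set.toFinite _
  · have := Ring.krullDimLE_iff.1 hdim
    simpa using this
  · intro q _ _
    letI alg : Algebra p.ResidueField q.ResidueField :=
      (Ideal.ResidueField.mapₐ p q (Algebra.ofId A B) (q.over_def p)).toRingHom.toAlgebra
    -- the map from the fibre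
    let π : p.Fiber B →ₐ[p.ResidueField] q.ResidueField :=
      Algebra.TensorProduct.lift (Algebra.ofId p.ResidueField q.ResidueField)
        ((IsScalarTower.toAlgHom A B q.ResidueField)) (fun _ _ => Commute.all _ _)
    have hπ : ∀ b : B, π ((1 : p.ResidueField) ⊗ₜ[A] b) = algebraMap B q.ResidueField b := by
      intro b
      simp [π]
    have key : ∀ b : B, algebraMap B q.ResidueField b ∈
        separableClosure p.ResidueField q.ResidueField := by
      intro b
      rw [mem_separableClosure_iff, ← hπ b]
      exact Groth.Agent.Lib.Helper24.IndEtaleField.isSeparable_of_isIndEtale _ _ hF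
        q.ResidueField π _
    rw [Algebra.isSeparable_def]
    intro x
    obtain ⟨a, b, hb, rfl⟩ := IsFractionRing.div_surjective (A := B ⧸ q) x
    obtain ⟨a', rfl⟩ := Ideal.Quotient.mk_surjective a
    obtain ⟨b', rfl⟩ := Ideal.Quotient.mk_surjective b
    have ha := key a'
    have hb' := key b'
    have e1 : ∀ c : B, algebraMap (B ⧸ q) q.ResidueField (Ideal.Quotient.mk q c) =
        algebraMap B q.ResidueField c := fun c => rfl
    have := (separableClosure p.ResidueField q.ResidueField).div_mem ha hb'
    rw [mem_separableClosure_iff] at this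
    rw [e1, e1]
    exact this

end Groth.Agent.S2096
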