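import Groth.Statements.S2097
import Mathlib.RingTheory.Noetherian.Nilpotent
import Mathlib.RingTheory.FinitePresentation

set_option autoImplicit false
universe u
open CAlg

namespace Groth.Agent.S2097

/-- Let `R → S` be smooth, `A` an `R`-algebra and `I ⊆ A` an ideal all of whose elements are nilpotent.
Every `R`-algebra map `S → A/I` lifts to an `R`-algebra map `S → A`. -/
theorem result {R S A : Type u} [CommRing R] [CommRing S] [Algebra R S] [Algebra.Smooth R S]
    [CommRing A] [Algebra R A] (I : Ideal A) (hI : ∀ x ∈ I, IsNilpotent x) (g : S →ₐ[R] A ⧸ I) :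
    ∃ f : S →ₐ[R] A, (Ideal.Quotient.mkₐ R I).comp f = g := by
  classical
  obtain ⟨n, φ, hφ, hker⟩ := (inferInstance : Algebra.FinitePresentation R S).out
  -- lift the images of the variables
  choose a ha using fun i : Fin n => Ideal.Quotient.mk_surjective (I := I) (g (φ (MvPolynomial.X i)))
  let ψ : MvPolynomial (Fin n) R →ₐ[R] A := MvPolynomial.aeval a
  have hψ : (Ideal.Quotient.mkₐ R I).comp ψ = g.comp φ := by
    apply MvPolynomial.algHom_ext
    intro i
    simp only [AlgHom.comp_apply, ψ, MvPolynomial.aeval_X, Ideal.Quotient.mkₐ_eq_mk]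
    exact ha i
  -- the finitely generated ideal generated by the images of the relations
  let J : Ideal A := (RingHom.ker φ.toRingHom).map ψ.toRingHom
  have hJfg : J.FG := hker.map _
  have hJI : J ≤ I := by
    rw [Ideal.map_le_iff_le_comap]
    intro p hp
    rw [Ideal.mem_comap, ← Ideal.Quotient.eq_zero_iff_mem]
    have h1 : (Ideal.Quotient.mkₐ R I).comp ψ p = g.comp φ p := by rw [hψ]
    have h2 : φ p = 0 := hp
    simpa [h2] using h1
  have hJnil : IsNilpotent J := by
    rw [hJfg.isNilpotent_iff_le_nilradical]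
    intro x hx
    exact hI x (hJI hx)
  -- the induced map S → A/J
  let χ : MvPolynomial (Fin n) R →ₐ[R] A ⧸ J := (Ideal.Quotient.mkₐ R J).comp ψ
  have hχ : RingHom.ker φ.toRingHom ≤ RingHom.ker χ.toRingHom := by
    intro p hp
    rw [RingHom.mem_ker]
    change Ideal.Quotient.mk J (ψ p) = 0
    rw [Ideal.Quotient.eq_zero_iff_mem]
    exact Ideal.mem_map_of_mem _ hp
  let g' : S →ₐ[R] A ⧸ J := AlgHom.liftOfSurjective φ hφ χ hχ
  obtain ⟨f, hf⟩ := Algebra.FormallySmooth.exists_lift J hJnil g'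
  refine ⟨f, ?_⟩
  ext s
  obtain ⟨p, rfl⟩ := hφ s
  have h1 : Ideal.Quotient.mk J (f (φ p)) = Ideal.Quotient.mk J (ψ p) := by
    have := AlgHom.congr_fun hf (φ p)
    simp only [AlgHom.comp_apply, Ideal.Quotient.mkₐ_eq_mk] at this
    rw [this]
    exact AlgHom.liftOfSurjective_apply φ hφ χ hχ p
  have h2 : f (φ p) - ψ p ∈ I := hJI ((Ideal.Quotient.eq).mp h1)
  have h3 : Ideal.Quotient.mk I (f (φ p)) = Ideal.Quotient.mk I (ψ p) := (Ideal.Quotient.eq).mpr h2
  have h4 : Ideal.Quotient.mk I (ψ p) = g (φ p) := AlgHom.congr_fun hψ p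
  simp only [AlgHom.comp_apply, Ideal.Quotient.mkₐ_eq_mk]
  rw [h3, h4]

end Groth.Agent.S2097
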