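import Groth.Statements.S2098
import Mathlib

set_option autoImplicit false
universe u
open CAlg

namespace Groth.Agent.S2098

section aux
variable {R : Type u} [CommRing R] [IsNoetherianRing R] (I : Ideal R)
  (hI : I ≤ (⊥ : Ideal R).jacobson)
include hI

lemma krull_mod {T : Type*} [AddCommGroup T] [Module R T] [Module.Finite R T]
    (P : Submodule R T) (x : T)
    (h : ∀ n₀ : ℕ, ∃ n, n₀ ≤ n ∧ x ∈ P ⊔ I ^ n • (⊤ : Submodule R T)) : x ∈ P := by
  have h0 : P.mkQ x ∈ (⨅ i : ℕ, I ^ i • ⊤ : Submodule R (T ⧸ P)) := by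
    rw [Submodule.mem_iInf]
    intro n₀
    obtain ⟨n, hn, hx⟩ := h n₀
    obtain ⟨p, hp, z, hz, rfl⟩ := Submodule.mem_sup.1 hx
    have e : P.mkQ (p + z) = P.mkQ z := by
      rw [map_add, Submodule.mkQ_apply, (Submodule.Quotient.mk_eq_zero P).2 hp, zero_add]
    rw [e]
    have hz' : z ∈ I ^ n₀ • (⊤ : Submodule R T) :=
      Submodule.smul_mono (Ideal.pow_le_pow_right hn) le_rfl hz
    have h1 : P.mkQ z ∈ Submodule.map P.mkQ (I ^ n₀ • ⊤) := Submodule.mem_map_of_mem hz'
    rw [Submodule.map_smul''] at h1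
    exact Submodule.smul_mono le_rfl le_top h1
  rw [Ideal.iInf_pow_smul_eq_bot_of_le_jacobson I hI] at h0
  simpa using h0

lemma solve {N : Type u} [AddCommGroup N] [Module R N] [Module.Finite R N] {ι : Type}
    [Fintype ι] [DecidableEq ι] {b : ℕ} (r : ι → Fin b → R) (t : ι → N)
    (h : ∀ n₀ : ℕ, ∃ n, n₀ ≤ n ∧ ∃ v : Fin b → N,
      ∀ i, ∑ j, r i j • v j - t i ∈ I ^ n • (⊤ : Submodule R N)) :
    ∃ v : Fin b → N, ∀ i, ∑ j, r i j • v j = t i := by
  let L : (Fin b → N) →ₗ[R] (ι → N) := LinearMap.pi fun i => ∑ j, r i j • LinearMap.proj j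
  have hL : ∀ v i, L v i = ∑ j, r i j • v j := by
    intro v i
    simp [L]
  have ht : t ∈ LinearMap.range L := by
    apply krull_mod I hI
    intro n₀
    obtain ⟨n, hn, v, hv⟩ := h n₀
    refine ⟨n, hn, Submodule.mem_sup.2 ⟨L v, LinearMap.mem_range_self _ _, t - L v, ?_, by abel⟩⟩
    have e : t - L v = ∑ i, LinearMap.single R (fun _ => N) i ((t - L v) i) := by
      ext i'
      simp [Finset.sum_apply, Pi.single_apply]
    rw [e]
    refine Submodule.sum_mem _ fun i _ => ?_
    have hi : (t - L v) i ∈ I ^ n • (⊤ : Submodule R N) := by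
      have := hv i
      rw [← hL, ← neg_sub] at this
      simpa using (Submodule.neg_mem_iff _).1 this
    have h1 : LinearMap.single R (fun _ => N) i ((t - L v) i) ∈
        Submodule.map (LinearMap.single R (fun _ => N) i) (I ^ n • ⊤) :=
      Submodule.mem_map_of_mem hi
    rw [Submodule.map_smul''] at h1
    exact Submodule.smul_mono le_rfl le_top h1
  obtain ⟨v, hv⟩ := ht
  exact ⟨v, fun i => by rw [← hL, hv]⟩

end aux


/-- Let `R` be Noetherian, `I` an ideal inside the Jacobson radical and `u : N → M` a map of finite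
`R`-modules. If for arbitrarily large `n` the induced map `N/IⁿN → M/IⁿM` has a left inverse, then
`u` has a left inverse. -/
theorem result {R M N : Type u} [CommRing R] [IsNoetherianRing R] (I : Ideal R)
    (hI : I ≤ (⊥ : Ideal R).jacobson) [AddCommGroup M] [Module R M] [Module.Finite R M] [AddCommGroup N] [Module R N]
    [Module.Finite R N] (u : N →ₗ[R] M)
    (h : ∀ n₀ : ℕ, ∃ n, n₀ ≤ n ∧ ∃ s : (M ⧸ (I ^ n) • (⊤ : Submodule R M)) →ₗ[R] (N ⧸ (I ^ n) • (⊤ : Submodule R N)),
      ∀ x : N, s (Submodule.Quotient.mk (u x)) = Submodule.Quotient.mk x) :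
    ∃ s : M →ₗ[R] N, s.comp u = LinearMap.id := by
  classical
  obtain ⟨b, m, hm⟩ := Module.Finite.exists_fin (R := R) (M := M)
  obtain ⟨c, y, hy⟩ := Module.Finite.exists_fin (R := R) (M := N)
  let π : (Fin b → R) →ₗ[R] M := Fintype.linearCombination R m
  have hπa : ∀ x, π x = ∑ j, x j • m j := fun x => Fintype.linearCombination_apply R m x
  have hπ : Function.Surjective π := by
    rw [← LinearMap.range_eq_top, Fintype.range_linearCombination, hm]
  obtain ⟨a, k, hk⟩ := Submodule.fg_iff_exists_fin_generating_family.1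
    (IsNoetherian.noetherian (LinearMap.ker π))
  have hkmem : ∀ l, π (k l) = 0 := fun l => by
    have : k l ∈ LinearMap.ker π := hk ▸ Submodule.subset_span (Set.mem_range_self l)
    exact this
  choose cc hcc using fun k' => hπ (u (y k'))
  let r : (Fin a ⊕ Fin c) → Fin b → R := Sum.elim k cc
  let t : (Fin a ⊕ Fin c) → N := Sum.elim (fun _ => 0) y
  have hsol : ∃ v : Fin b → N, ∀ i, ∑ j, r i j • v j = t i := by
    apply solve I hI r t
    intro n₀
    obtain ⟨n, hn, sn, hsn⟩ := h n₀
    refine ⟨n, hn, ?_⟩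
    have hsurj := Submodule.mkQ_surjective (I ^ n • (⊤ : Submodule R N))
    choose v hv using fun j => hsurj (sn (Submodule.Quotient.mk (m j)))
    refine ⟨v, ?_⟩
    have key : ∀ x : Fin b → R, (I ^ n • (⊤ : Submodule R N)).mkQ (∑ j, x j • v j) =
        sn (Submodule.Quotient.mk (π x)) := by
      intro x
      rw [hπa, map_sum, ← Submodule.mkQ_apply, map_sum, map_sum]
      refine Finset.sum_congr rfl fun j _ => ?_
      rw [map_smul, hv, map_smul, map_smul, Submodule.mkQ_apply]
    rintro (l | k')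
    · show ∑ j, k l j • v j - 0 ∈ _
      rw [sub_zero, ← Submodule.Quotient.mk_eq_zero, ← Submodule.mkQ_apply, key, hkmem]
      simp
    · show ∑ j, cc k' j • v j - y k' ∈ _
      rw [← Submodule.Quotient.eq, ← Submodule.mkQ_apply, key, hcc, hsn]
  obtain ⟨v, hv⟩ := hsol
  let ψ : (Fin b → R) →ₗ[R] N := Fintype.linearCombination R v
  have hψa : ∀ x, ψ x = ∑ j, x j • v j := fun x => Fintype.linearCombination_apply R v x
  have hker : LinearMap.ker π ≤ LinearMap.ker ψ := by
    rw [← hk, Submodule.span_le]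
    rintro _ ⟨l, rfl⟩
    have := hv (Sum.inl l)
    show ψ (k l) = 0
    rw [hψa]
    exact this
  let s : M →ₗ[R] N := (Submodule.liftQ _ ψ hker).comp
    (π.quotKerEquivOfSurjective hπ).symm.toLinearMap
  have hs : ∀ x, s (π x) = ψ x := by
    intro x
    have e : (π.quotKerEquivOfSurjective hπ).symm (π x) = Submodule.Quotient.mk x := by
      rw [LinearEquiv.symm_apply_eq]
      rfl
    show Submodule.liftQ _ ψ hker ((π.quotKerEquivOfSurjective hπ).symm (π x)) = ψ x
    rw [e, Submodule.liftQ_apply]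
  refine ⟨s, LinearMap.ext_on_range hy fun k' => ?_⟩
  rw [LinearMap.comp_apply, LinearMap.id_apply, ← hcc, hs, hψa]
  exact hv (Sum.inr k')

end Groth.Agent.S2098
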