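import Groth.Statements.S2099
import Mathlib
import Groth.Agent.Lib.Helper22.PSCompletion

set_option autoImplicit false
universe u
open CAlg

namespace Groth.Agent.S2099

section aux

theorem map_smul_sum_aux {R M : Type*} [CommRing R] [AddCommGroup M] [Module R M] {d : ℕ}
    (e : M ≃ₗ[R] (Fin d → R)) (r : Fin d → R) :
    e.symm r = ∑ i, r i • e.symm (Pi.single i 1) := by
  conv_lhs => rw [← (Pi.basisFun R (Fin d)).sum_repr r]
  rw [map_sum]
  refine Finset.sum_congr rfl fun i _ => ?_
  rw [map_smul]
  simp

end aux


/-- Let `R → S` be smooth with an `R`-algebra retraction `σ : S → R` and `I = ker σ`. If `I/I²` is free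
of rank `d` over `R`, then the `I`-adic completion of `S` is isomorphic as an `R`-algebra to the
power series ring in `d` variables over `R`. -/
theorem result {R S : Type u} [CommRing R] [CommRing S] [Algebra R S]
    [Algebra.Smooth R S] (σ : S →ₐ[R] R) (d : ℕ)
    (e : (RingHom.ker σ.toRingHom).Cotangent ≃ₗ[R] (Fin d → R)) :
    Nonempty (AdicCompletion (RingHom.ker σ.toRingHom) S ≃ₐ[R] MvPowerSeries (Fin d) R) := by
  classical
  haveI : Algebra.FormallySmooth R S := Algebra.Smooth.formallySmooth
  set I : Ideal S := RingHom.ker σ.toRingHom with hIdef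
  have hI : ∀ y, y ∈ I ↔ σ y = 0 := fun y => RingHom.mem_ker
  -- choose lifts of the basis
  have hch : ∀ i : Fin d, ∃ y : I, I.toCotangent y = e.symm (Pi.single i 1) :=
    fun i => Ideal.toCotangent_surjective I _
  choose y hy using hch
  -- R-linearity
  have hsmul : ∀ (r : R) (z : I), I.toCotangent ((algebraMap R S r) • z) = r • I.toCotangent z := by
    intro r z
    rw [map_smul, algebraMap_smul]
  have hsum : ∀ r : Fin d → R,
      I.toCotangent (∑ i, (algebraMap R S (r i)) • y i) = e.symm r := by
    intro r
    rw [map_sum]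
    simp_rw [hsmul, hy]
    rw [← map_smul_sum_aux e r]
  refine Groth.Agent.Lib.helper22.PSCompletion.nonempty_algEquiv_mvPowerSeries σ I hI
    (fun i => (y i : S)) (fun i => (y i).2) ?_ ?_
  · intro z hz
    refine ⟨e (I.toCotangent ⟨z, hz⟩), ?_⟩
    have h1 := hsum (e (I.toCotangent ⟨z, hz⟩))
    rw [LinearEquiv.symm_apply_apply] at h1
    have h2 := (Ideal.toCotangent_eq I).mp h1.symm
    simpa [Submodule.coe_sum, Algebra.smul_def] using h2
  · intro r hr
    have h1 := hsum r
    have h2 : I.toCotangent (∑ i, (algebraMap R S (r i)) • y i) = 0 := by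
      rw [Ideal.toCotangent_eq_zero]
      simpa [Submodule.coe_sum, Algebra.smul_def] using hr
    rw [h2] at h1
    exact (LinearEquiv.map_eq_zero_iff e.symm).mp h1.symm

end Groth.Agent.S2099
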