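import Groth.Statements.S2100
import Mathlib
import Groth.Agent.Lib.Helper13.NagataT
-- import your own Groth.Agent.* helpers here

set_option autoImplicit false
universe u
open CAlg

namespace Groth.Agent.S2100

open MvPolynomial

section stage1
variable {k : Type u} [Field k]

/-- a `k`-algebra map into a polynomial ring is integral as soon as the variables are integral. -/
lemma isIntegral_of_X {σ : Type*} {A : Type*} [CommRing A] [Algebra k A]
    (φ : A →ₐ[k] MvPolynomial σ k)
    (h : ∀ i, φ.toRingHom.IsIntegralElem (X i)) : φ.toRingHom.IsIntegral := by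
  intro p
  induction p using MvPolynomial.induction_on with
  | C a =>
    have : (C a : MvPolynomial σ k) = φ.toRingHom (algebraMap k A a) := by
      simp [MvPolynomial.algebraMap_eq]
    rw [this]
    exact φ.toRingHom.isIntegralElem_map
  | add p q hp hq => exact RingHom.IsIntegralElem.add _ hp hq
  | mul_X p i hp => exact RingHom.IsIntegralElem.mul _ hp (h i)

/-- `R[X]` is integral over `R[F]` for `F` with invertible leading coefficient, positive degree. -/
lemma step_poly {R : Type*} [CommRing R] (F : Polynomial R) (hu : IsUnit F.leadingCoeff)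
    (hdeg : 0 < F.natDegree) :
    ((Polynomial.aeval F : Polynomial R →ₐ[R] Polynomial R) : Polynomial R →+* Polynomial R).IsIntegral := by
  set θ : Polynomial R →+* Polynomial R :=
    ((Polynomial.aeval F : Polynomial R →ₐ[R] Polynomial R) : Polynomial R →+* Polynomial R) with hθ
  have hθC : ∀ a : R, θ (Polynomial.C a) = Polynomial.C a := by
    intro a; simp [hθ]
  have hθX : θ Polynomial.X = F := by simp [hθ]
  have hC : ∀ a : R, θ.IsIntegralElem (Polynomial.C a) := by
    intro a
    rw [← hθC a]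
    exact θ.isIntegralElem_map
  have hX : θ.IsIntegralElem Polynomial.X := by
    haveI : Nontrivial R := by
      by_contra hne
      rw [not_nontrivial_iff_subsingleton] at hne
      have : F = 0 := Subsingleton.elim _ _
      rw [this] at hdeg
      simp at hdeg
    set p : Polynomial (Polynomial R) :=
      F.map (Polynomial.C : R →+* Polynomial R) - Polynomial.C Polynomial.X with hp
    have hdegF : (0 : WithBot ℕ) < F.degree := Polynomial.natDegree_pos_iff_degree_pos.1 hdeg
    have hlt : (Polynomial.C (Polynomial.X : Polynomial R)).degree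
        < (F.map (Polynomial.C : R →+* Polynomial R)).degree := by
      rw [Polynomial.degree_map_eq_of_injective Polynomial.C_injective]
      exact lt_of_le_of_lt Polynomial.degree_C_le hdegF
    have hlc : p.leadingCoeff = Polynomial.C F.leadingCoeff := by
      rw [hp, Polynomial.leadingCoeff_sub_of_degree_lt hlt,
        Polynomial.leadingCoeff_map_of_injective Polynomial.C_injective]
    have hev : p.eval₂ θ Polynomial.X = 0 := by
      rw [hp, Polynomial.eval₂_sub, Polynomial.eval₂_map, Polynomial.eval₂_C, hθX]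
      have : θ.comp (Polynomial.C : R →+* Polynomial R) = Polynomial.C := by
        ext a; simp [hθC]
      rw [this, Polynomial.eval₂_C_X, sub_self]
    have h1 := RingHom.isIntegralElem_leadingCoeff_mul θ p Polynomial.X hev
    rw [hlc, hθC] at h1
    obtain ⟨c, hc⟩ := hu.exists_left_inv
    have h2 := RingHom.IsIntegralElem.mul _ (hC c) h1
    have : Polynomial.C c * (Polynomial.C F.leadingCoeff * Polynomial.X) = (Polynomial.X : Polynomial R) := by
      rw [← mul_assoc, ← Polynomial.C_mul, hc, Polynomial.C_1, one_mul]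
    rw [this] at h2
    exact h2
  intro P
  induction P using Polynomial.induction_on' with
  | add p q hp hq => exact RingHom.IsIntegralElem.add _ hp hq
  | monomial n a =>
    rw [← Polynomial.C_mul_X_pow_eq_monomial]
    refine RingHom.IsIntegralElem.mul _ (hC a) ?_
    induction n with
    | zero => rw [pow_zero]; rw [← Polynomial.C_1]; exact hC 1
    | succ n ih => rw [pow_succ]; exact RingHom.IsIntegralElem.mul _ ih hX

end stage1

section stage2
variable {k : Type u} [Field k]

open Groth.Agent.Lib.helper13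

lemma step (n : ℕ) (q : Ideal (MvPolynomial (Fin (n + 1)) k)) [q.IsPrime] (hq : q ≠ ⊥) :
    ∃ ψ : MvPolynomial (Fin (n + 1)) k →ₐ[k] MvPolynomial (Fin (n + 1)) k,
      ψ.toRingHom.IsIntegral ∧ ψ (X 0) ∈ q := by
  obtain ⟨f, hfq, hf0⟩ := Submodule.exists_mem_ne_zero_of_ne_bot hq
  obtain ⟨T, hT⟩ := NagataT.exists_algEquiv_isUnit_leadingCoeff f hf0
  set e := finSuccEquiv k n with he
  set F := e (T f) with hF
  have hdeg : 0 < F.natDegree := by
    by_contra h
    have h0 : F.natDegree = 0 := by omega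
    have hFC : F = Polynomial.C F.leadingCoeff := by
      conv_lhs => rw [Polynomial.eq_C_of_natDegree_eq_zero h0]
      rw [Polynomial.leadingCoeff, h0]
    have hFu : IsUnit F := by
      rw [hFC]; exact Polynomial.isUnit_C.2 hT
    have hfu : IsUnit f := by
      have h1 : IsUnit (T f) := (isUnit_map_iff e.toRingEquiv _).1 hFu
      exact (isUnit_map_iff T.toRingEquiv _).1 h1
    exact (Ideal.IsPrime.ne_top inferInstance) (Ideal.eq_top_of_isUnit_mem q hfq hfu)
  let θ : Polynomial (MvPolynomial (Fin n) k) →ₐ[k] Polynomial (MvPolynomial (Fin n) k) :=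
    (Polynomial.aeval F : _ →ₐ[MvPolynomial (Fin n) k] _).restrictScalars k
  let ψ : MvPolynomial (Fin (n + 1)) k →ₐ[k] MvPolynomial (Fin (n + 1)) k :=
    (T.symm.toAlgHom.comp e.symm.toAlgHom).comp (θ.comp e.toAlgHom)
  refine ⟨ψ, ?_, ?_⟩
  · have hθ : θ.toRingHom.IsIntegral := fun x => step_poly F hT hdeg x
    have h1 : e.toAlgHom.toRingHom.IsIntegral :=
      RingHom.isIntegral_of_surjective _ e.surjective
    have h2 : (T.symm.toAlgHom.comp e.symm.toAlgHom).toRingHom.IsIntegral :=
      RingHom.isIntegral_of_surjective _ (T.symm.surjective.comp e.symm.surjective)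
    exact fun x => RingHom.IsIntegral.trans _ _ (RingHom.IsIntegral.trans _ _ h1 hθ) h2 x
  · have : ψ (X 0) = f := by
      simp only [ψ, θ, AlgHom.comp_apply, AlgEquiv.coe_algHom, AlgHom.coe_restrictScalars',
        he, finSuccEquiv_X_zero, Polynomial.aeval_X]
      rw [hF, he]
      simp
    rw [this]; exact hfq

end stage2

section stage3
variable {k : Type u} [Field k] {n : ℕ}

/-- inclusion of the last `n` variables -/
noncomputable def iot : MvPolynomial (Fin n) k →ₐ[k] MvPolynomial (Fin (n + 1)) k :=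
  rename Fin.succ

/-- set `X 0` to zero -/
noncomputable def eps : MvPolynomial (Fin (n + 1)) k →ₐ[k] MvPolynomial (Fin n) k :=
  aeval (Fin.cons 0 X : Fin (n + 1) → MvPolynomial (Fin n) k)

/-- extension of an endomorphism on the last `n` variables, fixing `X 0`. -/
noncomputable def Phi (φ : MvPolynomial (Fin n) k →ₐ[k] MvPolynomial (Fin n) k) :
    MvPolynomial (Fin (n + 1)) k →ₐ[k] MvPolynomial (Fin (n + 1)) k :=
  aeval (Fin.cons (X 0) (fun i => iot (φ (X i))) : Fin (n + 1) → MvPolynomial (Fin (n + 1)) k)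

@[simp] lemma iot_X (i : Fin n) : iot (X i : MvPolynomial (Fin n) k) = X i.succ := by
  simp [iot]

@[simp] lemma eps_X_zero : eps (X 0 : MvPolynomial (Fin (n + 1)) k) = 0 := by
  simp [eps]

@[simp] lemma eps_X_succ (i : Fin n) : eps (X i.succ : MvPolynomial (Fin (n + 1)) k) = X i := by
  simp [eps]

@[simp] lemma Phi_X_zero (φ : MvPolynomial (Fin n) k →ₐ[k] MvPolynomial (Fin n) k) :
    Phi φ (X 0) = X 0 := by
  simp [Phi]

@[simp] lemma Phi_X_succ (φ : MvPolynomial (Fin n) k →ₐ[k] MvPolynomial (Fin n) k) (i : Fin n) :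
    Phi φ (X i.succ) = iot (φ (X i)) := by
  simp [Phi]

lemma eps_iot (p : MvPolynomial (Fin n) k) : eps (iot p) = p := by
  have : (eps.comp iot : MvPolynomial (Fin n) k →ₐ[k] _) = AlgHom.id k _ := by
    apply MvPolynomial.algHom_ext
    intro i
    simp
  exact DFunLike.congr_fun this p

lemma sub_iot_eps_mem (P : MvPolynomial (Fin (n + 1)) k) :
    P - iot (eps P) ∈ Ideal.span {(X 0 : MvPolynomial (Fin (n + 1)) k)} := by
  set I₀ := Ideal.span {(X 0 : MvPolynomial (Fin (n + 1)) k)} with hI
  have : (Ideal.Quotient.mkₐ k I₀) = (Ideal.Quotient.mkₐ k I₀).comp (iot.comp eps) := by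
    apply MvPolynomial.algHom_ext
    intro j
    refine Fin.cases ?_ (fun i => ?_) j
    · simp only [AlgHom.comp_apply, eps_X_zero, map_zero]
      rw [Ideal.Quotient.mkₐ_eq_mk, Ideal.Quotient.eq_zero_iff_mem]
      exact Ideal.subset_span rfl
    · simp
  have h2 := DFunLike.congr_fun this P
  simp only [AlgHom.comp_apply, Ideal.Quotient.mkₐ_eq_mk] at h2
  exact Ideal.Quotient.eq.1 h2

lemma Phi_iot (φ : MvPolynomial (Fin n) k →ₐ[k] MvPolynomial (Fin n) k)
    (p : MvPolynomial (Fin n) k) : Phi φ (iot p) = iot (φ p) := by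
  have : ((Phi φ).comp iot) = iot.comp φ := by
    apply MvPolynomial.algHom_ext
    intro i
    simp
  exact DFunLike.congr_fun this p

lemma eps_Phi (φ : MvPolynomial (Fin n) k →ₐ[k] MvPolynomial (Fin n) k)
    (P : MvPolynomial (Fin (n + 1)) k) : eps (Phi φ P) = φ (eps P) := by
  have : (eps.comp (Phi φ)) = φ.comp eps := by
    apply MvPolynomial.algHom_ext
    intro j
    refine Fin.cases ?_ (fun i => ?_) j
    · simp
    · simp [eps_iot]
  exact DFunLike.congr_fun this P

lemma mem_iff_iot_eps_mem (Q : Ideal (MvPolynomial (Fin (n + 1)) k)) (h0 : X 0 ∈ Q)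
    (P : MvPolynomial (Fin (n + 1)) k) : P ∈ Q ↔ iot (eps P) ∈ Q := by
  have h1 : P - iot (eps P) ∈ Q :=
    (Ideal.span_le.2 (by simpa using h0)) (sub_iot_eps_mem P)
  constructor
  · intro hP
    have := Q.sub_mem hP h1
    simpa using this
  · intro hP
    have := Q.add_mem h1 hP
    simpa using this

lemma comap_Phi (Q : Ideal (MvPolynomial (Fin (n + 1)) k)) (h0 : X 0 ∈ Q)
    (φ : MvPolynomial (Fin n) k →ₐ[k] MvPolynomial (Fin n) k) (S' : Finset (Fin n))
    (hS' : (Q.comap iot).comap φ = Ideal.span (X '' (S' : Set (Fin n)))) :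
    Q.comap (Phi φ) = Ideal.span (X '' ((insert 0 (S'.map (Fin.succEmb n)) : Finset (Fin (n + 1))) :
      Set (Fin (n + 1)))) := by
  set J := Ideal.span (X '' ((insert 0 (S'.map (Fin.succEmb n)) : Finset (Fin (n + 1))) :
      Set (Fin (n + 1))) : Set (MvPolynomial (Fin (n + 1)) k)) with hJ
  have hJ0 : (X 0 : MvPolynomial (Fin (n + 1)) k) ∈ J :=
    Ideal.subset_span ⟨0, by simp, rfl⟩
  have key : ∀ P : MvPolynomial (Fin (n + 1)) k,
      P ∈ J ↔ eps P ∈ Ideal.span (X '' (S' : Set (Fin n)) : Set (MvPolynomial (Fin n) k)) := by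
    intro P
    constructor
    · intro hP
      have h1 : J.map eps ≤ Ideal.span (X '' (S' : Set (Fin n))) := by
        rw [hJ, Ideal.map_span, Ideal.span_le]
        rintro _ ⟨_, ⟨j, hj, rfl⟩, rfl⟩
        rw [Finset.mem_coe, Finset.mem_insert, Finset.mem_map] at hj
        rcases hj with rfl | ⟨i, hi, rfl⟩
        · simp
        · simp only [Fin.coe_succEmb, eps_X_succ]
          exact Ideal.subset_span ⟨i, hi, rfl⟩
      exact h1 (Ideal.mem_map_of_mem _ hP)
    · intro hP
      rw [mem_iff_iot_eps_mem J hJ0]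
      have h1 : (Ideal.span (X '' (S' : Set (Fin n)) : Set (MvPolynomial (Fin n) k))).map iot ≤ J := by
        rw [Ideal.map_span, Ideal.span_le]
        rintro _ ⟨_, ⟨i, hi, rfl⟩, rfl⟩
        rw [iot_X]
        apply Ideal.subset_span
        refine ⟨i.succ, ?_, rfl⟩
        rw [Finset.mem_coe, Finset.mem_insert, Finset.mem_map]
        exact Or.inr ⟨i, hi, rfl⟩
      exact h1 (Ideal.mem_map_of_mem _ hP)
  ext P
  rw [key, ← hS', Ideal.mem_comap, Ideal.mem_comap, Ideal.mem_comap,
    mem_iff_iot_eps_mem Q h0, eps_Phi]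

lemma Phi_isIntegral (φ : MvPolynomial (Fin n) k →ₐ[k] MvPolynomial (Fin n) k)
    (hφ : φ.toRingHom.IsIntegral) : (Phi φ).toRingHom.IsIntegral := by
  apply isIntegral_of_X
  intro j
  refine Fin.cases ?_ (fun i => ?_) j
  · have : (X 0 : MvPolynomial (Fin (n + 1)) k) = (Phi φ).toRingHom (X 0) := by simp
    rw [this]
    exact RingHom.isIntegralElem_map _
  · obtain ⟨p, hp, hpx⟩ := hφ (X i)
    set ι : MvPolynomial (Fin n) k →+* MvPolynomial (Fin (n + 1)) k :=
      (iot : MvPolynomial (Fin n) k →ₐ[k] MvPolynomial (Fin (n + 1)) k).toRingHom with hι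
    refine ⟨p.map ι, hp.map _, ?_⟩
    rw [Polynomial.eval₂_map]
    have h1 := congrArg ι hpx
    rw [Polynomial.hom_eval₂, map_zero] at h1
    have h2 : (ι.comp φ.toRingHom) = (Phi φ).toRingHom.comp ι := by
      apply RingHom.ext
      intro p
      simp [hι, Phi_iot]
    rw [h2] at h1
    simpa [hι] using h1

end stage3

section stage4
variable {k : Type u} [Field k]

/-- the inductive statement -/
lemma exists_normalization (n : ℕ) : ∀ (q : Ideal (MvPolynomial (Fin n) k)) [q.IsPrime],
    ∃ (φ : MvPolynomial (Fin n) k →ₐ[k] MvPolynomial (Fin n) k) (S : Finset (Fin n)),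
      φ.toRingHom.IsIntegral ∧ q.comap φ = Ideal.span (X '' (S : Set (Fin n))) := by
  induction n with
  | zero =>
    intro q hq
    refine ⟨AlgHom.id k _, ∅, RingHom.isIntegral_of_surjective _ Function.surjective_id, ?_⟩
    have hq0 : q = ⊥ := by
      rw [eq_bot_iff]
      intro p hp
      by_contra hne
      have hp0 : p ≠ 0 := hne
      have hpC := eq_C_of_isEmpty p
      have hc : coeff 0 p ≠ 0 := by
        intro h0; rw [h0, map_zero] at hpC; exact hp0 hpC
      apply hq.ne_top
      apply Ideal.eq_top_of_isUnit_mem q hp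
      rw [hpC]
      exact (hc.isUnit).map C
    simp [hq0]
  | succ n ih =>
    intro q hq
    by_cases hq0 : q = ⊥
    · refine ⟨AlgHom.id k _, ∅, RingHom.isIntegral_of_surjective _ Function.surjective_id, ?_⟩
      simp [hq0]
    · obtain ⟨ψ, hψ, hψ0⟩ := step n q hq0
      set Q := q.comap ψ with hQ
      haveI : Q.IsPrime := Ideal.comap_isPrime ψ q
      have h0 : X 0 ∈ Q := hψ0
      haveI : (Q.comap iot).IsPrime := Ideal.comap_isPrime iot Q
      obtain ⟨φ', S', hφ', hS'⟩ := ih (Q.comap iot)
      refine ⟨ψ.comp (Phi φ'), insert 0 (S'.map (Fin.succEmb n)), ?_, ?_⟩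
      · exact fun x => RingHom.IsIntegral.trans _ _ (Phi_isIntegral φ' hφ') hψ x
      · rw [← comap_Phi Q h0 φ' S' hS', hQ]
        rfl

end stage4

section stage5
variable {k : Type u} [Field k] {n : ℕ}

open Algebra

/-- (5a) -/
lemma trdeg_residueField (q : Ideal (MvPolynomial (Fin n) k)) [q.IsPrime] :
    Algebra.trdeg k q.ResidueField = Algebra.trdeg k (MvPolynomial (Fin n) k ⧸ q) := by
  haveI : Algebra.IsAlgebraic (MvPolynomial (Fin n) k ⧸ q) q.ResidueField :=
    IsLocalization.isAlgebraic q.ResidueField (nonZeroDivisors (MvPolynomial (Fin n) k ⧸ q))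
  have h := trdeg_add_eq k (MvPolynomial (Fin n) k ⧸ q) (A := q.ResidueField)
  rw [trdeg_eq_zero (R := MvPolynomial (Fin n) k ⧸ q) (A := q.ResidueField), add_zero] at h
  exact h.symm

/-- (5b) -/
lemma trdeg_quot_comap (φ : MvPolynomial (Fin n) k →ₐ[k] MvPolynomial (Fin n) k)
    (hφ : φ.toRingHom.IsIntegral) (q : Ideal (MvPolynomial (Fin n) k)) [q.IsPrime] :
    Algebra.trdeg k (MvPolynomial (Fin n) k ⧸ q.comap φ)
      = Algebra.trdeg k (MvPolynomial (Fin n) k ⧸ q) := by
  haveI : (q.comap φ).IsPrime := Ideal.comap_isPrime φ q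
  set g : (MvPolynomial (Fin n) k ⧸ q.comap φ) →ₐ[k] (MvPolynomial (Fin n) k ⧸ q) :=
    Ideal.quotientMapₐ q φ le_rfl with hg
  have hginj : Function.Injective g := Ideal.quotientMap_injective (I := q) (f := φ.toRingHom)
  have hgint : g.toRingHom.IsIntegral := RingHom.IsIntegral.quotient φ.toRingHom hφ
  letI : Algebra (MvPolynomial (Fin n) k ⧸ q.comap φ) (MvPolynomial (Fin n) k ⧸ q) :=
    g.toRingHom.toAlgebra
  haveI : IsScalarTower k (MvPolynomial (Fin n) k ⧸ q.comap φ) (MvPolynomial (Fin n) k ⧸ q) :=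
    IsScalarTower.of_algebraMap_eq (fun x => (g.commutes x).symm)
  haveI : FaithfulSMul (MvPolynomial (Fin n) k ⧸ q.comap φ) (MvPolynomial (Fin n) k ⧸ q) :=
    (faithfulSMul_iff_algebraMap_injective _ _).2 hginj
  haveI : Algebra.IsIntegral (MvPolynomial (Fin n) k ⧸ q.comap φ) (MvPolynomial (Fin n) k ⧸ q) :=
    algebraMap_isIntegral_iff.1 hgint
  haveI : Algebra.IsAlgebraic (MvPolynomial (Fin n) k ⧸ q.comap φ) (MvPolynomial (Fin n) k ⧸ q) :=
    Algebra.IsIntegral.isAlgebraic
  have h := trdeg_add_eq k (MvPolynomial (Fin n) k ⧸ q.comap φ) (A := MvPolynomial (Fin n) k ⧸ q)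
  rw [trdeg_eq_zero (R := MvPolynomial (Fin n) k ⧸ q.comap φ) (A := MvPolynomial (Fin n) k ⧸ q),
    add_zero] at h
  exact h

/-- (5c) -/
lemma trdeg_quot_span_X (S : Finset (Fin n)) :
    Algebra.trdeg k (MvPolynomial (Fin n) k ⧸
      (Ideal.span (X '' (S : Set (Fin n))) : Ideal (MvPolynomial (Fin n) k)))
      = ((n - S.card : ℕ) : Cardinal.{u}) := by
  classical
  set J : Ideal (MvPolynomial (Fin n) k) := Ideal.span (X '' (S : Set (Fin n))) with hJ
  let τ := {i : Fin n // i ∉ S}
  let inc : MvPolynomial τ k →ₐ[k] MvPolynomial (Fin n) k := rename Subtype.val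
  let ρ : MvPolynomial (Fin n) k →ₐ[k] MvPolynomial τ k :=
    aeval (fun i => if h : i ∈ S then 0 else X ⟨i, h⟩)
  have hρJ : ∀ a ∈ J, ρ a = 0 := by
    intro a ha
    have : J ≤ RingHom.ker (ρ : MvPolynomial (Fin n) k →+* MvPolynomial τ k) := by
      rw [hJ, Ideal.span_le]
      rintro _ ⟨i, hi, rfl⟩
      simp [ρ, Finset.mem_coe.1 hi]
    exact this ha
  let ρbar : (MvPolynomial (Fin n) k ⧸ J) →ₐ[k] MvPolynomial τ k := Ideal.Quotient.liftₐ J ρ hρJ
  let incbar : MvPolynomial τ k →ₐ[k] (MvPolynomial (Fin n) k ⧸ J) :=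
    (Ideal.Quotient.mkₐ k J).comp inc
  have h1 : ρbar.comp incbar = AlgHom.id k _ := by
    apply MvPolynomial.algHom_ext
    intro i
    simp [ρbar, incbar, inc, ρ, i.2]
  have h2 : incbar.comp ρbar = AlgHom.id k _ := by
    apply Ideal.Quotient.algHom_ext
    apply MvPolynomial.algHom_ext
    intro i
    by_cases hi : i ∈ S
    · simp only [AlgHom.comp_apply, Ideal.Quotient.mkₐ_eq_mk, AlgHom.id_apply, ρbar, incbar,
        Ideal.Quotient.liftₐ_apply, Ideal.Quotient.lift_mk]
      have : (ρ : MvPolynomial (Fin n) k →+* MvPolynomial τ k) (X i) = 0 := by simp [ρ, hi]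
      rw [this, map_zero, map_zero]
      symm
      rw [Ideal.Quotient.eq_zero_iff_mem]
      exact Ideal.subset_span ⟨i, hi, rfl⟩
    · simp only [AlgHom.comp_apply, Ideal.Quotient.mkₐ_eq_mk, AlgHom.id_apply, ρbar, incbar,
        Ideal.Quotient.liftₐ_apply, Ideal.Quotient.lift_mk]
      have : (ρ : MvPolynomial (Fin n) k →+* MvPolynomial τ k) (X i) = X ⟨i, hi⟩ := by simp [ρ, hi]
      rw [this]
      simp [inc]
  have e : (MvPolynomial (Fin n) k ⧸ J) ≃ₐ[k] MvPolynomial τ k := AlgEquiv.ofAlgHom ρbar incbar h1 h2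
  rw [e.trdeg_eq, MvPolynomial.trdeg_of_isDomain, Cardinal.mk_fintype, Cardinal.lift_natCast]
  congr 1
  rw [Fintype.card_subtype_compl, Fintype.card_fin, Fintype.card_coe]

end stage5


/-- Let `k` be a field, `𝔮` a prime of `k[x_1, …, x_n]` and `r` the transcendence degree of `κ(𝔮)` over
`k`. Then there is a finite `k`-algebra map `φ : k[y_1, …, y_n] → k[x_1, …, x_n]` with `φ⁻¹(𝔮) =
(y_{r+1}, …, y_n)`. -/
theorem result {k : Type u} [Field k] (n r : ℕ) (q : Ideal (MvPolynomial (Fin n) k))
    [q.IsPrime] (hr : Algebra.trdeg k q.ResidueField = r) :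
    ∃ φ : MvPolynomial (Fin n) k →ₐ[k] MvPolynomial (Fin n) k, φ.toRingHom.Finite ∧
      q.comap φ = Ideal.span (Set.range fun i : {i : Fin n // r ≤ (i : ℕ)} => MvPolynomial.X (i : Fin n)) := by
  classical
  obtain ⟨φ, S, hφ, hS⟩ := exists_normalization n q
  -- compute `#S`
  have hcard : r = n - S.card := by
    have h1 := trdeg_residueField q
    rw [← trdeg_quot_comap φ hφ q, hS, trdeg_quot_span_X S, hr] at h1
    exact_mod_cast h1
  have hSn : S.card ≤ n := by
    have := Finset.card_le_univ S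
    simpa using this
  set Tr : Finset (Fin n) := Finset.univ.filter (fun i : Fin n => r ≤ i.val) with hTr
  have hTrcard : Tr.card = S.card := by
    have h1 : (Finset.univ.filter (fun i : Fin n => i.val < r)).card = r := by
      rw [Fin.card_filter_val_lt]
      omega
    have h2 := Finset.card_filter_add_card_filter_not (s := (Finset.univ : Finset (Fin n)))
      (fun i : Fin n => i.val < r)
    have h3 : (Finset.univ.filter (fun i : Fin n => ¬ i.val < r)) = Tr := by
      rw [hTr]; congr 1; ext i; simp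
    rw [h1, h3, Finset.card_univ, Fintype.card_fin] at h2
    omega
  obtain ⟨σ, hσ⟩ := Equiv.Perm.exists_map_finset_eq Tr S hTrcard
  have hσS : ∀ i, i ∈ Tr ↔ σ i ∈ S := by
    intro i
    rw [← hσ, Finset.mem_map]
    constructor
    · intro hi; exact ⟨i, hi, rfl⟩
    · rintro ⟨j, hj, hji⟩
      have : j = i := σ.injective hji
      rw [← this]; exact hj
  refine ⟨φ.comp (MvPolynomial.rename σ), ?_, ?_⟩
  · have hint : (φ.comp (MvPolynomial.rename σ)).toRingHom.IsIntegral := by
      have h1 : (MvPolynomial.rename σ : MvPolynomial (Fin n) k →ₐ[k] _).toRingHom.IsIntegral :=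
        RingHom.isIntegral_of_surjective _ (MvPolynomial.rename_surjective _ σ.surjective)
      exact fun x => RingHom.IsIntegral.trans _ _ h1 hφ x
    apply RingHom.IsIntegral.to_finite hint
    apply RingHom.FiniteType.of_comp_finiteType (f := algebraMap k (MvPolynomial (Fin n) k))
    have : (φ.comp (MvPolynomial.rename σ)).toRingHom.comp (algebraMap k (MvPolynomial (Fin n) k))
        = algebraMap k (MvPolynomial (Fin n) k) := (φ.comp (MvPolynomial.rename σ)).comp_algebraMap
    rw [this]
    exact RingHom.finiteType_algebraMap.mpr inferInstance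
  · have hrange : (Set.range fun i : {i : Fin n // r ≤ (i : ℕ)} => (MvPolynomial.X (i : Fin n) : MvPolynomial (Fin n) k))
        = MvPolynomial.X '' (Tr : Set (Fin n)) := by
      ext x
      simp only [Set.mem_range, Subtype.exists, exists_prop, Set.mem_image, Finset.mem_coe, hTr,
        Finset.mem_filter, Finset.mem_univ, true_and]
    rw [hrange]
    have hcomap : q.comap (φ.comp (MvPolynomial.rename σ))
        = (q.comap φ).comap (MvPolynomial.rename σ : MvPolynomial (Fin n) k →ₐ[k] _) := rfl
    rw [hcomap, hS]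
    apply le_antisymm
    · intro P hP
      rw [Ideal.mem_comap] at hP
      have h1 : P = MvPolynomial.rename σ.symm (MvPolynomial.rename σ P) := by
        rw [MvPolynomial.rename_rename]
        simp
      rw [h1]
      have h2 : (Ideal.span (MvPolynomial.X '' (S : Set (Fin n))) : Ideal (MvPolynomial (Fin n) k)).map
          (MvPolynomial.rename σ.symm : MvPolynomial (Fin n) k →ₐ[k] _)
          ≤ Ideal.span (MvPolynomial.X '' (Tr : Set (Fin n))) := by
        rw [Ideal.map_span, Ideal.span_le]
        rintro _ ⟨_, ⟨j, hj, rfl⟩, rfl⟩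
        apply Ideal.subset_span
        refine ⟨σ.symm j, ?_, by simp⟩
        rw [Finset.mem_coe, hσS]
        simpa using hj
      exact h2 (Ideal.mem_map_of_mem _ hP)
    · rw [Ideal.span_le]
      rintro _ ⟨i, hi, rfl⟩
      rw [SetLike.mem_coe, Ideal.mem_comap]
      apply Ideal.subset_span
      refine ⟨σ i, ?_, by simp⟩
      rw [Finset.mem_coe, ← hσS]
      exact hi

end Groth.Agent.S2100
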