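import Groth.Statements.S2104
import Mathlib
import Groth.Agent.Lib.Helper11.QuasiReg
import Groth.Agent.Lib.Helper11.QuasiReg2
import Groth.Agent.S2103

set_option autoImplicit false
universe u
open CAlg

namespace Groth.Agent.S2104

open MvPolynomial Groth.Agent.Lib.helper11.QuasiReg

section
variable {A : Type u} [CommRing A] {n m : ℕ}

/-- the submodule of trivial (Koszul) relations -/
def Triv (g : Fin m → A) : Submodule A (Fin m → A) :=
  Submodule.span A {v : Fin m → A | ∃ i j : Fin m, v = Pi.single i (g j) - Pi.single j (g i)}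

theorem sum_eq_zero_of_mem_Triv (g : Fin m → A) (t : Fin m → A) (ht : t ∈ Triv g) :
    ∑ j, t j * g j = 0 := by
  classical
  let φ : (Fin m → A) →ₗ[A] A :=
    { toFun := fun t => ∑ j, t j * g j
      map_add' := fun x y => by simp [add_mul, Finset.sum_add_distrib]
      map_smul' := fun c x => by simp [Finset.mul_sum, mul_assoc] }
  change φ t = 0
  have : Triv g ≤ LinearMap.ker φ := by
    rw [Triv, Submodule.span_le]
    rintro v ⟨i, j, rfl⟩
    change φ _ = 0
    change ∑ k, (Pi.single i (g j) - Pi.single j (g i) : Fin m → A) k * g k = 0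
    simp only [Pi.sub_apply, sub_mul, Finset.sum_sub_distrib, Pi.single_apply, ite_mul, zero_mul,
      Finset.sum_ite_eq', Finset.mem_univ, if_true]
    ring
  exact this ht

/-- `H(d)`: relations of `g` modulo `J^d` are trivial modulo `J^d`. -/
def HH (J : Ideal A) (g : Fin m → A) (d : ℕ) : Prop :=
  ∀ r : Fin m → A, ∑ j, r j * g j ∈ J ^ d → ∃ t ∈ Triv g, ∀ j, r j - t j ∈ J ^ d

/-- reduction of vectors modulo an ideal -/
def piK (K : Ideal A) : (Fin m → A) →ₗ[A] (Fin m → A ⧸ K) where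
  toFun v j := Ideal.Quotient.mk K (v j)
  map_add' x y := by ext j; simp
  map_smul' c x := by ext j; simp [Algebra.smul_def]

theorem span_bar_eq_map (K : Ideal A) (g : Fin m → A) :
    (Submodule.span (A ⧸ K) {v : Fin m → A ⧸ K | ∃ i j : Fin m,
      v = Pi.single i (Ideal.Quotient.mk K (g j)) - Pi.single j (Ideal.Quotient.mk K (g i))}).restrictScalars A
      = (Triv g).map (piK (m := m) K) := by
  classical
  rw [Submodule.restrictScalars_span A (A ⧸ K) Ideal.Quotient.mk_surjective, Triv,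
    Submodule.map_span]
  congr 1
  ext v
  constructor
  · rintro ⟨i, j, rfl⟩
    refine ⟨Pi.single i (g j) - Pi.single j (g i), ⟨i, j, rfl⟩, ?_⟩
    ext k
    change Ideal.Quotient.mk K ((Pi.single i (g j) - Pi.single j (g i) : Fin m → A) k) = _
    simp only [Pi.sub_apply, Pi.single_apply, map_sub]
    split_ifs <;> simp
  · rintro ⟨w, ⟨i, j, rfl⟩, rfl⟩
    refine ⟨i, j, ?_⟩
    ext k
    change Ideal.Quotient.mk K ((Pi.single i (g j) - Pi.single j (g i) : Fin m → A) k) = _
    simp only [Pi.sub_apply, Pi.single_apply, map_sub]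
    split_ifs <;> simp

theorem HH_one (J : Ideal A) (g : Fin m → A)
    (hg : CAlgX.IsH1Regular (fun j => Ideal.Quotient.mk J (g j))) : HH J g 1 := by
  classical
  intro r hr
  rw [pow_one] at hr
  have h1 : ∑ j, (piK (m := m) J r) j * Ideal.Quotient.mk J (g j) = 0 := by
    change ∑ j, Ideal.Quotient.mk J (r j) * Ideal.Quotient.mk J (g j) = 0
    simp_rw [← map_mul]
    rw [← map_sum]
    exact Ideal.Quotient.eq_zero_iff_mem.mpr hr
  have h2 := hg (piK (m := m) J r) h1
  have h4 : piK (m := m) J r ∈ (Triv g).map (piK (m := m) J) := by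
    rw [← span_bar_eq_map]
    exact h2
  obtain ⟨t, ht, hrt⟩ := h4
  refine ⟨t, ht, fun j => ?_⟩
  rw [pow_one]
  have := congrFun hrt j
  change Ideal.Quotient.mk J (t j) = Ideal.Quotient.mk J (r j) at this
  rw [← Ideal.Quotient.eq_zero_iff_mem, map_sub, this, sub_self]

/-- `HH K g 1`-type statement gives `H_1`-regularity in the quotient ring. -/
theorem isH1Regular_of_HH (K : Ideal A) (g : Fin m → A) (h : HH K g 1) :
    CAlgX.IsH1Regular (fun j => Ideal.Quotient.mk K (g j)) := by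
  classical
  intro a ha
  have hr : ∀ j, ∃ r : A, Ideal.Quotient.mk K r = a j := fun j => Ideal.Quotient.mk_surjective (a j)
  choose r hr using hr
  have h1 : ∑ j, r j * g j ∈ K ^ 1 := by
    rw [pow_one, ← Ideal.Quotient.eq_zero_iff_mem, map_sum]
    simp_rw [map_mul, hr]
    exact ha
  obtain ⟨t, ht, hrt⟩ := h r h1
  have h2 : a = piK (m := m) K t := by
    ext j
    change a j = Ideal.Quotient.mk K (t j)
    rw [← hr j, ← sub_eq_zero, ← map_sub, Ideal.Quotient.eq_zero_iff_mem]
    have := hrt j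
    rwa [pow_one] at this
  have h3 : piK (m := m) K t ∈ (Triv g).map (piK (m := m) K) := Submodule.mem_map_of_mem ht
  rw [← span_bar_eq_map] at h3
  rw [h2]
  exact h3

theorem HH_zero (J : Ideal A) (g : Fin m → A) : HH J g 0 := by
  intro r _
  exact ⟨0, Submodule.zero_mem _, fun j => by simp⟩

theorem HH_succ (f : Fin n → A) (g : Fin m → A) (hf : CAlgX.IsQuasiRegular f)
    (h1 : HH (Ideal.span (Set.range f)) g 1) (d : ℕ) (hd : HH (Ideal.span (Set.range f)) g d) :
    HH (Ideal.span (Set.range f)) g (d + 1) := by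
  classical
  intro r hr
  obtain ⟨t, ht, hv⟩ := hd r (Ideal.pow_le_pow_right (Nat.le_succ d) hr)
  -- v = r - t has entries in J^d
  have hsum : ∑ j, (r j - t j) * g j ∈ Ideal.span (Set.range f) ^ (d + 1) := by
    have : ∑ j, (r j - t j) * g j = ∑ j, r j * g j := by
      simp only [sub_mul, Finset.sum_sub_distrib, sum_eq_zero_of_mem_Triv g t ht, sub_zero]
    rw [this]; exact hr
  have hP : ∀ j, ∃ P : MvPolynomial (Fin n) A, P.IsHomogeneous d ∧ MvPolynomial.eval f P = r j - t j :=
    fun j => (Ideal.mem_span_pow_iff_exists_isHomogeneous f _).1 (hv j)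
  choose P hPh hPe using hP
  let Q : MvPolynomial (Fin n) A := ∑ j, C (g j) * P j
  have hQh : Q.IsHomogeneous d := by
    apply MvPolynomial.IsHomogeneous.sum
    intro j _
    have := (isHomogeneous_C (Fin n) (g j)).mul (hPh j)
    rwa [zero_add] at this
  have hQe : MvPolynomial.eval f Q = ∑ j, (r j - t j) * g j := by
    simp only [Q, map_sum, map_mul, eval_C, hPe]
    exact Finset.sum_congr rfl fun j _ => mul_comm _ _
  have hcoef : ∀ α : Fin n →₀ ℕ, ∑ j, (P j).coeff α * g j ∈ Ideal.span (Set.range f) := by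
    intro α
    have := hf d Q hQh (by rw [hQe]; exact hsum) α
    simp only [Q, coeff_sum, coeff_C_mul] at this
    convert this using 1
    exact Finset.sum_congr rfl fun j _ => mul_comm _ _
  have hex : ∀ α : Fin n →₀ ℕ, ∃ tα ∈ Triv g, ∀ j, (P j).coeff α - tα j ∈ Ideal.span (Set.range f) := by
    intro α
    obtain ⟨tα, h, h'⟩ := h1 (fun j => (P j).coeff α) (by rw [pow_one]; exact hcoef α)
    exact ⟨tα, h, fun j => by simpa using h' j⟩
  choose T hT hT' using hex
  let S : Finset (Fin n →₀ ℕ) := Finset.univ.biUnion fun j => (P j).support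
  let fα : (Fin n →₀ ℕ) → A := fun α => ∏ i, f i ^ α i
  have hfα : ∀ α ∈ S, fα α ∈ Ideal.span (Set.range f) ^ d := by
    intro α hα
    obtain ⟨j, -, hj⟩ := Finset.mem_biUnion.1 hα
    have hdeg : (Finsupp.weight 1) α = d := hPh j (mem_support_iff.1 hj)
    rw [Ideal.mem_span_pow_iff_exists_isHomogeneous]
    refine ⟨monomial α 1, ?_, ?_⟩
    · apply isHomogeneous_monomial
      rw [Finsupp.degree_eq_weight_one]; exact hdeg
    · simp [MvPolynomial.eval_monomial, fα]
  have heval : ∀ j, r j - t j = ∑ α ∈ S, (P j).coeff α * fα α := by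
    intro j
    rw [← hPe j, MvPolynomial.eval_eq']
    apply Finset.sum_subset
    · intro α hα
      exact Finset.mem_biUnion.2 ⟨j, Finset.mem_univ _, hα⟩
    · intro α _ hα
      rw [notMem_support_iff.1 hα, zero_mul]
  refine ⟨t + ∑ α ∈ S, fα α • T α, ?_, fun j => ?_⟩
  · exact Submodule.add_mem _ ht (Submodule.sum_mem _ fun α _ => Submodule.smul_mem _ _ (hT α))
  · have : r j - (t + ∑ α ∈ S, fα α • T α) j = ∑ α ∈ S, ((P j).coeff α - T α j) * fα α := by
      simp only [Pi.add_apply, Finset.sum_apply, Pi.smul_apply, smul_eq_mul, sub_mul,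
        Finset.sum_sub_distrib, ← heval j]
      rw [sub_add_eq_sub_sub]
      congr 1
      exact Finset.sum_congr rfl fun α _ => mul_comm _ _
    rw [this, pow_succ']
    exact Ideal.sum_mem _ fun α hα => Ideal.mul_mem_mul (hT' α j) (hfα α hα)

theorem HH_all (f : Fin n → A) (g : Fin m → A) (hf : CAlgX.IsQuasiRegular f)
    (hg : CAlgX.IsH1Regular (fun j => Ideal.Quotient.mk (Ideal.span (Set.range f)) (g j))) :
    ∀ d, HH (Ideal.span (Set.range f)) g d := by
  intro d
  induction d with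
  | zero => exact HH_zero _ g
  | succ d ih => exact HH_succ f g hf (HH_one _ g hg) d ih

theorem lemmaB (J : Ideal A) (g : Fin m → A) (k : ℕ) (hk : HH J g k) (x : A) (hxJ : x ∈ J ^ k)
    (hx : x ∈ Ideal.span (Set.range g) ⊔ J ^ (k + 1)) :
    x ∈ Ideal.span (Set.range g) * J ^ k ⊔ J ^ (k + 1) := by
  obtain ⟨y, hy, z, hz, rfl⟩ := Submodule.mem_sup.1 hx
  obtain ⟨r, rfl⟩ := Ideal.mem_span_range_iff_exists_fun.1 hy
  have h1 : ∑ j, r j * g j ∈ J ^ k := by
    have := Ideal.sub_mem _ hxJ (Ideal.pow_le_pow_right (Nat.le_succ k) hz)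
    rwa [add_sub_cancel_right] at this
  obtain ⟨t, ht, hrt⟩ := hk r h1
  have h2 : ∑ j, r j * g j = ∑ j, g j * (r j - t j) := by
    have := sum_eq_zero_of_mem_Triv g t ht
    simp only [mul_sub, Finset.sum_sub_distrib]
    rw [show ∑ j, g j * t j = 0 from by rw [← this]; exact Finset.sum_congr rfl fun j _ => mul_comm _ _,
      sub_zero]
    exact Finset.sum_congr rfl fun j _ => mul_comm _ _
  refine Submodule.mem_sup.2 ⟨_, ?_, z, hz, rfl⟩
  rw [h2]
  exact Ideal.sum_mem _ fun j _ => Ideal.mul_mem_mul (Ideal.subset_span ⟨j, rfl⟩) (hrt j)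

theorem sup_pow_le (I J : Ideal A) (k e : ℕ) :
    (I ⊔ J) ^ (k + e + 1) ≤ I ^ (k + 1) ⊔ J ^ (e + 1) := by
  rw [← Ideal.add_eq_sup, ← Ideal.add_eq_sup, add_pow, Ideal.sum_eq_sup]
  apply Finset.sup_le
  intro i hi
  by_cases hn : k + 1 ≤ i
  · exact (Ideal.mul_le_left.trans (Ideal.mul_le_left.trans
      ((Ideal.pow_le_pow_right hn).trans le_sup_left)))
  · refine (Ideal.mul_le_left.trans (Ideal.mul_le_right.trans
      ((Ideal.pow_le_pow_right ?_).trans le_sup_right)))
    omega

/-- forms with coefficients in `K` represent `K * J^n` -/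
theorem exists_form_of_mem_mul (f : Fin n → A) (K : Ideal A) (k : ℕ) (a : A)
    (ha : a ∈ K * Ideal.span (Set.range f) ^ k) :
    ∃ G : MvPolynomial (Fin n) A, G.IsHomogeneous k ∧ (∀ d, G.coeff d ∈ K) ∧
      MvPolynomial.eval f G = a := by
  refine Submodule.mul_induction_on ha ?_ ?_
  · intro b hb c hc
    obtain ⟨G0, hG0, rfl⟩ := (Ideal.mem_span_pow_iff_exists_isHomogeneous f c).1 hc
    refine ⟨C b * G0, ?_, ?_, ?_⟩
    · have := (isHomogeneous_C (Fin n) b).mul hG0
      rwa [zero_add] at this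
    · intro d
      rw [coeff_C_mul]
      exact Ideal.mul_mem_right _ _ hb
    · simp
  · rintro x y ⟨G1, h1, h1', rfl⟩ ⟨G2, h2, h2', rfl⟩
    refine ⟨G1 + G2, h1.add h2, ?_, by simp⟩
    intro d
    rw [coeff_add]
    exact Ideal.add_mem _ (h1' d) (h2' d)

/-- the `X`-part of a multi-index -/
noncomputable def aOf (d : Fin (n + m) →₀ ℕ) : Fin n →₀ ℕ :=
  d.comapDomain (Fin.castAdd m) (Fin.castAdd_injective n m).injOn

/-- the `Y`-part of a multi-index -/
noncomputable def bOf (d : Fin (n + m) →₀ ℕ) : Fin m →₀ ℕ :=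
  d.comapDomain (Fin.natAdd n) (Fin.natAdd_injective m n).injOn

theorem aOf_apply (d : Fin (n + m) →₀ ℕ) (i : Fin n) : aOf d i = d (Fin.castAdd m i) := rfl

theorem bOf_apply (d : Fin (n + m) →₀ ℕ) (j : Fin m) : bOf d j = d (Fin.natAdd n j) := rfl

theorem wt_eq_sum {k : ℕ} (d : Fin k →₀ ℕ) : (Finsupp.weight (1 : Fin k → ℕ)) d = ∑ i, d i := by
  have := Finsupp.degree_eq_sum d
  rwa [Finsupp.degree_eq_weight_one] at this

theorem wt_split (d : Fin (n + m) →₀ ℕ) :
    (Finsupp.weight (1 : Fin (n + m) → ℕ)) d =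
      (Finsupp.weight (1 : Fin n → ℕ)) (aOf d) + (Finsupp.weight (1 : Fin m → ℕ)) (bOf d) := by
  rw [wt_eq_sum, wt_eq_sum, wt_eq_sum, Fin.sum_univ_add]
  rfl

theorem ab_injective (d d' : Fin (n + m) →₀ ℕ) (ha : aOf d = aOf d') (hb : bOf d = bOf d') :
    d = d' := by
  ext i
  induction i using Fin.addCases with
  | left i => exact DFunLike.congr_fun ha i
  | right j => exact DFunLike.congr_fun hb j

/-- the monomial value -/
def mon {k : ℕ} (x : Fin k → A) (α : Fin k →₀ ℕ) : A := ∏ i, x i ^ α i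

theorem mon_eq_prod {k : ℕ} (x : Fin k → A) (α : Fin k →₀ ℕ) :
    (α.prod fun i e => x i ^ e) = mon x α :=
  Finsupp.prod_fintype α _ (fun i => pow_zero _)

theorem mon_append (f : Fin n → A) (g : Fin m → A) (d : Fin (n + m) →₀ ℕ) :
    mon (Fin.append f g) d = mon f (aOf d) * mon g (bOf d) := by
  unfold mon
  rw [Fin.prod_univ_add]
  simp only [Fin.append_left, Fin.append_right, aOf_apply, bOf_apply]

theorem mon_mem_pow {k : ℕ} (x : Fin k → A) (α : Fin k →₀ ℕ) :
    mon x α ∈ Ideal.span (Set.range x) ^ ((Finsupp.weight (1 : Fin k → ℕ)) α) := by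
  rw [Ideal.mem_span_pow_iff_exists_isHomogeneous]
  refine ⟨monomial α 1, ?_, ?_⟩
  · apply isHomogeneous_monomial
    rw [Finsupp.degree_eq_weight_one]
    rfl
  · simp [MvPolynomial.eval_monomial, mon]

theorem span_append (f : Fin n → A) (g : Fin m → A) :
    Ideal.span (Set.range (Fin.append f g)) =
      Ideal.span (Set.range f) ⊔ Ideal.span (Set.range g) := by
  rw [← Ideal.span_union]
  congr 1
  ext x
  constructor
  · rintro ⟨i, rfl⟩
    induction i using Fin.addCases with
    | left i => rw [Fin.append_left]; exact Or.inl ⟨i, rfl⟩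
    | right j => rw [Fin.append_right]; exact Or.inr ⟨j, rfl⟩
  · rintro (⟨i, rfl⟩ | ⟨j, rfl⟩)
    · exact ⟨Fin.castAdd m i, Fin.append_left f g i⟩
    · exact ⟨Fin.natAdd n j, Fin.append_right f g j⟩

end

theorem main_aux {A : Type u} [CommRing A] {n m : ℕ} (f : Fin n → A)
    (g : Fin m → A) (hf : CAlgX.IsQuasiRegular f)
    (hg : CAlgX.IsH1Regular (fun j => Ideal.Quotient.mk (Ideal.span (Set.range f)) (g j))) :
    CAlgX.IsQuasiRegular (Fin.append f g) := by
  classical
  intro N P hP hPI d₀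
  set J := Ideal.span (Set.range f) with hJ
  set G := Ideal.span (Set.range g) with hG
  have hI : Ideal.span (Set.range (Fin.append f g)) = J ⊔ G := span_append f g
  rw [hI] at hPI ⊢
  have hHH := HH_all f g hf hg
  by_cases hd₀ : d₀ ∈ P.support
  swap
  · rw [notMem_support_iff.1 hd₀]; exact Ideal.zero_mem _
  have hdeg₀ : (Finsupp.weight (1 : Fin (n + m) → ℕ)) d₀ = N := hP (mem_support_iff.1 hd₀)
  set α₀ := aOf d₀ with hα₀
  set β₀ := bOf d₀ with hβ₀
  set k := (Finsupp.weight (1 : Fin n → ℕ)) α₀ with hk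
  set e := (Finsupp.weight (1 : Fin m → ℕ)) β₀ with he
  have hke : k + e = N := by rw [← hdeg₀, wt_split]
  have hdegd : ∀ d ∈ P.support, (Finsupp.weight (1 : Fin n → ℕ)) (aOf d) +
      (Finsupp.weight (1 : Fin m → ℕ)) (bOf d) = N := fun d hd => by
    rw [← wt_split]; exact hP (mem_support_iff.1 hd)
  -- Step 1
  let Seq := P.support.filter (fun d => (Finsupp.weight (1 : Fin m → ℕ)) (bOf d) = e)
  have htot : MvPolynomial.eval (Fin.append f g) P =
      ∑ d ∈ P.support, P.coeff d * (mon f (aOf d) * mon g (bOf d)) := by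
    rw [MvPolynomial.eval_eq']
    exact Finset.sum_congr rfl fun d _ => by rw [← mon_append]; rfl
  have step1 : ∑ d ∈ Seq, P.coeff d * (mon f (aOf d) * mon g (bOf d)) ∈ G ^ (e + 1) ⊔ J ^ (k + 1) := by
    have h1 : MvPolynomial.eval (Fin.append f g) P ∈ G ^ (e + 1) ⊔ J ^ (k + 1) := by
      have := sup_pow_le J G k e
      rw [hke] at this
      rw [sup_comm]
      exact this hPI
    have h2 : ∑ d ∈ P.support.filter (fun d => ¬ (Finsupp.weight (1 : Fin m → ℕ)) (bOf d) = e),
        P.coeff d * (mon f (aOf d) * mon g (bOf d)) ∈ G ^ (e + 1) ⊔ J ^ (k + 1) := by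
      refine Ideal.sum_mem _ fun d hd => ?_
      obtain ⟨hd1, hd2⟩ := Finset.mem_filter.1 hd
      have hsum := hdegd d hd1
      rcases lt_or_gt_of_ne hd2 with hlt | hgt
      · -- Y-degree smaller: X-degree at least k+1
        refine Ideal.mem_sup_right ?_
        refine Ideal.mul_mem_left _ _ (Ideal.mul_mem_right _ _ ?_)
        exact Ideal.pow_le_pow_right (by omega) (mon_mem_pow f (aOf d))
      · refine Ideal.mem_sup_left ?_
        refine Ideal.mul_mem_left _ _ (Ideal.mul_mem_left _ _ ?_)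
        exact Ideal.pow_le_pow_right (by omega) (mon_mem_pow g (bOf d))
    have h3 := Finset.sum_filter_add_sum_filter_not P.support
      (fun d => (Finsupp.weight (1 : Fin m → ℕ)) (bOf d) = e)
      (fun d => P.coeff d * (mon f (aOf d) * mon g (bOf d)))
    rw [← htot] at h3
    have h4 : ∑ d ∈ Seq, P.coeff d * (mon f (aOf d) * mon g (bOf d)) =
        MvPolynomial.eval (Fin.append f g) P -
          ∑ d ∈ P.support.filter (fun d => ¬ (Finsupp.weight (1 : Fin m → ℕ)) (bOf d) = e),
            P.coeff d * (mon f (aOf d) * mon g (bOf d)) := by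
      rw [← h3]; ring
    rw [h4]
    exact Ideal.sub_mem _ h1 h2
  -- Step 2
  let Q : MvPolynomial (Fin m) A := ∑ d ∈ Seq, monomial (bOf d) (P.coeff d * mon f (aOf d))
  have hQh : Q.IsHomogeneous e := by
    apply MvPolynomial.IsHomogeneous.sum
    intro d hd
    apply isHomogeneous_monomial
    rw [Finsupp.degree_eq_weight_one]
    exact (Finset.mem_filter.1 hd).2
  have hQe : MvPolynomial.eval g Q = ∑ d ∈ Seq, P.coeff d * (mon f (aOf d) * mon g (bOf d)) := by
    simp only [Q, map_sum, MvPolynomial.eval_monomial]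
    exact Finset.sum_congr rfl fun d _ => by rw [mul_assoc, mon_eq_prod g]
  have hHk1 : HH (J ^ (k + 1)) g 1 := by
    intro r hr
    rw [pow_one] at hr
    obtain ⟨t, ht, h⟩ := hHH (k + 1) r hr
    exact ⟨t, ht, fun j => by rw [pow_one]; exact h j⟩
  have hqr : CAlgX.IsQuasiRegular (fun j => Ideal.Quotient.mk (J ^ (k + 1)) (g j)) :=
    Groth.Agent.S2103.result _ (isH1Regular_of_HH (J ^ (k + 1)) g hHk1)
  have hspan : Ideal.span (Set.range fun j => Ideal.Quotient.mk (J ^ (k + 1)) (g j)) =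
      G.map (Ideal.Quotient.mk (J ^ (k + 1))) := by
    rw [hG, Ideal.map_span]
    congr 1
    ext x
    simp
  have hcoefQ : ∀ β, Q.coeff β ∈ G ⊔ J ^ (k + 1) := by
    intro β
    have h1 := hqr e (MvPolynomial.map (Ideal.Quotient.mk (J ^ (k + 1))) Q) (hQh.map _) (by
      have := Groth.Agent.Lib.helper11.QuasiReg.eval_map_mk (J ^ (k + 1)) g Q
      rw [Function.comp_def] at this
      rw [this, hQe]
      obtain ⟨y, hy, z, hz, hyz⟩ := Submodule.mem_sup.1 step1
      rw [← hyz, map_add, Ideal.Quotient.eq_zero_iff_mem.2 hz, add_zero, hspan, ← Ideal.map_pow]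
      exact Ideal.mem_map_of_mem _ hy) β
    rw [MvPolynomial.coeff_map, hspan] at h1
    exact Ideal.mem_quotient_iff_mem_sup.1 h1
  -- Step 3
  let Sβ := Seq.filter (fun d => bOf d = β₀)
  have hcβ : Q.coeff β₀ = ∑ d ∈ Sβ, P.coeff d * mon f (aOf d) := by
    have h1 : Q.coeff β₀ = ∑ d ∈ Seq, (if bOf d = β₀ then P.coeff d * mon f (aOf d) else 0) := by
      change (∑ d ∈ Seq, monomial (bOf d) (P.coeff d * mon f (aOf d))).coeff β₀ = _
      rw [coeff_sum]
      exact Finset.sum_congr rfl fun d _ => coeff_monomial _ _ _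
    rw [h1]
    exact (Finset.sum_filter _ _).symm
  have hmemSβ : ∀ d ∈ Sβ, d ∈ P.support ∧ bOf d = β₀ ∧
      (Finsupp.weight (1 : Fin n → ℕ)) (aOf d) = k := by
    intro d hd
    obtain ⟨hd1, hd2⟩ := Finset.mem_filter.1 hd
    obtain ⟨hd3, hd4⟩ := Finset.mem_filter.1 hd1
    refine ⟨hd3, hd2, ?_⟩
    have := hdegd d hd3
    omega
  have hcJ : Q.coeff β₀ ∈ J ^ k := by
    rw [hcβ]
    refine Ideal.sum_mem _ fun d hd => Ideal.mul_mem_left _ _ ?_
    rw [← (hmemSβ d hd).2.2]
    exact mon_mem_pow f (aOf d)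
  have hB := lemmaB J g k (hHH k) (Q.coeff β₀) hcJ (hcoefQ β₀)
  -- Step 4
  let F : MvPolynomial (Fin n) A := ∑ d ∈ Sβ, monomial (aOf d) (P.coeff d)
  have hFh : F.IsHomogeneous k := by
    apply MvPolynomial.IsHomogeneous.sum
    intro d hd
    apply isHomogeneous_monomial
    rw [Finsupp.degree_eq_weight_one]
    exact (hmemSβ d hd).2.2
  have hFe : MvPolynomial.eval f F = Q.coeff β₀ := by
    rw [hcβ]
    simp only [F, map_sum, MvPolynomial.eval_monomial, mon_eq_prod]
  obtain ⟨b, hb, y, hy, hby⟩ := Submodule.mem_sup.1 hB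
  obtain ⟨Fb, hFbh, hFbc, hFbe⟩ := exists_form_of_mem_mul f G k b hb
  have hdiff := hf k (F - Fb) (hFh.sub hFbh) (by
    rw [map_sub, hFe, hFbe, ← hby, add_sub_cancel_left]; exact hy) α₀
  have hd₀Sβ : d₀ ∈ Sβ := by
    refine Finset.mem_filter.2 ⟨Finset.mem_filter.2 ⟨hd₀, rfl⟩, rfl⟩
  have hFα : F.coeff α₀ = P.coeff d₀ := by
    simp only [F, coeff_sum, coeff_monomial]
    rw [Finset.sum_eq_single d₀]
    · rw [if_pos rfl]
    · intro d hd hne
      rw [if_neg]
      intro h
      exact hne (ab_injective d d₀ h (hmemSβ d hd).2.1)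
    · intro h
      exact absurd hd₀Sβ h
  rw [coeff_sub, hFα] at hdiff
  have : P.coeff d₀ = (P.coeff d₀ - Fb.coeff α₀) + Fb.coeff α₀ := by ring
  rw [this]
  exact Ideal.add_mem _ (Ideal.mem_sup_left hdiff) (Ideal.mem_sup_right (hFbc α₀))


/-- Appending to a quasi-regular sequence `f` a sequence `g` whose image modulo the ideal `(f)` is
`H_1`-regular yields a quasi-regular sequence. -/
theorem result {A : Type u} [CommRing A] {n m : ℕ} (f : Fin n → A)
    (g : Fin m → A) (hf : CAlgX.IsQuasiRegular f)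
    (hg : CAlgX.IsH1Regular (fun j => Ideal.Quotient.mk (Ideal.span (Set.range f)) (g j))) :
    CAlgX.IsQuasiRegular (Fin.append f g) := by
  exact main_aux f g hf hg

end Groth.Agent.S2104
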