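import Groth.Statements.S2105
import Mathlib.Algebra.BigOperators.Fin
import Mathlib.Algebra.BigOperators.Pi
import Mathlib.LinearAlgebra.Pi
import Mathlib.LinearAlgebra.Quotient.Basic

set_option autoImplicit false
universe u
open CAlg

namespace Groth.Agent.S2105

/-- Appending to an `H_1`-regular sequence `f` a sequence `g` whose image modulo the ideal `(f)` is
`H_1`-regular yields an `H_1`-regular sequence. -/
theorem result {A : Type u} [CommRing A] {n m : ℕ} (f : Fin n → A)
    (g : Fin m → A) (hf : CAlgX.IsH1Regular f)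
    (hg : CAlgX.IsH1Regular (fun j => Ideal.Quotient.mk (Ideal.span (Set.range f)) (g j))) :
    CAlgX.IsH1Regular (Fin.append f g) := by
  classical
  intro a ha
  -- notation
  set F : Fin (n + m) → A := Fin.append f g with hF
  have hFL : ∀ i : Fin n, F (Fin.castAdd m i) = f i := fun i => Fin.append_left f g i
  have hFR : ∀ j : Fin m, F (Fin.natAdd n j) = g j := fun j => Fin.append_right f g j
  set W : Submodule A (Fin (n + m) → A) := Submodule.span A
    {v : Fin (n + m) → A | ∃ i j : Fin (n + m), v = Pi.single i (F j) - Pi.single j (F i)} with hW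
  set Wf : Submodule A (Fin n → A) := Submodule.span A
    {v : Fin n → A | ∃ i j : Fin n, v = Pi.single i (f j) - Pi.single j (f i)} with hWf
  set Wg : Submodule A (Fin m → A) := Submodule.span A
    {v : Fin m → A | ∃ i j : Fin m, v = Pi.single i (g j) - Pi.single j (g i)} with hWg
  let aL : Fin n → A := fun i => a (Fin.castAdd m i)
  let aR : Fin m → A := fun j => a (Fin.natAdd n j)
  have hrel : ∑ i, aL i * f i + ∑ j, aR j * g j = 0 := by
    rw [Fin.sum_univ_add] at ha
    simpa only [hFL, hFR] using ha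
  -- key congruence in the big module
  have hswap : ∀ (s t : Fin (n + m)) (x : A),
      Pi.single s (x * F t) - Pi.single t (x * F s) ∈ W := by
    intro s t x
    have h1 : Pi.single s (F t) - Pi.single t (F s) ∈ W := Submodule.subset_span ⟨s, t, rfl⟩
    have h2 := W.smul_mem x h1
    have h3 : x • (Pi.single s (F t) - Pi.single t (F s) : Fin (n + m) → A) =
        Pi.single s (x * F t) - Pi.single t (x * F s) := by
      rw [smul_sub, ← Pi.single_smul, ← Pi.single_smul, smul_eq_mul, smul_eq_mul]
    rwa [h3] at h2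
  -- embeddings
  let ιL : (Fin n → A) →ₗ[A] (Fin (n + m) → A) :=
    ∑ i : Fin n, (LinearMap.single A (fun _ : Fin (n + m) => A) (Fin.castAdd m i)).comp
      (LinearMap.proj i)
  let ιR : (Fin m → A) →ₗ[A] (Fin (n + m) → A) :=
    ∑ j : Fin m, (LinearMap.single A (fun _ : Fin (n + m) => A) (Fin.natAdd n j)).comp
      (LinearMap.proj j)
  have hιL : ∀ v : Fin n → A, ιL v = ∑ i, Pi.single (Fin.castAdd m i) (v i) := by
    intro v; simp [ιL, LinearMap.sum_apply]
  have hιR : ∀ v : Fin m → A, ιR v = ∑ j, Pi.single (Fin.natAdd n j) (v j) := by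
    intro v; simp [ιR, LinearMap.sum_apply]
  have hιL_single : ∀ (i : Fin n) (c : A), ιL (Pi.single i c) = Pi.single (Fin.castAdd m i) c := by
    intro i c
    rw [hιL, Finset.sum_eq_single i]
    · rw [Pi.single_eq_same]
    · intro i' _ hne
      rw [Pi.single_eq_of_ne hne, Pi.single_zero]
    · intro h; exact absurd (Finset.mem_univ _) h
  have hιR_single : ∀ (j : Fin m) (c : A), ιR (Pi.single j c) = Pi.single (Fin.natAdd n j) c := by
    intro j c
    rw [hιR, Finset.sum_eq_single j]
    · rw [Pi.single_eq_same]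
    · intro j' _ hne
      rw [Pi.single_eq_of_ne hne, Pi.single_zero]
    · intro h; exact absurd (Finset.mem_univ _) h
  have hιLW : Wf.map ιL ≤ W := by
    rw [hWf, Submodule.map_span_le]
    rintro _ ⟨i, j, rfl⟩
    rw [map_sub, hιL_single, hιL_single, ← hFL, ← hFL]
    exact Submodule.subset_span ⟨_, _, rfl⟩
  have hιRW : Wg.map ιR ≤ W := by
    rw [hWg, Submodule.map_span_le]
    rintro _ ⟨i, j, rfl⟩
    rw [map_sub, hιR_single, hιR_single, ← hFR, ← hFR]
    exact Submodule.subset_span ⟨_, _, rfl⟩
  -- Step 1: lift the relation modulo (f)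
  let π := Ideal.Quotient.mk (Ideal.span (Set.range f))
  have hπrel : ∑ j, π (aR j) * π (g j) = 0 := by
    have h1 : ∑ j, aR j * g j = - ∑ i, aL i * f i := by
      rw [eq_neg_iff_add_eq_zero, add_comm]; exact hrel
    have h2 : ∑ i, aL i * f i ∈ Ideal.span (Set.range f) :=
      Ideal.sum_mem _ fun i _ => Ideal.mul_mem_left _ _ (Ideal.subset_span ⟨i, rfl⟩)
    have h3 : π (∑ j, aR j * g j) = 0 := by
      rw [h1, map_neg, neg_eq_zero]
      exact Ideal.Quotient.eq_zero_iff_mem.mpr h2
    simpa [map_sum, map_mul] using h3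
  have hspan := hg (fun j => π (aR j)) hπrel
  have hlift : ∃ w ∈ Wg, ∀ j, π (w j) = π (aR j) := by
    have key : ∀ vb ∈ Submodule.span (A ⧸ Ideal.span (Set.range f))
        {v : Fin m → A ⧸ Ideal.span (Set.range f) | ∃ i j : Fin m,
          v = Pi.single i (π (g j)) - Pi.single j (π (g i))},
        ∃ w ∈ Wg, ∀ j, π (w j) = vb j := by
      intro vb hvb
      induction hvb using Submodule.span_induction with
      | mem x hx =>
        obtain ⟨i, j, rfl⟩ := hx
        refine ⟨Pi.single i (g j) - Pi.single j (g i), Submodule.subset_span ⟨i, j, rfl⟩, ?_⟩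
        intro t
        simp only [Pi.sub_apply, map_sub, Pi.single_apply]
        split_ifs <;> simp
      | zero => exact ⟨0, Wg.zero_mem, fun j => by simp⟩
      | add x y _ _ hx hy =>
        obtain ⟨w₁, hw₁, h₁⟩ := hx
        obtain ⟨w₂, hw₂, h₂⟩ := hy
        exact ⟨w₁ + w₂, Wg.add_mem hw₁ hw₂, fun j => by simp [h₁ j, h₂ j]⟩
      | smul cb x _ hx =>
        obtain ⟨w₁, hw₁, h₁⟩ := hx
        obtain ⟨c, rfl⟩ := Ideal.Quotient.mk_surjective cb
        exact ⟨c • w₁, Wg.smul_mem c hw₁, fun j => by
          change π (c * w₁ j) = π c * x j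
          rw [map_mul, h₁ j]⟩
    exact key _ hspan
  obtain ⟨w, hwWg, hw⟩ := hlift
  -- Step 2: the difference lies in (f)
  have hdiff : ∀ j, ∃ d : Fin n → A, ∑ i, d i * f i = aR j - w j := by
    intro j
    have : aR j - w j ∈ Ideal.span (Set.range f) := by
      rw [← Ideal.Quotient.eq]; exact (hw j).symm
    exact Ideal.mem_span_range_iff_exists_fun.mp this
  choose d hd using hdiff
  -- relations vanish on Wg
  have hΦg : ∀ v ∈ Wg, ∑ j, v j * g j = 0 := by
    intro v hv
    induction hv using Submodule.span_induction with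
    | mem x hx =>
      obtain ⟨i, j, rfl⟩ := hx
      simp only [Pi.sub_apply, sub_mul, Finset.sum_sub_distrib, Pi.single_apply, ite_mul, zero_mul,
        Finset.sum_ite_eq', Finset.mem_univ, if_true]
      ring
    | zero => simp
    | add x y _ _ hx hy => simp [add_mul, Finset.sum_add_distrib, hx, hy]
    | smul c x _ hx => simp [mul_assoc, ← Finset.mul_sum, hx]
  -- the corrected left part
  let a' : Fin n → A := fun i => aL i + ∑ j, d j i * g j
  have ha' : ∑ i, a' i * f i = 0 := by
    have h1 : ∑ i, a' i * f i = ∑ i, aL i * f i + ∑ j, g j * ∑ i, d j i * f i := by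
      simp only [a', add_mul, Finset.sum_add_distrib, Finset.sum_mul, Finset.mul_sum]
      congr 1
      rw [Finset.sum_comm]
      refine Finset.sum_congr rfl fun j _ => Finset.sum_congr rfl fun i _ => by ring
    rw [h1]
    simp only [hd]
    have h2 : ∑ j, g j * (aR j - w j) = ∑ j, aR j * g j - ∑ j, w j * g j := by
      rw [← Finset.sum_sub_distrib]
      refine Finset.sum_congr rfl fun j _ => by ring
    rw [h2, hΦg w hwWg, sub_zero]
    exact hrel
  have ha'W : ιL a' ∈ W := hιLW ⟨a', hf a' ha', rfl⟩
  have hwW : ιR w ∈ W := hιRW ⟨w, hwWg, rfl⟩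
  -- decomposition of a modulo W
  have hdecomp : a - (ιL a' + ιR w) ∈ W := by
    have ha_sum : a = ∑ i, Pi.single (Fin.castAdd m i) (aL i) +
        ∑ j, Pi.single (Fin.natAdd n j) (aR j) := by
      conv_lhs => rw [← Finset.univ_sum_single a]
      rw [Fin.sum_univ_add]
    have hR : ∀ j, Pi.single (Fin.natAdd n j) (aR j) =
        (Pi.single (Fin.natAdd n j) (w j) +
          ∑ i, Pi.single (Fin.natAdd n j) (d j i * f i) : Fin (n + m) → A) := by
      intro j
      have : aR j = w j + ∑ i, d j i * f i := by rw [hd j]; ring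
      rw [this, Pi.single_add]
      congr 1
      exact map_sum (LinearMap.single A (fun _ : Fin (n+m) => A) (Fin.natAdd n j))
        (fun i => d j i * f i) Finset.univ
    have hL : ιL a' = ∑ i, Pi.single (Fin.castAdd m i) (aL i) +
        ∑ j, ∑ i, Pi.single (Fin.castAdd m i) (d j i * g j) := by
      rw [hιL]
      simp only [a', Pi.single_add, Finset.sum_add_distrib]
      congr 1
      rw [Finset.sum_comm]
      refine Finset.sum_congr rfl fun i _ => ?_
      exact map_sum (LinearMap.single A (fun _ : Fin (n+m) => A) (Fin.castAdd m i))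
        (fun j => d j i * g j) Finset.univ
    have hdiff_eq : a - (ιL a' + ιR w) =
        ∑ j, ∑ i, (Pi.single (Fin.natAdd n j) (d j i * F (Fin.castAdd m i)) -
          Pi.single (Fin.castAdd m i) (d j i * F (Fin.natAdd n j)) : Fin (n + m) → A) := by
      rw [hL, hιR]
      conv_lhs => rw [ha_sum]
      simp only [hR, Finset.sum_add_distrib, Finset.sum_sub_distrib, hFL, hFR]
      abel
    rw [hdiff_eq]
    exact W.sum_mem fun j _ => W.sum_mem fun i _ => hswap _ _ _
  have : a = (a - (ιL a' + ιR w)) + (ιL a' + ιR w) := by abel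
  rw [this]
  exact W.add_mem hdecomp (W.add_mem ha'W hwW)

end Groth.Agent.S2105
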