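import Groth.Statements.S2109
import Mathlib
import Groth.Agent.Lib.Helper26.Unmixed
import Groth.Agent.Lib.Helper26.Depth7
import Groth.Agent.Lib.Helper10.GrCI4

set_option autoImplicit false
universe u
open Smoothing

namespace Groth.Agent.S2109

set_option linter.style.haveILetI false
set_option linter.unusedSectionVars false

open IsLocalRing RingTheory.Sequence Groth.Agent.Lib.helper10.GrCI LocCoh


/-- a regular local ring is Cohen–Macaulay (in the prelude's sense) -/
theorem cm_of_regular (R : Type u) [CommRing R] [IsRegularLocalRing R] :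
    IsCohenMacaulayLocalRing R :=
  { supportDim_eq_depth := by
      rw [Module.supportDim_self_eq_ringKrullDim]
      exact (Groth.Agent.Lib.helper26.Depth.depth_eq_ringKrullDim_of_isRegularLocalRing R).symm }

/-- the ideal generated by the `e`-th powers of the first `i` members of a family -/
def Kof {Λ : Type u} [CommRing Λ] {d : ℕ} (π : Fin d → Λ) (e : ℕ) (i : Fin d) : Ideal Λ :=
  Ideal.span (Set.range fun j : {j : Fin d // (j : ℕ) < (i : ℕ)} => π j ^ e)

theorem Kof_congr {Λ : Type u} [CommRing Λ] {d : ℕ} (π π' : Fin d → Λ) (e : ℕ) (i : Fin d)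
    (h : ∀ j : Fin d, (j : ℕ) < (i : ℕ) → π j = π' j) : Kof π e i = Kof π' e i := by
  unfold Kof
  congr 2
  funext j
  rw [h j.1 j.2]

/-- in a regular local ring, `G i` is regular modulo the `e`-th powers of the earlier members of a
minimal generating family of the maximal ideal -/
theorem regular_local (R : Type u) [CommRing R] [IsRegularLocalRing R] (d : ℕ)
    (hd : ringKrullDim R = d) (G : Fin d → R) (hG : Ideal.span (Set.range G) = maximalIdeal R)
    (e : ℕ) (he : 0 < e) (i : Fin d) (y : R) (h : G i * y ∈ Kof G e i) : y ∈ Kof G e i := by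
  classical
  haveI := cm_of_regular R
  let G' : ℕ → R := fun j => if hj : j < d then G ⟨j, hj⟩ else 0
  let F : ℕ → R := fun j => if j < (i : ℕ) then G' j ^ e else G' j
  have hG' : ∀ j : Fin d, G' j = G j := fun j => by
    simp only [G', dif_pos j.2]
  have hmemG : ∀ j : Fin d, G j ∈ maximalIdeal R := fun j => by
    rw [← hG]
    exact Ideal.subset_span ⟨j, rfl⟩
  have hFmem : ∀ j : Fin d, F j ∈ maximalIdeal R := by
    intro j
    simp only [F]
    split_ifs
    · rw [hG']
      exact Ideal.pow_mem_of_mem _ (hmemG j) e he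
    · rw [hG']
      exact hmemG j
  have hreg : IsWeaklyRegular R (List.ofFn fun j : Fin d => F j) := by
    refine Groth.Agent.Lib.helper26.Unmixed.isWeaklyRegular_of_le_height R _ ?_ ?_
    · intro x hx
      rw [List.mem_ofFn] at hx
      obtain ⟨j, rfl⟩ := hx
      exact hFmem j
    · rw [List.length_ofFn, Ideal.height_eq_inf_minimalPrimes]
      refine le_iInf₂ fun P hP => ?_
      haveI := hP.1.1
      have hPm : maximalIdeal R ≤ P := by
        rw [← hG, Ideal.span_le]
        rintro _ ⟨j, rfl⟩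
        have hFj : F j ∈ P := hP.1.2 (Ideal.subset_span (by
          show F j ∈ {x | x ∈ List.ofFn fun j : Fin d => F j}
          rw [Set.mem_ofPred_eq, List.mem_ofFn]
          exact ⟨j, rfl⟩))
        simp only [F] at hFj
        split_ifs at hFj
        · rw [hG'] at hFj
          exact hP.1.1.mem_of_pow_mem e hFj
        · rw [hG'] at hFj
          exact hFj
      have hPeq : P = maximalIdeal R :=
        ((maximalIdeal.isMaximal R).eq_of_le hP.1.1.ne_top hPm).symm
      rw [hPeq]
      have h1 := IsLocalRing.maximalIdeal_height_eq_ringKrullDim (R := R)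
      rw [hd] at h1
      have h2 : (maximalIdeal R).height = (d : ℕ∞) := by exact_mod_cast h1
      rw [h2]
  have hE := (isWeaklyRegular_ofFn_iff F d).mp hreg (i : ℕ) i.2
  have hset : F '' Set.Iio (i : ℕ) =
      Set.range fun j : {j : Fin d // (j : ℕ) < (i : ℕ)} => G j ^ e := by
    ext x
    constructor
    · rintro ⟨j, hj, rfl⟩
      have hjd : j < d := lt_trans hj i.2
      refine ⟨⟨⟨j, hjd⟩, hj⟩, ?_⟩
      simp only [F, if_pos (Set.mem_Iio.mp hj)]
      rw [← hG' ⟨j, hjd⟩]
    · rintro ⟨⟨j, hj⟩, rfl⟩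
      refine ⟨(j : ℕ), hj, ?_⟩
      simp only [F, if_pos hj]
      rw [hG' j]
  have hFi : F (i : ℕ) = G i := by
    simp only [F, if_neg (lt_irrefl _)]
    exact hG' i
  rw [hset, hFi] at hE
  exact hE y h

theorem regular_local_pow (R : Type u) [CommRing R] [IsRegularLocalRing R] (d : ℕ)
    (hd : ringKrullDim R = d) (G : Fin d → R) (hG : Ideal.span (Set.range G) = maximalIdeal R)
    (e : ℕ) (he : 0 < e) (i : Fin d) (k : ℕ) (y : R) (h : G i ^ k * y ∈ Kof G e i) :
    y ∈ Kof G e i := by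
  induction k generalizing y with
  | zero => simpa using h
  | succ k ih =>
    apply ih
    apply regular_local R d hd G hG e he i
    rw [← mul_assoc, ← pow_succ']
    exact h

/-- the colon ideal `(K : a)` -/
def colon {Λ : Type u} [CommRing Λ] (K : Ideal Λ) (a : Λ) : Ideal Λ :=
  Submodule.comap (LinearMap.mulLeft Λ a) K

theorem mem_colon {Λ : Type u} [CommRing Λ] (K : Ideal Λ) (a y : Λ) :
    y ∈ colon K a ↔ a * y ∈ K := Iff.rfl

theorem colon_pow_mono {Λ : Type u} [CommRing Λ] (K : Ideal Λ) (a : Λ) :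
    Monotone fun k : ℕ => colon K (a ^ k) := by
  refine monotone_nat_of_le_succ fun k y hy => ?_
  rw [mem_colon] at hy ⊢
  rw [pow_succ', mul_assoc]
  exact K.mul_mem_left a hy

/-- the chain of colon ideals `(K : a^k)` stabilizes -/
theorem exists_colon_stable {Λ : Type u} [CommRing Λ] [IsNoetherianRing Λ] (K : Ideal Λ) (a : Λ) :
    ∃ n : ℕ, ∀ k : ℕ, colon K (a ^ k) ≤ colon K (a ^ n) := by
  obtain ⟨n, hn⟩ := monotone_stabilizes_iff_noetherian.mpr (inferInstance : IsNoetherian Λ Λ)
    ⟨fun k : ℕ => colon K (a ^ k), colon_pow_mono K a⟩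
  refine ⟨n, fun k => ?_⟩
  rcases le_total k n with hkn | hkn
  · exact colon_pow_mono K a hkn
  · exact (hn k hkn).ge

theorem exists_adjust {Λ : Type u} [CommRing Λ] [IsNoetherianRing Λ] (q : Ideal Λ) [q.IsPrime]
    (K : Ideal Λ) (x : Λ)
    (hloc : ∀ (k : ℕ) (y : Λ), x ^ k * y ∈ K → ∃ t, t ∉ q ∧ t * y ∈ K) :
    ∃ s, s ∉ q ∧ ∀ y, (s * x) ^ 2 * y ∈ K → (s * x) * y ∈ K := by
  classical
  obtain ⟨n, hn⟩ := exists_colon_stable K x
  obtain ⟨S, hS⟩ := (IsNoetherian.noetherian (colon K (x ^ n)) : (colon K (x ^ n)).FG)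
  have hSmem : ∀ y ∈ S, ∃ t, t ∉ q ∧ t * y ∈ K := by
    intro y hy
    have : y ∈ colon K (x ^ n) := by
      rw [← hS]
      exact Ideal.subset_span hy
    exact hloc n y this
  choose! t ht using hSmem
  let s₁ : Λ := ∏ y ∈ S, t y
  have hs₁ : s₁ ∉ q := by
    intro hmem
    obtain ⟨y, hy, hty⟩ := Ideal.IsPrime.prod_mem_iff.mp hmem
    exact (ht y hy).1 hty
  have hs₁J : ∀ z ∈ colon K (x ^ n), s₁ * z ∈ K := by
    intro z hz
    rw [← hS] at hz
    refine Submodule.span_induction (p := fun z _ => s₁ * z ∈ K) ?_ ?_ ?_ ?_ hz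
    · intro y hy
      have h1 : s₁ = (∏ y' ∈ S.erase y, t y') * t y := by
        rw [Finset.prod_erase_mul S t hy]
      rw [h1, mul_assoc]
      exact K.mul_mem_left _ (ht y hy).2
    · rw [mul_zero]
      exact K.zero_mem
    · intro a b _ _ ha hb
      rw [mul_add]
      exact K.add_mem ha hb
    · intro a b _ hb
      rw [smul_eq_mul, mul_left_comm]
      exact K.mul_mem_left a hb
  obtain ⟨c₀, hc₀⟩ := exists_colon_stable K s₁
  let c := c₀ + 1
  let s : Λ := s₁ ^ c
  have hs : s ∉ q := fun hmem => hs₁ ((inferInstance : q.IsPrime).mem_of_pow_mem c hmem)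
  have P1 : ∀ z ∈ colon K (x ^ n), s * z ∈ K := by
    intro z hz
    have : s = s₁ ^ c₀ * s₁ := pow_succ s₁ c₀
    rw [this, mul_assoc]
    exact K.mul_mem_left _ (hs₁J z hz)
  have P2 : ∀ z, s ^ 2 * z ∈ K → s * z ∈ K := by
    intro z hz
    have h1 : z ∈ colon K (s₁ ^ (c * 2)) := by
      rw [mem_colon, pow_mul]
      exact hz
    have h2 : z ∈ colon K (s₁ ^ c₀) := hc₀ _ h1
    have h3 : z ∈ colon K (s₁ ^ c) := colon_pow_mono K s₁ (Nat.le_succ c₀) h2
    exact h3
  refine ⟨s, hs, fun y hy => ?_⟩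
  have e1 : (s * x) ^ 2 * y = s ^ 2 * (x ^ 2 * y) := by ring
  rw [e1] at hy
  have h1 := P2 _ hy
  have e2 : s * (x ^ 2 * y) = x ^ 2 * (s * y) := by ring
  rw [e2] at h1
  have h2 : s * y ∈ colon K (x ^ n) := hn 2 h1
  have h3 := P1 _ h2
  have e3 : s * (s * y) = s ^ 2 * y := by ring
  rw [e3] at h3
  have h4 := P2 _ h3
  have e4 : s * x * y = x * (s * y) := by ring
  rw [e4]
  exact K.mul_mem_left x h4

theorem span_range_eq_of_units {R : Type u} [CommRing R] {d : ℕ} (G G' : Fin d → R)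
    (h : ∀ j, ∃ u : R, IsUnit u ∧ G' j = G j * u) :
    Ideal.span (Set.range G') = Ideal.span (Set.range G) := by
  apply le_antisymm
  · rw [Ideal.span_le]
    rintro _ ⟨j, rfl⟩
    obtain ⟨u, -, hu⟩ := h j
    rw [hu]
    exact Ideal.mul_mem_right _ _ (Ideal.subset_span ⟨j, rfl⟩)
  · rw [Ideal.span_le]
    rintro _ ⟨j, rfl⟩
    obtain ⟨u, hu1, hu⟩ := h j
    obtain ⟨v, hv⟩ := hu1.exists_right_inv
    have : G j = G' j * v := by rw [hu, mul_assoc, hv, mul_one]
    rw [this]
    exact Ideal.mul_mem_right _ _ (Ideal.subset_span ⟨j, rfl⟩)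

theorem map_Kof {Λ : Type u} [CommRing Λ] {R : Type u} [CommRing R] (ι : Λ →+* R) {d : ℕ}
    (π : Fin d → Λ) (e : ℕ) (i : Fin d) :
    (Kof π e i).map ι = Kof (fun j => ι (π j)) e i := by
  unfold Kof
  rw [Ideal.map_span]
  congr 1
  ext x
  constructor
  · rintro ⟨_, ⟨j, rfl⟩, rfl⟩
    exact ⟨j, by simp only [map_pow]⟩
  · rintro ⟨j, rfl⟩
    exact ⟨_, ⟨j, rfl⟩, by simp only [map_pow]⟩

theorem main {Λ : Type u} [CommRing Λ] [IsNoetherianRing Λ] (I q : Ideal Λ)
    [q.IsPrime] (hIq : I ≤ q) (n e d : ℕ) (hn : 0 < n) (he : 0 < e)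
    (hpow : (q ^ n).map (algebraMap Λ (Localization.AtPrime q)) ≤
      I.map (algebraMap Λ (Localization.AtPrime q)))
    [IsRegularLocalRing (Localization.AtPrime q)]
    (hd : ringKrullDim (Localization.AtPrime q) = d) :
    ∃ (N : ℕ) (π : Fin d → Λ), 0 < N ∧
      Ideal.span (Set.range fun i => algebraMap Λ (Localization.AtPrime q) (π i)) =
        q.map (algebraMap Λ (Localization.AtPrime q)) ∧
      (∀ i, π i ^ N ∈ I) ∧
      ∀ i : Fin d, ∀ x : Λ ⧸ Ideal.span
          (Set.range fun j : {j : Fin d // (j : ℕ) < (i : ℕ)} => π j ^ e),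
        Ideal.Quotient.mk _ (π i) ^ 2 * x = 0 → Ideal.Quotient.mk _ (π i) * x = 0 := by
  classical
  let R := Localization.AtPrime q
  let ι : Λ →+* R := algebraMap Λ R
  have hmax : q.map ι = maximalIdeal R := Localization.AtPrime.map_eq_maximalIdeal
  -- generators of the maximal ideal
  have hsf : (maximalIdeal R).spanFinrank = d := by
    have h1 := IsRegularLocalRing.spanFinrank_maximalIdeal (R := R)
    rw [hd] at h1
    exact_mod_cast h1
  obtain ⟨S, hcard, hspan⟩ := Submodule.FG.exists_span_finset_card_eq_spanFinrank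
    (IsNoetherian.noetherian (maximalIdeal R) : (maximalIdeal R).FG)
  rw [hsf] at hcard
  let eqv : S ≃ Fin d := Fintype.equivFinOfCardEq (by rw [Fintype.card_coe]; exact hcard)
  let g : Fin d → R := fun j => ((eqv.symm j : S) : R)
  have hg : Ideal.span (Set.range g) = maximalIdeal R := by
    rw [← hspan]
    congr 1
    ext x
    constructor
    · rintro ⟨j, rfl⟩
      exact (eqv.symm j).2
    · intro hx
      exact ⟨eqv ⟨x, hx⟩, by simp [g]⟩
  -- the invariant
  let Inv : (Fin d → Λ) → Prop := fun π =>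
    (∀ j, ∃ u : R, IsUnit u ∧ ι (π j) = g j * u) ∧ (∀ j, π j ^ n ∈ I)
  have hloc : ∀ π : Fin d → Λ, Inv π → ∀ (i : Fin d) (k : ℕ) (y : Λ),
      π i ^ k * y ∈ Kof π e i → ∃ t, t ∉ q ∧ t * y ∈ Kof π e i := by
    intro π hπ i k y hy
    have hG : Ideal.span (Set.range fun j => ι (π j)) = maximalIdeal R := by
      rw [← hg]
      exact span_range_eq_of_units g (fun j => ι (π j)) hπ.1
    have h1 : ι (π i) ^ k * ι y ∈ Kof (fun j => ι (π j)) e i := by
      rw [← map_Kof, ← map_pow, ← map_mul]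
      exact Ideal.mem_map_of_mem ι hy
    have h2 := regular_local_pow R d hd (fun j => ι (π j)) hG e he i k (ι y) h1
    rw [← map_Kof] at h2
    obtain ⟨m, hm, hmy⟩ :=
      (IsLocalization.algebraMap_mem_map_algebraMap_iff q.primeCompl R (Kof π e i) y).mp h2
    exact ⟨m, hm, hmy⟩
  -- the initial family
  have hinit : ∃ π : Fin d → Λ, Inv π := by
    have h1 : ∀ j : Fin d, ∃ b : Λ, (∃ u : R, IsUnit u ∧ ι b = g j * u) ∧ b ^ n ∈ I := by
      intro j
      obtain ⟨⟨a, s⟩, has⟩ := IsLocalization.surj q.primeCompl (g j)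
      have hu : IsUnit (ι s) := IsLocalization.map_units R s
      have hgm : g j ∈ maximalIdeal R := by
        rw [← hg]
        exact Ideal.subset_span ⟨j, rfl⟩
      have ham : ι a ∈ q.map ι := by
        rw [hmax]
        show algebraMap Λ R a ∈ maximalIdeal R
        rw [← has]
        exact Ideal.mul_mem_right _ _ hgm
      have han : ι (a ^ n) ∈ I.map ι := by
        apply hpow
        rw [Ideal.map_pow, map_pow]
        exact Ideal.pow_mem_pow ham n
      obtain ⟨t, ht, hta⟩ :=
        (IsLocalization.algebraMap_mem_map_algebraMap_iff q.primeCompl R I (a ^ n)).mp han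
      refine ⟨t * a, ⟨ι s * ι t, hu.mul (IsLocalization.map_units R ⟨t, ht⟩), ?_⟩, ?_⟩
      · rw [map_mul]
        show ι t * algebraMap Λ R a = _
        rw [← has]
        ring
      · have : (t * a) ^ n = t ^ (n - 1) * (t * a ^ n) := by
          rw [mul_pow, ← mul_assoc, ← pow_succ, Nat.sub_add_cancel hn]
        rw [this]
        exact I.mul_mem_left _ hta
    choose b hb using h1
    exact ⟨b, fun j => (hb j).1, fun j => (hb j).2⟩
  -- the induction
  have hind : ∀ k : ℕ, ∃ π : Fin d → Λ, Inv π ∧ ∀ i : Fin d, (i : ℕ) < k →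
      ∀ y, π i ^ 2 * y ∈ Kof π e i → π i * y ∈ Kof π e i := by
    intro k
    induction k with
    | zero =>
      obtain ⟨π, hπ⟩ := hinit
      exact ⟨π, hπ, fun i hi => absurd hi (Nat.not_lt_zero _)⟩
    | succ k ih =>
      obtain ⟨π, hπ, hann⟩ := ih
      by_cases hk : k < d
      · obtain ⟨s, hs, hsann⟩ := exists_adjust q (Kof π e ⟨k, hk⟩) (π ⟨k, hk⟩)
          (hloc π hπ ⟨k, hk⟩)
        let π' : Fin d → Λ := Function.update π ⟨k, hk⟩ (s * π ⟨k, hk⟩)
        have hπ'ne : ∀ j : Fin d, j ≠ ⟨k, hk⟩ → π' j = π j := fun j hj =>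
          Function.update_of_ne hj _ _
        have hπ'k : π' ⟨k, hk⟩ = s * π ⟨k, hk⟩ := Function.update_self _ _ _
        have hK : ∀ i : Fin d, (i : ℕ) ≤ k → Kof π' e i = Kof π e i := by
          intro i hi
          apply Kof_congr
          intro j hj
          apply hπ'ne
          intro hjk
          rw [hjk] at hj
          simp only at hj
          omega
        refine ⟨π', ⟨fun j => ?_, fun j => ?_⟩, fun i hi y hy => ?_⟩
        · by_cases hj : j = ⟨k, hk⟩
          · subst hj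
            obtain ⟨u, hu, hu'⟩ := hπ.1 ⟨k, hk⟩
            refine ⟨u * ι s, hu.mul (IsLocalization.map_units R (⟨s, hs⟩ : q.primeCompl)), ?_⟩
            rw [hπ'k, map_mul, hu']
            ring
          · rw [hπ'ne j hj]
            exact hπ.1 j
        · by_cases hj : j = ⟨k, hk⟩
          · subst hj
            rw [hπ'k, mul_pow]
            exact I.mul_mem_left _ (hπ.2 _)
          · rw [hπ'ne j hj]
            exact hπ.2 j
        · by_cases hik : i = ⟨k, hk⟩
          · subst hik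
            rw [hK _ le_rfl, hπ'k] at hy ⊢
            exact hsann y hy
          · have hi' : (i : ℕ) < k := by
              have : (i : ℕ) ≠ k := fun h => hik (Fin.ext h)
              omega
            rw [hK i hi'.le, hπ'ne i hik] at hy ⊢
            exact hann i hi' y hy
      · refine ⟨π, hπ, fun i hi y hy => ?_⟩
        have hi' : (i : ℕ) < k := lt_of_lt_of_le i.2 (not_lt.mp hk)
        exact hann i hi' y hy
  obtain ⟨π, hπ, hann⟩ := hind d
  refine ⟨n, π, hn, ?_, hπ.2, fun i x hx => ?_⟩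
  · rw [hmax, ← hg]
    exact span_range_eq_of_units g (fun j => ι (π j)) hπ.1
  · obtain ⟨y, rfl⟩ := Ideal.Quotient.mk_surjective x
    rw [← map_pow, ← map_mul, Ideal.Quotient.eq_zero_iff_mem] at hx
    rw [← map_mul, Ideal.Quotient.eq_zero_iff_mem]
    exact hann i i.2 y hx



/-- Let `Λ` be Noetherian, `I ⊆ 𝔮` with `𝔮` prime, `n, e > 0`, such that `𝔮ⁿΛ_𝔮 ⊆ IΛ_𝔮` and `Λ_𝔮` is a
regular local ring of dimension `d`. Then there are `N > 0` and `π_1, …, π_d ∈ Λ` generating `𝔮Λ_𝔮`,
with `π_i^N ∈ I`, such that for each `i` the annihilators of `π_i` and `π_i²` in `Λ/(π_1^e, …,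
π_{i-1}^e)` coincide. -/
theorem result {Λ : Type u} [CommRing Λ] [IsNoetherianRing Λ] (I q : Ideal Λ)
    [q.IsPrime] (hIq : I ≤ q) (n e d : ℕ) (hn : 0 < n) (he : 0 < e)
    (hpow : (q ^ n).map (algebraMap Λ (Localization.AtPrime q)) ≤ I.map (algebraMap Λ (Localization.AtPrime q)))
    [IsRegularLocalRing (Localization.AtPrime q)] (hd : ringKrullDim (Localization.AtPrime q) = d) :
    ∃ (N : ℕ) (π : Fin d → Λ), 0 < N ∧
      Ideal.span (Set.range fun i => algebraMap Λ (Localization.AtPrime q) (π i)) =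
        q.map (algebraMap Λ (Localization.AtPrime q)) ∧
      (∀ i, π i ^ N ∈ I) ∧
      ∀ i : Fin d, ∀ x : Λ ⧸ Ideal.span (Set.range fun j : {j : Fin d // (j : ℕ) < (i : ℕ)} => π j ^ e),
        Ideal.Quotient.mk _ (π i) ^ 2 * x = 0 → Ideal.Quotient.mk _ (π i) * x = 0 := by
  exact main I q hIq n e d hn he hpow hd

end Groth.Agent.S2109
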