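import Groth.Statements.S2110
import Mathlib
import Groth.Agent.Lib.Helper22.SymKaehler2

set_option autoImplicit false
universe u
open Smoothing

namespace Groth.Agent.S2110

section aux
open TensorProduct KaehlerDifferential Groth.Agent.Lib.helper22.SymKaehler Groth.Agent.Lib.helper22.SymKaehler2

theorem main_aux {R A : Type u} [CommRing R] [CommRing A] [Algebra R A] {n : ℕ}
    (P : Algebra.Generators R A (Fin n)) (a : A)
    (T : Type u) [CommRing T] [Algebra A T] [Algebra R T] [IsScalarTower R A T]
    [IsLocalization.Away a T] [Algebra.FormallySmooth R T]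
    (B : Type u) [CommRing B] [Algebra (SymmetricAlgebra A P.toExtension.Cotangent) B]
    [Algebra A B] [IsScalarTower A (SymmetricAlgebra A P.toExtension.Cotangent) B]
    [Algebra R B] [IsScalarTower R A B]
    [IsLocalization.Away (algebraMap A (SymmetricAlgebra A P.toExtension.Cotangent) a) B] :
    Module.Free B Ω[B⁄R] := by
  classical
  have hunit : IsUnit (algebraMap A B a) := by
    rw [IsScalarTower.algebraMap_apply A (SymmetricAlgebra A P.toExtension.Cotangent) B]
    exact IsLocalization.Away.algebraMap_isUnit _
  letI algTB : Algebra T B := (IsLocalization.Away.lift a (g := algebraMap A B) hunit).toAlgebra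
  haveI : IsScalarTower A T B := IsScalarTower.of_algebraMap_eq' (by
    ext x
    exact (IsLocalization.Away.lift_eq a hunit x).symm)
  haveI : IsScalarTower R T B := IsScalarTower.of_algebraMap_eq' (by
    ext r
    change algebraMap R B r = algebraMap T B (algebraMap R T r)
    rw [IsScalarTower.algebraMap_apply R A T, ← IsScalarTower.algebraMap_apply A T B,
      ← IsScalarTower.algebraMap_apply R A B])
  obtain ⟨hproj, ⟨split⟩⟩ := exists_split_localization P a T
  haveI := hproj
  haveI : Algebra.FormallySmooth T B :=
    formallySmooth_localization_sym P.toExtension.Cotangent a T B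
  obtain ⟨e2⟩ := nonempty_kaehlerEquiv_localization_sym P.toExtension.Cotangent a T B
  obtain ⟨ε⟩ := nonempty_kaehler_equiv_pi' R T B (T ⊗[A] P.toExtension.Cotangent)
    (T ⊗[A] P.toExtension.CotangentSpace)
    (P.cotangentSpaceBasis.baseChange T) split e2
  exact Module.Free.of_equiv ε.symm

end aux


/-- Let `A` be a finitely presented `R`-algebra. There is an `A`-algebra `C` of finite type with an
`A`-algebra retraction `C → A` such that for every `a ∈ A` with `A_a` smooth over `R`, the module of
differentials of `C_a` over `R` is a free `C_a`-module. -/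
theorem result {R A : Type u} [CommRing R] [CommRing A] [Algebra R A]
    [Algebra.FinitePresentation R A] :
    ∃ (C : Type u) (_ : CommRing C) (_ : Algebra A C) (_ : Algebra R C) (_ : IsScalarTower R A C),
      Algebra.FiniteType A C ∧ Nonempty (C →ₐ[A] A) ∧
      ∀ a : A, Algebra.Smooth R (Localization.Away a) →
        Module.Free (Localization.Away (algebraMap A C a)) Ω[Localization.Away (algebraMap A C a)⁄R] := by
  classical
  let P := Algebra.Presentation.ofFinitePresentation R A
  haveI : Module.Finite A P.toExtension.Cotangent := Algebra.Extension.Cotangent.finite P.fg_ker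
  refine ⟨SymmetricAlgebra A P.toExtension.Cotangent, inferInstance, inferInstance, inferInstance,
    inferInstance,
    Groth.Agent.Lib.helper22.SymKaehler2.finiteType_sym A _, ⟨SymmetricAlgebra.algebraMapInv⟩, ?_⟩
  intro a hsm
  haveI : Algebra.FormallySmooth R (Localization.Away a) := hsm.formallySmooth
  exact main_aux P.toGenerators a (Localization.Away a) _

end Groth.Agent.S2110
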