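import Groth.Statements.S2111
import Mathlib
import Groth.Agent.S16667
import Groth.Agent.Lib.Helper24.SerreNormal4
import Groth.Agent.Lib.Helper26.CM7
import Groth.Agent.Lib.Helper26.ReflexiveCrit2


set_option autoImplicit false
universe u
open CAlg

namespace Groth.Agent.S2111


open Groth.Agent.Lib.helper26.Depth in
theorem aux {R : Type u} [CommRing R] [IsDomain R] [IsNoetherianRing R]
    [IsIntegrallyClosed R] (x : FractionRing R)
    (hx : ∀ (p : Ideal R) [p.IsPrime], p.height = 1 →
      x ∈ Set.range (algebraMap (Localization.AtPrime p) (FractionRing R))) :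
    x ∈ Set.range (algebraMap R (FractionRing R)) := by
  have hnorm : ∀ (p : Ideal R) [p.IsPrime], IsDomain (Localization.AtPrime p) ∧
      IsIntegrallyClosed (Localization.AtPrime p) := fun p _ =>
    ⟨IsLocalization.isDomain_localization p.primeCompl_le_nonZeroDivisors,
      isIntegrallyClosed_of_isLocalization _ p.primeCompl p.primeCompl_le_nonZeroDivisors⟩
  have hS2 := Groth.Agent.Lib.Helper24.SerreNormal.hasSk_two_of_normal R hnorm
  refine Groth.Agent.S16667.result hS2 x ?_
  intro p _ hdepth
  apply hx p
  have h1 := hS2 p
  rw [supportDim_localizedModule_self, depth_localizedModule_self, hdepth] at h1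
  have h2 := depth_le_supportDim (A := Localization.AtPrime p) (Localization.AtPrime p)
  rw [hdepth, Module.supportDim_self_eq_ringKrullDim,
    IsLocalization.AtPrime.ringKrullDim_eq_height p (Localization.AtPrime p)] at h2
  have h2' : (1 : ℕ∞) ≤ p.height := by exact_mod_cast h2
  refine le_antisymm ?_ h2'
  rcases min_le_iff.mp h1 with h | h
  · exfalso
    have h' : ((2 : ℕ) : WithBot ℕ∞) ≤ ((1 : ℕ) : WithBot ℕ∞) := h
    have h'' : (2 : ℕ) ≤ 1 := by exact_mod_cast h'
    omega
  · exact_mod_cast h


/-- Let `R` be a Noetherian normal domain with fraction field `K`. An element of `K` which lies in `R_𝔭`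
for every prime `𝔭` of height one lies in `R`. -/
theorem result {R : Type u} [CommRing R] [IsDomain R] [IsNoetherianRing R]
    [IsIntegrallyClosed R] (x : FractionRing R)
    (hx : ∀ (p : Ideal R) [p.IsPrime], p.height = 1 →
      x ∈ Set.range (algebraMap (Localization.AtPrime p) (FractionRing R))) :
    x ∈ Set.range (algebraMap R (FractionRing R)) := by
  exact aux x hx

end Groth.Agent.S2111
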