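import Groth.Statements.S2112
import Mathlib
import Groth.Agent.Lib.Helper3.GeomSep

set_option autoImplicit false
universe u
open CAlg

namespace Groth.Agent.S2112


open CategoryTheory AlgebraicGeometry TensorProduct Groth.Agent.Lib.helper3 in
theorem hasUnique_iff (A : Type u) [CommRing A] :
    CAlgX.HasUniqueMinimalPrime A ↔ IrreducibleSpace (PrimeSpectrum A) := by
  rw [PrimeSpectrum.irreducibleSpace_iff_isPrime_nilradical]
  constructor
  · rintro ⟨p, hp, huniq⟩
    have hset : minimalPrimes A = {p} := by
      ext q
      constructor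
      · intro hq
        exact huniq q hq
      · rintro rfl
        exact hp
    have : nilradical A = p := by
      have h1 : sInf (minimalPrimes A) = nilradical A := by
        unfold minimalPrimes nilradical
        exact Ideal.sInf_minimalPrimes
      rw [← h1, hset, sInf_singleton]
    rw [this]
    exact hp.1.1
  · intro hprime
    refine ⟨nilradical A, ⟨⟨hprime, bot_le⟩, fun q hq _ => nilradical_le_prime q (H := hq.1)⟩, ?_⟩
    intro q hq
    have h1 : nilradical A ≤ q := nilradical_le_prime q (H := hq.1.1)
    exact le_antisymm (hq.2 ⟨hprime, bot_le⟩ h1) h1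

open CategoryTheory AlgebraicGeometry TensorProduct Groth.Agent.Lib.helper3 in
theorem irr_tensor {k R S : Type u} [Field k] [IsSepClosed k] [CommRing R] [CommRing S]
    [Algebra k R] [Algebra k S] (hR : IrreducibleSpace (PrimeSpectrum R))
    (hS : IrreducibleSpace (PrimeSpectrum S)) : IrreducibleSpace (PrimeSpectrum (R ⊗[k] S)) := by
  have hg : GeometricallyIrreducible (Spec.map (CommRingCat.ofHom (algebraMap k S))) := by
    rw [GeomIrr.geomIrr_specMap_iff]
    apply GeomIrr.geomIrr_of_algebraicClosure
    have h := PrimeSpectrum.isHomeomorph_comap_of_isPurelyInseparable k (AlgebraicClosure k) S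
    have h1 : IrreducibleSpace (PrimeSpectrum (S ⊗[k] AlgebraicClosure k)) :=
      h.homeomorph.symm.irreducibleSpace_iff.mp inferInstance
    exact (GeomIrr.irreducibleSpace_comm S (AlgebraicClosure k)).mp h1
  have hR' : IrreducibleSpace (Spec (CommRingCat.of R)) :=
    inferInstanceAs (IrreducibleSpace (PrimeSpectrum R))
  have hc : IrreducibleSpace ↥(Limits.pullback (Spec.map (CommRingCat.ofHom (algebraMap k S)))
      (Spec.map (CommRingCat.ofHom (algebraMap k R)))) := inferInstance
  rw [(pullbackSpecIso k S R).hom.homeomorph.irreducibleSpace_iff] at hc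
  exact (GeomIrr.irreducibleSpace_comm S R).mp hc

open TensorProduct in
/-- Let `k` be a separably closed field and `R`, `S` two `k`-algebras each having exactly one minimal
prime ideal. Then `R ⊗_k S` has exactly one minimal prime ideal. -/
theorem result {k R S : Type u} [Field k] [IsSepClosed k] [CommRing R] [CommRing S]
    [Algebra k R] [Algebra k S] (hR : CAlgX.HasUniqueMinimalPrime R) (hS : CAlgX.HasUniqueMinimalPrime S) :
    CAlgX.HasUniqueMinimalPrime (R ⊗[k] S) := by
  rw [hasUnique_iff] at hR hS ⊢
  exact irr_tensor hR hS

end Groth.Agent.S2112
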