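import Groth.Statements.S2113
import Mathlib.RingTheory.Ideal.KrullsHeightTheorem
import Mathlib.RingTheory.Jacobson.Ring
import Mathlib.RingTheory.Ideal.MinimalPrime.Noetherian

set_option autoImplicit false
universe u
open CAlg

namespace Groth.Agent.S2113

/-- A Noetherian ring in which each prime is maximal or else lies below infinitely many primes is a
Jacobson ring. -/
theorem result {R : Type u} [CommRing R] [IsNoetherianRing R]
    (h : ∀ (p : Ideal R) [p.IsPrime], p.IsMaximal ∨ {q : PrimeSpectrum R | p ≤ q.asIdeal}.Infinite) :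
    IsJacobsonRing R := by
  classical
  rw [isJacobsonRing_iff_prime_eq]
  by_contra hcon
  push Not at hcon
  obtain ⟨P, ⟨hPprime, hPjac⟩, hPmax⟩ : ∃ P : Ideal R, (P.IsPrime ∧ P.jacobson ≠ P) ∧
      ∀ I : Ideal R, (I.IsPrime ∧ I.jacobson ≠ I) → ¬ P < I :=
    set_has_maximal_iff_noetherian.mpr
      (inferInstance : IsNoetherian R R) {P : Ideal R | P.IsPrime ∧ P.jacobson ≠ P} hcon
  have hgood : ∀ Q : Ideal R, Q.IsPrime → P < Q → Q.jacobson = Q := by
    intro Q hQ hPQ
    by_contra hne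
    exact hPmax Q ⟨hQ, hne⟩ hPQ
  have hPnotmax : ¬ P.IsMaximal := fun hm => hPjac Ideal.jacobson_eq_self_of_isMaximal
  have hinf := (h P).resolve_left hPnotmax
  obtain ⟨f, hfJ, hfP⟩ : ∃ f ∈ P.jacobson, f ∉ P := by
    by_contra hc
    push Not at hc
    exact hPjac (le_antisymm hc Ideal.le_jacobson)
  have hfQ : ∀ Q : Ideal R, Q.IsPrime → P < Q → f ∈ Q := by
    intro Q hQ hPQ
    rw [← hgood Q hQ hPQ]
    exact Ideal.jacobson_mono hPQ.le hfJ
  obtain ⟨I, hI⟩ : ∃ I : Ideal R, I = P ⊔ Ideal.span {f} := ⟨_, rfl⟩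
  have hfin : I.minimalPrimes.Finite := Ideal.finite_minimalPrimes_of_isNoetherianRing R I
  have hIle : ∀ Q : Ideal R, Q.IsPrime → P < Q → I ≤ Q := by
    intro Q hQ hPQ
    rw [hI]
    exact sup_le hPQ.le ((Ideal.span_singleton_le_iff_mem _).mpr (hfQ Q hQ hPQ))
  have hclaim : ∀ Q : Ideal R, Q.IsPrime → P < Q → Q ∈ I.minimalPrimes := by
    intro Q hQ hPQ
    by_contra hQmin
    have hIQ : I ≤ Q := hIle Q hQ hPQ
    have hnot : ∀ q ∈ I.minimalPrimes, ¬ Q ≤ q := by
      intro q hq hQq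
      have hqQ : q ≤ Q := hq.2 ⟨hQ, hIQ⟩ hQq
      exact hQmin (le_antisymm hQq hqQ ▸ hq)
    -- prime avoidance
    obtain ⟨g, hgQ, hgP, hgq⟩ : ∃ g ∈ Q, g ∉ P ∧ ∀ q ∈ I.minimalPrimes, g ∉ q := by
      by_contra hc
      push Not at hc
      have hsub : (Q : Set R) ⊆ ⋃ q ∈ ((insert P hfin.toFinset : Finset (Ideal R)) : Set (Ideal R)),
          ((id q : Ideal R) : Set R) := by
        intro g hg
        by_cases hgP : g ∈ P
        · exact Set.mem_biUnion (by simp) hgP
        · obtain ⟨q, hq, hgq⟩ := hc g hg hgP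
          exact Set.mem_biUnion (by simp [hq]) hgq
      rw [Ideal.subset_union_prime (f := id) P P] at hsub
      · obtain ⟨q, hq, hQq⟩ := hsub
        rw [Finset.mem_insert, Set.Finite.mem_toFinset] at hq
        rcases hq with rfl | hq
        · exact not_le_of_gt hPQ hQq
        · exact hnot q hq hQq
      · intro q hq hq1 _
        rw [Finset.mem_insert, Set.Finite.mem_toFinset] at hq
        rcases hq with rfl | hq
        · exact absurd rfl hq1
        · exact hq.1.1
    have hJQ : P ⊔ Ideal.span {g} ≤ Q :=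
      sup_le hPQ.le ((Ideal.span_singleton_le_iff_mem _).mpr hgQ)
    obtain ⟨Q', hQ'min, hQ'Q⟩ := Ideal.exists_minimalPrimes_le hJQ
    have hQ'prime : Q'.IsPrime := hQ'min.1.1
    have hgQ' : g ∈ Q' := hQ'min.1.2 (Ideal.mem_sup_right (Ideal.mem_span_singleton_self g))
    have hPQ' : P < Q' := by
      refine lt_of_le_of_ne (le_sup_left.trans hQ'min.1.2) ?_
      rintro rfl
      exact hgP hgQ'
    have hIQ' : I ≤ Q' := hIle Q' hQ'prime hPQ'
    obtain ⟨q, hqmin, hqQ'⟩ := Ideal.exists_minimalPrimes_le hIQ'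
    have hqprime : q.IsPrime := hqmin.1.1
    have hht : (Q'.map (Ideal.Quotient.mk P)).height ≤ 1 :=
      Ideal.map_height_le_one_of_mem_minimalPrimes hQ'min
    have hqne : q ≠ Q' := by
      rintro rfl
      exact hgq q hqmin hgQ'
    have hPq : P ≤ q := (hI ▸ le_sup_left : P ≤ I).trans hqmin.1.2
    have hfq : f ∈ q := hqmin.1.2 (hI ▸ Ideal.mem_sup_right (Ideal.mem_span_singleton_self f))
    have hq' : (q.map (Ideal.Quotient.mk P)).IsPrime := Ideal.isPrime_map_quotientMk_of_isPrime hPq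
    have hQ'' : (Q'.map (Ideal.Quotient.mk P)).IsPrime :=
      Ideal.isPrime_map_quotientMk_of_isPrime hPQ'.le
    have hcomap : ∀ J : Ideal R, P ≤ J →
        (J.map (Ideal.Quotient.mk P)).comap (Ideal.Quotient.mk P) = J := by
      intro J hJ
      rw [Ideal.comap_map_of_surjective _ Ideal.Quotient.mk_surjective, ← RingHom.ker_eq_comap_bot,
        Ideal.mk_ker, sup_eq_left.mpr hJ]
    have hlt : q.map (Ideal.Quotient.mk P) < Q'.map (Ideal.Quotient.mk P) := by
      refine lt_of_le_of_ne (Ideal.map_mono hqQ') (fun heq => hqne ?_)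
      have := congrArg (Ideal.comap (Ideal.Quotient.mk P)) heq
      rwa [hcomap q hPq, hcomap Q' hPQ'.le] at this
    have hdom : IsDomain (R ⧸ P) := Ideal.Quotient.isDomain P
    have h0 : (q.map (Ideal.Quotient.mk P)).height = 0 := by
      have h1 := Ideal.height_strict_mono_of_isPrime_of_isPrime hlt
      have h2 : (q.map (Ideal.Quotient.mk P)).height < 1 := lt_of_lt_of_le h1 hht
      exact Order.lt_one_iff.mp h2
    rw [Ideal.height_eq_zero_iff_eq_bot] at h0
    have : q ≤ P := by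
      rw [← hcomap q hPq, h0, ← RingHom.ker_eq_comap_bot, Ideal.mk_ker]
    exact hfP (this hfq)
  apply hinf
  have hsub : {q : PrimeSpectrum R | P ≤ q.asIdeal} ⊆
      (fun q : PrimeSpectrum R => q.asIdeal) ⁻¹' (insert P I.minimalPrimes) := by
    intro q hq
    rcases eq_or_lt_of_le (show P ≤ q.asIdeal from hq) with h | h
    · left; exact h.symm
    · right; exact hclaim q.asIdeal q.isPrime h
  exact ((hfin.insert P).preimage (fun a _ b _ hab => PrimeSpectrum.ext hab)).subset hsub

end Groth.Agent.S2113
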