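import Groth.Statements.S2114
import Mathlib
import Groth.Agent.Lib.Helper13.PIns2
-- import your own Groth.Agent.* helpers here

set_option autoImplicit false
universe u
open CAlg

namespace Groth.Agent.S2114


open Polynomial in
/-- Scaling lemma: if `y` is a root of a monic polynomial `p` over `L`, and `s` together with
all `s * coeff p i` are integral over `R`, then `s * y` is integral over `R`. -/
theorem isIntegral_mul_of_scale {R L : Type*} [CommRing R] [CommRing L] [Algebra R L]
    (p : L[X]) (hp : p.Monic) (y s : L) (hy : p.eval y = 0) (hs : IsIntegral R s)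
    (hc : ∀ i, i < p.natDegree → IsIntegral R (s * p.coeff i)) : IsIntegral R (s * y) := by
  classical
  have hQm : (p.scaleRoots s).Monic := (monic_scaleRoots_iff s).mpr hp
  have hQl : p.scaleRoots s ∈ lifts (algebraMap (integralClosure R L) L) := by
    rw [lifts_iff_coeff_lifts]
    intro i
    rw [coeff_scaleRoots]
    rcases lt_trichotomy i p.natDegree with h | h | h
    · have h1 : p.natDegree - i = (p.natDegree - i - 1) + 1 := by omega
      have h2 : IsIntegral R (p.coeff i * s ^ (p.natDegree - i)) := by
        rw [h1, pow_succ, ← mul_assoc, mul_comm (p.coeff i * _), ← mul_assoc]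
        exact (hc i h).mul (hs.pow _)
      exact ⟨⟨_, h2⟩, rfl⟩
    · subst h
      refine ⟨1, ?_⟩
      have : p.coeff p.natDegree = 1 := hp
      simp [this]
    · refine ⟨0, ?_⟩
      simp [coeff_eq_zero_of_natDegree_lt h]
  obtain ⟨q, hq, -, hqm⟩ := lifts_and_natDegree_eq_and_monic hQl hQm
  have h3 : IsIntegral (integralClosure R L) (s * y) := by
    refine ⟨q, hqm, ?_⟩
    rw [← eval_map, hq]
    have := scaleRoots_eval_mul p y s
    rw [this, hy, mul_zero]
  exact isIntegral_trans _ h3


/-- Let `R ⊆ S` be an extension of domains which is of finite type and quasi-finite, with `R` Noetherian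
and N-2 (integral closures in finite extensions of the fraction field are finite). Then `S` is N-2. -/
theorem result {R S : Type u} [CommRing R] [IsDomain R] [IsNoetherianRing R] [CommRing S]
    [IsDomain S] [Algebra R S] (hinj : Function.Injective (algebraMap R S)) [Algebra.FiniteType R S]
    [Algebra.QuasiFinite R S] (hR : CAlg.IsN2 R) : CAlg.IsN2 S := by
  intro L _ _ _ _ hfd
  haveI : IsNoetherianRing S := Algebra.FiniteType.isNoetherianRing R S
  letI algRL : Algebra R L := ((algebraMap S L).comp (algebraMap R S)).toAlgebra
  haveI : IsScalarTower R S L := IsScalarTower.of_algebraMap_eq (fun _ => rfl)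
  have hSL : Function.Injective (algebraMap S L) := by
    rw [IsScalarTower.algebraMap_eq S (FractionRing S) L]
    exact (algebraMap (FractionRing S) L).injective.comp (IsFractionRing.injective S (FractionRing S))
  haveI : FaithfulSMul R L := (faithfulSMul_iff_algebraMap_injective R L).mpr (hSL.comp hinj)
  letI : Algebra (FractionRing R) L := FractionRing.liftAlgebra R L
  haveI : IsScalarTower R (FractionRing R) L := FractionRing.isScalarTower_liftAlgebra R L
  haveI : Algebra.QuasiFinite R L := by
    haveI : Algebra.QuasiFinite S L := Algebra.QuasiFinite.trans S (FractionRing S) L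
    exact Algebra.QuasiFinite.trans R S L
  haveI : Algebra.QuasiFinite (FractionRing R) L :=
    Algebra.QuasiFinite.of_restrictScalars R (FractionRing R) L
  haveI : FiniteDimensional (FractionRing R) L := Module.Finite.of_quasiFinite
  haveI hfin : Module.Finite R (integralClosure R L) :=
    Groth.Agent.Lib.helper13.PIns.IsN2.finite_integralClosure hR (FractionRing R) L
  let f : TensorProduct R S (integralClosure R L) →ₐ[S] L :=
    Algebra.TensorProduct.lift (Algebra.ofId S L) (integralClosure R L).val
      (fun _ _ => Commute.all _ _)
  obtain ⟨T, hT⟩ : ∃ T : Subalgebra S L, T = f.range := ⟨_, rfl⟩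
  haveI : Module.Finite S T := by
    rw [hT]
    exact Module.Finite.of_surjective f.rangeRestrict.toLinearMap f.rangeRestrict_surjective
  have hR'T : ∀ x : L, IsIntegral R x → x ∈ T := fun x hx => by
    rw [hT]
    exact ⟨(1 : S) ⊗ₜ[R] (⟨x, hx⟩ : integralClosure R L), by simp [f]⟩
  have key : ∀ y : L, IsIntegral S y → y ∈ T := by
    intro y hy
    by_contra hyT
    haveI : Algebra.FiniteType R T := Algebra.FiniteType.trans (S := S) inferInstance inferInstance
    haveI : Algebra.QuasiFinite R T := Algebra.QuasiFinite.trans R S T
    let N : Submodule T L := LinearMap.range (Algebra.linearMap T L)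
    let I : Ideal T := N.colon {y}
    have hI : I ≠ ⊤ := by
      intro h
      have h1 : (1 : T) ∈ I := h ▸ Submodule.mem_top
      have h1 := Submodule.mem_colon_singleton.mp h1
      obtain ⟨t, ht⟩ := h1
      apply hyT
      have : (t : L) = y := by simpa using ht
      rw [← this]; exact t.2
    obtain ⟨q, hqmax, hIq⟩ := Ideal.exists_le_maximal I hI
    haveI := hqmax.isPrime
    have zmp := Algebra.ZariskisMainProperty.of_finiteType (R := R) q
    obtain ⟨r, hrq, hrint, hr⟩ := Algebra.zariskisMainProperty_iff.mp zmp
    obtain ⟨p, hpm, hpy⟩ := hy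
    choose m hm using hr
    let M := ∑ i ∈ Finset.range p.natDegree, m (algebraMap S T (p.coeff i))
    have hM : ∀ i < p.natDegree, IsIntegral R (r ^ M * algebraMap S T (p.coeff i)) := by
      intro i hi
      have hle : m (algebraMap S T (p.coeff i)) ≤ M :=
        Finset.single_le_sum (f := fun i => m (algebraMap S T (p.coeff i)))
          (fun _ _ => Nat.zero_le _) (Finset.mem_range.mpr hi)
      obtain ⟨k, hk⟩ := Nat.exists_eq_add_of_le hle
      rw [hk, pow_add, mul_comm (r ^ _), mul_assoc]
      exact (hrint.pow k).mul (hm _)
    let g : T →ₐ[R] L := T.val.restrictScalars R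
    have hsy : IsIntegral R (((r ^ M : T) : L) * y) := by
      refine isIntegral_mul_of_scale (p.map (algebraMap S L)) (hpm.map _) y _ ?_ ?_ ?_
      · rw [Polynomial.eval_map]; exact hpy
      · exact (hrint.pow M).map g
      · intro i hi
        rw [Polynomial.natDegree_map_eq_of_injective hSL] at hi
        rw [Polynomial.coeff_map]
        have := (hM i hi).map g
        simpa [g] using this
    have hmem : r ^ M ∈ I := by
      refine Submodule.mem_colon_singleton.mpr ?_
      exact ⟨⟨_, hR'T _ hsy⟩, rfl⟩
    exact hrq (hqmax.isPrime.mem_of_pow_mem M (hIq hmem))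
  have hle : Subalgebra.toSubmodule (integralClosure S L) ≤ Subalgebra.toSubmodule T :=
    fun y hy => key y hy
  haveI : IsNoetherian S T := isNoetherian_of_isNoetherianRing_of_finite S T
  exact Module.Finite.of_injective (Submodule.inclusion hle) (Submodule.inclusion_injective hle)

end Groth.Agent.S2114
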