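import Groth.Statements.S2115
import Groth.Agent.Lib.Helper11.FPExt4

set_option autoImplicit false
universe u
open CategoryTheory AlgebraicGeometry
open Mor

namespace Groth.Agent.S2115

/-- Let `X` be quasi-compact and quasi-separated, `F` a quasi-coherent `O_X`-module, `U ⊆ X` a
quasi-compact open and `G` a finitely presented `O_U`-module with a map `φ : G → F|_U`. Then there
are a finitely presented `O_X`-module `G'` with a map `φ' : G' → F` and an isomorphism `G'|_U ≅ G`
identifying `φ'|_U` with `φ`. -/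
theorem result (X : Scheme.{u}) [CompactSpace X] [QuasiSeparatedSpace X]
    (F : X.Modules) (hF : Coh.IsQCoh F) (U : X.Opens) (hU : IsCompact (U : Set X)) (G : (U : Scheme.{u}).Modules)
    (hG : CohB1.IsFP G) (φ : G ⟶ F.restrict U.ι) :
    ∃ (G' : X.Modules) (φ' : G' ⟶ F) (e : G'.restrict U.ι ≅ G), CohB1.IsFP G' ∧
      e.hom ≫ φ = (Scheme.Modules.restrictFunctor U.ι).map φ' := by
  open Groth.Agent.Lib.helper16.Satur Groth.Agent.Lib.helper11.FPExt in
  (
  haveI : F.IsQuasicoherent := hF
  haveI : CompactSpace ↥(U : Scheme.{u}) := isCompact_iff_compactSpace.mp hU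
  haveI : QuasiCompact U.ι := inferInstance
  haveI hGq : G.IsQuasicoherent := by
    haveI : SheafOfModules.IsFinitePresentation (R := (U : Scheme.{u}).ringCatSheaf) G := hG
    infer_instance
  haveI hKq : (satur U.ι φ).IsQuasicoherent := isQuasicoherent_satur U.ι φ
  haveI : ((satur U.ι φ).restrict U.ι).IsQuasicoherent := inferInstance
  have h1 : CohB1.IsFP ((satur U.ι φ).restrict U.ι) := by
    rw [← fpOn_top_iff]
    exact FPOn.of_iso (saturRestrictIso U.ι φ).symm ((fpOn_top_iff G).mpr hG)
  have h2 : FPOn (satur U.ι φ) U := by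
    have := fpOn_opensRange_of_isFP_restrict U.ι (satur U.ι φ) h1
    rwa [Scheme.Opens.opensRange_ι] at this
  obtain ⟨H, h, hHq, hHfp, hiso⟩ := exists_fp_approx (satur U.ι φ) U hU h2
  haveI : IsIso ((Scheme.Modules.restrictFunctor U.ι).map h) :=
    (isoOn_iff_isIso_restrict h U).mp hiso
  refine ⟨H, h ≫ saturι U.ι φ,
    asIso ((Scheme.Modules.restrictFunctor U.ι).map h) ≪≫ saturRestrictIso U.ι φ, hHfp, ?_⟩
  rw [Iso.trans_hom, asIso_hom, Category.assoc, saturRestrictIso_hom_comp, ← Functor.map_comp])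

end Groth.Agent.S2115
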