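import Groth.Statements.S2118
import Mathlib
import Groth.Agent.Lib.Helper6.Lazard
import Groth.Agent.Lib.Helper6.TSFlatMod

set_option autoImplicit false
universe u
open CategoryTheory
open CAlg

namespace Groth.Agent.S2118

open Groth.Agent.Lib.helper6.Lazard Groth.Agent.Lib.helper6.TSFlatMod

theorem flat_colimit {R : Type u} [CommRing R] {J : Type u} [Preorder J]
    [IsDirected J (fun a b => a ≤ b)] [Nonempty J]
    (F : J ⥤ ModuleCat.{u} R) (hF : ∀ j, Module.Flat R (F.obj j)) :
    Module.Flat R (Limits.colimit F : ModuleCat.{u} R) := by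
  classical
  apply flat_of_local
  intro l f x hfx
  choose j0 y0 hy0 using fun k => Limits.Concrete.colimit_exists_rep F (x k)
  obtain ⟨j, hj⟩ := Finset.exists_le (Finset.univ.image j0)
  have hle : ∀ k, j0 k ≤ j := fun k => hj _ (Finset.mem_image_of_mem _ (Finset.mem_univ k))
  have hy : ∀ k, (Limits.colimit.ι F j).hom ((F.map (homOfLE (hle k))).hom (y0 k)) = x k := by
    intro k
    rw [← hy0 k]
    exact congrArg (fun g => g.hom (y0 k)) (Limits.colimit.w F (homOfLE (hle k)))
  have h0 : (Limits.colimit.ι F j) (∑ k, f k • (F.map (homOfLE (hle k))).hom (y0 k)) =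
      (Limits.colimit.ι F j) 0 := by
    show (Limits.colimit.ι F j).hom _ = (Limits.colimit.ι F j).hom 0
    rw [map_sum, map_zero, ← hfx]
    refine Finset.sum_congr rfl fun k _ => ?_
    rw [map_smul, hy k]
  obtain ⟨k', g1, g2, hg⟩ := Limits.Concrete.colimit_exists_of_rep_eq F _ _ h0
  refine ⟨F.obj k', inferInstance, inferInstance, hF k', (Limits.colimit.ι F k').hom,
    fun k => (F.map g1).hom ((F.map (homOfLE (hle k))).hom (y0 k)), fun k => ?_, ?_⟩
  · rw [← hy k]
    exact congrArg (fun g => g.hom ((F.map (homOfLE (hle k))).hom (y0 k))) (Limits.colimit.w F g1)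
  · have h1 : (F.map g1).hom (∑ k, f k • (F.map (homOfLE (hle k))).hom (y0 k)) =
        (F.map g2).hom 0 := hg
    rw [map_zero, map_sum] at h1
    rw [← h1]
    exact Finset.sum_congr rfl fun k _ => (map_smul _ _ _).symm

theorem exists_diagram {R : Type u} [CommRing R] (M : Type u) [AddCommGroup M] [Module R M]
    [Module.Flat R M] :
    ∃ (J : Type u) (_ : Preorder J) (_ : IsDirected J (fun a b => a ≤ b)) (_ : Nonempty J)
      (F : J ⥤ ModuleCat.{u} R), (∀ j, Module.Finite R (F.obj j) ∧ Module.Free R (F.obj j)) ∧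
      Nonempty (Limits.colimit F ≅ ModuleCat.of R M) := by
  classical
  obtain ⟨ι, _, _, _, nn, ⟨𝒮⟩⟩ := exists_msys R M
  let G : ι → Type u := fun i => Fin (nn i) → R
  have : DirectedSystem G (fun i j h => ⇑(𝒮.t i j h)) :=
    { map_self := fun i x => by
        show 𝒮.t i i le_rfl x = x
        rw [𝒮.hid]
        rfl
      map_map := fun k j i hij hjk x => by
        show 𝒮.t j k hjk (𝒮.t i j hij x) = 𝒮.t i k (hij.trans hjk) x
        rw [← LinearMap.comp_apply, 𝒮.htrans] }
  let L : Module.DirectLimit G 𝒮.t →ₗ[R] M :=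
    Module.DirectLimit.lift R ι G 𝒮.t (fun i => 𝒮.φ i) (fun i j h x => by
      rw [← LinearMap.comp_apply, 𝒮.hcomp])
  have hL : ∀ i x, L (Module.DirectLimit.of R ι G 𝒮.t i x) = 𝒮.φ i x := fun i x =>
    Module.DirectLimit.lift_of _ _ _
  have hinj : Function.Injective L := by
    rw [injective_iff_map_eq_zero]
    intro z hz
    obtain ⟨i, x, rfl⟩ := Module.DirectLimit.exists_of z
    rw [hL] at hz
    obtain ⟨j, hij, hj⟩ := 𝒮.hzero i x hz
    rw [← Module.DirectLimit.of_f (hij := hij), hj, map_zero]
  have hsurj : Function.Surjective L := by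
    intro b
    obtain ⟨i, x, hx⟩ := 𝒮.hsurj b
    exact ⟨Module.DirectLimit.of R ι G 𝒮.t i x, (hL i x).trans hx⟩
  refine ⟨ι, inferInstance, inferInstance, inferInstance, ModuleCat.directLimitDiagram G 𝒮.t,
    fun j => ⟨?_, ?_⟩, ⟨?_⟩⟩
  · show Module.Finite R (Fin (nn j) → R)
    infer_instance
  · show Module.Free R (Fin (nn j) → R)
    infer_instance
  · exact ((Limits.colimit.isColimit _).coconePointUniqueUpToIso
      (ModuleCat.directLimitIsColimit G 𝒮.t)) ≪≫
      (LinearEquiv.ofBijective L ⟨hinj, hsurj⟩).toModuleIso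



/-- An `R`-module `M` is flat if and only if it is isomorphic to the colimit of a diagram of finite free
`R`-modules indexed by a nonempty directed preorder (in the same universe). -/
theorem result {R : Type u} [CommRing R] (M : Type u) [AddCommGroup M] [Module R M] :
    Module.Flat R M ↔
      ∃ (J : Type u) (_ : Preorder J) (_ : IsDirected J (fun a b => a ≤ b)) (_ : Nonempty J)
        (F : J ⥤ ModuleCat.{u} R), (∀ j, Module.Finite R (F.obj j) ∧ Module.Free R (F.obj j)) ∧
        Nonempty (Limits.colimit F ≅ ModuleCat.of R M) := by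
  constructor
  · intro h
    exact exists_diagram M
  · rintro ⟨J, _, _, _, F, hF, ⟨e⟩⟩
    have hflat : ∀ j, Module.Flat R (F.obj j) := fun j => by
      obtain ⟨h1, h2⟩ := hF j
      infer_instance
    have hc := flat_colimit F hflat
    exact Module.Flat.of_linearEquiv e.symm.toLinearEquiv


end Groth.Agent.S2118
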