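import Groth.Statements.S2120
import Mathlib.AlgebraicGeometry.Morphisms.Immersion

set_option autoImplicit false
universe u
open CategoryTheory AlgebraicGeometry
open Mor

namespace Groth.Agent.S2120

open CategoryTheory CategoryTheory.Limits AlgebraicGeometry in
theorem isSeparated_of_comp_surjective {X Y S : Scheme.{u}} (f : X ⟶ Y) (g : Y ⟶ S)
    [Surjective f] [UniversallyClosed f] (h : IsSeparated (f ≫ g)) : IsSeparated g := by
  have hh : UniversallyClosed
      (pullback.map (f ≫ g) (f ≫ g) g g f f (𝟙 S) (by simp) (by simp)) :=
    MorphismProperty.pullbackMap (P := @UniversallyClosed) inferInstance inferInstance rfl rfl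
  have hcl : IsClosed (Set.range (pullback.diagonal g)) := by
    have h1 : Set.range (pullback.diagonal g) = Set.range (f ≫ pullback.diagonal g) := by
      rw [Scheme.Hom.comp_base, TopCat.coe_comp, Set.range_comp,
        Set.range_eq_univ.2 f.surjective, Set.image_univ]
    rw [h1, pullback.comp_diagonal, Scheme.Hom.comp_base, TopCat.coe_comp, Set.range_comp]
    exact (Scheme.Hom.isClosedMap _) _ (pullback.diagonal (f ≫ g)).isClosedEmbedding.isClosed_range
  exact ⟨IsClosedImmersion.of_isPreimmersion _ hcl⟩

/-- Let `f : X → Y` be surjective and universally closed. If `X` is quasi-separated then so is `Y`; if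
`X` is separated then so is `Y`. -/
theorem result {X Y : Scheme.{u}} (f : X ⟶ Y) [Surjective f] [UniversallyClosed f] :
    (QuasiSeparatedSpace X → QuasiSeparatedSpace Y) ∧ (X.IsSeparated → Y.IsSeparated) := by
  constructor
  · intro hX
    refine ⟨fun U V hU hUc hV hVc => ?_⟩
    have h1 : IsCompact (f ⁻¹' U ∩ f ⁻¹' V) :=
      hX.inter_isCompact _ _ (hU.preimage f.continuous)
        (QuasiCompact.isCompact_preimage (f := f) U hU hUc) (hV.preimage f.continuous)
        (QuasiCompact.isCompact_preimage (f := f) V hV hVc)
    have h2 : U ∩ V = f '' (f ⁻¹' U ∩ f ⁻¹' V) := by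
      rw [← Set.preimage_inter, Set.image_preimage_eq _ f.surjective]
    rw [h2]
    exact h1.image f.continuous
  · intro hX
    exact ⟨isSeparated_of_comp_surjective f (Limits.terminal.from Y)
      (by rw [Limits.terminal.comp_from]; exact hX.isSeparated_terminal_from)⟩

end Groth.Agent.S2120
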