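import Groth.Statements.S2131
import Mathlib

set_option autoImplicit false
universe u
open CAlg

namespace Groth.Agent.S2131

theorem bijective_of_le {R M N : Type*} [CommRing R] [AddCommGroup M] [Module R M]
    [AddCommGroup N] [Module R N] (φ : M →ₗ[R] N) (S T : Submonoid R) (hST : S ≤ T)
    (h : Function.Bijective (LocalizedModule.map S φ)) :
    Function.Bijective (LocalizedModule.map T φ) := by
  constructor
  · rw [injective_iff_map_eq_zero]
    intro x hx
    induction x using LocalizedModule.induction_on with
    | h m t =>
      rw [LocalizedModule.map_mk, ← LocalizedModule.zero_mk t, LocalizedModule.mk_eq] at hx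
      obtain ⟨u, hu⟩ := hx
      simp only [smul_zero] at hu
      -- u • t • φ m = 0, so φ ((u*t) • m) = 0
      have h1 : LocalizedModule.map S φ (LocalizedModule.mk ((u * t : T) • m) (1 : S)) = 0 := by
        rw [LocalizedModule.map_mk, ← LocalizedModule.zero_mk (1 : S)]
        congr 1
        rw [Submonoid.smul_def, map_smul, ← Submonoid.smul_def, mul_smul]
        exact hu
      have h2 := h.1 (h1.trans (map_zero _).symm)
      rw [← LocalizedModule.zero_mk (1 : S), LocalizedModule.mk_eq] at h2
      obtain ⟨v, hv⟩ := h2
      simp only [smul_zero, one_smul] at hv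
      rw [← LocalizedModule.zero_mk t, LocalizedModule.mk_eq]
      refine ⟨⟨v, hST v.2⟩ * u * t, ?_⟩
      simp only [smul_zero]
      rw [mul_smul, mul_smul]
      have : (⟨v, hST v.2⟩ : T) • u • t • (t • m) = t • (v • ((u * t : T) • m)) := by
        simp only [Submonoid.smul_def, Submonoid.coe_mul, smul_smul]
        congr 1; ring
      rw [this, hv, smul_zero]
  · intro y
    induction y using LocalizedModule.induction_on with
    | h n t =>
      obtain ⟨x, hx⟩ := h.2 (LocalizedModule.mk n (1 : S))
      induction x using LocalizedModule.induction_on with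
      | h m s =>
        rw [LocalizedModule.map_mk, LocalizedModule.mk_eq] at hx
        obtain ⟨u, hu⟩ := hx
        simp only [one_smul] at hu
        -- u • φ m = u • s • n
        refine ⟨LocalizedModule.mk ((u : R) • m) (⟨u, hST u.2⟩ * ⟨s, hST s.2⟩ * t), ?_⟩
        rw [LocalizedModule.map_mk, LocalizedModule.mk_eq]
        refine ⟨1, ?_⟩
        simp only [one_smul, map_smul]
        have hu' : (u : R) • φ m = (u : R) • (s : R) • n := hu
        rw [hu']
        simp only [Submonoid.smul_def, Submonoid.coe_mul, smul_smul]
        congr 1; ring

/-- For an `R`-linear map from a finite module to a finitely presented module, the primes at which its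
localization is bijective form an open subset of `Spec R`. -/
theorem result {R M N : Type u} [CommRing R] [AddCommGroup M] [Module R M] [Module.Finite R M]
    [AddCommGroup N] [Module R N] [Module.FinitePresentation R N] (φ : M →ₗ[R] N) :
    IsOpen {p : PrimeSpectrum R | Function.Bijective (LocalizedModule.map p.asIdeal.primeCompl φ)} := by
  rw [isOpen_iff_forall_mem_open]
  intro p hp
  obtain ⟨g, hg, hbij⟩ := Module.FinitePresentation.exists_notMem_bijective φ p.asIdeal
    (LocalizedModule.mkLinearMap p.asIdeal.primeCompl M)
    (LocalizedModule.mkLinearMap p.asIdeal.primeCompl N) hp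
  refine ⟨PrimeSpectrum.basicOpen g, ?_, (PrimeSpectrum.basicOpen g).isOpen, hg⟩
  intro q hq
  refine bijective_of_le φ (Submonoid.powers g) q.asIdeal.primeCompl ?_ hbij
  rw [Submonoid.powers_le]
  exact hq

end Groth.Agent.S2131
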