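import Groth.Statements.S2133
import Mathlib

set_option autoImplicit false
universe u
open CAlg

namespace Groth.Agent.S2133

section helpers
open KaehlerDifferential

lemma exists_derivation_extension {A T : Type u} [CommRing A] [CommRing T] [Algebra A T]
    (M : Submonoid A) [IsLocalization M T] (D : Derivation ℤ A A) :
    ∃ D' : Derivation ℤ T T, ∀ a, D' (algebraMap A T a) = algebraMap A T (D a) := by
  let D₁ : Derivation ℤ A T := (Algebra.linearMap A T).compDer D
  let l₁ : Ω[A⁄ℤ] →ₗ[A] T := D₁.liftKaehlerDifferential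
  have hloc : IsLocalizedModule M (KaehlerDifferential.map ℤ ℤ A T) :=
    KaehlerDifferential.isLocalizedModule_map ℤ A T M
  let l₂ : Ω[T⁄ℤ] →ₗ[A] T := IsLocalizedModule.lift M (KaehlerDifferential.map ℤ ℤ A T) l₁
    (fun x => IsLocalizedModule.map_units (Algebra.linearMap A T) x)
  let l₃ : Ω[T⁄ℤ] →ₗ[T] T := LinearMap.extendScalarsOfIsLocalization M T l₂
  refine ⟨l₃.compDer (KaehlerDifferential.D ℤ T), fun a => ?_⟩
  have h1 : l₂ (KaehlerDifferential.map ℤ ℤ A T (KaehlerDifferential.D ℤ A a)) =
      l₁ (KaehlerDifferential.D ℤ A a) :=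
    IsLocalizedModule.lift_apply M (KaehlerDifferential.map ℤ ℤ A T) l₁ _ _
  rw [KaehlerDifferential.map_D] at h1
  change l₂ ((KaehlerDifferential.D ℤ T) ((algebraMap A T) a)) = _
  rw [h1]
  exact D₁.liftKaehlerDifferential_comp_D a


theorem result'' {R R' : Type u} [CommRing R] [CommRing R'] [Algebra R R'] [Algebra.FiniteType R R']
    (hinj : Function.Injective (algebraMap R R')) (g : R) (g' : R') (hg' : g' = algebraMap R R' g)
    (hg : IsSMulRegular R' g')
    (hloc : ∀ x : R', ∃ n : ℕ, g' ^ n * x ∈ Set.range (algebraMap R R')) (D : Derivation ℤ R R)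
    (S : Type u) [CommRing S] [Algebra R' S] [IsLocalization.Away g' S] [Algebra R S]
    [IsScalarTower R R' S] :
    ∃ (N : ℕ) (D' : Derivation ℤ R' R'), ∀ r : R, D' (algebraMap R R' r) = algebraMap R R' (g ^ N * D r) := by
  classical
  have hRS : ∀ r : R, algebraMap R S r = algebraMap R' S (algebraMap R R' r) := fun r =>
    IsScalarTower.algebraMap_apply R R' S r
  have hnzd : g' ∈ nonZeroDivisors R' := by
    rw [mem_nonZeroDivisors_iff_right]
    intro x hx
    apply hg
    change g' * x = g' * 0
    rw [mul_zero, mul_comm]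
    exact hx
  have hιinj : Function.Injective (algebraMap R' S) :=
    IsLocalization.injective S (M := Submonoid.powers g') (Submonoid.powers_le.mpr hnzd)
  have hgunit : IsUnit (algebraMap R' S g') := IsLocalization.Away.algebraMap_isUnit g'
  have hlocS : IsLocalization (Submonoid.powers g) S := by
    refine (isLocalization_iff (Submonoid.powers g) S).mpr ⟨?_, ?_, ?_⟩
    · rintro ⟨_, k, rfl⟩
      rw [hRS, map_pow, ← hg', map_pow]
      exact hgunit.pow k
    · intro z
      obtain ⟨⟨x, ⟨_, a, rfl⟩⟩, hz⟩ := IsLocalization.surj (Submonoid.powers g') z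
      obtain ⟨n, r, hr⟩ := hloc x
      refine ⟨(r, ⟨g ^ (n + a), n + a, rfl⟩), ?_⟩
      simp only at hz ⊢
      rw [hRS, hRS, hr, map_pow, ← hg', map_mul, ← hz]
      simp only [map_pow, map_mul, pow_add]
      ring
    · intro x y hxy
      refine ⟨1, ?_⟩
      rw [hRS, hRS] at hxy
      rw [hinj (hιinj hxy)]
  obtain ⟨DS, hDS⟩ := exists_derivation_extension (T := S) (Submonoid.powers g) D
  obtain ⟨s, hs⟩ := (Algebra.FiniteType.out : (⊤ : Subalgebra R R').FG)
  -- exponents for generators
  have hexp : ∀ x : R', ∃ k : ℕ, algebraMap R' S g' ^ k * DS (algebraMap R' S x) ∈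
      Set.range (algebraMap R' S) := by
    intro x
    obtain ⟨⟨y, ⟨_, a, rfl⟩⟩, hz⟩ :=
      IsLocalization.surj (Submonoid.powers g') (DS (algebraMap R' S x))
    exact ⟨a, y, by simp only at hz; rw [← hz, map_pow, mul_comm]⟩
  choose k hk using hexp
  set N := s.sup k with hN
  set E := (algebraMap R' S g' ^ N) • DS with hE
  have hEapp : ∀ z, E z = algebraMap R' S g' ^ N * DS z := fun z => rfl
  let T : Subalgebra R R' :=
    { carrier := {x | E (algebraMap R' S x) ∈ Set.range (algebraMap R' S)}
      mul_mem' := by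
        rintro a b ⟨a', ha⟩ ⟨b', hb⟩
        refine ⟨a * b' + b * a', ?_⟩
        rw [map_mul, Derivation.leibniz, ← ha, ← hb]
        simp [smul_eq_mul]
      add_mem' := by
        rintro a b ⟨a', ha⟩ ⟨b', hb⟩
        exact ⟨a' + b', by simp only [map_add, ha, hb]⟩
      algebraMap_mem' := by
        intro r
        refine ⟨algebraMap R R' (g ^ N * D r), ?_⟩
        change _ = E (algebraMap R' S (algebraMap R R' r))
        rw [hEapp, ← hRS r, hDS, hRS, map_mul, map_mul, map_pow, ← hg', map_pow] }
  have hT : T = ⊤ := by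
    rw [eq_top_iff, ← hs]
    apply Algebra.adjoin_le
    intro x hx
    change E (algebraMap R' S x) ∈ Set.range (algebraMap R' S)
    obtain ⟨y, hy⟩ := hk x
    have hle : k x ≤ N := Finset.le_sup hx
    refine ⟨g' ^ (N - k x) * y, ?_⟩
    rw [hEapp, map_mul, hy, map_pow, ← mul_assoc, ← pow_add, Nat.sub_add_cancel hle]
  have hall : ∀ x : R', ∃ y : R', algebraMap R' S y = E (algebraMap R' S x) := by
    intro x
    have : x ∈ T := by rw [hT]; trivial
    exact this
  choose d hd using hall
  let dl : R' →ₗ[ℤ] R' :=
    (AddMonoidHom.toIntLinearMap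
      { toFun := d
        map_zero' := by apply hιinj; rw [hd]; simp
        map_add' := by
          intro a b
          apply hιinj
          rw [hd, map_add, map_add, map_add, hd, hd] })
  refine ⟨N, Derivation.mk' dl ?_, ?_⟩
  · intro a b
    apply hιinj
    change algebraMap R' S (d (a * b)) = algebraMap R' S (a • d b + b • d a)
    rw [hd, map_mul, Derivation.leibniz]
    simp only [smul_eq_mul, map_add, map_mul, hd]
  · intro r
    apply hιinj
    change algebraMap R' S (d (algebraMap R R' r)) = _
    rw [hd, hEapp, ← hRS r, hDS, hRS, map_mul, map_mul, map_pow, ← hg', map_pow]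



end helpers

/-- Let `R → R'` be an injective ring map of finite type and `g ∈ R` a nonzerodivisor on `R'` such that
every element of `R'` lands in `R` after multiplication by a power of `g` (so `R_g = R'_g`). Then
for every derivation `D` of `R` there is `N` such that `g^N D` extends to a derivation of `R'`. -/
theorem result {R R' : Type u} [CommRing R] [CommRing R'] [Algebra R R'] [Algebra.FiniteType R R']
    (hinj : Function.Injective (algebraMap R R')) (g : R) (hg : IsSMulRegular R' (algebraMap R R' g))
    (hloc : ∀ x : R', ∃ n : ℕ, (algebraMap R R' g) ^ n * x ∈ Set.range (algebraMap R R')) (D : Derivation ℤ R R) :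
    ∃ (N : ℕ) (D' : Derivation ℤ R' R'), ∀ r : R, D' (algebraMap R R' r) = algebraMap R R' (g ^ N * D r) := by
  exact result'' hinj g (algebraMap R R' g) rfl hg hloc D (Localization.Away (algebraMap R R' g))

end Groth.Agent.S2133
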