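import Groth.Statements.S2134
import Mathlib

set_option autoImplicit false
universe u
open CAlg

namespace Groth.Agent.S2134

/-- Let `K/k` be a field extension and `(K_α)` a nonempty family of intermediate fields, directed
downwards, with intersection `k`. For a `K`-subspace `V` of `K^n` (`n ≥ 1`), `V` contains a nonzero
vector with all coordinates in `k` if and only if for every `α` it contains a nonzero vector with
all coordinates in `K_α`. -/
theorem result {k K : Type u} [Field k] [Field K] [Algebra k K] {ι : Type u} [Nonempty ι]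
    (F : ι → IntermediateField k K) (hdir : ∀ a b : ι, ∃ c, F c ≤ F a ⊓ F b) (hinf : ⨅ a, F a = ⊥) (n : ℕ) (hn : 1 ≤ n)
    (V : Submodule K (Fin n → K)) :
    (∃ v ∈ V, v ≠ 0 ∧ ∀ i, v i ∈ Set.range (algebraMap k K)) ↔
      ∀ a, ∃ v ∈ V, v ≠ 0 ∧ ∀ i, v i ∈ F a := by
  classical
  constructor
  · rintro ⟨v, hv, hv0, hvk⟩ a
    refine ⟨v, hv, hv0, fun i => ?_⟩
    obtain ⟨c, hc⟩ := hvk i
    rw [← hc]
    exact (F a).algebraMap_mem c
  · intro H
    let P : ι → Finset (Fin n) → Prop := fun a T =>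
      ∃ v ∈ V, v ≠ 0 ∧ (∀ i, v i ∈ F a) ∧ (∀ i, v i ≠ 0 → i ∈ T)
    have Pmono : ∀ a c T, F c ≤ F a → P c T → P a T := by
      rintro a c T hca ⟨v, hv, hv0, hvc, hvT⟩
      exact ⟨v, hv, hv0, fun i => hca (hvc i), hvT⟩
    let 𝒯 : ι → Finset (Finset (Fin n)) := fun a => Finset.univ.filter (P a)
    have hT_mem : ∀ a T, T ∈ 𝒯 a ↔ P a T := by
      intro a T
      simp [𝒯]
    obtain ⟨a₀, ha₀⟩ : ∃ a₀, ∀ a, (𝒯 a₀).card ≤ (𝒯 a).card := by
      have hne : ∃ m, ∃ a, (𝒯 a).card = m := ⟨_, Classical.arbitrary ι, rfl⟩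
      obtain ⟨a₀, h⟩ := Nat.find_spec hne
      exact ⟨a₀, fun a => h ▸ Nat.find_min' hne ⟨a, rfl⟩⟩
    have heq : ∀ c, F c ≤ F a₀ → 𝒯 c = 𝒯 a₀ := by
      intro c hc
      apply Finset.eq_of_subset_of_card_le
      · intro T hT
        rw [hT_mem] at hT ⊢
        exact Pmono a₀ c T hc hT
      · exact ha₀ c
    have hne : (𝒯 a₀).Nonempty := by
      obtain ⟨v, hv, hv0, hva⟩ := H a₀
      exact ⟨Finset.univ, (hT_mem _ _).mpr ⟨v, hv, hv0, hva, fun i _ => Finset.mem_univ i⟩⟩
    obtain ⟨T, hT, hTmin⟩ := Finset.exists_min_image (𝒯 a₀) Finset.card hne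
    obtain ⟨v₀, hv₀V, hv₀0, hv₀F, hv₀T⟩ := (hT_mem _ _).mp hT
    obtain ⟨j, hj⟩ : ∃ j, v₀ j ≠ 0 := by
      by_contra h
      push_neg at h
      exact hv₀0 (funext h)
    have hjT : j ∈ T := hv₀T j hj
    have hno : ¬ P a₀ (T.erase j) := by
      intro hP
      have h1 := hTmin _ ((hT_mem _ _).mpr hP)
      have h2 := Finset.card_erase_lt_of_mem hjT
      omega
    obtain ⟨v₁, hv₁⟩ : ∃ v₁ : Fin n → K, v₁ = (v₀ j)⁻¹ • v₀ := ⟨_, rfl⟩
    have hv₁i : ∀ i, v₁ i = (v₀ j)⁻¹ * v₀ i := fun i => by rw [hv₁]; rfl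
    have hv₁V : v₁ ∈ V := by rw [hv₁]; exact V.smul_mem _ hv₀V
    have hv₁j : v₁ j = 1 := by rw [hv₁i, inv_mul_cancel₀ hj]
    have hv₁F : ∀ i, v₁ i ∈ F a₀ := fun i => by
      rw [hv₁i]
      exact (F a₀).mul_mem ((F a₀).inv_mem (hv₀F j)) (hv₀F i)
    have hv₁T : ∀ i, v₁ i ≠ 0 → i ∈ T := fun i hi => hv₀T i (by
      intro h0
      apply hi
      rw [hv₁i, h0, mul_zero])
    have hv₁0 : v₁ ≠ 0 := fun h => by
      have h3 := congrFun h j
      rw [hv₁j] at h3
      exact one_ne_zero h3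
    have hall : ∀ b i, v₁ i ∈ F b := by
      intro b i
      obtain ⟨c, hc⟩ := hdir a₀ b
      have hca : F c ≤ F a₀ := hc.trans inf_le_left
      have hcb : F c ≤ F b := hc.trans inf_le_right
      have hTc : T ∈ 𝒯 c := by rw [heq c hca]; exact hT
      obtain ⟨w, hwV, hw0, hwF, hwT⟩ := (hT_mem _ _).mp hTc
      have hu : w - (w j) • v₁ = 0 := by
        by_contra hu0
        apply hno
        refine ⟨w - (w j) • v₁, V.sub_mem hwV (V.smul_mem _ hv₁V), hu0, fun i => ?_,
          fun i hi => ?_⟩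
        · simp only [Pi.sub_apply, Pi.smul_apply, smul_eq_mul]
          exact (F a₀).sub_mem (hca (hwF i)) ((F a₀).mul_mem (hca (hwF j)) (hv₁F i))
        · rw [Finset.mem_erase]
          constructor
          · intro hij
            apply hi
            rw [hij]
            simp only [Pi.sub_apply, Pi.smul_apply, smul_eq_mul, hv₁j, mul_one, sub_self]
          · by_contra hiT
            apply hi
            have h1 : w i = 0 := by
              by_contra h
              exact hiT (hwT i h)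
            have h2 : v₁ i = 0 := by
              by_contra h
              exact hiT (hv₁T i h)
            simp only [Pi.sub_apply, Pi.smul_apply, smul_eq_mul, h1, h2, mul_zero, sub_self]
      have hw : w = (w j) • v₁ := sub_eq_zero.mp hu
      have hwj : w j ≠ 0 := by
        intro h0
        apply hw0
        rw [hw, h0, zero_smul]
      have hvi : v₁ i = (w j)⁻¹ * w i := by
        have h4 := congrFun hw i
        simp only [Pi.smul_apply, smul_eq_mul] at h4
        rw [h4, ← mul_assoc, inv_mul_cancel₀ hwj, one_mul]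
      rw [hvi]
      exact hcb ((F c).mul_mem ((F c).inv_mem (hwF j)) (hwF i))
    refine ⟨v₁, hv₁V, hv₁0, fun i => ?_⟩
    have hmem : v₁ i ∈ ((⨅ a, F a : IntermediateField k K) : Set K) := by
      rw [IntermediateField.coe_iInf]
      exact Set.mem_iInter.mpr (fun a => hall a i)
    rw [hinf] at hmem
    exact IntermediateField.mem_bot.mp hmem

end Groth.Agent.S2134
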