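import Groth.Statements.S2135
-- import your own Groth.Agent.* helpers here
import Mathlib
import Groth.Agent.Lib.Helper9.UnramSHConv2
import Groth.Agent.Lib.Helper24.UnibranchMin

set_option autoImplicit false
universe u
open CAlg

namespace Groth.Agent.S2135

/-- A local ring `A` is geometrically unibranch if and only if a strict henselization of `A` has a
unique minimal prime ideal. -/
theorem result {A Ash : Type u} [CommRing A] [IsLocalRing A]
    [CommRing Ash] [IsLocalRing Ash] [Algebra A Ash] [IsLocalHom (algebraMap A Ash)]
    [Hensel.IsStrictHenselization A Ash] :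
    CAlg2.IsGeomUnibranch A ↔ CAlgX.HasUniqueMinimalPrime Ash := by
  constructor
  · intro h
    have hp := Groth.Agent.Lib.helper9.UnramCore.nilradical_isPrime_of_isGeomUnibranch A Ash h
    exact Groth.Agent.Lib.Helper24.Unibranch.hasUniqueMinimalPrime_of_prime_le_nilradical _ hp le_rfl
  · intro h
    exact Groth.Agent.Lib.helper9.UnramCore.isGeomUnibranch_of_nilradical_isPrime A Ash
      (Groth.Agent.Lib.Helper24.Unibranch.isPrime_nilradical_of_hasUniqueMinimalPrime h)

end Groth.Agent.S2135
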