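import Groth.Statements.S2136
-- import your own Groth.Agent.* helpers here
import Mathlib
import Groth.Agent.Lib.Helper9.UnramGUPrelude

set_option autoImplicit false
universe u
open CAlg

namespace Groth.Agent.S2136

/-- Let `A` be a domain, `A → B` a ring map of finite type, and `𝔮` a prime of `B` lying over `𝔭 ⊆ A`,
with `A_𝔭` geometrically unibranch, `A → B` unramified at `𝔮` and `A_𝔭 → B_𝔮` injective. Then `B_g`
is étale over `A` for some `g ∉ 𝔮`. (`B` is assumed of finite type over `A` throughout; the
published statement needs this only after inverting an element outside `𝔮`.) -/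
theorem result {A B : Type u} [CommRing A] [IsDomain A] [CommRing B]
    [Algebra A B] (q : Ideal B) [q.IsPrime] (p : Ideal A) [p.IsPrime] [q.LiesOver p]
    (hA : CAlg2.IsGeomUnibranch (Localization.AtPrime p)) [Algebra.FiniteType A B] [Algebra.IsUnramifiedAt A q]
    (hinj : Function.Injective (Localization.localRingHom p q (algebraMap A B) (q.over_def p))) :
    ∃ g : B, g ∉ q ∧ Algebra.Etale A (Localization.Away g) := by
  have hqA : q.under A = p := (q.over_def p).symm
  have hEU : Groth.Agent.Lib.helper9.UnramCore.EUAt A (q.under A) := by
    rw [hqA]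
    exact Groth.Agent.Lib.helper9.UnramCore.euAt_of_euLoc p (Localization.AtPrime p)
      (Groth.Agent.Lib.helper9.UnramCore.euLoc_of_isGeomUnibranch _ hA)
  refine Groth.Agent.Lib.helper9.UnramCore.exists_etale_away q hEU ?_
  -- the composite `A → B_q` is injective
  have hcomp : Function.Injective (algebraMap A (Localization.AtPrime q)) := by
    intro a b hab
    apply IsLocalization.injective (Localization.AtPrime p) p.primeCompl_le_nonZeroDivisors
    apply hinj
    rw [Localization.localRingHom_to_map, Localization.localRingHom_to_map,
      ← IsScalarTower.algebraMap_apply, ← IsScalarTower.algebraMap_apply]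
    exact hab
  have hbot : (⊥ : Ideal A) ∈ minimalPrimes A := by
    rw [IsDomain.minimalPrimes_eq_singleton_bot]
    rfl
  obtain ⟨P', hP', hP'bot⟩ :=
    Ideal.exists_comap_eq_of_mem_minimalPrimes_of_injective hcomp ⊥ hbot
  refine ⟨P'.comap (algebraMap B (Localization.AtPrime q)), Ideal.comap_isPrime _ _, ?_, ?_⟩
  · have h1 : P' ≤ IsLocalRing.maximalIdeal (Localization.AtPrime q) :=
      IsLocalRing.le_maximalIdeal hP'.ne_top
    have h2 := Ideal.comap_mono (f := algebraMap B (Localization.AtPrime q)) h1
    rwa [show Ideal.comap (algebraMap B (Localization.AtPrime q))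
      (IsLocalRing.maximalIdeal (Localization.AtPrime q)) = q from
      Localization.AtPrime.under_maximalIdeal] at h2
  · rw [Ideal.under, Ideal.comap_comap, ← IsScalarTower.algebraMap_eq]
    exact hP'bot

end Groth.Agent.S2136
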