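import Groth.Statements.S2138
import Mathlib

set_option autoImplicit false
universe u
open CAlg

namespace Groth.Agent.S2138

section aux
open TensorProduct

variable {R S : Type u} [CommRing R] [CommRing S] [Algebra R S]

/-- membership in the contraction of the extension to a localization -/
lemma mem_comap_map {A : Type*} [CommRing A] [Algebra R A] (M : Submonoid R) [IsLocalization M A]
    (I : Ideal R) (r : R) :
    r ∈ (I.map (algebraMap R A)).comap (algebraMap R A) ↔ ∃ s ∈ M, s * r ∈ I := by
  rw [Ideal.mem_comap, IsLocalization.mem_map_algebraMap_iff M]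
  constructor
  · rintro ⟨⟨⟨i, hi⟩, ⟨m, hm⟩⟩, h⟩
    simp only at h
    rw [← map_mul] at h
    obtain ⟨c, hc⟩ := (IsLocalization.eq_iff_exists M A).mp h
    refine ⟨c * m, M.mul_mem c.2 hm, ?_⟩
    have : (c : R) * m * r = c * i := by rw [mul_assoc, mul_comm m r]; exact hc
    rw [this]; exact I.mul_mem_left _ hi
  · rintro ⟨s, hs, h⟩
    exact ⟨⟨⟨s * r, h⟩, ⟨s, hs⟩⟩, by simp [mul_comm]⟩

variable (R) in
/-- multiplication by `t` on the `S` factor -/
noncomputable def T (M : Type*) [AddCommGroup M] [Module R M] (t : S) : S ⊗[R] M →ₗ[R] S ⊗[R] M :=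
  (LinearMap.mulLeft R t).rTensor M

lemma T_tmul (M : Type*) [AddCommGroup M] [Module R M] (t s : S) (m : M) :
    T R M t (s ⊗ₜ[R] m) = (t * s) ⊗ₜ[R] m := by
  simp [T]

lemma T_eq_smul (M : Type*) [AddCommGroup M] [Module R M] (t : S) (z : S ⊗[R] M) :
    T R M t z = t • z := by
  induction z using TensorProduct.induction_on with
  | zero => simp
  | tmul s m => rw [T_tmul, TensorProduct.smul_tmul', smul_eq_mul]
  | add x y hx hy => rw [map_add, hx, hy, smul_add]

lemma T_comm {M N : Type*} [AddCommGroup M] [Module R M] [AddCommGroup N] [Module R N]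
    (f : M →ₗ[R] N) (t : S) (z : S ⊗[R] M) :
    f.lTensor S (T R M t z) = T R N t (f.lTensor S z) := by
  induction z using TensorProduct.induction_on with
  | zero => simp
  | tmul s m => simp [T_tmul]
  | add x y hx hy => simp only [map_add, hx, hy]

lemma tmul_one_eq_zero_iff (I : Ideal R) (y : S) :
    y ⊗ₜ[R] (1 : R ⧸ I) = 0 ↔ y ∈ I.map (algebraMap R S) := by
  have h : (Ideal.qoutMapEquivTensorQout S (I := I)) (Ideal.Quotient.mk _ y) = y ⊗ₜ[R] (1 : R ⧸ I) := rfl
  rw [← h, LinearEquiv.map_eq_zero_iff, Ideal.Quotient.eq_zero_iff_mem]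

/-- `t ∉ q` acts injectively on `S ⊗ R/p`. -/
lemma T_inj_quot (p : Ideal R) [hq : (p.map (algebraMap R S)).IsPrime] (t : S)
    (ht : t ∉ p.map (algebraMap R S)) : Function.Injective (T R (R ⧸ p) t) := by
  rw [← LinearMap.ker_eq_bot, LinearMap.ker_eq_bot']
  intro z hz
  rw [T_eq_smul] at hz
  set ψ := (Ideal.qoutMapEquivTensorQout S (I := p)).symm with hψ
  have h1 : ψ (t • z) = 0 := by rw [hz, map_zero]
  rw [map_smul] at h1
  have h2 : t • ψ z = Ideal.Quotient.mk _ t * ψ z := by
    rw [Algebra.smul_def]; rfl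
  rw [h2] at h1
  rcases mul_eq_zero.mp h1 with h3 | h3
  · exact absurd (Ideal.Quotient.eq_zero_iff_mem.mp h3) ht
  · exact (LinearEquiv.map_eq_zero_iff _).mp h3

end aux
section aux2
open TensorProduct

variable {R S : Type u} [CommRing R] [CommRing S] [Algebra R S]

/-- the inclusion `R/p → κ(p)` as an `R`-linear map -/
noncomputable def ι₀ (p : Ideal R) [p.IsPrime] : (R ⧸ p) →ₗ[R] p.ResidueField :=
  (IsScalarTower.toAlgHom R (R ⧸ p) p.ResidueField).toLinearMap

lemma ι₀_mk (p : Ideal R) [p.IsPrime] (r : R) :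
    ι₀ p (Ideal.Quotient.mk p r) = algebraMap R p.ResidueField r := by
  simp [ι₀]

lemma ι₀_inj (p : Ideal R) [p.IsPrime] : Function.Injective (ι₀ p) := by
  have := IsFractionRing.injective (R ⧸ p) p.ResidueField
  exact this

lemma smul_tmul_residue_inj (p : Ideal R) [p.IsPrime] (σ : R) (hσ : σ ∉ p)
    (z : S ⊗[R] p.ResidueField) (hz : σ • z = 0) : z = 0 := by
  have hne : algebraMap R p.ResidueField σ ≠ 0 := by
    rwa [Ne, Ideal.algebraMap_residueField_eq_zero]
  have key : ∀ z : S ⊗[R] p.ResidueField,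
      (LinearMap.mulLeft R ((algebraMap R p.ResidueField σ)⁻¹)).lTensor S (σ • z) = z := by
    intro z
    induction z using TensorProduct.induction_on with
    | zero => simp
    | tmul s k =>
      rw [TensorProduct.smul_tmul', TensorProduct.smul_tmul, LinearMap.lTensor_tmul,
        LinearMap.mulLeft_apply, Algebra.smul_def, ← mul_assoc, inv_mul_cancel₀ hne, one_mul]
    | add x y hx hy => rw [smul_add, map_add, hx, hy]
  rw [← key z, hz, map_zero]

lemma exists_smul_mem_range (p : Ideal R) [p.IsPrime] (z : S ⊗[R] p.ResidueField) :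
    ∃ σ : R, σ ∉ p ∧ ∃ w : S ⊗[R] (R ⧸ p), σ • z = (ι₀ p).lTensor S w := by
  induction z using TensorProduct.induction_on with
  | zero => exact ⟨1, fun h => (‹p.IsPrime›).ne_top ((Ideal.eq_top_iff_one _).mpr h), 0, by simp⟩
  | tmul s k =>
    obtain ⟨x, rfl⟩ := IsLocalRing.residue_surjective (R := Localization.AtPrime p) k
    obtain ⟨r, σ, rfl⟩ := IsLocalization.exists_mk'_eq p.primeCompl x
    refine ⟨σ, σ.2, s ⊗ₜ[R] Ideal.Quotient.mk p r, ?_⟩
    rw [LinearMap.lTensor_tmul, ι₀_mk, TensorProduct.smul_tmul', TensorProduct.smul_tmul]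
    congr 1
    rw [Algebra.smul_def]
    change IsLocalRing.residue _ (algebraMap R (Localization.AtPrime p) σ) * IsLocalRing.residue _ _ =
      IsLocalRing.residue _ (algebraMap R (Localization.AtPrime p) r)
    rw [← map_mul, IsLocalization.mul_mk'_eq_mk'_of_mul, mul_comm, IsLocalization.mk'_mul_cancel_right]
  | add x y hx hy =>
    obtain ⟨σ1, h1, w1, e1⟩ := hx
    obtain ⟨σ2, h2, w2, e2⟩ := hy
    refine ⟨σ1 * σ2, fun h => ((‹p.IsPrime›).mem_or_mem h).elim h1 h2, σ2 • w1 + σ1 • w2, ?_⟩
    rw [map_add, map_smul, map_smul, ← e1, ← e2, smul_add, smul_smul, smul_smul, mul_comm σ2 σ1]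

/-- `t ∉ q` acts injectively on `S ⊗ κ(p)`. -/
lemma T_inj_residue [Module.Flat R S] (p : Ideal R) [p.IsPrime]
    [(p.map (algebraMap R S)).IsPrime] (t : S)
    (ht : t ∉ p.map (algebraMap R S)) : Function.Injective (T R p.ResidueField t) := by
  rw [← LinearMap.ker_eq_bot, LinearMap.ker_eq_bot']
  intro z hz
  obtain ⟨σ, hσ, w, hw⟩ := exists_smul_mem_range (S := S) p z
  apply smul_tmul_residue_inj p σ hσ
  have h1 : (ι₀ p).lTensor S (T R (R ⧸ p) t w) = 0 := by
    rw [T_comm, ← hw, map_smul, hz, smul_zero]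
  have h2 : T R (R ⧸ p) t w = 0 :=
    (Module.Flat.lTensor_preserves_injective_linearMap (M := S) (ι₀ p) (ι₀_inj p))
      (by rw [h1, map_zero])
  have h3 : w = 0 := T_inj_quot p t ht (by rw [h2, map_zero])
  rw [hw, h3, map_zero]

end aux2
section aux3
open TensorProduct

variable {R S : Type u} [CommRing R] [CommRing S] [Algebra R S]

lemma T_inj_finsupp [Module.Flat R S] (p : Ideal R) [p.IsPrime]
    [(p.map (algebraMap R S)).IsPrime] (ι : Type*) (t : S)
    (ht : t ∉ p.map (algebraMap R S)) : Function.Injective (T R (ι →₀ p.ResidueField) t) := by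
  classical
  rw [← LinearMap.ker_eq_bot, LinearMap.ker_eq_bot']
  intro z hz
  apply (TensorProduct.finsuppRight R R S p.ResidueField ι).injective
  rw [map_zero]
  ext i
  rw [TensorProduct.finsuppRight_apply, Finsupp.zero_apply]
  apply T_inj_residue p t ht
  rw [← T_comm, hz, map_zero, map_zero]

lemma exists_embedding (p : Ideal R) [p.IsPrime] (M : Type u) [AddCommGroup M] [Module R M]
    (ha : ∀ s ∉ p, ∀ m : M, s • m = 0 → m = 0) (hp : ∀ a ∈ p, ∀ m : M, a • m = 0) :
    ∃ (ι : Type u) (j : M →ₗ[R] (ι →₀ p.ResidueField)), Function.Injective j := by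
  have hT : Module.IsTorsionBySet (Localization.AtPrime p) (LocalizedModule p.primeCompl M)
      (IsLocalRing.maximalIdeal (Localization.AtPrime p) : Set (Localization.AtPrime p)) := by
    intro x a
    obtain ⟨a, ha'⟩ := a
    obtain ⟨r, σ, rfl⟩ := IsLocalization.exists_mk'_eq p.primeCompl a
    have hr : r ∈ p := (IsLocalization.AtPrime.mk'_mem_maximal_iff (Localization.AtPrime p) p r σ).mp ha'
    induction x using LocalizedModule.induction_on with
    | h m s =>
      change IsLocalization.mk' (Localization.AtPrime p) r σ • LocalizedModule.mk m s = 0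
      rw [← Localization.mk_eq_mk', LocalizedModule.mk_smul_mk, hp r hr, LocalizedModule.zero_mk]
  let _inst : Module p.ResidueField (LocalizedModule p.primeCompl M) := hT.module
  have : IsScalarTower R p.ResidueField (LocalizedModule p.primeCompl M) := by
    apply IsScalarTower.of_algebraMap_smul
    intro r x
    have h2 := hT.mk_smul (algebraMap R (Localization.AtPrime p) r) x
    exact h2.trans (algebraMap_smul _ r x)
  let b := Module.Free.chooseBasis p.ResidueField (LocalizedModule p.primeCompl M)
  refine ⟨_, (b.repr.toLinearMap.restrictScalars R) ∘ₗ LocalizedModule.mkLinearMap p.primeCompl M, ?_⟩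
  rw [LinearMap.coe_comp]
  refine Function.Injective.comp b.repr.injective ?_
  rw [← LinearMap.ker_eq_bot, LinearMap.ker_eq_bot']
  intro m hm
  obtain ⟨c, hc⟩ := (IsLocalizedModule.eq_zero_iff p.primeCompl
    (LocalizedModule.mkLinearMap p.primeCompl M)).mp hm
  exact ha c.1 c.2 m hc

lemma base [Module.Flat R S] (p : Ideal R) [p.IsPrime] [(p.map (algebraMap R S)).IsPrime]
    (M : Type u) [AddCommGroup M] [Module R M]
    (ha : ∀ s ∉ p, ∀ m : M, s • m = 0 → m = 0) (hp : ∀ a ∈ p, ∀ m : M, a • m = 0)
    (t : S) (ht : t ∉ p.map (algebraMap R S)) : Function.Injective (T R M t) := by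
  obtain ⟨ι, j, hj⟩ := exists_embedding p M ha hp
  rw [← LinearMap.ker_eq_bot, LinearMap.ker_eq_bot']
  intro z hz
  apply Module.Flat.lTensor_preserves_injective_linearMap (M := S) j hj
  rw [map_zero]
  apply T_inj_finsupp p ι t ht
  rw [← T_comm, hz, map_zero, map_zero]

end aux3
section aux4
open TensorProduct

variable {R S : Type u} [CommRing R] [CommRing S] [Algebra R S]

theorem T_inj_of_torsionFree [Module.Flat R S] (p : Ideal R) [p.IsPrime]
    [(p.map (algebraMap R S)).IsPrime] (t : S) (ht : t ∉ p.map (algebraMap R S)) :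
    ∀ (n : ℕ) (M : Type u) [AddCommGroup M] [Module R M],
      (∀ s ∉ p, ∀ m : M, s • m = 0 → m = 0) → (∀ a ∈ p ^ n, ∀ m : M, a • m = 0) →
      Function.Injective (T R M t) := by
  intro n
  induction n with
  | zero =>
    intro M _ _ ha hp
    have : Subsingleton M := ⟨fun x y => by
      have hx := hp 1 (by simp) x
      have hy := hp 1 (by simp) y
      rw [one_smul] at hx hy; rw [hx, hy]⟩
    exact Function.injective_of_subsingleton _
  | succ n ih =>
    intro M _ _ ha hp
    let M' : Submodule R M := Submodule.torsionBySet R M (p : Set R)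
    have hM' : ∀ m, m ∈ M' ↔ ∀ a ∈ p, a • m = 0 := by
      intro m
      rw [Submodule.mem_torsionBySet_iff]
      exact ⟨fun h a ha => h ⟨a, ha⟩, fun h a => h a.1 a.2⟩
    have hsub : Function.Injective (T R M' t) := by
      apply base p M' ?_ ?_ t ht
      · intro s hs m hm
        apply Subtype.ext
        apply ha s hs m.1
        have := congrArg Subtype.val hm
        simpa using this
      · intro a ha' m
        apply Subtype.ext
        simpa using (hM' m.1).mp m.2 a ha'
    have hquot : Function.Injective (T R (M ⧸ M') t) := by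
      apply ih (M ⧸ M')
      · intro s hs x hx
        induction x using Submodule.Quotient.induction_on with
        | H m =>
          rw [← Submodule.Quotient.mk_smul, Submodule.Quotient.mk_eq_zero] at hx
          rw [Submodule.Quotient.mk_eq_zero, hM']
          intro a ha'
          apply ha s hs
          rw [smul_comm]
          exact (hM' _).mp hx a ha'
      · intro a ha' x
        induction x using Submodule.Quotient.induction_on with
        | H m =>
          rw [← Submodule.Quotient.mk_smul, Submodule.Quotient.mk_eq_zero, hM']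
          intro b hb
          rw [smul_smul]
          apply hp
          rw [pow_succ']
          exact Ideal.mul_mem_mul hb ha'
    rw [← LinearMap.ker_eq_bot, LinearMap.ker_eq_bot']
    intro z hz
    have hex : Function.Exact (M'.subtype.lTensor S) (M'.mkQ.lTensor S) :=
      lTensor_exact S (LinearMap.exact_subtype_mkQ M') (Submodule.mkQ_surjective M')
    have h1 : M'.mkQ.lTensor S z = 0 := hquot (by rw [← T_comm, hz, map_zero, map_zero])
    obtain ⟨z', rfl⟩ := (hex z).mp h1
    have hinj := Module.Flat.lTensor_preserves_injective_linearMap (M := S) M'.subtype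
      M'.injective_subtype
    have h2 : T R M' t z' = 0 := hinj (by rw [T_comm, hz, map_zero])
    rw [hsub (by rw [h2, map_zero] : T R M' t z' = T R M' t 0), map_zero]

lemma not_mem_map [Module.Flat R S] (p : Ideal R) [p.IsPrime]
    [hq : (p.map (algebraMap R S)).IsPrime] (s : R) (hs : s ∉ p) :
    algebraMap R S s ∉ p.map (algebraMap R S) := by
  intro h
  rw [← tmul_one_eq_zero_iff] at h
  have hinj : Function.Injective (LinearMap.lsmul R (R ⧸ p) s) := by
    rw [← LinearMap.ker_eq_bot, LinearMap.ker_eq_bot']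
    intro m hm
    obtain ⟨r, rfl⟩ := Ideal.Quotient.mk_surjective m
    rw [LinearMap.lsmul_apply, Algebra.smul_def, Ideal.Quotient.algebraMap_eq, ← map_mul,
      Ideal.Quotient.eq_zero_iff_mem] at hm
    rw [Ideal.Quotient.eq_zero_iff_mem]
    exact ((‹p.IsPrime›).mem_or_mem hm).resolve_left hs
  have h2 := Module.Flat.lTensor_preserves_injective_linearMap (M := S) _ hinj
  have h3 : (LinearMap.lsmul R (R ⧸ p) s).lTensor S ((1 : S) ⊗ₜ[R] (1 : R ⧸ p)) = 0 := by
    rw [LinearMap.lTensor_tmul, LinearMap.lsmul_apply, ← TensorProduct.smul_tmul, Algebra.smul_def,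
      mul_one]
    exact h
  have h4 : (1 : S) ⊗ₜ[R] (1 : R ⧸ p) = 0 := h2 (by rw [h3, map_zero])
  rw [tmul_one_eq_zero_iff] at h4
  exact hq.ne_top ((Ideal.eq_top_iff_one _).mpr h4)

end aux4


/-- Let `R → S` be flat and `𝔭` a prime of `R` whose extension `𝔮 = 𝔭S` is prime. Then for every `n` the
extension to `S` of the symbolic power `𝔭^{(n)}` (the contraction of `𝔭ⁿR_𝔭`) equals the symbolic
power `𝔮^{(n)}`. -/
theorem result {R S : Type u} [CommRing R] [CommRing S] [Algebra R S] [Module.Flat R S]
    (p : Ideal R) [p.IsPrime] [(p.map (algebraMap R S)).IsPrime] (n : ℕ) :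
    (((p ^ n).map (algebraMap R (Localization.AtPrime p))).comap (algebraMap R (Localization.AtPrime p))).map
        (algebraMap R S) =
      (((p.map (algebraMap R S)) ^ n).map (algebraMap S (Localization.AtPrime (p.map (algebraMap R S))))).comap
        (algebraMap S (Localization.AtPrime (p.map (algebraMap R S)))) := by
  have hPmem : ∀ r, r ∈ ((p ^ n).map (algebraMap R (Localization.AtPrime p))).comap
      (algebraMap R (Localization.AtPrime p)) ↔ ∃ s ∈ p.primeCompl, s * r ∈ p ^ n :=
    fun r => mem_comap_map p.primeCompl (p ^ n) r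
  have hQmem : ∀ x, x ∈ (((p.map (algebraMap R S)) ^ n).map
      (algebraMap S (Localization.AtPrime (p.map (algebraMap R S))))).comap
      (algebraMap S (Localization.AtPrime (p.map (algebraMap R S)))) ↔
      ∃ s ∈ (p.map (algebraMap R S)).primeCompl, s * x ∈ (p.map (algebraMap R S)) ^ n :=
    fun x => mem_comap_map (p.map (algebraMap R S)).primeCompl ((p.map (algebraMap R S)) ^ n) x
  apply le_antisymm
  · rw [Ideal.map_le_iff_le_comap]
    intro r hr
    obtain ⟨s, hs, h⟩ := (hPmem r).mp hr
    rw [Ideal.mem_comap, hQmem]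
    refine ⟨algebraMap R S s, not_mem_map p s hs, ?_⟩
    rw [← map_mul, ← Ideal.map_pow]
    exact Ideal.mem_map_of_mem _ h
  · intro x hx
    obtain ⟨t, ht, h⟩ := (hQmem x).mp hx
    have h1 : t * x ∈ (((p ^ n).map (algebraMap R (Localization.AtPrime p))).comap
        (algebraMap R (Localization.AtPrime p))).map (algebraMap R S) := by
      rw [← Ideal.map_pow] at h
      exact Ideal.map_mono (fun r hr => (hPmem r).mpr ⟨1, p.primeCompl.one_mem, by simpa using hr⟩) h
    rw [← tmul_one_eq_zero_iff] at h1 ⊢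
    have hinj := T_inj_of_torsionFree p t ht n
      (R ⧸ ((p ^ n).map (algebraMap R (Localization.AtPrime p))).comap
        (algebraMap R (Localization.AtPrime p))) ?_ ?_
    · apply hinj
      rw [T_tmul, h1, map_zero]
    · intro s hs m hm
      obtain ⟨r, rfl⟩ := Ideal.Quotient.mk_surjective m
      rw [Algebra.smul_def, Ideal.Quotient.algebraMap_eq, ← map_mul,
        Ideal.Quotient.eq_zero_iff_mem, hPmem] at hm
      obtain ⟨s', hs', h'⟩ := hm
      rw [Ideal.Quotient.eq_zero_iff_mem, hPmem]
      exact ⟨s' * s, p.primeCompl.mul_mem hs' hs, by rwa [mul_assoc]⟩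
    · intro a ha m
      obtain ⟨r, rfl⟩ := Ideal.Quotient.mk_surjective m
      rw [Algebra.smul_def, Ideal.Quotient.algebraMap_eq, ← map_mul,
        Ideal.Quotient.eq_zero_iff_mem, hPmem]
      exact ⟨1, p.primeCompl.one_mem, by rw [one_mul]; exact Ideal.mul_mem_right _ _ ha⟩

end Groth.Agent.S2138
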