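import Groth.Statements.S2139
import Mathlib
import Groth.Agent.Lib.Helper22.NormalTotal

set_option autoImplicit false
universe u
open CAlg

namespace Groth.Agent.S2139

section helpers
variable {R : Type u} [CommRing R] [IsReduced R]

lemma mem_nzd_of_notMem_minimalPrimes (x : R) (hx : ∀ p ∈ minimalPrimes R, x ∉ p) :
    x ∈ nonZeroDivisors R := by
  rw [mem_nonZeroDivisors_iff_right]
  intro y hy
  have h1 : y ∈ sInf (minimalPrimes R) := by
    rw [Ideal.mem_sInf]
    intro p hp
    have hp' : p.IsPrime := hp.1.1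
    have h2 : y * x ∈ p := hy ▸ p.zero_mem
    exact (hp'.mem_or_mem h2).resolve_right (hx p hp)
  rw [minimalPrimes, Ideal.sInf_minimalPrimes] at h1
  have h3 : (⊥ : Ideal R).radical = ⊥ := by
    have := nilradical_eq_zero R
    rwa [nilradical] at this
  rw [h3] at h1
  exact h1

lemma eq_zero_of_mem_minimalPrimes (x : R) (hx : ∀ p ∈ minimalPrimes R, x ∈ p) : x = 0 := by
  have h1 : x ∈ sInf (minimalPrimes R) := by
    rw [Ideal.mem_sInf]
    intro p hp
    exact hx p hp
  rw [minimalPrimes, Ideal.sInf_minimalPrimes] at h1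
  have h3 : (⊥ : Ideal R).radical = ⊥ := by
    have := nilradical_eq_zero R
    rwa [nilradical] at this
  rw [h3] at h1
  exact h1

lemma exists_idem (hfin : (minimalPrimes R).Finite)
    (hic : IsIntegrallyClosedIn R (FractionRing R)) (p : Ideal R) (hp : p ∈ minimalPrimes R) :
    ∃ e : R, e * e = e ∧ (1 - e) ∈ p ∧ ∀ q ∈ minimalPrimes R, q ≠ p → e ∈ q := by
  classical
  have hpp : p.IsPrime := hp.1.1
  set S : Finset (Ideal R) := hfin.toFinset.erase p with hS
  have hSmem : ∀ q, q ∈ S ↔ q ∈ minimalPrimes R ∧ q ≠ p := by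
    intro q
    rw [hS, Finset.mem_erase, Set.Finite.mem_toFinset, and_comm]
  -- a
  have ha : ∃ a, (∀ q ∈ S, a ∈ q) ∧ a ∉ p := by
    by_contra hcon
    push Not at hcon
    have h1 : S.inf id ≤ p := by
      intro a ha
      apply hcon a
      intro q hq
      have := (Finset.inf_le hq : S.inf id ≤ id q)
      exact this ha
    obtain ⟨q, hq, hqp⟩ := (Ideal.IsPrime.inf_le' hpp).mp h1
    obtain ⟨hqmin, hqne⟩ := (hSmem q).mp hq
    exact hqne (le_antisymm hqp (hp.2 hqmin.1 hqp))
  -- b
  have hb : ∃ b, b ∈ p ∧ ∀ q ∈ S, b ∉ q := by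
    by_contra hcon
    push Not at hcon
    have h1 : (p : Set R) ⊆ ⋃ q ∈ (↑S : Set (Ideal R)), (id q : Ideal R) := by
      intro b hb
      obtain ⟨q, hq, hbq⟩ := hcon b hb
      simp only [Set.mem_iUnion]
      exact ⟨q, hq, hbq⟩
    obtain ⟨q, hq, hpq⟩ := (Ideal.subset_union_prime (f := id) p p (fun i hi _ _ =>
      ((hSmem i).mp hi).1.1.1)).mp h1
    obtain ⟨hqmin, hqne⟩ := (hSmem q).mp hq
    exact hqne (le_antisymm (hqmin.2 hp.1 hpq) hpq)
  obtain ⟨a, haS, hap⟩ := ha
  obtain ⟨b, hbp, hbS⟩ := hb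
  have hab : a * b = 0 := by
    apply eq_zero_of_mem_minimalPrimes
    intro q hq
    by_cases hqp : q = p
    · rw [hqp]; exact p.mul_mem_left _ hbp
    · exact q.mul_mem_right _ (haS q ((hSmem q).mpr ⟨hq, hqp⟩))
  have hnzd : a + b ∈ nonZeroDivisors R := by
    apply mem_nzd_of_notMem_minimalPrimes
    intro q hq hmem
    by_cases hqp : q = p
    · subst hqp
      exact hap ((Ideal.add_mem_iff_left _ hbp).mp hmem)
    · have hqS := (hSmem q).mpr ⟨hq, hqp⟩
      exact hbS q hqS ((Ideal.add_mem_iff_right _ (haS q hqS)).mp hmem)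
  let K := FractionRing R
  set ε : K := IsLocalization.mk' K a (⟨a + b, hnzd⟩ : nonZeroDivisors R) with hε
  have hε1 : ε * algebraMap R K (a + b) = algebraMap R K a := IsLocalization.mk'_spec K a _
  have hunit : IsUnit (algebraMap R K (a + b)) :=
    IsLocalization.map_units K (⟨a + b, hnzd⟩ : nonZeroDivisors R)
  have hεε : ε * ε = ε := by
    apply hunit.mul_right_cancel
    apply hunit.mul_right_cancel
    have h1 : algebraMap R K a * algebraMap R K a = algebraMap R K a * algebraMap R K (a + b) := by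
      rw [← map_mul, ← map_mul, mul_add, hab, add_zero]
    calc ε * ε * algebraMap R K (a + b) * algebraMap R K (a + b)
        = (ε * algebraMap R K (a + b)) * (ε * algebraMap R K (a + b)) := by ring
      _ = algebraMap R K a * algebraMap R K a := by rw [hε1]
      _ = algebraMap R K a * algebraMap R K (a + b) := h1
      _ = ε * algebraMap R K (a + b) * algebraMap R K (a + b) := by rw [hε1]
  have hnt : Nontrivial R := by
    by_contra h
    rw [not_nontrivial_iff_subsingleton] at h
    exact hpp.ne_top (Subsingleton.elim _ _)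
  have hεint : IsIntegral R ε := by
    refine ⟨Polynomial.X ^ 2 - Polynomial.X, ?_, ?_⟩
    · exact Polynomial.monic_X_pow_sub (by rw [Polynomial.degree_X]; norm_num)
    · simp [pow_two, hεε]
  obtain ⟨e, he⟩ := hic.isIntegral_iff.mp hεint
  have hinj : Function.Injective (algebraMap R K) := IsFractionRing.injective R K
  have he1 : e * (a + b) = a := by
    apply hinj
    rw [map_mul, he, hε1]
  have hee : e * e = e := by
    apply hinj
    rw [map_mul, he, hεε]
  refine ⟨e, hee, ?_, ?_⟩
  · have h1 : (1 - e) * (a + b) = b := by rw [sub_mul, he1]; ring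
    have h2 : (1 - e) * (a + b) ∈ p := by rw [h1]; exact hbp
    refine (hpp.mem_or_mem h2).resolve_right ?_
    intro hmem
    exact hap ((Ideal.add_mem_iff_left _ hbp).mp hmem)
  · intro q hq hqp
    have hqS := (hSmem q).mpr ⟨hq, hqp⟩
    have hqprime : q.IsPrime := hq.1.1
    have h2 : e * (a + b) ∈ q := by rw [he1]; exact haS q hqS
    refine (hqprime.mem_or_mem h2).resolve_right ?_
    intro hmem
    exact hbS q hqS ((Ideal.add_mem_iff_right _ (haS q hqS)).mp hmem)


lemma key_dom (hfin : (minimalPrimes R).Finite)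
    (hic : IsIntegrallyClosedIn R (FractionRing R)) (P : Ideal R) [hP : P.IsPrime]
    (Rp : Type u) [CommRing Rp] [Algebra R Rp] [IsLocalization.AtPrime Rp P]
    :
    IsDomain Rp := by
  classical
  obtain ⟨p, hpmin, hpP⟩ := Ideal.exists_minimalPrimes_le (bot_le : ⊥ ≤ P)
  have hpmin' : p ∈ minimalPrimes R := hpmin
  have hpp : p.IsPrime := hpmin.1.1
  obtain ⟨e, hee, he1, heq⟩ := exists_idem hfin hic p hpmin'
  have heP : e ∉ P := by
    intro h
    have : (1 - e) + e ∈ P := P.add_mem (hpP he1) h
    rw [sub_add_cancel] at this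
    exact hP.ne_top ((Ideal.eq_top_iff_one _).mpr this)
  have hep : e ∉ p := fun h => heP (hpP h)
  have hmul0 : ∀ x ∈ p, x * e = 0 := by
    intro x hx
    apply eq_zero_of_mem_minimalPrimes
    intro q hq
    by_cases hqp : q = p
    · rw [hqp]; exact p.mul_mem_right _ hx
    · exact q.mul_mem_left _ (heq q hq hqp)
  have hmem_of_mul0 : ∀ x, x * e = 0 → x ∈ p := by
    intro x hx
    have : x * e ∈ p := hx ▸ p.zero_mem
    exact (hpp.mem_or_mem this).resolve_right hep
  have hmap0 : ∀ x : R, algebraMap R Rp x = 0 ↔ x ∈ p := by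
    intro x
    rw [IsLocalization.map_eq_zero_iff P.primeCompl]
    constructor
    · rintro ⟨u, hu⟩
      have : (u : R) * x ∈ p := hu ▸ p.zero_mem
      exact (hpp.mem_or_mem this).resolve_left (fun h => u.2 (hpP h))
    · intro hx
      exact ⟨⟨e, heP⟩, by rw [mul_comm]; exact hmul0 x hx⟩
  have hmk0 : ∀ (x : R) (s : P.primeCompl), IsLocalization.mk' Rp x s = 0 ↔ x ∈ p := by
    intro x s
    rw [IsLocalization.mk'_eq_zero_iff, ← IsLocalization.map_eq_zero_iff P.primeCompl Rp, hmap0]
  have hnt : Nontrivial Rp := (IsLocalization.AtPrime.isLocalRing Rp P).toNontrivial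
  have hnzd : NoZeroDivisors Rp := by
    constructor
    intro a b hab
    obtain ⟨x, s, rfl⟩ := IsLocalization.exists_mk'_eq P.primeCompl a
    obtain ⟨y, t, rfl⟩ := IsLocalization.exists_mk'_eq P.primeCompl b
    rw [← IsLocalization.mk'_mul, hmk0] at hab
    rcases hpp.mem_or_mem hab with h | h
    · left; exact (hmk0 x s).mpr h
    · right; exact (hmk0 y t).mpr h
  exact NoZeroDivisors.to_isDomain Rp

lemma key (hfin : (minimalPrimes R).Finite)
    (hic : IsIntegrallyClosedIn R (FractionRing R)) (P : Ideal R) [hP : P.IsPrime]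
    (Rp : Type u) [CommRing Rp] [Algebra R Rp] [IsLocalization.AtPrime Rp P]
    (F : Type u) [Field F] [Algebra Rp F] [IsFractionRing Rp F] [Algebra R F]
    [IsScalarTower R Rp F] :
    IsDomain Rp ∧ ∀ z : F, IsIntegral Rp z → ∃ y, algebraMap Rp F y = z := by
  classical
  obtain ⟨p, hpmin, hpP⟩ := Ideal.exists_minimalPrimes_le (bot_le : ⊥ ≤ P)
  have hpmin' : p ∈ minimalPrimes R := hpmin
  have hpp : p.IsPrime := hpmin.1.1
  obtain ⟨e, hee, he1, heq⟩ := exists_idem hfin hic p hpmin'
  have heP : e ∉ P := by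
    intro h
    have : (1 - e) + e ∈ P := P.add_mem (hpP he1) h
    rw [sub_add_cancel] at this
    exact hP.ne_top ((Ideal.eq_top_iff_one _).mpr this)
  have hep : e ∉ p := fun h => heP (hpP h)
  have hmul0 : ∀ x ∈ p, x * e = 0 := by
    intro x hx
    apply eq_zero_of_mem_minimalPrimes
    intro q hq
    by_cases hqp : q = p
    · rw [hqp]; exact p.mul_mem_right _ hx
    · exact q.mul_mem_left _ (heq q hq hqp)
  have hmem_of_mul0 : ∀ x, x * e = 0 → x ∈ p := by
    intro x hx
    have : x * e ∈ p := hx ▸ p.zero_mem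
    exact (hpp.mem_or_mem this).resolve_right hep
  have hmap0 : ∀ x : R, algebraMap R Rp x = 0 ↔ x ∈ p := by
    intro x
    rw [IsLocalization.map_eq_zero_iff P.primeCompl]
    constructor
    · rintro ⟨u, hu⟩
      have : (u : R) * x ∈ p := hu ▸ p.zero_mem
      exact (hpp.mem_or_mem this).resolve_left (fun h => u.2 (hpP h))
    · intro hx
      exact ⟨⟨e, heP⟩, by rw [mul_comm]; exact hmul0 x hx⟩
  have hmk0 : ∀ (x : R) (s : P.primeCompl), IsLocalization.mk' Rp x s = 0 ↔ x ∈ p := by
    intro x s
    rw [IsLocalization.mk'_eq_zero_iff, ← IsLocalization.map_eq_zero_iff P.primeCompl Rp, hmap0]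
  have hnt : Nontrivial Rp := (IsLocalization.AtPrime.isLocalRing Rp P).toNontrivial
  have hnzd : NoZeroDivisors Rp := by
    constructor
    intro a b hab
    obtain ⟨x, s, rfl⟩ := IsLocalization.exists_mk'_eq P.primeCompl a
    obtain ⟨y, t, rfl⟩ := IsLocalization.exists_mk'_eq P.primeCompl b
    rw [← IsLocalization.mk'_mul, hmk0] at hab
    rcases hpp.mem_or_mem hab with h | h
    · left; exact (hmk0 x s).mpr h
    · right; exact (hmk0 y t).mpr h
  have hdom : IsDomain Rp := NoZeroDivisors.to_isDomain Rp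
  refine ⟨hdom, ?_⟩
  intro z hz
  let K := FractionRing R
  let ι : R →+* F := algebraMap R F
  have hι : ∀ x, ι x = algebraMap Rp F (algebraMap R Rp x) := fun x =>
    IsScalarTower.algebraMap_apply R Rp F x
  have hι0 : ∀ x : R, ι x = 0 ↔ x ∈ p := by
    intro x
    rw [hι, ← hmap0]
    constructor
    · intro h
      apply IsFractionRing.injective Rp F
      rw [h, map_zero]
    · intro h; rw [h, map_zero]
  -- z as a fraction
  obtain ⟨a, b, hab⟩ := IsLocalization.exists_mk'_eq (nonZeroDivisors Rp) z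
  obtain ⟨c, s, hcs⟩ := IsLocalization.exists_mk'_eq P.primeCompl a
  obtain ⟨d, t, hdt⟩ := IsLocalization.exists_mk'_eq P.primeCompl (b : Rp)
  have hdp : d ∉ p := by
    intro h
    have : (b : Rp) = 0 := by rw [← hdt]; exact (hmk0 d t).mpr h
    exact nonZeroDivisors.coe_ne_zero b this
  -- z * ι (d * s) = ι (c * t)
  have hz1 : z * ι (d * s) = ι (c * t) := by
    have h1 : z * algebraMap Rp F b = algebraMap Rp F a := by
      rw [← hab]; exact IsLocalization.mk'_spec F a b
    have h2 : a * algebraMap R Rp s = algebraMap R Rp c := by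
      rw [← hcs]; exact IsLocalization.mk'_spec Rp c s
    have h3 : (b : Rp) * algebraMap R Rp t = algebraMap R Rp d := by
      rw [← hdt]; exact IsLocalization.mk'_spec Rp d t
    rw [hι, hι, map_mul (algebraMap R Rp), map_mul (algebraMap R Rp), ← h3, ← h2]
    simp only [map_mul]
    rw [← h1]
    ring
  have hsp : (s : R) ∉ p := fun h => s.2 (hpP h)
  have hdsp : d * s ∉ p := fun h => (hpp.mem_or_mem h).elim hdp hsp
  set d₁ := d * s with hd₁
  set c₁ := c * t with hc₁
  have hd'nzd : d₁ * e + (1 - e) ∈ nonZeroDivisors R := by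
    apply mem_nzd_of_notMem_minimalPrimes
    intro q hq hmem
    by_cases hqp : q = p
    · subst hqp
      have : d₁ * e ∈ q := (Ideal.add_mem_iff_left _ he1).mp hmem
      exact (hpp.mem_or_mem this).elim hdsp hep
    · have h1 : d₁ * e ∈ q := q.mul_mem_left _ (heq q hq hqp)
      have h2 : 1 - e ∈ q := (Ideal.add_mem_iff_right _ h1).mp hmem
      have h3 : (1 - e) + e ∈ q := q.add_mem h2 (heq q hq hqp)
      rw [sub_add_cancel] at h3
      exact hq.1.1.ne_top ((Ideal.eq_top_iff_one _).mpr h3)
  -- θ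
  have hunits : ∀ s : nonZeroDivisors R, IsUnit (ι s) := by
    intro s
    apply IsUnit.mk0
    intro h0
    have h1 : (s : R) ∈ p := (hι0 _).mp h0
    have h2 : (s : R) * e = 0 := hmul0 _ h1
    have h3 : e = 0 := by
      have := (mem_nonZeroDivisors_iff.mp s.2).1 e h2
      exact this
    exact hep (h3 ▸ p.zero_mem)
  let θ : K →+* F := IsLocalization.lift hunits
  have hθ : ∀ x, θ (algebraMap R K x) = ι x := IsLocalization.lift_eq hunits
  have hθ0 : ∀ y : K, θ y = 0 → algebraMap R K e * y = 0 := by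
    intro y hy
    obtain ⟨r, s', rfl⟩ := IsLocalization.exists_mk'_eq (nonZeroDivisors R) y
    have h1 : θ (IsLocalization.mk' K r s') * ι s' = ι r := by
      rw [← hθ, ← map_mul, IsLocalization.mk'_spec, hθ]
    rw [hy, zero_mul] at h1
    have h2 : r ∈ p := (hι0 r).mp h1.symm
    have h3 : r * e = 0 := hmul0 r h2
    have hu : IsUnit (algebraMap R K s') := IsLocalization.map_units K s'
    apply hu.mul_right_cancel
    rw [zero_mul, mul_assoc, IsLocalization.mk'_spec, ← map_mul, mul_comm, h3, map_zero]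
  have hιe : ι e = 1 := by
    have h1 : ι (1 - e) = 0 := (hι0 _).mpr he1
    rw [map_sub, map_one, sub_eq_zero] at h1
    exact h1.symm
  set z' : K := IsLocalization.mk' K (c₁ * e) (⟨d₁ * e + (1 - e), hd'nzd⟩ : nonZeroDivisors R)
    with hz'
  have hθz' : θ z' = z := by
    have h1 : θ z' * ι (d₁ * e + (1 - e)) = ι (c₁ * e) := by
      rw [← hθ, ← map_mul, hz']
      have := IsLocalization.mk'_spec K (c₁ * e) (⟨d₁ * e + (1 - e), hd'nzd⟩ : nonZeroDivisors R)
      rw [this, hθ]
    have h2 : ι (d₁ * e + (1 - e)) = ι d₁ := by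
      rw [map_add, map_mul, hιe, mul_one, (hι0 (1 - e)).mpr he1, add_zero]
    have h3 : ι (c₁ * e) = ι c₁ := by rw [map_mul, hιe, mul_one]
    rw [h2, h3, ← hz1] at h1
    have h4 : ι d₁ ≠ 0 := fun h => hdsp ((hι0 _).mp h)
    exact mul_right_cancel₀ h4 h1
  -- integrality
  obtain ⟨u, hu⟩ := IsIntegral.exists_multiple_integral_of_isLocalization P.primeCompl (Rₘ := Rp) z hz
  obtain ⟨G, hGm, hG⟩ := hu
  set w : K := algebraMap R K e * algebraMap R K u * z' with hw
  have hθw : θ w = u • z := by
    rw [hw, map_mul, map_mul, hθ, hθ, hιe, one_mul, hθz', Submonoid.smul_def, Algebra.smul_def]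
  have hθG : θ (Polynomial.eval₂ (algebraMap R K) w G) = 0 := by
    rw [Polynomial.hom_eval₂, hθw]
    have : θ.comp (algebraMap R K) = algebraMap R F := by
      ext x; exact hθ x
    rw [this]; exact hG
  have hwint : IsIntegral R w := by
    refine ⟨Polynomial.X * G, ?_, ?_⟩
    · exact Polynomial.monic_X.mul hGm
    · rw [Polynomial.eval₂_mul, Polynomial.eval₂_X]
      have h1 := hθ0 _ hθG
      rw [hw]
      calc algebraMap R K e * algebraMap R K u * z' * Polynomial.eval₂ (algebraMap R K) w G
          = algebraMap R K u * z' * (algebraMap R K e * Polynomial.eval₂ (algebraMap R K) w G) := by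
            ring
        _ = 0 := by rw [hw] at h1; rw [h1, mul_zero]
  obtain ⟨w₀, hw₀⟩ := hic.isIntegral_iff.mp hwint
  refine ⟨IsLocalization.mk' Rp w₀ u, ?_⟩
  have h1 : ι w₀ = ι u * z := by
    rw [← hθ, hw₀, hθw, Submonoid.smul_def, Algebra.smul_def]
  have h2 : ι (u : R) ≠ 0 := fun h => u.2 (hpP ((hι0 _).mp h))
  apply mul_left_cancel₀ h2
  rw [← h1, hι, hι, ← map_mul, mul_comm, IsLocalization.mk'_spec]


end helpers

/-- Let `R` be a reduced ring with finitely many minimal primes. Then every localization of `R` at a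
prime is an integrally closed domain if and only if `R` is integrally closed in its total ring of
fractions. -/
theorem result {R : Type u} [CommRing R] [IsReduced R] (hfin : (minimalPrimes R).Finite) :
    (∀ (p : Ideal R) [p.IsPrime], IsDomain (Localization.AtPrime p) ∧ IsIntegrallyClosed (Localization.AtPrime p)) ↔
      IsIntegrallyClosedIn R (FractionRing R) := by
  constructor
  · intro h
    rw [isIntegrallyClosedIn_iff]
    refine ⟨IsFractionRing.injective R (FractionRing R), ?_⟩
    intro x hx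
    have := Groth.Agent.Lib.helper22.NormalTotal.mem_range_of_isIntegral
      (A := R) (K := FractionRing R) (fun p hp => @h p hp.isPrime) x hx
    exact this
  · intro hic P hP
    have h1 : IsDomain (Localization.AtPrime P) := key_dom hfin hic P (Localization.AtPrime P)
    obtain ⟨-, h2⟩ := key hfin hic P (Localization.AtPrime P) (FractionRing (Localization.AtPrime P))
    refine ⟨h1, ?_⟩
    rw [isIntegrallyClosed_iff (FractionRing (Localization.AtPrime P))]
    intro x hx
    exact h2 x hx

end Groth.Agent.S2139
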