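import Groth.Statements.S2140
import Mathlib

set_option autoImplicit false
universe u
open CAlg

namespace Groth.Agent.S2140

open Polynomial in
/-- pseudo-division by an element of minimal degree in an ideal of `R[X]` -/
theorem pseudo_div {R : Type u} [CommRing R] [IsDomain R] (q : Ideal R[X]) (p₀ : R[X])
    (hp₀q : p₀ ∈ q) (hp₀0 : p₀ ≠ 0)
    (hmin : ∀ p ∈ q, p ≠ 0 → p₀.natDegree ≤ p.natDegree) :
    ∀ (n : ℕ) (p : R[X]), p ∈ q → p.natDegree = n →
      ∃ k : ℕ, C (p₀.leadingCoeff ^ k) * p ∈ Ideal.span {p₀} := by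
  intro n
  induction n using Nat.strong_induction_on with
  | _ n ih =>
    intro p hp hn
    by_cases hp0 : p = 0
    · exact ⟨0, by rw [hp0, mul_zero]; exact Ideal.zero_mem _⟩
    have hd := hmin p hp hp0
    have hf : p₀.leadingCoeff ≠ 0 := leadingCoeff_ne_zero.mpr hp₀0
    have hlp : p.leadingCoeff ≠ 0 := leadingCoeff_ne_zero.mpr hp0
    set m := p.natDegree - p₀.natDegree with hm
    set A : R[X] := C p₀.leadingCoeff * p with hA
    set B : R[X] := C p.leadingCoeff * X ^ m * p₀ with hB
    have hA0 : A ≠ 0 := mul_ne_zero (C_ne_zero.mpr hf) hp0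
    have hB0 : B ≠ 0 := mul_ne_zero (mul_ne_zero (C_ne_zero.mpr hlp) (pow_ne_zero _ X_ne_zero)) hp₀0
    have hdegA : A.natDegree = p.natDegree := by
      rw [hA, natDegree_mul (C_ne_zero.mpr hf) hp0, natDegree_C, zero_add]
    have hdegB : B.natDegree = p.natDegree := by
      rw [hB, natDegree_mul (mul_ne_zero (C_ne_zero.mpr hlp) (pow_ne_zero _ X_ne_zero)) hp₀0,
        natDegree_mul (C_ne_zero.mpr hlp) (pow_ne_zero _ X_ne_zero), natDegree_C, zero_add,
        natDegree_X_pow, hm]
      omega
    have hdeg : A.degree = B.degree := by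
      rw [degree_eq_natDegree hA0, degree_eq_natDegree hB0, hdegA, hdegB]
    have hlc : A.leadingCoeff = B.leadingCoeff := by
      rw [hA, hB, leadingCoeff_mul, leadingCoeff_mul, leadingCoeff_mul, leadingCoeff_C,
        leadingCoeff_C, leadingCoeff_X_pow]
      ring
    have hBq : B ∈ Ideal.span {p₀} := Ideal.mul_mem_left _ _ (Ideal.subset_span rfl)
    have hspanq : Ideal.span {p₀} ≤ q := by
      rw [Ideal.span_le, Set.singleton_subset_iff]; exact hp₀q
    by_cases h1 : A - B = 0
    · refine ⟨1, ?_⟩
      rw [pow_one]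
      have : A = B := sub_eq_zero.mp h1
      rw [← hA, this]
      exact hBq
    · have hlt : (A - B).natDegree < n := by
        have := degree_sub_lt_left hdeg hA0 hlc
        rw [← hn, ← hdegA]
        exact (natDegree_lt_natDegree_iff h1).mpr this
      have hABq : A - B ∈ q := Ideal.sub_mem _ (Ideal.mul_mem_left _ _ hp) (hspanq hBq)
      obtain ⟨k, hk⟩ := ih _ hlt (A - B) hABq rfl
      refine ⟨k + 1, ?_⟩
      have : C (p₀.leadingCoeff ^ (k + 1)) * p =
          C (p₀.leadingCoeff ^ k) * (A - B) + C (p₀.leadingCoeff ^ k) * B := by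
        rw [hA, pow_succ, C_mul]; ring
      rw [this]
      exact Ideal.add_mem _ hk (Ideal.mul_mem_left _ _ hBq)

/-- transfer finite presentation between models of the localization -/
theorem transfer {R S : Type u} [CommRing R] [CommRing S] [Algebra R S] (h : S)
    (B : Type u) [CommRing B] [Algebra S B] [Algebra R B] [IsScalarTower R S B]
    [IsLocalization.Away h B] (hfp : Algebra.FinitePresentation R B)
    (B' : Type u) [CommRing B'] [Algebra S B'] [Algebra R B'] [IsScalarTower R S B']
    [IsLocalization.Away h B'] : Algebra.FinitePresentation R B' :=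
  hfp.equiv ((IsLocalization.algEquiv (Submonoid.powers h) B B').restrictScalars R)

open Polynomial in
/-- the case of one generator -/
theorem base {R S : Type u} [CommRing R] [IsDomain R] [CommRing S] [IsDomain S] [Algebra R S]
    (hinj : Function.Injective (algebraMap R S)) (s : S) (hs : Algebra.adjoin R {s} = ⊤) :
    ∃ h : S, h ≠ 0 ∧ Algebra.FinitePresentation R (Localization.Away h) := by
  classical
  let π : R[X] →ₐ[R] S := aeval s
  have hπ : Function.Surjective π := by
    rw [← AlgHom.range_eq_top, ← Algebra.adjoin_singleton_eq_range_aeval, hs]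
  by_cases hq : RingHom.ker π.toRingHom = ⊥
  · have hπi : Function.Injective π := (RingHom.injective_iff_ker_eq_bot π.toRingHom).mpr hq
    have hfp : Algebra.FinitePresentation R S :=
      Algebra.FinitePresentation.equiv (AlgEquiv.ofBijective π ⟨hπi, hπ⟩)
    exact ⟨1, one_ne_zero, inferInstance⟩
  · -- a nonzero element of minimal degree
    have hex : ∃ n : ℕ, ∃ p ∈ RingHom.ker π.toRingHom, p ≠ 0 ∧ p.natDegree = n := by
      obtain ⟨p, hp, hp0⟩ := Submodule.exists_mem_ne_zero_of_ne_bot hq
      exact ⟨_, p, hp, hp0, rfl⟩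
    obtain ⟨p₀, hp₀q, hp₀0, hd⟩ := Nat.find_spec hex
    have hmin : ∀ p ∈ RingHom.ker π.toRingHom, p ≠ 0 → p₀.natDegree ≤ p.natDegree := by
      intro p hp hp0
      rw [hd]
      exact Nat.find_min' hex ⟨p, hp, hp0, rfl⟩
    have hf : p₀.leadingCoeff ≠ 0 := leadingCoeff_ne_zero.mpr hp₀0
    have hfS : algebraMap R S p₀.leadingCoeff ≠ 0 := fun h0 => hf (hinj (by rw [h0, map_zero]))
    have hpd := pseudo_div (RingHom.ker π.toRingHom) p₀ hp₀q hp₀0 hmin
    have hspanq : Ideal.span {p₀} ≤ RingHom.ker π.toRingHom := by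
      rw [Ideal.span_le, Set.singleton_subset_iff]; exact hp₀q
    have hfp₀ : Algebra.FinitePresentation R (R[X] ⧸ Ideal.span {p₀}) :=
      Algebra.FinitePresentation.quotient (Submodule.fg_span_singleton p₀)
    let π₀ : (R[X] ⧸ Ideal.span {p₀}) →ₐ[R] S :=
      Ideal.Quotient.liftₐ (Ideal.span {p₀}) π (fun a ha => hspanq ha)
    have hπ₀ : ∀ P : R[X], π₀ (Ideal.Quotient.mk _ P) = π P := fun P => rfl
    let _ : Algebra (R[X] ⧸ Ideal.span {p₀}) (Localization.Away (algebraMap R S p₀.leadingCoeff)) :=
      ((algebraMap S (Localization.Away (algebraMap R S p₀.leadingCoeff))).comp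
        π₀.toRingHom).toAlgebra
    have halg : ∀ a : R[X] ⧸ Ideal.span {p₀},
        algebraMap (R[X] ⧸ Ideal.span {p₀}) (Localization.Away (algebraMap R S p₀.leadingCoeff)) a =
          algebraMap S (Localization.Away (algebraMap R S p₀.leadingCoeff)) (π₀ a) := fun a => rfl
    have htower : IsScalarTower R (R[X] ⧸ Ideal.span {p₀})
        (Localization.Away (algebraMap R S p₀.leadingCoeff)) := by
      refine IsScalarTower.of_algebraMap_eq (R := R) (S := R[X] ⧸ Ideal.span {p₀}) ?_
      intro r
      rw [halg, AlgHom.commutes, ← IsScalarTower.algebraMap_apply]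
    have hloc : IsLocalization.Away (algebraMap R (R[X] ⧸ Ideal.span {p₀}) p₀.leadingCoeff)
        (Localization.Away (algebraMap R S p₀.leadingCoeff)) := by
      refine IsLocalization.Away.mk _ ?_ ?_ ?_
      · rw [halg, AlgHom.commutes]
        exact IsLocalization.Away.algebraMap_isUnit _
      · intro z
        obtain ⟨n, a, hna⟩ := IsLocalization.Away.surj (algebraMap R S p₀.leadingCoeff) z
        obtain ⟨P, rfl⟩ := hπ a
        refine ⟨n, Ideal.Quotient.mk _ P, ?_⟩
        rw [halg, halg, AlgHom.commutes, hπ₀]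
        exact hna
      · intro a b hab
        rw [halg, halg] at hab
        obtain ⟨n, hn⟩ := IsLocalization.Away.exists_of_eq (algebraMap R S p₀.leadingCoeff) hab
        have h1 : π₀ a = π₀ b := mul_left_cancel₀ (pow_ne_zero n hfS) hn
        obtain ⟨P, hP⟩ := Ideal.Quotient.mk_surjective (a - b)
        have hPq : P ∈ RingHom.ker π.toRingHom := by
          show π P = 0
          rw [← hπ₀, hP, map_sub, h1, sub_self]
        obtain ⟨k, hk⟩ := hpd _ P hPq rfl
        refine ⟨k, ?_⟩
        rw [← sub_eq_zero, ← mul_sub, ← hP, ← map_pow]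
        have : algebraMap R (R[X] ⧸ Ideal.span {p₀}) (p₀.leadingCoeff ^ k) =
            Ideal.Quotient.mk _ (C (p₀.leadingCoeff ^ k)) := rfl
        rw [this, ← map_mul, Ideal.Quotient.eq_zero_iff_mem]
        exact hk
    refine ⟨algebraMap R S p₀.leadingCoeff, hfS, ?_⟩
    exact Algebra.FinitePresentation.of_isLocalizationAway (R := R) (S := R[X] ⧸ Ideal.span {p₀})
      (algebraMap R (R[X] ⧸ Ideal.span {p₀}) p₀.leadingCoeff)

/-- composition step, abstract form -/
theorem comp_aux {R R' S B₁ B₂ : Type u} [CommRing R] [CommRing R'] [CommRing S] [CommRing B₁]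
    [CommRing B₂] [Algebra R R'] [Algebra R' S]
    [Algebra S B₁] [Algebra R' B₁] [IsScalarTower R' S B₁]
    [Algebra B₁ B₂] [Algebra S B₂] [IsScalarTower S B₁ B₂] [Algebra R' B₂] [IsScalarTower R' S B₂]
    [Algebra R B₂] [IsScalarTower R R' B₂] [IsScalarTower R' B₁ B₂]
    (h₁ : R') (hfp₁ : Algebra.FinitePresentation R (Localization.Away h₁))
    [Algebra.FinitePresentation R' B₁]
    [IsLocalization.Away (algebraMap S B₁ (algebraMap R' S h₁)) B₂] :
    Algebra.FinitePresentation R B₂ := by
  have hfp2 : Algebra.FinitePresentation R' B₂ :=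
    Algebra.FinitePresentation.of_isLocalizationAway (R := R') (S := B₁)
      (algebraMap S B₁ (algebraMap R' S h₁))
  have hu : IsUnit (algebraMap R' B₂ h₁) := by
    rw [IsScalarTower.algebraMap_apply R' S B₂, IsScalarTower.algebraMap_apply S B₁ B₂]
    exact IsLocalization.Away.algebraMap_isUnit _
  let _ : Algebra (Localization.Away h₁) B₂ :=
    (IsLocalization.Away.lift (S := Localization.Away h₁) h₁ hu).toAlgebra
  have halg : ∀ a : R', algebraMap (Localization.Away h₁) B₂
        (algebraMap R' (Localization.Away h₁) a) = algebraMap R' B₂ a := fun a =>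
    IsLocalization.Away.lift_eq (S := Localization.Away h₁) h₁ hu a
  have ht5 : IsScalarTower R' (Localization.Away h₁) B₂ := by
    refine IsScalarTower.of_algebraMap_eq (R := R') (S := Localization.Away h₁) ?_
    intro a
    rw [halg]
  have hft : Algebra.FiniteType R' (Localization.Away h₁) :=
    @Algebra.FiniteType.of_finitePresentation _ _ _ _ _ (IsLocalization.Away.finitePresentation h₁)
  have hfp3 : Algebra.FinitePresentation (Localization.Away h₁) B₂ :=
    Algebra.FinitePresentation.of_restrict_scalars_finitePresentation R' _ _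
  have ht6 : IsScalarTower R (Localization.Away h₁) B₂ := by
    refine IsScalarTower.of_algebraMap_eq (R := R) (S := Localization.Away h₁) ?_
    intro r
    rw [IsScalarTower.algebraMap_apply R R' (Localization.Away h₁), halg,
      ← IsScalarTower.algebraMap_apply R R']
  exact Algebra.FinitePresentation.trans R (Localization.Away h₁) _

/-- composition step -/
theorem comp_step {R R' S : Type u} [CommRing R] [CommRing R'] [CommRing S] [IsDomain S]
    [Algebra R R'] [Algebra R' S] [Algebra R S] [IsScalarTower R R' S]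
    (hinj : Function.Injective (algebraMap R' S))
    (h₁ : R') (hh₁ : h₁ ≠ 0) (hfp₁ : Algebra.FinitePresentation R (Localization.Away h₁))
    (h' : S) (hh' : h' ≠ 0) (hfp' : Algebra.FinitePresentation R' (Localization.Away h')) :
    ∃ h : S, h ≠ 0 ∧ Algebra.FinitePresentation R (Localization.Away h) := by
  have hy : algebraMap R' S h₁ ≠ 0 := fun h0 => hh₁ (hinj (by rw [h0, map_zero]))
  have hloc : IsLocalization.Away (h' * algebraMap R' S h₁)
      (Localization.Away (algebraMap S (Localization.Away h') (algebraMap R' S h₁))) := inferInstance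
  have hfp4 : Algebra.FinitePresentation R
      (Localization.Away (algebraMap S (Localization.Away h') (algebraMap R' S h₁))) :=
    comp_aux (R := R) (R' := R') (S := S) (B₁ := Localization.Away h') h₁ hfp₁
  exact ⟨h' * algebraMap R' S h₁, mul_ne_zero hh' hy,
    transfer (h' * algebraMap R' S h₁) _ hfp4 _⟩

theorem main (n : ℕ) : ∀ (R S : Type u) [CommRing R] [IsDomain R] [CommRing S] [IsDomain S]
    [Algebra R S], Function.Injective (algebraMap R S) →
    (∃ s : Fin n → S, Algebra.adjoin R (Set.range s) = ⊤) →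
    ∃ h : S, h ≠ 0 ∧ Algebra.FinitePresentation R (Localization.Away h) := by
  induction n with
  | zero =>
    intro R S _ _ _ _ _ hinj ⟨s, hs⟩
    have hsurj : Function.Surjective (algebraMap R S) := by
      rw [Algebra.surjective_algebraMap_iff, ← hs]
      have : Set.range s = ∅ := Set.range_eq_empty s
      rw [this, Algebra.adjoin_empty]
    have hfp : Algebra.FinitePresentation R S :=
      Algebra.FinitePresentation.equiv (AlgEquiv.ofBijective (Algebra.ofId R S) ⟨hinj, hsurj⟩)
    exact ⟨1, one_ne_zero, inferInstance⟩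
  | succ n ih =>
    intro R S _ _ _ _ _ hinj ⟨s, hs⟩
    have hdom : IsDomain (Algebra.adjoin R (Set.range (Fin.tail s))) := inferInstance
    have hinj1 : Function.Injective (algebraMap R (Algebra.adjoin R (Set.range (Fin.tail s)))) := by
      intro a b hab
      apply hinj
      exact congrArg Subtype.val hab
    have hinj2 : Function.Injective (algebraMap (Algebra.adjoin R (Set.range (Fin.tail s))) S) :=
      Subtype.val_injective
    have ht : Algebra.adjoin R (Set.range (fun i : Fin n =>
        (⟨Fin.tail s i, Algebra.subset_adjoin ⟨i, rfl⟩⟩ :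
          Algebra.adjoin R (Set.range (Fin.tail s))))) = ⊤ := by
      apply Subalgebra.map_injective (f := (Algebra.adjoin R (Set.range (Fin.tail s))).val)
        Subtype.val_injective
      rw [AlgHom.map_adjoin, Algebra.map_top, Subalgebra.range_val, ← Set.range_comp]
      rfl
    have hs' : Algebra.adjoin (Algebra.adjoin R (Set.range (Fin.tail s))) {s 0} = ⊤ := by
      rw [eq_top_iff]
      intro x _
      have h1 := Algebra.adjoin_union_eq_adjoin_adjoin R (Set.range (Fin.tail s)) {s 0}
      have h2 : Set.range s = Set.range (Fin.tail s) ∪ {s 0} := by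
        conv_lhs => rw [← Fin.cons_self_tail s, Fin.range_cons]
        rw [Set.union_comm]
        rfl
      rw [← h2, hs] at h1
      have h3 : x ∈ (⊤ : Subalgebra R S) := trivial
      rw [h1] at h3
      exact h3
    obtain ⟨h₁, hh₁, hfp₁⟩ := ih R (Algebra.adjoin R (Set.range (Fin.tail s))) hinj1 ⟨_, ht⟩
    obtain ⟨h', hh', hfp'⟩ := base hinj2 (s 0) hs'
    exact comp_step hinj2 h₁ hh₁ hfp₁ h' hh' hfp'


/-- Let `R → S` be an injective ring map of finite type between domains. Then there are nonzero `f ∈ R`
and `g ∈ S` such that `S_{fg}` is a finitely presented `R_f`-algebra. -/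
theorem result {R S : Type u} [CommRing R] [IsDomain R] [CommRing S] [IsDomain S]
    [Algebra R S] [Algebra.FiniteType R S] (hinj : Function.Injective (algebraMap R S)) :
    ∃ (f : R) (g : S), f ≠ 0 ∧ g ≠ 0 ∧
      ∀ (Rf Sfg : Type u) [CommRing Rf] [CommRing Sfg] [Algebra R Rf] [IsLocalization.Away f Rf]
        [Algebra S Sfg] [IsLocalization.Away (algebraMap R S f * g) Sfg] [Algebra Rf Sfg] [Algebra R Sfg]
        [IsScalarTower R S Sfg] [IsScalarTower R Rf Sfg], Algebra.FinitePresentation Rf Sfg := by
  classical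
  obtain ⟨t, ht⟩ := (Algebra.FiniteType.out : (⊤ : Subalgebra R S).FG)
  have hgen : Algebra.adjoin R (Set.range (fun i : Fin t.card => ((t.equivFin.symm i : t) : S))) = ⊤ := by
    have : Set.range (fun i : Fin t.card => ((t.equivFin.symm i : t) : S)) = (t : Set S) := by
      have h1 : (fun i : Fin t.card => ((t.equivFin.symm i : t) : S)) =
          (Subtype.val : t → S) ∘ t.equivFin.symm := rfl
      rw [h1, t.equivFin.symm.surjective.range_comp]
      exact Subtype.range_coe
    rw [this, ht]
  obtain ⟨h, hh, hfp⟩ := main t.card R S hinj ⟨_, hgen⟩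
  refine ⟨1, h, one_ne_zero, hh, ?_⟩
  intro Rf Sfg _ _ _ _ _ _ _ _ _ _
  have e1 : algebraMap R S 1 * h = h := by rw [map_one, one_mul]
  have hloc : IsLocalization.Away h Sfg := by
    have h0 : IsLocalization.Away (algebraMap R S 1 * h) Sfg := inferInstance
    rw [e1] at h0
    exact h0
  have hfpS : Algebra.FinitePresentation R Sfg := transfer h (Localization.Away h) hfp Sfg
  have hftR : Algebra.FiniteType R Rf :=
    @Algebra.FiniteType.of_finitePresentation _ _ _ _ _
      (IsLocalization.Away.finitePresentation (1 : R))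
  exact Algebra.FinitePresentation.of_restrict_scalars_finitePresentation R Rf Sfg


end Groth.Agent.S2140
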