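import Groth.Statements.S2141
import Mathlib
import Groth.Agent.Lib.Helper3.FTFieldLocalDim

set_option autoImplicit false
universe u
open CAlg

namespace Groth.Agent.S2141
open AlgebraicGeometry CategoryTheory

/-- Let `S` be of finite type over a field `k` and `𝔭` a prime of `S` whose residue field has
transcendence degree `r` over `k`. Then the local dimension of `Spec S` at `𝔭` equals `dim S_𝔭 + r`. -/
theorem result {k S : Type u} [Field k] [CommRing S] [Algebra k S] [Algebra.FiniteType k S]
    (p : Ideal S) [p.IsPrime] (r : ℕ) (hr : Algebra.trdeg k p.ResidueField = r) :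
    FlatMor.localDim (PrimeSpectrum S) ⟨p, inferInstance⟩ = ringKrullDim (Localization.AtPrime p) + (r : WithBot ℕ∞) := by
  haveI : IsNoetherianRing S := Algebra.FiniteType.isNoetherianRing k S
  letI X : Scheme.{u} := Spec (CommRingCat.of S)
  letI inst1 : X.Over (Spec (CommRingCat.of k)) :=
    ⟨Spec.map (CommRingCat.ofHom (algebraMap k S))⟩
  haveI inst2 : LocallyOfFiniteType (X ↘ Spec (CommRingCat.of k)) := by
    change LocallyOfFiniteType (Spec.map (CommRingCat.ofHom (algebraMap k S)))
    rw [HasRingHomProperty.Spec_iff (P := @LocallyOfFiniteType)]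
    exact RingHom.finiteType_algebraMap.mpr ‹Algebra.FiniteType k S›
  let x : X := ⟨p, inferInstance⟩
  -- the dimension of the local ring
  have hdim : ringKrullDim (X.presheaf.stalk x) = ringKrullDim (Localization.AtPrime p) :=
    RingEquiv.ringKrullDim (AlgebraicGeometry.Spec.stalkIso (CommRingCat.of S) x).commRingCatIsoToRingEquiv
  have hht : ringKrullDim (Localization.AtPrime p) = (p.height : WithBot ℕ∞) :=
    IsLocalization.AtPrime.ringKrullDim_eq_height p (Localization.AtPrime p)
  obtain ⟨b, hb⟩ := ENat.ne_top_iff_exists.mp (Ideal.height_ne_top_of_isPrime (I := p))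
  have hb' : ringKrullDim (X.presheaf.stalk x) = (b : WithBot ℕ∞) := by
    rw [hdim, hht, ← hb]; rfl
  -- the transcendence degree of the residue field
  have htr : @Algebra.trdeg k (X.residueField x) _ _ (Curv2.resAlgebra k X x) = r := by
    rw [← hr]
    letI := Curv2.resAlgebra k X x
    let e0 : X.residueField x ≃+* p.ResidueField :=
      (Scheme.Spec.residueFieldIso (CommRingCat.of S) x).commRingCatIsoToRingEquiv
    have hcomm : ∀ c : k, e0 (algebraMap k (X.residueField x) c) = algebraMap k p.ResidueField c := by
      intro c
      have h1 : algebraMap k (X.residueField x) c =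
          (Scheme.Spec.residueFieldIso (CommRingCat.of S) x).inv
            (algebraMap S p.ResidueField (algebraMap k S c)) := by
        have h2 := Scheme.Spec.algebraMap_residueFieldIso_inv (CommRingCat.of S) x
        have h3 := congrArg (fun f => f.hom (algebraMap k S c)) h2
        simp only [CommRingCat.hom_comp, RingHom.comp_apply, CommRingCat.hom_ofHom] at h3
        rw [h3]
        change (X.residue x).hom ((X.presheaf.germ ⊤ x trivial).hom
          ((Spec.map (CommRingCat.ofHom (algebraMap k S))).appTop.hom
            ((Scheme.ΓSpecIso (CommRingCat.of k)).inv.hom c))) = _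
        have h4 := Scheme.ΓSpecIso_inv_naturality (CommRingCat.ofHom (algebraMap k S))
        have h5 := congrArg (fun f => f.hom c) h4
        simp only [CommRingCat.hom_comp, RingHom.comp_apply, CommRingCat.hom_ofHom] at h5
        rw [← h5]
      rw [h1]
      change (Scheme.Spec.residueFieldIso (CommRingCat.of S) x).hom
        ((Scheme.Spec.residueFieldIso (CommRingCat.of S) x).inv _) = _
      rw [← CommRingCat.comp_apply, Iso.inv_hom_id, CommRingCat.id_apply]
      exact (IsScalarTower.algebraMap_apply k S p.ResidueField c).symm
    let e : X.residueField x ≃ₐ[k] p.ResidueField := AlgEquiv.ofRingEquiv (f := e0) hcomm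
    exact e.trdeg_eq
  have key := Groth.Agent.Lib.helper3.FTField.localDim_eq k X x r b htr hb'
  change FlatMor.localDim X x = _
  rw [key, hht, ← hb]
  push_cast
  rw [add_comm]

end Groth.Agent.S2141
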