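import Groth.Statements.S2142
import Groth.Agent.Lib.Helper5.TrdegBaseChange
import Groth.Agent.Lib.Helper5.LocalDimFT
import Groth.Agent.Lib.Helper5.FlatMinimalPrimes

set_option autoImplicit false
universe u
open CAlg

namespace Groth.Agent.S2142

open Groth.Agent.Lib.helper5 Groth.Agent.Lib.helper3.FTField

section aux

open TensorProduct

attribute [local instance] Algebra.TensorProduct.rightAlgebra in
theorem flat_right {k S K : Type u} [CommRing k] [CommRing S] [Algebra k S] [CommRing K]
    [Algebra k K] [Module.Flat k K] : Module.Flat S (K ⊗[k] S) := by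
  have h : (algebraMap k K).Flat := RingHom.flat_algebraMap_iff.mpr inferInstance
  have := RingHom.Flat.isStableUnderBaseChange (R := k) (S := K) (R' := S) (S' := K ⊗[k] S) h
  exact RingHom.flat_algebraMap_iff.mp this

variable {k S K : Type u} [Field k] [CommRing S] [Algebra k S] [Field K] [Algebra k K]

attribute [local instance] Algebra.TensorProduct.rightAlgebra in
/-- a minimal prime of `K ⊗ S` contracts to a minimal prime of `S`. -/
theorem comap_mem_minimalPrimes (P : Ideal (K ⊗[k] S)) (hP : P ∈ minimalPrimes (K ⊗[k] S)) :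
    P.comap (Algebra.TensorProduct.includeRight.toRingHom : S →+* K ⊗[k] S) ∈ minimalPrimes S := by
  haveI : Module.Flat S (K ⊗[k] S) := flat_right
  exact FlatMinPrimes.under_mem_minimalPrimes (A := S) hP

attribute [local instance] Algebra.TensorProduct.rightAlgebra in
/-- every minimal prime below the contraction of `Q` is the contraction of a minimal prime
below `Q`. -/
theorem exists_minimalPrimes_le_comap_eq (Q : Ideal (K ⊗[k] S)) [Q.IsPrime] (p : Ideal S)
    (hp : p ∈ minimalPrimes S)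
    (hpQ : p ≤ Q.comap (Algebra.TensorProduct.includeRight.toRingHom : S →+* K ⊗[k] S)) :
    ∃ P ∈ minimalPrimes (K ⊗[k] S), P ≤ Q ∧
      P.comap (Algebra.TensorProduct.includeRight.toRingHom : S →+* K ⊗[k] S) = p := by
  haveI : Module.Flat S (K ⊗[k] S) := flat_right
  haveI := hp.1.1
  haveI : Q.LiesOver (Q.under S) := ⟨rfl⟩
  obtain ⟨P', hP'Q, hP'prime, hP'over⟩ :=
    Ideal.exists_ideal_le_liesOver_of_le (p := p) (q := Q.under S) Q hpQ
  obtain ⟨P, hPmin, hPP'⟩ := Ideal.exists_minimalPrimes_le (I := ⊥) (J := P') bot_le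
  haveI := hPmin.1.1
  refine ⟨P, hPmin, hPP'.trans hP'Q, ?_⟩
  have h1 : P.under S ≤ p := by
    rw [hP'over.over]
    exact Ideal.comap_mono hPP'
  exact le_antisymm h1 (hp.2 ⟨Ideal.comap_isPrime _ _, bot_le⟩ h1)

end aux

open TensorProduct in
/-- Let `S` be of finite type over a field `k`, `K/k` a field extension, `𝔮` a prime of `S` and `𝔮_K` a
prime of `K ⊗_k S` lying over `𝔮`. Then the local dimension of `Spec (K ⊗_k S)` at `𝔮_K` equals the
local dimension of `Spec S` at `𝔮`. -/
theorem result {k S K : Type u} [Field k] [CommRing S] [Algebra k S] [Algebra.FiniteType k S] [Field K]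
    [Algebra k K] (q : Ideal S) [q.IsPrime] (qK : Ideal (K ⊗[k] S)) [qK.IsPrime]
    (hq : qK.comap (Algebra.TensorProduct.includeRight.toRingHom : S →+* K ⊗[k] S) = q) :
    FlatMor.localDim (PrimeSpectrum (K ⊗[k] S)) ⟨qK, inferInstance⟩ = FlatMor.localDim (PrimeSpectrum S) ⟨q, inferInstance⟩ := by
  haveI : IsNoetherianRing S := Algebra.FiniteType.isNoetherianRing k S
  -- the maximal transcendence degree of a component through `q`
  have hfin : {p : Ideal S | p ∈ minimalPrimes S ∧ p ≤ q}.Finite :=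
    (minimalPrimes.finite_of_isNoetherianRing S).subset fun p hp => hp.1
  have hne : {p : Ideal S | p ∈ minimalPrimes S ∧ p ≤ q}.Nonempty := by
    obtain ⟨p, hp, hpq⟩ := Ideal.exists_minimalPrimes_le (I := ⊥) (J := q) bot_le
    exact ⟨p, hp, hpq⟩
  obtain ⟨p0, ⟨hp0min, hp0q⟩, hmax⟩ :=
    Set.exists_max_image _ (fun p : Ideal S => Algebra.trdeg k (S ⧸ p)) hfin hne
  haveI := hp0min.1.1
  obtain ⟨N, hN⟩ := exists_nat_trdeg_quotient k p0
  have hS : FlatMor.localDim (PrimeSpectrum S) ⟨q, inferInstance⟩ = ((N : ℕ) : WithBot ℕ∞) := by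
    refine LocalDimFT.localDim_primeSpectrum_eq k q N ?_ ⟨p0, hp0min, hp0q, hN⟩
    intro p hp hpq
    rw [← hN]
    exact hmax p ⟨hp, hpq⟩
  rw [hS]
  refine LocalDimFT.localDim_primeSpectrum_eq K qK N ?_ ?_
  · intro P hP hPq
    haveI := hP.1.1
    have hpmin := comap_mem_minimalPrimes P hP
    haveI : (P.comap (Algebra.TensorProduct.includeRight.toRingHom : S →+* K ⊗[k] S)).IsPrime :=
      hpmin.1.1
    rw [TrdegBC.trdeg_quotient_eq P hP _ rfl, ← hN]
    refine hmax _ ⟨hpmin, ?_⟩
    rw [← hq]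
    exact Ideal.comap_mono hPq
  · obtain ⟨P, hPmin, hPq, hPp⟩ := exists_minimalPrimes_le_comap_eq qK p0 hp0min (by rw [hq]; exact hp0q)
    haveI := hPmin.1.1
    exact ⟨P, hPmin, hPq, by rw [TrdegBC.trdeg_quotient_eq P hPmin p0 hPp, hN]⟩

end Groth.Agent.S2142
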