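import Groth.Statements.S2143
import Mathlib
import Groth.Agent.Lib.Helper3.FTFieldRing
import Groth.Agent.S2141

set_option autoImplicit false
universe u
open CAlg

namespace Groth.Agent.S2143
open Groth.Agent.Lib.helper3.FTField

/-- (1) = (3): let `S` be of finite type over a field `k` and `𝔭` a prime of `S`. The local dimension of
`Spec S` at `𝔭` is the infimum of `dim S_𝔪` over the maximal ideals `𝔪 ⊇ 𝔭`. -/
theorem result {k S : Type u} [Field k] [CommRing S] [Algebra k S] [Algebra.FiniteType k S]
    (p : Ideal S) [p.IsPrime] :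
    FlatMor.localDim (PrimeSpectrum S) ⟨p, inferInstance⟩ =
      ⨅ m : {m : Ideal S // m.IsMaximal ∧ p ≤ m}, ringKrullDim (Localization.AtPrime (hp := m.2.1.isPrime') m.1) := by
  haveI : IsNoetherianRing S := Algebra.FiniteType.isNoetherianRing k S
  -- the transcendence degree of the residue field
  have htr : Algebra.trdeg k p.ResidueField = Algebra.trdeg k (S ⧸ p) := by
    haveI : IsDomain (S ⧸ p) := Ideal.Quotient.isDomain p
    haveI : FaithfulSMul k (S ⧸ p) := (faithfulSMul_iff_algebraMap_injective k (S ⧸ p)).mpr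
      (algebraMap k (S ⧸ p)).injective
    haveI : FaithfulSMul (S ⧸ p) p.ResidueField :=
      (faithfulSMul_iff_algebraMap_injective _ _).mpr (IsFractionRing.injective _ _)
    have T := _root_.trdeg_add_eq k (S ⧸ p) (A := p.ResidueField)
    haveI : Algebra.IsAlgebraic (S ⧸ p) p.ResidueField :=
      IsLocalization.isAlgebraic p.ResidueField (nonZeroDivisors (S ⧸ p))
    rw [_root_.trdeg_eq_zero (R := S ⧸ p) (A := p.ResidueField), add_zero] at T
    exact T.symm
  obtain ⟨r, hr⟩ := exists_nat_trdeg_quotient k p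
  rw [Groth.Agent.S2141.result p r (htr.trans hr)]
  rw [IsLocalization.AtPrime.ringKrullDim_eq_height p (Localization.AtPrime p)]
  have hmdim : ∀ (m : Ideal S) [m.IsMaximal], ringKrullDim (Localization.AtPrime m) =
      (m.height : WithBot ℕ∞) := fun m _ =>
    IsLocalization.AtPrime.ringKrullDim_eq_height m (Localization.AtPrime m)
  -- lower bound for all maximal ideals
  have hlow : ∀ (m : Ideal S) [m.IsMaximal], p ≤ m → p.height + (r : ℕ∞) ≤ m.height := by
    intro m _ hpm
    haveI := (inferInstance : m.IsMaximal).isPrime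
    obtain ⟨q0, hq0min, hq0le, hht⟩ := exists_minimalPrimes_height_map_eq p
    haveI := hq0min.1.1
    have key1 := height_map_add_trdeg k q0 m (hq0le.trans hpm)
    have key2 := height_map_add_trdeg k q0 p hq0le
    rw [trdeg_quotient_eq_zero_of_isMaximal k m, add_zero] at key1
    rw [hht, hr, ← key1] at key2
    have h3 := height_map_le q0 m (hq0le.trans hpm)
    refine le_trans ?_ h3
    rw [← Cardinal.ofENat_le_ofENat.{u}, ← key2]
    simp
  -- a good maximal ideal
  have hfin : (minimalPrimes S).Finite := minimalPrimes.finite_of_isNoetherianRing _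
  classical
  let s : Finset (Ideal S) := hfin.toFinset.filter (fun q0 => ¬ q0 ≤ p)
  have hnot : ¬ (s.inf id ≤ p) := by
    rw [Ideal.IsPrime.inf_le' (inferInstance : p.IsPrime)]
    rintro ⟨q0, hq0s, hq0q⟩
    exact (Finset.mem_filter.mp hq0s).2 hq0q
  obtain ⟨g, hgs, hgp⟩ := SetLike.not_le_iff_exists.mp hnot
  obtain ⟨m, hm, hpm, hgm⟩ : ∃ m : Ideal S, m.IsMaximal ∧ p ≤ m ∧ g ∉ m := by
    by_contra hcon
    push Not at hcon
    have hj : p.jacobson = p := by
      have : IsJacobsonRing S := isJacobsonRing_of_finiteType (A := k)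
      exact this.out (Ideal.IsPrime.isRadical inferInstance)
    apply hgp
    rw [← hj, Ideal.jacobson, Ideal.mem_sInf]
    rintro m ⟨hpm, hm⟩
    exact hcon m hm hpm
  have hup : m.height ≤ p.height + (r : ℕ∞) := by
    haveI := hm.isPrime
    obtain ⟨q0, hq0min, hq0le, hht⟩ := exists_minimalPrimes_height_map_eq m
    haveI := hq0min.1.1
    have hq0p : q0 ≤ p := by
      by_contra hcon
      have h1 : q0 ∈ s := Finset.mem_filter.mpr ⟨hfin.mem_toFinset.mpr hq0min, hcon⟩
      have h2 : g ∈ q0 := (Finset.inf_le h1 : s.inf id ≤ id q0) hgs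
      exact hgm (hq0le h2)
    have key1 := height_map_add_trdeg k q0 m hq0le
    have key2 := height_map_add_trdeg k q0 p hq0p
    rw [trdeg_quotient_eq_zero_of_isMaximal k m, add_zero, hht] at key1
    rw [hr, ← key1] at key2
    have h3 := height_map_le q0 p hq0p
    rw [← Cardinal.ofENat_le_ofENat.{u}, ← key2]
    simp only [Cardinal.ofENat_add, Cardinal.ofENat_nat]
    gcongr
  apply le_antisymm
  · refine le_iInf fun ⟨m', hm', hpm'⟩ => ?_
    haveI := hm'
    rw [hmdim m']
    have := hlow m' hpm'
    exact_mod_cast this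
  · refine le_trans (iInf_le _ ⟨m, hm, hpm⟩) ?_
    haveI := hm
    rw [hmdim m]
    exact_mod_cast hup

end Groth.Agent.S2143
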