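import Groth.Statements.S2144
import Groth.Agent.Lib.Helper5.FppfSource2

set_option autoImplicit false
universe u
open CAlg

namespace Groth.Agent.S2144

open TensorProduct in
/-- Let `R → A → B` be ring maps with `A → B` faithfully flat and of finite presentation. Then there are
an `R`-algebra `A₀` of finite presentation mapping to `A` and a faithfully flat finitely presented
`A₀`-algebra `B₀` with `B ≅ A ⊗_{A₀} B₀` as `A`-algebras. -/
theorem result {R A B : Type u} [CommRing R] [CommRing A] [CommRing B] [Algebra R A]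
    [Algebra A B] [Algebra.FinitePresentation A B] [Module.FaithfullyFlat A B] :
    ∃ (A₀ B₀ : Type u) (_ : CommRing A₀) (_ : CommRing B₀) (_ : Algebra R A₀) (_ : Algebra A₀ A) (_ : IsScalarTower R A₀ A)
      (_ : Algebra A₀ B₀), Algebra.FinitePresentation R A₀ ∧ Algebra.FinitePresentation A₀ B₀ ∧ Module.FaithfullyFlat A₀ B₀ ∧
      Nonempty (B ≃ₐ[A] A ⊗[A₀] B₀) := by
  classical
  obtain ⟨A₁, _, _, hft, hinj, -, B₁, _, _, hfp, hff, e, -⟩ :=
    Groth.Agent.Lib.helper5.FppfSource.exists_fg_model_faithfullyFlat (A := A) (B := B) ∅ ∅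
  haveI : Algebra.FinitePresentation ℤ A₁ :=
    (Algebra.FinitePresentation.of_finiteType (R := ℤ) (A := A₁)).mp hft
  -- the algebra `A₀ = R ⊗[ℤ] A₁`
  let φ : R ⊗[ℤ] A₁ →ₐ[R] A :=
    Algebra.TensorProduct.lift (Algebra.ofId R A) ((Algebra.ofId A₁ A).restrictScalars ℤ)
      (fun _ _ => Commute.all _ _)
  letI algA₀A : Algebra (R ⊗[ℤ] A₁) A := φ.toRingHom.toAlgebra
  haveI : IsScalarTower R (R ⊗[ℤ] A₁) A := IsScalarTower.of_algebraMap_eq fun r => by
    show algebraMap R A r = φ (algebraMap R _ r)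
    rw [φ.commutes]
  letI algA₁A₀ : Algebra A₁ (R ⊗[ℤ] A₁) :=
    ((Algebra.TensorProduct.includeRight : A₁ →ₐ[ℤ] R ⊗[ℤ] A₁) : A₁ →+* R ⊗[ℤ] A₁).toAlgebra
  haveI : IsScalarTower A₁ (R ⊗[ℤ] A₁) A := IsScalarTower.of_algebraMap_eq fun a => by
    show algebraMap A₁ A a = φ ((1 : R) ⊗ₜ[ℤ] a)
    simp [φ, Algebra.ofId_apply]
  refine ⟨R ⊗[ℤ] A₁, (R ⊗[ℤ] A₁) ⊗[A₁] B₁, inferInstance, inferInstance, inferInstance, algA₀A,
    inferInstance, inferInstance, inferInstance, inferInstance, inferInstance, ⟨?_⟩⟩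
  exact e.symm.trans (Algebra.TensorProduct.cancelBaseChange A₁ (R ⊗[ℤ] A₁) A A B₁).symm

end Groth.Agent.S2144
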