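import Groth.Statements.S2146
import Mathlib

set_option autoImplicit false
universe u
open CAlg

namespace Groth.Agent.S2146

open MvPolynomial in
/-- "Taylor expansion": modulo the ideal generated by the `b X_i - a_i`, a suitable `b`-power multiple of any
polynomial is a constant. -/
theorem taylor {R : Type u} [CommRing R] {n : ℕ} (b : R) (a : Fin n → R) (P : MvPolynomial (Fin n) R) :
    ∃ (N : ℕ) (r : R), C (b ^ N) * P - C r ∈
      Ideal.span (Set.range fun i : Fin n => C b * X i - C (a i)) := by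
  induction P using MvPolynomial.induction_on with
  | C c =>
    refine ⟨0, c, ?_⟩
    simp
  | add P Q hP hQ =>
    obtain ⟨N₁, r₁, h₁⟩ := hP
    obtain ⟨N₂, r₂, h₂⟩ := hQ
    refine ⟨N₁ + N₂, b ^ N₂ * r₁ + b ^ N₁ * r₂, ?_⟩
    have : C (b ^ (N₁ + N₂)) * (P + Q) - C (b ^ N₂ * r₁ + b ^ N₁ * r₂) =
        C (b ^ N₂) * (C (b ^ N₁) * P - C r₁) + C (b ^ N₁) * (C (b ^ N₂) * Q - C r₂) := by
      simp only [pow_add, map_mul, map_add]
      ring
    rw [this]
    exact Ideal.add_mem _ (Ideal.mul_mem_left _ _ h₁) (Ideal.mul_mem_left _ _ h₂)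
  | mul_X P i hP =>
    obtain ⟨N, r, h⟩ := hP
    refine ⟨N + 1, r * a i, ?_⟩
    have : C (b ^ (N + 1)) * (P * X i) - C (r * a i) =
        (C b * X i) * (C (b ^ N) * P - C r) + C r * (C b * X i - C (a i)) := by
      simp only [pow_succ, map_mul]
      ring
    rw [this]
    exact Ideal.add_mem _ (Ideal.mul_mem_left _ _ h)
      (Ideal.mul_mem_left _ _ (Ideal.subset_span ⟨i, rfl⟩))

open MvPolynomial in
/-- Consequence of `taylor` for an algebra map killing the `b X_i - a_i`. -/
theorem taylor_apply {R A : Type u} [CommRing R] [CommRing A] [Algebra R A] {n : ℕ} (b : R) (a : Fin n → R)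
    (τ : MvPolynomial (Fin n) R →ₐ[R] A) (hτ : ∀ i, τ (C b * X i - C (a i)) = 0)
    (P : MvPolynomial (Fin n) R) (N : ℕ) (r : R)
    (h : C (b ^ N) * P - C r ∈ Ideal.span (Set.range fun i : Fin n => C b * X i - C (a i))) :
    algebraMap R A (b ^ N) * τ P = algebraMap R A r := by
  have hker : Ideal.span (Set.range fun i : Fin n => C b * X i - C (a i)) ≤ RingHom.ker τ.toRingHom := by
    rw [Ideal.span_le]
    rintro _ ⟨i, rfl⟩
    exact hτ i
  have := hker h
  rw [RingHom.mem_ker] at this
  have h2 : τ (C (b ^ N) * P - C r) = 0 := this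
  rw [map_sub, map_mul, ← MvPolynomial.algebraMap_eq, AlgHom.commutes, AlgHom.commutes, sub_eq_zero] at h2
  exact h2

/-- From a section `σ` of `R_f → S_f` and an element `g` killing its kernel and mapping to a unit, one gets a product
decomposition in every model of the localizations. -/
theorem decomposition {R S : Type u} [CommRing R] [CommRing S] [Algebra R S] (f : R)
    (σ : S →ₐ[R] Localization.Away f) (g : S) (h1 : IsUnit (σ g))
    (h2 : ∀ s : S, σ s = 0 → ∃ k : ℕ, algebraMap R S f ^ k * (g * s) = 0)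
    (Rf Sf : Type u) [CommRing Rf] [CommRing Sf] [Algebra R Rf] [IsLocalization.Away f Rf]
    [Algebra S Sf] [IsLocalization.Away (algebraMap R S f) Sf] [Algebra Rf Sf] [Algebra R Sf] [IsScalarTower R S Sf]
    [IsScalarTower R Rf Sf] :
    ∃ (C : Type u) (_ : CommRing C) (_ : Algebra Rf C), Nonempty (Sf ≃ₐ[Rf] (Rf × C)) := by
  let e₀ : Localization.Away f ≃ₐ[R] Rf := IsLocalization.algEquiv (Submonoid.powers f) _ _
  let σ' : S →ₐ[R] Rf := (e₀ : Localization.Away f →ₐ[R] Rf).comp σ
  have hσ'f : IsUnit (σ' (algebraMap R S f)) := by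
    rw [AlgHom.commutes]
    exact IsLocalization.Away.algebraMap_isUnit f
  let σ'' : Sf →+* Rf := IsLocalization.Away.lift (algebraMap R S f) (g := σ'.toRingHom) hσ'f
  have hσ''S : ∀ s : S, σ'' (algebraMap S Sf s) = σ' s := fun s =>
    IsLocalization.Away.lift_eq (algebraMap R S f) hσ'f s
  have hσ''R : ∀ r : Rf, σ'' (algebraMap Rf Sf r) = r := by
    have : (σ''.comp (algebraMap Rf Sf)) = RingHom.id Rf := by
      apply IsLocalization.ringHom_ext (Submonoid.powers f)
      ext x
      simp only [RingHom.coe_comp, Function.comp_apply, RingHomCompTriple.comp_eq]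
      rw [← IsScalarTower.algebraMap_apply R Rf Sf, IsScalarTower.algebraMap_apply R S Sf, hσ''S,
        AlgHom.commutes]
    exact fun r => RingHom.congr_fun this r
  -- the idempotent
  obtain ⟨u, hu⟩ := h1.map (e₀ : Localization.Away f →ₐ[R] Rf) |>.exists_right_inv
  have hu' : σ' g * u = 1 := hu
  obtain ⟨e, he⟩ : ∃ e : Sf, e = algebraMap S Sf g * algebraMap Rf Sf u := ⟨_, rfl⟩
  have hσe : σ'' e = 1 := by
    simp only [he, map_mul, hσ''S, hσ''R, hu']
  have hkill : ∀ z : Sf, σ'' z = 0 → e * z = 0 := by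
    intro z hz
    obtain ⟨k, s, hs⟩ := IsLocalization.Away.surj (algebraMap R S f) z
    have hσs : σ s = 0 := by
      have h3 : σ' s = 0 := by
        rw [← hσ''S, ← hs, map_mul, hz, zero_mul]
      exact (map_eq_zero_iff _ e₀.injective).mp h3
    obtain ⟨m, hm⟩ := h2 s hσs
    have h4 : algebraMap S Sf (algebraMap R S f) ^ m * (algebraMap S Sf g * algebraMap S Sf s) = 0 := by
      rw [← map_mul, ← map_pow, ← map_mul, hm, map_zero]
    have hunit : IsUnit (algebraMap S Sf (algebraMap R S f)) :=
      IsLocalization.Away.algebraMap_isUnit _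
    have h5 : algebraMap S Sf g * algebraMap S Sf s = 0 :=
      ((hunit.pow m).mul_right_eq_zero).mp h4
    rw [← hs] at h5
    have h6 : algebraMap S Sf g * z = 0 := by
      rw [← mul_assoc] at h5
      exact ((hunit.pow k).mul_left_eq_zero).mp h5
    calc e * z = algebraMap Rf Sf u * (algebraMap S Sf g * z) := by rw [he]; ring
      _ = 0 := by rw [h6, mul_zero]
  have hidem : e * e = e := by
    have : e * (e - 1) = 0 := hkill _ (by rw [map_sub, hσe, map_one, sub_self])
    linear_combination this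
  -- the algebra map to the product
  let σa : Sf →ₐ[Rf] Rf := { σ'' with commutes' := hσ''R }
  let C := Sf ⧸ Ideal.span {e}
  let Φ : Sf →ₐ[Rf] Rf × C := AlgHom.prod σa (Ideal.Quotient.mkₐ Rf (Ideal.span {e}))
  have hΦ : Function.Bijective Φ := by
    constructor
    · rw [injective_iff_map_eq_zero]
      intro z hz
      have hz1 : σ'' z = 0 := congrArg Prod.fst hz
      have hz2 : Ideal.Quotient.mk (Ideal.span {e}) z = 0 := congrArg Prod.snd hz
      rw [Ideal.Quotient.eq_zero_iff_mem, Ideal.mem_span_singleton'] at hz2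
      obtain ⟨w, rfl⟩ := hz2
      have := hkill _ hz1
      calc w * e = e * (w * e) := by rw [mul_comm e (w * e), mul_assoc, hidem]
        _ = 0 := this
    · rintro ⟨r, c⟩
      obtain ⟨w, rfl⟩ := Ideal.Quotient.mk_surjective c
      refine ⟨e * algebraMap Rf Sf r + (1 - e) * w, ?_⟩
      refine Prod.ext ?_ ?_
      · show σ'' (e * algebraMap Rf Sf r + (1 - e) * w) = r
        rw [map_add, map_mul, map_mul, map_sub, hσe, hσ''R, map_one, sub_self, zero_mul, add_zero, one_mul]
      · show Ideal.Quotient.mk (Ideal.span {e}) (e * algebraMap Rf Sf r + (1 - e) * w) =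
          Ideal.Quotient.mk (Ideal.span {e}) w
        rw [Ideal.Quotient.eq, Ideal.mem_span_singleton']
        exact ⟨algebraMap Rf Sf r - w, by ring⟩
  exact ⟨C, inferInstance, inferInstance, ⟨AlgEquiv.ofBijective Φ hΦ⟩⟩

open MvPolynomial in
/-- Let `S` be a finitely presented `R`-algebra and `𝔮` a prime of `S` over `𝔭` such that the induced
map `R_𝔭 → S_𝔮` is bijective. Then for some `f ∉ 𝔭` there is an `R_f`-algebra `C` with `S_f ≅ R_f ×
C` as `R_f`-algebras. -/
theorem result {R S : Type u} [CommRing R] [CommRing S] [Algebra R S]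
    [Algebra.FinitePresentation R S] (q : Ideal S) [q.IsPrime] (p : Ideal R) [p.IsPrime] [q.LiesOver p]
    (h : Function.Bijective (Localization.localRingHom p q (algebraMap R S) (q.over_def p))) :
    ∃ f : R, f ∉ p ∧ ∀ (Rf Sf : Type u) [CommRing Rf] [CommRing Sf] [Algebra R Rf] [IsLocalization.Away f Rf]
      [Algebra S Sf] [IsLocalization.Away (algebraMap R S f) Sf] [Algebra Rf Sf] [Algebra R Sf] [IsScalarTower R S Sf]
      [IsScalarTower R Rf Sf],
      ∃ (C : Type u) (_ : CommRing C) (_ : Algebra Rf C), Nonempty (Sf ≃ₐ[Rf] (Rf × C)) := by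
  classical
  let T := Localization.AtPrime p
  let T' := Localization.AtPrime q
  let φ : T →+* T' := Localization.localRingHom p q (algebraMap R S) (q.over_def p)
  let eφ : T ≃+* T' := RingEquiv.ofBijective φ h
  let ψ : S →+* T := (eφ.symm : T' →+* T).comp (algebraMap S T')
  have hφψ : ∀ s, φ (ψ s) = algebraMap S T' s := fun s => eφ.apply_symm_apply _
  have hψR : ∀ r, ψ (algebraMap R S r) = algebraMap R T r := by
    intro r
    have : φ (algebraMap R T r) = algebraMap S T' (algebraMap R S r) :=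
      Localization.localRingHom_to_map p q (algebraMap R S) (q.over_def p) r
    show eφ.symm (algebraMap S T' (algebraMap R S r)) = _
    rw [← this]
    exact eφ.symm_apply_apply _
  let ψa : S →ₐ[R] T := { ψ with commutes' := hψR }
  have hψa : ∀ s, ψa s = ψ s := fun _ => rfl
  -- presentation
  obtain ⟨n, π, hπ, G, hG⟩ := Algebra.FinitePresentation.out (R := R) (A := S)
  -- common denominator
  obtain ⟨b, hb⟩ := IsLocalization.exist_integer_multiples_of_finite p.primeCompl
    (fun i : Fin n => ψ (π (X i)))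
  choose a ha using hb
  have ha' : ∀ i, algebraMap R T (a i) = algebraMap R T b * ψ (π (X i)) := fun i => by
    rw [ha i, Algebra.smul_def]
  let τT : MvPolynomial (Fin n) R →ₐ[R] T := ψa.comp π
  have hτT : ∀ i, τT (C (b : R) * X i - C (a i)) = 0 := by
    intro i
    rw [map_sub, map_mul, ← MvPolynomial.algebraMap_eq, AlgHom.commutes, AlgHom.commutes, ha' i]
    exact sub_self _
  -- the elements `b x_i - a_i` vanish in `S_q`
  have hy : ∀ i, ∃ m : q.primeCompl, (m : S) * π (C (b : R) * X i - C (a i)) = 0 := by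
    intro i
    apply (IsLocalization.map_eq_zero_iff q.primeCompl T' _).mp
    rw [← hφψ]
    have : ψ (π (C (b : R) * X i - C (a i))) = 0 := hτT i
    rw [this, map_zero]
  choose gi hgi using hy
  obtain ⟨g, hgdef⟩ : ∃ g : S, g = ∏ i, (gi i : S) := ⟨_, rfl⟩
  have hgq : g ∈ q.primeCompl := by rw [hgdef]; exact prod_mem fun i _ => (gi i).2
  have hgy : ∀ i, g * π (C (b : R) * X i - C (a i)) = 0 := by
    intro i
    rw [hgdef, ← Finset.mul_prod_erase Finset.univ (fun i => (gi i : S)) (Finset.mem_univ i), mul_assoc,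
      mul_comm (∏ x ∈ Finset.univ.erase i, (gi x : S)), ← mul_assoc, hgi i, zero_mul]
  -- `ψ g` is a unit and so is its numerator
  obtain ⟨Γ, hΓ⟩ := hπ g
  obtain ⟨NΓ, a', hΓt⟩ := taylor (b : R) a Γ
  have hψg : IsUnit (ψ g) := (IsLocalization.map_units T' (⟨g, hgq⟩ : q.primeCompl)).map eφ.symm
  have hbT : IsUnit (algebraMap R T b) := IsLocalization.map_units T b
  have ha'p : a' ∈ p.primeCompl := by
    rw [← IsLocalization.AtPrime.isUnit_to_map_iff T p a']
    have := taylor_apply (b : R) a τT hτT Γ NΓ a' hΓt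
    rw [← this, map_pow]
    refine (hbT.pow NΓ).mul ?_
    show IsUnit (ψ (π Γ))
    rw [hΓ]
    exact hψg
  -- the relations
  have key6 : ∀ P ∈ G, ∃ d : R, d ∈ p.primeCompl ∧ ∃ (N : ℕ) (r : R), d * r = 0 ∧
      C ((b : R) ^ N) * P - C r ∈ Ideal.span (Set.range fun i : Fin n => C (b : R) * X i - C (a i)) := by
    intro P hP
    obtain ⟨N, r, hPr⟩ := taylor (b : R) a P
    have hπP : π P = 0 := by
      have : P ∈ RingHom.ker π.toRingHom := by rw [← hG]; exact Ideal.subset_span hP
      exact this
    have h1 := taylor_apply (b : R) a τT hτT P N r hPr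
    have h2 : τT P = 0 := by
      show ψ (π P) = 0
      rw [hπP, map_zero]
    rw [h2, mul_zero] at h1
    obtain ⟨d, hd⟩ := (IsLocalization.map_eq_zero_iff p.primeCompl T r).mp h1.symm
    exact ⟨d, d.2, N, r, hd, hPr⟩
  choose! d hd N r hdr hmem using key6
  obtain ⟨D, hDdef⟩ : ∃ D : R, D = ∏ P ∈ G, d P := ⟨_, rfl⟩
  have hD : D ∈ p.primeCompl := by rw [hDdef]; exact prod_mem fun P hP => hd P hP
  obtain ⟨f, hfdef⟩ : ∃ f : R, f = b * a' * D := ⟨_, rfl⟩
  have hf : f ∈ p.primeCompl := by rw [hfdef]; exact mul_mem (mul_mem b.2 ha'p) hD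
  refine ⟨f, hf, ?_⟩
  -- the section over `R_f`
  have hfu : IsUnit (algebraMap R (Localization.Away f) f) := IsLocalization.Away.algebraMap_isUnit f
  have hbu : IsUnit (algebraMap R (Localization.Away f) b) := by
    have : algebraMap R (Localization.Away f) f =
        algebraMap R (Localization.Away f) b * algebraMap R (Localization.Away f) (a' * D) := by
      rw [← map_mul, ← mul_assoc, hfdef]
    rw [this] at hfu
    exact isUnit_of_mul_isUnit_left hfu
  have ha'u : IsUnit (algebraMap R (Localization.Away f) a') := by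
    have : algebraMap R (Localization.Away f) f =
        algebraMap R (Localization.Away f) a' * algebraMap R (Localization.Away f) (b * D) := by
      rw [← map_mul]
      congr 1
      rw [hfdef]; ring
    rw [this] at hfu
    exact isUnit_of_mul_isUnit_left hfu
  let τf : MvPolynomial (Fin n) R →ₐ[R] Localization.Away f :=
    MvPolynomial.aeval (fun i => algebraMap R (Localization.Away f) (a i) * ↑hbu.unit⁻¹)
  have hτf : ∀ i, τf (C (b : R) * X i - C (a i)) = 0 := by
    intro i
    simp only [τf, map_sub, map_mul, MvPolynomial.aeval_C, MvPolynomial.aeval_X]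
    rw [mul_comm (algebraMap R (Localization.Away f) (a i)), ← mul_assoc, IsUnit.mul_val_inv, one_mul,
      sub_self]
  have hτfG : ∀ P ∈ G, τf P = 0 := by
    intro P hP
    have h1 := taylor_apply (b : R) a τf hτf P (N P) (r P) (hmem P hP)
    have h2 : algebraMap R (Localization.Away f) (r P) = 0 := by
      apply (IsLocalization.map_eq_zero_iff (Submonoid.powers f) (Localization.Away f) _).mpr
      refine ⟨⟨f, 1, pow_one f⟩, ?_⟩
      show f * r P = 0
      rw [hfdef, hDdef, ← Finset.mul_prod_erase G d hP]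
      calc b * a' * (d P * ∏ x ∈ G.erase P, d x) * r P
          = b * a' * (∏ x ∈ G.erase P, d x) * (d P * r P) := by ring
        _ = 0 := by rw [hdr P hP, mul_zero]
    rw [h2, map_pow] at h1
    exact ((hbu.pow (N P)).mul_right_eq_zero).mp h1
  have hker : RingHom.ker π.toRingHom ≤ RingHom.ker τf.toRingHom := by
    rw [← hG, Ideal.span_le]
    intro P hP
    exact hτfG P hP
  let σ : S →ₐ[R] Localization.Away f := AlgHom.liftOfSurjective π hπ τf hker
  have hσπ : ∀ P, σ (π P) = τf P := fun P => AlgHom.liftOfSurjective_apply π hπ τf hker P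
  -- (1)
  have h1 : IsUnit (σ g) := by
    rw [← hΓ, hσπ]
    have h3 := taylor_apply (b : R) a τf hτf Γ NΓ a' hΓt
    rw [map_pow] at h3
    have : IsUnit (algebraMap R (Localization.Away f) (b : R) ^ NΓ * τf Γ) := by rw [h3]; exact ha'u
    exact isUnit_of_mul_isUnit_right this
  -- (2)
  have h2 : ∀ s : S, σ s = 0 → ∃ k : ℕ, algebraMap R S f ^ k * (g * s) = 0 := by
    intro s hs
    obtain ⟨P, rfl⟩ := hπ s
    obtain ⟨N₀, r₀, hPr⟩ := taylor (b : R) a P
    have h3 := taylor_apply (b : R) a τf hτf P N₀ r₀ hPr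
    rw [← hσπ, hs, mul_zero] at h3
    obtain ⟨⟨_, k, rfl⟩, hk⟩ :=
      (IsLocalization.map_eq_zero_iff (Submonoid.powers f) (Localization.Away f) _).mp h3.symm
    have hk' : f ^ k * r₀ = 0 := hk
    have h4 : g * π (C ((b : R) ^ N₀) * P - C r₀) = 0 := by
      refine Submodule.span_induction (p := fun E _ => g * π E = 0) ?_ ?_ ?_ ?_ hPr
      · rintro _ ⟨i, rfl⟩
        exact hgy i
      · rw [map_zero, mul_zero]
      · intro x y _ _ hx hy
        rw [map_add, mul_add, hx, hy, add_zero]
      · intro c x _ hx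
        rw [smul_eq_mul, map_mul, mul_left_comm, hx, mul_zero]
    rw [map_sub, map_mul, ← MvPolynomial.algebraMap_eq, AlgHom.commutes, AlgHom.commutes, mul_sub,
      sub_eq_zero] at h4
    refine ⟨k + N₀, ?_⟩
    have hfN : algebraMap R S f ^ N₀ = algebraMap R S ((a' * D) ^ N₀) * algebraMap R S ((b : R) ^ N₀) := by
      rw [← map_pow, ← map_mul, ← mul_pow]
      congr 2
      rw [hfdef]; ring
    calc algebraMap R S f ^ (k + N₀) * (g * π P)
        = algebraMap R S f ^ k * algebraMap R S ((a' * D) ^ N₀) *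
            (g * (algebraMap R S ((b : R) ^ N₀) * π P)) := by
          rw [pow_add, hfN]; ring
      _ = algebraMap R S ((a' * D) ^ N₀) * g * algebraMap R S (f ^ k * r₀) := by
          have h5 : algebraMap R S (f ^ k * r₀) = algebraMap R S f ^ k * algebraMap R S r₀ := by
            rw [map_mul, map_pow]
          rw [h4, h5]; ring
      _ = 0 := by rw [hk', map_zero, mul_zero]
  intro Rf Sf _ _ _ _ _ _ _ _ _ _
  exact decomposition f σ g h1 h2 Rf Sf

end Groth.Agent.S2146
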