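import Groth.Statements.S2147
-- import your own Groth.Agent.* helpers here
import Groth.Agent.Lib.Helper9.AbsApprox35
import Groth.Agent.Lib.Helper9.AbsApprox19

set_option autoImplicit false
universe u
open CategoryTheory AlgebraicGeometry
open Lim

namespace Groth.Agent.S2147

/-- Let `f : X → S` be proper with `S` quasi-compact and quasi-separated. Then `f` is a limit of proper
morphisms `f_i : X_i → S_i` with `S_i` of finite type over `ℤ`: there are cofiltered diagrams of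
schemes `X_i`, `S_i` with affine transition morphisms, a natural transformation with proper
components, and limit cones identified with `X` and `S` compatibly with `f`. -/
theorem result {X S : Scheme.{u}} (f : X ⟶ S) [IsProper f] [CompactSpace S]
    [QuasiSeparatedSpace S] :
    ∃ (I : Type u) (_ : SmallCategory I) (_ : IsCofiltered I) (DX DS : I ⥤ Scheme.{u}) (φ : DX ⟶ DS)
      (cX : Limits.Cone DX) (cS : Limits.Cone DS) (_ : Limits.IsLimit cX) (_ : Limits.IsLimit cS)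
      (eX : cX.pt ≅ X) (eS : cS.pt ≅ S),
      (∀ (i j : I) (a : i ⟶ j), IsAffineHom (DX.map a) ∧ IsAffineHom (DS.map a)) ∧
      (∀ i, IsProper (φ.app i) ∧ CompactSpace (DS.obj i) ∧
        LocallyOfFiniteType (Limits.IsTerminal.from specULiftZIsTerminal (DS.obj i))) ∧
      (∀ i, cX.π.app i ≫ φ.app i = eX.hom ≫ f ≫ eS.inv ≫ cS.π.app i) := by
  obtain ⟨TS, ⟨eS⟩⟩ := Groth.Agent.Lib.helper9.AbsApprox.hasApprox_of_qcqs S
  obtain ⟨J, hJ1, hJ2, hJ3, DY, tY, cY, hcY, e, k1, k2, k3, k4⟩ :=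
    Groth.Agent.Lib.helper9.AbsApprox.exists_proper_approx f
  obtain ⟨j₀⟩ : Nonempty Jᵒᵖ := ⟨Opposite.op hJ3.some⟩
  obtain ⟨p, hp⟩ : ∃ p : DY.obj j₀ ⟶ S, p = tY.app j₀ := ⟨_, rfl⟩
  obtain ⟨ι₀, hι₀⟩ : ∃ ι₀ : X ⟶ DY.obj j₀, ι₀ = e.inv ≫ cY.π.app j₀ := ⟨_, rfl⟩
  have hιp : ι₀ ≫ p = f := by
    rw [hι₀, hp, Category.assoc, k1, Iso.inv_hom_id_assoc]
  have : IsClosedImmersion ι₀ := by
    have := k4 j₀
    rw [hι₀]
    infer_instance
  have : IsProper p := hp ▸ (k2 j₀).1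
  have : LocallyOfFinitePresentation p := hp ▸ (k2 j₀).2
  obtain ⟨I, hI1, hI2, hI3, DX, DS, φ, cX, cS, hcX, hcS, eX, eS', h1, h2, h3⟩ :=
    Groth.Agent.Lib.helper9.AbsApprox.exists_proper_system_of_closedImmersion TS ι₀ (p ≫ eS.inv)
  refine ⟨Iᵒᵖ, inferInstance, inferInstance, DX, DS, φ, cX, cS, hcX, hcS, eX, eS' ≪≫ eS,
    h1, fun i => ⟨(h2 i).1, (h2 i).2.1, (h2 i).2.2⟩, fun i => ?_⟩
  rw [h3 i, Iso.trans_inv]
  simp only [Category.assoc]
  rw [reassoc_of% hιp]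

end Groth.Agent.S2147
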