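import Groth.Statements.S2148
import Groth.Agent.LibAdm29b
import Mathlib.FieldTheory.Perfect
-- import your own Groth.Agent.* helpers here

set_option autoImplicit false
universe u
open CAlg

namespace Groth.Agent.S2148

open Groth.Agent.LibAdm29 in

/-- Let `k` be a perfect field of characteristic `p > 0` and `K` an extension field of `k`. For `a ∈ K`,
the differential `da` vanishes in `Ω_{K/k}` if and only if `a` is a `p`-th power in `K`. -/
theorem result {k K : Type u} [Field k] [Field K] [Algebra k K] (p : ℕ) [Fact p.Prime]
    [CharP k p] [PerfectRing k p] (a : K) :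
    KaehlerDifferential.D k K a = 0 ↔ ∃ b : K, b ^ p = a := by
  have hK : CharP K p := charP_of_injective_algebraMap (algebraMap k K).injective p
  constructor
  · intro h
    have hmem := mem_of_D_eq_zero p a h
    -- `k(K^p) = K^p` since `k` is perfect
    let E : IntermediateField k K :=
      { carrier := {x | ∃ y : K, y ^ p = x}
        mul_mem' := by
          rintro _ _ ⟨a, rfl⟩ ⟨b, rfl⟩
          exact ⟨a * b, mul_pow a b _⟩
        one_mem' := ⟨1, one_pow _⟩
        add_mem' := by
          rintro _ _ ⟨a, rfl⟩ ⟨b, rfl⟩
          exact ⟨a + b, add_pow_char a b p⟩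
        zero_mem' := ⟨0, zero_pow (Fact.out : p.Prime).ne_zero⟩
        algebraMap_mem' := fun c => by
          obtain ⟨c', rfl⟩ := surjective_frobenius k p c
          exact ⟨algebraMap k K c', by rw [frobenius_def, map_pow]⟩
        inv_mem' := by
          rintro _ ⟨a, rfl⟩
          exact ⟨a⁻¹, inv_pow a _⟩ }
    have hle : IntermediateField.adjoin k (Set.range fun y : K => y ^ p) ≤ E := by
      rw [IntermediateField.adjoin_le_iff]
      rintro _ ⟨y, rfl⟩
      exact ⟨y, rfl⟩
    exact hle hmem
  · rintro ⟨b, rfl⟩
    rw [Derivation.leibniz_pow, ← Nat.cast_smul_eq_nsmul K, CharP.cast_eq_zero, zero_smul]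

end Groth.Agent.S2148
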