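import Groth.Statements.S2150
import Mathlib
import Groth.Agent.Lib.Helper3.SepClosedIn

set_option autoImplicit false
universe u
open CAlg

namespace Groth.Agent.S2150


open Polynomial IntermediateField in
theorem key_abstract {k K R : Type u} [Field k] [Field K] [Algebra k K] [CommRing R] [Algebra k R]
    (α : K) (hα : IsSeparable k α) (hnot : α ∉ Set.range (algebraMap k K))
    (jF : k⟮α⟯ →ₐ[k] R) (jK : K →ₐ[k] R) (m : R →ₐ[k] K)
    (hm1 : m (jF (AdjoinSimple.gen k α)) = α) (hm2 : ∀ c, m (jK c) = c)
    (hψ : ∀ σ : k⟮α⟯ →ₐ[k] AlgebraicClosure K, ∃ ψ : R →ₐ[k] AlgebraicClosure K,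
      (∀ x, ψ (jF x) = σ x) ∧ ∀ c, ψ (jK c) = algebraMap K (AlgebraicClosure K) c)
    (hprime : (nilradical R).IsPrime) : False := by
  have hint : IsIntegral k α := hα.isIntegral
  have hsep : (minpoly k α).Separable := hα
  let a : R := jF (AdjoinSimple.gen k α)
  have hroot : ((minpoly k α).map (algebraMap k K)).IsRoot α := by
    rw [IsRoot.def, eval_map_algebraMap]; exact minpoly.aeval k α
  obtain ⟨g, hg⟩ : ∃ g, (minpoly k α).map (algebraMap k K) = (X - C α) * g :=
    dvd_iff_isRoot.mpr hroot
  let z : R := a - jK α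
  let w : R := eval₂ jK.toRingHom a g
  have hzw : z * w = 0 := by
    have h1 : eval₂ jK.toRingHom a ((minpoly k α).map (algebraMap k K)) = 0 := by
      rw [eval₂_map]
      have : jK.toRingHom.comp (algebraMap k K) = algebraMap k R := jK.comp_algebraMap
      rw [this, ← aeval_def]
      show aeval (jF (AdjoinSimple.gen k α)) (minpoly k α) = 0
      rw [aeval_algHom_apply, IntermediateField.aeval_gen_minpoly, map_zero]
    rw [hg, eval₂_mul, eval₂_sub, eval₂_X, eval₂_C] at h1
    exact h1
  have hmem : z * w ∈ nilradical R := by rw [hzw]; exact zero_mem _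
  rcases hprime.mem_or_mem hmem with hz | hw
  · -- `z` is not nilpotent: map to the algebraic closure through another root
    have hdeg : 2 ≤ (minpoly k α).natDegree := by
      have h1 : (minpoly k α).natDegree ≠ 1 := by
        intro h
        apply hnot
        exact (minpoly.natDegree_eq_one_iff).mp h
      have h0 : 0 < (minpoly k α).natDegree := minpoly.natDegree_pos hint
      omega
    have hspl : ((minpoly k α).map (algebraMap k (AlgebraicClosure K))).Splits :=
      IsAlgClosed.splits _
    have hcard : Fintype.card ((minpoly k α).rootSet (AlgebraicClosure K)) =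
        (minpoly k α).natDegree :=
      Polynomial.card_rootSet_eq_natDegree hsep hspl
    have hnt : Nontrivial ((minpoly k α).rootSet (AlgebraicClosure K)) := by
      rw [← Fintype.one_lt_card_iff_nontrivial, hcard]; omega
    obtain ⟨r₁, r₂, hr⟩ := exists_pair_ne ((minpoly k α).rootSet (AlgebraicClosure K))
    obtain ⟨r, hr', hrne⟩ : ∃ r : AlgebraicClosure K,
        r ∈ (minpoly k α).aroots (AlgebraicClosure K) ∧
        r ≠ algebraMap K (AlgebraicClosure K) α := by
      by_cases h1 : (r₁ : AlgebraicClosure K) = algebraMap K (AlgebraicClosure K) α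
      · refine ⟨r₂, ?_, fun h2 => hr (Subtype.ext (h1.trans h2.symm))⟩
        rw [mem_aroots]; exact mem_rootSet.mp r₂.2
      · refine ⟨r₁, ?_, h1⟩
        rw [mem_aroots]; exact mem_rootSet.mp r₁.2
    obtain ⟨σ, hσ⟩ : ∃ σ : k⟮α⟯ →ₐ[k] AlgebraicClosure K, σ (AdjoinSimple.gen k α) = r :=
      ⟨(algHomAdjoinIntegralEquiv k hint).symm ⟨r, hr'⟩,
        algHomAdjoinIntegralEquiv_symm_apply_gen k hint ⟨r, hr'⟩⟩
    obtain ⟨ψ, hψ1, hψ2⟩ := hψ σ
    have hψz : ψ z = r - algebraMap K (AlgebraicClosure K) α := by
      show ψ (jF (AdjoinSimple.gen k α) - jK α) = _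
      rw [map_sub, hψ1, hψ2, hσ]
    have hnil : IsNilpotent (ψ z) := (mem_nilradical.mp hz).map ψ
    have h0 : ψ z = 0 := hnil.eq_zero
    rw [hψz, sub_eq_zero] at h0
    exact hrne h0
  · -- `w` is not nilpotent: multiply
    have hmw : m w = g.eval α := by
      show m.toRingHom (eval₂ jK.toRingHom a g) = _
      rw [hom_eval₂]
      have h1 : m.toRingHom.comp jK.toRingHom = RingHom.id K := by
        ext c; exact hm2 c
      rw [h1]
      show eval₂ (RingHom.id K) (m a) g = _
      rw [hm1, eval₂_id]
    have hnil : IsNilpotent (m w) := (mem_nilradical.mp hw).map m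
    have h0 : g.eval α = 0 := by rw [← hmw]; exact hnil.eq_zero
    have hd : (X - C α) * (X - C α) ∣ (minpoly k α).map (algebraMap k K) := by
      rw [hg]; exact mul_dvd_mul_left _ (dvd_iff_isRoot.mpr h0)
    have hsq := (hsep.map (f := algebraMap k K)).squarefree
    exact (not_isUnit_X_sub_C α) (hsq _ hd)

open TensorProduct Polynomial IntermediateField in
theorem key {k K : Type u} [Field k] [Field K] [Algebra k K] (α : K) (hα : IsSeparable k α)
    (hnot : α ∉ Set.range (algebraMap k K))
    (H : IrreducibleSpace (PrimeSpectrum (k⟮α⟯ ⊗[k] K))) : False := by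
  refine key_abstract (R := k⟮α⟯ ⊗[k] K) α hα hnot Algebra.TensorProduct.includeLeft
    Algebra.TensorProduct.includeRight
    (Algebra.TensorProduct.productMap k⟮α⟯.val (AlgHom.id k K)) ?_ ?_ ?_
    (PrimeSpectrum.irreducibleSpace_iff_isPrime_nilradical.mp H)
  · simp
  · intro c; simp
  · intro σ
    refine ⟨Algebra.TensorProduct.productMap σ (IsScalarTower.toAlgHom k K (AlgebraicClosure K)),
      ?_, ?_⟩
    · intro x; simp
    · intro c; simp

open TensorProduct in
/-- For a field extension `K/k`, the spectrum of `k' ⊗_k K` is irreducible for every field extension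
`k'/k` (geometric irreducibility, extensions in the same universe) if and only if every element of
`K` which is separable algebraic over `k` lies in `k`. -/
theorem result {k K : Type u} [Field k] [Field K] [Algebra k K] :
    (∀ (k' : Type u) [Field k'] [Algebra k k'], IrreducibleSpace (PrimeSpectrum (k' ⊗[k] K))) ↔
      ∀ α : K, IsSeparable k α → α ∈ Set.range (algebraMap k K) := by
  constructor
  · intro H α hα
    by_contra hnot
    exact key α hα hnot (H _)
  · intro H k' _ _
    apply Groth.Agent.Lib.helper3.SepClosedIn.geomIrr_of_separableClosure_eq_bot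
    rw [eq_bot_iff]
    intro x hx
    rw [mem_separableClosure_iff] at hx
    obtain ⟨c, hc⟩ := H x hx
    rw [IntermediateField.mem_bot]
    exact ⟨c, hc⟩

end Groth.Agent.S2150
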