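import Groth.Statements.S2152
-- import your own Groth.Agent.* helpers here
import Groth.Agent.Lib.Helper9.LimTop

set_option autoImplicit false
universe u
open CategoryTheory AlgebraicGeometry
open Lim

namespace Groth.Agent.S2152

open Groth.Agent.Lib.helper9

/-- Let `c` be a limit cone of a diagram of schemes indexed by a small cofiltered category with affine
transition morphisms. Then the image of `c` under the forgetful functor to topological spaces is a
limit cone: the underlying space of the limit scheme is the limit of the underlying spaces. -/
theorem result {I : Type u} [SmallCategory I] [IsCofiltered I] (D : I ⥤ Scheme.{u})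
    [∀ (i j : I) (f : i ⟶ j), IsAffineHom (D.map f)] (c : Limits.Cone D) (hc : Limits.IsLimit c) :
    Nonempty (Limits.IsLimit (Scheme.forgetToTop.mapCone c)) := by
  have hset : Nonempty (Limits.IsLimit ((forget TopCat).mapCone (Scheme.forgetToTop.mapCone c))) := by
    rw [Limits.Types.isLimit_iff]
    intro s hs
    obtain ⟨x, hx⟩ := exists_point_of_compatible D c hc (fun j => s j) (fun m => hs m)
    exact ⟨x, hx, fun y hy => eq_of_forall_π_app_eq D c hc (fun j => (hy j).trans (hx j).symm)⟩
  obtain ⟨hset⟩ := hset
  rw [TopCat.nonempty_isLimit_iff_eq_induced _ hset]
  exact topology_eq_iInf_induced D c hc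

end Groth.Agent.S2152
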