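import Groth.Statements.S2159
import Mathlib

set_option autoImplicit false
universe u
open CAlg

namespace Groth.Agent.S2159

section aux
variable {R M P Q : Type u} [CommRing R] [AddCommGroup M] [Module R M] [AddCommGroup P] [Module R P]
  [AddCommGroup Q] [Module R Q]

/-- One half of the Schanuel map. -/
noncomputable def half (p : P →ₗ[R] M) (q : Q →ₗ[R] M) (s : P →ₗ[R] Q) (t : Q →ₗ[R] P)
    (hs : q ∘ₗ s = p) (ht : p ∘ₗ t = q) :
    (LinearMap.ker p × Q) →ₗ[R] (LinearMap.ker q × P) :=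
  LinearMap.prod
    (LinearMap.codRestrict (LinearMap.ker q)
      (LinearMap.snd R _ _ - s ∘ₗ ((LinearMap.ker p).subtype ∘ₗ LinearMap.fst R _ _ + t ∘ₗ LinearMap.snd R _ _))
      (by
        rintro ⟨⟨k, hk⟩, b⟩
        have h1 : ∀ x, q (s x) = p x := fun x => LinearMap.congr_fun hs x
        have h2 : ∀ x, p (t x) = q x := fun x => LinearMap.congr_fun ht x
        have hk' : p k = 0 := hk
        simp [h1, h2, hk']))
    ((LinearMap.ker p).subtype ∘ₗ LinearMap.fst R _ _ + t ∘ₗ LinearMap.snd R _ _)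

end aux

/-- Given surjections `p₁ : P₁ → M` and `p₂ : P₂ → M` from projective modules, with kernels `K` and `L`,
there is an isomorphism `K ⊕ P₂ ≅ L ⊕ P₁`. -/
theorem result {R M P₁ P₂ : Type u} [CommRing R] [AddCommGroup M] [Module R M] [AddCommGroup P₁] [Module R P₁]
    [Module.Projective R P₁] [AddCommGroup P₂] [Module R P₂] [Module.Projective R P₂] (p₁ : P₁ →ₗ[R] M) (p₂ : P₂ →ₗ[R] M)
    (h₁ : Function.Surjective p₁) (h₂ : Function.Surjective p₂) :
    Nonempty ((LinearMap.ker p₁ × P₂) ≃ₗ[R] (LinearMap.ker p₂ × P₁)) := by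
  obtain ⟨s, hs⟩ := Module.projective_lifting_property p₂ p₁ h₂
  obtain ⟨t, ht⟩ := Module.projective_lifting_property p₁ p₂ h₁
  have e1 : half p₁ p₂ s t hs ht ∘ₗ half p₂ p₁ t s ht hs = LinearMap.id := by
    refine LinearMap.ext fun x => ?_
    obtain ⟨⟨k, hk⟩, b⟩ := x
    refine Prod.ext (Subtype.ext ?_) ?_
    · simp [half]
    · simp [half]
  have e2 : half p₂ p₁ t s ht hs ∘ₗ half p₁ p₂ s t hs ht = LinearMap.id := by
    refine LinearMap.ext fun x => ?_
    obtain ⟨⟨k, hk⟩, b⟩ := x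
    refine Prod.ext (Subtype.ext ?_) ?_
    · simp [half]
    · simp [half]
  exact ⟨LinearEquiv.ofLinearMap (half p₁ p₂ s t hs ht) (half p₂ p₁ t s ht hs) e1 e2⟩

end Groth.Agent.S2159
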