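import Groth.Statements.S2160
import Mathlib

set_option autoImplicit false
universe u
open CAlg

namespace Groth.Agent.S2160

/-- In a Noetherian local domain of dimension at least two there is no nonzero element `x` such that
`D(x)` is the generic point only. -/
theorem key {R : Type u} [CommRing R] [IsDomain R] [IsLocalRing R] [IsNoetherianRing R]
    (hdim : 2 ≤ ringKrullDim R) (x : R) (hx0 : x ≠ 0)
    (hx : ∀ q : Ideal R, q.IsPrime → x ∉ q → q = ⊥) : False := by
  have hm2 : (2 : ℕ∞) ≤ (IsLocalRing.maximalIdeal R).height := by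
    have h := IsLocalRing.maximalIdeal_height_eq_ringKrullDim (R := R)
    rw [← h] at hdim
    have h2 : ((2 : ℕ∞) : WithBot ℕ∞) ≤ ((IsLocalRing.maximalIdeal R).height : WithBot ℕ∞) := hdim
    exact WithBot.coe_le_coe.mp h2
  have hmbot : IsLocalRing.maximalIdeal R ≠ ⊥ := by
    intro h
    rw [h, Ideal.height_bot] at hm2
    norm_num at hm2
  have hxm : x ∈ IsLocalRing.maximalIdeal R := by
    by_contra h
    exact hmbot (hx _ inferInstance h)
  have hxtop : Ideal.span {x} ≠ ⊤ := by
    intro h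
    rw [Ideal.span_singleton_eq_top] at h
    exact (IsLocalRing.mem_maximalIdeal x).mp hxm h
  have hfin := Ideal.finite_minimalPrimes_of_isNoetherianRing R (Ideal.span {x})
  -- prime avoidance
  have havoid : ¬ ((IsLocalRing.maximalIdeal R : Set R) ⊆
      ⋃ p ∈ (hfin.toFinset : Set (Ideal R)), ((id p : Ideal R) : Set R)) := by
    rw [Ideal.subset_union_prime (f := id) ⊥ ⊥ (fun p hp _ _ => by
      rw [Set.Finite.mem_toFinset] at hp
      exact hp.1.1)]
    rintro ⟨p, hp, hle⟩
    rw [Set.Finite.mem_toFinset] at hp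
    have hpprime : p.IsPrime := hp.1.1
    have h1 : p.height ≤ 1 :=
      Ideal.height_le_one_of_isPrincipal_of_mem_minimalPrimes (Ideal.span {x}) p hp
    have h2 := Ideal.height_mono hle
    have : (2 : ℕ∞) ≤ 1 := hm2.trans (h2.trans h1)
    norm_num at this
  rw [Set.not_subset] at havoid
  obtain ⟨y, hym, hy⟩ := havoid
  simp only [Set.mem_iUnion, not_exists, id] at hy
  have hy' : ∀ p ∈ (Ideal.span {x}).minimalPrimes, y ∉ p := by
    intro p hp
    exact hy p (by simpa using hp)
  have hytop : Ideal.span {y} ≠ ⊤ := by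
    intro h
    rw [Ideal.span_singleton_eq_top] at h
    exact (IsLocalRing.mem_maximalIdeal y).mp hym h
  have hy0 : y ≠ 0 := by
    rintro rfl
    obtain ⟨⟨p, hp⟩⟩ := Ideal.nonempty_minimalPrimes hxtop
    exact hy' p hp (zero_mem p)
  obtain ⟨⟨q, hq⟩⟩ := Ideal.nonempty_minimalPrimes hytop
  have hqprime : q.IsPrime := hq.1.1
  have hyq : y ∈ q := hq.1.2 (Ideal.mem_span_singleton_self y)
  have hq1 : q.height ≤ 1 :=
    Ideal.height_le_one_of_isPrincipal_of_mem_minimalPrimes (Ideal.span {y}) q hq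
  have hqbot : q ≠ ⊥ := by
    rintro rfl
    exact hy0 (by simpa using hyq)
  have hxq : x ∈ q := by
    by_contra h
    exact hqbot (hx q hqprime h)
  obtain ⟨p, hp, hpq⟩ := Ideal.exists_minimalPrimes_le
    (show Ideal.span {x} ≤ q from (Ideal.span_singleton_le_iff_mem q).mpr hxq)
  have hpprime : p.IsPrime := hp.1.1
  have hxp : x ∈ p := hp.1.2 (Ideal.mem_span_singleton_self x)
  have hpbot : p ≠ ⊥ := by
    rintro rfl
    exact hx0 (by simpa using hxp)
  have hne : p ≠ q := by
    rintro rfl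
    exact hy' p hp hyq
  have hlt : p < q := lt_of_le_of_ne hpq hne
  have h3 := Ideal.height_add_one_le_of_lt_of_isPrime hlt
  have h4 : p.height = 0 := by
    have : p.height + 1 ≤ 1 := h3.trans hq1
    exact (ENat.add_one_le_iff (by
      intro htop
      rw [htop] at this
      simp at this)).mp this |> fun h => by simpa using h
  exact hpbot (Ideal.height_eq_zero_iff_eq_bot.mp h4)

/-- Let `R` be a Noetherian local domain of Krull dimension at least `2`. Then every nonempty open
subset of `Spec R` is infinite. -/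
theorem result {R : Type u} [CommRing R] [IsDomain R] [IsLocalRing R] [IsNoetherianRing R]
    (hdim : 2 ≤ ringKrullDim R) (U : Set (PrimeSpectrum R)) (hU : IsOpen U) (hne : U.Nonempty) : U.Infinite := by
  classical
  intro hfin
  obtain ⟨p, hpU⟩ := hne
  obtain ⟨_, ⟨f, rfl⟩, hpf, hfU⟩ :=
    PrimeSpectrum.isTopologicalBasis_basic_opens.exists_subset_of_mem_open hpU hU
  have hDfin : (PrimeSpectrum.basicOpen f : Set (PrimeSpectrum R)).Finite := hfin.subset hfU
  have hf0 : f ≠ 0 := by
    rintro rfl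
    exact hpf (zero_mem _)
  have hchoose : ∀ q : PrimeSpectrum R, ∃ g : R, g ∈ q.asIdeal ∧ (q.asIdeal ≠ ⊥ → g ≠ 0) := by
    intro q
    by_cases hq : q.asIdeal = ⊥
    · exact ⟨0, zero_mem _, fun h => absurd hq h⟩
    · obtain ⟨g, hg, hg0⟩ := Submodule.exists_mem_ne_zero_of_ne_bot hq
      exact ⟨g, hg, fun _ => hg0⟩
  choose g hg hg0 using hchoose
  let P : Finset (PrimeSpectrum R) := hDfin.toFinset.filter (fun q => q.asIdeal ≠ ⊥)
  refine key hdim (f * ∏ q ∈ P, g q) ?_ ?_
  · refine mul_ne_zero hf0 (Finset.prod_ne_zero_iff.mpr fun q hq => hg0 q ?_)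
    exact (Finset.mem_filter.mp hq).2
  · intro q hqprime hxq
    by_contra hqbot
    have hfq : f ∉ q := fun h => hxq (Ideal.mul_mem_right _ _ h)
    have hqP : (⟨q, hqprime⟩ : PrimeSpectrum R) ∈ P := by
      refine Finset.mem_filter.mpr ⟨?_, hqbot⟩
      rw [Set.Finite.mem_toFinset]
      exact hfq
    apply hxq
    refine Ideal.mul_mem_left _ _ ?_
    rw [← Finset.mul_prod_erase P g hqP]
    exact Ideal.mul_mem_right _ _ (hg ⟨q, hqprime⟩)

end Groth.Agent.S2160
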