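import Groth.Statements.S2161
import Mathlib.RingTheory.TensorProduct.Nontrivial
import Mathlib.Algebra.Polynomial.Lifts
import Mathlib.FieldTheory.PurelyInseparable.Basic
import Mathlib.RingTheory.Ideal.GoingUp
import Mathlib.RingTheory.Spectrum.Prime.Topology
import Mathlib.RingTheory.LocalRing.ResidueField.Ideal

set_option autoImplicit false
set_option linter.style.haveILetI false
universe u
open CAlg

namespace Groth.Agent.S2161

open Polynomial TensorProduct in
/-- Two ring maps to a field agreeing on `R` agree. -/
theorem uniq {R S Ω : Type*} [CommRing R] [CommRing S] [Algebra R S] [Field Ω]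
    (G : Set S) (hG : Algebra.adjoin R G = ⊤)
    (hpow : ∀ x ∈ G, ∃ (n : ℕ) (P : Polynomial R), 0 < n ∧
      Polynomial.map (algebraMap R S) P = (Polynomial.X - Polynomial.C x) ^ n)
    (ψ1 ψ2 : S →+* Ω) (h : ψ1.comp (algebraMap R S) = ψ2.comp (algebraMap R S)) : ψ1 = ψ2 := by
  letI : Algebra R Ω := (ψ1.comp (algebraMap R S)).toAlgebra
  let φ1 : S →ₐ[R] Ω := { ψ1 with commutes' := fun r => rfl }
  let φ2 : S →ₐ[R] Ω := { ψ2 with commutes' := fun r => (RingHom.congr_fun h r).symm }
  have key : φ1 = φ2 := by
    refine AlgHom.ext_of_adjoin_eq_top hG ?_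
    intro x hx
    obtain ⟨n, P, hn, hP⟩ := hpow x hx
    have e1 : P.map (ψ1.comp (algebraMap R S)) = (X - C (ψ1 x)) ^ n := by
      rw [← Polynomial.map_map, hP]
      simp [Polynomial.map_pow]
    have e2 : P.map (ψ2.comp (algebraMap R S)) = (X - C (ψ2 x)) ^ n := by
      rw [← Polynomial.map_map, hP]
      simp [Polynomial.map_pow]
    rw [h, e2] at e1
    have e3 := congrArg (Polynomial.eval (ψ2 x)) e1
    simp only [eval_pow, eval_sub, eval_X, eval_C, sub_self] at e3
    rw [zero_pow hn.ne'] at e3
    have e4 : ψ2 x - ψ1 x = 0 := pow_eq_zero_iff hn.ne' |>.mp e3.symm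
    change ψ1 x = ψ2 x
    exact (sub_eq_zero.mp e4).symm
  exact RingHom.ext fun s => AlgHom.congr_fun key s

open TensorProduct in
/-- Let R → S be a ring map whose kernel consists of nilpotent elements, and suppose S is generated as
an R-algebra by elements x for which some power (T − x)ⁿ, n > 0, is the image of a polynomial over
R. Then Spec S → Spec R is a homeomorphism, and for every prime 𝔮 of S over 𝔭 the extension
κ(𝔮)/κ(𝔭) is purely inseparable. -/
theorem result {R S : Type u} [CommRing R] [CommRing S] [Algebra R S]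
    (hker : ∀ r : R, algebraMap R S r = 0 → IsNilpotent r) (G : Set S) (hG : Algebra.adjoin R G = ⊤)
    (hpow : ∀ x ∈ G, ∃ (n : ℕ) (P : Polynomial R), 0 < n ∧
      Polynomial.map (algebraMap R S) P = (Polynomial.X - Polynomial.C x) ^ n) :
    IsHomeomorph (PrimeSpectrum.comap (algebraMap R S)) ∧
      ∀ (q : Ideal S) [q.IsPrime] (p : Ideal R) [p.IsPrime] [q.LiesOver p],
        @IsPurelyInseparable p.ResidueField q.ResidueField _ _
          (Ideal.ResidueField.mapₐ p q (Algebra.ofId R S) (q.over_def p)).toRingHom.toAlgebra := by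
  classical
  -- integrality
  have hint : Algebra.IsIntegral R S := by
    have h1 : (⊤ : Subalgebra R S) ≤ integralClosure R S := by
      rw [← hG]
      refine Algebra.adjoin_le ?_
      intro x hx
      obtain ⟨n, P, hn, hP⟩ := hpow x hx
      obtain ⟨Q, hQmap, -, hQmonic⟩ := Polynomial.lifts_and_natDegree_eq_and_monic
        (p := (Polynomial.X - Polynomial.C x) ^ n) ⟨P, hP⟩ ((Polynomial.monic_X_sub_C x).pow n)
      refine ⟨Q, hQmonic, ?_⟩
      rw [← Polynomial.eval_map, hQmap]
      simp [hn.ne']
    exact ⟨fun s => h1 Algebra.mem_top⟩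
  refine ⟨?_, ?_⟩
  · rw [isHomeomorph_iff_continuous_isClosedMap_bijective]
    refine ⟨PrimeSpectrum.continuous_comap _, ?_, ?_, ?_⟩
    · exact PrimeSpectrum.isClosedMap_comap_of_isIntegral _ (algebraMap_isIntegral_iff.mpr hint)
    · -- injective
      intro q1 q2 h12
      set p : Ideal R := q1.asIdeal.comap (algebraMap R S) with hp
      have hp2 : p = q2.asIdeal.comap (algebraMap R S) := by
        have := congrArg PrimeSpectrum.asIdeal h12
        exact this
      haveI : p.IsPrime := by rw [hp]; infer_instance
      let K := p.ResidueField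
      let A1 := q1.asIdeal.ResidueField
      let A2 := q2.asIdeal.ResidueField
      let g1 : K →+* A1 := Ideal.ResidueField.map p q1.asIdeal (algebraMap R S) hp
      let g2 : K →+* A2 := Ideal.ResidueField.map p q2.asIdeal (algebraMap R S) hp2
      letI : Algebra K A1 := g1.toAlgebra
      letI : Algebra K A2 := g2.toAlgebra
      haveI : Nontrivial (A1 ⊗[K] A2) :=
        Algebra.TensorProduct.nontrivial_of_algebraMap_injective_of_isDomain K A1 A2
          (RingHom.injective _) (RingHom.injective _)
      obtain ⟨m, hm⟩ := Ideal.exists_maximal (A1 ⊗[K] A2)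
      letI : Field ((A1 ⊗[K] A2) ⧸ m) := Ideal.Quotient.field m
      let j1 : A1 →+* (A1 ⊗[K] A2) ⧸ m :=
        (Ideal.Quotient.mk m).comp (Algebra.TensorProduct.includeLeft (R := K) (S := K)).toRingHom
      let j2 : A2 →+* (A1 ⊗[K] A2) ⧸ m :=
        (Ideal.Quotient.mk m).comp (Algebra.TensorProduct.includeRight (R := K)).toRingHom
      let ψ1 : S →+* (A1 ⊗[K] A2) ⧸ m := j1.comp (algebraMap S A1)
      let ψ2 : S →+* (A1 ⊗[K] A2) ⧸ m := j2.comp (algebraMap S A2)
      have hψ : ψ1.comp (algebraMap R S) = ψ2.comp (algebraMap R S) := by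
        refine RingHom.ext fun r => ?_
        change j1 (algebraMap S A1 (algebraMap R S r)) = j2 (algebraMap S A2 (algebraMap R S r))
        rw [← Ideal.ResidueField.map_algebraMap p q1.asIdeal (algebraMap R S) hp r,
          ← Ideal.ResidueField.map_algebraMap p q2.asIdeal (algebraMap R S) hp2 r]
        change Ideal.Quotient.mk m (Algebra.TensorProduct.includeLeft (R := K) (S := K)
            (algebraMap K A1 (algebraMap R K r)))
          = Ideal.Quotient.mk m (Algebra.TensorProduct.includeRight (R := K)
            (algebraMap K A2 (algebraMap R K r)))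
        rw [AlgHom.commutes, AlgHom.commutes]
      have hψeq := uniq G hG hpow ψ1 ψ2 hψ
      have hk1 : RingHom.ker ψ1 = q1.asIdeal := by
        ext s
        rw [RingHom.mem_ker]
        change j1 (algebraMap S A1 s) = 0 ↔ _
        rw [map_eq_zero_iff j1 (RingHom.injective j1)]
        exact Ideal.algebraMap_residueField_eq_zero
      have hk2 : RingHom.ker ψ2 = q2.asIdeal := by
        ext s
        rw [RingHom.mem_ker]
        change j2 (algebraMap S A2 s) = 0 ↔ _
        rw [map_eq_zero_iff j2 (RingHom.injective j2)]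
        exact Ideal.algebraMap_residueField_eq_zero
      apply PrimeSpectrum.ext
      exact hk1.symm.trans ((congrArg RingHom.ker hψeq).trans hk2)
    · -- surjective
      intro p
      obtain ⟨Q, -, hQ, hQp⟩ := Ideal.exists_ideal_over_prime_of_isIntegral p.asIdeal (⊥ : Ideal S)
        (by
          intro r hr
          rw [Ideal.mem_comap, Ideal.mem_bot] at hr
          obtain ⟨k, hk⟩ := hker r hr
          exact Ideal.IsPrime.mem_of_pow_mem inferInstance k (hk ▸ p.asIdeal.zero_mem))
      exact ⟨⟨Q, hQ⟩, PrimeSpectrum.ext hQp⟩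
  · intro q _ p _ _
    letI : Algebra p.ResidueField q.ResidueField :=
      (Ideal.ResidueField.mapₐ p q (Algebra.ofId R S) (q.over_def p)).toRingHom.toAlgebra
    apply isPurelyInseparable_of_finSepDegree_eq_one
    rw [Field.finSepDegree, Nat.card_eq_one_iff_unique]
    refine ⟨⟨fun (σ1 : q.ResidueField →ₐ[p.ResidueField] AlgebraicClosure q.ResidueField)
      (σ2 : q.ResidueField →ₐ[p.ResidueField] AlgebraicClosure q.ResidueField) => ?_⟩,
      ⟨IsScalarTower.toAlgHom _ _ _⟩⟩
    apply AlgHom.coe_ringHom_injective
    apply IsLocalization.ringHom_ext (nonZeroDivisors (S ⧸ q))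
    apply Ideal.Quotient.ringHom_ext
    have := uniq G hG hpow
      (σ1.toRingHom.comp (algebraMap S q.ResidueField))
      (σ2.toRingHom.comp (algebraMap S q.ResidueField)) ?_
    · exact RingHom.ext fun s => RingHom.congr_fun this s
    · refine RingHom.ext fun r => ?_
      change σ1 (algebraMap S q.ResidueField (algebraMap R S r))
        = σ2 (algebraMap S q.ResidueField (algebraMap R S r))
      have h1 : algebraMap S q.ResidueField (algebraMap R S r)
          = algebraMap p.ResidueField q.ResidueField (algebraMap R p.ResidueField r) := by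
        change _ = Ideal.ResidueField.map p q (algebraMap R S) (q.over_def p) _
        rw [Ideal.ResidueField.map_algebraMap]
      rw [h1, AlgHom.commutes, AlgHom.commutes]

end Groth.Agent.S2161
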