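import Groth.Statements.S2163
import Mathlib

set_option autoImplicit false
universe u
open CAlg

namespace Groth.Agent.S2163

section
variable {R : Type u} [CommRing R]

/-- The map `R^l → I` onto the ideal generated by `f`. -/
noncomputable def toIdeal {l : ℕ} (f : Fin l → R) :
    (Fin l → R) →ₗ[R] (Ideal.span (Set.range f) : Ideal R) :=
  LinearMap.codRestrict _ (Fintype.linearCombination R f) (fun v => by
    have : Fintype.linearCombination R f v ∈ LinearMap.range (Fintype.linearCombination R f) :=
      LinearMap.mem_range_self _ v
    rw [Fintype.range_linearCombination] at this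
    exact this)

theorem toIdeal_surjective {l : ℕ} (f : Fin l → R) : Function.Surjective (toIdeal f) := by
  rintro ⟨x, hx⟩
  have : x ∈ LinearMap.range (Fintype.linearCombination R f) := by
    rw [Fintype.range_linearCombination]; exact hx
  obtain ⟨v, hv⟩ := this
  exact ⟨v, Subtype.ext hv⟩

theorem mem_ker_toIdeal {l : ℕ} (f : Fin l → R) (v : Fin l → R) :
    v ∈ LinearMap.ker (toIdeal f) ↔ ∑ i, f i * v i = 0 := by
  rw [LinearMap.mem_ker, toIdeal, ← Subtype.coe_inj]
  simp only [LinearMap.codRestrict_apply, Fintype.linearCombination_apply, smul_eq_mul,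
    ZeroMemClass.coe_zero]
  simp only [mul_comm]

end

/-- A ring `R` is coherent — every finitely generated ideal is a finitely presented module — if and only
if for every index set `A` (in the same universe) the product module `R^A` is flat. -/
theorem result {R : Type u} [CommRing R] :
    (∀ I : Ideal R, I.FG → Module.FinitePresentation R I) ↔ ∀ (A : Type u), Module.Flat R (A → R) := by
  constructor
  · intro hcoh A
    refine Module.Flat.of_forall_isTrivialRelation ?_
    intro l f x hfx
    have hfp : Module.FinitePresentation R (Ideal.span (Set.range f) : Ideal R) :=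
      hcoh _ (Submodule.fg_span (Set.finite_range f))
    have hK : (LinearMap.ker (toIdeal f)).FG :=
      Module.FinitePresentation.fg_ker (toIdeal f) (toIdeal_surjective f)
    obtain ⟨m, k, hk⟩ := Submodule.fg_iff_exists_fin_generating_family.mp hK
    have hkmem : ∀ j, k j ∈ LinearMap.ker (toIdeal f) := fun j => by
      rw [← hk]; exact Submodule.subset_span ⟨j, rfl⟩
    have hv : ∀ α : A, ∃ z : Fin m → R, ∑ j, z j • k j = fun i => x i α := by
      intro α
      apply (Submodule.mem_span_range_iff_exists_fun R).mp
      rw [hk, mem_ker_toIdeal]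
      have := congrFun hfx α
      simpa using this
    choose z hz using hv
    refine ⟨m, fun i j => k j i, fun j α => z α j, ?_, ?_⟩
    · intro i
      ext α
      have := congrFun (hz α) i
      simp only [Finset.sum_apply, Pi.smul_apply, smul_eq_mul] at this ⊢
      rw [← this]
      exact Finset.sum_congr rfl fun j _ => mul_comm _ _
    · intro j
      exact (mem_ker_toIdeal f (k j)).mp (hkmem j)
  · intro hflat I hI
    obtain ⟨l, f, hf⟩ := Submodule.fg_iff_exists_fin_generating_family.mp hI
    have hI' : I = Ideal.span (Set.range f) := hf.symm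
    subst hI'
    rw [← Module.FinitePresentation.fg_ker_iff (toIdeal f) (toIdeal_surjective f)]
    -- the index set is the kernel itself
    let K := LinearMap.ker (toIdeal f)
    have := hflat K
    let x : Fin l → (K → R) := fun i κ => κ.1 i
    have hfx : ∑ i, f i • x i = 0 := by
      ext κ
      have := (mem_ker_toIdeal f κ.1).mp κ.2
      simpa [x] using this
    obtain ⟨m, a, y, hxy, ha⟩ := Module.Flat.isTrivialRelation_of_sum_smul_eq_zero hfx
    rw [Submodule.fg_iff_exists_fin_generating_family]
    refine ⟨m, fun j i => a i j, le_antisymm ?_ ?_⟩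
    · rw [Submodule.span_le]
      rintro _ ⟨j, rfl⟩
      exact (mem_ker_toIdeal f _).mpr (ha j)
    · intro κ hκ
      apply (Submodule.mem_span_range_iff_exists_fun R).mpr
      refine ⟨fun j => y j ⟨κ, hκ⟩, ?_⟩
      ext i
      have := congrFun (hxy i) ⟨κ, hκ⟩
      simp only [Finset.sum_apply, Pi.smul_apply, smul_eq_mul, x] at this ⊢
      rw [this]
      exact Finset.sum_congr rfl fun j _ => mul_comm _ _

end Groth.Agent.S2163
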