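import Groth.Statements.S2165
import Groth.Agent.S19474
import Groth.Agent.Lib.Helper24.CplQuot
import Mathlib

set_option autoImplicit false
universe u
open LCI

namespace Groth.Agent.S2165

/-- Let R be a regular ring, p a prime ideal of R and f_1, ..., f_r a regular sequence of R contained in
p. Then the local ring R_p/(f_1, ..., f_r) is a complete intersection: its completion is a regular
local ring modulo a regular sequence. The instance hypothesis that the quotient is local always
holds. -/
theorem result {R : Type u} [CommRing R] [IsRegularRing R]
    (p : Ideal R) [p.IsPrime] (rs : List R) (hmem : ∀ r ∈ rs, r ∈ p)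
    (hreg : RingTheory.Sequence.IsRegular R rs)
    [IsLocalRing (Localization.AtPrime p ⧸
      Ideal.map (algebraMap R (Localization.AtPrime p)) (Ideal.ofList rs))] :
    Pi1.IsCompleteIntersection (Localization.AtPrime p ⧸
      Ideal.map (algebraMap R (Localization.AtPrime p)) (Ideal.ofList rs)) := by
  classical
  haveI hAreg : IsRegularLocalRing (Localization.AtPrime p) := inferInstance
  haveI : IsNoetherianRing (Localization.AtPrime p) := inferInstance
  have hBreg : IsRegularLocalRing (AdicCompletion (IsLocalRing.maximalIdeal (Localization.AtPrime p))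
      (Localization.AtPrime p)) :=
    ((Groth.Agent.S19474.result (Localization.AtPrime p)
      (IsLocalRing.maximalIdeal (Localization.AtPrime p)) Ideal.IsPrime.ne_top').2).mp hAreg
  have hregA : RingTheory.Sequence.IsRegular (Localization.AtPrime p)
      (rs.map (algebraMap R (Localization.AtPrime p))) :=
    hreg.toIsWeaklyRegular.isRegular_of_isLocalization_of_mem (Localization.AtPrime p) p hmem
  haveI hlocB : IsLocalRing (AdicCompletion (IsLocalRing.maximalIdeal (Localization.AtPrime p))
      (Localization.AtPrime p)) := hBreg.toIsLocalRing
  haveI : IsLocalHom (algebraMap (Localization.AtPrime p)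
      (AdicCompletion (IsLocalRing.maximalIdeal (Localization.AtPrime p))
        (Localization.AtPrime p))) := by
    apply ((IsLocalRing.local_hom_TFAE _).out 0 2).mpr
    rw [← AdicCompletion.maximalIdeal_eq_map]
  haveI : Module.FaithfullyFlat (Localization.AtPrime p)
      (AdicCompletion (IsLocalRing.maximalIdeal (Localization.AtPrime p))
        (Localization.AtPrime p)) := Module.FaithfullyFlat.of_flat_of_isLocalHom
  have hregB := hregA.of_faithfullyFlat (S := AdicCompletion
    (IsLocalRing.maximalIdeal (Localization.AtPrime p)) (Localization.AtPrime p))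
  refine ⟨_, inferInstance, hBreg, _, ?_, hregB, ⟨?_⟩⟩
  · intro r hr
    obtain ⟨a, ha, rfl⟩ := List.mem_map.mp hr
    obtain ⟨b, hb, rfl⟩ := List.mem_map.mp ha
    rw [AdicCompletion.maximalIdeal_eq_map]
    apply Ideal.mem_map_of_mem
    rw [IsLocalization.AtPrime.to_map_mem_maximal_iff (Localization.AtPrime p) p]
    exact hmem b hb
  · refine (Groth.Agent.Lib.Helper24.CplQuot.equiv (Localization.AtPrime p)
      (Ideal.map (algebraMap R (Localization.AtPrime p)) (Ideal.ofList rs))).symm.trans
      (Ideal.quotEquivOfEq ?_)
    rw [Ideal.map_ofList, Ideal.map_ofList]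

end Groth.Agent.S2165
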