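import Groth.Statements.S2170
import Mathlib.Tactic.FieldSimp
import Mathlib.Tactic.Linarith
import Mathlib.Tactic.Ring

set_option autoImplicit false
open Finset
open Models

namespace Groth.Agent.S2170

/-- Let A be a symmetric real n × n matrix with non-negative off-diagonal entries and m a vector with
positive entries such that for every i, ∑_{j ≠ i} A_{ij} m_j ≤ −A_{ii} m_i. Then the kernel of A is
the span of the vectors equal to m on an index set I and zero off I, for those I such that A_{ij} =
0 whenever i ∈ I and j ∉ I and such that equality holds in the above inequality for every i ∈ I. The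
published statement omits the symmetry of A (without which it fails) and applies it only to
symmetric matrices; stated here with A symmetric. -/
theorem result {n : ℕ} (A : Matrix (Fin n) (Fin n) ℝ) (m : Fin n → ℝ)
    (hsymm : A.IsSymm) (hA : ∀ i j, i ≠ j → 0 ≤ A i j) (hm : ∀ i, 0 < m i)
    (hle : ∀ i, ∑ j ∈ univ.erase i, A i j * m j ≤ -(A i i * m i)) :
    LinearMap.ker (Matrix.mulVecLin A) = Submodule.span ℝ
      {x : Fin n → ℝ | ∃ I : Finset (Fin n), (∀ i ∈ I, ∀ j ∉ I, A i j = 0) ∧
        (∀ i ∈ I, ∑ j ∈ univ.erase i, A i j * m j = -(A i i * m i)) ∧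
        x = fun i => if i ∈ I then m i else 0} := by
  classical
  have hrow : ∀ i, ∑ j, A i j * m j = A i i * m i + ∑ j ∈ univ.erase i, A i j * m j := by
    intro i
    rw [Finset.add_sum_erase univ (fun j => A i j * m j) (mem_univ i)]
  have hs : ∀ i j, A i j = A j i := fun i j => hsymm.apply j i
  apply le_antisymm
  · -- the kernel is contained in the span
    intro x hx
    rw [LinearMap.mem_ker, Matrix.mulVecLin_apply] at hx
    have hx' : ∀ i, ∑ j, A i j * x j = 0 := fun i => by
      have := congrFun hx i
      simpa [Matrix.mulVec, dotProduct] using this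
    set y : Fin n → ℝ := fun i => x i / m i with hy
    have hxy : ∀ i, x i = m i * y i := fun i => by
      simp only [hy]; field_simp [(hm i).ne']
    set r : Fin n → ℝ := fun i => ∑ j, A i j * m j with hr
    have hr_le : ∀ i, r i ≤ 0 := by
      intro i; simp only [hr]; rw [hrow i]; linarith [hle i]
    set B : Fin n → Fin n → ℝ := fun i j => m i * A i j * m j with hB
    have hBs : ∀ i j, B i j = B j i := fun i j => by simp only [hB]; rw [hs i j]; ring
    have hBnn : ∀ i j, i ≠ j → 0 ≤ B i j := fun i j hij => by
      simp only [hB]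
      exact mul_nonneg (mul_nonneg (hm i).le (hA i j hij)) (hm j).le
    -- the three double sums
    have hS12 : ∑ i, ∑ j, B i j * y i ^ 2 = ∑ i, ∑ j, B i j * y j ^ 2 := by
      rw [Finset.sum_comm]
      refine Finset.sum_congr rfl fun a _ => Finset.sum_congr rfl fun b _ => ?_
      rw [hBs b a]
    have hT1 : ∑ i, m i * r i * y i ^ 2 = ∑ i, ∑ j, B i j * y i ^ 2 := by
      refine Finset.sum_congr rfl fun i _ => ?_
      simp only [hr, hB, Finset.mul_sum, Finset.sum_mul]
      refine Finset.sum_congr rfl fun j _ => ?_
      ring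
    have hT2 : ∑ i, ∑ j, B i j * (y i - y j) ^ 2 =
        ∑ i, ∑ j, B i j * y i ^ 2 - 2 * ∑ i, ∑ j, B i j * (y i * y j)
          + ∑ i, ∑ j, B i j * y j ^ 2 := by
      simp only [Finset.mul_sum, ← Finset.sum_sub_distrib, ← Finset.sum_add_distrib]
      refine Finset.sum_congr rfl fun i _ => Finset.sum_congr rfl fun j _ => ?_
      ring
    have h0 : ∑ i, ∑ j, B i j * (y i * y j) = 0 := by
      have : ∀ i, ∑ j, B i j * (y i * y j) = m i * y i * ∑ j, A i j * x j := by
        intro i
        rw [Finset.mul_sum]
        refine Finset.sum_congr rfl fun j _ => ?_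
        simp only [hB]; rw [hxy j]; ring
      simp only [this, hx', mul_zero, Finset.sum_const_zero]
    have hT1le : ∀ i ∈ (univ : Finset (Fin n)), m i * r i * y i ^ 2 ≤ 0 := fun i _ =>
      mul_nonpos_of_nonpos_of_nonneg (mul_nonpos_of_nonneg_of_nonpos (hm i).le (hr_le i))
        (sq_nonneg _)
    have hterm : ∀ i j, 0 ≤ B i j * (y i - y j) ^ 2 := fun i j => by
      by_cases hij : i = j
      · subst hij; simp
      · exact mul_nonneg (hBnn i j hij) (sq_nonneg _)
    have hT2in : ∀ i ∈ (univ : Finset (Fin n)), 0 ≤ ∑ j, B i j * (y i - y j) ^ 2 := fun i _ =>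
      Finset.sum_nonneg fun j _ => hterm i j
    have hT1np : ∑ i, m i * r i * y i ^ 2 ≤ 0 := Finset.sum_nonpos hT1le
    have hT2nn : 0 ≤ ∑ i, ∑ j, B i j * (y i - y j) ^ 2 := Finset.sum_nonneg hT2in
    have hT1z : ∑ i, m i * r i * y i ^ 2 = 0 := by
      rw [hT2, h0, ← hS12, ← hT1] at hT2nn
      linarith
    have hT2z : ∑ i, ∑ j, B i j * (y i - y j) ^ 2 = 0 := by
      rw [hT2, h0, ← hS12, ← hT1, hT1z]; ring
    have ha : ∀ i, r i = 0 ∨ y i = 0 := by
      intro i
      have := (Finset.sum_eq_zero_iff_of_nonpos hT1le).1 hT1z i (mem_univ i)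
      rcases mul_eq_zero.1 this with h | h
      · rcases mul_eq_zero.1 h with h | h
        · exact absurd h (hm i).ne'
        · exact Or.inl h
      · exact Or.inr (by simpa using h)
    have hb : ∀ i j, i ≠ j → y i ≠ y j → A i j = 0 := by
      intro i j hij hyij
      have h1 := (Finset.sum_eq_zero_iff_of_nonneg hT2in).1 hT2z i (mem_univ i)
      have h2 := (Finset.sum_eq_zero_iff_of_nonneg (fun j _ => hterm i j)).1 h1 j (mem_univ j)
      rcases mul_eq_zero.1 h2 with h | h
      · simp only [hB] at h
        rcases mul_eq_zero.1 h with h | h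
        · rcases mul_eq_zero.1 h with h | h
          · exact absurd h (hm i).ne'
          · exact h
        · exact absurd h (hm j).ne'
      · exact absurd (sub_eq_zero.1 (by simpa using h)) hyij
    -- decomposition of x
    set vals : Finset ℝ := (univ.image y).erase 0 with hvals
    have hdecomp : x = ∑ c ∈ vals, c • (fun i => if i ∈ univ.filter (fun i => y i = c) then m i else 0) := by
      ext i
      rw [Finset.sum_apply]
      simp only [Pi.smul_apply, smul_eq_mul, Finset.mem_filter, Finset.mem_univ, true_and, mul_ite,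
        mul_zero]
      rw [Finset.sum_ite_eq]
      by_cases hyi : y i ∈ vals
      · rw [if_pos hyi, hxy i]; ring
      · rw [if_neg hyi]
        have : y i = 0 := by
          by_contra h
          exact hyi (Finset.mem_erase.2 ⟨h, Finset.mem_image_of_mem y (mem_univ i)⟩)
        rw [hxy i, this, mul_zero]
    rw [hdecomp]
    refine Submodule.sum_mem _ fun c hc => Submodule.smul_mem _ _ (Submodule.subset_span ?_)
    have hc0 : c ≠ 0 := (Finset.mem_erase.1 hc).1
    refine ⟨univ.filter (fun i => y i = c), ?_, ?_, rfl⟩
    · intro i hi j hj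
      simp only [Finset.mem_filter, Finset.mem_univ, true_and] at hi hj
      have hyij : y i ≠ y j := by rw [hi]; exact fun h => hj h.symm
      have hij : i ≠ j := fun h => hyij (by rw [h])
      exact hb i j hij hyij
    · intro i hi
      simp only [Finset.mem_filter, Finset.mem_univ, true_and] at hi
      have hri : r i = 0 := by
        rcases ha i with h | h
        · exact h
        · exact absurd (hi ▸ h) hc0
      simp only [hr] at hri
      rw [hrow i] at hri
      linarith
  · -- the span is contained in the kernel
    rw [Submodule.span_le]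
    rintro x ⟨I, h1, h2, rfl⟩
    rw [SetLike.mem_coe, LinearMap.mem_ker, Matrix.mulVecLin_apply]
    ext i
    simp only [Matrix.mulVec, dotProduct, Pi.zero_apply]
    by_cases hi : i ∈ I
    · have : ∑ j, A i j * (if j ∈ I then m j else 0) = ∑ j, A i j * m j := by
        refine Finset.sum_congr rfl fun j _ => ?_
        by_cases hj : j ∈ I
        · rw [if_pos hj]
        · rw [if_neg hj, h1 i hi j hj]; ring
      rw [this, hrow i, h2 i hi]; ring
    · refine Finset.sum_eq_zero fun j _ => ?_
      by_cases hj : j ∈ I
      · rw [hs i j, h1 j hj i hi]; ring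
      · rw [if_neg hj]; ring

end Groth.Agent.S2170
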