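import Groth.Statements.S2171
import Mathlib

set_option autoImplicit false
open Finset
open Models

namespace Groth.Agent.S2171

/-- Let A be a symmetric real n by n matrix with non-negative off-diagonal entries, m a vector with
positive entries such that A m = 0, and assume no proper non-empty index set I has A i j = 0 for all
i in I and j outside I. Then x^t A x is at most 0 for every real vector x, with equality exactly
when x is a real multiple of m. -/
theorem result {n : ℕ} (A : Matrix (Fin n) (Fin n) ℝ)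
    (m : Fin n → ℝ) (hsymm : A.IsSymm) (hA : ∀ i j, i ≠ j → 0 ≤ A i j) (hm : ∀ i, 0 < m i)
    (hAm : A.mulVec m = 0)
    (hconn : ∀ I : Finset (Fin n), I.Nonempty → I ≠ univ → ∃ i ∈ I, ∃ j ∉ I, A i j ≠ 0)
    (x : Fin n → ℝ) :
    dotProduct x (A.mulVec x) ≤ 0 ∧ (dotProduct x (A.mulVec x) = 0 ↔ ∃ q : ℝ, x = q • m) := by
  classical
  have hs : ∀ i j, A i j = A j i := fun i j => hsymm.apply j i
  have hrow : ∀ i, ∑ j, A i j * m j = 0 := by
    intro i
    have := congrFun hAm i
    simpa [Matrix.mulVec, dotProduct] using this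
  set y : Fin n → ℝ := fun i => x i / m i with hy
  have hxy : ∀ i, x i = m i * y i := fun i => by
    simp only [hy]; field_simp [(hm i).ne']
  set B : Fin n → Fin n → ℝ := fun i j => m i * A i j * m j with hB
  have hBs : ∀ i j, B i j = B j i := fun i j => by simp only [hB]; rw [hs i j]; ring
  have hBnn : ∀ i j, i ≠ j → 0 ≤ B i j := fun i j hij => by
    simp only [hB]
    exact mul_nonneg (mul_nonneg (hm i).le (hA i j hij)) (hm j).le
  have hBrow : ∀ i, ∑ j, B i j = 0 := by
    intro i
    have : ∑ j, B i j = m i * ∑ j, A i j * m j := by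
      rw [Finset.mul_sum]
      refine Finset.sum_congr rfl fun j _ => ?_
      simp only [hB]; ring
    rw [this, hrow i, mul_zero]
  have hQ : dotProduct x (A.mulVec x) = ∑ i, ∑ j, B i j * (y i * y j) := by
    simp only [dotProduct, Matrix.mulVec, Finset.mul_sum]
    refine Finset.sum_congr rfl fun i _ => Finset.sum_congr rfl fun j _ => ?_
    simp only [hB]; rw [hxy i, hxy j]; ring
  have hS1 : ∑ i, ∑ j, B i j * y i ^ 2 = 0 := by
    have : ∀ i, ∑ j, B i j * y i ^ 2 = (∑ j, B i j) * y i ^ 2 := fun i => by rw [Finset.sum_mul]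
    simp only [this, hBrow, zero_mul, Finset.sum_const_zero]
  have hS2 : ∑ i, ∑ j, B i j * y j ^ 2 = 0 := by
    rw [Finset.sum_comm]
    rw [← hS1]
    refine Finset.sum_congr rfl fun a _ => Finset.sum_congr rfl fun b _ => ?_
    rw [hBs b a]
  have hT2 : ∑ i, ∑ j, B i j * (y i - y j) ^ 2 =
      ∑ i, ∑ j, B i j * y i ^ 2 - 2 * ∑ i, ∑ j, B i j * (y i * y j)
        + ∑ i, ∑ j, B i j * y j ^ 2 := by
    simp only [Finset.mul_sum, ← Finset.sum_sub_distrib, ← Finset.sum_add_distrib]
    refine Finset.sum_congr rfl fun i _ => Finset.sum_congr rfl fun j _ => ?_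
    ring
  rw [hS1, hS2, ← hQ] at hT2
  have hterm : ∀ i j, 0 ≤ B i j * (y i - y j) ^ 2 := fun i j => by
    by_cases hij : i = j
    · subst hij; simp
    · exact mul_nonneg (hBnn i j hij) (sq_nonneg _)
  have hT2in : ∀ i ∈ (univ : Finset (Fin n)), 0 ≤ ∑ j, B i j * (y i - y j) ^ 2 := fun i _ =>
    Finset.sum_nonneg fun j _ => hterm i j
  have hT2nn : 0 ≤ ∑ i, ∑ j, B i j * (y i - y j) ^ 2 := Finset.sum_nonneg hT2in
  refine ⟨by linarith, ⟨fun h0 => ?_, ?_⟩⟩
  · -- equality forces `y` to be constant
    have hT2z : ∑ i, ∑ j, B i j * (y i - y j) ^ 2 = 0 := by rw [hT2, h0]; ring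
    have hb : ∀ i j, A i j ≠ 0 → y i = y j := by
      intro i j hAij
      have h1 := (Finset.sum_eq_zero_iff_of_nonneg hT2in).1 hT2z i (mem_univ i)
      have h2 := (Finset.sum_eq_zero_iff_of_nonneg (fun j _ => hterm i j)).1 h1 j (mem_univ j)
      rcases mul_eq_zero.1 h2 with h | h
      · simp only [hB] at h
        rcases mul_eq_zero.1 h with h | h
        · rcases mul_eq_zero.1 h with h | h
          · exact absurd h (hm i).ne'
          · exact absurd h hAij
        · exact absurd h (hm j).ne'
      · exact sub_eq_zero.1 (by simpa using h)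
    rcases Nat.eq_zero_or_pos n with hn | hn
    · subst hn
      exact ⟨0, funext fun i => i.elim0⟩
    · let i₀ : Fin n := ⟨0, hn⟩
      refine ⟨y i₀, funext fun i => ?_⟩
      have huniv : univ.filter (fun i => y i = y i₀) = univ := by
        by_contra hne
        obtain ⟨a, ha, b, hb', hab⟩ := hconn (univ.filter (fun i => y i = y i₀))
          ⟨i₀, by simp⟩ hne
        simp only [Finset.mem_filter, Finset.mem_univ, true_and] at ha hb'
        exact hb' ((hb a b hab).symm.trans ha)
      have hi : i ∈ univ.filter (fun i => y i = y i₀) := by rw [huniv]; exact mem_univ i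
      simp only [Finset.mem_filter, Finset.mem_univ, true_and] at hi
      rw [Pi.smul_apply, smul_eq_mul, hxy i, hi]; ring
  · rintro ⟨q, rfl⟩
    rw [Matrix.mulVec_smul, hAm, smul_zero, dotProduct_zero]

end Groth.Agent.S2171
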