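import Groth.Statements.S2172
import Mathlib

set_option autoImplicit false
open Finset
open Models

namespace Groth.Agent.S2172



/-- Let A be a symmetric integer n by n matrix with non-negative off-diagonal entries killing an integer
vector m with positive entries, such that no proper non-empty index set is orthogonal to its
complement. Write e for the number of index pairs i < j where A i j > 0, and let l be a prime
dividing none of the nonzero entries of A and none of the m i. Then the l-torsion subgroup of the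
cokernel of A on Z^n has at most l^(1 - n + e) elements, i.e. F_l-dimension at most 1 - n + e (the
exponent is written with truncated subtraction; e + 1 is never smaller than n here). -/
theorem result {n : ℕ} (A : Matrix (Fin n) (Fin n) ℤ)
    (m : Fin n → ℤ) (hsymm : A.IsSymm) (hA : ∀ i j, i ≠ j → 0 ≤ A i j) (hm : ∀ i, 0 < m i)
    (hAm : A.mulVec m = 0)
    (hconn : ∀ I : Finset (Fin n), I.Nonempty → I ≠ univ → ∃ i ∈ I, ∃ j ∉ I, A i j ≠ 0)
    (ℓ : ℕ) (hℓ : ℓ.Prime) (hℓA : ∀ i j, A i j ≠ 0 → ¬ ((ℓ : ℤ) ∣ A i j))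
    (hℓm : ∀ i, ¬ ((ℓ : ℤ) ∣ m i)) :
    Nat.card (Submodule.torsionBy ℤ ((Fin n → ℤ) ⧸ LinearMap.range (Matrix.mulVecLin A)) (ℓ : ℤ))
      ≤ ℓ ^ ((univ.filter fun p : Fin n × Fin n => p.1 < p.2 ∧ 0 < A p.1 p.2).card + 1 - n) := by
  classical
  rcases Nat.eq_zero_or_pos n with hn0 | hnpos
  · subst hn0
    have hsub : Subsingleton (Submodule.torsionBy ℤ
        ((Fin 0 → ℤ) ⧸ LinearMap.range (Matrix.mulVecLin A)) (ℓ : ℤ)) := by
      constructor
      intro a b
      apply Subtype.ext
      obtain ⟨x, hx⟩ := Submodule.Quotient.mk_surjective _ a.1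
      obtain ⟨y, hy⟩ := Submodule.Quotient.mk_surjective _ b.1
      rw [← hx, ← hy, Subsingleton.elim x y]
    rw [Nat.card_of_subsingleton (0 : Submodule.torsionBy ℤ
        ((Fin 0 → ℤ) ⧸ LinearMap.range (Matrix.mulVecLin A)) (ℓ : ℤ))]
    exact Nat.one_le_pow _ _ hℓ.pos
  have : Fact ℓ.Prime := ⟨hℓ⟩
  let i0 : Fin n := ⟨0, hnpos⟩
  have hsym : ∀ i j, A j i = A i j := fun i j => by
    have := congrFun (congrFun hsymm i) j
    simpa [Matrix.transpose_apply] using this
  let μ : Fin n → ZMod ℓ := fun i => (m i : ZMod ℓ)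
  have hμ : ∀ i, μ i ≠ 0 := fun i h => hℓm i ((ZMod.intCast_zmod_eq_zero_iff_dvd _ _).mp h)
  let a : Fin n → Fin n → ZMod ℓ := fun i j => (A i j : ZMod ℓ)
  have ha_ne : ∀ i j, A i j ≠ 0 → a i j ≠ 0 := fun i j h h' =>
    hℓA i j h ((ZMod.intCast_zmod_eq_zero_iff_dvd _ _).mp h')
  have ha_sym : ∀ i j, a j i = a i j := fun i j => by
    simp only [a]; rw [hsym]
  have haμ : ∀ i, ∑ j, a i j * μ j = 0 := by
    intro i
    have h1 := congrFun hAm i
    simp only [Matrix.mulVec, dotProduct, Pi.zero_apply] at h1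
    have h2 := congrArg (Int.cast : ℤ → ZMod ℓ) h1
    push_cast at h2
    exact h2
  obtain ⟨E, hE⟩ : ∃ E : Finset (Fin n × Fin n),
      E = univ.filter (fun p : Fin n × Fin n => p.1 < p.2 ∧ 0 < A p.1 p.2) := ⟨_, rfl⟩
  rw [← hE]
  -- connectedness lemma
  have hCL : ∀ u : Fin n → ZMod ℓ, (∀ p ∈ E, u p.1 = u p.2) → ∀ i j, u i = u j := by
    intro u hu
    have key : ∀ i, u i = u i0 := by
      by_contra hcon
      rw [not_forall] at hcon
      obtain ⟨k, hk⟩ := hcon
      obtain ⟨i, hi, j, hj, hij⟩ := hconn (univ.filter (fun i => u i = u i0)) ⟨i0, by simp⟩ (by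
        intro h
        have h1 : k ∈ univ.filter (fun i => u i = u i0) := by rw [h]; exact Finset.mem_univ k
        exact hk (Finset.mem_filter.mp h1).2)
      rw [Finset.mem_filter] at hi hj
      have hne : i ≠ j := by
        rintro rfl
        exact hj hi
      have hpos : 0 < A i j := lt_of_le_of_ne (hA i j hne) (Ne.symm hij)
      apply hj
      refine ⟨Finset.mem_univ _, ?_⟩
      rcases lt_or_gt_of_ne hne with h | h
      · have h1 := hu (i, j) (by rw [hE, Finset.mem_filter]; exact ⟨Finset.mem_univ _, h, hpos⟩)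
        simp only at h1
        rw [← h1]; exact hi.2
      · have h1 := hu (j, i) (by
          rw [hE, Finset.mem_filter]
          exact ⟨Finset.mem_univ _, h, by rw [hsym i j]; exact hpos⟩)
        simp only at h1
        rw [h1]; exact hi.2
    intro i j
    rw [key i, key j]
  -- incidence matrix
  let c : Fin n × Fin n → ZMod ℓ := fun p => a p.1 p.2 * μ p.1 * μ p.2
  have hc : ∀ p ∈ E, c p ≠ 0 := by
    intro p hp
    rw [hE, Finset.mem_filter] at hp
    exact mul_ne_zero (mul_ne_zero (ha_ne _ _ hp.2.2.ne') (hμ _)) (hμ _)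
  let D : Matrix E (Fin n) (ZMod ℓ) := Matrix.of fun p i =>
    c p.1 * ((if i = p.1.2 then 1 else 0) - (if i = p.1.1 then 1 else 0))
  have hD : ∀ (u : Fin n → ZMod ℓ) (p : E), (D.mulVec u) p = c p.1 * (u p.1.2 - u p.1.1) := by
    intro u p
    simp only [Matrix.mulVec, dotProduct, D, Matrix.of_apply]
    simp only [mul_sub, sub_mul, mul_ite, mul_one, mul_zero, ite_mul, zero_mul,
      Finset.sum_sub_distrib, Finset.sum_ite_eq', Finset.mem_univ, if_true]
  have hkerD : ∀ u : Fin n → ZMod ℓ, D.mulVec u = 0 → ∀ i j, u i = u j := by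
    intro u hu
    apply hCL
    intro p hp
    have h1 : c p * (u p.2 - u p.1) = 0 := by
      have h2 := congrFun hu ⟨p, hp⟩
      rw [hD] at h2
      exact h2
    have h2 := (mul_eq_zero.mp h1).resolve_left (hc p hp)
    exact (sub_eq_zero.mp h2).symm
  have hrank : n ≤ D.rank + 1 := by
    have h1 := LinearMap.finrank_range_add_finrank_ker D.mulVecLin
    rw [Module.finrank_fin_fun] at h1
    have h2 : Module.finrank (ZMod ℓ) (LinearMap.ker D.mulVecLin) ≤ 1 := by
      have hle : LinearMap.ker D.mulVecLin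
          ≤ Submodule.span (ZMod ℓ) {(fun _ => 1 : Fin n → ZMod ℓ)} := by
        intro u hu
        rw [LinearMap.mem_ker, Matrix.mulVecLin_apply] at hu
        rw [Submodule.mem_span_singleton]
        refine ⟨u i0, ?_⟩
        ext i
        simp only [Pi.smul_apply, smul_eq_mul, mul_one]
        exact hkerD u hu i0 i
      refine le_trans (Submodule.finrank_mono hle) ?_
      have hv : (fun _ => 1 : Fin n → ZMod ℓ) ≠ 0 := fun h => one_ne_zero (congrFun h i0)
      exact (finrank_span_singleton hv).le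
    have h3 : D.rank = Module.finrank (ZMod ℓ) (LinearMap.range D.mulVecLin) := rfl
    omega
  have hker : Module.finrank (ZMod ℓ) (LinearMap.ker D.transpose.mulVecLin) + n ≤ E.card + 1 := by
    have h1 := LinearMap.finrank_range_add_finrank_ker D.transpose.mulVecLin
    rw [Module.finrank_fintype_fun_eq_card, Fintype.card_coe] at h1
    have h3 : D.transpose.rank = Module.finrank (ZMod ℓ) (LinearMap.range D.transpose.mulVecLin) := rfl
    have h4 := Matrix.rank_transpose D
    omega
  -- the map Φ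
  let Φ : (Fin n → ZMod ℓ) →ₗ[ZMod ℓ] (E → ZMod ℓ) :=
    { toFun := fun y p => y p.1.2 * (μ p.1.2)⁻¹ - y p.1.1 * (μ p.1.1)⁻¹
      map_add' := fun y z => by ext p; simp only [Pi.add_apply]; ring
      map_smul' := fun t y => by
        ext p; simp only [Pi.smul_apply, smul_eq_mul, RingHom.id_apply]; ring }
  have hΦ : ∀ y (p : E), Φ y p = y p.1.2 * (μ p.1.2)⁻¹ - y p.1.1 * (μ p.1.1)⁻¹ := fun _ _ => rfl
  have hF2 : ∀ y : Fin n → ZMod ℓ, Φ y = 0 → ∃ t : ZMod ℓ, ∀ i, y i = t * μ i := by
    intro y hy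
    have h1 := hCL (fun i => y i * (μ i)⁻¹) (by
      intro p hp
      have h2 : y p.2 * (μ p.2)⁻¹ - y p.1 * (μ p.1)⁻¹ = 0 := by
        have h3 := congrFun hy ⟨p, hp⟩
        rw [hΦ] at h3
        exact h3
      exact (sub_eq_zero.mp h2).symm)
    refine ⟨y i0 * (μ i0)⁻¹, fun i => ?_⟩
    have h2 : y i * (μ i)⁻¹ = y i0 * (μ i0)⁻¹ := h1 i i0
    rw [← h2, mul_assoc, inv_mul_cancel₀ (hμ i), mul_one]
  have hF1 : ∀ y : Fin n → ZMod ℓ, (∀ i, ∑ j, a i j * y j = 0) → D.transpose.mulVec (Φ y) = 0 := by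
    intro y hy
    ext i
    let u : Fin n → ZMod ℓ := fun j => y j * (μ j)⁻¹
    have hu : ∀ j, μ j * u j = y j := fun j => by
      simp only [u]
      rw [mul_comm (y j), ← mul_assoc, mul_inv_cancel₀ (hμ j), one_mul]
    let S : Fin n → Fin n → ZMod ℓ := fun x z =>
      if (x < z ∧ 0 < A x z) then c (x, z) * (u z - u x) else 0
    let G : Fin n × Fin n → ZMod ℓ := fun p =>
      c p * ((if i = p.2 then 1 else 0) - (if i = p.1 then 1 else 0)) * (u p.2 - u p.1)
    have h0 : (D.transpose.mulVec (Φ y)) i = ∑ p : E, G p.1 := by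
      simp only [Matrix.mulVec, dotProduct, Matrix.transpose_apply]
      exact Finset.sum_congr rfl (fun p _ => rfl)
    have h1 : ∑ p : E, G p.1 = ∑ x, ∑ z, ((if i = z then S x z else 0) - (if i = x then S x z else 0)) := by
      rw [Finset.sum_coe_sort E G, hE, Finset.sum_filter, Fintype.sum_prod_type]
      apply Finset.sum_congr rfl
      intro x _
      apply Finset.sum_congr rfl
      intro z _
      simp only [S, G]
      split_ifs <;> ring
    have h3 : ∑ x, ∑ z, ((if i = z then S x z else 0) - (if i = x then S x z else 0))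
        = ∑ x, S x i - ∑ z, S i z := by
      simp only [Finset.sum_sub_distrib, Finset.sum_ite_eq, Finset.mem_univ, if_true]
      congr 1
      rw [Finset.sum_comm]
      simp only [Finset.sum_ite_eq, Finset.mem_univ, if_true]
    have hS : ∀ j, S j i - S i j = -(a i j * μ i * μ j * (u j - u i)) := by
      intro j
      simp only [S, c]
      rcases lt_trichotomy j i with h | h | h
      · have h' : ¬ (i < j ∧ 0 < A i j) := fun hh => absurd hh.1 (not_lt.mpr h.le)
        rw [if_neg h']
        by_cases hp : 0 < A j i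
        · rw [if_pos ⟨h, hp⟩, ha_sym i j]
          ring
        · have h0 : A j i = 0 := le_antisymm (not_lt.mp hp) (hA j i h.ne)
          have h0' : a i j = 0 := by
            simp only [a]; rw [← hsym i j, h0]; simp
          rw [if_neg (fun hh => hp hh.2), h0']; ring
      · subst h
        rw [if_neg (fun hh => lt_irrefl _ hh.1)]
        ring
      · have h' : ¬ (j < i ∧ 0 < A j i) := fun hh => absurd hh.1 (not_lt.mpr h.le)
        rw [if_neg h']
        by_cases hp : 0 < A i j
        · rw [if_pos ⟨h, hp⟩]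
          ring
        · have h0 : A i j = 0 := le_antisymm (not_lt.mp hp) (hA i j h.ne)
          have h0' : a i j = 0 := by
            simp only [a]; rw [h0]; simp
          rw [if_neg (fun hh => hp hh.2), h0']; ring
    have h5 : ∑ j, a i j * μ i * μ j * (u j - u i) = 0 := by
      have h6 : ∀ j, a i j * μ i * μ j * (u j - u i)
          = μ i * (a i j * y j) - μ i * u i * (a i j * μ j) := by
        intro j; rw [← hu j]; ring
      simp only [h6]
      rw [Finset.sum_sub_distrib, ← Finset.mul_sum, ← Finset.mul_sum, hy i, haμ i]; ring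
    rw [h0, h1, h3, ← Finset.sum_sub_distrib]
    simp only [hS, Finset.sum_neg_distrib, h5, neg_zero, Pi.zero_apply]
  -- the injection
  have key : ∀ ξ : Submodule.torsionBy ℤ
      ((Fin n → ℤ) ⧸ LinearMap.range (Matrix.mulVecLin A)) (ℓ : ℤ),
      ∃ x y : Fin n → ℤ, Submodule.Quotient.mk x = ξ.1 ∧ A.mulVec y = (ℓ : ℤ) • x := by
    intro ξ
    obtain ⟨x, hx⟩ := Submodule.Quotient.mk_surjective _ ξ.1
    have h1 : (ℓ : ℤ) • ξ.1 = 0 := (Submodule.mem_torsionBy_iff _ _).mp ξ.2
    rw [← hx, ← Submodule.Quotient.mk_smul, Submodule.Quotient.mk_eq_zero] at h1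
    obtain ⟨y, hy⟩ := h1
    exact ⟨x, y, hx, hy⟩
  choose X Y hX hY using key
  have hharm : ∀ ξ i, ∑ j, a i j * ((Y ξ j : ℤ) : ZMod ℓ) = 0 := by
    intro ξ i
    have h1 := congrFun (hY ξ) i
    simp only [Matrix.mulVec, dotProduct, Pi.smul_apply, smul_eq_mul] at h1
    have h2 := congrArg (Int.cast : ℤ → ZMod ℓ) h1
    push_cast at h2
    rw [h2]; simp
  let Ψ : Submodule.torsionBy ℤ ((Fin n → ℤ) ⧸ LinearMap.range (Matrix.mulVecLin A)) (ℓ : ℤ)
      → LinearMap.ker D.transpose.mulVecLin := fun ξ =>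
    ⟨Φ (fun i => ((Y ξ i : ℤ) : ZMod ℓ)), by
      rw [LinearMap.mem_ker, Matrix.mulVecLin_apply]
      exact hF1 _ (hharm ξ)⟩
  have hΨ : Function.Injective Ψ := by
    intro ξ η h
    have h1 : Φ (fun i => ((Y ξ i : ℤ) : ZMod ℓ)) = Φ (fun i => ((Y η i : ℤ) : ZMod ℓ)) :=
      congrArg Subtype.val h
    have h2 : Φ ((fun i => ((Y ξ i : ℤ) : ZMod ℓ)) - (fun i => ((Y η i : ℤ) : ZMod ℓ))) = 0 := by
      rw [map_sub, h1, sub_self]
    obtain ⟨t, ht⟩ := hF2 _ h2
    obtain ⟨t', rfl⟩ := ZMod.intCast_surjective t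
    have h3 : ∀ i, ∃ z : ℤ, Y ξ i - Y η i - t' * m i = (ℓ : ℤ) * z := by
      intro i
      have h4 := ht i
      simp only [Pi.sub_apply, μ] at h4
      have h5 : ((Y ξ i - Y η i - t' * m i : ℤ) : ZMod ℓ) = 0 := by
        push_cast; rw [h4]; ring
      exact (ZMod.intCast_zmod_eq_zero_iff_dvd _ _).mp h5
    choose z hz using h3
    apply Subtype.ext
    rw [← hX ξ, ← hX η, Submodule.Quotient.eq]
    refine ⟨z, ?_⟩
    rw [Matrix.mulVecLin_apply]
    have hℓ0 : (ℓ : ℤ) ≠ 0 := by exact_mod_cast hℓ.ne_zero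
    have h5 : (ℓ : ℤ) • A.mulVec z = (ℓ : ℤ) • (X ξ - X η) := by
      have e1 : Y ξ - Y η = t' • m + (ℓ : ℤ) • z := by
        ext i
        simp only [Pi.sub_apply, Pi.add_apply, Pi.smul_apply, smul_eq_mul]
        linarith [hz i]
      have e2 : A.mulVec (Y ξ - Y η) = (ℓ : ℤ) • (X ξ - X η) := by
        rw [Matrix.mulVec_sub, hY, hY, smul_sub]
      rw [e1, Matrix.mulVec_add, Matrix.mulVec_smul, hAm, smul_zero, zero_add,
        Matrix.mulVec_smul] at e2
      exact e2
    ext i
    have h6 := congrFun h5 i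
    simp only [Pi.smul_apply, smul_eq_mul] at h6
    exact mul_left_cancel₀ hℓ0 h6
  have hcard := Nat.card_le_card_of_injective Ψ hΨ
  refine hcard.trans ?_
  have : Fintype (LinearMap.ker D.transpose.mulVecLin) := Fintype.ofFinite _
  rw [Nat.card_eq_fintype_card, Module.card_eq_pow_finrank (K := ZMod ℓ), ZMod.card]
  apply Nat.pow_le_pow_right hℓ.pos
  omega


end Groth.Agent.S2172
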