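import Groth.Statements.S2173
import Mathlib

set_option autoImplicit false
open Finset
open Models Models.NumericalType

namespace Groth.Agent.S2173

/-- The total sum of a symmetric integer function on `Fin n × Fin n` is congruent mod 2 to its trace. -/
theorem symm_sum {n : ℕ} (f : Fin n → Fin n → ℤ) (hf : ∀ i j, f i j = f j i) :
    ∑ i, ∑ j, f i j = ∑ i, f i i + 2 * ∑ i, ∑ j, if i < j then f i j else 0 := by
  have h1 : ∀ i j, f i j = (if j < i then f i j else 0) + (if j = i then f i j else 0) +
      (if i < j then f i j else 0) := by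
    intro i j
    rcases lt_trichotomy i j with h | h | h
    · simp [h, not_lt.mpr h.le, h.ne']
    · subst h; simp
    · simp [h, not_lt.mpr h.le, h.ne]
  have h2 : ∑ i, ∑ j, (if j < i then f i j else 0) = ∑ i, ∑ j, if i < j then f i j else 0 := by
    rw [Finset.sum_comm]
    refine Finset.sum_congr rfl fun i _ => Finset.sum_congr rfl fun j _ => ?_
    rw [hf j i]
  have h3 : ∑ i, ∑ j, (if j = i then f i j else 0) = ∑ i, f i i := by
    refine Finset.sum_congr rfl fun i _ => ?_
    simp
  calc ∑ i, ∑ j, f i j
      = ∑ i, ∑ j, ((if j < i then f i j else 0) + (if j = i then f i j else 0) +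
          (if i < j then f i j else 0)) :=
        Finset.sum_congr rfl fun i _ => Finset.sum_congr rfl fun j _ => h1 i j
    _ = ∑ i, ∑ j, (if j < i then f i j else 0) + ∑ i, ∑ j, (if j = i then f i j else 0) +
          ∑ i, ∑ j, (if i < j then f i j else 0) := by
        simp only [Finset.sum_add_distrib]
    _ = _ := by rw [h2, h3]; ring

/-- For a numerical type the sum over i of m i * a i i is even; equivalently the rational number 1 + sum
m_i (w_i (g_i - 1) - a_ii / 2) defining the genus is an integer. -/
theorem result {n : ℕ} (T : Models.NumericalType n) : (2 : ℤ) ∣ ∑ i, T.m i * T.a i i := by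
  have hrow : ∀ i, ∑ j, T.a i j * T.m j = 0 := by
    intro i
    have := congrFun T.mulVec_m i
    simpa [Matrix.mulVec, dotProduct] using this
  have hs : ∀ i j, T.a i j = T.a j i := fun i j => T.symm.apply j i
  have hzero : ∑ i, ∑ j, T.m i * T.a i j * T.m j = 0 := by
    have : ∀ i, ∑ j, T.m i * T.a i j * T.m j = T.m i * ∑ j, T.a i j * T.m j := by
      intro i
      rw [Finset.mul_sum]
      refine Finset.sum_congr rfl fun j _ => ?_
      ring
    simp only [this, hrow, mul_zero, Finset.sum_const_zero]
  rw [symm_sum (fun i j => T.m i * T.a i j * T.m j) (fun i j => by rw [hs i j]; ring)] at hzero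
  have h2 : (2 : ℤ) ∣ ∑ i, T.m i * T.a i i * T.m i := by
    refine ⟨-∑ i, ∑ j, if i < j then T.m i * T.a i j * T.m j else 0, ?_⟩
    linarith
  have h3 : (2 : ℤ) ∣ ∑ i, (T.m i * T.a i i * T.m i - T.m i * T.a i i) := by
    refine Finset.dvd_sum fun i _ => ?_
    have : T.m i * T.a i i * T.m i - T.m i * T.a i i = T.a i i * (T.m i * (T.m i - 1)) := by ring
    rw [this]
    exact Dvd.dvd.mul_left (Int.even_mul_pred_self (T.m i)).two_dvd _
  have h4 : ∑ i, T.m i * T.a i i =
      ∑ i, T.m i * T.a i i * T.m i - ∑ i, (T.m i * T.a i i * T.m i - T.m i * T.a i i) := by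
    rw [Finset.sum_sub_distrib]; ring
  rw [h4]
  exact dvd_sub h2 h3

end Groth.Agent.S2173
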