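import Groth.Statements.S2174
import Mathlib

set_option autoImplicit false
open Finset
open Models Models.NumericalType

namespace Groth.Agent.S2174

/-- If a numerical type has n > 1 indices then every diagonal entry a i i of its matrix is negative. -/
theorem result {n : ℕ} (T : Models.NumericalType n) (hn : 1 < n) (i : Fin n) : T.a i i < 0 := by
  classical
  have hrow : ∑ j, T.a i j * T.m j = 0 := by
    have := congrFun T.mulVec_m i
    simpa [Matrix.mulVec, dotProduct] using this
  have hne : ({i} : Finset (Fin n)) ≠ univ := by
    intro h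
    have := congrArg Finset.card h
    simp at this
    omega
  obtain ⟨i', hi', j, hj, hij⟩ := T.connected {i} (Finset.singleton_nonempty i) hne
  rw [Finset.mem_singleton] at hi'
  subst hi'
  rw [Finset.mem_singleton] at hj
  have hij' : 0 < T.a i' j := lt_of_le_of_ne (T.offDiag_nonneg i' j (Ne.symm hj)) (Ne.symm hij)
  rw [← Finset.add_sum_erase univ _ (mem_univ i')] at hrow
  have hpos : 0 < ∑ x ∈ univ.erase i', T.a i' x * T.m x := by
    apply Finset.sum_pos'
    · intro x hx
      exact mul_nonneg (T.offDiag_nonneg i' x (Ne.symm (Finset.ne_of_mem_erase hx))) (T.m_pos x).le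
    · exact ⟨j, Finset.mem_erase.mpr ⟨hj, mem_univ j⟩, mul_pos hij' (T.m_pos j)⟩
  have hneg : T.a i' i' * T.m i' < 0 := by linarith
  by_contra hcon
  have := mul_nonneg (not_lt.mp hcon) (T.m_pos i').le
  linarith

end Groth.Agent.S2174
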