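import Groth.Statements.S2175
import Groth.Agent.S2173
import Mathlib

set_option autoImplicit false
open Finset
open Models Models.NumericalType

namespace Groth.Agent.S2175

/-- The new `w`. -/
def newW (wl wi c : ℤ) : ℤ := if 2 ∣ c / wl ∧ ¬ 2 ∣ c / wi then wi / 2 else wi

/-- The new `g`. -/
def newG (wl wi c gi : ℤ) : ℤ :=
  wi / newW wl wi c * (gi - 1) + 1 + (c ^ 2 - wl * c) / (2 * newW wl wi c * wl)

/-- Local arithmetic facts about the contraction formulas at one index. -/
theorem local_facts (wl wi c gi : ℤ) (hwl : 0 < wl) (hwi : 0 < wi) (hc : 0 ≤ c) (hlc : wl ∣ c) (hic : wi ∣ c) :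
    0 < newW wl wi c ∧ newW wl wi c ∣ wi ∧
    2 * (newW wl wi c * (newG wl wi c gi - 1)) = 2 * (wi * (gi - 1)) + c * (c / wl - 1) ∧
    (0 ≤ gi → 0 ≤ newG wl wi c gi) := by
  obtain ⟨s, hs⟩ := hlc
  obtain ⟨t, ht⟩ := hic
  have hs' : c / wl = s := by rw [hs]; exact Int.mul_ediv_cancel_left _ hwl.ne'
  have ht' : c / wi = t := by rw [ht]; exact Int.mul_ediv_cancel_left _ hwi.ne'
  have hs0 : 0 ≤ s := by
    by_contra hneg
    have : wl * s < 0 := mul_neg_of_pos_of_neg hwl (not_le.mp hneg)
    omega
  have ht0 : 0 ≤ t := by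
    by_contra hneg
    have : wi * t < 0 := mul_neg_of_pos_of_neg hwi (not_le.mp hneg)
    omega
  by_cases hcase : 2 ∣ c / wl ∧ ¬ 2 ∣ c / wi
  · -- halving case
    have hW : newW wl wi c = wi / 2 := by simp only [newW, if_pos hcase]
    rw [hs', ht'] at hcase
    obtain ⟨⟨s', hs2⟩, htodd⟩ := hcase
    have hceven : (2 : ℤ) ∣ wi * t := by rw [← ht, hs, hs2]; exact ⟨wl * s', by ring⟩
    have hwieven : (2 : ℤ) ∣ wi := by
      rcases Int.prime_two.dvd_or_dvd hceven with h | h
      · exact h
      · exact absurd h htodd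
    obtain ⟨v, hv⟩ := hwieven
    have hv' : wi / 2 = v := by rw [hv]; exact Int.mul_ediv_cancel_left _ (by norm_num)
    have hvpos : 0 < v := by omega
    have hG : newG wl wi c gi = 2 * (gi - 1) + 1 + t * (s - 1) := by
      simp only [newG, hW, hv']
      have h1 : wi / v = 2 := by rw [hv]; exact Int.mul_ediv_cancel _ hvpos.ne'
      have h2 : (c ^ 2 - wl * c) / (2 * v * wl) = t * (s - 1) := by
        have : c ^ 2 - wl * c = (2 * v * wl) * (t * (s - 1)) := by
          have e1 : c ^ 2 - wl * c = c * (c - wl) := by ring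
          rw [e1]
          nth_rewrite 1 [ht]
          rw [hs, hv]; ring
        rw [this]
        exact Int.mul_ediv_cancel_left _ (by positivity)
      rw [h1, h2]
    refine ⟨by rw [hW, hv']; exact hvpos, by rw [hW, hv', hv]; exact ⟨2, by ring⟩, ?_, ?_⟩
    · rw [hW, hv', hG, hs']
      have : c * (s - 1) = 2 * v * t * (s - 1) := by rw [ht, hv]
      rw [this, hv]; ring
    · intro hgi
      rw [hG]
      have hs1 : 2 ≤ s := by
        rcases Nat.eq_zero_or_pos s'.natAbs with h0 | hpos
        · have : s' = 0 := Int.natAbs_eq_zero.mp h0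
          exfalso
          apply htodd
          have hc0 : c = 0 := by rw [hs, hs2, this]; ring
          have : t = 0 := by
            have : wi * t = 0 := by rw [← ht, hc0]
            rcases mul_eq_zero.mp this with h | h
            · omega
            · exact h
          rw [this]; exact dvd_zero 2
        · omega
      have ht1 : 1 ≤ t := by
        rcases eq_or_lt_of_le ht0 with h | h
        · exfalso; apply htodd; rw [← h]; exact dvd_zero 2
        · omega
      nlinarith
  · -- the other case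
    have hW : newW wl wi c = wi := by simp only [newW, if_neg hcase]
    rw [hs', ht'] at hcase
    have heven : (2 : ℤ) ∣ t * (s - 1) := by
      by_cases h2s : (2 : ℤ) ∣ s
      · have h2t : (2 : ℤ) ∣ t := by
          by_contra hnt
          exact hcase ⟨h2s, hnt⟩
        exact Dvd.dvd.mul_right h2t _
      · have : (2 : ℤ) ∣ s - 1 := by omega
        exact Dvd.dvd.mul_left this _
    obtain ⟨k, hk⟩ := heven
    have hG : newG wl wi c gi = (gi - 1) + 1 + k := by
      simp only [newG, hW]
      have h1 : wi / wi = 1 := Int.ediv_self hwi.ne'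
      have h2 : (c ^ 2 - wl * c) / (2 * wi * wl) = k := by
        have : c ^ 2 - wl * c = (2 * wi * wl) * k := by
          have e1 : c ^ 2 - wl * c = c * (c - wl) := by ring
          rw [e1]
          nth_rewrite 1 [ht]
          rw [hs]
          have : wi * t * (wl * s - wl) = wi * wl * (t * (s - 1)) := by ring
          rw [this, hk]; ring
        rw [this]
        exact Int.mul_ediv_cancel_left _ (by positivity)
      rw [h1, h2, one_mul]
    refine ⟨by rw [hW]; exact hwi, by rw [hW], ?_, ?_⟩
    · rw [hW, hG, hs']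
      have : c * (s - 1) = wi * (t * (s - 1)) := by rw [ht]; ring
      rw [this, hk]; ring
    · intro hgi
      rw [hG]
      have hk0 : 0 ≤ k := by
        have h2k : 0 ≤ t * (s - 1) := by
          rcases eq_or_lt_of_le hs0 with h | h
          · have hc0 : c = 0 := by rw [hs, ← h]; ring
            have : t = 0 := by
              have : wi * t = 0 := by rw [← ht, hc0]
              rcases mul_eq_zero.mp this with h | h
              · omega
              · exact h
            rw [this]; simp
          · exact mul_nonneg ht0 (by omega)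
        omega
      omega

section global

variable {n : ℕ} (T : Models.NumericalType (n + 1))

/-- The entries `a i l`. -/
def cc (i : Fin n) : ℤ := T.a i.castSucc (Fin.last n)

theorem cc_nonneg (i : Fin n) : 0 ≤ cc T i :=
  T.offDiag_nonneg _ _ (Fin.castSucc_ne_last i)

theorem wl_dvd_cc (i : Fin n) : T.w (Fin.last n) ∣ cc T i := by
  have := T.w_dvd (Fin.last n) i.castSucc
  rwa [T.symm.apply] at this

theorem wi_dvd_cc (i : Fin n) : T.w i.castSucc ∣ cc T i := T.w_dvd i.castSucc (Fin.last n)

/-- The quotients `a i l / w l`. -/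
def ss (i : Fin n) : ℤ := cc T i / T.w (Fin.last n)

theorem cc_eq (i : Fin n) : cc T i = T.w (Fin.last n) * ss T i :=
  (Int.mul_ediv_cancel' (wl_dvd_cc T i)).symm

theorem ss_nonneg (i : Fin n) : 0 ≤ ss T i :=
  Int.ediv_nonneg (cc_nonneg T i) (T.w_pos _).le

theorem ss_pos (i : Fin n) (h : cc T i ≠ 0) : 0 < ss T i := by
  rcases eq_or_lt_of_le (ss_nonneg T i) with h0 | h0
  · exfalso; apply h; rw [cc_eq, ← h0, mul_zero]
  · exact h0

theorem row_last : ∑ i : Fin n, cc T i * T.m i.castSucc = T.w (Fin.last n) * T.m (Fin.last n) -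
    (T.w (Fin.last n) + T.a (Fin.last n) (Fin.last n)) * T.m (Fin.last n) := by
  have := congrFun T.mulVec_m (Fin.last n)
  simp only [Matrix.mulVec, dotProduct, Pi.zero_apply] at this
  rw [Fin.sum_univ_castSucc] at this
  have h2 : ∑ i : Fin n, cc T i * T.m i.castSucc = ∑ i : Fin n, T.a (Fin.last n) i.castSucc * T.m i.castSucc := by
    refine Finset.sum_congr rfl fun i _ => ?_
    rw [cc, T.symm.apply]
  rw [h2]
  linarith

theorem row_cast (i : Fin n) :
    ∑ j : Fin n, T.a i.castSucc j.castSucc * T.m j.castSucc + cc T i * T.m (Fin.last n) = 0 := by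
  have := congrFun T.mulVec_m i.castSucc
  simp only [Matrix.mulVec, dotProduct, Pi.zero_apply] at this
  rw [Fin.sum_univ_castSucc] at this
  exact this

theorem newA_eq (h : T.IsMinusOne (Fin.last n)) (i j : Fin n) :
    T.a i.castSucc j.castSucc -
      T.a i.castSucc (Fin.last n) * T.a j.castSucc (Fin.last n) / T.a (Fin.last n) (Fin.last n) =
    T.a i.castSucc j.castSucc + T.w (Fin.last n) * ss T i * ss T j := by
  rw [h.2, Int.ediv_neg]
  have : T.a i.castSucc (Fin.last n) * T.a j.castSucc (Fin.last n) / T.w (Fin.last n) =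
      T.w (Fin.last n) * ss T i * ss T j := by
    change cc T i * cc T j / _ = _
    rw [cc_eq T i, cc_eq T j]
    have : T.w (Fin.last n) * ss T i * (T.w (Fin.last n) * ss T j) =
        T.w (Fin.last n) * (T.w (Fin.last n) * ss T i * ss T j) := by ring
    rw [this]
    exact Int.mul_ediv_cancel_left _ (T.w_pos _).ne'
  rw [this]; ring

theorem n_pos (h : T.IsMinusOne (Fin.last n)) : 0 < n := by
  by_contra hn
  have hn0 : n = 0 := by omega
  subst hn0
  have := row_last T
  rw [h.2] at this
  simp at this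
  rcases this with h1 | h1
  · exact (T.w_pos _).ne' h1
  · exact (T.m_pos _).ne' h1

theorem offdiag_lower (i j : Fin n) (hij : i ≠ j) :
    T.a i.castSucc j.castSucc ≤ T.a i.castSucc j.castSucc + T.w (Fin.last n) * ss T i * ss T j ∧
    T.w (Fin.last n) * ss T i * ss T j ≤ T.a i.castSucc j.castSucc + T.w (Fin.last n) * ss T i * ss T j ∧
    0 ≤ T.a i.castSucc j.castSucc ∧ 0 ≤ T.w (Fin.last n) * ss T i * ss T j := by
  have h1 : 0 ≤ T.a i.castSucc j.castSucc :=
    T.offDiag_nonneg _ _ (fun h => hij (Fin.castSucc_injective _ h))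
  have h2 : 0 ≤ T.w (Fin.last n) * ss T i * ss T j :=
    mul_nonneg (mul_nonneg (T.w_pos _).le (ss_nonneg T i)) (ss_nonneg T j)
  exact ⟨by linarith, by linarith, h1, h2⟩

/-- Connectedness of the contracted matrix. -/
theorem connected' (I : Finset (Fin n)) (hne : I.Nonempty) (hnu : I ≠ univ) :
    ∃ i ∈ I, ∃ j ∉ I, T.a i.castSucc j.castSucc + T.w (Fin.last n) * ss T i * ss T j ≠ 0 := by
  classical
  let I' : Finset (Fin (n + 1)) := I.map Fin.castSuccEmb
  have hmemI' : ∀ x : Fin n, x.castSucc ∈ I' ↔ x ∈ I := by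
    intro x
    simp only [I', Finset.mem_map, Fin.coe_castSuccEmb]
    constructor
    · rintro ⟨y, hy, hxy⟩
      rwa [← Fin.castSucc_injective _ hxy]
    · exact fun hx => ⟨x, hx, rfl⟩
  have hlast : Fin.last n ∉ I' := by
    simp only [I', Finset.mem_map, Fin.coe_castSuccEmb, not_exists, not_and]
    intro x _ hx
    exact Fin.castSucc_ne_last x hx
  obtain ⟨j₀, hj₀⟩ : ∃ j, j ∉ I := by
    by_contra hcon
    push Not at hcon
    exact hnu (Finset.eq_univ_iff_forall.mpr hcon)
  -- a pair with nonzero entry gives the claim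
  have hgood : ∀ i ∈ I, ∀ j ∉ I, T.a i.castSucc j.castSucc ≠ 0 →
      T.a i.castSucc j.castSucc + T.w (Fin.last n) * ss T i * ss T j ≠ 0 := by
    intro i hi j hj hne0
    have hij : i ≠ j := fun h => hj (h ▸ hi)
    obtain ⟨h1, h2, h3, h4⟩ := offdiag_lower T i j hij
    have : 0 < T.a i.castSucc j.castSucc := lt_of_le_of_ne h3 (Ne.symm hne0)
    linarith
  have hgood2 : ∀ i ∈ I, ∀ j ∉ I, cc T i ≠ 0 → cc T j ≠ 0 →
      T.a i.castSucc j.castSucc + T.w (Fin.last n) * ss T i * ss T j ≠ 0 := by
    intro i hi j hj hci hcj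
    have hij : i ≠ j := fun h => hj (h ▸ hi)
    obtain ⟨h1, h2, h3, h4⟩ := offdiag_lower T i j hij
    have : 0 < T.w (Fin.last n) * ss T i * ss T j :=
      mul_pos (mul_pos (T.w_pos _) (ss_pos T i hci)) (ss_pos T j hcj)
    linarith
  obtain ⟨x, hx, y, hy, hxy⟩ := T.connected I' (hne.map) (fun h => hlast (h ▸ mem_univ _))
  obtain ⟨i₀, rfl⟩ : ∃ i₀, x = Fin.castSucc i₀ := by
    rcases Fin.eq_castSucc_or_eq_last x with h | h
    · exact h
    · exact absurd (h ▸ hx) hlast
  have hi₀ : i₀ ∈ I := (hmemI' i₀).mp hx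
  rcases Fin.eq_castSucc_or_eq_last y with ⟨j, rfl⟩ | rfl
  · exact ⟨i₀, hi₀, j, fun hj => hy ((hmemI' j).mpr hj), hgood i₀ hi₀ j (fun hj => hy ((hmemI' j).mpr hj)) hxy⟩
  · -- `a i₀ l ≠ 0`
    have hci₀ : cc T i₀ ≠ 0 := hxy
    let J : Finset (Fin (n + 1)) := insert (Fin.last n) I'
    have hJne : J.Nonempty := ⟨Fin.last n, Finset.mem_insert_self _ _⟩
    have hJnu : J ≠ univ := by
      intro h
      have : j₀.castSucc ∈ J := h ▸ mem_univ _
      rcases Finset.mem_insert.mp this with h1 | h1
      · exact Fin.castSucc_ne_last j₀ h1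
      · exact hj₀ ((hmemI' j₀).mp h1)
    obtain ⟨x, hx, y, hy, hxy⟩ := T.connected J hJne hJnu
    have hyl : y ≠ Fin.last n := fun h => hy (h ▸ Finset.mem_insert_self _ _)
    obtain ⟨j, rfl⟩ : ∃ j, y = Fin.castSucc j := by
      rcases Fin.eq_castSucc_or_eq_last y with h | h
      · exact h
      · exact absurd h hyl
    have hj : j ∉ I := fun hj => hy (Finset.mem_insert_of_mem ((hmemI' j).mpr hj))
    rcases Finset.mem_insert.mp hx with rfl | hx'
    · have hcj : cc T j ≠ 0 := by
        rw [cc, T.symm.apply]; exact hxy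
      exact ⟨i₀, hi₀, j, hj, hgood2 i₀ hi₀ j hj hci₀ hcj⟩
    · obtain ⟨i₁, rfl⟩ : ∃ i₁, x = Fin.castSucc i₁ := by
        rcases Fin.eq_castSucc_or_eq_last x with h | h
        · exact h
        · exact absurd (h ▸ hx') hlast
      have hi₁ : i₁ ∈ I := (hmemI' i₁).mp hx'
      exact ⟨i₁, hi₁, j, hj, hgood i₁ hi₁ j hj hxy⟩

/-- The contracted numerical type. -/
def contr (h : T.IsMinusOne (Fin.last n)) : Models.NumericalType n where
  m := fun i => T.m i.castSucc
  a := fun i j => T.a i.castSucc j.castSucc -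
      T.a i.castSucc (Fin.last n) * T.a j.castSucc (Fin.last n) / T.a (Fin.last n) (Fin.last n)
  w := fun i => newW (T.w (Fin.last n)) (T.w i.castSucc) (cc T i)
  g := fun i => newG (T.w (Fin.last n)) (T.w i.castSucc) (cc T i) (T.g i.castSucc)
  pos := n_pos T h
  m_pos := fun i => T.m_pos _
  w_pos := fun i =>
    (local_facts (T.w (Fin.last n)) (T.w i.castSucc) (cc T i) (T.g i.castSucc) (T.w_pos _) (T.w_pos _)
      (cc_nonneg T i) (wl_dvd_cc T i) (wi_dvd_cc T i)).1
  g_nonneg := fun i =>
    (local_facts (T.w (Fin.last n)) (T.w i.castSucc) (cc T i) (T.g i.castSucc) (T.w_pos _) (T.w_pos _)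
      (cc_nonneg T i) (wl_dvd_cc T i) (wi_dvd_cc T i)).2.2.2 (T.g_nonneg _)
  symm := by
    ext i j
    simp only [Matrix.transpose_apply]
    rw [T.symm.apply, mul_comm]
  offDiag_nonneg := fun i j hij => by
    rw [newA_eq T h]
    obtain ⟨h1, h2, h3, h4⟩ := offdiag_lower T i j hij
    linarith
  connected := fun I hne hnu => by
    obtain ⟨i, hi, j, hj, hij⟩ := connected' T I hne hnu
    exact ⟨i, hi, j, hj, by rw [newA_eq T h]; exact hij⟩
  mulVec_m := by
    ext i
    simp only [Matrix.mulVec, dotProduct, Pi.zero_apply]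
    have h1 : ∀ j : Fin n, (T.a i.castSucc j.castSucc -
        T.a i.castSucc (Fin.last n) * T.a j.castSucc (Fin.last n) / T.a (Fin.last n) (Fin.last n)) *
          T.m j.castSucc =
        T.a i.castSucc j.castSucc * T.m j.castSucc + ss T i * (cc T j * T.m j.castSucc) := by
      intro j
      rw [newA_eq T h, cc_eq T j]; ring
    simp only [h1, Finset.sum_add_distrib, ← Finset.mul_sum]
    rw [row_last T, h.2]
    have := row_cast T i
    rw [cc_eq T i] at this
    linear_combination this
  w_dvd := fun i j => by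
    rw [newA_eq T h]
    have hW := (local_facts (T.w (Fin.last n)) (T.w i.castSucc) (cc T i) (T.g i.castSucc) (T.w_pos _)
      (T.w_pos _) (cc_nonneg T i) (wl_dvd_cc T i) (wi_dvd_cc T i)).2.1
    refine dvd_trans hW (dvd_add (T.w_dvd _ _) ?_)
    rw [← cc_eq T i]
    exact Dvd.dvd.mul_right (wi_dvd_cc T i) _

theorem isContraction_contr (h : T.IsMinusOne (Fin.last n)) : T.IsContraction (contr T h) :=
  ⟨fun _ => rfl, fun _ _ => rfl, fun _ => rfl, fun _ => rfl⟩

theorem genus_eq (h : T.IsMinusOne (Fin.last n)) (T' : Models.NumericalType n)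
    (hT' : T.IsContraction T') : T'.genus = T.genus := by
  obtain ⟨hm', ha', hw', hg'⟩ := hT'
  have hW : ∀ i, T'.w i = newW (T.w (Fin.last n)) (T.w i.castSucc) (cc T i) := hw'
  have hG : ∀ i, T'.g i = newG (T.w (Fin.last n)) (T.w i.castSucc) (cc T i) (T.g i.castSucc) := by
    intro i
    have := hg' i
    rw [hW i] at this
    exact this
  have hA : ∀ i, T'.a i i = T.a i.castSucc i.castSucc + T.w (Fin.last n) * ss T i * ss T i := by
    intro i
    rw [ha' i i, newA_eq T h]
  -- per-index identity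
  have hidx : ∀ i : Fin n, 2 * (T'.m i * T'.w i * (T'.g i - 1)) - T'.m i * T'.a i i =
      2 * (T.m i.castSucc * T.w i.castSucc * (T.g i.castSucc - 1)) -
        T.m i.castSucc * T.a i.castSucc i.castSucc - cc T i * T.m i.castSucc := by
    intro i
    have hloc := (local_facts (T.w (Fin.last n)) (T.w i.castSucc) (cc T i) (T.g i.castSucc) (T.w_pos _)
      (T.w_pos _) (cc_nonneg T i) (wl_dvd_cc T i) (wi_dvd_cc T i)).2.2.1
    rw [← hW i, ← hG i] at hloc
    rw [hm' i, hA i]
    have hss : cc T i / T.w (Fin.last n) = ss T i := rfl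
    rw [hss] at hloc
    have hc := cc_eq T i
    have e1 : 2 * (T.m i.castSucc * T'.w i * (T'.g i - 1)) =
        T.m i.castSucc * (2 * (T'.w i * (T'.g i - 1))) := by ring
    rw [e1, hloc, hc]; ring
  have hsum : 2 * ∑ i, T'.m i * T'.w i * (T'.g i - 1) - ∑ i, T'.m i * T'.a i i =
      2 * ∑ i : Fin n, T.m i.castSucc * T.w i.castSucc * (T.g i.castSucc - 1) -
        ∑ i : Fin n, T.m i.castSucc * T.a i.castSucc i.castSucc -
        ∑ i : Fin n, cc T i * T.m i.castSucc := by
    rw [Finset.mul_sum, Finset.mul_sum, ← Finset.sum_sub_distrib, ← Finset.sum_sub_distrib,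
      ← Finset.sum_sub_distrib]
    exact Finset.sum_congr rfl fun i _ => hidx i
  obtain ⟨P', hP'⟩ := Groth.Agent.S2173.result T'
  obtain ⟨P, hP⟩ := Groth.Agent.S2173.result T
  have hrow := row_last T
  rw [h.2] at hrow
  simp only [Models.NumericalType.genus]
  rw [hP', hP, Int.mul_ediv_cancel_left _ (by norm_num : (2 : ℤ) ≠ 0),
    Int.mul_ediv_cancel_left _ (by norm_num : (2 : ℤ) ≠ 0)]
  rw [Fin.sum_univ_castSucc] at hP ⊢
  rw [h.2] at hP
  rw [h.1]
  rw [hP'] at hsum
  linarith

end global

/-- Let T be a numerical type on n + 1 indices whose last index is a (-1)-index. Then the contracted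
data (same multiplicities, a i j - a i l a j l / a l l, the halved-or-not w i, and the adjusted g i,
l the last index) is again a numerical type on n indices, and any such contraction has the same
genus as T. -/
theorem result {n : ℕ} (T : Models.NumericalType (n + 1)) (h : T.IsMinusOne (Fin.last n)) :
    (∃ T' : Models.NumericalType n, T.IsContraction T') ∧
      ∀ T' : Models.NumericalType n, T.IsContraction T' → T'.genus = T.genus :=
  ⟨⟨contr T h, isContraction_contr T h⟩, fun T' hT' => genus_eq T h T' hT'⟩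

end Groth.Agent.S2175
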