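import Groth.Statements.S2177
import Mathlib
import Groth.Agent.Lib.Helper7.NumType
import Groth.Agent.S2173

set_option autoImplicit false
open Finset
open Models Models.NumericalType

namespace Groth.Agent.S2177



/-- If a numerical type is minimal and has at least two indices, its genus is bounded below by the
topological genus 1 - n + e, e being the number of pairs i < j with a i j > 0. -/
theorem result {n : ℕ} (T : Models.NumericalType n) (hmin : T.IsMinimal) (hn : 1 < n) : T.topGenus ≤ T.genus := by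
  open Groth.Agent.Lib.helper7 in
  -- integers c i with a i i = w i * c i
  choose c hc using fun i => T.w_dvd i i
  have hsymm : ∀ i j, T.a j i = T.a i j := fun i j => by
    have := congrFun (congrFun T.symm i) j
    simpa [Matrix.transpose_apply] using this
  -- Claim A : vertexwise estimate
  have hA : ∀ i, -c i - 2 ≤ 2 * (T.m i * T.w i * (T.g i - 1)) - T.m i * T.a i i := by
    intro i
    have hneg := NT_diag_neg T hn i
    have hw := T.w_pos i
    have hm := T.m_pos i
    have hc1 : c i < 0 := by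
      by_contra h
      rw [not_lt] at h
      have := mul_nonneg hw.le h
      rw [hc i] at hneg
      linarith
    have hM : 1 ≤ T.m i * T.w i := by nlinarith
    rw [hc i]
    rcases (T.g_nonneg i).lt_or_eq with hg | hg
    · have hg1 : 1 ≤ T.g i := hg
      nlinarith [mul_nonneg (by linarith : (0:ℤ) ≤ T.m i * T.w i) (by linarith : (0:ℤ) ≤ T.g i - 1),
        mul_le_mul_of_nonneg_right hM (by linarith : (0:ℤ) ≤ -c i)]
    · have hc2 : c i ≠ -1 := by
        intro h
        apply hmin i
        refine ⟨hg.symm, ?_⟩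
        rw [hc i, h]; ring
      have hc3 : c i ≤ -2 := by omega
      rw [← hg]
      nlinarith [mul_le_mul_of_nonneg_right hM (by linarith : (0:ℤ) ≤ -c i - 2)]
  -- Claim B : rational estimate
  have hB : ∀ i, ∑ j, ((if i < j ∧ 0 < T.a i j then (T.m j : ℚ) / T.m i else 0) +
      (if j < i ∧ 0 < T.a j i then (T.m j : ℚ) / T.m i else 0)) ≤ -(c i : ℚ) := by
    intro i
    have hmi : (0:ℚ) < T.m i := by exact_mod_cast T.m_pos i
    have hwi : (0:ℚ) < T.w i := by exact_mod_cast T.w_pos i
    have hd := NT_diag T i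
    rw [hc i] at hd
    have hd' : -(c i : ℚ) = ∑ j ∈ univ.erase i, ((T.a i j : ℚ) * T.m j) / (T.m i * T.w i) := by
      rw [← Finset.sum_div, eq_div_iff (by positivity)]
      have : ((T.w i * c i * T.m i : ℤ) : ℚ) = ((- ∑ j ∈ univ.erase i, T.a i j * T.m j : ℤ) : ℚ) := by
        rw [hd]
      push_cast at this
      linarith
    rw [hd', ← Finset.sum_erase (a := i) univ (by simp)]
    apply Finset.sum_le_sum
    intro j hj
    have hne : j ≠ i := Finset.ne_of_mem_erase hj
    have hmj : (0:ℚ) < T.m j := by exact_mod_cast T.m_pos j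
    have haij : 0 ≤ T.a i j := T.offDiag_nonneg i j hne.symm
    have hnonneg : (0:ℚ) ≤ ((T.a i j : ℚ) * T.m j) / (T.m i * T.w i) := by
      have : (0:ℚ) ≤ T.a i j := by exact_mod_cast haij
      positivity
    have hpos : 0 < T.a i j → (T.m j : ℚ) / T.m i ≤ ((T.a i j : ℚ) * T.m j) / (T.m i * T.w i) := by
      intro h
      have hw : T.w i ≤ T.a i j := Int.le_of_dvd h (T.w_dvd i j)
      have hwq : (T.w i : ℚ) ≤ T.a i j := by exact_mod_cast hw
      rw [div_le_div_iff₀ hmi (by positivity)]
      nlinarith [mul_le_mul_of_nonneg_right hwq (mul_pos hmj hmi).le]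
    rcases lt_or_gt_of_ne hne with hlt | hgt
    · -- j < i
      rw [if_neg (fun h => absurd h.1 (not_lt.mpr hlt.le)), zero_add]
      split_ifs with h
      · rw [hsymm] at h
        exact hpos h.2
      · exact hnonneg
    · -- i < j
      rw [if_neg (fun h : j < i ∧ 0 < T.a j i => absurd h.1 (not_lt.mpr hgt.le)), add_zero]
      split_ifs with h
      · exact hpos h.2
      · exact hnonneg
  -- edges
  have hE : (2 * (T.edgeCount : ℚ)) ≤ ∑ i, -(c i : ℚ) := by
    refine le_trans ?_ (Finset.sum_le_sum (fun i _ => hB i))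
    unfold NumericalType.edgeCount
    have h1 : (2 * (((univ.filter fun p : Fin n × Fin n => p.1 < p.2 ∧ 0 < T.a p.1 p.2).card : ℕ) : ℚ))
        = ∑ p ∈ univ.filter (fun p : Fin n × Fin n => p.1 < p.2 ∧ 0 < T.a p.1 p.2), (2 : ℚ) := by
      rw [Finset.sum_const, nsmul_eq_mul, mul_comm]
    rw [h1]
    have h2 : ∑ p ∈ univ.filter (fun p : Fin n × Fin n => p.1 < p.2 ∧ 0 < T.a p.1 p.2), (2 : ℚ)
        ≤ ∑ p ∈ univ.filter (fun p : Fin n × Fin n => p.1 < p.2 ∧ 0 < T.a p.1 p.2),
          ((T.m p.2 : ℚ) / T.m p.1 + (T.m p.1 : ℚ) / T.m p.2) := by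
      apply Finset.sum_le_sum
      intro p _
      have hx : (0:ℚ) < T.m p.1 := by exact_mod_cast T.m_pos p.1
      have hy : (0:ℚ) < T.m p.2 := by exact_mod_cast T.m_pos p.2
      rw [div_add_div _ _ hx.ne' hy.ne', le_div_iff₀ (by positivity)]
      nlinarith [sq_nonneg ((T.m p.1 : ℚ) - T.m p.2)]
    refine le_trans h2 (le_of_eq ?_)
    rw [Finset.sum_add_distrib, Finset.sum_filter, Finset.sum_filter, Fintype.sum_prod_type,
      Fintype.sum_prod_type_right]
    simp only [Finset.sum_add_distrib]
  -- conclusion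
  obtain ⟨d, hd⟩ := Groth.Agent.S2173.result T
  have hEZ : 2 * (T.edgeCount : ℤ) ≤ ∑ i, -(c i) := by
    have : ((2 * (T.edgeCount : ℤ) : ℤ) : ℚ) ≤ ((∑ i, -(c i) : ℤ) : ℚ) := by
      push_cast
      exact hE
    exact_mod_cast this
  have hsumA : ∑ i, (-c i - 2) ≤ ∑ i, (2 * (T.m i * T.w i * (T.g i - 1)) - T.m i * T.a i i) :=
    Finset.sum_le_sum (fun i _ => hA i)
  rw [Finset.sum_sub_distrib, Finset.sum_sub_distrib, ← Finset.mul_sum, hd] at hsumA
  simp only [Finset.sum_const, Finset.card_univ, Fintype.card_fin, nsmul_eq_mul] at hsumA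
  unfold NumericalType.genus NumericalType.topGenus
  rw [hd, Int.mul_ediv_cancel_left _ (by norm_num : (2:ℤ) ≠ 0)]
  linarith


end Groth.Agent.S2177
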