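import Groth.Statements.S2178
import Mathlib

set_option autoImplicit false
open Finset
open Models Models.NumericalType

namespace Groth.Agent.S2178

variable {n : ℕ} (T : Models.NumericalType n)

theorem a_mulVec_eq (x : Fin n → ℤ) (i : Fin n) :
    T.a.mulVec x i = T.w i * T.picMatrix.mulVec x i := by
  simp only [Matrix.mulVec, dotProduct, Finset.mul_sum]
  refine Finset.sum_congr rfl fun j _ => ?_
  have : T.w i * (T.a i j / T.w i) = T.a i j := Int.mul_ediv_cancel' (T.w_dvd i j)
  simp only [NumericalType.picMatrix]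
  rw [← mul_assoc, this]

theorem ker_iff (x : Fin n → ℤ) : T.picMatrix.mulVec x = 0 ↔ T.a.mulVec x = 0 := by
  constructor
  · intro h
    funext i
    rw [a_mulVec_eq, h]; simp
  · intro h
    funext i
    have h1 := congrFun h i
    rw [a_mulVec_eq] at h1
    have hw := T.w_pos i
    rcases mul_eq_zero.mp h1 with h2 | h2
    · omega
    · simpa using h2

theorem key (x : Fin n → ℤ) (hx : T.a.mulVec x = 0) :
    ∃ i0 : Fin n, ∀ i, T.m i0 * x i = x i0 * T.m i := by
  have : Nonempty (Fin n) := ⟨⟨0, T.pos⟩⟩
  obtain ⟨i0, -, hmax⟩ := Finset.exists_max_image (univ : Finset (Fin n))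
    (fun i => (x i : ℚ) / T.m i) Finset.univ_nonempty
  refine ⟨i0, ?_⟩
  have hle : ∀ i, x i * T.m i0 ≤ x i0 * T.m i := by
    intro i
    have h := hmax i (Finset.mem_univ i)
    have hmi : (0 : ℚ) < T.m i := by exact_mod_cast T.m_pos i
    have hm0 : (0 : ℚ) < T.m i0 := by exact_mod_cast T.m_pos i0
    rw [div_le_div_iff₀ hmi hm0] at h
    exact_mod_cast h
  set y : Fin n → ℤ := fun i => x i0 * T.m i - T.m i0 * x i with hy
  have hy_nonneg : ∀ i, 0 ≤ y i := fun i => by
    have := hle i
    simp only [hy]; linarith
  have hAy : ∀ i, ∑ l, T.a i l * y l = 0 := by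
    intro i
    have h1 : ∑ l, T.a i l * T.m l = 0 := by
      have := congrFun T.mulVec_m i
      simpa [Matrix.mulVec, dotProduct] using this
    have h2 : ∑ l, T.a i l * x l = 0 := by
      have := congrFun hx i
      simpa [Matrix.mulVec, dotProduct] using this
    have : ∑ l, T.a i l * y l = x i0 * ∑ l, T.a i l * T.m l - T.m i0 * ∑ l, T.a i l * x l := by
      rw [Finset.mul_sum, Finset.mul_sum, ← Finset.sum_sub_distrib]
      refine Finset.sum_congr rfl fun l _ => ?_
      simp only [hy]; ring
    rw [this, h1, h2]; simp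
  have hy0 : y i0 = 0 := by simp only [hy]; ring
  set I : Finset (Fin n) := univ.filter (fun i => y i = 0) with hI
  have hI_ne : I.Nonempty := ⟨i0, by simp [hI, hy0]⟩
  have hI_univ : I = univ := by
    by_contra hne
    obtain ⟨i, hi, j, hj, hij⟩ := T.connected I hI_ne hne
    have hyi : y i = 0 := by simpa [hI] using hi
    have hyj : y j ≠ 0 := by simpa [hI] using hj
    have hne_ij : i ≠ j := by rintro rfl; exact hyj hyi
    have hterms : ∀ l ∈ (univ : Finset (Fin n)), 0 ≤ T.a i l * y l := by
      intro l _
      by_cases hl : l = i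
      · subst hl; rw [hyi]; simp
      · exact mul_nonneg (T.offDiag_nonneg i l (Ne.symm hl)) (hy_nonneg l)
    have := (Finset.sum_eq_zero_iff_of_nonneg hterms).mp (hAy i) j (Finset.mem_univ j)
    rcases mul_eq_zero.mp this with h | h
    · exact hij h
    · exact hyj h
  intro i
  have : y i = 0 := by
    have : i ∈ I := by rw [hI_univ]; exact Finset.mem_univ i
    simpa [hI] using this
  simp only [hy] at this
  linarith

theorem finrank_ker : Module.finrank ℤ (LinearMap.ker (Matrix.mulVecLin T.picMatrix)) = 1 := by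
  let i00 : Fin n := ⟨0, T.pos⟩
  let φ : LinearMap.ker (Matrix.mulVecLin T.picMatrix) →ₗ[ℤ] ℤ :=
    (LinearMap.proj i00).comp (Submodule.subtype _)
  have hinj : Function.Injective φ := by
    rw [← LinearMap.ker_eq_bot, LinearMap.ker_eq_bot']
    rintro ⟨x, hx⟩ h0
    have hx' : T.a.mulVec x = 0 := (ker_iff T x).1 (by simpa using hx)
    obtain ⟨i0, hi0⟩ := key T x hx'
    have hx00 : x i00 = 0 := by simpa [φ] using h0
    have h1 := hi0 i00
    rw [hx00, mul_zero] at h1
    have hm00 := T.m_pos i00
    have hxi0 : x i0 = 0 := by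
      rcases mul_eq_zero.mp h1.symm with h | h
      · exact h
      · omega
    have : x = 0 := by
      funext i
      have h2 := hi0 i
      rw [hxi0, zero_mul] at h2
      have hm0 := T.m_pos i0
      rcases mul_eq_zero.mp h2 with h | h
      · omega
      · exact h
    subst this
    rfl
  have hle : Module.finrank ℤ (LinearMap.ker (Matrix.mulVecLin T.picMatrix)) ≤ 1 := by
    have := LinearMap.finrank_le_finrank_of_injective hinj
    simpa using this
  have hpos : 0 < Module.finrank ℤ (LinearMap.ker (Matrix.mulVecLin T.picMatrix)) := by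
    rw [Module.finrank_pos_iff_exists_ne_zero]
    refine ⟨⟨T.m, ?_⟩, ?_⟩
    · rw [LinearMap.mem_ker, Matrix.mulVecLin_apply]
      exact (ker_iff T T.m).2 T.mulVec_m
    · intro h
      have := congrArg (fun v : LinearMap.ker (Matrix.mulVecLin T.picMatrix) => (v : Fin n → ℤ) i00) h
      simp only [ZeroMemClass.coe_zero, Pi.zero_apply] at this
      have := T.m_pos i00
      omega
  omega


/-- The Picard group of a numerical type (the cokernel of the matrix (a i j / w i) acting on Z^n) has
free rank one: its rank as a Z-module is 1. -/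
theorem result {n : ℕ} (T : Models.NumericalType n) : Module.finrank ℤ T.Pic = 1 := by
  have h1 := Submodule.finrank_quotient_add_finrank
    (LinearMap.range (Matrix.mulVecLin T.picMatrix))
  have h2 := Submodule.finrank_quotient_add_finrank
    (LinearMap.ker (Matrix.mulVecLin T.picMatrix))
  have h3 := (LinearMap.quotKerEquivRange (Matrix.mulVecLin T.picMatrix)).finrank_eq
  have h4 := finrank_ker T
  rw [h3] at h2
  have : Module.finrank ℤ T.Pic + Module.finrank ℤ (LinearMap.range (Matrix.mulVecLin T.picMatrix))
      = Module.finrank ℤ (Fin n → ℤ) := h1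
  omega

end Groth.Agent.S2178
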