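import Groth.Statements.S2179
import Groth.Agent.Lib.Helper7.NumType

set_option autoImplicit false
open Finset
open Models Models.NumericalType

namespace Groth.Agent.S2179

/-- For a numerical type T, the map Z^n -> Z^n multiplying the i-th coordinate by w i induces a
well-defined injective homomorphism from Pic(T), the cokernel of (a i j / w i), to the cokernel of
the matrix a. -/
theorem result {n : ℕ} (T : Models.NumericalType n) :
    ∃ f : T.Pic →+ T.CokerA, Function.Injective f ∧
      ∀ x : Fin n → ℤ, f (Submodule.Quotient.mk x) = Submodule.Quotient.mk (fun i => T.w i * x i) := by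
  -- multiplication by `w` coordinatewise
  let D : (Fin n → ℤ) →ₗ[ℤ] (Fin n → ℤ) :=
    { toFun := fun x i => T.w i * x i
      map_add' := fun x y => by ext i; simp [mul_add]
      map_smul' := fun c x => by ext i; simp [mul_left_comm] }
  have hDB : ∀ y : Fin n → ℤ, D (T.picMatrix.mulVec y) = T.a.mulVec y := by
    intro y
    ext i
    change T.w i * (T.picMatrix.mulVec y i) = T.a.mulVec y i
    simp only [Matrix.mulVec, dotProduct, Finset.mul_sum]
    apply Finset.sum_congr rfl
    intro j _
    rw [← mul_assoc]
    congr 1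
    exact Int.mul_ediv_cancel' (T.w_dvd i j)
  have hDinj : Function.Injective D := by
    intro x y hxy
    ext i
    have := congrFun hxy i
    change T.w i * x i = T.w i * y i at this
    exact mul_left_cancel₀ (T.w_pos i).ne' this
  have hle : LinearMap.range (Matrix.mulVecLin T.picMatrix) ≤
      (LinearMap.range (Matrix.mulVecLin T.a)).comap D := by
    rintro _ ⟨y, rfl⟩
    refine ⟨y, ?_⟩
    simp only [Matrix.mulVecLin_apply]
    exact (hDB y).symm
  let F : T.Pic →ₗ[ℤ] T.CokerA := Submodule.mapQ _ _ D hle
  refine ⟨F.toAddMonoidHom, ?_, fun x => rfl⟩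
  rw [injective_iff_map_eq_zero]
  intro z hz
  obtain ⟨x, rfl⟩ := Submodule.Quotient.mk_surjective _ z
  change F (Submodule.Quotient.mk x) = 0 at hz
  rw [Submodule.mapQ_apply, Submodule.Quotient.mk_eq_zero] at hz
  obtain ⟨y, hy⟩ := hz
  rw [Submodule.Quotient.mk_eq_zero]
  refine ⟨y, ?_⟩
  apply hDinj
  simp only [Matrix.mulVecLin_apply] at hy ⊢
  rw [hDB, hy]

end Groth.Agent.S2179
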