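import Groth.Statements.S2180
import Mathlib

set_option autoImplicit false
open Finset
open Models Models.NumericalType

namespace Groth.Agent.S2180



/-- Let T be a numerical type on n + 1 indices whose last index is a (-1)-index and T' a contraction of
it. Then there is an injective homomorphism Pic(T) -> Pic(T') whose cokernel is annihilated by 2. -/
theorem result {n : ℕ} (T : Models.NumericalType (n + 1)) (h : T.IsMinusOne (Fin.last n))
    (T' : Models.NumericalType n) (hT' : T.IsContraction T') :
    ∃ f : T.Pic →+ T'.Pic, Function.Injective f ∧ ∀ y : T'.Pic, ∃ x : T.Pic, 2 • y = f x := by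
  classical
  obtain ⟨hm', ha', hw', hg'⟩ := hT'
  obtain ⟨hgl, hall⟩ := h
  have hsymm : ∀ i j, T.a j i = T.a i j := fun i j => by
    have := congrFun (congrFun T.symm i) j
    simpa [Matrix.transpose_apply] using this
  have hwl : T.w (Fin.last n) ≠ 0 := (T.w_pos _).ne'
  have hP : ∀ i j, T.a i j = T.w i * T.picMatrix i j := fun i j =>
    (Int.mul_ediv_cancel' (T.w_dvd i j)).symm
  have hP' : ∀ i j, T'.a i j = T'.w i * T'.picMatrix i j := fun i j =>
    (Int.mul_ediv_cancel' (T'.w_dvd i j)).symm
  have hPll : T.picMatrix (Fin.last n) (Fin.last n) = -1 := by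
    have h1 := hP (Fin.last n) (Fin.last n)
    rw [hall] at h1
    have h2 : T.w (Fin.last n) * T.picMatrix (Fin.last n) (Fin.last n) = T.w (Fin.last n) * (-1) := by
      linarith
    exact mul_left_cancel₀ hwl h2
  have hal : ∀ i : Fin n, T.a i.castSucc (Fin.last n)
      = T.w (Fin.last n) * T.picMatrix (Fin.last n) i.castSucc := by
    intro i
    rw [hsymm (Fin.last n) i.castSucc]; exact hP _ _
  have ha'' : ∀ i j, T'.a i j = T.a i.castSucc j.castSucc +
      T.picMatrix (Fin.last n) i.castSucc * T.a j.castSucc (Fin.last n) := by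
    intro i j
    rw [ha' i j, hall, hal i, mul_assoc, Int.ediv_neg, Int.mul_ediv_cancel_left _ hwl]
    ring
  have hr : ∀ i : Fin n, ∃ r : ℤ, (r = 1 ∨ r = 2) ∧ T.w i.castSucc = r * T'.w i := by
    intro i
    rw [hw' i]
    split_ifs with hc
    · obtain ⟨h2s, h2u⟩ := hc
      have e1 : T.a i.castSucc (Fin.last n) = T.w (Fin.last n) *
          (T.a i.castSucc (Fin.last n) / T.w (Fin.last n)) := by
        refine (Int.mul_ediv_cancel' ?_).symm
        rw [hsymm (Fin.last n) i.castSucc]
        exact T.w_dvd _ _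
      have e2 : T.a i.castSucc (Fin.last n) = T.w i.castSucc *
          (T.a i.castSucc (Fin.last n) / T.w i.castSucc) :=
        (Int.mul_ediv_cancel' (T.w_dvd _ _)).symm
      have h2 : (2:ℤ) ∣ T.w i.castSucc * (T.a i.castSucc (Fin.last n) / T.w i.castSucc) := by
        rw [← e2, e1]
        exact Dvd.dvd.mul_left h2s _
      have h2w : (2:ℤ) ∣ T.w i.castSucc := by
        rcases Int.prime_two.dvd_or_dvd h2 with h | h
        · exact h
        · exact absurd h h2u
      refine ⟨2, Or.inr rfl, ?_⟩
      rw [Int.mul_ediv_cancel' h2w]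
    · exact ⟨1, Or.inl rfl, by ring⟩
  choose r hr using hr
  have hkey : ∀ i j : Fin n, T'.picMatrix i j = r i * (T.picMatrix i.castSucc j.castSucc +
      T.picMatrix i.castSucc (Fin.last n) * T.picMatrix (Fin.last n) j.castSucc) := by
    intro i j
    apply mul_left_cancel₀ (T'.w_pos i).ne'
    rw [← hP', ha'' i j]
    have e3 : T.a i.castSucc (Fin.last n)
        = T.w i.castSucc * T.picMatrix i.castSucc (Fin.last n) := hP _ _
    have e4 := hP i.castSucc j.castSucc
    have e5 := (hr i).2
    rw [hal j, e4]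
    have e6 : T'.w i * (r i * (T.picMatrix i.castSucc j.castSucc +
        T.picMatrix i.castSucc (Fin.last n) * T.picMatrix (Fin.last n) j.castSucc))
        = T.w i.castSucc * T.picMatrix i.castSucc j.castSucc +
          (T.w i.castSucc * T.picMatrix i.castSucc (Fin.last n)) *
            T.picMatrix (Fin.last n) j.castSucc := by
      rw [e5]; ring
    rw [e6, ← e3, hal i]
    ring
  let φ : (Fin (n+1) → ℤ) →ₗ[ℤ] (Fin n → ℤ) :=
    { toFun := fun x i => r i * (x i.castSucc + T.picMatrix i.castSucc (Fin.last n) * x (Fin.last n))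
      map_add' := fun x y => by ext i; simp only [Pi.add_apply]; ring
      map_smul' := fun c x => by
        ext i; simp only [Pi.smul_apply, smul_eq_mul, RingHom.id_apply]; ring }
  have hφ : ∀ x i, φ x i = r i * (x i.castSucc +
      T.picMatrix i.castSucc (Fin.last n) * x (Fin.last n)) := fun _ _ => rfl
  have hK1 : ∀ x : Fin (n+1) → ℤ, φ (T.picMatrix.mulVec x)
      = T'.picMatrix.mulVec (fun j => x j.castSucc) := by
    intro x
    ext i
    rw [hφ]
    simp only [Matrix.mulVec, dotProduct]
    rw [Fin.sum_univ_castSucc, Fin.sum_univ_castSucc, hPll]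
    have e : ∑ j : Fin n, T'.picMatrix i j * x j.castSucc
        = r i * (∑ j : Fin n, T.picMatrix i.castSucc j.castSucc * x j.castSucc) +
          r i * T.picMatrix i.castSucc (Fin.last n) *
            (∑ j : Fin n, T.picMatrix (Fin.last n) j.castSucc * x j.castSucc) := by
      rw [Finset.mul_sum, Finset.mul_sum, ← Finset.sum_add_distrib]
      apply Finset.sum_congr rfl
      intro j _
      rw [hkey]; ring
    rw [e]; ring
  have hK2 : ∀ z, φ z = 0 → z ∈ LinearMap.range (Matrix.mulVecLin T.picMatrix) := by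
    intro z hz
    refine ⟨Pi.single (Fin.last n) (-(z (Fin.last n))), ?_⟩
    ext k
    rw [Matrix.mulVecLin_apply]
    simp only [Matrix.mulVec, dotProduct]
    rw [Finset.sum_eq_single (Fin.last n)]
    · rw [Pi.single_eq_same]
      refine Fin.lastCases ?_ (fun i => ?_) k
      · rw [hPll]; ring
      · have h0 : φ z i = 0 := congrFun hz i
        rw [hφ] at h0
        have hri : r i ≠ 0 := by
          rcases (hr i).1 with h | h <;> rw [h] <;> norm_num
        have h1 := (mul_eq_zero.mp h0).resolve_left hri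
        linarith
    · intro j _ hj
      rw [Pi.single_eq_of_ne hj, mul_zero]
    · intro h
      exact absurd (Finset.mem_univ _) h
  have hle : LinearMap.range (Matrix.mulVecLin T.picMatrix)
      ≤ (LinearMap.range (Matrix.mulVecLin T'.picMatrix)).comap φ := by
    rintro _ ⟨x, rfl⟩
    rw [Submodule.mem_comap, Matrix.mulVecLin_apply, hK1]
    exact ⟨_, rfl⟩
  refine ⟨(Submodule.mapQ _ _ φ hle).toAddMonoidHom, ?_, ?_⟩
  · rw [injective_iff_map_eq_zero]
    intro a ha
    obtain ⟨x, rfl⟩ := Submodule.Quotient.mk_surjective _ a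
    rw [LinearMap.toAddMonoidHom_coe, Submodule.mapQ_apply, Submodule.Quotient.mk_eq_zero] at ha
    obtain ⟨y, hy⟩ := ha
    rw [Submodule.Quotient.mk_eq_zero]
    have hx' : φ (T.picMatrix.mulVec (Fin.snoc (α := fun _ => ℤ) y 0)) = φ x := by
      rw [hK1, ← hy, Matrix.mulVecLin_apply]
      congr 1
      ext j
      simp
    have hz : φ (x - T.picMatrix.mulVec (Fin.snoc (α := fun _ => ℤ) y 0)) = 0 := by
      rw [map_sub, hx', sub_self]
    have h1 := hK2 _ hz
    have h2 : T.picMatrix.mulVec (Fin.snoc (α := fun _ => ℤ) y 0)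
        ∈ LinearMap.range (Matrix.mulVecLin T.picMatrix) := ⟨_, rfl⟩
    have h3 := Submodule.add_mem _ h1 h2
    simpa using h3
  · intro y
    obtain ⟨y0, rfl⟩ := Submodule.Quotient.mk_surjective _ y
    refine ⟨Submodule.Quotient.mk (Fin.snoc (α := fun _ => ℤ)
      (fun i => (if r i = 1 then 2 else 1) * y0 i) 0), ?_⟩
    rw [LinearMap.toAddMonoidHom_coe, Submodule.mapQ_apply]
    have e : (2 : ℕ) • (Submodule.Quotient.mk y0 : T'.Pic) = Submodule.Quotient.mk ((2:ℕ) • y0) :=
      (map_nsmul (Submodule.mkQ _) 2 y0).symm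
    rw [e]
    congr 1
    ext i
    rw [hφ]
    simp only [Fin.snoc_castSucc, Fin.snoc_last, mul_zero, add_zero, Pi.smul_apply, smul_eq_mul,
      nsmul_eq_mul, Nat.cast_ofNat]
    rcases (hr i).1 with h | h
    · rw [h]; simp
    · rw [h]; simp


end Groth.Agent.S2180
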