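import Groth.Statements.S2181
import Mathlib
import Groth.Agent.Lib.Helper7.NumType
import Groth.Agent.S2175
import Groth.Agent.S2176
import Groth.Agent.S2178
import Groth.Agent.S2180

set_option autoImplicit false
open Finset
open Models Models.NumericalType

namespace Groth.Agent.S2181

/-- Transport of a numerical type along a permutation of the indices. -/
def permNT {n : ℕ} (T : Models.NumericalType n) (σ : Equiv.Perm (Fin n)) :
    Models.NumericalType n where
  m := fun i => T.m (σ i)
  a := fun i j => T.a (σ i) (σ j)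
  w := fun i => T.w (σ i)
  g := fun i => T.g (σ i)
  pos := T.pos
  m_pos := fun i => T.m_pos _
  w_pos := fun i => T.w_pos _
  g_nonneg := fun i => T.g_nonneg _
  symm := by
    ext i j
    have := congrFun (congrFun T.symm (σ i)) (σ j)
    simpa [Matrix.transpose_apply] using this
  offDiag_nonneg := fun i j hij => T.offDiag_nonneg _ _ (fun h => hij (σ.injective h))
  connected := by
    intro I hI hne
    obtain ⟨i', hi', j', hj', hij⟩ := T.connected (I.map σ.toEmbedding) (by simpa using hI) (by
      intro h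
      apply hne
      rw [Finset.eq_univ_iff_forall] at h ⊢
      intro x
      have := h (σ x)
      simpa using this)
    rw [Finset.mem_map] at hi'
    obtain ⟨i, hi, rfl⟩ := hi'
    refine ⟨i, hi, σ.symm j', ?_, ?_⟩
    · intro hmem
      apply hj'
      rw [Finset.mem_map]
      exact ⟨σ.symm j', hmem, by simp⟩
    · simpa using hij
  mulVec_m := by
    ext i
    have := congrFun T.mulVec_m (σ i)
    simp only [Matrix.mulVec, dotProduct, Pi.zero_apply] at this ⊢
    rw [← this]
    exact Equiv.sum_comp σ (fun j => T.a (σ i) j * T.m j)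
  w_dvd := fun i j => T.w_dvd _ _

theorem permNT_genus {n : ℕ} (T : Models.NumericalType n) (σ : Equiv.Perm (Fin n)) :
    (permNT T σ).genus = T.genus := by
  unfold NumericalType.genus
  have h1 : ∑ i, (permNT T σ).m i * (permNT T σ).w i * ((permNT T σ).g i - 1)
      = ∑ i, T.m i * T.w i * (T.g i - 1) :=
    Equiv.sum_comp σ (fun i => T.m i * T.w i * (T.g i - 1))
  have h2 : ∑ i, (permNT T σ).m i * (permNT T σ).a i i = ∑ i, T.m i * T.a i i :=
    Equiv.sum_comp σ (fun i => T.m i * T.a i i)
  rw [h1, h2]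

theorem permNT_pic_inj {n : ℕ} (T : Models.NumericalType n) (σ : Equiv.Perm (Fin n)) :
    ∃ f : T.Pic →+ (permNT T σ).Pic, Function.Injective f := by
  let ψ : (Fin n → ℤ) →ₗ[ℤ] (Fin n → ℤ) := LinearMap.funLeft ℤ ℤ σ
  have hψ : ∀ x i, ψ x i = x (σ i) := fun _ _ => rfl
  have hK : ∀ x, ψ (T.picMatrix.mulVec x) = (permNT T σ).picMatrix.mulVec (ψ x) := by
    intro x
    ext i
    rw [hψ]
    simp only [Matrix.mulVec, dotProduct]
    exact (Equiv.sum_comp σ (fun j => T.picMatrix (σ i) j * x j)).symm
  have hle : LinearMap.range (Matrix.mulVecLin T.picMatrix)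
      ≤ (LinearMap.range (Matrix.mulVecLin (permNT T σ).picMatrix)).comap ψ := by
    rintro _ ⟨x, rfl⟩
    rw [Submodule.mem_comap, Matrix.mulVecLin_apply, hK]
    exact ⟨_, rfl⟩
  refine ⟨(Submodule.mapQ _ _ ψ hle).toAddMonoidHom, ?_⟩
  rw [injective_iff_map_eq_zero]
  intro a ha
  obtain ⟨x, rfl⟩ := Submodule.Quotient.mk_surjective _ a
  rw [LinearMap.toAddMonoidHom_coe, Submodule.mapQ_apply, Submodule.Quotient.mk_eq_zero] at ha
  obtain ⟨z, hz⟩ := ha
  rw [Submodule.Quotient.mk_eq_zero]
  refine ⟨fun j => z (σ.symm j), ?_⟩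
  have hinj : Function.Injective ψ := by
    intro u v huv
    ext j
    have := congrFun huv (σ.symm j)
    simpa [hψ] using this
  apply hinj
  rw [Matrix.mulVecLin_apply, hK, ← hz, Matrix.mulVecLin_apply]
  congr 1
  ext j
  simp [hψ]

theorem exists_inj_int : ∀ (k : ℕ) (T : Models.NumericalType (k + 1)), T.genus ≤ 0 →
    ∃ ι : T.Pic →+ ℤ, Function.Injective ι := by
  intro k
  induction k with
  | zero =>
    intro T _
    have : Subsingleton (Fin (0 + 1)) := (inferInstance : Subsingleton (Fin 1))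
    have ha0 : ∀ i j, T.a i j = 0 := by
      intro i j
      have hi : i = 0 := Subsingleton.elim _ _
      have hj : j = 0 := Subsingleton.elim _ _
      have h := Groth.Agent.Lib.helper7.NT_row T 0
      rw [Fin.sum_univ_one] at h
      rw [hi, hj]
      exact (mul_eq_zero.mp h).resolve_right (T.m_pos 0).ne'
    have hP0 : T.picMatrix = 0 := by
      ext i j
      simp [NumericalType.picMatrix, ha0]
    have hrange : LinearMap.range (Matrix.mulVecLin T.picMatrix) = ⊥ := by
      rw [hP0]; simp
    refine ⟨(Submodule.liftQ _ (LinearMap.proj (R := ℤ) (φ := fun _ : Fin (0+1) => ℤ) 0)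
      (by rw [hrange]; exact bot_le)).toAddMonoidHom, ?_⟩
    rw [injective_iff_map_eq_zero]
    intro a ha
    obtain ⟨x, rfl⟩ := Submodule.Quotient.mk_surjective _ a
    rw [LinearMap.toAddMonoidHom_coe, Submodule.liftQ_apply] at ha
    rw [Submodule.Quotient.mk_eq_zero, hrange, Submodule.mem_bot]
    ext i
    have : i = 0 := Subsingleton.elim _ _
    rw [this]
    exact ha
  | succ k ih =>
    intro T hg
    have hnm : ¬ T.IsMinimal := by
      intro hmin
      have := Groth.Agent.S2176.result T hmin (by omega)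
      omega
    obtain ⟨i, hi⟩ := not_forall.mp hnm
    have hi : T.IsMinusOne i := not_not.mp hi
    let σ : Equiv.Perm (Fin (k + 1 + 1)) := Equiv.swap (Fin.last (k+1)) i
    have hσ : σ (Fin.last (k+1)) = i := Equiv.swap_apply_left _ _
    have hlast : (permNT T σ).IsMinusOne (Fin.last (k+1)) := by
      refine ⟨?_, ?_⟩
      · change T.g (σ (Fin.last (k+1))) = 0
        rw [hσ]; exact hi.1
      · change T.a (σ (Fin.last (k+1))) (σ (Fin.last (k+1))) = - T.w (σ (Fin.last (k+1)))
        rw [hσ]; exact hi.2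
    obtain ⟨⟨T', hT'⟩, hgen⟩ := Groth.Agent.S2175.result (permNT T σ) hlast
    have hg' : T'.genus ≤ 0 := by
      rw [hgen T' hT', permNT_genus]; exact hg
    obtain ⟨ι', hι'⟩ := ih T' hg'
    obtain ⟨f1, hf1, -⟩ := Groth.Agent.S2180.result (permNT T σ) hlast T' hT'
    obtain ⟨f0, hf0⟩ := permNT_pic_inj T σ
    exact ⟨ι'.comp (f1.comp f0), hι'.comp (hf1.comp hf0)⟩



/-- If the genus of a numerical type is at most 0 then its Picard group is infinite cyclic. -/
theorem result {n : ℕ} (T : Models.NumericalType n) (hg : T.genus ≤ 0) : Nonempty (T.Pic ≃+ ℤ) := by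
  obtain ⟨k, rfl⟩ : ∃ k, n = k + 1 := Nat.exists_eq_succ_of_ne_zero T.pos.ne'
  obtain ⟨ι, hι⟩ := exists_inj_int k T hg
  have : Module.IsTorsionFree ℤ T.Pic :=
    Function.Injective.moduleIsTorsionFree (R := ℤ) ι hι (fun r m => map_zsmul ι r m)
  exact ⟨(LinearEquiv.ofFinrankEq T.Pic ℤ
    (by rw [Groth.Agent.S2178.result T, Module.finrank_self])).toAddEquiv⟩


end Groth.Agent.S2181
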