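import Groth.Statements.S2183
import Mathlib
import Groth.Agent.Lib.Helper7.NumType
import Groth.Agent.S2173
import Groth.Agent.S2182

set_option autoImplicit false
open Finset
open Models Models.NumericalType

namespace Groth.Agent.S2183



open Classical in
/-- Let T be a minimal numerical type with n > 1 indices and genus g at least 2, and let J be the set of
indices which are not (-2)-indices. Then J has at most 2g - 2 elements, and for j in J one has g j <
g, m j * |a j j| at most 6g - 6, and m i * a i j at most 6g - 6 for every index i. -/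
theorem result {n : ℕ} (T : Models.NumericalType n) (hmin : T.IsMinimal) (hn : 1 < n) (hg : 2 ≤ T.genus) :
    ((univ.filter fun j => ¬T.IsMinusTwo j).card : ℤ) ≤ 2 * T.genus - 2 ∧
      ∀ j, ¬T.IsMinusTwo j →
        T.g j < T.genus ∧ T.m j * |T.a j j| ≤ 6 * T.genus - 6 ∧
          ∀ i, T.m i * T.a i j ≤ 6 * T.genus - 6 := by
  open Groth.Agent.Lib.helper7 in
  choose c hc using fun i => T.w_dvd i i
  obtain ⟨d, hd⟩ := Groth.Agent.S2173.result T
  -- per-vertex facts
  have hfacts : ∀ i, c i ≤ -1 ∧ 1 ≤ T.m i * T.w i ∧ (T.g i = 0 → c i ≤ -2) := by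
    intro i
    have hneg := NT_diag_neg T hn i
    have hw := T.w_pos i
    have hm := T.m_pos i
    have hc1 : c i < 0 := by
      by_contra h
      rw [not_lt] at h
      have := mul_nonneg hw.le h
      rw [hc i] at hneg
      linarith
    refine ⟨by omega, by nlinarith, fun hg0 => ?_⟩
    have hc2 : c i ≠ -1 := by
      intro h
      apply hmin i
      refine ⟨hg0, ?_⟩
      rw [hc i, h]; ring
    omega
  obtain ⟨t, ht⟩ : ∃ t : Fin n → ℤ, t = fun i => 2 * (T.m i * T.w i * (T.g i - 1)) - T.m i * T.a i i :=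
    ⟨_, rfl⟩
  have ht_eq : ∀ i, t i = (T.m i * T.w i) * (2 * T.g i - 2 - c i) := by
    intro i; rw [ht]; simp only []; rw [hc i]; ring
  have ht_nonneg : ∀ i, 0 ≤ t i := by
    intro i
    rw [ht_eq]
    obtain ⟨h1, h2, h3⟩ := hfacts i
    apply mul_nonneg (by linarith)
    rcases (T.g_nonneg i).lt_or_eq with hg' | hg'
    · have : 1 ≤ T.g i := hg'
      linarith
    · have := h3 hg'.symm
      linarith
  have hsum : ∑ i, t i = 2 * T.genus - 2 := by
    rw [ht]
    simp only []
    rw [Finset.sum_sub_distrib, ← Finset.mul_sum, hd]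
    unfold NumericalType.genus
    rw [hd, Int.mul_ediv_cancel_left _ (by norm_num : (2:ℤ) ≠ 0)]
    ring
  have htle : ∀ j, t j ≤ 2 * T.genus - 2 := by
    intro j
    rw [← hsum]
    exact Finset.single_le_sum (fun i _ => ht_nonneg i) (Finset.mem_univ j)
  have hJ : ∀ j, ¬T.IsMinusTwo j → 1 ≤ t j ∧ T.g j < T.genus ∧ T.m j * |T.a j j| ≤ 3 * t j := by
    intro j hj
    obtain ⟨h1, h2, h3⟩ := hfacts j
    have habs : |T.a j j| = - T.a j j := abs_of_nonpos (NT_diag_nonpos T j)
    have htj := htle j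
    have hM0 : (0:ℤ) ≤ T.m j * T.w j := by linarith
    rcases (T.g_nonneg j).lt_or_eq with hg' | hg'
    · have hg1 : 1 ≤ T.g j := hg'
      have hk : 1 ≤ 2 * T.g j - 2 - c j := by linarith
      have hge : 2 * T.g j - 2 - c j ≤ t j := by
        rw [ht_eq]
        nlinarith [mul_le_mul_of_nonneg_right h2 (by linarith : (0:ℤ) ≤ 2 * T.g j - 2 - c j)]
      refine ⟨by linarith, by omega, ?_⟩
      rw [habs, hc j, ht_eq]
      nlinarith [mul_nonneg hM0 (by linarith : (0:ℤ) ≤ 2 * T.g j - 2),
        mul_nonneg hM0 (by linarith : (0:ℤ) ≤ - c j)]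
    · have hc2 := h3 hg'.symm
      have hc3 : c j ≠ -2 := by
        intro h
        apply hj
        refine ⟨hg'.symm, ?_⟩
        rw [hc j, h]; ring
      have hc4 : c j ≤ -3 := by omega
      refine ⟨?_, by rw [← hg']; linarith, ?_⟩
      · rw [ht_eq, ← hg']
        nlinarith [mul_le_mul_of_nonneg_right h2 (by linarith : (0:ℤ) ≤ -2 - c j)]
      · rw [habs, hc j, ht_eq, ← hg']
        nlinarith [mul_nonneg hM0 (by linarith : (0:ℤ) ≤ - c j - 3)]
  refine ⟨?_, fun j hj => ?_⟩
  · have h1 : ((univ.filter fun j => ¬T.IsMinusTwo j).card : ℤ)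
        = ∑ j ∈ univ.filter (fun j => ¬T.IsMinusTwo j), (1:ℤ) := by simp
    rw [h1, ← hsum]
    refine le_trans (Finset.sum_le_sum (fun j hj => (hJ j (Finset.mem_filter.mp hj).2).1)) ?_
    exact Finset.sum_le_sum_of_subset_of_nonneg (Finset.filter_subset _ _) (fun i _ _ => ht_nonneg i)
  · obtain ⟨h1, h2, h3⟩ := hJ j hj
    have htj := htle j
    refine ⟨h2, by linarith, fun i => ?_⟩
    by_cases hpos : 0 < T.a i j
    · have := (Groth.Agent.S2182.result T i j hpos).1
      linarith
    · have : T.m i * T.a i j ≤ 0 :=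
        mul_nonpos_of_nonneg_of_nonpos (T.m_pos i).le (not_lt.mp hpos)
      linarith


end Groth.Agent.S2183
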