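import Groth.Statements.S2187
import Groth.Agent.Lib.Helper20.Vasc1

set_option autoImplicit false
universe u
open CategoryTheory
open LCI

namespace Groth.Agent.S2187

/-- Let R be a Noetherian local ring and I an ideal of finite projective dimension as an R-module. If F
is a direct summand of the conormal module I/I^2 which is isomorphic to R/I, then there is a
nonzerodivisor x in I whose class in I/I^2 generates F. -/
theorem result {R : Type u} [CommRing R]
    [IsNoetherianRing R] [IsLocalRing R] (I : Ideal R) (n : ℕ)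
    (hpd : HasProjectiveDimensionLT (ModuleCat.of R I) n)
    (F G : Submodule (R ⧸ I) I.Cotangent) (hFG : IsCompl F G) (e : F ≃ₗ[R ⧸ I] (R ⧸ I)) :
    ∃ (x : R) (hx : x ∈ I), x ∈ nonZeroDivisors R ∧
      Submodule.span (R ⧸ I) {I.toCotangent ⟨x, hx⟩} = F := by
  by_cases hI : I = ⊤
  · subst hI
    have h1 : Subsingleton (R ⧸ (⊤ : Ideal R)) := Ideal.Quotient.subsingleton_iff.mpr rfl
    have h2 : Subsingleton ((⊤ : Ideal R).Cotangent) :=
      Module.subsingleton (R ⧸ (⊤ : Ideal R)) _
    exact ⟨1, Submodule.mem_top, one_mem _, Subsingleton.elim _ _⟩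
  · let f : I.Cotangent := (e.symm 1 : F)
    obtain ⟨⟨y, hy⟩, hyf⟩ := Ideal.toCotangent_surjective I f
    have hFspan : Submodule.span (R ⧸ I) {f} = F := by
      have h1 : Submodule.map (F.subtype ∘ₗ (e.symm : (R ⧸ I) →ₗ[R ⧸ I] F)) ⊤ = F := by
        rw [Submodule.map_top, LinearMap.range_comp, LinearEquiv.range, Submodule.map_top,
          Submodule.range_subtype]
      rw [← h1, ← Ideal.span_singleton_one, Ideal.span, Submodule.map_span, Set.image_singleton]
      rfl
    have hI0 : I ≠ ⊥ := by
      intro h0
      have hy0 : y = 0 := by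
        have h := hy
        rw [h0] at h
        exact Ideal.mem_bot.mp h
      have hf0 : f = 0 := by
        rw [← hyf]
        have : (⟨y, hy⟩ : I) = 0 := Subtype.ext hy0
        rw [this, map_zero]
      have h1 : (e.symm 1 : F) = 0 := Subtype.ext hf0
      have h2 : (1 : R ⧸ I) = 0 := by
        have := congrArg e h1
        simpa using this
      exact hI (Ideal.Quotient.subsingleton_iff.mp (subsingleton_of_zero_eq_one h2.symm))
    obtain ⟨z, hz, hnzd⟩ := Groth.Agent.Lib.helper20.Vasc1.exists_nzd_coset I hI0 n hpd y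
    have hzI : z ∈ I := Ideal.pow_le_self two_ne_zero hz
    refine ⟨y + z, I.add_mem hy hzI, hnzd, ?_⟩
    have hcot : I.toCotangent ⟨y + z, I.add_mem hy hzI⟩ = f := by
      rw [← hyf, Ideal.toCotangent_eq]
      simpa using hz
    rw [hcot, hFspan]

end Groth.Agent.S2187
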