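import Groth.Statements.S2188
import Groth.Agent.Lib.Helper20.Vasc3

set_option autoImplicit false
universe u
open CategoryTheory
open LCI

namespace Groth.Agent.S2188

/-- Let R be a Noetherian local ring and I an ideal of finite projective dimension as an R-module. If F
is a direct summand of I/I^2 which is free of rank r over R/I, then there is a regular sequence x_1,
..., x_r of R inside I whose classes in I/I^2 generate F. -/
theorem result {R : Type u} [CommRing R]
    [IsNoetherianRing R] [IsLocalRing R] (I : Ideal R) (hI : I ≠ ⊤) (n : ℕ)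
    (hpd : HasProjectiveDimensionLT (ModuleCat.of R I) n)
    (F G : Submodule (R ⧸ I) I.Cotangent) (hFG : IsCompl F G) (r : ℕ)
    (e : F ≃ₗ[R ⧸ I] (Fin r → R ⧸ I)) :
    ∃ (x : Fin r → R) (hx : ∀ i, x i ∈ I), RingTheory.Sequence.IsRegular R (List.ofFn x) ∧
      Submodule.span (R ⧸ I) (Set.range fun i => I.toCotangent ⟨x i, hx i⟩) = F := by
  classical
  -- the basis of `F`
  let f : Fin r → I.Cotangent := fun i => (e.symm (Pi.single i 1) : F)
  have hlift : ∀ i, ∃ a : I, I.toCotangent a = f i := fun i => Ideal.toCotangent_surjective I (f i)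
  choose a ha using hlift
  let y : Fin r → R := fun i => (a i : R)
  have hy : ∀ i, y i ∈ I := fun i => (a i).2
  -- the functionals
  let lam : Fin r → (I →ₗ[R] R ⧸ I) := fun i =>
    ((LinearMap.proj i ∘ₗ e.toLinearMap ∘ₗ F.projectionOnto G hFG).restrictScalars R) ∘ₗ
      I.toCotangent
  have hlam : ∀ i j, lam i ⟨y j, hy j⟩ = if i = j then 1 else 0 := by
    intro i j
    have h1 : (⟨y j, hy j⟩ : I) = a j := rfl
    show (e (F.projectionOnto G hFG (I.toCotangent ⟨y j, hy j⟩))) i = _
    rw [h1, ha j]
    have h2 : F.projectionOnto G hFG (f j) = e.symm (Pi.single j 1) :=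
      Submodule.projectionOnto_apply_left hFG _
    rw [h2, LinearEquiv.apply_symm_apply, Pi.single_apply]
  obtain ⟨x, hxy, hreg⟩ :=
    Groth.Agent.Lib.helper20.Vasc3.regseq_of_functionals r R I hI n hpd y hy lam hlam
  have hxI : ∀ i, x i ∈ I := by
    intro i
    have h1 : x i = (x i - y i) + y i := by ring
    rw [h1]
    exact I.add_mem (Ideal.pow_le_self two_ne_zero (hxy i)) (hy i)
  refine ⟨x, hxI, hreg, ?_⟩
  have hcot : (fun i => I.toCotangent ⟨x i, hxI i⟩) = f := by
    funext i
    rw [← ha i, Ideal.toCotangent_eq]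
    exact hxy i
  rw [hcot]
  have h1 : Submodule.map (F.subtype ∘ₗ (e.symm : (Fin r → R ⧸ I) →ₗ[R ⧸ I] F)) ⊤ = F := by
    rw [Submodule.map_top, LinearMap.range_comp, LinearEquiv.range, Submodule.map_top,
      Submodule.range_subtype]
  rw [← h1, ← (Pi.basisFun (R ⧸ I) (Fin r)).span_eq, Submodule.map_span, ← Set.range_comp]
  congr 1
  ext i
  simp [f]

end Groth.Agent.S2188
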