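import Groth.Statements.S2189
import Groth.Agent.Lib.Helper20.Vasc4
import Groth.Agent.Lib.Helper17.RegSpread2

set_option autoImplicit false
universe u
open CategoryTheory
open LCI

namespace Groth.Agent.S2189

/-- Let R be a Noetherian ring and I an ideal which has finite projective dimension as an R-module and
whose conormal module I/I^2 is finite locally free (projective) over R/I. Then I is a regular ideal:
for every prime p containing I there is g outside p such that the extension of I to R_g is generated
by a regular sequence of R_g. -/
theorem result {R : Type u} [CommRing R]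
    [IsNoetherianRing R] (I : Ideal R) (n : ℕ)
    (hpd : HasProjectiveDimensionLT (ModuleCat.of R I) n)
    [Module.Projective (R ⧸ I) I.Cotangent] (p : Ideal R) [p.IsPrime] (hIp : I ≤ p) :
    ∃ g : R, g ∉ p ∧ ∃ rs : List (Localization.Away g),
      RingTheory.Sequence.IsRegular (Localization.Away g) rs ∧
        Ideal.ofList rs = I.map (algebraMap R (Localization.Away g)) := by
  open Groth.Agent.Lib.helper20 in
  -- the local ring at `p`
  have hI' : I.map (algebraMap R (Localization.AtPrime p)) ≠ ⊤ := by
    intro h
    have h1 : I.map (algebraMap R (Localization.AtPrime p)) ≤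
        IsLocalRing.maximalIdeal (Localization.AtPrime p) := by
      rw [← Localization.AtPrime.map_eq_maximalIdeal]
      exact Ideal.map_mono hIp
    rw [h] at h1
    exact (IsLocalRing.maximalIdeal.isMaximal _).ne_top (top_le_iff.mp h1)
  have hpd1 : HasProjectiveDimensionLE (ModuleCat.of R I) n :=
    hasProjectiveDimensionLT_of_ge _ n (n + 1) (Nat.le_succ n)
  have hpd2 : HasProjectiveDimensionLT (ModuleCat.of (Localization.AtPrime p)
      (I.map (algebraMap R (Localization.AtPrime p)))) (n + 1) :=
    Vasc4.pd_map_localization I p.primeCompl (Localization.AtPrime p) n hpd1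
  have hfinR : Module.Finite R I.Cotangent :=
    Module.Finite.of_surjective I.toCotangent I.toCotangent_surjective
  have hfin : Module.Finite (R ⧸ I) I.Cotangent := Module.Finite.of_restrictScalars_finite R _ _
  have hproj : Module.Projective
      (Localization.AtPrime p ⧸ I.map (algebraMap R (Localization.AtPrime p)))
      (I.map (algebraMap R (Localization.AtPrime p))).Cotangent :=
    Vasc4.projective_cotangent_map I p.primeCompl (Localization.AtPrime p)
  obtain ⟨rs, hreg, hrs⟩ := Vasc4.exists_regular_of_projective_cotangent
    (I.map (algebraMap R (Localization.AtPrime p))) hI' (n + 1) hpd2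
  obtain ⟨g, hg, ks, -, -, hB⟩ := Groth.Agent.Lib.helper17.RegSpread.spread_regular p I hIp rs
    hreg.toIsWeaklyRegular hrs.symm
  obtain ⟨h1, h2⟩ := hB (Localization.Away g)
  exact ⟨g, hg, ks.map (algebraMap R (Localization.Away g)), h1, h2.symm⟩

end Groth.Agent.S2189
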