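import Groth.Statements.S2192
import Groth.Agent.Lib.Helper22.DPPolyGen

set_option autoImplicit false
universe u
open DPow

-- Under `import Mathlib` the name `Finset.antidiagonal` is shadowed by the well-ordered-support
-- version from `Mathlib.Data.Finset.MulAntidiagonal`; this alias makes the statement below elaborate
-- exactly as in the frozen file (to `Finset.HasAntidiagonal.antidiagonal`).
namespace Groth.Agent.S2192.Finset
export _root_.Finset.HasAntidiagonal (antidiagonal)
end Groth.Agent.S2192.Finset

namespace Groth.Agent.S2192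

/-- Let I be an ideal of a ring A generated by a set S, and let d n : A -> A (n a natural number) be
maps with d 0 = 1 and d 1 = id on I, d n mapping I into I for n > 0, vanishing off I, additive in
the divided-power sense and satisfying d n (a x) = a^n d n x for all x in I. If the product rule d m
x * d n x = C(m+n, m) d (m+n) x and the composition rule for d m (d n x) hold for all x in S, then
the d n form a divided power structure on I. -/
theorem result {A : Type u} [CommRing A] (I : Ideal A) (S : Set A)
    (hS : Ideal.span S = I) (d : ℕ → A → A) (h_null : ∀ (n : ℕ) (x : A), x ∉ I → d n x = 0)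
    (h_zero : ∀ x ∈ I, d 0 x = 1) (h_one : ∀ x ∈ I, d 1 x = x)
    (h_mem : ∀ (n : ℕ) (x : A), n ≠ 0 → x ∈ I → d n x ∈ I)
    (h_add : ∀ (n : ℕ) (x y : A), x ∈ I → y ∈ I →
      d n (x + y) = (Finset.antidiagonal n).sum fun k => d k.1 x * d k.2 y)
    (h_mul : ∀ (n : ℕ) (a x : A), x ∈ I → d n (a * x) = a ^ n * d n x)
    (h_mul_dpow : ∀ (m n : ℕ) (x : A), x ∈ S → d m x * d n x = (m + n).choose m * d (m + n) x)
    (h_comp : ∀ (m n : ℕ) (x : A), n ≠ 0 → x ∈ S →
      d m (d n x) = Nat.uniformBell m n * d (m * n) x) :
    ∃ γ : DividedPowers I, γ.dpow = d := by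
  have h : Groth.Agent.Lib.helper22.DPPoly.PreDP I d :=
    ⟨h_zero, h_one, h_mem, h_add, h_mul⟩
  exact h.exists_dividedPowers h_null hS
    (fun x hx => ⟨fun m n => h_mul_dpow m n x hx, fun m n hn => h_comp m n x hn hx⟩)

end Groth.Agent.S2192
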