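import Groth.Statements.S2196
import Mathlib

set_option autoImplicit false
universe u v
open Disc

namespace Groth.Agent.S2196

section helpers

section helpers
open TensorProduct
variable {A : Type u} {B : Type v} [CommRing A] [CommRing B] [Algebra A B]

lemma smul_eq_tmul_smul (b : B) (ω : Ω[B⁄A]) : b • ω = ((b ⊗ₜ[A] (1 : B)) : B ⊗[A] B) • ω := by
  rw [← algebraMap_smul (B ⊗[A] B) b ω]
  rfl

lemma key1 : Disc.noetherDifferent A B ≤ Module.annihilator B Ω[B⁄A] := by
  unfold Disc.noetherDifferent
  rw [Ideal.map_le_iff_le_comap]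
  intro t ht
  rw [Ideal.mem_comap, Module.mem_annihilator]
  intro ω
  obtain ⟨x, rfl⟩ := KaehlerDifferential.fromIdeal_surjective A B ω
  rw [smul_eq_tmul_smul, ← map_smul]
  show (KaehlerDifferential.ideal A B).toCotangent _ = 0
  rw [Ideal.toCotangent_eq_zero]
  set b := (Algebra.TensorProduct.lmul' (S := B) A) t with hb
  have h1 : (b ⊗ₜ[A] (1 : B) : B ⊗[A] B) - t ∈ KaehlerDifferential.ideal A B := by
    rw [RingHom.mem_ker, map_sub]
    simp [hb]
  have h2 : t * (x : B ⊗[A] B) = 0 := by
    have := (Submodule.mem_annihilator.mp ht) x.1 x.2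
    simpa using this
  have h3 : (((b ⊗ₜ[A] (1 : B) : B ⊗[A] B) • x : KaehlerDifferential.ideal A B) : B ⊗[A] B) =
      ((b ⊗ₜ[A] (1 : B) : B ⊗[A] B) - t) * (x : B ⊗[A] B) := by
    rw [sub_mul, h2, sub_zero]; rfl
  rw [h3, pow_two]
  exact Ideal.mul_mem_mul h1 x.2

lemma key2 [Algebra.FiniteType A B] (b : B) (hb : b ∈ Module.annihilator B Ω[B⁄A]) :
    ∃ n : ℕ, b ^ n ∈ Disc.noetherDifferent A B := by
  set T := B ⊗[A] B
  set I : Ideal T := KaehlerDifferential.ideal A B with hI
  set β : T := b ⊗ₜ[A] (1 : B) with hβ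
  have hfin : Module.Finite T I := Module.Finite.iff_fg.mpr (KaehlerDifferential.ideal_fg A B)
  let f : Module.End T I := Algebra.lsmul T T I β
  have hrange : LinearMap.range f ≤ I • (⊤ : Submodule T I) := by
    rintro _ ⟨x, rfl⟩
    have h1 : b • (KaehlerDifferential.fromIdeal A B x) = 0 := Module.mem_annihilator.mp hb _
    rw [smul_eq_tmul_smul, ← map_smul] at h1
    have h2 : (I.toCotangent (β • x)) = 0 := h1
    rw [Ideal.toCotangent_eq_zero] at h2
    have h3 : (I • (⊤ : Submodule T I)).map I.subtype = I ^ 2 := by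
      rw [pow_two, Submodule.map_smul'' I ⊤ (Submodule.subtype I), smul_eq_mul,
        Submodule.map_subtype_top]
    rw [← h3] at h2
    obtain ⟨y, hy, hyx⟩ := h2
    have : f x = y := (Subtype.ext hyx).symm
    rw [this]
    exact hy
  obtain ⟨p, hp, -, hcoeff, haeval⟩ :=
    LinearMap.exists_monic_and_natDegree_eq_and_coeff_mem_pow_and_aeval_eq_zero T f I hrange
  have h3 : Polynomial.aeval f p = Algebra.lsmul T T I (Polynomial.aeval β p) :=
    Polynomial.aeval_algHom_apply (Algebra.lsmul T T I) β p
  set t := Polynomial.aeval β p with ht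
  have htann : t ∈ Submodule.annihilator (I : Submodule T T) := by
    rw [Submodule.mem_annihilator]
    intro x hx
    have := congrArg (fun g : Module.End T I => ((g ⟨x, hx⟩ : I) : T)) (h3.symm.trans haeval)
    simpa using this
  refine ⟨p.natDegree, ?_⟩
  have hμt : (Algebra.TensorProduct.lmul' (S := B) A) t = b ^ p.natDegree := by
    rw [ht, Polynomial.aeval_eq_sum_range, map_sum]
    rw [Finset.sum_eq_single p.natDegree]
    · rw [hp.coeff_natDegree, one_smul, map_pow, hβ]
      simp
    · intro k hk hkn
      have hk' : k < p.natDegree := lt_of_le_of_ne (Nat.lt_succ_iff.mp (Finset.mem_range.mp hk)) hkn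
      have h4 : p.coeff k ∈ I := by
        have := hcoeff k
        exact Ideal.pow_le_self (by omega) this
      rw [smul_eq_mul, map_mul]
      have : (Algebra.TensorProduct.lmul' (S := B) A) (p.coeff k) = 0 := h4
      rw [this, zero_mul]
    · intro h; exact absurd (Finset.mem_range.mpr (Nat.lt_succ_self _)) h
  rw [← hμt]
  exact Ideal.mem_map_of_mem _ htann

end helpers


end helpers

/-- Let A -> B be a ring map of finite type and D its Noether different (the image in B of the
annihilator of the kernel of B tensor_A B -> B). Then a prime q of B contains D exactly when A -> B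
is not unramified at q. -/
theorem result {A : Type u} {B : Type v}
    [CommRing A] [CommRing B] [Algebra A B] [Algebra.FiniteType A B] :
    {q : PrimeSpectrum B | Disc.noetherDifferent A B ≤ q.asIdeal} =
      (Algebra.unramifiedLocus A B)ᶜ := by
  have : Module.Finite B Ω[B⁄A] := inferInstance
  rw [Algebra.unramifiedLocus_eq_compl_support, compl_compl, Module.support_eq_zeroLocus]
  ext q
  simp only [Set.mem_ofPred_eq, PrimeSpectrum.mem_zeroLocus, SetLike.coe_subset_coe]
  constructor
  · intro hD b hb
    obtain ⟨n, hn⟩ := key2 b hb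
    exact q.2.mem_of_pow_mem n (hD hn)
  · intro hAnn
    exact le_trans key1 hAnn

end Groth.Agent.S2196
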