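import Groth.Statements.S2197
import Mathlib

set_option autoImplicit false
universe u
open Disc

namespace Groth.Agent.S2197

section helpers

section helpers
open TensorProduct

variable {A B A' B' : Type u} [CommRing A] [CommRing B]
    [CommRing A'] [CommRing B'] [Algebra A B] [Algebra A A'] [Algebra A B'] [Algebra B B']
    [Algebra A' B'] [IsScalarTower A B B'] [IsScalarTower A A' B']

variable (A B A' B') in
noncomputable def f : B →ₐ[A] B' := IsScalarTower.toAlgHom A B B'

variable (A B A' B') in
noncomputable def φ : B ⊗[A] B →ₐ[A] B' ⊗[A'] B' :=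
  Algebra.TensorProduct.lift
    ((Algebra.TensorProduct.includeLeft : B' →ₐ[A] B' ⊗[A'] B').comp (f A B B'))
    (((Algebra.TensorProduct.includeRight : B' →ₐ[A'] B' ⊗[A'] B').restrictScalars A).comp
      (f A B B'))
    (fun _ _ => Commute.all _ _)

lemma φ_tmul (b1 b2 : B) : φ A B A' B' (b1 ⊗ₜ[A] b2) =
    (algebraMap B B' b1) ⊗ₜ[A'] (algebraMap B B' b2) := by
  simp [φ, f]

lemma mul_comp_φ (x : B ⊗[A] B) :
    Algebra.TensorProduct.lmul' (S := B') A' (φ A B A' B' x) =
      algebraMap B B' (Algebra.TensorProduct.lmul' (S := B) A x) := by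
  induction x using TensorProduct.induction_on with
  | zero => simp
  | tmul b1 b2 => rw [φ_tmul]; simp
  | add x y hx hy => rw [map_add, map_add, hx, hy, map_add, map_add]

/-- `B' ⊗[A'] B'` is the base change of `B ⊗[A] B`. -/
lemma isBaseChange_φ [Algebra.IsPushout A B A' B'] :
    IsBaseChange A' (φ A B A' B').toLinearMap := by
  have hB : IsBaseChange A' (IsScalarTower.toAlgHom A B B').toLinearMap :=
    (Algebra.IsPushout.symm (inferInstance : Algebra.IsPushout A B A' B')).out
  let e : A' ⊗[A] (B ⊗[A] B) ≃ₗ[A'] B' ⊗[A'] B' :=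
    (TensorProduct.AlgebraTensorModule.distribBaseChange A A' B B) ≪≫ₗ
      (TensorProduct.congr hB.equiv hB.equiv)
  apply IsBaseChange.of_equiv e
  intro x
  induction x using TensorProduct.induction_on with
  | zero => simp
  | tmul b1 b2 =>
    have h1 : TensorProduct.AlgebraTensorModule.distribBaseChange A A' B B
        ((1 : A') ⊗ₜ[A] (b1 ⊗ₜ[A] b2)) = ((1 : A') ⊗ₜ[A] b1) ⊗ₜ[A'] ((1 : A') ⊗ₜ[A] b2) := by
      apply (LinearEquiv.eq_symm_apply _).mp
      simp [TensorProduct.AlgebraTensorModule.distribBaseChange]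
    show (TensorProduct.congr hB.equiv hB.equiv)
      (TensorProduct.AlgebraTensorModule.distribBaseChange A A' B B
        ((1 : A') ⊗ₜ[A] (b1 ⊗ₜ[A] b2))) = _
    rw [h1, TensorProduct.congr_tmul, IsBaseChange.equiv_tmul, IsBaseChange.equiv_tmul,
      one_smul, one_smul]
    show _ = φ A B A' B' (b1 ⊗ₜ[A] b2)
    rw [φ_tmul]
    rfl
  | add x y hx hy =>
    rw [TensorProduct.tmul_add, map_add, hx, hy, map_add]

/-- key: annihilators of finitely generated ideals under the flat base change. -/
lemma ann_le [Algebra.IsPushout A B A' B'] [Module.Flat A A'] (s : Finset (B ⊗[A] B))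
    (y : B' ⊗[A'] B') (hy : ∀ i ∈ s, y * φ A B A' B' i = 0) :
    y ∈ Ideal.map (φ A B A' B')
      (Submodule.annihilator (Ideal.span (s : Set (B ⊗[A] B)))) := by
  classical
  let Φ := φ A B A' B'
  let g : (B ⊗[A] B) →ₗ[A] (s → B ⊗[A] B) :=
    LinearMap.pi fun i => LinearMap.mulRight A (i : B ⊗[A] B)
  let g' : (B' ⊗[A'] B') →ₗ[A'] (s → B' ⊗[A'] B') :=
    LinearMap.pi fun i => LinearMap.mulRight A' (Φ (i : B ⊗[A] B))
  let h₂ : (B ⊗[A] B) →ₗ[A] (B' ⊗[A'] B') := Φ.toLinearMap
  let h₃ : (s → B ⊗[A] B) →ₗ[A] (s → B' ⊗[A'] B') :=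
    LinearMap.pi fun i => Φ.toLinearMap ∘ₗ LinearMap.proj i
  have isb₂ : IsBaseChange A' h₂ := isBaseChange_φ
  have isb₃ : IsBaseChange A' h₃ :=
    IsBaseChange.pi (fun _ : s => Φ.toLinearMap) (fun _ => isBaseChange_φ)
  have hmaps : ∀ x : LinearMap.ker g, Φ (x : B ⊗[A] B) ∈ LinearMap.ker g' := by
    intro x
    have hx : g x = 0 := x.2
    rw [LinearMap.mem_ker]
    ext i
    have hxi : (x : B ⊗[A] B) * (i : B ⊗[A] B) = 0 := congrFun hx i
    show Φ (x : B ⊗[A] B) * Φ (i : B ⊗[A] B) = 0
    rw [← map_mul, hxi, map_zero]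
  let h₁ : LinearMap.ker g →ₗ[A] LinearMap.ker g' :=
    { toFun := fun x => ⟨Φ (x : B ⊗[A] B), hmaps x⟩
      map_add' := fun x y => by
        apply Subtype.ext
        simp
      map_smul' := fun a x => by
        apply Subtype.ext
        simp }
  have comm₁ : h₂.comp (LinearMap.ker g).subtype =
      ((LinearMap.ker g').subtype.restrictScalars A).comp h₁ := by
    apply LinearMap.ext
    intro x
    rfl
  have comm₂ : h₃.comp g = (g'.restrictScalars A).comp h₂ := by
    apply LinearMap.ext
    intro x
    funext i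
    show Φ (x * (i : B ⊗[A] B)) = Φ x * Φ (i : B ⊗[A] B)
    rw [map_mul]
  have hbc : IsBaseChange A' h₁ :=
    IsBaseChange.of_left_exact A' h₁ h₂ h₃ comm₁ comm₂ isb₂ isb₃
      (LinearMap.exact_subtype_ker_map g) (Submodule.injective_subtype _)
      (LinearMap.exact_subtype_ker_map g') (Submodule.injective_subtype _)
  have hyker : y ∈ LinearMap.ker g' := by
    rw [LinearMap.mem_ker]
    ext i
    exact hy i i.2
  have key : ∀ n : LinearMap.ker g', (n : B' ⊗[A'] B') ∈ Ideal.map Φ
      (Submodule.annihilator (Ideal.span (s : Set (B ⊗[A] B)))) := by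
    intro n
    induction n using hbc.inductionOn with
    | zero => exact Ideal.zero_mem _
    | tmul x =>
      apply Ideal.mem_map_of_mem
      rw [Submodule.mem_annihilator_span]
      rintro ⟨i, hi⟩
      have hx : g x = 0 := x.2
      exact congrFun hx ⟨i, hi⟩
    | smul a n hn =>
      show a • (n : B' ⊗[A'] B') ∈ _
      rw [Algebra.smul_def]
      exact Ideal.mul_mem_left _ _ hn
    | add n₁ n₂ h1 h2 => exact Ideal.add_mem _ h1 h2
  exact key ⟨y, hyker⟩

lemma main [Algebra.IsPushout A B A' B'] [Algebra.FiniteType A B] [Module.Flat A A'] :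
    Disc.noetherDifferent A' B' = (Disc.noetherDifferent A B).map (algebraMap B B') := by
  classical
  let Φ := φ A B A' B'
  let μ := Algebra.TensorProduct.lmul' (S := B) A
  let μ' := Algebra.TensorProduct.lmul' (S := B') A'
  have hB : IsBaseChange A' (IsScalarTower.toAlgHom A B B').toLinearMap :=
    (Algebra.IsPushout.symm (inferInstance : Algebra.IsPushout A B A' B')).out
  obtain ⟨s, hs⟩ := KaehlerDifferential.ideal_fg A B
  have hJ : RingHom.ker μ = Ideal.span (s : Set (B ⊗[A] B)) := hs.symm
  have hJ' : RingHom.ker μ' = Ideal.map Φ (RingHom.ker μ) := by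
    apply le_antisymm
    · rw [show RingHom.ker μ' = KaehlerDifferential.ideal A' B' from rfl,
        ← KaehlerDifferential.span_range_eq_ideal, Ideal.span_le]
      rintro _ ⟨b', rfl⟩
      show (1 : B') ⊗ₜ[A'] b' - b' ⊗ₜ[A'] (1 : B') ∈ Ideal.map Φ (RingHom.ker μ)
      induction b' using hB.inductionOn with
      | zero => simp
      | tmul b =>
        have h1 : (1 : B') ⊗ₜ[A'] ((IsScalarTower.toAlgHom A B B').toLinearMap b) -
            ((IsScalarTower.toAlgHom A B B').toLinearMap b) ⊗ₜ[A'] (1 : B') =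
            Φ ((1 : B) ⊗ₜ[A] b - b ⊗ₜ[A] (1 : B)) := by
          rw [map_sub, φ_tmul, φ_tmul, map_one]
          rfl
        rw [h1]
        exact Ideal.mem_map_of_mem _ (KaehlerDifferential.one_smul_sub_smul_one_mem_ideal A b)
      | smul a' b' h =>
        have h1 : (1 : B') ⊗ₜ[A'] (a' • b') - (a' • b') ⊗ₜ[A'] (1 : B') =
            a' • ((1 : B') ⊗ₜ[A'] b' - b' ⊗ₜ[A'] (1 : B')) := by
          rw [smul_sub, ← TensorProduct.tmul_smul, TensorProduct.smul_tmul']
        rw [h1, Algebra.smul_def]
        exact Ideal.mul_mem_left _ _ h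
      | add b₁ b₂ h1 h2 =>
        rw [TensorProduct.tmul_add, TensorProduct.add_tmul, add_sub_add_comm]
        exact Ideal.add_mem _ h1 h2
    · rw [Ideal.map_le_iff_le_comap]
      intro j hj
      rw [Ideal.mem_comap, RingHom.mem_ker]
      show μ' (Φ j) = 0
      rw [mul_comp_φ]
      have : μ j = 0 := hj
      show algebraMap B B' (μ j) = 0
      rw [this, map_zero]
  have hAnn : Submodule.annihilator (RingHom.ker μ') =
      Ideal.map Φ (Submodule.annihilator (RingHom.ker μ)) := by
    apply le_antisymm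
    · intro y hy
      rw [hJ]
      apply ann_le s y
      intro i hi
      have hmem : Φ i ∈ RingHom.ker μ' := by
        rw [hJ']
        exact Ideal.mem_map_of_mem _ (hJ ▸ Ideal.subset_span hi)
      exact (Submodule.mem_annihilator.mp hy) _ hmem
    · rw [Ideal.map_le_iff_le_comap]
      intro t ht
      rw [Ideal.mem_comap, Submodule.mem_annihilator]
      intro j' hj'
      rw [hJ'] at hj'
      have hle : Ideal.map Φ (RingHom.ker μ) ≤
          Submodule.annihilator (Ideal.span {Φ t}) := by
        rw [Ideal.map_le_iff_le_comap]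
        intro j hj
        rw [Ideal.mem_comap, Submodule.mem_annihilator_span_singleton, smul_eq_mul, ← map_mul,
          mul_comm]
        have h0 : t * j = 0 := (Submodule.mem_annihilator.mp ht) j hj
        rw [h0, map_zero]
      have h1 := hle hj'
      rw [Submodule.mem_annihilator_span_singleton, smul_eq_mul, mul_comm] at h1
      exact h1
  show Ideal.map μ' (Submodule.annihilator (RingHom.ker μ')) =
    Ideal.map (algebraMap B B') (Ideal.map μ (Submodule.annihilator (RingHom.ker μ)))
  rw [hAnn]
  apply le_antisymm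
  · rw [Ideal.map_le_iff_le_comap, Ideal.map_le_iff_le_comap]
    intro t ht
    rw [Ideal.mem_comap, Ideal.mem_comap]
    show μ' (Φ t) ∈ _
    rw [mul_comp_φ]
    exact Ideal.mem_map_of_mem _ (Ideal.mem_map_of_mem _ ht)
  · rw [Ideal.map_le_iff_le_comap, Ideal.map_le_iff_le_comap]
    intro t ht
    rw [Ideal.mem_comap, Ideal.mem_comap]
    show algebraMap B B' (μ t) ∈ _
    rw [← mul_comp_φ (A' := A')]
    exact Ideal.mem_map_of_mem _ (Ideal.mem_map_of_mem _ ht)

end helpers


end helpers

/-- Part (2): let A -> B be a ring map of finite type and A -> A' a flat ring map, and let B' = B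
tensor_A A'. Then the Noether different of B' over A' is the extension to B' of the Noether
different of B over A. -/
theorem result {A B A' B' : Type u} [CommRing A] [CommRing B]
    [CommRing A'] [CommRing B'] [Algebra A B] [Algebra A A'] [Algebra A B'] [Algebra B B']
    [Algebra A' B'] [IsScalarTower A B B'] [IsScalarTower A A' B']
    [Algebra.IsPushout A B A' B'] [Algebra.FiniteType A B] [Module.Flat A A'] :
    Disc.noetherDifferent A' B' = (Disc.noetherDifferent A B).map (algebraMap B B') := by
  exact main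

end Groth.Agent.S2197
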