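import Groth.Statements.S2203
import Mathlib

set_option autoImplicit false
universe u
open CategoryTheory
open QCohCat

namespace Groth.Agent.S2203

open CategoryTheory Limits in
/-- The ring of scalars is the center of the module category. -/
noncomputable def toCenterEquiv (A : Type u) [CommRing A] :
    A ≃+* CatCenter (ModuleCat.{u} A) :=
  RingEquiv.ofBijective (Linear.toCatCenter A (ModuleCat.{u} A)) (by
    constructor
    · intro a b hab
      have h := congrArg (fun z : CatCenter (ModuleCat.{u} A) =>
        (z.app (ModuleCat.of A A)).hom (1 : A)) hab
      simpa using h
    · intro z
      refine ⟨(z.app (ModuleCat.of A A)).hom (1 : A), ?_⟩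
      ext M m
      have hnat := z.naturality (ModuleCat.ofHom (LinearMap.toSpanSingleton A M m))
      have h2 := congrArg (fun f => f.hom (1 : A)) hnat
      simp only [ModuleCat.hom_comp, LinearMap.coe_comp, Function.comp_apply,
        ModuleCat.hom_ofHom, LinearMap.toSpanSingleton_apply, one_smul] at h2
      simp only [Linear.toCatCenter_apply_app, ModuleCat.hom_smul, ModuleCat.hom_id,
        LinearMap.smul_apply, LinearMap.id_coe, id_eq]
      rw [h2])

open CategoryTheory Limits in
/-- An equivalence of preadditive categories with binary products induces a ring isomorphism of
centers. -/
noncomputable def centerEquiv {C D : Type*} [Category C] [Category D] [Preadditive C]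
    [Preadditive D] (F : C ≌ D) [F.functor.Additive] : CatCenter C ≃+* CatCenter D := by
  have hL : F.functor.IsLocalization (MorphismProperty.isomorphisms C) :=
    Functor.IsLocalization.of_isEquivalence _ _ le_rfl
  refine RingEquiv.ofBijective
    (CatCenter.localizationRingHom F.functor (MorphismProperty.isomorphisms C)) ⟨?_, ?_⟩
  · intro r s hrs
    ext X
    apply F.functor.map_injective
    have h := congrArg (fun z : CatCenter D => z.app (F.functor.obj X)) hrs
    simpa [CatCenter.localizationRingHom] using h
  · intro t
    refine ⟨{ app := fun X => F.functor.preimage (t.app (F.functor.obj X))
              naturality := ?_ }, ?_⟩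
    · intro X Y f
      apply F.functor.map_injective
      simp only [Functor.id_obj, Functor.id_map, Functor.map_comp, Functor.map_preimage]
      exact t.naturality (F.functor.map f)
    · apply CatCenter.ext_of_localization F.functor (MorphismProperty.isomorphisms C)
      intro X
      simp [CatCenter.localizationRingHom, CatCenter.app]

/-- Ring-isomorphism part of the statement: let A and B be commutative rings whose categories of modules
are equivalent. Then A and B are isomorphic as rings. (The source moreover describes the equivalence
as base change followed by tensoring with an invertible module.) -/
theorem result (A B : Type u) [CommRing A] [CommRing B]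
    (F : ModuleCat.{u} A ≌ ModuleCat.{u} B) : Nonempty (A ≃+* B) := by
  have : F.functor.Additive := Functor.additive_of_preserves_binary_products _
  exact ⟨(toCenterEquiv A).trans ((centerEquiv F).trans (toCenterEquiv B).symm)⟩

end Groth.Agent.S2203
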