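import Groth.Statements.S2215
import Mathlib
import Groth.Agent.Lib.Helper22.NoetherPair

set_option autoImplicit false
universe u v
open Disc

namespace Groth.Agent.S2215

/-- Special case: B finite free over A (the source allows flat quasi-finite maps of Noetherian rings).
Let omega = Hom_A(B, A) with its B-module structure through the argument and tau in omega the trace.
Then an element of B lies in the Noether different of B over A exactly when it is of the form
phi(tau) for some B-linear map phi : omega -> B. -/
theorem result {A : Type u} {B : Type v} [CommRing A]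
    [CommRing B] [Algebra A B] [IsNoetherianRing A] [Module.Finite A B] [Module.Free A B] :
    (Disc.noetherDifferent A B : Set B) =
      Set.range (fun φ : Disc.Omega A B →ₗ[B] B => φ (Disc.Omega.trace A B)) := by
  classical
  let e := Module.Free.chooseBasis A B
  have hsurj : Function.Surjective (Algebra.TensorProduct.lmul' (S := B) A) := fun b =>
    ⟨b ⊗ₜ[A] 1, by simp⟩
  ext x
  constructor
  · intro hx
    have hx' : x ∈ Ideal.map (Algebra.TensorProduct.lmul' (S := B) A)
        (Submodule.annihilator (RingHom.ker (Algebra.TensorProduct.lmul' (S := B) A))) := hx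
    rw [Ideal.mem_map_iff_of_surjective _ hsurj] at hx'
    obtain ⟨ξ, hξ, rfl⟩ := hx'
    refine ⟨Groth.Agent.Lib.helper22.NoetherPair.toHom ξ hξ, ?_⟩
    show Groth.Agent.Lib.helper22.NoetherPair.toHom ξ hξ (Disc.Omega.trace A B) = _
    rw [← Groth.Agent.Lib.helper22.NoetherPair.lmul_xi e]
    congr 1
    rw [← sub_eq_zero]
    apply Groth.Agent.Lib.helper22.NoetherPair.eq_zero_of_Ψ_eq_zero e
    intro l
    rw [map_sub, Groth.Agent.Lib.helper22.NoetherPair.Ψ_xi,
      Groth.Agent.Lib.helper22.NoetherPair.toHom_apply, sub_self]
  · rintro ⟨φ, rfl⟩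
    show φ (Disc.Omega.trace A B) ∈ Ideal.map (Algebra.TensorProduct.lmul' (S := B) A)
        (Submodule.annihilator (RingHom.ker (Algebra.TensorProduct.lmul' (S := B) A)))
    rw [← Groth.Agent.Lib.helper22.NoetherPair.lmul_xi e]
    exact Ideal.mem_map_of_mem _ (Groth.Agent.Lib.helper22.NoetherPair.xi_mem e φ)

end Groth.Agent.S2215
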