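import Groth.Statements.S2205
import Mathlib
import Groth.Agent.S2196
import Groth.Agent.S2215

set_option autoImplicit false
universe u v
open Disc

namespace Groth.Agent.S2205

open TensorProduct in
/-- for `e` in the annihilator of the kernel of multiplication, `Σ Tr(b xᵢ) yᵢ = b μ(e)`. -/
theorem theta_eq {A : Type u} {B : Type v} [CommRing A] [CommRing B] [Algebra A B]
    [Module.Finite A B] [Module.Free A B] (e : B ⊗[A] B)
    (he : e ∈ Submodule.annihilator (RingHom.ker (Algebra.TensorProduct.lmul' (S := B) A)))
    (b : B) :
    (TensorProduct.lid A B).toLinearMap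
        (LinearMap.rTensor B ((Algebra.trace A B) ∘ₗ LinearMap.mulLeft A b) e) =
      b * Algebra.TensorProduct.lmul' (S := B) A e := by
  classical
  let ι := Module.Free.ChooseBasisIndex A B
  let β : Module.Basis ι A B := Module.Free.chooseBasis A B
  -- `Λ j (x ⊗ y) = β_j^*(x) y`
  let Λ : ι → (B ⊗[A] B →ₗ[A] B) := fun j =>
    (TensorProduct.lid A B).toLinearMap ∘ₗ LinearMap.rTensor B (β.coord j)
  have hΛ : ∀ j x y, Λ j (x ⊗ₜ[A] y) = β.coord j x • y := fun j x y => by
    simp [Λ]
  -- swap across the diagonal
  have hswap : ∀ z : B, (z ⊗ₜ[A] (1 : B)) * e = ((1 : B) ⊗ₜ[A] z) * e := by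
    intro z
    have hz : z ⊗ₜ[A] (1 : B) - (1 : B) ⊗ₜ[A] z ∈
        RingHom.ker (Algebra.TensorProduct.lmul' (S := B) A) := by
      rw [RingHom.mem_ker, map_sub, Algebra.TensorProduct.lmul'_apply_tmul,
        Algebra.TensorProduct.lmul'_apply_tmul, mul_one, one_mul, sub_self]
    have := (Submodule.mem_annihilator.1 he) _ hz
    rw [smul_eq_mul, mul_sub, sub_eq_zero] at this
    rw [mul_comm, this, mul_comm]
  -- the three linear identities, checked on pure tensors
  have h1 : ∀ e' : B ⊗[A] B, (TensorProduct.lid A B).toLinearMap
      (LinearMap.rTensor B ((Algebra.trace A B) ∘ₗ LinearMap.mulLeft A b) e') =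
      ∑ j, Λ j (((b * β j) ⊗ₜ[A] (1 : B)) * e') := by
    intro e'
    induction e' using TensorProduct.induction_on with
    | zero => simp
    | tmul x y =>
      simp only [LinearMap.rTensor_tmul, LinearMap.comp_apply, LinearMap.mulLeft_apply,
        LinearEquiv.coe_coe, TensorProduct.lid_tmul, Algebra.TensorProduct.tmul_mul_tmul, one_mul,
        hΛ]
      rw [Algebra.trace_eq_matrix_trace β, Matrix.trace, Finset.sum_smul]
      apply Finset.sum_congr rfl
      intro j _
      rw [Matrix.diag_apply, Algebra.leftMulMatrix_eq_repr_mul, Module.Basis.coord_apply,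
        mul_right_comm]
    | add x y hx hy =>
      simp only [map_add, mul_add, Finset.sum_add_distrib] at hx hy ⊢
      rw [hx, hy]
  have h2 : ∀ (j : ι) (z : B) (e' : B ⊗[A] B), Λ j (((1 : B) ⊗ₜ[A] z) * e') = z * Λ j e' := by
    intro j z e'
    induction e' using TensorProduct.induction_on with
    | zero => simp
    | tmul x y =>
      rw [Algebra.TensorProduct.tmul_mul_tmul, one_mul, hΛ, hΛ, mul_smul_comm]
    | add x y hx hy => rw [mul_add, map_add, hx, hy, map_add, mul_add]
  have h3 : ∀ e' : B ⊗[A] B, ∑ j, β j * Λ j e' = Algebra.TensorProduct.lmul' (S := B) A e' := by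
    intro e'
    induction e' using TensorProduct.induction_on with
    | zero => simp
    | tmul x y =>
      simp only [hΛ, Algebra.TensorProduct.lmul'_apply_tmul]
      have : ∀ j, β j * (β.coord j x • y) = (β.repr x j • β j) * y := by
        intro j
        rw [Module.Basis.coord_apply, mul_smul_comm, smul_mul_assoc]
      simp only [this]
      rw [← Finset.sum_mul, β.sum_repr]
    | add x y hx hy =>
      simp only [map_add, mul_add, Finset.sum_add_distrib]
      rw [hx, hy]
  rw [h1 e]
  have : ∀ j, Λ j (((b * β j) ⊗ₜ[A] (1 : B)) * e) = b * (β j * Λ j e) := by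
    intro j
    rw [hswap, h2, mul_assoc]
  simp only [this]
  rw [← Finset.mul_sum, h3]

open TensorProduct in
/-- the Noether different lies in the different (finite free case). -/
theorem noether_subset {A : Type u} {B : Type v} [CommRing A] [CommRing B] [Algebra A B]
    [Module.Finite A B] [Module.Free A B] (s : B) (hs : s ∈ Disc.noetherDifferent A B) :
    s ∈ Disc.differentSet A B := by
  unfold Disc.noetherDifferent at hs
  rw [Ideal.mem_map_iff_of_surjective _ (fun b => ⟨b ⊗ₜ 1, by simp⟩)] at hs
  obtain ⟨e, he, rfl⟩ := hs
  intro w
  refine ⟨(TensorProduct.rid A B).toLinearMap (LinearMap.lTensor B w e), fun b => ?_⟩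
  have h0 := theta_eq e he b
  have h1 : ∀ e' : B ⊗[A] B, w ((TensorProduct.lid A B).toLinearMap
      (LinearMap.rTensor B ((Algebra.trace A B) ∘ₗ LinearMap.mulLeft A b) e')) =
      Algebra.trace A B ((TensorProduct.rid A B).toLinearMap (LinearMap.lTensor B w e') * b) := by
    intro e'
    induction e' using TensorProduct.induction_on with
    | zero => simp
    | tmul x y =>
      simp only [LinearMap.rTensor_tmul, LinearMap.comp_apply, LinearMap.mulLeft_apply,
        LinearEquiv.coe_coe, TensorProduct.lid_tmul, LinearMap.lTensor_tmul, TensorProduct.rid_tmul,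
        map_smul, smul_eq_mul]
      rw [smul_mul_assoc, map_smul, smul_eq_mul, mul_comm x b, mul_comm]
    | add x y hx hy =>
      simp only [map_add, add_mul] at hx hy ⊢
      rw [hx, hy]
  rw [mul_comm, ← h0, h1 e]

/-- if `Tr(c ·) = 0` and `b` lies in the different, then `c * b = 0`. -/
theorem mul_eq_zero_of_trace {A : Type u} {B : Type v} [CommRing A] [CommRing B] [Algebra A B]
    [Module.Finite A B] [Module.Free A B] (b : B) (hb : b ∈ Disc.differentSet A B) (c : B)
    (hc : ∀ x : B, Algebra.trace A B (c * x) = 0) : c * b = 0 := by
  rw [← Module.forall_dual_apply_eq_zero_iff A]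
  intro w
  obtain ⟨cw, hcw⟩ := hb w
  rw [mul_comm, hcw c, mul_comm]
  exact hc cw

/-- the square of an element of the different lies in the Noether different. -/
theorem sq_mem_noether {A : Type u} {B : Type v} [CommRing A] [CommRing B] [Algebra A B]
    [IsNoetherianRing A] [Module.Finite A B] [Module.Free A B] (b : B)
    (hb : b ∈ Disc.differentSet A B) : b * b ∈ Disc.noetherDifferent A B := by
  classical
  -- uniqueness of the representing element up to the annihilator of `b`
  have huniq : ∀ (w : B →ₗ[A] A) (c c' : B),
      (∀ x, w (b * x) = Algebra.trace A B (c * x)) →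
      (∀ x, w (b * x) = Algebra.trace A B (c' * x)) → c * b = c' * b := by
    intro w c c' h h'
    have := mul_eq_zero_of_trace b hb (c - c') (fun x => by
      rw [sub_mul, map_sub, ← h, ← h', sub_self])
    rw [sub_mul, sub_eq_zero] at this
    exact this
  let φ : Disc.Omega A B →ₗ[B] B :=
    { toFun := fun w => Classical.choose (hb w.toLinearMap) * b
      map_add' := fun w w' => by
        rw [← add_mul]
        apply huniq (w + w').toLinearMap _ _ (Classical.choose_spec (hb (w + w').toLinearMap))
        intro x
        rw [Disc.Omega.add_toLinearMap, LinearMap.add_apply,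
          Classical.choose_spec (hb w.toLinearMap) x,
          Classical.choose_spec (hb w'.toLinearMap) x, add_mul, map_add]
      map_smul' := fun r w => by
        rw [RingHom.id_apply, smul_eq_mul, ← mul_assoc]
        apply huniq (r • w).toLinearMap _ _ (Classical.choose_spec (hb (r • w).toLinearMap))
        intro x
        rw [Disc.Omega.smul_toLinearMap_apply, mul_left_comm,
          Classical.choose_spec (hb w.toLinearMap) (r * x), mul_left_comm, mul_assoc] }
  have h := Groth.Agent.S2215.result (A := A) (B := B)
  have h2 : b * b ∈ (Disc.noetherDifferent A B : Set B) := by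
    rw [h]
    refine ⟨φ, ?_⟩
    show Classical.choose (hb (Disc.Omega.trace A B).toLinearMap) * b = b * b
    apply huniq (Disc.Omega.trace A B).toLinearMap _ _
      (Classical.choose_spec (hb (Disc.Omega.trace A B).toLinearMap))
    intro x
    rfl
  exact h2

/-- Special case: affine, with B finite free over the Noetherian ring A (the source allows flat
quasi-finite morphisms of Noetherian schemes); then the relative dualizing module is Hom_A(B, A) and
the trace element is the usual trace. A prime q of B contains the different (the set of b with b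
Hom_A(B, A) inside B Trace) if and only if A -> B is not unramified at q; for such maps unramified
and etale at q agree. -/
theorem result {A : Type u} {B : Type v} [CommRing A]
    [CommRing B] [Algebra A B] [IsNoetherianRing A] [Module.Finite A B] [Module.Free A B]
    (q : Ideal B) [q.IsPrime] :
    Disc.differentSet A B ⊆ q ↔ ¬Algebra.IsUnramifiedAt A q := by
  have hft : Algebra.FiniteType A B := inferInstance
  have h96 := Groth.Agent.S2196.result (A := A) (B := B)
  have hiff : Disc.noetherDifferent A B ≤ q ↔ ¬Algebra.IsUnramifiedAt A q := by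
    have := Set.ext_iff.1 h96 ⟨q, inferInstance⟩
    simpa [Algebra.unramifiedLocus] using this
  rw [← hiff]
  constructor
  · intro hD s hs
    exact hD (noether_subset s hs)
  · intro hN b hb
    have := hN (sq_mem_noether b hb)
    exact (Ideal.IsPrime.mem_or_mem inferInstance this).elim id id

end Groth.Agent.S2205
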