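import Groth.Statements.S2217
import Groth.Agent.Lib.Helper2.GorFrob3
import Groth.Agent.S12080

set_option autoImplicit false
universe u
open Disc

namespace Groth.Agent.S2217

/-- Equivalence of (2) and (4) in the affine finite free case: let A be a Noetherian ring and B an
A-algebra which is finite free as an A-module (so A -> B is flat and quasi-finite). Then all fibre
rings kappa(p) tensor_A B are Gorenstein if and only if omega_{B/A} = Hom_A(B, A), with its B-module
structure through the argument, is an invertible B-module. -/
theorem result {A B : Type u} [CommRing A] [CommRing B]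
    [Algebra A B] [IsNoetherianRing A] [Module.Finite A B] [Module.Free A B] :
    (∀ (p : Ideal A) [p.IsPrime], LocCoh.IsGorensteinRing (p.Fiber B)) ↔
      Module.Invertible B (Disc.Omega A B) := by
  classical
  let b := Module.Free.chooseBasis A B
  constructor
  · intro hfib
    have hex : ∀ p : PrimeSpectrum A, ∃ φ : Omega A B,
        Groth.Agent.Lib.helper2.GorFrob.gdet b φ ∉ p.asIdeal := by
      intro p
      obtain ⟨φ', hφ'⟩ := (Groth.Agent.Lib.helper2.GorFrob.gor_iff_nondeg
        (κ := p.asIdeal.ResidueField) (F := p.asIdeal.Fiber B)).mp (hfib p.asIdeal)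
      exact Groth.Agent.Lib.helper2.GorFrob.exists_gdet_notMem b p.asIdeal φ' hφ'
    choose φ hφ using hex
    let d : PrimeSpectrum A → A := fun p => Groth.Agent.Lib.helper2.GorFrob.gdet b (φ p)
    have hspanA : Ideal.span (Set.range d) = ⊤ := by
      by_contra hne
      obtain ⟨m, hm, hle⟩ := Ideal.exists_le_maximal _ hne
      exact hφ ⟨m, hm.isPrime⟩ (hle (Ideal.subset_span ⟨⟨m, hm.isPrime⟩, rfl⟩))
    refine Groth.Agent.S12080.result B (Omega A B)
      (Set.range fun p => algebraMap A B (d p)) ?_ ?_
    · have : (Set.range fun p => algebraMap A B (d p)) = (algebraMap A B) '' (Set.range d) := by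
        ext x
        simp [Set.mem_image]
      rw [this, ← Ideal.map_span, hspanA, Ideal.map_top]
    · rintro f ⟨p, rfl⟩
      exact Groth.Agent.Lib.helper2.GorFrob.nonempty_equiv_away b (φ p)
  · intro hinv p _
    exact (Groth.Agent.Lib.helper2.GorFrob.gor_iff_nondeg
      (κ := p.ResidueField) (F := p.Fiber B)).mpr
      (Groth.Agent.Lib.helper2.GorFrob.exists_nondeg_of_invertible b p.ResidueField)

end Groth.Agent.S2217
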