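import Groth.Statements.S2219
import Groth.Agent.Lib.Helper20.TraceLocal

set_option autoImplicit false
universe u
open Disc

namespace Groth.Agent.S2219

/-- Equivalence of (1) and (3): let k be a field and A a finite-dimensional local k-algebra with residue
field k'. Then the trace map Tr_{A/k} is not identically zero if and only if k' is separable over k
and the length of A as a module over itself is not divisible by the characteristic of k (no
condition in characteristic zero). -/
theorem result (k A : Type u) [Field k] [CommRing A]
    [Algebra k A] [FiniteDimensional k A] [IsLocalRing A] :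
    Algebra.trace k A ≠ 0 ↔
      (Algebra.IsSeparable k (IsLocalRing.ResidueField A) ∧
        ∀ p : ℕ, p.Prime → CharP k p → ¬ p ∣ (Module.length A A).toNat) := by
  classical
  have hform : ∀ a : A, Algebra.trace k A a =
      (Module.length A A).toNat • Algebra.trace k (IsLocalRing.ResidueField A)
        (IsLocalRing.residue A a) := by
    intro a
    rw [← Groth.Agent.Lib.Helper20.TraceLocal.trace_act (k := k) (C := A) _ A rfl a,
      Algebra.trace_apply]
    rfl
  haveI : IsArtinian A A := isArtinian_of_tower k inferInstance
  haveI : IsNoetherian A A := isNoetherian_of_tower k inferInstance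
  have hlen_ne_top : Module.length A A ≠ ⊤ := Module.length_ne_top
  have hlen_pos : 0 < (Module.length A A).toNat := by
    rw [Nat.pos_iff_ne_zero, Ne, ENat.toNat_eq_zero]
    push Not
    exact ⟨(Module.length_pos (R := A) (M := A)).ne', hlen_ne_top⟩
  haveI : FiniteDimensional k (IsLocalRing.ResidueField A) :=
    Module.Finite.of_surjective
      ((IsScalarTower.toAlgHom k A (IsLocalRing.ResidueField A)).toLinearMap)
      (IsLocalRing.residue_surjective)
  constructor
  · intro hne
    have hex : ∃ a : A, Algebra.trace k A a ≠ 0 := by
      by_contra hall
      push Not at hall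
      exact hne (LinearMap.ext hall)
    obtain ⟨a, ha⟩ := hex
    rw [hform a] at ha
    constructor
    · by_contra hsep
      rw [Algebra.trace_eq_zero_of_not_isSeparable hsep] at ha
      simp at ha
    · intro p _ hp hdvd
      apply ha
      rw [← Nat.cast_smul_eq_nsmul k, (CharP.cast_eq_zero_iff k p _).2 hdvd, zero_smul]
  · rintro ⟨hsep, hp⟩
    haveI := hsep
    obtain ⟨c, hc⟩ : ∃ c : IsLocalRing.ResidueField A,
        Algebra.trace k (IsLocalRing.ResidueField A) c ≠ 0 := by
      by_contra hall
      push Not at hall
      exact Algebra.trace_ne_zero k (IsLocalRing.ResidueField A) (LinearMap.ext hall)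
    obtain ⟨a, rfl⟩ := IsLocalRing.residue_surjective c
    intro h0
    have h1 : Algebra.trace k A a = 0 := by rw [h0]; rfl
    rw [hform a, ← Nat.cast_smul_eq_nsmul k, smul_eq_mul] at h1
    rcases mul_eq_zero.1 h1 with h2 | h2
    · obtain ⟨p, hchar⟩ := CharP.exists k
      rcases CharP.char_is_prime_or_zero k p with hprime | hzero
      · exact hp p hprime hchar ((CharP.cast_eq_zero_iff k p _).1 h2)
      · subst hzero
        haveI : CharZero k := CharP.charP_to_charZero k
        have : (Module.length A A).toNat = 0 := by exact_mod_cast h2
        omega
    · exact hc h2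

end Groth.Agent.S2219
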