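import Groth.Statements.S2220
import Mathlib

set_option autoImplicit false
universe u
open AlgebraicGeometry
open Disc

namespace Groth.Agent.S2220

section helpers

section helpers
open TensorProduct CategoryTheory AlgebraicGeometry

/-- annihilators of finitely generated ideals under flat ring maps. -/
lemma ann_map_of_flat {R S : Type u} [CommRing R] [CommRing S] [Algebra R S] [Module.Flat R S]
    (s : Finset R) (y : S) (hy : ∀ i ∈ s, y * algebraMap R S i = 0) :
    y ∈ Ideal.map (algebraMap R S) (Submodule.annihilator (Ideal.span (s : Set R))) := by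
  classical
  let g : R →ₗ[R] (s → R) := LinearMap.pi fun i => LinearMap.mulRight R (i : R)
  let g' : S →ₗ[S] (s → S) := LinearMap.pi fun i => LinearMap.mulRight S (algebraMap R S (i : R))
  let h₂ : R →ₗ[R] S := Algebra.linearMap R S
  let h₃ : (s → R) →ₗ[R] (s → S) :=
    LinearMap.pi fun i => (Algebra.linearMap R S) ∘ₗ LinearMap.proj i
  have isb₂ : IsBaseChange S h₂ := IsBaseChange.linearMap R S
  have isb₃ : IsBaseChange S h₃ :=
    IsBaseChange.pi (fun _ : s => Algebra.linearMap R S) (fun _ => IsBaseChange.linearMap R S)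
  have hmaps : ∀ x : LinearMap.ker g, algebraMap R S (x : R) ∈ LinearMap.ker g' := by
    intro x
    have hx : g x = 0 := x.2
    rw [LinearMap.mem_ker]
    ext i
    have hxi : (x : R) * (i : R) = 0 := congrFun hx i
    show algebraMap R S (x : R) * algebraMap R S (i : R) = 0
    rw [← map_mul, hxi, map_zero]
  let h₁ : LinearMap.ker g →ₗ[R] LinearMap.ker g' :=
    { toFun := fun x => ⟨algebraMap R S (x : R), hmaps x⟩
      map_add' := fun x y => by
        apply Subtype.ext
        simp
      map_smul' := fun a x => by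
        apply Subtype.ext
        simp [Algebra.smul_def] }
  have comm₁ : h₂.comp (LinearMap.ker g).subtype =
      ((LinearMap.ker g').subtype.restrictScalars R).comp h₁ := by
    apply LinearMap.ext
    intro x
    rfl
  have comm₂ : h₃.comp g = (g'.restrictScalars R).comp h₂ := by
    apply LinearMap.ext
    intro x
    funext i
    show algebraMap R S (x * (i : R)) = algebraMap R S x * algebraMap R S (i : R)
    rw [map_mul]
  have hbc : IsBaseChange S h₁ :=
    IsBaseChange.of_left_exact S h₁ h₂ h₃ comm₁ comm₂ isb₂ isb₃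
      (LinearMap.exact_subtype_ker_map g) (Submodule.injective_subtype _)
      (LinearMap.exact_subtype_ker_map g') (Submodule.injective_subtype _)
  have hyker : y ∈ LinearMap.ker g' := by
    rw [LinearMap.mem_ker]
    ext i
    exact hy i i.2
  have key : ∀ n : LinearMap.ker g', (n : S) ∈ Ideal.map (algebraMap R S)
      (Submodule.annihilator (Ideal.span (s : Set R))) := by
    intro n
    induction n using hbc.inductionOn with
    | zero => exact Ideal.zero_mem _
    | tmul x =>
      apply Ideal.mem_map_of_mem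
      rw [Submodule.mem_annihilator_span]
      rintro ⟨i, hi⟩
      have hx : g x = 0 := x.2
      exact congrFun hx ⟨i, hi⟩
    | smul a n hn =>
      show a • (n : S) ∈ _
      rw [smul_eq_mul]
      exact Ideal.mul_mem_left _ _ hn
    | add n₁ n₂ h1 h2 => exact Ideal.add_mem _ h1 h2
  exact key ⟨y, hyker⟩

/-- annihilator of a f.g. ideal commutes with flat base change -/
lemma annihilator_map_of_flat {R S : Type u} [CommRing R] [CommRing S] [Algebra R S]
    [Module.Flat R S] (J : Ideal R) (hJ : J.FG) :
    Submodule.annihilator (Ideal.map (algebraMap R S) J) =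
      Ideal.map (algebraMap R S) (Submodule.annihilator J) := by
  obtain ⟨s, rfl⟩ := hJ
  apply le_antisymm
  · intro y hy
    apply ann_map_of_flat s y
    intro i hi
    exact (Submodule.mem_annihilator.mp hy) _
      (Ideal.mem_map_of_mem _ (Ideal.subset_span hi))
  · rw [Ideal.map_le_iff_le_comap]
    intro t ht
    rw [Ideal.mem_comap, Submodule.mem_annihilator]
    intro j' hj'
    have hle : Ideal.map (algebraMap R S) (Ideal.span (s : Set R)) ≤
        Submodule.annihilator (Ideal.span {algebraMap R S t}) := by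
      rw [Ideal.map_le_iff_le_comap]
      intro j hj
      rw [Ideal.mem_comap, Submodule.mem_annihilator_span_singleton, smul_eq_mul, ← map_mul,
        mul_comm]
      have h0 : t * j = 0 := (Submodule.mem_annihilator.mp ht) j hj
      rw [h0, map_zero]
    have h1 := hle hj'
    rw [Submodule.mem_annihilator_span_singleton, smul_eq_mul, mul_comm] at h1
    exact h1

variable {A B' B : Type u} [CommRing A] [CommRing B'] [CommRing B] [Algebra A B'] [Algebra A B]
  [Algebra B' B] [IsScalarTower A B' B]

variable (A B' B) in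
noncomputable def Φ : B' ⊗[A] B' →ₐ[A] B ⊗[A] B :=
  Algebra.TensorProduct.map (IsScalarTower.toAlgHom A B' B) (IsScalarTower.toAlgHom A B' B)

lemma Φ_tmul (b1 b2 : B') : Φ A B' B (b1 ⊗ₜ[A] b2) =
    (algebraMap B' B b1) ⊗ₜ[A] (algebraMap B' B b2) := by
  simp [Φ]

lemma mul_comp_Φ (x : B' ⊗[A] B') :
    Algebra.TensorProduct.lmul' (S := B) A (Φ A B' B x) =
      algebraMap B' B (Algebra.TensorProduct.lmul' (S := B') A x) := by
  induction x using TensorProduct.induction_on with
  | zero => simp
  | tmul b1 b2 => rw [Φ_tmul]; simp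
  | add x y hx hy => rw [map_add, map_add, hx, hy, map_add, map_add]

lemma ker_eq_map (hepi : Epi (CommRingCat.ofHom (algebraMap B' B))) :
    RingHom.ker (Algebra.TensorProduct.lmul' (S := B) A) =
      Ideal.map (Φ A B' B) (RingHom.ker (Algebra.TensorProduct.lmul' (S := B') A)) := by
  set I := Ideal.map (Φ A B' B) (RingHom.ker (Algebra.TensorProduct.lmul' (S := B') A)) with hI
  apply le_antisymm
  · rw [show RingHom.ker (Algebra.TensorProduct.lmul' (S := B) A) =
        KaehlerDifferential.ideal A B from rfl,
      ← KaehlerDifferential.span_range_eq_ideal, Ideal.span_le]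
    rintro _ ⟨b, rfl⟩
    show (1 : B) ⊗ₜ[A] b - b ⊗ₜ[A] (1 : B) ∈ I
    let g₁ : B →+* (B ⊗[A] B) ⧸ I :=
      (Ideal.Quotient.mk I).comp (Algebra.TensorProduct.includeLeft : B →ₐ[A] B ⊗[A] B).toRingHom
    let g₂ : B →+* (B ⊗[A] B) ⧸ I :=
      (Ideal.Quotient.mk I).comp (Algebra.TensorProduct.includeRight : B →ₐ[A] B ⊗[A] B).toRingHom
    have hcomp : g₁.comp (algebraMap B' B) = g₂.comp (algebraMap B' B) := by
      ext b'
      show Ideal.Quotient.mk I ((algebraMap B' B b') ⊗ₜ[A] (1 : B)) =
        Ideal.Quotient.mk I ((1 : B) ⊗ₜ[A] (algebraMap B' B b'))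
      rw [Ideal.Quotient.eq]
      have h1 : (algebraMap B' B b') ⊗ₜ[A] (1 : B) - (1 : B) ⊗ₜ[A] (algebraMap B' B b') =
          Φ A B' B (b' ⊗ₜ[A] (1 : B') - (1 : B') ⊗ₜ[A] b') := by
        rw [map_sub, Φ_tmul, Φ_tmul, map_one]
      rw [h1]
      apply Ideal.mem_map_of_mem
      have h2 := KaehlerDifferential.one_smul_sub_smul_one_mem_ideal A b'
      have h3 : b' ⊗ₜ[A] (1 : B') - (1 : B') ⊗ₜ[A] b' =
          -((1 : B') ⊗ₜ[A] b' - b' ⊗ₜ[A] (1 : B')) := by ring
      rw [h3]
      exact Ideal.neg_mem_iff _ |>.mpr h2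
    have heq : g₁ = g₂ := by
      have h4 : CommRingCat.ofHom (algebraMap B' B) ≫ CommRingCat.ofHom g₁ =
          CommRingCat.ofHom (algebraMap B' B) ≫ CommRingCat.ofHom g₂ := by
        ext x
        exact RingHom.congr_fun hcomp x
      have h5 := (cancel_epi _).mp h4
      exact congrArg CommRingCat.Hom.hom h5
    have h6 := RingHom.congr_fun heq b
    have h7 : Ideal.Quotient.mk I (b ⊗ₜ[A] (1 : B)) = Ideal.Quotient.mk I ((1 : B) ⊗ₜ[A] b) := h6
    rw [Ideal.Quotient.eq] at h7
    have h8 : (1 : B) ⊗ₜ[A] b - b ⊗ₜ[A] (1 : B) = -(b ⊗ₜ[A] (1 : B) - (1 : B) ⊗ₜ[A] b) := by ring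
    rw [h8]
    exact (Ideal.neg_mem_iff _).mpr h7
  · rw [hI, Ideal.map_le_iff_le_comap]
    intro j hj
    rw [Ideal.mem_comap, RingHom.mem_ker]
    rw [mul_comp_Φ]
    have : Algebra.TensorProduct.lmul' (S := B') A j = 0 := hj
    rw [this, map_zero]

lemma main [Algebra.FiniteType A B'] (hflat : Module.Flat B' B)
    (hepi : Epi (CommRingCat.ofHom (algebraMap B' B))) :
    Disc.noetherDifferent A B = (Disc.noetherDifferent A B').map (algebraMap B' B) := by
  classical
  let μ := Algebra.TensorProduct.lmul' (S := B) A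
  let μ' := Algebra.TensorProduct.lmul' (S := B') A
  have hf : (IsScalarTower.toAlgHom A B' B).toRingHom.Flat := by
    show (algebraMap B' B).Flat
    exact RingHom.flat_algebraMap_iff.mpr hflat
  have hΦflat : (Φ A B' B).toRingHom.Flat := RingHom.Flat.tensorProductMap hf hf
  let _ : Algebra (B' ⊗[A] B') (B ⊗[A] B) := (Φ A B' B).toRingHom.toAlgebra
  have hfl : Module.Flat (B' ⊗[A] B') (B ⊗[A] B) := hΦflat
  have hfg : (RingHom.ker μ').FG := KaehlerDifferential.ideal_fg A B'
  have hAnn : Submodule.annihilator (RingHom.ker μ) =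
      Ideal.map (Φ A B' B) (Submodule.annihilator (RingHom.ker μ')) := by
    rw [show RingHom.ker μ = _ from ker_eq_map hepi]
    exact annihilator_map_of_flat (RingHom.ker μ') hfg
  show Ideal.map μ (Submodule.annihilator (RingHom.ker μ)) =
    Ideal.map (algebraMap B' B) (Ideal.map μ' (Submodule.annihilator (RingHom.ker μ')))
  rw [hAnn]
  apply le_antisymm
  · rw [Ideal.map_le_iff_le_comap, Ideal.map_le_iff_le_comap]
    intro t ht
    rw [Ideal.mem_comap, Ideal.mem_comap]
    show μ (Φ A B' B t) ∈ _
    rw [mul_comp_Φ]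
    exact Ideal.mem_map_of_mem _ (Ideal.mem_map_of_mem _ ht)
  · rw [Ideal.map_le_iff_le_comap, Ideal.map_le_iff_le_comap]
    intro t ht
    rw [Ideal.mem_comap, Ideal.mem_comap]
    show algebraMap B' B (μ' t) ∈ _
    rw [← mul_comp_Φ]
    exact Ideal.mem_map_of_mem _ (Ideal.mem_map_of_mem _ ht)

end helpers


end helpers

/-- Part (2): for ring maps A -> B' -> B with B' of finite type over A and Spec B -> Spec B' an open
immersion, the Noether different of B over A is the ideal generated by the image of that of B'. -/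
theorem result {A B' B : Type u} [CommRing A] [CommRing B']
    [CommRing B] [Algebra A B'] [Algebra A B] [Algebra B' B] [IsScalarTower A B' B]
    [Algebra.FiniteType A B']
    (h : IsOpenImmersion (Spec.map (CommRingCat.ofHom (algebraMap B' B)))) :
    Disc.noetherDifferent A B = (Disc.noetherDifferent A B').map (algebraMap B' B) := by
  have hflat : Module.Flat B' B := by
    have h1 : AlgebraicGeometry.Flat (AlgebraicGeometry.Spec.map (CommRingCat.ofHom (algebraMap B' B))) :=
      inferInstance
    have h2 := (AlgebraicGeometry.HasRingHomProperty.Spec_iff (P := @AlgebraicGeometry.Flat)).mp h1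
    exact RingHom.flat_algebraMap_iff.mp h2
  have hepi : CategoryTheory.Epi (CommRingCat.ofHom (algebraMap B' B)) := by
    have h1 : CategoryTheory.Mono (AlgebraicGeometry.Spec.map (CommRingCat.ofHom (algebraMap B' B))) :=
      inferInstance
    have h2 : CategoryTheory.Mono (CommRingCat.ofHom (algebraMap B' B)).op := by
      apply AlgebraicGeometry.Scheme.Spec.mono_of_mono_map
      exact h1
    exact CategoryTheory.unop_epi_of_mono (CommRingCat.ofHom (algebraMap B' B)).op
  exact main hflat hepi

end Groth.Agent.S2220
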