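import Groth.Statements.S2221
import Mathlib
import Groth.Agent.S2215
import Groth.Agent.Lib.Helper22.QFDualBC

set_option autoImplicit false
universe u
open Disc

namespace Groth.Agent.S2221

section helpers

theorem mem_differentSet_iff {A B : Type u} [CommRing A] [CommRing B] [Algebra A B]
    [Module.Finite A B] [Module.Free A B] (b : B) :
    b ∈ Disc.differentSet A B ↔ b ∈ QFDual.different B (Disc.Omega.trace A B) := by
  rw [QFDual.mem_different_iff]
  constructor
  · intro h m
    obtain ⟨c, hc⟩ := h m.toLinearMap
    refine ⟨c, ?_⟩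
    apply Disc.Omega.ext
    apply LinearMap.ext
    intro x
    rw [Disc.Omega.smul_toLinearMap_apply, Disc.Omega.smul_toLinearMap_apply, hc x]
    rfl
  · intro h φ
    obtain ⟨c, hc⟩ := h ⟨φ⟩
    refine ⟨c, fun x => ?_⟩
    have := congrArg (fun ω : Disc.Omega A B => ω.toLinearMap x) hc
    simp only [Disc.Omega.smul_toLinearMap_apply] at this
    rw [← this]
    rfl


end helpers

/-- Affine finite free case: let A be a Noetherian ring and B an A-algebra which is finite free as an
A-module, and suppose omega = Hom_A(B, A) is an invertible B-module. Then the different of B over A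
(the b with b omega inside B Trace) equals the Noether different of B over A. -/
theorem result {A B : Type u} [CommRing A]
    [CommRing B] [Algebra A B] [IsNoetherianRing A] [Module.Finite A B] [Module.Free A B]
    [Module.Invertible B (Disc.Omega A B)] :
    Disc.differentSet A B = (Disc.noetherDifferent A B : Set B) := by
  rw [Groth.Agent.S2215.result]
  ext b
  rw [mem_differentSet_iff]
  constructor
  · intro hb
    rw [QFDual.mem_different_iff] at hb
    have key : ∀ t : TensorProduct B (Module.Dual B (Disc.Omega A B)) (Disc.Omega A B),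
        ∃ φ : Disc.Omega A B →ₗ[B] B,
          φ (Disc.Omega.trace A B) = b * contractLeft B (Disc.Omega A B) t := by
      intro t
      induction t using TensorProduct.induction_on with
      | zero => exact ⟨0, by simp⟩
      | tmul ψ m =>
        obtain ⟨c, hc⟩ := hb m
        refine ⟨c • ψ, ?_⟩
        rw [contractLeft_apply, LinearMap.smul_apply, smul_eq_mul, ← smul_eq_mul (a := c),
          ← LinearMap.map_smul ψ, hc, LinearMap.map_smul ψ, smul_eq_mul]
      | add t₁ t₂ h₁ h₂ =>
        obtain ⟨φ₁, h₁⟩ := h₁
        obtain ⟨φ₂, h₂⟩ := h₂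
        exact ⟨φ₁ + φ₂, by rw [LinearMap.add_apply, h₁, h₂, map_add, mul_add]⟩
    obtain ⟨t, ht⟩ := (Module.Invertible.bijective (R := B) (M := Disc.Omega A B)).2 1
    obtain ⟨φ, hφ⟩ := key t
    exact ⟨φ, by show φ (Disc.Omega.trace A B) = b; rw [hφ, ht, mul_one]⟩
  · rintro ⟨φ, rfl⟩
    exact Groth.Agent.Lib.helper22.QFDualBC.apply_mem_different φ _

end Groth.Agent.S2221
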