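import Groth.Statements.S2225
import Mathlib
import Groth.Agent.S0342
import Groth.Agent.Lib.Helper17.GorBCPoint
import Groth.Agent.Lib.Helper17.GorSpaceChart
import Groth.Agent.Lib.Helper17.GorDescent

set_option autoImplicit false
set_option linter.style.haveILetI false
universe u
open CategoryTheory AlgebraicGeometry
open Models

namespace Groth.Agent.S2225

/-- Part (1), for the closed fibre: let R be a discrete valuation ring with fraction field K, C a smooth
proper curve over K and X a regular model of C over R (flat, of finite type, all local rings
regular). Then every local ring of the special fibre X_k is a Gorenstein local ring; together with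
flatness and regularity of the generic fibre this says X -> Spec R is a Gorenstein morphism. -/
theorem result (R : Type u) [CommRing R] [IsDomain R]
    [IsDiscreteValuationRing R] (C X : Scheme.{u})
    (f : C ⟶ Spec (CommRingCat.of (FractionRing R))) (p : X ⟶ Spec (CommRingCat.of R))
    (hC : Curve.IsSmoothProperCurve (FractionRing R) C f) (hX : Models.IsModel R X p C f)
    (hreg : Models.IsRegularScheme X) (x : ↥(Models.specialFibre R X p)) :
    LocCoh.IsGorensteinLocalRing ((Models.specialFibre R X p).presheaf.stalk x) := by
  obtain ⟨hflat, hft, -, -⟩ := hX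
  haveI := hflat
  haveI := hft
  let σ : Spec (CommRingCat.of (IsLocalRing.ResidueField R)) ⟶ Spec (CommRingCat.of R) :=
    Spec.map (CommRingCat.ofHom (algebraMap R (IsLocalRing.ResidueField R)))
  haveI : IsClosedImmersion σ :=
    IsClosedImmersion.spec_of_surjective _ IsLocalRing.residue_surjective
  haveI : LocallyOfFiniteType σ := inferInstance
  have hc : IsPullback (Limits.pullback.fst p σ) (Limits.pullback.snd p σ) p σ :=
    IsPullback.of_hasPullback p σ
  change LocCoh.IsGorensteinLocalRing ((Limits.pullback p σ).presheaf.stalk x)
  haveI hr : IsRegularLocalRing (X.presheaf.stalk (Limits.pullback.fst p σ x)) := hreg _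
  have hG : LocCoh.IsGorensteinLocalRing (X.presheaf.stalk (Limits.pullback.fst p σ x)) :=
    Groth.Agent.S0342.result _
  have hN : IsNoetherianRing ((Spec (CommRingCat.of R)).presheaf.stalk
      (p (Limits.pullback.fst p σ x))) := inferInstance
  have h1 : Dual3.IsGorensteinAt p (Limits.pullback.fst p σ x) :=
    (Groth.Agent.Lib.helper17.GorSpaceChart.isGorensteinAt_of_flat_of_gor p _ hG hN).1
  have hNfib : IsNoetherianRing
      (Groth.Agent.Lib.helper17.FibreStalk.FibRing p (Limits.pullback.fst p σ x)) := inferInstance
  have h2 : Dual3.IsGorensteinAt (Limits.pullback.snd p σ) x :=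
    (Groth.Agent.Lib.helper17.GorBCPoint.isGorensteinAt_bc hc x hNfib).1 h1
  exact (Groth.Agent.Lib.helper17.GorDescent.isGorensteinAt_iff_of_isField
    (Limits.pullback.snd p σ) x
    (Groth.Agent.Lib.helper17.EtaleStalk.isField_stalk_spec_field _ _)).1 h2

end Groth.Agent.S2225
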