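import Groth.Statements.S7072
import Mathlib
import Groth.Agent.Lib.Helper13.CotLoc4
-- import your own Groth.Agent.* helpers here

set_option autoImplicit false
universe u
attribute [local instance] HasDerivedCategory.standard
open LCI

namespace Groth.Agent.S7072

/-- For a local complete intersection homomorphism of commutative rings A → B, the naive cotangent
complex NL_{B/A} is a perfect object of D(B) and has tor amplitude in [-1, 0]. -/
theorem result {A B : Type u} [CommRing A] [CommRing B] [Algebra A B]
    (h : LCI.IsLCI A B) :
    DRing.IsPerfect B (LCI.NL A B) ∧ DRing.HasTorAmplitudeIn B (-1) 0 (LCI.NL A B) := by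
  classical
  obtain ⟨-, n, f, hf, hK⟩ := h
  have hrel : (ComplexShape.up ℤ).Rel (-1) 0 := by simp
  let v : Fin n → B := fun i => f (MvPolynomial.X i)
  have hv : MvPolynomial.aeval v = f := by
    apply MvPolynomial.algHom_ext
    intro i
    simp [v]
  let G : Algebra.Generators A B (Fin n) :=
    Algebra.Generators.ofSurjective v (by rw [hv]; exact hf)
  have hker : G.toExtension.ker = RingHom.ker f.toRingHom := by
    ext x
    change algebraMap G.toExtension.Ring B x = 0 ↔ f x = 0
    rw [← hv]
    rfl
  have hK' : LCI.IsKoszulRegularIdeal G.toExtension.ker := by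
    rw [hker]
    exact hK
  obtain ⟨hfin, hproj⟩ :=
    Groth.Agent.Lib.helper13.CotLoc.finite_projective_cotangent_extension G.toExtension hK'
  obtain ⟨e⟩ := Groth.Agent.Lib.helper13.CotLoc.nonempty_iso_cotangentComplex
    (Algebra.Generators.self A B) G hrel
  let Ecx : DRing.Cx B :=
    HomologicalComplex.double (ModuleCat.ofHom G.toExtension.cotangentComplex) hrel
  have hvan : DRing.VanishesOutside Ecx (-1) 0 := fun i hi =>
    HomologicalComplex.isZero_double_X _ _ i (by omega) (by omega)
  have hterm : DRing.TermwiseFiniteProjective Ecx := by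
    intro i
    by_cases hi1 : i = -1
    · subst hi1
      let e0 := (HomologicalComplex.doubleXIso₀
        (ModuleCat.ofHom G.toExtension.cotangentComplex) hrel).toLinearEquiv
      exact ⟨Module.Finite.equiv e0.symm, Module.Projective.of_equiv' e0.symm⟩
    · by_cases hi0 : i = 0
      · subst hi0
        let e1 := (HomologicalComplex.doubleXIso₁
          (ModuleCat.ofHom G.toExtension.cotangentComplex) hrel (by omega)).toLinearEquiv
        haveI : Module.Free B G.toExtension.CotangentSpace :=
          Module.Free.of_basis G.cotangentSpaceBasis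
        haveI : Module.Finite B G.toExtension.CotangentSpace :=
          Module.Finite.of_basis G.cotangentSpaceBasis
        exact ⟨Module.Finite.equiv e1.symm, Module.Projective.of_equiv' e1.symm⟩
      · have hz : CategoryTheory.Limits.IsZero (Ecx.X i) := HomologicalComplex.isZero_double_X _ _ i hi1 hi0
        haveI : Subsingleton (Ecx.X i) := ModuleCat.subsingleton_of_isZero hz
        exact ⟨inferInstance, inferInstance⟩
  refine ⟨⟨Ecx, -1, 0, hvan, hterm, ⟨e.symm⟩⟩, ⟨Ecx, hvan, fun i => ?_, ⟨e.symm⟩⟩⟩
  haveI := (hterm i).2
  infer_instance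

end Groth.Agent.S7072
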