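import Groth.Statements.S2236
import Mathlib
import Groth.Agent.S7072
import Groth.Agent.S2189
import Groth.Agent.S15821
import Groth.Agent.Lib.Helper13.NLFlat2
import Groth.Agent.Lib.Helper13.NLFlat3
-- import your own Groth.Agent.* helpers here

set_option autoImplicit false
universe u
attribute [local instance] HasDerivedCategory.standard
open LCI

namespace Groth.Agent.S2236

/-- Equivalence of (1) and (3): let A be a Noetherian ring and B an A-algebra of finite type which has
finite Tor-dimension as an A-module (so that A -> B is a perfect ring map). Then NL_{B/A} has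
tor-amplitude in [-1, 0] if and only if A -> B is a local complete intersection homomorphism (some
presentation has Koszul-regular kernel ideal). -/
theorem result {A B : Type u} [CommRing A] [CommRing B]
    [Algebra A B] [IsNoetherianRing A] [Algebra.FiniteType A B] (hB : DRing.HasFiniteTorDim A B) :
    DRing.HasTorAmplitudeIn B (-1) 0 (LCI.NL A B) ↔ LCI.IsLCI A B := by
  classical
  constructor
  · intro h
    obtain ⟨n, f, hf⟩ := Algebra.FiniteType.iff_quotient_mvPolynomial''.mp
      (inferInstance : Algebra.FiniteType A B)
    refine ⟨inferInstance, n, f, hf, ?_⟩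
    let v : Fin n → B := fun i => f (MvPolynomial.X i)
    have hv : MvPolynomial.aeval v = f := by
      apply MvPolynomial.algHom_ext
      intro i
      simp [v]
    let G : Algebra.Generators A B (Fin n) :=
      Algebra.Generators.ofSurjective v (by rw [hv]; exact hf)
    have hker : G.toExtension.ker = RingHom.ker f.toRingHom := by
      ext x
      change algebraMap G.toExtension.Ring B x = 0 ↔ f x = 0
      rw [← hv]
      rfl
    haveI : IsNoetherianRing B := Algebra.FiniteType.isNoetherianRing A B
    haveI : IsNoetherianRing G.toExtension.Ring :=
      inferInstanceAs (IsNoetherianRing (MvPolynomial (Fin n) A))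
    have hflat : Module.Flat B G.toExtension.Cotangent :=
      Groth.Agent.Lib.helper13.NLFlat.flat_cotangent_of_hasTorAmplitudeIn G h
    have hfin : Module.Finite B G.toExtension.Cotangent :=
      Groth.Agent.Lib.helper13.NLFlat.finite_cotangent_of_fg G.toExtension
        (IsNoetherian.noetherian _)
    haveI : Module.FinitePresentation B G.toExtension.Cotangent :=
      Module.finitePresentation_of_finite B _
    haveI : Module.Projective B G.toExtension.Cotangent :=
      Module.Flat.projective_of_finitePresentation
    have hproj := Groth.Agent.Lib.helper13.NLFlat.projective_ker_cotangent G.toExtension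
    obtain ⟨d, hd⟩ :=
      Groth.Agent.Lib.helper13.NLFlat.exists_hasProjectiveDimensionLT_ker A B hB n f hf
    haveI : Module.Projective (MvPolynomial (Fin n) A ⧸ RingHom.ker f.toRingHom)
        (RingHom.ker f.toRingHom).Cotangent := hker ▸ hproj
    intro 𝔭 h𝔭
    obtain ⟨g, hg, rs, hreg, hrs⟩ :=
      Groth.Agent.S2189.result (RingHom.ker f.toRingHom) (d + 1) hd 𝔭.asIdeal h𝔭
    refine ⟨g, hg, rs, (Groth.Agent.S15821.result _ rs hreg.toIsWeaklyRegular).1, ?_⟩
    rw [← hrs]
  · intro h
    exact (Groth.Agent.S7072.result h).2

end Groth.Agent.S2236
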