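import Groth.Statements.S9602
import Mathlib

set_option autoImplicit false
universe u
open CAlg

namespace Groth.Agent.S9602

section
variable {R : Type u} [CommRing R] (I : Ideal R)

lemma isUnit_of_val (x : AdicCompletion I R) (h : ∀ n, IsUnit (x.val n)) : IsUnit x := by
  choose u hu using h
  have hcompat : ∀ {m n : ℕ} (hmn : m ≤ n),
      AdicCompletion.transitionMap I R hmn (↑(u n)⁻¹ : R ⧸ (I ^ n • ⊤ : Ideal R)) = ↑(u m)⁻¹ := by
    intro m n hmn
    have h1 : AdicCompletion.transitionMapₐ I hmn (↑(u n)⁻¹ : R ⧸ (I ^ n • ⊤ : Ideal R)) *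
        x.val m = 1 := by
      have hx : x.val m = AdicCompletion.transitionMapₐ I hmn (x.val n) := (x.property hmn).symm
      rw [hx, ← map_mul, ← hu n, Units.inv_mul, map_one]
    have h2 : x.val m * (↑(u m)⁻¹ : R ⧸ (I ^ m • ⊤ : Ideal R)) = 1 := by
      rw [← hu m, Units.mul_inv]
    exact left_inv_eq_right_inv h1 h2
  refine isUnit_iff_exists_inv.mpr ⟨⟨fun n => ↑(u n)⁻¹, fun hmn => hcompat hmn⟩, ?_⟩
  apply AdicCompletion.ext
  intro n
  rw [AdicCompletion.val_mul, AdicCompletion.val_one]
  show x.val n * ↑(u n)⁻¹ = 1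
  rw [← hu n, Units.mul_inv]

lemma isUnit_of_evalOne (x : AdicCompletion I R) (hx : IsUnit (AdicCompletion.evalOneₐ I x)) :
    IsUnit x := by
  obtain ⟨c, rfl⟩ := AdicCompletion.mk_surjective I R x
  have he : AdicCompletion.evalOneₐ I (AdicCompletion.mk I R c) = Ideal.Quotient.mk I (c 1) := by
    simp [AdicCompletion.evalOneₐ]
  rw [he] at hx
  obtain ⟨y, hy⟩ := isUnit_iff_exists_inv.mp hx
  obtain ⟨s, rfl⟩ := Ideal.Quotient.mk_surjective y
  rw [← map_mul, ← map_one (Ideal.Quotient.mk I), Ideal.Quotient.eq] at hy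
  apply isUnit_of_val
  intro n
  rcases Nat.eq_zero_or_pos n with hn | hn
  · subst hn
    haveI : Subsingleton (R ⧸ (I ^ 0 • ⊤ : Ideal R)) := by
      rw [Ideal.Quotient.subsingleton_iff]
      simp
    exact isUnit_of_subsingleton _
  · have hval : (AdicCompletion.mk I R c).val n = Ideal.Quotient.mk (I ^ n • ⊤ : Ideal R) (c n) := rfl
    rw [hval]
    have hc : c n - c 1 ∈ I := by
      have := c.property (show 1 ≤ n from hn)
      rw [SModEq.sub_mem] at this
      have h2 : c n - c 1 = -(c 1 - c n) := by ring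
      rw [h2]
      apply neg_mem
      simpa using this
    have ht : c n * s - 1 ∈ I := by
      have : c n * s - 1 = (c n - c 1) * s + (c 1 * s - 1) := by ring
      rw [this]
      exact add_mem (Ideal.mul_mem_right _ _ hc) hy
    have hnil : IsNilpotent (Ideal.Quotient.mk (I ^ n • ⊤ : Ideal R) (c n * s - 1)) := by
      refine ⟨n, ?_⟩
      rw [← map_pow, Ideal.Quotient.eq_zero_iff_mem]
      simpa using Ideal.pow_mem_pow ht n
    have hu : IsUnit (Ideal.Quotient.mk (I ^ n • ⊤ : Ideal R) (c n) *
        Ideal.Quotient.mk (I ^ n • ⊤ : Ideal R) s) := by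
      have : Ideal.Quotient.mk (I ^ n • ⊤ : Ideal R) (c n) *
          Ideal.Quotient.mk (I ^ n • ⊤ : Ideal R) s =
          Ideal.Quotient.mk (I ^ n • ⊤ : Ideal R) (c n * s - 1) + 1 := by
        rw [← map_mul, ← map_one (Ideal.Quotient.mk (I ^ n • ⊤ : Ideal R)), ← map_add]
        congr 1
        ring
      rw [this]
      exact hnil.isUnit_add_one
    exact isUnit_of_mul_isUnit_left hu

end

/-- Let R be a ring, I an ideal of R and R^ = lim R/Iⁿ the I-adic completion. An element of R^ whose
image in R/I is invertible is itself invertible in R^; and the kernel of R^ → R/I as well as the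
extended ideal I R^ both lie inside the Jacobson radical of R^. -/
theorem result {R : Type u} [CommRing R] (I : Ideal R) :
    (∀ x : AdicCompletion I R, IsUnit (AdicCompletion.evalOneₐ I x) → IsUnit x) ∧
      RingHom.ker (AdicCompletion.evalOneₐ I).toRingHom ≤ (⊥ : Ideal (AdicCompletion I R)).jacobson ∧
      I.map (algebraMap R (AdicCompletion I R)) ≤ (⊥ : Ideal (AdicCompletion I R)).jacobson := by
  have h2 : RingHom.ker (AdicCompletion.evalOneₐ I).toRingHom ≤
      (⊥ : Ideal (AdicCompletion I R)).jacobson := by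
    intro y hy
    rw [Ideal.mem_jacobson_bot]
    intro z
    apply isUnit_of_evalOne
    have hy' : AdicCompletion.evalOneₐ I y = 0 := hy
    rw [map_add, map_mul, hy', zero_mul, zero_add, map_one]
    exact isUnit_one
  refine ⟨isUnit_of_evalOne I, h2, ?_⟩
  refine le_trans ?_ h2
  rw [Ideal.map_le_iff_le_comap]
  intro r hr
  rw [Ideal.mem_comap, RingHom.mem_ker]
  show AdicCompletion.evalOneₐ I (algebraMap R (AdicCompletion I R) r) = 0
  rw [AdicCompletion.algebraMap_apply, Algebra.algebraMap_self_apply, AdicCompletion.evalOneₐ_of]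
  exact Ideal.Quotient.eq_zero_iff_mem.mpr hr

end Groth.Agent.S9602
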