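import Groth.Statements.S9605
import Mathlib

set_option autoImplicit false
universe u
open CAlg

namespace Groth.Agent.S9605

section
variable {R : Type u} [CommRing R] (I : Ideal R) (M : Type u) [AddCommGroup M] [Module R M]

lemma precomplete_quot [IsPrecomplete I M] (K : Submodule R M) : IsPrecomplete I (M ⧸ K) := by
  rw [← AdicCompletion.of_surjective_iff]
  intro y
  obtain ⟨x', hx'⟩ := AdicCompletion.map_surjective I (Submodule.mkQ_surjective K) y
  obtain ⟨x, hx⟩ := AdicCompletion.of_surjective I M x'
  refine ⟨K.mkQ x, ?_⟩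
  rw [← AdicCompletion.map_of, hx, hx']

lemma mem_pow_smul_top_quot (K : Submodule R M) (n : ℕ) (m : M) :
    K.mkQ m ∈ (I ^ n • ⊤ : Submodule R (M ⧸ K)) ↔ m ∈ K ⊔ I ^ n • (⊤ : Submodule R M) := by
  have h : (I ^ n • ⊤ : Submodule R (M ⧸ K)) = (I ^ n • (⊤ : Submodule R M)).map K.mkQ := by
    rw [Submodule.map_smul'', Submodule.map_top, Submodule.range_mkQ]
  rw [h, ← Submodule.comap_map_mkQ, Submodule.mem_comap]

lemma hausdorff_quot_iff (K : Submodule R M) :
    IsHausdorff I (M ⧸ K) ↔ K = ⨅ n : ℕ, K ⊔ I ^ n • (⊤ : Submodule R M) := by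
  rw [isHausdorff_iff]
  constructor
  · intro h
    apply le_antisymm
    · exact le_iInf fun n => le_sup_left
    · intro m hm
      rw [Submodule.mem_iInf] at hm
      have := h (K.mkQ m) (fun n => by
        rw [SModEq.zero]
        exact (mem_pow_smul_top_quot I M K n m).mpr (hm n))
      simpa using this
  · intro h x hx
    obtain ⟨m, rfl⟩ := Submodule.mkQ_surjective K x
    have : m ∈ K := by
      rw [h, Submodule.mem_iInf]
      intro n
      have := hx n
      rw [SModEq.zero] at this
      exact (mem_pow_smul_top_quot I M K n m).mp this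
    simpa using this

end

/-- For a ring R, an ideal I of R, an I-adically complete R-module M and a submodule K of M, the
quotient M/K is I-adically complete if and only if K = ⋂ₙ (K + IⁿM). -/
theorem result {R : Type u} [CommRing R] (I : Ideal R) (M : Type u) [AddCommGroup M] [Module R M] [IsAdicComplete I M] (K : Submodule R M) :
    IsAdicComplete I (M ⧸ K) ↔ K = ⨅ n : ℕ, K ⊔ I ^ n • (⊤ : Submodule R M) := by
  rw [isAdicComplete_iff, ← hausdorff_quot_iff]
  exact ⟨fun h => h.1, fun h => ⟨h, precomplete_quot I M K⟩⟩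

end Groth.Agent.S9605
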