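import Groth.Statements.S2330
import Mathlib
import Groth.Agent.Lib.Helper12.VAmple4
import Groth.Agent.Lib.Helper12.PullAmple
-- import your own Groth.Agent.* helpers here

set_option autoImplicit false
universe u
open CategoryTheory CategoryTheory.Limits AlgebraicGeometry
open EGA2

namespace Groth.Agent.S2330

/-- Let Y be affine, q : X → Y separated and of finite type, and L an invertible O_X-module. Then L is
ample if and only if some L^{⊗n} (n > 0) is very ample relative to q, in the sense that it is the
pullback of O(1) along an immersion of X into some P^m_Y over Y; moreover, if L is ample this holds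
for all n beyond some n₀. ('Very ample relative to q' in general means this with P(E) for a
quasi-coherent O_Y-module E in place of P^m_Y; for q of finite type over an affine base the two
agree, and the P^m_Y form is the one used here.) -/
theorem result {X Y : Scheme.{u}} [IsAffine Y] (q : X ⟶ Y) [IsSeparated q]
    [QuasiCompact q] [LocallyOfFiniteType q] (L : X.Modules) (hL : PicF.IsInvertible L) :
    (CohB1.IsAmple L ↔ ∃ n : ℕ, 0 < n ∧ RelAmple.IsRelVeryAmplePn q (CohB1.tensorPow L n)) ∧
      (CohB1.IsAmple L → ∃ n₀ : ℕ, ∀ n, n₀ ≤ n → RelAmple.IsRelVeryAmplePn q (CohB1.tensorPow L n)) := by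
  have hev := fun hA : CohB1.IsAmple L =>
    Groth.Agent.Lib.helper12.VAmple4.isRelVeryAmplePn_tensorPow_eventually q hA
  refine ⟨⟨fun hA => ?_, ?_⟩, hev⟩
  · obtain ⟨n₀, h⟩ := hev hA
    exact ⟨n₀ + 1, Nat.succ_pos _, h _ (Nat.le_succ _)⟩
  · rintro ⟨n, hn, m, i, hi, hiq, ⟨τ⟩⟩
    have h1 : CohB1.IsAmple (Twist.twistProjSpace m (ULift.{u} ℤ) ((1 : ℕ) : ℤ)) :=
      Groth.Agent.Lib.helper28.TwistPn.isAmple (n := m) (R := ULift.{u} ℤ) 1 one_pos
    have haff : IsAffineHom (pullback.fst (CohB1.ProjSpace.toSpec m (ULift.{u} ℤ))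
        (specULiftZIsTerminal.from Y)) := by
      have : IsAffineHom (specULiftZIsTerminal.from Y) := inferInstance
      exact MorphismProperty.pullback_fst _ _ this
    have h2 : CohB1.IsAmple (Twist.twistOver m Y 1) :=
      Groth.Agent.Lib.helper12.PullAmple.isAmple_pullback_of_isAffineHom
        (pullback.fst (CohB1.ProjSpace.toSpec m (ULift.{u} ℤ)) (specULiftZIsTerminal.from Y)) h1
    have : CompactSpace X := QuasiCompact.compactSpace_of_compactSpace q
    have := hi
    have h3 : CohB1.IsAmple ((Scheme.Modules.pullback i).obj (Twist.twistOver m Y 1)) :=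
      Groth.Agent.Lib.helper12.PullAmple.isAmple_pullback_of_isEmbedding i i.isEmbedding h2
    have h4 : CohB1.IsAmple (CohB1.tensorPow L n) :=
      Groth.Agent.Lib.helper12.AmplePow.isAmple_of_iso τ.symm h3
    exact (Groth.Agent.Lib.helper12.AmplePow.isAmple_tensorPow_iff hL n hn).mpr h4

end Groth.Agent.S2330
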