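import Groth.Statements.S2335
import Mathlib
import Groth.Agent.S9213
import Groth.Agent.S2334
-- import your own Groth.Agent.* helpers here

set_option autoImplicit false
universe u
open CategoryTheory CategoryTheory.Limits AlgebraicGeometry
open EGA2

namespace Groth.Agent.S2335

/-- Let Y be locally Noetherian and f : X → Y of finite type. Then f is proper if and only if for every
discrete valuation ring A with fraction field K and every commutative square Spec K → X, Spec A → Y,
there is exactly one morphism Spec A → X making both triangles commute. -/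
theorem result {X Y : Scheme.{u}} [IsLocallyNoetherian Y] (f : X ⟶ Y) [LocallyOfFiniteType f] [QuasiCompact f] :
    IsProper f ↔ ∀ (A : Type u) [CommRing A] [IsDomain A] [IsDiscreteValuationRing A] (x : (Spec (CommRingCat.of (FractionRing A))) ⟶ X) (y : (Spec (CommRingCat.of A)) ⟶ Y),
      x ≫ f = (Spec.map (CommRingCat.ofHom (algebraMap A (FractionRing A)))) ≫ y → ∃! l : (Spec (CommRingCat.of A)) ⟶ X, l ≫ f = y ∧ (Spec.map (CommRingCat.ofHom (algebraMap A (FractionRing A)))) ≫ l = x := by
  constructor
  · intro hf A _ _ _ x y hxy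
    obtain ⟨l, hl1, hl2⟩ := (Groth.Agent.S9213.result f).mp inferInstance A x y hxy
    refine ⟨l, ⟨hl1, hl2⟩, ?_⟩
    rintro l' ⟨hl1', hl2'⟩
    exact (Groth.Agent.S2334.result f).mp inferInstance A l' l (hl1'.trans hl1.symm)
      (hl2'.trans hl2.symm)
  · intro H
    haveI : IsSeparated f := by
      refine Groth.Agent.S2334.isSeparated_of_dvr f ?_
      intro A _ _ _ g₁ g₂ hf hK
      obtain ⟨l, -, hl⟩ := H A (Spec.map (CommRingCat.ofHom (algebraMap A (FractionRing A))) ≫ g₁)
        (g₁ ≫ f) (by rw [Category.assoc])
      exact (hl g₁ ⟨rfl, rfl⟩).trans (hl g₂ ⟨hf.symm, hK.symm⟩).symm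
    haveI : UniversallyClosed f := by
      refine Groth.Agent.S9213.universallyClosed_of_dvr f ?_
      intro A _ _ _ x y hxy
      obtain ⟨l, hl, -⟩ := H A x y hxy
      exact ⟨l, hl⟩
    exact { }

end Groth.Agent.S2335
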