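import Groth.Statements.S2337
import Mathlib
import Groth.Agent.Lib.Helper12.AmpleRel
-- import your own Groth.Agent.* helpers here

set_option autoImplicit false
universe u
open CategoryTheory CategoryTheory.Limits AlgebraicGeometry
open EGA2

namespace Groth.Agent.S2337

/-- Let f : X → Y be quasi-compact. Then f is quasi-affine (preimages of affine opens are quasi-affine)
if and only if O_X is ample relative to f. -/
theorem result {X Y : Scheme.{u}} (f : X ⟶ Y) [QuasiCompact f] :
    Mor2.IsQuasiAffine f ↔ RelAmple.IsRelAmple f (Coh.structureModule X) := by
  exact Groth.Agent.Lib.helper12.AmpleRel.isQuasiAffine_iff_isRelAmple_structureModule f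

end Groth.Agent.S2337
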