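import Groth.Statements.S2341
import Mathlib
-- import your own Groth.Agent.* helpers here

set_option autoImplicit false
set_option backward.isDefEq.respectTransparency false
universe u
open CategoryTheory CategoryTheory.Limits AlgebraicGeometry
open EGA2

namespace Groth.Agent.S2341


theorem isQuasiAffine_of_isEmbedding {X' Z : Scheme.{u}} [IsAffine Z] [CompactSpace X'] (g : X' ⟶ Z)
    (hg : Topology.IsEmbedding g.base) : X'.IsQuasiAffine := by
  refine Scheme.IsQuasiAffine.of_forall_exists_mem_basicOpen _ fun x => ?_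
  obtain ⟨_, ⟨W, hW : IsAffineOpen W, rfl⟩, hxW, -⟩ :=
    X'.isBasis_affineOpens.exists_subset_of_mem_open (Set.mem_univ x) isOpen_univ
  obtain ⟨O, hO, hOW⟩ := hg.isInducing.isOpen_iff.mp W.isOpen
  have hxO : g.base x ∈ (⟨O, hO⟩ : Z.Opens) := by
    change x ∈ g.base ⁻¹' O
    rw [hOW]; exact hxW
  obtain ⟨_, ⟨_, ⟨a, rfl⟩, rfl⟩, hxa, haO⟩ :=
    (isBasis_basicOpen Z).exists_subset_of_mem_open hxO hO
  have hle : X'.basicOpen (g.appTop a) ≤ W := by
    rw [← Scheme.preimage_basicOpen_top]
    intro y hy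
    have : g.base y ∈ O := haO hy
    change y ∈ (W : Set X')
    rw [← hOW]; exact this
  refine ⟨g.appTop a, ?_, ?_⟩
  · have h1 := hW.basicOpen (X'.presheaf.map (homOfLE (le_top : W ≤ ⊤)).op (g.appTop a))
    rwa [Scheme.basicOpen_res, inf_eq_right.mpr hle] at h1
  · rw [← Scheme.preimage_basicOpen_top]
    exact hxa


/-- A quasi-compact morphism X → Y whose underlying map is a homeomorphism onto its image (for instance
a closed immersion) is quasi-affine. -/
theorem result {X Y : Scheme.{u}} (f : X ⟶ Y) [QuasiCompact f]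
    (hf : Topology.IsEmbedding f.base) : Mor2.IsQuasiAffine f := by
  refine ⟨inferInstance, fun V hV => ?_⟩
  have : IsAffine (V : Scheme.{u}) := hV
  have : CompactSpace ((f ⁻¹ᵁ V : X.Opens) : Scheme.{u}) := by
    have hq : QuasiCompact (f ∣_ V) := inferInstance
    exact (HasAffineProperty.iff_of_isAffine (P := @QuasiCompact)).mp hq
  refine isQuasiAffine_of_isEmbedding (f ∣_ V) ?_
  change Topology.IsEmbedding ⇑(f ∣_ V)
  rw [morphismRestrict_base]
  exact hf.restrictPreimage _


end Groth.Agent.S2341
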