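import Groth.Statements.S2340
-- import your own Groth.Agent.* helpers here
import Groth.Agent.S2338
import Groth.Agent.S2339
import Groth.Agent.S2341

set_option autoImplicit false
universe u
open CategoryTheory CategoryTheory.Limits AlgebraicGeometry
open EGA2

namespace Groth.Agent.S2340

/-- Let f : X → Y and g : Y → Z be morphisms of schemes with g ∘ f quasi-affine and g quasi-separated.
Then f is quasi-affine. -/
theorem result {X Y Z : Scheme.{u}} (f : X ⟶ Y) (g : Y ⟶ Z) [QuasiSeparated g]
    (h : Mor2.IsQuasiAffine (f ≫ g)) : Mor2.IsQuasiAffine f := by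
  have h1 : Mor2.IsQuasiAffine (pullback.snd (f ≫ g) g) := Groth.Agent.S2339.result (f ≫ g) h g
  let γ : X ⟶ pullback (f ≫ g) g := pullback.lift (𝟙 X) f (by simp)
  have hγ : γ ≫ pullback.snd (f ≫ g) g = f := pullback.lift_snd _ _ _
  have hsq := pullback_lift_diagonal_isPullback f g
  have hqc : QuasiCompact γ :=
    MorphismProperty.of_isPullback (P := @QuasiCompact) hsq inferInstance
  have himm : IsImmersion γ :=
    MorphismProperty.of_isPullback (P := @IsImmersion) hsq inferInstance
  have h2 : Mor2.IsQuasiAffine γ := Groth.Agent.S2341.result γ γ.isEmbedding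
  have h3 := Groth.Agent.S2338.result γ (pullback.snd (f ≫ g) g) h2 h1
  rwa [hγ] at h3

end Groth.Agent.S2340
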