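import Groth.Statements.S2342
import Mathlib
import Groth.Agent.Lib.Helper4.ValIso

set_option autoImplicit false
universe u
open CategoryTheory CategoryTheory.Limits AlgebraicGeometry
open EGA2

namespace Groth.Agent.S2342

/-- Let A be a valuation ring with Y = Spec A, X an integral separated scheme and f : X → Y a morphism
which is closed as a map of topological spaces, such that the fibre over the generic point of Y
consists of exactly one point x and the induced map from the residue field of the generic point of Y
to that of x is bijective. Then f is an isomorphism. -/
theorem result (A : Type u) [CommRing A] [IsDomain A] [ValuationRing A]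
    (X : Scheme.{u}) [IsIntegral X] [X.IsSeparated] (f : X ⟶ Spec (CommRingCat.of A)) (hf : IsClosedMap f.base)
    (x : X) (hx : f.base ⁻¹' {genericPoint (Spec (CommRingCat.of A))} = {x})
    (hres : Function.Bijective (f.residueFieldMap x).hom) : IsIso f := by
  have h1 : IsDomain ↑(CommRingCat.of A) := ‹IsDomain A›
  have h2 : ValuationRing ↑(CommRingCat.of A) := ‹ValuationRing A›
  exact Groth.Agent.Lib.helper4.ValIso.isIso_of_isClosedMap (CommRingCat.of A) X f hf x hx hres

end Groth.Agent.S2342
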