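import Groth.Statements.S5985
import Mathlib
import Groth.Agent.Lib.Helper13.EL3
import Groth.Agent.Lib.Helper13.UR2
import Groth.Agent.Lib.Helper13.WT9
-- import your own Groth.Agent.* helpers here

set_option autoImplicit false
universe u
open CategoryTheory AlgebraicGeometry
open Unram

namespace Groth.Agent.S5985

open AlgebraicGeometry CategoryTheory Limits in
/-- A morphism locally of finite type is quasi-finite at the points of a finite fibre. -/
lemma quasiFiniteAt_of_finite_fibre {X Y : Scheme.{u}} (f : X ⟶ Y) [LocallyOfFiniteType f]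
    (x : X) (hfin : (f ⁻¹' {f x}).Finite) : f.QuasiFiniteAt x := by
  rw [Scheme.Hom.quasiFiniteAt_iff_isOpen_singleton_asFiber]
  haveI : Finite (f ⁻¹' {f x}) := hfin.to_subtype
  haveI : Finite ↑(f.fiber (f x)) := Finite.of_equiv _ (f.fiberHomeo (f x)).symm.toEquiv
  exact isOpen_discrete _

open AlgebraicGeometry CategoryTheory Limits in
/-- The union of finitely many opens, each finite over the base and closed, is finite over the
base (for a separated morphism locally of finite type). -/
lemma isFinite_iSup {P W : Scheme.{u}} (π : P ⟶ W) [IsSeparated π] [LocallyOfFiniteType π]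
    {σ : Type} [Finite σ] (B : σ → P.Opens) (hB : ∀ s, IsFinite ((B s).ι ≫ π)) :
    IsFinite ((⨆ s, B s).ι ≫ π) := by
  haveI : LocallyQuasiFinite ((⨆ s, B s).ι ≫ π) :=
    Groth.Agent.Lib.helper13.UR.of_iSup_opens π @LocallyQuasiFinite B
      (fun s ↦ by haveI := hB s; infer_instance)
  haveI : UniversallyClosed ((⨆ s, B s).ι ≫ π) := by
    refine Groth.Agent.Lib.helper13.WT.universallyClosed_of_finite_cover ((⨆ s, B s).ι ≫ π)
      (fun s ↦ (⨆ s, B s).ι ⁻¹ᵁ B s) (fun s ↦ ?_) (fun p ↦ ?_)
    · have hrange : Set.range (((⨆ s, B s).ι ⁻¹ᵁ B s).ι ≫ (⨆ s, B s).ι) = Set.range (B s).ι := by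
        rw [Scheme.Opens.range_ι]
        ext p
        constructor
        · rintro ⟨a, rfl⟩
          exact a.2
        · intro hp
          exact ⟨⟨⟨p, le_iSup B s hp⟩, hp⟩, rfl⟩
      have e := IsOpenImmersion.isoOfRangeEq_hom_fac
        (((⨆ s, B s).ι ⁻¹ᵁ B s).ι ≫ (⨆ s, B s).ι) (B s).ι hrange
      rw [← Category.assoc, ← e, Category.assoc]
      haveI := hB s
      infer_instance
    · obtain ⟨s, hs⟩ := TopologicalSpace.Opens.mem_iSup.mp p.2
      exact ⟨s, hs⟩
  haveI : IsProper ((⨆ s, B s).ι ≫ π) :=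
    { toIsSeparated := inferInstance
      toUniversallyClosed := inferInstance
      toLocallyOfFiniteType := inferInstance }
  exact IsFinite.of_isProper_of_locallyQuasiFinite _


/-- Let f : X ⟶ Y be separated and locally of finite type, and y a point of Y whose fibre f⁻¹(y) is
finite (hence discrete). Then there are an étale morphism g : Y' ⟶ Y, a point y' of Y' with g(y') =
y inducing an isomorphism of residue fields κ(y) ≅ κ(y'), and two complementary open subschemes V, W
of X' = X ×_Y Y' such that V ⟶ Y' is finite and W contains no point of X' lying over y'. -/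
theorem result {X Y : Scheme.{u}} (f : X ⟶ Y)
    [LocallyOfFiniteType f] [IsSeparated f] (y : Y) (hfin : (f ⁻¹' {y}).Finite) :
    ∃ (Y' : Scheme.{u}) (g : Y' ⟶ Y) (y' : Y'), Etale g ∧ g y' = y ∧
      IsIso (g.residueFieldMap y') ∧
      ∃ (V W : (Limits.pullback f g).Opens), IsCompl V W ∧
        IsFinite (V.ι ≫ Limits.pullback.snd f g) ∧
        ∀ x : ↥(Limits.pullback f g), Limits.pullback.snd f g x = y' → x ∈ V := by
  classical
  haveI : Finite (f ⁻¹' {y}) := hfin.to_subtype
  obtain ⟨x, hxs, hxsurj⟩ : ∃ x : Fin (Nat.card (f ⁻¹' {y})) → X, (∀ i, f (x i) = y) ∧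
      ∀ p, f p = y → ∃ i, x i = p := by
    let eX : (f ⁻¹' {y}) ≃ Fin (Nat.card (f ⁻¹' {y})) := Finite.equivFin _
    exact ⟨fun i ↦ (eX.symm i).1, fun i ↦ (eX.symm i).2, fun p hp ↦ ⟨eX ⟨p, hp⟩, by
      show ((eX.symm (eX ⟨p, hp⟩)) : f ⁻¹' {y}).1 = p
      rw [Equiv.symm_apply_apply]⟩⟩
  have hqf : ∀ i, f.QuasiFiniteAt (x i) := fun i ↦
    quasiFiniteAt_of_finite_fibre f (x i) (by rw [hxs i]; exact hfin)
  obtain ⟨Y', g, y', hg, hgy, hbij, V, v, hgood⟩ :=
    Groth.Agent.Lib.helper13.EL.exists_etale_nbhd_of_quasiFiniteAt_finite (f := f) y x hxs hqf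
  have hcl : IsClosed ((⨆ i, V i : (Limits.pullback f g).Opens) : Set ↑(Limits.pullback f g)) := by
    rw [TopologicalSpace.Opens.coe_iSup]
    exact isClosed_iUnion_of_finite fun i ↦ (hgood i).closed inferInstance
  refine ⟨Y', g, y', hg, hgy, (ConcreteCategory.isIso_iff_bijective _).mpr hbij, ⨆ i, V i,
    ⟨_, hcl.isOpen_compl⟩, ?_, ?_, ?_⟩
  · constructor
    · rw [disjoint_iff]
      ext p
      simp only [TopologicalSpace.Opens.coe_inf, TopologicalSpace.Opens.coe_mk,
        Set.inter_compl_self, TopologicalSpace.Opens.coe_bot]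
    · rw [codisjoint_iff]
      ext p
      simp only [TopologicalSpace.Opens.coe_sup, TopologicalSpace.Opens.coe_mk,
        Set.union_compl_self, TopologicalSpace.Opens.coe_top]
  · exact isFinite_iSup (Limits.pullback.snd f g) V (fun i ↦ (hgood i).finite)
  · intro p hp
    have hfp : f (Limits.pullback.fst f g p) = y := by
      rw [← Scheme.Hom.comp_apply, Limits.pullback.condition, Scheme.Hom.comp_apply, hp, hgy]
    obtain ⟨i, hi⟩ := hxsurj _ hfp
    have hpv : p = v i := by
      apply Groth.Agent.Lib.helper13.EL.eq_of_fst_eq_of_snd_eq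
      · rw [hp]; exact hbij
      · rw [(hgood i).fst_eq, hi]
      · rw [(hgood i).snd_eq, hp]
    rw [hpv]
    exact TopologicalSpace.Opens.mem_iSup.mpr ⟨i, (hgood i).mem⟩

end Groth.Agent.S5985
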