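import Groth.Statements.S4437
import Mathlib
import Groth.Agent.S0503
import Groth.Agent.S5985
-- import your own Groth.Agent.* helpers here

set_option autoImplicit false
universe u
open CategoryTheory CategoryTheory.Limits AlgebraicGeometry
open EGA2

namespace Groth.Agent.S4437

open IsLocalRing in

theorem henselianLocalRing_of_complete (A : Type u) [CommRing A] [IsLocalRing A]
    [IsAdicComplete (IsLocalRing.maximalIdeal A) A] : HenselianLocalRing A where
  is_henselian f hf a₀ h₁ h₂ := by
    have := IsAdicComplete.henselianRing A (IsLocalRing.maximalIdeal A)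
    exact HenselianRing.is_henselian f hf a₀ h₁ (h₂.map _)

open IsLocalRing in
theorem ring_split (A S : Type u) [CommRing A] [HenselianLocalRing A] [CommRing S] [Algebra A S]
    [Algebra.FiniteType A S] [Algebra.QuasiFinite A S] :
    ∃ e : S, IsIdempotentElem e ∧
      (∀ (B : Type u) [CommRing B] [Algebra S B] [Algebra A B] [IsScalarTower A S B]
        [IsLocalization.Away e B], Module.Finite A B) ∧
      ∀ (𝔭 : Ideal S) [𝔭.IsPrime],
        𝔭.comap (algebraMap A S) = IsLocalRing.maximalIdeal A → e ∉ 𝔭 := by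
  obtain ⟨e, he, hfin, htop⟩ := Groth.Agent.S0503.result A S
  refine ⟨e, he, ?_, ?_⟩
  · intro B _ _ _ _ _
    haveI := IsLocalization.Away.quotient_of_isIdempotentElem he
    let φ : (S ⧸ Ideal.span ({1 - e} : Set S)) ≃ₐ[S] B :=
      IsLocalization.algEquiv (Submonoid.powers e) _ B
    exact Module.Finite.equiv (φ.restrictScalars A).toLinearEquiv
  · intro 𝔭 _ hcomap hmem
    have h1 : Ideal.map (algebraMap A S) (maximalIdeal A) ≤ 𝔭 := by
      rw [Ideal.map_le_iff_le_comap, hcomap]
    have h2 : Ideal.map (algebraMap A (S ⧸ Ideal.span ({e} : Set S))) (maximalIdeal A)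
        ≤ Ideal.map (Ideal.Quotient.mk (Ideal.span ({e} : Set S))) 𝔭 := by
      rw [IsScalarTower.algebraMap_eq A S (S ⧸ Ideal.span ({e} : Set S)), ← Ideal.map_map]
      exact Ideal.map_mono h1
    rw [htop, top_le_iff, Ideal.eq_top_iff_one,
      Ideal.mem_map_iff_of_surjective _ Ideal.Quotient.mk_surjective] at h2
    obtain ⟨x, hx, hx1⟩ := h2
    rw [← map_one (Ideal.Quotient.mk _), Ideal.Quotient.eq, Ideal.mem_span_singleton'] at hx1
    obtain ⟨a, ha⟩ := hx1
    have : (1 : S) ∈ 𝔭 := by
      have : (1 : S) = x - a * e := by rw [ha]; ring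
      rw [this]
      exact 𝔭.sub_mem hx (𝔭.mul_mem_left _ hmem)
    exact (Ideal.IsPrime.ne_top ‹_›) ((Ideal.eq_top_iff_one _).mpr this)

open AlgebraicGeometry CategoryTheory Limits in
theorem local_split (A : Type u) [CommRing A] [HenselianLocalRing A] (X : Scheme.{u})
    (f : X ⟶ Spec (CommRingCat.of A)) [LocallyOfFiniteType f] [LocallyQuasiFinite f] (x : X)
    (hx : f.base x = IsLocalRing.closedPoint A) :
    ∃ V : X.Opens, x ∈ V ∧ IsFinite (V.ι ≫ f) := by
  obtain ⟨W, hW, hxW, -⟩ := exists_isAffineOpen_mem_and_subset (X := X) (x := x) (U := ⊤) trivial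
  obtain ⟨ψ, hψ⟩ : ∃ ψ : CommRingCat.of A ⟶ Γ(X, W), Spec.map ψ = hW.fromSpec ≫ f :=
    ⟨Spec.preimage (hW.fromSpec ≫ f), Spec.map_preimage _⟩
  have h1 : LocallyOfFiniteType (Spec.map ψ) := by rw [hψ]; infer_instance
  have h2 : LocallyQuasiFinite (Spec.map ψ) := by rw [hψ]; infer_instance
  rw [HasRingHomProperty.Spec_iff (P := @LocallyOfFiniteType)] at h1
  rw [HasRingHomProperty.Spec_iff (P := @LocallyQuasiFinite)] at h2
  letI : Algebra A Γ(X, W) := ψ.hom.toAlgebra
  haveI : Algebra.FiniteType A Γ(X, W) := h1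
  haveI : Algebra.QuasiFinite A Γ(X, W) := h2
  obtain ⟨e, he, hfin, hnot⟩ := ring_split A Γ(X, W)
  have hV : IsAffineOpen (X.basicOpen e) := hW.basicOpen e
  refine ⟨X.basicOpen e, ?_, ?_⟩
  · -- x ∈ basicOpen e
    have hxp := hW.fromSpec_primeIdealOf ⟨x, hxW⟩
    have hmem : hW.primeIdealOf ⟨x, hxW⟩ ∈ hW.fromSpec ⁻¹ᵁ X.basicOpen e := by
      rw [hW.fromSpec_preimage_basicOpen]
      refine hnot _ ?_
      have h3 : (Spec.map ψ).base (hW.primeIdealOf ⟨x, hxW⟩) = IsLocalRing.closedPoint A := by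
        rw [hψ, Scheme.Hom.comp_base, TopCat.comp_app]
        erw [hxp]
        exact hx
      have := congrArg PrimeSpectrum.asIdeal h3
      exact this
    have : hW.fromSpec (hW.primeIdealOf ⟨x, hxW⟩) ∈ X.basicOpen e := hmem
    rwa [hxp] at this
  · -- finiteness
    have hle : X.basicOpen e ≤ W := X.basicOpen_le e
    rw [← hV.isoSpec_hom_fromSpec, Category.assoc,
      MorphismProperty.cancel_left_of_respectsIso (P := @IsFinite),
      ← hW.map_fromSpec hV (homOfLE hle).op, Category.assoc, ← hψ, ← Spec.map_comp,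
      IsFinite.SpecMap_iff]
    letI : Algebra A Γ(X, X.basicOpen e) :=
      (ψ ≫ X.presheaf.map (homOfLE hle).op).hom.toAlgebra
    haveI : IsScalarTower A Γ(X, W) Γ(X, X.basicOpen e) := IsScalarTower.of_algebraMap_eq' rfl
    haveI := hW.isLocalization_basicOpen e
    exact hfin Γ(X, X.basicOpen e)


/-- Let A be a complete Noetherian local ring and f : X ⟶ Spec A a separated quasi-finite morphism (of
finite type with discrete fibres). Then X splits as a disjoint sum of two open subschemes, one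
finite over Spec A and containing the fibre over the closed point, the other not meeting that fibre:
there is an open and closed U ⊆ X, finite over Spec A, containing every point lying over the closed
point. -/
theorem result (A : Type u) [CommRing A] [IsLocalRing A]
    [IsNoetherianRing A] [IsAdicComplete (IsLocalRing.maximalIdeal A) A] (X : Scheme.{u})
    (f : X ⟶ Spec (CommRingCat.of A)) [LocallyOfFiniteType f] [QuasiCompact f] [IsSeparated f] [LocallyQuasiFinite f] :
    ∃ U : X.Opens, IsClosed (U : Set X) ∧ IsFinite (U.ι ≫ f) ∧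
      ∀ x : X, f.base x = IsLocalRing.closedPoint A → x ∈ U := by
  classical
  haveI : HenselianLocalRing A := henselianLocalRing_of_complete A
  have hfin : (f ⁻¹' {IsLocalRing.closedPoint A}).Finite :=
    Scheme.Hom.finite_preimage_singleton f _
  haveI : Finite (f ⁻¹' {IsLocalRing.closedPoint A}) := hfin.to_subtype
  obtain ⟨x, hxs, hxsurj⟩ : ∃ x : Fin (Nat.card (f ⁻¹' {IsLocalRing.closedPoint A})) → X,
      (∀ i, f (x i) = IsLocalRing.closedPoint A) ∧
      ∀ p, f p = IsLocalRing.closedPoint A → ∃ i, x i = p := by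
    let eX : (f ⁻¹' {IsLocalRing.closedPoint A}) ≃
      Fin (Nat.card (f ⁻¹' {IsLocalRing.closedPoint A})) := Finite.equivFin _
    exact ⟨fun i ↦ (eX.symm i).1, fun i ↦ (eX.symm i).2, fun p hp ↦ ⟨eX ⟨p, hp⟩, by
      show ((eX.symm (eX ⟨p, hp⟩)) : f ⁻¹' {IsLocalRing.closedPoint A}).1 = p
      rw [Equiv.symm_apply_apply]⟩⟩
  choose V hxV hV using fun i ↦ local_split A X f (x i) (hxs i)
  have hUfin : IsFinite ((⨆ i, V i).ι ≫ f) := Groth.Agent.S5985.isFinite_iSup f V hV
  refine ⟨⨆ i, V i, ?_, hUfin, ?_⟩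
  · haveI := hUfin
    haveI : UniversallyClosed (⨆ i, V i).ι :=
      UniversallyClosed.of_comp_of_isSeparated (⨆ i, V i).ι f
    have := (⨆ i, V i).ι.isClosedMap.isClosed_range
    rwa [Scheme.Opens.range_ι] at this
  · intro p hp
    obtain ⟨i, rfl⟩ := hxsurj p hp
    exact TopologicalSpace.Opens.mem_iSup.mpr ⟨i, hxV i⟩

end Groth.Agent.S4437
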