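import Groth.Statements.S2343
import Mathlib
import Groth.Agent.S4437
import Groth.Agent.Lib.Helper13.UCA2
-- import your own Groth.Agent.* helpers here

set_option autoImplicit false
universe u
open CategoryTheory CategoryTheory.Limits AlgebraicGeometry
open EGA2

namespace Groth.Agent.S2343

open AlgebraicGeometry CategoryTheory Limits in
theorem local_split' (A : Type u) [CommRing A] [HenselianLocalRing A] (X : Scheme.{u})
    (f : X ⟶ Spec (CommRingCat.of A)) [LocallyOfFiniteType f] (x : X)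
    (hx : f.base x = IsLocalRing.closedPoint A) (W : X.Opens) (hW : IsAffineOpen W) (hxW : x ∈ W)
    [LocallyQuasiFinite (W.ι ≫ f)] :
    ∃ V : X.Opens, IsAffineOpen V ∧ V ≤ W ∧ x ∈ V ∧ IsFinite (V.ι ≫ f) ∧
      ((Scheme.ΓSpecIso (CommRingCat.of A)).inv ≫ f.appLE ⊤ V le_top).hom.Finite := by
  obtain ⟨ψ, hψdef⟩ : ∃ ψ : CommRingCat.of A ⟶ Γ(X, W),
      ψ = (Scheme.ΓSpecIso (CommRingCat.of A)).inv ≫ f.appLE ⊤ W le_top := ⟨_, rfl⟩
  have hψ : Spec.map ψ = hW.fromSpec ≫ f := by
    rw [hψdef, Spec.map_comp, ← Scheme.isoSpec_Spec_inv, ← IsAffineOpen.fromSpec_top,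
      IsAffineOpen.SpecMap_appLE_fromSpec]
  have h1 : LocallyOfFiniteType (Spec.map ψ) := by rw [hψ]; infer_instance
  have h2 : LocallyQuasiFinite (Spec.map ψ) := by
    rw [hψ, ← hW.isoSpec_inv_ι, Category.assoc]; infer_instance
  rw [HasRingHomProperty.Spec_iff (P := @LocallyOfFiniteType)] at h1
  rw [HasRingHomProperty.Spec_iff (P := @LocallyQuasiFinite)] at h2
  letI : Algebra A Γ(X, W) := ψ.hom.toAlgebra
  haveI : Algebra.FiniteType A Γ(X, W) := h1
  haveI : Algebra.QuasiFinite A Γ(X, W) := h2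
  obtain ⟨e, he, hfin, hnot⟩ := Groth.Agent.S4437.ring_split A Γ(X, W)
  have hV : IsAffineOpen (X.basicOpen e) := hW.basicOpen e
  have hle : X.basicOpen e ≤ W := X.basicOpen_le e
  have hringfin : (ψ ≫ X.presheaf.map (homOfLE hle).op).hom.Finite := by
    letI : Algebra A Γ(X, X.basicOpen e) :=
      (ψ ≫ X.presheaf.map (homOfLE hle).op).hom.toAlgebra
    haveI : IsScalarTower A Γ(X, W) Γ(X, X.basicOpen e) := IsScalarTower.of_algebraMap_eq' rfl
    haveI := hW.isLocalization_basicOpen e
    exact hfin Γ(X, X.basicOpen e)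
  refine ⟨X.basicOpen e, hV, hle, ?_, ?_, ?_⟩
  · have hxp := hW.fromSpec_primeIdealOf ⟨x, hxW⟩
    have hmem : hW.primeIdealOf ⟨x, hxW⟩ ∈ hW.fromSpec ⁻¹ᵁ X.basicOpen e := by
      rw [hW.fromSpec_preimage_basicOpen]
      refine hnot _ ?_
      have h3 : (Spec.map ψ).base (hW.primeIdealOf ⟨x, hxW⟩) = IsLocalRing.closedPoint A := by
        rw [hψ, Scheme.Hom.comp_base, TopCat.comp_app]
        erw [hxp]
        exact hx
      have := congrArg PrimeSpectrum.asIdeal h3
      exact this
    have : hW.fromSpec (hW.primeIdealOf ⟨x, hxW⟩) ∈ X.basicOpen e := hmem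
    rwa [hxp] at this
  · rw [← hV.isoSpec_hom_fromSpec, Category.assoc,
      MorphismProperty.cancel_left_of_respectsIso (P := @IsFinite),
      ← hW.map_fromSpec hV (homOfLE hle).op, Category.assoc, ← hψ, ← Spec.map_comp,
      IsFinite.SpecMap_iff]
    exact hringfin
  · have : (Scheme.ΓSpecIso (CommRingCat.of A)).inv ≫ f.appLE ⊤ (X.basicOpen e) le_top =
        ψ ≫ X.presheaf.map (homOfLE hle).op := by
      rw [hψdef, Category.assoc, Scheme.Hom.appLE_map]
    rw [this]
    exact hringfin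

open AlgebraicGeometry CategoryTheory Limits Groth.Agent.Lib.helper13.UCA in
/-- The prime of a point of `Spec A`, pulled back to `A`, is the point itself. -/
lemma comap_ΓSpecIso_primeAt (A : Type u) [CommRing A] (q : ↥(Spec (CommRingCat.of A))) :
    (primeAt (⊤ : (Spec (CommRingCat.of A)).Opens) q trivial).comap
      (Scheme.ΓSpecIso (CommRingCat.of A)).inv.hom = q.asIdeal := by
  ext a
  rw [Ideal.mem_comap, mem_primeAt, basicOpen_eq_of_affine]
  exact not_not

open AlgebraicGeometry CategoryTheory Limits Groth.Agent.Lib.helper13.UCA in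
lemma quasiFiniteAt_of_isolated {X Y : Scheme.{u}} (f : X ⟶ Y) [LocallyOfFiniteType f] (x : X)
    (y : Y) (hx : f x = y)
    (hisol : IsOpen ((Subtype.val : (f ⁻¹' {y}) → X) ⁻¹' {x})) : f.QuasiFiniteAt x := by
  subst hx
  rw [Scheme.Hom.quasiFiniteAt_iff_isOpen_singleton_asFiber,
    ← (f.fiberHomeo (f x)).isOpen_image]
  simp only [Set.image_singleton, Scheme.Hom.asFiber, Homeomorph.apply_symm_apply]
  convert hisol using 1
  ext p
  simp only [Set.mem_singleton_iff, Set.mem_preimage]
  exact Subtype.ext_iff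


/-- Let A be a complete Noetherian local ring, X a separated scheme locally of finite type over Spec A,
and x a point of X over the closed point which is isolated in its fibre. Then the local ring of X at
x is a finite A-module and the canonical morphism Spec O_{X,x} → X is both an open and a closed
immersion (X is the disjoint sum of Spec O_{X,x} and another open subscheme). -/
theorem result (A : Type u) [CommRing A] [IsLocalRing A] [IsNoetherianRing A]
    [IsAdicComplete (IsLocalRing.maximalIdeal A) A] (X : Scheme.{u}) (f : X ⟶ Spec (CommRingCat.of A)) [LocallyOfFiniteType f] [IsSeparated f]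
    (x : X) (hx : f.base x = IsLocalRing.closedPoint A)
    (hisol : IsOpen ((Subtype.val : (f.base ⁻¹' {IsLocalRing.closedPoint A}) → X) ⁻¹' {x})) :
    ((Scheme.ΓSpecIso (CommRingCat.of A)).inv ≫ f.appTop ≫ X.presheaf.germ ⊤ x trivial).hom.Finite ∧ IsOpenImmersion (X.fromSpecStalk x) ∧ IsClosedImmersion (X.fromSpecStalk x) := by
  classical
  haveI : HenselianLocalRing A := Groth.Agent.S4437.henselianLocalRing_of_complete A
  have hqf : f.QuasiFiniteAt x := quasiFiniteAt_of_isolated f x _ hx hisol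
  obtain ⟨O, hO, hOeq⟩ := isOpen_induced_iff.mp hisol
  have hOx : ∀ p : X, f p = IsLocalRing.closedPoint A → (p ∈ O ↔ p = x) := by
    intro p hp
    have := Set.ext_iff.mp hOeq ⟨p, hp⟩
    simpa using this
  obtain ⟨W, hW, hxW, hWle⟩ := exists_isAffineOpen_mem_and_subset (X := X) (x := x)
    (U := ⟨O, hO⟩ ⊓ f.quasiFiniteLocus) ⟨(hOx x hx).mpr rfl, hqf⟩
  haveI : LocallyQuasiFinite (W.ι ≫ f) := by
    rw [← X.homOfLE_ι (hWle.trans inf_le_right), Category.assoc]; infer_instance
  obtain ⟨V, hV, hVW, hxV, hVfin, hVring⟩ := local_split' A X f x hx W hW hxW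
  -- every section not vanishing at `x` is a unit
  have hunit : ∀ s : Γ(X, V), x ∈ X.basicOpen s → IsUnit s := by
    intro s hs
    by_contra hns
    obtain ⟨𝔫, h𝔫, hs𝔫⟩ := exists_max_ideal_of_mem_nonunits hns
    obtain ⟨y, hyV, hy𝔫⟩ := Groth.Agent.Lib.helper13.UCA.exists_primeAt_eq hV 𝔫
    have hmax : (𝔫.comap ((Scheme.ΓSpecIso (CommRingCat.of A)).inv ≫
        f.appLE ⊤ V le_top).hom).IsMaximal :=
      Ideal.isMaximal_comap_of_isIntegral_of_isMaximal' _ hVring.to_isIntegral 𝔫
    have hfy : f y = IsLocalRing.closedPoint A := by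
      apply PrimeSpectrum.ext
      rw [← comap_ΓSpecIso_primeAt A (f y),
        ← Groth.Agent.Lib.helper13.UCA.comap_primeAt f ⊤ V le_top y hyV, hy𝔫, Ideal.comap_comap,
        ← CommRingCat.hom_comp]
      exact IsLocalRing.eq_maximalIdeal hmax
    have hyx : y = x := (hOx y hfy).mp (hWle (hVW hyV)).1
    subst hyx
    rw [← hy𝔫, Groth.Agent.Lib.helper13.UCA.mem_primeAt] at hs𝔫
    exact hs𝔫 hs
  -- the germ map is bijective
  have hbij : Function.Bijective (X.presheaf.germ V x hxV).hom := by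
    letI : Algebra Γ(X, V) (X.presheaf.stalk x) :=
      TopCat.Presheaf.algebra_section_stalk X.presheaf (⟨x, hxV⟩ : V)
    haveI := hV.isLocalization_stalk ⟨x, hxV⟩
    have hU : ∀ s ∈ (hV.primeIdealOf ⟨x, hxV⟩).asIdeal.primeCompl, IsUnit s := by
      intro s hs
      apply hunit s
      have h1 : hV.primeIdealOf ⟨x, hxV⟩ ∈ hV.fromSpec ⁻¹ᵁ X.basicOpen s := by
        rw [hV.fromSpec_preimage_basicOpen]
        exact hs
      have h2 : hV.fromSpec (hV.primeIdealOf ⟨x, hxV⟩) ∈ X.basicOpen s := h1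
      rwa [hV.fromSpec_primeIdealOf ⟨x, hxV⟩] at h2
    exact (IsLocalization.atUnits Γ(X, V) (hV.primeIdealOf ⟨x, hxV⟩).asIdeal.primeCompl
      (S := X.presheaf.stalk x) hU).bijective
  haveI hiso : IsIso (X.presheaf.germ V x hxV) :=
    (ConcreteCategory.isIso_iff_bijective _).mpr hbij
  have hstalk : X.fromSpecStalk x = Spec.map (X.presheaf.germ V x hxV) ≫ hV.fromSpec :=
    (hV.fromSpecStalk_eq_fromSpecStalk hxV).symm
  refine ⟨?_, ?_, ?_⟩
  · have h1 : (Scheme.ΓSpecIso (CommRingCat.of A)).inv ≫ f.appTop ≫ X.presheaf.germ ⊤ x trivial =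
        ((Scheme.ΓSpecIso (CommRingCat.of A)).inv ≫ f.appLE ⊤ V le_top) ≫
          X.presheaf.germ V x hxV := by
      rw [Category.assoc]
      congr 1
      rw [Scheme.Hom.appLE, Category.assoc, TopCat.Presheaf.germ_res]
      rfl
    rw [h1, CommRingCat.hom_comp]
    exact (RingHom.Finite.of_surjective _ hbij.2).comp hVring
  · rw [hstalk]
    infer_instance
  · haveI : IsOpenImmersion (X.fromSpecStalk x) := by rw [hstalk]; infer_instance
    apply IsClosedImmersion.of_isPreimmersion
    have hrange : Set.range (X.fromSpecStalk x) = V := by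
      have hsurj : Function.Surjective (Spec.map (X.presheaf.germ V x hxV)) :=
        (Spec.map (X.presheaf.germ V x hxV)).homeomorph.surjective
      rw [hstalk, Scheme.Hom.comp_base, TopCat.coe_comp, Set.range_comp,
        Set.range_eq_univ.mpr hsurj, Set.image_univ, hV.range_fromSpec]
    rw [hrange]
    haveI := hVfin
    haveI : UniversallyClosed V.ι := UniversallyClosed.of_comp_of_isSeparated V.ι f
    have := V.ι.isClosedMap.isClosed_range
    rwa [Scheme.Opens.range_ι] at this

end Groth.Agent.S2343
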