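import Groth.Statements.S2344
-- import your own Groth.Agent.* helpers here
import Groth.Agent.S2354
import Groth.Agent.Lib.Helper9.ZMTCodimTwo

set_option autoImplicit false
universe u
open CategoryTheory CategoryTheory.Limits AlgebraicGeometry
open EGA2

namespace Groth.Agent.S2344
open Groth.Agent.Lib.helper9

/-- Let X be a normal algebraic curve over k (separated, of finite type, nonempty, local rings at closed
points of dimension one, all local rings integrally closed domains), Y proper over k, U a dense open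
of X and g : U → Y a k-morphism. Then g extends uniquely to a k-morphism X → Y. -/
theorem result (k : Type u) [Field k] (X Y : Scheme.{u}) [X.Over (Spec (CommRingCat.of k))] [Y.Over (Spec (CommRingCat.of k))]
    [LocallyOfFiniteType (X ↘ (Spec (CommRingCat.of k)))] [QuasiCompact (X ↘ (Spec (CommRingCat.of k)))] [IsSeparated (X ↘ (Spec (CommRingCat.of k)))] [Nonempty X] (hcurve : (∀ x : X, IsClosed ({x} : Set X) → ringKrullDim (X.presheaf.stalk x) = 1)) (hnorm : Pi1.IsNormalScheme X)
    [IsProper (Y ↘ (Spec (CommRingCat.of k)))] (U : X.Opens) (hU : Dense (U : Set X)) (g : (U : Scheme.{u}) ⟶ Y)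
    (hg : g ≫ (Y ↘ (Spec (CommRingCat.of k))) = U.ι ≫ (X ↘ (Spec (CommRingCat.of k)))) :
    ∃! g' : X ⟶ Y, U.ι ≫ g' = g ∧ g' ≫ (Y ↘ (Spec (CommRingCat.of k))) = X ↘ (Spec (CommRingCat.of k)) := by
  have hXN : IsLocallyNoetherian X := LocallyOfFiniteType.isLocallyNoetherian (X ↘ (Spec (CommRingCat.of k)))
  have hXred : IsReduced X := by
    have : ∀ x : X, _root_.IsReduced (X.presheaf.stalk x) := fun x => by
      have := (hnorm x).1
      infer_instance
    exact isReduced_of_isReduced_stalk X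
  have hXcpt : CompactSpace X := QuasiCompact.compactSpace_of_compactSpace (X ↘ (Spec (CommRingCat.of k)))
  have hreg : ∀ y : X, ringKrullDim (X.presheaf.stalk y) ≤ 1 →
      IsRegularLocalRing (X.presheaf.stalk y) := by
    intro y hy
    obtain ⟨hD, hIC⟩ := hnorm y
    have hVR : ValuationRing (X.presheaf.stalk y) :=
      valuationRing_of_isIntegrallyClosed_of_ringKrullDim_le_one _ hy
    have hPID : IsPrincipalIdealRing (X.presheaf.stalk y) :=
      ((IsBezout.TFAE (R := ↑(X.presheaf.stalk y))).out 0 1).mp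
        (inferInstance : IsNoetherianRing (X.presheaf.stalk y))
    infer_instance
  have hcl : IsClosedMap (pullback.fst (X ↘ (Spec (CommRingCat.of k))) (Y ↘ (Spec (CommRingCat.of k)))).base := (pullback.fst (X ↘ (Spec (CommRingCat.of k))) (Y ↘ (Spec (CommRingCat.of k)))).isClosedMap
  set s := pullback.lift U.ι g hg.symm with hs
  have hsfst : s ≫ pullback.fst (X ↘ (Spec (CommRingCat.of k))) (Y ↘ (Spec (CommRingCat.of k))) = U.ι := pullback.lift_fst _ _ _
  have hssnd : s ≫ pullback.snd (X ↘ (Spec (CommRingCat.of k))) (Y ↘ (Spec (CommRingCat.of k))) = g := pullback.lift_snd _ _ _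
  obtain ⟨U', hUU', s', hs'q, hs'U, hU'dim⟩ :=
    Groth.Agent.S2354.result hreg (pullback.fst (X ↘ (Spec (CommRingCat.of k))) (Y ↘ (Spec (CommRingCat.of k)))) hcl U hU s hsfst
  have hU'top : (U' : Set X) = Set.univ := by
    by_contra hne
    have hne' : ((U' : Set X)ᶜ).Nonempty := by
      rw [Set.nonempty_compl]; exact hne
    obtain ⟨c, hcU', hc⟩ := IsClosed.exists_closed_singleton U'.isOpen.isClosed_compl hne'
    exact hcU' (hU'dim c (hcurve c hc).le)
  have hsurj : Function.Surjective U'.ι := by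
    intro x
    have hx : x ∈ (U' : Set X) := by rw [hU'top]; trivial
    exact ⟨⟨x, hx⟩, rfl⟩
  have hiso : IsIso U'.ι := by
    exact (isIso_iff_isOpenImmersion_and_surjective _).mpr ⟨inferInstance, ⟨hsurj⟩⟩
  have hdom : IsDominant U.ι := ⟨by rw [DenseRange, Scheme.Opens.range_ι]; exact hU⟩
  have hcond : pullback.fst (X ↘ (Spec (CommRingCat.of k))) (Y ↘ (Spec (CommRingCat.of k))) ≫ (X ↘ (Spec (CommRingCat.of k))) = pullback.snd (X ↘ (Spec (CommRingCat.of k))) (Y ↘ (Spec (CommRingCat.of k))) ≫ (Y ↘ (Spec (CommRingCat.of k))) := pullback.condition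
  refine ⟨inv U'.ι ≫ s' ≫ pullback.snd (X ↘ (Spec (CommRingCat.of k))) (Y ↘ (Spec (CommRingCat.of k))), ⟨?_, ?_⟩, ?_⟩
  · have h1 : U.ι ≫ inv U'.ι = X.homOfLE hUU' := by
      rw [IsIso.comp_inv_eq, Scheme.homOfLE_ι]
    rw [← Category.assoc, h1, ← Category.assoc, hs'U, hssnd]
  · rw [Category.assoc, Category.assoc, ← hcond, ← Category.assoc s', hs'q, IsIso.inv_hom_id_assoc]
  · rintro g'' ⟨h1, h2⟩
    refine ext_of_isDominant_of_isSeparated (Y ↘ (Spec (CommRingCat.of k))) ?_ U.ι ?_
    · rw [h2, Category.assoc, Category.assoc, ← hcond, ← Category.assoc s', hs'q,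
        IsIso.inv_hom_id_assoc]
    · have h1' : U.ι ≫ inv U'.ι = X.homOfLE hUU' := by
        rw [IsIso.comp_inv_eq, Scheme.homOfLE_ι]
      rw [h1, ← Category.assoc, h1', ← Category.assoc, hs'U, hssnd]

end Groth.Agent.S2344
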