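import Groth.Statements.S2348
import Mathlib
import Groth.Agent.S1681

set_option autoImplicit false
universe u
open CategoryTheory CategoryTheory.Limits AlgebraicGeometry
open EGA2

namespace Groth.Agent.S2348

section helpers
open CategoryTheory CategoryTheory.Limits AlgebraicGeometry


open Groth.Agent.S1681 (IsMaxPt isMaxPt_iff_of_isOpenEmbedding)

/-- every point of a scheme has a maximal generization -/
theorem exists_isMaxPt_specializes {X : Scheme.{u}} (x : X) : ∃ y : X, IsMaxPt y ∧ y ⤳ x := by
  obtain ⟨_, ⟨W, hW, rfl⟩, hxW, -⟩ :=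
    X.isBasis_affineOpens.exists_subset_of_mem_open (Set.mem_univ x) isOpen_univ
  set p := hW.primeIdealOf ⟨x, hxW⟩ with hp
  have hpx : hW.fromSpec p = x := hW.fromSpec_primeIdealOf ⟨x, hxW⟩
  obtain ⟨q, hq, hqp⟩ := Ideal.exists_minimalPrimes_le (I := ⊥) (J := p.asIdeal) bot_le
  haveI : q.IsPrime := hq.1.1
  let Q : PrimeSpectrum Γ(X, W) := ⟨q, inferInstance⟩
  have hspec : Q ⤳ p := (PrimeSpectrum.le_iff_specializes _ _).1 hqp
  refine ⟨hW.fromSpec Q, ?_, ?_⟩
  · rw [← isMaxPt_iff_of_isOpenEmbedding hW.fromSpec.isOpenEmbedding Q]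
    intro (z : PrimeSpectrum Γ(X, W)) hz
    have hzQ : z.asIdeal ≤ q := (PrimeSpectrum.le_iff_specializes z Q).2 hz
    have : z.asIdeal = q := le_antisymm hzQ (hq.2 ⟨z.2, bot_le⟩ hzQ)
    exact PrimeSpectrum.ext this
  · rw [← hpx]
    exact hspec.map hW.fromSpec.continuous

theorem isMaxPt_iff_eq_genericPoint {Y : Scheme.{u}} [IsIntegral Y] (y : Y) :
    IsMaxPt y ↔ y = genericPoint Y := by
  constructor
  · intro h
    exact (h _ (genericPoint_specializes y)).symm
  · rintro rfl z hz
    have h2 : genericPoint Y ⤳ z := genericPoint_specializes z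
    exact (hz.antisymm h2).eq


open Groth.Agent.S1681 (IsMaxPt isMaxPt_iff_of_isOpenEmbedding)

theorem main {X Y : Scheme.{u}} [IsIntegral Y] (I : Y.IdealSheafData) (hI : I ≠ ⊥)
    (b : X ⟶ Y) (hb : BlowUp.IsBlowUp b I) :
    ∃ (_ : IsIntegral X), ∃ hgen : b.base (genericPoint X) = genericPoint Y,
      Function.Bijective (b.residueFieldMap (genericPoint X)).hom := by
  haveI : IsReduced X := Groth.Agent.S8851.isReduced_of_isBlowUp I b hb
  have hbij := Groth.Agent.S1681.main I b hb
  -- the generic point of Y is not in the support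
  have hη : genericPoint Y ∉ I.support := by
    intro h
    apply hI
    rw [← Scheme.IdealSheafData.support_eq_top_iff]
    ext y
    simp only [TopologicalSpace.Closeds.coe_top, Set.mem_univ, iff_true]
    exact (genericPoint_specializes y).mem_closed I.support.isClosed h
  have hηmax : IsMaxPt (genericPoint Y) := (isMaxPt_iff_eq_genericPoint _).2 rfl
  obtain ⟨ξ, hξmax, hξ⟩ := hbij.surjOn ⟨hηmax, hη⟩
  have hξmax' : IsMaxPt ξ := hξmax
  have hξ' : b ξ = genericPoint Y := hξ
  -- uniqueness of maximal points of X
  have huniq : ∀ x : X, IsMaxPt x → x = ξ := by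
    intro x hx
    have h1 := hbij.mapsTo hx
    have h2 : b x = genericPoint Y := (isMaxPt_iff_eq_genericPoint _).1 h1.1
    exact hbij.injOn hx hξmax (by show b x = b ξ; rw [h2, hξ'])
  have hspec : ∀ x : X, ξ ⤳ x := by
    intro x
    obtain ⟨y, hy, hyx⟩ := exists_isMaxPt_specializes x
    rw [huniq y hy] at hyx
    exact hyx
  have hcl : closure ({ξ} : Set X) = Set.univ := by
    ext x
    simp only [Set.mem_univ, iff_true]
    exact (specializes_iff_mem_closure).1 (hspec x)
  haveI : IrreducibleSpace X := by
    rw [irreducibleSpace_def, show (⊤ : Set X) = Set.univ from rfl, ← hcl]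
    exact isIrreducible_singleton.closure
  haveI hint : IsIntegral X := isIntegral_of_irreducibleSpace_of_isReduced X
  have hgenξ : genericPoint X = ξ := by
    have h1 : IsGenericPoint (genericPoint X) (⊤ : Set X) := genericPoint_spec X
    have h2 : IsGenericPoint ξ (⊤ : Set X) := hcl
    exact h1.eq h2
  refine ⟨hint, ?_, ?_⟩
  · show b (genericPoint X) = genericPoint Y
    rw [hgenξ, hξ']
  · -- residue fields
    set U : Y.Opens := I.support.compl with hU
    haveI : IsIso (b ∣_ U) := Groth.Agent.S1682.isIso_off_center I b hb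
    set V : X.Opens := b ⁻¹ᵁ U with hV
    have hcomp : (b ∣_ U) ≫ U.ι = V.ι ≫ b := morphismRestrict_ι b U
    haveI : IsOpenImmersion (V.ι ≫ b) := by rw [← hcomp]; infer_instance
    have hmem : genericPoint X ∈ V := by
      show b (genericPoint X) ∈ U
      rw [hgenξ, hξ']
      exact hη
    let v : V := ⟨genericPoint X, hmem⟩
    have e := Scheme.residueFieldMap_comp V.ι b v
    have hiso : IsIso (b.residueFieldMap (V.ι v)) := by
      have h1 : IsIso ((V.ι ≫ b).residueFieldMap v) := inferInstance
      rw [e] at h1
      exact @IsIso.of_isIso_comp_right _ _ _ _ _ (b.residueFieldMap (V.ι v))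
        (V.ι.residueFieldMap v) inferInstance h1
    have hiso' : IsIso (b.residueFieldMap (genericPoint X)) := hiso
    exact (ConcreteCategory.bijective_of_isIso (b.residueFieldMap (genericPoint X)))


end helpers


/-- For an ideal of O_Y: let Y be an integral scheme, I a nonzero quasi-coherent ideal sheaf and b : X →
Y a blowing up of Y in I (characterised by its universal property). Then X is integral, b sends the
generic point of X to that of Y and induces a bijection on their residue fields (b is birational).
The printed statement also asserts that b is surjective; the proof does not show this and it fails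
when I is not of finite type, so it is left out. -/
theorem result {X Y : Scheme.{u}} [IsIntegral Y] (I : Y.IdealSheafData) (hI : I ≠ ⊥)
    (b : X ⟶ Y) (hb : BlowUp.IsBlowUp b I) :
    ∃ (_ : IsIntegral X), ∃ hgen : b.base (genericPoint X) = genericPoint Y,
      Function.Bijective (b.residueFieldMap (genericPoint X)).hom := by
  exact main I hI b hb

end Groth.Agent.S2348
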