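import Groth.Statements.S2349
-- import your own Groth.Agent.* helpers here

set_option autoImplicit false
universe u
open CategoryTheory CategoryTheory.Limits AlgebraicGeometry
open EGA2

namespace Groth.Agent.S2349

/-- A morphism is universally closed if finitely many morphisms to its source, jointly surjective,
have universally closed composites with it. -/
theorem universallyClosed_of_finite_cover {X Y : Scheme.{u}} (f : X ⟶ Y) {ι : Type u} [Finite ι]
    (Xi : ι → Scheme.{u}) (j : ∀ i, Xi i ⟶ X) (hj : ∀ i, UniversallyClosed (j i ≫ f))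
    (hcov : ∀ x : X, ∃ i, x ∈ Set.range (j i).base) : UniversallyClosed f := by
  constructor
  intro X' Y' i₁ i₂ f' H Z hZ
  have hcl : ∀ i, IsClosedMap (pullback.fst i₁ (j i) ≫ f').base := fun i =>
    (hj i).universally_isClosedMap _ _ _ ((IsPullback.of_hasPullback i₁ (j i)).paste_horiz H)
  have heq : f'.base '' Z = ⋃ i, (pullback.fst i₁ (j i) ≫ f').base ''
      ((pullback.fst i₁ (j i)).base ⁻¹' Z) := by
    ext y
    simp only [Set.mem_image, Set.mem_iUnion, Set.mem_preimage]
    constructor
    · rintro ⟨z, hz, rfl⟩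
      obtain ⟨i, xi, hxi⟩ := hcov (i₁.base z)
      obtain ⟨p, hp1, hp2⟩ := Scheme.Pullback.exists_preimage_pullback (f := i₁) (g := j i) z xi
        hxi.symm
      refine ⟨i, p, ?_, ?_⟩
      · rw [hp1]; exact hz
      · rw [Scheme.Hom.comp_base, TopCat.comp_app, hp1]
    · rintro ⟨i, p, hp, rfl⟩
      exact ⟨_, hp, by rw [Scheme.Hom.comp_base, TopCat.comp_app]⟩
  rw [heq]
  exact isClosed_iUnion_of_finite fun i =>
    hcl i _ (hZ.preimage (pullback.fst i₁ (j i)).continuous)

/-- Let f : X → Y be separated and of finite type, and let j_i : X_i → X and h_i : Y_i → Y (i in a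
finite index type) be closed immersions with morphisms f_i : X_i → Y_i satisfying j_i ≫ f = f_i ≫
h_i, such that the images of the j_i cover X. Then f is proper if and only if every f_i is proper. -/
theorem result {X Y : Scheme.{u}} (f : X ⟶ Y) [IsSeparated f] [LocallyOfFiniteType f] [QuasiCompact f]
    (ι : Type u) [Finite ι] (Xi Yi : ι → Scheme.{u}) (j : ∀ i, Xi i ⟶ X) (h : ∀ i, Yi i ⟶ Y) (fi : ∀ i, Xi i ⟶ Yi i)
    [∀ i, IsClosedImmersion (j i)] [∀ i, IsClosedImmersion (h i)] (hcomm : ∀ i, j i ≫ f = fi i ≫ h i)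
    (hcov : ∀ x : X, ∃ i, x ∈ Set.range (j i).base) : IsProper f ↔ ∀ i, IsProper (fi i) := by
  constructor
  · intro hf i
    have h1 : IsProper (j i ≫ f) := inferInstance
    rw [hcomm i] at h1
    exact IsProper.of_comp (fi i) (h i)
  · intro hfi
    have h1 : ∀ i, UniversallyClosed (j i ≫ f) := fun i => by
      have := hfi i
      rw [hcomm i]
      infer_instance
    have := universallyClosed_of_finite_cover f Xi j h1 hcov
    exact {}

end Groth.Agent.S2349
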