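import Groth.Statements.S2355
import Mathlib
import Groth.Agent.Lib.Helper12.PullAmpleRel
-- import your own Groth.Agent.* helpers here

set_option autoImplicit false
universe u
open CategoryTheory CategoryTheory.Limits AlgebraicGeometry
open EGA2

namespace Groth.Agent.S2355

/-- Let f : X → Y be quasi-compact, g : X' → X quasi-affine and L an O_X-module ample relative to f.
Then g^* L is ample relative to g ≫ f. -/
theorem result {X X' Y : Scheme.{u}} (f : X ⟶ Y) [QuasiCompact f] (g : X' ⟶ X) (hg : Mor2.IsQuasiAffine g)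
    (L : X.Modules) (hL : RelAmple.IsRelAmple f L) :
    RelAmple.IsRelAmple (g ≫ f) ((Scheme.Modules.pullback g).obj L) := by
  have hqc : QuasiCompact g := hg.1
  have hqs : QuasiSeparated g := by
    rw [HasAffineProperty.eq_targetAffineLocally (P := @QuasiSeparated)]
    intro A
    have : Scheme.IsQuasiAffine (↑(g ⁻¹ᵁ A.1) : Scheme.{u}) := hg.2 A.1 A.2
    change QuasiSeparatedSpace (↑(g ⁻¹ᵁ A.1) : Scheme.{u})
    infer_instance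
  refine ⟨inferInstance, fun V => ?_⟩
  have hLV := hL.2 V
  have hc : CompactSpace (↑((g ≫ f) ⁻¹ᵁ V.1) : Scheme.{u}) :=
    isCompact_iff_compactSpace.mp (QuasiCompact.isCompact_preimage (f := g ≫ f) _ V.1.2
      V.2.isCompact)
  have hsU : QuasiSeparatedSpace (↑(f ⁻¹ᵁ V.1) : Scheme.{u}) :=
    Groth.Agent.Lib.helper12.AmpleBasis.quasiSeparatedSpace_of_hasAffineCover hLV.1 hLV.2.2
  have hsT : QuasiSeparatedSpace (↑((g ≫ f) ⁻¹ᵁ V.1) : Scheme.{u}) := by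
    exact (isQuasiSeparated_iff_quasiSeparatedSpace _ ((g ≫ f) ⁻¹ᵁ V.1).2).mp
      (Scheme.Hom.isQuasiSeparated_preimage (f := g) (U := f ⁻¹ᵁ V.1)
        ((isQuasiSeparated_iff_quasiSeparatedSpace _ (f ⁻¹ᵁ V.1).2).mpr hsU))
  refine Groth.Agent.Lib.helper12.PullAmpleRel.isAmple_restrict_pullback_of_quasiAffine
    ((g ≫ f) ⁻¹ᵁ V.1).ι g (g ∣_ (f ⁻¹ᵁ V.1)) (f ⁻¹ᵁ V.1).ι
    (morphismRestrict_ι g (f ⁻¹ᵁ V.1)).symm hLV ?_
  intro B hB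
  -- `(g ∣_ U)⁻¹ B ≅ g⁻¹ (U.ι '' B)` as schemes
  have hB' : IsAffineOpen ((f ⁻¹ᵁ V.1).ι ''ᵁ B) := hB.image_of_isOpenImmersion _
  have hqa : Scheme.IsQuasiAffine (↑(g ⁻¹ᵁ ((f ⁻¹ᵁ V.1).ι ''ᵁ B)) : Scheme.{u}) := hg.2 _ hB'
  have hr : Set.range (((g ∣_ (f ⁻¹ᵁ V.1)) ⁻¹ᵁ B).ι ≫ (g ⁻¹ᵁ (f ⁻¹ᵁ V.1)).ι) =
      Set.range (g ⁻¹ᵁ ((f ⁻¹ᵁ V.1).ι ''ᵁ B)).ι := by
    rw [Scheme.Hom.comp_base, TopCat.coe_comp, Set.range_comp, Scheme.Opens.range_ι,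
      Scheme.Opens.range_ι]
    exact congrArg (fun W : X'.Opens => (W : Set X'))
      (image_morphismRestrict_preimage g (f ⁻¹ᵁ V.1) B)
  let e := IsOpenImmersion.isoOfRangeEq (((g ∣_ (f ⁻¹ᵁ V.1)) ⁻¹ᵁ B).ι ≫ (g ⁻¹ᵁ (f ⁻¹ᵁ V.1)).ι)
    (g ⁻¹ᵁ ((f ⁻¹ᵁ V.1).ι ''ᵁ B)).ι hr
  exact Scheme.IsQuasiAffine.of_isAffineHom e.hom

end Groth.Agent.S2355
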