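import Groth.Statements.S2356
import Groth.Agent.Lib.Helper16.FLF9

set_option autoImplicit false
universe u
open CategoryTheory CategoryTheory.Limits AlgebraicGeometry
open EGA2

namespace Groth.Agent.S2356

/-- Let Y be a scheme, E a locally free O_Y-module of rank r, and Z a finite set of points of Y
contained in an affine open V. Then there is an open neighbourhood U ⊆ V of Z on which E is free of
rank r. -/
theorem result (Y : Scheme.{u}) (r : ℕ) (E : Y.Modules) (hE : FlatMod.IsFinLocFreeOfRank r E)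
    (Z : Set Y) (hZ : Z.Finite) (V : Y.Opens) (hV : IsAffineOpen V) (hZV : Z ⊆ V) :
    ∃ U : Y.Opens, Z ⊆ U ∧ U ≤ V ∧ Nonempty (E.restrict U.ι ≅ FlatMod.freeMod (U : Scheme.{u}) r) := by
  open Groth.Agent.Lib.helper16.FLF in
  by_cases hVne : (V : Set Y).Nonempty
  · obtain ⟨z₀, hz₀⟩ := hVne
    obtain ⟨s, hs, hiso⟩ := exists_basicOpen_free_of_finite E hE hV (Z ∪ {z₀})
      (hZ.union (Set.finite_singleton z₀))
      (Set.union_subset hZV (Set.singleton_subset_iff.2 hz₀)) ⟨z₀, Or.inr rfl⟩
    exact ⟨Y.basicOpen s, Set.subset_union_left.trans hs, Y.basicOpen_le s, hiso⟩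
  · have hVbot : V = ⊥ := by
      ext y
      simp only [TopologicalSpace.Opens.coe_bot, Set.mem_empty_iff_false, iff_false]
      exact fun hy => hVne ⟨y, hy⟩
    subst hVbot
    refine ⟨⊥, hZV, le_rfl, ?_⟩
    haveI := isQuasicoherent_of_isFinLocFree E (isFinLocFree_of_isFinLocFreeOfRank hE)
    haveI : Subsingleton Γ(Y, ⊥) := inferInstance
    haveI : Subsingleton Γ(E, ⊥) := Module.subsingleton Γ(Y, ⊥) _
    haveI : Subsingleton (Fin r → Γ(Y, ⊥)) := inferInstance
    exact restrict_iso_freeMod_of_sections E hV r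
      (LinearEquiv.ofSubsingleton Γ(E, ⊥) (Fin r → Γ(Y, ⊥)))

end Groth.Agent.S2356
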