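import Groth.Statements.S2358
import Mathlib
import Groth.Agent.Lib.Helper13.Normal5
-- import your own Groth.Agent.* helpers here

set_option autoImplicit false
universe u
open CategoryTheory CategoryTheory.Limits AlgebraicGeometry
open EGA2

namespace Groth.Agent.S2358

noncomputable section

open AlgebraicGeometry CategoryTheory Limits in
/-- Key lemma: a section over a dense open of an integral morphism onto an integral normal scheme
extends; more generally, any `X`-morphism from a dense open of an integral normal `X` to a scheme
integral over `X` extends. -/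
theorem extend {X X' : Scheme.{u}} [IsIntegral X] (hX : Pi1.IsNormalScheme X)
    (g : X' ⟶ X) [IsIntegralHom g] (U : X.Opens) (hU : Dense (U : Set X))
    (s : (U : Scheme.{u}) ⟶ X') (hs : s ≫ g = U.ι) :
    ∃ s' : X ⟶ X', s' ≫ g = 𝟙 X ∧ U.ι ≫ s' = s := by
  have hne : (U : Set X).Nonempty := hU.nonempty
  have hη : genericPoint X ∈ U :=
    ((genericPoint_spec X).mem_open_set_iff U.isOpen).mpr (by simpa using hne)
  let j := X.fromSpecStalk (genericPoint X)
  haveI : IsIso j.fromNormalization :=
    Groth.Agent.Lib.helper13.Normal.isIso_fromNormalization_of_isNormalScheme hX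
  have hrange : Set.range j ⊆ Set.range U.ι := by
    rintro _ ⟨p, rfl⟩
    haveI : Unique ↥(Spec X.functionField) :=
      inferInstanceAs (Unique (PrimeSpectrum X.functionField))
    have hp : p = IsLocalRing.closedPoint _ := Subsingleton.elim _ _
    rw [hp, Scheme.fromSpecStalk_closedPoint]
    simpa using hη
  let jU : Spec X.functionField ⟶ U := IsOpenImmersion.lift U.ι j hrange
  have hjU : jU ≫ U.ι = j := IsOpenImmersion.lift_fac _ _ _
  let f₁ := jU ≫ s
  have H : j = f₁ ≫ g := by simp [f₁, hs, hjU]
  let d := j.normalizationDesc f₁ g H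
  have hd1 : d ≫ g = j.fromNormalization := Scheme.Hom.normalizationDesc_comp _ _ _ _
  have hd2 : j.toNormalization ≫ d = f₁ := Scheme.Hom.toNormalization_normalizationDesc _ _ _ _
  refine ⟨inv j.fromNormalization ≫ d, ?_, ?_⟩
  · rw [Category.assoc, hd1, IsIso.inv_hom_id]
  · haveI : IsDominant j := by
      have : IsDominant (j.toNormalization ≫ j.fromNormalization) := inferInstance
      rwa [j.toNormalization_fromNormalization] at this
    haveI : IsDominant (jU ≫ U.ι) := by rw [hjU]; infer_instance
    haveI : IsDominant jU := IsDominant.of_comp_of_isOpenImmersion jU U.ι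
    refine ext_of_isDominant_of_isSeparated g ?_ jU ?_
    · rw [Category.assoc, Category.assoc, hd1, IsIso.inv_hom_id, Category.comp_id, hs]
    · have h3 : j ≫ inv j.fromNormalization = j.toNormalization :=
        (IsIso.comp_inv_eq _).mpr j.toNormalization_fromNormalization.symm
      rw [← Category.assoc, hjU, ← Category.assoc, h3, hd2]

end


/-- Let X be an integral normal scheme, g : X' → X an integral morphism, U a dense open of X and s : U →
X' a section of g over U. Then there is a section of g over all of X extending s. -/
theorem result {X X' : Scheme.{u}} [IsIntegral X] (hX : Pi1.IsNormalScheme X)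
    (g : X' ⟶ X) [IsIntegralHom g] (U : X.Opens) (hU : Dense (U : Set X)) (s : (U : Scheme.{u}) ⟶ X') (hs : s ≫ g = U.ι) :
    ∃ s' : X ⟶ X', s' ≫ g = 𝟙 X ∧ U.ι ≫ s' = s := by
  exact extend hX g U hU s hs

end Groth.Agent.S2358
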