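import Groth.Statements.S4433
import Mathlib
import Groth.Agent.Lib.Helper13.KA6
-- import your own Groth.Agent.* helpers here

set_option autoImplicit false
universe u
open EGA2

namespace Groth.Agent.S4433

/-- Let A be a Noetherian local domain that is not a field, K its field of fractions and L a finitely
generated field extension of K. Then there is a discrete valuation subring of L, with fraction field
L, which contains the image of A and dominates A (elements of the maximal ideal of A have valuation
less than one). -/
theorem result (A : Type u) [CommRing A] [IsDomain A] [IsNoetherianRing A]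
    [IsLocalRing A] (hA : ¬ IsField A) (K : Type u) [Field K] [Algebra A K] [IsFractionRing A K]
    (L : Type u) [Field L] [Algebra K L] [Algebra A L] [IsScalarTower A K L] (hfg : (⊤ : IntermediateField K L).FG) :
    ∃ R : ValuationSubring L, IsDiscreteValuationRing R ∧ (∀ a : A, algebraMap A L a ∈ R) ∧
      ∀ a ∈ IsLocalRing.maximalIdeal A, R.valuation (algebraMap A L a) < 1 := by
  haveI : Algebra.EssFiniteType K L := IntermediateField.fg_top_iff.mp hfg
  haveI : Algebra.EssFiniteType A K := Algebra.EssFiniteType.of_isLocalization K (nonZeroDivisors A)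
  haveI : Algebra.EssFiniteType A L := Algebra.EssFiniteType.comp A K L
  have hinj : Function.Injective (algebraMap A L) := by
    rw [IsScalarTower.algebraMap_eq A K L]
    exact (algebraMap K L).injective.comp (IsFractionRing.injective A K)
  obtain ⟨r, hr, hr0⟩ : ∃ r ∈ IsLocalRing.maximalIdeal A, r ≠ 0 := by
    by_contra h
    push Not at h
    refine hA (IsLocalRing.isField_iff_maximalIdeal_eq.mpr ?_)
    rw [eq_bot_iff]
    intro r hr
    exact (Ideal.mem_bot).mpr (h r hr)
  obtain ⟨O, hO, h, hmem⟩ := Groth.Agent.Lib.helper13.KA.exists_dvr_of_essFiniteType A L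
    (IsLocalRing.maximalIdeal A)
    (by rw [(RingHom.injective_iff_ker_eq_bot _).mp hinj]; exact bot_le)
    ⟨r, hr, fun h0 => hr0 (hinj (by rw [h0, map_zero]))⟩
  refine ⟨O, hO, h, fun a ha => ?_⟩
  have h1 := (hmem a).mpr ha
  rw [ValuationSubring.valuation_lt_one_iff] at h1
  exact h1

end Groth.Agent.S4433
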