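import Groth.Statements.S2454
import Groth.Agent.Lib.Helper24.SmoothTransport
import Groth.Agent.Lib.Helper17.FieldLift

set_option autoImplicit false
universe u
open EGA41

namespace Groth.Agent.S2454

open IsLocalRing in
/-- Let A → B be a local homomorphism of Noetherian local rings making B a Cohen A-algebra. Then B, with
its adic topology, is formally smooth over A with its adic topology. -/
theorem result {A B : Type u} [CommRing A] [IsLocalRing A] [CommRing B] [IsLocalRing B]
    [Algebra A B] [IsLocalHom (algebraMap A B)] (h : EGA41.IsCohenAlgebra A B) :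
    EGA41.IsFormallySmoothAdic A (maximalIdeal A) B (maximalIdeal B) := by
  classical
  obtain ⟨hA, hB, hc, hflat, hm, hgr⟩ := h
  haveI := hflat
  haveI := hgr
  haveI : Algebra.FormallySmooth (ResidueField A) (ResidueField B) :=
    Groth.Agent.Lib.helper17.FieldLift.formallySmooth_of_isGeometricallyReduced
  intro C _ _ J hJ ⟨k₁, hk₁⟩ u ⟨k₂, hk₂⟩
  have hN1 : 1 ≤ k₁ + k₂ + 1 := by omega
  haveI hsm := Groth.Agent.Lib.Helper24.SmoothTransport.formallySmooth_quotient_pow hm
    (k₁ + k₂ + 1) hN1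
  -- `C` is an algebra over `A ⧸ 𝔪 ^ N`
  have hC : ∀ a ∈ maximalIdeal A ^ (k₁ + k₂ + 1), algebraMap A C a = 0 := by
    intro a ha
    have h1 : a ∈ maximalIdeal A ^ k₁ := Ideal.pow_le_pow_right (by omega) ha
    have h2 := Ideal.mem_map_of_mem (algebraMap A C) h1
    rw [hk₁] at h2
    exact h2
  letI : Algebra (A ⧸ maximalIdeal A ^ (k₁ + k₂ + 1)) C :=
    (Ideal.Quotient.lift _ (algebraMap A C) hC).toAlgebra
  have hu : ∀ b ∈ (maximalIdeal A ^ (k₁ + k₂ + 1)).map (algebraMap A B), u b = 0 := by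
    intro b hb
    apply hk₂
    have h1 : (maximalIdeal A ^ (k₁ + k₂ + 1)).map (algebraMap A B) ≤ maximalIdeal B ^ k₂ := by
      rw [← hm, ← Ideal.map_pow]
      exact Ideal.map_mono (Ideal.pow_le_pow_right (by omega))
    exact h1 hb
  let ubar : (B ⧸ (maximalIdeal A ^ (k₁ + k₂ + 1)).map (algebraMap A B))
      →ₐ[A ⧸ maximalIdeal A ^ (k₁ + k₂ + 1)] C ⧸ J :=
    { Ideal.Quotient.lift _ u.toRingHom hu with
      commutes' := fun r => by
        obtain ⟨a, rfl⟩ := Ideal.Quotient.mk_surjective r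
        exact u.commutes a }
  let w := Algebra.FormallySmooth.lift J hJ ubar
  have hw : ∀ x, Ideal.Quotient.mk J (w x) = ubar x :=
    fun x => Algebra.FormallySmooth.mk_lift J hJ ubar x
  let v : B →ₐ[A] C :=
    { (w.toRingHom.comp (Ideal.Quotient.mk _)) with
      commutes' := fun a => w.commutes (Ideal.Quotient.mk _ a) }
  refine ⟨v, ?_⟩
  ext b
  exact hw (Ideal.Quotient.mk _ b)

end Groth.Agent.S2454
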