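import Groth.Statements.S2455
import Groth.Agent.Lib.Helper24.SmoothTransport
import Groth.Agent.Lib.Helper24.AdicLiftAlg
import Groth.Agent.Lib.Helper24.CohenAlgIso
import Groth.Agent.Lib.Helper24.Tower7
import Groth.Agent.Lib.Helper17.FieldLift

set_option autoImplicit false
universe u
open EGA41

namespace Groth.Agent.S2455

open IsLocalRing in
/-- Let A be a Noetherian local ring with residue field k and K a separable extension field of k. Then
there is a Cohen A-algebra B whose residue field is k-isomorphic to K; and two Cohen A-algebras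
whose residue fields are k-isomorphic to K are isomorphic as A-algebras. -/
theorem result {A : Type u} [CommRing A] [IsLocalRing A] [IsNoetherianRing A]
    (K : Type u) [Field K] [Algebra (ResidueField A) K] [Algebra.IsGeometricallyReduced (ResidueField A) K] :
    (∃ (B : Type u) (_ : CommRing B) (_ : IsLocalRing B) (_ : Algebra A B) (_ : IsLocalHom (algebraMap A B)),
      EGA41.IsCohenAlgebra A B ∧ Nonempty (ResidueField B ≃ₐ[ResidueField A] K)) ∧
    ∀ (B B' : Type u) [CommRing B] [IsLocalRing B] [Algebra A B] [IsLocalHom (algebraMap A B)]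
      [CommRing B'] [IsLocalRing B'] [Algebra A B'] [IsLocalHom (algebraMap A B')],
      EGA41.IsCohenAlgebra A B → EGA41.IsCohenAlgebra A B' →
      Nonempty (ResidueField B ≃ₐ[ResidueField A] K) → Nonempty (ResidueField B' ≃ₐ[ResidueField A] K) →
      Nonempty (B ≃ₐ[A] B') := by
  classical
  constructor
  · obtain ⟨B, _, _, _, hBN, hloc, hflat, hmB, hcB, e, he⟩ :=
      Groth.Agent.Lib.Helper24.Tower.exists_flat_complete_local A K
    haveI := hloc
    let E : ResidueField B ≃ₐ[ResidueField A] K :=
      { e with
        commutes' := fun r => by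
          obtain ⟨a, rfl⟩ := IsLocalRing.residue_surjective r
          exact he a }
    haveI hgr : Algebra.IsGeometricallyReduced (ResidueField A) (ResidueField B) :=
      Algebra.IsGeometricallyReduced.of_injective E.toAlgHom E.injective
    exact ⟨B, inferInstance, inferInstance, inferInstance, hloc,
      ⟨inferInstance, hBN, hcB, hflat, hmB, hgr⟩, ⟨E⟩⟩
  · intro B B' _ _ _ _ _ _ _ _ hB hB' ⟨E⟩ ⟨E'⟩
    obtain ⟨-, hBN, hBc, hBflat, hBm, hBgr⟩ := hB
    obtain ⟨-, hB'N, hB'c, hB'flat, hB'm, hB'gr⟩ := hB'
    haveI := hBflat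
    haveI := hB'flat
    haveI := hBgr
    haveI : Algebra.FormallySmooth (ResidueField A) (ResidueField B) :=
      Groth.Agent.Lib.helper17.FieldLift.formallySmooth_of_isGeometricallyReduced
    let θ : ResidueField B ≃ₐ[ResidueField A] ResidueField B' := E.trans E'.symm
    let u : B →+* B' ⧸ maximalIdeal B' :=
      (θ : ResidueField B →+* ResidueField B').comp (residue B)
    have hu : u.comp (algebraMap A B) =
        (Ideal.Quotient.mk (maximalIdeal B')).comp (algebraMap A B') := by
      ext a
      exact θ.commutes (residue A a)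
    have hsep : ∀ x : B', (∀ n, x ∈ maximalIdeal B' ^ n ⊔ maximalIdeal B') →
        x ∈ maximalIdeal B' := by
      intro x hx
      have := hx 1
      rwa [pow_one, sup_idem] at this
    have hlift : ∀ (n : ℕ) (_ : 1 ≤ n) (K' : Ideal B') (h1 : maximalIdeal B' ^ (n + 1) ≤ K')
        (_ : K' ≤ maximalIdeal B' ^ n) (t : B →+* B' ⧸ K'),
        t.comp (algebraMap A B) = (Ideal.Quotient.mk K').comp (algebraMap A B') →
        ∃ t' : B →+* B' ⧸ maximalIdeal B' ^ (n + 1),
          t'.comp (algebraMap A B) = (Ideal.Quotient.mk _).comp (algebraMap A B') ∧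
          (Ideal.Quotient.factor h1).comp t' = t := by
      intro n hn K' h1 h2 t ht
      haveI := Groth.Agent.Lib.Helper24.SmoothTransport.formallySmooth_quotient_pow hBm
        (n + 1) (by omega)
      have hnil : IsNilpotent (RingHom.ker (Ideal.Quotient.factor h1)) := by
        refine ⟨2, ?_⟩
        rw [Ideal.Quotient.factor_ker h1, ← Ideal.map_pow, Ideal.zero_eq_bot, eq_bot_iff]
        refine le_trans (Ideal.map_mono ?_) (le_of_eq (Ideal.map_quotient_self _))
        refine le_trans (Ideal.pow_right_mono h2 2) ?_
        rw [← pow_mul]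
        exact Ideal.pow_le_pow_right (by omega)
      refine Groth.Agent.Lib.Helper24.AdicLiftAlg.exists_lift_of_quotient_smooth
        (maximalIdeal A) (n + 1)
        ((Ideal.Quotient.mk (maximalIdeal B' ^ (n + 1))).comp (algebraMap A B')) ?_
        (Ideal.Quotient.factor h1) (Ideal.Quotient.factor_surjective h1) hnil t ?_
      · intro a ha
        rw [RingHom.comp_apply, Ideal.Quotient.eq_zero_iff_mem, ← hB'm, ← Ideal.map_pow]
        exact Ideal.mem_map_of_mem _ ha
      · rw [ht, ← RingHom.comp_assoc, Ideal.Quotient.factor_comp_mk]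
    obtain ⟨v, hvι, hv⟩ := Groth.Agent.Lib.Helper24.AdicLiftAlg.exists_lift'
      (algebraMap A B) (algebraMap A B') (maximalIdeal B') (maximalIdeal B') le_rfl hsep u hu hlift
    let φ : B →ₐ[A] B' := { v with commutes' := fun a => RingHom.congr_fun hvι a }
    have hres : Function.Surjective ((residue B').comp φ.toRingHom) := by
      intro y
      obtain ⟨z, rfl⟩ := θ.surjective y
      obtain ⟨b, rfl⟩ := IsLocalRing.residue_surjective z
      exact ⟨b, RingHom.congr_fun hv b⟩
    have hbij := Groth.Agent.Lib.Helper24.CohenAlgIso.bijective_of_flat (maximalIdeal A) hBm hB'm φ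
      hres
    exact ⟨AlgEquiv.ofBijective φ hbij⟩

end Groth.Agent.S2455
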