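import Groth.Statements.S2457
import Groth.Agent.Lib.Helper24.CohenIso
import Groth.Agent.S2456

set_option autoImplicit false
universe u
open EGA41

namespace Groth.Agent.S2457

open IsLocalRing in
/-- Let W and W' be Cohen rings with residue fields K and K' and u : K ≅ K' an isomorphism. Then u is
induced by some isomorphism v : W ≅ W'. -/
theorem result {W W' : Type u} [CommRing W] [IsLocalRing W] [CommRing W'] [IsLocalRing W']
    (hW : EGA41.IsCohenRingEGA W) (hW' : EGA41.IsCohenRingEGA W') (u : ResidueField W ≃+* ResidueField W') :
    ∃ v : W ≃+* W', ∀ x : W, residue W' (v x) = u (residue W x) := by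
  classical
  -- residue map of a field is bijective
  have hfield : ∀ (F : Type u) [CommRing F] [IsLocalRing F], IsField F →
      Function.Bijective (residue F) := by
    intro F _ _ hF
    refine ⟨?_, IsLocalRing.residue_surjective⟩
    rw [injective_iff_map_eq_zero]
    intro x hx
    have h1 : x ∈ maximalIdeal F := (IsLocalRing.residue_eq_zero_iff x).1 hx
    rw [IsLocalRing.isField_iff_maximalIdeal_eq.1 hF] at h1
    exact h1
  -- a field of characteristic zero cannot share a residue field with a Cohen ring
  have hmixed : ∀ (F V : Type u) [CommRing F] [IsLocalRing F] [CommRing V] [IsLocalRing V],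
      IsField F → CharZero F → CAlg.IsCohenRing V →
      (ResidueField F ≃+* ResidueField V) → False := by
    intro F V _ _ _ _ hF hC hV e
    obtain ⟨hD, hDVR, hcomp, p, hp, hm⟩ := hV
    have h1 : (p : ResidueField V) = 0 := by
      rw [← map_natCast (residue V), IsLocalRing.residue_eq_zero_iff]
      have : (p : V) ∈ Ideal.span {(p : V)} := Ideal.mem_span_singleton_self _
      rw [← hm] at this
      exact this
    have h2 : (p : ResidueField F) = 0 := by
      have := congrArg e.symm h1
      rwa [map_natCast, map_zero] at this
    rw [← map_natCast (residue F)] at h2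
    have h3 := (hfield F hF).1 (h2.trans (map_zero _).symm)
    exact hp.ne_zero (Nat.cast_eq_zero.1 h3)
  rcases hW with h | h
  · rcases hW' with h' | h'
    · -- both fields
      let e := RingEquiv.ofBijective (residue W) (hfield W h.1)
      let e' := RingEquiv.ofBijective (residue W') (hfield W' h'.1)
      refine ⟨e.trans (u.trans e'.symm), fun x => ?_⟩
      show e' (e'.symm (u (e x))) = u (residue W x)
      rw [RingEquiv.apply_symm_apply]
      rfl
    · exact (hmixed W W' h.1 h.2 h' u).elim
  · rcases hW' with h' | h'
    · exact (hmixed W' W h'.1 h'.2 h u.symm).elim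
    · -- both Cohen rings
      obtain ⟨hD, hDVR, hcomp, p, hp, hm⟩ := h
      obtain ⟨hD', hDVR', hcomp', p', hp', hm'⟩ := h'
      -- the residue characteristics agree
      have h1 : (p : ResidueField W) = 0 := by
        rw [← map_natCast (residue W), IsLocalRing.residue_eq_zero_iff]
        have : (p : W) ∈ Ideal.span {(p : W)} := Ideal.mem_span_singleton_self _
        rw [← hm] at this
        exact this
      have h1' : (p' : ResidueField W') = 0 := by
        rw [← map_natCast (residue W'), IsLocalRing.residue_eq_zero_iff]
        have : (p' : W') ∈ Ideal.span {(p' : W')} := Ideal.mem_span_singleton_self _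
        rw [← hm'] at this
        exact this
      have h2 : (p : ResidueField W') = 0 := by
        have := congrArg u h1
        rwa [map_natCast, map_zero] at this
      have hpp : p = p' := by
        have hq := ringChar.charP (ResidueField W')
        have d1 : ringChar (ResidueField W') ∣ p := (CharP.cast_eq_zero_iff _ _ p).1 h2
        have d2 : ringChar (ResidueField W') ∣ p' := (CharP.cast_eq_zero_iff _ _ p').1 h1'
        have hne : ringChar (ResidueField W') ≠ 1 := CharP.ringChar_ne_one
        rw [(Nat.Prime.eq_one_or_self_of_dvd hp _ d1).resolve_left hne] at d2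
        exact (Nat.prime_dvd_prime_iff_eq hp hp').1 d2
      subst hpp
      haveI : IsLocalRing (W' ⧸ maximalIdeal W') :=
        inferInstanceAs (IsLocalRing (ResidueField W'))
      let u' : W →+* W' ⧸ maximalIdeal W' := (u : ResidueField W →+* ResidueField W').comp (residue W)
      haveI : IsLocalHom u' := by
        refine ⟨fun a ha => ?_⟩
        have h3 : IsUnit (u (residue W a)) := ha
        have h4 : IsUnit (residue W a) := by
          have := h3.map u.symm
          rwa [RingEquiv.symm_apply_apply] at this
        exact isUnit_of_map_unit (residue W) a h4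
      obtain ⟨v, hvloc, hv⟩ := Groth.Agent.S2456.result (W := W) (C := W')
        (Or.inr ⟨hD, hDVR, hcomp, p, hp, hm⟩) (maximalIdeal W')
        (IsLocalRing.maximalIdeal.isMaximal W').ne_top u'
      have hres : ∀ x, residue W' (v x) = u (residue W x) := fun x => RingHom.congr_fun hv x
      have hbij : Function.Bijective v := by
        apply Groth.Agent.Lib.Helper24.CohenIso.bijective_of_cohen p hm hm' v
        intro y
        obtain ⟨z, hz⟩ := u.surjective y
        obtain ⟨x, rfl⟩ := IsLocalRing.residue_surjective z
        exact ⟨x, by rw [RingHom.comp_apply, hres, hz]⟩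
      exact ⟨RingEquiv.ofBijective v hbij, hres⟩

end Groth.Agent.S2457
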