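import Groth.Statements.S2458
import Groth.Agent.Lib.Helper24.SqZeroReg

set_option autoImplicit false
universe u
open EGA41

namespace Groth.Agent.S2458

open IsLocalRing in
/-- Let A be an Artinian local ring whose maximal ideal 𝔪 satisfies 𝔪² = 0. Then there is a regular
local ring B with maximal ideal 𝔫 such that A ≅ B/𝔫². -/
theorem result {A : Type u} [CommRing A] [IsLocalRing A] [IsArtinianRing A]
    (h : maximalIdeal A ^ 2 = ⊥) :
    ∃ (B : Type u) (_ : CommRing B) (_ : IsRegularLocalRing B), Nonempty (A ≃+* B ⧸ IsLocalRing.maximalIdeal B ^ 2) := by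
  classical
  haveI hchar : CharP (ResidueField A) (ringChar (ResidueField A)) := ringChar.charP _
  have hpk : ((ringChar (ResidueField A) : ℕ) : ResidueField A) = 0 := CharP.cast_eq_zero _ _
  have hp1 : ringChar (ResidueField A) ≠ 1 := CharP.ringChar_ne_one
  by_cases hpA : ((ringChar (ResidueField A) : ℕ) : A) = 0
  · -- equal characteristic
    obtain ⟨s, hs⟩ := Groth.Agent.Lib.Helper24.CoeffField.exists_coeff_field A
      (ringChar (ResidueField A)) hpA
    letI : Algebra (ResidueField A) A := s.toAlgebra
    let S : ArtFun.CRing (ResidueField A) (ResidueField A) :=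
      { carrier := A
        res := { residue A with commutes' := fun r => RingHom.congr_fun hs r }
        res_surjective := IsLocalRing.residue_surjective
        isAdicComplete := inferInstance }
    obtain ⟨n, φ₀, hsurj, hker⟩ := Groth.Agent.LibObs29.exists_ps_presentation S
    haveI := Groth.Agent.LibObs29.isRegularLocalRing_mvPowerSeries (ResidueField A) n
    exact ⟨MvPowerSeries (Fin n) (ResidueField A), inferInstance, inferInstance,
      Groth.Agent.Lib.Helper24.SqZeroReg.equiv_quot_sq h φ₀.toRingHom hsurj hker⟩
  · -- mixed characteristic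
    have hpm : ((ringChar (ResidueField A) : ℕ) : A) ∈ maximalIdeal A := by
      rw [← IsLocalRing.residue_eq_zero_iff, map_natCast]; exact hpk
    obtain ⟨W, _, _, hW, hWN, hWc, v, e, hvloc, hve⟩ :=
      Groth.Agent.Lib.Helper24.CohenCoeff.exists_coeff_ring A
    have hres : Function.Surjective ((residue A).comp v) := by
      intro y
      obtain ⟨z, rfl⟩ := e.surjective y
      obtain ⟨a, rfl⟩ := IsLocalRing.residue_surjective z
      exact ⟨a, hve a⟩
    rcases hW with ⟨hF, hC⟩ | ⟨hD, hDVR, hc, q, hq, hm⟩
    · exfalso
      apply hpA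
      have h1 : ((ringChar (ResidueField A) : ℕ) : W) = 0 := by
        have h2 : e (residue W ((ringChar (ResidueField A) : ℕ) : W)) = 0 := by
          rw [map_natCast, map_natCast]; exact hpk
        have h3 : residue W ((ringChar (ResidueField A) : ℕ) : W) = 0 := by
          have := congrArg e.symm h2
          rwa [RingEquiv.symm_apply_apply, map_zero] at this
        exact (Groth.Agent.Lib.Helper24.CohenCoeff.residue_bijective_of_isField W hF).1
          (h3.trans (map_zero _).symm)
      have h4 : ringChar (ResidueField A) = 0 := Nat.cast_eq_zero.1 h1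
      rw [h4, Nat.cast_zero]
    · have h1 : (q : ResidueField W) = 0 := by
        rw [← map_natCast (residue W), IsLocalRing.residue_eq_zero_iff]
        have : (q : W) ∈ Ideal.span {(q : W)} := Ideal.mem_span_singleton_self _
        rw [← hm] at this
        exact this
      have h2 : (q : ResidueField A) = 0 := by
        have := congrArg e h1
        rwa [map_natCast, map_zero] at this
      have d : ringChar (ResidueField A) ∣ q :=
        (CharP.cast_eq_zero_iff (ResidueField A) _ q).1 h2
      have hpq : ringChar (ResidueField A) = q :=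
        (Nat.Prime.eq_one_or_self_of_dvd hq _ d).resolve_left hp1
      rw [hpq] at hpA hpm
      obtain ⟨r, x, hgen, hind⟩ :=
        Groth.Agent.Lib.Helper24.SqZeroReg.exists_minimal_generators h (q : A) hpm hpA
      have hx : maximalIdeal A = (maximalIdeal W).map v ⊔ Ideal.span (Set.range x) := by
        rw [hm, Ideal.map_span, Set.image_singleton, map_natCast]
        exact hgen
      obtain ⟨f, hfC, hfX, hfsurj, hfmap⟩ :=
        Groth.Agent.Lib.Helper24.CohenPS.exists_ps_surjective v hres r x hx
      haveI := Groth.Agent.Lib.Helper24.RegPS.isRegularLocalRing_mvPowerSeries W (q : W) hm r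
      refine ⟨MvPowerSeries (Fin r) W, inferInstance, inferInstance,
        Groth.Agent.Lib.Helper24.SqZeroReg.equiv_quot_sq h f hfsurj ?_⟩
      intro g hg
      have hg0 : f g = 0 := hg
      have hloc : ∀ b, f b ∈ maximalIdeal A → b ∈ maximalIdeal (MvPowerSeries (Fin r) W) := by
        intro b hb
        by_contra hb'
        have hu : IsUnit b := by
          by_contra h'
          exact hb' ((IsLocalRing.mem_maximalIdeal _).2 h')
        exact (IsLocalRing.mem_maximalIdeal _).1 hb (hu.map f)
      have hgm : g ∈ maximalIdeal (MvPowerSeries (Fin r) W) :=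
        hloc g (by rw [hg0]; exact zero_mem _)
      have hCq : (MvPowerSeries.C (q : W) : MvPowerSeries (Fin r) W) ∈
          maximalIdeal (MvPowerSeries (Fin r) W) := by
        rw [Groth.Agent.LibCR29.mem_maximalIdeal_ps_iff, MvPowerSeries.constantCoeff_C, hm]
        exact Ideal.mem_span_singleton_self _
      have hfCq : f (MvPowerSeries.C (q : W)) = (q : A) := by
        have := RingHom.congr_fun hfC (q : W)
        rw [RingHom.comp_apply] at this
        rw [this, map_natCast]
      rw [Groth.Agent.LibCR29.maximalIdeal_ps, hm, Ideal.map_span, Set.image_singleton] at hgm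
      obtain ⟨c, hc', s', hs', rfl⟩ := Submodule.mem_sup.1 hgm
      obtain ⟨b₀, rfl⟩ := Ideal.mem_span_singleton'.1 hc'
      obtain ⟨b, rfl⟩ := (Ideal.mem_span_range_iff_exists_fun).1 hs'
      have hrel : f b₀ * (q : A) + ∑ i, f (b i) * x i = 0 := by
        rw [← hg0, map_add, map_mul, map_sum, hfCq]
        congr 1
        refine Finset.sum_congr rfl fun i _ => ?_
        rw [map_mul, hfX]
      obtain ⟨h0, hi⟩ := hind (f b₀) (fun i => f (b i)) hrel
      rw [pow_two]
      refine Ideal.add_mem _ (Ideal.mul_mem_mul (hloc _ h0) hCq)
        (Ideal.sum_mem _ fun i _ => Ideal.mul_mem_mul (hloc _ (hi i))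
          (Groth.Agent.LibCR29.X_mem_maximalIdeal_ps i))

end Groth.Agent.S2458
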