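import Groth.Statements.S2459
import Groth.Agent.Lib.Helper24.CohenCoeff
import Groth.Agent.Lib.Helper24.CohenIso

set_option autoImplicit false
universe u
open EGA41

namespace Groth.Agent.S2459

open IsLocalRing in
/-- Let A be an Artinian local ring with maximal ideal 𝔪 and residue field of characteristic p (p = 0
allowed). Then A is isomorphic to a quotient of a Cohen ring if and only if 𝔪 is generated by p·1. -/
theorem result {A : Type u} [CommRing A] [IsLocalRing A] [IsArtinianRing A]
    (p : ℕ) [CharP (ResidueField A) p] :
    (∃ (W : Type u) (_ : CommRing W) (I : Ideal W), EGA41.IsCohenRingEGA W ∧ Nonempty (A ≃+* W ⧸ I)) ↔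
      maximalIdeal A = Ideal.span {(p : A)} := by
  classical
  have hp1 : p ≠ 1 := CharP.char_ne_one (ResidueField A) p
  have hpk : (p : ResidueField A) = 0 := CharP.cast_eq_zero _ p
  have hpm : (p : A) ∈ maximalIdeal A := by
    rw [← IsLocalRing.residue_eq_zero_iff, map_natCast]; exact hpk
  constructor
  · rintro ⟨W, _, I, hW, ⟨φ⟩⟩
    haveI : Nontrivial (W ⧸ I) := φ.injective.nontrivial
    -- W is local
    haveI hWloc : IsLocalRing W := by
      rcases hW with ⟨hF, -⟩ | ⟨hD, hDVR, -⟩
      · haveI : Nontrivial W := hF.nontrivial
        refine IsLocalRing.of_isUnit_or_isUnit_one_sub_self fun a => ?_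
        by_cases ha : a = 0
        · right; rw [ha, sub_zero]; exact isUnit_one
        · left
          obtain ⟨b, hb⟩ := hF.mul_inv_cancel ha
          exact IsUnit.of_mul_eq_one b hb
      · infer_instance
    let π : W →+* A := (φ.symm : W ⧸ I →+* A).comp (Ideal.Quotient.mk I)
    have hπ : Function.Surjective π := φ.symm.surjective.comp Ideal.Quotient.mk_surjective
    have hmap : (maximalIdeal W).map π = maximalIdeal A :=
      IsLocalRing.map_maximalIdeal_of_surjective π hπ
    rcases hW with ⟨hF, hC⟩ | ⟨hD, hDVR, hc, q, hq, hm⟩
    · rw [IsLocalRing.isField_iff_maximalIdeal_eq.1 hF, Ideal.map_bot] at hmap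
      rw [← hmap] at hpm ⊢
      rw [Ideal.mem_bot] at hpm
      rw [hpm, Ideal.span_singleton_eq_bot.2 rfl]
    · rw [hm, Ideal.map_span, Set.image_singleton, map_natCast] at hmap
      have hqm : (q : A) ∈ maximalIdeal A := by
        rw [← hmap]; exact Ideal.mem_span_singleton_self _
      have hqk : (q : ResidueField A) = 0 := by
        rw [← map_natCast (residue A), IsLocalRing.residue_eq_zero_iff]; exact hqm
      have d : p ∣ q := (CharP.cast_eq_zero_iff (ResidueField A) p q).1 hqk
      have hpq : p = q := (Nat.Prime.eq_one_or_self_of_dvd hq p d).resolve_left hp1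
      rw [hpq]
      exact hmap.symm
  · intro hmA
    obtain ⟨W, _, _, hW, hWN, hWc, v, e, hvloc, hve⟩ :=
      Groth.Agent.Lib.Helper24.CohenCoeff.exists_coeff_ring A
    have hres : Function.Surjective ((residue A).comp v) := by
      intro y
      obtain ⟨z, rfl⟩ := e.surjective y
      obtain ⟨a, rfl⟩ := IsLocalRing.residue_surjective z
      exact ⟨a, hve a⟩
    have hmap : (maximalIdeal W).map v = maximalIdeal A := by
      rcases hW with ⟨hF, hC⟩ | ⟨hD, hDVR, hc, q, hq, hm⟩
      · rw [IsLocalRing.isField_iff_maximalIdeal_eq.1 hF, Ideal.map_bot]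
        -- p = 0 since the residue field has characteristic zero
        have h1 : (p : W) = 0 := by
          have h2 : e (residue W (p : W)) = 0 := by
            rw [map_natCast, map_natCast]; exact hpk
          have h3 : residue W (p : W) = 0 := by
            have := congrArg e.symm h2
            rwa [RingEquiv.symm_apply_apply, map_zero] at this
          exact (Groth.Agent.Lib.Helper24.CohenCoeff.residue_bijective_of_isField W hF).1
            (h3.trans (map_zero _).symm)
        have h4 : p = 0 := Nat.cast_eq_zero.1 h1
        rw [hmA, h4, Nat.cast_zero, Ideal.span_singleton_eq_bot.2 rfl]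
      · have h1 : (q : ResidueField W) = 0 := by
          rw [← map_natCast (residue W), IsLocalRing.residue_eq_zero_iff]
          have : (q : W) ∈ Ideal.span {(q : W)} := Ideal.mem_span_singleton_self _
          rw [← hm] at this
          exact this
        have h2 : (q : ResidueField A) = 0 := by
          have := congrArg e h1
          rwa [map_natCast, map_zero] at this
        have d : p ∣ q := (CharP.cast_eq_zero_iff (ResidueField A) p q).1 h2
        have hpq : p = q := (Nat.Prime.eq_one_or_self_of_dvd hq p d).resolve_left hp1
        rw [hm, Ideal.map_span, Set.image_singleton, map_natCast, hmA, hpq]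
    have hsurj : Function.Surjective v :=
      Groth.Agent.Lib.Helper24.CohenIso.surjective_of_residue v hmap hres
    exact ⟨W, inferInstance, RingHom.ker v, hW,
      ⟨(RingHom.quotientKerEquivOfSurjective hsurj).symm⟩⟩

end Groth.Agent.S2459
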