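import Groth.Statements.S2461
import Mathlib

set_option autoImplicit false
universe u
open EGA41

namespace Groth.Agent.S2461


section aux
variable {B : Type u} [CommRing B] (𝔟 : Ideal B)

lemma mem_map_pow_of_evalₐ_eq_zero (hfg : 𝔟.FG) (n : ℕ) (x : AdicCompletion 𝔟 B)
    (hx : AdicCompletion.evalₐ 𝔟 n x = 0) :
    x ∈ (𝔟.map (algebraMap B (AdicCompletion 𝔟 B))) ^ n := by
  have h1 : AdicCompletion.eval 𝔟 B n x = 0 := by
    have h : 𝔟 ^ n ≤ 𝔟 ^ n • ⊤ := by rw [smul_eq_mul, Ideal.mul_top]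
    rw [← AdicCompletion.factor_evalₐ_eq_eval 𝔟 x h, hx, map_zero]
  have h2 : x ∈ (𝔟 ^ n • ⊤ : Submodule B (AdicCompletion 𝔟 B)) := by
    rw [AdicCompletion.pow_smul_top_eq_ker_eval hfg]
    exact h1
  rw [Ideal.smul_top_eq_map] at h2
  rw [← Ideal.map_pow]
  exact h2

lemma evalₐ_eq_zero_of_mem_map_pow (n : ℕ) (x : AdicCompletion 𝔟 B)
    (hx : x ∈ (𝔟.map (algebraMap B (AdicCompletion 𝔟 B))) ^ n) :
    AdicCompletion.evalₐ 𝔟 n x = 0 := by
  rw [← Ideal.map_pow] at hx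
  have h : (𝔟 ^ n).map (algebraMap B (AdicCompletion 𝔟 B)) ≤
      RingHom.ker (AdicCompletion.evalₐ 𝔟 n : AdicCompletion 𝔟 B →+* B ⧸ 𝔟 ^ n) := by
    rw [Ideal.map_le_iff_le_comap]
    intro b hb
    rw [Ideal.mem_comap, RingHom.mem_ker]
    show AdicCompletion.evalₐ 𝔟 n (AdicCompletion.of 𝔟 B b) = 0
    rw [AdicCompletion.evalₐ_of, Ideal.Quotient.eq_zero_iff_mem]
    exact hb
  exact h hx

end aux

/-- Let A carry the 𝔞-adic topology and let B be a Noetherian A-algebra with the 𝔟-adic topology. Then B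
is formally smooth over A if and only if the 𝔟-adic completion of B, with the adic topology of the
extended ideal, is formally smooth over A. -/
theorem result {A B : Type u} [CommRing A] (𝔞 : Ideal A) [CommRing B] [IsNoetherianRing B] [Algebra A B] (𝔟 : Ideal B) :
    EGA41.IsFormallySmoothAdic A 𝔞 B 𝔟 ↔
      EGA41.IsFormallySmoothAdic A 𝔞 (AdicCompletion 𝔟 B) (𝔟.map (algebraMap B (AdicCompletion 𝔟 B))) := by
  have hfg : 𝔟.FG := IsNoetherian.noetherian 𝔟
  constructor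
  · -- B smooth ⟹ completion smooth
    intro hB C _ _ J hJ hdisc u hu
    obtain ⟨k, hk⟩ := hu
    obtain ⟨t, ht⟩ := hJ
    have hu₀ : ∀ x ∈ 𝔟 ^ k, (u.comp (IsScalarTower.toAlgHom A B (AdicCompletion 𝔟 B))) x = 0 := by
      intro x hx
      rw [AlgHom.comp_apply]
      apply hk
      rw [← Ideal.map_pow]
      exact Ideal.mem_map_of_mem _ hx
    obtain ⟨v₀, hv₀⟩ := hB C J ⟨t, ht⟩ hdisc
      (u.comp (IsScalarTower.toAlgHom A B (AdicCompletion 𝔟 B))) ⟨k, hu₀⟩
    have hv₀' : ∀ b, Ideal.Quotient.mk J (v₀ b) = u (algebraMap B (AdicCompletion 𝔟 B) b) :=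
      fun b => congrArg (fun f => f b) hv₀
    -- v₀ kills a power of 𝔟
    have h1 : (𝔟 ^ k).map v₀.toRingHom ≤ J := by
      rw [Ideal.map_le_iff_le_comap]
      intro x hx
      rw [Ideal.mem_comap, ← Ideal.Quotient.eq_zero_iff_mem]
      have := hu₀ x hx
      rw [← hv₀] at this
      exact this
    have hkill : ∀ x ∈ 𝔟 ^ (k * t + k), v₀ x = 0 := by
      intro x hx
      have hx' : x ∈ (𝔟 ^ k) ^ t :=
        by rw [← pow_mul]; exact Ideal.pow_le_pow_right (Nat.le_add_right _ _) hx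
      have h2 : v₀.toRingHom x ∈ Ideal.map v₀.toRingHom ((𝔟 ^ k) ^ t) := Ideal.mem_map_of_mem _ hx'
      rw [Ideal.map_pow] at h2
      have h3 := Ideal.pow_right_mono h1 t h2
      rw [ht] at h3
      exact h3
    refine ⟨(Ideal.Quotient.liftₐ (𝔟 ^ (k * t + k)) v₀ hkill).comp
      ((AdicCompletion.evalₐ 𝔟 (k * t + k)).restrictScalars A), ?_⟩
    ext x
    obtain ⟨b, hb⟩ := Ideal.Quotient.mk_surjective (AdicCompletion.evalₐ 𝔟 (k * t + k) x)
    have h4 : AdicCompletion.evalₐ 𝔟 (k * t + k) (x - AdicCompletion.of 𝔟 B b) = 0 := by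
      rw [map_sub, AdicCompletion.evalₐ_of, hb, sub_self]
    have h5 := mem_map_pow_of_evalₐ_eq_zero 𝔟 hfg _ _ h4
    have h6 : u (x - AdicCompletion.of 𝔟 B b) = 0 :=
      hk _ (Ideal.pow_le_pow_right (Nat.le_add_left _ _) h5)
    rw [map_sub, sub_eq_zero] at h6
    simp only [AlgHom.comp_apply, AlgHom.restrictScalars_apply]
    rw [← hb]
    show Ideal.Quotient.mk J (v₀ b) = u x
    rw [hv₀', h6]
    rfl
  · -- completion smooth ⟹ B smooth
    intro hB C _ _ J hJ hdisc u hu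
    obtain ⟨k, hk⟩ := hu
    obtain ⟨vhat, hvhat⟩ := hB C J hJ hdisc
      ((Ideal.Quotient.liftₐ (𝔟 ^ k) u hk).comp ((AdicCompletion.evalₐ 𝔟 k).restrictScalars A))
      ⟨k, fun x hx => by
        simp only [AlgHom.comp_apply, AlgHom.restrictScalars_apply]
        rw [evalₐ_eq_zero_of_mem_map_pow 𝔟 k x hx, map_zero]⟩
    refine ⟨vhat.comp (IsScalarTower.toAlgHom A B (AdicCompletion 𝔟 B)), ?_⟩
    ext b
    have := congrArg (fun f => f (algebraMap B (AdicCompletion 𝔟 B) b)) hvhat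
    simp only [AlgHom.comp_apply, AlgHom.restrictScalars_apply] at this
    simp only [AlgHom.comp_apply]
    show Ideal.Quotient.mk J (vhat (algebraMap B (AdicCompletion 𝔟 B) b)) = u b
    rw [show (Ideal.Quotient.mkₐ A J) (vhat (algebraMap B (AdicCompletion 𝔟 B) b))
      = Ideal.Quotient.mk J (vhat (algebraMap B (AdicCompletion 𝔟 B) b)) from rfl] at this
    rw [this]
    show (Ideal.Quotient.liftₐ (𝔟 ^ k) u hk) (AdicCompletion.evalₐ 𝔟 k (AdicCompletion.of 𝔟 B b)) = u b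
    rw [AdicCompletion.evalₐ_of]
    rfl

end Groth.Agent.S2461
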