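import Groth.Statements.S4542
import Mathlib

set_option autoImplicit false
universe u
open EGA41

namespace Groth.Agent.S4542


section aux
variable {A B C : Type u} [CommRing A] [CommRing B] [CommRing C] [Algebra A B] [Algebra A C]

/-- lift through an injective algebra hom given a range condition -/
lemma exists_lift_of_injective {Q X : Type u} [CommRing Q] [CommRing X] [Algebra A Q] [Algebra A X]
    (ι : Q →ₐ[A] X) (hι : Function.Injective ι) (w : B →ₐ[A] X) (hw : ∀ b, w b ∈ ι.range) :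
    ∃ w' : B →ₐ[A] Q, ι.comp w' = w := by
  refine ⟨((AlgEquiv.ofInjective ι hι).symm : ι.range →ₐ[A] Q).comp (w.codRestrict ι.range hw), ?_⟩
  ext b
  have := (AlgEquiv.ofInjective ι hι).apply_symm_apply (w.codRestrict ι.range hw b)
  have h2 := congrArg Subtype.val this
  rw [AlgEquiv.ofInjective_apply] at h2
  exact h2

variable (A) (𝔠 J : Ideal C)

/-- `C/𝔠^n → C/(J + 𝔠^n)` -/
abbrev π (n : ℕ) : (C ⧸ 𝔠 ^ n) →ₐ[A] (C ⧸ (J ⊔ 𝔠 ^ n)) :=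
  Ideal.Quotient.factorₐ A le_sup_right
/-- `C/J → C/(J + 𝔠^n)` -/
abbrev ρ (n : ℕ) : (C ⧸ J) →ₐ[A] (C ⧸ (J ⊔ 𝔠 ^ n)) :=
  Ideal.Quotient.factorₐ A le_sup_left
/-- `C/𝔠^(n+1) → C/𝔠^n` -/
abbrev τ (n : ℕ) : (C ⧸ 𝔠 ^ (n + 1)) →ₐ[A] (C ⧸ 𝔠 ^ n) :=
  Ideal.Quotient.factorₐ A (Ideal.pow_le_pow_right (Nat.le_succ n))

variable {A}

lemma ker_π_le (n : ℕ) : RingHom.ker (π A 𝔠 J n) ≤ J.map (Ideal.Quotient.mk (𝔠 ^ n)) := by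
  intro x hx
  obtain ⟨c, rfl⟩ := Ideal.Quotient.mk_surjective x
  have h1 : (Ideal.Quotient.mk (J ⊔ 𝔠 ^ n)) c = 0 := hx
  rw [Ideal.Quotient.eq_zero_iff_mem] at h1
  obtain ⟨j, hj, d, hd, rfl⟩ := Submodule.mem_sup.mp h1
  have h2 : (Ideal.Quotient.mk (𝔠 ^ n)) d = 0 := Ideal.Quotient.eq_zero_iff_mem.mpr hd
  rw [map_add, h2, add_zero]
  exact Ideal.mem_map_of_mem _ hj

lemma map_J_pow {t : ℕ} (ht : J ^ t ≤ 𝔠) (n : ℕ) :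
    (J.map (Ideal.Quotient.mk (𝔠 ^ n))) ^ (t * n) = ⊥ := by
  rw [← Ideal.map_pow, eq_bot_iff, pow_mul]
  calc Ideal.map (Ideal.Quotient.mk (𝔠 ^ n)) ((J ^ t) ^ n)
      ≤ Ideal.map (Ideal.Quotient.mk (𝔠 ^ n)) (𝔠 ^ n) := Ideal.map_mono (Ideal.pow_right_mono ht n)
    _ = ⊥ := Ideal.map_quotient_self _

lemma u_kills (𝔟 : Ideal B) (u : B →ₐ[A] C ⧸ J)
    (hu : ∃ k : ℕ, (𝔟 ^ k).map u.toRingHom ≤ 𝔠.map (Ideal.Quotient.mk J)) (n : ℕ) :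
    ∃ m : ℕ, ∀ x ∈ 𝔟 ^ m, (ρ A 𝔠 J n) (u x) = 0 := by
  obtain ⟨k, hk⟩ := hu
  refine ⟨k * n, fun x hx => ?_⟩
  rw [pow_mul] at hx
  have h1 : u.toRingHom x ∈ Ideal.map u.toRingHom ((𝔟 ^ k) ^ n) := Ideal.mem_map_of_mem _ hx
  rw [Ideal.map_pow] at h1
  have h2 : u.toRingHom x ∈ (𝔠.map (Ideal.Quotient.mk J)) ^ n := Ideal.pow_right_mono hk n h1
  rw [← Ideal.map_pow] at h2
  obtain ⟨c, hc, hcx⟩ := (Ideal.mem_map_iff_of_surjective _ Ideal.Quotient.mk_surjective).mp h2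
  have h3 : u x = Ideal.Quotient.mk J c := hcx.symm
  rw [h3]
  show (Ideal.Quotient.mk (J ⊔ 𝔠 ^ n)) c = 0
  exact Ideal.Quotient.eq_zero_iff_mem.mpr (le_sup_right (a := J) hc)

lemma v_kills (𝔟 : Ideal B) (u : B →ₐ[A] C ⧸ J)
    (hu : ∃ k : ℕ, (𝔟 ^ k).map u.toRingHom ≤ 𝔠.map (Ideal.Quotient.mk J))
    (hJ : ∃ t : ℕ, J ^ t ≤ 𝔠) (n : ℕ) (v : B →ₐ[A] C ⧸ 𝔠 ^ n)
    (hv : (π A 𝔠 J n).comp v = (ρ A 𝔠 J n).comp u) :
    ∃ m : ℕ, ∀ x ∈ 𝔟 ^ m, v x = 0 := by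
  obtain ⟨m₁, hm₁⟩ := u_kills 𝔠 J 𝔟 u hu n
  obtain ⟨t, ht⟩ := hJ
  have h1 : (𝔟 ^ m₁).map v.toRingHom ≤ J.map (Ideal.Quotient.mk (𝔠 ^ n)) := by
    rw [Ideal.map_le_iff_le_comap]
    intro x hx
    apply ker_π_le (A := A) 𝔠 J n
    show (π A 𝔠 J n) (v x) = 0
    have := congrArg (fun f => f x) hv
    simp only [AlgHom.comp_apply] at this
    rw [this]
    exact hm₁ x hx
  refine ⟨m₁ * (t * n), fun x hx => ?_⟩
  rw [pow_mul] at hx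
  have h2 : v.toRingHom x ∈ Ideal.map v.toRingHom ((𝔟 ^ m₁) ^ (t * n)) := Ideal.mem_map_of_mem _ hx
  rw [Ideal.map_pow] at h2
  have h3 := Ideal.pow_right_mono h1 (t * n) h2
  rw [map_J_pow 𝔠 J ht n] at h3
  exact h3

lemma discrete_quot (𝔞 : Ideal A) (hAC : ∃ k : ℕ, (𝔞 ^ k).map (algebraMap A C) ≤ 𝔠) (n : ℕ) :
    ∃ k : ℕ, (𝔞 ^ k).map (algebraMap A (C ⧸ 𝔠 ^ n)) = ⊥ := by
  obtain ⟨k, hk⟩ := hAC
  refine ⟨k * n, ?_⟩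
  rw [IsScalarTower.algebraMap_eq A C (C ⧸ 𝔠 ^ n), ← Ideal.map_map, eq_bot_iff, pow_mul, Ideal.map_pow]
  calc Ideal.map (algebraMap C (C ⧸ 𝔠 ^ n)) ((Ideal.map (algebraMap A C) (𝔞 ^ k)) ^ n)
      ≤ Ideal.map (algebraMap C (C ⧸ 𝔠 ^ n)) (𝔠 ^ n) := Ideal.map_mono (Ideal.pow_right_mono hk n)
    _ = ⊥ := Ideal.map_quotient_self _

lemma step (𝔞 : Ideal A) (𝔟 : Ideal B) (hB : EGA41.IsFormallySmoothAdic A 𝔞 B 𝔟)
    (hAC : ∃ k : ℕ, (𝔞 ^ k).map (algebraMap A C) ≤ 𝔠) (hJ : ∃ t : ℕ, J ^ t ≤ 𝔠)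
    (u : B →ₐ[A] C ⧸ J) (hu : ∃ k : ℕ, (𝔟 ^ k).map u.toRingHom ≤ 𝔠.map (Ideal.Quotient.mk J))
    (n : ℕ) (v : B →ₐ[A] C ⧸ 𝔠 ^ n) (hv : (π A 𝔠 J n).comp v = (ρ A 𝔠 J n).comp u) :
    ∃ v' : B →ₐ[A] C ⧸ 𝔠 ^ (n + 1),
      (π A 𝔠 J (n + 1)).comp v' = (ρ A 𝔠 J (n + 1)).comp u ∧ (τ A 𝔠 n).comp v' = v := by
  have hψ : ∃ ψ : (C ⧸ 𝔠 ^ (n + 1)) →ₐ[A] (C ⧸ 𝔠 ^ n) × (C ⧸ (J ⊔ 𝔠 ^ (n + 1))),
      ψ = AlgHom.prod (τ A 𝔠 n) (π A 𝔠 J (n + 1)) := ⟨_, rfl⟩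
  obtain ⟨ψ, hψ⟩ := hψ
  have hψ1 : ∀ x, (ψ x).1 = τ A 𝔠 n x := fun x => by rw [hψ]; rfl
  have hψ2 : ∀ x, (ψ x).2 = π A 𝔠 J (n + 1) x := fun x => by rw [hψ]; rfl
  have hw : ∃ w : B →ₐ[A] (C ⧸ 𝔠 ^ n) × (C ⧸ (J ⊔ 𝔠 ^ (n + 1))),
      w = AlgHom.prod v ((ρ A 𝔠 J (n + 1)).comp u) := ⟨_, rfl⟩
  obtain ⟨w, hw⟩ := hw
  have hw1 : ∀ x, (w x).1 = v x := fun x => by rw [hw]; rfl
  have hw2 : ∀ x, (w x).2 = ρ A 𝔠 J (n + 1) (u x) := fun x => by rw [hw]; rfl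
  -- range condition
  have hrange : ∀ b, w b ∈ (Ideal.kerLiftAlg ψ).range := by
    intro b
    obtain ⟨c₁, hc₁⟩ := Ideal.Quotient.mk_surjective (v b)
    obtain ⟨c₂, hc₂⟩ := Ideal.Quotient.mk_surjective (u b)
    have h0 := congrArg (fun f => f b) hv
    simp only [AlgHom.comp_apply] at h0
    rw [← hc₁, ← hc₂] at h0
    have h1 : (Ideal.Quotient.mk (J ⊔ 𝔠 ^ n)) c₁ = (Ideal.Quotient.mk (J ⊔ 𝔠 ^ n)) c₂ := h0
    rw [Ideal.Quotient.eq] at h1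
    obtain ⟨j, hj, d, hd, hjd⟩ := Submodule.mem_sup.mp h1
    refine ⟨Ideal.Quotient.mk _ (Ideal.Quotient.mk (𝔠 ^ (n + 1)) (c₁ - d)), ?_⟩
    have h2 : (Ideal.kerLiftAlg ψ) (Ideal.Quotient.mk _ (Ideal.Quotient.mk (𝔠 ^ (n + 1)) (c₁ - d)))
        = ψ (Ideal.Quotient.mk (𝔠 ^ (n + 1)) (c₁ - d)) := Ideal.kerLiftAlg_mk ψ _
    show (Ideal.kerLiftAlg ψ) _ = w b
    rw [h2]
    apply Prod.ext
    · rw [hψ1, hw1, ← hc₁]
      show (Ideal.Quotient.mk (𝔠 ^ n)) (c₁ - d) = _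
      rw [map_sub, Ideal.Quotient.eq_zero_iff_mem.mpr hd, sub_zero]
    · rw [hψ2, hw2, ← hc₂]
      show (Ideal.Quotient.mk (J ⊔ 𝔠 ^ (n + 1))) (c₁ - d) = (Ideal.Quotient.mk (J ⊔ 𝔠 ^ (n + 1))) c₂
      rw [Ideal.Quotient.eq]
      have : c₁ - d - c₂ = j := by linear_combination (-1 : C) * hjd
      rw [this]
      exact le_sup_left (b := 𝔠 ^ (n + 1)) hj
  obtain ⟨w', hw'⟩ := exists_lift_of_injective (Ideal.kerLiftAlg ψ) (Ideal.kerLiftAlg_injective ψ) w hrange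
  -- nilpotence of the kernel
  have hKle : RingHom.ker ψ ≤ J.map (Ideal.Quotient.mk (𝔠 ^ (n + 1))) := by
    intro x hx
    apply ker_π_le (A := A) 𝔠 J (n + 1)
    have h1 : ψ x = 0 := hx
    have h2 := hψ2 x
    rw [h1] at h2
    exact h2.symm
  obtain ⟨t, ht⟩ := hJ
  have hKnil : IsNilpotent (RingHom.ker ψ) := by
    refine ⟨t * (n + 1), ?_⟩
    rw [Ideal.zero_eq_bot, eq_bot_iff, ← map_J_pow 𝔠 J ht (n + 1)]
    exact Ideal.pow_right_mono hKle _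
  -- w' kills a power of 𝔟
  obtain ⟨m₁, hm₁⟩ := v_kills 𝔠 J 𝔟 u hu ⟨t, ht⟩ n v hv
  obtain ⟨m₂, hm₂⟩ := u_kills 𝔠 J 𝔟 u hu (n + 1)
  have hkill : ∃ k : ℕ, ∀ x ∈ 𝔟 ^ k, w' x = 0 := by
    refine ⟨m₁ + m₂, fun x hx => ?_⟩
    apply Ideal.kerLiftAlg_injective ψ
    have h1 := congrArg (fun f => f x) hw'
    simp only [AlgHom.comp_apply] at h1
    rw [h1, map_zero]
    apply Prod.ext
    · rw [hw1]
      exact hm₁ x (Ideal.pow_le_pow_right (Nat.le_add_right m₁ m₂) hx)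
    · rw [hw2]
      exact hm₂ x (Ideal.pow_le_pow_right (Nat.le_add_left m₂ m₁) hx)
  obtain ⟨v', hv'⟩ := hB (C ⧸ 𝔠 ^ (n + 1)) (RingHom.ker ψ) hKnil (discrete_quot 𝔠 𝔞 hAC (n + 1)) w' hkill
  have key : ∀ b, ψ (v' b) = w b := by
    intro b
    have h1 := congrArg (fun f => f b) hw'
    have h2 := congrArg (fun f => f b) hv'
    simp only [AlgHom.comp_apply] at h1 h2
    rw [← h1, ← h2]
    exact (Ideal.kerLiftAlg_mk ψ (v' b)).symm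
  refine ⟨v', ?_, ?_⟩
  · ext b
    have := congrArg Prod.snd (key b)
    rw [hψ2, hw2] at this
    exact this
  · ext b
    have := congrArg Prod.fst (key b)
    rw [hψ1, hw1] at this
    exact this

lemma seq_exists (𝔞 : Ideal A) (𝔟 : Ideal B) (hB : EGA41.IsFormallySmoothAdic A 𝔞 B 𝔟)
    (hAC : ∃ k : ℕ, (𝔞 ^ k).map (algebraMap A C) ≤ 𝔠) (hJ : ∃ t : ℕ, J ^ t ≤ 𝔠)
    (u : B →ₐ[A] C ⧸ J) (hu : ∃ k : ℕ, (𝔟 ^ k).map u.toRingHom ≤ 𝔠.map (Ideal.Quotient.mk J)) :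
    ∃ f : (n : ℕ) → B →ₐ[A] C ⧸ 𝔠 ^ n, (∀ n, (π A 𝔠 J n).comp (f n) = (ρ A 𝔠 J n).comp u) ∧
      ∀ n, (τ A 𝔠 n).comp (f (n + 1)) = f n := by
  classical
  have hstep := step 𝔠 J 𝔞 𝔟 hB hAC hJ u hu
  have h0le : J ≤ 𝔠 ^ 0 := by rw [pow_zero, Ideal.one_eq_top]; exact le_top
  have s0 : {v : B →ₐ[A] C ⧸ 𝔠 ^ 0 // (π A 𝔠 J 0).comp v = (ρ A 𝔠 J 0).comp u} := by
    refine ⟨(Ideal.Quotient.factorₐ A h0le).comp u, ?_⟩
    ext b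
    obtain ⟨c, hc⟩ := Ideal.Quotient.mk_surjective (u b)
    simp only [AlgHom.comp_apply]
    rw [← hc]
    rfl
  let seq : (n : ℕ) → {v : B →ₐ[A] C ⧸ 𝔠 ^ n // (π A 𝔠 J n).comp v = (ρ A 𝔠 J n).comp u} :=
    fun n => Nat.rec s0 (fun n s => ⟨(hstep n s.1 s.2).choose, (hstep n s.1 s.2).choose_spec.1⟩) n
  refine ⟨fun n => (seq n).1, fun n => (seq n).2, fun n => ?_⟩
  exact (hstep n (seq n).1 (seq n).2).choose_spec.2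

end aux

/-- Let B (𝔟-adic) be formally smooth over A (𝔞-adic); let C be a topological A-algebra for the 𝔠-adic
topology (a power of 𝔞 maps into 𝔠) which is complete, and J an ideal which is closed, i.e. C/J is
Hausdorff for the 𝔠-adic topology, and whose powers tend to 0, i.e. some power of J lies in 𝔠. Then
every continuous A-algebra homomorphism u : B → C/J (a power of 𝔟 maps into the image of 𝔠) factors
as B → C → C/J with B → C a continuous A-algebra homomorphism (a power of 𝔟 maps into 𝔠). -/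
theorem result {A B C : Type u} [CommRing A] [CommRing B] [CommRing C] [Algebra A B]
    [Algebra A C] (𝔞 : Ideal A) (𝔟 : Ideal B) (𝔠 : Ideal C) (hB : EGA41.IsFormallySmoothAdic A 𝔞 B 𝔟)
    [IsAdicComplete 𝔠 C] (hAC : ∃ k : ℕ, (𝔞 ^ k).map (algebraMap A C) ≤ 𝔠)
    (J : Ideal C) (hJ : ∃ t : ℕ, J ^ t ≤ 𝔠) [IsHausdorff (𝔠.map (Ideal.Quotient.mk J)) (C ⧸ J)]
    (u : B →ₐ[A] C ⧸ J) (hu : ∃ k : ℕ, (𝔟 ^ k).map u.toRingHom ≤ 𝔠.map (Ideal.Quotient.mk J)) :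
    ∃ v : B →ₐ[A] C, (∃ k : ℕ, (𝔟 ^ k).map v.toRingHom ≤ 𝔠) ∧ (Ideal.Quotient.mkₐ A J).comp v = u := by
  obtain ⟨f, hf1, hf2⟩ := seq_exists 𝔠 J 𝔞 𝔟 hB hAC hJ u hu
  -- compatibility for all m ≤ n
  have hcompat : ∀ {m n : ℕ} (hle : m ≤ n),
      (Ideal.Quotient.factorₐ A (Ideal.pow_le_pow_right hle)).comp (f n) = f m := by
    intro m n hle
    induction n, hle using Nat.le_induction with
    | base =>
      ext b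
      obtain ⟨c, hc⟩ := Ideal.Quotient.mk_surjective (f m b)
      simp only [AlgHom.comp_apply]
      rw [← hc]
      rfl
    | succ n hmn ih =>
      ext b
      have h1 := congrArg (fun g => g b) (hf2 n)
      have h2 := congrArg (fun g => g b) ih
      simp only [AlgHom.comp_apply] at h1 h2 ⊢
      rw [← h2, ← h1]
      obtain ⟨c, hc⟩ := Ideal.Quotient.mk_surjective (f (n + 1) b)
      rw [← hc]
      rfl
  refine ⟨IsAdicComplete.liftAlgHom 𝔠 f hcompat, ?_, ?_⟩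
  · -- continuity
    obtain ⟨m, hm⟩ := v_kills 𝔠 J 𝔟 u hu hJ 1 (f 1) (hf1 1)
    refine ⟨m, ?_⟩
    rw [Ideal.map_le_iff_le_comap]
    intro x hx
    have h1 : (Ideal.Quotient.mk (𝔠 ^ 1)) (IsAdicComplete.liftAlgHom 𝔠 f hcompat x) = f 1 x :=
      IsAdicComplete.mk_liftAlgHom 𝔠 f hcompat 1 x
    rw [hm x hx, Ideal.Quotient.eq_zero_iff_mem, pow_one] at h1
    exact h1
  · -- lifting property, by Hausdorffness
    ext b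
    rw [← sub_eq_zero]
    apply IsHausdorff.haus' (I := 𝔠.map (Ideal.Quotient.mk J))
    intro n
    rw [SModEq.zero, smul_eq_mul, Ideal.mul_top, ← Ideal.map_pow]
    obtain ⟨c, hc⟩ := Ideal.Quotient.mk_surjective (u b)
    have h1 : (Ideal.Quotient.mk (𝔠 ^ n)) (IsAdicComplete.liftAlgHom 𝔠 f hcompat b) = f n b :=
      IsAdicComplete.mk_liftAlgHom 𝔠 f hcompat n b
    have h2 := congrArg (fun g => g b) (hf1 n)
    simp only [AlgHom.comp_apply] at h2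
    rw [← h1, ← hc] at h2
    have h3 : (Ideal.Quotient.mk (J ⊔ 𝔠 ^ n)) (IsAdicComplete.liftAlgHom 𝔠 f hcompat b)
        = (Ideal.Quotient.mk (J ⊔ 𝔠 ^ n)) c := h2
    rw [Ideal.Quotient.eq] at h3
    obtain ⟨j, hj, d, hd, hjd⟩ := Submodule.mem_sup.mp h3
    have h4 : ((Ideal.Quotient.mkₐ A J).comp (IsAdicComplete.liftAlgHom 𝔠 f hcompat)) b - u b
        = Ideal.Quotient.mk J d := by
      rw [← hc]
      show Ideal.Quotient.mk J (IsAdicComplete.liftAlgHom 𝔠 f hcompat b) - Ideal.Quotient.mk J c = _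
      rw [← map_sub, ← hjd, map_add, Ideal.Quotient.eq_zero_iff_mem.mpr hj, zero_add]
    rw [h4]
    exact Ideal.mem_map_of_mem _ hd

end Groth.Agent.S4542
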