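import Groth.Statements.S2462
import Groth.Agent.S4542
import Mathlib

set_option autoImplicit false
universe u
open EGA41

namespace Groth.Agent.S2462

open IsLocalRing in
/-- Let A carry the 𝔞-adic and B the 𝔟-adic topology with B formally smooth over A; let C be a complete
Noetherian local A-algebra with 𝔞C inside the maximal ideal (continuity of A → C) and J ≠ C an
ideal. Then every A-algebra homomorphism u : B → C/J sending 𝔟 into the maximal ideal of C/J
(continuity) is induced by an A-algebra homomorphism v : B → C sending 𝔟 into the maximal ideal of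
C. -/
theorem result {A B C : Type u} [CommRing A] (𝔞 : Ideal A) [CommRing B] [Algebra A B] (𝔟 : Ideal B)
    (hB : EGA41.IsFormallySmoothAdic A 𝔞 B 𝔟)
    [CommRing C] [IsLocalRing C] [IsNoetherianRing C] [IsAdicComplete (maximalIdeal C) C] [Algebra A C]
    (hA : 𝔞.map (algebraMap A C) ≤ maximalIdeal C) (J : Ideal C) (hJ : J ≠ ⊤)
    (u : B →ₐ[A] C ⧸ J) (hu : 𝔟.map u.toRingHom ≤ (maximalIdeal C).map (Ideal.Quotient.mk J)) :
    ∃ v : B →ₐ[A] C, 𝔟.map v.toRingHom ≤ maximalIdeal C ∧ (Ideal.Quotient.mkₐ A J).comp v = u := by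
  have hJle : J ≤ maximalIdeal C := IsLocalRing.le_maximalIdeal hJ
  haveI : Nontrivial (C ⧸ J) := Ideal.Quotient.nontrivial_iff.mpr hJ
  haveI : IsLocalRing (C ⧸ J) :=
    IsLocalRing.of_surjective' (Ideal.Quotient.mk J) Ideal.Quotient.mk_surjective
  have hne : (maximalIdeal C).map (Ideal.Quotient.mk J) ≠ ⊤ := by
    intro h
    have h1 : (1 : C ⧸ J) ∈ (maximalIdeal C).map (Ideal.Quotient.mk J) := by rw [h]; trivial
    obtain ⟨m, hm, hm1⟩ :=
      (Ideal.mem_map_iff_of_surjective _ Ideal.Quotient.mk_surjective).mp h1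
    have h2 : m - 1 ∈ J := by
      rw [← Ideal.Quotient.eq]; exact hm1
    have h3 : (1 : C) ∈ maximalIdeal C := by
      have : (1 : C) = m - (m - 1) := by ring
      rw [this]
      exact Ideal.sub_mem _ hm (hJle h2)
    exact (Ideal.ne_top_iff_one _).mp (IsLocalRing.maximalIdeal.isMaximal C).ne_top h3
  haveI : IsHausdorff ((maximalIdeal C).map (Ideal.Quotient.mk J)) (C ⧸ J) :=
    IsHausdorff.of_isLocalRing _ _ hne
  obtain ⟨v, -, hv⟩ := Groth.Agent.S4542.result 𝔞 𝔟 (maximalIdeal C) hB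
    ⟨1, by rw [pow_one]; exact hA⟩ J ⟨1, by rw [pow_one]; exact hJle⟩ u
    ⟨1, by rw [pow_one]; exact hu⟩
  refine ⟨v, ?_, hv⟩
  rw [Ideal.map_le_iff_le_comap]
  intro x hx
  rw [Ideal.mem_comap]
  have h1 : u.toRingHom x ∈ (maximalIdeal C).map (Ideal.Quotient.mk J) :=
    hu (Ideal.mem_map_of_mem _ hx)
  obtain ⟨m, hm, hmx⟩ := (Ideal.mem_map_iff_of_surjective _ Ideal.Quotient.mk_surjective).mp h1
  have h2 : Ideal.Quotient.mk J (v x) = u x := congrArg (fun f => f x) hv
  have h3 : v x - m ∈ J := by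
    rw [← Ideal.Quotient.eq, h2]; exact hmx.symm
  have : v.toRingHom x = m + (v x - m) := by
    show v x = _
    ring
  rw [this]
  exact Ideal.add_mem _ hm (hJle h3)

end Groth.Agent.S2462
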