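import Groth.Statements.S2463
import Groth.Agent.LibFSLocus29
-- import your own Groth.Agent.* helpers here

set_option autoImplicit false
universe u
open EGA41

namespace Groth.Agent.S2463
open TensorProduct KaehlerDifferential Groth.Agent.LibFSLocus29

theorem injective_lTensor_iff {A B C : Type u} [CommRing A] [CommRing B] [CommRing C] [Algebra A B]
    [Algebra B C] [Algebra A C] [IsScalarTower A B C]
    (hsurj : Function.Surjective (algebraMap B C)) (p : Ideal C) [p.IsPrime] :
    Function.Injective ((kerCotangentToTensor A B C).lTensor p.ResidueField) ↔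
    Function.Injective ((ext (A := A) hsurj).cotangentComplex.baseChange p.ResidueField) := by
  have hc1 : TensorProduct.CompatibleSMul B C p.ResidueField (ext (A := A) hsurj).Cotangent :=
    ⟨fun c m n => by
      obtain ⟨b, rfl⟩ := hsurj c
      rw [algebraMap_smul, algebraMap_smul, TensorProduct.smul_tmul]⟩
  have hc2 : TensorProduct.CompatibleSMul B C p.ResidueField
      (ext (A := A) hsurj).CotangentSpace :=
    ⟨fun c m n => by
      obtain ⟨b, rfl⟩ := hsurj c
      rw [algebraMap_smul, algebraMap_smul, TensorProduct.smul_tmul]⟩
  let e1 : p.ResidueField ⊗[B] (RingHom.ker (algebraMap B C)).Cotangent ≃ₗ[B]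
      p.ResidueField ⊗[C] (ext (A := A) hsurj).Cotangent :=
    (TensorProduct.congr (LinearEquiv.refl B p.ResidueField)
      (ext (A := A) hsurj).cotangentEquivCotangentKer.symm) ≪≫ₗ
      (TensorProduct.equivOfCompatibleSMul C B B p.ResidueField (ext (A := A) hsurj).Cotangent)
  let e2 : p.ResidueField ⊗[B] (C ⊗[B] Ω[B⁄A]) ≃ₗ[B]
      p.ResidueField ⊗[C] (ext (A := A) hsurj).CotangentSpace :=
    TensorProduct.equivOfCompatibleSMul C B B p.ResidueField _
  have comm : e2.toLinearMap ∘ₗ (kerCotangentToTensor A B C).lTensor p.ResidueField =
      ((ext (A := A) hsurj).cotangentComplex.baseChange p.ResidueField).restrictScalars B ∘ₗ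
        e1.toLinearMap := by
    ext a x
    obtain ⟨x, rfl⟩ := Ideal.toCotangent_surjective _ x
    simp only [AlgebraTensorModule.curry_apply, TensorProduct.curry_apply,
      LinearMap.coe_restrictScalars, LinearMap.comp_apply, LinearMap.lTensor_tmul,
      LinearEquiv.coe_coe, e1, e2, LinearEquiv.trans_apply, TensorProduct.congr_tmul,
      LinearEquiv.refl_apply, kerCotangentToTensor_toCotangent]
    change a ⊗ₜ[C] ((1 : C) ⊗ₜ[B] (D A B x.1)) =
      ((ext (A := A) hsurj).cotangentComplex.baseChange p.ResidueField)
        (a ⊗ₜ[C] Algebra.Extension.Cotangent.mk x)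
    rw [LinearMap.baseChange_tmul, Algebra.Extension.cotangentComplex_mk]
  constructor
  · intro h x y hxy
    obtain ⟨x', rfl⟩ := e1.surjective x
    obtain ⟨y', rfl⟩ := e1.surjective y
    have h1 := LinearMap.congr_fun comm x'
    have h2 := LinearMap.congr_fun comm y'
    simp only [LinearMap.comp_apply, LinearMap.coe_restrictScalars, LinearEquiv.coe_coe]
      at h1 h2
    rw [← h1, ← h2] at hxy
    exact congrArg e1 (h (e2.injective hxy))
  · intro h x y hxy
    have h1 := LinearMap.congr_fun comm x
    have h2 := LinearMap.congr_fun comm y
    simp only [LinearMap.comp_apply, LinearMap.coe_restrictScalars, LinearEquiv.coe_coe]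
      at h1 h2
    rw [hxy, h2] at h1
    exact e1.injective (h h1).symm


open TensorProduct KaehlerDifferential in
/-- Let B be a formally smooth A-algebra (discrete topologies), B → C a surjection with kernel J such
that J/J² is a finitely generated module (over B, equivalently over C), and p a prime of C. The
following are equivalent: the local ring C_p is formally smooth over A; the map κ(p) ⊗ J/J² → κ(p) ⊗
(C ⊗_B Ω_{B/A}) induced by d is injective (tensor products over B, which agree with those over C =
B/J); there is f ∈ C outside p with C_f formally smooth over A. -/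
theorem result {A B C : Type u} [CommRing A] [CommRing B] [CommRing C] [Algebra A B] [Algebra B C] [Algebra A C]
    [IsScalarTower A B C] [Algebra.FormallySmooth A B] (hsurj : Function.Surjective (algebraMap B C))
    [Module.Finite B (RingHom.ker (algebraMap B C)).Cotangent] (p : Ideal C) [p.IsPrime] :
    [Algebra.FormallySmooth A (Localization.AtPrime p),
     Function.Injective ((kerCotangentToTensor A B C).lTensor p.ResidueField),
     ∃ f : C, f ∉ p ∧ Algebra.FormallySmooth A (Localization.Away f)].TFAE := by
  tfae_have 1 ↔ 2 := by
    rw [injective_lTensor_iff hsurj p]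
    exact (injective_iff_formallySmooth hsurj p).symm
  tfae_have 1 ↔ 3 := formallySmooth_atPrime_iff_exists_away hsurj p
  tfae_finish

end Groth.Agent.S2463
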