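import Groth.Statements.S2464
import Groth.Agent.Lib.Helper17.PBasis
import Mathlib

set_option autoImplicit false
universe u
open EGA41

namespace Groth.Agent.S2464

/-- Let p be a prime, B a ring of characteristic p and A → B an injective ring map whose image contains
every p-th power, and (x_α) a p-basis of B over A. Let E be an A-algebra and q : E → B a surjective
A-algebra homomorphism whose kernel K has K^p = 0. (i) q admits an A-algebra right inverse if and
only if, for all z ∈ E and a ∈ A with a ↦ q(z)^p in B, the image of a in E is z^p. (ii) When this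
holds, for every family (z_α) in E with q(z_α) = x_α there is a unique A-algebra homomorphism v : B
→ E with v(x_α) = z_α for all α, and q ∘ v is the identity. -/
theorem result (p : ℕ) [Fact p.Prime] {A B : Type u} [CommRing A] [CommRing B] [Algebra A B] [CharP B p]
    (hinj : Function.Injective (algebraMap A B)) (hpow : ∀ b : B, b ^ p ∈ Set.range (algebraMap A B))
    {ι : Type u} (x : ι → B) (hx : EGA41.IsPBasis p A x)
    {E : Type u} [CommRing E] [Algebra A E] (q : E →ₐ[A] B) (hq : Function.Surjective q) (hK : RingHom.ker q.toRingHom ^ p = ⊥) :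
    ((∃ v : B →ₐ[A] E, q.comp v = AlgHom.id A B) ↔ ∀ (z : E) (a : A), algebraMap A B a = q z ^ p → algebraMap A E a = z ^ p) ∧
    ((∀ (z : E) (a : A), algebraMap A B a = q z ^ p → algebraMap A E a = z ^ p) →
      ∀ z : ι → E, (∀ i, q (z i) = x i) →
        (∃! v : B →ₐ[A] E, ∀ i, v (x i) = z i) ∧ ∀ v : B →ₐ[A] E, (∀ i, v (x i) = z i) → q.comp v = AlgHom.id A B) := by
  classical
  have hp : p.Prime := Fact.out
  have hRle : ∀ r : EGA41.pPowerSubalgebra p A B, ∃ a : A, algebraMap A B a = (r : B) := by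
    rintro ⟨r, hr⟩
    have hle : EGA41.pPowerSubalgebra p A B ≤ (⊥ : Subalgebra A B) := by
      apply Algebra.adjoin_le
      rintro _ ⟨b, rfl⟩
      exact Algebra.mem_bot.mpr (hpow b)
    exact Algebra.mem_bot.mp (hle hr)
  choose ρ₀ hρ₀ using hRle
  obtain ⟨ρ, hρ⟩ : ∃ ρ : EGA41.pPowerSubalgebra p A B →+* A, ∀ r, algebraMap A B (ρ r) = (r : B) :=
    ⟨{ toFun := ρ₀
       map_one' := hinj (by rw [hρ₀, map_one]; rfl)
       map_mul' := fun r s => hinj (by rw [map_mul, hρ₀, hρ₀, hρ₀]; rfl)
       map_zero' := hinj (by rw [hρ₀, map_zero]; rfl)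
       map_add' := fun r s => hinj (by rw [map_add, hρ₀, hρ₀, hρ₀]; rfl) }, hρ₀⟩
  have hρ_alg : ∀ (a : A) (h : algebraMap A B a ∈ EGA41.pPowerSubalgebra p A B),
      ρ ⟨algebraMap A B a, h⟩ = a := fun a h => hinj (hρ _)
  letI : Algebra (EGA41.pPowerSubalgebra p A B) E := ((algebraMap A E).comp ρ).toAlgebra
  have halg : ∀ r, algebraMap (EGA41.pPowerSubalgebra p A B) E r = algebraMap A E (ρ r) :=
    fun r => rfl
  -- p = 0 in E
  have hpA : (p : A) = 0 := hinj (by rw [map_natCast, CharP.cast_eq_zero, map_zero])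
  have hpE : (p : E) = 0 := by
    rw [← map_natCast (algebraMap A E), hpA, map_zero]
  -- conversion between A- and R-algebra homs
  have toR : ∀ v : B →ₐ[A] E, ∃ w : B →ₐ[EGA41.pPowerSubalgebra p A B] E, ∀ b, w b = v b := by
    intro v
    refine ⟨{ v.toRingHom with commutes' := fun r => ?_ }, fun b => rfl⟩
    show v (r : B) = _
    rw [← hρ r, v.commutes, halg]
  have toA : ∀ w : B →ₐ[EGA41.pPowerSubalgebra p A B] E, ∃ v : B →ₐ[A] E, ∀ b, v b = w b := by
    intro w
    refine ⟨{ w.toRingHom with commutes' := fun a => ?_ }, fun b => rfl⟩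
    have hmem : algebraMap A B a ∈ EGA41.pPowerSubalgebra p A B := Subalgebra.algebraMap_mem _ a
    have := w.commutes ⟨algebraMap A B a, hmem⟩
    rw [halg, hρ_alg] at this
    exact this
  have hfwd : (∃ v : B →ₐ[A] E, q.comp v = AlgHom.id A B) →
      ∀ (z : E) (a : A), algebraMap A B a = q z ^ p → algebraMap A E a = z ^ p := by
    rintro ⟨v, hv⟩ z a hza
    have hqv : ∀ b, q (v b) = b := fun b => AlgHom.congr_fun hv b
    have hk : z - v (q z) ∈ RingHom.ker q.toRingHom := by
      rw [RingHom.mem_ker]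
      show q (z - v (q z)) = 0
      rw [map_sub, hqv, sub_self]
    have hkp : (z - v (q z)) ^ p = 0 := by
      have := Ideal.pow_mem_pow hk p
      rwa [hK] at this
    have h2 : z ^ p = v (q z) ^ p + (z - v (q z)) ^ p := by
      rw [← Groth.Agent.Lib.helper17.PBasis.add_pow_of_natCast_eq_zero p hp hpE]
      congr 1; ring
    rw [h2, hkp, add_zero, ← map_pow, ← hza, v.commutes]
  have hmain : (∀ (z : E) (a : A), algebraMap A B a = q z ^ p → algebraMap A E a = z ^ p) →
      ∀ z : ι → E, (∀ i, q (z i) = x i) →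
        (∃! v : B →ₐ[A] E, ∀ i, v (x i) = z i) ∧
          ∀ v : B →ₐ[A] E, (∀ i, v (x i) = z i) → q.comp v = AlgHom.id A B := by
    intro hc z hz
    have hzp : ∀ i, z i ^ p = algebraMap (EGA41.pPowerSubalgebra p A B) E
        (Groth.Agent.Lib.helper17.PBasis.ppow p A (x i)) := by
      intro i
      rw [halg]
      refine (hc (z i) _ ?_).symm
      rw [hρ, hz]; rfl
    obtain ⟨w, hw, hwu⟩ := Groth.Agent.Lib.helper17.PBasis.existsUnique_algHom hx z hzp
    obtain ⟨v, hv⟩ := toA w
    have huniq : ∀ v' : B →ₐ[A] E, (∀ i, v' (x i) = z i) → v' = v := by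
      intro v' hv'
      obtain ⟨w', hw'⟩ := toR v'
      have := hwu w' (fun i => by rw [hw', hv'])
      ext b
      rw [← hw', this, hv]
    refine ⟨⟨v, fun i => by rw [hv, hw], huniq⟩, fun v' hv' => ?_⟩
    -- q ∘ v' = id via uniqueness for E = B
    have hxx : ∀ i, x i ^ p = algebraMap (EGA41.pPowerSubalgebra p A B) B
        (Groth.Agent.Lib.helper17.PBasis.ppow p A (x i)) := fun i => rfl
    obtain ⟨w₁, -, hw₁⟩ := Groth.Agent.Lib.helper17.PBasis.existsUnique_algHom hx x hxx
    obtain ⟨w', hw'⟩ := toR v'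
    let qR : E →ₐ[EGA41.pPowerSubalgebra p A B] B :=
      { q.toRingHom with
        commutes' := fun r => by
          show q (algebraMap (EGA41.pPowerSubalgebra p A B) E r) = (r : B)
          rw [halg, q.commutes, hρ] }
    have hqR : ∀ e, qR e = q e := fun e => rfl
    have h1 : qR.comp w' = w₁ := hw₁ _ (fun i => by
      rw [AlgHom.comp_apply, hqR, hw', hv', hz])
    have h2 : AlgHom.id _ B = w₁ := hw₁ _ (fun i => rfl)
    ext b
    have := AlgHom.congr_fun (h1.trans h2.symm) b
    simpa [hqR, hw'] using this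
  refine ⟨⟨hfwd, fun hc => ?_⟩, hmain⟩
  choose z hz using fun i => hq (x i)
  obtain ⟨⟨v, hv, -⟩, hqv⟩ := hmain hc z hz
  exact ⟨v, hqv v hv⟩

end Groth.Agent.S2464
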