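import Groth.Statements.S2465
import Groth.Agent.Lib.Helper17.PBasis
import Mathlib

set_option autoImplicit false
universe u
open EGA41

namespace Groth.Agent.S2465

/-- Let p be a prime, B a ring of characteristic p, A → B injective with image containing all p-th
powers, (x_α) a p-basis of B over A, and L a B-module. (i) An additive derivation D : A → L extends
to a derivation of B if and only if D vanishes on the elements of A mapping to p-th powers. (ii) In
that case, for every family (y_α) in L there is a unique derivation D' of B into L extending D with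
D'(x_α) = y_α for all α. -/
theorem result (p : ℕ) [Fact p.Prime] {A B : Type u} [CommRing A] [CommRing B] [Algebra A B] [CharP B p]
    (hinj : Function.Injective (algebraMap A B)) (hpow : ∀ b : B, b ^ p ∈ Set.range (algebraMap A B))
    {ι : Type u} (x : ι → B) (hx : EGA41.IsPBasis p A x)
    (L : Type u) [AddCommGroup L] [Module B L] [Module A L] [IsScalarTower A B L] (D : Derivation ℤ A L) :
    ((∃ D' : Derivation ℤ B L, ∀ a : A, D' (algebraMap A B a) = D a) ↔ ∀ (a : A) (b : B), algebraMap A B a = b ^ p → D a = 0) ∧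
    ((∀ (a : A) (b : B), algebraMap A B a = b ^ p → D a = 0) →
      ∀ y : ι → L, ∃! D' : Derivation ℤ B L, (∀ a : A, D' (algebraMap A B a) = D a) ∧ ∀ i, D' (x i) = y i) := by
  classical
  have hRle : ∀ r : EGA41.pPowerSubalgebra p A B, ∃ a : A, algebraMap A B a = (r : B) := by
    rintro ⟨r, hr⟩
    have hle : EGA41.pPowerSubalgebra p A B ≤ (⊥ : Subalgebra A B) := by
      apply Algebra.adjoin_le
      rintro _ ⟨b, rfl⟩
      exact Algebra.mem_bot.mpr (hpow b)
    exact Algebra.mem_bot.mp (hle hr)
  choose ρ hρ using hRle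
  have hρ_alg : ∀ (a : A) (h : algebraMap A B a ∈ EGA41.pPowerSubalgebra p A B),
      ρ ⟨algebraMap A B a, h⟩ = a := fun a h => hinj (hρ _)
  have hρ_add : ∀ r s, ρ (r + s) = ρ r + ρ s := by
    intro r s
    apply hinj
    rw [map_add, hρ, hρ, hρ]; rfl
  have hρ_mul : ∀ r s, ρ (r * s) = ρ r * ρ s := by
    intro r s
    apply hinj
    rw [map_mul, hρ, hρ, hρ]; rfl
  have hsm : ∀ (r : EGA41.pPowerSubalgebra p A B) (l : L), (r : B) • l = ρ r • l := by
    intro r l
    rw [← hρ r, algebraMap_smul]
  have hfwd : (∃ D' : Derivation ℤ B L, ∀ a : A, D' (algebraMap A B a) = D a) →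
      ∀ (a : A) (b : B), algebraMap A B a = b ^ p → D a = 0 := by
    rintro ⟨D', hD'⟩ a b hab
    rw [← hD', hab, Derivation.leibniz_pow, ← Nat.cast_smul_eq_nsmul B, CharP.cast_eq_zero,
      zero_smul]
  have hmain : (∀ (a : A) (b : B), algebraMap A B a = b ^ p → D a = 0) →
      ∀ y : ι → L, ∃! D' : Derivation ℤ B L,
        (∀ a : A, D' (algebraMap A B a) = D a) ∧ ∀ i, D' (x i) = y i := by
    intro hc y
    obtain ⟨D', ⟨hD'r, hD'x⟩, hD'u⟩ :=
      Groth.Agent.Lib.helper17.PBasis.existsUnique_derivation hx L (fun r => D (ρ r))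
        (fun r s => by rw [hρ_add, map_add])
        (fun r s => by
          rw [hρ_mul, Derivation.leibniz, hsm, hsm])
        (fun i => hc _ (x i) (hρ _)) y
    refine ⟨D', ⟨fun a => ?_, hD'x⟩, ?_⟩
    · have hmem : algebraMap A B a ∈ EGA41.pPowerSubalgebra p A B :=
        Subalgebra.algebraMap_mem _ a
      have := hD'r ⟨algebraMap A B a, hmem⟩
      rw [hρ_alg] at this
      exact this
    · rintro D'' ⟨h1, h2⟩
      apply hD'u
      refine ⟨fun r => ?_, h2⟩
      rw [← hρ r, h1]
  refine ⟨⟨hfwd, fun hc => ?_⟩, hmain⟩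
  obtain ⟨D', ⟨h1, -⟩, -⟩ := hmain hc (fun _ => 0)
  exact ⟨D', h1⟩

end Groth.Agent.S2465
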