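import Groth.Statements.S2467
import Groth.Agent.LibPB29b
-- import your own Groth.Agent.* helpers here

set_option autoImplicit false
universe u
open EGA41

namespace Groth.Agent.S2467

open Groth.Agent.LibPB29


/-- Let k ⊆ K be fields of characteristic p > 0, S ⊆ K a system of p-generators of K over k and L ⊆ S a
subset which is p-free over k. Then there is a p-basis B of K over k with L ⊆ B ⊆ S. In particular
every extension of k has a p-basis over k. -/
theorem result (p : ℕ) [Fact p.Prime] {k K : Type u} [Field k] [Field K] [Algebra k K] [CharP K p]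
    (S L : Set K) (hLS : L ⊆ S) (hS : EGA41.IsPGenerating p k (Subtype.val : S → K)) (hL : EGA41.IsPIndependent p k (Subtype.val : L → K)) :
    ∃ B : Set K, L ⊆ B ∧ B ⊆ S ∧ EGA41.IsPBasis p k (Subtype.val : B → K) := by
  let _ : Field (pPowerSubalgebra p k K) := (isField_R p k K).toField
  have hF := hF_R p k K
  rw [isPGenerating_subtype_iff] at hS
  rw [isPIndependent_subtype_iff] at hL
  obtain ⟨B, hLB, hBS, hBfree, hBgen⟩ := exists_maximal_freeOn p (id : K → K) hF hLS hL
  refine ⟨B, hLB, hBS, ?_, ?_⟩
  · rw [isPIndependent_subtype_iff]; exact hBfree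
  · rw [isPGenerating_subtype_iff]
    rw [eq_top_iff, ← hS]
    exact V_le_of_forall_mem p hF id hBgen

end Groth.Agent.S2467
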