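import Groth.Statements.S2472
import Groth.Agent.LibAdicFS29d
-- import your own Groth.Agent.* helpers here

set_option autoImplicit false
universe u
open EGA41

namespace Groth.Agent.S2472

open IsLocalRing in
/-- Existence part and the range of dimensions: let k ⊆ K be fields. There is a Noetherian local
k-algebra A, formally smooth over k for its adic topology, whose residue field is k-isomorphic to K,
if and only if Υ_{K/k} is a finite-dimensional K-vector space. When this holds, for every integer n
≥ rank Υ_{K/k} there is such an A which is moreover complete and of dimension n. (The source's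
uniqueness-up-to-isomorphism clause for a given dimension is not stated.) -/
theorem result {k K : Type u} [Field k] [Field K] [Algebra k K] :
    ((∃ (A : Type u) (_ : CommRing A) (_ : IsLocalRing A) (_ : IsNoetherianRing A) (_ : Algebra k A),
        CAlgX.IsAdicFormallySmooth k A (maximalIdeal A) ∧ Nonempty (ResidueField A ≃ₐ[k] K)) ↔
      Module.Finite K (EGA41.imperfection ℤ k K)) ∧
    (Module.Finite K (EGA41.imperfection ℤ k K) → ∀ n : ℕ, Module.finrank K (EGA41.imperfection ℤ k K) ≤ n →
      ∃ (A : Type u) (_ : CommRing A) (_ : IsLocalRing A) (_ : IsNoetherianRing A) (_ : Algebra k A),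
        IsAdicComplete (maximalIdeal A) A ∧ CAlgX.IsAdicFormallySmooth k A (maximalIdeal A) ∧
        Nonempty (ResidueField A ≃ₐ[k] K) ∧ ringKrullDim A = n) := by
  classical
  have part2 : Module.Finite K (EGA41.imperfection ℤ k K) → ∀ n : ℕ,
      Module.finrank K (EGA41.imperfection ℤ k K) ≤ n →
      ∃ (A : Type u) (_ : CommRing A) (_ : IsLocalRing A) (_ : IsNoetherianRing A)
        (_ : Algebra k A),
        IsAdicComplete (maximalIdeal A) A ∧ CAlgX.IsAdicFormallySmooth k A (maximalIdeal A) ∧
        Nonempty (ResidueField A ≃ₐ[k] K) ∧ ringKrullDim A = n := by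
    intro hfin n hn
    obtain ⟨φ, hcc, hfs⟩ :=
      Groth.Agent.LibAdicFS29.exists_formallySmooth_powerSeries k K hfin n hn
    have hreg := Groth.Agent.LibObs29.isRegularLocalRing_mvPowerSeries K n
    haveI : IsNoetherianRing (MvPowerSeries (Fin n) K) := by
      haveI := hreg
      infer_instance
    refine ⟨MvPowerSeries (Fin n) K, inferInstance, inferInstance, inferInstance, φ.toAlgebra,
      Groth.Agent.LibCR29.isAdicComplete_mvPowerSeries n K, hfs, ?_, ?_⟩
    · letI : Algebra k (MvPowerSeries (Fin n) K) := φ.toAlgebra
      let cc : MvPowerSeries (Fin n) K →ₐ[k] K :=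
        { (MvPowerSeries.constantCoeff : MvPowerSeries (Fin n) K →+* K) with
          commutes' := fun x => hcc x }
      exact Groth.Agent.LibAdicFS29.nonempty_residueField_algEquiv (MvPowerSeries (Fin n) K) K cc
        (fun c => ⟨MvPowerSeries.C c, MvPowerSeries.constantCoeff_C c⟩)
    · exact le_antisymm (Groth.Agent.Lib.Helper24.PSDim.ringKrullDim_mvPowerSeries_field_le K n)
        (Groth.Agent.LibObs29.le_ringKrullDim_mvPowerSeries K n)
  refine ⟨⟨?_, ?_⟩, part2⟩
  · rintro ⟨A, iA1, iA2, iA3, iA4, hfs, ⟨e⟩⟩
    letI : Algebra A K := ((e : ResidueField A →+* K).comp (residue A)).toAlgebra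
    haveI : IsScalarTower k A K := IsScalarTower.of_algebraMap_eq fun x => by
      show algebraMap k K x = e (residue A (algebraMap k A x))
      have : residue A (algebraMap k A x) = algebraMap k (ResidueField A) x := rfl
      rw [this, e.commutes]
    have hsurj : Function.Surjective (algebraMap A K) :=
      e.surjective.comp Ideal.Quotient.mk_surjective
    have hinjL := ((Groth.Agent.LibAdicFS29.main_field k A).1 hfs).2
    have hinjK : Function.Injective ((KaehlerDifferential.mapBaseChange ℤ k A).baseChange K) :=
      (Groth.Agent.LibAdicFS29.injective_lTensor_iff A K hsurj _).1 hinjL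
    exact Groth.Agent.LibAdicFS29.finite_imperfection_of_injective k A K hsurj hinjK
  · intro hfin
    obtain ⟨A, i1, i2, i3, i4, -, hfs, he, -⟩ := part2 hfin _ le_rfl
    exact ⟨A, i1, i2, i3, i4, hfs, he⟩

end Groth.Agent.S2472
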