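import Groth.Statements.S2473
import Mathlib
import Groth.Agent.Lib.Helper19.PPoly5
import Groth.Agent.Lib.Helper24.SmoothRegularIff

set_option autoImplicit false
universe u
open EGA41

namespace Groth.Agent.S2473

-- MARK


open IsLocalRing TensorProduct in
/-- Let A be a regular local ring whose residue field K has characteristic p > 0; for 1 ≤ i ≤ r let F_i
= T_i^p + p Σ_{j=1}^{p-1} c_{ij} T_i^{p-j} − f_i with c_{ij}, f_i ∈ A, and let B be the quotient of
A[T_1, …, T_r] by the ideal generated by the F_i. Then B is a local ring, and B is regular if and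
only if the elements d f_i ⊗ 1 of Ω_{A/ℤ} ⊗_A K are linearly independent over K. Assumed in
addition: p lies in the square of the maximal ideal of A (which covers the case where A has
characteristic p); the printed statement omits this, and the equivalence can fail for A absolutely
unramified, e.g. A = ℤ_(p), r = 1, f_1 = p. (Condition (c) of the source, on the characteristic
homomorphism Ξ, is not stated.) -/
theorem result {A : Type u} [CommRing A] [IsRegularLocalRing A] (p : ℕ) [Fact p.Prime] [CharP (ResidueField A) p]
    {r : ℕ} (c : Fin r → Fin p → A) (f : Fin r → A)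
    (hp : (p : A) ∈ maximalIdeal A ^ 2) :
    let F : Fin r → MvPolynomial (Fin r) A := fun i =>
      MvPolynomial.X i ^ p + (p : MvPolynomial (Fin r) A) * (Finset.univ.sum fun j : Fin p =>
        if (j : ℕ) = 0 then 0 else MvPolynomial.C (c i j) * MvPolynomial.X i ^ (p - (j : ℕ))) - MvPolynomial.C (f i)
    IsLocalRing (MvPolynomial (Fin r) A ⧸ Ideal.span (Set.range F)) ∧
      (IsRegularRing (MvPolynomial (Fin r) A ⧸ Ideal.span (Set.range F)) ↔
        LinearIndependent (ResidueField A) (fun i => (1 : ResidueField A) ⊗ₜ[A] KaehlerDifferential.D ℤ A (f i))) := by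
    classical
  intro F
  open Groth.Agent.Lib.helper19.PPoly IsLocalRing in
  have hpp : p.Prime := Fact.out
  let G : Fin r → Polynomial A := fun i => Finset.univ.sum fun j : Fin p =>
    if (j : ℕ) = 0 then 0 else Polynomial.C (c i j) * Polynomial.X ^ (p - (j : ℕ))
  let P : Fin r → Polynomial A := fun i =>
    Polynomial.X ^ p + (p : Polynomial A) * G i - Polynomial.C (f i)
  have hP : ∀ i, P i = Polynomial.X ^ p + (p : Polynomial A) * G i - Polynomial.C (f i) :=
    fun i => rfl
  have hmon : ∀ i, (P i).Monic := by
    intro i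
    have h1 : P i = Polynomial.X ^ p + ((p : Polynomial A) * G i - Polynomial.C (f i)) := by
      rw [hP]; ring
    rw [h1]
    apply Polynomial.monic_X_pow_add
    rw [Polynomial.degree_lt_iff_coeff_zero]
    intro m hm
    have hm0 : m ≠ 0 := by have := hpp.pos; omega
    rw [Polynomial.coeff_sub, Polynomial.coeff_C, if_neg hm0, sub_zero,
      Polynomial.coeff_natCast_mul, Polynomial.finsetSum_coeff]
    rw [Finset.sum_eq_zero, mul_zero]
    intro j _
    split_ifs with hj
    · simp
    · rw [Polynomial.coeff_C_mul_X_pow, if_neg (by omega)]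
  obtain ⟨hloc, hdim, -, hiff⟩ := main p r A hp P G f hP hmon
  have hI : Ideal.span (Set.range F) = qIdeal A P := by
    unfold qIdeal
    congr 2
    funext i
    simp [F, P, G, map_sum, apply_ite, MvPolynomial.algebraMap_eq]
  suffices h : ∀ (I : Ideal (MvPolynomial (Fin r) A)), I = qIdeal A P →
      IsLocalRing (MvPolynomial (Fin r) A ⧸ I) ∧
        (IsRegularRing (MvPolynomial (Fin r) A ⧸ I) ↔
        LinearIndependent (ResidueField A)
          (fun i => (1 : ResidueField A) ⊗ₜ[A] KaehlerDifferential.D ℤ A (f i))) from h _ hI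
  rintro _ rfl
  refine ⟨hloc, ?_⟩
  rw [linearIndependent_iff_dInd, ← hiff]
  have hA : ((maximalIdeal A).spanFinrank : WithBot ℕ∞) = ringKrullDim A :=
    IsRegularLocalRing.spanFinrank_maximalIdeal
  constructor
  · intro hreg
    have hrl : IsRegularLocalRing (Q A P) :=
      IsRegularLocalRing.of_isRegularRing_of_isLocalRing (R := Q A P)
    have hB : ((maximalIdeal (Q A P)).spanFinrank : WithBot ℕ∞) = ringKrullDim (Q A P) :=
      IsRegularLocalRing.spanFinrank_maximalIdeal
    rw [hdim, ← hA] at hB
    exact_mod_cast hB.symm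
  · intro heq
    have hrl : IsRegularLocalRing (Q A P) := by
      rw [isRegularLocalRing_iff, hdim, ← hA, heq]
    exact Groth.Agent.Lib.Helper24.SmoothRegularIff.isRegularRing_of_isRegularLocalRing _

end Groth.Agent.S2473
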