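import Groth.Statements.S2475
import Groth.Agent.LibAdm29b
-- import your own Groth.Agent.* helpers here

set_option autoImplicit false
universe u
open EGA41

namespace Groth.Agent.S2475

open Groth.Agent.LibAdm29 Groth.Agent.LibPB29 in

/-- Let K be a field of characteristic p > 0, k₀ ⊆ K a subfield and (k_α) a decreasing filtered family
of subfields of K containing k₀. Then ⋂_α k_α(K^p) = k₀(K^p) if and only if the canonical map
Ω_{K/k₀} → lim_α Ω_{K/k_α} is injective (an element of Ω_{K/k₀} whose image in every Ω_{K/k_α}
vanishes is zero). (Conditions (b), (b') of the source, on admissible subfields, are not stated.) -/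
theorem result (p : ℕ) [Fact p.Prime] {k₀ K : Type u} [Field k₀] [Field K] [Algebra k₀ K] [CharP K p]
    {ι : Type u} [Preorder ι] [IsDirected ι (· ≤ ·)] [Nonempty ι] (k : ι → IntermediateField k₀ K) (hk : Antitone k) :
    (⨅ i, k i ⊔ IntermediateField.adjoin k₀ (Set.range fun y : K => y ^ p)) = IntermediateField.adjoin k₀ (Set.range fun y : K => y ^ p) ↔
      ∀ ω : Ω[K⁄k₀], (∀ i, KaehlerDifferential.map k₀ (k i) K K ω = 0) → ω = 0 := by
  constructor
  · intro hI ω hω
    obtain ⟨B, hB, b, hb⟩ := exists_pbasis p k₀ (K := K)
    set T := (b.repr ω).support with hT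
    have hind : IsPIndependent p k₀ (fun z : {z // z ∈ T} => ((z : B) : K)) :=
      isPIndependent_comp p (Subtype.val : B → K) (Subtype.val : {z // z ∈ T} → B)
        Subtype.val_injective hB.1
    obtain ⟨i, hi⟩ := exists_isPIndependent p k hk hI _ hind
    have hli := (Groth.Agent.S2468.result p _).1.1 hi
    have hsum : ω = ∑ z ∈ T, b.repr ω z • b z := by
      conv_lhs => rw [← b.linearCombination_repr ω]
      rw [Finsupp.linearCombination_apply, Finsupp.sum]
    have h0 := hω i
    rw [hsum, map_sum] at h0
    have h1 : ∑ z : {z // z ∈ T}, b.repr ω (z : B) •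
        KaehlerDifferential.D (k i) K ((z : B) : K) = 0 := by
      rw [← h0, ← Finset.sum_coe_sort T]
      refine Finset.sum_congr rfl (fun z _ => ?_)
      rw [map_smul, hb, KaehlerDifferential.map_D]
      rfl
    have h2 := Fintype.linearIndependent_iff.1 hli (fun z => b.repr ω (z : B)) h1
    have hTe : T = ∅ := by
      rw [Finset.eq_empty_iff_forall_notMem]
      intro z hz
      exact (Finsupp.mem_support_iff.1 hz) (h2 ⟨z, hz⟩)
    rw [hsum, hTe, Finset.sum_empty]
  · intro H
    apply le_antisymm
    · intro x hx
      by_contra hx'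
      have hne := D_ne_zero_of_notMem p x hx'
      apply hne
      apply H
      intro i
      rw [KaehlerDifferential.map_D]
      exact D_eq_zero_of_mem_sup p (k i) x ((iInf_le _ i :
        (⨅ i, k i ⊔ IntermediateField.adjoin k₀ (Set.range fun y : K => y ^ p)) ≤ _) hx)
    · exact le_iInf (fun i => le_sup_right)

end Groth.Agent.S2475
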