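import Groth.Statements.S2479
import Groth.Agent.Lib.Helper9.ProConsImage
import Groth.Agent.S3398

set_option autoImplicit false
universe u
open EGA41

namespace Groth.Agent.S2479

open AlgebraicGeometry CategoryTheory Topology in
/-- Let X be a quasi-compact and quasi-separated scheme and E ⊆ X. Then E = f(X') for some quasi-compact
morphism f : X' → X if and only if E is an intersection of a family of constructible subsets of X. -/
theorem result {X : Scheme.{u}} [CompactSpace X] [QuasiSeparatedSpace X] (E : Set X) :
    (∃ (X' : Scheme.{u}) (f : X' ⟶ X), QuasiCompact f ∧ Set.range f.base = E) ↔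
      ∃ S : Set (Set X), (∀ s ∈ S, IsConstructible s) ∧ E = ⋂₀ S := by
  constructor
  · rintro ⟨X', f, hf, rfl⟩
    have huniv : ProCons.IsProConstructible (Set.univ : Set X') := by
      have := Groth.Agent.Lib.helper9.isProConstructible_sInter_of_isConstructible
        (X := X') (S := ∅) (by simp)
      simpa using this
    have h := Groth.Agent.S3398.result f Set.univ huniv
    rw [Set.image_univ] at h
    exact Groth.Agent.Lib.helper9.exists_sInter_isConstructible_of_isProConstructible h
  · rintro ⟨S, hS, rfl⟩
    obtain ⟨X', f, hX', hf⟩ :=
      Groth.Agent.Lib.helper9.exists_isAffine_range_eq_of_isProConstructible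
        (Groth.Agent.Lib.helper9.isProConstructible_sInter_of_isConstructible hS)
    exact ⟨X', f, inferInstance, hf⟩

end Groth.Agent.S2479
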