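import Groth.Statements.S2481
import Groth.Agent.LibLoc29c
-- import your own Groth.Agent.* helpers here

set_option autoImplicit false
universe u
open EGA41

namespace Groth.Agent.S2481
open IsLocalRing
open Groth.Agent.LibLoc29


open IsLocalRing in
/-- Let A → B be a local homomorphism of Noetherian local rings with the adic topologies, K the residue
field of B. Then B is formally smooth over A if and only if: for every Artinian local ring C with a
local homomorphism A → C, every nilpotent ideal J of C and every local A-algebra homomorphism u : B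
→ C/J inducing a bijection of residue fields (so that C has residue field K and u induces the
identity on it), u is induced by a local A-algebra homomorphism B → C. -/
theorem result {A B : Type u} [CommRing A] [IsLocalRing A] [IsNoetherianRing A] [CommRing B] [IsLocalRing B] [IsNoetherianRing B]
    [Algebra A B] [IsLocalHom (algebraMap A B)] :
    EGA41.IsFormallySmoothAdic A (maximalIdeal A) B (maximalIdeal B) ↔
      ∀ (C : Type u) [CommRing C] [IsLocalRing C] [IsArtinianRing C] [Algebra A C] [IsLocalHom (algebraMap A C)]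
        (J : Ideal C), IsNilpotent J → ∀ [IsLocalRing (C ⧸ J)] (u : B →ₐ[A] C ⧸ J) [IsLocalHom u.toRingHom],
        Function.Bijective (ResidueField.map u.toRingHom) →
        ∃ f : B →ₐ[A] C, IsLocalHom f.toRingHom ∧ (Ideal.Quotient.mkₐ A J).comp f = u := by
  constructor
  · intro h C _ _ _ _ _ J hJ _ u _ _
    obtain ⟨n, hn⟩ := (isArtinianRing_iff_isNilpotent_maximalIdeal C).1 inferInstance
    have hn : maximalIdeal C ^ n = ⊥ := hn
    have hA : ∃ k : ℕ, (maximalIdeal A ^ k).map (algebraMap A C) = ⊥ := by
      refine ⟨n, ?_⟩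
      rw [Ideal.map_eq_bot_iff_le_ker]
      intro x hx
      exact map_eq_zero_of_mem_pow (algebraMap A C) n hn x hx
    have hn' : maximalIdeal (C ⧸ J) ^ n = ⊥ :=
      maximalIdeal_pow_of_surjective (Ideal.Quotient.mk J) Ideal.Quotient.mk_surjective n hn
    have hu : ∃ k : ℕ, ∀ x ∈ maximalIdeal B ^ k, u x = 0 :=
      ⟨n, map_eq_zero_of_mem_pow u.toRingHom n hn'⟩
    obtain ⟨v, hv⟩ := h C J hJ hA u hu
    refine ⟨v, ?_, hv⟩
    have h1 : IsLocalHom ((Ideal.Quotient.mk J).comp v.toRingHom) := by
      have : (Ideal.Quotient.mk J).comp v.toRingHom = u.toRingHom := by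
        rw [← hv]; rfl
      rw [this]
      infer_instance
    exact isLocalHom_of_comp v.toRingHom (Ideal.Quotient.mk J)
  · intro H C _ _ J hJ _ u hu
    have HA : ArtinLift A B := by
      intro C _ _ _ _ _ C₀ _ _ _ q hq hnil u _ hb
      have inst3 : IsLocalRing (C ⧸ RingHom.ker q) := isLocalRing_quot_ker q hq
      have inst4 : IsLocalHom (liftHom q hq u).toRingHom := isLocalHom_liftHom q hq u
      have hb' := bijective_residue_liftHom q hq u hb
      obtain ⟨f, -, hf⟩ := H C (RingHom.ker q) hnil (liftHom q hq u) hb'
      exact ⟨f, comp_eq_of_liftHom q hq u f hf⟩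
    obtain ⟨m, hm⟩ := hJ
    obtain ⟨k, hk⟩ := hu
    have hker : RingHom.ker (Ideal.Quotient.mkₐ A J) = J := Ideal.Quotient.mkₐ_ker A J
    have hm' : RingHom.ker (Ideal.Quotient.mkₐ A J) ^ m = ⊥ := by
      rw [hker]; exact hm
    exact exists_lift_of_artinLift HA (Ideal.Quotient.mkₐ A J)
      (Ideal.Quotient.mkₐ_surjective A J) m hm' u k hk

end Groth.Agent.S2481
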