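import Groth.Statements.S2482
import Groth.Agent.Lib.Helper24.SmoothTransport
import Groth.Agent.Lib.Helper24.AdicLiftAlg
import Groth.Agent.Lib.Helper24.CohenAlgIso
import Groth.Agent.Lib.Helper17.FieldLift

set_option autoImplicit false
universe u
open EGA41

namespace Groth.Agent.S2482

open IsLocalRing in
/-- (a) ⟹ (b): let A, B be complete discrete valuation rings and u : A → B a ring homomorphism with
u(𝔪_A)B = 𝔪_B, such that the residue field L of B is separable over the residue field K of A. Then
for every complete discrete valuation ring B', every homomorphism u' : A → B' with u'(𝔪_A)B' =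
𝔪_{B'} and every isomorphism σ of residue fields L ≅ L' compatible with the maps from K, there is an
isomorphism w : B ≅ B' with u' = w ∘ u inducing σ on residue fields. -/
theorem result {A B B' : Type u} [CommRing A] [IsDomain A] [IsDiscreteValuationRing A] [IsAdicComplete (maximalIdeal A) A]
    [CommRing B] [IsDomain B] [IsDiscreteValuationRing B] [IsAdicComplete (maximalIdeal B) B]
    [CommRing B'] [IsDomain B'] [IsDiscreteValuationRing B'] [IsAdicComplete (maximalIdeal B') B']
    (u : A →+* B) [IsLocalHom u] (hu : (maximalIdeal A).map u = maximalIdeal B)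
    (hsep : letI := (ResidueField.map u).toAlgebra; Algebra.IsGeometricallyReduced (ResidueField A) (ResidueField B))
    (u' : A →+* B') [IsLocalHom u'] (hu' : (maximalIdeal A).map u' = maximalIdeal B')
    (σ : ResidueField B ≃+* ResidueField B') (hσ : (σ : ResidueField B →+* ResidueField B').comp (ResidueField.map u) = ResidueField.map u') :
    ∃ w : B ≃+* B', (w : B →+* B').comp u = u' ∧ ∀ b : B, residue B' (w b) = σ (residue B b) := by
  classical
  letI algAB : Algebra A B := u.toAlgebra
  letI algAB' : Algebra A B' := u'.toAlgebra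
  haveI : IsLocalHom (algebraMap A B) := ‹IsLocalHom u›
  haveI : IsLocalHom (algebraMap A B') := ‹IsLocalHom u'›
  have hBm : (maximalIdeal A).map (algebraMap A B) = maximalIdeal B := hu
  have hB'm : (maximalIdeal A).map (algebraMap A B') = maximalIdeal B' := hu'
  -- injectivity of `u`, `u'`
  have hinj : ∀ {C : Type u} [CommRing C] [IsDomain C] [IsDiscreteValuationRing C]
      (v : A →+* C), (maximalIdeal A).map v = maximalIdeal C → Function.Injective v := by
    intro C _ _ _ v hv
    rw [injective_iff_map_eq_zero]
    intro a ha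
    by_contra hne
    obtain ⟨ϖ, hϖ⟩ := IsDiscreteValuationRing.exists_irreducible A
    obtain ⟨n, w, hw⟩ := IsDiscreteValuationRing.eq_unit_mul_pow_irreducible hne hϖ
    have h1 : v ϖ ^ n = 0 := by
      have : v a = v (w : A) * v ϖ ^ n := by rw [hw, map_mul, map_pow]
      rw [ha] at this
      have hunit : IsUnit (v (w : A)) := w.isUnit.map v
      exact (hunit.mul_right_eq_zero.1 this.symm)
    have h2 : v ϖ = 0 := IsReduced.eq_zero _ ⟨n, h1⟩
    have h3 : maximalIdeal C = (⊥ : Ideal C) := by
      rw [← hv, hϖ.maximalIdeal_eq, Ideal.map_span, Set.image_singleton, h2]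
      exact Ideal.span_singleton_eq_bot.2 rfl
    exact IsDiscreteValuationRing.not_a_field C h3
  haveI hflat : ∀ {C : Type u} [CommRing C] [IsDomain C] [IsDiscreteValuationRing C]
      [Algebra A C], Function.Injective (algebraMap A C) → Module.Flat A C := by
    intro C _ _ _ _ hv
    haveI : Module.IsTorsionFree A C := Module.isTorsionFree_iff_algebraMap_injective.2 hv
    infer_instance
  haveI : Module.Flat A B := hflat (hinj u hu)
  haveI : Module.Flat A B' := hflat (hinj u' hu')
  haveI hgr : Algebra.IsGeometricallyReduced (ResidueField A) (ResidueField B) := by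
    have halg : (ResidueField.map u).toAlgebra =
        (IsLocalRing.ResidueField.instAlgebra : Algebra (ResidueField A) (ResidueField B)) :=
      Algebra.algebra_ext _ _ (fun r => by
        obtain ⟨a, rfl⟩ := IsLocalRing.residue_surjective r
        rfl)
    exact halg ▸ hsep
  haveI : Algebra.FormallySmooth (ResidueField A) (ResidueField B) :=
    Groth.Agent.Lib.helper17.FieldLift.formallySmooth_of_isGeometricallyReduced
  let u0 : B →+* B' ⧸ maximalIdeal B' :=
    (σ : ResidueField B →+* ResidueField B').comp (residue B)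
  have hu0 : u0.comp (algebraMap A B) =
      (Ideal.Quotient.mk (maximalIdeal B')).comp (algebraMap A B') := by
    ext a
    exact RingHom.congr_fun hσ (residue A a)
  have hsep' : ∀ x : B', (∀ n, x ∈ maximalIdeal B' ^ n ⊔ maximalIdeal B') →
      x ∈ maximalIdeal B' := by
    intro x hx
    have := hx 1
    rwa [pow_one, sup_idem] at this
  have hlift : ∀ (n : ℕ) (_ : 1 ≤ n) (K' : Ideal B') (h1 : maximalIdeal B' ^ (n + 1) ≤ K')
      (_ : K' ≤ maximalIdeal B' ^ n) (t : B →+* B' ⧸ K'),
      t.comp (algebraMap A B) = (Ideal.Quotient.mk K').comp (algebraMap A B') →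
      ∃ t' : B →+* B' ⧸ maximalIdeal B' ^ (n + 1),
        t'.comp (algebraMap A B) = (Ideal.Quotient.mk _).comp (algebraMap A B') ∧
        (Ideal.Quotient.factor h1).comp t' = t := by
    intro n hn K' h1 h2 t ht
    haveI := Groth.Agent.Lib.Helper24.SmoothTransport.formallySmooth_quotient_pow hBm
      (n + 1) (by omega)
    have hnil : IsNilpotent (RingHom.ker (Ideal.Quotient.factor h1)) := by
      refine ⟨2, ?_⟩
      rw [Ideal.Quotient.factor_ker h1, ← Ideal.map_pow, Ideal.zero_eq_bot, eq_bot_iff]
      refine le_trans (Ideal.map_mono ?_) (le_of_eq (Ideal.map_quotient_self _))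
      refine le_trans (Ideal.pow_right_mono h2 2) ?_
      rw [← pow_mul]
      exact Ideal.pow_le_pow_right (by omega)
    refine Groth.Agent.Lib.Helper24.AdicLiftAlg.exists_lift_of_quotient_smooth
      (maximalIdeal A) (n + 1)
      ((Ideal.Quotient.mk (maximalIdeal B' ^ (n + 1))).comp (algebraMap A B')) ?_
      (Ideal.Quotient.factor h1) (Ideal.Quotient.factor_surjective h1) hnil t ?_
    · intro a ha
      rw [RingHom.comp_apply, Ideal.Quotient.eq_zero_iff_mem, ← hB'm, ← Ideal.map_pow]
      exact Ideal.mem_map_of_mem _ ha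
    · rw [ht, ← RingHom.comp_assoc, Ideal.Quotient.factor_comp_mk]
  obtain ⟨v, hvι, hv⟩ := Groth.Agent.Lib.Helper24.AdicLiftAlg.exists_lift'
    (algebraMap A B) (algebraMap A B') (maximalIdeal B') (maximalIdeal B') le_rfl hsep' u0 hu0 hlift
  let φ : B →ₐ[A] B' := { v with commutes' := fun a => RingHom.congr_fun hvι a }
  have hres : Function.Surjective ((residue B').comp φ.toRingHom) := by
    intro y
    obtain ⟨z, rfl⟩ := σ.surjective y
    obtain ⟨b, rfl⟩ := IsLocalRing.residue_surjective z
    exact ⟨b, RingHom.congr_fun hv b⟩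
  have hbij := Groth.Agent.Lib.Helper24.CohenAlgIso.bijective_of_flat (maximalIdeal A) hBm hB'm φ
    hres
  refine ⟨RingEquiv.ofBijective φ hbij, ?_, ?_⟩
  · ext a
    exact RingHom.congr_fun hvι a
  · intro b
    exact RingHom.congr_fun hv b

end Groth.Agent.S2482
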