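import Groth.Statements.S2484
import Groth.Agent.Lib.Helper17.SmoothArtin
import Mathlib

set_option autoImplicit false
universe u
open EGA41

namespace Groth.Agent.S2484

/-- Let K ⊆ E ⊆ F be fields. (i) If F is a separable extension of E, then Υ_{F/E/K} = 0, i.e. the
canonical map Ω_{E/K} ⊗_E F → Ω_{F/K} is injective. (ii) Conversely, if F is separable over K and
this map is injective, then F is separable over E. (Separable means geometrically reduced.) -/
theorem result {K E F : Type u} [Field K] [Field E] [Field F] [Algebra K E] [Algebra E F] [Algebra K F] [IsScalarTower K E F] :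
    (Algebra.IsGeometricallyReduced E F → Function.Injective (KaehlerDifferential.mapBaseChange K E F)) ∧
    (Algebra.IsGeometricallyReduced K F → Function.Injective (KaehlerDifferential.mapBaseChange K E F) → Algebra.IsGeometricallyReduced E F) := by
  constructor
  · intro h
    haveI : Algebra.FormallySmooth E F :=
      Groth.Agent.Lib.helper17.FieldLift.formallySmooth_of_isGeometricallyReduced
    rw [injective_iff_map_eq_zero]
    intro x hx
    obtain ⟨y, rfl⟩ := (Algebra.H1Cotangent.exact_δ_mapBaseChange K E F x).mp hx
    rw [Subsingleton.elim y 0, map_zero]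
  · intro h hinj
    haveI : Algebra.FormallySmooth K F :=
      Groth.Agent.Lib.helper17.FieldLift.formallySmooth_of_isGeometricallyReduced
    have hsub : Subsingleton (Algebra.H1Cotangent E F) := by
      refine ⟨fun a b => ?_⟩
      have hz : ∀ y : Algebra.H1Cotangent E F, y = 0 := by
        intro y
        have h1 : KaehlerDifferential.mapBaseChange K E F (Algebra.H1Cotangent.δ K E F y) = 0 :=
          (Algebra.H1Cotangent.exact_δ_mapBaseChange K E F _).mpr ⟨y, rfl⟩
        have h2 : Algebra.H1Cotangent.δ K E F y = 0 := hinj (by rw [h1, map_zero])
        obtain ⟨z, rfl⟩ := (Algebra.H1Cotangent.exact_map_δ K E F y).mp h2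
        rw [Subsingleton.elim z 0, map_zero]
      rw [hz a, hz b]
    haveI : Algebra.FormallySmooth E F := ⟨inferInstance, hsub⟩
    exact Groth.Agent.Lib.helper17.SmoothArtin.isGeometricallyReduced_of_formallySmooth

end Groth.Agent.S2484
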