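import Groth.Statements.S2485
import Mathlib

set_option autoImplicit false
universe u
open EGA41

namespace Groth.Agent.S2485

/-- Let p be a prime and A → B a ring homomorphism making B an A-algebra of finite type, with B of
characteristic p, such that for some s ≥ 0 every p^s-th power of an element of B lies in the image
of A. If Ω_{B/A} = 0 then A → B is surjective. -/
theorem result (p : ℕ) [Fact p.Prime] {A B : Type u} [CommRing A] [CommRing B] [Algebra A B] [CharP B p]
    [Algebra.FiniteType A B] (s : ℕ) (hpow : ∀ b : B, b ^ p ^ s ∈ Set.range (algebraMap A B)) [Subsingleton (Ω[B⁄A])] :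
    Function.Surjective (algebraMap A B) := by
  classical
  have hint : Algebra.IsIntegral A B := ⟨fun b => by
    obtain ⟨a, ha⟩ := hpow b
    refine ⟨Polynomial.X ^ (p ^ s) - Polynomial.C a,
      Polynomial.monic_X_pow_sub_C a (pow_ne_zero _ (Fact.out : p.Prime).ne_zero), ?_⟩
    simp [ha]⟩
  have hfin : Module.Finite A B := Algebra.IsIntegral.finite
  rw [← Algebra.isEpi_iff_surjective_algebraMap_of_finite, Algebra.isEpi_iff_forall_one_tmul_eq]
  intro b
  rcases subsingleton_or_nontrivial (TensorProduct A B B) with hss | hnt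
  · exact Subsingleton.elim _ _
  have : CharP (TensorProduct A B B) p := by
    have h0 : ((p : ℕ) : TensorProduct A B B) = 0 := by
      have h1 : ((p : ℕ) : B) = 0 := CharP.cast_eq_zero B p
      rw [← map_natCast (algebraMap B (TensorProduct A B B)), h1, map_zero]
    exact ringChar.of_eq (CharP.ringChar_of_prime_eq_zero (Fact.out : p.Prime) h0)
  have hI : IsIdempotentElem (KaehlerDifferential.ideal A B) :=
    (Ideal.cotangent_subsingleton_iff _).mp (inferInstanceAs (Subsingleton (Ω[B⁄A])))
  obtain ⟨e, he, hIe⟩ := ((KaehlerDifferential.ideal A B).isIdempotentElem_iff_of_fg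
    (KaehlerDifferential.ideal_fg A B)).mp hI
  have hnil : KaehlerDifferential.ideal A B ≤ nilradical (TensorProduct A B B) := by
    rw [← KaehlerDifferential.span_range_eq_ideal, Ideal.span_le]
    rintro _ ⟨c, rfl⟩
    obtain ⟨a, ha⟩ := hpow c
    refine ⟨p ^ s, ?_⟩
    rw [sub_pow_char_pow, Algebra.TensorProduct.tmul_pow, Algebra.TensorProduct.tmul_pow,
      one_pow, ← ha, Algebra.algebraMap_eq_smul_one, TensorProduct.tmul_smul,
      TensorProduct.smul_tmul', sub_self]
    exact Submodule.zero_mem _
  have he0 : e = 0 := by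
    have hmem : e ∈ KaehlerDifferential.ideal A B := by
      rw [hIe]; exact Ideal.mem_span_singleton_self e
    obtain ⟨n, hn⟩ := hnil hmem
    rcases Nat.eq_zero_or_pos n with rfl | hpos
    · rw [pow_zero] at hn
      exact absurd hn one_ne_zero
    · obtain ⟨m, rfl⟩ : ∃ m, n = m + 1 := ⟨n - 1, (Nat.sub_add_cancel hpos).symm⟩
      rwa [he.pow_succ_eq m] at hn
  have hbot : KaehlerDifferential.ideal A B = ⊥ := by
    rw [hIe, he0, Ideal.span_singleton_eq_bot]
  have hx : (1 : B) ⊗ₜ[A] b - b ⊗ₜ[A] (1 : B) ∈ KaehlerDifferential.ideal A B :=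
    KaehlerDifferential.one_smul_sub_smul_one_mem_ideal A b
  rw [hbot, Ideal.mem_bot, sub_eq_zero] at hx
  exact hx

end Groth.Agent.S2485
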