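import Groth.Statements.S2486
import Groth.Agent.S2485
import Mathlib

set_option autoImplicit false
universe u
open EGA41

namespace Groth.Agent.S2486


section helpers

variable (p : ℕ) [Fact p.Prime] {A B : Type u} [CommRing A] [CommRing B] [Algebra A B] [CharP B p]
    {ι : Type u} (x : ι → B)

lemma pow_mem_P (b : B) : b ^ p ∈ EGA41.pPowerSubalgebra p A B :=
  Algebra.subset_adjoin ⟨b, rfl⟩

lemma pMonomial_mem_adjoin (e : ι →₀ ℕ) :
    EGA41.pMonomial x e ∈ Algebra.adjoin (EGA41.pPowerSubalgebra p A B) (Set.range x) := by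
  unfold EGA41.pMonomial Finsupp.prod
  exact Subalgebra.prod_mem _ (fun i _ => Subalgebra.pow_mem _
    (Algebra.subset_adjoin (Set.mem_range_self i)) _)

lemma mul_mem_S (i : ι) (m : B)
    (hm : m ∈ Submodule.span (EGA41.pPowerSubalgebra p A B)
      (Set.range fun e : {e : ι →₀ ℕ // ∀ i, e i < p} => EGA41.pMonomial x e.1)) :
    x i * m ∈ Submodule.span (EGA41.pPowerSubalgebra p A B)
      (Set.range fun e : {e : ι →₀ ℕ // ∀ i, e i < p} => EGA41.pMonomial x e.1) := by
  classical
  induction hm using Submodule.span_induction with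
  | mem m hm =>
    obtain ⟨⟨e, he⟩, rfl⟩ := hm
    by_cases h : e i + 1 < p
    · have h1 : x i * EGA41.pMonomial x e = EGA41.pMonomial x (e + Finsupp.single i 1) := by
        unfold EGA41.pMonomial
        rw [Finsupp.prod_add_index' (h := fun i n => x i ^ n) (fun _ => pow_zero _)
          (fun _ _ _ => pow_add _ _ _),
          Finsupp.prod_single_index (h := fun i n => x i ^ n) (pow_zero _), pow_one, mul_comm]
      rw [h1]
      refine Submodule.subset_span ⟨⟨e + Finsupp.single i 1, fun j => ?_⟩, rfl⟩
      by_cases hj : j = i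
      · subst hj; simpa using h
      · have := he j
        simpa [Finsupp.single_apply, Ne.symm hj] using this
    · have hei : e i + 1 = p := le_antisymm (he i) (not_lt.mp h)
      have h1 : x i * EGA41.pMonomial x e =
          (⟨x i ^ p, pow_mem_P p (x i)⟩ : EGA41.pPowerSubalgebra p A B) •
            EGA41.pMonomial x (e.erase i) := by
        rw [Subalgebra.smul_def]
        unfold EGA41.pMonomial
        rw [← Finsupp.mul_prod_erase' e i (fun i n => x i ^ n) (fun _ => pow_zero _)]
        simp only [smul_eq_mul]
        rw [← mul_assoc, ← pow_succ', hei]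
      rw [h1]
      refine Submodule.smul_mem _ _ (Submodule.subset_span ⟨⟨e.erase i, fun j => ?_⟩, rfl⟩)
      by_cases hj : j = i
      · subst hj; simp [(Fact.out : p.Prime).pos]
      · rw [Finsupp.erase_ne hj]; exact he j
  | zero => simp
  | add a b _ _ ha hb => rw [mul_add]; exact add_mem ha hb
  | smul c a _ ha =>
    rw [mul_smul_comm]
    exact Submodule.smul_mem _ _ ha

lemma closure_mul_mem_S (a : B) (ha : a ∈ Submonoid.closure (Set.range x)) :
    ∀ m ∈ Submodule.span (EGA41.pPowerSubalgebra p A B)
      (Set.range fun e : {e : ι →₀ ℕ // ∀ i, e i < p} => EGA41.pMonomial x e.1),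
    a * m ∈ Submodule.span (EGA41.pPowerSubalgebra p A B)
      (Set.range fun e : {e : ι →₀ ℕ // ∀ i, e i < p} => EGA41.pMonomial x e.1) := by
  induction ha using Submonoid.closure_induction with
  | mem a ha =>
    obtain ⟨i, rfl⟩ := ha
    exact fun m hm => mul_mem_S p x i m hm
  | one => intro m hm; simpa using hm
  | mul c d _ _ ihc ihd =>
    intro m hm
    rw [mul_assoc]
    exact ihc _ (ihd m hm)

lemma adjoin_eq_top_iff :
    Algebra.adjoin (EGA41.pPowerSubalgebra p A B) (Set.range x) = ⊤ ↔ EGA41.IsPGenerating p A x := by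
  classical
  unfold EGA41.IsPGenerating
  constructor
  · intro h
    rw [eq_top_iff]
    intro b _
    have hb : b ∈ Subalgebra.toSubmodule (Algebra.adjoin (EGA41.pPowerSubalgebra p A B) (Set.range x)) := by
      rw [h]; trivial
    rw [Algebra.adjoin_eq_span] at hb
    refine Submodule.span_le.mpr ?_ hb
    intro m hm
    have hone : (1 : B) ∈ Submodule.span (EGA41.pPowerSubalgebra p A B)
        (Set.range fun e : {e : ι →₀ ℕ // ∀ i, e i < p} => EGA41.pMonomial x e.1) := by
      refine Submodule.subset_span ⟨⟨0, fun j => by simp [(Fact.out : p.Prime).pos]⟩, ?_⟩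
      simp [EGA41.pMonomial]
    have := closure_mul_mem_S p x m hm 1 hone
    rwa [mul_one] at this
  · intro h
    rw [eq_top_iff]
    intro b _
    have hb : b ∈ Submodule.span (EGA41.pPowerSubalgebra p A B)
      (Set.range fun e : {e : ι →₀ ℕ // ∀ i, e i < p} => EGA41.pMonomial x e.1) := by
      rw [h]; trivial
    have hle : Submodule.span (EGA41.pPowerSubalgebra p A B)
      (Set.range fun e : {e : ι →₀ ℕ // ∀ i, e i < p} => EGA41.pMonomial x e.1) ≤
        Subalgebra.toSubmodule (Algebra.adjoin (EGA41.pPowerSubalgebra p A B) (Set.range x)) := by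
      rw [Submodule.span_le]
      rintro _ ⟨e, rfl⟩
      exact pMonomial_mem_adjoin p x e.1
    exact hle hb

end helpers

section helpers2

variable (p : ℕ) [Fact p.Prime] {A B : Type u} [CommRing A] [CommRing B] [Algebra A B] [CharP B p]

lemma D_eq_zero_of_mem_P (c : B) (hc : c ∈ EGA41.pPowerSubalgebra p A B) :
    KaehlerDifferential.D A B c = 0 := by
  unfold EGA41.pPowerSubalgebra at hc
  induction hc using Algebra.adjoin_induction with
  | mem c hc =>
    obtain ⟨b, rfl⟩ := hc
    rw [Derivation.leibniz_pow, ← Nat.cast_smul_eq_nsmul B, CharP.cast_eq_zero B p, zero_smul]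
  | algebraMap a => exact Derivation.map_algebraMap _ a
  | add a b _ _ ha hb => rw [map_add, ha, hb, add_zero]
  | mul a b _ _ ha hb => rw [Derivation.leibniz, ha, hb, smul_zero, smul_zero, add_zero]

end helpers2

/-- Let p be a prime, B an A-algebra of characteristic p and (x_α) a family of elements of B. Then (a) B
is generated as an A[B^p]-algebra by the x_α if and only if (b) (x_α) is a system of p-generators of
B over A; these imply (c) Ω_{B/A} is generated by the d x_α; and if B is an A[B^p]-algebra of finite
type, (c) implies (a). -/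
theorem result (p : ℕ) [Fact p.Prime] {A B : Type u} [CommRing A] [CommRing B] [Algebra A B] [CharP B p]
    {ι : Type u} (x : ι → B) :
    (Algebra.adjoin (EGA41.pPowerSubalgebra p A B) (Set.range x) = ⊤ ↔ EGA41.IsPGenerating p A x) ∧
    (EGA41.IsPGenerating p A x → Submodule.span B (Set.range fun i => KaehlerDifferential.D A B (x i)) = ⊤) ∧
    (Algebra.FiniteType (EGA41.pPowerSubalgebra p A B) B →
      Submodule.span B (Set.range fun i => KaehlerDifferential.D A B (x i)) = ⊤ → EGA41.IsPGenerating p A x) := by
  refine ⟨adjoin_eq_top_iff p x, ?_, ?_⟩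
  · intro hgen
    have hadj := (adjoin_eq_top_iff p x).mpr hgen
    rw [eq_top_iff, ← KaehlerDifferential.span_range_derivation A B, Submodule.span_le]
    rintro _ ⟨b, rfl⟩
    have hb : b ∈ Algebra.adjoin (EGA41.pPowerSubalgebra p A B) (Set.range x) := by
      rw [hadj]; trivial
    induction hb using Algebra.adjoin_induction with
    | mem b hb =>
      obtain ⟨i, rfl⟩ := hb
      exact Submodule.subset_span ⟨i, rfl⟩
    | algebraMap c =>
      have : KaehlerDifferential.D A B (algebraMap (EGA41.pPowerSubalgebra p A B) B c) = 0 :=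
        D_eq_zero_of_mem_P p c.1 c.2
      rw [SetLike.mem_coe, this]
      exact zero_mem _
    | add a b _ _ ha hb =>
      rw [SetLike.mem_coe, map_add]
      exact add_mem ha hb
    | mul a b _ _ ha hb =>
      rw [SetLike.mem_coe, Derivation.leibniz]
      exact add_mem (Submodule.smul_mem _ _ hb) (Submodule.smul_mem _ _ ha)
  · intro hft hspan
    rw [← adjoin_eq_top_iff p x]
    have hxmem : ∀ i, x i ∈ Algebra.adjoin (EGA41.pPowerSubalgebra p A B) (Set.range x) :=
      fun i => Algebra.subset_adjoin (Set.mem_range_self i)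
    have hft' : Algebra.FiniteType (Algebra.adjoin (EGA41.pPowerSubalgebra p A B) (Set.range x)) B :=
      Algebra.FiniteType.of_restrictScalars_finiteType (EGA41.pPowerSubalgebra p A B) _ B
    have hss : Subsingleton
        (Ω[B⁄(Algebra.adjoin (EGA41.pPowerSubalgebra p A B) (Set.range x))]) := by
      have hsurj : Function.Surjective (KaehlerDifferential.map A
          (Algebra.adjoin (EGA41.pPowerSubalgebra p A B) (Set.range x)) B B) :=
        KaehlerDifferential.map_surjective A _ B
      suffices h : ∀ z : Ω[B⁄(Algebra.adjoin (EGA41.pPowerSubalgebra p A B) (Set.range x))],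
          z = 0 from ⟨fun a b => by rw [h a, h b]⟩
      intro z
      obtain ⟨w, rfl⟩ := hsurj z
      have hw : w ∈ Submodule.span B (Set.range fun i => KaehlerDifferential.D A B (x i)) := by
        rw [hspan]; trivial
      induction hw using Submodule.span_induction with
      | mem w hw =>
        obtain ⟨i, rfl⟩ := hw
        rw [KaehlerDifferential.map_D]
        have : (algebraMap B B (x i)) =
            algebraMap (Algebra.adjoin (EGA41.pPowerSubalgebra p A B) (Set.range x)) B
              ⟨x i, hxmem i⟩ := rfl
        rw [this, Derivation.map_algebraMap]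
      | zero => simp
      | add a b _ _ ha hb => rw [map_add, ha, hb, add_zero]
      | smul c a _ ha => rw [map_smul, ha, smul_zero]
    have hsurj := Groth.Agent.S2485.result p
      (A := Algebra.adjoin (EGA41.pPowerSubalgebra p A B) (Set.range x)) (B := B) 1
      (fun b => ⟨⟨b ^ p ^ 1, by
        rw [pow_one]
        exact Subalgebra.algebraMap_mem _ (⟨b ^ p, pow_mem_P p b⟩ : EGA41.pPowerSubalgebra p A B)⟩,
        rfl⟩)
    rw [eq_top_iff]
    intro b _
    obtain ⟨c, rfl⟩ := hsurj b
    exact c.2

end Groth.Agent.S2486
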