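import Groth.Statements.S2487
import Groth.Agent.Lib.Helper24.FSExist
import Groth.Agent.Lib.Helper24.FSUniq

set_option autoImplicit false
universe u
open EGA41

namespace Groth.Agent.S2487

open IsLocalRing TensorProduct in
/-- Let A be a Noetherian local ring, J an ideal contained in the maximal ideal, A₀ = A/J, and B₀ a
complete Noetherian local ring with a local homomorphism A₀ → B₀ making B₀ formally smooth over A₀
(adic topologies). Then (existence) there are a complete Noetherian local ring B, a local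
homomorphism A → B making B a flat A-module, and an A₀-algebra isomorphism u : A₀ ⊗_A B ≅ B₀;
(uniqueness) if (B', u') is another such pair, there is an A-algebra isomorphism v : B ≅ B' with u'
∘ (1 ⊗ v) = u. -/
theorem result {A : Type u} [CommRing A] [IsLocalRing A] [IsNoetherianRing A]
    (J : Ideal A) (hJ : J ≤ maximalIdeal A) [IsLocalRing (A ⧸ J)]
    (B₀ : Type u) [CommRing B₀] [IsLocalRing B₀] [IsNoetherianRing B₀] [IsAdicComplete (maximalIdeal B₀) B₀]
    [Algebra (A ⧸ J) B₀] [IsLocalHom (algebraMap (A ⧸ J) B₀)]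
    (hfs : EGA41.IsFormallySmoothAdic (A ⧸ J) (maximalIdeal (A ⧸ J)) B₀ (maximalIdeal B₀)) :
    (∃ (B : Type u) (_ : CommRing B) (_ : IsLocalRing B) (_ : IsNoetherianRing B) (_ : Algebra A B) (_ : IsLocalHom (algebraMap A B)),
      IsAdicComplete (maximalIdeal B) B ∧ Module.Flat A B ∧ Nonempty ((A ⧸ J) ⊗[A] B ≃ₐ[A ⧸ J] B₀)) ∧
    ∀ (B B' : Type u) [CommRing B] [IsLocalRing B] [IsNoetherianRing B] [Algebra A B] [IsLocalHom (algebraMap A B)]
      [CommRing B'] [IsLocalRing B'] [IsNoetherianRing B'] [Algebra A B'] [IsLocalHom (algebraMap A B')],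
      IsAdicComplete (maximalIdeal B) B → Module.Flat A B → IsAdicComplete (maximalIdeal B') B' → Module.Flat A B' →
      ∀ (u : (A ⧸ J) ⊗[A] B ≃ₐ[A ⧸ J] B₀) (u' : (A ⧸ J) ⊗[A] B' ≃ₐ[A ⧸ J] B₀),
      ∃ v : B ≃ₐ[A] B', (u' : (A ⧸ J) ⊗[A] B' →ₐ[A ⧸ J] B₀).comp
          (Algebra.TensorProduct.map (AlgHom.id (A ⧸ J) (A ⧸ J)) (v : B →ₐ[A] B')) = (u : (A ⧸ J) ⊗[A] B →ₐ[A ⧸ J] B₀) := by
  classical
  have hmax : (maximalIdeal A).map (Ideal.Quotient.mk J) = maximalIdeal (A ⧸ J) :=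
    IsLocalRing.map_maximalIdeal_of_surjective (Ideal.Quotient.mk J) Ideal.Quotient.mk_surjective
  have hloc₀ : (maximalIdeal (A ⧸ J)).map (algebraMap (A ⧸ J) B₀) ≤ maximalIdeal B₀ :=
    ((IsLocalRing.local_hom_TFAE (algebraMap (A ⧸ J) B₀)).out 0 2).1
      ‹IsLocalHom (algebraMap (A ⧸ J) B₀)›
  have hloc : ((maximalIdeal A).map (Ideal.Quotient.mk J)).map (algebraMap (A ⧸ J) B₀) ≤
      maximalIdeal B₀ := by rw [hmax]; exact hloc₀
  have hB₀ : CAlgX.IsAdicFormallySmooth (A ⧸ J) B₀ (maximalIdeal B₀) :=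
    Groth.Agent.Lib.Helper24.FSConv.calgx_of_ega41 (maximalIdeal (A ⧸ J)) (maximalIdeal B₀) hloc₀ hfs
  constructor
  · obtain ⟨C, i1, i2, i3, i4, i5, hc, hf, ⟨w⟩⟩ :=
      Groth.Agent.Lib.Helper24.FSExist.exists_flat_lift_fs J hJ B₀ hloc hB₀
    exact ⟨C, i1, i2, i3, i4, i5, hc, hf,
      ⟨(Algebra.TensorProduct.quotIdealMapEquivQuotTensor C J).symm.trans w⟩⟩
  · intro B B' _ _ _ _ _ _ _ _ _ _ hcB hfB hcB' hfB' u u'
    haveI := hcB
    haveI := hfB
    haveI := hcB'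
    haveI := hfB'
    have hmB : (maximalIdeal A).map (algebraMap A B) ≤ maximalIdeal B :=
      ((IsLocalRing.local_hom_TFAE (algebraMap A B)).out 0 2).1 ‹IsLocalHom (algebraMap A B)›
    have hmB' : (maximalIdeal A).map (algebraMap A B') ≤ maximalIdeal B' :=
      ((IsLocalRing.local_hom_TFAE (algebraMap A B')).out 0 2).1 ‹IsLocalHom (algebraMap A B')›
    obtain ⟨v, hv⟩ := Groth.Agent.Lib.Helper24.FSUniq.exists_algEquiv_lift J (maximalIdeal A) hJ
      hmB hmB' hB₀ ((Algebra.TensorProduct.quotIdealMapEquivQuotTensor B J).trans u)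
      ((Algebra.TensorProduct.quotIdealMapEquivQuotTensor B' J).trans u')
    refine ⟨v, ?_⟩
    have hv' : ∀ b : B, u' ((1 : A ⧸ J) ⊗ₜ[A] v b) = u ((1 : A ⧸ J) ⊗ₜ[A] b) := fun b => hv b
    apply AlgHom.ext
    intro x
    induction x using TensorProduct.induction_on with
    | zero => rw [map_zero, map_zero]
    | tmul a b =>
      have h1 : a ⊗ₜ[A] b = a • ((1 : A ⧸ J) ⊗ₜ[A] b) := by
        rw [TensorProduct.smul_tmul', smul_eq_mul, mul_one]
      rw [h1, map_smul, map_smul]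
      congr 1
      show u' (Algebra.TensorProduct.map (AlgHom.id (A ⧸ J) (A ⧸ J)) (v : B →ₐ[A] B')
        ((1 : A ⧸ J) ⊗ₜ[A] b)) = u ((1 : A ⧸ J) ⊗ₜ[A] b)
      rw [Algebra.TensorProduct.map_tmul, ← hv']
      rfl
    | add x y hx hy => rw [map_add, map_add, hx, hy]

end Groth.Agent.S2487
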