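import Mathlib
import Groth.Statements.S2563

set_option autoImplicit false
universe u
open TensorProduct
open EGA43

namespace Groth.Agent.S2563

section aux

variable {A : Type u} [CommRing A] {B : Type u} [CommRing B] [Algebra A B]
  (J : Ideal A)
  {M : Type u} [AddCommGroup M] [Module A M]
  {I : Type u} (bas : Module.Basis I (A ⧸ J) ((A ⧸ J) ⊗[A] M)) (m : I → M)

/-- nilpotent Nakayama. -/
theorem eq_top_of_sup_smul_top {N : Submodule A M} (h : N ⊔ J • (⊤ : Submodule A M) = ⊤)
    {n : ℕ} (hJ : J ^ n = ⊥) : N = ⊤ := by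
  have key : ∀ k : ℕ, N ⊔ J ^ k • (⊤ : Submodule A M) = ⊤ := by
    intro k
    induction k with
    | zero => simp
    | succ k ih =>
      rw [eq_top_iff]
      calc (⊤ : Submodule A M) = N ⊔ J • (⊤ : Submodule A M) := h.symm
        _ = N ⊔ J • (N ⊔ J ^ k • (⊤ : Submodule A M)) := by rw [ih]
        _ = N ⊔ (J • N ⊔ J • (J ^ k • (⊤ : Submodule A M))) := by rw [Submodule.smul_sup]
        _ ≤ N ⊔ J ^ (k + 1) • (⊤ : Submodule A M) := by
          refine sup_le le_sup_left (sup_le ?_ ?_)
          · exact le_sup_of_le_left Submodule.smul_le_right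
          · rw [← mul_smul, ← pow_succ']
            exact le_sup_right
  have := key n
  rwa [hJ, Submodule.bot_smul, sup_bot_eq] at this

/-- the comparison map over `B`. -/
noncomputable def psi : (I →₀ B) →ₗ[B] B ⊗[A] M :=
  Finsupp.linearCombination B (fun j => (1 : B) ⊗ₜ[A] m j)

lemma psi_mapRange (x : I →₀ A) :
    psi (A := A) (B := B) m (Finsupp.mapRange (algebraMap A B) (map_zero _) x) =
      (1 : B) ⊗ₜ[A] (Finsupp.linearCombination A m x) := by
  induction x using Finsupp.induction_linear with
  | zero => simp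
  | add x y hx hy =>
    rw [Finsupp.mapRange_add (by intro a b; exact map_add _ a b), map_add, hx, hy, map_add,
      TensorProduct.tmul_add]
  | single j a =>
    rw [Finsupp.mapRange_single, psi, Finsupp.linearCombination_single,
      Finsupp.linearCombination_single, TensorProduct.tmul_smul, algebraMap_smul]

/-- coordinate functionals. -/
noncomputable def rho (j : I) : M →ₗ[A] (A ⧸ J) :=
  ((bas.coord j).restrictScalars A) ∘ₗ (TensorProduct.mk A (A ⧸ J) M 1)

omit [Algebra A B] in
lemma rho_m (hm : ∀ j, (1 : A ⧸ J) ⊗ₜ[A] m j = bas j) [DecidableEq I] (j l : I) :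
    rho J bas j (m l) = if l = j then 1 else 0 := by
  simp only [rho, LinearMap.coe_comp, Function.comp_apply, TensorProduct.mk_apply,
    LinearMap.coe_restrictScalars, hm, Module.Basis.coord_apply, Module.Basis.repr_self,
    Finsupp.single_apply]

lemma baseChange_rho_psi (hm : ∀ j, (1 : A ⧸ J) ⊗ₜ[A] m j = bas j) (j : I) (g : I →₀ B) :
    LinearMap.baseChange B (rho J bas j) (psi (A := A) (B := B) m g) = g j ⊗ₜ[A] (1 : A ⧸ J) := by
  classical
  induction g using Finsupp.induction_linear with
  | zero => simp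
  | add x y hx hy => rw [map_add, map_add, hx, hy, Finsupp.add_apply, TensorProduct.add_tmul]
  | single l b =>
    rw [psi, Finsupp.linearCombination_single, map_smul, LinearMap.baseChange_tmul,
      rho_m J bas m hm, Finsupp.single_apply, TensorProduct.smul_tmul', smul_eq_mul, mul_one]
    split_ifs <;> simp

lemma mem_map_of_tmul_one_eq_zero (b : B) (h : b ⊗ₜ[A] (1 : A ⧸ J) = 0) :
    b ∈ J.map (algebraMap A B) := by
  have h1 := congrArg (TensorProduct.tensorQuotEquivQuotSMul B J) h
  rw [← map_one (Ideal.Quotient.mk J), TensorProduct.tensorQuotEquivQuotSMul_tmul_mk, map_zero,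
    one_smul, Submodule.Quotient.mk_eq_zero, Ideal.smul_top_eq_map] at h1
  exact h1

lemma coord_mem_of_psi_eq_zero (hm : ∀ j, (1 : A ⧸ J) ⊗ₜ[A] m j = bas j) (g : I →₀ B)
    (hg : psi (A := A) (B := B) m g = 0) (j : I) : g j ∈ J.map (algebraMap A B) := by
  have h1 := baseChange_rho_psi (B := B) J bas m hm j g
  rw [hg, map_zero] at h1
  exact mem_map_of_tmul_one_eq_zero J _ h1.symm

lemma psi_injective (hm : ∀ j, (1 : A ⧸ J) ⊗ₜ[A] m j = bas j)
    (hsurj : Function.Surjective (psi (A := A) (B := B) m)) [Module.Free B (B ⊗[A] M)]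
    {n : ℕ} (hJ : J ^ n = ⊥) : Function.Injective (psi (A := A) (B := B) m) := by
  classical
  obtain ⟨s, hs⟩ := Module.projective_lifting_property (psi (A := A) (B := B) m) LinearMap.id hsurj
  have hs' : ∀ y, psi (A := A) (B := B) m (s y) = y := fun y => LinearMap.congr_fun hs y
  have hJB : (J.map (algebraMap A B)) ^ n = ⊥ := by rw [← Ideal.map_pow, hJ, Ideal.map_bot]
  let E : (I →₀ B) →ₗ[B] (I →₀ B) := LinearMap.id - s ∘ₗ psi (A := A) (B := B) m
  have hEdef : ∀ g, E g = g - s (psi (A := A) (B := B) m g) := fun g => rfl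
  have hE0 : ∀ g, psi (A := A) (B := B) m (E g) = 0 := by
    intro g
    rw [hEdef, map_sub, hs', sub_self]
  have hEE : ∀ g, E (E g) = E g := by
    intro g
    rw [hEdef (E g), hE0, map_zero, sub_zero]
  have hE1 : ∀ g j, E g j ∈ J.map (algebraMap A B) :=
    fun g j => coord_mem_of_psi_eq_zero J bas m hm (E g) (hE0 g) j
  have key : ∀ k : ℕ, ∀ g j, E g j ∈ (J.map (algebraMap A B)) ^ k := by
    intro k
    induction k with
    | zero => intro g j; simp
    | succ k ih =>
      intro g j
      rw [← hEE g]
      set h := E g with hh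
      have hsum : E h = ∑ l ∈ h.support, h l • E (Finsupp.single l (1 : B)) := by
        conv_lhs => rw [← Finsupp.sum_single h]
        rw [Finsupp.sum, map_sum]
        refine Finset.sum_congr rfl fun l _ => ?_
        rw [← map_smul, Finsupp.smul_single, smul_eq_mul, mul_one]
      rw [hsum, Finsupp.coe_finsetSum, Finset.sum_apply]
      refine Ideal.sum_mem _ fun l _ => ?_
      rw [Finsupp.smul_apply, smul_eq_mul, pow_succ]
      exact Ideal.mul_mem_mul (ih g l) (hE1 _ j)
  rw [injective_iff_map_eq_zero]
  intro g hg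
  have hgE : E g = g := by rw [hEdef, hg, map_zero, sub_zero]
  ext j
  have := key n g j
  rw [hJB, hgE] at this
  simpa using this

end aux

/-- Let A be a commutative ring, J a nilpotent ideal of A, and (B_i) a family of commutative A-algebras
such that an element of A vanishing in every B_i is zero. Let M be an A-module such that each B_i
⊗_A M is a free B_i-module and (A/J) ⊗_A M is a free (A/J)-module. Then M is a free A-module. -/
theorem result {A : Type u} [CommRing A] (J : Ideal A) (hJ : IsNilpotent J)
    {ι : Type u} (B : ι → Type u) [∀ i, CommRing (B i)] [∀ i, Algebra A (B i)]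
    (hB : ∀ a : A, (∀ i, algebraMap A (B i) a = 0) → a = 0)
    (M : Type u) [AddCommGroup M] [Module A M]
    (hfree : ∀ i, Module.Free (B i) (B i ⊗[A] M)) (hfreeJ : Module.Free (A ⧸ J) ((A ⧸ J) ⊗[A] M)) :
    Module.Free A M := by
  classical
  obtain ⟨n, hn⟩ := hJ
  rw [Ideal.zero_eq_bot] at hn
  let bas := Module.Free.chooseBasis (A ⧸ J) ((A ⧸ J) ⊗[A] M)
  have hlift : ∀ j, ∃ mj : M, (1 : A ⧸ J) ⊗ₜ[A] mj = bas j := fun j =>
    (TensorProduct.mk_surjective A M (A ⧸ J) Ideal.Quotient.mk_surjective) (bas j)
  choose m hm using hlift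
  set φ := Finsupp.linearCombination A m with hφ
  have hmrange : ∀ j, m j ∈ LinearMap.range φ := fun j =>
    ⟨Finsupp.single j 1, by rw [hφ, Finsupp.linearCombination_single, one_smul]⟩
  -- surjectivity
  have hsurj : Function.Surjective φ := by
    rw [← LinearMap.range_eq_top]
    refine eq_top_of_sup_smul_top J ?_ hn
    rw [eq_top_iff]
    rintro x -
    set r := bas.repr ((1 : A ⧸ J) ⊗ₜ[A] x) with hr
    set y : M := ∑ j ∈ r.support, (Quotient.out (r j) : A) • m j with hy
    have hyrange : y ∈ LinearMap.range φ :=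
      Submodule.sum_mem _ fun j _ => Submodule.smul_mem _ _ (hmrange j)
    have h1 : (1 : A ⧸ J) ⊗ₜ[A] y = (1 : A ⧸ J) ⊗ₜ[A] x := by
      rw [hy, TensorProduct.tmul_sum]
      conv_rhs => rw [← bas.linearCombination_repr ((1 : A ⧸ J) ⊗ₜ[A] x)]
      rw [Finsupp.linearCombination_apply, Finsupp.sum, ← hr]
      refine Finset.sum_congr rfl fun j _ => ?_
      rw [TensorProduct.tmul_smul, hm, ← algebraMap_smul (A ⧸ J) (Quotient.out (r j) : A) (bas j),
        Ideal.Quotient.algebraMap_eq, Ideal.Quotient.mk_out]
    have h2 : x - y ∈ J • (⊤ : Submodule A M) := by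
      have := congrArg (TensorProduct.quotTensorEquivQuotSMul M J) h1
      rw [TensorProduct.quotTensorEquivQuotSMul_mk_one_tmul,
        TensorProduct.quotTensorEquivQuotSMul_mk_one_tmul] at this
      exact (Submodule.Quotient.eq _).mp this.symm
    have : x = y + (x - y) := by abel
    rw [this]
    exact Submodule.add_mem_sup hyrange h2
  -- injectivity
  have hinj : Function.Injective φ := by
    rw [injective_iff_map_eq_zero]
    intro x hx
    ext j
    rw [Finsupp.zero_apply]
    apply hB
    intro i
    haveI := hfree i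
    have hsurj_i : Function.Surjective (psi (A := A) (B := B i) m) := by
      intro z
      induction z using TensorProduct.induction_on with
      | zero => exact ⟨0, map_zero _⟩
      | tmul b y =>
        obtain ⟨x', rfl⟩ := hsurj y
        refine ⟨b • Finsupp.mapRange (algebraMap A (B i)) (map_zero _) x', ?_⟩
        rw [map_smul, psi_mapRange, TensorProduct.smul_tmul', smul_eq_mul, mul_one]
      | add z w hz hw =>
        obtain ⟨a, rfl⟩ := hz
        obtain ⟨b, rfl⟩ := hw
        exact ⟨a + b, map_add _ _ _⟩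
    have hinj_i := psi_injective (B := B i) J bas m hm hsurj_i hn
    have h0 : psi (A := A) (B := B i) m
        (Finsupp.mapRange (algebraMap A (B i)) (map_zero _) x) = 0 := by
      rw [psi_mapRange, ← hφ, hx, TensorProduct.tmul_zero]
    have h1 := hinj_i (h0.trans (map_zero _).symm)
    have h2 := DFunLike.congr_fun h1 j
    simpa using h2
  exact Module.Free.of_equiv (LinearEquiv.ofBijective φ ⟨hinj, hsurj⟩)

end Groth.Agent.S2563
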