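import Groth.Statements.S2564
import Mathlib
import Groth.Agent.Lib.Helper3.IntFlatDesc1
import Groth.Agent.Lib.Helper3.FlatDescI
import Groth.Agent.Lib.Helper3.FlatFinDesc

set_option autoImplicit false
open CategoryTheory AlgebraicGeometry
universe u
open EGA43

namespace Groth.Agent.S2564

open CategoryTheory.Limits in
/-- Let A ⟶ A' be an injective ring homomorphism making A' integral over A, f : X ⟶ Spec A locally of
finite presentation, x a point of X, and X' = X ×_{Spec A} Spec A'. If X' ⟶ Spec A' is flat at every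
point of X' lying over x, then f is flat at x. -/
theorem result {A A' : Type u} [CommRing A] [CommRing A']
    [Algebra A A'] [Algebra.IsIntegral A A'] (hinj : Function.Injective (algebraMap A A'))
    {X : Scheme.{u}} (f : X ⟶ Spec (CommRingCat.of A)) [LocallyOfFinitePresentation f] (x : X)
    (h : ∀ x' : ↥(pullback f (Spec.map (CommRingCat.ofHom (algebraMap A A')))),
      (pullback.fst f _).base x' = x →
      ((pullback.snd f (Spec.map (CommRingCat.ofHom (algebraMap A A')))).stalkMap x').hom.Flat) :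
    (f.stalkMap x).hom.Flat := by
  classical
  set φ : CommRingCat.of A ⟶ CommRingCat.of A' := CommRingCat.ofHom (algebraMap A A') with hφ
  set g := Spec.map φ with hg
  set f' := pullback.snd f g with hf'
  set g' := pullback.fst f g with hg'
  have hc : IsPullback g' f' f g := IsPullback.of_hasPullback f g
  have hφint : φ.hom.IsIntegral := algebraMap_isIntegral_iff.mpr inferInstance
  haveI : IsIntegralHom g := IsIntegralHom.SpecMap_iff.mpr hφint
  haveI : IsIntegralHom g' := by rw [hg']; infer_instance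
  haveI : LocallyOfFinitePresentation f' := by rw [hf']; infer_instance
  have hopen : IsOpen {x' : ↥(pullback f g) | (f'.stalkMap x').hom.Flat} :=
    Groth.Agent.Lib.helper3.FlatDesc.isOpen_flatLocus_of_locallyOfFinitePresentation f'
  have hclosed : IsClosed (g' '' {x' : ↥(pullback f g) | (f'.stalkMap x').hom.Flat}ᶜ) :=
    g'.isClosedMap _ hopen.isClosed_compl
  have hx : x ∈ (g' '' {x' : ↥(pullback f g) | (f'.stalkMap x').hom.Flat}ᶜ)ᶜ := by
    rintro ⟨x', hx', rfl⟩
    exact hx' (h x' rfl)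
  obtain ⟨_, ⟨U, hU : IsAffineOpen U, rfl⟩, hxU, hUZ⟩ :=
    X.isBasis_affineOpens.exists_subset_of_mem_open hx hclosed.isOpen_compl
  have hUS := isAffineOpen_top (Spec (CommRingCat.of A))
  have hUT := isAffineOpen_top (Spec (CommRingCat.of A'))
  have hUST : (⊤ : (Spec (CommRingCat.of A')).Opens) ≤ g ⁻¹ᵁ ⊤ := fun _ _ => trivial
  have hUSX : U ≤ f ⁻¹ᵁ ⊤ := fun _ _ => trivial
  set UY : (pullback f g).Opens := g' ⁻¹ᵁ U ⊓ f' ⁻¹ᵁ ⊤ with hUYdef
  have hUYX : UY ≤ g' ⁻¹ᵁ U := inf_le_left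
  have hUYT : UY ≤ f' ⁻¹ᵁ ⊤ := inf_le_right
  have hUY : IsAffineOpen UY := by
    haveI : IsAffine ((⊤ : (Spec (CommRingCat.of A)).Opens) : Scheme) := hUS
    haveI : IsAffine ((⊤ : (Spec (CommRingCat.of A')).Opens) : Scheme) := hUT
    haveI : IsAffine (U : Scheme) := hU
    exact .of_isIso (Scheme.Hom.isPullback_resLE hc hUST hUSX rfl).isoPullback.hom
  have hpo : IsPushout (f.appLE ⊤ U hUSX) (g.appLE ⊤ ⊤ hUST) (g'.appLE U UY hUYX)
      (f'.appLE ⊤ UY hUYT) := by
    haveI := isIso_pushoutSection_of_isAffineOpen hc hUST hUSX rfl hUS hUT hU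
    exact (isIso_pushoutSection_iff hc hUST hUSX rfl).mp inferInstance
  letI algAB : Algebra Γ(Spec (CommRingCat.of A), ⊤) Γ(X, U) := (f.appLE ⊤ U hUSX).hom.toAlgebra
  letI algAA' : Algebra Γ(Spec (CommRingCat.of A), ⊤) Γ(Spec (CommRingCat.of A'), ⊤) :=
    (g.appLE ⊤ ⊤ hUST).hom.toAlgebra
  letI algBB' : Algebra Γ(X, U) Γ(pullback f g, UY) := (g'.appLE U UY hUYX).hom.toAlgebra
  letI algA'B' : Algebra Γ(Spec (CommRingCat.of A'), ⊤) Γ(pullback f g, UY) :=
    (f'.appLE ⊤ UY hUYT).hom.toAlgebra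
  letI algAB' : Algebra Γ(Spec (CommRingCat.of A), ⊤) Γ(pullback f g, UY) :=
    ((g'.appLE U UY hUYX).hom.comp (f.appLE ⊤ U hUSX).hom).toAlgebra
  haveI tw1 : IsScalarTower Γ(Spec (CommRingCat.of A), ⊤) Γ(X, U) Γ(pullback f g, UY) :=
    IsScalarTower.of_algebraMap_eq (fun _ => rfl)
  have hsq : ∀ a : Γ(Spec (CommRingCat.of A), ⊤),
      (g'.appLE U UY hUYX).hom ((f.appLE ⊤ U hUSX).hom a) =
      (f'.appLE ⊤ UY hUYT).hom ((g.appLE ⊤ ⊤ hUST).hom a) := fun a =>
    congrArg (fun ψ => ψ.hom a) hpo.w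
  haveI tw2 : IsScalarTower Γ(Spec (CommRingCat.of A), ⊤) Γ(Spec (CommRingCat.of A'), ⊤)
      Γ(pullback f g, UY) := IsScalarTower.of_algebraMap_eq (fun a => hsq a)
  haveI hpush : Algebra.IsPushout Γ(Spec (CommRingCat.of A), ⊤) Γ(X, U)
      Γ(Spec (CommRingCat.of A'), ⊤) Γ(pullback f g, UY) :=
    CommRingCat.isPushout_iff_isPushout.mp hpo
  haveI hpush' : Algebra.IsPushout Γ(Spec (CommRingCat.of A), ⊤) Γ(Spec (CommRingCat.of A'), ⊤)
      Γ(X, U) Γ(pullback f g, UY) := hpush.symm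
  have hfp : (f.appLE ⊤ U hUSX).hom.FinitePresentation := f.finitePresentation_appLE hUS hU hUSX
  haveI : Algebra.FinitePresentation Γ(Spec (CommRingCat.of A), ⊤) Γ(X, U) := hfp
  have halg : algebraMap Γ(Spec (CommRingCat.of A), ⊤) Γ(Spec (CommRingCat.of A'), ⊤) =
      ((Scheme.ΓSpecIso (CommRingCat.of A')).inv.hom.comp φ.hom).comp
        (Scheme.ΓSpecIso (CommRingCat.of A)).hom.hom := by
    change ((Spec.map φ).appLE ⊤ ⊤ hUST).hom = _
    rw [Groth.Agent.Lib.helper3.FlatFinDesc.appLE_top_eq]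
    rfl
  have hint' : (algebraMap Γ(Spec (CommRingCat.of A), ⊤) Γ(Spec (CommRingCat.of A'), ⊤)).IsIntegral := by
    rw [halg]
    refine RingHom.IsIntegral.trans _ _ ?_ (RingHom.IsIntegral.trans _ _ hφint ?_)
    · exact RingHom.isIntegral_of_surjective _
        (ConcreteCategory.bijective_of_isIso (Scheme.ΓSpecIso _).hom).2
    · exact RingHom.isIntegral_of_surjective _
        (ConcreteCategory.bijective_of_isIso (Scheme.ΓSpecIso _).inv).2
  haveI : Algebra.IsIntegral Γ(Spec (CommRingCat.of A), ⊤) Γ(Spec (CommRingCat.of A'), ⊤) :=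
    algebraMap_isIntegral_iff.mp hint'
  have hinj' : Function.Injective
      (algebraMap Γ(Spec (CommRingCat.of A), ⊤) Γ(Spec (CommRingCat.of A'), ⊤)) := by
    rw [halg]
    exact ((ConcreteCategory.bijective_of_isIso (Scheme.ΓSpecIso _).inv).1.comp hinj).comp
      (ConcreteCategory.bijective_of_isIso (Scheme.ΓSpecIso _).hom).1
  have hflat' : Module.Flat Γ(Spec (CommRingCat.of A'), ⊤) Γ(pullback f g, UY) := by
    refine Module.flat_of_isLocalized_maximal (R := Γ(Spec (CommRingCat.of A'), ⊤))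
      Γ(pullback f g, UY) Γ(pullback f g, UY)
      (fun P _ => LocalizedModule P.primeCompl Γ(pullback f g, UY))
      (fun P _ => LocalizedModule.mkLinearMap P.primeCompl Γ(pullback f g, UY)) ?_
    intro P hP
    haveI : P.IsPrime := hP.isPrime
    set q : PrimeSpectrum Γ(pullback f g, UY) := ⟨P, inferInstance⟩ with hq
    have hyU : hUY.fromSpec q ∈ UY := by
      rw [← SetLike.mem_coe, ← hUY.range_fromSpec]
      exact Set.mem_range_self q
    have hq' : hUY.primeIdealOf ⟨hUY.fromSpec q, hyU⟩ = q :=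
      hUY.fromSpec.isOpenEmbedding.injective (hUY.fromSpec_primeIdealOf ⟨hUY.fromSpec q, hyU⟩)
    have hfl : (f'.stalkMap (hUY.fromSpec q)).hom.Flat := by
      by_contra hcon
      exact hUZ (hUYX hyU) ⟨hUY.fromSpec q, hcon, rfl⟩
    have := (Groth.Agent.Lib.helper3.FlatLocus.flat_stalkMap_iff f' ⊤ hUT UY hUY hUYT hyU).mp hfl
    rw [hq'] at this
    exact this
  have hflat : Module.Flat Γ(Spec (CommRingCat.of A), ⊤) Γ(X, U) :=
    Groth.Agent.Lib.helper3.IntFlatDesc.flat_of_isPushout_integral_injective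
      (A' := Γ(Spec (CommRingCat.of A'), ⊤)) (B' := Γ(pullback f g, UY)) hinj' hflat'
  rw [Groth.Agent.Lib.helper3.FlatLocus.flat_stalkMap_iff f ⊤ hUS U hU hUSX hxU]
  exact Module.Flat.trans Γ(Spec (CommRingCat.of A), ⊤) Γ(X, U) _

end Groth.Agent.S2564
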