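import Groth.Statements.S2569
import Groth.Agent.Lib.Helper9.PropDvr6

set_option autoImplicit false
open CategoryTheory AlgebraicGeometry
universe u
open EGA43

namespace Groth.Agent.S2569

/-- Let Y be locally Noetherian and f : X ⟶ Y separated, of finite type and universally submersive
(every base change is a topological quotient map onto its target), with all fibres geometrically
connected. If the fibre over a point y is proper over the residue field of y, then f is proper over
some open neighbourhood of y. -/
theorem result {X Y : Scheme.{u}} [IsLocallyNoetherian Y] (f : X ⟶ Y)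
    [IsSeparated f] [LocallyOfFiniteType f] [QuasiCompact f]
    (hsub : MorphismProperty.universally (topologically fun g => Topology.IsQuotientMap g) f)
    (hconn : ∀ y : Y, GeometricallyConnected (f.fiberToSpecResidueField y))
    (y : Y) (hy : IsProper (f.fiberToSpecResidueField y)) :
    ∃ U : Y.Opens, y ∈ U ∧ IsProper (f ∣_ U) := by
  apply Groth.Agent.Lib.helper9.PropDvr.exists_isProper_restrict_of_dvrProperAt f y
  intro R _ _ _ _ g hgc _
  subst hgc
  have hs' := Groth.Agent.Lib.helper9.PropDvr.isProper_fiber_snd f g (IsLocalRing.closedPoint R) hy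
  have hconn' := Groth.Agent.Lib.helper9.PropDvr.isPreconnected_preimage_of_geometricallyConnected_fiber
    f g (⟨⊥, Ideal.isPrime_bot⟩ : PrimeSpectrum R) (hconn _)
  have hq : Topology.IsQuotientMap (Limits.pullback.snd f g) :=
    hsub (Limits.pullback.fst f g) g (Limits.pullback.snd f g) (IsPullback.of_hasPullback f g).flip
  refine Groth.Agent.Lib.helper9.PropDvr.isProper_of_henselian_dvr (Limits.pullback.snd f g) hs' hconn' ?_
  intro hcl
  have h1 : IsClosed ({(⟨⊥, Ideal.isPrime_bot⟩ : PrimeSpectrum R)} :
      Set ↥(Spec (CommRingCat.of R))) := hq.isClosed_preimage.mp hcl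
  have h2 : IsLocalRing.closedPoint R ∈
      ({(⟨⊥, Ideal.isPrime_bot⟩ : PrimeSpectrum R)} : Set ↥(Spec (CommRingCat.of R))) :=
    (IsLocalRing.specializes_closedPoint (R := R) _).mem_closed h1 rfl
  exact Groth.Agent.Lib.helper9.PropDvr.bot_ne_closedPoint h2.symm

end Groth.Agent.S2569
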