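import Groth.Statements.S2574
import Mathlib
import Groth.Agent.Lib.Helper8.LocalFlat
import Groth.Agent.S1267

set_option autoImplicit false
open TensorProduct
universe u
open EGA43

namespace Groth.Agent.S2574

open TensorProduct Function
open Groth.Agent.Lib.helper8.LocalFlat

section
variable {A : Type u} [CommRing A] [IsNoetherianRing A]

theorem step (J : Ideal A) (M : Type u) [AddCommGroup M] [Module A M]
    [Module.Flat (A ⧸ J) ((A ⧸ J) ⊗[A] M)]
    (hloc : ∀ (p : Ideal A) [p.IsPrime], p ∈ associatedPrimes A A →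
      Module.Flat A (LocalizedModule p.primeCompl M))
    (L₁ L₂ : Ideal A) (h12 : L₁ ≤ L₂) (hJL : J * L₂ ≤ L₁) (hL2J : L₂ ≤ J)
    (hreg : ∀ s : A, s ∈ nonZeroDivisors A → ∀ y ∈ L₂, s * y ∈ L₁ → y ∈ L₁)
    [Module.Flat (A ⧸ L₂) ((A ⧸ L₂) ⊗[A] M)] :
    Module.Flat (A ⧸ L₁) ((A ⧸ L₁) ⊗[A] M) := by
  classical
  set L : Ideal (A ⧸ L₁) := L₂.map (Ideal.Quotient.mk L₁) with hLdef
  have hL2 : L ^ 2 = ⊥ := by
    rw [hLdef, ← Ideal.map_pow, eq_bot_iff]
    calc Ideal.map (Ideal.Quotient.mk L₁) (L₂ ^ 2) ≤ Ideal.map (Ideal.Quotient.mk L₁) L₁ := by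
          apply Ideal.map_mono
          rw [pow_two]
          exact (Ideal.mul_mono_left hL2J).trans hJL
      _ = ⊥ := Ideal.map_quotient_self L₁
  have hLnil : IsNilpotent L := ⟨2, hL2⟩
  -- `L` is an `A ⧸ J`-module
  have htors : Module.IsTorsionBySet A ↥L (J : Set A) := by
    intro y a
    obtain ⟨a, ha⟩ := a
    obtain ⟨y, hyL⟩ := y
    obtain ⟨b, hb, rfl⟩ := (Ideal.mem_map_iff_of_surjective _ Ideal.Quotient.mk_surjective).mp hyL
    apply Subtype.ext
    show a • (Ideal.Quotient.mk L₁ b) = 0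
    rw [Algebra.smul_def]
    show Ideal.Quotient.mk L₁ a * Ideal.Quotient.mk L₁ b = 0
    rw [← map_mul, Ideal.Quotient.eq_zero_iff_mem]
    exact hJL (Ideal.mul_mem_mul ha hb)
  letI : Module (A ⧸ J) ↥L := htors.module
  haveI : IsScalarTower A (A ⧸ J) ↥L := htors.isScalarTower
  -- the instance needed for the nilpotent criterion
  have hmapI : ∀ a ∈ L₂, algebraMap A ((A ⧸ L₁) ⧸ L) a = 0 := by
    intro a ha
    have : algebraMap A ((A ⧸ L₁) ⧸ L) a = Ideal.Quotient.mk L (Ideal.Quotient.mk L₁ a) := rfl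
    rw [this, Ideal.Quotient.eq_zero_iff_mem]
    exact Ideal.mem_map_of_mem _ ha
  letI : Algebra (A ⧸ L₂) ((A ⧸ L₁) ⧸ L) :=
    (Ideal.Quotient.lift L₂ (algebraMap A ((A ⧸ L₁) ⧸ L)) hmapI).toAlgebra
  haveI : IsScalarTower A (A ⧸ L₂) ((A ⧸ L₁) ⧸ L) := IsScalarTower.of_algebraMap_eq (fun x => rfl)
  haveI : Module.Flat ((A ⧸ L₁) ⧸ L) (((A ⧸ L₁) ⧸ L) ⊗[A ⧸ L₁] ((A ⧸ L₁) ⊗[A] M)) := by
    let e2 := AlgebraTensorModule.cancelBaseChange A (A ⧸ L₂) ((A ⧸ L₁) ⧸ L) ((A ⧸ L₁) ⧸ L) M
    let e3 := AlgebraTensorModule.cancelBaseChange A (A ⧸ L₁) ((A ⧸ L₁) ⧸ L) ((A ⧸ L₁) ⧸ L) M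
    exact Module.Flat.of_linearEquiv (e3 ≪≫ₗ e2.symm)
  refine flat_of_isNilpotent (R := A ⧸ L₁) L ((A ⧸ L₁) ⊗[A] M) ?_ hLnil
  suffices hmain : Injective ((L.subtype.restrictScalars A).lTensor M) by
    have hr : Injective ((L.subtype.restrictScalars A).rTensor M) :=
      (LinearMap.lTensor_inj_iff_rTensor_inj M _).mp hmain
    intro x y hxy
    apply (AlgebraTensorModule.cancelBaseChange A (A ⧸ L₁) (A ⧸ L₁) L M).injective
    apply hr
    rw [cancelBaseChange_rTensor, cancelBaseChange_rTensor, hxy]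
  rw [injective_iff_map_eq_zero]
  intro x hx
  -- local annihilators at associated primes
  have hlocx : ∀ p ∈ associatedPrimes A A, ∃ s : A, s ∉ p ∧ s • x = 0 := by
    intro p hp
    haveI : p.IsPrime := hp.isPrime
    haveI := hloc p hp
    exact Groth.Agent.S1267.exists_smul_eq_zero p M (L.subtype.restrictScalars A)
      (by intro a b hab; exact Subtype.ext hab) x hx
  -- prime avoidance
  let 𝔞 : Ideal A := LinearMap.ker (LinearMap.toSpanSingleton A _ x)
  have h𝔞 : ∀ s : A, s ∈ 𝔞 ↔ s • x = 0 := by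
    intro s
    rw [LinearMap.mem_ker, LinearMap.toSpanSingleton_apply]
  obtain ⟨s, hs𝔞, hsreg⟩ : ∃ s ∈ 𝔞, s ∈ nonZeroDivisors A := by
    by_contra hcon
    push_neg at hcon
    have hsub : (𝔞 : Set A) ⊆ ⋃ p ∈ ((associatedPrimes.finite A A).toFinset : Set (Ideal A)),
        ((id p : Ideal A) : Set A) := by
      intro s hs
      have h1 : s ∈ ((nonZeroDivisors A : Set A))ᶜ := fun h => hcon s hs h
      rw [← biUnion_associatedPrimes_eq_compl_nonZeroDivisors] at h1
      obtain ⟨p, hp, hsp⟩ := Set.mem_iUnion₂.mp h1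
      exact Set.mem_iUnion₂.mpr ⟨p, by simpa using hp, hsp⟩
    obtain ⟨p, hp, hle⟩ := (Ideal.subset_union_prime (R := A) (f := id) ⊥ ⊥
      (fun i hi _ _ => ((associatedPrimes.finite A A).mem_toFinset.mp hi).isPrime)).mp hsub
    have hp' : p ∈ associatedPrimes A A := (associatedPrimes.finite A A).mem_toFinset.mp hp
    obtain ⟨s, hsp, hsx⟩ := hlocx p hp'
    exact hsp (hle ((h𝔞 s).mpr hsx))
  -- multiplication by `s` on `L`
  let g : ↥L →ₗ[A ⧸ J] ↥L := (Ideal.Quotient.mk J s) • (LinearMap.id : ↥L →ₗ[A ⧸ J] ↥L)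
  have hgapp : ∀ y : ↥L, g y = s • y := by
    intro y
    show (Ideal.Quotient.mk J s) • y = s • y
    rw [← algebraMap_smul (A ⧸ J) s y]
    rfl
  have hginj : Injective g := by
    rw [injective_iff_map_eq_zero]
    intro y hy
    rw [hgapp] at hy
    obtain ⟨y, hyL⟩ := y
    obtain ⟨b, hb, rfl⟩ := (Ideal.mem_map_iff_of_surjective _ Ideal.Quotient.mk_surjective).mp hyL
    apply Subtype.ext
    show Ideal.Quotient.mk L₁ b = 0
    rw [Ideal.Quotient.eq_zero_iff_mem]
    apply hreg s hsreg b hb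
    have := congrArg Subtype.val hy
    rw [← Ideal.Quotient.eq_zero_iff_mem]
    simpa [Algebra.smul_def] using this
  have hgM : Injective ((g.restrictScalars A).lTensor M) :=
    (LinearMap.lTensor_inj_iff_rTensor_inj M _).mpr
      (Groth.Agent.S1267.rTensor_injective_of_torsion J M g hginj)
  apply hgM
  rw [map_zero]
  have hg2 : g.restrictScalars A = s • (LinearMap.id : ↥L →ₗ[A] ↥L) := by
    apply LinearMap.ext
    intro y
    simp only [LinearMap.coe_restrictScalars, LinearMap.smul_apply, LinearMap.id_coe, id_eq]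
    exact hgapp y
  rw [hg2, LinearMap.lTensor_smul, LinearMap.lTensor_id, LinearMap.smul_apply, LinearMap.id_coe,
    id_eq]
  exact (h𝔞 s).mp hs𝔞

end

section
variable {A : Type u} [CommRing A] [IsNoetherianRing A]

/-- the chain `L i = J ⊓ Ann(J^i)` -/
def chain (J : Ideal A) (i : ℕ) : Ideal A := J ⊓ Submodule.annihilator (J ^ i)

theorem mem_chain (J : Ideal A) (i : ℕ) (y : A) :
    y ∈ chain J i ↔ y ∈ J ∧ ∀ z ∈ J ^ i, y * z = 0 := by
  unfold chain
  rw [Submodule.mem_inf, Submodule.mem_annihilator]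
  simp only [smul_eq_mul]

theorem chain_zero (J : Ideal A) : chain J 0 = ⊥ := by
  rw [eq_bot_iff]
  intro y hy
  have := ((mem_chain J 0 y).mp hy).2 1 (by rw [pow_zero, Ideal.one_eq_top]; trivial)
  rw [mul_one] at this
  rw [this]; exact zero_mem _

theorem chain_of_pow_eq_bot (J : Ideal A) (N : ℕ) (hN : J ^ N = ⊥) : chain J N = J := by
  apply le_antisymm
  · intro y hy; exact ((mem_chain J N y).mp hy).1
  · intro y hy
    refine (mem_chain J N y).mpr ⟨hy, fun z hz => ?_⟩
    rw [hN] at hz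
    rw [(Submodule.mem_bot A).mp hz, mul_zero]

theorem main (J : Ideal A) (hJ : IsNilpotent J) (M : Type u) [AddCommGroup M] [Module A M]
    [Module.Flat (A ⧸ J) ((A ⧸ J) ⊗[A] M)]
    (hloc : ∀ (p : Ideal A) [p.IsPrime], p ∈ associatedPrimes A A →
      Module.Flat A (LocalizedModule p.primeCompl M)) :
    Module.Flat (A ⧸ (⊥ : Ideal A)) ((A ⧸ (⊥ : Ideal A)) ⊗[A] M) := by
  obtain ⟨N, hN⟩ := hJ
  have key : ∀ k : ℕ, Module.Flat (A ⧸ chain J k) ((A ⧸ chain J k) ⊗[A] M) →
      Module.Flat (A ⧸ chain J 0) ((A ⧸ chain J 0) ⊗[A] M) := by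
    intro k
    induction k with
    | zero => exact id
    | succ k ih =>
      intro h
      apply ih
      haveI := h
      refine step J M hloc (chain J k) (chain J (k + 1)) ?_ ?_ ?_ ?_
      · intro y hy
        obtain ⟨h1, h2⟩ := (mem_chain J k y).mp hy
        exact (mem_chain J (k+1) y).mpr ⟨h1, fun z hz => h2 z (Ideal.pow_le_pow_right (Nat.le_succ k) hz)⟩
      · rw [Ideal.mul_le]
        intro j hj y hy
        obtain ⟨h1, h2⟩ := (mem_chain J (k+1) y).mp hy
        refine (mem_chain J k _).mpr ⟨Ideal.mul_mem_right _ _ hj, fun z hz => ?_⟩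
        have : j * z ∈ J ^ (k + 1) := by
          rw [pow_succ']
          exact Ideal.mul_mem_mul hj hz
        have h3 := h2 _ this
        rw [mul_comm j y, mul_assoc]; exact h3
      · intro y hy; exact ((mem_chain J (k+1) y).mp hy).1
      · intro s hs y hy hsy
        obtain ⟨h1, _⟩ := (mem_chain J (k+1) y).mp hy
        obtain ⟨_, h4⟩ := (mem_chain J k _).mp hsy
        refine (mem_chain J k y).mpr ⟨h1, fun z hz => ?_⟩
        have h5 := h4 z hz
        rw [mul_assoc, mul_comm] at h5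
        exact (mem_nonZeroDivisors_iff_right.mp hs) _ h5
  have h0 := key N (by rw [chain_of_pow_eq_bot J N hN]; infer_instance)
  rw [chain_zero] at h0
  exact h0

end



/-- Let A be a Noetherian ring, J a nilpotent ideal of A and M an A-module. Then M is flat over A if and
only if (A/J) ⊗_A M is flat over A/J and, for every associated prime p of A, the localization M_p is
flat over A_p. -/
theorem result {A : Type u} [CommRing A] [IsNoetherianRing A]
    (J : Ideal A) (hJ : IsNilpotent J) (M : Type u) [AddCommGroup M] [Module A M] :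
    Module.Flat A M ↔
      Module.Flat (A ⧸ J) ((A ⧸ J) ⊗[A] M) ∧
        ∀ p : associatedPrimes A A,
          haveI : p.1.IsPrime := IsAssociatedPrime.isPrime p.2
          Module.Flat (Localization.AtPrime p.1) (LocalizedModule p.1.primeCompl M) := by
  constructor
  · intro h
    refine ⟨inferInstance, fun p => ?_⟩
    haveI : p.1.IsPrime := IsAssociatedPrime.isPrime p.2
    infer_instance
  · rintro ⟨h1, h2⟩
    haveI := h1
    have hloc : ∀ (p : Ideal A) [p.IsPrime], p ∈ associatedPrimes A A →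
        Module.Flat A (LocalizedModule p.primeCompl M) := by
      intro p _ hp
      haveI := h2 ⟨p, hp⟩
      exact Module.Flat.trans A (Localization.AtPrime p) (LocalizedModule p.primeCompl M)
    haveI := main J hJ M hloc
    let e : (A ⧸ (⊥ : Ideal A)) ⊗[A] M ≃ₗ[A] M :=
      (TensorProduct.quotTensorEquivQuotSMul M (⊥ : Ideal A)) ≪≫ₗ
        (Submodule.quotEquivOfEqBot _ (by rw [Submodule.bot_smul]))
    exact flat_of_linearEquiv_of_surjective (R := A) (R₁ := A ⧸ (⊥ : Ideal A)) (R₂ := A)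
      Ideal.Quotient.mk_surjective (fun x => ⟨x, rfl⟩) (by
        intro a ha
        rw [RingHom.mem_ker] at ha ⊢
        have : a ∈ (⊥ : Ideal A) := Ideal.Quotient.eq_zero_iff_mem.mp ha
        rw [(Submodule.mem_bot A).mp this, map_zero]) e

end Groth.Agent.S2574
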