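import Groth.Statements.S2580
import Groth.Agent.Lib.Helper9.OpenImmDescend

set_option autoImplicit false
universe u
open CategoryTheory AlgebraicGeometry
open EGA43

namespace Groth.Agent.S2580

/-- Let S = lim S_i be a cofiltered limit of schemes with affine transition morphisms, S_{i₀} a
quasi-compact quasi-separated stage (the source needs S_{i₀} only quasi-compact; quasi-separatedness
is assumed here), f₀ : X₀ ⟶ Y₀ an S_{i₀}-morphism between schemes of finite presentation over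
S_{i₀}, and f : X ⟶ Y its base change to S (base changes expressed by pullback squares). If f is an
open immersion, then the base change f_i : X_i ⟶ Y_i of f₀ to some stage S_i is an open immersion. -/
theorem result {I : Type u} [SmallCategory I] [IsCofiltered I]
    (D : I ⥤ Scheme.{u}) (c : Limits.Cone D) (hc : Limits.IsLimit c)
    [∀ (i j : I) (f : i ⟶ j), IsAffineHom (D.map f)] (i₀ : I) [CompactSpace (D.obj i₀)]
    [QuasiSeparatedSpace (D.obj i₀)] {X₀ Y₀ : Scheme.{u}} (f₀ : X₀ ⟶ Y₀) (g₀ : Y₀ ⟶ D.obj i₀)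
    [LocallyOfFinitePresentation g₀] [QuasiCompact g₀] [QuasiSeparated g₀]
    [LocallyOfFinitePresentation (f₀ ≫ g₀)] [QuasiCompact (f₀ ≫ g₀)] [QuasiSeparated (f₀ ≫ g₀)]
    {X Y : Scheme.{u}} (f : X ⟶ Y) (g : Y ⟶ c.pt) (qY : Y ⟶ Y₀) (qX : X ⟶ X₀)
    (hY : IsPullback qY g g₀ (c.π.app i₀)) (hX : IsPullback qX f f₀ qY) [IsOpenImmersion f] :
    ∃ (i : I) (φ : i ⟶ i₀) (Xi Yi : Scheme.{u}) (fi : Xi ⟶ Yi) (gi : Yi ⟶ D.obj i) (pY : Yi ⟶ Y₀)
      (pX : Xi ⟶ X₀), IsPullback pY gi g₀ (D.map φ) ∧ IsPullback pX fi f₀ pY ∧ IsOpenImmersion fi := by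
  classical
  have hπaff : IsAffineHom (c.π.app i₀) := isAffineHom_π_app D c hc i₀
  have HX : IsPullback qX (f ≫ g) (f₀ ≫ g₀) (c.π.app i₀) := hX.paste_vert hY
  have : CompactSpace X₀ := QuasiCompact.compactSpace_of_compactSpace (f₀ ≫ g₀)
  have hqXaff : IsAffineHom qX :=
    MorphismProperty.of_isPullback (P := @IsAffineHom) HX.flip inferInstance
  have : CompactSpace X := QuasiCompact.compactSpace_of_compactSpace qX
  -- the range of `f`, transported to the standard limit `S ×_{S₀} Y₀`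
  let e := hY.flip.isoPullback
  have he1 : e.hom ≫ Limits.pullback.fst (c.π.app i₀) g₀ = g := hY.flip.isoPullback_hom_fst
  have he2 : e.hom ≫ Limits.pullback.snd (c.π.app i₀) g₀ = qY := hY.flip.isoPullback_hom_snd
  have hrc : IsCompact ((f.opensRange : Y.Opens) : Set Y) := isCompact_range f.continuous
  have hU'c : IsCompact ((e.inv ⁻¹ᵁ f.opensRange : (Limits.pullback (c.π.app i₀) g₀).Opens) :
      Set ↥(Limits.pullback (c.π.app i₀) g₀)) :=
    QuasiCompact.isCompact_preimage (f := e.inv) _ f.opensRange.2 hrc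
  have : ∀ {j j' : Over i₀} (m : j ⟶ j'),
      IsAffineHom ((Groth.Agent.Lib.helper9.bcDiagram D i₀ g₀).map m) := fun m => inferInstance
  obtain ⟨j, Uj, hUjc, hUj⟩ := exists_preimage_eq (Groth.Agent.Lib.helper9.bcDiagram D i₀ g₀)
    (Groth.Agent.Lib.helper9.bcCone D c i₀ g₀)
    (Groth.Agent.Lib.helper9.isLimitBcCone D c i₀ g₀ hc) (e.inv ⁻¹ᵁ f.opensRange) hU'c
  -- rebase to the stage `j`
  have hqY'cond : (g ≫ c.π.app j.left) ≫ D.map j.hom = qY ≫ g₀ := by
    rw [Category.assoc, c.w, hY.w]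
  let qY' : Y ⟶ Limits.pullback (D.map j.hom) g₀ := Limits.pullback.lift _ _ hqY'cond
  have hqY'1 : qY' ≫ Limits.pullback.fst (D.map j.hom) g₀ = g ≫ c.π.app j.left :=
    Limits.pullback.lift_fst _ _ _
  have hqY'2 : qY' ≫ Limits.pullback.snd (D.map j.hom) g₀ = qY := Limits.pullback.lift_snd _ _ _
  have hqX'cond : ((f ≫ g) ≫ c.π.app j.left) ≫ D.map j.hom = qX ≫ f₀ ≫ g₀ := by
    rw [Category.assoc, c.w, HX.w]
  let qX' : X ⟶ Limits.pullback (D.map j.hom) (f₀ ≫ g₀) := Limits.pullback.lift _ _ hqX'cond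
  have hqX'1 : qX' ≫ Limits.pullback.fst (D.map j.hom) (f₀ ≫ g₀) = (f ≫ g) ≫ c.π.app j.left :=
    Limits.pullback.lift_fst _ _ _
  have hqX'2 : qX' ≫ Limits.pullback.snd (D.map j.hom) (f₀ ≫ g₀) = qX :=
    Limits.pullback.lift_snd _ _ _
  have hk1 : qX' ≫ Groth.Agent.Lib.helper9.stageMap (D.map j.hom) f₀ g₀ = f ≫ qY' := by
    apply Limits.pullback.hom_ext
    · rw [Category.assoc, Category.assoc, Groth.Agent.Lib.helper9.stageMap_fst, hqX'1, hqY'1,
        Category.assoc]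
    · rw [Category.assoc, Category.assoc, Groth.Agent.Lib.helper9.stageMap_snd,
        reassoc_of% hqX'2, hqY'2, hX.w]
  have hY' : IsPullback qY' g (Limits.pullback.fst (D.map j.hom) g₀) (c.π.app j.left) :=
    Groth.Agent.Lib.helper9.isPullback_rebase_base (c.w j.hom) hY qY' hqY'1 hqY'2
  have hX' : IsPullback qX' f (Groth.Agent.Lib.helper9.stageMap (D.map j.hom) f₀ g₀) qY' :=
    Groth.Agent.Lib.helper9.isPullback_rebase_top hX qY' hqY'2 qX' hk1 hqX'2
  -- the preimage of `Uj` is the range of `f`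
  let πj : Limits.pullback (c.π.app i₀) g₀ ⟶ Limits.pullback (D.map j.hom) g₀ :=
    (Groth.Agent.Lib.helper9.bcCone D c i₀ g₀).π.app j
  have hπj1 : πj ≫ Limits.pullback.fst (D.map j.hom) g₀ =
      Limits.pullback.fst (c.π.app i₀) g₀ ≫ c.π.app j.left := Limits.pullback.lift_fst _ _ _
  have hπj2 : πj ≫ Limits.pullback.snd (D.map j.hom) g₀ = Limits.pullback.snd (c.π.app i₀) g₀ :=
    Groth.Agent.Lib.helper9.bcCone_π_snd D c i₀ g₀ j
  have hqY'e : qY' = e.hom ≫ πj := by
    apply Limits.pullback.hom_ext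
    · rw [hqY'1, Category.assoc, hπj1, reassoc_of% he1]
    · rw [hqY'2, Category.assoc, hπj2, he2]
  have hUj' : qY' ⁻¹ᵁ Uj = f.opensRange := by
    have h1 : qY' ⁻¹ᵁ Uj = e.hom ⁻¹ᵁ (πj ⁻¹ᵁ Uj) := by rw [hqY'e]; rfl
    have h2 : πj ⁻¹ᵁ Uj = e.inv ⁻¹ᵁ f.opensRange := hUj
    rw [h1, h2, ← Scheme.Hom.comp_preimage, e.hom_inv_id]
    rfl
  -- instances at the stage `j`
  have : IsAffineHom (D.map j.hom) := inferInstance
  have : CompactSpace ↥(D.obj j.left) := QuasiCompact.compactSpace_of_compactSpace (D.map j.hom)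
  have : QuasiSeparatedSpace ↥(D.obj j.left) :=
    quasiSeparatedSpace_of_quasiSeparated (D.map j.hom)
  have hfg : Groth.Agent.Lib.helper9.stageMap (D.map j.hom) f₀ g₀ ≫
      Limits.pullback.fst (D.map j.hom) g₀ = Limits.pullback.fst (D.map j.hom) (f₀ ≫ g₀) :=
    Groth.Agent.Lib.helper9.stageMap_fst _ _ _
  have : LocallyOfFinitePresentation (Groth.Agent.Lib.helper9.stageMap (D.map j.hom) f₀ g₀ ≫
      Limits.pullback.fst (D.map j.hom) g₀) := by
    rw [hfg]; infer_instance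
  have : QuasiCompact (Groth.Agent.Lib.helper9.stageMap (D.map j.hom) f₀ g₀ ≫
      Limits.pullback.fst (D.map j.hom) g₀) := by
    rw [hfg]; infer_instance
  have : QuasiSeparated (Groth.Agent.Lib.helper9.stageMap (D.map j.hom) f₀ g₀ ≫
      Limits.pullback.fst (D.map j.hom) g₀) := by
    rw [hfg]; infer_instance
  obtain ⟨l, hl⟩ := Groth.Agent.Lib.helper9.exists_isOpenImmersion_stageMap_of_opens D c hc j.left
    (Groth.Agent.Lib.helper9.stageMap (D.map j.hom) f₀ g₀) (Limits.pullback.fst (D.map j.hom) g₀)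
    f g qY' qX' hY' hX' Uj hUjc hUj'
  refine ⟨l.left, l.hom ≫ j.hom, _, _, Groth.Agent.Lib.helper9.stageMap (D.map l.hom)
    (Groth.Agent.Lib.helper9.stageMap (D.map j.hom) f₀ g₀) (Limits.pullback.fst (D.map j.hom) g₀),
    Limits.pullback.fst (D.map l.hom) (Limits.pullback.fst (D.map j.hom) g₀),
    Limits.pullback.snd (D.map l.hom) (Limits.pullback.fst (D.map j.hom) g₀) ≫
      Limits.pullback.snd (D.map j.hom) g₀,
    Limits.pullback.snd (D.map l.hom) (Groth.Agent.Lib.helper9.stageMap (D.map j.hom) f₀ g₀ ≫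
      Limits.pullback.fst (D.map j.hom) g₀) ≫ Limits.pullback.snd (D.map j.hom) (f₀ ≫ g₀),
    ?_, ?_, hl⟩
  · rw [Functor.map_comp]
    exact (Groth.Agent.Lib.helper9.isPullback_stage_base (D.map l.hom)
      (Limits.pullback.fst (D.map j.hom) g₀)).paste_horiz
      (Groth.Agent.Lib.helper9.isPullback_stage_base (D.map j.hom) g₀)
  · exact (Groth.Agent.Lib.helper9.isPullback_stageMap (D.map l.hom)
      (Groth.Agent.Lib.helper9.stageMap (D.map j.hom) f₀ g₀)
      (Limits.pullback.fst (D.map j.hom) g₀)).paste_horiz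
      (Groth.Agent.Lib.helper9.isPullback_stageMap (D.map j.hom) f₀ g₀)

end Groth.Agent.S2580
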