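import Groth.Statements.S2582
import Groth.Agent.Lib.Helper9.LimAffineStage
import Mathlib.AlgebraicGeometry.Morphisms.Affine
import Mathlib.AlgebraicGeometry.Morphisms.QuasiCompact
import Mathlib.AlgebraicGeometry.Morphisms.QuasiSeparated

set_option autoImplicit false
universe u
open CategoryTheory AlgebraicGeometry
open EGA43

namespace Groth.Agent.S2582

/-- Let S = lim S_i be a cofiltered limit of schemes with affine transition morphisms, S_{i₀} a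
quasi-compact quasi-separated stage (the source needs S_{i₀} only quasi-compact; quasi-separatedness
is assumed here), f₀ : X₀ ⟶ Y₀ an S_{i₀}-morphism between schemes of finite presentation over
S_{i₀}, and f : X ⟶ Y its base change to S (base changes expressed by pullback squares). If f is
affine, then the base change f_i : X_i ⟶ Y_i of f₀ to some stage S_i is affine. -/
theorem result {I : Type u} [SmallCategory I] [IsCofiltered I]
    (D : I ⥤ Scheme.{u}) (c : Limits.Cone D) (hc : Limits.IsLimit c)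
    [∀ (i j : I) (f : i ⟶ j), IsAffineHom (D.map f)] (i₀ : I) [CompactSpace (D.obj i₀)]
    [QuasiSeparatedSpace (D.obj i₀)] {X₀ Y₀ : Scheme.{u}} (f₀ : X₀ ⟶ Y₀) (g₀ : Y₀ ⟶ D.obj i₀)
    [LocallyOfFinitePresentation g₀] [QuasiCompact g₀] [QuasiSeparated g₀]
    [LocallyOfFinitePresentation (f₀ ≫ g₀)] [QuasiCompact (f₀ ≫ g₀)] [QuasiSeparated (f₀ ≫ g₀)]
    {X Y : Scheme.{u}} (f : X ⟶ Y) (g : Y ⟶ c.pt) (qY : Y ⟶ Y₀) (qX : X ⟶ X₀)
    (hY : IsPullback qY g g₀ (c.π.app i₀)) (hX : IsPullback qX f f₀ qY) [IsAffineHom f] :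
    ∃ (i : I) (φ : i ⟶ i₀) (Xi Yi : Scheme.{u}) (fi : Xi ⟶ Yi) (gi : Yi ⟶ D.obj i) (pY : Yi ⟶ Y₀)
      (pX : Xi ⟶ X₀), IsPullback pY gi g₀ (D.map φ) ∧ IsPullback pX fi f₀ pY ∧ IsAffineHom fi := by
  classical
  have : QuasiCompact f₀ := QuasiCompact.of_comp f₀ g₀
  have : CompactSpace X₀ := QuasiCompact.compactSpace_of_compactSpace (f₀ ≫ g₀)
  have : QuasiSeparatedSpace X₀ := quasiSeparatedSpace_of_quasiSeparated (f₀ ≫ g₀)
  have : CompactSpace Y₀ := QuasiCompact.compactSpace_of_compactSpace g₀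
  have : IsAffineHom (c.π.app i₀) := isAffineHom_π_app D c hc i₀
  have : IsAffineHom qY :=
    MorphismProperty.of_isPullback (P := @IsAffineHom) hY.flip inferInstance
  have HX : IsPullback qX (f ≫ g) (f₀ ≫ g₀) (c.π.app i₀) := hX.paste_vert hY
  -- the preimage in the limit of `f₀ ⁻¹ V` is affine, for `V` affine
  have hΩ : ∀ V : Y₀.Opens, IsAffineOpen V →
      IsAffineOpen (Limits.pullback.snd (c.π.app i₀) (f₀ ≫ g₀) ⁻¹ᵁ (f₀ ⁻¹ᵁ V)) := by
    intro V hV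
    have h1 : IsAffineOpen (f ⁻¹ᵁ (qY ⁻¹ᵁ V)) := (hV.preimage qY).preimage f
    have h2 : HX.flip.isoPullback.hom ⁻¹ᵁ
        (Limits.pullback.snd (c.π.app i₀) (f₀ ≫ g₀) ⁻¹ᵁ (f₀ ⁻¹ᵁ V)) = f ⁻¹ᵁ (qY ⁻¹ᵁ V) := by
      rw [← Scheme.Hom.comp_preimage, HX.flip.isoPullback_hom_snd, ← Scheme.Hom.comp_preimage,
        ← Scheme.Hom.comp_preimage, hX.w]
    have h3 : Limits.pullback.snd (c.π.app i₀) (f₀ ≫ g₀) ⁻¹ᵁ (f₀ ⁻¹ᵁ V) =
        HX.flip.isoPullback.inv ⁻¹ᵁ (f ⁻¹ᵁ (qY ⁻¹ᵁ V)) := by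
      rw [← h2]
      have key := Scheme.Hom.comp_preimage HX.flip.isoPullback.inv HX.flip.isoPullback.hom
        (Limits.pullback.snd (c.π.app i₀) (f₀ ≫ g₀) ⁻¹ᵁ (f₀ ⁻¹ᵁ V))
      rw [Iso.inv_hom_id, Scheme.Hom.id_preimage] at key
      exact key
    rw [h3]
    exact h1.preimage HX.flip.isoPullback.inv
  -- a finite affine cover of `Y₀`
  obtain ⟨s, hs, hcov⟩ := (isCompact_and_isOpen_iff_finite_and_eq_biUnion_affineOpens
    (U := (Set.univ : Set Y₀))).mp ⟨isCompact_univ, isOpen_univ⟩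
  have hstage : ∀ V : s, ∃ l : Over i₀, ∀ (l' : Over i₀) (_ : l' ⟶ l),
      IsAffineOpen (Limits.pullback.snd (D.map l'.hom) (f₀ ≫ g₀) ⁻¹ᵁ (f₀ ⁻¹ᵁ V.1.1)) := fun V =>
    Groth.Agent.Lib.helper9.exists_stage_isAffineOpen_preimage D c hc i₀ (f₀ ≫ g₀)
      (f₀ ⁻¹ᵁ V.1.1) (QuasiCompact.isCompact_preimage (f := f₀) _ V.1.1.2 V.1.2.isCompact)
      (hΩ V.1.1 V.1.2)
  choose lV hlV using hstage
  have : Fintype s := hs.fintype
  obtain ⟨l, hl⟩ := IsCofiltered.inf_objs_exists (Finset.univ.image lV)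
  have ml : ∀ V : s, l ⟶ lV V := fun V =>
    (hl (Finset.mem_image_of_mem _ (Finset.mem_univ V))).some
  have hAff : ∀ V : s,
      IsAffineOpen (Limits.pullback.snd (D.map l.hom) (f₀ ≫ g₀) ⁻¹ᵁ (f₀ ⁻¹ᵁ V.1.1)) :=
    fun V => hlV V l (ml V)
  -- the objects at the stage `l`
  have hcond : Limits.pullback.fst (D.map l.hom) (f₀ ≫ g₀) ≫ D.map l.hom =
      (Limits.pullback.snd (D.map l.hom) (f₀ ≫ g₀) ≫ f₀) ≫ g₀ := by
    rw [Limits.pullback.condition, Category.assoc]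
  have h1 : IsPullback (Limits.pullback.snd (D.map l.hom) g₀)
      (Limits.pullback.fst (D.map l.hom) g₀) g₀ (D.map l.hom) :=
    (IsPullback.of_hasPullback _ _).flip
  have hfst : Limits.pullback.lift (Limits.pullback.fst (D.map l.hom) (f₀ ≫ g₀))
      (Limits.pullback.snd (D.map l.hom) (f₀ ≫ g₀) ≫ f₀) hcond ≫
        Limits.pullback.fst (D.map l.hom) g₀ = Limits.pullback.fst (D.map l.hom) (f₀ ≫ g₀) :=
    Limits.pullback.lift_fst _ _ _
  have hsnd : Limits.pullback.lift (Limits.pullback.fst (D.map l.hom) (f₀ ≫ g₀))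
      (Limits.pullback.snd (D.map l.hom) (f₀ ≫ g₀) ≫ f₀) hcond ≫
        Limits.pullback.snd (D.map l.hom) g₀ =
        Limits.pullback.snd (D.map l.hom) (f₀ ≫ g₀) ≫ f₀ :=
    Limits.pullback.lift_snd _ _ _
  have h2 : IsPullback (Limits.pullback.snd (D.map l.hom) (f₀ ≫ g₀))
      (Limits.pullback.lift (Limits.pullback.fst (D.map l.hom) (f₀ ≫ g₀))
        (Limits.pullback.snd (D.map l.hom) (f₀ ≫ g₀) ≫ f₀) hcond) f₀
      (Limits.pullback.snd (D.map l.hom) g₀) := by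
    refine IsPullback.of_bot ?_ hsnd.symm h1
    rw [hfst]
    exact (IsPullback.of_hasPullback _ _).flip
  refine ⟨l.left, l.hom, _, _, _, _, _, _, h1, h2, ?_⟩
  have : IsAffineHom (Limits.pullback.snd (D.map l.hom) g₀) :=
    MorphismProperty.pullback_snd (P := @IsAffineHom) _ _ (inferInstance : IsAffineHom (D.map l.hom))
  apply isAffineHom_of_forall_exists_isAffineOpen
  intro y
  have hy : (Limits.pullback.snd (D.map l.hom) g₀) y ∈ ⋃ i ∈ s, (i : Set Y₀) :=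
    hcov ▸ Set.mem_univ _
  obtain ⟨V, hVs, hyV⟩ := Set.mem_iUnion₂.mp hy
  refine ⟨Limits.pullback.snd (D.map l.hom) g₀ ⁻¹ᵁ V.1, hyV, V.2.preimage _, ?_⟩
  rw [← Scheme.Hom.comp_preimage, hsnd, Scheme.Hom.comp_preimage]
  exact hAff ⟨V, hVs⟩

end Groth.Agent.S2582
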