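import Groth.Statements.S2583
import Groth.Agent.Lib.Helper9.LimDescendEmpty
import Groth.Agent.Lib.Helper9.QuasiFiniteBC
import Groth.Agent.Lib.Helper9.ProConsMore
import Groth.Agent.Lib.Helper9.ProConsScheme
import Groth.Agent.Lib.Helper7.LfpOfComp
import Mathlib.AlgebraicGeometry.Morphisms.QuasiSeparated

set_option autoImplicit false
universe u
open CategoryTheory AlgebraicGeometry
open EGA43

namespace Groth.Agent.S2583

/-- Let S = lim S_i be a cofiltered limit of schemes with affine transition morphisms, S_{i₀} a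
quasi-compact quasi-separated stage (the source needs S_{i₀} only quasi-compact; quasi-separatedness
is assumed here), f₀ : X₀ ⟶ Y₀ an S_{i₀}-morphism between schemes of finite presentation over
S_{i₀}, and f : X ⟶ Y its base change to S (base changes expressed by pullback squares). If f is
quasi-finite, then the base change f_i : X_i ⟶ Y_i of f₀ to some stage S_i is quasi-finite. -/
theorem result {I : Type u} [SmallCategory I] [IsCofiltered I]
    (D : I ⥤ Scheme.{u}) (c : Limits.Cone D) (hc : Limits.IsLimit c)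
    [∀ (i j : I) (f : i ⟶ j), IsAffineHom (D.map f)] (i₀ : I) [CompactSpace (D.obj i₀)]
    [QuasiSeparatedSpace (D.obj i₀)] {X₀ Y₀ : Scheme.{u}} (f₀ : X₀ ⟶ Y₀) (g₀ : Y₀ ⟶ D.obj i₀)
    [LocallyOfFinitePresentation g₀] [QuasiCompact g₀] [QuasiSeparated g₀]
    [LocallyOfFinitePresentation (f₀ ≫ g₀)] [QuasiCompact (f₀ ≫ g₀)] [QuasiSeparated (f₀ ≫ g₀)]
    {X Y : Scheme.{u}} (f : X ⟶ Y) (g : Y ⟶ c.pt) (qY : Y ⟶ Y₀) (qX : X ⟶ X₀)
    (hY : IsPullback qY g g₀ (c.π.app i₀)) (hX : IsPullback qX f f₀ qY) [LocallyQuasiFinite f] :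
    ∃ (i : I) (φ : i ⟶ i₀) (Xi Yi : Scheme.{u}) (fi : Xi ⟶ Yi) (gi : Yi ⟶ D.obj i) (pY : Yi ⟶ Y₀)
      (pX : Xi ⟶ X₀), IsPullback pY gi g₀ (D.map φ) ∧ IsPullback pX fi f₀ pY ∧ LocallyQuasiFinite fi := by
  have : LocallyOfFinitePresentation f₀ :=
    Groth.Agent.Lib.helper7.locallyOfFinitePresentation_of_comp f₀ g₀
  have : QuasiCompact f₀ := QuasiCompact.of_comp f₀ g₀
  have : QuasiCompact f := MorphismProperty.of_isPullback (P := @QuasiCompact) hX inferInstance
  have : CompactSpace X₀ := QuasiCompact.compactSpace_of_compactSpace (f₀ ≫ g₀)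
  have HX : IsPullback qX (f ≫ g) (f₀ ≫ g₀) (c.π.app i₀) := hX.paste_vert hY
  have hZ : ProCons.IsProConstructible ((f₀.quasiFiniteLocus : Set X₀)ᶜ) :=
    Groth.Agent.Lib.helper9.isProConstructible_of_isClosed
      f₀.quasiFiniteLocus.2.isClosed_compl
  have h : ∀ w : ↥(Limits.pullback (c.π.app i₀) (f₀ ≫ g₀)),
      (Limits.pullback.snd (c.π.app i₀) (f₀ ≫ g₀)) w ∉ (f₀.quasiFiniteLocus : Set X₀)ᶜ := by
    intro w hw
    apply hw
    have e := Scheme.Hom.comp_apply HX.flip.isoPullback.inv qX w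
    rw [HX.flip.isoPullback_inv_snd] at e
    have hq := Groth.Agent.Lib.helper9.quasiFiniteAt_of_isPullback hX
      (HX.flip.isoPullback.inv w)
    show f₀.QuasiFiniteAt ((Limits.pullback.snd (c.π.app i₀) (f₀ ≫ g₀)) w)
    rw [e]
    exact hq
  obtain ⟨i, φ, hi⟩ :=
    Groth.Agent.Lib.helper9.exists_forall_snd_notMem D c hc i₀ (f₀ ≫ g₀) _ hZ h
  refine ⟨i, φ, _, _, Groth.Agent.Lib.helper9.stageMap (D.map φ) f₀ g₀, _, _, _,
    Groth.Agent.Lib.helper9.isPullback_stage_base (D.map φ) g₀,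
    Groth.Agent.Lib.helper9.isPullback_stageMap (D.map φ) f₀ g₀, ?_⟩
  apply Groth.Agent.Lib.helper9.locallyQuasiFinite_of_isPullback_of_forall_quasiFiniteAt
    (Groth.Agent.Lib.helper9.isPullback_stageMap (D.map φ) f₀ g₀)
  intro x
  have hx := hi x
  rw [Set.notMem_compl_iff] at hx
  exact hx

end Groth.Agent.S2583
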