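import Groth.Statements.S2590
import Groth.Agent.Lib.Helper9.LimDescendEmpty
import Groth.Agent.Lib.Helper7.LfpOfComp
import Groth.Agent.S3402
import Groth.Agent.S3444
import Mathlib.AlgebraicGeometry.Morphisms.FinitePresentation
import Mathlib.AlgebraicGeometry.Morphisms.QuasiSeparated
import Mathlib.AlgebraicGeometry.Morphisms.UniversallyInjective

set_option autoImplicit false
universe u
open CategoryTheory AlgebraicGeometry
open EGA43

namespace Groth.Agent.S2590

/-- Let S = lim S_i be a cofiltered limit of schemes with affine transition morphisms, S_{i₀} a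
quasi-compact quasi-separated stage (the source needs S_{i₀} only quasi-compact; quasi-separatedness
is assumed here), f₀ : X₀ ⟶ Y₀ an S_{i₀}-morphism between schemes of finite presentation over
S_{i₀}, and f : X ⟶ Y its base change to S (base changes expressed by pullback squares). If f is
universally injective (radiciel), then the base change f_i : X_i ⟶ Y_i of f₀ to some stage S_i is
universally injective (radiciel). -/
theorem result {I : Type u} [SmallCategory I] [IsCofiltered I]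
    (D : I ⥤ Scheme.{u}) (c : Limits.Cone D) (hc : Limits.IsLimit c)
    [∀ (i j : I) (f : i ⟶ j), IsAffineHom (D.map f)] (i₀ : I) [CompactSpace (D.obj i₀)]
    [QuasiSeparatedSpace (D.obj i₀)] {X₀ Y₀ : Scheme.{u}} (f₀ : X₀ ⟶ Y₀) (g₀ : Y₀ ⟶ D.obj i₀)
    [LocallyOfFinitePresentation g₀] [QuasiCompact g₀] [QuasiSeparated g₀]
    [LocallyOfFinitePresentation (f₀ ≫ g₀)] [QuasiCompact (f₀ ≫ g₀)] [QuasiSeparated (f₀ ≫ g₀)]
    {X Y : Scheme.{u}} (f : X ⟶ Y) (g : Y ⟶ c.pt) (qY : Y ⟶ Y₀) (qX : X ⟶ X₀)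
    (hY : IsPullback qY g g₀ (c.π.app i₀)) (hX : IsPullback qX f f₀ qY) [UniversallyInjective f] :
    ∃ (i : I) (φ : i ⟶ i₀) (Xi Yi : Scheme.{u}) (fi : Xi ⟶ Yi) (gi : Yi ⟶ D.obj i) (pY : Yi ⟶ Y₀)
      (pX : Xi ⟶ X₀), IsPullback pY gi g₀ (D.map φ) ∧ IsPullback pX fi f₀ pY ∧ UniversallyInjective fi := by
  have : LocallyOfFinitePresentation f₀ :=
    Groth.Agent.Lib.helper7.locallyOfFinitePresentation_of_comp f₀ g₀
  have : QuasiCompact f₀ := QuasiCompact.of_comp f₀ g₀
  have : QuasiSeparated f₀ := QuasiSeparated.of_comp f₀ g₀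
  -- the map from `X₀ ×_{Y₀} X₀` to the base stage
  let h₀ : Limits.pullback f₀ f₀ ⟶ D.obj i₀ := (Limits.pullback.fst f₀ f₀ ≫ f₀) ≫ g₀
  have : QuasiCompact h₀ := by
    show QuasiCompact ((Limits.pullback.fst f₀ f₀ ≫ f₀) ≫ g₀)
    infer_instance
  have : CompactSpace ↥(Limits.pullback f₀ f₀) := QuasiCompact.compactSpace_of_compactSpace h₀
  have h1 : Topology.IsLocallyConstructible (Set.range (Limits.pullback.diagonal f₀).base) := by
    rw [← Set.image_univ]
    exact (Limits.pullback.diagonal f₀).isLocallyConstructible_image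
      Topology.IsLocallyConstructible.univ
  have hZ : ProCons.IsProConstructible (Set.range (Limits.pullback.diagonal f₀).base)ᶜ :=
    ((Groth.Agent.S3402.result _ _).mp (Groth.Agent.S3444.isLocallyConstructible_compl' h1)).2
  -- the square expressing `X ×_Y X` as a base change of `X₀ ×_{Y₀} X₀`
  have HW : IsPullback ((Limits.pullback.fst f f ≫ f) ≫ g)
      (Limits.pullback.map f f f₀ f₀ qX qX qY hX.flip.w hX.flip.w) (c.π.app i₀) h₀ :=
    ((Groth.Agent.S3444.isPullback_map_fst hX.flip).flip.paste_horiz hX.flip).paste_horiz hY.flip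
  have hΔ : Surjective (Limits.pullback.diagonal f) :=
    (UniversallyInjective.iff_diagonal f).mp inferInstance
  have h : ∀ w : ↥(Limits.pullback (c.π.app i₀) h₀),
      (Limits.pullback.snd (c.π.app i₀) h₀) w ∉
        (Set.range (Limits.pullback.diagonal f₀).base)ᶜ := by
    intro w hw
    apply hw
    obtain ⟨x, hx⟩ := hΔ.surj (HW.isoPullback.inv w)
    refine ⟨qX x, ?_⟩
    have e1 := Scheme.Hom.comp_apply qX (Limits.pullback.diagonal f₀) x
    rw [← (Groth.Agent.S3444.isPullback_diagonal hX.flip).w] at e1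
    have e2 := Scheme.Hom.comp_apply (Limits.pullback.diagonal f)
      (Limits.pullback.map f f f₀ f₀ qX qX qY hX.flip.w hX.flip.w) x
    have e3 := Scheme.Hom.comp_apply HW.isoPullback.inv
      (Limits.pullback.map f f f₀ f₀ qX qX qY hX.flip.w hX.flip.w) w
    rw [HW.isoPullback_inv_snd] at e3
    exact e1.symm.trans (e2.trans ((congrArg _ hx).trans e3.symm))
  obtain ⟨i, φ, hi⟩ := Groth.Agent.Lib.helper9.exists_forall_snd_notMem D c hc i₀ h₀ _ hZ h
  refine ⟨i, φ, Limits.pullback f₀ (Limits.pullback.snd (D.map φ) g₀),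
    Limits.pullback (D.map φ) g₀, Limits.pullback.snd _ _, Limits.pullback.fst _ _,
    Limits.pullback.snd _ _, Limits.pullback.fst _ _,
    (IsPullback.of_hasPullback _ _).flip, IsPullback.of_hasPullback _ _, ?_⟩
  rw [UniversallyInjective.iff_diagonal]
  refine ⟨fun z => ?_⟩
  -- notation
  have Hi : IsPullback (Limits.pullback.snd f₀ (Limits.pullback.snd (D.map φ) g₀))
      (Limits.pullback.fst f₀ (Limits.pullback.snd (D.map φ) g₀))
      (Limits.pullback.snd (D.map φ) g₀) f₀ := (IsPullback.of_hasPullback _ _).flip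
  have hcomm : (Limits.pullback.fst _ _ ≫
      Limits.pullback.snd f₀ (Limits.pullback.snd (D.map φ) g₀) ≫
        Limits.pullback.fst (D.map φ) g₀) ≫ D.map φ =
      Limits.pullback.map _ _ f₀ f₀ _ _ _ Hi.w Hi.w ≫ h₀ := by
    have e0 : Limits.pullback.map _ _ f₀ f₀ _ _ _ Hi.w Hi.w ≫ Limits.pullback.fst f₀ f₀ =
        Limits.pullback.fst _ _ ≫ Limits.pullback.fst f₀ (Limits.pullback.snd (D.map φ) g₀) :=
      Limits.pullback.lift_fst _ _ _
    show _ = Limits.pullback.map _ _ f₀ f₀ _ _ _ Hi.w Hi.w ≫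
      ((Limits.pullback.fst f₀ f₀ ≫ f₀) ≫ g₀)
    simp only [Category.assoc]
    rw [Limits.pullback.condition, reassoc_of% e0, ← reassoc_of% Hi.w]
  obtain ⟨w, -, hw2⟩ := Scheme.Pullback.exists_preimage_pullback (f := D.map φ) (g := h₀)
    ((Limits.pullback.fst _ _ ≫ Limits.pullback.snd f₀ (Limits.pullback.snd (D.map φ) g₀) ≫
      Limits.pullback.fst (D.map φ) g₀) z)
    ((Limits.pullback.map _ _ f₀ f₀ _ _ _ Hi.w Hi.w) z)
    (by rw [← Scheme.Hom.comp_apply, ← Scheme.Hom.comp_apply, hcomm])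
  have hmem := hi w
  rw [Set.notMem_compl_iff, hw2] at hmem
  obtain ⟨x₀, hx₀⟩ := hmem
  obtain ⟨x', -, hx'⟩ := Groth.Agent.S3444.exists_preimage_of_isPullback
    (Groth.Agent.S3444.isPullback_diagonal Hi).flip x₀ z hx₀
  exact ⟨x', hx'⟩

end Groth.Agent.S2590
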