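import Groth.Statements.S2595
import Groth.Agent.Lib.Helper5.CMQF13

set_option autoImplicit false
open CategoryTheory AlgebraicGeometry
universe u
open EGA43

namespace Groth.Agent.S2595

/-- Let Y be locally Noetherian, f : X ⟶ Y locally of finite type and x a point of X. If O_{Y,f x} ⟶
O_{X,x} is flat and the local ring at x of the fibre through x is Cohen–Macaulay, then f is
equidimensional at x. -/
theorem result {X Y : Scheme.{u}} [IsLocallyNoetherian Y] (f : X ⟶ Y)
    [LocallyOfFiniteType f] (x : X) (hflat : (f.stalkMap x).hom.Flat)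
    (hCM : LocCoh.IsCohenMacaulayLocalRing ((f.fiber (f.base x)).presheaf.stalk (f.asFiber x))) :
    EGA43.IsEquidimAt f x := by
  have hcm : MoreMor.IsCMAt f x := ⟨hflat, hCM⟩
  obtain ⟨r, d, U, hx, g, h1, h2, h3, -, -⟩ :=
    Groth.Agent.Lib.helper5.CMQF.exists_flat_quasiFinite_of_isCMAt f x hcm
  refine (Groth.Agent.Lib.helper3.QFinAffineSpace.equidim_iff_qfin f x).2 inferInstance
    ⟨r + d, U, g, hx, h1, h2, ?_⟩
  intro Z hZ
  have hZ' : Z ∈ irreducibleComponents U.toScheme := hZ
  obtain ⟨ξ₀, hξ₀⟩ := QuasiSober.sober (α := U.toScheme) hZ'.1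
    (isClosed_of_mem_irreducibleComponents Z hZ')
  have hZeq : closure ({ξ₀} : Set U.toScheme) = Z := hξ₀.def
  have hξ₀max : ∀ u' : U.toScheme, u' ⤳ ξ₀ → u' = ξ₀ := by
    rw [← hZeq] at hZ'
    exact Groth.Agent.Lib.helper3.EquidimAt.eq_of_specializes_of_closure_mem_irreducibleComponents
      ξ₀ hZ'
  rw [← hZeq]
  change closure (g '' closure ({ξ₀} : Set U.toScheme)) ∈ _
  rw [closure_image_closure g.continuous, Set.image_singleton]
  apply Groth.Agent.Lib.helper3.EquidimAt.closure_mem_irreducibleComponents_of_forall_specializes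
  intro η hη
  haveI := h3
  obtain ⟨ξ', hξ', rfl⟩ := (AlgebraicGeometry.Flat.generalizingMap g) hη
  rw [hξ₀max ξ' hξ']

end Groth.Agent.S2595
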