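import Groth.Statements.S9440
import Groth.Agent.Lib.Helper24.LocalSub
import Groth.Agent.S0576

set_option autoImplicit false
universe u
open CAlg

namespace Groth.Agent.S9440

/-- (1) ⇔ (3): a Noetherian local ring R is a Nagata ring if and only if for every finite local
homomorphism R → S of local rings with S a domain, the completion of S is reduced. -/
theorem result (R : Type u) [CommRing R]
    [IsLocalRing R] [IsNoetherianRing R] :
    CAlg.IsNagata R ↔ ∀ (S : Type u) [CommRing S] [IsDomain S] [IsLocalRing S] [Algebra R S]
      [IsLocalHom (algebraMap R S)] [Module.Finite R S],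
      IsReduced (AdicCompletion (IsLocalRing.maximalIdeal S) S) := by
  constructor
  · intro hR S _ _ _ _ _ _
    haveI : IsNoetherianRing S := IsNoetherianRing.of_finite R S
    have hS : CAlg.IsNagata S :=
      ⟨inferInstance, fun p _ =>
        Groth.Agent.Lib.Helper24.ZarNag.isN2_of_finite R (fun q _ => hR.2 q) (S ⧸ p)⟩
    exact Groth.Agent.S0576.result S hS
  · intro H
    refine ⟨inferInstance, fun p _ => ?_⟩
    haveI : IsLocalRing (R ⧸ p) :=
      IsLocalRing.of_surjective' (Ideal.Quotient.mk p) Ideal.Quotient.mk_surjective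
    apply Groth.Agent.Lib.Helper24.LocalSub.isN2_of_forall_local (R ⧸ p)
    intro S _ _ _ _ _ _
    letI : Algebra R S := ((algebraMap (R ⧸ p) S).comp (Ideal.Quotient.mk p)).toAlgebra
    haveI : IsScalarTower R (R ⧸ p) S := IsScalarTower.of_algebraMap_eq (fun _ => rfl)
    haveI : IsLocalHom (Ideal.Quotient.mk p) :=
      IsLocalHom.of_surjective _ Ideal.Quotient.mk_surjective
    haveI : IsLocalHom (algebraMap R S) :=
      RingHom.isLocalHom_comp (algebraMap (R ⧸ p) S) (Ideal.Quotient.mk p)
    haveI : Module.Finite R S := Module.Finite.trans (R ⧸ p) S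
    exact H S

end Groth.Agent.S9440
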