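import Groth.Statements.S9294
import Groth.Agent.Lib.Helper24.HomComp
import Groth.Agent.Lib.Helper24.RegularRingAscent
import Groth.Agent.Lib.Helper24.FibLoc
-- import your own Groth.Agent.* helpers here

set_option autoImplicit false
universe u
open CAlg

namespace Groth.Agent.S9294

/-- If A → B and B → C are regular ring maps and every fibre ring of the composite A → C is Noetherian,
the composite is regular. -/
theorem result (A B C : Type u) [CommRing A] [CommRing B] [CommRing C]
    [Algebra A B] [Algebra B C] [Algebra A C] [IsScalarTower A B C]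
    (hAB : CAlg.IsRegularHom A B) (hBC : CAlg.IsRegularHom B C)
    (hN : ∀ (p : Ideal A) [p.IsPrime], IsNoetherianRing (p.Fiber C)) :
    CAlg.IsRegularHom A C := by
  obtain ⟨hfAB, hAB'⟩ := hAB
  obtain ⟨hfBC, hBC'⟩ := hBC
  haveI := hfAB
  haveI := hfBC
  refine ⟨Module.Flat.trans A B C, fun p hp => ⟨hN p, fun K _ _ hfin => ?_⟩⟩
  haveI := hfin
  haveI : IsNoetherianRing (p.Fiber B) := (hAB' p).1
  haveI : IsNoetherianRing (p.Fiber C) := hN p
  haveI : IsNoetherianRing (TensorProduct p.ResidueField K (p.Fiber B)) :=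
    Groth.Agent.Lib.Helper24.HomComp.isNoetherianRing_tensor_of_finite _ _ _
  haveI : IsNoetherianRing (TensorProduct p.ResidueField K (p.Fiber C)) :=
    Groth.Agent.Lib.Helper24.HomComp.isNoetherianRing_tensor_of_finite _ _ _
  exact Groth.Agent.Lib.Helper24.HomComp.comp_fibre A B C
    (P := fun R _ => IsRegularRing R)
    (fun R R' _ _ e h => Groth.Agent.Lib.Helper24.FibLoc.locStable_isRegularRing.iso R R' e h)
    (fun R S _ _ _ _ _ _ hR hF =>
      Groth.Agent.Lib.Helper24.RegularRingAscent.isRegularRing_of_flat_of_fibres R S hR hF)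
    p K ((hAB' p).2 K hfin) (fun q _ L _ _ hL => (hBC' q).2 L hL)

end Groth.Agent.S9294
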