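import Groth.Statements.S4704
import Groth.Agent.S9294
import Groth.Agent.Lib.Helper24.CplFlat
import Groth.Agent.Lib.Helper24.FormalFibreDescent
-- import your own Groth.Agent.* helpers here

set_option autoImplicit false
universe u
open EGA4

namespace Groth.Agent.S4704

/-- Let A → A' be a local homomorphism of Noetherian local rings which is regular (flat, with
geometrically regular fibres). If the completion map of A' is regular (the formal fibres of A' are
geometrically regular), then the completion map of A is regular. -/
theorem result (A A' : Type u) [CommRing A] [CommRing A'] [IsNoetherianRing A]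
    [IsNoetherianRing A'] [IsLocalRing A] [IsLocalRing A'] [Algebra A A'] [IsLocalHom (algebraMap A A')]
    (hf : CAlg.IsRegularHom A A') (hA' : CAlg.IsRegularHom A' (EGA4.Cpl A')) :
    CAlg.IsRegularHom A (EGA4.Cpl A) := by
  haveI hN : IsNoetherianRing (AdicCompletion (IsLocalRing.maximalIdeal A) A) :=
    Groth.Agent.S0542.result A _ (IsLocalRing.maximalIdeal A).fg_of_isNoetherianRing
  haveI hN' : IsNoetherianRing (AdicCompletion (IsLocalRing.maximalIdeal A') A') :=
    Groth.Agent.S0542.result A' _ (IsLocalRing.maximalIdeal A').fg_of_isNoetherianRing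
  haveI : Module.Flat A A' := hf.1
  letI : Algebra (AdicCompletion (IsLocalRing.maximalIdeal A) A)
      (AdicCompletion (IsLocalRing.maximalIdeal A') A') :=
    (Groth.Agent.Lib.Helper24.CplFlat.cplMap A A').toAlgebra
  haveI : IsScalarTower A (AdicCompletion (IsLocalRing.maximalIdeal A) A)
      (AdicCompletion (IsLocalRing.maximalIdeal A') A') :=
    IsScalarTower.of_algebraMap_eq'
      (Groth.Agent.Lib.Helper24.CplFlat.cplMap_comp_algebraMap A A').symm
  haveI hff : Module.FaithfullyFlat (AdicCompletion (IsLocalRing.maximalIdeal A) A)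
      (AdicCompletion (IsLocalRing.maximalIdeal A') A') :=
    Groth.Agent.Lib.Helper24.CplFlat.faithfullyFlat_cplMap A A'
  have hAC : CAlg.IsRegularHom A (AdicCompletion (IsLocalRing.maximalIdeal A') A') :=
    Groth.Agent.S9294.result A A' _ hf hA'
      (fun p _ => Groth.Agent.Lib.Helper24.HensFibre.isNoetherianRing_fibre A _ p)
  refine ⟨inferInstance, fun p hp =>
    ⟨Groth.Agent.Lib.Helper24.HensFibre.isNoetherianRing_fibre A _ p, fun K _ _ hfin => ?_⟩⟩
  haveI := (hAC.2 p).2 K hfin
  exact Groth.Agent.Lib.Helper24.FormalFibreDescent.isRegularRing_of_faithfullyFlat_ringHom _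
    (Groth.Agent.Lib.Helper24.NormalDescent.faithfullyFlat_map_left_left A
      (AdicCompletion (IsLocalRing.maximalIdeal A) A)
      (AdicCompletion (IsLocalRing.maximalIdeal A') A') p.ResidueField K)

end Groth.Agent.S4704
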