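import Groth.Statements.S4809
-- import your own Groth.Agent.* helpers here
import Groth.Agent.Lib.Helper9.ZMTNormal

set_option autoImplicit false
universe u
open CategoryTheory AlgebraicGeometry
open Lim8

namespace Groth.Agent.S4809

open Groth.Agent.Lib.helper9

/-- Let Y be an integral normal scheme (every local ring integrally closed), X an integral scheme, and f
: X ⟶ Y a locally quasi-finite morphism (locally of finite type with discrete fibres) which is
birational: f maps the generic point of X to that of Y and its stalk map at the generic point of X,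
the induced homomorphism of function fields, is an isomorphism. Then f is a local isomorphism, and f
is an open immersion as soon as it is separated. -/
theorem result {X Y : Scheme.{u}} [IsIntegral X] [IsIntegral Y]
    (hN : ∀ y : Y, IsIntegrallyClosed (Y.presheaf.stalk y)) (f : X ⟶ Y) [LocallyQuasiFinite f]
    [LocallyOfFiniteType f] (hgen : f (genericPoint X) = genericPoint Y)
    (hbir : IsIso (f.stalkMap (genericPoint X))) :
    IsLocalIso f ∧ (IsSeparated f → IsOpenImmersion f) := by
  classical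
  -- (A) local isomorphism
  have hA : ∀ x : X, ∃ (U : X.Opens), x ∈ U ∧ IsOpenImmersion (U.ι ≫ f) := by
    intro x
    obtain ⟨V, hV, hfxV, -⟩ :=
      exists_isAffineOpen_mem_and_subset (X := Y) (U := ⊤) (x := f x) trivial
    obtain ⟨U, hU, hxU, hUV⟩ :=
      exists_isAffineOpen_mem_and_subset (X := X) (U := f ⁻¹ᵁ V) (x := x) hfxV
    have e : U ≤ f ⁻¹ᵁ V := hUV
    have hne : Nonempty U := ⟨⟨x, hxU⟩⟩
    have hUa : IsAffine (U : Scheme.{u}) := hU
    have hVa : IsAffine (V : Scheme.{u}) := hV
    have hsep : IsSeparated (f.resLE V U e) := inferInstance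
    have hoi := isOpenImmersion_resLE_of_birational_of_normal hN f hgen hbir V hV U e
    refine ⟨U, hxU, ?_⟩
    rw [← f.resLE_comp_ι e]
    infer_instance
  refine ⟨⟨hA⟩, fun hsep => ?_⟩
  -- (B) separated case
  rw [IsOpenImmersion.iff_isIso_stalkMap]
  refine ⟨?_, ?_⟩
  · refine Topology.IsOpenEmbedding.of_continuous_injective_isOpenMap f.continuous ?_ ?_
    · intro x₁ x₂ h12
      obtain ⟨V, hV, hfxV, -⟩ :=
        exists_isAffineOpen_mem_and_subset (X := Y) (U := ⊤) (x := f x₁) trivial
      obtain ⟨U₁, hU₁, hx₁, hU₁V⟩ :=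
        exists_isAffineOpen_mem_and_subset (X := X) (U := f ⁻¹ᵁ V) (x := x₁) hfxV
      have hfx₂V : x₂ ∈ f ⁻¹ᵁ V := by
        show f x₂ ∈ V
        rw [← h12]; exact hfxV
      obtain ⟨U₂, hU₂, hx₂, hU₂V⟩ :=
        exists_isAffineOpen_mem_and_subset (X := X) (U := f ⁻¹ᵁ V) (x := x₂) hfx₂V
      let U : X.Opens := U₁ ⊔ U₂
      have e : U ≤ f ⁻¹ᵁ V := sup_le hU₁V hU₂V
      have hne : Nonempty U := ⟨⟨x₁, Or.inl hx₁⟩⟩
      have hcomp : CompactSpace (U : Scheme.{u}) :=
        isCompact_iff_compactSpace.mp (by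
          show IsCompact ((U₁ ⊔ U₂ : X.Opens) : Set X)
          rw [TopologicalSpace.Opens.coe_sup]
          exact hU₁.isCompact.union hU₂.isCompact)
      have hsepg : IsSeparated (f.resLE V U e) := by
        unfold Scheme.Hom.resLE
        infer_instance
      have hoi := isOpenImmersion_resLE_of_birational_of_normal hN f hgen hbir V hV U e
      have hinj := (f.resLE V U e).isOpenEmbedding.injective
      have hcomm : ∀ u : (U : Scheme.{u}), V.ι ((f.resLE V U e) u) = f (U.ι u) := by
        intro u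
        rw [← Scheme.Hom.comp_apply, f.resLE_comp_ι e, Scheme.Hom.comp_apply]
      have hu : (⟨x₁, Or.inl hx₁⟩ : (U : Scheme.{u})) = ⟨x₂, Or.inr hx₂⟩ := by
        apply hinj
        apply V.ι.isOpenEmbedding.injective
        rw [hcomm, hcomm]
        exact h12
      exact congrArg Subtype.val hu
    · intro O hO
      rw [isOpen_iff_forall_mem_open]
      rintro _ ⟨x, hxO, rfl⟩
      obtain ⟨U, hxU, hUoi⟩ := hA x
      refine ⟨(U.ι ≫ f) '' (U.ι ⁻¹' O), ?_,
        (U.ι ≫ f).isOpenEmbedding.isOpenMap _ (hO.preimage U.ι.continuous),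
        ⟨⟨x, hxU⟩, hxO, rfl⟩⟩
      rintro _ ⟨u, hu, rfl⟩
      exact ⟨U.ι u, hu, rfl⟩
  · intro x
    obtain ⟨U, hxU, hUoi⟩ := hA x
    let u : (U : Scheme.{u}) := ⟨x, hxU⟩
    have h1 : IsIso ((U.ι ≫ f).stalkMap u) := inferInstance
    have h2 : IsIso (U.ι.stalkMap u) := inferInstance
    have h3 : (U.ι ≫ f).stalkMap u = f.stalkMap (U.ι u) ≫ U.ι.stalkMap u :=
      Scheme.Hom.stalkMap_comp U.ι f u
    rw [h3] at h1
    exact @IsIso.of_isIso_comp_right _ _ _ _ _ (f.stalkMap (U.ι u)) (U.ι.stalkMap u) h2 h1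

end Groth.Agent.S4809
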