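import Groth.Statements.S8892
import Groth.Agent.LibRelRegImmBC29
import Groth.Agent.LibRegImmComp29
import Groth.Agent.LibRegImmBC29
import Groth.Agent.LibRegImmStalk29
-- import your own Groth.Agent.* helpers here

set_option autoImplicit false
universe u
open CategoryTheory CategoryTheory.Limits AlgebraicGeometry TopologicalSpace
open SDiv

namespace Groth.Agent.S8892

/-- Let f : X ⟶ S be a morphism of schemes and i : Z ⟶ X an H_1-regular (resp. quasi-regular) immersion
such that Z ⟶ S is flat. Then for every morphism g : S' ⟶ S the base change of i to X ×_S S' is an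
H_1-regular (resp. quasi-regular) immersion, again flat over S'. -/
theorem result {Z X S S' : Scheme.{u}} (f : X ⟶ S) (i : Z ⟶ X) (k : RegImm.Kind)
    (hk : k = RegImm.Kind.h1 ∨ k = RegImm.Kind.quasi) (hi : RegImm.IsRelRegularImmersion k f i) (g : S' ⟶ S) :
    RegImm.IsRelRegularImmersion k (pullback.snd f g) (pullback.snd i (pullback.fst f g)) := by
  obtain ⟨⟨himm, hreg⟩, hflat⟩ := hi
  haveI := himm
  haveI := hflat
  refine ⟨⟨inferInstance, fun z' => ?_⟩, ?_⟩
  · obtain ⟨U, hzU, hcl, rs, hrs, hker⟩ := hreg (pullback.fst i (pullback.fst f g) z')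
    haveI := hcl
    have hx'x : (pullback.fst f g) (pullback.snd i (pullback.fst f g) z') =
        i (pullback.fst i (pullback.fst f g) z') := by
      rw [← Scheme.Hom.comp_apply, ← Scheme.Hom.comp_apply, pullback.condition]
    -- an affine open `V` of `S`
    obtain ⟨V, hV, hsV, -⟩ := exists_isAffineOpen_mem_and_subset
      (show f (i (pullback.fst i (pullback.fst f g) z')) ∈ (⊤ : S.Opens) from trivial)
    have hs' : (pullback.snd f g) (pullback.snd i (pullback.fst f g) z') ∈ g ⁻¹ᵁ V := by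
      change g ((pullback.snd f g) (pullback.snd i (pullback.fst f g) z')) ∈ V
      rw [← Scheme.Hom.comp_apply, ← pullback.condition, Scheme.Hom.comp_apply, hx'x]
      exact hsV
    obtain ⟨V', hV', hxV', hV'le⟩ := exists_isAffineOpen_mem_and_subset hs'
    have hV'le' : V' ≤ g ⁻¹ᵁ V := hV'le
    obtain ⟨U₁, hU₁, hxU₁, hU₁le⟩ := exists_isAffineOpen_mem_and_subset
      (show i (pullback.fst i (pullback.fst f g) z') ∈ U.1 ⊓ f ⁻¹ᵁ V from ⟨hzU, hsV⟩)
    have hU₁U : U₁ ≤ U.1 := fun a ha => (hU₁le ha).1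
    have hU₁V : U₁ ≤ f ⁻¹ᵁ V := fun a ha => (hU₁le ha).2
    -- data over `U₁`
    have e₁ : U₁ ≤ (𝟙 X) ⁻¹ᵁ U.1 := hU₁U
    obtain ⟨hcl₁, hker₁⟩ := Groth.Agent.LibRegImmComp29.restrict_of_isPullback i (𝟙 X) i (𝟙 Z)
      (IsPullback.id_horiz i) U.1 U.2 U₁ hU₁ e₁
    haveI := hcl₁
    have hρ : ((𝟙 X : X ⟶ X).appLE U.1 U₁ e₁).hom.Flat :=
      Scheme.Hom.flat_appLE (𝟙 X) U.2 hU₁ e₁
    have hrs₁ : k.Seq Γ(X, U₁) (rs.map ((𝟙 X : X ⟶ X).appLE U.1 U₁ e₁).hom) :=
      Groth.Agent.LibRelRegImmBC29.seq_map_of_flat _ hρ k hk rs hrs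
    have hker₁' : RingHom.ker (i.app U₁).hom =
        Ideal.ofList (rs.map ((𝟙 X : X ⟶ X).appLE U.1 U₁ e₁).hom) := by
      rw [hker₁, hker, Ideal.map_ofList]
    -- the affine open `U'` of `X ×_S S'`
    have H₂ : IsPullback (pullback.fst f g) (pullback.snd f g) f g := IsPullback.of_hasPullback f g
    have hU' : IsAffineOpen ((pullback.fst f g) ⁻¹ᵁ U₁ ⊓ (pullback.snd f g) ⁻¹ᵁ V') := by
      haveI : IsAffine V.toScheme := hV
      haveI : IsAffine V'.toScheme := hV'
      haveI : IsAffine U₁.toScheme := hU₁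
      exact .of_isIso (Scheme.Hom.isPullback_resLE H₂ hV'le' hU₁V rfl).isoPullback.hom
    have hiso := isIso_pushoutSection_of_isAffineOpen H₂ hV'le' hU₁V rfl hV hV' hU₁
    have hpo := (isIso_pushoutSection_iff H₂ hV'le' hU₁V rfl).mp hiso
    -- flatness of the quotient
    obtain ⟨haff, hsurj⟩ := Groth.Agent.LibRegImmStalk29.affine_and_app_surjective_of_restrict i U₁ hU₁
    have hcomp : ((i.app U₁).hom.comp (f.appLE V U₁ hU₁V).hom).Flat := by
      have h1 : ((i ≫ f).appLE V (i ⁻¹ᵁ U₁) (i.preimage_mono hU₁V)).hom.Flat :=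
        Scheme.Hom.flat_appLE (i ≫ f) hV haff _
      have h2 : (i ≫ f).appLE V (i ⁻¹ᵁ U₁) (i.preimage_mono hU₁V) =
          f.appLE V U₁ hU₁V ≫ i.app U₁ := by
        rw [Scheme.Hom.app_eq_appLE, Scheme.Hom.appLE_comp_appLE]
      rw [h2] at h1
      exact h1
    have hfl := Groth.Agent.LibRelRegImmBC29.flat_mk_comp_of_surjective (f.appLE V U₁ hU₁V).hom
      (i.app U₁).hom hsurj _ hker₁' hcomp
    have hseq := Groth.Agent.LibRelRegImmBC29.seq_of_isPushout hpo k hk _ hrs₁ hfl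
    have e' : (pullback.fst f g) ⁻¹ᵁ U₁ ⊓ (pullback.snd f g) ⁻¹ᵁ V' ≤ (pullback.fst f g) ⁻¹ᵁ U₁ :=
      inf_le_left
    obtain ⟨hcl', hker'⟩ := Groth.Agent.LibRegImmBC29.restrict_pullback_snd i (pullback.fst f g)
      U₁ hU₁ _ hU' e'
    refine ⟨⟨_, hU'⟩, ⟨?_, hxV'⟩, hcl', _, hseq, ?_⟩
    · change (pullback.fst f g) (pullback.snd i (pullback.fst f g) z') ∈ U₁
      rw [hx'x]
      exact hxU₁
    · rw [hker', hker₁', Ideal.map_ofList]
  · have A : IsPullback (pullback.fst i (pullback.fst f g)) (pullback.snd i (pullback.fst f g)) i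
        (pullback.fst f g) := IsPullback.of_hasPullback _ _
    have B : IsPullback (pullback.fst f g) (pullback.snd f g) f g := IsPullback.of_hasPullback f g
    exact MorphismProperty.of_isPullback (P := @Flat) (A.paste_vert B) hflat

end Groth.Agent.S8892
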