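import Groth.Statements.S5060
import Mathlib
import Groth.Agent.Lib.Helper26.NF5

set_option autoImplicit false
set_option linter.style.haveILetI false
set_option linter.unusedVariables false
universe u
open CInt

namespace Groth.Agent.S5060

open Groth.Agent.Lib.helper26.NF in
/-- the graded piece in the official form versus the subquotient form. -/
theorem gr_flat_iff {A : Type u} [CommRing A] (I : Ideal A) {M : Type u} [AddCommGroup M]
    [Module A M] (k : ℕ) :
    Module.Flat (A ⧸ I) (↥(I ^ k • (⊤ : Submodule A M)) ⧸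
        (I • (⊤ : Submodule A ↥(I ^ k • (⊤ : Submodule A M))))) ↔
      IsFlatOver I (SubQ (I ^ k • (⊤ : Submodule A M)) (I ^ (k + 1) • (⊤ : Submodule A M))) := by
  have e : I • (I ^ k • (⊤ : Submodule A M)) = I ^ (k + 1) • (⊤ : Submodule A M) := by
    rw [← Submodule.mul_smul, ← pow_succ']
  constructor
  · intro h
    exact ((isFlatOver_iff.mpr h).of_linearEquiv (quotSMulTopEquivSubQ I _)).subQ_congr rfl e
  · intro h
    exact isFlatOver_iff.mp ((h.subQ_congr rfl e.symm).of_linearEquiv
      (quotSMulTopEquivSubQ I _).symm)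

/-- a) iff d) in the Noetherian case: let A be a Noetherian ring, R an ideal, f_1, …, f_n elements of
the Jacobson radical of A forming a regular sequence on A/R and on every R^k/R^(k+1), Q = R + (f_1,
…, f_n), and M a finitely generated A-module. Then every R^k M / R^(k+1) M is flat over A/R if and
only if every Q^k M / Q^(k+1) M is flat over A/Q and, for every associated prime p of A/Q viewed as
an (A/R)-module, every localized piece (R^k M / R^(k+1) M)_p is flat over (A/R)_p. -/
theorem result (A : Type u) [CommRing A] [IsNoetherianRing A]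
    (R : Ideal A) {n : ℕ} (f : Fin n → A) (hrad : ∀ i, f i ∈ (⊥ : Ideal A).jacobson)
    (hreg : RingTheory.Sequence.IsWeaklyRegular (A ⧸ R) (List.ofFn f))
    (hreggr : ∀ k : ℕ, RingTheory.Sequence.IsWeaklyRegular (↥(R ^ k • (⊤ : Submodule A A)) ⧸ (R • (⊤ : Submodule A ↥(R ^ k • (⊤ : Submodule A A))))) (List.ofFn f))
    (M : Type u) [AddCommGroup M] [Module A M] [Module.Finite A M] :
    EGA4.IsNormallyFlat R M ↔
      EGA4.IsNormallyFlat (R ⊔ Ideal.span (Set.range f)) M ∧
        ∀ (p : Ideal (A ⧸ R)) [p.IsPrime],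
          p ∈ associatedPrimes (A ⧸ R) ((A ⧸ R) ⧸ Ideal.map (Ideal.Quotient.mk R) (R ⊔ Ideal.span (Set.range f))) →
            ∀ k : ℕ, Module.Flat (Localization.AtPrime p) (LocalizedModule p.primeCompl (↥(R ^ k • (⊤ : Submodule A M)) ⧸ (R • (⊤ : Submodule A ↥(R ^ k • (⊤ : Submodule A M)))))) := by
  classical
  have hspan : Ideal.span (Set.range f) = Ideal.ofList (List.ofFn f) := by
    unfold Ideal.ofList
    congr 1
    ext z
    simp [List.mem_ofFn]
  have hjac : ∀ a ∈ List.ofFn f, a ∈ (⊥ : Ideal A).jacobson := by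
    intro a ha
    rw [List.mem_ofFn] at ha
    obtain ⟨i, rfl⟩ := ha
    exact hrad i
  rw [hspan]
  unfold EGA4.IsNormallyFlat
  constructor
  · intro h
    constructor
    · intro k
      rw [gr_flat_iff]
      exact Groth.Agent.Lib.helper26.NF.normallyFlat_trans (List.ofFn f) R hreg ⊤
        (fun j => (gr_flat_iff R j).mp (h j)) k
    · intro p _ _ k
      haveI := h k
      infer_instance
  · rintro ⟨h1, h2⟩
    intro k
    induction k using Nat.strong_induction_on with
    | _ k ih =>
      have hlow : ∀ j < k, Groth.Agent.Lib.helper26.NF.IsFlatOver R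
          (Groth.Agent.Lib.helper26.NF.SubQ (R ^ j • (⊤ : Submodule A M))
            (R ^ (j + 1) • (⊤ : Submodule A M))) :=
        fun j hj => (gr_flat_iff R j).mp (ih j hj)
      have hk := (gr_flat_iff (R ⊔ Ideal.ofList (List.ofFn f)) k).mp (h1 k)
      have h3 := Groth.Agent.Lib.helper26.NF.flat_subQ_pow_of_flat R (List.ofFn f) hreg
        (R ⊔ Ideal.ofList (List.ofFn f)) rfl k hlow hk
      have h4 : Module.Flat (A ⧸ (R ⊔ Ideal.ofList (List.ofFn f)))
          (↥(R ^ k • (⊤ : Submodule A M)) ⧸
            ((R ⊔ Ideal.ofList (List.ofFn f)) • (⊤ : Submodule A ↥(R ^ k • (⊤ : Submodule A M))))) :=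
        Groth.Agent.Lib.helper26.NF.isFlatOver_iff.mp
          (h3.of_linearEquiv (Groth.Agent.Lib.helper26.NF.quotSMulTopEquivSubQ _ _).symm)
      refine Groth.Agent.Lib.helper26.NF.flat_of_flat_quot_of_locReg
        ↥(R ^ k • (⊤ : Submodule A M)) R (List.ofFn f) R le_rfl hjac hreg h4 ?_
      intro p hp
      obtain ⟨_, hprime, hass⟩ := Groth.Agent.Lib.helper26.NF.map_mem_associatedPrimes R
        (R ⊔ Ideal.ofList (List.ofFn f)) le_sup_left p hp
      haveI := hprime
      haveI := h2 (p.map (Ideal.Quotient.mk R)) hass k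
      exact Groth.Agent.Lib.helper26.NF.locReg_of_flat_localization R _ p

end Groth.Agent.S5060
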