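import Groth.Statements.S2904
import Groth.Agent.S5127
import Groth.Agent.Lib.Helper4.DescUnivOpen
import Groth.Agent.Lib.Helper4.DescFpqcComp
import Groth.Agent.Lib.Helper4.DescLimEff

set_option autoImplicit false
open CategoryTheory CategoryTheory.Limits AlgebraicGeometry Opposite
universe u
open SGA1

namespace Groth.Agent.S2904

/-- Let S be locally Noetherian and g : S' ⟶ S of finite type, surjective and universally open. Then
every descent datum relative to g whose underlying scheme is etale, separated and quasi-compact over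
S' is isomorphic to the canonical descent datum of a scheme etale, separated and quasi-compact over
S. (Descent data relative to g are taken in functor-of-points form.) -/
theorem result {S' S : Scheme.{u}} [IsLocallyNoetherian S] (g : S' ⟶ S)
    [LocallyOfFiniteType g] [QuasiCompact g] [Surjective g] [UniversallyOpen g]
    (D : Desc.SchDD g) [QuasiCompact D.obj.hom] [IsSeparated D.obj.hom] [Etale D.obj.hom] :
    ∃ U : Over S, QuasiCompact U.hom ∧ IsSeparated U.hom ∧ Etale U.hom ∧ Nonempty ((Desc.toDD g).obj U ≅ D) := by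
  have hg : SGA1.UnivSubmersive g :=
    Groth.Agent.Lib.Helper4.DescLqf.univSubmersive_of_universallyOpen_of_surjective g
  let D' : Desc.SchDDFam (fun _ : PUnit.{1} => g) := (Desc.SchDDFam.ofSchDD g).obj D
  haveI : Etale (D'.obj PUnit.unit).hom := ‹Etale D.obj.hom›
  haveI : QuasiCompact (D'.obj PUnit.unit).hom := ‹QuasiCompact D.obj.hom›
  haveI : IsSeparated (D'.obj PUnit.unit).hom := ‹IsSeparated D.obj.hom›
  haveI : IsLocallyNoetherian S' := LocallyOfFiniteType.isLocallyNoetherian g
  obtain ⟨U, hU, ⟨θ⟩⟩ := (Groth.Agent.S5127.result g hg D').mpr (fun B _ _ _ _ _ q => by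
    haveI : Etale ((Groth.Agent.Lib.Helper4.DescEtLoc.bcDD g D' q).obj PUnit.unit).hom :=
      inferInstanceAs (Etale (pullback.snd (D'.obj PUnit.unit).hom (pullback.fst g q)))
    haveI : QuasiCompact ((Groth.Agent.Lib.Helper4.DescEtLoc.bcDD g D' q).obj PUnit.unit).hom :=
      inferInstanceAs (QuasiCompact (pullback.snd (D'.obj PUnit.unit).hom (pullback.fst g q)))
    haveI : IsSeparated ((Groth.Agent.Lib.Helper4.DescEtLoc.bcDD g D' q).obj PUnit.unit).hom :=
      inferInstanceAs (IsSeparated (pullback.snd (D'.obj PUnit.unit).hom (pullback.fst g q)))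
    exact Groth.Agent.Lib.Helper4.DescUnivOpen.exists_iso_of_univOpen B (pullback.snd g q)
      (Groth.Agent.Lib.Helper4.DescEtLoc.bcDD g D' q))
  -- quasi-compactness and separatedness descend
  have hφ : IsIso (θ.hom.hom PUnit.unit).left :=
    (Groth.Agent.Lib.Helper4.DescLimSq.isIso_iff_isIso_left g θ.hom).mp inferInstance
  obtain ⟨φ, hφdef⟩ : ∃ φ : pullback g U.hom ⟶ (D'.obj PUnit.unit).left, φ = (θ.hom.hom PUnit.unit).left :=
    ⟨_, rfl⟩
  haveI : IsIso φ := by rw [hφdef]; exact hφ
  have h1 : φ ≫ (D'.obj PUnit.unit).hom = pullback.fst g U.hom := by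
    rw [hφdef]; exact Groth.Agent.Lib.Helper4.DescGamma.hom_left_hom θ.hom PUnit.unit
  haveI : QuasiCompact (pullback.fst g U.hom) := by rw [← h1]; infer_instance
  haveI : IsSeparated (pullback.fst g U.hom) := by rw [← h1]; infer_instance
  haveI : Surjective (pullback.snd g U.hom) :=
    MorphismProperty.pullback_snd (P := @Surjective) _ _ inferInstance
  have h2 : pullback.snd g U.hom ≫ U.hom = pullback.fst g U.hom ≫ g := pullback.condition.symm
  haveI : QuasiCompact (pullback.snd g U.hom ≫ U.hom) := by rw [h2]; infer_instance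
  have hqc : QuasiCompact U.hom :=
    Groth.Agent.Lib.helper5.FppfSource.quasiCompact_of_comp_surjective' (pullback.snd g U.hom) U.hom
  have hsep : IsSeparated U.hom :=
    Groth.Agent.Lib.Helper4.DescFpqcComp.isSeparated_of_pullback_fst g hg U.hom
  exact ⟨U, hqc, hsep, hU, ⟨(Desc.SchDDFam.toSchDD g).mapIso θ⟩⟩

end Groth.Agent.S2904
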