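import Groth.Statements.S2917
import Mathlib.AlgebraicGeometry.Morphisms.FlatDescent
import Mathlib.AlgebraicGeometry.Morphisms.Immersion
import Mathlib.AlgebraicGeometry.Morphisms.Proper
-- import your own Groth.Agent.* helpers here

set_option autoImplicit false
open CategoryTheory CategoryTheory.Limits AlgebraicGeometry Opposite
universe u
open SGA1

namespace Groth.Agent.S2917

open MorphismProperty

/-- A universally submersive morphism is a quotient map. -/
theorem isQuotientMap_of_univSubmersive {X Y : Scheme.{u}} (f : X ⟶ Y) (hf : SGA1.UnivSubmersive f) :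
    Topology.IsQuotientMap f.base :=
  hf (𝟙 X) (𝟙 Y) f (IsPullback.id_vert f)

instance : (SGA1.UnivSubmersive.{u}).IsStableUnderBaseChange :=
  inferInstanceAs (MorphismProperty.universally _).IsStableUnderBaseChange

/-- Open maps descend along quotient maps. -/
theorem isOpenMap_of_isPullback {A X Y Z : Scheme.{u}} {fst : A ⟶ X} {snd : A ⟶ Y} {f : X ⟶ Z}
    {g : Y ⟶ Z} (h : IsPullback fst snd f g) (hf : Topology.IsQuotientMap f.base)
    (hfst : IsOpenMap fst.base) : IsOpenMap g.base := by
  intro s hs
  rw [← hf.isOpen_preimage, ← Scheme.image_preimage_eq_of_isPullback h.flip]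
  exact hfst _ (hs.preimage snd.continuous)

/-- Closed maps descend along quotient maps. -/
theorem isClosedMap_of_isPullback {A X Y Z : Scheme.{u}} {fst : A ⟶ X} {snd : A ⟶ Y} {f : X ⟶ Z}
    {g : Y ⟶ Z} (h : IsPullback fst snd f g) (hf : Topology.IsQuotientMap f.base)
    (hfst : IsClosedMap fst.base) : IsClosedMap g.base := by
  intro s hs
  rw [← hf.isClosed_preimage, ← Scheme.image_preimage_eq_of_isPullback h.flip]
  exact hfst _ (hs.preimage snd.continuous)

/-- If `P` descends along quotient maps, then `universally P` descends along universally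
submersive morphisms. -/
theorem universally_descends (P : MorphismProperty Scheme.{u}) [P.RespectsIso]
    (hP : ∀ {A X Y Z : Scheme.{u}} {fst : A ⟶ X} {snd : A ⟶ Y} {f : X ⟶ Z} {g : Y ⟶ Z},
      IsPullback fst snd f g → Topology.IsQuotientMap f.base → P fst → P g)
    {A X Y Z : Scheme.{u}} {fst : A ⟶ X} {snd : A ⟶ Y} {f : X ⟶ Z} {g : Y ⟶ Z}
    (h : IsPullback fst snd f g) (hf : SGA1.UnivSubmersive f) (hfst : universally P fst) :
    universally P g := by
  have hfst' : universally P (pullback.fst f g) := by
    rw [← h.isoPullback_hom_fst] at hfst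
    exact ((universally P).cancel_left_of_respectsIso _ _).1 hfst
  refine universally_mk' _ _ fun {T} t _ => ?_
  refine hP (isPullback_map_snd_snd f t g).flip ?_ ?_
  · exact isQuotientMap_of_univSubmersive _ (SGA1.UnivSubmersive.pullback_snd _ _ hf)
  · exact hfst' _ _ _ (IsPullback.of_hasPullback _ _)

/-- The property of having closed range. -/
def ClosedRange : MorphismProperty Scheme.{u} := fun _ _ f => IsClosed (Set.range f.base)

instance : (ClosedRange.{u}).RespectsIso := by
  refine MorphismProperty.RespectsIso.mk _ ?_ ?_
  · intro X Y Z e f hf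
    show IsClosed (Set.range (e.hom ≫ f).base)
    have : Set.range (e.hom ≫ f).base = Set.range f.base := by
      rw [Scheme.Hom.comp_base, TopCat.coe_comp, Set.range_comp,
        Set.range_eq_univ.2 e.hom.surjective, Set.image_univ]
    rw [this]
    exact hf
  · intro X Y Z e f hf
    show IsClosed (Set.range (f ≫ e.hom).base)
    rw [Scheme.Hom.comp_base, TopCat.coe_comp, Set.range_comp]
    exact e.hom.homeomorph.isClosedMap _ hf

instance : (ClosedRange.{u}).DescendsAlong SGA1.UnivSubmersive where
  of_isPullback {A X Y Z fst snd f g} h hf hfst := by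
    show IsClosed (Set.range g.base)
    rw [← (isQuotientMap_of_univSubmersive f hf).isClosed_preimage, ← Set.image_univ,
      ← Scheme.image_preimage_eq_of_isPullback h.flip, Set.preimage_univ, Set.image_univ]
    exact hfst

theorem isSeparated_iff_closedRange_diagonal {X Y : Scheme.{u}} (f : X ⟶ Y) :
    IsSeparated f ↔ ClosedRange.diagonal f := by
  rw [MorphismProperty.diagonal_iff]
  constructor
  · intro h
    exact (pullback.diagonal f).isClosedEmbedding.isClosed_range
  · intro h
    exact ⟨IsClosedImmersion.of_isPreimmersion _ h⟩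

/-- Quasi-compactness descends along surjective quasi-compact morphisms. -/
theorem quasiCompact_of_isPullback {A X Y Z : Scheme.{u}} {fst : A ⟶ X} {snd : A ⟶ Y} {f : X ⟶ Z}
    {g : Y ⟶ Z} (h : IsPullback fst snd f g) [QuasiCompact f] (hsnd : Function.Surjective snd.base)
    [QuasiCompact fst] : QuasiCompact g := by
  refine ⟨fun U hU hU' => ?_⟩
  have h1 : g.base ⁻¹' U = snd.base '' (fst.base ⁻¹' (f.base ⁻¹' U)) := by
    rw [← Set.preimage_comp, ← TopCat.coe_comp, ← Scheme.Hom.comp_base, h.w, Scheme.Hom.comp_base,
      TopCat.coe_comp, Set.preimage_comp, Set.image_preimage_eq _ hsnd]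
  rw [h1]
  exact ((QuasiCompact.isCompact_preimage (f := fst) _ (hU.preimage f.continuous)
    (QuasiCompact.isCompact_preimage (f := f) _ hU hU'))).image snd.continuous


/-- Let g : S' ⟶ S be universally submersive, f : X ⟶ Y a morphism of S-schemes (Y ⟶ S the structure
map) and f' its base change along S' ⟶ S, realised as X ×_S S' ⟶ Y ×_S S'. If f' is open (resp.
closed) then so is f; if f' is universally open (resp. universally closed, resp. separated) then so
is f; and if moreover g is quasi-compact and f locally of finite type, then f is proper as soon as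
f' is. -/
theorem result {S' S X Y : Scheme.{u}} (g : S' ⟶ S) (hg : SGA1.UnivSubmersive g)
    (f : X ⟶ Y) (q : Y ⟶ S) :
    (IsOpenMap (pullback.map (f ≫ q) g q g f (𝟙 S') (𝟙 S) (Category.comp_id _) ((Category.comp_id _).trans (Category.id_comp _).symm)).base → IsOpenMap f.base) ∧
    (IsClosedMap (pullback.map (f ≫ q) g q g f (𝟙 S') (𝟙 S) (Category.comp_id _) ((Category.comp_id _).trans (Category.id_comp _).symm)).base → IsClosedMap f.base) ∧
    (UniversallyOpen (pullback.map (f ≫ q) g q g f (𝟙 S') (𝟙 S) (Category.comp_id _) ((Category.comp_id _).trans (Category.id_comp _).symm)) → UniversallyOpen f) ∧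
    (UniversallyClosed (pullback.map (f ≫ q) g q g f (𝟙 S') (𝟙 S) (Category.comp_id _) ((Category.comp_id _).trans (Category.id_comp _).symm)) → UniversallyClosed f) ∧
    (IsSeparated (pullback.map (f ≫ q) g q g f (𝟙 S') (𝟙 S) (Category.comp_id _) ((Category.comp_id _).trans (Category.id_comp _).symm)) → IsSeparated f) ∧
    (QuasiCompact g → LocallyOfFiniteType f →
      IsProper (pullback.map (f ≫ q) g q g f (𝟙 S') (𝟙 S) (Category.comp_id _) ((Category.comp_id _).trans (Category.id_comp _).symm)) → IsProper f) := by
  have hsq : IsPullback (pullback.map (f ≫ q) g q g f (𝟙 S') (𝟙 S) (Category.comp_id _)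
      ((Category.comp_id _).trans (Category.id_comp _).symm))
      (pullback.fst (f ≫ q) g) (pullback.fst q g) f := by
    refine IsPullback.of_right ?_ (pullback.lift_fst _ _ _) (IsPullback.of_hasPullback q g).flip
    have e : pullback.map (f ≫ q) g q g f (𝟙 S') (𝟙 S) (Category.comp_id _)
        ((Category.comp_id _).trans (Category.id_comp _).symm) ≫ pullback.snd q g =
        pullback.snd (f ≫ q) g := (pullback.lift_snd _ _ _).trans (Category.comp_id _)
    rw [e]
    exact (IsPullback.of_hasPullback (f ≫ q) g).flip
  have hgY : SGA1.UnivSubmersive (pullback.fst q g) := SGA1.UnivSubmersive.pullback_fst _ _ hg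
  have hgX : SGA1.UnivSubmersive (pullback.fst (f ≫ q) g) :=
    SGA1.UnivSubmersive.pullback_fst _ _ hg
  have hqY := isQuotientMap_of_univSubmersive _ hgY
  have hopen : UniversallyOpen (pullback.map (f ≫ q) g q g f (𝟙 S') (𝟙 S) (Category.comp_id _)
      ((Category.comp_id _).trans (Category.id_comp _).symm)) → UniversallyOpen f := fun h =>
    ⟨universally_descends (topologically @IsOpenMap)
      (fun h' hf' hfst' => isOpenMap_of_isPullback h' hf' hfst') hsq hgY h.1⟩
  have hclosed : UniversallyClosed (pullback.map (f ≫ q) g q g f (𝟙 S') (𝟙 S) (Category.comp_id _)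
      ((Category.comp_id _).trans (Category.id_comp _).symm)) → UniversallyClosed f := fun h =>
    ⟨universally_descends (topologically @IsClosedMap)
      (fun h' hf' hfst' => isClosedMap_of_isPullback h' hf' hfst') hsq hgY h.1⟩
  have hsep : IsSeparated (pullback.map (f ≫ q) g q g f (𝟙 S') (𝟙 S) (Category.comp_id _)
      ((Category.comp_id _).trans (Category.id_comp _).symm)) → IsSeparated f := fun h => by
    rw [isSeparated_iff_closedRange_diagonal] at h ⊢
    exact MorphismProperty.of_isPullback_of_descendsAlong hsq hgY h
  refine ⟨fun h => isOpenMap_of_isPullback hsq hqY h, fun h => isClosedMap_of_isPullback hsq hqY h,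
    hopen, hclosed, hsep, fun hqc hft hprop => ?_⟩
  have : QuasiCompact (pullback.fst q g) := inferInstance
  have hqcf : QuasiCompact f := quasiCompact_of_isPullback hsq
    (isQuotientMap_of_univSubmersive _ hgX).surjective
  have := hsep inferInstance
  have := hclosed inferInstance
  exact {}

end Groth.Agent.S2917
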