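import Groth.Statements.S2921
import Groth.Agent.Lib.Helper22.KummerReg
import Groth.Agent.Lib.Helper22.KummerEt

set_option autoImplicit false
universe u
open IsLocalRing
open SGA1

namespace Groth.Agent.S2921

/-- Regularity and etaleness; the tameness assertion is not stated: Let A be a regular local ring, f_1,
…, f_r elements of the maximal ideal whose images in the cotangent space are linearly independent
(part of a regular system of parameters), and n_1, …, n_r ≥ 1. Then A' = A[T_1, …, T_r]/(T_i^{n_i} −
f_i) is a regular local ring; and if each n_i is invertible in the residue field of A, then A'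
becomes etale over A after inverting f_1 ⋯ f_r. -/
theorem result (A : Type u) [CommRing A] [IsRegularLocalRing A] (r : ℕ) (f : Fin r → A)
    (hm : ∀ i, f i ∈ maximalIdeal A)
    (hf : LinearIndependent (ResidueField A) (fun i => (maximalIdeal A).toCotangent ⟨f i, hm i⟩))
    (n : Fin r → ℕ) (hn : ∀ i, 1 ≤ n i) :
    IsRegularLocalRing (SGA1.kummerAlg A f n) ∧
    ((∀ i, IsUnit ((n i : ℕ) : ResidueField A)) →
      letI := (Localization.awayMap (algebraMap A (SGA1.kummerAlg A f n)) (∏ i, f i)).toAlgebra
      Algebra.Etale (Localization.Away (∏ i, f i)) (Localization.Away (algebraMap A (SGA1.kummerAlg A f n) (∏ i, f i)))) := by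
  refine ⟨Groth.Agent.Lib.helper22.Kummer.isRegularLocalRing hm hf hn, ?_⟩
  intro hu
  have hnA : ∀ i, IsUnit ((n i : ℕ) : A) := by
    intro i
    have h := hu i
    rw [← map_natCast (residue A)] at h
    exact isUnit_of_map_unit (residue A) _ h
  refine Groth.Agent.Lib.helper22.KummerEt.etale_away A f n (∏ i, f i) ?_ hn ?_
  · intro i
    have hdvd : f i ∣ ∏ i, f i := Finset.dvd_prod_of_mem f (Finset.mem_univ i)
    exact isUnit_of_dvd_unit (map_dvd (algebraMap A (Localization.Away (∏ i, f i))) hdvd)
      (IsLocalization.Away.algebraMap_isUnit (∏ i, f i))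
  · intro i
    have := (hnA i).map (algebraMap A (Localization.Away (∏ i, f i)))
    rwa [map_natCast] at this

end Groth.Agent.S2921
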