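import Groth.Statements.S2933
import Mathlib
import Groth.Agent.Lib.Helper26.HartshorneConn

set_option autoImplicit false
universe u
open LocCoh

namespace Groth.Agent.S2933

lemma list_of_conn {A : Type u} [CommRing A] (d : ℕ) :
    ∀ (n : ℕ) (c : Fin (n + 1) → Ideal A) (hmin : ∀ i, c i ∈ minimalPrimes A)
      (_ : ∀ i : Fin n, ∃ (q : Ideal A) (_ : q.IsPrime),
        c i.castSucc ≤ q ∧ c i.succ ≤ q ∧ q.height + 1 ≤ (d : ℕ∞)),
      ∃ l : List (PrimeSpectrum A), l.head? = some ⟨c 0, (hmin 0).1.1⟩ ∧
        l.getLast? = some ⟨c (Fin.last n), (hmin _).1.1⟩ ∧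
        (∀ p ∈ l, p.asIdeal ∈ minimalPrimes A) ∧
        List.IsChain (fun p q => ∃ r : PrimeSpectrum A, p ≤ r ∧ q ≤ r ∧
          r.asIdeal.height ≤ (d - 1 : ℕ)) l := by
  intro n
  induction n with
  | zero =>
    intro c hmin _
    refine ⟨[⟨c 0, (hmin 0).1.1⟩], rfl, rfl, ?_, List.isChain_singleton _⟩
    intro p hp
    rw [List.mem_singleton] at hp
    rw [hp]
    exact hmin 0
  | succ n ih =>
    intro c hmin hstep
    obtain ⟨l, h1, h2, h3, h4⟩ := ih (fun i => c i.castSucc) (fun i => hmin _)
      (fun i => by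
        obtain ⟨q, hq, ha, hb, hc⟩ := hstep i.castSucc
        exact ⟨q, hq, ha, hb, hc⟩)
    refine ⟨l ++ [⟨c (Fin.last (n + 1)), (hmin _).1.1⟩], ?_, ?_, ?_, ?_⟩
    · rw [List.head?_append, h1]
      rfl
    · rw [List.getLast?_append]
      rfl
    · intro p hp
      rw [List.mem_append, List.mem_singleton] at hp
      rcases hp with hp | hp
      · exact h3 p hp
      · rw [hp]
        exact hmin _
    · refine List.IsChain.append h4 (List.isChain_singleton _) ?_
      intro x hx y hy
      rw [h2] at hx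
      rw [Option.mem_def, Option.some.injEq] at hx
      rw [List.head?_cons, Option.mem_def, Option.some.injEq] at hy
      subst hx
      subst hy
      obtain ⟨q, hq, ha, hb, hc⟩ := hstep (Fin.last n)
      refine ⟨⟨q, hq⟩, ha, hb, ?_⟩
      change q.height ≤ _
      cases hh : q.height with
      | top =>
        rw [hh] at hc
        simp at hc
      | coe k =>
        rw [hh] at hc
        have : k + 1 ≤ d := by exact_mod_cast hc
        have : k ≤ d - 1 := by omega
        exact_mod_cast this


/-- Let A be a Noetherian ring with connected spectrum and d ≥ 1 an integer such that every prime p with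
dim A_p ≥ d has depth A_p ≥ 2. Then for any two minimal primes p', p'' of A there is a finite
sequence of minimal primes starting at p' and ending at p'' such that any two consecutive members
are both contained in some prime of height at most d − 1 (Spec A is connected in codimension d − 1). -/
theorem result (A : Type u) [CommRing A] [IsNoetherianRing A] [ConnectedSpace (PrimeSpectrum A)] (d : ℕ) (hd : 1 ≤ d) (h : ∀ p : PrimeSpectrum A, (d : ℕ∞) ≤ p.asIdeal.height → (2 : ℕ∞) ≤ LocCoh.depth (Localization.AtPrime p.asIdeal) (Localization.AtPrime p.asIdeal)) (p' p'' : PrimeSpectrum A) (hp' : p'.asIdeal ∈ minimalPrimes A) (hp'' : p''.asIdeal ∈ minimalPrimes A) : ∃ l : List (PrimeSpectrum A), l.head? = some p' ∧ l.getLast? = some p'' ∧ (∀ p ∈ l, p.asIdeal ∈ minimalPrimes A) ∧ List.IsChain (fun p q => ∃ r : PrimeSpectrum A, p ≤ r ∧ q ≤ r ∧ r.asIdeal.height ≤ (d - 1 : ℕ)) l := by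
  classical
  obtain ⟨n, c, h0, hl, hmin, hstep⟩ := Groth.Agent.Lib.helper26.HConn.conn_of_depth d
    (fun p _ hp => h ⟨p, inferInstance⟩ hp) p'.asIdeal p''.asIdeal hp' hp''
  obtain ⟨l, h1, h2, h3, h4⟩ := list_of_conn d n c hmin hstep
  refine ⟨l, ?_, ?_, h3, h4⟩
  · rw [h1]
    congr 1
    ext1
    exact h0
  · rw [h2]
    congr 1
    ext1
    exact hl


end Groth.Agent.S2933
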