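import Groth.Statements.S2936
import Mathlib
import Groth.Agent.Lib.Helper19.TopLC3
import Groth.Agent.S17759

set_option autoImplicit false
universe u
open LocCoh

namespace Groth.Agent.S2936




/-- (iii), for a complete local ring. Let A be a complete Noetherian local ring with maximal ideal m, κ
→ E an injective hull of the residue field, and M a nonzero finite A-module whose support has
dimension n. Then for every i the A-module Hom_A(H^i_m(M), E) is finite with support of dimension at
most i; for i = n its support has dimension exactly n and its associated primes are exactly the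
associated primes p of M with dim A/p = n. -/
theorem result (A : Type u) [CommRing A] [IsLocalRing A] [IsNoetherianRing A] [IsAdicComplete (IsLocalRing.maximalIdeal A) A] (E : Type u) [AddCommGroup E] [Module A E] (f : IsLocalRing.ResidueField A →ₗ[A] E) (hf : InjHull.IsInjectiveHull f) (M : Type u) [AddCommGroup M] [Module A M] [Module.Finite A M] [Nontrivial M] (n : ℕ) (hn : Module.supportDim A M = n) : (∀ i : ℕ, Module.Finite A (LocCoh.H (IsLocalRing.maximalIdeal A) i M →ₗ[A] E) ∧ Module.supportDim A (LocCoh.H (IsLocalRing.maximalIdeal A) i M →ₗ[A] E) ≤ (i : WithBot ℕ∞)) ∧ Module.supportDim A (LocCoh.H (IsLocalRing.maximalIdeal A) n M →ₗ[A] E) = n ∧ associatedPrimes A (LocCoh.H (IsLocalRing.maximalIdeal A) n M →ₗ[A] E) = {p | p ∈ associatedPrimes A M ∧ ringKrullDim (A ⧸ p) = n} := by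
  classical
  open Groth.Agent.Lib.helper19.TopLC in
  have hfin : ∀ i : ℕ, Module.Finite A (LocCoh.H (IsLocalRing.maximalIdeal A) i M →ₗ[A] E) := by
    intro i
    haveI := Groth.Agent.S0817.result A M i
    exact (Groth.Agent.S0317.result A E f hf (LocCoh.H (IsLocalRing.maximalIdeal A) i M)).1
  have hass : associatedPrimes A (LocCoh.H (IsLocalRing.maximalIdeal A) n M →ₗ[A] E) =
      {p | p ∈ associatedPrimes A M ∧ ringKrullDim (A ⧸ p) = n} := by
    rw [Groth.Agent.S17759.result A E f hf (IsLocalRing.maximalIdeal A) M n hn]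
    ext p
    constructor
    · rintro ⟨hpp, hle, hd, -⟩
      haveI := hpp
      exact ⟨mem_associatedPrimes_of_dim_eq A M n hn p hle hd, hd⟩
    · rintro ⟨hp, hd⟩
      have hpp : p.IsPrime := IsAssociatedPrime.isPrime hp
      refine ⟨hpp, ?_, hd, ?_⟩
      · exact le_of_eq_of_le Submodule.annihilator_top.symm (IsAssociatedPrime.annihilator_le hp)
      · rw [sup_eq_left.mpr (IsLocalRing.le_maximalIdeal hpp.ne_top),
          Ideal.IsPrime.radical (IsLocalRing.maximalIdeal.isMaximal A).isPrime]
  refine ⟨fun i => ⟨hfin i, dual_supportDim_le A E f hf M i⟩, ?_, hass⟩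
  apply le_antisymm (dual_supportDim_le A E f hf M n)
  obtain ⟨p, hpp, hle, hd⟩ := exists_prime_dim_eq A M n hn
  haveI := hpp
  have hp : p ∈ associatedPrimes A (LocCoh.H (IsLocalRing.maximalIdeal A) n M →ₗ[A] E) := by
    rw [hass]
    exact ⟨mem_associatedPrimes_of_dim_eq A M n hn p hle hd, hd⟩
  obtain ⟨hpp', hsupp⟩ := mem_support_of_mem_associatedPrimes A _ p hp
  rw [← hd]
  exact le_supportDim_of_mem_support A _ ⟨p, hpp'⟩ hsupp

end Groth.Agent.S2936
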