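import Groth.Statements.S2938
import Mathlib

set_option autoImplicit false
universe u
open scoped TensorProduct
open LocCoh

namespace Groth.Agent.S2938

section lemmas
open RingTheory.Sequence CategoryTheory Abelian

variable {R : Type u} [CommRing R]

lemma smul_top_quotSMulTop_ne_top {M : Type*} [AddCommGroup M]
    [Module R M] {I : Ideal R} {r : R} (hr : r ∈ I)
    (hI : I • (⊤ : Submodule R M) ≠ ⊤) :
    I • (⊤ : Submodule R (QuotSMulTop r M)) ≠ ⊤ := by
  by_contra eq
  absurd congrArg (Submodule.comap (Submodule.mkQ _)) eq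
  simpa [Submodule.comap_smul_top_of_surjective I _ (Submodule.mkQ_surjective _),
    Submodule.smul_mono_left ((Ideal.span_singleton_le_iff_mem I).mpr hr),
    ← Submodule.ideal_span_singleton_smul] using hI

/-- If `Ext^i(N, M) = 0` for `i < n+1` and `x` is `M`-regular then `Ext^i(N, M/xM) = 0` for `i<n`. -/
lemma ext_quot_subsingleton [IsNoetherianRing R] (N M : ModuleCat.{u} R) (n : ℕ) (x : R)
    (hx : IsSMulRegular M x)
    (h_ext : ∀ i < n + 1, Subsingleton (Ext N M i)) :
    ∀ i < n, Subsingleton (Ext N (ModuleCat.of R (QuotSMulTop x M)) i) := by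
  intro i hi
  have zero1 := AddCommGrpCat.isZero_of_iff_subsingleton.mpr (h_ext i (by omega))
  have zero2 := AddCommGrpCat.isZero_of_iff_subsingleton.mpr (h_ext (i + 1) (by omega))
  exact AddCommGrpCat.subsingleton_of_isZero <| ShortComplex.Exact.isZero_of_both_zeros
    ((Ext.covariant_sequence_exact₃' N hx.smulShortComplex_shortExact) i (i + 1) rfl)
    (zero1.eq_zero_of_src _) (zero2.eq_zero_of_tgt _)


section key
variable (A B : Type u) [CommRing A] [CommRing B] [Algebra A B] [IsNoetherianRing A]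
  [IsNoetherianRing B] [Module.FaithfullyFlat A B] (I : Ideal A)

omit [IsNoetherianRing A] [IsNoetherianRing B] in
/-- `Hom_A(A/I, M) = 0` if `Hom_B(B/IB, B ⊗ M) = 0`, for `B` faithfully flat. -/
lemma subsingleton_hom_of_baseChange (M : Type u) [AddCommGroup M] [Module A M]
    (h : Subsingleton ((B ⧸ I.map (algebraMap A B)) →ₗ[B] (B ⊗[A] M))) :
    Subsingleton ((A ⧸ I) →ₗ[A] M) := by
  refine ⟨fun φ ψ => ?_⟩
  suffices H : ∀ φ : (A ⧸ I) →ₗ[A] M, φ = 0 by rw [H φ, H ψ]
  intro φ
  set m := φ (Ideal.Quotient.mk I 1) with hm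
  have hkill : ∀ a ∈ I, a • m = 0 := by
    intro a ha
    rw [hm, ← map_smul]
    have : a • (Ideal.Quotient.mk I 1) = 0 := by
      rw [Algebra.smul_def, map_one, mul_one]
      exact Ideal.Quotient.eq_zero_iff_mem.mpr ha
    rw [this, map_zero]
  have hJ : (I.map (algebraMap A B) : Submodule B B) ≤
      LinearMap.ker (LinearMap.toSpanSingleton B (B ⊗[A] M) (1 ⊗ₜ m)) := by
    rw [Ideal.map, Ideal.span_le]
    rintro _ ⟨a, ha, rfl⟩
    simp only [SetLike.mem_coe, LinearMap.mem_ker, LinearMap.toSpanSingleton_apply]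
    rw [algebraMap_smul, TensorProduct.smul_tmul', TensorProduct.smul_tmul, hkill a ha,
      TensorProduct.tmul_zero]
  let ψ : (B ⧸ I.map (algebraMap A B)) →ₗ[B] (B ⊗[A] M) :=
    Submodule.liftQ _ (LinearMap.toSpanSingleton B (B ⊗[A] M) (1 ⊗ₜ m)) hJ
  have hψ : ψ (Ideal.Quotient.mk _ 1) = 1 ⊗ₜ m := by
    change Submodule.liftQ _ _ hJ (Submodule.Quotient.mk 1) = _
    rw [Submodule.liftQ_apply]
    simp
  have h0 : ψ = 0 := Subsingleton.elim _ _
  rw [h0, LinearMap.zero_apply] at hψ
  have hm0 : m = 0 := by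
    have hinj := Module.FaithfullyFlat.tensorProduct_mk_injective (A := A) (B := B) M
    apply hinj
    simp only [TensorProduct.mk_apply, TensorProduct.tmul_zero]
    exact hψ.symm
  refine LinearMap.ext fun x => ?_
  obtain ⟨a, rfl⟩ := Ideal.Quotient.mk_surjective x
  have : Ideal.Quotient.mk I a = a • Ideal.Quotient.mk I 1 := by
    rw [Algebra.smul_def, map_one, mul_one]; rfl
  rw [this, map_smul, ← hm, hm0, smul_zero, LinearMap.zero_apply]


lemma key (n : ℕ) : ∀ (M : Type u) [AddCommGroup M] [Module A M] [Module.Finite A M],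
    I • (⊤ : Submodule A M) ≠ ⊤ →
    (∃ ys : List B, ys.length = n ∧ (∀ y ∈ ys, y ∈ I.map (algebraMap A B)) ∧
      IsWeaklyRegular (B ⊗[A] M) ys) →
    ∃ rs : List A, rs.length = n ∧ (∀ r ∈ rs, r ∈ I) ∧ IsWeaklyRegular M rs := by
  induction n with
  | zero =>
    intro M _ _ _ _ _
    exact ⟨[], rfl, by simp, IsWeaklyRegular.nil A M⟩
  | succ n ih =>
    intro M _ _ _ hI ⟨ys, hlen, hmem, hreg⟩
    set J := I.map (algebraMap A B) with hJdef
    have hJ : J • (⊤ : Submodule B (B ⊗[A] M)) ≠ ⊤ :=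
      ((TensorProduct.isBaseChange A M B).map_smul_top_ne_top_iff_of_faithfullyFlat A M I).mpr hI
    have hle : Ideal.ofList ys ≤ J := by
      rw [Ideal.ofList, Ideal.span_le]
      intro y hy
      exact hmem y hy
    have reg' : IsRegular (B ⊗[A] M) ys := by
      refine ⟨hreg, fun h => hJ ?_⟩
      rw [eq_top_iff]
      calc (⊤ : Submodule B (B ⊗[A] M)) = Ideal.ofList ys • ⊤ := h
        _ ≤ J • ⊤ := Submodule.smul_mono_left hle
    let N : ModuleCat.{u} B := ModuleCat.of B (B ⧸ J)
    have hsupp0 : Module.support B (B ⧸ J) = PrimeSpectrum.zeroLocus J := by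
      rw [Module.support_eq_zeroLocus, Ideal.annihilator_quotient]
    have hsupp : Module.support B N = PrimeSpectrum.zeroLocus J := hsupp0
    have h_ext := ModuleCat.subsingleton_ext_of_exists_isRegular J N hsupp.subset
      (ModuleCat.of B (B ⊗[A] M)) hJ.lt_top ys hmem reg'
    rw [hlen] at h_ext
    have h0 : Subsingleton (N ⟶ ModuleCat.of B (B ⊗[A] M)) :=
      Ext.addEquiv₀.subsingleton_congr.mp (h_ext 0 n.zero_lt_succ)
    have h0' : Subsingleton ((B ⧸ J) →ₗ[B] (B ⊗[A] M)) :=
      (ModuleCat.homAddEquiv (M := N) (N := ModuleCat.of B (B ⊗[A] M))).symm.subsingleton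
    have h1 : Subsingleton ((A ⧸ I) →ₗ[A] M) := subsingleton_hom_of_baseChange A B I M h0'
    obtain ⟨x, hxann, hx⟩ := IsSMulRegular.subsingleton_linearMap_iff.mp h1
    rw [Ideal.annihilator_quotient] at hxann
    have hx' : IsSMulRegular (B ⊗[A] M) (algebraMap A B x) :=
      hx.of_flat_of_isBaseChange (TensorProduct.isBaseChange A M B)
    have hxJ : algebraMap A B x ∈ J := Ideal.mem_map_of_mem _ hxann
    have h_ext' := ext_quot_subsingleton N (ModuleCat.of B (B ⊗[A] M)) n (algebraMap A B x) hx' h_ext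
    have hJ' := smul_top_quotSMulTop_ne_top (M := B ⊗[A] M) hxJ hJ
    obtain ⟨ys', len', mem', reg''⟩ := ModuleCat.exists_isRegular_of_exists_subsingleton_ext J n
      (ModuleCat.of B (QuotSMulTop (algebraMap A B x) (B ⊗[A] M))) hJ'.lt_top N hsupp h_ext'
    have e := QuotSMulTop.algebraMapTensorEquivTensorQuotSMulTop x M B
    have hreg2 : IsWeaklyRegular (B ⊗[A] QuotSMulTop x M) ys' :=
      (e.isWeaklyRegular_congr ys').mp reg''.1
    obtain ⟨rs', hlen', hmem', hreg'⟩ := ih (QuotSMulTop x M)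
      (smul_top_quotSMulTop_ne_top hxann hI) ⟨ys', len', mem', hreg2⟩
    refine ⟨x :: rs', by simp [hlen'], ?_, (isWeaklyRegular_cons_iff M x rs').mpr ⟨hx, hreg'⟩⟩
    intro r hr
    rcases List.mem_cons.mp hr with rfl | hr
    · exact hxann
    · exact hmem' r hr

end key


section main
variable (A B : Type u) [CommRing A] [CommRing B] [Algebra A B] (I : Ideal A)
  (M : Type u) [AddCommGroup M] [Module A M]

lemma map_smul_top_eq_top (h1 : I • (⊤ : Submodule A M) = ⊤) :
    I.map (algebraMap A B) • (⊤ : Submodule B (B ⊗[A] M)) = ⊤ := by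
  rw [eq_top_iff]
  rintro z -
  induction z with
  | zero => exact zero_mem _
  | add x y hx hy => exact add_mem hx hy
  | tmul b m =>
    have hm : m ∈ I • (⊤ : Submodule A M) := by rw [h1]; exact Submodule.mem_top
    refine Submodule.smul_induction_on (p := fun m => b ⊗ₜ[A] m ∈
      I.map (algebraMap A B) • (⊤ : Submodule B (B ⊗[A] M))) hm ?_ ?_
    · intro a ha m' _
      have : b ⊗ₜ[A] (a • m') = algebraMap A B a • (b ⊗ₜ[A] m') := by
        rw [algebraMap_smul, TensorProduct.smul_tmul', TensorProduct.smul_tmul]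
      rw [this]
      exact Submodule.smul_mem_smul (Ideal.mem_map_of_mem _ ha) Submodule.mem_top
    · intro x y hx hy
      rw [TensorProduct.tmul_add]
      exact add_mem hx hy

lemma le_of_flat [Module.Flat A B] :
    LocCoh.idealDepth I M ≤ LocCoh.idealDepth (I.map (algebraMap A B)) (B ⊗[A] M) := by
  unfold LocCoh.idealDepth
  by_cases h1 : I • (⊤ : Submodule A M) = ⊤
  · rw [if_pos h1, if_pos (map_smul_top_eq_top A B I M h1)]
  · rw [if_neg h1]
    split_ifs with h2
    · exact le_top
    · refine iSup₂_le fun rs hrs => ?_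
      refine le_iSup₂_of_le (rs.map (algebraMap A B))
        ⟨hrs.1.of_flat_of_isBaseChange (TensorProduct.isBaseChange A M B), ?_⟩ (by simp)
      intro r hr
      obtain ⟨a, ha, rfl⟩ := List.mem_map.mp hr
      exact Ideal.mem_map_of_mem _ (hrs.2 a ha)

lemma eq_of_faithfullyFlat [IsNoetherianRing A] [IsNoetherianRing B] [Module.Finite A M]
    [Module.FaithfullyFlat A B] :
    LocCoh.idealDepth (I.map (algebraMap A B)) (B ⊗[A] M) = LocCoh.idealDepth I M := by
  refine le_antisymm ?_ (le_of_flat A B I M)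
  unfold LocCoh.idealDepth
  by_cases h1 : I • (⊤ : Submodule A M) = ⊤
  · rw [if_pos h1, if_pos (map_smul_top_eq_top A B I M h1)]
  · have h2 : I.map (algebraMap A B) • (⊤ : Submodule B (B ⊗[A] M)) ≠ ⊤ :=
      ((TensorProduct.isBaseChange A M B).map_smul_top_ne_top_iff_of_faithfullyFlat A M I).mpr h1
    rw [if_neg h1, if_neg h2]
    refine iSup₂_le fun ys hys => ?_
    obtain ⟨rs, hlen, hmem, hreg⟩ := key A B I ys.length M h1 ⟨ys, rfl, hys.2, hys.1⟩
    exact le_iSup₂_of_le rs ⟨hreg, hmem⟩ (by rw [hlen])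

end main

end lemmas

/-- Suppose A and B are Noetherian rings with a ring map A → B, I is an ideal of A and M is a finitely
generated A-module. When B is A-flat, depth_{IB}(B ⊗_A M) ≥ depth_I(M); when B is faithfully flat
over A, the two depths are equal. -/
theorem result (A B : Type u) [CommRing A] [CommRing B] [Algebra A B] [IsNoetherianRing A] [IsNoetherianRing B] (I : Ideal A) (M : Type u) [AddCommGroup M] [Module A M] [Module.Finite A M] : (Module.Flat A B → LocCoh.idealDepth I M ≤ LocCoh.idealDepth (I.map (algebraMap A B)) (B ⊗[A] M)) ∧ (Module.FaithfullyFlat A B → LocCoh.idealDepth (I.map (algebraMap A B)) (B ⊗[A] M) = LocCoh.idealDepth I M) := by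
  exact ⟨fun _ => le_of_flat A B I M, fun _ => eq_of_faithfullyFlat A B I M⟩

end Groth.Agent.S2938
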