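import Groth.Statements.S2942
import Mathlib
import Groth.Agent.Lib.Helper21.NegTwist2
import Groth.Agent.Lib.Helper21.IdealPow2
import Groth.Agent.Lib.Helper18.HHConseq
import Groth.Agent.Lib.Helper8.DevInd
-- import your own Groth.Agent.* helpers here

set_option autoImplicit false
universe u
open CategoryTheory AlgebraicGeometry
open Lef

namespace Groth.Agent.S2942

/-- Over a field and for the structure sheaf. Let k be a field and X a proper k-scheme; let 𝓘 be a
quasi-coherent ideal sheaf whose ideal module is invertible with an ample inverse L (so 𝓘 defines an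
effective Cartier divisor Y with O_X(Y) = L ample), and suppose that at every closed point x the
local ring O_{X,x} has depth greater than n. Then there is m₀ such that for all m ≥ m₀ the map
H^i(X, O_X) → H^i(X, O_X/𝓘^{m+1}) induced by the quotient map is bijective for every i < n and
injective for i = n. -/
theorem result (k : Type u) [Field k] (X : Scheme.{u}) [X.Over (Spec (CommRingCat.of k))] [IsProper (X ↘ (Spec (CommRingCat.of k)))] (𝓘 : X.IdealSheafData) (L : X.Modules) (hL : ClSub.IsInverseOf L (ClSub.idealMod 𝓘)) (hamp : CohB1.IsAmple L) (n : ℕ) (hdepth : ∀ x : X, IsClosed ({x} : Set X) → (n : ℕ∞) < LocCoh.depth (X.presheaf.stalk x) (X.presheaf.stalk x)) : ∃ m₀ : ℕ, ∀ m : ℕ, m₀ ≤ m → (∀ i : ℕ, i < n → Function.Bijective (Sheaf.H.map ((SheafOfModules.toSheaf X.ringCatSheaf).map (ClSub.toSubscheme (𝓘 ^ (m + 1)))) i)) ∧ Function.Injective (Sheaf.H.map ((SheafOfModules.toSheaf X.ringCatSheaf).map (ClSub.toSubscheme (𝓘 ^ (m + 1)))) n) := by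
  haveI : IsLocallyNoetherian (Spec (CommRingCat.of k)) := inferInstance
  haveI : IsLocallyNoetherian X :=
    LocallyOfFiniteType.isLocallyNoetherian (X ↘ (Spec (CommRingCat.of k)))
  have hMi : PicF.IsInvertible (ClSub.idealMod 𝓘) :=
    Groth.Agent.Lib.helper11.AmpleAffine.isInvertible_of_isInverseOf hamp.1 hL
  obtain ⟨m₀, hm₀⟩ := Groth.Agent.Lib.helper21.NegTwist.exists_forall_subsingleton_HH_negTwist
    (X ↘ (Spec (CommRingCat.of k))) hamp hL (Coh.structureModule X)
    (Groth.Agent.Lib.helper8.Dev.isCoh_structureModule X) n (fun x hx => by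
      rw [Groth.Agent.Lib.Helper20.LargeTwist.depth_stalk_structureModule]
      exact hdepth x hx)
  have hvan : ∀ m : ℕ, m₀ ≤ m → ∀ j : ℕ, j ≤ n →
      Subsingleton (Coh.HH X (ClSub.idealMod (𝓘 ^ (m + 1))) j) := by
    intro m hm j hj
    obtain ⟨e⟩ := Groth.Agent.Lib.helper21.IdealPow.nonempty_tensorPow_iso_idealMod_pow 𝓘 hMi (m + 1)
    exact Groth.Agent.Lib.Helper20.TwistEquivPn.subsingleton_of_iso
      ((Groth.Agent.Lib.Lead.ModTensor.leftUnitor
        (CohB1.tensorPow (ClSub.idealMod 𝓘) (m + 1))) ≪≫ e) j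
      (hm₀ (m + 1) (hm.trans (Nat.le_succ _)) j hj)
  refine ⟨m₀, fun m hm => ?_⟩
  have hS := Groth.Agent.Lib.helper7.IdealMod.idealSeq_shortExact (𝓘 ^ (m + 1))
  refine ⟨fun i hi => ⟨?_, ?_⟩, ?_⟩
  · exact Groth.Agent.Lib.Helper18.HH.injective_map_g hS i (hvan m hm i hi.le)
  · exact Groth.Agent.Lib.Helper18.HH.surjective_map_g hS i (hvan m hm (i + 1) hi)
  · exact Groth.Agent.Lib.Helper18.HH.injective_map_g hS n (hvan m hm n le_rfl)

end Groth.Agent.S2942
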