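import Groth.Statements.S2953
-- import your own Groth.Agent.* helpers here

set_option autoImplicit false
open RootPairing
open scoped Pointwise
universe u
open RootD

namespace Groth.Agent.S2953

section lemmas

variable {ι R M N : Type*} [CommRing R] [AddCommGroup M] [Module R M]
    [AddCommGroup N] [Module R N] (P : RootPairing ι R M N)

theorem root_smul_index (g : P.Aut) (i : ι) : P.root (g • i) = g • P.root i :=
  Equiv.root_indexEquiv_eq_smul (P := P) i g

theorem pairing_smul (g : P.Aut) (x : M) (i : ι) :
    P.toLinearMap (g • x) (P.coroot (g • i)) = P.toLinearMap x (P.coroot i) := by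
  have h1 := Hom.weight_coweight_transpose_apply P P (P.coroot (g • i)) g.toHom
  have h2 := Hom.coroot_coweightMap_apply P P (g • i) g.toHom
  have h3 := congrArg (fun f => f x) h1
  simp only [LinearMap.dualMap_apply] at h3
  rw [h2] at h3
  have : g.toHom.indexEquiv.symm (g • i) = i := by
    show g.toHom.indexEquiv.symm (g.toHom.indexEquiv i) = i
    simp
  rw [this] at h3
  exact h3

theorem reflection_smul_index (g : P.Aut) (j : ι) :
    Equiv.reflection P (g • j) = g * Equiv.reflection P j * g⁻¹ := by
  rw [eq_mul_inv_iff_mul_eq]
  apply Equiv.weightHom_injective P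
  ext x
  show Equiv.reflection P (g • j) • (g • x) = g • (Equiv.reflection P j • x)
  rw [Equiv.reflection_smul, Equiv.reflection_smul, reflection_apply, reflection_apply,
    smul_sub, root_smul_index]
  congr 1
  show (P.toLinearMap (g • x) (P.coroot (g • j))) • _ = _
  rw [pairing_smul, ← smul_comm]
  rfl

/-- product of reflections along a list of indices -/
noncomputable def wL (L : List ι) : P.Aut := (L.map (Equiv.reflection P)).prod

@[simp] theorem wL_nil : wL P [] = 1 := rfl
@[simp] theorem wL_cons (i : ι) (L : List ι) : wL P (i :: L) = Equiv.reflection P i * wL P L := by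
  simp [wL]
@[simp] theorem wL_append (L1 L2 : List ι) : wL P (L1 ++ L2) = wL P L1 * wL P L2 := by
  simp [wL]

theorem reflection_mul_self (i : ι) : Equiv.reflection P i * Equiv.reflection P i = 1 := by
  rw [mul_eq_one_iff_inv_eq, Equiv.reflection_inv]

theorem wL_reverse (L : List ι) : wL P L.reverse = (wL P L)⁻¹ := by
  induction L with
  | nil => simp
  | cons i L ih =>
    rw [List.reverse_cons, wL_append, ih, wL_cons, wL_cons, wL_nil, mul_one, mul_inv_rev,
      Equiv.reflection_inv]

theorem wL_mem_weylGroup (L : List ι) : wL P L ∈ P.weylGroup := by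
  induction L with
  | nil => simp
  | cons i L ih => rw [wL_cons]; exact mul_mem (P.reflection_mem_weylGroup i) ih

theorem reflection_smul_eq (i k : ι) : Equiv.reflection P i • k = P.reflectionPerm i k := rfl

theorem smul_neg_index (g : P.Aut) (j : ι) :
    g • (P.reflectionPerm j j) = P.reflectionPerm (g • j) (g • j) := by
  apply P.root.injective
  rw [root_smul_index, root_reflectionPerm, root_reflectionPerm, reflection_apply_self,
    reflection_apply_self, smul_neg, root_smul_index]

section
variable [CharZero R] [IsDomain R] [Finite ι] [P.IsCrystallographic] [P.IsReduced] (b : P.Base)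

include b in
theorem exists_list_of_mem_weylGroup (g : P.Aut) (hg : g ∈ P.weylGroup) :
    ∃ L : List ι, (∀ i ∈ L, i ∈ b.support) ∧ g = wL P L := by
  induction hg using weylGroup.induction with
  | mem i =>
    refine b.induction_reflect i
      (p := fun i => ∃ L : List ι, (∀ i ∈ L, i ∈ b.support) ∧ Equiv.reflection P i = wL P L) ?_ ?_ ?_
    · rintro i ⟨L, hL, h⟩
      refine ⟨L, hL, ?_⟩
      rw [← h, ← reflection_smul_eq, reflection_smul_index, Equiv.reflection_inv,
        reflection_mul_self, one_mul]
    · intro i hi
      exact ⟨[i], by simpa using hi, by simp⟩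
    · rintro i j ⟨L, hL, h⟩ hj
      refine ⟨j :: (L ++ [j]), ?_, ?_⟩
      · intro k hk
        simp only [List.mem_cons, List.mem_append, List.not_mem_nil, or_false] at hk
        rcases hk with rfl | hk | rfl
        · exact hj
        · exact hL k hk
        · exact hj
      · rw [← reflection_smul_eq, reflection_smul_index, Equiv.reflection_inv, h]
        simp
  | one => exact ⟨[], by simp, by simp⟩
  | mul x y hx hy ihx ihy =>
    obtain ⟨L1, hL1, rfl⟩ := ihx
    obtain ⟨L2, hL2, rfl⟩ := ihy
    refine ⟨L1 ++ L2, ?_, by simp⟩
    intro k hk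
    rcases List.mem_append.mp hk with hk | hk
    · exact hL1 k hk
    · exact hL2 k hk

theorem deletion (L : List ι) (hL : ∀ i ∈ L, i ∈ b.support) (j : ι) (hj : j ∈ b.support)
    (hneg : ¬ b.IsPos (wL P L • j)) :
    ∃ L1 k L2, L = L1 ++ k :: L2 ∧ wL P L2 • j = k := by
  induction L with
  | nil => exact absurd (by simpa using RootPairing.Base.isPos_of_mem_support hj) hneg
  | cons i L ih =>
    have hi : i ∈ b.support := hL i (by simp)
    have hL' : ∀ i ∈ L, i ∈ b.support := fun k hk => hL k (by simp [hk])
    by_cases hpos : b.IsPos (wL P L • j)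
    · by_cases hij : wL P L • j = i
      · exact ⟨[], i, L, rfl, hij⟩
      · exfalso
        apply hneg
        rw [wL_cons, mul_smul, reflection_smul_eq]
        exact hpos.reflectionPerm hi hij
    · obtain ⟨L1, k, L2, h1, h2⟩ := ih hL' hpos
      exact ⟨i :: L1, k, L2, by rw [h1]; rfl, h2⟩

theorem eq_one_of_list (n : ℕ) : ∀ L : List ι, L.length = n → (∀ i ∈ L, i ∈ b.support) →
    (∀ i, b.IsPos i → b.IsPos (wL P L • i)) → wL P L = 1 := by
  induction n using Nat.strong_induction_on with
  | _ n ih =>
    intro L hlen hL hpos
    rcases List.eq_nil_or_concat L with rfl | ⟨L0, j, rfl⟩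
    · simp
    · rw [List.concat_eq_append] at hlen hL hpos ⊢
      have hj : j ∈ b.support := hL j (by simp)
      have hL0 : ∀ i ∈ L0, i ∈ b.support := fun k hk => hL k (by simp [hk])
      have h1 : b.IsPos (wL P (L0 ++ [j]) • j) := hpos j (RootPairing.Base.isPos_of_mem_support hj)
      have h2 : ¬ b.IsPos (wL P L0 • j) := by
        rw [wL_append, wL_cons, wL_nil, mul_one, mul_smul, reflection_smul_eq, smul_neg_index] at h1
        exact (RootPairing.Base.IsPos.neg_iff_not b _).mp h1
      obtain ⟨L1, k, L2, h3, h4⟩ := deletion P b L0 hL0 j hj h2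
      have h5 : wL P (L0 ++ [j]) = wL P (L1 ++ L2) := by
        rw [h3]
        simp only [wL_append, wL_cons, wL_nil, mul_one]
        rw [← h4, reflection_smul_index]
        simp only [mul_assoc, inv_mul_cancel_left]
        rw [reflection_mul_self, mul_one]
      rw [h5]
      apply ih (L1 ++ L2).length _ (L1 ++ L2) rfl
      · intro i hi
        apply hL0
        rw [h3]
        simp only [List.mem_append, List.mem_cons] at hi ⊢
        tauto
      · rw [← h5]; exact hpos
      · rw [← hlen, h3]; simp

end

end lemmas

/-- For a finite crystallographic reduced root pairing with a base b: an element of the Weyl group which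
maps positive roots (relative to b) to positive roots is the identity. -/
theorem result {ι R M N : Type*} [CommRing R] [CharZero R] [IsDomain R] [AddCommGroup M] [Module R M]
    [AddCommGroup N] [Module R N] (P : RootPairing ι R M N) [Finite ι] [P.IsCrystallographic] [P.IsReduced]
    (b : P.Base) (g : P.Aut) (hg : g ∈ P.weylGroup) (hpos : ∀ i, b.IsPos i → b.IsPos (g • i)) : g = 1 := by
  obtain ⟨L, hL, rfl⟩ := exists_list_of_mem_weylGroup P b g hg
  exact eq_one_of_list P b L.length L rfl hL hpos

end Groth.Agent.S2953
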