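import Groth.Statements.S2954
import Groth.Agent.S2953

set_option autoImplicit false
open RootPairing
open scoped Pointwise
universe u
open RootD

namespace Groth.Agent.S2954

section lemmas
open Groth.Agent.S2953

variable {ι R M N : Type*} [CommRing R] [AddCommGroup M] [Module R M]
    [AddCommGroup N] [Module R N] (P : RootPairing ι R M N)

section
variable [CharZero R] [IsDomain R] [Finite ι] [P.IsCrystallographic] [P.IsReduced] (b b' : P.Base)

omit [P.IsReduced] in
theorem mem_support_iff_indecomposable (j : ι) :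
    j ∈ b.support ↔ b.IsPos j ∧ ∀ k l, b.IsPos k → b.IsPos l → P.root j ≠ P.root k + P.root l := by
  constructor
  · intro hj
    refine ⟨RootPairing.Base.isPos_of_mem_support hj, ?_⟩
    intro k l hk hl h
    have h1 := b.height_add h
    rw [RootPairing.Base.height_one_of_mem_support hj] at h1
    rw [RootPairing.Base.isPos_iff] at hk hl
    omega
  · rintro ⟨hpos, hind⟩
    obtain ⟨s, hs, hs'⟩ := hpos.exists_mem_support_pos_pairingIn
    rw [P.zero_lt_pairingIn_iff'] at hs'
    rcases eq_or_ne j s with rfl | hjs
    · exact hs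
    · exfalso
      obtain ⟨k, hk⟩ := P.root_sub_root_mem_of_pairingIn_pos hs' hjs
      have hkpos : b.IsPos k := hpos.sub hs hk
      exact hind k s hkpos (RootPairing.Base.isPos_of_mem_support hs) (by rw [hk]; abel)

/-- `n(g)`-set -/
def badSet (g : P.Aut) : Set ι := {i | b'.IsPos i ∧ ¬ b.IsPos (g⁻¹ • i)}

theorem exists_good (n : ℕ) : ∀ g : P.Aut, g ∈ P.weylGroup → (badSet P b b' g).ncard = n →
    ∃ g' : P.Aut, g' ∈ P.weylGroup ∧ ∀ i, b'.IsPos i → b.IsPos (g'⁻¹ • i) := by
  induction n using Nat.strong_induction_on with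
  | _ n ih =>
    intro g hg hn
    by_cases hall : ∀ j ∈ b'.support, b.IsPos (g⁻¹ • j)
    · refine ⟨g, hg, fun i hi => ?_⟩
      refine hi.induction_on_add (p := fun i => b.IsPos (g⁻¹ • i)) hall ?_
      intro i j k hk hi hj
      refine hi.add (hall j hj) ?_
      rw [root_smul_index, root_smul_index, root_smul_index, hk, smul_add]
    · push Not at hall
      obtain ⟨j, hj, hjneg⟩ := hall
      have hjpos' : b'.IsPos j := RootPairing.Base.isPos_of_mem_support hj
      have hjmem : j ∈ badSet P b b' g := ⟨hjpos', hjneg⟩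
      -- -j is positive for g⁻¹ b
      have hnegj : b.IsPos (g⁻¹ • P.reflectionPerm j j) := by
        rw [smul_neg_index]
        exact (RootPairing.Base.IsPos.neg_iff_not b _).mpr hjneg
      have hnegj' : ¬ b'.IsPos (P.reflectionPerm j j) := by
        intro h
        exact ((RootPairing.Base.IsPos.neg_iff_not b' j).mp h) hjpos'
      set g' := Equiv.reflection P j * g with hg'
      have hsub : (fun i => P.reflectionPerm j i) '' (badSet P b b' g') ⊆ badSet P b b' g \ {j} := by
        rintro _ ⟨i, ⟨hi1, hi2⟩, rfl⟩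
        have hi2' : ¬ b.IsPos (g⁻¹ • P.reflectionPerm j i) := by
          rw [hg', mul_inv_rev, Equiv.reflection_inv, mul_smul] at hi2
          exact hi2
        have hij : i ≠ j := by
          rintro rfl
          exact hi2' hnegj
        refine ⟨⟨hi1.reflectionPerm hj hij, hi2'⟩, ?_⟩
        simp only [Set.mem_singleton_iff]
        intro h
        have : i = P.reflectionPerm j j := by
          have h2 := P.reflectionPerm_self j i
          rw [h] at h2; exact h2.symm
        exact hnegj' (this ▸ hi1)
      have hlt : (badSet P b b' g').ncard < n := by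
        rw [← Set.ncard_image_of_injective _ (P.reflectionPerm j).injective, ← hn]
        exact lt_of_le_of_lt (Set.ncard_le_ncard hsub (Set.toFinite _))
          (Set.ncard_sdiff_singleton_lt_of_mem hjmem (Set.toFinite _))
      exact ih _ hlt g' (mul_mem (P.reflection_mem_weylGroup j) hg) rfl

theorem exists_weyl_isPos_iff : ∃ g : P.Aut, g ∈ P.weylGroup ∧ ∀ i, b'.IsPos i ↔ b.IsPos (g⁻¹ • i) := by
  obtain ⟨g, hg, h⟩ := exists_good P b b' _ 1 (one_mem _) rfl
  refine ⟨g, hg, fun i => ⟨h i, fun hi => ?_⟩⟩
  by_contra hneg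
  have h1 : b'.IsPos (P.reflectionPerm i i) := (RootPairing.Base.IsPos.neg_iff_not b' i).mpr hneg
  have h2 := h _ h1
  rw [smul_neg_index] at h2
  exact ((RootPairing.Base.IsPos.neg_iff_not b _).mp h2) hi

omit [P.IsReduced] in
theorem support_eq_of_isPos_iff (g : P.Aut) (h : ∀ i, b'.IsPos i ↔ b.IsPos (g⁻¹ • i)) (j : ι) :
    j ∈ b'.support ↔ g⁻¹ • j ∈ b.support := by
  rw [mem_support_iff_indecomposable, mem_support_iff_indecomposable, h j]
  refine and_congr_right fun _ => ⟨fun H k l hk hl heq => ?_, fun H k l hk hl heq => ?_⟩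
  · refine H (g • k) (g • l) ((h _).mpr (by simpa using hk)) ((h _).mpr (by simpa using hl)) ?_
    have := congrArg (fun x => g • x) heq
    simp only [smul_add, ← root_smul_index, smul_inv_smul] at this
    exact this
  · refine H (g⁻¹ • k) (g⁻¹ • l) ((h _).mp hk) ((h _).mp hl) ?_
    rw [root_smul_index, root_smul_index, root_smul_index, heq, smul_add]

end

end lemmas

/-- For a finite crystallographic reduced root pairing (over a domain of characteristic zero), the Weyl
group acts freely and transitively on bases: for two bases b, b' there is exactly one element of the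
Weyl group carrying the set of simple roots of b onto that of b'. -/
theorem result {ι R M N : Type*} [CommRing R] [CharZero R] [IsDomain R] [AddCommGroup M] [Module R M]
    [AddCommGroup N] [Module R N] (P : RootPairing ι R M N) [Finite ι] [P.IsCrystallographic] [P.IsReduced]
    (b b' : P.Base) :
    ∃! g : P.weylGroup, (fun i : ι => (g : P.Aut) • i) '' (b.support : Set ι) = (b'.support : Set ι) := by
  obtain ⟨g, hg, h⟩ := exists_weyl_isPos_iff P b b'
  have himg : ∀ (g : P.Aut), (∀ i, b'.IsPos i ↔ b.IsPos (g⁻¹ • i)) →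
      (fun i : ι => g • i) '' (b.support : Set ι) = (b'.support : Set ι) := by
    intro g h
    ext x
    simp only [Set.mem_image, Finset.mem_coe]
    rw [support_eq_of_isPos_iff P b b' g h x]
    constructor
    · rintro ⟨i, hi, rfl⟩
      simpa using hi
    · intro hx
      exact ⟨g⁻¹ • x, hx, by simp⟩
  refine ⟨⟨g, hg⟩, himg g h, ?_⟩
  rintro ⟨g2, hg2⟩ h2
  simp only at h2
  have h1 := himg g h
  -- h = g⁻¹ * g2 stabilises b.support
  have hstab : ∀ j ∈ b.support, (g⁻¹ * g2) • j ∈ b.support := by
    intro j hj
    have : g2 • j ∈ (b'.support : Set ι) := by rw [← h2]; exact ⟨j, hj, rfl⟩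
    rw [← h1] at this
    obtain ⟨j', hj', e⟩ := this
    rw [mul_smul, ← e]
    simpa using hj'
  have hpos : ∀ i, b.IsPos i → b.IsPos ((g⁻¹ * g2) • i) := by
    intro i hi
    refine hi.induction_on_add (p := fun i => b.IsPos ((g⁻¹ * g2) • i))
      (fun j hj => RootPairing.Base.isPos_of_mem_support (hstab j hj)) ?_
    intro i j k hk hi hj
    refine hi.add (RootPairing.Base.isPos_of_mem_support (hstab j hj)) ?_
    rw [Groth.Agent.S2953.root_smul_index, Groth.Agent.S2953.root_smul_index,
      Groth.Agent.S2953.root_smul_index, hk, smul_add]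
  have hone := Groth.Agent.S2953.result P b (g⁻¹ * g2) (mul_mem (inv_mem hg) hg2) hpos
  rw [inv_mul_eq_one] at hone
  exact Subtype.ext hone.symm

end Groth.Agent.S2954
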