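import Groth.Statements.S2955
-- import your own Groth.Agent.* helpers here

set_option autoImplicit false
open RootPairing
open scoped Pointwise Classical
universe u
open RootD

namespace Groth.Agent.S2955

/-- Let P be a finite crystallographic reduced root pairing over a domain of characteristic zero, with a
base b, and write 2ρ for the sum of the positive roots with respect to b. Then for every simple root
β (an index in the support of b) the reflection in β sends 2ρ to 2ρ − 2β (equivalently, the coroot
of β pairs to 1 with ρ; only the reflection identity is asserted). -/
theorem result {ι R M N : Type*} [CommRing R] [CharZero R] [IsDomain R] [AddCommGroup M] [Module R M]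
    [AddCommGroup N] [Module R N] (P : RootPairing ι R M N) [Finite ι] [P.IsCrystallographic] [P.IsReduced]
    [Fintype ι] (b : P.Base) (j : ι) (hj : j ∈ b.support) :
    P.reflection j (∑ i, if b.IsPos i then P.root i else 0) =
      (∑ i, if b.IsPos i then P.root i else 0) - (2 : R) • P.root j := by
  classical
  have hneg : ¬ b.IsPos (P.reflectionPerm j j) := by
    have := RootPairing.Base.IsPos.neg_iff_not b j
    exact fun h => (this.mp h) (RootPairing.Base.isPos_of_mem_support hj)
  -- rewrite sums as filtered sums
  have hsum : (∑ i, if b.IsPos i then P.root i else 0) =
      ∑ i ∈ Finset.univ.filter (fun i => b.IsPos i), P.root i := by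
    rw [Finset.sum_filter]
  rw [hsum, map_sum]
  have hjmem : j ∈ Finset.univ.filter (fun i => b.IsPos i) := by
    simp [RootPairing.Base.isPos_of_mem_support hj]
  rw [← Finset.add_sum_erase _ _ hjmem, ← Finset.add_sum_erase (f := fun i => P.root i) _ hjmem]
  have hperm : ∑ i ∈ (Finset.univ.filter (fun i => b.IsPos i)).erase j, P.reflection j (P.root i) =
      ∑ i ∈ (Finset.univ.filter (fun i => b.IsPos i)).erase j, P.root i := by
    refine Finset.sum_bij' (fun i _ => P.reflectionPerm j i) (fun i _ => P.reflectionPerm j i)
      ?_ ?_ ?_ ?_ ?_
    · intro i hi
      simp only [Finset.mem_erase, Finset.mem_filter, Finset.mem_univ, true_and] at hi ⊢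
      refine ⟨?_, hi.2.reflectionPerm hj hi.1⟩
      intro h
      have : i = P.reflectionPerm j j := by
        have h2 := P.reflectionPerm_self j i
        rw [h] at h2; exact h2.symm
      exact hneg (this ▸ hi.2)
    · intro i hi
      simp only [Finset.mem_erase, Finset.mem_filter, Finset.mem_univ, true_and] at hi ⊢
      refine ⟨?_, hi.2.reflectionPerm hj hi.1⟩
      intro h
      have : i = P.reflectionPerm j j := by
        have h2 := P.reflectionPerm_self j i
        rw [h] at h2; exact h2.symm
      exact hneg (this ▸ hi.2)
    · intro i _; simp
    · intro i _; simp
    · intro i _; simp [P.root_reflectionPerm]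
  rw [hperm]
  simp only [reflection_apply_self]
  module

end Groth.Agent.S2955
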