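import Groth.Statements.S2957
import Mathlib

set_option autoImplicit false
open RootPairing
open scoped Pointwise
universe u
open RootD

namespace Groth.Agent.S2957

noncomputable section

section Tits

variable {ι R M N : Type*} [CommRing R] [AddCommGroup M] [Module R M]
    [AddCommGroup N] [Module R N] (P : RootPairing ι R M N)

/-- product of reflections along a word -/
def wd (l : List ι) : P.Aut := (l.map (Equiv.reflection P)).prod

theorem wd_nil : wd P [] = 1 := by simp [wd]

theorem wd_cons (x : ι) (l : List ι) : wd P (x :: l) = Equiv.reflection P x * wd P l := by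
  simp [wd]

theorem wd_append (l₁ l₂ : List ι) : wd P (l₁ ++ l₂) = wd P l₁ * wd P l₂ := by
  simp [wd]

theorem wd_singleton (x : ι) : wd P [x] = Equiv.reflection P x := by
  simp [wd]

theorem s_mul_self (i : ι) : Equiv.reflection P i * Equiv.reflection P i = 1 :=
  mul_eq_one_iff_inv_eq.mpr (Equiv.reflection_inv P i)

theorem root_smul (w : P.Aut) (i : ι) : P.root (w • i) = w • P.root i :=
  Equiv.root_indexEquiv_eq_smul P i w

theorem refl_smul_idx (j i : ι) : Equiv.reflection P j • i = P.reflectionPerm j i := rfl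

theorem root_refl_smul (j i : ι) :
    P.root (Equiv.reflection P j • i) = P.reflection j (P.root i) := by
  rw [refl_smul_idx, root_reflectionPerm]

theorem refl_conj (j i : ι) :
    Equiv.reflection P (P.reflectionPerm j i) =
      Equiv.reflection P j * Equiv.reflection P i * Equiv.reflection P j := by
  apply Equiv.weightHom_injective P
  rw [map_mul, map_mul]
  simp only [Equiv.weightHom_apply, Equiv.reflection_weightEquiv]
  exact P.reflection_reflectionPerm

theorem smul_neg_idx (w : P.Aut) (i : ι) :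
    w • (P.reflectionPerm i i) = P.reflectionPerm (w • i) (w • i) := by
  apply P.root.injective
  rw [root_smul, root_reflectionPerm, root_reflectionPerm, reflection_apply_self,
    reflection_apply_self, root_smul, smul_neg]

theorem wd_mem_weyl (l : List ι) : wd P l ∈ P.weylGroup := by
  apply Subgroup.list_prod_mem
  intro x hx
  obtain ⟨i, -, rfl⟩ := List.mem_map.mp hx
  exact P.reflection_mem_weylGroup i

theorem wd_mem_closure (α γ : ι) (l : List ι) (hl : ∀ x ∈ l, x = α ∨ x = γ) :
    wd P l ∈ Subgroup.closure ({Equiv.reflection P α, Equiv.reflection P γ} : Set P.Aut) := by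
  apply Subgroup.list_prod_mem
  intro x hx
  obtain ⟨i, hi, rfl⟩ := List.mem_map.mp hx
  apply Subgroup.subset_closure
  rcases hl i hi with h | h
  · rw [h]; exact Set.mem_insert _ _
  · rw [h]; exact Set.mem_insert_of_mem _ (Set.mem_singleton _)

theorem conj_word (l : List ι) (γ : ι) :
    Equiv.reflection P (wd P l • γ) = wd P l * Equiv.reflection P γ * (wd P l)⁻¹ := by
  induction l with
  | nil => simp [wd_nil]
  | cons δ l ih =>
    rw [wd_cons, mul_smul, refl_smul_idx, refl_conj, ih, mul_inv_rev, Equiv.reflection_inv]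
    simp only [mul_assoc]

theorem deletion (l₁ l₂ : List ι) (δ γ : ι) (h : wd P l₂ • γ = δ) :
    wd P (l₁ ++ δ :: l₂) * Equiv.reflection P γ = wd P (l₁ ++ l₂) := by
  have hδ : Equiv.reflection P δ = wd P l₂ * Equiv.reflection P γ * (wd P l₂)⁻¹ := by
    rw [← h]; exact conj_word P l₂ γ
  rw [wd_append P l₁ (δ :: l₂), wd_cons, wd_append P l₁ l₂, hδ]
  calc wd P l₁ * (wd P l₂ * Equiv.reflection P γ * (wd P l₂)⁻¹ * wd P l₂) * Equiv.reflection P γ
      = wd P l₁ * wd P l₂ * (Equiv.reflection P γ * Equiv.reflection P γ) := by group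
    _ = wd P l₁ * wd P l₂ := by rw [s_mul_self, mul_one]

theorem span_word (α γ : ι) [P.IsCrystallographic] (l : List ι) (hl : ∀ x ∈ l, x = α ∨ x = γ) (i : ι)
    (hQ : ∃ a c : ℤ, P.root i = a • P.root α + c • P.root γ) :
    ∃ a c : ℤ, P.root (wd P l • i) = a • P.root α + c • P.root γ := by
  induction l with
  | nil => rw [wd_nil, one_smul]; exact hQ
  | cons δ l ih =>
    obtain ⟨a, c, hac⟩ := ih (fun x hx => hl x (List.mem_cons_of_mem _ hx))
    rw [wd_cons, mul_smul, root_refl_smul, hac, map_add, map_zsmul, map_zsmul,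
      RootPairing.reflection_apply_root' (P := P) (i := δ) (j := α) ℤ,
      RootPairing.reflection_apply_root' (P := P) (i := δ) (j := γ) ℤ]
    rcases hl δ (by simp) with h | h
    · refine ⟨a - (a * P.pairingIn ℤ α δ + c * P.pairingIn ℤ γ δ), c, ?_⟩
      rw [h]; module
    · refine ⟨a, c - (a * P.pairingIn ℤ α δ + c * P.pairingIn ℤ γ δ), ?_⟩
      rw [h]; module

theorem int_aux {a c H1 H2 : ℤ} (ha : 0 ≤ a) (hc : 0 ≤ c) (h1 : 0 < H1) (h2 : 0 < H2)
    (h : 1 = a * H1 + c * H2) : (a = 1 ∧ c = 0) ∨ (a = 0 ∧ c = 1) := by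
  have e1 : 0 ≤ a * (H1 - 1) := mul_nonneg ha (by omega)
  have e2 : 0 ≤ c * (H2 - 1) := mul_nonneg hc (by omega)
  have e3 : a + c ≤ 1 := by nlinarith
  have e4 : a = 0 ∨ a = 1 := by omega
  rcases e4 with rfl | rfl
  · right
    refine ⟨rfl, ?_⟩
    have : c = 0 ∨ c = 1 := by omega
    rcases this with rfl | rfl
    · simp at h
    · rfl
  · left
    exact ⟨rfl, by omega⟩

variable {P} [CharZero R] (b : P.Base)

theorem pos_neg_idx (i : ι) : b.IsPos (P.reflectionPerm i i) ↔ ¬ b.IsPos i :=
  Base.IsPos.neg_iff_not b i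

/-- inversion set -/
abbrev Sinv (w : P.Aut) : Set ι := {i | b.IsPos i ∧ ¬ b.IsPos (w • i)}

/-- number of inversions -/
def Ninv (w : P.Aut) : ℕ := (Sinv b w).ncard

/-- words in simple reflections -/
abbrev IsWord (w : P.Aut) : Prop := ∃ l : List ι, (∀ x ∈ l, x ∈ b.support) ∧ w = wd P l

theorem isWord_mul {w₁ w₂ : P.Aut} (h₁ : IsWord b w₁) (h₂ : IsWord b w₂) : IsWord b (w₁ * w₂) := by
  obtain ⟨l₁, hl₁, rfl⟩ := h₁
  obtain ⟨l₂, hl₂, rfl⟩ := h₂
  refine ⟨l₁ ++ l₂, ?_, (wd_append P l₁ l₂).symm⟩
  intro x hx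
  rcases List.mem_append.mp hx with h | h
  · exact hl₁ x h
  · exact hl₂ x h

theorem isWord_simple {γ : ι} (hγ : γ ∈ b.support) : IsWord b (Equiv.reflection P γ) :=
  ⟨[γ], by simpa using hγ, (wd_singleton P γ).symm⟩

theorem isWord_one : IsWord b (1 : P.Aut) := ⟨[], by simp, (wd_nil P).symm⟩

theorem height_comb {i j k : ι} {a c : ℤ} (hk : P.root k = a • P.root i + c • P.root j) :
    b.height k = a * b.height i + c * b.height j := by
  obtain ⟨f, -, -, hf⟩ := b.exists_root_eq_sum_int i
  obtain ⟨g, -, -, hg⟩ := b.exists_root_eq_sum_int j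
  have hfg : P.root k = ∑ l ∈ b.support, (a • f + c • g) l • P.root l := by
    simp_rw [Pi.add_apply, Pi.smul_apply, add_smul, smul_assoc, Finset.sum_add_distrib,
      ← Finset.smul_sum, ← hf, ← hg, hk]
  rw [Base.height_eq_sum hf, Base.height_eq_sum hg, Base.height_eq_sum hfg]
  simp only [Pi.add_apply, Pi.smul_apply, smul_eq_mul, Finset.sum_add_distrib, Finset.mul_sum]

variable [Finite ι] [IsDomain R] [P.IsCrystallographic] [P.IsReduced]

theorem isWord_refl (i : ι) : IsWord b (Equiv.reflection P i) := by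
  refine Base.induction_reflect (b := b) (p := fun i => IsWord b (Equiv.reflection P i)) i ?_ ?_ ?_
  · intro i hi
    have : Equiv.reflection P (P.reflectionPerm i i) = Equiv.reflection P i := by
      rw [refl_conj, s_mul_self, one_mul]
    show IsWord b (Equiv.reflection P (P.reflectionPerm i i))
    rw [this]; exact hi
  · intro i hi; exact isWord_simple b hi
  · intro i j hi hj
    show IsWord b (Equiv.reflection P (P.reflectionPerm j i))
    rw [refl_conj]
    exact isWord_mul b (isWord_mul b (isWord_simple b hj) hi) (isWord_simple b hj)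

theorem isWord_of_mem {w : P.Aut} (hw : w ∈ P.weylGroup) : IsWord b w := by
  induction hw using weylGroup.induction with
  | mem i => exact isWord_refl b i
  | one => exact isWord_one b
  | mul x y hx hy h₁ h₂ => exact isWord_mul b h₁ h₂

theorem Ninv_lt (w : P.Aut) (γ : ι) (hγ : γ ∈ b.support) (hneg : ¬ b.IsPos (w • γ)) :
    Ninv b (w * Equiv.reflection P γ) < Ninv b w := by
  have hγS : γ ∈ Sinv b w := ⟨Base.isPos_of_mem_support hγ, hneg⟩
  have hsub : (fun i : ι => Equiv.reflection P γ • i) '' Sinv b (w * Equiv.reflection P γ)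
      ⊆ Sinv b w \ {γ} := by
    rintro _ ⟨i, ⟨hi1, hi2⟩, rfl⟩
    have hne : i ≠ γ := by
      intro hiγ
      apply hi2
      rw [hiγ, mul_smul, refl_smul_idx, smul_neg_idx, pos_neg_idx]
      exact hneg
    have hpos : b.IsPos (Equiv.reflection P γ • i) := Base.IsPos.reflectionPerm hi1 hγ hne
    refine ⟨⟨hpos, ?_⟩, ?_⟩
    · show ¬ b.IsPos (w • (Equiv.reflection P γ • i))
      rw [← mul_smul]; exact hi2
    · intro h
      have h' : P.reflectionPerm γ i = γ := h
      have h2 : P.reflectionPerm γ (P.reflectionPerm γ i) = i := by simp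
      have hi_eq : i = P.reflectionPerm γ γ := by
        rw [← h2]; exact congrArg _ h'
      rw [hi_eq, pos_neg_idx] at hi1
      exact hi1 (Base.isPos_of_mem_support hγ)
  calc Ninv b (w * Equiv.reflection P γ)
      = ((fun i : ι => Equiv.reflection P γ • i) '' Sinv b (w * Equiv.reflection P γ)).ncard :=
        (Set.ncard_image_of_injective _ (MulAction.injective _)).symm
    _ ≤ (Sinv b w \ {γ}).ncard := Set.ncard_le_ncard hsub (Set.toFinite _)
    _ < (Sinv b w).ncard := Set.ncard_sdiff_singleton_lt_of_mem hγS (Set.toFinite _)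

theorem switch (l : List ι) (hl : ∀ x ∈ l, x ∈ b.support) (κ : ι) (hκ : κ ∈ b.support)
    (hneg : ¬ b.IsPos (wd P l • κ)) :
    ∃ l₁ δ l₂, l = l₁ ++ δ :: l₂ ∧ wd P l₂ • κ = δ := by
  induction l with
  | nil =>
    exfalso; apply hneg
    rw [wd_nil, one_smul]
    exact Base.isPos_of_mem_support hκ
  | cons δ l ih =>
    by_cases h : b.IsPos (wd P l • κ)
    · refine ⟨[], δ, l, rfl, ?_⟩
      by_contra hne
      apply hneg
      rw [wd_cons, mul_smul]
      exact Base.IsPos.reflectionPerm h (hl δ (by simp)) hne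
    · obtain ⟨l₁, δ', l₂, rfl, h2⟩ := ih (fun x hx => hl x (List.mem_cons_of_mem _ hx)) h
      exact ⟨δ :: l₁, δ', l₂, rfl, h2⟩

theorem word_eq_one : ∀ (n : ℕ) (l : List ι), l.length = n → (∀ x ∈ l, x ∈ b.support) →
    (∀ δ ∈ b.support, b.IsPos (wd P l • δ)) → wd P l = 1 := by
  intro n
  induction n using Nat.strong_induction_on with
  | _ n ih =>
    intro l hlen hl hpos
    rcases List.eq_nil_or_concat l with rfl | ⟨l', γ, rfl⟩
    · exact wd_nil P
    · rw [List.concat_eq_append] at hlen hl hpos ⊢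
      have hγ : γ ∈ b.support := hl γ (by simp)
      have hl' : ∀ x ∈ l', x ∈ b.support := fun x hx => hl x (by simp [hx])
      have hneg : ¬ b.IsPos (wd P l' • γ) := by
        have h1 := hpos γ hγ
        rw [wd_append, wd_singleton, mul_smul, refl_smul_idx, smul_neg_idx, pos_neg_idx] at h1
        exact h1
      obtain ⟨l₁, δ, l₂, rfl, h2⟩ := switch b l' hl' γ hγ hneg
      have hdel : wd P (l₁ ++ δ :: l₂ ++ [γ]) = wd P (l₁ ++ l₂) := by
        rw [wd_append P (l₁ ++ δ :: l₂) [γ], wd_singleton]
        exact deletion P l₁ l₂ δ γ h2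
      rw [hdel]
      refine ih (l₁ ++ l₂).length ?_ (l₁ ++ l₂) rfl ?_ ?_
      · simp only [List.length_append, List.length_cons, List.length_nil] at hlen ⊢
        omega
      · intro x hx
        apply hl'
        rcases List.mem_append.mp hx with h | h
        · exact List.mem_append_left _ h
        · exact List.mem_append_right _ (List.mem_cons_of_mem _ h)
      · intro δ' hδ'
        rw [← hdel]; exact hpos δ' hδ'

theorem reduce (α γ : ι) (hα : α ∈ b.support) (hγ : γ ∈ b.support) :
    ∀ (n : ℕ) (w : P.Aut), Ninv b w = n → IsWord b w →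
      ∃ (w' : P.Aut) (l : List ι), IsWord b w' ∧ (∀ x ∈ l, x = α ∨ x = γ) ∧ w = w' * wd P l ∧
        b.IsPos (w' • α) ∧ b.IsPos (w' • γ) ∧ Ninv b w' ≤ Ninv b w ∧
        (¬ (b.IsPos (w • α) ∧ b.IsPos (w • γ)) → Ninv b w' < Ninv b w) := by
  intro n
  induction n using Nat.strong_induction_on with
  | _ n ih =>
    intro w hn hw
    by_cases hboth : b.IsPos (w • α) ∧ b.IsPos (w • γ)
    · exact ⟨w, [], hw, by simp, by rw [wd_nil, mul_one], hboth.1, hboth.2, le_rfl,
        fun h => absurd hboth h⟩
    · have hex : ∃ δ, (δ = α ∨ δ = γ) ∧ δ ∈ b.support ∧ ¬ b.IsPos (w • δ) := by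
        by_cases h1 : b.IsPos (w • α)
        · exact ⟨γ, Or.inr rfl, hγ, fun h2 => hboth ⟨h1, h2⟩⟩
        · exact ⟨α, Or.inl rfl, hα, h1⟩
      obtain ⟨δ, hδ, hδs, hδneg⟩ := hex
      have hlt := Ninv_lt b w δ hδs hδneg
      obtain ⟨w', l, hw', hl, heq, hp1, hp2, hle, -⟩ :=
        ih (Ninv b (w * Equiv.reflection P δ)) (by omega) (w * Equiv.reflection P δ) rfl
          (isWord_mul b hw (isWord_simple b hδs))
      refine ⟨w', l ++ [δ], hw', ?_, ?_, hp1, hp2, by omega, fun _ => by omega⟩
      · intro x hx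
        rcases List.mem_append.mp hx with h | h
        · exact hl x h
        · rw [List.mem_singleton] at h; rw [h]; exact hδ
      · rw [wd_append, wd_singleton, ← mul_assoc, ← heq, mul_assoc, s_mul_self, mul_one]

theorem kappa_cases (α γ β : ι) (hα : α ∈ b.support) (hγ : γ ∈ b.support) (hβ : β ∈ b.support)
    (hαγ : α ≠ γ) (l : List ι) (hl : ∀ x ∈ l, x = α ∨ x = γ) (w' : P.Aut)
    (hp1 : b.IsPos (w' • α)) (hp2 : b.IsPos (w' • γ)) (hβeq : w' • (wd P l • α) = β) :
    wd P l • α = α ∨ wd P l • α = γ := by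
  classical
  obtain ⟨a, c, hac⟩ := span_word P α γ l hl α ⟨1, 0, by simp⟩
  obtain ⟨κ, hκ⟩ : ∃ κ, κ = wd P l • α := ⟨_, rfl⟩
  rw [← hκ] at hac hβeq ⊢
  obtain ⟨f, hf⟩ : ∃ f : ι → ℤ, f = fun j => if j = α then a else if j = γ then c else 0 :=
    ⟨_, rfl⟩
  have hfα : f α = a := by rw [hf]; simp
  have hfγ : f γ = c := by rw [hf]; simp [hαγ.symm]
  have hfsum : ∑ j ∈ b.support, f j • P.root j = a • P.root α + c • P.root γ := by
    have hsub : ({α, γ} : Finset ι) ⊆ b.support := by
      intro x hx
      rcases Finset.mem_insert.mp hx with h | h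
      · rw [h]; exact hα
      · rw [Finset.mem_singleton.mp h]; exact hγ
    have h0 : ∀ x ∈ b.support, x ∉ ({α, γ} : Finset ι) → f x • P.root x = 0 := by
      intro x _ hx
      have h1 : x ≠ α := fun h => hx (by simp [h])
      have h2 : x ≠ γ := fun h => hx (by simp [h])
      rw [hf]; simp [h1, h2]
    rw [← Finset.sum_subset hsub h0, Finset.sum_insert (by simpa using hαγ), Finset.sum_singleton,
      hfα, hfγ]
  have hf₀ : f.support ⊆ b.support := by
    intro x hx
    by_contra hxs
    have h1 : x ≠ α := fun h => hxs (by rw [h]; exact Finset.mem_coe.mpr hα)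
    have h2 : x ≠ γ := fun h => hxs (by rw [h]; exact Finset.mem_coe.mpr hγ)
    apply Function.mem_support.mp hx
    rw [hf]; simp [h1, h2]
  have hmem : ∑ j ∈ b.support, f j • P.root j ∈ Set.range P.root := by
    rw [hfsum, ← hac]; exact Set.mem_range_self _
  have hrootβ : P.root β = a • P.root (w' • α) + c • P.root (w' • γ) := by
    calc P.root β = w' • P.root κ := by rw [← hβeq, root_smul]
      _ = a • (w' • P.root α) + c • (w' • P.root γ) := by
          rw [hac, smul_add, smul_comm w' a, smul_comm w' c]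
      _ = a • P.root (w' • α) + c • P.root (w' • γ) := by rw [root_smul, root_smul]
  have hht := height_comb b hrootβ
  rw [Base.height_one_of_mem_support hβ] at hht
  have h1 : 0 < b.height (w' • α) := hp1
  have h2 : 0 < b.height (w' • γ) := hp2
  obtain ⟨H1, hH1⟩ : ∃ H, H = b.height (w' • α) := ⟨_, rfl⟩
  obtain ⟨H2, hH2⟩ : ∃ H, H = b.height (w' • γ) := ⟨_, rfl⟩
  rw [← hH1] at hht h1
  rw [← hH2] at hht h2
  have hcases : (a = 1 ∧ c = 0) ∨ (a = 0 ∧ c = 1) := by
    rcases b.pos_or_neg_of_sum_smul_root_mem f hmem hf₀ with pos | neg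
    · have ha : 0 ≤ a := by
        have := (le_of_lt pos) α
        rw [hfα] at this; exact this
      have hc : 0 ≤ c := by
        have := (le_of_lt pos) γ
        rw [hfγ] at this; exact this
      exact int_aux ha hc h1 h2 hht
    · have ha : a ≤ 0 := by
        have := (le_of_lt neg) α
        rw [hfα] at this; exact this
      have hc : c ≤ 0 := by
        have := (le_of_lt neg) γ
        rw [hfγ] at this; exact this
      exfalso
      nlinarith [mul_nonneg (neg_nonneg.2 ha) h1.le, mul_nonneg (neg_nonneg.2 hc) h2.le]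
  rcases hcases with ⟨ha, hc⟩ | ⟨ha, hc⟩
  · left; apply P.root.injective; rw [hac, ha, hc]; simp
  · right; apply P.root.injective; rw [hac, ha, hc]; simp

/-- the conclusion of the theorem -/
abbrev Chain (α β : ι) (w : P.Aut) : Prop :=
  ∃ (m : ℕ) (a : Fin (m + 1) → ι) (ws : Fin m → P.Aut),
      (∀ i, a i ∈ b.support) ∧ a 0 = α ∧ a (Fin.last m) = β ∧
      (∀ i, ws i ∈ P.weylGroup) ∧
      w = (List.ofFn fun i : Fin m => ws (Fin.rev i)).prod ∧
      (∀ i : Fin m, ws i • a (Fin.castSucc i) = a (Fin.succ i)) ∧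
      ∀ i : Fin m, ∃ γ ∈ b.support,
        ws i ∈ Subgroup.closure {Equiv.reflection P (a (Fin.castSucc i)), Equiv.reflection P γ} ∧
        (a (Fin.castSucc i) ≠ a (Fin.succ i) → γ = a (Fin.succ i))

theorem chain_nil (α : ι) (hα : α ∈ b.support) : Chain b α α (1 : P.Aut) := by
  refine ⟨0, fun _ => α, fun i => i.elim0, fun _ => hα, rfl, rfl, fun i => i.elim0, ?_,
    fun i => i.elim0, fun i => i.elim0⟩
  simp

theorem chain_cons (α κ β γ : ι) (u w' : P.Aut) (hα : α ∈ b.support) (hγ : γ ∈ b.support)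
    (hu : u ∈ Subgroup.closure ({Equiv.reflection P α, Equiv.reflection P γ} : Set P.Aut))
    (huW : u ∈ P.weylGroup) (huα : u • α = κ) (hκ : α ≠ κ → γ = κ)
    (hch : Chain b κ β w') : Chain b α β (w' * u) := by
  obtain ⟨m, a, ws, ha, ha0, hal, hws, hprod, hstep, hgen⟩ := hch
  refine ⟨m + 1, (Fin.cons α a : Fin (m + 1 + 1) → ι), (Fin.cons u ws : Fin (m + 1) → P.Aut),
    ?_, ?_, ?_, ?_, ?_, ?_, ?_⟩
  · intro i
    induction i using Fin.cases with
    | zero => rw [Fin.cons_zero]; exact hα
    | succ j => rw [Fin.cons_succ]; exact ha j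
  · exact Fin.cons_zero _ _
  · have : Fin.last (m + 1) = (Fin.last m).succ := (Fin.succ_last m).symm
    rw [this, Fin.cons_succ]; exact hal
  · intro i
    induction i using Fin.cases with
    | zero => rw [Fin.cons_zero]; exact huW
    | succ j => rw [Fin.cons_succ]; exact hws j
  · simp only [List.ofFn_succ', List.concat_eq_append, List.prod_append, List.prod_singleton,
      Fin.rev_last, Fin.cons_zero, Fin.rev_castSucc, Fin.cons_succ]
    rw [← hprod]
  · intro i
    induction i using Fin.cases with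
    | zero =>
      simp only [Fin.cons_zero, Fin.castSucc_zero, Fin.cons_succ]
      rw [ha0]; exact huα
    | succ j =>
      simp only [Fin.cons_succ, ← Fin.succ_castSucc]
      exact hstep j
  · intro i
    induction i using Fin.cases with
    | zero =>
      refine ⟨γ, hγ, ?_, ?_⟩
      · simp only [Fin.cons_zero, Fin.castSucc_zero]; exact hu
      · simp only [Fin.cons_zero, Fin.castSucc_zero, Fin.cons_succ, ha0]; exact hκ
    | succ j =>
      obtain ⟨γ', hγ', h1, h2⟩ := hgen j
      refine ⟨γ', hγ', ?_, ?_⟩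
      · simp only [Fin.cons_succ, ← Fin.succ_castSucc]; exact h1
      · simp only [Fin.cons_succ, ← Fin.succ_castSucc]; exact h2

theorem main_aux : ∀ (n : ℕ) (w : P.Aut), Ninv b w = n → IsWord b w →
    ∀ α β, α ∈ b.support → β ∈ b.support → w • α = β → Chain b α β w := by
  intro n
  induction n using Nat.strong_induction_on with
  | _ n ih =>
    intro w hn hw α β hα hβ hwα
    by_cases hA : ∀ δ ∈ b.support, b.IsPos (w • δ)
    · obtain ⟨l, hl, rfl⟩ := hw
      have h1 : wd P l = 1 := word_eq_one b l.length l rfl hl hA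
      rw [h1] at hwα ⊢
      rw [one_smul] at hwα
      rw [← hwα]
      exact chain_nil b α hα
    · push Not at hA
      obtain ⟨γ, hγ, hγneg⟩ := hA
      have hαγ : α ≠ γ := by
        intro h
        apply hγneg
        rw [← h, hwα]
        exact Base.isPos_of_mem_support hβ
      obtain ⟨w', l, hw', hl, heq, hp1, hp2, -, hlt⟩ :=
        reduce b α γ hα hγ (Ninv b w) w rfl hw
      have hlt' : Ninv b w' < Ninv b w := hlt (fun h => hγneg h.2)
      have hβeq : w' • (wd P l • α) = β := by rw [← mul_smul, ← heq]; exact hwα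
      have hκ := kappa_cases b α γ β hα hγ hβ hαγ l hl w' hp1 hp2 hβeq
      have hκs : wd P l • α ∈ b.support := by
        rcases hκ with h | h
        · rw [h]; exact hα
        · rw [h]; exact hγ
      have hch := ih (Ninv b w') (by omega) w' rfl hw' (wd P l • α) β hκs hβ hβeq
      rw [heq]
      exact chain_cons b α (wd P l • α) β γ (wd P l) w' hα hγ (wd_mem_closure P α γ l hl)
        (wd_mem_weyl P l) rfl
        (fun hne => by
          rcases hκ with h | h
          · exact absurd h.symm hne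
          · exact h.symm) hch

end Tits

end



/-- For a finite crystallographic reduced root pairing with a base b: let α, β be simple roots and w an
element of the Weyl group with w(α) = β. Then there are simple roots α = α_0, ..., α_m = β and Weyl
group elements w_0, ..., w_{m-1} with w = w_{m-1} ... w_0, w_i(α_i) = α_{i+1}, and each w_i lying in
the subgroup generated by the reflections in α_i and in a simple root γ_i, where γ_i = α_{i+1}
whenever α_i ≠ α_{i+1}. -/
theorem result {ι R M N : Type*} [CommRing R] [CharZero R] [IsDomain R] [AddCommGroup M] [Module R M]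
    [AddCommGroup N] [Module R N] (P : RootPairing ι R M N) [Finite ι] [P.IsCrystallographic] [P.IsReduced]
    (b : P.Base) (α β : ι) (hα : α ∈ b.support) (hβ : β ∈ b.support) (w : P.Aut) (hw : w ∈ P.weylGroup)
    (hwα : w • α = β) :
    ∃ (m : ℕ) (a : Fin (m + 1) → ι) (ws : Fin m → P.Aut),
      (∀ i, a i ∈ b.support) ∧ a 0 = α ∧ a (Fin.last m) = β ∧
      (∀ i, ws i ∈ P.weylGroup) ∧
      w = (List.ofFn fun i : Fin m => ws (Fin.rev i)).prod ∧
      (∀ i : Fin m, ws i • a (Fin.castSucc i) = a (Fin.succ i)) ∧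
      ∀ i : Fin m, ∃ γ ∈ b.support,
        ws i ∈ Subgroup.closure {Equiv.reflection P (a (Fin.castSucc i)), Equiv.reflection P γ} ∧
        (a (Fin.castSucc i) ≠ a (Fin.succ i) → γ = a (Fin.succ i)) := by
  exact main_aux b (Ninv b w) w rfl (isWord_of_mem b hw) α β hα hβ hwα


end Groth.Agent.S2957
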