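import Groth.Statements.S2956
import Mathlib
import Groth.Agent.S2957

set_option autoImplicit false
open RootPairing
open scoped Pointwise
universe u
open RootD

namespace Groth.Agent.S2956


noncomputable section

open Groth.Agent.S2957

section Ev

variable {J H : Type*} [Group H] (t : J → H)

/-- evaluate a word -/
def ev (ω : List J) : H := (ω.map t).prod

theorem ev_nil : ev t [] = 1 := by simp [ev]

theorem ev_cons (a : J) (ω : List J) : ev t (a :: ω) = t a * ev t ω := by simp [ev]

theorem ev_append (u v : List J) : ev t (u ++ v) = ev t u * ev t v := by simp [ev]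

theorem ev_singleton (a : J) : ev t [a] = t a := by simp [ev]

theorem inv_of_sq (ht : ∀ j, t j * t j = 1) (j : J) : (t j)⁻¹ = t j :=
  inv_eq_of_mul_eq_one_right (ht j)

theorem ev_reverse (ht : ∀ j, t j * t j = 1) (ω : List J) : ev t ω.reverse = (ev t ω)⁻¹ := by
  induction ω with
  | nil => simp [ev_nil]
  | cons a ω ih =>
    rw [List.reverse_cons, ev_append, ev_singleton, ih, ev_cons, mul_inv_rev, inv_of_sq t ht a]

theorem ev_rotate (a : J) (ω : List J) : ev t (ω ++ [a]) = (t a)⁻¹ * ev t (a :: ω) * t a := by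
  rw [ev_append, ev_singleton, ev_cons]; group

theorem ev_rot_one (a : J) (ω : List J) (h : ev t (a :: ω) = 1) : ev t (ω ++ [a]) = 1 := by
  rw [ev_rotate, h]; group

theorem ev_rot_one' (a : J) (ω : List J) (h : ev t (ω ++ [a]) = 1) : ev t (a :: ω) = 1 := by
  have h' := ev_rotate t a ω
  rw [h] at h'
  calc ev t (a :: ω) = t a * ((t a)⁻¹ * ev t (a :: ω) * t a) * (t a)⁻¹ := by group
    _ = 1 := by rw [← h']; group

theorem grp1 {x y g : H} (hx : x * x = 1) (hy : y * y = 1) :
    x * (x * g * y) * (y * g⁻¹) = 1 := by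
  calc x * (x * g * y) * (y * g⁻¹) = (x * x) * g * (y * y) * g⁻¹ := by group
    _ = 1 := by rw [hx, hy]; group

theorem grp2 {x y g k : H} (hx : x * x = 1) (h : x * k * (y * g⁻¹) = 1) : k * y = x * g := by
  calc k * y = (x * x) * (k * y) := by rw [hx, one_mul]
    _ = x * (x * k * (y * g⁻¹)) * g := by group
    _ = x * g := by rw [h, mul_one]

theorem grp3 {y k g : H} (hy : y * y = 1) (h : k = g * y) : k * y = g := by
  rw [h, mul_assoc, hy, mul_one]

theorem grp4 {a b' hh y zz : H} (h : b' * hh * y = hh) :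
    a * (b' * (hh * (y * zz))) = a * (hh * zz) := by
  calc a * (b' * (hh * (y * zz))) = a * ((b' * hh * y) * zz) := by group
    _ = a * (hh * zz) := by rw [h]

theorem grp5 {x y p l r zz : H} (hy : y * y = 1) (h : x * l = l * y) :
    p * (x * (l * (y * r))) * zz = p * (l * (r * zz)) := by
  calc p * (x * (l * (y * r))) * zz = p * ((x * l) * y * r) * zz := by group
    _ = p * ((l * y) * y * r) * zz := by rw [h]
    _ = p * (l * (y * y) * r) * zz := by group
    _ = p * (l * (r * zz)) := by rw [hy]; group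

theorem ev_reduce (ht : ∀ j, t j * t j = 1) (l₁ l₂ rest z : List J) (δ κ : J)
    (hE : ev t (δ :: l₂) = ev t (l₂ ++ [κ])) :
    ev t (l₁ ++ δ :: (l₂ ++ κ :: rest) ++ z) = ev t (l₁ ++ (l₂ ++ (rest ++ z))) := by
  rw [ev_cons, ev_append, ev_singleton] at hE
  simp only [ev_append, ev_cons]
  exact grp5 (ht κ) hE

theorem ev_reduce2 (a₁ a₂ z₁ : J) (h z'' : List J)
    (hyp : t a₂ * ev t h * t z₁ = ev t h) :
    ev t (a₁ :: a₂ :: (h ++ z₁ :: z'')) = ev t (a₁ :: (h ++ z'')) := by
  simp only [ev_append, ev_cons]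
  exact grp4 hyp

theorem ev_periodic : ∀ (q : ℕ) (ω : List J) (a c : J), ω.length = 2 * q + 2 →
    ω[0]? = some a → ω[1]? = some c → (∀ i, i + 2 < ω.length → ω[i]? = ω[i+2]?) →
    ev t ω = (t a * t c) ^ (q + 1) := by
  intro q
  induction q with
  | zero =>
    intro ω a c hlen h0 h1 _
    rcases ω with _ | ⟨x, _ | ⟨y, _ | ⟨w, rest⟩⟩⟩
    · simp at hlen
    · simp at hlen
    · simp at h0 h1
      subst h0 h1
      simp [ev_cons, ev_nil]
    · simp at hlen
  | succ q ih =>
    intro ω a c hlen h0 h1 hper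
    rcases ω with _ | ⟨x, _ | ⟨y, ω₂⟩⟩
    · simp at hlen
    · simp at hlen
    have hx : x = a := by simpa using h0
    have hy : y = c := by simpa using h1
    subst hx hy
    have hlen₂ : ω₂.length = 2 * q + 2 := by simp at hlen; omega
    have e0 : ω₂[0]? = some x := by
      have := hper 0 (by simp only [List.length_cons]; omega)
      simpa using this.symm
    have e1 : ω₂[1]? = some y := by
      have := hper 1 (by simp only [List.length_cons]; omega)
      simpa using this.symm
    have hper₂ : ∀ i, i + 2 < ω₂.length → ω₂[i]? = ω₂[i+2]? := by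
      intro i hi
      have := hper (i + 2) (by simp only [List.length_cons]; omega)
      simpa using this
    rw [ev_cons, ev_cons, ih ω₂ x y hlen₂ e0 e1 hper₂, ← mul_assoc, ← pow_succ']

end Ev

/-- length arithmetic on explicit lists -/
macro "lsimp" : tactic =>
  `(tactic| first
    | omega
    | (simp only [List.length_append, List.length_cons, List.length_nil, List.length_reverse,
        List.length_singleton] at * <;> omega))

section Root

variable {ι R M N : Type*} [CommRing R] [AddCommGroup M] [Module R M]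
    [AddCommGroup N] [Module R N] {P : RootPairing ι R M N} [CharZero R] (b : P.Base)

/-- simple reflection -/
def sW (j : b.support) : P.Aut := Equiv.reflection P (j : ι)

theorem sW_sq (j : b.support) : sW b j * sW b j = 1 := s_mul_self P j

theorem sW_inv (j : b.support) : (sW b j)⁻¹ = sW b j := Equiv.reflection_inv P j

theorem ev_sW_eq_wd (ω : List b.support) : ev (sW b) ω = wd P (ω.map Subtype.val) := by
  induction ω with
  | nil => rw [ev_nil, List.map_nil, wd_nil]
  | cons a ω ih =>
    rw [ev_cons, List.map_cons, wd_cons, ih]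
    rfl

theorem conj_ev (l : List b.support) (γ : ι) :
    Equiv.reflection P (ev (sW b) l • γ) =
      ev (sW b) l * Equiv.reflection P γ * (ev (sW b) l)⁻¹ := by
  induction l with
  | nil => simp [ev_nil]
  | cons δ l ih =>
    rw [ev_cons, show sW b δ = Equiv.reflection P (δ : ι) from rfl, mul_smul, refl_smul_idx,
      refl_conj, ih, mul_inv_rev, Equiv.reflection_inv]
    simp only [mul_assoc]

theorem Ninv_one : Ninv b (1 : P.Aut) = 0 := by
  have : Sinv b (1 : P.Aut) = ∅ := by
    ext i
    simp only [Set.mem_ofPred_eq, one_smul, Set.mem_empty_iff_false, iff_false, not_and, not_not]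
    exact fun h => h
  rw [Ninv, this, Set.ncard_empty]

theorem refl_inj {j k : ι} (hj : j ∈ b.support) (hk : k ∈ b.support)
    (h : Equiv.reflection P j = Equiv.reflection P k) : j = k := by
  classical
  by_contra hjk
  have h1 : P.reflectionPerm k j = P.reflectionPerm j j := by
    have := congrArg (fun w : P.Aut => w • j) h
    exact this.symm
  have h2 : P.root j - P.pairing j k • P.root k = - P.root j := by
    have := congrArg P.root h1
    rw [root_reflectionPerm, root_reflectionPerm, reflection_apply_root,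
      reflection_apply_self] at this
    exact this
  have h3 : (2 : R) • P.root j + (- P.pairing j k) • P.root k = 0 := by
    rw [two_smul, neg_smul]
    have e : P.root j + P.root j + -(P.pairing j k • P.root k) =
        (P.root j - P.pairing j k • P.root k) + P.root j := by abel
    rw [e, h2]; simp
  have hli := b.linearIndepOn_root
  rw [linearIndepOn_iff'] at hli
  have hsub : (↑({j, k} : Finset ι) : Set ι) ⊆ (b.support : Set ι) := by
    intro x hx
    simp only [Finset.coe_insert, Finset.coe_singleton, Set.mem_insert_iff,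
      Set.mem_singleton_iff] at hx
    rcases hx with rfl | rfl
    · exact hj
    · exact hk
  have hsum : ∑ x ∈ ({j, k} : Finset ι),
      (fun x => if x = j then (2 : R) else - P.pairing j k) x • P.root x = 0 := by
    rw [Finset.sum_pair hjk]
    show (if j = j then (2 : R) else - P.pairing j k) • P.root j +
      (if k = j then (2 : R) else - P.pairing j k) • P.root k = 0
    rw [if_pos rfl, if_neg (Ne.symm hjk)]
    exact h3
  have := hli {j, k} (fun x => if x = j then (2 : R) else - P.pairing j k) hsub hsum j (by simp)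
  simp at this

variable [Finite ι] [IsDomain R] [P.IsCrystallographic] [P.IsReduced]

theorem Ninv_mul_le (w : P.Aut) (κ : ι) (hκ : κ ∈ b.support) :
    Ninv b (w * Equiv.reflection P κ) ≤ Ninv b w + 1 := by
  have hsub : Sinv b (w * Equiv.reflection P κ) ⊆
      insert κ ((fun i : ι => Equiv.reflection P κ • i) '' Sinv b w) := by
    rintro i ⟨hi1, hi2⟩
    by_cases hiκ : i = κ
    · exact Or.inl hiκ
    · right
      refine ⟨Equiv.reflection P κ • i, ⟨Base.IsPos.reflectionPerm hi1 hκ hiκ, ?_⟩, ?_⟩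
      · rw [← mul_smul]; exact hi2
      · show Equiv.reflection P κ • (Equiv.reflection P κ • i) = i
        rw [← mul_smul, s_mul_self, one_smul]
  calc Ninv b (w * Equiv.reflection P κ)
      ≤ (insert κ ((fun i : ι => Equiv.reflection P κ • i) '' Sinv b w)).ncard :=
        Set.ncard_le_ncard hsub (Set.toFinite _)
    _ ≤ ((fun i : ι => Equiv.reflection P κ • i) '' Sinv b w).ncard + 1 :=
        Set.ncard_insert_le _ _
    _ ≤ Ninv b w + 1 := Nat.add_le_add_right (Set.ncard_image_le (Set.toFinite _)) 1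

theorem Ninv_succ_le (w : P.Aut) (κ : ι) (hκ : κ ∈ b.support) (hpos : b.IsPos (w • κ)) :
    Ninv b w + 1 ≤ Ninv b (w * Equiv.reflection P κ) := by
  have hneg : ¬ b.IsPos ((w * Equiv.reflection P κ) • κ) := by
    rw [mul_smul, refl_smul_idx, smul_neg_idx, pos_neg_idx]
    exact not_not.mpr hpos
  have h := Ninv_lt b (w * Equiv.reflection P κ) κ hκ hneg
  rw [mul_assoc, s_mul_self, mul_one] at h
  exact h

theorem Ninv_ev_le (ω : List b.support) : Ninv b (ev (sW b) ω) ≤ ω.length := by
  induction ω using List.reverseRecOn with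
  | nil => rw [ev_nil, Ninv_one]; exact Nat.zero_le _
  | append_singleton l a ih =>
    rw [ev_append, ev_singleton, List.length_append, List.length_singleton]
    exact (Ninv_mul_le b _ a a.2).trans (Nat.add_le_add_right ih 1)

theorem len_le_Ninv (u : List b.support)
    (h : ∀ (p : List b.support) (κ : b.support) (rest : List b.support),
      u = p ++ κ :: rest → b.IsPos (ev (sW b) p • (κ : ι))) :
    u.length ≤ Ninv b (ev (sW b) u) := by
  induction u using List.reverseRecOn with
  | nil => exact Nat.zero_le _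
  | append_singleton l a ih =>
    have h1 : l.length ≤ Ninv b (ev (sW b) l) := by
      apply ih
      intro p κ rest hl
      apply h p κ (rest ++ [a])
      rw [hl]; simp
    have h2 : b.IsPos (ev (sW b) l • (a : ι)) := h l a [] rfl
    rw [ev_append, ev_singleton, List.length_append, List.length_singleton]
    exact (Nat.add_le_add_right h1 1).trans (Ninv_succ_le b _ a a.2 h2)

theorem switchJ (l : List b.support) (κ : b.support)
    (hneg : ¬ b.IsPos (ev (sW b) l • (κ : ι))) :
    ∃ l₁ δ l₂, l = l₁ ++ δ :: l₂ ∧ ev (sW b) l₂ • (κ : ι) = (δ : ι) := by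
  induction l with
  | nil =>
    exfalso; apply hneg
    rw [ev_nil, one_smul]
    exact Base.isPos_of_mem_support κ.2
  | cons δ l ih =>
    by_cases h : b.IsPos (ev (sW b) l • (κ : ι))
    · refine ⟨[], δ, l, rfl, ?_⟩
      by_contra hne
      apply hneg
      rw [ev_cons, mul_smul]
      exact Base.IsPos.reflectionPerm h δ.2 hne
    · obtain ⟨l₁, δ', l₂, rfl, h2⟩ := ih h
      exact ⟨δ :: l₁, δ', l₂, rfl, h2⟩

theorem exchange (u : List b.support) (h : Ninv b (ev (sW b) u) < u.length) :
    ∃ l₁ δ l₂ κ rest, u = l₁ ++ δ :: (l₂ ++ κ :: rest) ∧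
      ev (sW b) (δ :: l₂) = ev (sW b) (l₂ ++ [κ]) := by
  have h1 : ∃ (p : List b.support) (κ : b.support) (rest : List b.support),
      u = p ++ κ :: rest ∧ ¬ b.IsPos (ev (sW b) p • (κ : ι)) := by
    by_contra hcon
    have hall : ∀ (p : List b.support) (κ : b.support) (rest : List b.support),
        u = p ++ κ :: rest → b.IsPos (ev (sW b) p • (κ : ι)) := by
      intro p κ rest hu
      by_contra hneg
      exact hcon ⟨p, κ, rest, hu, hneg⟩
    have := len_le_Ninv b u hall
    omega
  obtain ⟨p, κ, rest, hu, hneg⟩ := h1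
  obtain ⟨l₁, δ, l₂, hp, hδ⟩ := switchJ b p κ hneg
  refine ⟨l₁, δ, l₂, κ, rest, ?_, ?_⟩
  · rw [hu, hp]; simp
  · have hc := conj_ev b l₂ (κ : ι)
    rw [hδ] at hc
    rw [ev_cons, ev_append, ev_singleton]
    show Equiv.reflection P (δ : ι) * ev (sW b) l₂ = ev (sW b) l₂ * Equiv.reflection P (κ : ι)
    rw [hc]; group

section Abs

variable {G : Type*} [Group G] (sG : b.support → G) (h1 : ∀ j, sG j * sG j = 1)
include h1

theorem ih2 (r : ℕ)
    (IH : ∀ ω : List b.support, ω.length < r → ev (sW b) ω = 1 → ev sG ω = 1)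
    (u v : List b.support) (hlen : u.length + v.length < r)
    (h : ev (sW b) u = ev (sW b) v) : ev sG u = ev sG v := by
  have hW : ev (sW b) (u ++ v.reverse) = 1 := by
    rw [ev_append, ev_reverse _ (sW_sq b), h, mul_inv_cancel]
  have hG := IH (u ++ v.reverse) (by lsimp) hW
  rw [ev_append, ev_reverse _ h1] at hG
  exact mul_inv_eq_one.mp hG

theorem keyX (r : ℕ)
    (IH : ∀ ω : List b.support, ω.length < r → ev (sW b) ω = 1 → ev sG ω = 1)
    (u z : List b.support) (hr : u.length + z.length = r) (hzu : z.length < u.length)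
    (huz : u.length ≤ z.length + 2) (hW : ev (sW b) (u ++ z) = 1) :
    ev sG (u ++ z) = 1 ∨ ∃ δ l₂ κ, u = δ :: (l₂ ++ [κ]) ∧
      ev (sW b) (δ :: l₂) = ev (sW b) (l₂ ++ [κ]) ∧ l₂.length = z.length := by
  have hu : ev (sW b) u = ev (sW b) z.reverse := by
    rw [ev_reverse _ (sW_sq b)]
    rw [ev_append] at hW
    exact eq_inv_of_mul_eq_one_left hW
  have hN : Ninv b (ev (sW b) u) < u.length := by
    rw [hu]
    calc Ninv b (ev (sW b) z.reverse) ≤ z.reverse.length := Ninv_ev_le b _
      _ = z.length := List.length_reverse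
      _ < u.length := hzu
  obtain ⟨l₁, δ, l₂, κ, rest, hueq, hE⟩ := exchange b u hN
  subst hueq
  have hulen : (l₁ ++ δ :: (l₂ ++ κ :: rest)).length =
      l₁.length + l₂.length + rest.length + 2 := by
    simp only [List.length_append, List.length_cons]; omega
  by_cases hsmall : 2 * l₂.length + 2 < r
  · left
    have hEG : ev sG (δ :: l₂) = ev sG (l₂ ++ [κ]) :=
      ih2 b sG h1 r IH _ _ (by lsimp) hE
    have hW' : ev (sW b) (l₁ ++ (l₂ ++ (rest ++ z))) = 1 := by
      rw [← ev_reduce _ (sW_sq b) l₁ l₂ rest z δ κ hE]; exact hW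
    have hG' := IH (l₁ ++ (l₂ ++ (rest ++ z)))
      (by simp only [List.length_append]; omega) hW'
    rw [ev_reduce _ h1 l₁ l₂ rest z δ κ hEG]; exact hG'
  · right
    have hl₁ : l₁ = [] := List.eq_nil_of_length_eq_zero (by omega)
    have hrest : rest = [] := List.eq_nil_of_length_eq_zero (by omega)
    subst hl₁ hrest
    refine ⟨δ, l₂, κ, by simp, hE, ?_⟩
    simp only [List.length_nil] at hulen
    omega

theorem keyX' (r : ℕ)
    (IH : ∀ ω : List b.support, ω.length < r → ev (sW b) ω = 1 → ev sG ω = 1)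
    (d : b.support) (m : List b.support) (k : b.support) (z : List b.support)
    (hmz : m.length = z.length) (hr : r = 2 * m.length + 2)
    (hW : ev (sW b) ((d :: (m ++ [k])) ++ z) = 1) :
    ev sG ((d :: (m ++ [k])) ++ z) = 1 ∨ ev (sW b) (d :: m) = ev (sW b) (m ++ [k]) := by
  rcases keyX b sG h1 r IH (d :: (m ++ [k])) z (by lsimp) (by lsimp) (by lsimp) hW with
    h | ⟨δ, l₂, κ, hu, hE, -⟩
  · exact Or.inl h
  · right
    obtain ⟨h1', h2'⟩ := List.cons.inj hu
    obtain ⟨h3, h4⟩ := List.append_inj' h2' rfl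
    have h5 : k = κ := by simpa using h4
    rw [h1', h3, h5]; exact hE

theorem keyY (r : ℕ)
    (IH : ∀ ω : List b.support, ω.length < r → ev (sW b) ω = 1 → ev sG ω = 1)
    (a₁ a₂ k₁ z₁ c : b.support) (h h₀ z'' g' : List b.support)
    (hh : h = h₀ ++ [k₁]) (hcg : h = c :: g') (hlen : h.length = z''.length + 1)
    (hr : r = 2 * h.length + 2)
    (hW : ev (sW b) (a₁ :: a₂ :: (h ++ z₁ :: z'')) = 1)
    (hbad : ¬ ev sG (a₁ :: a₂ :: (h ++ z₁ :: z'')) = 1)
    (h5 : ev (sW b) (a₁ :: a₂ :: h₀) = ev (sW b) (a₂ :: h)) : a₁ = c := by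
  -- Step B: the rotated word
  have e1 : (a₂ :: (h ++ [z₁])) ++ (z'' ++ [a₁]) = (a₂ :: (h ++ z₁ :: z'')) ++ [a₁] := by simp
  have hW' : ev (sW b) ((a₂ :: (h ++ [z₁])) ++ (z'' ++ [a₁])) = 1 := by
    rw [e1]; exact ev_rot_one _ _ _ hW
  have h7 : ev (sW b) (a₂ :: h) = ev (sW b) (h ++ [z₁]) := by
    rcases keyX' b sG h1 r IH a₂ h z₁ (z'' ++ [a₁]) (by lsimp) hr hW' with hg | h7
    · exfalso; apply hbad
      rw [e1] at hg
      exact ev_rot_one' _ _ _ hg
    · exact h7
  -- Step C: the third word
  have e2 : (a₂ :: h₀) ++ [k₁] = a₂ :: h := by rw [hh]; rfl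
  have hg'len : g'.length + 1 = h.length := by rw [hcg]; simp
  have hh₀len : h₀.length + 1 = h.length := by rw [hh]; simp
  have hW'' : ev (sW b) ((c :: ((a₂ :: h₀) ++ [k₁])) ++ (z₁ :: g'.reverse)) = 1 := by
    calc ev (sW b) ((c :: ((a₂ :: h₀) ++ [k₁])) ++ (z₁ :: g'.reverse))
        = sW b c * ev (sW b) (a₂ :: h) * (sW b z₁ * (ev (sW b) g')⁻¹) := by
          rw [e2, ev_append, ev_cons _ c, ev_cons _ z₁, ev_reverse _ (sW_sq b)]
      _ = sW b c * (sW b c * ev (sW b) g' * sW b z₁) * (sW b z₁ * (ev (sW b) g')⁻¹) := by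
          rw [h7, ev_append, ev_singleton, hcg, ev_cons]
      _ = 1 := grp1 (sW_sq b c) (sW_sq b z₁)
  rcases keyX' b sG h1 r IH c (a₂ :: h₀) k₁ (z₁ :: g'.reverse) (by lsimp) (by lsimp) hW'' with
    hg | h9
  · -- the third word is good: reduce ω
    exfalso; apply hbad
    have hG7 : sG a₂ * ev sG h * sG z₁ = ev sG h := by
      have hx := hg
      rw [e2, ev_append, ev_cons _ c, ev_cons _ z₁, ev_reverse _ h1] at hx
      have hy := grp2 (h1 c) hx
      rw [ev_cons] at hy
      rw [hy, hcg, ev_cons]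
    have hW7 : sW b a₂ * ev (sW b) h * sW b z₁ = ev (sW b) h := by
      apply grp3 (sW_sq b z₁)
      have hz := h7
      rw [ev_cons, ev_append, ev_singleton] at hz
      exact hz
    have hWred : ev (sW b) (a₁ :: (h ++ z'')) = 1 := by
      rw [← ev_reduce2 _ a₁ a₂ z₁ h z'' hW7]; exact hW
    have hGred := IH (a₁ :: (h ++ z'')) (by lsimp) hWred
    rw [ev_reduce2 _ a₁ a₂ z₁ h z'' hG7]; exact hGred
  · -- (9)
    rw [e2] at h9
    have h10 := h5.trans h9.symm
    rw [ev_cons _ a₁, ev_cons _ c] at h10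
    have h11 : sW b a₁ = sW b c := mul_right_cancel h10
    exact Subtype.ext (refl_inj b a₁.2 c.2 h11)

theorem P0 (r : ℕ)
    (IH : ∀ ω : List b.support, ω.length < r → ev (sW b) ω = 1 → ev sG ω = 1)
    (ω : List b.support) (hlen : ω.length = r) (hW : ev (sW b) ω = 1)
    (hbad : ¬ ev sG ω = 1) : ω[0]? = ω[2]? ∧ ∃ q, r = 2 * q + 2 := by
  have hr1 : 1 ≤ r := by
    rcases Nat.eq_zero_or_pos r with h0 | h0
    · exfalso; apply hbad
      have : ω = [] := List.eq_nil_of_length_eq_zero (hlen.trans h0)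
      rw [this, ev_nil]
    · exact h0
  obtain ⟨u, hu⟩ : ∃ u, u = ω.take (r / 2 + 1) := ⟨_, rfl⟩
  obtain ⟨z, hz⟩ : ∃ z, z = ω.drop (r / 2 + 1) := ⟨_, rfl⟩
  have hωuz : ω = u ++ z := by rw [hu, hz, List.take_append_drop]
  have hulen : u.length = r / 2 + 1 := by
    rw [hu, List.length_take, hlen]; omega
  have hzlen : z.length = r - (r / 2 + 1) := by
    rw [hz, List.length_drop, hlen]
  clear hu hz
  subst hωuz
  rcases keyX b sG h1 r IH u z (by omega) (by omega) (by omega) hW with
    hgood | ⟨δ, l₂, κ, hueq, hE, hl₂z⟩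
  · exact absurd hgood hbad
  subst hueq
  have hrq : r = 2 * l₂.length + 2 := by
    simp only [List.length_append, List.length_cons, List.length_nil] at hulen
    omega
  refine ⟨?_, l₂.length, hrq⟩
  rcases l₂ with _ | ⟨a₂, h₀⟩
  · -- l₂ = []
    exfalso
    have hz0 : z = [] := List.eq_nil_of_length_eq_zero hl₂z.symm
    have hδκ : δ = κ := by
      apply Subtype.ext
      apply refl_inj b δ.2 κ.2
      have hE' := hE
      rw [ev_singleton, List.nil_append, ev_singleton] at hE'
      exact hE'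
    apply hbad
    subst hz0 hδκ
    simp [ev_cons, ev_nil, h1]
  · rcases z with _ | ⟨z₁, z''⟩
    · simp at hl₂z
    obtain ⟨c, g', hcg⟩ : ∃ c g', h₀ ++ [κ] = c :: g' := by
      cases h₀ with
      | nil => exact ⟨κ, [], rfl⟩
      | cons c t => exact ⟨c, t ++ [κ], rfl⟩
    have e0 : (δ :: ((a₂ :: h₀) ++ [κ])) ++ (z₁ :: z'') =
        δ :: a₂ :: ((h₀ ++ [κ]) ++ z₁ :: z'') := by simp
    rw [e0] at hW hbad
    have hδc : δ = c :=
      keyY b sG h1 r IH δ a₂ κ z₁ c (h₀ ++ [κ]) h₀ z'' g' rfl hcg (by lsimp) (by lsimp)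
        hW hbad hE
    rw [e0, hcg, hδc]
    rfl

theorem alt_all (r : ℕ)
    (IH : ∀ ω : List b.support, ω.length < r → ev (sW b) ω = 1 → ev sG ω = 1) :
    ∀ (i : ℕ) (ω : List b.support), ω.length = r → ev (sW b) ω = 1 → ¬ ev sG ω = 1 →
      i + 2 < r → ω[i]? = ω[i + 2]? := by
  intro i
  induction i with
  | zero =>
    intro ω hlen hW hbad _
    exact (P0 b sG h1 r IH ω hlen hW hbad).1
  | succ i ih =>
    intro ω hlen hW hbad hi
    rcases ω with _ | ⟨a, ω₁⟩
    · simp at hlen; omega
    have hlen₁ : ω₁.length + 1 = r := by simpa using hlen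
    have h' := ih (ω₁ ++ [a]) (by lsimp) (ev_rot_one _ _ _ hW)
      (fun hg => hbad (ev_rot_one' _ _ _ hg)) (by omega)
    have hi1 : i < ω₁.length := by omega
    have hi2 : i + 2 < ω₁.length := by omega
    rw [List.getElem?_append_left hi1, List.getElem?_append_left hi2] at h'
    have e : i + 1 + 2 = (i + 2) + 1 := by omega
    rw [e, List.getElem?_cons_succ, List.getElem?_cons_succ]
    exact h'

theorem step (h2 : ∀ a c n, (sW b a * sW b c) ^ n = 1 → (sG a * sG c) ^ n = 1) (r : ℕ)
    (IH : ∀ ω : List b.support, ω.length < r → ev (sW b) ω = 1 → ev sG ω = 1)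
    (ω : List b.support) (hlen : ω.length = r) (hW : ev (sW b) ω = 1) : ev sG ω = 1 := by
  by_contra hbad
  obtain ⟨-, q, hq⟩ := P0 b sG h1 r IH ω hlen hW hbad
  have hper : ∀ i, i + 2 < ω.length → ω[i]? = ω[i + 2]? := by
    intro i hi
    exact alt_all b sG h1 r IH i ω hlen hW hbad (by omega)
  rcases ω with _ | ⟨a, _ | ⟨c, rest⟩⟩
  · simp at hlen; omega
  · simp at hlen; omega
  have hlen' : (a :: c :: rest).length = 2 * q + 2 := by omega
  have eWp := ev_periodic (sW b) q (a :: c :: rest) a c hlen' rfl rfl hper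
  have eGp := ev_periodic sG q (a :: c :: rest) a c hlen' rfl rfl hper
  apply hbad
  rw [eGp]
  apply h2
  rw [← eWp]; exact hW

theorem main (h2 : ∀ a c n, (sW b a * sW b c) ^ n = 1 → (sG a * sG c) ^ n = 1) (r : ℕ) :
    ∀ ω : List b.support, ω.length = r → ev (sW b) ω = 1 → ev sG ω = 1 := by
  induction r using Nat.strong_induction_on with
  | _ r ih =>
    intro ω hlen hW
    exact step b sG h1 h2 r (fun ω' hlt hW' => ih ω'.length hlt ω' rfl hW') ω hlen hW

end Abs

/-- the Coxeter matrix of orders -/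
def coxM : CoxeterMatrix b.support where
  M := Matrix.of fun j k => orderOf (sW b j * sW b k)
  isSymm := by
    apply Matrix.IsSymm.ext
    intro j k
    show orderOf (sW b k * sW b j) = orderOf (sW b j * sW b k)
    rw [← orderOf_inv (sW b j * sW b k), mul_inv_rev, sW_inv, sW_inv]
  diagonal := by
    intro j
    show orderOf (sW b j * sW b j) = 1
    rw [sW_sq, orderOf_one]
  off_diagonal := by
    intro j k hjk h
    have h' : orderOf (sW b j * sW b k) = 1 := h
    rw [orderOf_eq_one_iff] at h'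
    apply hjk
    apply Subtype.ext
    apply refl_inj b j.2 k.2
    have h'' := eq_inv_of_mul_eq_one_left h'
    rw [sW_inv] at h''
    exact h''

theorem lift_list (l : List ι) (hl : ∀ x ∈ l, x ∈ b.support) :
    ∃ ω : List b.support, ω.map Subtype.val = l := by
  induction l with
  | nil => exact ⟨[], rfl⟩
  | cons x l ih =>
    obtain ⟨ω, hω⟩ := ih (fun y hy => hl y (List.mem_cons_of_mem _ hy))
    exact ⟨⟨x, hl x (by simp)⟩ :: ω, by rw [List.map_cons, hω]⟩

theorem final :
    ∃ (C : CoxeterMatrix ↥b.support) (cs : CoxeterSystem C P.weylGroup),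
      (∀ j : ↥b.support, ((cs.simple j : P.weylGroup) : P.Aut) = Equiv.reflection P (j : ι)) ∧
      ∀ j k : ↥b.support,
        C.M j k = orderOf (Equiv.reflection P (j : ι) * Equiv.reflection P (k : ι)) := by
  obtain ⟨D, hD⟩ : ∃ D : CoxeterSystem (coxM b) (coxM b).Group, D = (coxM b).toCoxeterSystem :=
    ⟨_, rfl⟩
  obtain ⟨f, hfdef⟩ : ∃ f : b.support → P.weylGroup,
      ∀ j, ((f j : P.weylGroup) : P.Aut) = sW b j :=
    ⟨fun j => ⟨Equiv.reflection P (j : ι), P.reflection_mem_weylGroup j⟩, fun j => rfl⟩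
  have hf : (coxM b).IsLiftable f := by
    intro j k
    apply Subtype.ext
    rw [Subgroup.coe_pow, Subgroup.coe_mul, hfdef, hfdef]
    show (sW b j * sW b k) ^ orderOf (sW b j * sW b k) = 1
    exact pow_orderOf_eq_one _
  obtain ⟨φ, hφ⟩ : ∃ φ : (coxM b).Group →* P.weylGroup, ∀ j, φ (D.simple j) = f j :=
    ⟨D.lift ⟨f, hf⟩, D.lift_apply_simple hf⟩
  have hφw : ∀ ω : List b.support,
      ((φ (D.wordProd ω) : P.weylGroup) : P.Aut) = ev (sW b) ω := by
    intro ω
    induction ω with
    | nil => rw [D.wordProd_nil, map_one, ev_nil]; rfl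
    | cons a ω ih =>
      rw [D.wordProd_cons, map_mul, Subgroup.coe_mul, hφ, hfdef, ih, ev_cons]
  have hword : ∀ ω : List b.support, D.wordProd ω = ev D.simple ω := fun ω => rfl
  have h2 : ∀ a c n, (sW b a * sW b c) ^ n = 1 → (D.simple a * D.simple c) ^ n = 1 := by
    intro a c n hn
    obtain ⟨m, rfl⟩ := orderOf_dvd_of_pow_eq_one hn
    have h' : (D.simple a * D.simple c) ^ orderOf (sW b a * sW b c) = 1 :=
      D.simple_mul_simple_pow a c
    rw [pow_mul, h', one_pow]
  have hinj : Function.Injective φ := by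
    rw [injective_iff_map_eq_one]
    intro g hg
    obtain ⟨ω, rfl⟩ := D.wordProd_surjective g
    have hW : ev (sW b) ω = 1 := by
      rw [← hφw ω, hg]; rfl
    rw [hword]
    exact main b D.simple D.simple_mul_simple_self h2 ω.length ω rfl hW
  have hsurj : Function.Surjective φ := by
    intro w
    obtain ⟨l, hl, hw⟩ := isWord_of_mem b w.2
    obtain ⟨ω, hω⟩ := lift_list b l hl
    refine ⟨D.wordProd ω, ?_⟩
    apply Subtype.ext
    rw [hφw ω, ev_sW_eq_wd, hω, ← hw]
  obtain ⟨e, he⟩ : ∃ e : (coxM b).Group ≃* P.weylGroup, ∀ g, e g = φ g :=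
    ⟨MulEquiv.ofBijective φ ⟨hinj, hsurj⟩, fun g => rfl⟩
  refine ⟨coxM b, D.map e, ?_, ?_⟩
  · intro j
    rw [CoxeterSystem.map_simple, he, hφ, hfdef]
    rfl
  · intro j k
    rfl

end Root


end



/-- For a finite crystallographic reduced root pairing with a base b: the Weyl group is presented by the
simple reflections s_i (i in the base) subject to the relations (s_i s_j)^{n_{ij}} = 1, where n_{ij}
is the order of s_i s_j; i.e. it carries a Coxeter system whose simple reflections are the s_i and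
whose Coxeter matrix is (n_{ij}). -/
theorem result {ι R M N : Type*} [CommRing R] [CharZero R] [IsDomain R] [AddCommGroup M] [Module R M]
    [AddCommGroup N] [Module R N] (P : RootPairing ι R M N) [Finite ι] [P.IsCrystallographic] [P.IsReduced]
    (b : P.Base) :
    ∃ (C : CoxeterMatrix ↥b.support) (cs : CoxeterSystem C P.weylGroup),
      (∀ j : ↥b.support, ((cs.simple j : P.weylGroup) : P.Aut) = Equiv.reflection P (j : ι)) ∧
      ∀ j k : ↥b.support, C.M j k = orderOf (Equiv.reflection P (j : ι) * Equiv.reflection P (k : ι)) := by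
  exact final b


end Groth.Agent.S2956
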