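import Groth.Statements.S2965
import Mathlib

set_option autoImplicit false
universe u
open SGA3t2b

namespace Groth.Agent.S2965

open Polynomial in
/-- Implication (iv) ⇒ (i) (global form, finite free module): let u be an endomorphism of a finite free
module M over a commutative ring A whose characteristic polynomial is X^r · Q with Q(0) invertible.
Then M is the direct sum of two u-stable submodules M', M'' such that u is nilpotent on M' and
bijective on M''. -/
theorem result {A : Type u} [CommRing A] {M : Type u} [AddCommGroup M] [Module A M]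
    [Module.Free A M] [Module.Finite A M] (u : M →ₗ[A] M) (r : ℕ) (Q : A[X]) (hQ : IsUnit (Q.coeff 0))
    (h : u.charpoly = X ^ r * Q) :
    ∃ M' M'' : Submodule A M, IsCompl M' M'' ∧ (∀ x ∈ M', u x ∈ M') ∧ (∀ x ∈ M'', u x ∈ M'') ∧
      (∃ n : ℕ, ∀ x ∈ M', (u ^ n) x = 0) ∧ Set.BijOn u M'' M'' := by
  obtain ⟨q0, hq0⟩ := hQ
  -- coprimality of X and Q
  have hXQ : IsCoprime (X : A[X]) Q := by
    refine ⟨-(C (↑q0⁻¹ : A) * Q.divX), C (↑q0⁻¹ : A), ?_⟩
    have h1 : Q.divX * X + C (Q.coeff 0) = Q := Polynomial.divX_mul_X_add Q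
    have h2 : C (↑q0⁻¹ : A) * C (Q.coeff 0) = 1 := by
      rw [← C_mul, ← hq0, Units.inv_mul, C_1]
    calc -(C (↑q0⁻¹ : A) * Q.divX) * X + C (↑q0⁻¹ : A) * Q
        = -(C (↑q0⁻¹ : A) * Q.divX) * X + C (↑q0⁻¹ : A) * (Q.divX * X + C (Q.coeff 0)) := by rw [h1]
      _ = C (↑q0⁻¹ : A) * C (Q.coeff 0) := by ring
      _ = 1 := h2
  have hcop : IsCoprime ((X : A[X]) ^ r) Q := hXQ.pow_left
  have hCH : aeval u (X ^ r * Q) = 0 := by rw [← h]; exact LinearMap.aeval_self_charpoly u
  refine ⟨LinearMap.ker (aeval u ((X : A[X]) ^ r)), LinearMap.ker (aeval u Q), ?_, ?_, ?_, ?_, ?_⟩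
  · refine ⟨disjoint_ker_aeval_of_isCoprime u hcop, ?_⟩
    rw [codisjoint_iff, sup_ker_aeval_eq_ker_aeval_mul_of_coprime u hcop, hCH, LinearMap.ker_zero]
  · intro x hx
    rw [LinearMap.mem_ker] at hx ⊢
    have : aeval u ((X : A[X]) ^ r) (u x) = u (aeval u ((X : A[X]) ^ r) x) := by
      have hc : Commute (aeval u ((X : A[X]) ^ r)) u := by
        have : Commute (aeval u ((X : A[X]) ^ r)) (aeval u (X : A[X])) := (Commute.all _ _).map (aeval u)
        rwa [aeval_X] at this
      exact congrArg (fun f : Module.End A M => f x) hc.eq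
    rw [this, hx, map_zero]
  · intro x hx
    rw [LinearMap.mem_ker] at hx ⊢
    have : aeval u Q (u x) = u (aeval u Q x) := by
      have hc : Commute (aeval u Q) u := by
        have : Commute (aeval u Q) (aeval u (X : A[X])) := (Commute.all _ _).map (aeval u)
        rwa [aeval_X] at this
      exact congrArg (fun f : Module.End A M => f x) hc.eq
    rw [this, hx, map_zero]
  · refine ⟨r, fun x hx => ?_⟩
    rw [LinearMap.mem_ker] at hx
    simpa using hx
  · -- bijectivity on ker Q(u)
    have hstab : ∀ x ∈ LinearMap.ker (aeval u Q), u x ∈ LinearMap.ker (aeval u Q) := by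
      intro x hx
      rw [LinearMap.mem_ker] at hx ⊢
      have : aeval u Q (u x) = u (aeval u Q x) := by
        have hc : Commute (aeval u Q) u := by
          have : Commute (aeval u Q) (aeval u (X : A[X])) := (Commute.all _ _).map (aeval u)
          rwa [aeval_X] at this
        exact congrArg (fun f : Module.End A M => f x) hc.eq
      rw [this, hx, map_zero]
    -- the inverse polynomial
    let P : A[X] := -(C (↑q0⁻¹ : A) * Q.divX)
    have hPQ : P * X + C (↑q0⁻¹ : A) * Q = 1 := by
      have h1 : Q.divX * X + C (Q.coeff 0) = Q := Polynomial.divX_mul_X_add Q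
      have h2 : C (↑q0⁻¹ : A) * C (Q.coeff 0) = 1 := by
        rw [← C_mul, ← hq0, Units.inv_mul, C_1]
      calc P * X + C (↑q0⁻¹ : A) * Q
          = -(C (↑q0⁻¹ : A) * Q.divX) * X + C (↑q0⁻¹ : A) * (Q.divX * X + C (Q.coeff 0)) := by rw [h1]
        _ = C (↑q0⁻¹ : A) * C (Q.coeff 0) := by ring
        _ = 1 := h2
    have hinv1 : ∀ x ∈ LinearMap.ker (aeval u Q), aeval u P (u x) = x := by
      intro x hx
      rw [LinearMap.mem_ker] at hx
      have := congrArg (fun p : A[X] => aeval u p x) hPQ
      simp only [map_add, map_mul, aeval_X, aeval_C, map_one, LinearMap.add_apply,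
        Module.End.mul_apply, Module.End.one_apply, hx, map_zero, add_zero] at this
      exact this
    have hinv2 : ∀ x ∈ LinearMap.ker (aeval u Q), u (aeval u P x) = x := by
      intro x hx
      have hc : Commute u (aeval u P) := by
        have : Commute (aeval u (X : A[X])) (aeval u P) := (Commute.all _ _).map (aeval u)
        rwa [aeval_X] at this
      have : u (aeval u P x) = aeval u P (u x) := congrArg (fun f : Module.End A M => f x) hc.eq
      rw [this]; exact hinv1 x hx
    have hPstab : ∀ x ∈ LinearMap.ker (aeval u Q), aeval u P x ∈ LinearMap.ker (aeval u Q) := by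
      intro x hx
      rw [LinearMap.mem_ker] at hx ⊢
      have hc : Commute (aeval u Q) (aeval u P) := (Commute.all _ _).map (aeval u)
      have : aeval u Q (aeval u P x) = aeval u P (aeval u Q x) :=
        congrArg (fun f : Module.End A M => f x) hc.eq
      rw [this, hx, map_zero]
    refine ⟨fun x hx => hstab x hx, ?_, ?_⟩
    · intro x hx y hy hxy
      rw [← hinv1 x hx, ← hinv1 y hy, hxy]
    · intro x hx
      exact ⟨aeval u P x, hPstab x hx, hinv2 x hx⟩

end Groth.Agent.S2965
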