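import Groth.Statements.S2966
import Mathlib
import Groth.Agent.Lib.Helper15.UnipMult

set_option autoImplicit false
universe u
open scoped TensorProduct
open SGA3t2b

namespace Groth.Agent.S2966

/-- In Hopf-algebra form (with unipotent taken in the representation-theoretic sense: affine and every
non-zero finite-dimensional representation has a non-zero fixed vector): let k be a field, A_M the
coordinate Hopf algebra of an affine k-group M of finite type which is of multiplicative type in the
sense that it becomes diagonalisable over an algebraic closure of k, and A_U that of a unipotent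
affine k-group U of finite type. Then (i) every homomorphism M -> U and (ii) every homomorphism U ->
M is trivial: every bialgebra map A_U -> A_M, resp. A_M -> A_U, factors through the counit. -/
theorem result {k : Type u} [Field k] {AM AU : Type u} [CommRing AM] [CommRing AU]
    [HopfAlgebra k AM] [HopfAlgebra k AU] [Algebra.FiniteType k AM] [Algebra.FiniteType k AU]
    (hM : HopfRep.IsDiagonalizable (AlgebraicClosure k) (AlgebraicClosure k ⊗[k] AM)) (hU : HopfRep.IsUnipotent k AU) :
    (∀ φ : AU →ₐc[k] AM, SGA3t2b.IsTrivialBialgHom φ) ∧ (∀ ψ : AM →ₐc[k] AU, SGA3t2b.IsTrivialBialgHom ψ) := by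
  constructor
  · intro φ a
    exact Groth.Agent.Lib.helper15.UnipMult.trivial_of_unipotent_of_no_primitive φ hU
      (Groth.Agent.Lib.helper15.UnipMult.primitive_eq_zero_of_baseChange_span_groupLike
        (AlgebraicClosure k) hM) a
  · intro ψ a
    set ψK : AlgebraicClosure k ⊗[k] AM →ₐc[AlgebraicClosure k] AlgebraicClosure k ⊗[k] AU :=
      Bialgebra.TensorProduct.map (BialgHom.id (AlgebraicClosure k) (AlgebraicClosure k)) ψ with hψK
    have hgl : ∀ χ : AlgebraicClosure k ⊗[k] AM, IsGroupLikeElem (AlgebraicClosure k) χ →
        ψK χ = 1 := fun χ hχ =>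
      Groth.Agent.Lib.helper15.UnipMult.groupLike_eq_one_of_unipotent (AlgebraicClosure k) hU _
        (hχ.map ψK)
    have hlin : (ψK : AlgebraicClosure k ⊗[k] AM →ₐ[AlgebraicClosure k]
          AlgebraicClosure k ⊗[k] AU).toLinearMap =
        Algebra.linearMap (AlgebraicClosure k) (AlgebraicClosure k ⊗[k] AU) ∘ₗ
          Coalgebra.counit (R := AlgebraicClosure k) (A := AlgebraicClosure k ⊗[k] AM) := by
      apply LinearMap.ext_on hM
      intro χ hχ
      have hχ' : IsGroupLikeElem (AlgebraicClosure k) χ := hχ
      simp only [AlgHom.toLinearMap_apply, LinearMap.comp_apply, Algebra.linearMap_apply]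
      rw [hχ'.counit_eq_one, map_one]
      exact hgl χ hχ'
    have h1 := congrArg (fun f => f ((1 : AlgebraicClosure k) ⊗ₜ[k] a)) hlin
    simp only [AlgHom.toLinearMap_apply, LinearMap.comp_apply, Algebra.linearMap_apply,
      TensorProduct.counit_tmul, CommSemiring.counit_apply] at h1
    have h2 : ψK ((1 : AlgebraicClosure k) ⊗ₜ[k] a) = (1 : AlgebraicClosure k) ⊗ₜ[k] ψ a := by
      rw [hψK, Bialgebra.TensorProduct.map_tmul]; rfl
    have hinj : Function.Injective
        (Algebra.TensorProduct.includeRight : AU →ₐ[k] AlgebraicClosure k ⊗[k] AU) :=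
      Algebra.TensorProduct.includeRight_injective (algebraMap k (AlgebraicClosure k)).injective
    apply hinj
    rw [Algebra.TensorProduct.includeRight_apply, Algebra.TensorProduct.includeRight_apply, ← h2]
    refine Eq.trans h1 ?_
    rw [Algebra.algebraMap_eq_smul_one, Algebra.algebraMap_eq_smul_one, smul_assoc, one_smul,
      Algebra.TensorProduct.one_def, TensorProduct.tmul_smul]

end Groth.Agent.S2966
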