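import Groth.Statements.S2967
import Mathlib

set_option autoImplicit false
universe u
open SGA3t2b

namespace Groth.Agent.S2967

/-- A commutative p-Lie algebra over a field k of characteristic p is recorded as a k-vector space g
together with its p-th power map φ, which is additive and Frobenius-semilinear. Let g be
finite-dimensional and non-zero, and assume every element of g is killed by some iterate of φ (g is
unipotent). Then the k-subspace of g spanned by the image φ(g) is a proper subspace. -/
theorem result {k : Type u} [Field k] (p : ℕ) [Fact p.Prime] [CharP k p]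
    {V : Type u} [AddCommGroup V] [Module k V] [FiniteDimensional k V] [Nontrivial V]
    (φ : V →ₛₗ[frobenius k p] V) (hφ : ∀ x : V, ∃ n : ℕ, φ^[n] x = 0) :
    Submodule.span k (Set.range φ) ≠ ⊤ := by
  intro htop
  -- φ maps span S into span (φ '' S)
  have hspan : ∀ S : Set V, ∀ x ∈ Submodule.span k S, φ x ∈ Submodule.span k (φ '' S) := by
    intro S x hx
    induction hx using Submodule.span_induction with
    | mem v hv => exact Submodule.subset_span ⟨v, hv, rfl⟩
    | zero => simp
    | add x y _ _ hx hy => rw [map_add]; exact Submodule.add_mem _ hx hy
    | smul r x _ hx => rw [map_smulₛₗ]; exact Submodule.smul_mem _ _ hx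
  -- the iterates still span
  have hiter : ∀ n : ℕ, Submodule.span k (Set.range (φ^[n])) = ⊤ := by
    intro n
    induction n with
    | zero => simp
    | succ n ih =>
      rw [eq_top_iff, ← htop, Submodule.span_le]
      rintro _ ⟨x, rfl⟩
      have hx : x ∈ Submodule.span k (Set.range (φ^[n])) := by rw [ih]; trivial
      have := hspan _ x hx
      refine Submodule.span_mono ?_ this
      rintro _ ⟨_, ⟨y, rfl⟩, rfl⟩
      exact ⟨y, by rw [Function.iterate_succ_apply']⟩
  -- a uniform exponent killing a basis
  let bas := Module.finBasis k V
  choose n hn using hφ
  let N := Finset.univ.sup (fun i => n (bas i))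
  have hkill : ∀ i, φ^[N] (bas i) = 0 := by
    intro i
    have hle : n (bas i) ≤ N := Finset.le_sup (f := fun i => n (bas i)) (Finset.mem_univ i)
    obtain ⟨d, hd⟩ := Nat.exists_eq_add_of_le hle
    rw [hd, Nat.add_comm, Function.iterate_add_apply, hn]
    clear hd
    induction d with
    | zero => rfl
    | succ d ih => rw [Function.iterate_succ_apply', ih, map_zero]
  -- iterates are additive and semilinear up to a power: they kill everything
  have hadd : ∀ m : ℕ, ∀ x y : V, φ^[m] (x + y) = φ^[m] x + φ^[m] y := by
    intro m
    induction m with
    | zero => intro x y; rfl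
    | succ m ih =>
      intro x y
      rw [Function.iterate_succ_apply', Function.iterate_succ_apply', Function.iterate_succ_apply',
        ih, map_add]
  have hsmul : ∀ m : ℕ, ∀ (c : k) (x : V), φ^[m] x = 0 → φ^[m] (c • x) = 0 := by
    intro m
    induction m with
    | zero => intro c x hx; simp only [Function.iterate_zero, id_eq] at hx ⊢; rw [hx, smul_zero]
    | succ m ih =>
      intro c x hx
      rw [Function.iterate_succ_apply, map_smulₛₗ]
      apply ih
      rw [← Function.iterate_succ_apply]; exact hx
  have hall : ∀ x : V, φ^[N] x = 0 := by
    intro x
    have hx : x ∈ Submodule.span k (Set.range bas) := by rw [bas.span_eq]; trivial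
    induction hx using Submodule.span_induction with
    | mem v hv => obtain ⟨i, rfl⟩ := hv; exact hkill i
    | zero =>
      have := hsmul N 0 (bas ⟨0, by
        have : 0 < Module.finrank k V := Module.finrank_pos
        exact this⟩) (hkill _)
      rwa [zero_smul] at this
    | add x y _ _ hx hy => rw [hadd, hx, hy, add_zero]
    | smul r x _ hx => exact hsmul N r x hx
  have hrange : Set.range (φ^[N]) = {0} := by
    ext v
    simp only [Set.mem_range, Set.mem_singleton_iff]
    constructor
    · rintro ⟨x, rfl⟩; exact hall x
    · rintro rfl; exact ⟨0, hall 0⟩
  have := hiter N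
  rw [hrange, Submodule.span_singleton_eq_bot.mpr rfl] at this
  exact bot_ne_top this

end Groth.Agent.S2967
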