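import Groth.Statements.S2968
import Mathlib
import Groth.Agent.Lib.Helper15.ConvKill

set_option autoImplicit false
universe u
open SGA3t2b

namespace Groth.Agent.S2968

open Groth.Agent.Lib.helper15.Conilp Groth.Agent.Lib.helper15.ConvKill in
theorem convPow_eq {k : Type u} [Field k] {A : Type u} [CommRing A] [HopfAlgebra k A]
    (f : A →ₗ[k] k) (m : ℕ) :
    LieHopf.convPow f m = ((WithConv.toConv f) ^ m).ofConv := by
  induction m with
  | zero =>
    rw [pow_zero]
    ext a
    rfl
  | succ m ih =>
    rw [pow_succ]
    change LieHopf.conv (LieHopf.convPow f m) f = _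
    rw [ih]
    rfl

open Groth.Agent.Lib.helper15.Conilp Groth.Agent.Lib.helper15.ConvKill in
theorem main {k : Type u} [Field k] (p : ℕ) [Fact p.Prime] [CharP k p] {A : Type u} [CommRing A]
    [HopfAlgebra k A] [Algebra.FiniteType k A] (hU : HopfRep.IsUnipotent k A)
    (f : A →ₗ[k] k)
    (hf : ∀ a b : A, f (a * b) =
      f a * Coalgebra.counit (R := k) b + Coalgebra.counit (R := k) a * f b) :
    ∃ n : ℕ, 0 < n ∧ LieHopf.convPow f (p ^ n) = 0 := by
  have hf1 : f 1 = 0 := by
    have h := hf 1 1
    rw [mul_one, Bialgebra.counit_one, mul_one, one_mul] at h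
    have : f 1 + f 1 = f 1 + 0 := by rw [add_zero]; exact h.symm
    exact add_left_cancel this
  obtain ⟨s, hs⟩ := (Algebra.FiniteType.out : (⊤ : Subalgebra k A).FG)
  have htop := Pfilt_top_of_isUnipotent hU
  have hmem : ∀ x : A, ∃ n, x ∈ Pfilt k A n := by
    intro x
    have hx : x ∈ ⨆ n, Pfilt k A n := by rw [htop]; trivial
    exact (Submodule.mem_iSup_of_directed _ (Pfilt_mono k A).directed_le).1 hx
  choose g hg using hmem
  set N := s.sup g with hN
  refine ⟨N + 1, Nat.succ_pos _, ?_⟩
  rw [convPow_eq]
  set d : WithConv (A →ₗ[k] k) := WithConv.toConv f with hd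
  have hd1 : d.ofConv 1 = 0 := hf1
  have hdL : ∀ a b : A, d.ofConv (a * b) =
      d.ofConv a * Coalgebra.counit (R := k) b + Coalgebra.counit (R := k) a * d.ofConv b := hf
  have hp : N + 1 ≤ p ^ (N + 1) := by
    have := Nat.lt_pow_self (Fact.out : p.Prime).one_lt (n := N + 1)
    omega
  obtain ⟨M, hM⟩ : ∃ M, p ^ (N + 1) = M + 1 := ⟨p ^ (N + 1) - 1, by omega⟩
  have hkill : ∀ x ∈ s, (d ^ (p ^ (N + 1))).ofConv x = 0 := by
    intro x hx
    rw [hM]
    refine pow_kill d hd1 M x ?_
    refine Pfilt_mono k A ?_ (hg x)
    have : g x ≤ N := Finset.le_sup hx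
    omega
  have hL := leibniz_pow_char p d hdL (N + 1)
  have hE1 : (d ^ (p ^ (N + 1))).ofConv 1 = 0 := by
    rw [hM]
    exact pow_one_eq_zero d hd1 M
  ext x
  have hx : x ∈ Algebra.adjoin k (s : Set A) := by rw [hs]; trivial
  change (d ^ (p ^ (N + 1))).ofConv x = 0
  induction hx using Algebra.adjoin_induction with
  | mem x hx => exact hkill x hx
  | algebraMap r =>
    rw [Algebra.algebraMap_eq_smul_one, map_smul, hE1, smul_zero]
  | add x y _ _ hx hy => rw [map_add, hx, hy, add_zero]
  | mul x y _ _ hx hy => rw [hL, hx, hy, zero_mul, mul_zero, add_zero]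

/-- In characteristic p, in Hopf-algebra form (with unipotent in the representation-theoretic sense
`HopfRep.IsUnipotent`): let k be a field of characteristic p > 0 and A a finite-type commutative
Hopf algebra over k (the coordinate Hopf algebra of an affine algebraic k-group) which is unipotent.
Then the Lie algebra of the group is a unipotent p-Lie algebra: for every ε-derivation D : A -> k
there is n > 0 such that the iterated p-operation of D, computed here as the p^n-fold convolution
power of D (this is how the p-operation is rendered in this statement; its axioms are not proved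
here), vanishes. -/
theorem result {k : Type u} [Field k] (p : ℕ) [Fact p.Prime] [CharP k p] {A : Type u} [CommRing A]
    [HopfAlgebra k A] [Algebra.FiniteType k A] (hU : HopfRep.IsUnipotent k A) (D : LieHopf.Lie k A) :
    ∃ n : ℕ, 0 < n ∧ LieHopf.convPow (D.toLinearMap.restrictScalars k ∘ₗ LinearMap.id) (p ^ n) = 0 := by
  refine main p hU _ ?_
  intro a b
  change (D (a * b) : LieHopf.K k A) = _
  rw [D.leibniz a b, LieHopf.smul_def, LieHopf.smul_def]
  change (Coalgebra.counit (R := k) a : k) * (show k from D b) +
      (Coalgebra.counit (R := k) b : k) * (show k from D a) =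
    (show k from D a) * Coalgebra.counit (R := k) b +
      Coalgebra.counit (R := k) a * (show k from D b)
  ring

end Groth.Agent.S2968
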