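import Groth.Statements.S2978
import Mathlib

set_option autoImplicit false
universe u
open SGA3b

namespace Groth.Agent.S2978

/-- Let A be a Noetherian ring, M a set and a : M × M → A a family vanishing off the diagonal which is a
finite sum of decomposable families: a(m, m') = Σ_i b_i(m) c_i(m') for finitely many b_i, c_i : M →
A. Then a has finite support. -/
theorem result (A : Type u) [CommRing A] [IsNoetherianRing A] (M : Type u)
    (a : M × M → A) (hdiag : ∀ m m', m ≠ m' → a (m, m') = 0)
    (ι : Type u) [Fintype ι] (b c : ι → M → A) (hdec : ∀ m m', a (m, m') = ∑ i, b i m * c i m') :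
    Set.Finite {p : M × M | a p ≠ 0} := by
  classical
  rcases isEmpty_or_nonempty M with hM | hM
  · exact Set.toFinite _
  let Cv : M → (ι → A) := fun m' i => c i m'
  have hfg : (Submodule.span A (Set.range Cv)).FG := IsNoetherian.noetherian _
  obtain ⟨t, ht, hspan⟩ := (Submodule.fg_span_iff_fg_span_finset_subset (Set.range Cv)).mp hfg
  -- choose preimages
  have hpre : ∀ v ∈ t, ∃ m : M, Cv m = v := fun v hv => ht hv
  choose! pre hpre using hpre
  let T : Finset M := t.image pre
  refine Set.Finite.subset (T.image (fun m => (m, m))).finite_toSet ?_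
  rintro ⟨m, m'⟩ hp
  simp only [Set.mem_setOf_eq] at hp
  have hmm : m = m' := by
    by_contra hne
    exact hp (hdiag m m' hne)
  subst hmm
  simp only [Finset.coe_image, Set.mem_image, Finset.mem_coe, Prod.mk.injEq]
  by_contra hnot
  apply hp
  -- the functional
  let ℓ : (ι → A) →ₗ[A] A :=
    { toFun := fun v => ∑ i, b i m * v i
      map_add' := fun v w => by simp [mul_add, Finset.sum_add_distrib]
      map_smul' := fun r v => by
        simp only [Pi.smul_apply, smul_eq_mul, RingHom.id_apply, Finset.mul_sum]
        refine Finset.sum_congr rfl fun i _ => by ring }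
  have hℓ : ∀ m', ℓ (Cv m') = a (m, m') := fun m' => (hdec m m').symm
  have hmem : Cv m ∈ Submodule.span A (t : Set (ι → A)) := by
    rw [← hspan]; exact Submodule.subset_span ⟨m, rfl⟩
  have hzero : ∀ v ∈ Submodule.span A (t : Set (ι → A)), ℓ v = 0 := by
    intro v hv
    induction hv using Submodule.span_induction with
    | mem v hv =>
      have h1 : Cv (pre v) = v := hpre v hv
      rw [← h1, hℓ]
      apply hdiag
      intro hmv
      apply hnot
      exact ⟨pre v, Finset.mem_image.mpr ⟨v, hv, rfl⟩, hmv.symm, hmv.symm⟩
    | zero => simp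
    | add x y _ _ hx hy => simp [hx, hy]
    | smul r x _ hx => simp [hx]
  rw [← hℓ]
  exact hzero _ hmem

end Groth.Agent.S2978
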