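import Groth.Statements.S3028
import Groth.Agent.Lib.Helper14.ClosedSubgrp2

set_option autoImplicit false
universe u
open CategoryTheory MonoidalCategory CartesianMonoidalCategory MonObj GrpObj AlgebraicGeometry TensorProduct
open SGA3

namespace Groth.Agent.S3028

/-- Let G be a group scheme over a field k, X a geometrically reduced k-scheme and f : X → G a
k-morphism. Then among the closed subgroup schemes of G through which f factors there is a smallest
one, and it is geometrically reduced over k. -/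
theorem result (k : Type u) [Field k] (G X : Over (Spec (CommRingCat.of k))) [GrpObj G]
    [GeometricallyReduced X.hom] (f : X ⟶ G) :
    ∃ (Γ : Over (Spec (CommRingCat.of k))) (_ : GrpObj Γ) (i : Γ ⟶ G), IsMonHom i ∧ IsClosedImmersion i.left ∧
      (∃ f' : X ⟶ Γ, f' ≫ i = f) ∧ GeometricallyReduced Γ.hom ∧
      ∀ (Γ' : Over (Spec (CommRingCat.of k))) (_ : GrpObj Γ') (i' : Γ' ⟶ G), IsMonHom i' → IsClosedImmersion i'.left →
        (∃ f'' : X ⟶ Γ', f'' ≫ i' = f) → ∃ j : Γ ⟶ Γ', j ≫ i' = i := by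
  obtain ⟨Γ, str, i, hmon, hcl, ⟨f', hf'⟩, hmin⟩ :=
    Groth.Agent.Lib.Helper14.ClosedSubgrp.exists_smallest_closedSubgroup G X f
  letI := str
  haveI := hmon
  haveI := hcl
  refine ⟨Γ, str, i, hmon, hcl, ⟨f', hf'⟩, ?_, hmin⟩
  refine Groth.Agent.Lib.Helper14.ClosedSubgrp.geometricallyReduced_of_smallest i f' ?_
  intro Γ' str' i' h1 h2 h3
  rw [hf'] at h3
  exact hmin Γ' str' i' h1 h2 h3

end Groth.Agent.S3028
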