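import Groth.Statements.S3032
import Mathlib.LinearAlgebra.TensorProduct.Finiteness
import Mathlib.RingTheory.Flat.Basic
import Mathlib.RingTheory.Noetherian.Basic
-- import your own Groth.Agent.* helpers here

set_option autoImplicit false
universe u
open CategoryTheory MonoidalCategory CartesianMonoidalCategory MonObj GrpObj AlgebraicGeometry TensorProduct
open SGA3

namespace Groth.Agent.S3032

/-- Let R be a Noetherian commutative ring, C an R-coalgebra which is flat as an R-module, V a
C-comodule and M a finitely generated R-submodule of V. Then M is contained in a subcomodule of V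
which is finitely generated over R. -/
theorem result (R : Type u) [CommRing R] [IsNoetherianRing R] (C : Type u) [AddCommGroup C]
    [Module R C] [Coalgebra R C] [Module.Flat R C] (V : Type u) [AddCommGroup V] [Module R V] [HopfRep.Comod R C V]
    (M : Submodule R V) (hM : M.FG) :
    ∃ W : Submodule R V, HopfRep.IsSubcomod (k := R) (A := C) W ∧ M ≤ W ∧ W.FG := by
  classical
  set ρ : V →ₗ[R] V ⊗[R] C := HopfRep.Comod.coact (k := R) (A := C) with hρ
  -- Step 1: a f.g. N with ρ(M) ⊆ N ⊗ C
  obtain ⟨S, hS⟩ := hM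
  obtain ⟨N, hNfin, hN⟩ := TensorProduct.exists_finite_submodule_left_of_setFinite
    (ρ '' (S : Set V)) (S.finite_toSet.image _)
  have hNfg : N.FG := Module.Finite.iff_fg.mp hNfin
  have hMN : M ≤ (LinearMap.range (N.subtype.rTensor C)).comap ρ := by
    rw [← hS, Submodule.span_le]
    intro s hs
    exact hN ⟨s, hs, rfl⟩
  -- Step 2: W = ker ((π ⊗ id) ∘ ρ)
  set π : V →ₗ[R] V ⧸ N := N.mkQ with hπ
  set g : V →ₗ[R] (V ⧸ N) ⊗[R] C := (π.rTensor C) ∘ₗ ρ with hg
  refine ⟨LinearMap.ker g, ?_, ?_, ?_⟩
  · -- subcomodule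
    intro w hw
    have hex : Function.Exact ((LinearMap.ker g).subtype.rTensor C) (g.rTensor C) :=
      Module.Flat.rTensor_exact C (LinearMap.exact_subtype_ker_map g)
    rw [← hex.linearMap_ker_eq, LinearMap.mem_ker]
    rw [LinearMap.mem_ker] at hw
    have hco := congrArg (fun f => f w) (HopfRep.Comod.coassoc (k := R) (A := C) (V := V))
    simp only [LinearMap.comp_apply, LinearEquiv.coe_coe] at hco
    have hco' : (ρ.rTensor C) (ρ w) = (TensorProduct.assoc R V C C).symm
        ((LinearMap.lTensor V (CoalgebraStruct.comul (R := R) (A := C))) (ρ w)) := by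
      rw [← hco, LinearEquiv.symm_apply_apply]
    have ha : ((π.rTensor C).rTensor C) ∘ₗ (TensorProduct.assoc R V C C).symm.toLinearMap =
        (TensorProduct.assoc R (V ⧸ N) C C).symm.toLinearMap ∘ₗ (π.rTensor (C ⊗[R] C)) := by
      ext v c c'
      simp
    have hb : (π.rTensor (C ⊗[R] C)) ∘ₗ (LinearMap.lTensor V (CoalgebraStruct.comul (R := R) (A := C))) =
        (LinearMap.lTensor (V ⧸ N) (CoalgebraStruct.comul (R := R) (A := C))) ∘ₗ (π.rTensor C) := by
      rw [LinearMap.rTensor_comp_lTensor, LinearMap.lTensor_comp_rTensor]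
    rw [hg, LinearMap.rTensor_comp, LinearMap.comp_apply, hco']
    have e1 := congrArg (fun f => f ((LinearMap.lTensor V (CoalgebraStruct.comul (R := R) (A := C))) (ρ w))) ha
    simp only [LinearMap.comp_apply, LinearEquiv.coe_coe] at e1
    rw [e1]
    have e2 := congrArg (fun f => f (ρ w)) hb
    simp only [LinearMap.comp_apply] at e2
    rw [e2]
    have : (π.rTensor C) (ρ w) = g w := rfl
    rw [this, hw, map_zero, map_zero]
  · -- M ≤ W
    intro m hm
    obtain ⟨z, hz⟩ := hMN hm
    rw [LinearMap.mem_ker, hg, LinearMap.comp_apply, ← hz, ← LinearMap.comp_apply,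
      ← LinearMap.rTensor_comp]
    have : π ∘ₗ N.subtype = 0 := by
      ext x; simp [hπ]
    rw [this, LinearMap.rTensor_zero, LinearMap.zero_apply]
  · -- f.g.
    refine Submodule.FG.of_le hNfg ?_
    intro w hw
    rw [LinearMap.mem_ker] at hw
    have h1 : (LinearMap.lTensor (V ⧸ N) (CoalgebraStruct.counit (R := R) (A := C))) (g w) = 0 := by
      rw [hw, map_zero]
    have h2 : (LinearMap.lTensor (V ⧸ N) (CoalgebraStruct.counit (R := R) (A := C))) (g w)
        = (π w) ⊗ₜ[R] (1 : R) := by
      have := congrArg (fun f => (π.rTensor R) (f w)) (HopfRep.Comod.counit_comp (k := R) (A := C) (V := V))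
      simp only [LinearMap.comp_apply, LinearMap.flip_apply, TensorProduct.mk_apply,
        LinearMap.rTensor_tmul] at this
      rw [← this, hg, LinearMap.comp_apply, ← LinearMap.comp_apply, ← LinearMap.comp_apply (LinearMap.rTensor R π)]
      congr 1
      ext x c
      simp
    rw [h2] at h1
    have h3 := congrArg (TensorProduct.rid R (V ⧸ N)) h1
    simp only [TensorProduct.rid_tmul, one_smul, map_zero] at h3
    rwa [hπ, Submodule.mkQ_apply, Submodule.Quotient.mk_eq_zero] at h3

end Groth.Agent.S3032
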