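import Groth.Statements.S3037
import Groth.Agent.Lib.Helper5.GrpMonoClosed3

set_option autoImplicit false
universe u
open CategoryTheory MonoidalCategory CartesianMonoidalCategory MonObj GrpObj AlgebraicGeometry TensorProduct
open SGA3

namespace Groth.Agent.S3037

/-- (iii) ⟺ (v): let A be a local artinian ring and u : G → H a quasi-compact homomorphism between group
schemes locally of finite type over A. Then u is finite if and only if the kernel of u (the fibre of
u over the unit section) is a discrete space. -/
theorem result (A : Type u) [CommRing A] [IsArtinianRing A] [IsLocalRing A]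
    (G H : Over (Spec (CommRingCat.of A))) [GrpObj G] [GrpObj H] [LocallyOfFiniteType G.hom] [LocallyOfFiniteType H.hom]
    (u : G ⟶ H) [IsMonHom u] [QuasiCompact u.left] :
    IsFinite u.left ↔ DiscreteTopology ↥(Limits.pullback u.left (η[H] : 𝟙_ (Over (Spec (CommRingCat.of A))) ⟶ H).left) := by
  constructor
  · intro h
    haveI : LocallyQuasiFinite (Limits.pullback.snd u.left
        (η[H] : 𝟙_ (Over (Spec (CommRingCat.of A))) ⟶ H).left) := inferInstance
    haveI : IsLocallyArtinian (Spec (CommRingCat.of A)) :=
      Scheme.isLocallyArtinianScheme_Spec.mpr inferInstance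
    haveI : IsLocallyArtinian (Limits.pullback u.left
        (η[H] : 𝟙_ (Over (Spec (CommRingCat.of A))) ⟶ H).left) :=
      IsLocallyArtinian.of_locallyQuasiFinite (Y := Spec (CommRingCat.of A)) (Limits.pullback.snd u.left
        (η[H] : 𝟙_ (Over (Spec (CommRingCat.of A))) ⟶ H).left)
    infer_instance
  · intro hK
    haveI := hK
    haveI : LocallyOfFiniteType u.left := by
      haveI : LocallyOfFiniteType (u.left ≫ H.hom) := by rw [Over.w u]; infer_instance
      exact locallyOfFiniteType_of_comp u.left H.hom
    have hfin : IsFinite (Limits.pullback.snd u.left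
        (η[H] : 𝟙_ (Over (Spec (CommRingCat.of A))) ⟶ H).left) :=
      Groth.Agent.Lib.helper5.GrpMonoClosed.isFinite_of_discreteTopology A
        (Limits.pullback.snd u.left (η[H] : 𝟙_ (Over (Spec (CommRingCat.of A))) ⟶ H).left)
    exact Groth.Agent.Lib.helper5.GrpMonoClosed.isFinite_hom_of_isFinite_ker_artinian A G H u hfin

end Groth.Agent.S3037
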