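import Groth.Statements.S3042
import Mathlib
import Groth.Agent.Lib.Helper18.FiberUnram

set_option autoImplicit false
universe u
open CategoryTheory MonoidalCategory CartesianMonoidalCategory MonObj GrpObj AlgebraicGeometry TensorProduct
open SGA3

namespace Groth.Agent.S3042

open Groth.Agent.Lib.Helper18.FiberUnram CategoryTheory.Limits

/-- Let f : X → Y be a morphism of schemes locally of finite type. Then f is a monomorphism if and only
if, for every point y of Y, the fibre X_y → Spec κ(y) is a monomorphism. -/
theorem result (X Y : Scheme.{u}) (f : X ⟶ Y) [LocallyOfFiniteType f] :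
    Mono f ↔ ∀ y : Y, Mono (f.fiberToSpecResidueField y) := by
  constructor
  · intro h y
    unfold Scheme.Hom.fiberToSpecResidueField
    exact pullback.snd_of_mono
  · intro H
    -- `f` is unramified
    have hunr : FormallyUnramified f := formallyUnramified_of_fibers f fun y => by
      have := H y
      have : IsIso (pullback.diagonal (f.fiberToSpecResidueField y)) :=
        (pullback.isIso_diagonal_iff _).mpr inferInstance
      infer_instance
    have hopen : IsOpenImmersion (pullback.diagonal f) := inferInstance
    -- `f` is universally injective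
    have huniv : UniversallyInjective f := by
      rw [((tfae_universallyInjective f).out 0 1 :)]
      intro K _ g₁ g₂ hg
      dsimp only at hg
      let φ : Spec (.of K) ⟶ Y := g₁ ≫ f
      let y : Y := ((Y.SpecToEquivOfField K) φ).1
      let ψ : Spec (.of K) ⟶ Spec (Y.residueField y) := Spec.map ((Y.SpecToEquivOfField K) φ).2
      have hψ : ψ ≫ Y.fromSpecResidueField y = φ := (Y.SpecToEquivOfField K).left_inv φ
      let g₁' : Spec (.of K) ⟶ f.fiber y := pullback.lift g₁ ψ hψ.symm
      let g₂' : Spec (.of K) ⟶ f.fiber y := pullback.lift g₂ ψ (by rw [hψ, ← hg])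
      have h1 : g₁' ≫ f.fiberToSpecResidueField y = ψ := pullback.lift_snd _ _ _
      have h2 : g₂' ≫ f.fiberToSpecResidueField y = ψ := pullback.lift_snd _ _ _
      have := H y
      have h12 : g₁' = g₂' := by
        rw [← cancel_mono (f.fiberToSpecResidueField y), h1, h2]
      have e1 : g₁' ≫ f.fiberι y = g₁ := pullback.lift_fst _ _ _
      have e2 : g₂' ≫ f.fiberι y = g₂ := pullback.lift_fst _ _ _
      rw [← e1, ← e2, h12]
    have hsurj : Surjective (pullback.diagonal f) := (UniversallyInjective.iff_diagonal f).mp huniv
    have : IsIso (pullback.diagonal f) :=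
      (isIso_iff_isOpenImmersion_and_surjective _).mpr ⟨hopen, hsurj⟩
    exact (pullback.isIso_diagonal_iff f).mp this

end Groth.Agent.S3042
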