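import Groth.Statements.S3043
import Mathlib.AlgebraicGeometry.Morphisms.Integral
-- import your own Groth.Agent.* helpers here

set_option autoImplicit false
universe u
open CategoryTheory MonoidalCategory CartesianMonoidalCategory MonObj GrpObj AlgebraicGeometry TensorProduct
open SGA3

namespace Groth.Agent.S3043

theorem affine_case {X S : Scheme.{u}} [IsAffine S] (π : X ⟶ S) (ε : S ⟶ X) (hε : ε ≫ π = 𝟙 S)
    (hinj : Function.Injective π.base) :
    IsAffine X ∧ RingHom.IsIntegral (π.appTop).hom := by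
  have hεπ : ∀ x : X, ε (π x) = x := by
    intro x
    apply hinj
    have := congrArg (fun f : S ⟶ S => f (π x)) hε
    simpa using this
  have hπε : ∀ s : S, π (ε s) = s := by
    intro s
    have := congrArg (fun f : S ⟶ S => f s) hε
    simpa using this
  -- main local statement
  have key : ∀ x : X, ∃ f : Γ(S, ⊤), π x ∈ S.basicOpen f ∧ IsAffineOpen (X.basicOpen (π.appTop f)) := by
    intro x
    obtain ⟨W, hW, hxW, -⟩ := TopologicalSpace.Opens.isBasis_iff_nbhd.mp X.isBasis_affineOpens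
      (TopologicalSpace.Opens.mem_top x)
    have hx' : π x ∈ ε ⁻¹ᵁ W := by
      show ε (π x) ∈ W
      rw [hεπ]; exact hxW
    obtain ⟨_, ⟨f, rfl⟩, hxf, hfW⟩ := TopologicalSpace.Opens.isBasis_iff_nbhd.mp (isBasis_basicOpen S) hx'
    refine ⟨f, hxf, ?_⟩
    have hle : X.basicOpen (π.appTop f) ≤ W := by
      rw [← Scheme.preimage_basicOpen_top]
      intro y hy
      have : ε (π y) ∈ W := hfW hy
      rwa [hεπ] at this
    have : X.basicOpen (π.appTop f) = X.basicOpen (X.presheaf.map (homOfLE (le_top : W ≤ ⊤)).op (π.appTop f)) := by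
      rw [Scheme.basicOpen_res]
      exact (inf_eq_right.mpr hle).symm
    rw [this]
    exact IsAffineOpen.basicOpen hW _
  have hXaff : IsAffine X := by
    set t : Set Γ(S, ⊤) := {f | IsAffineOpen (X.basicOpen (π.appTop f))} with ht
    have hspan : Ideal.span t = ⊤ := by
      rw [← (isAffineOpen_top S).self_le_iSup_basicOpen_iff]
      intro s _
      obtain ⟨f, hf1, hf2⟩ := key (ε s)
      rw [hπε] at hf1
      rw [TopologicalSpace.Opens.mem_iSup]
      exact ⟨⟨f, hf2⟩, hf1⟩
    apply isAffine_of_isAffineOpen_basicOpen (π.appTop.hom '' t)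
    · rw [← Ideal.map_span, hspan, Ideal.map_top]
    · rintro _ ⟨f, hf, rfl⟩
      exact hf
  refine ⟨hXaff, ?_⟩
  intro c
  -- c = φ (ψ c) + nilpotent
  set φ := π.appTop.hom with hφ
  set ψ := ε.appTop.hom with hψ
  have hψφ : ∀ b, ψ (φ b) = b := by
    intro b
    have := congrArg (fun f : S ⟶ S => f.appTop.hom b) hε
    simpa using this
  have hnil : IsNilpotent (c - φ (ψ c)) := by
    rw [Scheme.isNilpotent_iff_basicOpen_eq_bot]
    by_contra hne
    obtain ⟨x, hx⟩ := (TopologicalSpace.Opens.ne_bot_iff_nonempty _).mp hne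
    have hx2 : π x ∈ ε ⁻¹ᵁ (X.basicOpen (c - φ (ψ c))) := by
      show ε (π x) ∈ X.basicOpen (c - φ (ψ c))
      rw [hεπ]; exact hx
    rw [Scheme.preimage_basicOpen_top] at hx2
    have : ε.appTop.hom (c - φ (ψ c)) = 0 := by
      rw [map_sub]
      show ψ c - ψ (φ (ψ c)) = 0
      rw [hψφ, sub_self]
    rw [this, Scheme.basicOpen_zero] at hx2
    exact hx2
  have : c = φ (ψ c) + (c - φ (ψ c)) := by ring
  rw [this]
  obtain ⟨m, hm⟩ := hnil
  exact RingHom.IsIntegralElem.add φ (φ.isIntegralElem_map)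
    ⟨Polynomial.X ^ m, Polynomial.monic_X_pow m, by simp [hm]⟩

/-- Let π : X → S be a morphism of schemes admitting a section ε (ε followed by π is the identity). If π
is injective on underlying points, then π is an integral morphism. -/
theorem result (X S : Scheme.{u}) (π : X ⟶ S) (ε : S ⟶ X) (hε : ε ≫ π = 𝟙 S)
    (hinj : Function.Injective π.base) : IsIntegralHom π := by
  rw [HasAffineProperty.eq_targetAffineLocally @IsIntegralHom]
  intro U
  have : IsAffine U.1.toScheme := U.2
  have hrange : Set.range (U.1.ι ≫ ε) ⊆ Set.range (π ⁻¹ᵁ U.1).ι := by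
    rintro _ ⟨u, rfl⟩
    rw [Scheme.Opens.range_ι]
    show π (ε (U.1.ι u)) ∈ U.1
    have := congrArg (fun f : S ⟶ S => f (U.1.ι u)) hε
    simp only [Scheme.Hom.comp_apply] at this
    rw [this]
    exact u.2
  let ε' : U.1.toScheme ⟶ (π ⁻¹ᵁ U.1).toScheme :=
    IsOpenImmersion.lift (π ⁻¹ᵁ U.1).ι (U.1.ι ≫ ε) hrange
  have hε' : ε' ≫ (π ∣_ U.1) = 𝟙 _ := by
    rw [← cancel_mono U.1.ι]
    simp only [Category.assoc, morphismRestrict_ι, ε', IsOpenImmersion.lift_fac_assoc, hε,
      Category.comp_id, Category.id_comp]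
  have hinj' : Function.Injective (π ∣_ U.1).base := by
    have h1 : Function.Injective ((π ∣_ U.1) ≫ U.1.ι).base := by
      rw [morphismRestrict_ι]
      exact hinj.comp (π ⁻¹ᵁ U.1).ι.injective
    intro a b hab
    apply h1
    simp only [Scheme.Hom.comp_base, TopCat.comp_app]
    show U.1.ι ((π ∣_ U.1) a) = U.1.ι ((π ∣_ U.1) b)
    rw [hab]
  exact affine_case (π ∣_ U.1) ε' hε' hinj'

end Groth.Agent.S3043
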