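import Groth.Statements.S3045
-- import your own Groth.Agent.* helpers here

set_option autoImplicit false
universe u
open TensorProduct
open SGA3

namespace Groth.Agent.S3045

theorem sum_counit_right_smul (k : Type u) [CommRing k] (A : Type u) [CommRing A] [HopfAlgebra k A]
    (a : A) {ι : Type*} (𝓡 : Coalgebra.Repr k a ι) :
    ∑ x ∈ 𝓡.index, Coalgebra.counit (R := k) (𝓡.right x) • 𝓡.left x = a := by
  have := Coalgebra.sum_tmul_counit_eq (R := k) 𝓡
  have h2 := congrArg (TensorProduct.lift ((LinearMap.lsmul k A).flip)) this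
  simp only [map_sum, TensorProduct.lift.tmul, LinearMap.flip_apply, LinearMap.lsmul_apply,
    one_smul] at h2
  exact h2

/-- conv3 in terms of representations -/
theorem conv3_apply_repr (k : Type u) [CommRing k] (A : Type u) [CommRing A] [HopfAlgebra k A]
    {C : Type u} [CommRing C] [Algebra k C] (f g h : A →ₐ[k] C) (a : A)
    {ι : Type*} (𝓡 : Coalgebra.Repr k a ι) :
    Dyn.conv3 k A f g h a =
      ∑ i ∈ 𝓡.index,
        (Algebra.TensorProduct.lmul' (S := C) k) (Algebra.TensorProduct.map f g (Coalgebra.comul (𝓡.left i)))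
          * h (𝓡.right i) := by
  unfold Dyn.conv3
  simp only [AlgHom.comp_apply, Bialgebra.comulAlgHom_apply]
  rw [← 𝓡.eq]
  simp only [map_sum, Algebra.TensorProduct.map_tmul, AlgHom.comp_apply, Bialgebra.comulAlgHom_apply,
    AlgHom.id_apply, Algebra.TensorProduct.lmul'_apply_tmul]

theorem conv3_counit (k : Type u) [CommRing k] (A : Type u) [CommRing A] [HopfAlgebra k A]
    {C : Type u} [CommRing C] [Algebra k C] (f g : A →ₐ[k] C) (a : A) :
    Dyn.conv3 k A f g ((Algebra.ofId k C).comp (Bialgebra.counitAlgHom k A)) a =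
      (Algebra.TensorProduct.lmul' (S := C) k) (Algebra.TensorProduct.map f g (Coalgebra.comul a)) := by
  rw [conv3_apply_repr k A f g _ a (Coalgebra.Repr.arbitrary k a)]
  set F : A →ₐ[k] C := (Algebra.TensorProduct.lmul' (S := C) k).comp
    ((Algebra.TensorProduct.map f g).comp (Bialgebra.comulAlgHom k A)) with hF
  have h1 : ∀ x : A, (Algebra.TensorProduct.lmul' (S := C) k)
      (Algebra.TensorProduct.map f g (Coalgebra.comul x)) = F x := fun x => rfl
  simp only [h1]
  simp only [AlgHom.comp_apply, Bialgebra.counitAlgHom_apply, Algebra.ofId_apply]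
  have : ∀ i, F ((Coalgebra.Repr.arbitrary k a).left i) *
      algebraMap k C (Coalgebra.counit ((Coalgebra.Repr.arbitrary k a).right i)) =
      F (Coalgebra.counit (R := k) ((Coalgebra.Repr.arbitrary k a).right i) •
        (Coalgebra.Repr.arbitrary k a).left i) := by
    intro i
    rw [map_smul, Algebra.smul_def, mul_comm]
  simp only [this]
  rw [← map_sum]
  congr 1
  exact sum_counit_right_smul k A a _

/-- Let A be a commutative Hopf algebra over a commutative ring k (the coordinate ring of an affine
group G = Spec A) and φ, ψ two k[ε]-valued points of G reducing to the unit point modulo ε (tangent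
vectors at the identity). Then for every a ∈ A the ε-component of the product point φ · ψ at a — the
product of points being convolution, formed here as the triple convolution of φ, ψ and the unit
point — is the sum of the ε-components of φ(a) and ψ(a): on tangent vectors at the identity the
group law of G induces addition. -/
theorem result (k : Type u) [CommRing k] (A : Type u) [CommRing A] [HopfAlgebra k A]
    (φ ψ : LieHopf.LiePts k A) (a : A) :
    TrivSqZeroExt.snd (Dyn.conv3 k A φ.1 ψ.1 ((Algebra.ofId k (DualNumber k)).comp (Bialgebra.counitAlgHom k A)) a) =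
      LieHopf.LiePts.tangent k A φ a + LieHopf.LiePts.tangent k A ψ a := by
  rw [conv3_counit]
  rw [← (Coalgebra.Repr.arbitrary k a).eq]
  simp only [map_sum, Algebra.TensorProduct.map_tmul, Algebra.TensorProduct.lmul'_apply_tmul,
    TrivSqZeroExt.snd_sum, TrivSqZeroExt.snd_mul, φ.2, ψ.2]
  rw [Finset.sum_add_distrib, add_comm]
  set sφ : A →ₗ[k] k := (TrivSqZeroExt.sndHom k k) ∘ₗ φ.1.toLinearMap with hsφ
  set sψ : A →ₗ[k] k := (TrivSqZeroExt.sndHom k k) ∘ₗ ψ.1.toLinearMap with hsψ
  have e1 : ∀ x, TrivSqZeroExt.snd (φ.1 x) = sφ x := fun x => rfl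
  have e2 : ∀ x, TrivSqZeroExt.snd (ψ.1 x) = sψ x := fun x => rfl
  have t1 : LieHopf.LiePts.tangent k A φ a = sφ a := rfl
  have t2 : LieHopf.LiePts.tangent k A ψ a = sψ a := rfl
  rw [t1, t2]
  simp only [e1, e2, op_smul_eq_smul, Bialgebra.counitAlgHom_apply]
  congr 1
  · conv_rhs => rw [← sum_counit_right_smul k A a (Coalgebra.Repr.arbitrary k a)]
    simp only [map_sum, map_smul]
  · conv_rhs => rw [← Coalgebra.sum_counit_smul (R := k) (Coalgebra.Repr.arbitrary k a)]
    simp only [map_sum, map_smul]

end Groth.Agent.S3045
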