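import Groth.Statements.S3046
import Mathlib.Tactic.NoncommRing
-- import your own Groth.Agent.* helpers here

set_option autoImplicit false
universe u
open TensorProduct
open SGA3

namespace Groth.Agent.S3046

open WithConv in
theorem conv3_eq_mul (k : Type u) [CommRing k] (A : Type u) [CommRing A] [HopfAlgebra k A]
    {C : Type u} [CommRing C] [Algebra k C] (f g h : A →ₐ[k] C) :
    Dyn.conv3 k A f g h = (toConv f * toConv g * toConv h).ofConv := by
  unfold Dyn.conv3
  simp only [AlgHom.convMul_def, ofConv_toConv]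
  rw [← AlgHom.comp_assoc _ _ (Bialgebra.comulAlgHom k A), ← Algebra.TensorProduct.map_comp]
  rfl

section
variable (k : Type u) [CommRing k] (A : Type u) [CommRing A] [HopfAlgebra k A]
  (R : Type u) [CommRing R] [Algebra k R]

open WithConv

/-- the linear map `a ↦ algebraMap (D a)` in the convolution ring -/
noncomputable def dd (D : LieHopf.Lie k A) : WithConv (A →ₗ[k] R) :=
  toConv ((Algebra.linearMap k R) ∘ₗ LieHopf.dlin D)

theorem pt_eq (D : LieHopf.Lie k A) (t : R) (ht : t * t = 0) :
    toConv (LieHopf.ptOfLie D R t ht).toLinearMap = 1 + t • dd k A R D := by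
  ext a
  simp [dd, LieHopf.ptOfLie, mul_comm]

theorem dd_sq (D : LieHopf.Lie k A) (t : R) (ht : t * t = 0) :
    (t • dd k A R D) * (t • dd k A R D) = 0 := by
  rw [smul_mul_assoc, mul_smul_comm, smul_smul, ht, zero_smul]

theorem dd_mul (D E : LieHopf.Lie k A) :
    dd k A R D * dd k A R E =
      toConv ((Algebra.linearMap k R) ∘ₗ LieHopf.conv (LieHopf.dlin D) (LieHopf.dlin E)) := by
  have h := LinearMap.algHom_comp_convMul_distrib (Algebra.ofId k R)
    (toConv (LieHopf.dlin D)) (toConv (LieHopf.dlin E))
  apply WithConv.ofConv_injective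
  exact h.symm

theorem pt_inv_eq (D : LieHopf.Lie k A) (t : R) (ht : t * t = 0) :
    toConv ((LieHopf.ptOfLie D R t ht).comp (HopfAlgebra.antipodeAlgHom k A)).toLinearMap
      = 1 - t • dd k A R D := by
  have h1 : toConv ((LieHopf.ptOfLie D R t ht).comp (HopfAlgebra.antipodeAlgHom k A)).toLinearMap
      * toConv (LieHopf.ptOfLie D R t ht).toLinearMap = 1 := by
    have h3 := LinearMap.algHom_comp_convMul_distrib (LieHopf.ptOfLie D R t ht)
      (toConv (HopfAlgebra.antipode k (A := A))) (toConv LinearMap.id)
    rw [LinearMap.antipode_mul_id] at h3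
    apply WithConv.ofConv_injective
    rw [AlgHom.comp_toLinearMap]
    simp only [LinearMap.comp_id] at h3
    rw [HopfAlgebra.toLinearMap_antipodeAlgHom, ← h3]
    ext a
    simp
  have h2 : toConv (LieHopf.ptOfLie D R t ht).toLinearMap * (1 - t • dd k A R D) = 1 := by
    rw [pt_eq]
    have := dd_sq k A R D t ht
    have key : ∀ x : WithConv (A →ₗ[k] R), (1 + x) * (1 - x) = 1 - x * x := by
      intro x; noncomm_ring
    rw [key, this, sub_zero]
  calc _ = toConv ((LieHopf.ptOfLie D R t ht).comp (HopfAlgebra.antipodeAlgHom k A)).toLinearMap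
        * (toConv (LieHopf.ptOfLie D R t ht).toLinearMap * (1 - t • dd k A R D)) := by
        rw [h2, mul_one]
    _ = 1 - t • dd k A R D := by rw [← mul_assoc, h1, one_mul]

end

/-- Let A be a commutative Hopf algebra over a commutative ring k, D and E two ε-derivations A → k
(tangent vectors at the identity of G = Spec A), R a commutative k-algebra and t, t' ∈ R with t² = 0
= t'². Let x = e + tD and y = e + t'E be the corresponding R-points of G. Then the commutator x y
x⁻¹ y⁻¹ (product of points; the inverse of a point is its composite with the antipode) is the point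
a ↦ ε(a) + [D, E](a) · t t', where [D, E] = D ⋆ E − E ⋆ D is the convolution commutator. -/
theorem result (k : Type u) [CommRing k] (A : Type u) [CommRing A] [HopfAlgebra k A]
    (D E : LieHopf.Lie k A) (R : Type u) [CommRing R] [Algebra k R] (t t' : R) (ht : t * t = 0) (ht' : t' * t' = 0)
    (a : A) :
    Dyn.conv3 k A
        (Dyn.conv3 k A (LieHopf.ptOfLie D R t ht) (LieHopf.ptOfLie E R t' ht')
          ((LieHopf.ptOfLie D R t ht).comp (HopfAlgebra.antipodeAlgHom k A)))
        ((LieHopf.ptOfLie E R t' ht').comp (HopfAlgebra.antipodeAlgHom k A))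
        ((Algebra.ofId k R).comp (Bialgebra.counitAlgHom k A)) a =
      algebraMap k R (Bialgebra.counitAlgHom k A a) + algebraMap k R (LieHopf.bracketLin D E a) * (t * t') := by
  open WithConv in
  rw [conv3_eq_mul, conv3_eq_mul]
  have e1 : (Algebra.ofId k R).comp (Bialgebra.counitAlgHom k A) =
      (1 : WithConv (A →ₐ[k] R)).ofConv := rfl
  rw [e1, toConv_ofConv, toConv_ofConv, mul_one]
  -- pass to the linear level
  have hlin : toConv (toConv (LieHopf.ptOfLie D R t ht) * toConv (LieHopf.ptOfLie E R t' ht') *
      toConv ((LieHopf.ptOfLie D R t ht).comp (HopfAlgebra.antipodeAlgHom k A)) *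
      toConv ((LieHopf.ptOfLie E R t' ht').comp (HopfAlgebra.antipodeAlgHom k A))).ofConv.toLinearMap
      = (1 + t • dd k A R D) * (1 + t' • dd k A R E) * (1 - t • dd k A R D) * (1 - t' • dd k A R E) := by
    rw [AlgHom.toLinearMap_convMul, AlgHom.toLinearMap_convMul, AlgHom.toLinearMap_convMul]
    simp only []
    rw [pt_eq, pt_eq, pt_inv_eq, pt_inv_eq]
  have lin : ∀ F : WithConv (A →ₐ[k] R), F.ofConv a = (toConv F.ofConv.toLinearMap) a := fun F => rfl
  rw [lin, hlin]
  set d := dd k A R D with hd
  set e := dd k A R E with he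
  have haa := dd_sq k A R D t ht
  have hbb := dd_sq k A R E t' ht'
  have haba : (t • d) * (t' • e) * (t • d) = 0 := by
    simp only [smul_mul_assoc, mul_smul_comm, smul_smul]
    rw [show t * (t' * t) = (t * t) * t' by ring, ht, zero_mul, zero_smul]
  have hbab : (t' • e) * (t • d) * (t' • e) = 0 := by
    simp only [smul_mul_assoc, mul_smul_comm, smul_smul]
    rw [show t' * (t * t') = (t' * t') * t by ring, ht', zero_mul, zero_smul]
  have key : ∀ a b : WithConv (A →ₗ[k] R), (1 + a) * (1 + b) * (1 - a) * (1 - b) =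
      1 + a * b - b * a + (-(a * a) - (a * b * a) - b * b - a * (b * b) + (a * a) * b + b * a * b
        + (a * b * a) * b) := by
    intro a b; noncomm_ring
  rw [key, haa, hbb, haba, hbab]
  simp only [neg_zero, sub_zero, mul_zero, zero_mul, add_zero]
  rw [smul_mul_assoc, mul_smul_comm, smul_mul_assoc, mul_smul_comm, smul_smul, smul_smul,
    dd_mul, dd_mul]
  have hb : LieHopf.bracketLin D E = LieHopf.conv (LieHopf.dlin D) (LieHopf.dlin E) -
      LieHopf.conv (LieHopf.dlin E) (LieHopf.dlin D) := rfl
  rw [hb]
  simp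
  ring

end Groth.Agent.S3046
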