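import Groth.Statements.S3047
import Groth.Agent.Lib.Helper1.EtStalkFam
import Groth.Agent.Lib.Helper1.EtStalkPull
import Groth.Agent.Lib.Helper1.PullShExact
import Groth.Agent.S14622

set_option autoImplicit false
open CategoryTheory CategoryTheory.Limits AlgebraicGeometry Opposite
universe u
open EtDesc

namespace Groth.Agent.S3047

open Groth.Agent.H1.EtStalk Groth.Agent.H1.EtGerm Groth.Agent.H1.EtStalkPull
open Groth.Agent.H1.EtStalkFam Groth.Agent.H1.PullShExact

/-- **The stalk of a pullback** for sheaves of sets, as a natural isomorphism. -/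
noncomputable def stalkPullIsoSh {X Y : Scheme.{u}} (f : X ⟶ Y)
    {Ω : Type u} [Field Ω] [IsSepClosed Ω] (ξ : Spec (CommRingCat.of Ω) ⟶ X) :
    EtDesc.pullSh f ⋙ (Scheme.pointSmallEtale ξ).sheafFiber (A := Type (u + 1)) ≅
      (Scheme.pointSmallEtale (ξ ≫ f)).sheafFiber := by
  let Φ := Scheme.pointSmallEtale ξ
  let Ψ := Scheme.pointSmallEtale (ξ ≫ f)
  let e := Groth.Agent.S0100.fiberIso f ξ
  have : InitiallySmall.{u} (EtCoh.bc f ⋙ Φ.fiber).Elements := by
    have : InitiallySmall.{u} Ψ.fiber.Elements := Ψ.initiallySmall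
    let E := Cat.equivOfIso (Functor.elementsFunctor.mapIso e.symm)
    let F : Ψ.fiber.Elements ⥤ (EtCoh.bc f ⋙ Φ.fiber).Elements := E.functor
    have : F.IsEquivalence := E.isEquivalence_functor
    exact initiallySmall_of_initial_of_initiallySmall F
  let Φ' := Φ.comap (EtCoh.bc f) (EtCoh.coverPreserving_bc f)
  have i1 := GrothendieckTopology.Point.sheafFiberComapIso Φ (EtCoh.bc f)
    (EtCoh.coverPreserving_bc f) (Type (u + 1))
  exact i1.symm ≪≫ sheafFiberIsoOfFiberIso Φ' Ψ e (Type (u + 1))

theorem reflects {X' X : Scheme.{u}} (f : X' ⟶ X) [Surjective f] :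
    (EtDesc.pullSh f).ReflectsIsomorphisms := by
  constructor
  intro F G a ha
  apply isIso_of_stalk_fam_sh (fun y' : X' => geomPt X' y' ≫ f)
    (Groth.Agent.S14622.jointly_surjective f)
  intro y'
  set ζ := geomPt X' y'
  have h := (stalkPullIsoSh f ζ).hom.naturality a
  have e : ((Scheme.pointSmallEtale (ζ ≫ f)).sheafFiber (A := Type (u + 1))).map a =
      (stalkPullIsoSh f ζ).inv.app _ ≫
        (EtDesc.pullSh f ⋙ (Scheme.pointSmallEtale ζ).sheafFiber (A := Type (u + 1))).map a ≫
        (stalkPullIsoSh f ζ).hom.app _ := by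
    rw [h, Iso.inv_hom_id_app_assoc]
  have h2 : IsIso ((EtDesc.pullSh f ⋙
      (Scheme.pointSmallEtale ζ).sheafFiber (A := Type (u + 1))).map a) := by
    change IsIso (((Scheme.pointSmallEtale ζ).sheafFiber (A := Type (u + 1))).map
      ((EtDesc.pullSh f).map a))
    infer_instance
  have h3 : IsIso (((Scheme.pointSmallEtale (ζ ≫ f)).sheafFiber (A := Type (u + 1))).map a) := by
    rw [e]
    infer_instance
  exact (isIso_iff_bijective _).mp h3

theorem main {X' X : Scheme.{u}} (f : X' ⟶ X) [Surjective f] :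
    (EtDesc.pullSh f).Faithful ∧ (EtDesc.pullSh f).ReflectsIsomorphisms := by
  have hr := reflects f
  refine ⟨?_, hr⟩
  have h1 : JointlyReflectIsomorphisms (fun _ : Unit => EtDesc.pullSh f) :=
    ⟨fun a h => by
      have : IsIso ((EtDesc.pullSh f).map a) := h ()
      exact isIso_of_reflects_iso a (EtDesc.pullSh f)⟩
  have h2 := h1.jointlyFaithful
  exact ⟨fun {_ _ a b} hab => h2.map_injective (fun _ => hab)⟩

/-- For a surjective morphism of schemes f : X' -> X, the inverse image functor f^* on sheaves of sets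
for the small etale sites is faithful and reflects isomorphisms. -/
theorem result {X' X : Scheme.{u}} (f : X' ⟶ X) [Surjective f] :
    (EtDesc.pullSh f).Faithful ∧ (EtDesc.pullSh f).ReflectsIsomorphisms := by
  exact main f

end Groth.Agent.S3047
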