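import Groth.Statements.S3055
import Mathlib.AlgebraicGeometry.Sites.EtalePoint

set_option autoImplicit false
open CategoryTheory CategoryTheory.Limits AlgebraicGeometry Opposite
universe u
open EtDesc

namespace Groth.Agent.S3055

section general

variable {Y : Scheme.{u}}

/-- morphisms to the terminal object of the small etale site agree -/
theorem hom_top_ext {N : Y.Etale} (a b : N ⟶ EtCoh.top Y) : a = b :=
  (EtCore.topIsTerminal Y).hom_ext a b

/-- morphisms of the small etale site are etale -/
theorem etale_left {U V : Y.Etale} (g : V ⟶ U) : AlgebraicGeometry.Etale g.left := by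
  have h1 : AlgebraicGeometry.Etale V.hom := V.prop
  have h2 : AlgebraicGeometry.Etale U.hom := U.prop
  have e : g.left ≫ U.hom = V.hom := MorphismProperty.Over.w g
  have h3 : AlgebraicGeometry.Etale (g.left ≫ U.hom) := e ▸ h1
  exact MorphismProperty.of_postcomp (W := @AlgebraicGeometry.Etale)
    (W' := @AlgebraicGeometry.Etale) g.left U.hom h2 h3

/-- covering criterion for sieves of the small etale site -/
theorem mem_smallEtaleTopology (V : Y.Etale) (R : Sieve V)
    (h : ∀ x : V.left, ∃ (W : Y.Etale) (f : W ⟶ V) (y : W.left), R f ∧ f.left.base y = x) :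
    R ∈ Y.smallEtaleTopology V := by
  have eY : Y.smallEtaleTopology =
      (Y.smallPretopology (P := EtCoh.etaleMP) (Q := EtCoh.etaleMP)).toGrothendieck :=
    Scheme.smallGrothendieckTopology_eq_toGrothendieck_smallPretopology Y le_rfl
  rw [eY]
  refine (Scheme.mem_toGrothendieck_smallPretopology V R).2 ?_
  intro x
  obtain ⟨W, f, y, hf, hy⟩ := h x
  exact ⟨W, f, y, hf, etale_left f, hy⟩

theorem exists_of_mem_smallEtaleTopology (V : Y.Etale) (R : Sieve V)
    (hR : R ∈ Y.smallEtaleTopology V) (x : V.left) :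
    ∃ (W : Y.Etale) (f : W ⟶ V) (y : W.left), R f ∧ f.left.base y = x := by
  have eY : Y.smallEtaleTopology =
      (Y.smallPretopology (P := EtCoh.etaleMP) (Q := EtCoh.etaleMP)).toGrothendieck :=
    Scheme.smallGrothendieckTopology_eq_toGrothendieck_smallPretopology Y le_rfl
  rw [eY] at hR
  obtain ⟨W, f, y, hf, -, hy⟩ := (Scheme.mem_toGrothendieck_smallPretopology V R).1 hR x
  exact ⟨W, f, y, hf, hy⟩

end general

section

variable (k : Type u) [Field k] [IsSepClosed k]

/-- `Spec k` -/
noncomputable abbrev X : Scheme.{u} := Spec (CommRingCat.of k)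

/-- the terminal object of the small etale site -/
noncomputable abbrev T : (X k).Etale := EtCoh.top (X k)

theorem subsingleton_X : Subsingleton ↥(X k) := by
  change Subsingleton (PrimeSpectrum k)
  infer_instance

/-- the point of `Spec k` -/
noncomputable def pt : ↥(T k).left := (default : ↥(Spec (CommRingCat.of k)))

/-- every point of an etale `k`-scheme is the image of a section -/
theorem exists_section (U : (X k).Etale) (x : U.left) :
    ∃ l : T k ⟶ U, l.left.base (pt k) = x := by
  obtain ⟨f, hf⟩ : ∃ f : U.left ⟶ X k, f = U.hom := ⟨_, rfl⟩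
  have hU : AlgebraicGeometry.Etale f := hf ▸ U.prop
  have hx : f x = (𝟙 (X k) : Spec (CommRingCat.of k) ⟶ X k) default :=
    (subsingleton_X k).elim _ _
  obtain ⟨l, hl1, hl2⟩ := Scheme.exists_fac_of_etale_of_isSepClosed f (𝟙 (X k)) x hx
  exact ⟨MorphismProperty.Over.homMk l (hf ▸ hl1) trivial, hl2⟩

/-- (Lemma A) every covering sieve contains every section -/
theorem mem_of_covering (U : (X k).Etale) (S : Sieve U) (hS : S ∈ (X k).smallEtaleTopology U)
    (l : T k ⟶ U) : S.arrows l := by
  have h1 : S.pullback l ∈ (X k).smallEtaleTopology (T k) :=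
    (X k).smallEtaleTopology.pullback_stable l hS
  obtain ⟨W, g, w, hg, -⟩ := exists_of_mem_smallEtaleTopology (T k) (S.pullback l) h1 (pt k)
  obtain ⟨m, -⟩ := exists_section k W w
  have h2 : S.arrows (m ≫ g ≫ l) := S.downward_closed hg m
  have h3 : m ≫ g = 𝟙 (T k) := hom_top_ext _ _
  have h4 : m ≫ g ≫ l = l := by
    rw [← Category.assoc, h3, Category.id_comp]
  exact h4 ▸ h2

/-- (Lemma B) the sections cover -/
theorem sections_cover (U : (X k).Etale) :
    Sieve.ofArrows (fun _ : (T k ⟶ U) => T k) (fun l => l) ∈ (X k).smallEtaleTopology U := by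
  apply mem_smallEtaleTopology
  intro x
  obtain ⟨l, hl⟩ := exists_section k U x
  exact ⟨T k, l, pt k, Sieve.ofArrows_mk _ _ l, hl⟩

end

section

variable {k : Type u} [Field k] [IsSepClosed k]

theorem map_map {C : Type*} [Category C] (P : Cᵒᵖ ⥤ Type (u + 1)) {A B D : C} (f : A ⟶ B) (g : B ⟶ D)
    (y : P.obj (op D)) : P.map f.op (P.map g.op y) = P.map (f ≫ g).op y :=
  (P.map_comp_apply g.op f.op y).symm

theorem map_id' {C : Type*} [Category C] (P : Cᵒᵖ ⥤ Type (u + 1)) {A : C} (f : A ⟶ A) (hf : f = 𝟙 A)
    (y : P.obj (op A)) : P.map f.op y = y := by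
  subst hf
  exact P.map_id_apply (op A) y

/-- sheaf condition for the covering by sections -/
theorem isSheafFor_sections (F : Sheaf (X k).smallEtaleTopology (Type (u + 1))) (U : (X k).Etale) :
    Presieve.IsSheafFor F.obj (Presieve.ofArrows (fun _ : (T k ⟶ U) => T k) (fun l => l)) :=
  (Presieve.isSheafFor_iff_generate _).2
    ((isSheaf_iff_isSheaf_of_type _ _).1 F.property _ (sections_cover k U))

theorem ev_injective (F : Sheaf (X k).smallEtaleTopology (Type (u + 1))) (U : (X k).Etale)
    (a b : F.obj.obj (op U)) (h : ∀ l : T k ⟶ U, F.obj.map l.op a = F.obj.map l.op b) : a = b := by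
  refine (isSheafFor_sections F U).isSeparatedFor.ext ?_
  rintro _ _ ⟨l⟩
  exact h l

theorem ev_surjective (F : Sheaf (X k).smallEtaleTopology (Type (u + 1))) (U : (X k).Etale)
    (x : (T k ⟶ U) → F.obj.obj (op (T k))) :
    ∃ s : F.obj.obj (op U), ∀ l, F.obj.map l.op s = x l := by
  have h := (Presieve.isSheafFor_arrows_iff _ _).1 (isSheafFor_sections F U) x ?_
  · exact h.exists
  · intro l l' Z gi gj hg
    apply ev_injective F Z
    intro m
    have e1 : m ≫ gi = 𝟙 (T k) := hom_top_ext _ _
    have e2 : m ≫ gj = 𝟙 (T k) := hom_top_ext _ _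
    have e3 : l = l' := by
      calc l = (m ≫ gi) ≫ l := by rw [e1, Category.id_comp]
        _ = (m ≫ gj) ≫ l' := by rw [Category.assoc, hg, Category.assoc]
        _ = l' := by rw [e2, Category.id_comp]
    subst e3
    rw [map_map, map_map, map_id' F.obj _ e1, map_id' F.obj _ e2]

variable (k)

/-- the global sections functor -/
noncomputable abbrev Γ : Sheaf (X k).smallEtaleTopology (Type (u + 1)) ⥤ Type (u + 1) :=
  (sheafSections (X k).smallEtaleTopology (Type (u + 1))).obj (op (T k))

theorem faithful : (Γ k).Faithful := by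
  refine ⟨fun {F G} φ ψ h => ?_⟩
  apply Sheaf.hom_ext
  apply NatTrans.ext
  funext V
  obtain ⟨U⟩ := V
  apply ConcreteCategory.hom_ext
  intro s
  apply ev_injective G U
  intro l
  have n1 := NatTrans.naturality_apply φ.hom l.op s
  have n2 := NatTrans.naturality_apply ψ.hom l.op s
  have h' : φ.hom.app (op (T k)) = ψ.hom.app (op (T k)) := h
  rw [← n1, ← n2, h']

variable {k}

/-- the components of the preimage of a map on global sections -/
noncomputable def preApp (F G : Sheaf (X k).smallEtaleTopology (Type (u + 1)))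
    (h : F.obj.obj (op (T k)) → G.obj.obj (op (T k))) (U : (X k).Etale) (s : F.obj.obj (op U)) :
    G.obj.obj (op U) :=
  (ev_surjective G U (fun l => h (F.obj.map l.op s))).choose

theorem preApp_spec (F G : Sheaf (X k).smallEtaleTopology (Type (u + 1)))
    (h : F.obj.obj (op (T k)) → G.obj.obj (op (T k))) (U : (X k).Etale) (s : F.obj.obj (op U))
    (l : T k ⟶ U) : G.obj.map l.op (preApp F G h U s) = h (F.obj.map l.op s) :=
  (ev_surjective G U (fun l => h (F.obj.map l.op s))).choose_spec l

theorem preApp_naturality (F G : Sheaf (X k).smallEtaleTopology (Type (u + 1)))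
    (h : F.obj.obj (op (T k)) → G.obj.obj (op (T k))) {U U' : (X k).Etale} (g : U' ⟶ U)
    (s : F.obj.obj (op U)) :
    preApp F G h U' (F.obj.map g.op s) = G.obj.map g.op (preApp F G h U s) := by
  apply ev_injective G U'
  intro l
  rw [preApp_spec, map_map, map_map, preApp_spec]

theorem preApp_top (F G : Sheaf (X k).smallEtaleTopology (Type (u + 1)))
    (h : F.obj.obj (op (T k)) → G.obj.obj (op (T k))) (s : F.obj.obj (op (T k))) :
    preApp F G h (T k) s = h s := by
  have e := preApp_spec F G h (T k) s (𝟙 (T k))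
  rw [map_id' G.obj _ rfl, map_id' F.obj _ rfl] at e
  exact e

/-- the preimage of a map on global sections -/
noncomputable def preHom (F G : Sheaf (X k).smallEtaleTopology (Type (u + 1)))
    (h : F.obj.obj (op (T k)) → G.obj.obj (op (T k))) : F.obj ⟶ G.obj where
  app V := TypeCat.ofHom (preApp F G h V.unop)
  naturality V V' f := by
    apply ConcreteCategory.hom_ext
    intro s
    exact preApp_naturality F G h f.unop s

variable (k)

theorem full : (Γ k).Full := by
  refine ⟨fun {F G} h => ⟨ObjectProperty.homMk (preHom F G (fun s => h s)), ?_⟩⟩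
  apply ConcreteCategory.hom_ext
  intro s
  exact preApp_top F G (fun s => h s) s

/-- the presheaf `U ↦ (U(k) → S₀)` -/
noncomputable def P (S₀ : Type (u + 1)) : (X k).Etaleᵒᵖ ⥤ Type (u + 1) where
  obj V := (T k ⟶ V.unop) → S₀
  map {V V'} f := TypeCat.ofHom (fun x l => x (l ≫ f.unop))
  map_id V := by
    apply ConcreteCategory.hom_ext
    intro x
    funext l
    change x (l ≫ 𝟙 _) = x l
    rw [Category.comp_id]
  map_comp {V V' V''} f g := by
    apply ConcreteCategory.hom_ext
    intro x
    funext l
    change x (l ≫ g.unop ≫ f.unop) = x ((l ≫ g.unop) ≫ f.unop)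
    rw [Category.assoc]

theorem P_map_apply (S₀ : Type (u + 1)) {U U' : (X k).Etale} (g : U' ⟶ U)
    (x : (T k ⟶ U) → S₀) (l : T k ⟶ U') : ((P k S₀).map g.op x : (T k ⟶ U') → S₀) l = x (l ≫ g) := rfl

theorem P_isSheaf (S₀ : Type (u + 1)) : Presieve.IsSheaf (X k).smallEtaleTopology (P k S₀) := by
  intro U S hS x hx
  have hx' := (Presieve.compatible_iff_sieveCompatible x).1 hx
  have key : ∀ {V : (X k).Etale} (f : V ⟶ U) (hf : S.arrows f) (m : T k ⟶ V),
      (x (m ≫ f) (S.downward_closed hf m) : (T k ⟶ T k) → S₀) (𝟙 (T k)) =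
        (x f hf : (T k ⟶ V) → S₀) m := by
    intro V f hf m
    have e1 := hx' f m hf
    have e2 := congrFun e1 (𝟙 (T k))
    rw [P_map_apply, Category.id_comp] at e2
    exact e2
  refine ⟨fun l => (x l (mem_of_covering k U S hS l) : (T k ⟶ T k) → S₀) (𝟙 (T k)), ?_, ?_⟩
  · intro V f hf
    funext m
    rw [P_map_apply]
    exact key f hf m
  · intro t' ht'
    funext l
    have e1 := ht' l (mem_of_covering k U S hS l)
    have e2 := congrFun e1 (𝟙 (T k))
    rw [P_map_apply, Category.id_comp] at e2
    exact e2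

noncomputable instance : Unique (T k ⟶ T k) where
  default := 𝟙 _
  uniq _ := hom_top_ext _ _

theorem essSurj : (Γ k).EssSurj := by
  refine ⟨fun S₀ => ⟨⟨P k S₀, (isSheaf_iff_isSheaf_of_type _ _).2 (P_isSheaf k S₀)⟩, ⟨?_⟩⟩⟩
  exact (Equiv.funUnique (T k ⟶ T k) S₀).toIso

theorem main : (Γ k).IsEquivalence := by
  exact ⟨faithful k, full k, essSurj k⟩

end

/-- For a separably closed field k and X = Spec k, the global sections functor from sheaves of sets on
X_et (valued one universe up) to sets is an equivalence of categories. -/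
theorem result (k : Type u) [Field k] [IsSepClosed k] :
    ((sheafSections (Spec (CommRingCat.of k)).smallEtaleTopology (Type (u + 1))).obj
      (op (EtCoh.top (Spec (CommRingCat.of k))))).IsEquivalence := by
  exact main k

end Groth.Agent.S3055
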