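import Groth.Statements.S3064
import Mathlib
import Groth.Agent.Lib.Helper21.ToposKit3
-- import your own Groth.Agent.* helpers here

set_option autoImplicit false
open CategoryTheory CategoryTheory.Limits Opposite
universe u
open ToposFin

namespace Groth.Agent.S3064

open Groth.Agent.Lib.helper21.ToposKit Groth.Agent.Lib.helper23 in
theorem hloc {C : Type u} [SmallCategory C] {J : GrothendieckTopology C}
    (hE : ToposFin.HasQCGenerators J) {Y : ToposFin.Sh J} {ι : Type u} (Yi : ι → ToposFin.Sh J)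
    (g : ∀ i, Yi i ⟶ Y) (hg' : JLS g) {B : ToposFin.Sh J} (b : B ⟶ Y) (T : ToposFin.Sh J)
    (t : T ⟶ B) :
    ∃ (κ : Type u) (Q : κ → ToposFin.Sh J) (c : ∀ k, Q k ⟶ T), (∀ k, ToposFin.IsQC (Q k)) ∧ JLS c ∧
      ∀ k, ∃ (i : ι) (d : Q k ⟶ Yi i), d ≫ g i = c k ≫ t ≫ b := by
  have h1 : JLS (fun i => pullback.snd (g i) (t ≫ b)) :=
    hg'.baseChange (t ≫ b) (fun i => pullback.fst _ _) _ (fun i => IsPullback.of_hasPullback _ _)
  obtain ⟨κ, Q, c, hQ, hc, hfac⟩ := h1.exists_qc_refinement hE
  refine ⟨κ, Q, c, hQ, hc, ?_⟩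
  intro k
  obtain ⟨i, φ, hφ⟩ := hfac k
  refine ⟨i, φ ≫ pullback.fst (g i) (t ≫ b), ?_⟩
  rw [Category.assoc, pullback.condition, ← Category.assoc, hφ]

set_option backward.isDefEq.respectTransparency false in
theorem fac_aux {D : Type*} [Category D] [HasPullbacks D] {X Y Yi Q T : D} (f : X ⟶ Y)
    (gi : Yi ⟶ Y) (c : Q ⟶ T) (t : T ⟶ pullback f f) (d : Q ⟶ Yi)
    (hd : d ≫ gi = c ≫ t ≫ pullback.fst f f ≫ f) :
    ∃ t' : Q ⟶ pullback (pullback.snd f gi) (pullback.snd f gi),
      t' ≫ pullback.map _ _ f f (pullback.fst f gi) (pullback.fst f gi) gi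
        (IsPullback.of_hasPullback f gi).w.symm (IsPullback.of_hasPullback f gi).w.symm = c ≫ t := by
  have e1 : (c ≫ t ≫ pullback.fst f f) ≫ f = d ≫ gi := by
    rw [hd]; simp
  have e2 : (c ≫ t ≫ pullback.snd f f) ≫ f = d ≫ gi := by
    rw [hd]; simp [pullback.condition]
  refine ⟨pullback.lift (pullback.lift (c ≫ t ≫ pullback.fst f f) d e1)
    (pullback.lift (c ≫ t ≫ pullback.snd f f) d e2) (by simp), ?_⟩
  apply pullback.hom_ext <;> simp [pullback.map]

/-- For a topos of sheaves of sets on a small site admitting a generating family of quasi-compact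
objects: for a jointly epimorphic family (Y_i -> Y), a morphism f : X -> Y is quasi-compact (resp.
quasi-separated) if and only if all its base changes X x_Y Y_i -> Y_i are. -/
theorem result {C : Type u} [SmallCategory C] {J : GrothendieckTopology C} (hE : ToposFin.HasQCGenerators J) {X Y : ToposFin.Sh J}
    (f : X ⟶ Y) {ι : Type u} (Yi : ι → ToposFin.Sh J) (g : ∀ i, Yi i ⟶ Y) (hg : Epi (Sigma.desc g)) :
    (ToposFin.IsQCHom f ↔ ∀ i, ToposFin.IsQCHom (pullback.snd f (g i))) ∧
    (ToposFin.IsQSHom f ↔ ∀ i, ToposFin.IsQSHom (pullback.snd f (g i))) := by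
  have hg' := (Groth.Agent.Lib.helper21.ToposKit.epi_sigmaDesc_iff_jls g).1 hg
  constructor
  · constructor
    · intro h i
      exact Groth.Agent.Lib.helper23.QCHom.isQCHom_of_isPullback (IsPullback.of_hasPullback f (g i)) h
    · intro h
      refine Groth.Agent.Lib.helper21.ToposKit.isQCHom_of_local f (fun i => pullback.fst f (g i))
        (fun i => pullback.snd f (g i)) g (fun i => IsPullback.of_hasPullback _ _) h ?_
      intro T t hT
      obtain ⟨κ, Q, c, hQ, hc, hfac⟩ := hloc hE Yi g hg' (𝟙 Y) T t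
      refine ⟨κ, Q, c, hQ, hc, ?_⟩
      intro k
      obtain ⟨i, d, hd⟩ := hfac k
      exact ⟨i, d, by simpa using hd⟩
  · constructor
    · intro h i
      exact Groth.Agent.Lib.helper23.QCHom.isQCHom_of_isPullback
        (Groth.Agent.Lib.helper21.ToposKit.isPullback_diagonal (IsPullback.of_hasPullback f (g i))) h
    · intro h
      refine Groth.Agent.Lib.helper21.ToposKit.isQCHom_of_local (pullback.diagonal f)
        (fun i => pullback.fst f (g i))
        (fun i => pullback.diagonal (pullback.snd f (g i)))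
        (fun i => pullback.map _ _ f f (pullback.fst f (g i)) (pullback.fst f (g i)) (g i)
          (IsPullback.of_hasPullback f (g i)).w.symm (IsPullback.of_hasPullback f (g i)).w.symm)
        (fun i => Groth.Agent.Lib.helper21.ToposKit.isPullback_diagonal
          (IsPullback.of_hasPullback f (g i))) h ?_
      intro T t hT
      obtain ⟨κ, Q, c, hQ, hc, hfac⟩ := hloc hE Yi g hg' (pullback.fst f f ≫ f) T t
      refine ⟨κ, Q, c, hQ, hc, ?_⟩
      intro k
      obtain ⟨i, d, hd⟩ := hfac k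
      obtain ⟨t', ht'⟩ := fac_aux f (g i) (c k) t d hd
      exact ⟨i, t', ht'⟩

end Groth.Agent.S3064
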