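import Groth.Statements.S3067
import Groth.Agent.Lib.Helper14.Topos4

set_option autoImplicit false
open CategoryTheory CategoryTheory.Limits Opposite
universe u
open ToposFin

namespace Groth.Agent.S3067

/-- In the topos of sheaves of sets on a small site that admits a generating family of quasi-compact
objects, let (g_i : Y_i → Y) be a jointly epimorphic family of morphisms with every Y_i coherent.
Then Y is quasi-separated if and only if every g_i is quasi-compact, and Y is quasi-separated if and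
only if every fibre product Y_i ×_Y Y_j is quasi-compact. -/
theorem result {C : Type u} [SmallCategory C] {J : GrothendieckTopology C} (hE : ToposFin.HasQCGenerators J) {Y : ToposFin.Sh J} {ι : Type u}
    (Yi : ι → ToposFin.Sh J) (g : ∀ i, Yi i ⟶ Y) (hg : Epi (Sigma.desc g)) (hY : ∀ i, ToposFin.IsCoherent (Yi i)) :
    (ToposFin.IsQS Y ↔ ∀ i, ToposFin.IsQCHom (g i)) ∧
    (ToposFin.IsQS Y ↔ ∀ i j, ToposFin.IsQC (pullback (g i) (g j))) := by
  have hg' := Groth.Agent.Lib.Helper14.Topos.epi_sigmaDesc_iff_jsurj.1 hg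
  have h1 : ToposFin.IsQS Y → ∀ i, ToposFin.IsQCHom (g i) := fun hQ i Y' t hY' =>
    hQ _ _ (g i) t (hY i).1 hY'
  have h2 : (∀ i, ToposFin.IsQCHom (g i)) → ToposFin.IsQS Y := fun h =>
    Groth.Agent.Lib.Helper14.Topos.isQS_of_jsurj_qs_qcHom hE Yi g hg' (fun i => (hY i).2) h
  refine ⟨⟨h1, h2⟩, ⟨fun hQ i j => hQ _ _ (g i) (g j) (hY i).1 (hY j).1, fun h => h2 (fun i => ?_)⟩⟩
  exact Groth.Agent.Lib.Helper14.Topos.isQCHom_of_cover_pullbacks_qc hE (g i) Yi g hg'
    (fun j => (hY j).2) (fun j => h i j)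

end Groth.Agent.S3067
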