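import Groth.Statements.S3078
import Groth.Agent.Lib.Helper14.Giraud6

set_option autoImplicit false
universe v u
open CategoryTheory
open SGA4

namespace Groth.Agent.S3078

open CategoryTheory.Limits in
/-- Implication ii) ⇒ i): let E be a category whose hom sets are u-small. Assume (a) E has finite
limits, (b) every u-small family of objects has a coproduct which is disjoint and stable under base
change, (c) every equivalence relation in E is effective with a universally effective-epimorphic
quotient map, and (d) E has a u-small family of objects which detects isomorphisms (a generating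
family). Then E is equivalent to the category of sheaves of u-small sets on some u-small site. -/
theorem result {E : Type v} [Category.{u} E] [HasFiniteLimits E]
    (hb : SGA4.HasDisjointUniversalCoproducts.{v, u} E)
    (hc : ∀ (R A : E) (p₁ p₂ : R ⟶ A), SGA4.IsEquivRel p₁ p₂ → SGA4.IsEffectiveUniversalEquivRel p₁ p₂)
    (hd : ∃ P : ObjectProperty E, ObjectProperty.Small.{u} P ∧ P.IsDetecting) :
    SGA4.IsTopos.{v, u} E := by
  obtain ⟨P, hPsmall, hPdet⟩ := hd
  haveI := hPsmall
  let C := SmallModel.{u} P.FullSubcategory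
  let i : C ⥤ E := (equivSmallModel.{u} P.FullSubcategory).inverse ⋙ P.ι
  have hi : ∀ ⦃X Y : E⦄ (f : X ⟶ Y),
      (∀ (c : C) (h : i.obj c ⟶ Y), ∃! h' : i.obj c ⟶ X, h' ≫ f = h) → IsIso f := by
    intro X Y f hf
    apply hPdet
    intro G hG h
    let c : C := (equivSmallModel.{u} P.FullSubcategory).functor.obj ⟨G, hG⟩
    let ε : G ≅ i.obj c :=
      P.ι.mapIso ((equivSmallModel.{u} P.FullSubcategory).unitIso.app ⟨G, hG⟩)
    obtain ⟨h', hh', huniq⟩ := hf c (ε.inv ≫ h)
    refine ⟨ε.hom ≫ h', by simp [hh'], fun k hk => ?_⟩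
    have h2 := huniq (ε.inv ≫ k) (by simp [hk])
    rw [← h2]
    simp
  haveI := Groth.Agent.Lib.Helper14.Giraud.isCoverDense_of_detecting hb hc i hi
  have hes : (Groth.Agent.Lib.Helper14.Giraud.hF i).EssSurj := ⟨fun F => by
    obtain ⟨B, ⟨e⟩⟩ := Groth.Agent.Lib.Helper14.Giraud.exists_iso_hF_obj i hb hc F
    exact ⟨B, ⟨e⟩⟩⟩
  have heq : (Groth.Agent.Lib.Helper14.Giraud.hF i).IsEquivalence := {}
  exact ⟨C, inferInstance, Groth.Agent.Lib.Helper14.Giraud.Jtop i,
    ⟨(Groth.Agent.Lib.Helper14.Giraud.hF i).asEquivalence⟩⟩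

end Groth.Agent.S3078
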