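import Groth.Statements.S3082
import Groth.Agent.Lib.Helper14.Topos9
import Mathlib.CategoryTheory.Generator.Basic

set_option autoImplicit false
universe u
open CategoryTheory
open SGA4

namespace Groth.Agent.S3082

open Groth.Agent.Lib.Helper14.Topos Opposite in
/-- Let (C, J) be a small site and G a set of objects of C such that each object of C has a covering
family whose members all lie in G. Then the sheafifications of the presheaves represented by the
members of G form a detecting family in the category Sh(C, J) of set-valued sheaves on (C, J): any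
morphism of sheaves that is bijective on sections over each member of G is an isomorphism. -/
theorem result {C : Type u} [SmallCategory C] (J : GrothendieckTopology C) (G : Set C)
    (hG : ∀ X : C, ∃ (ι : Type u) (Y : ι → C) (f : ∀ i, Y i ⟶ X), Sieve.ofArrows Y f ∈ J X ∧ ∀ i, Y i ∈ G) :
    (ObjectProperty.ofObj fun X : G => (presheafToSheaf J (Type u)).obj (yoneda.obj (X : C))).IsDetecting := by
  intro F F' φ hφ
  -- bijectivity on sections over members of `G`
  have hbij : ∀ Y : C, Y ∈ G → Function.Bijective (φ.hom.app (op Y)) := by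
    intro Y hY
    have h := hφ _ (ObjectProperty.ofObj_apply _ ⟨Y, hY⟩)
    constructor
    · intro a b hab
      have h1 : secMap F a ≫ φ = secMap F b ≫ φ := by
        rw [secMap_comp, secMap_comp, hab]
      obtain ⟨t, -, ht⟩ := h (secMap F a ≫ φ)
      have e1 : secMap F a = secMap F b := (ht _ rfl).trans (ht _ h1.symm).symm
      have := sec_congr e1 (op Y) (secOf J (𝟙 Y))
      rwa [secMap_secOf_id, secMap_secOf_id] at this
    · intro b
      obtain ⟨t, ht, -⟩ := h (secMap F' b)
      refine ⟨t.hom.app (op Y) (secOf J (𝟙 Y)), ?_⟩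
      have := sec_congr ht (op Y) (secOf J (𝟙 Y))
      rwa [sec_comp, secMap_secOf_id] at this
  -- injectivity on all sections
  have hinj : ∀ U : C, Function.Injective (φ.hom.app (op U)) := by
    intro U a b hab
    obtain ⟨ι, Y, f, hf, hY⟩ := hG U
    apply (((isSheaf_iff_isSheaf_of_type _ _).1 F.2).isSeparated _ hf).ext
    rintro V g ⟨W, h, k, ⟨i⟩, rfl⟩
    rw [op_comp, Functor.map_comp]
    change F.obj.map h.op (F.obj.map (f i).op a) = F.obj.map h.op (F.obj.map (f i).op b)
    congr 1
    apply (hbij _ (hY i)).1
    rw [sec_naturality, sec_naturality, hab]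
  have hmono : Mono φ := by
    apply (sheafToPresheaf J _).mono_of_mono_map
    have hm : ∀ U : Cᵒᵖ, Mono (φ.hom.app U) := fun U => (mono_iff_injective _).2 (hinj U.unop)
    exact NatTrans.mono_of_mono_app φ.hom
  have hepi : Epi φ := by
    rw [epi_iff_jsurj]
    intro U x
    obtain ⟨ι, Y, f, hf, hY⟩ := hG U
    refine ⟨_, hf, ?_⟩
    rintro V g ⟨W, h, k, ⟨i⟩, rfl⟩
    obtain ⟨y, hy⟩ := (hbij _ (hY i)).2 (F'.obj.map (f i).op x)
    refine ⟨PUnit.unit, F.obj.map h.op y, ?_⟩
    rw [sec_naturality, hy, op_comp, Functor.map_comp]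
    rfl
  exact isIso_of_mono_of_epi φ

end Groth.Agent.S3082
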