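import Groth.Statements.S3086
import Groth.Agent.Lib.Helper14.Artin5
import Groth.Agent.S3078
import Mathlib.CategoryTheory.Presentable.Type

set_option autoImplicit false
universe u
open CategoryTheory
open SGA4

namespace Groth.Agent.S3086

open CategoryTheory.Limits in
/-- For sheaf topoi on small sites): let ρ be a functor from sheaves of sets on (C, J) to sheaves of
sets on (D, K) which preserves finite limits and is accessible. Then the glued category of triples
(Y, X, Y -> ρ X) is a topos. -/
theorem result {C D : Type u} [SmallCategory C] [SmallCategory D] (J : GrothendieckTopology C)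
    (K : GrothendieckTopology D) (ρ : Sheaf J (Type u) ⥤ Sheaf K (Type u)) [PreservesFiniteLimits ρ]
    [ρ.IsAccessible.{u}] :
    SGA4.IsTopos.{u + 1, u} (Comma (𝟭 (Sheaf K (Type u))) ρ) := by
  obtain ⟨κ, hκ, hacc⟩ := Functor.IsAccessible.exists_cardinal (F := ρ)
  haveI := hκ
  haveI := hacc
  obtain ⟨P₀, hsmall, hgen⟩ :=
    HasCardinalFilteredGenerator.exists_small_generator (Cᵒᵖ ⥤ Type u) κ
  apply Groth.Agent.S3078.result
    (Groth.Agent.Lib.Helper14.Artin.hasDisjointUniversalCoproducts_glue ρ)
    (fun R A p₁ p₂ h => Groth.Agent.Lib.Helper14.Artin.isEffectiveUniversalEquivRel_glue ρ p₁ p₂ h)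
  refine ⟨ObjectProperty.ofObj (Groth.Agent.Lib.Helper14.Artin.genObj ρ P₀) ⊔
    ObjectProperty.ofObj (Groth.Agent.Lib.Helper14.Artin.genObj' ρ), ?_, ?_⟩
  · haveI : Small.{u} (Subtype P₀) := hsmall
    haveI : Small.{u} (Groth.Agent.Lib.Helper14.Artin.GenIdx ρ P₀) := by
      unfold Groth.Agent.Lib.Helper14.Artin.GenIdx
      infer_instance
    infer_instance
  · intro X₁ X₂ f hf
    apply Groth.Agent.Lib.Helper14.Artin.isIso_of_gen ρ P₀ κ hgen f
    · intro i m
      exact hf _ (Or.inl ⟨i⟩) m
    · intro c m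
      exact hf _ (Or.inr ⟨c⟩) m

end Groth.Agent.S3086
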