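import Groth.Statements.S3089
import Mathlib
import Groth.Agent.Lib.Helper21.ExtPushout
-- import your own Groth.Agent.* helpers here

set_option autoImplicit false
universe u
open CategoryTheory
open CohSite

namespace Groth.Agent.S3089

open Opposite in
/-- For abelian sheaves on the topos of sheaves of sets on a small site: let F be an abelian sheaf which
is totally acyclic, i.e. H^q(X, F) = 0 for every sheaf of sets X and every q > 0, and let Y -> X be
a monomorphism of sheaves of sets. Then the restriction map H^0(X, F) -> H^0(Y, F) is surjective. -/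
theorem result {C : Type u} [SmallCategory C] {J : GrothendieckTopology C}
    (F : Sheaf J AddCommGrpCat.{u}) (hF : CohCx.IsTotallyAcyclic F) {Y X : Sheaf J (Type u)} (ι : Y ⟶ X) [Mono ι] :
    Function.Surjective ((CohCx.HK0Functor J F).map ι.op) := by
  intro s
  let Zf : Sheaf J (Type u) ⥤ Sheaf J AddCommGrpCat.{u} :=
    sheafToPresheaf J (Type u) ⋙ (Functor.whiskeringRight _ _ _).obj AddCommGrpCat.free.{u} ⋙
      presheafToSheaf J AddCommGrpCat.{u}
  have adj : Zf ⊣ sheafCompose J (forget AddCommGrpCat.{u}) := Sheaf.adjunction J AddCommGrpCat.adj.{u}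
  haveI : Limits.PreservesColimitsOfSize.{0, 0} Zf := adj.leftAdjoint_preservesColimits
  let T : Sheaf J (Type u) := ⊤_ _
  let p : Y ⟶ T := Limits.terminal.from Y
  let pX : X ⟶ T := Limits.terminal.from X
  have hsq : IsPushout ι p (Limits.pushout.inl ι p) (Limits.pushout.inr ι p) :=
    IsPushout.of_hasPushout ι p
  have hsq' := hsq.map Zf
  haveI : Mono (Zf.map ι) := by
    dsimp only [Zf, Functor.comp_map]
    infer_instance
  have hp : Zf.map ι ≫ Zf.map pX = Zf.map p := by
    rw [← Zf.map_comp]
    congr 1
    exact Subsingleton.elim _ _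
  obtain ⟨t, ht⟩ := Groth.Agent.Lib.Helper21.ExtPushout.exists_extension (Zf.map ι) (Zf.map p)
    (Zf.map pX) hp _ _ hsq' (hF (Limits.pushout ι p) 0) s
  exact ⟨t, ht⟩

end Groth.Agent.S3089
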