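import Groth.Statements.S3090
import Mathlib
import Groth.Agent.Lib.Helper21.PullFree
import Groth.Agent.Lib.Helper27.ExtAdj
import Groth.Agent.S0865
-- import your own Groth.Agent.* helpers here

set_option autoImplicit false
universe u
open CategoryTheory
open CohSite

namespace Groth.Agent.S3090

open CategoryTheory.Limits in
/-- Let C and D be small sites, D having finite limits, and u : D ⥤ C a continuous functor which
preserves finite limits and sends coverings to coverings (so that u defines a morphism of sites, and
of the associated topoi). If F is a flasque (totally acyclic) abelian sheaf on C, then its direct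
image V ↦ F(u(V)) is a flasque abelian sheaf on D. -/
theorem result {C D : Type u} [SmallCategory C] [SmallCategory D]
    [HasFiniteLimits D] (J : GrothendieckTopology C) (K : GrothendieckTopology D) (u : D ⥤ C)
    (hu : CoverPreserving K J u) [PreservesFiniteLimits u] [u.IsContinuous K J]
    (F : Sheaf J AddCommGrpCat.{u}) (hF : CohCx.IsTotallyAcyclic F) :
    CohCx.IsTotallyAcyclic ((CohSite.push J K u).obj F) := by
  intro K' p
  haveI : RepresentablyFlat u := flat_of_preservesFiniteLimits u
  let Linv := u.sheafPullback AddCommGrpCat.{u} K J
  let adj : Linv ⊣ CohSite.push J K u := u.sheafAdjunctionContinuous AddCommGrpCat.{u} K J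
  haveI : PreservesFiniteLimits Linv := by
    apply Functor.SmallCategories.instPreservesFiniteLimitsSheafSheafPullbackOfRepresentablyFlat
  haveI : PreservesColimitsOfSize.{0, 0} Linv := adj.leftAdjoint_preservesColimits
  haveI : PreservesFiniteColimits Linv := inferInstance
  haveI : PreservesLimitsOfSize.{0, 0} (CohSite.push J K u) := adj.rightAdjoint_preservesLimits
  haveI : PreservesFiniteLimits (CohSite.push J K u) := inferInstance
  haveI : (CohSite.push J K u).Additive := Functor.additive_of_preserves_binary_products _
  haveI : Linv.Additive := adj.left_adjoint_additive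
  have hFz : ∀ i : ℕ, 0 < i → Limits.IsZero (((CohSite.push J K u).rightDerived i).obj F) := by
    intro i hi
    obtain ⟨j, rfl⟩ : ∃ j, i = j + 1 := ⟨i - 1, by omega⟩
    exact Groth.Agent.S0865.result J K u F hF j
  have e1 := Groth.Agent.Lib.helper27.ExtAdj.extAddEquiv adj
    ((Groth.Agent.Lib.Helper21.PullFree.freeSh K).obj K') F hFz (p + 1)
  have e2 := Groth.Agent.Lib.helper27.ExtAdj.extIsoLeft
    ((Groth.Agent.Lib.Helper21.PullFree.pullFreeIso J K u).app K') F (p + 1)
  haveI : Subsingleton (Abelian.Ext ((u.sheafPullback (Type u) K J ⋙
      Groth.Agent.Lib.Helper21.PullFree.freeSh J).obj K') F (p + 1)) :=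
    hF ((u.sheafPullback (Type u) K J).obj K') p
  exact (e1.trans e2).toEquiv.subsingleton

end Groth.Agent.S3090
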