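import Groth.Statements.S3094
import Mathlib
import Groth.Agent.Lib.Helper21.AbShriekFree
import Groth.Agent.Lib.Helper21.DerivedComm
import Groth.Agent.Lib.Helper27.ExtAdj
-- import your own Groth.Agent.* helpers here

set_option autoImplicit false
universe u
open CategoryTheory
open CohSite

namespace Groth.Agent.S3094

/-- For abelian sheaves on a small site and an object X of the site: if F is flasque in the sense of
being totally acyclic (H^q(K, F) = 0 for every sheaf of sets K and every q > 0), then its
restriction to the site of objects over X is again flasque in this sense. -/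
theorem result {C : Type u} [SmallCategory C] (J : GrothendieckTopology C) (X : C)
    (F : Sheaf J AddCommGrpCat.{u}) (hF : CohCx.IsTotallyAcyclic F) :
    CohCx.IsTotallyAcyclic (((Over.forget X).sheafPushforwardContinuous AddCommGrpCat.{u} (J.over X) J).obj F) := by
  intro K p
  have hFz : ∀ i : ℕ, 0 < i → Limits.IsZero (((Groth.Agent.Lib.Helper21.AbShriek.jStar X J).rightDerived i).obj F) := by
    intro i hi
    obtain ⟨j, rfl⟩ : ∃ j, i = j + 1 := ⟨i - 1, by omega⟩
    exact Groth.Agent.Lib.Helper21.DerivedComm.isZero_rightDerived_of_exact _ j F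
  have e1 := Groth.Agent.Lib.helper27.ExtAdj.extAddEquiv
    (Groth.Agent.Lib.Helper21.AbShriek.jAdj X J)
    ((Groth.Agent.Lib.Helper21.AbShriek.freeSh (J.over X)).obj K) F hFz (p + 1)
  have e2 := Groth.Agent.Lib.helper27.ExtAdj.extIsoLeft
    ((Groth.Agent.Lib.Helper21.AbShriek.shriekFreeIso X J).app K) F (p + 1)
  haveI : Subsingleton (Abelian.Ext ((Groth.Agent.Lib.Helper21.AbShriek.jShriekSet X J ⋙
      Groth.Agent.Lib.Helper21.AbShriek.freeSh J).obj K) F (p + 1)) :=
    hF ((Groth.Agent.Lib.Helper21.AbShriek.jShriekSet X J).obj K) p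
  exact (e1.trans e2).toEquiv.subsingleton

end Groth.Agent.S3094
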