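import Groth.Statements.S3129
import Mathlib

set_option autoImplicit false
open BigOperators
open SGA4h

namespace Groth.Agent.S3129

set_option linter.unusedSectionVars false

variable {F : Type} [Field F] [Fintype F] [DecidableEq F] {R : Type} [CommRing R] [IsDomain R]

lemma sum_units_eq (f : F → R) (h0 : f 0 = 0) : ∑ u : Fˣ, f (u : F) = ∑ y : F, f y := by
  classical
  rw [← Finset.sum_image (s := (Finset.univ : Finset Fˣ)) (g := fun u : Fˣ => (u : F)) (f := f)]
  · apply Finset.sum_subset (Finset.subset_univ _)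
    intro y _ hy
    by_cases h : y = 0
    · rw [h, h0]
    · exact absurd (Finset.mem_image.mpr ⟨Units.mk0 y h, Finset.mem_univ _, rfl⟩) hy
  · intro a _ b _ hab; exact Units.ext hab

lemma prod_apply_unit {ι : Type*} (s : Finset ι) (φ : ι → MulChar F R) (t : Fˣ) :
    (∏ i ∈ s, φ i) (t : F) = ∏ i ∈ s, φ i (t : F) := by
  classical
  induction s using Finset.induction_on with
  | empty => simp [MulChar.one_apply_coe]
  | insert a s ha ih => rw [Finset.prod_insert ha, Finset.prod_insert ha, MulChar.mul_apply, ih]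

lemma addChar_sum {ι : Type*} (s : Finset ι) (Ψ : AddChar F R) (f : ι → F) :
    Ψ (∑ i ∈ s, f i) = ∏ i ∈ s, Ψ (f i) := by
  classical
  induction s using Finset.induction_on with
  | empty => simp
  | insert a s ha ih => rw [Finset.sum_insert ha, Finset.prod_insert ha, AddChar.map_add_eq_mul, ih]

/-- fibre sum -/
noncomputable def S (N : ℕ) (φ : Fin N → MulChar F R) (a : F) : R :=
  ∑ x ∈ (Finset.univ : Finset (Fin N → Fˣ)).filter (fun x => ∑ i, ((x i : Fˣ) : F) = a),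
    ∏ i : Fin N, φ i ((x i : Fˣ) : F)

lemma S_scale (N : ℕ) (φ : Fin N → MulChar F R) (t : Fˣ) (a : F) :
    S N φ ((t : F) * a) = (∏ i, φ i) (t : F) * S N φ a := by
  unfold S
  rw [Finset.mul_sum]
  symm
  apply Finset.sum_bij (fun x _ => fun i => t * x i)
  · intro x hx
    simp only [Finset.mem_filter, Finset.mem_univ, true_and] at hx ⊢
    simp only [Units.val_mul, ← Finset.mul_sum, hx]
  · intro x _ y _ h
    funext i
    have := congrFun h i
    exact mul_left_cancel this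
  · intro y hy
    refine ⟨fun i => t⁻¹ * y i, ?_, ?_⟩
    · simp only [Finset.mem_filter, Finset.mem_univ, true_and] at hy ⊢
      simp only [Units.val_mul, ← Finset.mul_sum, hy]
      rw [← mul_assoc]; simp
    · funext i; simp
  · intro x hx
    simp only [Units.val_mul, map_mul, Finset.prod_mul_distrib]
    rw [prod_apply_unit]

lemma prod_gauss_eq (N : ℕ) (φ : Fin N → MulChar F R) (Ψ : AddChar F R) :
    ∏ i : Fin N, (∑ y : F, Ψ y * φ i y) = ∑ a : F, Ψ a * S N φ a := by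
  have h1 : ∀ i : Fin N, (∑ y : F, Ψ y * φ i y) = ∑ u : Fˣ, Ψ (u : F) * φ i (u : F) := by
    intro i
    rw [sum_units_eq (fun y => Ψ y * φ i y)]
    simp [MulChar.map_zero]
  simp_rw [h1]
  rw [Fintype.prod_sum]
  rw [← Finset.sum_fiberwise (Finset.univ : Finset (Fin N → Fˣ))
    (fun x => ∑ i, ((x i : Fˣ) : F))]
  apply Finset.sum_congr rfl
  intro a _
  unfold S
  rw [Finset.mul_sum]
  apply Finset.sum_congr rfl
  intro x hx
  simp only [Finset.mem_filter, Finset.mem_univ, true_and] at hx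
  rw [Finset.prod_mul_distrib, ← addChar_sum, hx]


/-- for `a ≠ 0`, `S a = ρ(-a) S(-1)`. -/
lemma S_of_ne_zero (N : ℕ) (φ : Fin N → MulChar F R) {a : F} (ha : a ≠ 0) :
    S N φ a = (∏ i, φ i) (-a) * S N φ (-1) := by
  have := S_scale N φ (Units.mk0 (-a) (neg_ne_zero.mpr ha)) (-1)
  simpa using this

lemma sum_Psi_S (N : ℕ) (φ : Fin N → MulChar F R) (Ψ : AddChar F R) :
    ∑ a : F, Ψ a * S N φ a = S N φ 0 + (∑ a : F, Ψ a * (∏ i, φ i) (-a)) * S N φ (-1) := by
  have h : ∀ a : F, Ψ a * S N φ a =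
      (if a = 0 then S N φ 0 else 0) + Ψ a * (∏ i, φ i) (-a) * S N φ (-1) := by
    intro a
    by_cases ha : a = 0
    · subst ha
      simp [MulChar.map_zero]
    · rw [if_neg ha, zero_add, S_of_ne_zero N φ ha, mul_assoc]
  simp_rw [h]
  rw [Finset.sum_add_distrib, Finset.sum_ite_eq' , if_pos (Finset.mem_univ _), ← Finset.sum_mul]

lemma sum_S (N : ℕ) (φ : Fin N → MulChar F R) :
    ∑ a : F, S N φ a = S N φ 0 + (∑ a : F, (∏ i, φ i) (-a)) * S N φ (-1) := by
  have h : ∀ a : F, S N φ a =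
      (if a = 0 then S N φ 0 else 0) + (∏ i, φ i) (-a) * S N φ (-1) := by
    intro a
    by_cases ha : a = 0
    · subst ha
      simp [MulChar.map_zero]
    · rw [if_neg ha, zero_add, S_of_ne_zero N φ ha]
  conv_lhs => enter [2, a]; rw [h a]
  rw [Finset.sum_add_distrib, Finset.sum_ite_eq' , if_pos (Finset.mem_univ _), ← Finset.sum_mul]

lemma sum_S_eq_prod (N : ℕ) (φ : Fin N → MulChar F R) :
    ∑ a : F, S N φ a = ∏ i : Fin N, ∑ y : F, φ i y := by
  have h1 : ∀ i : Fin N, (∑ y : F, φ i y) = ∑ u : Fˣ, φ i (u : F) := by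
    intro i
    rw [sum_units_eq (fun y => φ i y)]
    simp [MulChar.map_zero]
  simp_rw [h1]
  rw [Fintype.prod_sum]
  rw [← Finset.sum_fiberwise (Finset.univ : Finset (Fin N → Fˣ))
    (fun x => ∑ i, ((x i : Fˣ) : F))]
  rfl


lemma T_eq (ρ : MulChar F R) (Ψ : AddChar F R) :
    ∑ a : F, Ψ a * ρ (-a) = gaussSum ρ Ψ⁻¹ := by
  unfold gaussSum
  rw [← Equiv.sum_comp (Equiv.neg F)]
  apply Finset.sum_congr rfl
  intro a _
  simp [mul_comm]

lemma neg_one_pow_sub (N : ℕ) (hN : 1 ≤ N) : ((-1 : R)) ^ (N - 1) = (-1) ^ (N + 1) := by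
  obtain ⟨k, rfl⟩ : ∃ k, N = k + 1 := ⟨N - 1, by omega⟩
  simp [pow_succ]

/-- Let F be a finite field with q elements, N ≥ 1, χ₀, …, χ_N multiplicative characters of F with
values in a domain, not all trivial and with product 1, and Ψ a nontrivial additive character of F.
Put τ(χ, Ψ) = −Σ_{x ∈ F} Ψ(x) χ⁻¹(x) and J(χ) = (−1)^{N−1} Σ χ₁⁻¹(x₁) ⋯ χ_N⁻¹(x_N), the sum over x₁,
…, x_N ∈ F^* with x₁ + ⋯ + x_N = −1. Then q · J(χ) = τ(χ₀, Ψ) ⋯ τ(χ_N, Ψ). -/
theorem result (F : Type) [Field F] [Fintype F] [DecidableEq F] (R : Type) [CommRing R] [IsDomain R]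
    (N : ℕ) (hN : 1 ≤ N) (χ : Fin (N + 1) → MulChar F R) (hprod : ∏ i, χ i = 1) (hnt : ∃ i, χ i ≠ 1)
    (Ψ : AddChar F R) (hΨ : Ψ ≠ 1) :
    (Fintype.card F : R) * ((-1) ^ (N - 1) *
        ∑ x ∈ (Finset.univ : Finset (Fin N → Fˣ)).filter (fun x => ∑ i, ((x i : Fˣ) : F) = -1),
          ∏ i : Fin N, (χ i.succ)⁻¹ ((x i : Fˣ) : F)) =
      ∏ i : Fin (N + 1), (-(∑ y : F, Ψ y * (χ i)⁻¹ y)) := by
  set φ : Fin N → MulChar F R := fun i => (χ i.succ)⁻¹ with hφ
  have hρ : ∏ i, φ i = χ 0 := by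
    rw [Fin.prod_univ_succ] at hprod
    simp only [hφ, Finset.prod_inv_distrib]
    exact (eq_inv_of_mul_eq_one_left hprod).symm
  change (Fintype.card F : R) * ((-1) ^ (N - 1) * S N φ (-1)) = _
  rw [Fin.prod_univ_succ]
  have hneg : ∏ i : Fin N, (-(∑ y : F, Ψ y * (χ i.succ)⁻¹ y)) =
      (-1) ^ N * (S N φ 0 + gaussSum (χ 0) Ψ⁻¹ * S N φ (-1)) := by
    rw [Finset.prod_neg, Finset.card_univ, Fintype.card_fin]
    congr 1
    rw [← T_eq, ← hρ, ← sum_Psi_S, ← prod_gauss_eq]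
  rw [hneg]
  have hg0 : (∑ y : F, Ψ y * (χ 0)⁻¹ y) = gaussSum (χ 0)⁻¹ Ψ := by
    unfold gaussSum
    exact Finset.sum_congr rfl fun a _ => mul_comm _ _
  rw [hg0, neg_one_pow_sub N hN]
  have hΨinv : Ψ⁻¹ ≠ 1 := by
    intro h
    apply hΨ
    rw [← inv_inv Ψ, h, inv_one]
  by_cases h0 : χ 0 = 1
  · -- trivial case
    rw [h0, inv_one, gaussSum_one_left hΨ, gaussSum_one_left hΨinv]
    have hex : ∃ j : Fin N, φ j ≠ 1 := by
      obtain ⟨i, hi⟩ := hnt
      refine Fin.cases (fun h => absurd h0 h) (fun j hj => ⟨j, ?_⟩) i hi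
      simp only [hφ]
      intro h
      apply hj
      rw [← inv_inv (χ j.succ), h, inv_one]
    obtain ⟨j, hj⟩ := hex
    have hsum : ∑ a : F, S N φ a = 0 := by
      rw [sum_S_eq_prod]
      exact Finset.prod_eq_zero (Finset.mem_univ j) (MulChar.sum_eq_zero_of_ne_one hj)
    rw [sum_S, hρ, h0] at hsum
    have hcount : ∑ a : F, (1 : MulChar F R) (-a) = (Fintype.card F : R) - 1 := by
      have e1 : ∑ a : F, (1 : MulChar F R) (-a) = ∑ a : F, (1 : MulChar F R) a :=
        Equiv.sum_comp (Equiv.neg F) (fun a => (1 : MulChar F R) a)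
      rw [e1, ← sum_units_eq (fun a => (1 : MulChar F R) a) (MulChar.map_zero _)]
      simp only [MulChar.one_apply_coe, Finset.sum_const, Finset.card_univ, nsmul_eq_mul, mul_one]
      rw [Fintype.card_units, Nat.cast_sub Fintype.card_pos, Nat.cast_one]
    rw [hcount] at hsum
    have hS0 : S N φ 0 = -(((Fintype.card F : R) - 1) * S N φ (-1)) := eq_neg_of_add_eq_zero_left hsum
    rw [hS0]
    ring
  · have hS0 : S N φ 0 = 0 := by
      obtain ⟨t, ht⟩ := MulChar.ne_one_iff.mp h0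
      have := S_scale N φ t 0
      rw [mul_zero, hρ] at this
      have h2 : (1 - χ 0 t) * S N φ 0 = 0 := by rw [sub_mul, one_mul, ← this, sub_self]
      rcases mul_eq_zero.mp h2 with h3 | h3
      · exact absurd (sub_eq_zero.mp h3).symm ht
      · exact h3
    have hinv : (χ 0)⁻¹ ≠ 1 := by
      intro h
      apply h0
      rw [← inv_inv (χ 0), h, inv_one]
    have hq := gaussSum_mul_gaussSum_eq_card hinv (AddChar.IsPrimitive.of_ne_one hΨ)
    rw [inv_inv] at hq
    rw [hS0, zero_add, ← hq]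
    ring

end Groth.Agent.S3129
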