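import Groth.Statements.S3133
import Mathlib

set_option autoImplicit false
open Polynomial
open SGA4h

namespace Groth.Agent.S3133

/-- Let A be a square matrix over a commutative ring and n ≥ 1, and let B be the matrix on n blocks of
the endomorphism (x_1, …, x_n) ↦ (A x_n, x_1, …, x_{n-1}). Then det(1 − B·T) = det(1 − A·Tⁿ), i.e.
the reverse characteristic polynomial of B is that of A expanded by n. -/
theorem result (R : Type) [CommRing R] (m : Type) [Fintype m] [DecidableEq m]
    (A : Matrix m m R) (n : ℕ) (hn : 1 ≤ n) :
    (Matrix.of fun (p q : Fin n × m) =>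
        if p.1.val = 0 then (if q.1.val = n - 1 then A p.2 q.2 else 0)
        else (if q.1.val + 1 = p.1.val ∧ p.2 = q.2 then 1 else 0)).charpolyRev =
      Polynomial.expand R n A.charpolyRev := by
  classical
  set B : Matrix (Fin n × m) (Fin n × m) R := (Matrix.of fun (p q : Fin n × m) =>
        if p.1.val = 0 then (if q.1.val = n - 1 then A p.2 q.2 else 0)
        else (if q.1.val + 1 = p.1.val ∧ p.2 = q.2 then 1 else 0)) with hB
  set T : R[X] := X with hT
  set U₀ : Matrix (Fin n) (Fin n) R[X] :=
    Matrix.of fun p q => if q.val ≤ p.val then T ^ (p.val - q.val) else 0 with hU₀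
  set U : Matrix (Fin n × m) (Fin n × m) R[X] :=
    Matrix.of fun p q => if q.1.val ≤ p.1.val ∧ p.2 = q.2 then T ^ (p.1.val - q.1.val) else 0 with hU
  have hUk : U = Matrix.kroneckerMap (· * ·) U₀ (1 : Matrix m m R[X]) := by
    ext ⟨p, i⟩ ⟨q, j⟩
    simp only [hU, hU₀, Matrix.of_apply, Matrix.kroneckerMap_apply, Matrix.one_apply]
    by_cases h1 : q.val ≤ p.val <;> by_cases h2 : i = j <;> simp [h1, h2]
  have hdetU₀ : U₀.det = 1 := by
    rw [Matrix.det_of_isLowerTriangular]
    · apply Finset.prod_eq_one
      intro i _
      simp [hU₀]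
    · intro i j hij
      have hij' : i < j := hij
      simp only [hU₀, Matrix.of_apply]
      rw [if_neg]
      exact not_le.mpr hij'
  have hdetU : U.det = 1 := by
    rw [hUk, Matrix.det_kronecker, hdetU₀]
    simp
  set F : Matrix (Fin n × m) m R[X] :=
    Matrix.of fun p l => if p.1.val = 0 then T * C (A p.2 l) else 0 with hF
  set G : Matrix m (Fin n × m) R[X] :=
    Matrix.of fun l q => if l = q.2 then T ^ (n - 1 - q.1.val) else 0 with hG
  have key : (1 - T • B.map C) * U = 1 - F * G := by
    ext ⟨p, i⟩ ⟨q, j⟩
    rw [Matrix.sub_mul, Matrix.one_mul, Matrix.sub_apply, Matrix.sub_apply, Matrix.smul_mul,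
      Matrix.smul_apply, Matrix.mul_apply, Matrix.mul_apply, Fintype.sum_prod_type]
    by_cases hp : p.val = 0
    · -- first block row
      have hsum : ∑ x : Fin n, ∑ y : m, (B.map C) (p, i) (x, y) * U (x, y) (q, j)
          = C (A i j) * T ^ (n - 1 - q.val) := by
        rw [Finset.sum_eq_single (⟨n - 1, by omega⟩ : Fin n)]
        · rw [Finset.sum_eq_single j]
          · have hq : q.val ≤ n - 1 := by have := q.2; omega
            simp only [hB, hU, Matrix.map_apply, Matrix.of_apply]
            simp [hp, hq]
          · intro l _ hl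
            simp [hU, hl]
          · intro h; exact absurd (Finset.mem_univ _) h
        · intro r _ hr
          apply Finset.sum_eq_zero
          intro l _
          have : r.val ≠ n - 1 := fun h => hr (Fin.ext h)
          simp [hB, hp, this]
        · intro h; exact absurd (Finset.mem_univ _) h
      rw [hsum]
      have hFG : ∑ l : m, F (p, i) l * G l (q, j) = T * C (A i j) * T ^ (n - 1 - q.val) := by
        rw [Finset.sum_eq_single j]
        · simp [hF, hG, hp]
        · intro l _ hl
          simp [hG, hl]
        · intro h; exact absurd (Finset.mem_univ _) h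
      rw [hFG]
      have hU1 : U (p, i) (q, j) = (1 : Matrix (Fin n × m) (Fin n × m) R[X]) (p, i) (q, j) := by
        simp only [hU, Matrix.of_apply, Matrix.one_apply, Prod.mk.injEq]
        by_cases h1 : q.val ≤ p.val ∧ i = j
        · have hqp : q = p := Fin.ext (by omega)
          rw [if_pos h1, if_pos ⟨hqp.symm, h1.2⟩, hqp]; simp
        · rw [if_neg h1, if_neg]
          rintro ⟨h2, h3⟩
          exact h1 ⟨by rw [h2], h3⟩
      rw [hU1, smul_eq_mul]
      ring_nf
    · -- other block rows
      have hp1 : 1 ≤ p.val := Nat.one_le_iff_ne_zero.mpr hp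
      have hsum : ∑ x : Fin n, ∑ y : m, (B.map C) (p, i) (x, y) * U (x, y) (q, j)
          = U (⟨p.val - 1, by have := p.2; omega⟩, i) (q, j) := by
        rw [Finset.sum_eq_single (⟨p.val - 1, by have := p.2; omega⟩ : Fin n)]
        · rw [Finset.sum_eq_single i]
          · have : p.val - 1 + 1 = p.val := by omega
            simp [hB, hp, this]
          · intro l _ hl
            have : ¬ (i = l) := fun h => hl h.symm
            simp [hB, hp, this]
          · intro h; exact absurd (Finset.mem_univ _) h
        · intro r _ hr
          apply Finset.sum_eq_zero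
          intro l _
          have : ¬ (r.val + 1 = p.val) := fun h => hr (Fin.ext (by simp; omega))
          simp [hB, hp, this]
        · intro h; exact absurd (Finset.mem_univ _) h
      rw [hsum]
      have hFG : ∑ l : m, F (p, i) l * G l (q, j) = 0 := by
        apply Finset.sum_eq_zero
        intro l _
        simp [hF, hp]
      rw [hFG, sub_zero]
      simp only [hU, Matrix.of_apply, Matrix.one_apply, Prod.mk.injEq, smul_eq_mul]
      by_cases hij : i = j
      · by_cases h1 : q.val ≤ p.val - 1
        · have h2 : q.val ≤ p.val := by omega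
          have h3 : ¬ (p = q) := fun h => by rw [h] at h1; omega
          rw [if_pos ⟨h2, hij⟩, if_pos ⟨h1, hij⟩, if_neg (fun h => h3 h.1)]
          have : p.val - q.val = (p.val - 1 - q.val) + 1 := by omega
          rw [this, pow_succ]; ring_nf
        · by_cases h2 : q.val ≤ p.val
          · have h3 : p = q := Fin.ext (by omega)
            rw [if_pos ⟨h2, hij⟩, if_neg (fun h => h1 h.1), if_pos ⟨h3, hij⟩, h3]
            simp
          · have h3 : ¬ (p = q) := fun h => by rw [h] at h2; omega
            rw [if_neg (fun h => h2 h.1), if_neg (fun h => h1 h.1), if_neg (fun h => h3 h.1)]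
            simp
      · rw [if_neg (fun h => hij h.2), if_neg (fun h => hij h.2), if_neg (fun h => hij h.2)]
        simp
  have h2 : G * F = T ^ n • A.map C := by
    ext l l'
    rw [Matrix.mul_apply, Fintype.sum_prod_type]
    rw [Finset.sum_eq_single (⟨0, by omega⟩ : Fin n)]
    · rw [Finset.sum_eq_single l]
      · simp only [hG, hF, Matrix.of_apply, if_true, Matrix.smul_apply, Matrix.map_apply, smul_eq_mul]
        have : n = (n - 1 - 0) + 1 := by omega
        conv_rhs => rw [this, pow_succ]
        ring_nf
      · intro j _ hj
        have : ¬ (l = j) := fun h => hj h.symm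
        simp [hG, this]
      · intro h; exact absurd (Finset.mem_univ _) h
    · intro r _ hr
      apply Finset.sum_eq_zero
      intro j _
      have : r.val ≠ 0 := fun h => hr (Fin.ext h)
      simp [hF, this]
    · intro h; exact absurd (Finset.mem_univ _) h
  have hdet : Matrix.det (1 - T • B.map C) = Matrix.det (1 - F * G) := by
    rw [← key, Matrix.det_mul, hdetU, mul_one]
  unfold Matrix.charpolyRev
  rw [hdet, Matrix.det_one_sub_mul_comm, h2, AlgHom.map_det]
  congr 1
  ext l l'
  simp [Matrix.one_apply, hT]

end Groth.Agent.S3133
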