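import Groth.Statements.S3140
import Mathlib

set_option autoImplicit false
universe u
open RingTheory.Sequence
open SGA4h

namespace Groth.Agent.S3140

open IsLocalRing

section
variable {A : Type u} [CommRing A] [IsLocalRing A] [IsNoetherianRing A]

def Good (u w : List A) : Prop := IsRegular A w ∧ Ideal.ofList w = Ideal.ofList u

def Step (w w' : List A) : Prop :=
  w.Perm w' ∨ (w.length = w'.length ∧ w.dropLast = w'.dropLast)

def Conn (u a v : List A) : Prop :=
  ∃ ws : List (List A), ws.head? = some a ∧ ws.getLast? = some v ∧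
    (∀ w ∈ ws, Good u w) ∧ List.IsChain Step ws

theorem conn_refl {u v : List A} (h : Good u v) : Conn u v v := by
  refine ⟨[v], rfl, rfl, ?_, List.isChain_singleton v⟩
  intro w hw
  rw [List.mem_singleton] at hw
  rw [hw]; exact h

theorem conn_step {u a b v : List A} (ha : Good u a) (hab : Step a b) (h : Conn u b v) :
    Conn u a v := by
  obtain ⟨ws, hh, hl, hg, hc⟩ := h
  refine ⟨a :: ws, rfl, ?_, ?_, ?_⟩
  · cases ws with
    | nil => simp at hh
    | cons b' ws' => rw [List.getLast?_cons_cons]; exact hl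
  · intro w hw
    rcases List.mem_cons.mp hw with rfl | hw
    · exact ha
    · exact hg w hw
  · refine hc.cons (fun y hy => ?_)
    rw [hh, Option.mem_def, Option.some.injEq] at hy
    rw [← hy]; exact hab

theorem good_of_perm {u w w' : List A} (h : Good u w) (hp : w.Perm w') : Good u w' := by
  refine ⟨IsLocalRing.isRegular_of_perm h.1 hp, ?_⟩
  rw [← h.2]
  exact congrArg Ideal.span (Set.ext fun z => hp.mem_iff.symm)

theorem ofList_le_max {w : List A} (h : IsRegular A w) : Ideal.ofList w ≤ maximalIdeal A := by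
  apply IsLocalRing.le_maximalIdeal
  intro htop
  exact h.top_ne_smul (by rw [htop, Submodule.top_smul])

theorem key1 (J : Ideal A) (x : A) :
    IsSMulRegular (A ⧸ (J • ⊤ : Submodule A A)) x ↔ ∀ r, x * r ∈ J → r ∈ J := by
  have hJtop : (J • ⊤ : Submodule A A) = J := by
    show J • (⊤ : Ideal A) = J
    rw [Ideal.smul_eq_mul, Ideal.mul_top]
  rw [isSMulRegular_iff_right_eq_zero_of_smul]
  constructor
  · intro h r hr
    have h1 := h (Submodule.Quotient.mk r) (by
      rw [← Submodule.Quotient.mk_smul, Submodule.Quotient.mk_eq_zero, hJtop, smul_eq_mul]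
      exact hr)
    rw [Submodule.Quotient.mk_eq_zero, hJtop] at h1
    exact h1
  · intro h q hq
    obtain ⟨r, rfl⟩ := Submodule.Quotient.mk_surjective _ q
    rw [← Submodule.Quotient.mk_smul, Submodule.Quotient.mk_eq_zero, hJtop, smul_eq_mul] at hq
    rw [Submodule.Quotient.mk_eq_zero, hJtop]
    exact h r hq

theorem key2 (w : List A) (y : A) (h : IsWeaklyRegular A (w ++ [y]))
    (hne : Ideal.ofList w ≠ ⊤) : y ∉ Ideal.ofList w := by
  intro hy
  have h1 := ((isWeaklyRegular_append_iff A w [y]).mp h).2
  rw [isWeaklyRegular_singleton_iff, key1] at h1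
  have h2 := h1 1 (by rw [mul_one]; exact hy)
  exact hne ((Ideal.eq_top_iff_one _).mpr h2)

theorem isRegular_lastChange (w' : List A) (x x' : A) (h : IsRegular A (w' ++ [x]))
    (hI : Ideal.ofList (w' ++ [x']) = Ideal.ofList (w' ++ [x])) : IsRegular A (w' ++ [x']) := by
  have hwr := (isWeaklyRegular_append_iff A w' [x]).mp h.toIsWeaklyRegular
  have hx := hwr.2
  rw [isWeaklyRegular_singleton_iff, key1] at hx
  have hJm : Ideal.ofList w' ≤ maximalIdeal A := by
    refine le_trans ?_ (ofList_le_max h)
    rw [Ideal.ofList_append]; exact le_sup_left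
  refine ⟨(isWeaklyRegular_append_iff A w' [x']).mpr ⟨hwr.1, ?_⟩, ?_⟩
  · rw [isWeaklyRegular_singleton_iff, key1]
    have hx'mem : x' ∈ Ideal.ofList w' ⊔ Ideal.span {x} := by
      rw [← Ideal.ofList_singleton, ← Ideal.ofList_append, ← hI, Ideal.ofList_append,
        Ideal.ofList_singleton]
      exact Ideal.mem_sup_right (Ideal.mem_span_singleton_self x')
    have hxmem : x ∈ Ideal.ofList w' ⊔ Ideal.span {x'} := by
      rw [← Ideal.ofList_singleton, ← Ideal.ofList_append, hI, Ideal.ofList_append,
        Ideal.ofList_singleton]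
      exact Ideal.mem_sup_right (Ideal.mem_span_singleton_self x)
    obtain ⟨j, hj, z, hz, hjz⟩ := Submodule.mem_sup.mp hx'mem
    obtain ⟨a, rfl⟩ := Ideal.mem_span_singleton'.mp hz
    obtain ⟨j', hj', z', hz', hjz'⟩ := Submodule.mem_sup.mp hxmem
    obtain ⟨b, rfl⟩ := Ideal.mem_span_singleton'.mp hz'
    have h1 : x * (1 - b * a) ∈ Ideal.ofList w' := by
      have e1 : x = j' + b * (j + a * x) := by rw [hjz, hjz']
      have h2 : x * (1 - b * a) = j' + b * j := by linear_combination e1
      rw [h2]
      exact Ideal.add_mem _ hj' (Ideal.mul_mem_left _ _ hj)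
    have h3 := hx _ h1
    have h4 : IsUnit (b * a) := by
      have h5 := isUnit_one_sub_self_of_mem_nonunits (1 - b * a)
        ((mem_maximalIdeal _).mp (hJm h3))
      rwa [sub_sub_cancel] at h5
    have ha : IsUnit a := isUnit_of_mul_isUnit_right h4
    obtain ⟨ua, rfl⟩ := ha
    intro r hr
    have h6 : x * ((ua : A) * r) ∈ Ideal.ofList w' := by
      have h7 : x * ((ua : A) * r) = x' * r - j * r := by rw [← hjz]; ring
      rw [h7]
      exact Ideal.sub_mem _ hr (Ideal.mul_mem_right _ _ hj)
    have h8 := hx _ h6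
    have h9 : r = ((ua⁻¹ : Aˣ) : A) * ((ua : A) * r) := by rw [Units.inv_mul_cancel_left]
    rw [h9]
    exact Ideal.mul_mem_left _ _ h8
  · rw [hI]; exact h.top_ne_smul

theorem exchange (y : A) : ∀ (t : List A) (J : Ideal A), y ∈ J ⊔ Ideal.ofList t →
    y ∉ J ⊔ maximalIdeal A * Ideal.ofList t →
    ∃ (t1 : List A) (x : A) (t2 : List A), t = t1 ++ x :: t2 ∧
      x ∈ J ⊔ Ideal.ofList (t1 ++ t2) ⊔ Ideal.span {y} := by
  intro t
  induction t with
  | nil =>
    intro J h1 h2
    exfalso
    rw [Ideal.ofList_nil, sup_bot_eq] at h1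
    rw [Ideal.ofList_nil, Ideal.mul_bot, sup_bot_eq] at h2
    exact h2 h1
  | cons x t' ih =>
    intro J h1 h2
    by_cases hc : ∃ b : A, IsUnit b ∧ y - b * x ∈ J ⊔ Ideal.ofList t'
    · obtain ⟨b, hb, hbx⟩ := hc
      refine ⟨[], x, t', rfl, ?_⟩
      rw [List.nil_append]
      obtain ⟨ub, rfl⟩ := hb
      have h3 : (ub : A) * x ∈ J ⊔ Ideal.ofList t' ⊔ Ideal.span {y} := by
        have h4 : (ub : A) * x = y - (y - ub * x) := by ring
        rw [h4]
        exact Ideal.sub_mem _ (Ideal.mem_sup_right (Ideal.mem_span_singleton_self y))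
          (Ideal.mem_sup_left hbx)
      have h5 : x = ((ub⁻¹ : Aˣ) : A) * ((ub : A) * x) := by rw [Units.inv_mul_cancel_left]
      rw [h5]
      exact Ideal.mul_mem_left _ _ h3
    · push_neg at hc
      have h1' : y ∈ (J ⊔ Ideal.span {x}) ⊔ Ideal.ofList t' := by
        rw [Ideal.ofList_cons, ← sup_assoc] at h1
        exact h1
      have h2' : y ∉ (J ⊔ Ideal.span {x}) ⊔ maximalIdeal A * Ideal.ofList t' := by
        intro h3
        obtain ⟨jx, hjx, μ, hμ, hy⟩ := Submodule.mem_sup.mp h3
        obtain ⟨j, hj, z, hz, hjz⟩ := Submodule.mem_sup.mp hjx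
        obtain ⟨a, rfl⟩ := Ideal.mem_span_singleton'.mp hz
        by_cases ha : IsUnit a
        · apply hc a ha
          have h4 : y - a * x = j + μ := by rw [← hy, ← hjz]; ring
          rw [h4]
          exact Ideal.add_mem _ (Ideal.mem_sup_left hj)
            (Ideal.mem_sup_right (Ideal.mul_le_right hμ))
        · apply h2
          have ham : a ∈ maximalIdeal A := (mem_maximalIdeal a).mpr ha
          have h4 : y = j + (a * x + μ) := by rw [← hy, ← hjz]; ring
          rw [h4, Ideal.ofList_cons, Ideal.mul_sup]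
          refine Ideal.add_mem _ (Ideal.mem_sup_left hj) (Ideal.mem_sup_right
            (Ideal.add_mem _ (Ideal.mem_sup_left ?_) (Ideal.mem_sup_right hμ)))
          exact Ideal.mul_mem_mul ham (Ideal.mem_span_singleton_self x)
      obtain ⟨t1', x'', t2', ht', hx''⟩ := ih (J ⊔ Ideal.span {x}) h1' h2'
      refine ⟨x :: t1', x'', t2', by rw [ht', List.cons_append], ?_⟩
      rw [List.cons_append, Ideal.ofList_cons, ← sup_assoc]
      exact hx''

theorem main_aux (u v : List A) (hu : IsRegular A u) (hv : IsRegular A v)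
    (hIv : Ideal.ofList v = Ideal.ofList u) :
    ∀ (r s t : List A), v = s ++ r → Good u (s ++ t) → Conn u (s ++ t) v := by
  intro r
  induction r with
  | nil =>
    intro s t hvs hg
    rw [List.append_nil] at hvs
    cases t with
    | nil =>
      rw [List.append_nil, ← hvs]
      exact conn_refl ⟨hv, hIv⟩
    | cons x t'' =>
      exfalso
      have h1 : IsWeaklyRegular A ((s ++ [x]) ++ t'') := by
        rw [← List.append_cons]; exact hg.1.toIsWeaklyRegular
      have h2 := ((isWeaklyRegular_append_iff A (s ++ [x]) t'').mp h1).1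
      have h3 : Ideal.ofList s ≠ ⊤ := by
        rw [← hvs, hIv]
        intro htop
        have h4 := ofList_le_max hu
        rw [htop] at h4
        exact (maximalIdeal.isMaximal A).ne_top (top_le_iff.mp h4)
      apply key2 s x h2 h3
      rw [← hvs, hIv, ← hg.2]
      exact Ideal.subset_span (by simp)
  | cons y r' ih =>
    intro s t hvs hg
    have hI : Ideal.ofList (s ++ t) = Ideal.ofList u := hg.2
    have hyI : y ∈ Ideal.ofList u := by
      rw [← hIv, hvs]; exact Ideal.subset_span (by simp)
    have h1 : y ∈ Ideal.ofList s ⊔ Ideal.ofList t := by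
      rw [← Ideal.ofList_append, hI]; exact hyI
    have hperm : (s ++ y :: r').Perm ((s ++ r') ++ [y]) :=
      List.perm_middle.trans (List.perm_append_singleton y (s ++ r')).symm
    have hreg' : IsRegular A ((s ++ r') ++ [y]) := IsLocalRing.isRegular_of_perm (hvs ▸ hv) hperm
    have h2 : y ∉ Ideal.ofList s ⊔ maximalIdeal A * Ideal.ofList t := by
      intro h3
      have hi1 : Ideal.ofList s ≤ Ideal.ofList (s ++ r') := by
        rw [Ideal.ofList_append]; exact le_sup_left
      have hi2 : Ideal.ofList r' ≤ Ideal.ofList (s ++ r') := by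
        rw [Ideal.ofList_append]; exact le_sup_right
      have hii : Ideal.ofList t ≤ Ideal.ofList u := by
        rw [← hI, Ideal.ofList_append]; exact le_sup_right
      have hiii : y ∈ Ideal.ofList (s ++ r') ⊔ maximalIdeal A * Ideal.ofList u :=
        sup_le_sup hi1 (Ideal.mul_mono_right hii) h3
      have hiv : Ideal.ofList u = Ideal.ofList s ⊔ (Ideal.span {y} ⊔ Ideal.ofList r') := by
        rw [← hIv, hvs, Ideal.ofList_append, Ideal.ofList_cons]
      have hle : Ideal.ofList u ≤ Ideal.ofList (s ++ r') ⊔ maximalIdeal A * Ideal.ofList u := by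
        conv_lhs => rw [hiv]
        exact sup_le (le_sup_of_le_left hi1) (sup_le
          ((Ideal.span_singleton_le_iff_mem _).mpr hiii) (le_sup_of_le_left hi2))
      have hnak : Ideal.ofList u ≤ Ideal.ofList (s ++ r') :=
        Submodule.le_of_le_smul_of_le_jacobson_bot (N := Ideal.ofList (s ++ r'))
          (N' := Ideal.ofList u) (I := maximalIdeal A) (IsNoetherian.noetherian _)
          (IsLocalRing.maximalIdeal_le_jacobson ⊥) hle
      have hne : Ideal.ofList (s ++ r') ≠ ⊤ := by
        intro htop
        have h4 := ofList_le_max hreg'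
        rw [Ideal.ofList_append, htop, top_sup_eq] at h4
        exact (maximalIdeal.isMaximal A).ne_top (top_le_iff.mp h4)
      exact key2 (s ++ r') y hreg'.toIsWeaklyRegular hne (hnak hyI)
    obtain ⟨t1, x, t2, rfl, hx⟩ := exchange y t (Ideal.ofList s) h1 h2
    have hp01 : (s ++ (t1 ++ x :: t2)).Perm ((s ++ (t1 ++ t2)) ++ [x]) := by
      rw [List.append_assoc s (t1 ++ t2) [x]]
      exact List.Perm.append_left s
        (List.perm_middle.trans (List.perm_append_singleton x (t1 ++ t2)).symm)
    have hg1 : Good u ((s ++ (t1 ++ t2)) ++ [x]) := good_of_perm hg hp01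
    have hy0 : y ∈ Ideal.ofList (s ++ (t1 ++ x :: t2)) := by rw [hI]; exact hyI
    have hx' : x ∈ Ideal.ofList ((s ++ (t1 ++ t2)) ++ [y]) := by
      rw [Ideal.ofList_append, Ideal.ofList_append, Ideal.ofList_singleton]
      exact hx
    have hI2 : Ideal.ofList ((s ++ (t1 ++ t2)) ++ [y]) = Ideal.ofList u := by
      rw [← hI]
      apply le_antisymm
      · apply Ideal.span_le.mpr
        intro z hz
        simp only [Set.mem_ofPred_eq, List.mem_append, List.mem_singleton] at hz
        rcases hz with (hz | hz | hz) | hz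
        · exact Ideal.subset_span (show z ∈ {r | r ∈ s ++ (t1 ++ x :: t2)} by simp [hz])
        · exact Ideal.subset_span (show z ∈ {r | r ∈ s ++ (t1 ++ x :: t2)} by simp [hz])
        · exact Ideal.subset_span (show z ∈ {r | r ∈ s ++ (t1 ++ x :: t2)} by simp [hz])
        · rw [hz]; exact hy0
      · apply Ideal.span_le.mpr
        intro z hz
        simp only [Set.mem_ofPred_eq, List.mem_append, List.mem_cons] at hz
        rcases hz with hz | hz | hz | hz
        · exact Ideal.subset_span (show z ∈ {r | r ∈ (s ++ (t1 ++ t2)) ++ [y]} by simp [hz])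
        · exact Ideal.subset_span (show z ∈ {r | r ∈ (s ++ (t1 ++ t2)) ++ [y]} by simp [hz])
        · rw [hz]; exact hx'
        · exact Ideal.subset_span (show z ∈ {r | r ∈ (s ++ (t1 ++ t2)) ++ [y]} by simp [hz])
    have hreg2 : IsRegular A ((s ++ (t1 ++ t2)) ++ [y]) :=
      isRegular_lastChange _ x y hg1.1 (hI2.trans hg1.2.symm)
    have hg2 : Good u ((s ++ (t1 ++ t2)) ++ [y]) := ⟨hreg2, hI2⟩
    have hstep12 : Step ((s ++ (t1 ++ t2)) ++ [x]) ((s ++ (t1 ++ t2)) ++ [y]) :=
      Or.inr ⟨by simp only [List.length_append, List.length_singleton],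
        by rw [List.dropLast_concat, List.dropLast_concat]⟩
    have hp23 : ((s ++ (t1 ++ t2)) ++ [y]).Perm ((s ++ [y]) ++ (t1 ++ t2)) := by
      rw [List.append_assoc s (t1 ++ t2) [y], List.append_assoc s [y] (t1 ++ t2)]
      exact List.Perm.append_left s List.perm_append_comm
    have hg3 : Good u ((s ++ [y]) ++ (t1 ++ t2)) := good_of_perm hg2 hp23
    have hv' : v = (s ++ [y]) ++ r' := by
      rw [hvs, List.append_assoc, List.singleton_append]
    have hIH := ih (s ++ [y]) (t1 ++ t2) hv' hg3
    exact conn_step hg (Or.inl hp01) (conn_step hg1 hstep12 (conn_step hg2 (Or.inl hp23) hIH))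

end



/-- Let A be a Noetherian local ring and u, v two regular sequences of elements of A generating the same
ideal. Then there is a finite chain of regular sequences generating that same ideal, starting at u
and ending at v, in which each sequence is obtained from the previous one either by a permutation or
by changing only its last element. -/
theorem result (A : Type u) [CommRing A] [IsLocalRing A] [IsNoetherianRing A]
    (u v : List A) (hu : IsRegular A u) (hv : IsRegular A v) (huv : Ideal.span {x | x ∈ u} = Ideal.span {x | x ∈ v}) :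
    ∃ ws : List (List A), ws.head? = some u ∧ ws.getLast? = some v ∧
      (∀ w ∈ ws, IsRegular A w ∧ Ideal.span {x | x ∈ w} = Ideal.span {x | x ∈ u}) ∧
      List.IsChain (fun w w' : List A => w.Perm w' ∨ (w.length = w'.length ∧ w.dropLast = w'.dropLast)) ws := by
  have h := main_aux u v hu hv huv.symm v [] u (List.nil_append v).symm
    (by rw [List.nil_append]; exact ⟨hu, rfl⟩)
  rw [List.nil_append] at h
  exact h


end Groth.Agent.S3140
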