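import Groth.Statements.S3194
import Mathlib
import Groth.Agent.Lib.Helper10.G0

set_option autoImplicit false
universe u
open CategoryTheory
open SGA6

namespace Groth.Agent.S3194

set_option linter.style.haveILetI false

open CategoryTheory KZero Groth.Agent.Lib.helper10.G0 Groth.Agent.Lib.helper7.K0API

theorem main (A : Type u) [CommRing A] [IsDomain A] [IsPrincipalIdealRing A] :
    Function.Bijective (fun k : ℤ => k • KZero.clSub (fun M : ModuleCat.{u} A => Module.Finite A M)
      (ModuleCat.of A A)) := by
  classical
  change Function.Bijective (fun k : ℤ => k • cF A A)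
  constructor
  · -- injective via rank
    obtain ⟨φ, hφ⟩ := exists_lift_K0sub (PF A) (G := ℤ)
      (fun M : ModuleCat.{u} A => (Module.finrank A M : ℤ)) (by
        intro S hS h1 h2 h3
        haveI : Module.Finite A S.X₁ := h1
        haveI : Module.Finite A S.X₃ := h3
        have := finrank_ses S.f.hom S.g.hom hS.moduleCat_injective_f hS.moduleCat_surjective_g
          ((ShortComplex.ShortExact.moduleCat_exact_iff_function_exact S).mp hS.exact)
          (Module.rank_lt_aleph0 A S.X₁) (Module.rank_lt_aleph0 A S.X₃)
        exact_mod_cast this)
    have h1 : φ (cF A A) = 1 := by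
      rw [hφ _ (inferInstanceAs (Module.Finite A A))]
      simp [Module.finrank_self]
    intro a b hab
    have := congrArg φ hab
    simp only [map_zsmul, h1, smul_eq_mul, mul_one] at this
    exact this
  · -- surjective
    haveI : IsDomain (A ⧸ (⊥ : Ideal A)) := Ideal.Quotient.isDomain _
    haveI : IsPrincipalIdealRing (A ⧸ (⊥ : Ideal A)) :=
      IsPrincipalIdealRing.of_surjective (Ideal.Quotient.mk (⊥ : Ideal A))
        Ideal.Quotient.mk_surjective
    have hbot : cF A (A ⧸ (⊥ : Ideal A)) = cF A A :=
      cF_equiv (Submodule.quotEquivOfEqBot (⊥ : Submodule A A) rfl)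
    have htop : AddSubgroup.zmultiples (cF A A) = ⊤ := by
      rw [eq_top_iff, ← closure_clSub (PF A), AddSubgroup.closure_le]
      rintro x ⟨F, hF, rfl⟩
      haveI : Module.Finite A F := hF
      have := cF_mem_zmultiples (⊥ : Ideal A) F (by
        intro a ha m
        rw [Ideal.mem_bot] at ha
        rw [ha, zero_smul])
      rw [hbot] at this
      exact this
    intro x
    have hx : x ∈ AddSubgroup.zmultiples (cF A A) := by rw [htop]; exact AddSubgroup.mem_top _
    obtain ⟨k, hk⟩ := AddSubgroup.mem_zmultiples_iff.1 hx
    exact ⟨k, hk⟩



/-- Let A be a principal ideal domain and K_•(Spec A) = K₀ of the category of finitely generated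
A-modules (free abelian group on finitely generated modules modulo short exact sequences). The
homomorphism ℤ ⟶ K_•(Spec A) sending k to k·[A] is bijective. -/
theorem result (A : Type u) [CommRing A] [IsDomain A] [IsPrincipalIdealRing A] :
    Function.Bijective (fun k : ℤ => k • KZero.clSub (fun M : ModuleCat.{u} A => Module.Finite A M) (ModuleCat.of A A)) := by
  exact main A

end Groth.Agent.S3194
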