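import Groth.Statements.S3206
import Mathlib
import Groth.Agent.S10826

set_option autoImplicit false
open SGA7

namespace Groth.Agent.S3206

section Aux
open MvPowerSeries
open Groth.Agent.S10826 (gpart coeff_gpart decomp_eq degree_one_eq)
variable {R : Type*} [CommRing R] {n : ℕ}

/-- vanishing of all coefficients in degree `< m`. -/
def V (m : ℕ) (g : MvPowerSeries (Fin n) R) : Prop :=
  ∀ d : Fin n →₀ ℕ, d.degree < m → coeff d g = 0

theorem V_zero (m : ℕ) : V m (0 : MvPowerSeries (Fin n) R) := fun d _ => map_zero _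

theorem V_add {m : ℕ} {g h : MvPowerSeries (Fin n) R} (hg : V m g) (hh : V m h) :
    V m (g + h) := fun d hd => by rw [map_add, hg d hd, hh d hd, add_zero]

theorem V_sub {m : ℕ} {g h : MvPowerSeries (Fin n) R} (hg : V m g) (hh : V m h) :
    V m (g - h) := fun d hd => by rw [map_sub, hg d hd, hh d hd, sub_zero]

theorem V_neg {m : ℕ} {g : MvPowerSeries (Fin n) R} (hg : V m g) : V m (-g) :=
  fun d hd => by rw [map_neg, hg d hd, neg_zero]

theorem V_sum {ι : Type*} {m : ℕ} (s : Finset ι) (g : ι → MvPowerSeries (Fin n) R)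
    (hg : ∀ i ∈ s, V m (g i)) : V m (∑ i ∈ s, g i) :=
  fun d hd => by rw [map_sum]; exact Finset.sum_eq_zero (fun i hi => hg i hi d hd)

theorem V_mono {m m' : ℕ} (h : m' ≤ m) {g : MvPowerSeries (Fin n) R} (hg : V m g) : V m' g :=
  fun d hd => hg d (lt_of_lt_of_le hd h)

theorem V_mul {a b : ℕ} {g h : MvPowerSeries (Fin n) R} (hg : V a g) (hh : V b h) :
    V (a + b) (g * h) := by
  classical
  intro d hd
  rw [coeff_mul]
  apply Finset.sum_eq_zero
  rintro ⟨p, q⟩ hpq
  have hpq' : p + q = d := Finset.HasAntidiagonal.mem_antidiagonal.mp hpq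
  have hdeg : p.degree + q.degree = d.degree := by rw [← hpq', map_add]
  by_cases hp : p.degree < a
  · show coeff p g * coeff q h = 0
    rw [hg p hp, zero_mul]
  · have hq : q.degree < b := by omega
    show coeff p g * coeff q h = 0
    rw [hh q hq, mul_zero]

theorem V_C_mul {m : ℕ} (c : R) {g : MvPowerSeries (Fin n) R} (hg : V m g) : V m (C c * g) :=
  fun d hd => by rw [coeff_C_mul, hg d hd, mul_zero]

theorem V_X (i : Fin n) : V 1 (X i : MvPowerSeries (Fin n) R) := by
  classical
  intro d hd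
  rw [coeff_X, if_neg]
  rintro rfl
  rw [Finsupp.degree_single] at hd
  exact absurd hd (by decide)

theorem V_one_of_cc {g : MvPowerSeries (Fin n) R} (hg : constantCoeff g = 0) : V 1 g := by
  intro d hd
  have hd0 : d.degree = 0 := by omega
  have h0 : d = 0 := (Finsupp.degree_eq_zero_iff d).mp hd0
  rw [h0, coeff_zero_eq_constantCoeff_apply, hg]

theorem cc_of_V {m : ℕ} (hm : 1 ≤ m) {g : MvPowerSeries (Fin n) R} (hg : V m g) :
    constantCoeff g = 0 := by
  rw [← coeff_zero_eq_constantCoeff_apply]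
  apply hg
  rw [map_zero]; omega

theorem V_gpart {m : ℕ} {f : MvPowerSeries (Fin n) R} (hf : V (m + 1) f) (i : Fin n) :
    V m (gpart f i) := by
  intro d hd
  rw [coeff_gpart]
  split_ifs
  · apply hf
    rw [map_add, Finsupp.degree_single]; omega
  · rfl

theorem gpart_sub (f g : MvPowerSeries (Fin n) R) (i : Fin n) :
    gpart (f - g) i = gpart f i - gpart g i := by
  ext d
  rw [map_sub, coeff_gpart, coeff_gpart, coeff_gpart]
  split_ifs
  · rw [map_sub]
  · rw [sub_zero]

theorem eq_zero_of_V {g : MvPowerSeries (Fin n) R} (hg : ∀ m, V m g) : g = 0 := by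
  ext d
  rw [map_zero]
  exact hg (d.degree + 1) d (Nat.lt_succ_self _)

theorem cs_mul' (j : Fin n) (f g : MvPowerSeries (Fin n) R) :
    coeff (Finsupp.single j 1) (f * g) =
      constantCoeff f * coeff (Finsupp.single j 1) g +
        coeff (Finsupp.single j 1) f * constantCoeff g := by
  classical
  rw [coeff_mul, Finsupp.antidiagonal_single, Finset.sum_map, Finset.Nat.sum_antidiagonal_succ,
    Finset.Nat.antidiagonal_zero, Finset.sum_singleton]
  simp

theorem coeff_linform (h : Fin n → R) (m : Fin n) :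
    coeff (Finsupp.single m 1) (∑ j, C (h j) * X j : MvPowerSeries (Fin n) R) = h m := by
  classical
  rw [map_sum]
  simp only [coeff_C_mul, coeff_index_single_X, mul_ite, mul_one, mul_zero]
  rw [Finset.sum_ite_eq, if_pos (Finset.mem_univ _)]

theorem pderiv_term (i i' j' : Fin n) (c : R) :
    pderiv R i (C c * X i' * X j' : MvPowerSeries (Fin n) R) =
      (if j' = i then C c * X i' else 0) + (if i' = i then C c * X j' else 0) := by
  simp only [Derivation.leibniz, pderiv_C, pderiv_X, Pi.single_apply, smul_eq_mul, smul_zero,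
    add_zero]
  split_ifs <;> ring

theorem pderiv_Q (a : Fin n → Fin n → R) (i : Fin n) :
    pderiv R i (∑ i', ∑ j', C (a i' j') * X i' * X j' : MvPowerSeries (Fin n) R) =
      ∑ j, C (a i j + a j i) * X j := by
  have h1 : ∀ i' : Fin n, ∑ j', ((if j' = i then C (a i' j') * X i' else 0) +
      (if i' = i then C (a i' j') * X j' else 0) : MvPowerSeries (Fin n) R)
      = C (a i' i) * X i' + (if i' = i then ∑ j', C (a i' j') * X j' else 0) := by
    intro i'
    rw [Finset.sum_add_distrib]
    congr 1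
    · simp only [Finset.sum_ite_eq', Finset.mem_univ, if_true]
    · by_cases h : i' = i
      · simp only [if_pos h]
      · simp only [if_neg h, Finset.sum_const_zero]
  simp only [map_sum, pderiv_term, h1]
  rw [Finset.sum_add_distrib]
  simp only [Finset.sum_ite_eq', Finset.mem_univ, if_true]
  rw [← Finset.sum_add_distrib]
  apply Finset.sum_congr rfl
  intro j _
  rw [map_add]; ring

theorem fixedpt {ι : Type*}
    (T : (ι → MvPowerSeries (Fin n) R) → (ι → MvPowerSeries (Fin n) R))
    (hT2 : ∀ ε, (∀ i, V 2 (ε i)) → ∀ i, V 2 (T ε i))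
    (hTc : ∀ ε ε', (∀ i, V 2 (ε i)) → (∀ i, V 2 (ε' i)) → ∀ m, (∀ i, V m (ε i - ε' i)) →
      ∀ i, V (m + 1) (T ε i - T ε' i)) :
    ∃ ε, (∀ i, V 2 (ε i)) ∧ T ε = ε := by
  obtain ⟨E, hE0, hEs⟩ : ∃ E : ℕ → ι → MvPowerSeries (Fin n) R,
      E 0 = (fun _ => 0) ∧ ∀ m, E (m + 1) = T (E m) :=
    ⟨fun m => Nat.rec (fun _ => 0) (fun _ e => T e) m, rfl, fun _ => rfl⟩
  have ha : ∀ m i, V 2 (E m i) := by
    intro m
    induction m with
    | zero => intro i; rw [hE0]; exact V_zero 2
    | succ m ih => intro i; rw [hEs]; exact hT2 _ ih i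
  have hc : ∀ m i, V m (E (m + 1) i - E m i) := by
    intro m
    induction m with
    | zero => intro i d hd; exact absurd hd (Nat.not_lt_zero _)
    | succ m ih =>
      intro i
      have h := hTc (E (m + 1)) (E m) (ha (m + 1)) (ha m) m ih i
      rw [← hEs (m + 1), ← hEs m] at h
      exact h
  have hstab : ∀ (d : Fin n →₀ ℕ) (i : ι) (m : ℕ), d.degree + 1 ≤ m →
      coeff d (E m i) = coeff d (E (d.degree + 1) i) := by
    intro d i m hm
    induction m, hm using Nat.le_induction with
    | base => rfl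
    | succ m hm ih =>
      rw [← ih]
      have h1 := hc m i d (by omega)
      rw [map_sub, sub_eq_zero] at h1
      exact h1
  obtain ⟨ε, hεdef⟩ : ∃ ε : ι → MvPowerSeries (Fin n) R,
      ∀ i d, coeff d (ε i) = coeff d (E (d.degree + 1) i) :=
    ⟨fun i => fun d => coeff d (E (d.degree + 1) i), fun i d => rfl⟩
  have he : ∀ m i, V m (ε i - E m i) := by
    intro m i d hd
    rw [map_sub, hεdef, hstab d i m (by omega), sub_self]
  have hε2 : ∀ i, V 2 (ε i) := by
    intro i d hd
    rw [hεdef]; exact ha _ i d hd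
  refine ⟨ε, hε2, ?_⟩
  funext i
  have hz : T ε i - ε i = 0 := by
    apply eq_zero_of_V
    intro m
    have h1 : V (m + 1) (T ε i - T (E m) i) := hTc ε (E m) hε2 (ha m) m (he m) i
    have h2 : V (m + 1) (ε i - E (m + 1) i) := he (m + 1) i
    have h3 : T ε i - ε i = (T ε i - T (E m) i) - (ε i - E (m + 1) i) := by
      rw [hEs m]; ring
    rw [h3]
    exact V_mono (Nat.le_succ m) (V_sub h1 h2)
  exact sub_eq_zero.mp hz

end Aux



/-- Let k be a field and f a formal power series in n variables over k without constant term whose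
partial derivatives ∂f/∂x_1, …, ∂f/∂x_n generate the maximal ideal of k[[x_1, …, x_n]]. Then there
are power series ε_1, …, ε_n with no terms of degree < 2 and a quadratic form q such that f = q(x_1
+ ε_1, …, x_n + ε_n). -/
theorem result (k : Type) [Field k] (n : ℕ) (f : MvPowerSeries (Fin n) k)
    (hf0 : MvPowerSeries.constantCoeff f = 0)
    (hJ : Ideal.span (Set.range fun i : Fin n => MvPowerSeries.pderiv k i f) = IsLocalRing.maximalIdeal (MvPowerSeries (Fin n) k)) :
    ∃ (ε : Fin n → MvPowerSeries (Fin n) k) (_ : ∀ i (m : Fin n →₀ ℕ), m.degree < 2 → MvPowerSeries.coeff m (ε i) = 0)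
      (q : MvPolynomial (Fin n) k) (_ : q.IsHomogeneous 2)
      (_ : MvPowerSeries.HasSubst (fun i : Fin n => MvPowerSeries.X i + ε i)),
      f = MvPowerSeries.subst (fun i : Fin n => MvPowerSeries.X i + ε i) (q : MvPowerSeries (Fin n) k) := by
  classical
  have hmemX : ∀ l : Fin n, (MvPowerSeries.X l : MvPowerSeries (Fin n) k) ∈
      IsLocalRing.maximalIdeal (MvPowerSeries (Fin n) k) := by
    intro l
    rw [IsLocalRing.mem_maximalIdeal, mem_nonunits_iff, MvPowerSeries.isUnit_iff_constantCoeff,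
      MvPowerSeries.constantCoeff_X]
    exact not_isUnit_zero
  have hpd_mem : ∀ i, MvPowerSeries.pderiv k i f ∈
      IsLocalRing.maximalIdeal (MvPowerSeries (Fin n) k) := fun i => by
    rw [← hJ]; exact Ideal.subset_span ⟨i, rfl⟩
  have hpd_cc : ∀ i, MvPowerSeries.constantCoeff (MvPowerSeries.pderiv k i f) = 0 := by
    intro i
    have h := hpd_mem i
    rw [IsLocalRing.mem_maximalIdeal, mem_nonunits_iff,
      MvPowerSeries.isUnit_iff_constantCoeff] at h
    by_contra hne
    exact h (IsUnit.mk0 _ hne)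
  have hlin : ∀ i, MvPowerSeries.coeff (Finsupp.single i 1) f = 0 := by
    intro i
    have h := hpd_cc i
    rw [← MvPowerSeries.coeff_zero_eq_constantCoeff_apply, MvPowerSeries.coeff_pderiv,
      zero_add] at h
    simpa using h
  have hV2f : V 2 f := by
    intro d hd
    have h01 : d.degree = 0 ∨ d.degree = 1 := by omega
    rcases h01 with h | h
    · have h0 : d = 0 := (Finsupp.degree_eq_zero_iff d).mp h
      rw [h0, MvPowerSeries.coeff_zero_eq_constantCoeff_apply, hf0]
    · obtain ⟨j, rfl⟩ := Groth.Agent.S10826.degree_one_eq h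
      exact hlin j
  -- decomposition of f
  have hcc1 : ∀ i, MvPowerSeries.constantCoeff (Groth.Agent.S10826.gpart f i) = 0 := fun i =>
    cc_of_V (m := 1) (le_refl 1) (V_gpart (m := 1) hV2f i)
  obtain ⟨gg, hgg⟩ : ∃ gg : Fin n → Fin n → MvPowerSeries (Fin n) k,
      ∀ i j, gg i j = Groth.Agent.S10826.gpart (Groth.Agent.S10826.gpart f i) j :=
    ⟨_, fun _ _ => rfl⟩
  obtain ⟨a, ha⟩ : ∃ a : Fin n → Fin n → k,
      ∀ i j, a i j = MvPowerSeries.constantCoeff (gg i j) := ⟨_, fun _ _ => rfl⟩
  have h2 : ∀ i, Groth.Agent.S10826.gpart f i = ∑ j, MvPowerSeries.X j * gg i j := by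
    intro i
    have h := Groth.Agent.S10826.decomp_eq (Groth.Agent.S10826.gpart f i) (hcc1 i)
    simp only [← hgg] at h
    exact h
  have hf_eq : f = ∑ i, ∑ j, MvPowerSeries.X i * MvPowerSeries.X j * gg i j := by
    have h1 := Groth.Agent.S10826.decomp_eq f hf0
    calc f = ∑ i, MvPowerSeries.X i * Groth.Agent.S10826.gpart f i := h1
      _ = ∑ i, ∑ j, MvPowerSeries.X i * MvPowerSeries.X j * gg i j := by
        apply Finset.sum_congr rfl
        intro i _
        rw [h2 i, Finset.mul_sum]
        apply Finset.sum_congr rfl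
        intro j _
        ring
  obtain ⟨Q, hQdef⟩ : ∃ Q : MvPowerSeries (Fin n) k, Q = ∑ i', ∑ j',
      MvPowerSeries.C (a i' j') * MvPowerSeries.X i' * MvPowerSeries.X j' := ⟨_, rfl⟩
  obtain ⟨r, hrdef⟩ : ∃ r : MvPowerSeries (Fin n) k, r = f - Q := ⟨_, rfl⟩
  have hfQr : f = Q + r := by rw [hrdef]; ring
  have hr_eq : r = ∑ i, ∑ j, MvPowerSeries.X i * MvPowerSeries.X j *
      (gg i j - MvPowerSeries.C (a i j)) := by
    rw [hrdef, hQdef]
    conv_lhs => rw [hf_eq]
    rw [← Finset.sum_sub_distrib]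
    apply Finset.sum_congr rfl
    intro i _
    rw [← Finset.sum_sub_distrib]
    apply Finset.sum_congr rfl
    intro j _
    ring
  have hV3r : V 3 r := by
    rw [hr_eq]
    apply V_sum
    intro i _
    apply V_sum
    intro j _
    have h1 : V 1 (gg i j - MvPowerSeries.C (a i j)) :=
      V_one_of_cc (by rw [map_sub, MvPowerSeries.constantCoeff_C, ha, sub_self])
    exact V_mul (V_mul (V_X i) (V_X j)) h1
  -- Hessian
  obtain ⟨H, hH⟩ : ∃ H : Matrix (Fin n) (Fin n) k, ∀ i j, H i j = a i j + a j i :=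
    ⟨Matrix.of fun i j => a i j + a j i, fun _ _ => rfl⟩
  obtain ⟨L, hL⟩ : ∃ L : Fin n → MvPowerSeries (Fin n) k,
      ∀ i, L i = ∑ m, MvPowerSeries.C (H i m) * MvPowerSeries.X m := ⟨_, fun _ => rfl⟩
  have hpdQ : ∀ i, MvPowerSeries.pderiv k i Q = L i := by
    intro i
    rw [hQdef, pderiv_Q, hL]
    apply Finset.sum_congr rfl
    intro j _
    rw [hH]
  have hHcoeff : ∀ i m, MvPowerSeries.coeff (Finsupp.single m 1) (MvPowerSeries.pderiv k i f)
      = H i m := by
    intro i m
    have hdeg : (Finsupp.single m 1 + Finsupp.single i 1 : Fin n →₀ ℕ).degree < 3 := by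
      rw [map_add, Finsupp.degree_single, Finsupp.degree_single]; norm_num
    rw [hfQr, map_add, map_add, hpdQ, hL, coeff_linform, MvPowerSeries.coeff_pderiv,
      hV3r _ hdeg, zero_mul, add_zero]
  have hX : ∀ l : Fin n, ∃ c : Fin n → MvPowerSeries (Fin n) k,
      ∑ i, c i * MvPowerSeries.pderiv k i f = MvPowerSeries.X l := by
    intro l
    have h1 : (MvPowerSeries.X l : MvPowerSeries (Fin n) k) ∈
        Ideal.span (Set.range fun i : Fin n => MvPowerSeries.pderiv k i f) := by
      rw [hJ]; exact hmemX l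
    obtain ⟨c, hc⟩ := Ideal.mem_span_range_iff_exists_fun.mp h1
    exact ⟨c, by simpa [smul_eq_mul] using hc⟩
  choose c hc using hX
  obtain ⟨G, hG⟩ : ∃ G : Matrix (Fin n) (Fin n) k,
      ∀ l i, G l i = MvPowerSeries.constantCoeff (c l i) :=
    ⟨Matrix.of fun l i => MvPowerSeries.constantCoeff (c l i), fun _ _ => rfl⟩
  have hGH : G * H = 1 := by
    ext l m
    rw [Matrix.mul_apply, Matrix.one_apply]
    have h1 := congrArg (MvPowerSeries.coeff (Finsupp.single m 1)) (hc l)
    rw [map_sum, MvPowerSeries.coeff_index_single_X] at h1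
    have h3 : ∀ i, MvPowerSeries.coeff (Finsupp.single m 1)
        (c l i * MvPowerSeries.pderiv k i f) = G l i * H i m := by
      intro i
      rw [cs_mul', hHcoeff, hpd_cc, mul_zero, add_zero, hG]
    rw [Finset.sum_congr rfl (fun i _ => h3 i)] at h1
    rw [h1]
    by_cases h : l = m
    · rw [if_pos h, if_pos h.symm]
    · rw [if_neg h, if_neg (fun h' => h h'.symm)]
  have hXL : ∀ j, (MvPowerSeries.X j : MvPowerSeries (Fin n) k) =
      ∑ i, MvPowerSeries.C (G j i) * L i := by
    intro j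
    have h1 : ∀ m, ∑ i, G j i * H i m = if j = m then 1 else 0 := by
      intro m; rw [← Matrix.mul_apply, hGH, Matrix.one_apply]
    calc (MvPowerSeries.X j : MvPowerSeries (Fin n) k)
        = ∑ m, MvPowerSeries.C (if j = m then (1 : k) else 0) * MvPowerSeries.X m := by
          rw [Finset.sum_eq_single j]
          · rw [if_pos rfl, map_one, one_mul]
          · intro m _ hm; rw [if_neg (Ne.symm hm), map_zero, zero_mul]
          · intro h; exact absurd (Finset.mem_univ j) h
      _ = ∑ m, MvPowerSeries.C (∑ i, G j i * H i m) * MvPowerSeries.X m := by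
          apply Finset.sum_congr rfl; intro m _; rw [h1]
      _ = ∑ m, ∑ i, MvPowerSeries.C (G j i) * (MvPowerSeries.C (H i m) * MvPowerSeries.X m) := by
          apply Finset.sum_congr rfl; intro m _
          rw [map_sum, Finset.sum_mul]
          apply Finset.sum_congr rfl; intro i _
          rw [map_mul]; ring
      _ = ∑ i, ∑ m, MvPowerSeries.C (G j i) * (MvPowerSeries.C (H i m) * MvPowerSeries.X m) :=
          Finset.sum_comm
      _ = ∑ i, MvPowerSeries.C (G j i) * L i := by
          apply Finset.sum_congr rfl; intro i _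
          rw [hL, Finset.mul_sum]
  -- the division operators
  obtain ⟨Dop, hDop⟩ : ∃ Dop : Fin n → MvPowerSeries (Fin n) k → MvPowerSeries (Fin n) k,
      ∀ i s, Dop i s = ∑ j, MvPowerSeries.C (G j i) * Groth.Agent.S10826.gpart s j :=
    ⟨_, fun _ _ => rfl⟩
  have hDop_decomp : ∀ s : MvPowerSeries (Fin n) k, MvPowerSeries.constantCoeff s = 0 →
      s = ∑ i, L i * Dop i s := by
    intro s hs
    calc s = ∑ j, MvPowerSeries.X j * Groth.Agent.S10826.gpart s j :=
          Groth.Agent.S10826.decomp_eq s hs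
      _ = ∑ j, ∑ i, (MvPowerSeries.C (G j i) * L i) * Groth.Agent.S10826.gpart s j := by
          apply Finset.sum_congr rfl; intro j _
          conv_lhs => rw [hXL j]
          rw [Finset.sum_mul]
      _ = ∑ i, ∑ j, (MvPowerSeries.C (G j i) * L i) * Groth.Agent.S10826.gpart s j :=
          Finset.sum_comm
      _ = ∑ i, L i * Dop i s := by
          apply Finset.sum_congr rfl; intro i _
          rw [hDop, Finset.mul_sum]
          apply Finset.sum_congr rfl; intro j _; ring
  have hDop_sub : ∀ i s t, Dop i (s - t) = Dop i s - Dop i t := by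
    intro i s t
    rw [hDop, hDop, hDop, ← Finset.sum_sub_distrib]
    apply Finset.sum_congr rfl; intro j _
    rw [gpart_sub]; ring
  have hDop_V : ∀ i s m, V (m + 1) s → V m (Dop i s) := by
    intro i s m hs
    rw [hDop]
    apply V_sum
    intro j _
    exact V_C_mul _ (V_gpart hs j)
  -- the quadratic operator
  obtain ⟨Bq, hBq⟩ : ∃ Bq : (Fin n → MvPowerSeries (Fin n) k) → (Fin n → MvPowerSeries (Fin n) k) →
      MvPowerSeries (Fin n) k,
      ∀ u v, Bq u v = ∑ i, ∑ j, MvPowerSeries.C (a i j) * u i * v j := ⟨_, fun _ _ => rfl⟩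
  have hBqV : ∀ (u v : Fin n → MvPowerSeries (Fin n) k) (p q : ℕ), (∀ i, V p (u i)) →
      (∀ i, V q (v i)) → V (p + q) (Bq u v) := by
    intro u v p q hu hv
    rw [hBq]
    apply V_sum; intro i _
    apply V_sum; intro j _
    exact V_mul (V_C_mul _ (hu i)) (hv j)
  obtain ⟨T, hT⟩ : ∃ T : (Fin n → MvPowerSeries (Fin n) k) → (Fin n → MvPowerSeries (Fin n) k),
      ∀ ε i, T ε i = Dop i (r - Bq ε ε) := ⟨fun ε i => Dop i (r - Bq ε ε), fun _ _ => rfl⟩
  have hT2 : ∀ ε, (∀ i, V 2 (ε i)) → ∀ i, V 2 (T ε i) := by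
    intro ε hε i
    rw [hT]
    apply hDop_V
    exact V_sub hV3r (V_mono (by norm_num) (hBqV ε ε 2 2 hε hε))
  have hTc : ∀ ε ε', (∀ i, V 2 (ε i)) → (∀ i, V 2 (ε' i)) → ∀ m, (∀ i, V m (ε i - ε' i)) →
      ∀ i, V (m + 1) (T ε i - T ε' i) := by
    intro ε ε' hε hε' m hm i
    have hm' : ∀ i, V m (ε' i - ε i) := fun i => by
      have h := V_neg (hm i); rwa [neg_sub] at h
    rw [hT, hT, ← hDop_sub]
    apply hDop_V
    have h1 : (r - Bq ε ε) - (r - Bq ε' ε') = ∑ i', ∑ j',
        (MvPowerSeries.C (a i' j') * (ε' i' - ε i') * ε' j' +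
          MvPowerSeries.C (a i' j') * ε i' * (ε' j' - ε j')) := by
      rw [hBq, hBq, sub_sub_sub_cancel_left, ← Finset.sum_sub_distrib]
      apply Finset.sum_congr rfl; intro i' _
      rw [← Finset.sum_sub_distrib]
      apply Finset.sum_congr rfl; intro j' _; ring
    rw [h1]
    apply V_sum; intro i' _
    apply V_sum; intro j' _
    apply V_add
    · exact V_mono (by omega) (V_mul (V_C_mul _ (hm' i')) (hε' j'))
    · exact V_mono (by omega) (V_mul (V_C_mul _ (hε i')) (hm' j'))
  obtain ⟨ε, hε2, hεfix⟩ := fixedpt T hT2 hTc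
  have hεi : ∀ i, ε i = Dop i (r - Bq ε ε) := fun i => by
    rw [← hT]; exact (congrFun hεfix i).symm
  have hVs : V 3 (r - Bq ε ε) := V_sub hV3r (V_mono (by norm_num) (hBqV ε ε 2 2 hε2 hε2))
  have hs0 : MvPowerSeries.constantCoeff (r - Bq ε ε) = 0 := cc_of_V (m := 3) (by norm_num) hVs
  have hsum : ∑ i, L i * ε i = r - Bq ε ε := by
    have h := hDop_decomp (r - Bq ε ε) hs0
    conv_rhs => rw [h]
    apply Finset.sum_congr rfl
    intro i _
    exact congrArg (L i * ·) (hεi i)
  have hLε : ∑ i, L i * ε i = Bq MvPowerSeries.X ε + Bq ε MvPowerSeries.X := by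
    rw [hBq, hBq]
    have h1 : ∀ i, L i * ε i = ∑ m, (MvPowerSeries.C (a i m) * ε i * MvPowerSeries.X m +
        MvPowerSeries.C (a m i) * MvPowerSeries.X m * ε i) := by
      intro i
      rw [hL, Finset.sum_mul]
      apply Finset.sum_congr rfl; intro m _
      rw [hH, map_add]; ring
    rw [Finset.sum_congr rfl (fun i _ => h1 i)]
    simp only [Finset.sum_add_distrib]
    rw [add_comm]
    congr 1
    exact Finset.sum_comm
  have hexp : Bq (fun i => MvPowerSeries.X i + ε i) (fun i => MvPowerSeries.X i + ε i) =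
      Bq MvPowerSeries.X MvPowerSeries.X + Bq MvPowerSeries.X ε + Bq ε MvPowerSeries.X +
        Bq ε ε := by
    have hLHS : Bq (fun i => MvPowerSeries.X i + ε i) (fun i => MvPowerSeries.X i + ε i) =
        ∑ i, ∑ j, MvPowerSeries.C (a i j) * (MvPowerSeries.X i + ε i) *
          (MvPowerSeries.X j + ε j) := by rw [hBq]
    rw [hLHS, hBq MvPowerSeries.X MvPowerSeries.X, hBq MvPowerSeries.X ε, hBq ε MvPowerSeries.X,
      hBq ε ε, ← Finset.sum_add_distrib, ← Finset.sum_add_distrib, ← Finset.sum_add_distrib]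
    apply Finset.sum_congr rfl; intro i _
    rw [← Finset.sum_add_distrib, ← Finset.sum_add_distrib, ← Finset.sum_add_distrib]
    apply Finset.sum_congr rfl; intro j _; ring
  have hQB : Q = Bq MvPowerSeries.X MvPowerSeries.X := by rw [hQdef, hBq]
  -- the polynomial
  obtain ⟨q, hqdef⟩ : ∃ q : MvPolynomial (Fin n) k, q = ∑ i, ∑ j,
      MvPolynomial.C (a i j) * MvPolynomial.X i * MvPolynomial.X j := ⟨_, rfl⟩
  have hqhom : q.IsHomogeneous 2 := by
    rw [hqdef]
    apply MvPolynomial.IsHomogeneous.sum; intro i _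
    apply MvPolynomial.IsHomogeneous.sum; intro j _
    exact ((MvPolynomial.isHomogeneous_C _ _).mul (MvPolynomial.isHomogeneous_X _ _)).mul
      (MvPolynomial.isHomogeneous_X _ _)
  have hsubst : MvPowerSeries.HasSubst (fun i : Fin n => MvPowerSeries.X i + ε i) :=
    MvPowerSeries.hasSubst_of_constantCoeff_zero (fun i => by
      rw [map_add, MvPowerSeries.constantCoeff_X, zero_add]
      exact cc_of_V (m := 2) (by norm_num) (hε2 i))
  refine ⟨ε, fun i => hε2 i, q, hqhom, hsubst, ?_⟩
  rw [MvPowerSeries.subst_coe, hqdef]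
  simp only [map_sum, map_mul, MvPolynomial.aeval_C, MvPolynomial.aeval_X]
  rw [← MvPowerSeries.c_eq_algebraMap]
  have hfin : Bq (fun i => MvPowerSeries.X i + ε i) (fun i => MvPowerSeries.X i + ε i) = f := by
    rw [hexp, add_assoc (Bq MvPowerSeries.X MvPowerSeries.X), ← hLε, hsum, ← hQB, hfQr]
    ring
  rw [← hfin, hBq]


end Groth.Agent.S3206
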