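import Groth.Statements.S3208
import Mathlib

set_option autoImplicit false
open SGA7

namespace Groth.Agent.S3208

section aux

variable {E : Type} [CommRing E]

/-- `u ≡ 1 mod qE`. -/
def Cong (q : ℕ) (u : E) : Prop := ∃ v : E, u = 1 + (q : E) * v

lemma Cong.pow {q : ℕ} {u : E} (h : Cong q u) (k : ℕ) : Cong q (u ^ k) := by
  obtain ⟨v, rfl⟩ := h
  induction k with
  | zero => exact ⟨0, by simp⟩
  | succ k ih =>
    obtain ⟨a, ha⟩ := ih
    refine ⟨a + v + (q : E) * a * v, ?_⟩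
    rw [pow_succ, ha]; ring

lemma Cong.of_dvd {q q' : ℕ} {u : E} (h : Cong q u) (hd : q' ∣ q) : Cong q' u := by
  obtain ⟨c, rfl⟩ := hd
  obtain ⟨v, hv⟩ := h
  exact ⟨c * v, by rw [hv]; push_cast; ring⟩

lemma binom3 (x : E) (n : ℕ) :
    ∃ z : E, (1 + x) ^ n = 1 + (n : E) * x + (n.choose 2 : E) * x ^ 2 + x ^ 3 * z := by
  induction n with
  | zero => exact ⟨0, by simp⟩
  | succ n ih =>
    obtain ⟨z, hz⟩ := ih
    refine ⟨z + (n.choose 2 : E) + x * z, ?_⟩
    have hc : (n + 1).choose 2 = n + n.choose 2 := by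
      rw [show 2 = 1 + 1 from rfl, Nat.choose_succ_succ', Nat.choose_one_right]
    rw [pow_succ, hz, hc]
    push_cast
    ring

variable [NoZeroSMulDivisors ℤ E]

lemma cancel {n : ℕ} (hn : n ≠ 0) {y : E} (h : (n : E) * y = 0) : y = 0 := by
  have h' : (n : ℤ) • y = 0 := by rw [zsmul_eq_mul]; simpa using h
  rcases smul_eq_zero.1 h' with h0 | h0
  · exact absurd (by exact_mod_cast h0) hn
  · exact h0

lemma step_coprime {Q ℓ : ℕ} (hQ : Q ≠ 0) (hc : Nat.Coprime ℓ Q) {u : E} (hu : u ^ ℓ = 1)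
    (h : Cong Q u) : Cong (Q ^ 2) u := by
  obtain ⟨w, rfl⟩ := h
  obtain ⟨z, hz⟩ := binom3 ((Q : E) * w) ℓ
  rw [hu] at hz
  have h0 : (Q : E) * ((ℓ : E) * w + (Q : E) * ((ℓ.choose 2 : E) * w ^ 2 + (Q : E) * w ^ 3 * z)) = 0 := by
    linear_combination -hz
  have h1 := cancel hQ h0
  have hb : IsCoprime (ℓ : ℤ) (Q : ℤ) := Nat.isCoprime_iff_coprime.2 hc
  obtain ⟨a, b, hab⟩ := hb
  have hab' : (a : E) * (ℓ : E) + (b : E) * (Q : E) = 1 := by
    exact_mod_cast congrArg (Int.cast : ℤ → E) hab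
  refine ⟨(b : E) * w - (a : E) * ((ℓ.choose 2 : E) * w ^ 2 + (Q : E) * w ^ 3 * z), ?_⟩
  push_cast
  linear_combination (-(Q : E) * w) * hab' + (Q : E) * (a : E) * h1

lemma step_prime {p Q : ℕ} (hp : p.Prime) (hpQ : p ∣ Q) (hQ : Q ≠ 0) (h3 : 3 ≤ p ∨ p ^ 2 ∣ Q)
    {u : E} (hu : u ^ p = 1) (h : Cong Q u) : Cong (Q * p) u := by
  obtain ⟨w, rfl⟩ := h
  obtain ⟨Q', rfl⟩ := hpQ
  rcases hp.eq_two_or_odd' with rfl | hodd
  · have h4 : 2 ^ 2 ∣ 2 * Q' := by
      rcases h3 with h | h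
      · omega
      · exact h
    obtain ⟨c, hc⟩ : 2 ∣ Q' := by
      obtain ⟨c, hc⟩ := h4
      exact ⟨c, by omega⟩
    subst hc
    have h0 : ((2 * (2 * c) : ℕ) : E) * (((2 : ℕ) : E) * (w + 2 * (c : E) * w ^ 2)) = 0 := by
      push_cast
      push_cast at hu
      linear_combination hu
    have h1 := cancel (by norm_num) (cancel hQ h0)
    refine ⟨-(c : E) * w ^ 2, ?_⟩
    push_cast
    linear_combination (4 * (c : E)) * h1
  · obtain ⟨c, hc⟩ := hodd
    obtain ⟨z, hz⟩ := binom3 (((p * Q' : ℕ) : E) * w) p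
    rw [hu] at hz
    have hch : p.choose 2 = p * c := by
      rw [Nat.choose_two_right, hc, Nat.add_sub_cancel, ← mul_assoc, mul_comm _ 2, mul_assoc,
        Nat.mul_div_cancel_left _ (by norm_num : 0 < 2)]
    rw [hch] at hz
    have h0 : ((p * Q' : ℕ) : E) * ((p : E) * (w + (c : E) * ((p * Q' : ℕ) : E) * w ^ 2
        + (Q' : E) * ((p * Q' : ℕ) : E) * w ^ 3 * z)) = 0 := by
      push_cast
      push_cast at hz
      linear_combination -hz
    have h1 := cancel hp.ne_zero (cancel hQ h0)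
    refine ⟨-(Q' : E) * ((c : E) * w ^ 2 + (Q' : E) * w ^ 3 * z), ?_⟩
    push_cast
    push_cast at h1
    linear_combination ((p : E) * (Q' : E)) * h1

variable [Module.Finite ℤ E]

lemma sep {q : ℕ} (hq : 2 ≤ q) {u : E} (h : ∀ k, Cong (q ^ k) u) : u = 1 := by
  have hI : Ideal.span {(q : ℤ)} ≠ ⊤ := by
    rw [Ne, Ideal.span_singleton_eq_top, Int.isUnit_iff]; omega
  have hbot := Ideal.iInf_pow_smul_eq_bot_of_isTorsionFree (M := E) (I := Ideal.span {(q : ℤ)}) hI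
  have hmem : u - 1 ∈ (⨅ i : ℕ, (Ideal.span {(q : ℤ)}) ^ i • ⊤ : Submodule ℤ E) := by
    rw [Submodule.mem_iInf]
    intro k
    obtain ⟨v, hv⟩ := h k
    have : u - 1 = ((q : ℤ) ^ k) • v := by rw [hv, zsmul_eq_mul]; push_cast; ring
    rw [this]
    exact Submodule.smul_mem_smul (Ideal.pow_mem_pow (Ideal.mem_span_singleton_self _) _)
      Submodule.mem_top
  rw [hbot] at hmem
  exact sub_eq_zero.1 ((Submodule.mem_bot ℤ).1 hmem)

lemma eq_one_of_coprime {q ℓ : ℕ} (hq : 2 ≤ q) (hc : Nat.Coprime ℓ q) {u : E} (hu : u ^ ℓ = 1)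
    (h : Cong q u) : u = 1 := by
  apply sep hq
  intro k
  induction k with
  | zero => exact ⟨u - 1, by simp⟩
  | succ k ih =>
    rcases Nat.eq_zero_or_pos k with rfl | hk
    · simpa using h
    · have := step_coprime (Q := q ^ k) (by positivity) (Nat.Coprime.pow_right k hc) hu ih
      exact this.of_dvd (by rw [← pow_mul]; exact pow_dvd_pow _ (by omega))

lemma eq_one_of_prime {p q : ℕ} (hp : p.Prime) (hpq : p ∣ q) (hq : q ≠ 0)
    (h3 : 3 ≤ p ∨ p ^ 2 ∣ q) {u : E} (hu : u ^ p = 1) (h : Cong q u) : u = 1 := by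
  apply sep hp.two_le
  have hall : ∀ k, Cong (q * p ^ k) u := by
    intro k
    induction k with
    | zero => simpa using h
    | succ k ih =>
      have hpos : q * p ^ k ≠ 0 := mul_ne_zero hq (pow_ne_zero _ hp.ne_zero)
      have := step_prime hp (Dvd.dvd.mul_right hpq _) hpos
        (h3.imp id (fun h => Dvd.dvd.mul_right h _)) hu ih
      rwa [pow_succ, ← mul_assoc]
  intro k
  exact (hall k).of_dvd (Dvd.intro_left _ rfl)

lemma eq_one_of_prime_pow {p q : ℕ} (hp : p.Prime) (hpq : p ∣ q) (hq : q ≠ 0)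
    (h3 : 3 ≤ p ∨ p ^ 2 ∣ q) : ∀ (k : ℕ) {u : E}, u ^ (p ^ k) = 1 → Cong q u → u = 1 := by
  intro k
  induction k with
  | zero => intro u hu _; simpa using hu
  | succ k ih =>
    intro u hu h
    have h1 : (u ^ (p ^ k)) ^ p = 1 := by rw [← pow_mul, ← pow_succ]; exact hu
    have h2 := eq_one_of_prime hp hpq hq h3 h1 (h.pow _)
    exact ih h2 h

lemma exists_pow {p n m : ℕ} (hp : p.Prime) (hpn : p ∣ n) (hm : 0 < m) {u : E} (hu : u ^ m = 1)
    (h : Cong n u) : ∃ k, u ^ (p ^ k) = 1 := by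
  obtain ⟨e, m', hm', hmeq⟩ := Nat.exists_eq_pow_mul_and_not_dvd (n := m) (by omega) p hp.ne_one
  refine ⟨e, ?_⟩
  have h1 : (u ^ (p ^ e)) ^ m' = 1 := by rw [← pow_mul, ← hmeq]; exact hu
  have hc : Nat.Coprime m' p := ((Nat.Prime.coprime_iff_not_dvd hp).2 hm').symm
  exact eq_one_of_coprime hp.two_le hc h1 ((h.of_dvd hpn).pow _)

end aux

/-- Let E be a commutative ring which is finitely generated and torsion-free as an additive group, u an
element of E of finite multiplicative order (u^m = 1 for some m > 0), and n ≥ 2 an integer with u ≡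
1 modulo nE (i.e. 1 - u = n·v for some v ∈ E). Then u² = 1, and if n ≥ 3 then u = 1. -/
theorem result (E : Type) [CommRing E] [NoZeroSMulDivisors ℤ E] [Module.Finite ℤ E] (u : E) (m : ℕ) (hm : 0 < m)
    (hu : u ^ m = 1) (n : ℕ) (hn : 2 ≤ n) (hcong : ∃ v : E, 1 - u = (n : E) * v) :
    u ^ 2 = 1 ∧ (3 ≤ n → u = 1) := by
  have hC : Cong n u := by
    obtain ⟨v, hv⟩ := hcong
    exact ⟨-v, by linear_combination (-1 : E) * hv⟩
  have hn0 : n ≠ 0 := by omega
  have key : ∀ p, p.Prime → p ∣ n → (3 ≤ p ∨ p ^ 2 ∣ n) → u = 1 := by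
    intro p hp hpn h3
    obtain ⟨k, hk⟩ := exists_pow hp hpn hm hu hC
    exact eq_one_of_prime_pow hp hpn hn0 h3 k hk hC
  rcases Nat.eq_two_pow_or_exists_odd_prime_and_dvd n with ⟨k, hk⟩ | ⟨p, hp, hpn, hodd⟩
  · rcases (show k = 0 ∨ k = 1 ∨ 2 ≤ k by omega) with rfl | rfl | hk2
    · simp at hk; omega
    · have hn2 : n = 2 := by simpa using hk
      subst hn2
      refine ⟨?_, fun h => by omega⟩
      obtain ⟨k', hk'⟩ := exists_pow Nat.prime_two (dvd_refl 2) hm hu hC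
      have hC4 : Cong 4 (u ^ 2) := by
        obtain ⟨v, hv⟩ := hC
        exact ⟨v + v ^ 2, by rw [hv]; push_cast; ring⟩
      have h1 : (u ^ 2) ^ (2 ^ k') = 1 := by rw [← pow_mul, mul_comm, pow_mul, hk', one_pow]
      exact eq_one_of_prime_pow Nat.prime_two (by norm_num : 2 ∣ 4) (by norm_num)
        (Or.inr (by norm_num)) k' h1 hC4
    · have h4 : 2 ^ 2 ∣ n := by rw [hk]; exact pow_dvd_pow _ hk2
      have h2 : 2 ∣ n := (by norm_num : 2 ∣ 2 ^ 2).trans h4
      have : u = 1 := key 2 Nat.prime_two h2 (Or.inr h4)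
      simp [this]
  · have h3 : 3 ≤ p := by
      have := hp.two_le
      rcases hodd with ⟨c, hc⟩
      omega
    have : u = 1 := key p hp hpn (Or.inl h3)
    simp [this]

end Groth.Agent.S3208
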