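import Groth.Statements.S3209
import Mathlib

set_option autoImplicit false
universe u
open TensorProduct
open SGA7

namespace Groth.Agent.S3209

section aux

variable {R B' B C S : Type u} [CommRing R] [CommRing B'] [CommRing B] [CommRing C]
    [CommRing S] [Algebra R B'] [Algebra R B] [Algebra R C] [Algebra R S]

lemma map_id_eq_lTensor {M N : Type u} [CommRing M] [CommRing N] [Algebra R M] [Algebra R N]
    (h : M →ₐ[R] N) (z : S ⊗[R] M) :
    Algebra.TensorProduct.map (AlgHom.id R S) h z = LinearMap.lTensor S h.toLinearMap z := by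
  induction z using TensorProduct.induction_on with
  | zero => simp
  | tmul s m => simp
  | add a b ha hb => simp only [map_add, ha, hb]

variable (f : B' →ₐ[R] B) (g : C →ₐ[R] B)

/-- The fibre product. -/
abbrev P : Subalgebra R (B' × C) :=
  AlgHom.equalizer (f.comp (AlgHom.fst R B' C)) (g.comp (AlgHom.snd R B' C))

/-- The inclusion of the kernel of `f` into the fibre product. -/
def ιP : LinearMap.ker f.toLinearMap →ₗ[R] ↥(P f g) where
  toFun j := ⟨((j : B'), 0), by
    have hj : f (j : B') = 0 := j.2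
    simp [AlgHom.mem_equalizer, hj]⟩
  map_add' a b := by ext <;> simp
  map_smul' r a := by ext <;> simp

lemma exact_ιP : Function.Exact (ιP f g) ((AlgHom.snd R B' C).comp (P f g).val).toLinearMap := by
  intro p
  constructor
  · intro hp
    have hp2 : (p : B' × C).2 = 0 := hp
    have hmem := p.2
    rw [AlgHom.mem_equalizer] at hmem
    have hf : f (p : B' × C).1 = 0 := by
      have : f (p : B' × C).1 = g (p : B' × C).2 := hmem
      rw [this, hp2, map_zero]
    refine ⟨⟨(p : B' × C).1, hf⟩, ?_⟩
    apply Subtype.ext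
    apply Prod.ext
    · rfl
    · exact hp2.symm
  · rintro ⟨j, rfl⟩
    rfl

lemma snd_surjective (hf : Function.Surjective f) :
    Function.Surjective ((AlgHom.snd R B' C).comp (P f g).val).toLinearMap := by
  intro c
  obtain ⟨b', hb'⟩ := hf (g c)
  exact ⟨⟨(b', c), by simp [AlgHom.mem_equalizer, hb']⟩, rfl⟩

lemma exact_f : Function.Exact (LinearMap.ker f.toLinearMap).subtype f.toLinearMap := by
  intro b
  constructor
  · intro hb
    exact ⟨⟨b, hb⟩, rfl⟩
  · rintro ⟨j, rfl⟩
    exact j.2

end aux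

/-- Let f : B' → B be a surjective map of R-algebras with kernel J, g : C → B a map of R-algebras, P =
B' ×_B C their fibre product (the equalizer of f ∘ pr₁ and g ∘ pr₂ in B' × C) and S an R-algebra
such that S ⊗_R J → S ⊗_R B' is injective (this holds when Tor_1^R(B, S) = 0, the published
hypothesis, and in particular when S is flat). Then the canonical map S ⊗_R P → (S ⊗_R B') ×_{S ⊗_R
B} (S ⊗_R C) is bijective: it is injective, and every pair with the same image in S ⊗_R B comes from
S ⊗_R P. -/
theorem result (R B' B C S : Type u) [CommRing R] [CommRing B'] [CommRing B] [CommRing C]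
    [CommRing S] [Algebra R B'] [Algebra R B] [Algebra R C] [Algebra R S]
    (f : B' →ₐ[R] B) (hf : Function.Surjective f) (g : C →ₐ[R] B)
    (hJ : Function.Injective (LinearMap.lTensor S (LinearMap.ker f.toLinearMap).subtype)) :
    letI P := AlgHom.equalizer (f.comp (AlgHom.fst R B' C)) (g.comp (AlgHom.snd R B' C))
    letI φ₁ := Algebra.TensorProduct.map (AlgHom.id R S) ((AlgHom.fst R B' C).comp P.val)
    letI φ₂ := Algebra.TensorProduct.map (AlgHom.id R S) ((AlgHom.snd R B' C).comp P.val)
    Function.Injective (fun z : S ⊗[R] ↥P => (φ₁ z, φ₂ z)) ∧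
    ∀ (x : S ⊗[R] B') (y : S ⊗[R] C),
      Algebra.TensorProduct.map (AlgHom.id R S) f x = Algebra.TensorProduct.map (AlgHom.id R S) g y →
        ∃ z : S ⊗[R] ↥P, φ₁ z = x ∧ φ₂ z = y := by
  -- linear versions
  set π₁ : ↥(P f g) →ₗ[R] B' := ((AlgHom.fst R B' C).comp (P f g).val).toLinearMap with hπ₁
  set π₂ : ↥(P f g) →ₗ[R] C := ((AlgHom.snd R B' C).comp (P f g).val).toLinearMap with hπ₂
  have hφ₁ : ∀ z, Algebra.TensorProduct.map (AlgHom.id R S)
      ((AlgHom.fst R B' C).comp (P f g).val) z = LinearMap.lTensor S π₁ z :=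
    fun z => map_id_eq_lTensor _ z
  have hφ₂ : ∀ z, Algebra.TensorProduct.map (AlgHom.id R S)
      ((AlgHom.snd R B' C).comp (P f g).val) z = LinearMap.lTensor S π₂ z :=
    fun z => map_id_eq_lTensor _ z
  have hφf : ∀ z, Algebra.TensorProduct.map (AlgHom.id R S) f z =
      LinearMap.lTensor S f.toLinearMap z := fun z => map_id_eq_lTensor _ z
  have hφg : ∀ z, Algebra.TensorProduct.map (AlgHom.id R S) g z =
      LinearMap.lTensor S g.toLinearMap z := fun z => map_id_eq_lTensor _ z
  have hex2 : Function.Exact (LinearMap.lTensor S (ιP f g)) (LinearMap.lTensor S π₂) :=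
    lTensor_exact S (exact_ιP f g) (snd_surjective f g hf)
  have hexf : Function.Exact (LinearMap.lTensor S (LinearMap.ker f.toLinearMap).subtype)
      (LinearMap.lTensor S f.toLinearMap) :=
    lTensor_exact S (exact_f f) hf
  have hcomp1 : π₁ ∘ₗ ιP f g = (LinearMap.ker f.toLinearMap).subtype := by
    ext j; rfl
  have hcomp1' : ∀ j, LinearMap.lTensor S π₁ (LinearMap.lTensor S (ιP f g) j) =
      LinearMap.lTensor S (LinearMap.ker f.toLinearMap).subtype j := by
    intro j
    rw [← LinearMap.comp_apply, ← LinearMap.lTensor_comp, hcomp1]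
  have hsq : f.toLinearMap ∘ₗ π₁ = g.toLinearMap ∘ₗ π₂ := by
    ext p
    have := p.2
    rw [AlgHom.mem_equalizer] at this
    exact this
  have hsq' : ∀ z, LinearMap.lTensor S f.toLinearMap (LinearMap.lTensor S π₁ z) =
      LinearMap.lTensor S g.toLinearMap (LinearMap.lTensor S π₂ z) := by
    intro z
    rw [← LinearMap.comp_apply, ← LinearMap.lTensor_comp, hsq, LinearMap.lTensor_comp,
      LinearMap.comp_apply]
  constructor
  · -- injectivity
    intro z z' hzz'
    simp only [Prod.mk.injEq] at hzz'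
    rw [hφ₁, hφ₁, hφ₂, hφ₂] at hzz'
    obtain ⟨h1, h2⟩ := hzz'
    have h2' : LinearMap.lTensor S π₂ (z - z') = 0 := by rw [map_sub, h2, sub_self]
    obtain ⟨j, hj⟩ := (hex2 _).1 h2'
    have h1' : LinearMap.lTensor S π₁ (z - z') = 0 := by rw [map_sub, h1, sub_self]
    rw [← hj, hcomp1'] at h1'
    have hj0 : j = 0 := hJ (by rw [h1', map_zero])
    rw [hj0, map_zero] at hj
    exact sub_eq_zero.1 hj.symm
  · intro x y hxy
    rw [hφf, hφg] at hxy
    obtain ⟨z₀, hz₀⟩ := LinearMap.lTensor_surjective S (snd_surjective f g hf) y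
    have hker : LinearMap.lTensor S f.toLinearMap (LinearMap.lTensor S π₁ z₀ - x) = 0 := by
      rw [map_sub, hsq', hz₀, hxy, sub_self]
    obtain ⟨j, hj⟩ := (hexf _).1 hker
    refine ⟨z₀ - LinearMap.lTensor S (ιP f g) j, ?_, ?_⟩
    · rw [hφ₁, map_sub, hcomp1', hj]; abel
    · rw [hφ₂, map_sub, hz₀]
      have : LinearMap.lTensor S π₂ (LinearMap.lTensor S (ιP f g) j) = 0 :=
        (hex2 _).2 ⟨j, rfl⟩
      rw [this, sub_zero]

end Groth.Agent.S3209
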