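import Groth.Statements.S3212
import Mathlib
import Groth.Agent.S3213

set_option autoImplicit false
universe u v
open SGA7II

namespace Groth.Agent.S3212

set_option linter.style.haveILetI false
set_option linter.unusedSectionVars false
set_option linter.unusedVariables false

open Groth.Agent.Lib.helper24.SigmaLinLib Groth.Agent.S3213

theorem main (k : Type u) [Field k] [IsSepClosed k] (p : ℕ)
    [Fact p.Prime] [CharP k p] (r : ℕ) (hr : 0 < r) (V : Type v) [AddCommGroup V] [Module k V]
    [FiniteDimensional k V] (φ : V →+ V) (hφ : ∀ (c : k) (v : V), φ (c • v) = c ^ (p ^ r) • φ v)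
    (hss : Submodule.span k (Set.range φ) = ⊤) :
    ∃ b : Module.Basis (Fin (Module.finrank k V)) k V, (∀ i, φ (b i) = b i) ∧
      ∀ v : V, φ v = v → ∀ i, (b.repr v i) ^ (p ^ r) = b.repr v i := by
  set T := mkT p r φ hφ with hT
  have hTφ : ∀ v, T v = φ v := fun v => rfl
  have h1 : Submodule.span k (Set.range ⇑T) = ⊤ := by
    rw [← hss]
    congr 1
  obtain ⟨⟨b, hb⟩, -⟩ := fixed_basis_and_surjective T h1 (h2_sep k p r hr) (h3_sep k p r hr)
  refine ⟨b, fun i => by rw [← hTφ, hb i], ?_⟩
  intro v hv i
  have h2 : φ v = ∑ j, ((b.repr v j) ^ (p ^ r)) • b j := by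
    conv_lhs => rw [← b.sum_repr v, ← hTφ, map_sum]
    refine Finset.sum_congr rfl fun j _ => ?_
    rw [map_smulₛₗ, hb j, iterateFrobenius_def]
  have h3 : b.repr (φ v) i = (b.repr v i) ^ (p ^ r) := by
    rw [h2, b.repr_sum_self]
  rw [← h3, hv]



/-- Let k be a separably closed field of characteristic p > 0, q = p^r (r >= 1), V a finite-dimensional
k-vector space and phi : V -> V an additive map with phi(c v) = c^q phi(v) (a q-linear
endomorphism). If phi is semisimple, i.e. its image spans V over k, then V has a k-basis consisting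
of fixed vectors of phi, and the coordinates of every fixed vector in such a basis satisfy c^q = c
(so V is obtained from the F_q-space of fixed vectors by extension of scalars). -/
theorem result (k : Type u) [Field k] [IsSepClosed k] (p : ℕ)
    [Fact p.Prime] [CharP k p] (r : ℕ) (hr : 0 < r) (V : Type v) [AddCommGroup V] [Module k V]
    [FiniteDimensional k V] (φ : V →+ V) (hφ : ∀ (c : k) (v : V), φ (c • v) = c ^ (p ^ r) • φ v)
    (hss : Submodule.span k (Set.range φ) = ⊤) :
    ∃ b : Module.Basis (Fin (Module.finrank k V)) k V, (∀ i, φ (b i) = b i) ∧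
      ∀ v : V, φ v = v → ∀ i, (b.repr v i) ^ (p ^ r) = b.repr v i := by
  exact main k p r hr V φ hφ hss

end Groth.Agent.S3212
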