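import Groth.Statements.S3214
import Mathlib
-- import your own Groth.Agent.* helpers here

set_option autoImplicit false
open Polynomial
universe u
open SGA7II

namespace Groth.Agent.S3214

/-- In the recursive form established in its proof: let A = Z[X_1, ..., X_a] (a >= 1), P = prod_i (T -
X_i) in A[T] and S_i the i-th elementary symmetric function. Writing a_j for the coefficient of
T^{a-1} in the remainder of T^{a-1+j} modulo P, one has a_0 = 1 and sum_{i=0}^{a} (-1)^i S_i a_{j-i}
= 0 for every j > 0 (with a_m = 0 for m < 0); equivalently sum_j (-1)^j a_j is the inverse of sum_i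
S_i. (The source works in formal power series; the identity involves only polynomials.) -/
theorem result (a : ℕ) (ha : 0 < a) :
    let P : (MvPolynomial (Fin a) ℤ)[X] := ∏ i : Fin a, (X - C (MvPolynomial.X i))
    let coef : ℤ → MvPolynomial (Fin a) ℤ := fun j =>
      if j < 0 then 0 else ((X : (MvPolynomial (Fin a) ℤ)[X]) ^ (a - 1 + j.toNat) %ₘ P).coeff (a - 1)
    coef 0 = 1 ∧ ∀ j : ℕ, 0 < j →
      (∑ i ∈ Finset.range (a + 1), (-1 : MvPolynomial (Fin a) ℤ) ^ i * MvPolynomial.esymm (Fin a) ℤ i *
        coef ((j : ℤ) - i)) = 0 := by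
  intro P coef
  have hPdef : P = ∏ i : Fin a, (X - C (MvPolynomial.X i)) := rfl
  have hmonic : P.Monic := by
    rw [hPdef]
    exact monic_prod_of_monic _ _ fun i _ => monic_X_sub_C _
  have hdeg : P.natDegree = a := by
    rw [hPdef, natDegree_prod_of_monic _ _ fun i _ => monic_X_sub_C _]
    simp
  have hdeg' : P.degree = (a : WithBot ℕ) := by
    rw [degree_eq_natDegree hmonic.ne_zero, hdeg]
  have hvieta : P = ∑ i ∈ Finset.range (a + 1),
      C ((-1 : MvPolynomial (Fin a) ℤ) ^ i * MvPolynomial.esymm (Fin a) ℤ i) * X ^ (a - i) := by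
    have h1 := Multiset.prod_X_sub_X_eq_sum_esymm
      (Finset.univ.val.map (MvPolynomial.X : Fin a → MvPolynomial (Fin a) ℤ))
    rw [Multiset.map_map, Multiset.card_map, Finset.card_val, Finset.card_univ, Fintype.card_fin,
      ← MvPolynomial.esymm_eq_multiset_esymm] at h1
    rw [hPdef]
    rw [show (∏ i : Fin a, (X - C (MvPolynomial.X i)) : (MvPolynomial (Fin a) ℤ)[X]) =
      (Multiset.map ((fun t => X - C t) ∘ MvPolynomial.X) Finset.univ.val).prod from rfl, h1]
    apply Finset.sum_congr rfl
    intro i _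
    rw [map_mul, map_pow, map_neg, map_one]
    ring
  have hself : ∀ e : ℕ, e < a → (X : (MvPolynomial (Fin a) ℤ)[X]) ^ e %ₘ P = X ^ e := by
    intro e he
    rw [modByMonic_eq_self_iff hmonic, hdeg', degree_X_pow]
    exact_mod_cast he
  constructor
  · show (if (0 : ℤ) < 0 then 0 else
      ((X : (MvPolynomial (Fin a) ℤ)[X]) ^ (a - 1 + (0 : ℤ).toNat) %ₘ P).coeff (a - 1)) = 1
    rw [if_neg (lt_irrefl 0), Int.toNat_zero, add_zero, hself (a - 1) (by omega), coeff_X_pow,
      if_pos rfl]
  · intro j hj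
    have hcoef : ∀ i ∈ Finset.range (a + 1), coef ((j : ℤ) - i) =
        ((X : (MvPolynomial (Fin a) ℤ)[X]) ^ (a - 1 + j - i) %ₘ P).coeff (a - 1) := by
      intro i hi
      rw [Finset.mem_range] at hi
      show (if (j : ℤ) - i < 0 then 0 else
        ((X : (MvPolynomial (Fin a) ℤ)[X]) ^ (a - 1 + ((j : ℤ) - i).toNat) %ₘ P).coeff (a - 1)) = _
      by_cases hij : (j : ℤ) - i < 0
      · rw [if_pos hij, hself (a - 1 + j - i) (by omega), coeff_X_pow, if_neg (by omega)]
      · rw [if_neg hij]
        have : a - 1 + ((j : ℤ) - i).toNat = a - 1 + j - i := by omega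
        rw [this]
    rw [Finset.sum_congr rfl fun i hi => by rw [hcoef i hi]]
    have hsum : ∑ i ∈ Finset.range (a + 1),
        (-1 : MvPolynomial (Fin a) ℤ) ^ i * MvPolynomial.esymm (Fin a) ℤ i *
          ((X : (MvPolynomial (Fin a) ℤ)[X]) ^ (a - 1 + j - i) %ₘ P).coeff (a - 1) =
        ((∑ i ∈ Finset.range (a + 1),
          C ((-1 : MvPolynomial (Fin a) ℤ) ^ i * MvPolynomial.esymm (Fin a) ℤ i) *
            X ^ (a - 1 + j - i)) %ₘ P).coeff (a - 1) := by
      have hlin := map_sum (modByMonicHom P) (fun i =>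
          C ((-1 : MvPolynomial (Fin a) ℤ) ^ i * MvPolynomial.esymm (Fin a) ℤ i) *
            X ^ (a - 1 + j - i)) (Finset.range (a + 1))
      simp only [modByMonicHom_apply] at hlin
      rw [hlin, finsetSum_coeff]
      apply Finset.sum_congr rfl
      intro i _
      rw [← smul_eq_C_mul, smul_modByMonic, coeff_smul, smul_eq_mul]
    rw [hsum]
    have hfactor : ∑ i ∈ Finset.range (a + 1),
        C ((-1 : MvPolynomial (Fin a) ℤ) ^ i * MvPolynomial.esymm (Fin a) ℤ i) *
          X ^ (a - 1 + j - i) = X ^ (j - 1) * P := by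
      conv_rhs => rw [hvieta]
      rw [Finset.mul_sum]
      apply Finset.sum_congr rfl
      intro i hi
      rw [Finset.mem_range] at hi
      have : a - 1 + j - i = (j - 1) + (a - i) := by omega
      rw [this, pow_add]
      ring
    rw [hfactor, (modByMonic_eq_zero_iff_dvd hmonic).mpr (dvd_mul_left P _), coeff_zero]

end Groth.Agent.S3214
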