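import Groth.Statements.S3243
import Mathlib
import Groth.Agent.S7743
import Groth.Agent.S14451
import Groth.Agent.Lib.Helper1.DivInj
import Groth.Agent.Lib.Helper21.GalCohTrace
import Groth.Agent.Lib.Helper21.PsiOneInj
import Groth.Agent.Lib.Helper27.PullFunEt
-- import your own Groth.Agent.* helpers here

set_option autoImplicit false
universe u
open CategoryTheory AlgebraicGeometry
open Dix

namespace Groth.Agent.S3243

section Helpers

open CategoryTheory.Limits Opposite
open Groth.Agent.Lib.helper21.ConstVal Groth.Agent.Lib.Helper21.ConstGerm Groth.Agent.S7743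

/-- naturality of the constant section in the value group -/
lemma et_mapGroup {X : Scheme.{u}} {M N : AddCommGrpCat.{u + 1}} (h : M ⟶ N) (T : X.Etale) (a : M) :
    (((constantSheaf X.smallEtaleTopology AddCommGrpCat.{u + 1}).map h).hom.app (op T) : _ ⟶ _)
        (et M T a) = et N T (h a) := by
  have h2 := toSheafify_naturality X.smallEtaleTopology ((Functor.const X.Etaleᵒᵖ).map h)
  have h3 := congrArg (fun t : (Functor.const X.Etaleᵒᵖ).obj M ⟶ (G X N).obj =>
    (t.app (op T) : _ ⟶ _) a) h2
  exact h3.symm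

/-- global sections of a constant sheaf on a one-point scheme are constant -/
lemma eq_et_top {W : Scheme.{u}} [Subsingleton W] (w : W) {N : AddCommGrpCat.{u + 1}}
    (t : (G W N).obj.obj (op (EtCoh.top W))) : t = et N (EtCoh.top W) (val t w) := by
  apply eq_et_of_val
  intro p
  have hp : p = w := Subsingleton.elim (α := W) p w
  rw [hp]

/-- lifting maps out of `ℤ` along a surjection of constant sheaves, over a one-point scheme -/
lemma exists_lift {W : Scheme.{u}} [Subsingleton W] (w : W) {M N : AddCommGrpCat.{u + 1}}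
    (h : M ⟶ N) (hs : Function.Surjective h) (y : ZZ W ⟶ G W N) :
    ∃ z : ZZ W ⟶ G W M,
      z ≫ (constantSheaf W.smallEtaleTopology AddCommGrpCat.{u + 1}).map h = y := by
  let φ : M₀ ⟶ (EtCore.gsec W).obj (G W N) := (EtCore.constAdj W).homEquiv M₀ (G W N) y
  let t : (G W N).obj.obj (op (EtCoh.top W)) := φ one
  obtain ⟨b, hb⟩ := hs (val t w)
  refine ⟨((EtCore.constAdj W).homEquiv M₀ (G W M)).symm
    (homOfElem (B := (EtCore.gsec W).obj (G W M)) (et M (EtCoh.top W) b)), ?_⟩
  apply ((EtCore.constAdj W).homEquiv _ _).injective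
  rw [Adjunction.homEquiv_naturality_right, Equiv.apply_symm_apply]
  apply hom_ext_one
  rw [ConcreteCategory.comp_apply, homOfElem_one]
  refine Eq.trans (et_mapGroup h _ b) ?_
  rw [hb]
  exact (eq_et_top w t).symm

/-- lift an additive map to `ULift`s -/
noncomputable def ul {A B : Type} [AddCommGroup A] [AddCommGroup B] (f : A →+ B) :
    AddCommGrpCat.of (ULift.{u + 1} A) ⟶ AddCommGrpCat.of (ULift.{u + 1} B) :=
  AddCommGrpCat.ofHom ((AddEquiv.ulift.symm.toAddMonoidHom).comp
    (f.comp AddEquiv.ulift.toAddMonoidHom))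

lemma ul_apply {A B : Type} [AddCommGroup A] [AddCommGroup B] (f : A →+ B) (x : ULift.{u + 1} A) :
    (ul.{u} f) x = ULift.up (f x.down) := rfl

/-- the short complex `A → B → B / A` -/
noncomputable abbrev Sq {A B : Type} [AddCommGroup A] [AddCommGroup B] (f : A →+ B) :
    ShortComplex AddCommGrpCat.{u + 1} :=
  ShortComplex.mk (ul.{u} f) (ul.{u} (QuotientAddGroup.mk' f.range)) (by
    ext x
    show ((f x.down : B) : B ⧸ f.range) = 0
    rw [QuotientAddGroup.eq_zero_iff]
    exact ⟨x.down, rfl⟩)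

lemma Sq_shortExact {A B : Type} [AddCommGroup A] [AddCommGroup B] (f : A →+ B)
    (hf : Function.Injective f) : (Sq.{u} f).ShortExact := by
  have hf' : Mono (Sq.{u} f).f := by
    rw [AddCommGrpCat.mono_iff_injective]
    intro x y h
    apply ULift.ext
    exact hf (congrArg ULift.down h)
  have hg : Epi (Sq.{u} f).g := by
    rw [AddCommGrpCat.epi_iff_surjective]
    intro y
    obtain ⟨q, hq⟩ := QuotientAddGroup.mk'_surjective f.range y.down
    exact ⟨ULift.up q, ULift.ext _ _ hq⟩
  refine ShortComplex.ShortExact.mk' ?_ hf' hg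
  rw [ShortComplex.ab_exact_iff]
  intro x hx
  have h1 : ((x.down : B) : B ⧸ f.range) = 0 := congrArg ULift.down hx
  rw [QuotientAddGroup.eq_zero_iff] at h1
  obtain ⟨a, ha⟩ := h1
  exact ⟨ULift.up a, ULift.ext _ _ ha⟩

section Field

open Abelian Groth.Agent.Lib.helper21.GalCohTrace

/-- the constant sheaf functor -/
noncomputable abbrev C (W : Scheme.{u}) : AddCommGrpCat.{u + 1} ⥤ EtCoh.Ab W :=
  constantSheaf W.smallEtaleTopology AddCommGrpCat.{u + 1}

instance (W : Scheme.{u}) : PreservesFiniteColimits (C W) := by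
  have : PreservesColimitsOfSize.{0, 0} (C W) :=
    (EtCore.constAdj W).leftAdjoint_preservesColimits
  exact PreservesColimitsOfSize.preservesFiniteColimits _

/-- `H¹` of a torsion-free constant sheaf on a one-point scheme has no torsion -/
lemma no_torsion {W : Scheme.{u}} [Subsingleton W] (w : W) (M : Type) [AddCommGroup M]
    [IsAddTorsionFree M] (n : ℕ) (hn : n ≠ 0)
    (x : EtCoh.H W (EtCoh.const W M) 1) (hx : n • x = 0) : x = 0 := by
  let f : M →+ M := nsmulAddMonoidHom n
  have hf : Function.Injective f := IsAddTorsionFree.nsmul_right_injective hn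
  have hS : ((Sq.{u} f).map (C W)).ShortExact := (Sq_shortExact.{u} f hf).map_of_exact (C W)
  have hul : ul.{u} f = n • 𝟙 _ := by
    ext x
    rfl
  have hmap : (C W).map (ul.{u} f) = n • 𝟙 _ := by
    rw [hul, Functor.map_nsmul, CategoryTheory.Functor.map_id]
  have hx' : x.comp (Ext.mk₀ ((Sq.{u} f).map (C W)).f) (add_zero 1) = 0 := by
    show x.comp (Ext.mk₀ ((C W).map (ul.{u} f))) (add_zero 1) = 0
    rw [hmap]
    exact (HF_map_nsmul _ 1 n x).trans hx
  obtain ⟨y, hy⟩ := Ext.covariant_sequence_exact₁ _ hS x hx' (zero_add 1)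
  obtain ⟨y₀, rfl⟩ := (Ext.mk₀_bijective _ _).2 y
  have hsurj : Function.Surjective (ul.{u} (QuotientAddGroup.mk' f.range)) := by
    intro y
    obtain ⟨q, hq⟩ := QuotientAddGroup.mk'_surjective f.range y.down
    exact ⟨ULift.up q, ULift.ext _ _ hq⟩
  obtain ⟨z, hz⟩ := exists_lift w (ul.{u} (QuotientAddGroup.mk' f.range)) hsurj y₀
  subst hz
  rw [← hy]
  have h0 : (Ext.mk₀ ((Sq.{u} f).map (C W)).g).comp hS.extClass (zero_add 1) = 0 :=
    hS.comp_extClass
  let z' : ZZ W ⟶ ((Sq.{u} f).map (C W)).X₂ := z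
  have e1 := Ext.mk₀_comp_mk₀_assoc z' ((Sq.{u} f).map (C W)).g hS.extClass
  rw [h0, Ext.comp_zero] at e1
  exact e1.symm

/-- `H¹(Spec k, M) = 0` for torsion-free `M` -/
theorem H1_const_field (k : Type u) [Field k] (M : Type) [AddCommGroup M] [IsAddTorsionFree M] :
    Subsingleton (EtCoh.H (Spec (CommRingCat.of k)) (EtCoh.const (Spec (CommRingCat.of k)) M) 1) := by
  constructor
  intro x y
  suffices h : ∀ z : EtCoh.H (Spec (CommRingCat.of k)) (EtCoh.const (Spec (CommRingCat.of k)) M) 1,
      z = 0 by rw [h x, h y]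
  intro z
  obtain ⟨d, hd, hz⟩ := isOfFinAddOrder_iff_nsmul_eq_zero.1
    (Groth.Agent.S7743.result k _ 1 Nat.one_pos z)
  exact no_torsion (default : ↥(Spec (CommRingCat.of k))) M d hd.ne' z hz

end Field

section Inj

open Abelian Groth.Agent.Lib.helper27

/-- the degree-one edge map `H¹(Y, f_* F) → H¹(X, F)` is injective -/
lemma HofPush_one_injective {X Y : Scheme.{u}} (f : X ⟶ Y) (F : EtCoh.Ab X) :
    Function.Injective (EtLim.HofPush f F 1) := by
  have hΨ := Groth.Agent.Lib.helper21.PsiOneInj.Ψ_one_injective (EtCoh.pullPushAdj f)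
    (Groth.Agent.S14451.ZZ Y) F
  let e := ExtAdj.extIsoLeft (EtCore.pullConst f ℤ) F 1
  have he : ⇑(EtLim.HofPush f F 1) = e ∘ ExtAdj.Ψ (EtCoh.pullPushAdj f)
      (Groth.Agent.S14451.ZZ Y) F 1 := by
    funext x
    rw [Groth.Agent.S14451.HofPush_apply]
    rfl
  rw [he]
  exact e.injective.comp hΨ

end Inj

end Helpers

/-- Let X be quasi-compact and quasi-separated, x a point of X and M a torsion-free abelian group, M_x
the constant sheaf on Spec κ(x). Then H¹(X_ét, i_{x*} M_x) = 0. -/
theorem result (X : Scheme.{u}) [CompactSpace X] [QuasiSeparatedSpace X] (x : X) (M : Type) [AddCommGroup M] [IsAddTorsionFree M] : Subsingleton (EtCoh.H X ((Dix.skyPush X x).obj (EtCoh.const (Spec (X.residueField x)) M)) 1) := by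
  have hinj := HofPush_one_injective (X.fromSpecResidueField x)
    (EtCoh.const (Spec (X.residueField x)) M)
  have hsub : Subsingleton (EtCoh.H (Spec (X.residueField x))
      (EtCoh.const (Spec (X.residueField x)) M) 1) :=
    H1_const_field (X.residueField x) M
  exact hinj.subsingleton

end Groth.Agent.S3243
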