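import Groth.Statements.S3248
import Mathlib
import Groth.Agent.S0191

set_option autoImplicit false
universe u
open TensorProduct
open Dix

namespace Groth.Agent.S3248

/-- Stated for a commutative subalgebra: let A be a central simple algebra of dimension r² over a field
k and L a commutative k-algebra embedded in A by an injective k-algebra homomorphism ι, such that A
is free of rank r for the right L-module structure a · l = a ι(l) (given here as a module structure
together with that compatibility). Then L ⊗_k A is isomorphic as an L-algebra to the matrix algebra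
M_r(L). (Only the existence of an isomorphism is stated; the text names the map a ⊗ l ↦ (y ↦ a y
l).) -/
theorem result (k : Type u) [Field k] (A : Type u) [Ring A] [Algebra k A] [Algebra.IsCentral k A] [IsSimpleRing A] [FiniteDimensional k A] (L : Type u) [CommRing L] [Algebra k L] (ι : L →ₐ[k] A) (hι : Function.Injective ι) [Module L A] (hmod : ∀ (l : L) (a : A), l • a = a * ι l) [Module.Free L A] (r : ℕ) (hr : 0 < r) (hA : Module.finrank k A = r ^ 2) (hrank : Module.finrank L A = r) : Nonempty ((L ⊗[k] A) ≃ₐ[L] Matrix (Fin r) (Fin r) L) := by
  classical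
  haveI : Nontrivial A := inferInstance
  haveI hST : IsScalarTower k L A := ⟨fun c l a => by
    rw [hmod, hmod, map_smul, mul_smul_comm]⟩
  haveI hSC : SMulCommClass L k A := ⟨fun l c a => by
    rw [hmod, hmod, smul_mul_assoc]⟩
  haveI : Nontrivial L := by
    by_contra hL
    rw [not_nontrivial_iff_subsingleton] at hL
    have h1 : ι 1 = ι 0 := congrArg ι (Subsingleton.elim _ _)
    rw [map_one, map_zero] at h1
    exact one_ne_zero h1
  haveI : Module.Finite k L := Module.Finite.of_injective ι.toLinearMap hι
  haveI : Module.Finite L A := Module.finite_of_finrank_pos (by rw [hrank]; exact hr)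
  -- left multiplications as `L`-linear maps
  let g : A →ₐ[k] Module.End L A :=
    { toFun := fun a =>
        { toFun := fun y => a * y
          map_add' := mul_add a
          map_smul' := fun l y => by simp only [hmod, mul_assoc, RingHom.id_apply] }
      map_one' := by ext y; simp
      map_mul' := fun a b => by ext y; simp [mul_assoc]
      map_zero' := by ext y; simp
      map_add' := fun a b => by ext y; simp [add_mul]
      commutes' := fun c => by
        ext y
        simp [Algebra.smul_def] }
  have hg : ∀ a y, g a y = a * y := fun a y => rfl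
  let f : L →ₐ[L] Module.End L A := Algebra.ofId L (Module.End L A)
  have hf : ∀ l y, f l y = y * ι l := fun l y => by
    change (algebraMap L (Module.End L A) l) y = _
    rw [Module.algebraMap_end_apply, hmod]
  let φ : L ⊗[k] A →ₐ[L] Module.End L A := Algebra.TensorProduct.lift f g (fun l a => by
    change f l * g a = g a * f l
    ext y
    simp only [Module.End.mul_apply, hf, hg, mul_assoc])
  have hφ : ∀ l a y, φ (l ⊗ₜ[k] a) y = a * y * ι l := fun l a y => by
    change (Algebra.TensorProduct.lift f g _ (l ⊗ₜ[k] a)) y = _
    rw [Algebra.TensorProduct.lift_tmul, Module.End.mul_apply, hf, hg]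
  -- injectivity: two-sided ideals of `L ⊗ A` come from `L`
  have hinj : Function.Injective φ := by
    rw [injective_iff_map_eq_zero]
    intro x hx
    let I : TwoSidedIdeal (L ⊗[k] A) := TwoSidedIdeal.ker φ.toRingHom
    have hxI : x ∈ I := (TwoSidedIdeal.mem_ker _).mpr hx
    have hI := Groth.Agent.S0191.general (k := k) (A := L) (B := A) I
    have hbot : I = ⊥ := by
      rw [hI, eq_bot_iff, TwoSidedIdeal.span_le]
      rintro _ ⟨l, hl, rfl⟩
      have hl' : φ (l ⊗ₜ[k] (1 : A)) = 0 := (TwoSidedIdeal.mem_ker _).mp hl
      have h1 := congrArg (fun T : Module.End L A => T 1) hl'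
      simp only [hφ, one_mul, LinearMap.zero_apply] at h1
      have hl0 : l = 0 := hι (by rw [h1, map_zero])
      rw [hl0]
      change (0 : L) ⊗ₜ[k] (1 : A) ∈ (⊥ : TwoSidedIdeal (L ⊗[k] A))
      rw [zero_tmul]
      exact (⊥ : TwoSidedIdeal (L ⊗[k] A)).zero_mem
    rw [hbot] at hxI
    exact (TwoSidedIdeal.mem_bot _).mp hxI
  -- dimension count over `k`
  have hdim1 : Module.finrank k (L ⊗[k] A) = Module.finrank k L * r ^ 2 := by
    rw [Module.finrank_tensorProduct, hA]
  have hdim2 : Module.finrank k (Module.End L A) = Module.finrank k L * r ^ 2 := by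
    rw [← Module.finrank_mul_finrank k L (Module.End L A), Module.finrank_linearMap, hrank, sq]
  have hsurj : Function.Surjective φ := by
    have := (LinearMap.injective_iff_surjective_of_finrank_eq_finrank
      (f := (φ.restrictScalars k).toLinearMap) (hdim1.trans hdim2.symm)).mp hinj
    exact this
  let b : Module.Basis (Fin r) L A := Module.finBasisOfFinrankEq L A hrank
  exact ⟨(AlgEquiv.ofBijective φ ⟨hinj, hsurj⟩).trans (algEquivMatrix b)⟩

end Groth.Agent.S3248
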