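import Groth.Statements.S3285
import Groth.Agent.Lib.Helper3.AdamsPos2

set_option autoImplicit false
universe u
open Finset
open LambdaRing

namespace Groth.Agent.S3285

open Groth.Agent.Lib.helper3.AdamsOp

/-- Let K be a λ-ring with positive structure having the splitting property (every positive element
becomes a sum of line elements in an extension within the class considered). Then for every j the
Adams operation ψ^j, read off from ψ_t(x) = ε(x) − t (d/dt) log λ_(−t)(x), is a ring homomorphism K
→ K. -/
theorem result (K : Type u) [CommRing K] [LambdaRing.LambdaOps K] (P : LambdaRing.PosStructure K) (hK : LambdaRing.HasSplitting K P) (j : ℕ) :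
    ∃ f : K →+* K, ∀ x : K, f x = LambdaRing.adams P j x := by
  exact ⟨adamsHom P hK j, fun x => rfl⟩

end Groth.Agent.S3285
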