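import Groth.Statements.S3287
import Mathlib.Tactic

set_option autoImplicit false
universe u
open Finset
open LambdaRing

namespace Groth.Agent.S3287

/-- For a line element u (positive of augmentation one) of a λ-ring with positive structure, ψ^j(u) =
u^j for every j. -/
theorem result (K : Type u) [CommRing K] [LambdaRing.LambdaOps K] (P : LambdaRing.PosStructure K) (u : K) (hu : P.IsLine u) (j : ℕ) :
    LambdaRing.adams P j u = u ^ j := by
  obtain ⟨hpos, haug⟩ := hu
  have hlam : ∀ i : ℕ, 2 ≤ i → LambdaRing.LambdaOps.lam i u = 0 := fun i hi =>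
    P.lam_eq_zero u hpos i (by rw [haug]; exact_mod_cast hi)
  have hR : PowerSeries.rescale (-1 : K) (LambdaRing.lamSeries u) =
      1 - PowerSeries.C u * PowerSeries.X := by
    rw [LambdaRing.lamSeries, PowerSeries.rescale_mk]
    ext n
    rcases n with _ | _ | n
    · simp [LambdaRing.LambdaOps.lam_zero]
    · simp [LambdaRing.LambdaOps.lam_one, PowerSeries.coeff_one]
    · have : LambdaRing.LambdaOps.lam (n + 1 + 1) u = 0 := hlam _ (by omega)
      simp [this, PowerSeries.coeff_one]
  have hD : PowerSeries.derivative K (1 - PowerSeries.C u * PowerSeries.X) = - PowerSeries.C u := by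
    rw [map_sub, PowerSeries.derivative_one, zero_sub, Derivation.leibniz, PowerSeries.derivative_C,
      PowerSeries.derivative_X]
    simp
  have hG : (1 - PowerSeries.C u * PowerSeries.X) * PowerSeries.mk (fun n => u ^ n) = 1 := by
    ext n
    rw [sub_mul, one_mul, map_sub, mul_assoc, PowerSeries.coeff_C_mul]
    rcases n with _ | n
    · simp
    · rw [PowerSeries.coeff_succ_X_mul]
      simp [pow_succ, mul_comm]
  have hInv : (1 - PowerSeries.C u * PowerSeries.X).invOfUnit 1 = PowerSeries.mk (fun n => u ^ n) := by
    have h1 : (1 - PowerSeries.C u * PowerSeries.X).invOfUnit 1 * (1 - PowerSeries.C u * PowerSeries.X) = 1 :=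
      PowerSeries.invOfUnit_mul _ 1 (by simp)
    calc (1 - PowerSeries.C u * PowerSeries.X).invOfUnit 1
        = (1 - PowerSeries.C u * PowerSeries.X).invOfUnit 1 *
            ((1 - PowerSeries.C u * PowerSeries.X) * PowerSeries.mk (fun n => u ^ n)) := by
          rw [hG, mul_one]
      _ = PowerSeries.mk (fun n => u ^ n) := by rw [← mul_assoc, h1, one_mul]
  rw [LambdaRing.adams, LambdaRing.adamsSeries, hR, hD, hInv, haug]
  rcases j with _ | j
  · simp
  · rw [map_sub, mul_assoc, PowerSeries.coeff_succ_X_mul]
    simp [PowerSeries.coeff_C, pow_succ, mul_comm]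

end Groth.Agent.S3287
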