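import Groth.Statements.S3288
import Groth.Agent.S8651
import Groth.Agent.S14097
import Mathlib

set_option autoImplicit false
universe u
open Finset
open LambdaRing

namespace Groth.Agent.S3288

open PowerSeries LambdaRing Finset
open Groth.Agent.Lib.helper18

theorem lam_sum_lines {L : Type u} [CommRing L] [LambdaRing.LambdaOps L]
    (s : Multiset L) (hs : ∀ a ∈ s, ∀ j : ℕ, 2 ≤ j → LambdaOps.lam j a = 0) :
    ∀ i : ℕ, LambdaOps.lam i s.sum = s.esymm i := by
  induction s using Multiset.induction_on with
  | empty =>
    intro i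
    rw [Multiset.sum_zero, ← coeff_lamSeries, Groth.Agent.S8651.lamSeries_zero, coeff_one]
    rcases Nat.eq_zero_or_pos i with h | h
    · subst h; simp [Multiset.esymm]
    · rw [if_neg h.ne', Groth.Agent.S14097.esymm_eq_zero_of_card_lt _ _ (by simpa using h)]
  | cons a s ih =>
    intro i
    have ih' := ih (fun b hb => hs b (Multiset.mem_cons_of_mem hb))
    have ha := Groth.Agent.S8651.lamSeries_of_line a (hs a (Multiset.mem_cons_self a s))
    rw [Multiset.sum_cons, ← coeff_lamSeries, lamSeries_add, ha]
    cases i with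
    | zero =>
      rw [Groth.Agent.S14097.esymm_zero', ← ha, ← lamSeries_add, coeff_lamSeries,
        LambdaOps.lam_zero]
    | succ i =>
      rw [Groth.Agent.S14097.esymm_cons_succ, add_mul, one_mul, map_add, mul_assoc, coeff_C_mul,
        coeff_succ_X_mul, coeff_lamSeries, coeff_lamSeries, ih', ih']

theorem aug_esymm {L : Type u} [CommRing L] (ε : L →+* ℤ)
    (s : Multiset L) (hs : ∀ a ∈ s, ε a = 1) :
    ∀ i : ℕ, ε (s.esymm i) = ((Multiset.card s).choose i : ℤ) := by
  induction s using Multiset.induction_on with
  | empty =>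
    intro i
    rcases Nat.eq_zero_or_pos i with h | h
    · subst h; simp [Multiset.esymm]
    · rw [Groth.Agent.S14097.esymm_eq_zero_of_card_lt _ _ (by simpa using h), map_zero,
        Multiset.card_zero, Nat.choose_eq_zero_of_lt h, Nat.cast_zero]
  | cons a s ih =>
    intro i
    have ih' := ih (fun b hb => hs b (Multiset.mem_cons_of_mem hb))
    cases i with
    | zero => rw [Groth.Agent.S14097.esymm_zero', map_one, Nat.choose_zero_right, Nat.cast_one]
    | succ i =>
      rw [Groth.Agent.S14097.esymm_cons_succ, map_add, map_mul, hs a (Multiset.mem_cons_self a s),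
        one_mul, ih', ih', Multiset.card_cons, Nat.choose_succ_succ, Nat.cast_add]
      ring

/-- In a λ-ring with positive structure having the splitting property, for a positive element e the
augmentation of λ^i(e) is the binomial coefficient C(ε(e), i). -/
theorem result (K : Type u) [CommRing K] [LambdaRing.LambdaOps K] (P : LambdaRing.PosStructure K) (hK : LambdaRing.HasSplitting K P) (e : K) (he : e ∈ P.pos)
    (i : ℕ) : P.aug (LambdaRing.LambdaOps.lam i e) = ((P.aug e).toNat.choose i : ℤ) := by
  obtain ⟨C, hKC, hC⟩ := hK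
  obtain ⟨L', hL', f, hf, s, hs, hsum⟩ := hC ⟨K, P⟩ hKC e he
  have hline : ∀ a ∈ s, ∀ j : ℕ, 2 ≤ j → LambdaOps.lam j a = 0 := by
    intro a ha j hj
    have h1 := hs a ha
    apply L'.posStr.lam_eq_zero a h1.1 j
    rw [h1.2]
    exact_mod_cast hj
  have h1 : P.aug (LambdaOps.lam i e) = L'.posStr.aug (s.esymm i) := by
    rw [← hf.aug_comp, hf.isLambdaHom]
    show L'.posStr.aug (LambdaOps.lam i (f e)) = _
    rw [← hsum, lam_sum_lines s hline]
  have h2 : P.aug e = (Multiset.card s : ℤ) := by
    rw [← hf.aug_comp]
    show L'.posStr.aug (f e) = _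
    rw [← hsum, map_multiset_sum]
    have : s.map L'.posStr.aug = Multiset.replicate (Multiset.card s) 1 := by
      rw [Multiset.eq_replicate]
      refine ⟨by simp, ?_⟩
      intro b hb
      obtain ⟨a, ha, rfl⟩ := Multiset.mem_map.mp hb
      exact (hs a ha).2
    rw [this, Multiset.sum_replicate]
    simp
  rw [h1, aug_esymm L'.posStr.aug s (fun a ha => (hs a ha).2), h2, Int.toNat_natCast]

end Groth.Agent.S3288
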