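import Groth.Statements.S3289
import Mathlib

set_option autoImplicit false
universe u
open Finset
open LambdaRing

namespace Groth.Agent.S3289

open PowerSeries LambdaRing

variable {K : Type u} [CommRing K]

/-- the series t/(1-t) -/
noncomputable def uS (K : Type u) [CommRing K] : K⟦X⟧ := X * (invOneSubPow K 1).val

theorem hasSubst_uS : HasSubst (uS K) := by
  apply HasSubst.of_constantCoeff_zero'
  simp [uS]

theorem uS_pow (j : ℕ) : (uS K) ^ j = X ^ j * (invOneSubPow K j).val := by
  have h : ∀ d : ℕ, invOneSubPow K d = (invOneSubPow K 1) ^ d := by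
    intro d
    rw [invOneSubPow_eq_inv_one_sub_pow, invOneSubPow_eq_inv_one_sub_pow K 1, pow_one]
  rw [uS, mul_pow, h j, Units.val_pow_eq_pow_val]

theorem coeff_uS_pow_zero (k : ℕ) : coeff k ((uS K) ^ 0) = if k = 0 then 1 else 0 := by
  rw [pow_zero, coeff_one]

theorem coeff_uS_pow_pos (k j : ℕ) (hj : 0 < j) :
    coeff k ((uS K) ^ j) = if j ≤ k then ((Nat.choose (j - 1 + (k - j)) (j - 1) : ℕ) : K) else 0 := by
  rw [uS_pow, invOneSubPow_val_eq_mk_sub_one_add_choose_of_pos K j hj, coeff_X_pow_mul']
  split_ifs with h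
  · rw [coeff_mk]
  · rfl

variable [LambdaRing.LambdaOps K]

theorem lamSeries_add (x y : K) : lamSeries (x + y) = lamSeries x * lamSeries y := by
  ext k
  rw [coeff_mul, lamSeries, coeff_mk, LambdaOps.lam_add,
    Finset.Nat.sum_antidiagonal_eq_sum_range_succ
      (fun i j => coeff i (lamSeries x) * coeff j (lamSeries y))]
  apply Finset.sum_congr rfl
  intro i _
  simp [lamSeries]

theorem gamma_eq_coeff (k : ℕ) (x : K) :
    gamma k x = coeff k (subst (uS K) (lamSeries x)) := by
  rw [coeff_subst' hasSubst_uS]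
  rw [finsum_eq_sum_of_support_subset (s := Finset.range (k + 1))]
  · rcases Nat.eq_zero_or_pos k with hk | hk
    · subst hk
      simp only [gamma, if_true, zero_add, Finset.range_one, Finset.sum_singleton, pow_zero,
        coeff_one, lamSeries, coeff_mk, LambdaOps.lam_zero]
      simp
    · rw [gamma, if_neg hk.ne']
      apply Finset.sum_congr rfl
      intro j hj
      rw [Finset.mem_range] at hj
      rcases Nat.eq_zero_or_pos j with hj0 | hj0
      · subst hj0
        simp [hk.ne']
      · rw [if_neg hj0.ne', coeff_uS_pow_pos k j hj0, if_pos (by omega), lamSeries, coeff_mk,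
          smul_eq_mul, mul_comm]
        congr 2
        congr 1
        omega
  · intro d hd
    rw [Function.mem_support] at hd
    rw [Finset.coe_range, Set.mem_Iio]
    by_contra hcon
    apply hd
    have hd0 : 0 < d := by omega
    rw [coeff_uS_pow_pos k d hd0, if_neg (by omega), smul_zero]

/-- The γ-operations of a λ-ring, γ^0 = 1 and γ^k(x) = Σ_{j=1}^{k} C(k−1, j−1) λ^j(x) for k ≥ 1 (the
coefficients of λ_(t/(1−t))(x)), satisfy γ^k(x + y) = Σ_{i=0}^{k} γ^i(x) γ^(k−i)(y). -/
theorem result (K : Type u) [CommRing K] [LambdaRing.LambdaOps K] (k : ℕ) (x y : K) :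
    LambdaRing.gamma k (x + y) = ∑ i ∈ range (k + 1), LambdaRing.gamma i x * LambdaRing.gamma (k - i) y := by
  rw [gamma_eq_coeff, lamSeries_add, subst_mul hasSubst_uS, coeff_mul,
    Finset.Nat.sum_antidiagonal_eq_sum_range_succ
      (fun i j => coeff i (subst (uS K) (lamSeries x)) * coeff j (subst (uS K) (lamSeries y)))]
  apply Finset.sum_congr rfl
  intro i _
  rw [gamma_eq_coeff, gamma_eq_coeff]

end Groth.Agent.S3289
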