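import Groth.Statements.S3296
import Groth.Agent.Lib.Helper3.AdamsEigen

set_option autoImplicit false
universe u
open Finset
open TensorProduct
open LambdaRing

namespace Groth.Agent.S3296

open Groth.Agent.Lib.helper3.GammaLib Groth.Agent.Lib.helper3.AdamsOp

theorem comm_apply (K : Type u) [CommRing K] [LambdaRing.LambdaOps K] (P : LambdaRing.PosStructure K)
    (hK : LambdaRing.HasSplitting K P) (j l : ℕ)
    (Ψj Ψl : ℚ ⊗[ℤ] K →ₗ[ℚ] ℚ ⊗[ℤ] K)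
    (hΨj : ∀ x : K, Ψj (1 ⊗ₜ[ℤ] x) = 1 ⊗ₜ[ℤ] LambdaRing.adams P j x)
    (hΨl : ∀ x : K, Ψl (1 ⊗ₜ[ℤ] x) = 1 ⊗ₜ[ℤ] LambdaRing.adams P l x) (v : ℚ ⊗[ℤ] K) :
    Ψj (Ψl v) = Ψl (Ψj v) := by
  induction v using TensorProduct.induction_on with
  | zero => simp
  | tmul q x =>
    have : q ⊗ₜ[ℤ] x = q • ((1 : ℚ) ⊗ₜ[ℤ] x) := by
      rw [TensorProduct.smul_tmul', smul_eq_mul, mul_one]
    rw [this, map_smul, map_smul, map_smul, map_smul, hΨl, hΨj, hΨj, hΨl,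
      adams_adams P hK, adams_adams P hK, mul_comm]
  | add a b ha hb => rw [map_add, map_add, map_add, map_add, ha, hb]

theorem eig_le (K : Type u) [CommRing K] [LambdaRing.LambdaOps K] (P : LambdaRing.PosStructure K)
    (hK : LambdaRing.HasSplitting K P) (d : ℕ)
    (hd : LambdaRing.gammaFiltration P (d + 1) = ⊥)
    (j l : ℕ) (hj : 2 ≤ j)
    (Ψj Ψl : ℚ ⊗[ℤ] K →ₗ[ℚ] ℚ ⊗[ℤ] K)
    (hΨj : ∀ x : K, Ψj (1 ⊗ₜ[ℤ] x) = 1 ⊗ₜ[ℤ] LambdaRing.adams P j x)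
    (hΨl : ∀ x : K, Ψl (1 ⊗ₜ[ℤ] x) = 1 ⊗ₜ[ℤ] LambdaRing.adams P l x) (m : ℕ) :
    Module.End.eigenspace Ψj ((j : ℚ) ^ m) ≤ Module.End.eigenspace Ψl ((l : ℚ) ^ m) := by
  intro v hv
  have hvQ : v ∈ QFil P m := eigenspace_le P hK j Ψj hΨj hj m hv
  have hu1 : Ψl v - ((l : ℚ) ^ m) • v ∈ QFil P (m + 1) := map_sub_mem P hK l Ψl hΨl hvQ
  have hv' := hv
  rw [Module.End.mem_eigenspace_iff] at hv'
  have hu2 : Ψl v - ((l : ℚ) ^ m) • v ∈ Module.End.eigenspace Ψj ((j : ℚ) ^ m) := by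
    rw [Module.End.mem_eigenspace_iff, map_sub, map_smul,
      comm_apply K P hK j l Ψj Ψl hΨj hΨl, hv', map_smul, smul_sub, smul_comm]
  have h0 : Ψl v - ((l : ℚ) ^ m) • v ∈
      Module.End.eigenspace Ψj ((j : ℚ) ^ m) ⊓ QFil P (m + 1) := ⟨hu2, hu1⟩
  rw [eigenspace_inf_eq_bot P hK j Ψj hΨj hd hj m, Submodule.mem_bot] at h0
  rw [Module.End.mem_eigenspace_iff]
  exact sub_eq_zero.mp h0

/-- Let K be a λ-ring with positive structure having the splitting property, whose γ-filtration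
satisfies F^(d+1) K = 0. For j ≥ 2 let Ψ_j be the ℚ-linear endomorphism of ℚ ⊗ K induced by ψ^j.
Then ℚ ⊗ K is the sum of the eigenspaces of Ψ_j for the eigenvalues j^m, 0 ≤ m ≤ d, and the
eigenspace for j^m does not depend on j. -/
theorem result (K : Type u) [CommRing K] [LambdaRing.LambdaOps K] (P : LambdaRing.PosStructure K) (hK : LambdaRing.HasSplitting K P) (d : ℕ)
    (hd : LambdaRing.gammaFiltration P (d + 1) = ⊥)
    (j l : ℕ) (hj : 2 ≤ j) (hl : 2 ≤ l)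
    (Ψj Ψl : ℚ ⊗[ℤ] K →ₗ[ℚ] ℚ ⊗[ℤ] K)
    (hΨj : ∀ x : K, Ψj (1 ⊗ₜ[ℤ] x) = 1 ⊗ₜ[ℤ] LambdaRing.adams P j x)
    (hΨl : ∀ x : K, Ψl (1 ⊗ₜ[ℤ] x) = 1 ⊗ₜ[ℤ] LambdaRing.adams P l x) :
    (⨆ m ∈ range (d + 1), Module.End.eigenspace Ψj ((j : ℚ) ^ m)) = ⊤ ∧
    ∀ m : ℕ, Module.End.eigenspace Ψj ((j : ℚ) ^ m) = Module.End.eigenspace Ψl ((l : ℚ) ^ m) := by
  refine ⟨?_, fun m => le_antisymm (eig_le K P hK d hd j l hj Ψj Ψl hΨj hΨl m)
    (eig_le K P hK d hd l j hl Ψl Ψj hΨl hΨj m)⟩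
  rw [eq_top_iff, ← QFil_zero P]
  have key : ∀ k : ℕ, k ≤ d + 1 → QFil P (d + 1 - k) ≤
      ⨆ m ∈ range (d + 1), Module.End.eigenspace Ψj ((j : ℚ) ^ m) := by
    intro k
    induction k with
    | zero =>
      intro _
      rw [Nat.sub_zero, QFil_eq_bot P hd le_rfl]
      exact bot_le
    | succ k ih =>
      intro hk
      refine (le_eigenspace_sup P hK j Ψj hΨj hd hj (d + 1 - (k + 1))).trans ?_
      apply sup_le
      · have hmem : d + 1 - (k + 1) ∈ range (d + 1) := by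
          rw [Finset.mem_range]; omega
        exact le_biSup (fun m => Module.End.eigenspace Ψj ((j : ℚ) ^ m)) hmem
      · have e : d + 1 - (k + 1) + 1 = d + 1 - k := by omega
        rw [e]
        exact ih (by omega)
  have := key (d + 1) le_rfl
  rwa [Nat.sub_self] at this

end Groth.Agent.S3296
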