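import Groth.Statements.S3350
-- import your own Groth.Agent.* helpers here

set_option autoImplicit false
open Finset
open Models Models.NumericalType

namespace Groth.Agent.S3350

/-- Classification of proper subgraphs with two vertices: Let T be a numerical type on n > 2 indices and
i ≠ j two (-2)-indices (g = 0 and a_ii = -2 w_i, a_jj = -2 w_j) with a_ij > 0. Then, after possibly
exchanging i and j, one of the following holds with w = w_i: (A2) w_j = w, a_ij = w, 2 m_i ≥ m_j and
2 m_j ≥ m_i; (B2) w_j = 2w, a_ij = 2w, m_i ≥ m_j and 2 m_j ≥ m_i; (G2) w_j = 3w, a_ij = 3w, 2 m_i ≥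
3 m_j and 2 m_j ≥ m_i. -/
theorem result {n : ℕ} (T : Models.NumericalType n) (hn : 2 < n) (i j : Fin n)
    (hij : i ≠ j) (hi : T.IsMinusTwo i) (hj : T.IsMinusTwo j) (hpos : 0 < T.a i j) :
    ∃ i' j' : Fin n, ((i' = i ∧ j' = j) ∨ (i' = j ∧ j' = i)) ∧
      ((T.w j' = T.w i' ∧ T.a i' j' = T.w i' ∧ T.m j' ≤ 2 * T.m i' ∧ T.m i' ≤ 2 * T.m j') ∨
        (T.w j' = 2 * T.w i' ∧ T.a i' j' = 2 * T.w i' ∧ T.m j' ≤ T.m i' ∧ T.m i' ≤ 2 * T.m j') ∨
        (T.w j' = 3 * T.w i' ∧ T.a i' j' = 3 * T.w i' ∧ 3 * T.m j' ≤ 2 * T.m i' ∧ T.m i' ≤ 2 * T.m j')) := by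
  classical
  -- row inequality: for a (-2)-index i and j ≠ i, a_ij m_j ≤ 2 w_i m_i with equality iff all other a_ik vanish
  have row : ∀ i j : Fin n, i ≠ j → T.IsMinusTwo i →
      T.a i j * T.m j ≤ 2 * T.w i * T.m i ∧
      (T.a i j * T.m j = 2 * T.w i * T.m i → ∀ k, k ≠ i → k ≠ j → T.a i k = 0) := by
    intro i j hij hi
    have h := congrFun T.mulVec_m i
    simp only [Matrix.mulVec, dotProduct, Pi.zero_apply] at h
    have hsplit : ∑ k, T.a i k * T.m k =
        (∑ k ∈ ({i, j} : Finset (Fin n)), T.a i k * T.m k) +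
          ∑ k ∈ (univ \ ({i, j} : Finset (Fin n))), T.a i k * T.m k := by
      rw [add_comm, Finset.sum_sdiff (Finset.subset_univ _)]
    rw [Finset.sum_pair hij, hi.2] at hsplit
    have hnn : ∀ k ∈ (univ \ ({i, j} : Finset (Fin n))), 0 ≤ T.a i k * T.m k := by
      intro k hk
      simp only [Finset.mem_sdiff, Finset.mem_univ, Finset.mem_insert, Finset.mem_singleton,
        true_and, not_or] at hk
      exact mul_nonneg (T.offDiag_nonneg i k (Ne.symm hk.1)) (T.m_pos k).le
    have hS := Finset.sum_nonneg hnn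
    refine ⟨by linarith, ?_⟩
    intro heq k hki hkj
    have hS0 : ∑ k ∈ (univ \ ({i, j} : Finset (Fin n))), T.a i k * T.m k = 0 := by linarith
    have := (Finset.sum_eq_zero_iff_of_nonneg hnn).mp hS0 k (by simp [hki, hkj])
    rcases mul_eq_zero.mp this with h1 | h1
    · exact h1
    · exact absurd h1 (T.m_pos k).ne'
  obtain ⟨r1, e1⟩ := row i j hij hi
  obtain ⟨r2, e2⟩ := row j i (Ne.symm hij) hj
  have hsym : T.a j i = T.a i j := T.symm.apply i j
  rw [hsym] at r2 e2
  obtain ⟨p, hp⟩ := T.w_dvd i j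
  obtain ⟨q, hq⟩ := (hsym ▸ T.w_dvd j i : T.w j ∣ T.a i j)
  have hwi := T.w_pos i
  have hwj := T.w_pos j
  have hmi := T.m_pos i
  have hmj := T.m_pos j
  have hp0 : 0 < p := by
    by_contra hcon
    have : p ≤ 0 := by omega
    nlinarith
  have hq0 : 0 < q := by
    by_contra hcon
    have : q ≤ 0 := by omega
    nlinarith
  -- cancel w's
  have r1' : p * T.m j ≤ 2 * T.m i := by
    rw [hp] at r1
    have : T.w i * (p * T.m j) ≤ T.w i * (2 * T.m i) := by nlinarith
    exact le_of_mul_le_mul_left this hwi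
  have r2' : q * T.m i ≤ 2 * T.m j := by
    rw [hq] at r2
    have : T.w j * (q * T.m i) ≤ T.w j * (2 * T.m j) := by nlinarith
    exact le_of_mul_le_mul_left this hwj
  -- not both equalities
  have hne : ¬ (p * T.m j = 2 * T.m i ∧ q * T.m i = 2 * T.m j) := by
    rintro ⟨h1, h2⟩
    have E1 : T.a i j * T.m j = 2 * T.w i * T.m i := by rw [hp]; nlinarith
    have E2 : T.a i j * T.m i = 2 * T.w j * T.m j := by rw [hq]; nlinarith
    have z1 := e1 E1
    have z2 := e2 E2
    have hI : ({i, j} : Finset (Fin n)) ≠ univ := by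
      intro hI
      have := congrArg Finset.card hI
      rw [Finset.card_pair hij, Finset.card_univ, Fintype.card_fin] at this
      omega
    obtain ⟨i', hi', j', hj', hne⟩ := T.connected {i, j} ⟨i, by simp⟩ hI
    simp only [Finset.mem_insert, Finset.mem_singleton, not_or] at hi' hj'
    rcases hi' with rfl | rfl
    · exact hne (z1 j' hj'.1 hj'.2)
    · exact hne (z2 j' hj'.2 hj'.1)
  have hpq : p * q ≤ 4 := by
    by_contra hcon
    have h5 : 5 ≤ p * q := by omega
    have hprod : (p * T.m j) * (q * T.m i) ≤ (2 * T.m i) * (2 * T.m j) :=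
      mul_le_mul r1' r2' (by positivity) (by positivity)
    have hmm : 0 < T.m i * T.m j := mul_pos hmi hmj
    nlinarith
  have hp4 : p ≤ 4 := by nlinarith
  have hq4 : q ≤ 4 := by nlinarith
  have hsym' : T.a j i = T.a i j := hsym
  interval_cases p <;> interval_cases q <;> first
    | (exfalso; omega)
    | (refine ⟨i, j, Or.inl ⟨rfl, rfl⟩, ?_⟩; omega)
    | (refine ⟨j, i, Or.inr ⟨rfl, rfl⟩, ?_⟩; omega)

end Groth.Agent.S3350
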