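import Groth.Statements.S3351
import Mathlib

set_option autoImplicit false
open Models

namespace Groth.Agent.S3351

/-- Functionals on a saturated submodule of a finite free `ℤ`-module extend. -/
theorem extend_of_saturated {L : Type} [AddCommGroup L] [Module.Finite ℤ L] [Module.Free ℤ L]
    (N : Submodule ℤ L) (htf : ∀ (c : ℤ) (x : L), c ≠ 0 → c • x ∈ N → x ∈ N)
    (ψ : Module.Dual ℤ ↥N) : ∃ φ : Module.Dual ℤ L, φ ∘ₗ N.subtype = ψ := by
  have : Module.IsTorsionFree ℤ (L ⧸ N) := by
    apply Module.IsTorsionFree.of_smul_eq_zero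
    intro r m hrm
    by_cases hr : r = 0
    · exact Or.inl hr
    · right
      obtain ⟨x, rfl⟩ := Submodule.Quotient.mk_surjective N m
      rw [← Submodule.Quotient.mk_smul, Submodule.Quotient.mk_eq_zero] at hrm
      rw [Submodule.Quotient.mk_eq_zero]
      exact htf r x hr hrm
  have : Module.Free ℤ (L ⧸ N) := Module.free_of_finite_type_torsion_free'
  obtain ⟨s, hs⟩ := Module.projective_lifting_property N.mkQ LinearMap.id
    (Submodule.mkQ_surjective N)
  -- projection onto N
  have hmem : ∀ x : L, x - s (N.mkQ x) ∈ N := by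
    intro x
    rw [← Submodule.Quotient.mk_eq_zero, Submodule.Quotient.mk_sub]
    have := LinearMap.congr_fun hs (N.mkQ x)
    simp only [LinearMap.coe_comp, Function.comp_apply, LinearMap.id_coe, id_eq] at this
    simp only [Submodule.mkQ_apply] at this
    rw [Submodule.mkQ_apply, this, sub_self]
  let π : L →ₗ[ℤ] N := (LinearMap.id - s ∘ₗ N.mkQ).codRestrict N (by
    intro x
    simpa using hmem x)
  refine ⟨ψ ∘ₗ π, ?_⟩
  ext a
  simp only [LinearMap.coe_comp, Function.comp_apply, Submodule.coe_subtype]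
  congr 1
  apply Subtype.ext
  have h0 : N.mkQ (a : L) = 0 := by
    rw [Submodule.mkQ_apply, Submodule.Quotient.mk_eq_zero]; exact a.2
  simp [π, h0]

/-- For a positive definite symmetric form on a finite free `ℤ`-module, `A ⊔ A^⊥` has finite index. -/
theorem exists_smul_mem_sup {L : Type} [AddCommGroup L] [Module.Finite ℤ L] [Module.Free ℤ L]
    (B : LinearMap.BilinForm ℤ L) (hsymm : B.IsSymm) (hpos : ∀ x, x ≠ 0 → 0 < B x x)
    (A : Submodule ℤ L) (y : L) : ∃ c : ℤ, c ≠ 0 ∧ ∃ a ∈ A, c • y - a ∈ B.orthogonal A := by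
  -- the map A → Dual A
  let φ : A →ₗ[ℤ] Module.Dual ℤ A := (LinearMap.lcomp ℤ ℤ A.subtype) ∘ₗ B.flip ∘ₗ A.subtype
  have hφ : ∀ a a' : A, φ a a' = B (a' : L) (a : L) := by
    intro a a'
    simp [φ]
  have hinj : Function.Injective φ := by
    rw [← LinearMap.ker_eq_bot, LinearMap.ker_eq_bot']
    intro a ha
    by_contra hne
    have hne' : (a : L) ≠ 0 := fun h => hne (Subtype.ext h)
    have := hpos (a : L) hne'
    have h2 : φ a a = 0 := by rw [ha]; rfl
    rw [hφ] at h2
    omega
  have hrank : Module.finrank ℤ (LinearMap.range φ) = Module.finrank ℤ (Module.Dual ℤ A) := by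
    rw [LinearMap.finrank_range_of_inj hinj]
    exact (LinearEquiv.finrank_eq (Module.Free.chooseBasis ℤ A).toDualEquiv)
  have hfin : Finite (Module.Dual ℤ A ⧸ LinearMap.range φ) :=
    Submodule.finiteQuotientOfFreeOfRankEq _ hrank
  have hfin' : Finite (Module.Dual ℤ A ⧸ (LinearMap.range φ).toAddSubgroup) := hfin
  let ψ : Module.Dual ℤ A := (B.flip y) ∘ₗ A.subtype
  have hψ : ∀ a' : A, ψ a' = B (a' : L) y := by
    intro a'; simp [ψ]
  set c : ℕ := (LinearMap.range φ).toAddSubgroup.index with hc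
  have hc0 : c ≠ 0 := AddSubgroup.index_ne_zero_of_finite
  have hmem : c • ψ ∈ LinearMap.range φ :=
    AddSubgroup.nsmul_index_mem (LinearMap.range φ).toAddSubgroup ψ
  obtain ⟨a, ha⟩ := hmem
  refine ⟨(c : ℤ), by exact_mod_cast hc0, a, a.2, ?_⟩
  rw [LinearMap.BilinForm.mem_orthogonal_iff]
  intro a' ha'
  have h1 := LinearMap.congr_fun ha ⟨a', ha'⟩
  rw [hφ] at h1
  simp only [LinearMap.smul_apply, hψ] at h1
  simp only [map_sub, map_smul, smul_eq_mul]
  simp only [nsmul_eq_mul] at h1
  linarith

/-- Let L be a finite free Z-module with a positive definite symmetric integral bilinear form, A ⊆ L a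
submodule with L/A torsion free and B the orthogonal complement of A. Write M^# for the dual lattice
of a sublattice M, identified here with the Z-dual Hom(M, Z) through the form. Then the natural maps
L/(A ⊕ B) → B^#/B and L/(A ⊕ B) → A^#/A are injective: an element x of L whose functional ⟨x, -⟩ on
B (resp. on A) is represented by an element of B (resp. of A) lies in A ⊕ B. Moreover the
restriction maps L^# → B^# and L^# → A^# are surjective, so that the cokernels of the two injections
are quotients of L^#/L. -/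
theorem result {L : Type} [AddCommGroup L] [Module.Finite ℤ L] [Module.Free ℤ L]
    (B : LinearMap.BilinForm ℤ L) (hsymm : B.IsSymm) (hpos : ∀ x, x ≠ 0 → 0 < B x x)
    (A : Submodule ℤ L) (htf : ∀ (c : ℤ) (x : L), c ≠ 0 → c • x ∈ A → x ∈ A) :
    (∀ x : L, (∃ b ∈ B.orthogonal A, ∀ b' ∈ B.orthogonal A, B x b' = B b b') → x ∈ A ⊔ B.orthogonal A) ∧
      (∀ x : L, (∃ a ∈ A, ∀ a' ∈ A, B x a' = B a a') → x ∈ A ⊔ B.orthogonal A) ∧
      (∀ ψ : Module.Dual ℤ ↥(B.orthogonal A), ∃ φ : Module.Dual ℤ L, φ ∘ₗ (B.orthogonal A).subtype = ψ) ∧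
      (∀ ψ : Module.Dual ℤ ↥A, ∃ φ : Module.Dual ℤ L, φ ∘ₗ A.subtype = ψ) := by
  have hsym : ∀ x y, B x y = B y x := fun x y => hsymm.eq x y
  have hsat_orth : ∀ (c : ℤ) (x : L), c ≠ 0 → c • x ∈ B.orthogonal A → x ∈ B.orthogonal A := by
    intro c x hc hx
    rw [LinearMap.BilinForm.mem_orthogonal_iff] at hx ⊢
    intro n hn
    have := hx n hn
    simp only [map_smul, smul_eq_mul] at this
    rcases mul_eq_zero.mp this with h | h
    · exact absurd h hc
    · exact h
  refine ⟨?_, ?_, extend_of_saturated _ hsat_orth, extend_of_saturated A htf⟩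
  · rintro x ⟨b, hb, hxb⟩
    -- x - b is orthogonal to A^⊥, hence in A
    have hxb' : ∀ b' ∈ B.orthogonal A, B (x - b) b' = 0 := by
      intro b' hb'
      simp [hxb b' hb']
    obtain ⟨c, hc, a, ha, hca⟩ := exists_smul_mem_sup B hsymm hpos A (x - b)
    -- c(x-b) - a ∈ A^⊥ and orthogonal to A^⊥ → zero
    have h0 : c • (x - b) - a = 0 := by
      by_contra hne
      have h1 := hpos _ hne
      have h2 : B (c • (x - b) - a) (c • (x - b) - a) = 0 := by
        have e1 : B (c • (x - b)) (c • (x - b) - a) = 0 := by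
          rw [map_smul, LinearMap.smul_apply, hxb' _ hca, smul_zero]
        have e2 : B a (c • (x - b) - a) = 0 :=
          (LinearMap.BilinForm.mem_orthogonal_iff.mp hca) a ha
        rw [LinearMap.map_sub₂, e1, e2, sub_zero]
      omega
    have hmemA : x - b ∈ A := by
      apply htf c _ hc
      rw [sub_eq_zero] at h0
      rw [h0]; exact ha
    have : x = (x - b) + b := by abel
    rw [this]
    exact Submodule.add_mem_sup hmemA hb
  · rintro x ⟨a, ha, hxa⟩
    have : x = a + (x - a) := by abel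
    rw [this]
    refine Submodule.add_mem_sup ha ?_
    rw [LinearMap.BilinForm.mem_orthogonal_iff]
    intro n hn
    rw [hsym, map_sub, LinearMap.sub_apply, hxa n hn, sub_self]

end Groth.Agent.S3351
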