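import Groth.Statements.S3352
import Mathlib

set_option autoImplicit false
open Models

namespace Groth.Agent.S3352

/-- Let L₀, L₁ be finite free ℤ-modules with positive definite symmetric integral bilinear forms, the
form on L₀ unimodular (x ↦ ⟨x, −⟩ is a bijection L₀ → Hom(L₀, ℤ)), and let d : L₀ → L₁ and d* : L₁ →
L₀ be adjoint. Identify Im(d)^# (the dual lattice of Im(d)) with Hom(Im(d), ℤ) through the form on
L₁. Then there is an isomorphism Φ from the torsion subgroup of Coker(d* d) onto Im(d)^#/Im(d),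
determined by: for x ∈ L₀ whose class is torsion, Φ[x] is the class of the functional d(y') ↦ ⟨x,
y'⟩ (equivalently the class of (1/a)·d(y) when a·x = d* d(y)). -/
theorem result {L₀ L₁ : Type} [AddCommGroup L₀] [AddCommGroup L₁]
    [Module.Finite ℤ L₀] [Module.Free ℤ L₀] [Module.Finite ℤ L₁] [Module.Free ℤ L₁]
    (B₀ : LinearMap.BilinForm ℤ L₀) (B₁ : LinearMap.BilinForm ℤ L₁) (h₀s : B₀.IsSymm) (h₁s : B₁.IsSymm)
    (h₀p : ∀ x, x ≠ 0 → 0 < B₀ x x) (h₁p : ∀ x, x ≠ 0 → 0 < B₁ x x) (huni : Function.Bijective B₀)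
    (d : L₀ →ₗ[ℤ] L₁) (ds : L₁ →ₗ[ℤ] L₀) (hadj : ∀ x y, B₁ (d x) y = B₀ x (ds y)) :
    ∃ Φ : ↥(Submodule.torsion ℤ (L₀ ⧸ LinearMap.range (ds ∘ₗ d))) ≃ₗ[ℤ]
        (Module.Dual ℤ ↥(LinearMap.range d) ⧸
          LinearMap.range ((B₁.compl₂ (LinearMap.range d).subtype) ∘ₗ (LinearMap.range d).subtype)),
      ∀ (x : L₀) (hx : Submodule.Quotient.mk x ∈ Submodule.torsion ℤ (L₀ ⧸ LinearMap.range (ds ∘ₗ d)))
        (ψ : Module.Dual ℤ ↥(LinearMap.range d)),
        (∀ y' : L₀, ψ ⟨d y', LinearMap.mem_range_self d y'⟩ = B₀ x y') →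
          Φ ⟨Submodule.Quotient.mk x, hx⟩ = Submodule.Quotient.mk ψ := by
  classical
  set M := LinearMap.range d with hM
  set φ : M →ₗ[ℤ] Module.Dual ℤ M := (B₁.compl₂ M.subtype) ∘ₗ M.subtype with hφdef
  have hφ : ∀ z w : M, φ z w = B₁ (z : L₁) (w : L₁) := by
    intro z w; simp [φ]
  have hsym₀ : ∀ x y, B₀ x y = B₀ y x := fun x y => h₀s.eq x y
  have hsym₁ : ∀ x y, B₁ x y = B₁ y x := fun x y => h₁s.eq x y
  -- F : L₀ ≃ Dual L₀
  let F : L₀ ≃ₗ[ℤ] Module.Dual ℤ L₀ := LinearEquiv.ofBijective B₀ huni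
  let res : Module.Dual ℤ M →ₗ[ℤ] Module.Dual ℤ L₀ := LinearMap.lcomp ℤ ℤ d.rangeRestrict
  let G : Module.Dual ℤ M →ₗ[ℤ] L₀ := F.symm.toLinearMap ∘ₗ res
  have hG : ∀ (ψ : Module.Dual ℤ M) (y' : L₀), B₀ (G ψ) y' = ψ (d.rangeRestrict y') := by
    intro ψ y'
    have : F (G ψ) = res ψ := by simp [G]
    have h2 := LinearMap.congr_fun this y'
    simpa [F, res] using h2
  have hGinj : Function.Injective G := by
    intro ψ₁ ψ₂ h
    ext ⟨z, y', rfl⟩
    have h1 := hG ψ₁ y'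
    have h2 := hG ψ₂ y'
    rw [h] at h1
    rw [h1] at h2
    exact h2
  have hnd : ∀ x x' : L₀, (∀ y', B₀ x y' = B₀ x' y') → x = x' := by
    intro x x' h
    apply huni.1
    ext y'
    exact h y'
  -- G (φ (d y)) = ds (d y)
  have hGφ : ∀ y : L₀, G (φ (d.rangeRestrict y)) = ds (d y) := by
    intro y
    apply hnd
    intro y'
    rw [hG, hφ]
    change B₁ (d y) (d y') = _
    rw [hsym₀, ← hadj, hsym₁]
  -- finite index of range φ
  have hfinidx : ∀ ψ : Module.Dual ℤ M, ∃ c : ℤ, c ≠ 0 ∧ c • ψ ∈ LinearMap.range φ := by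
    intro ψ
    have hinj : Function.Injective φ := by
      rw [← LinearMap.ker_eq_bot, LinearMap.ker_eq_bot']
      intro a ha
      by_contra hne
      have hne' : (a : L₁) ≠ 0 := fun h => hne (Subtype.ext h)
      have := h₁p (a : L₁) hne'
      have h2 : φ a a = 0 := by rw [ha]; rfl
      rw [hφ] at h2
      omega
    have hrank : Module.finrank ℤ (LinearMap.range φ) = Module.finrank ℤ (Module.Dual ℤ M) := by
      rw [LinearMap.finrank_range_of_inj hinj]
      exact (LinearEquiv.finrank_eq (Module.Free.chooseBasis ℤ M).toDualEquiv)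
    have hfin : Finite (Module.Dual ℤ M ⧸ LinearMap.range φ) :=
      Submodule.finiteQuotientOfFreeOfRankEq _ hrank
    have hfin' : Finite (Module.Dual ℤ M ⧸ (LinearMap.range φ).toAddSubgroup) := hfin
    refine ⟨((LinearMap.range φ).toAddSubgroup.index : ℤ), ?_, ?_⟩
    · exact_mod_cast (AddSubgroup.index_ne_zero_of_finite (H := (LinearMap.range φ).toAddSubgroup))
    · have := AddSubgroup.nsmul_index_mem (LinearMap.range φ).toAddSubgroup ψ
      rw [natCast_zsmul]
      exact this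
  -- the induced map on quotients
  have hle : LinearMap.range φ ≤ (LinearMap.range (ds ∘ₗ d)).comap G := by
    rintro _ ⟨⟨z, y, rfl⟩, rfl⟩
    rw [Submodule.mem_comap]
    exact ⟨y, (hGφ y).symm⟩
  let Gbar : (Module.Dual ℤ M ⧸ LinearMap.range φ) →ₗ[ℤ] (L₀ ⧸ LinearMap.range (ds ∘ₗ d)) :=
    Submodule.mapQ _ _ G hle
  have hGbar : ∀ ψ, Gbar (Submodule.Quotient.mk ψ) = Submodule.Quotient.mk (G ψ) := fun ψ => rfl
  have htors : ∀ q, Gbar q ∈ Submodule.torsion ℤ (L₀ ⧸ LinearMap.range (ds ∘ₗ d)) := by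
    intro q
    obtain ⟨ψ, rfl⟩ := Submodule.Quotient.mk_surjective _ q
    obtain ⟨c, hc, hmem⟩ := hfinidx ψ
    rw [Submodule.mem_torsion_iff]
    refine ⟨⟨c, mem_nonZeroDivisors_of_ne_zero hc⟩, ?_⟩
    change c • Gbar (Submodule.Quotient.mk ψ) = 0
    rw [← map_smul, ← Submodule.Quotient.mk_smul, hGbar, Submodule.Quotient.mk_eq_zero]
    exact hle hmem
  let Gt : (Module.Dual ℤ M ⧸ LinearMap.range φ) →ₗ[ℤ]
      Submodule.torsion ℤ (L₀ ⧸ LinearMap.range (ds ∘ₗ d)) :=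
    Gbar.codRestrict _ htors
  have hGt_inj : Function.Injective Gt := by
    rw [← LinearMap.ker_eq_bot, LinearMap.ker_eq_bot']
    intro q hq
    obtain ⟨ψ, rfl⟩ := Submodule.Quotient.mk_surjective _ q
    have h1 : Gbar (Submodule.Quotient.mk ψ) = 0 := congrArg Subtype.val hq
    rw [hGbar, Submodule.Quotient.mk_eq_zero] at h1
    obtain ⟨y, hy⟩ := h1
    rw [Submodule.Quotient.mk_eq_zero]
    refine ⟨d.rangeRestrict y, ?_⟩
    apply hGinj
    rw [hGφ]
    exact hy
  have hGt_surj : Function.Surjective Gt := by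
    rintro ⟨q, hq⟩
    obtain ⟨x, rfl⟩ := Submodule.Quotient.mk_surjective _ q
    rw [Submodule.mem_torsion_iff] at hq
    obtain ⟨⟨a, ha⟩, hax⟩ := hq
    have ha0 : a ≠ 0 := nonZeroDivisors.ne_zero ha
    change a • (Submodule.Quotient.mk x : L₀ ⧸ LinearMap.range (ds ∘ₗ d)) = 0 at hax
    rw [← Submodule.Quotient.mk_smul, Submodule.Quotient.mk_eq_zero] at hax
    obtain ⟨y, hy⟩ := hax
    -- B₀ x vanishes on ker d
    have hker : LinearMap.ker d.rangeRestrict ≤ LinearMap.ker (B₀ x) := by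
      intro y' hy'
      rw [LinearMap.mem_ker] at hy' ⊢
      have hdy' : d y' = 0 := congrArg Subtype.val hy'
      have : a * B₀ x y' = 0 := by
        have e : B₀ (a • x) y' = a * B₀ x y' := by simp
        rw [← e, ← hy]
        change B₀ (ds (d y)) y' = 0
        rw [hsym₀, ← hadj, hdy']
        simp
      rcases mul_eq_zero.mp this with h | h
      · exact absurd h ha0
      · exact h
    obtain ⟨ψ, hψ⟩ : ∃ ψ : Module.Dual ℤ M, ψ ∘ₗ d.rangeRestrict = B₀ x := by
      let e := d.rangeRestrict.quotKerEquivOfSurjective d.surjective_rangeRestrict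
      refine ⟨(Submodule.liftQ _ (B₀ x) hker) ∘ₗ e.symm.toLinearMap, ?_⟩
      ext y'
      simp only [LinearMap.coe_comp, LinearEquiv.coe_coe, Function.comp_apply]
      have : e.symm (d.rangeRestrict y') = Submodule.Quotient.mk y' := by
        rw [LinearEquiv.symm_apply_eq]
        rfl
      rw [this, Submodule.liftQ_apply]
    refine ⟨Submodule.Quotient.mk ψ, ?_⟩
    apply Subtype.ext
    change Gbar (Submodule.Quotient.mk ψ) = Submodule.Quotient.mk x
    rw [hGbar]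
    congr 1
    apply hnd
    intro y'
    rw [hG]
    exact LinearMap.congr_fun hψ y'
  let E := LinearEquiv.ofBijective Gt ⟨hGt_inj, hGt_surj⟩
  refine ⟨E.symm, ?_⟩
  intro x hx ψ hψ
  rw [LinearEquiv.symm_apply_eq]
  apply Subtype.ext
  change Submodule.Quotient.mk x = Gbar (Submodule.Quotient.mk ψ)
  rw [hGbar]
  congr 1
  apply hnd
  intro y'
  rw [hG]
  exact (hψ y').symm

end Groth.Agent.S3352
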