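import Groth.Statements.S3387
import Mathlib
import Groth.Agent.S0403

set_option autoImplicit false
open CategoryTheory AlgebraicGeometry
universe u
open EGA43

namespace Groth.Agent.S3387

theorem isOpen_dim_le {X S : Scheme.{u}} (f : X ⟶ S) [LocallyOfFiniteType f]
    (hf : IsClosedMap f.base) (c : WithBot ℕ∞) :
    IsOpen {s : S | topologicalKrullDim (f.fiber s) ≤ c} := by
  have hopen : IsOpen {x : X | FlatMor.fibreDimAt f x ≤ c} := by
    induction c using WithBot.recBotCoe with
    | bot =>
      convert isOpen_empty
      ext x
      simp only [Set.mem_ofPred_eq, Set.mem_empty_iff_false, iff_false, le_bot_iff]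
      intro h
      obtain ⟨U, hxU, hU⟩ :=
        Groth.Agent.Lib.helper3.TopDim.exists_open_dim_eq_localDim (f.asFiber x)
      have h0 : FlatMor.fibreDimAt f x = FlatMor.localDim (f.fiber (f x)) (f.asFiber x) := rfl
      rw [h0, ← hU] at h
      haveI : Nonempty (U.1 : Set _) := ⟨⟨_, hxU⟩⟩
      have := Groth.Agent.Lib.helper3.TopDim.dim_nonneg (X := (U.1 : Set _))
      rw [h] at this
      exact absurd this (by decide)
    | coe n =>
      induction n using ENat.recTopCoe with
      | top =>
        convert isOpen_univ
        ext x
        simp only [Set.mem_ofPred_eq, Set.mem_univ, iff_true]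
        exact le_top
      | coe n => exact Groth.Agent.S0402.result f n
  have hcl := hf _ hopen.isClosed_compl
  convert hcl.isOpen_compl using 1
  ext s
  simp only [Set.mem_ofPred_eq, Set.mem_compl_iff, Set.mem_image, not_exists, not_and]
  rw [Groth.Agent.S0403.dim_le_iff_localDim]
  constructor
  · intro h x hx hxs
    apply hx
    rw [← Groth.Agent.S0403.localDim_fiber_eq f s x hxs ((f.fiberHomeo s).symm ⟨x, hxs⟩)
      (f.fiberι_fiberHomeo_symm s ⟨x, hxs⟩)]
    exact h _
  · intro h z
    by_contra hz
    refine h (f.fiberι s z) ?_ (Groth.Agent.Lib.helper3.QFinTop.fiberι_mem f s z)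
    rw [← Groth.Agent.S0403.localDim_fiber_eq f s _
      (Groth.Agent.Lib.helper3.QFinTop.fiberι_mem f s z) z rfl]
    exact hz

/-- Let f : X ⟶ Y be locally of finite type and closed (as a map of underlying spaces). Then for every
natural number n the set of points y of Y whose fibre has dimension at least n is closed; that is,
the dimension of the fibre is upper semicontinuous on Y. -/
theorem result {X Y : Scheme.{u}} (f : X ⟶ Y) [LocallyOfFiniteType f]
    (hf : IsClosedMap f.base) (n : ℕ) :
    IsClosed {y : Y | (n : WithBot ℕ∞) ≤ topologicalKrullDim ↥(f.fiber y)} := by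
  rcases Nat.eq_zero_or_pos n with hn | hn
  · subst hn
    have h := (isOpen_dim_le f hf ⊥).isClosed_compl
    convert h using 1
    ext y
    simp only [Set.mem_ofPred_eq, Set.mem_compl_iff, le_bot_iff, Nat.cast_zero]
    constructor
    · intro h0 hb
      rw [hb] at h0
      exact absurd h0 (by decide)
    · intro hb
      induction hd : topologicalKrullDim ↥(f.fiber y) using WithBot.recBotCoe with
      | bot => exact absurd hd hb
      | coe m => exact WithBot.coe_le_coe.mpr zero_le
  · obtain ⟨m, rfl⟩ : ∃ m, n = m + 1 := ⟨n - 1, by omega⟩
    have h := (isOpen_dim_le f hf (m : WithBot ℕ∞)).isClosed_compl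
    convert h using 1
    ext y
    simp only [Set.mem_ofPred_eq, Set.mem_compl_iff]
    induction hd : topologicalKrullDim ↥(f.fiber y) using WithBot.recBotCoe with
    | bot =>
      constructor
      · intro h0
        exact absurd h0 (by simp)
      · intro h0
        exact absurd bot_le h0
    | coe d =>
      induction d using ENat.recTopCoe with
      | top =>
        constructor
        · intro _ h1
          have : (⊤ : ℕ∞) ≤ (m : ℕ∞) := by exact_mod_cast h1
          exact absurd this (by simp)
        · intro _
          exact_mod_cast le_top
      | coe d =>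
        constructor
        · intro h0 h1
          have h0' : m + 1 ≤ d := by exact_mod_cast h0
          have h1' : d ≤ m := by exact_mod_cast h1
          omega
        · intro h1
          have h1' : ¬ d ≤ m := fun hh => h1 (by exact_mod_cast hh)
          have : m + 1 ≤ d := by omega
          exact_mod_cast this

end Groth.Agent.S3387
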