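import Groth.Statements.S3391
import Mathlib
import Groth.Agent.Lib.Helper3.FibreDimIneq
import Groth.Agent.Lib.Helper3.DimFibre

set_option autoImplicit false
open CategoryTheory AlgebraicGeometry
universe u
open EGA43

namespace Groth.Agent.S3391
open Groth.Agent.Lib.helper3.DimIneq Groth.Agent.Lib.helper3.DimFibre

/-- With X, Y, f, x, y as in the first assertion, suppose O_{Y,y} is universally catenary and the local
dimension at x of the fibre through x equals the dimension of the generic fibre. Then dim O_{X,x} =
dim O_{Y,y} + dim O_{X_y,x}. -/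
theorem result {X Y : Scheme.{u}} [IrreducibleSpace X] [IrreducibleSpace Y]
    [IsLocallyNoetherian Y] (f : X ⟶ Y) [LocallyOfFiniteType f] [IsDominant f] (x : X)
    (hcat : CAlg.IsUniversallyCatenary (Y.presheaf.stalk (f.base x)))
    (h : FlatMor.fibreDimAt f x = topologicalKrullDim ↥(f.fiber (genericPoint Y))) :
    ringKrullDim (X.presheaf.stalk x) =
        ringKrullDim (Y.presheaf.stalk (f.base x)) + ringKrullDim ((f.fiber (f.base x)).presheaf.stalk (f.asFiber x)) := by
  set ξ := genericPoint X with hξ
  have hcl : closure ({ξ} : Set X) = Set.univ := genericPoint_spec X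
  have hgen : ∀ z : X, ξ ⤳ z := fun z => by
    rw [specializes_iff_mem_closure, hcl]; trivial
  have hη : genericPoint Y = f ξ := by
    apply genericPoint_eq_of_forall_specializes
    intro y
    have hdense : DenseRange f := f.denseRange
    have hsub : Set.range f ⊆ closure ({f ξ} : Set Y) := by
      rintro _ ⟨x, rfl⟩
      exact ((hgen x).map f.continuous).mem_closed isClosed_closure (subset_closure rfl)
    have : closure (Set.range f) ⊆ closure ({f ξ} : Set Y) :=
      closure_minimal hsub isClosed_closure
    rw [hdense.closure_range] at this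
    rw [specializes_iff_mem_closure]
    exact this trivial
  have hηgen : ∀ y : Y, f ξ ⤳ y := fun y => by
    rw [← hη, specializes_iff_mem_closure, (genericPoint_spec Y).def]; trivial
  obtain ⟨t, -, ht, -, -⟩ := fibreDimAt_eq_add f ξ
  rw [hη, dim_fiber_generic f ξ hgen t ht] at h
  obtain ⟨a, b, ha, hb, hab⟩ := fibreDimAt_eq_add f x
  rw [hab] at h
  have e0 : a + b = t := by exact_mod_cast h
  obtain ⟨c, hc, hform⟩ := dim_stalk_add_td_eq f ξ hgen hηgen x hcat t ht
  have hgen' : ∀ Z ∈ irreducibleComponents (X : Type u), x ∈ Z → ∀ η' : X, IsGenericPoint η' Z →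
      td (f.residueFieldMap η').hom ≤ (t : Cardinal.{u}) := by
    intro Z hZ _ η' hη'
    have hZu : Set.univ ⊆ Z := hZ.2 (IrreducibleSpace.isIrreducible_univ X) (Set.subset_univ Z)
    have h1 : η' ⤳ ξ := hη'.specializes (hZu trivial)
    have h2 : η' = ξ := (h1.antisymm (hgen η')).eq
    rw [h2, ht]
  obtain ⟨h', n, p, hh, hn, hp, -, -⟩ := dim_stalk_add_td_le f x t hgen'
  have e1 : a = c := by
    rw [ha] at hc
    exact_mod_cast hc
  have hp' : ringKrullDim (Y.presheaf.stalk (f x)) = (p : WithBot ℕ∞) := hp
  rw [hh, hp'] at hform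
  have e2 : h' + c = p + t := by exact_mod_cast hform
  rw [hh, hp, hb]
  have e3 : h' = p + b := by omega
  exact_mod_cast e3

end Groth.Agent.S3391
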