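import Groth.Statements.S3392
import Mathlib
import Groth.Agent.Lib.Helper3.FibreCoheight
import Groth.Agent.Lib.Helper3.FibreDimNat
import Groth.Agent.Lib.Helper17.FibreDim

set_option autoImplicit false
open CategoryTheory AlgebraicGeometry
universe u
open EGA43

namespace Groth.Agent.S3392
open Groth.Agent.Lib.helper3.DimIneq Groth.Agent.Lib.helper3.DimFibre Groth.Agent.Lib.helper3.FibreCoheight Groth.Agent.Lib.helper3.QFinTop

/-- Let Y be an irreducible locally Noetherian scheme, f : X ⟶ Y a morphism of finite type and y a point
of Y. Condition (a): for every point x of the fibre over y, dim O_{X,x} = dim O_{Y,y} + dim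
O_{X_y,x}. Condition (b): for every point z of the fibre over y at which the local ring of the fibre
has dimension 0 (the generic points of the irreducible components of the fibre), dim O_{X,z} = dim
O_{Y,y}. Then (a) implies (b), and (b) implies (a) if O_{Y,y} is universally catenary. -/
theorem result {X Y : Scheme.{u}} [IrreducibleSpace Y] [IsLocallyNoetherian Y]
    (f : X ⟶ Y) [LocallyOfFiniteType f] [QuasiCompact f] (y : Y) :
    ((∀ x : X, f.base x = y → ringKrullDim (X.presheaf.stalk x) =
        ringKrullDim (Y.presheaf.stalk (f.base x)) + ringKrullDim ((f.fiber (f.base x)).presheaf.stalk (f.asFiber x))) →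
      (∀ z : X, f.base z = y → ringKrullDim ((f.fiber (f.base z)).presheaf.stalk (f.asFiber z)) = 0 →
        ringKrullDim (X.presheaf.stalk z) = ringKrullDim (Y.presheaf.stalk (f.base z)))) ∧
    (CAlg.IsUniversallyCatenary (Y.presheaf.stalk y) →
      (∀ z : X, f.base z = y → ringKrullDim ((f.fiber (f.base z)).presheaf.stalk (f.asFiber z)) = 0 →
        ringKrullDim (X.presheaf.stalk z) = ringKrullDim (Y.presheaf.stalk (f.base z))) →
      (∀ x : X, f.base x = y → ringKrullDim (X.presheaf.stalk x) =
        ringKrullDim (Y.presheaf.stalk (f.base x)) + ringKrullDim ((f.fiber (f.base x)).presheaf.stalk (f.asFiber x)))) := by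
  haveI : IsLocallyNoetherian X := LocallyOfFiniteType.isLocallyNoetherian f
  refine ⟨?_, ?_⟩
  · intro ha z hz h0
    have := ha z hz
    rw [h0, add_zero] at this
    exact this
  · intro _ hb x hx
    apply le_antisymm
    · exact Groth.Agent.Lib.helper17.FibreDim.dim_stalk_le f x
    · obtain ⟨a, b, -, hbb, -⟩ := fibreDimAt_eq_add f x
      have hco : Order.coheight (f.asFiber x) = (b : ℕ∞) := by
        have h1 := ringKrullDim_stalk_eq_coheight (f.asFiber x)
        have hbb' : ringKrullDim ((f.fiber (f x)).presheaf.stalk (f.asFiber x)) = (b : WithBot ℕ∞) :=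
          hbb
        rw [hbb'] at h1
        exact_mod_cast h1.symm
      obtain ⟨ζ, hζ, hζ0, hle⟩ := coheight_chain (f.fiberι (f x))
        (fun a b => fiberι_specializes_iff f (f x) a b) b (f.asFiber x) hco
      rw [f.fiberι_asFiber] at hle
      set z := f.fiberι (f x) ζ with hzdef
      have hfz : f z = f x := fiberι_mem f (f x) ζ
      have hz0 : ringKrullDim ((f.fiber (f.base z)).presheaf.stalk (f.asFiber z)) = 0 := by
        have h1 := stalk_dim_fiber_eq f (f x) z hfz ζ rfl
        have h1' : ringKrullDim ((f.fiber (f x)).presheaf.stalk ζ) =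
            ringKrullDim ((f.fiber (f.base z)).presheaf.stalk (f.asFiber z)) := h1
        rw [← h1', ringKrullDim_stalk_eq_coheight ζ, hζ0]
        rfl
      have hz1 := hb z (hfz.trans hx) hz0
      have hYz : ringKrullDim (Y.presheaf.stalk (f.base z)) =
          ringKrullDim (Y.presheaf.stalk (f.base x)) := by
        have : f.base z = f.base x := hfz
        rw [this]
      rw [hYz, ringKrullDim_stalk_eq_coheight z] at hz1
      have hbb' : ringKrullDim ((f.fiber (f.base x)).presheaf.stalk (f.asFiber x)) =
          (b : WithBot ℕ∞) := hbb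
      rw [hbb', ← hz1, ringKrullDim_stalk_eq_coheight x]
      exact_mod_cast hle

end Groth.Agent.S3392
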