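import Groth.Statements.S3393
import Mathlib
import Groth.Agent.S0402
import Groth.Agent.Lib.Helper3.DimBetweenSch
import Groth.Agent.Lib.Helper3.FibreDimNat
import Groth.Agent.Lib.Helper17.FibreDim

set_option autoImplicit false
open CategoryTheory AlgebraicGeometry
universe u
open EGA43

namespace Groth.Agent.S3393
open AlgebraicGeometry CategoryTheory Groth.Agent.Lib.helper3.DimIneq Groth.Agent.Lib.helper3.FTField Groth.Agent.Lib.helper3.DimFibre Groth.Agent.Lib.helper3.FibreField

/-- Let Y be an irreducible locally Noetherian scheme with generic point η, f : X ⟶ Y a morphism of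
finite type and y a point of Y. Condition (b): for every point z of the fibre over y at which the
local ring of the fibre has dimension 0, dim O_{X,z} = dim O_{Y,y}. Condition (c): for every such z
there is an irreducible component X' of X containing z such that the dimension of X' ∩ f⁻¹(η)
(topology induced from X) equals the local dimension at z of the fibre over y (the dimension of the
irreducible component of the fibre with generic point z). Then (b) implies (c), and (c) implies (b)
if O_{Y,y} is universally catenary. -/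
theorem result {X Y : Scheme.{u}} [IrreducibleSpace Y] [IsLocallyNoetherian Y]
    (f : X ⟶ Y) [LocallyOfFiniteType f] [QuasiCompact f] (y : Y) :
    ((∀ z : X, f.base z = y → ringKrullDim ((f.fiber (f.base z)).presheaf.stalk (f.asFiber z)) = 0 →
        ringKrullDim (X.presheaf.stalk z) = ringKrullDim (Y.presheaf.stalk (f.base z))) →
      (∀ z : X, f.base z = y → ringKrullDim ((f.fiber (f.base z)).presheaf.stalk (f.asFiber z)) = 0 →
        ∃ X' ∈ irreducibleComponents (X : Type u), z ∈ X' ∧
          topologicalKrullDim ↥(X' ∩ f.base ⁻¹' {genericPoint Y}) = FlatMor.fibreDimAt f z)) ∧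
    (CAlg.IsUniversallyCatenary (Y.presheaf.stalk y) →
      (∀ z : X, f.base z = y → ringKrullDim ((f.fiber (f.base z)).presheaf.stalk (f.asFiber z)) = 0 →
        ∃ X' ∈ irreducibleComponents (X : Type u), z ∈ X' ∧
          topologicalKrullDim ↥(X' ∩ f.base ⁻¹' {genericPoint Y}) = FlatMor.fibreDimAt f z) →
      (∀ z : X, f.base z = y → ringKrullDim ((f.fiber (f.base z)).presheaf.stalk (f.asFiber z)) = 0 →
        ringKrullDim (X.presheaf.stalk z) = ringKrullDim (Y.presheaf.stalk (f.base z)))) := by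
  classical
  haveI hXN : IsLocallyNoetherian X := LocallyOfFiniteType.isLocallyNoetherian f
  refine ⟨fun hb z hz h0 => ?_, fun huc hc z hz h0 => ?_⟩
  · -- (b) ⇒ (c)
    obtain ⟨n, b, hn, hb0, hfd⟩ := fibreDimAt_eq_add f z
    have hb00 : b = 0 := by
      rw [hb0] at h0
      exact_mod_cast h0
    subst hb00
    obtain ⟨U, hU, hyU, -⟩ := exists_isAffineOpen_mem_and_subset (x := f.base z) (U := ⊤) trivial
    obtain ⟨V, hV, hzV, e⟩ := exists_isAffineOpen_mem_and_subset (x := z) (U := f ⁻¹ᵁ U) hyU
    haveI : IsNoetherianRing Γ(Y, U) := IsLocallyNoetherian.component_noetherian ⟨U, hU⟩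
    haveI : IsNoetherianRing Γ(X, V) := IsLocallyNoetherian.component_noetherian ⟨V, hV⟩
    have hdz := hb z hz h0
    rw [ringKrullDim_stalk_eq_height hV z hzV,
      ringKrullDim_stalk_eq_height hU (f.base z) hyU] at hdz
    have hqp : (hV.primeIdealOf ⟨z, hzV⟩).asIdeal.height =
        (hU.primeIdealOf ⟨f.base z, hyU⟩).asIdeal.height := by exact_mod_cast hdz
    obtain ⟨q0, hq0, hq0q, hge⟩ :=
      exists_minimalPrimes_height_map_ge (hV.primeIdealOf ⟨z, hzV⟩).asIdeal
    haveI : q0.IsPrime := hq0.1.1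
    obtain ⟨ξ, hξV, hξq⟩ := exists_point_of_prime hV q0
    subst hξq
    have hcomp : closure ({ξ} : Set X) ∈ irreducibleComponents X :=
      closure_mem_irreducibleComponents hV ξ hξV hq0
    have hsp : ξ ⤳ z := (specializes_iff_primeIdealOf_le hV ξ z hξV hzV).mpr hq0q
    obtain ⟨E, hE⟩ := exists_nat_td_residueFieldMap f ξ
    have key := dimension_inequality_specializes f hU hV e ξ z hξV hzV hq0q n E hn hE
    -- `E ≤ n` by upper semicontinuity
    have hEn : E ≤ n := by
      have hopen := Groth.Agent.S0402.result f n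
      have hz' : z ∈ {x : X | FlatMor.fibreDimAt f x ≤ n} := by
        rw [Set.mem_ofPred_eq, hfd]
        exact_mod_cast le_refl n
      have hξ' := hsp.mem_open hopen hz'
      obtain ⟨a', b', ha', -, hfd'⟩ := fibreDimAt_eq_add f ξ
      rw [Set.mem_ofPred_eq, hfd'] at hξ'
      have h1 : a' = E := by
        have := ha'.symm.trans hE
        exact_mod_cast this
      have h3 : a' + b' ≤ n := by exact_mod_cast hξ'
      omega
    -- the primes downstairs
    have hfsp : f.base ξ ⤳ f.base z := hsp.map f.continuous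
    have hp0p : (hU.primeIdealOf ⟨f.base ξ, e hξV⟩).asIdeal ≤
        (hU.primeIdealOf ⟨f.base z, hyU⟩).asIdeal :=
      (specializes_iff_primeIdealOf_le hU _ _ (e hξV) hyU).mp hfsp
    haveI := map_mk_isPrime _ _ hp0p
    haveI := map_mk_isPrime _ _ hq0q
    obtain ⟨P, hP⟩ := ENat.ne_top_iff_exists.mp
      (Ideal.height_ne_top_of_isPrime (I := (hU.primeIdealOf ⟨f.base z, hyU⟩).asIdeal))
    obtain ⟨k, hk⟩ := ENat.ne_top_iff_exists.mp
      (Ideal.height_ne_top_of_isPrime (I := (hU.primeIdealOf ⟨f.base z, hyU⟩).asIdeal.map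
        (Ideal.Quotient.mk (hU.primeIdealOf ⟨f.base ξ, e hξV⟩).asIdeal)))
    obtain ⟨j, hj⟩ := ENat.ne_top_iff_exists.mp
      (Ideal.height_ne_top_of_isPrime (I := (hU.primeIdealOf ⟨f.base ξ, e hξV⟩).asIdeal))
    obtain ⟨h', hh'⟩ := ENat.ne_top_iff_exists.mp
      (Ideal.height_ne_top_of_isPrime (I := (hV.primeIdealOf ⟨z, hzV⟩).asIdeal.map
        (Ideal.Quotient.mk (hV.primeIdealOf ⟨ξ, hξV⟩).asIdeal)))
    have hsum := height_add_height_map_le _ _ hp0p k hk.symm
    rw [← hj, ← hP] at hsum
    rw [← hh', ← hk] at key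
    rw [hqp, ← hP, ← hh'] at hge
    have hsum' : j + k ≤ P := by exact_mod_cast hsum
    have key' : h' + n ≤ k + E := by exact_mod_cast key
    have hge' : P ≤ h' := by exact_mod_cast hge
    have hj0 : j = 0 := by omega
    have hnE : n = E := by omega
    have hmin : (hU.primeIdealOf ⟨f.base ξ, e hξV⟩).asIdeal ∈ minimalPrimes Γ(Y, U) := by
      rw [← Ideal.height_eq_zero_iff, ← hj, hj0]; rfl
    have hgen : f.base ξ = genericPoint Y :=
      eq_genericPoint_of_mem_minimalPrimes hU (f.base ξ) (e hξV) hmin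
    refine ⟨closure ({ξ} : Set X), hcomp, hsp.mem_closure, ?_⟩
    rw [← hgen, dim_closure_inter_fibre f ξ E hE, hfd, ← hnE]
    rfl
  · -- (c) ⇒ (b)
    obtain ⟨X', hX', hzX', hdim⟩ := hc z hz h0
    obtain ⟨n, b, hn, hb0, hfd⟩ := fibreDimAt_eq_add f z
    have hb00 : b = 0 := by
      rw [hb0] at h0
      exact_mod_cast h0
    subst hb00
    have hirr : IsIrreducible X' := hX'.1
    have hcl : IsClosed X' := isClosed_of_mem_irreducibleComponents X' hX'
    obtain ⟨ξ, hξ⟩ := QuasiSober.sober hirr hcl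
    have hsp : ξ ⤳ z := hξ.specializes hzX'
    have hne : Nonempty ↥(X' ∩ f.base ⁻¹' {genericPoint Y}) := by
      by_contra hemp
      rw [not_nonempty_iff] at hemp
      rw [topologicalKrullDim_eq_bot_of_isEmpty, hfd] at hdim
      exact absurd hdim (by simp)
    obtain ⟨⟨w, hwX', hwη⟩⟩ := hne
    have hfξ : f.base ξ = genericPoint Y := by
      have h1 : f.base ξ ⤳ f.base w := (hξ.specializes hwX').map f.continuous
      rw [show f.base w = genericPoint Y from hwη] at h1
      exact (h1.antisymm (genericPoint_specializes _)).eq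
    obtain ⟨E, hE⟩ := exists_nat_td_residueFieldMap f ξ
    have hdimE := dim_closure_inter_fibre f ξ E hE
    rw [hξ.def, hfξ] at hdimE
    have hEn : E = n := by
      rw [hdimE, hfd] at hdim
      exact_mod_cast hdim
    subst hEn
    obtain ⟨U, hU, hyU, -⟩ := exists_isAffineOpen_mem_and_subset (x := f.base z) (U := ⊤) trivial
    obtain ⟨V, hV, hzV, e⟩ := exists_isAffineOpen_mem_and_subset (x := z) (U := f ⁻¹ᵁ U) hyU
    haveI : IsNoetherianRing Γ(Y, U) := IsLocallyNoetherian.component_noetherian ⟨U, hU⟩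
    haveI : IsNoetherianRing Γ(X, V) := IsLocallyNoetherian.component_noetherian ⟨V, hV⟩
    have hξV : ξ ∈ V := hsp.mem_open V.isOpen hzV
    have hle : (hV.primeIdealOf ⟨ξ, hξV⟩).asIdeal ≤ (hV.primeIdealOf ⟨z, hzV⟩).asIdeal :=
      (specializes_iff_primeIdealOf_le hV ξ z hξV hzV).mp hsp
    have huc' : CAlg.IsUniversallyCatenary (Y.presheaf.stalk (f.base z)) := by
      rw [hz]; exact huc
    have formula := dimension_formula_specializes f hU hV e ξ z hξV hzV hle huc'
    rw [hn, hE] at formula
    have hfsp : f.base ξ ⤳ f.base z := hsp.map f.continuous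
    have hp0p : (hU.primeIdealOf ⟨f.base ξ, e hξV⟩).asIdeal ≤
        (hU.primeIdealOf ⟨f.base z, hyU⟩).asIdeal :=
      (specializes_iff_primeIdealOf_le hU _ _ (e hξV) hyU).mp hfsp
    haveI := map_mk_isPrime _ _ hp0p
    haveI := map_mk_isPrime _ _ hle
    obtain ⟨k, hk⟩ := ENat.ne_top_iff_exists.mp
      (Ideal.height_ne_top_of_isPrime (I := (hU.primeIdealOf ⟨f.base z, hyU⟩).asIdeal.map
        (Ideal.Quotient.mk (hU.primeIdealOf ⟨f.base ξ, e hξV⟩).asIdeal)))
    obtain ⟨h', hh'⟩ := ENat.ne_top_iff_exists.mp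
      (Ideal.height_ne_top_of_isPrime (I := (hV.primeIdealOf ⟨z, hzV⟩).asIdeal.map
        (Ideal.Quotient.mk (hV.primeIdealOf ⟨ξ, hξV⟩).asIdeal)))
    have hk' : k = h' := by
      rw [← hh', ← hk] at formula
      have : ((h' + E : ℕ) : Cardinal.{u}) = ((k + E : ℕ) : Cardinal.{u}) := by
        push_cast
        exact_mod_cast formula
      have h2 : h' + E = k + E := by exact_mod_cast this
      omega
    have huniq : ∀ p1 ∈ minimalPrimes Γ(Y, U), p1 ≤ (hU.primeIdealOf ⟨f.base z, hyU⟩).asIdeal →
        p1 = (hU.primeIdealOf ⟨f.base ξ, e hξV⟩).asIdeal := by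
      intro p1 hp1 _
      haveI : p1.IsPrime := hp1.1.1
      obtain ⟨ζ, hζU, hζp⟩ := exists_point_of_prime hU p1
      subst hζp
      have h1 := eq_genericPoint_of_mem_minimalPrimes hU ζ hζU hp1
      have h2 : ζ = f.base ξ := h1.trans hfξ.symm
      subst h2
      rfl
    have hk2 := height_map_eq_of_unique_minimal _ _ hp0p huniq
    have hle2 := Groth.Agent.Lib.helper3.DimIneq.height_map_le _ _ hle
    rw [← hh'] at hle2
    rw [← hk, hk'] at hk2
    apply le_antisymm
    · have := Groth.Agent.Lib.helper17.FibreDim.dim_stalk_le f z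
      rw [h0, add_zero] at this
      exact this
    · rw [ringKrullDim_stalk_eq_height hV z hzV,
        ringKrullDim_stalk_eq_height hU (f.base z) hyU, ← hk2]
      exact_mod_cast hle2

end Groth.Agent.S3393
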