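import Groth.Statements.S3396
import Mathlib
import Groth.Agent.Lib.Helper3.EquidimCore

set_option autoImplicit false
open CategoryTheory AlgebraicGeometry
universe u
open EGA43

namespace Groth.Agent.S3396

/-- Let Y be locally Noetherian, f : X ⟶ Y locally of finite type and equidimensional at the point x,
and suppose the local ring O_{Y,f x} is universally catenary. If O_{Y,f x} is equidimensional, then
so is O_{X,x}. -/
theorem result {X Y : Scheme.{u}} [IsLocallyNoetherian Y] (f : X ⟶ Y)
    [LocallyOfFiniteType f] (x : X) (h : EGA43.IsEquidimAt f x)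
    (hcat : CAlg.IsUniversallyCatenary (Y.presheaf.stalk (f.base x)))
    (hY : EGA4.IsEquidim (Y.presheaf.stalk (f.base x))) :
    EGA4.IsEquidim (X.presheaf.stalk x) := by
  haveI hXN : IsLocallyNoetherian X := LocallyOfFiniteType.isLocallyNoetherian f
  obtain ⟨e, n, he, hn, H⟩ := Groth.Agent.Lib.helper3.EquidimAt.equidim_core f x h hcat
  obtain ⟨𝔭', h𝔭', hdim⟩ := Groth.Agent.Lib.helper3.EquidimAt.exists_minimalPrimes_stalk_dim_eq x
  obtain ⟨a', b', ha', hb', hab', hminY'⟩ := H 𝔭' h𝔭'
  intro 𝔭 h𝔭
  obtain ⟨a, b, ha, hb, hab, hminY⟩ := H 𝔭 h𝔭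
  have hbb : b = b' := by
    have := (hb.symm.trans (hY _ hminY)).trans ((hY _ hminY').symm.trans hb')
    exact_mod_cast this
  rw [← hdim, ha, ha']
  have : a = a' := by omega
  rw [this]

end Groth.Agent.S3396
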