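import Groth.Statements.S3405
import Groth.Agent.Lib.Helper26.HS8


set_option autoImplicit false
universe u
open EGA41

namespace Groth.Agent.S3405


open Groth.Agent.Lib.helper26.HS Polynomial

/-- Primes containing the Jacobson radical of a semilocal ring are maximal. -/
theorem isMaximal_of_jacobson_le (A : Type u) [CommRing A] [Finite (MaximalSpectrum A)]
    (p : Ideal A) [hp : p.IsPrime] (h : Ring.jacobson A ≤ p) : p.IsMaximal := by
  have := Fintype.ofFinite (MaximalSpectrum A)
  have h1 : (Finset.univ.inf fun m : MaximalSpectrum A => m.asIdeal) ≤ p := by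
    refine le_trans ?_ h
    rw [← Ideal.jacobson_bot]
    refine le_sInf ?_
    rintro J ⟨-, hJ⟩
    exact Finset.inf_le (f := fun m : MaximalSpectrum A => m.asIdeal)
      (Finset.mem_univ (⟨J, hJ⟩ : MaximalSpectrum A))
  obtain ⟨m, -, hm⟩ := (Ideal.IsPrime.inf_le' hp).1 h1
  rw [← m.isMaximal.eq_of_le hp.ne_top hm]
  exact m.isMaximal


/-- The degree of the Hilbert–Samuel polynomial equals the dimension: let A be a Noetherian ring with
finitely many maximal ideals, r its Jacobson radical and M a nonzero finitely generated A-module.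
Then there is a polynomial P with rational coefficients such that the length of M/rⁿM is finite and
equals P(n) for all large n, and the degree of P is the dimension of M (the Krull dimension of its
support). -/
theorem result (A : Type u) [CommRing A] [IsNoetherianRing A]
    [Finite (MaximalSpectrum A)] (M : Type u) [AddCommGroup M] [Module A M] [Module.Finite A M] [Nontrivial M] :
    ∃ P : Polynomial ℚ,
      (∃ N : ℕ, ∀ n : ℕ, N ≤ n →
        ∃ ℓ : ℕ, Module.length A (M ⧸ (Ring.jacobson A ^ n • (⊤ : Submodule A M))) = ℓ ∧ (ℓ : ℚ) = P.eval (n : ℚ)) ∧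
      (P.natDegree : WithBot ℕ∞) = Module.supportDim A M := by
  have hM : hs (Ring.jacobson A) M 1 ≠ ⊤ := by
    rw [hs_one_ne_top_iff]
    intro Q _ hqQ
    exact isMaximal_of_jacobson_le A Q.asIdeal hqQ
  obtain ⟨P, hP⟩ := exists_isHSPoly (Ring.jacobson A) hM
  refine ⟨P, ?_, ?_⟩
  · obtain ⟨N, hN⟩ := hP
    refine ⟨N, fun n hn => ⟨(hs (Ring.jacobson A) M n).toNat, ?_, hN n hn⟩⟩
    exact (ENat.natCast_toNat (hs_ne_top (Ring.jacobson A) M hM n)).symm
  · have hLB := supportDim_le_of_natDegree_le (Ring.jacobson A) le_rfl P.natDegree M hM P hP le_rfl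
    have hne : Module.supportDim A M ≠ ⊥ := Module.supportDim_ne_bot_of_nontrivial A M
    obtain ⟨d, hd⟩ : ∃ d : ℕ, Module.supportDim A M = (d : WithBot ℕ∞) := by
      generalize Module.supportDim A M = s at hLB hne
      induction s using WithBot.recBotCoe with
      | bot => exact absurd rfl hne
      | coe a =>
        have h1 : a ≤ (P.natDegree : ℕ∞) := by exact_mod_cast hLB
        have h2 : a ≠ ⊤ := ne_top_of_le_ne_top (ENat.natCast_ne_top _) h1
        obtain ⟨d, rfl⟩ := ENat.ne_top_iff_exists.1 h2
        exact ⟨d, rfl⟩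
    have hUB := natDegree_le_of_supportDim_le (Ring.jacobson A) d M hM P hP (le_of_eq hd)
    rw [hd] at hLB ⊢
    have h3 : d ≤ P.natDegree := by exact_mod_cast hLB
    have h4 : P.natDegree = d := le_antisymm hUB h3
    rw [h4]


end Groth.Agent.S3405
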