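import Groth.Statements.S3406
import Groth.Agent.Lib.Helper26.HS8

set_option autoImplicit false
universe u
open EGA41

namespace Groth.Agent.S3406

open Groth.Agent.Lib.helper26.HS
open Pointwise

section helpers

variable {A : Type u} [CommRing A] [IsNoetherianRing A]

/-- In a semilocal ring, a prime containing the Jacobson radical is maximal. -/
theorem isMaximal_of_jacobson_le [Finite (MaximalSpectrum A)] (Q : Ideal A) [Q.IsPrime]
    (h : Ring.jacobson A ≤ Q) : Q.IsMaximal := by
  classical
  haveI := Fintype.ofFinite (MaximalSpectrum A)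
  have h1 : (Finset.univ : Finset (MaximalSpectrum A)).inf (fun m => m.asIdeal) ≤ Q := by
    refine le_trans ?_ h
    rw [Ring.jacobson_eq_sInf_isMaximal, le_sInf_iff]
    intro m hm
    exact Finset.inf_le (f := fun m : MaximalSpectrum A => m.asIdeal)
      (Finset.mem_univ (⟨m, hm⟩ : MaximalSpectrum A))
  obtain ⟨m, -, hm⟩ := (Ideal.IsPrime.inf_le' (inferInstance : Q.IsPrime)).1 h1
  rw [← m.isMaximal.eq_of_le (Ideal.IsPrime.ne_top inferInstance) hm]
  exact m.isMaximal

theorem jacobson_le_jacobson_annihilator (M : Type u) [AddCommGroup M] [Module A M] :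
    Ring.jacobson A ≤ (Module.annihilator A M).jacobson := by
  rw [Ring.jacobson_eq_sInf_isMaximal, Ideal.jacobson]
  exact sInf_le_sInf fun m hm => hm.2

theorem supportDim_le_zero_of_isFiniteLength (M : Type u) [AddCommGroup M] [Module A M]
    (h : IsFiniteLength A M) : Module.supportDim A M ≤ 0 := by
  rw [Module.supportDim, Order.krullDim_nonpos_iff_forall_isMax]
  intro Q R hQR
  have hQ := Groth.Agent.Lib.helper8.StalkLen.isMaximal_of_mem_support_of_isFiniteLength h Q.1 Q.2
  have : Q.1.asIdeal = R.1.asIdeal := hQ.eq_of_le R.1.2.ne_top hQR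
  exact le_of_eq (Subtype.ext (PrimeSpectrum.ext this)).symm

/-- The quotient of `M` by the submodule generated by `x₀, x'`. -/
theorem span_cons {n : ℕ} (x₀ : A) (x' : Fin n → A) :
    Ideal.span (Set.range (Fin.cons x₀ x' : Fin (n + 1) → A)) =
      Ideal.span {x₀} ⊔ Ideal.span (Set.range x') := by
  rw [Fin.range_cons, Set.insert_eq, Ideal.span_union]

end helpers

section main

variable (A : Type u) [CommRing A] [IsNoetherianRing A]

/-- comparison maps between `M/(x₀,x')M` and `(M/x₀M)/(x')(M/x₀M)`. -/
theorem exists_surjective_to {n : ℕ} (M : Type u) [AddCommGroup M] [Module A M] (x₀ : A)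
    (x' : Fin n → A) :
    ∃ f : (M ⧸ (Ideal.span (Set.range (Fin.cons x₀ x' : Fin (n + 1) → A)) •
        (⊤ : Submodule A M))) →ₗ[A]
      (QuotSMulTop x₀ M ⧸ (Ideal.span (Set.range x') • (⊤ : Submodule A (QuotSMulTop x₀ M)))),
      Function.Surjective f := by
  let g : M →ₗ[A] (QuotSMulTop x₀ M ⧸
      (Ideal.span (Set.range x') • (⊤ : Submodule A (QuotSMulTop x₀ M)))) :=
    (Submodule.mkQ _).comp (Submodule.mkQ _)
  have hg : Function.Surjective g :=
    (Submodule.mkQ_surjective _).comp (Submodule.mkQ_surjective _)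
  have hker : Ideal.span (Set.range (Fin.cons x₀ x' : Fin (n + 1) → A)) • (⊤ : Submodule A M) ≤
      LinearMap.ker g := by
    rw [span_cons, Submodule.sup_smul, sup_le_iff]
    constructor
    · rw [Submodule.smul_le]
      intro r hr m _
      obtain ⟨c, rfl⟩ := Ideal.mem_span_singleton'.1 hr
      rw [LinearMap.mem_ker, mul_smul, map_smul]
      have : (Submodule.mkQ (x₀ • (⊤ : Submodule A M))) (x₀ • m) = 0 := by
        rw [Submodule.mkQ_apply, Submodule.Quotient.mk_eq_zero]
        exact Submodule.smul_mem_pointwise_smul m x₀ ⊤ trivial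
      show c • ((Submodule.mkQ _) ((Submodule.mkQ _) (x₀ • m))) = 0
      rw [this, map_zero, smul_zero]
    · rw [Submodule.smul_le]
      intro r hr m _
      rw [LinearMap.mem_ker, map_smul]
      show r • ((Submodule.mkQ _) ((Submodule.mkQ _) m)) = 0
      rw [← map_smul, Submodule.mkQ_apply, Submodule.Quotient.mk_eq_zero]
      exact Submodule.smul_mem_smul hr trivial
  refine ⟨Submodule.liftQ _ g hker, ?_⟩
  intro y
  obtain ⟨m, rfl⟩ := hg y
  exact ⟨Submodule.Quotient.mk m, rfl⟩

theorem exists_surjective_from {n : ℕ} (M : Type u) [AddCommGroup M] [Module A M] (x₀ : A)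
    (x' : Fin n → A) :
    ∃ f : (QuotSMulTop x₀ M ⧸ (Ideal.span (Set.range x') •
        (⊤ : Submodule A (QuotSMulTop x₀ M)))) →ₗ[A]
      (M ⧸ (Ideal.span (Set.range (Fin.cons x₀ x' : Fin (n + 1) → A)) •
        (⊤ : Submodule A M))),
      Function.Surjective f := by
  set T := Ideal.span (Set.range (Fin.cons x₀ x' : Fin (n + 1) → A)) • (⊤ : Submodule A M)
    with hT
  have h0 : x₀ • (⊤ : Submodule A M) ≤ T := by
    rw [hT, span_cons, Submodule.sup_smul]
    refine le_trans ?_ le_sup_left
    rintro _ ⟨m, -, rfl⟩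
    exact Submodule.smul_mem_smul (Ideal.mem_span_singleton_self x₀) trivial
  let g1 : QuotSMulTop x₀ M →ₗ[A] M ⧸ T :=
    Submodule.liftQ _ (Submodule.mkQ T) (by rwa [Submodule.ker_mkQ])
  have hg1 : Function.Surjective g1 := by
    intro y
    obtain ⟨m, rfl⟩ := Submodule.mkQ_surjective _ y
    exact ⟨Submodule.Quotient.mk m, rfl⟩
  have hker : Ideal.span (Set.range x') • (⊤ : Submodule A (QuotSMulTop x₀ M)) ≤
      LinearMap.ker g1 := by
    rw [Submodule.smul_le]
    intro r hr y _
    obtain ⟨m, rfl⟩ := Submodule.mkQ_surjective _ y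
    rw [LinearMap.mem_ker, map_smul]
    show r • (Submodule.mkQ T m) = 0
    rw [← map_smul, Submodule.mkQ_apply, Submodule.Quotient.mk_eq_zero, hT, span_cons,
      Submodule.sup_smul]
    exact Submodule.mem_sup_right (Submodule.smul_mem_smul hr trivial)
  refine ⟨Submodule.liftQ _ g1 hker, ?_⟩
  intro y
  obtain ⟨m, rfl⟩ := hg1 y
  exact ⟨Submodule.Quotient.mk m, rfl⟩

theorem le_of_isFiniteLength : ∀ (n : ℕ) (M : Type u) [AddCommGroup M] [Module A M]
    [Module.Finite A M] (x : Fin n → A), (∀ i, x i ∈ Ring.jacobson A) →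
    IsFiniteLength A (M ⧸ (Ideal.span (Set.range x) • (⊤ : Submodule A M))) →
    Module.supportDim A M ≤ n := by
  intro n
  induction n with
  | zero =>
    intro M _ _ _ x _ hfl
    have hbot : Ideal.span (Set.range x) • (⊤ : Submodule A M) = ⊥ := by
      rw [Set.range_eq_empty, Ideal.span_empty, Submodule.bot_smul]
    have hM : IsFiniteLength A M :=
      hfl.of_injective (f := Submodule.mkQ _) (by
        rw [← LinearMap.ker_eq_bot, Submodule.ker_mkQ, hbot])
    simpa using supportDim_le_zero_of_isFiniteLength M hM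
  | succ n ih =>
    intro M _ _ _ x hx hfl
    obtain ⟨x₀, x', rfl⟩ : ∃ x₀ x', x = Fin.cons x₀ x' :=
      ⟨x 0, Fin.tail x, (Fin.cons_self_tail x).symm⟩
    obtain ⟨f, hf⟩ := exists_surjective_to A M x₀ x'
    have hfl' := hfl.of_surjective hf
    have h1 := ih (QuotSMulTop x₀ M) x' (fun i => by simpa using hx i.succ) hfl'
    have h2 := Module.supportDim_le_supportDim_quotSMulTop_succ_of_mem_jacobson (M := M)
      (jacobson_le_jacobson_annihilator M (by simpa using hx 0))
    refine h2.trans ?_
    push_cast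
    gcongr

theorem exists_of_supportDim_le [Finite (MaximalSpectrum A)] :
    ∀ (n : ℕ) (M : Type u) [AddCommGroup M] [Module A M] [Module.Finite A M],
    Module.supportDim A M ≤ n →
    ∃ x : Fin n → A, (∀ i, x i ∈ Ring.jacobson A) ∧
      IsFiniteLength A (M ⧸ (Ideal.span (Set.range x) • (⊤ : Submodule A M))) := by
  intro n
  induction n with
  | zero =>
    intro M _ _ _ h
    refine ⟨Fin.elim0, fun i => i.elim0, ?_⟩
    have hM := isFiniteLength_of_supportDim_le_zero (A := A) (M := M) (by simpa using h)
    exact hM.of_surjective (Submodule.mkQ_surjective _)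
  | succ n ih =>
    intro M _ _ _ h
    by_cases h1 : 1 ≤ Module.supportDim A M
    · have hM : hs (Ring.jacobson A) M 1 ≠ ⊤ := by
        rw [hs_one_ne_top_iff]
        intro Q _ hQ
        exact isMaximal_of_jacobson_le Q.asIdeal hQ
      obtain ⟨x₀, hx₀, hav⟩ := exists_mem_notMem_minimalPrimes (Ring.jacobson A) (M := M) hM
      have h2 := supportDim_quotSMulTop_succ_le' (M := M) hav h1
      have h3 : Module.supportDim A (QuotSMulTop x₀ M) ≤ n := by
        have h4 := h2.trans h
        push_cast at h4
        exact le_of_add_one_le h4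
      obtain ⟨x', hx', hfl⟩ := ih (QuotSMulTop x₀ M) h3
      obtain ⟨f, hf⟩ := exists_surjective_from A M x₀ x'
      refine ⟨Fin.cons x₀ x', ?_, hfl.of_surjective hf⟩
      intro i
      refine Fin.cases ?_ (fun j => ?_) i
      · simpa using hx₀
      · simpa using hx' j
    · have h0 : Module.supportDim A M ≤ 0 := by
        by_contra hc
        exact h1 (one_le_of_pos (not_le.1 hc))
      have hM := isFiniteLength_of_supportDim_le_zero (A := A) (M := M) h0
      exact ⟨fun _ => 0, fun _ => zero_mem _, hM.of_surjective (Submodule.mkQ_surjective _)⟩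

end main

/-- The equality s(M) = dim(M): let A be a Noetherian ring with finitely many maximal ideals, r its
Jacobson radical and M a nonzero finitely generated A-module. Then the dimension of M (the Krull
dimension of its support) is the least n for which there are elements x_1, …, x_n of r such that
M/(x_1 M + ⋯ + x_n M) has finite length. -/
theorem result (A : Type u) [CommRing A] [IsNoetherianRing A]
    [Finite (MaximalSpectrum A)] (M : Type u) [AddCommGroup M] [Module A M] [Module.Finite A M] [Nontrivial M] :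
    Module.supportDim A M =
      sInf {k : WithBot ℕ∞ | ∃ (n : ℕ) (x : Fin n → A), k = n ∧ (∀ i, x i ∈ Ring.jacobson A) ∧
        IsFiniteLength A (M ⧸ (Ideal.span (Set.range x) • (⊤ : Submodule A M)))} := by
  apply le_antisymm
  · apply le_sInf
    rintro k ⟨n, x, rfl, hx, hfl⟩
    exact le_of_isFiniteLength A n M x hx hfl
  · rcases eq_or_ne (Module.supportDim A M) ⊤ with htop | htop
    · rw [htop]; exact le_top
    · have hbot : Module.supportDim A M ≠ ⊥ := Module.supportDim_ne_bot_of_nontrivial A M
      obtain ⟨d, hd⟩ : ∃ d : ℕ, Module.supportDim A M = d := by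
        obtain ⟨e, he⟩ := WithBot.ne_bot_iff_exists.1 hbot
        have he' : e ≠ ⊤ := by
          rintro rfl
          exact htop he.symm
        obtain ⟨d, rfl⟩ := ENat.ne_top_iff_exists.1 he'
        exact ⟨d, he.symm⟩
      obtain ⟨x, hx, hfl⟩ := exists_of_supportDim_le A d M (le_of_eq hd)
      rw [hd]
      exact sInf_le ⟨d, x, rfl, hx, hfl⟩

end Groth.Agent.S3406
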