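import Groth.Statements.S3418
import Mathlib
import Groth.Agent.Lib.Helper13.GF3
-- import your own Groth.Agent.* helpers here

set_option autoImplicit false
open CategoryTheory AlgebraicGeometry
universe u
open EGA43

namespace Groth.Agent.S3418

/-- Let f : X ⟶ Y be flat, locally of finite presentation, separated and quasi-finite, and let n(y) be
the geometric number of points of the fibre over y. Then n is lower semicontinuous on Y, and if n is
constant on a neighbourhood of a point y₀ then f is proper over some open neighbourhood of y₀. -/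
theorem result {X Y : Scheme.{u}} (f : X ⟶ Y) [Flat f]
    [LocallyOfFinitePresentation f] [IsSeparated f] [LocallyQuasiFinite f] [QuasiCompact f] :
    LowerSemicontinuous (fun z : Y => MoreMor.nGeomConnComp f z) ∧
      ∀ y₀ : Y, (∃ V ∈ nhds y₀, ∀ z ∈ V, MoreMor.nGeomConnComp f z = MoreMor.nGeomConnComp f y₀) →
        ∃ U : Y.Opens, y₀ ∈ U ∧ IsProper (f ∣_ U) := by
  have huo : ∀ x : X, EGA43.IsUnivOpenAt f x := fun x ↦
    Groth.Agent.Lib.helper13.GF.isUnivOpenAt_of_universallyOpen f x
  refine ⟨fun y c hc ↦ ?_, fun y₀ hy₀ ↦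
    Groth.Agent.Lib.helper13.GF.nGeom_proper_at f y₀ (fun x _ ↦ huo x) hy₀⟩
  obtain ⟨O, hO, hyO, hle⟩ := Groth.Agent.Lib.helper13.GF.nGeom_lsc_at f y (fun x _ ↦ huo x)
  exact Filter.mem_of_superset (hO.mem_nhds hyO) (fun z hz ↦ lt_of_lt_of_le hc (hle z hz))

end Groth.Agent.S3418
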