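import Groth.Statements.S3429
import Groth.Agent.Lib.Helper3.QuasiFlatBC

set_option autoImplicit false
open CategoryTheory AlgebraicGeometry
universe u
open EGA42

namespace Groth.Agent.S3429

/-- A morphism of schemes which is quasi-flat (some quasi-coherent module of finite type on the source,
flat over the base, has support the whole source) and locally of finite presentation is universally
open. -/
theorem result {X Y : Scheme.{u}} (f : X ⟶ Y)
    (hf : FDesc.IsQuasiFlat f) [LocallyOfFinitePresentation f] : UniversallyOpen f := by
  exact Groth.Agent.Lib.helper3.QuasiFlatBC.universallyOpen_of_isQuasiFlat f hf

end Groth.Agent.S3429
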