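import Groth.Statements.S3435
import Mathlib

set_option autoImplicit false
universe u
open EGA41

namespace Groth.Agent.S3435


open TensorProduct in
lemma ext_tmul_D {R S T N : Type*} [CommRing R] [CommRing S] [CommRing T] [Algebra R S]
    [Algebra S T] [AddCommGroup N] [Module T N]
    (f g : T ⊗[S] Ω[S⁄R] →ₗ[T] N)
    (h : ∀ s : S, f ((1 : T) ⊗ₜ[S] KaehlerDifferential.D R S s) =
      g ((1 : T) ⊗ₜ[S] KaehlerDifferential.D R S s)) : f = g := by
  apply LinearMap.ext
  intro z
  induction z using TensorProduct.induction_on with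
  | zero => simp
  | tmul t w =>
    have hw : w ∈ Submodule.span S (Set.range (KaehlerDifferential.D R S)) := by
      rw [KaehlerDifferential.span_range_derivation]; trivial
    induction hw using Submodule.span_induction generalizing t with
    | mem w hw =>
      obtain ⟨s, rfl⟩ := hw
      have : t ⊗ₜ[S] KaehlerDifferential.D R S s =
          t • ((1 : T) ⊗ₜ[S] KaehlerDifferential.D R S s) := by
        rw [TensorProduct.smul_tmul', smul_eq_mul, mul_one]
      rw [this, map_smul, map_smul, h]
    | zero => simp
    | add a b _ _ ha hb => rw [TensorProduct.tmul_add, map_add, map_add, ha, hb]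
    | smul s w _ ih => rw [← TensorProduct.smul_tmul]; exact ih _
  | add a b ha hb => rw [map_add, map_add, ha, hb]

open TensorProduct in
/-- Let Λ → A → B → C be ring homomorphisms. The homomorphism Ω_{B/Λ} ⊗_B C → Ω_{B/A} ⊗_B C maps the
imperfection module Υ_{C/B/Λ} (the kernel of Ω_{B/Λ} ⊗_B C → Ω_{C/Λ}) onto the imperfection module
Υ_{C/B/A} (the kernel of Ω_{B/A} ⊗_B C → Ω_{C/A}): every element of Υ_{C/B/A} is the image of some
element of Υ_{C/B/Λ}. -/
theorem result (Λ A B C : Type u) [CommRing Λ] [CommRing A] [CommRing B] [CommRing C]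
    [Algebra Λ A] [Algebra Λ B] [Algebra Λ C] [Algebra A B] [Algebra A C] [Algebra B C]
    [IsScalarTower Λ A B] [IsScalarTower Λ A C] [IsScalarTower Λ B C] [IsScalarTower A B C] :
    ∀ ω ∈ EGA41.imperfection A B C, ∃ η ∈ EGA41.imperfection Λ B C,
      (KaehlerDifferential.map Λ A B B).baseChange C η = ω := by
  intro ω hω
  -- the base-changed map f is surjective
  have hfsurj : Function.Surjective ((KaehlerDifferential.map Λ A B B).baseChange C) :=
    LinearMap.lTensor_surjective C (KaehlerDifferential.map_surjective Λ A B)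
  obtain ⟨η', hη'⟩ := hfsurj ω
  -- commutativity of the right square
  have hcomm : (KaehlerDifferential.map Λ A C C).comp (KaehlerDifferential.mapBaseChange Λ B C) =
      (KaehlerDifferential.mapBaseChange A B C).comp
        ((KaehlerDifferential.map Λ A B B).baseChange C) := by
    apply ext_tmul_D
    intro b
    simp
  have hω' : KaehlerDifferential.mapBaseChange A B C ω = 0 := hω
  have h1 : KaehlerDifferential.map Λ A C C (KaehlerDifferential.mapBaseChange Λ B C η') = 0 := by
    have := congrArg (fun F => F η') hcomm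
    simp only [LinearMap.comp_apply] at this
    rw [this, hη', hω']
  obtain ⟨ζ, hζ⟩ := (KaehlerDifferential.exact_mapBaseChange_map Λ A C _).mp h1
  -- the comparison map g
  let hmap : Ω[A⁄Λ] →ₗ[A] C ⊗[B] Ω[B⁄Λ] :=
    ((TensorProduct.mk B C (Ω[B⁄Λ]) 1).restrictScalars A).comp (KaehlerDifferential.map Λ Λ A B)
  let g : C ⊗[A] Ω[A⁄Λ] →ₗ[C] C ⊗[B] Ω[B⁄Λ] := hmap.liftBaseChange C
  have hg1 : (KaehlerDifferential.mapBaseChange Λ B C).comp g =
      KaehlerDifferential.mapBaseChange Λ A C := by
    apply ext_tmul_D
    intro a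
    simp [g, hmap, ← IsScalarTower.algebraMap_apply]
  have hg2 : ((KaehlerDifferential.map Λ A B B).baseChange C).comp g = 0 := by
    apply ext_tmul_D
    intro a
    simp [g, hmap]
  refine ⟨η' - g ζ, ?_, ?_⟩
  · show KaehlerDifferential.mapBaseChange Λ B C (η' - g ζ) = 0
    have := congrArg (fun F => F ζ) hg1
    simp only [LinearMap.comp_apply] at this
    rw [map_sub, this, hζ, sub_self]
  · have := congrArg (fun F => F ζ) hg2
    simp only [LinearMap.comp_apply, LinearMap.zero_apply] at this
    rw [map_sub, this, sub_zero, hη']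

end Groth.Agent.S3435
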