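import Groth.Statements.S3436
import Mathlib

set_option autoImplicit false
open CategoryTheory AlgebraicGeometry
universe u
open EGA42

namespace Groth.Agent.S3436




open TensorProduct KaehlerDifferential IsLocalRing

lemma exists_factor {R X Y Z : Type*} [CommRing R] [AddCommGroup X] [AddCommGroup Y]
    [AddCommGroup Z] [Module R X] [Module R Y] [Module R Z]
    (π : X →ₗ[R] Y) (hπ : Function.Surjective π) (F : X →ₗ[R] Z)
    (h : LinearMap.ker π ≤ LinearMap.ker F) :
    ∃ F' : Y →ₗ[R] Z, F' ∘ₗ π = F := by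
  refine ⟨(Submodule.liftQ (LinearMap.ker π) F h) ∘ₗ
    (LinearMap.quotKerEquivOfSurjective π hπ).symm.toLinearMap, ?_⟩
  ext x
  have : (LinearMap.quotKerEquivOfSurjective π hπ).symm (π x) = Submodule.Quotient.mk x := by
    rw [LinearEquiv.symm_apply_eq]; rfl
  simp [this]

section core
variable {A P : Type u} [CommRing A] [CommRing P] [Algebra A P]

/-- derivation argument: a lift `f` of the projection modulo `K·(P/L)` detects `x ∈ L`. -/
lemma core' (L K : Ideal P) (hKL : K ^ 2 ≤ L) (κ : Type u) [CommRing κ] [Algebra P κ]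
    (hκ : Function.Surjective (algebraMap P κ))
    (hκL : RingHom.ker (algebraMap P κ) * K ≤ L)
    (f : P →ₐ[A] P ⧸ L) (hfK : ∀ x ∈ K, f x = 0)
    (hf : ∀ a, f a - Ideal.Quotient.mk L a ∈ K.map (Ideal.Quotient.mk L))
    (x : P) (hx : x ∈ K)
    (hdx : (1 : κ) ⊗ₜ[P] KaehlerDifferential.D A P x = 0) : x ∈ L := by
  classical
  have hN : (K.map (Ideal.Quotient.mk L)) ^ 2 = ⊥ := by
    rw [← Ideal.map_pow, eq_bot_iff]
    calc Ideal.map (Ideal.Quotient.mk L) (K ^ 2)
        ≤ Ideal.map (Ideal.Quotient.mk L) L := Ideal.map_mono hKL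
      _ = ⊥ := Ideal.map_quotient_self L
  have he : (Ideal.Quotient.mkₐ A (K.map (Ideal.Quotient.mk L))).comp f
      = IsScalarTower.toAlgHom A P ((P ⧸ L) ⧸ K.map (Ideal.Quotient.mk L)) := by
    ext a
    show Ideal.Quotient.mk _ (f a) = Ideal.Quotient.mk _ (Ideal.Quotient.mk L a)
    rw [Ideal.Quotient.eq]
    exact hf a
  have hd : ∃ d : Derivation A P ↥(K.map (Ideal.Quotient.mk L)),
      ∀ a, ((d a : ↥(K.map (Ideal.Quotient.mk L))) : P ⧸ L) = f a - Ideal.Quotient.mk L a :=
    ⟨derivationToSquareZeroOfLift _ hN f he, fun a => rfl⟩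
  obtain ⟨d, hd⟩ := hd
  obtain ⟨β, hβ⟩ := exists_factor (Algebra.linearMap P κ) hκ
    ((LinearMap.lsmul P (Ω[P⁄A] →ₗ[P] ↥(K.map (Ideal.Quotient.mk L)))).flip
      d.liftKaehlerDifferential) (by
      intro k hk
      rw [LinearMap.mem_ker] at hk ⊢
      refine LinearMap.ext fun ω => ?_
      apply Subtype.ext
      show ((k • d.liftKaehlerDifferential ω : ↥(K.map (Ideal.Quotient.mk L))) : P ⧸ L) = 0
      rw [Submodule.coe_smul_of_tower, Algebra.smul_def]
      obtain ⟨y, hy, hyω⟩ := (Ideal.mem_map_iff_of_surjective _ Ideal.Quotient.mk_surjective).mp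
        (d.liftKaehlerDifferential ω).2
      rw [← hyω]
      show Ideal.Quotient.mk L k * Ideal.Quotient.mk L y = 0
      rw [← map_mul, Ideal.Quotient.eq_zero_iff_mem]
      exact hκL (Ideal.mul_mem_mul hk hy))
  have hβ1 : β 1 = d.liftKaehlerDifferential := by
    have := congrArg (fun f => f (1 : P)) hβ
    simp only [LinearMap.comp_apply, Algebra.linearMap_apply, map_one, LinearMap.flip_apply,
      LinearMap.lsmul_apply, one_smul] at this
    exact this
  have h3 : (TensorProduct.lift β) ((1 : κ) ⊗ₜ[P] KaehlerDifferential.D A P x) = d x := by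
    rw [TensorProduct.lift.tmul, hβ1, Derivation.liftKaehlerDifferential_comp_D]
  rw [hdx, map_zero] at h3
  have h4 := hd x
  rw [← h3, hfK x hx, zero_sub, Submodule.coe_zero] at h4
  rw [← Ideal.Quotient.eq_zero_iff_mem]
  exact neg_eq_zero.mp h4.symm

end core

section alg
variable {A P B : Type u} [CommRing A] [CommRing P] [CommRing B] [IsLocalRing P]
  [IsLocalRing B] [Algebra A P] [Algebra P B] [Algebra A B] [IsScalarTower A P B]

lemma ker_le_maximalIdeal (hsurj : Function.Surjective (algebraMap P B)) :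
    RingHom.ker (algebraMap P B) ≤ maximalIdeal P :=
  IsLocalRing.le_maximalIdeal (RingHom.ker_ne_top _)

lemma mem_maximalIdeal_of_residue_eq_zero (hsurj : Function.Surjective (algebraMap P B)) (p : P)
    (hp : algebraMap P (ResidueField B) p = 0) : p ∈ maximalIdeal P := by
  haveI := IsLocalHom.of_surjective (algebraMap P B) hsurj
  rw [← IsLocalRing.maximalIdeal_comap (algebraMap P B), Ideal.mem_comap,
    ← IsLocalRing.residue_eq_zero_iff]
  rw [IsScalarTower.algebraMap_apply P B (ResidueField B)] at hp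
  exact hp

lemma algebraMap_residue_eq_zero (hsurj : Function.Surjective (algebraMap P B)) (p : P)
    (hp : p ∈ maximalIdeal P) : algebraMap P (ResidueField B) p = 0 := by
  haveI := IsLocalHom.of_surjective (algebraMap P B) hsurj
  rw [IsScalarTower.algebraMap_apply P B (ResidueField B)]
  show IsLocalRing.residue B _ = 0
  rw [IsLocalRing.residue_eq_zero_iff]
  exact IsLocalRing.map_maximalIdeal_le (algebraMap P B) (Ideal.mem_map_of_mem _ hp)

lemma exists_lift_f (hsurj : Function.Surjective (algebraMap P B)) (𝔞 : Ideal A)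
    (h𝔞 : 𝔞.map (algebraMap A P) ≤ maximalIdeal P)
    (hfs : EGA41.IsFormallySmoothAdic A 𝔞 B (maximalIdeal B))
    (n : ℕ) (L : Ideal P) (hnL : maximalIdeal P ^ n ≤ L)
    (hKL : (RingHom.ker (algebraMap P B)) ^ 2 ≤ L) :
    ∃ f : P →ₐ[A] P ⧸ L, (∀ x ∈ RingHom.ker (algebraMap P B), f x = 0) ∧
      ∀ a, f a - Ideal.Quotient.mk L a ∈
        (RingHom.ker (algebraMap P B)).map (Ideal.Quotient.mk L) := by
  classical
  have hN : ((RingHom.ker (algebraMap P B)).map (Ideal.Quotient.mk L)) ^ 2 = ⊥ := by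
    rw [← Ideal.map_pow, eq_bot_iff]
    calc Ideal.map (Ideal.Quotient.mk L) ((RingHom.ker (algebraMap P B)) ^ 2)
        ≤ Ideal.map (Ideal.Quotient.mk L) L := Ideal.map_mono hKL
      _ = ⊥ := Ideal.map_quotient_self L
  have hg : RingHom.ker (algebraMap P B) ≤ RingHom.ker
      ((Ideal.Quotient.mk ((RingHom.ker (algebraMap P B)).map (Ideal.Quotient.mk L))).comp
        (Ideal.Quotient.mk L)) := fun x hx => by
    rw [RingHom.mem_ker]
    show Ideal.Quotient.mk _ (Ideal.Quotient.mk L x) = 0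
    exact Ideal.Quotient.eq_zero_iff_mem.mpr (Ideal.mem_map_of_mem _ hx)
  have hψ₀ : ∃ ψ₀ : B →+* (P ⧸ L) ⧸ (RingHom.ker (algebraMap P B)).map (Ideal.Quotient.mk L),
      ∀ a, ψ₀ (algebraMap P B a) = Ideal.Quotient.mk _ (Ideal.Quotient.mk L a) :=
    ⟨RingHom.liftOfSurjective (algebraMap P B) hsurj ⟨_, hg⟩,
      fun a => RingHom.liftOfRightInverse_comp_apply _ _ _ ⟨_, hg⟩ a⟩
  obtain ⟨ψ₀, hψ₀⟩ := hψ₀
  have hψ : ∃ ψ : B →ₐ[A] (P ⧸ L) ⧸ (RingHom.ker (algebraMap P B)).map (Ideal.Quotient.mk L),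
      ∀ c, ψ c = ψ₀ c := by
    refine ⟨{ ψ₀ with commutes' := ?_ }, fun c => rfl⟩
    intro r
    show ψ₀ (algebraMap A B r) = _
    rw [IsScalarTower.algebraMap_apply A P B, hψ₀]
    rfl
  obtain ⟨ψ, hψ⟩ := hψ
  have hdisc : ∃ k : ℕ, (𝔞 ^ k).map (algebraMap A (P ⧸ L)) = ⊥ := by
    refine ⟨n, ?_⟩
    rw [IsScalarTower.algebraMap_eq A P (P ⧸ L), ← Ideal.map_map, Ideal.map_pow, eq_bot_iff]
    calc Ideal.map (algebraMap P (P ⧸ L)) (Ideal.map (algebraMap A P) 𝔞 ^ n)
        ≤ Ideal.map (algebraMap P (P ⧸ L)) L :=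
          Ideal.map_mono ((Ideal.pow_right_mono h𝔞 n).trans hnL)
      _ = ⊥ := Ideal.map_quotient_self L
  have hkill : ∃ k : ℕ, ∀ y ∈ maximalIdeal B ^ k, ψ y = 0 := by
    refine ⟨n, fun y hy => ?_⟩
    rw [← IsLocalRing.map_maximalIdeal_of_surjective (algebraMap P B) hsurj, ← Ideal.map_pow] at hy
    obtain ⟨p, hp, rfl⟩ := (Ideal.mem_map_iff_of_surjective _ hsurj).mp hy
    rw [hψ, hψ₀, Ideal.Quotient.eq_zero_iff_mem.mpr (hnL hp), map_zero]
  obtain ⟨χ, hχ⟩ := hfs (P ⧸ L) _ ⟨2, hN⟩ hdisc ψ hkill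
  have hχ' : ∀ c, Ideal.Quotient.mk _ (χ c) = ψ c := fun c => congrArg (fun f => f c) hχ
  refine ⟨χ.comp (IsScalarTower.toAlgHom A P B), ?_, ?_⟩
  · intro x hx
    show χ (algebraMap P B x) = 0
    rw [RingHom.mem_ker.mp hx, map_zero]
  · intro a
    show χ (algebraMap P B a) - _ ∈ _
    rw [← Ideal.Quotient.eq, hχ', hψ, hψ₀]

/-- elements of `𝔪 K` die in `κ ⊗ K` -/
lemma tmul_eq_zero_of_mem (hsurj : Function.Surjective (algebraMap P B)) (y : P)
    (hy : y ∈ maximalIdeal P * RingHom.ker (algebraMap P B)) :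
    ∃ hyK : y ∈ RingHom.ker (algebraMap P B),
      (1 : ResidueField B) ⊗ₜ[P] (⟨y, hyK⟩ : ↥(RingHom.ker (algebraMap P B))) = 0 := by
  refine Submodule.mul_induction_on hy ?_ ?_
  · intro m hm k hk
    refine ⟨Ideal.mul_mem_left _ m hk, ?_⟩
    have h1 : (⟨m * k, Ideal.mul_mem_left _ m hk⟩ : ↥(RingHom.ker (algebraMap P B)))
        = m • ⟨k, hk⟩ := rfl
    rw [h1, ← TensorProduct.smul_tmul, ← Algebra.algebraMap_eq_smul_one,
      algebraMap_residue_eq_zero hsurj m hm, TensorProduct.zero_tmul]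
  · rintro y z ⟨hy, hy'⟩ ⟨hz, hz'⟩
    refine ⟨Ideal.add_mem _ hy hz, ?_⟩
    have h1 : (⟨y + z, Ideal.add_mem _ hy hz⟩ : ↥(RingHom.ker (algebraMap P B)))
        = ⟨y, hy⟩ + ⟨z, hz⟩ := rfl
    rw [h1, TensorProduct.tmul_add, hy', hz', add_zero]

lemma core_alg [IsNoetherianRing P] (hsurj : Function.Surjective (algebraMap P B))
    [Algebra.FormallySmooth A P] [Module.Free P Ω[P⁄A]] [Module.Finite P Ω[P⁄A]]
    (𝔞 : Ideal A) (h𝔞 : 𝔞.map (algebraMap A P) ≤ maximalIdeal P)
    (hfs : EGA41.IsFormallySmoothAdic A 𝔞 B (maximalIdeal B)) : Algebra.FormallySmooth A B := by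
  classical
  have hKfg : (RingHom.ker (algebraMap P B)).FG := IsNoetherian.noetherian _
  rw [Algebra.FormallySmooth.iff_injective_cotangentComplexBaseChange_residueField P hsurj hKfg,
    injective_iff_map_eq_zero]
  have hκsurj : Function.Surjective (algebraMap P (ResidueField B)) := by
    rw [IsScalarTower.algebraMap_eq P B (ResidueField B)]
    exact (IsLocalRing.residue_surjective).comp hsurj
  have hrep : ∀ τ : ResidueField B ⊗[P] ↥(RingHom.ker (algebraMap P B)),
      ∃ x : ↥(RingHom.ker (algebraMap P B)), τ = (1 : ResidueField B) ⊗ₜ[P] x := by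
    intro τ
    induction τ using TensorProduct.induction_on with
    | zero => exact ⟨0, (TensorProduct.tmul_zero _ _).symm⟩
    | tmul a y =>
      obtain ⟨p, rfl⟩ := hκsurj a
      refine ⟨p • y, ?_⟩
      rw [TensorProduct.tmul_smul, TensorProduct.smul_tmul', Algebra.algebraMap_eq_smul_one]
    | add a b ha hb =>
      obtain ⟨x, rfl⟩ := ha
      obtain ⟨y, rfl⟩ := hb
      exact ⟨x + y, (TensorProduct.tmul_add _ _ _).symm⟩
  intro τ hτ
  obtain ⟨x, rfl⟩ := hrep τ
  have hdx : (1 : ResidueField B) ⊗ₜ[P] KaehlerDifferential.D A P x.1 = 0 := by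
    rw [KaehlerDifferential.cotangentComplexBaseChange_tmul, one_smul] at hτ
    exact hτ
  -- Artin–Rees
  obtain ⟨c, hc⟩ := Ideal.exists_pow_inf_eq_pow_smul (maximalIdeal P)
    (RingHom.ker (algebraMap P B) : Submodule P P)
  have hAR : ∀ y ∈ maximalIdeal P ^ (c + 1), y ∈ RingHom.ker (algebraMap P B) →
      y ∈ maximalIdeal P * RingHom.ker (algebraMap P B) := by
    intro y hyI hyK
    have h1 : y ∈ (maximalIdeal P ^ (c + 1) • ⊤ ⊓ RingHom.ker (algebraMap P B) : Submodule P P) := by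
      refine ⟨?_, hyK⟩
      rw [smul_eq_mul, Ideal.mul_top]
      exact hyI
    rw [hc (c + 1) (Nat.le_add_right c 1), Nat.add_sub_cancel_left, pow_one] at h1
    have h2 : (maximalIdeal P • (maximalIdeal P ^ c • ⊤ ⊓ RingHom.ker (algebraMap P B) :
        Submodule P P) : Submodule P P) ≤ maximalIdeal P * RingHom.ker (algebraMap P B) := by
      rw [← smul_eq_mul]
      exact Submodule.smul_mono le_rfl inf_le_right
    exact h2 h1
  have hKm := ker_le_maximalIdeal (P := P) (B := B) hsurj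
  have hKL : (RingHom.ker (algebraMap P B)) ^ 2 ≤
      maximalIdeal P * RingHom.ker (algebraMap P B) ⊔ maximalIdeal P ^ (c + 1) := by
    rw [pow_two]
    exact le_trans (Ideal.mul_mono_left hKm) le_sup_left
  obtain ⟨f, hf1, hf2⟩ := exists_lift_f hsurj 𝔞 h𝔞 hfs (c + 1)
    (maximalIdeal P * RingHom.ker (algebraMap P B) ⊔ maximalIdeal P ^ (c + 1)) le_sup_right hKL
  have hκL : RingHom.ker (algebraMap P (ResidueField B)) * RingHom.ker (algebraMap P B) ≤
      maximalIdeal P * RingHom.ker (algebraMap P B) ⊔ maximalIdeal P ^ (c + 1) := by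
    refine le_trans (Ideal.mul_mono_left ?_) le_sup_left
    intro p hp
    exact mem_maximalIdeal_of_residue_eq_zero hsurj p hp
  have hxL := core' _ _ hKL (ResidueField B) hκsurj hκL f hf1 hf2 x.1 x.2 hdx
  have hxmK : x.1 ∈ maximalIdeal P * RingHom.ker (algebraMap P B) := by
    obtain ⟨y, hy, z, hz, hyz⟩ := Submodule.mem_sup.mp hxL
    have hyK : y ∈ RingHom.ker (algebraMap P B) :=
      (Ideal.mul_le_right (I := maximalIdeal P) (J := RingHom.ker (algebraMap P B))) hy
    have hzK : z ∈ RingHom.ker (algebraMap P B) := by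
      have h5 : z = x.1 - y := by rw [← hyz]; ring
      rw [h5]
      exact Ideal.sub_mem (RingHom.ker (algebraMap P B)) x.2 hyK
    rw [← hyz]
    exact Ideal.add_mem _ hy (hAR z hz hzK)
  obtain ⟨_, h⟩ := tmul_eq_zero_of_mem hsurj x.1 hxmK
  exact h

end alg




section construct
variable (A : Type u) {B : Type u} [CommRing A] [CommRing B] [IsLocalRing B] [Algebra A B]
  (σ : Finset B)

/-- the evaluation map -/
noncomputable def phi : MvPolynomial (↥(σ : Set B)) A →ₐ[A] B :=
  MvPolynomial.aeval ((↑) : ↥(σ : Set B) → B)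

/-- the prime -/
noncomputable def pp : Ideal (MvPolynomial (↥(σ : Set B)) A) := (maximalIdeal B).comap (phi A σ).toRingHom

instance : (pp A σ).IsPrime := Ideal.comap_isPrime _ _

/-- the local ring -/
abbrev PP : Type u := Localization.AtPrime (pp A σ)

lemma phi_unit (y : (pp A σ).primeCompl) : IsUnit (phi A σ y) := by
  have h := y.2
  by_contra hu
  apply h
  show (phi A σ).toRingHom y.1 ∈ maximalIdeal B
  exact (IsLocalRing.mem_maximalIdeal _).mpr hu

/-- the presentation map -/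
noncomputable def pi : PP A σ →ₐ[A] B :=
  IsLocalization.liftAlgHom (M := (pp A σ).primeCompl) (f := phi A σ) (phi_unit A σ)

lemma pi_surjective
    (hσ : ∀ s : B, ∃ t ∈ Algebra.adjoin A (σ : Set B), IsUnit t ∧ s * t ∈ Algebra.adjoin A (σ : Set B)) :
    Function.Surjective (pi A σ) := by
  intro s
  obtain ⟨t, ht, htu, hst⟩ := hσ s
  rw [Algebra.adjoin_eq_range] at ht hst
  obtain ⟨g, hg⟩ := ht
  obtain ⟨f, hf⟩ := hst
  have hgp : g ∈ (pp A σ).primeCompl := by
    intro hmem
    have h1 : (phi A σ) g ∈ maximalIdeal B := hmem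
    have h2 : (phi A σ) g = t := hg
    rw [h2] at h1
    exact (IsLocalRing.mem_maximalIdeal _).mp h1 htu
  refine ⟨IsLocalization.mk' (PP A σ) f ⟨g, hgp⟩, ?_⟩
  show IsLocalization.lift (phi_unit A σ) (IsLocalization.mk' (PP A σ) f ⟨g, hgp⟩) = s
  rw [IsLocalization.lift_mk'_spec]
  show (phi A σ) f = (phi A σ) g * s
  have h2 : (phi A σ) g = t := hg
  have h3 : (phi A σ) f = s * t := hf
  rw [h2, h3, mul_comm]

end construct


section main
variable {A B : Type u} [CommRing A] [CommRing B] [IsNoetherianRing A] [IsLocalRing B] [Algebra A B]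

theorem alg_main [Algebra.EssFiniteType A B] (𝔞 : Ideal A)
    (h𝔞B : 𝔞.map (algebraMap A B) ≤ maximalIdeal B)
    (hfs : EGA41.IsFormallySmoothAdic A 𝔞 B (maximalIdeal B)) : Algebra.FormallySmooth A B := by
  classical
  obtain ⟨σ, hσ⟩ := (Algebra.essFiniteType_iff (R := A) (S := B)).mp inferInstance
  letI : Algebra (PP A σ) B := (pi A σ).toRingHom.toAlgebra
  haveI : IsScalarTower A (PP A σ) B :=
    IsScalarTower.of_algebraMap_eq (fun a => ((pi A σ).commutes a).symm)
  have hsurj : Function.Surjective (algebraMap (PP A σ) B) := pi_surjective A σ hσ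
  haveI : IsNoetherianRing (PP A σ) :=
    IsLocalization.isNoetherianRing (pp A σ).primeCompl (PP A σ) inferInstance
  haveI : Algebra.FormallySmooth (MvPolynomial (↥(σ : Set B)) A) (PP A σ) :=
    Algebra.FormallySmooth.of_isLocalization (pp A σ).primeCompl
  haveI : Algebra.FormallySmooth A (PP A σ) :=
    Algebra.FormallySmooth.comp A (MvPolynomial (↥(σ : Set B)) A) (PP A σ)
  haveI : Algebra.EssFiniteType (MvPolynomial (↥(σ : Set B)) A) (PP A σ) :=
    Algebra.EssFiniteType.of_isLocalization (PP A σ) (pp A σ).primeCompl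
  haveI : Algebra.EssFiniteType A (PP A σ) :=
    Algebra.EssFiniteType.comp A (MvPolynomial (↥(σ : Set B)) A) (PP A σ)
  haveI : Module.Free (PP A σ) Ω[PP A σ⁄A] := Module.free_of_flat_of_isLocalRing
  refine core_alg (P := PP A σ) hsurj 𝔞 ?_ hfs
  haveI := IsLocalHom.of_surjective (algebraMap (PP A σ) B) hsurj
  rw [Ideal.map_le_iff_le_comap]
  intro a ha
  rw [Ideal.mem_comap, ← IsLocalRing.maximalIdeal_comap (algebraMap (PP A σ) B), Ideal.mem_comap,
    ← IsScalarTower.algebraMap_apply A (PP A σ) B]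
  exact h𝔞B (Ideal.mem_map_of_mem _ ha)

theorem alg_converse (𝔞 : Ideal A) (𝔟 : Ideal B) (h : Algebra.FormallySmooth A B) :
    EGA41.IsFormallySmoothAdic A 𝔞 B 𝔟 := by
  intro C _ _ J hJ _ u _
  exact Algebra.FormallySmooth.exists_lift J hJ u

end main

/-- Let X and Y be locally Noetherian schemes, f : X ⟶ Y locally of finite type, x a point of X and y =
f x; give O_{X,x} the O_{Y,y}-algebra structure coming from f. Then O_{X,x} is formally smooth over
O_{Y,y} for the adic topologies of the two local rings (topologies defined by the maximal ideals) if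
and only if it is formally smooth for the discrete topologies. -/
theorem result {X Y : Scheme.{u}} [IsLocallyNoetherian X] [IsLocallyNoetherian Y]
    (f : X ⟶ Y) [LocallyOfFiniteType f] (x : X) :
    letI : Algebra (Y.presheaf.stalk (f.base x)) (X.presheaf.stalk x) := (f.stalkMap x).hom.toAlgebra
    EGA41.IsFormallySmoothAdic (Y.presheaf.stalk (f.base x)) (IsLocalRing.maximalIdeal (Y.presheaf.stalk (f.base x)))
        (X.presheaf.stalk x) (IsLocalRing.maximalIdeal (X.presheaf.stalk x)) ↔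
      Algebra.FormallySmooth (Y.presheaf.stalk (f.base x)) (X.presheaf.stalk x) := by
  letI : Algebra (Y.presheaf.stalk (f.base x)) (X.presheaf.stalk x) := (f.stalkMap x).hom.toAlgebra
  haveI : Algebra.EssFiniteType (Y.presheaf.stalk (f.base x)) (X.presheaf.stalk x) :=
    LocallyOfFiniteType.stalkMap f x
  haveI : IsLocalHom (algebraMap (Y.presheaf.stalk (f.base x)) (X.presheaf.stalk x)) :=
    inferInstanceAs (IsLocalHom (f.stalkMap x).hom)
  constructor
  · intro h
    exact alg_main (IsLocalRing.maximalIdeal _)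
      (IsLocalRing.map_maximalIdeal_le (algebraMap (Y.presheaf.stalk (f.base x)) (X.presheaf.stalk x))) h
  · exact alg_converse _ _

end Groth.Agent.S3436
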