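import Groth.Statements.S3438
import Mathlib
import Groth.Agent.Lib.Helper3.EquidimCore

set_option autoImplicit false
open CategoryTheory AlgebraicGeometry
universe u
open EGA43

namespace Groth.Agent.S3438

/-- Let Y be locally Noetherian, f : X ⟶ Y locally of finite type, x a point of X with y = f x, and
suppose O_{Y,y} is equidimensional and universally catenary. If f is equidimensional at x, then dim
O_{X,x} = dim O_{Y,y} + dim O_{X_y,x}. (That O_{X,x} is then also equidimensional is a separate
result, not asserted here.) -/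
theorem result {X Y : Scheme.{u}} [IsLocallyNoetherian Y] (f : X ⟶ Y)
    [LocallyOfFiniteType f] (x : X) (hY : EGA4.IsEquidim (Y.presheaf.stalk (f.base x)))
    (hcat : CAlg.IsUniversallyCatenary (Y.presheaf.stalk (f.base x))) (h : EGA43.IsEquidimAt f x) :
    ringKrullDim (X.presheaf.stalk x) =
        ringKrullDim (Y.presheaf.stalk (f.base x)) + ringKrullDim ((f.fiber (f.base x)).presheaf.stalk (f.asFiber x)) := by
  haveI hXN : IsLocallyNoetherian X := LocallyOfFiniteType.isLocallyNoetherian f
  obtain ⟨e, n, he, hn, H⟩ := Groth.Agent.Lib.helper3.EquidimAt.equidim_core f x h hcat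
  obtain ⟨𝔭, h𝔭, hdim⟩ := Groth.Agent.Lib.helper3.EquidimAt.exists_minimalPrimes_stalk_dim_eq x
  obtain ⟨a, b, ha, hb, hab, hminY⟩ := H 𝔭 h𝔭
  obtain ⟨n', b0, hn', hb0, hfd⟩ := Groth.Agent.Lib.helper3.DimFibre.fibreDimAt_eq_add f x
  have hnn : n' = n := by
    have := hn'.symm.trans hn
    exact_mod_cast this
  have hee : n' + b0 = e := by
    have := hfd.symm.trans he
    exact_mod_cast this
  rw [← hdim, ha, ← hY _ hminY, hb, hb0]
  have : a = b + b0 := by omega
  exact_mod_cast this

end Groth.Agent.S3438
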