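import Groth.Statements.S3448
import Mathlib
import Groth.Agent.S0402
import Groth.Agent.Lib.Helper3.DimBetweenSch
import Groth.Agent.Lib.Helper3.DimFibreMin
import Groth.Agent.Lib.Helper3.FibreDimNat
import Groth.Agent.Lib.Helper3.FibreGeneric
import Groth.Agent.Lib.Helper3.DimIneqStrict
import Groth.Agent.Lib.Helper3.DimFun
import Groth.Agent.Lib.Helper17.FibreDim

set_option autoImplicit false
open CategoryTheory AlgebraicGeometry
universe u
open EGA43

namespace Groth.Agent.S3448
open AlgebraicGeometry CategoryTheory Groth.Agent.Lib.helper3.DimIneq Groth.Agent.Lib.helper3.FTField Groth.Agent.Lib.helper3.DimFibre Groth.Agent.Lib.helper3.FibreField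

/-- Let Y be locally Noetherian, f : X ⟶ Y of finite type, x a point of X with y = f x, and suppose
O_{Y,y} is universally catenary. Then dim O_{X,x} = dim O_{Y,y} + dim O_{X_y,x} if and only if there
is a point z of the fibre over y which is a generization of x, is maximal in the fibre (the generic
point of an irreducible component Z of X_y containing x), has local fibre dimension at z equal to
that at x (dim Z = dim_x X_y), and satisfies dim O_{X,z} = dim O_{Y,y}. -/
theorem result {X Y : Scheme.{u}} [IsLocallyNoetherian Y]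
    (f : X ⟶ Y) [LocallyOfFiniteType f] [QuasiCompact f] (x : X)
    (hcat : CAlg.IsUniversallyCatenary (Y.presheaf.stalk (f.base x))) :
    ringKrullDim (X.presheaf.stalk x) =
        ringKrullDim (Y.presheaf.stalk (f.base x)) + ringKrullDim ((f.fiber (f.base x)).presheaf.stalk (f.asFiber x)) ↔
      ∃ z : X, f.base z = f.base x ∧ z ⤳ x ∧ (∀ z' : X, f.base z' = f.base x → z' ⤳ z → z' = z) ∧
        FlatMor.fibreDimAt f z = FlatMor.fibreDimAt f x ∧
        ringKrullDim (X.presheaf.stalk z) = ringKrullDim (Y.presheaf.stalk (f.base z)) := by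
  classical
  haveI hXN : IsLocallyNoetherian X := LocallyOfFiniteType.isLocallyNoetherian f
  obtain ⟨U0, hU0, hyU0, -⟩ := exists_isAffineOpen_mem_and_subset (x := f.base x) (U := ⊤) trivial
  obtain ⟨V, hV, hxV, e⟩ := exists_isAffineOpen_mem_and_subset (x := x) (U := f ⁻¹ᵁ U0) hyU0
  haveI : IsNoetherianRing Γ(Y, U0) := IsLocallyNoetherian.component_noetherian ⟨U0, hU0⟩
  haveI : IsNoetherianRing Γ(X, V) := IsLocallyNoetherian.component_noetherian ⟨V, hV⟩
  have hφ : (f.appLE U0 V e).hom.FiniteType := LocallyOfFiniteType.finiteType_appLE f hU0 hV e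
  have hI : ∀ (w : X) (hw : w ∈ V), (hV.primeIdealOf ⟨w, hw⟩).asIdeal.comap (f.appLE U0 V e).hom =
      (hU0.primeIdealOf ⟨f.base w, e hw⟩).asIdeal := by
    intro w hw
    have := IsAffineOpen.comap_primeIdealOf_appLE (f := f) (x := w) U0 hU0 V hV e hw
    exact congrArg PrimeSpectrum.asIdeal this
  obtain ⟨ax, bx, hax, hbx, hfdx⟩ := fibreDimAt_eq_add f x
  obtain ⟨P, hP⟩ := ENat.ne_top_iff_exists.mp
    (Ideal.height_ne_top_of_isPrime (I := (hU0.primeIdealOf ⟨f.base x, hyU0⟩).asIdeal))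
  obtain ⟨Hq, hHq⟩ := ENat.ne_top_iff_exists.mp
    (Ideal.height_ne_top_of_isPrime (I := (hV.primeIdealOf ⟨x, hxV⟩).asIdeal))
  have hdimY : ringKrullDim (Y.presheaf.stalk (f.base x)) = (P : WithBot ℕ∞) := by
    rw [ringKrullDim_stalk_eq_height hU0 _ hyU0, ← hP]; rfl
  have hdimX : ringKrullDim (X.presheaf.stalk x) = (Hq : WithBot ℕ∞) := by
    rw [ringKrullDim_stalk_eq_height hV x hxV, ← hHq]; rfl
  -- upper semicontinuity
  have usc : ∀ w : X, w ⤳ x → ∀ a b : ℕ, FlatMor.fibreDimAt f w = ((a + b : ℕ) : WithBot ℕ∞) →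
      a + b ≤ ax + bx := by
    intro w hw a b hab
    have hopen := Groth.Agent.S0402.result f (ax + bx)
    have hx' : x ∈ {x : X | FlatMor.fibreDimAt f x ≤ ((ax + bx : ℕ) : WithBot ℕ∞)} := by
      rw [Set.mem_ofPred_eq, hfdx]
    have hw' := hw.mem_open hopen hx'
    rw [Set.mem_ofPred_eq, hab] at hw'
    exact_mod_cast hw'
  have hstalk_le := Groth.Agent.Lib.helper17.FibreDim.dim_stalk_le f x
  rw [hdimX, hdimY, hbx] at hstalk_le
  have hstalk_le' : Hq ≤ P + bx := by exact_mod_cast hstalk_le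
  rw [hdimX, hdimY, hbx]
  constructor
  · -- (⇒)
    intro hdim
    have hHq' : Hq = P + bx := by exact_mod_cast hdim
    obtain ⟨q0, hq0, hq0q, hge⟩ :=
      exists_minimalPrimes_height_map_ge (hV.primeIdealOf ⟨x, hxV⟩).asIdeal
    haveI : q0.IsPrime := hq0.1.1
    obtain ⟨ξ, hξV, hξq⟩ := exists_point_of_prime hV q0
    subst hξq
    have hspξ : ξ ⤳ x := (specializes_iff_primeIdealOf_le hV ξ x hξV hxV).mpr hq0q
    obtain ⟨aξ, bξ, haξ, hbξ, hfdξ⟩ := fibreDimAt_eq_add f ξ
    have formula1 := dimension_formula_specializes f hU0 hV e ξ x hξV hxV hq0q hcat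
    rw [hax, haξ] at formula1
    have hp0p : (hU0.primeIdealOf ⟨f.base ξ, e hξV⟩).asIdeal ≤
        (hU0.primeIdealOf ⟨f.base x, hyU0⟩).asIdeal :=
      (specializes_iff_primeIdealOf_le hU0 _ _ (e hξV) hyU0).mp (hspξ.map f.continuous)
    haveI := map_mk_isPrime _ _ hp0p
    haveI := map_mk_isPrime _ _ hq0q
    obtain ⟨k1, hk1⟩ := ENat.ne_top_iff_exists.mp
      (Ideal.height_ne_top_of_isPrime (I := (hU0.primeIdealOf ⟨f.base x, hyU0⟩).asIdeal.map
        (Ideal.Quotient.mk (hU0.primeIdealOf ⟨f.base ξ, e hξV⟩).asIdeal)))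
    obtain ⟨h1, hh1⟩ := ENat.ne_top_iff_exists.mp
      (Ideal.height_ne_top_of_isPrime (I := (hV.primeIdealOf ⟨x, hxV⟩).asIdeal.map
        (Ideal.Quotient.mk (hV.primeIdealOf ⟨ξ, hξV⟩).asIdeal)))
    have hf1 : h1 + ax = k1 + aξ := by
      rw [← hh1, ← hk1] at formula1
      have : ((h1 + ax : ℕ) : Cardinal.{u}) = ((k1 + aξ : ℕ) : Cardinal.{u}) := by
        push_cast
        exact_mod_cast formula1
      exact_mod_cast this
    have hk1P : k1 ≤ P := by
      have := Groth.Agent.Lib.helper3.DimIneq.height_map_le _ _ hp0p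
      rw [← hk1, ← hP] at this
      exact_mod_cast this
    have hHqh1 : Hq ≤ h1 := by
      rw [← hh1, ← hHq] at hge
      exact_mod_cast hge
    have huscξ := usc ξ hspξ aξ bξ hfdξ
    have hEδ : aξ = ax + bx := by omega
    have hk1P' : k1 = P := by omega
    -- the point `z`
    have hIq : (hV.primeIdealOf ⟨ξ, hξV⟩).asIdeal ⊔
        (hU0.primeIdealOf ⟨f.base x, hyU0⟩).asIdeal.map (f.appLE U0 V e).hom ≤
        (hV.primeIdealOf ⟨x, hxV⟩).asIdeal := by
      refine sup_le hq0q ?_
      rw [Ideal.map_le_iff_le_comap, hI x hxV]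
    obtain ⟨qz, hqzmin, hqzq⟩ := Ideal.exists_minimalPrimes_le hIq
    haveI : qz.IsPrime := hqzmin.1.1
    obtain ⟨z, hzV, hzq⟩ := exists_point_of_prime hV qz
    subst hzq
    have hξz : (hV.primeIdealOf ⟨ξ, hξV⟩).asIdeal ≤ (hV.primeIdealOf ⟨z, hzV⟩).asIdeal :=
      le_sup_left.trans hqzmin.1.2
    have hspz : z ⤳ x := (specializes_iff_primeIdealOf_le hV z x hzV hxV).mpr hqzq
    have hzc : (hV.primeIdealOf ⟨z, hzV⟩).asIdeal.comap (f.appLE U0 V e).hom =
        (hU0.primeIdealOf ⟨f.base x, hyU0⟩).asIdeal := by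
      apply le_antisymm
      · rw [← hI x hxV]
        exact Ideal.comap_mono hqzq
      · rw [← Ideal.map_le_iff_le_comap]
        exact le_sup_right.trans hqzmin.1.2
    have hfz : f.base z = f.base x := by
      apply eq_of_primeIdealOf_eq hU0 (f.base z) (f.base x) (e hzV) hyU0
      rw [← hI z hzV, hzc]
    have hpz : (hU0.primeIdealOf ⟨f.base z, e hzV⟩).asIdeal =
        (hU0.primeIdealOf ⟨f.base x, hyU0⟩).asIdeal := by
      rw [← hI z hzV, hzc]
    have hle5 := height_map_le_of_mem_minimalPrimes (f.appLE U0 V e).hom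
      (hV.primeIdealOf ⟨ξ, hξV⟩).asIdeal (hV.primeIdealOf ⟨z, hzV⟩).asIdeal
      (hU0.primeIdealOf ⟨f.base x, hyU0⟩).asIdeal hqzmin hzc
    rw [height_map_congr (hI ξ hξV) rfl] at hle5
    have hcatz : CAlg.IsUniversallyCatenary (Y.presheaf.stalk (f.base z)) := by
      rw [hfz]; exact hcat
    obtain ⟨az, bz, haz, hbz, hfdz⟩ := fibreDimAt_eq_add f z
    have formula2 := dimension_formula_specializes f hU0 hV e ξ z hξV hzV hξz hcatz
    rw [haz, haξ, height_map_congr rfl hpz] at formula2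
    haveI := map_mk_isPrime _ _ hξz
    obtain ⟨h2, hh2⟩ := ENat.ne_top_iff_exists.mp
      (Ideal.height_ne_top_of_isPrime (I := (hV.primeIdealOf ⟨z, hzV⟩).asIdeal.map
        (Ideal.Quotient.mk (hV.primeIdealOf ⟨ξ, hξV⟩).asIdeal)))
    have hf2 : h2 + az = k1 + aξ := by
      rw [← hh2, ← hk1] at formula2
      have : ((h2 + az : ℕ) : Cardinal.{u}) = ((k1 + aξ : ℕ) : Cardinal.{u}) := by
        push_cast
        exact_mod_cast formula2
      exact_mod_cast this
    have hh2k1 : h2 ≤ k1 := by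
      rw [← hh2, ← hk1] at hle5
      exact_mod_cast hle5
    have huscz := usc z hspz az bz hfdz
    have haz' : az = ax + bx := by omega
    have hbz' : bz = 0 := by omega
    have hh2P : h2 = P := by omega
    refine ⟨z, hfz, hspz, ?_, ?_, ?_⟩
    · -- maximality of `z` in its fibre
      intro z' hfz' hsp'
      by_contra hne
      have hz'V : z' ∈ V := hsp'.mem_open V.isOpen hzV
      have hle' : (hV.primeIdealOf ⟨z', hz'V⟩).asIdeal ≤ (hV.primeIdealOf ⟨z, hzV⟩).asIdeal :=
        (specializes_iff_primeIdealOf_le hV z' z hz'V hzV).mp hsp'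
      have hlt : (hV.primeIdealOf ⟨z', hz'V⟩).asIdeal < (hV.primeIdealOf ⟨z, hzV⟩).asIdeal := by
        refine lt_of_le_of_ne hle' (fun heq => hne ?_)
        exact eq_of_primeIdealOf_eq hV z' z hz'V hzV heq
      have hc : (hV.primeIdealOf ⟨z', hz'V⟩).asIdeal.comap (f.appLE U0 V e).hom =
          (hV.primeIdealOf ⟨z, hzV⟩).asIdeal.comap (f.appLE U0 V e).hom := by
        rw [hI z' hz'V, hI z hzV]
        exact congrArg (fun w : U0 => (hU0.primeIdealOf w).asIdeal)
          (Subtype.ext (hfz'.trans hfz.symm))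
      have hlt' := td_quotientMap_lt (f.appLE U0 V e).hom hφ _ _ hlt hc
      rw [td_quotientMap_eq f hU0 hV e z hzV, td_quotientMap_eq f hU0 hV e z' hz'V, haz] at hlt'
      obtain ⟨a', b', ha', hb', hfd'⟩ := fibreDimAt_eq_add f z'
      have husc' := usc z' (hsp'.trans hspz) a' b' hfd'
      rw [ha'] at hlt'
      have : az < a' := by exact_mod_cast hlt'
      omega
    · rw [hfdz, hfdx]
      have : az + bz = ax + bx := by omega
      rw [this]
    · apply le_antisymm
      · have := Groth.Agent.Lib.helper17.FibreDim.dim_stalk_le f z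
        rw [hbz, hbz'] at this
        simpa using this
      · rw [ringKrullDim_stalk_eq_height hV z hzV, ringKrullDim_stalk_eq_height hU0 (f.base z) (e hzV),
          hpz, ← hP]
        have := Groth.Agent.Lib.helper3.DimIneq.height_map_le _ _ hξz
        rw [← hh2, hh2P] at this
        exact_mod_cast this
  · -- (⇐)
    rintro ⟨z, hfz, hspz, hmax, hfd, hdimz⟩
    have hzV : z ∈ V := hspz.mem_open V.isOpen hxV
    have hle : (hV.primeIdealOf ⟨z, hzV⟩).asIdeal ≤ (hV.primeIdealOf ⟨x, hxV⟩).asIdeal :=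
      (specializes_iff_primeIdealOf_le hV z x hzV hxV).mp hspz
    have hpz : (hU0.primeIdealOf ⟨f.base z, e hzV⟩).asIdeal =
        (hU0.primeIdealOf ⟨f.base x, hyU0⟩).asIdeal :=
      congrArg (fun w : U0 => (hU0.primeIdealOf w).asIdeal) (Subtype.ext hfz)
    have hbz0 := Groth.Agent.Lib.helper3.RelDim.fibre_stalk_dim_eq_zero f z
      (fun x' hsp' hf' => hmax x' (hf'.trans hfz) hsp')
    obtain ⟨az, bz, haz, hbz, hfdz⟩ := fibreDimAt_eq_add f z
    have hbz' : bz = 0 := by
      rw [hbz] at hbz0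
      exact_mod_cast hbz0
    have hfd' : az + bz = ax + bx := by
      rw [hfdz, hfdx] at hfd
      exact_mod_cast hfd
    have formula := dimension_formula_specializes f hU0 hV e z x hzV hxV hle hcat
    rw [hax, haz, height_map_congr hpz rfl] at formula
    haveI := map_mk_isPrime _ _ hle
    obtain ⟨h3, hh3⟩ := ENat.ne_top_iff_exists.mp
      (Ideal.height_ne_top_of_isPrime (I := (hV.primeIdealOf ⟨x, hxV⟩).asIdeal.map
        (Ideal.Quotient.mk (hV.primeIdealOf ⟨z, hzV⟩).asIdeal)))
    have hzero : ((hU0.primeIdealOf ⟨f.base x, hyU0⟩).asIdeal.map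
        (Ideal.Quotient.mk (hU0.primeIdealOf ⟨f.base x, hyU0⟩).asIdeal)).height = 0 := by
      rw [Ideal.map_quotient_self]
      haveI : Nontrivial (Γ(Y, U0) ⧸ (hU0.primeIdealOf ⟨f.base x, hyU0⟩).asIdeal) :=
        Ideal.Quotient.nontrivial_iff.mpr (Ideal.IsPrime.ne_top inferInstance)
      exact Ideal.height_bot
    have hf3 : h3 + ax = az := by
      rw [← hh3, hzero] at formula
      have : ((h3 + ax : ℕ) : Cardinal.{u}) = ((az : ℕ) : Cardinal.{u}) := by
        push_cast
        simpa using formula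
      exact_mod_cast this
    have hsum := height_add_height_map_le _ _ hle h3 hh3.symm
    rw [ringKrullDim_stalk_eq_height hV z hzV, ringKrullDim_stalk_eq_height hU0 (f.base z) (e hzV),
      hpz, ← hP] at hdimz
    have hqzP : (hV.primeIdealOf ⟨z, hzV⟩).asIdeal.height = (P : ℕ∞) := by exact_mod_cast hdimz
    rw [hqzP, ← hHq] at hsum
    have hsum' : P + h3 ≤ Hq := by exact_mod_cast hsum
    have : Hq = P + bx := by omega
    exact_mod_cast this

end Groth.Agent.S3448
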