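import Groth.Statements.S3888
import Groth.Agent.Lib.Helper1.ClosedDense
import Groth.Agent.S0651

set_option autoImplicit false
open CategoryTheory CategoryTheory.Limits AlgebraicGeometry Opposite
universe u
open EtDesc

namespace Groth.Agent.S3888

open Groth.Agent.H1.ClosedDense

/-- the adjunction `j^{-1} ⊣ j_*` with `j^{-1}` restriction, for sheaves of sets -/
noncomputable def adj3Sh {U X : Scheme.{u}} (j : U ⟶ X) [AlgebraicGeometry.Etale j]
    [EtShriek.JCont j] :
    (EtShriek.compEtale j).sheafPushforwardContinuous (Type (u + 1)) U.smallEtaleTopology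
      X.smallEtaleTopology ⊣ EtDesc.pushSh j :=
  (Groth.Agent.S0651.adj0 j).sheafPushforwardContinuous (E := Type (u + 1)) U.smallEtaleTopology
    X.smallEtaleTopology

theorem isIso_adj3Sh_counit {U X : Scheme.{u}} (j : U ⟶ X) [AlgebraicGeometry.Etale j] [Mono j]
    [EtShriek.JCont j] : IsIso (adj3Sh j).counit := by
  have h : ∀ P, IsIso ((adj3Sh j).counit.app P) := by
    intro P
    have h2 : IsIso ((sheafToPresheaf _ _).map ((adj3Sh j).counit.app P)) := by
      have h3 : ∀ V, IsIso (((sheafToPresheaf _ _).map ((adj3Sh j).counit.app P)).app V) := by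
        intro V
        change IsIso ((((Groth.Agent.S0651.adj0 j).op.whiskerLeft _).counit.app P.obj).app V)
        rw [Adjunction.whiskerLeft_counit_app_app]
        have : IsIso ((Groth.Agent.S0651.adj0 j).op.counit.app V) := by
          change IsIso ((Groth.Agent.S0651.adj0 j).unit.app V.unop).op
          have := Groth.Agent.S0651.isIso_adj0_unit j V.unop
          infer_instance
        infer_instance
      exact NatIso.isIso_of_isIso_app _
    exact isIso_of_reflects_iso _ (sheafToPresheaf _ _)
  exact NatIso.isIso_of_isIso_app _

/-- direct image of sheaves of sets along an open immersion is fully faithful -/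
noncomputable def pushShFullyFaithfulOfOpen {U X : Scheme.{u}} (j : U ⟶ X) [IsOpenImmersion j] :
    (EtDesc.pushSh j).FullyFaithful := by
  have := isIso_adj3Sh_counit j
  exact (adj3Sh j).fullyFaithfulROfIsIsoCounit

/-- direct image of sheaves of sets along a closed immersion is fully faithful -/
noncomputable def pushShFullyFaithfulOfClosed {Z X : Scheme.{u}} (i : Z ⟶ X) [IsClosedImmersion i] :
    (EtDesc.pushSh i).FullyFaithful := by
  have : (EtDesc.pushSh i).Full :=
    Functor.IsCoverDense.full_sheafPushforwardContinuous (G := EtCoh.bc i)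
      (J := X.smallEtaleTopology) (K := Z.smallEtaleTopology) (A := Type (u + 1))
  have : (EtDesc.pushSh i).Faithful :=
    Functor.IsCoverDense.faithful_sheafPushforwardContinuous (G := EtCoh.bc i)
      (J := X.smallEtaleTopology) (K := Z.smallEtaleTopology) (A := Type (u + 1))
  exact Functor.FullyFaithful.ofFullyFaithful _

theorem main {X Y : Scheme.{u}} (f : X ⟶ Y) [IsImmersion f] (F : EtDesc.Sh X) :
    IsIso ((EtDesc.adjSh f).counit.app F) := by
  let i := f.liftCoborder
  let j := f.coborderRange.ι
  have hf : i ≫ j = f := f.liftCoborder_ι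
  have h1 : (EtDesc.pushSh i ⋙ EtDesc.pushSh j).FullyFaithful :=
    (pushShFullyFaithfulOfClosed i).comp (pushShFullyFaithfulOfOpen j)
  have h2 : (EtDesc.pushSh (i ≫ j)).FullyFaithful :=
    h1.ofIso (EtDesc.pushCompSh j i)
  have h3 : (EtDesc.pushSh f).FullyFaithful := hf ▸ h2
  have := h3.full
  have := h3.faithful
  infer_instance

/-- Let f : X -> Y be an immersion of schemes. Then for every sheaf of sets F on the small etale site of
X the counit f^* f_* F -> F of the adjunction between inverse and direct image is an isomorphism. -/
theorem result {X Y : Scheme.{u}} (f : X ⟶ Y) [IsImmersion f] (F : EtDesc.Sh X) :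
    IsIso ((EtDesc.adjSh f).counit.app F) := by
  exact main f F

end Groth.Agent.S3888
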