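import Groth.Statements.S3883
import Groth.Agent.S3047
import Groth.Agent.S3888
import Groth.Agent.S0654

set_option autoImplicit false
open CategoryTheory CategoryTheory.Limits AlgebraicGeometry Opposite
universe u
open EtDesc

namespace Groth.Agent.S3883

open Groth.Agent.H1.EtStalk Groth.Agent.H1.EtGerm Groth.Agent.H1.EtStalkPull
open Groth.Agent.H1.EtStalkFam Groth.Agent.H1.PullShExact Groth.Agent.H1.ClosedDense

/-- sections of a sheaf of sets over an empty etale scheme form a singleton -/
theorem unique_of_isEmpty {X : Scheme.{u}} (F : EtDesc.Sh X) (E : X.Etale) [IsEmpty E.left] :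
    Nonempty (Unique (F.obj.obj (op E))) := by
  have hcov : (⊥ : Sieve E) ∈ X.smallEtaleTopology E := by
    apply mem_smallEtaleTopology
    intro x
    exact (IsEmpty.false x).elim
  have hsh : Presieve.IsSheafFor F.obj (⊥ : Sieve E).arrows :=
    ((isSheaf_iff_isSheaf_of_type _ _).1 F.property) _ hcov
  let x : Presieve.FamilyOfElements F.obj (⊥ : Sieve E).arrows := fun _ _ h => h.elim
  have hx : x.Compatible := fun _ _ _ _ _ _ _ h => h.elim
  obtain ⟨t, -, ht⟩ := hsh x hx
  exact ⟨⟨⟨t⟩, fun y => ht y (fun _ _ h => h.elim)⟩⟩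

/-- a sheaf of sets all of whose sections are singletons is terminal -/
noncomputable def isTerminalOfUnique {X : Scheme.{u}} (T : EtDesc.Sh X)
    (h : ∀ V : X.Etale, Nonempty (Unique (T.obj.obj (op V)))) : IsTerminal T := by
  have hu : ∀ V : X.Etale, Unique (T.obj.obj (op V)) := fun V => (h V).some
  have hs : ∀ V : X.Etaleᵒᵖ, Subsingleton (T.obj.obj V) := fun V =>
    (hu V.unop).instSubsingleton
  refine IsTerminal.ofUniqueHom (fun F => ⟨{ app := (fun V => ↾(fun _ => (hu V.unop).default)),
                                              naturality := (by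
    intro V W g
    ext x
    have := hs W
    exact Subsingleton.elim _ _) }⟩) ?_
  · intro F m
    apply Sheaf.hom_ext
    ext V x
    have := hs V
    exact Subsingleton.elim _ _


/-- restriction is inverse image, for sheaves of sets and an etale morphism -/
noncomputable def restrIsoPullSh {U X : Scheme.{u}} (j : U ⟶ X) [AlgebraicGeometry.Etale j]
    [EtShriek.JCont j] :
    (EtShriek.compEtale j).sheafPushforwardContinuous (Type (u + 1)) U.smallEtaleTopology
      X.smallEtaleTopology ≅ EtDesc.pullSh j :=
  (Groth.Agent.S3888.adj3Sh j).leftAdjointUniq (EtDesc.adjSh j)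

/-- `j^* i_* G` is terminal when `j` and `i` have disjoint images -/
noncomputable def isTerminalPullPush {Y X U : Scheme.{u}} (i : Y ⟶ X) (j : U ⟶ X)
    [AlgebraicGeometry.Etale j] [EtShriek.JCont j]
    (hd : Disjoint (Set.range j.base) (Set.range i.base)) (G : EtDesc.Sh Y) :
    IsTerminal ((EtDesc.pullSh j).obj ((EtDesc.pushSh i).obj G)) := by
  refine IsTerminal.ofIso (isTerminalOfUnique
    (((EtShriek.compEtale j).sheafPushforwardContinuous (Type (u + 1)) U.smallEtaleTopology
      X.smallEtaleTopology).obj ((EtDesc.pushSh i).obj G)) ?_) ((restrIsoPullSh j).app _)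
  intro V
  have : IsEmpty ((EtCoh.bc i).obj ((EtShriek.compEtale j).obj V)).left := by
    apply Scheme.isEmpty_pullback
    refine Set.disjoint_of_subset_left ?_ hd
    rintro _ ⟨t, rfl⟩
    exact ⟨V.hom.base t, rfl⟩
  exact unique_of_isEmpty G ((EtCoh.bc i).obj ((EtShriek.compEtale j).obj V))

theorem isIso_of_isTerminal {C : Type*} [Category C] {A B : C} (hA : IsTerminal A)
    (hB : IsTerminal B) (f : A ⟶ B) : IsIso f := by
  have : f = (hA.uniqueUpToIso hB).hom := hB.hom_ext _ _
  rw [this]
  infer_instance

/-- a morphism which becomes an isomorphism after pullback along `f` is bijective on the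
stalks at geometric points factoring through `f` -/
theorem bijective_stalk_of_isIso_pullSh {Y X : Scheme.{u}} (f : Y ⟶ X)
    {A B : EtDesc.Sh X} (a : A ⟶ B) [IsIso ((EtDesc.pullSh f).map a)]
    {Ω : Type u} [Field Ω] [IsSepClosed Ω] (ξ : Spec (CommRingCat.of Ω) ⟶ X)
    (hξ : ∃ ζ : Spec (CommRingCat.of Ω) ⟶ Y, ζ ≫ f = ξ) :
    Function.Bijective (((Scheme.pointSmallEtale ξ).sheafFiber (A := Type (u + 1))).map a) := by
  obtain ⟨ζ, rfl⟩ := hξ
  have h := (Groth.Agent.S3047.stalkPullIsoSh f ζ).hom.naturality a
  have e : ((Scheme.pointSmallEtale (ζ ≫ f)).sheafFiber (A := Type (u + 1))).map a =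
      (Groth.Agent.S3047.stalkPullIsoSh f ζ).inv.app _ ≫
        (EtDesc.pullSh f ⋙ (Scheme.pointSmallEtale ζ).sheafFiber (A := Type (u + 1))).map a ≫
        (Groth.Agent.S3047.stalkPullIsoSh f ζ).hom.app _ := by
    rw [h, Iso.inv_hom_id_app_assoc]
  have h2 : IsIso ((EtDesc.pullSh f ⋙
      (Scheme.pointSmallEtale ζ).sheafFiber (A := Type (u + 1))).map a) := by
    change IsIso (((Scheme.pointSmallEtale ζ).sheafFiber (A := Type (u + 1))).map
      ((EtDesc.pullSh f).map a))
    infer_instance
  have h3 : IsIso (((Scheme.pointSmallEtale (ζ ≫ f)).sheafFiber (A := Type (u + 1))).map a) := by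
    rw [e]
    infer_instance
  exact (isIso_iff_bijective _).mp h3

theorem std_jointly_surjective (X : Scheme.{u}) :
    ⋃ s : X, Set.range (geomPt X s).base = Set.univ := by
  ext y
  simp only [Set.mem_iUnion, Set.mem_range, Set.mem_univ, iff_true]
  exact ⟨y, default, geomPt_default X y⟩

theorem main {Y X U : Scheme.{u}} (i : Y ⟶ X)
    [IsClosedImmersion i] (j : U ⟶ X) [IsOpenImmersion j]
    (hU : Set.range j.base = (Set.range i.base)ᶜ) :
    (EtDesc.pushSh i).Full ∧ (EtDesc.pushSh i).Faithful ∧
    ∀ F : EtDesc.Sh X, (EtDesc.pushSh i).essImage F ↔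
      IsIso (terminal.from ((EtDesc.pullSh j).obj F)) := by
  have hfull : (EtDesc.pushSh i).Full :=
    Functor.IsCoverDense.full_sheafPushforwardContinuous (G := EtCoh.bc i)
      (J := X.smallEtaleTopology) (K := Y.smallEtaleTopology) (A := Type (u + 1))
  have hfaith : (EtDesc.pushSh i).Faithful :=
    Functor.IsCoverDense.faithful_sheafPushforwardContinuous (G := EtCoh.bc i)
      (J := X.smallEtaleTopology) (K := Y.smallEtaleTopology) (A := Type (u + 1))
  have hd : Disjoint (Set.range j.base) (Set.range i.base) := by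
    rw [hU]
    exact disjoint_compl_left
  refine ⟨hfull, hfaith, fun F => ⟨?_, ?_⟩⟩
  · rintro ⟨G, ⟨e⟩⟩
    have hT : IsTerminal ((EtDesc.pullSh j).obj F) :=
      IsTerminal.ofIso (isTerminalPullPush i j hd G) ((EtDesc.pullSh j).mapIso e)
    exact isIso_of_isTerminal hT terminalIsTerminal _
  · intro h
    have hT : IsTerminal ((EtDesc.pullSh j).obj F) :=
      IsTerminal.ofIso terminalIsTerminal (asIso (terminal.from _)).symm
    have hc : IsIso (EtDesc.adjSh i).counit := inferInstance
    have hiso : IsIso ((EtDesc.adjSh i).unit.app F) := by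
      apply isIso_of_stalk_fam_sh (fun s : X => geomPt X s) (std_jointly_surjective X)
      intro s
      by_cases hs : s ∈ Set.range i.base
      · have h1 : IsIso ((EtDesc.pullSh i).map ((EtDesc.adjSh i).unit.app F)) := by
          have ht := (EtDesc.adjSh i).left_triangle_components F
          have : (EtDesc.pullSh i).map ((EtDesc.adjSh i).unit.app F) =
              inv ((EtDesc.adjSh i).counit.app ((EtDesc.pullSh i).obj F)) := by
            rw [← cancel_mono ((EtDesc.adjSh i).counit.app ((EtDesc.pullSh i).obj F)), ht,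
              IsIso.inv_hom_id]
            rfl
          rw [this]
          infer_instance
        apply bijective_stalk_of_isIso_pullSh i
        apply Groth.Agent.S0654.exists_fac_closed
        rw [geomPt_default]
        exact hs
      · have h1 : IsIso ((EtDesc.pullSh j).map ((EtDesc.adjSh i).unit.app F)) :=
          isIso_of_isTerminal hT (isTerminalPullPush i j hd _) _
        apply bijective_stalk_of_isIso_pullSh j
        apply exists_fac_of_mem_range
        rw [geomPt_default, hU]
        exact hs
    exact ⟨(EtDesc.pullSh i).obj F, ⟨(asIso ((EtDesc.adjSh i).unit.app F)).symm⟩⟩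

/-- Let i : Y -> X be a closed immersion and j : U -> X an open immersion whose image is the complement
of the image of i. Then the direct image functor i_* on etale sheaves of sets is fully faithful, and
a sheaf of sets F on X is isomorphic to some i_* G if and only if j^* F is a final object. -/
theorem result {Y X U : Scheme.{u}} (i : Y ⟶ X)
    [IsClosedImmersion i] (j : U ⟶ X) [IsOpenImmersion j]
    (hU : Set.range j.base = (Set.range i.base)ᶜ) :
    (EtDesc.pushSh i).Full ∧ (EtDesc.pushSh i).Faithful ∧
    ∀ F : EtDesc.Sh X, (EtDesc.pushSh i).essImage F ↔ IsIso (terminal.from ((EtDesc.pullSh j).obj F)) := by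
  exact main i j hU

end Groth.Agent.S3883
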