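import Groth.Statements.S3473
import Mathlib
import Groth.Agent.S3883
-- import your own Groth.Agent.* helpers here

set_option autoImplicit false
universe u
open CategoryTheory CategoryTheory.Limits AlgebraicGeometry Opposite
open EtAcyc

namespace Groth.Agent.S3473

/-- ring lemma -/
theorem ring_aux {A B : Type u} [CommRing A] [CommRing B] (φ : A →+* B) (p : PrimeSpectrum A)
    (hp : p ∉ Set.range (PrimeSpectrum.comap φ)) :
    ∃ a : A, a ∉ p.asIdeal ∧ ∀ Q : PrimeSpectrum B,
      p.asIdeal ≤ (PrimeSpectrum.comap φ Q).asIdeal → a ∈ (PrimeSpectrum.comap φ Q).asIdeal := by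
  rw [PrimeSpectrum.mem_range_comap_iff] at hp
  have hle : p.asIdeal ≤ (p.asIdeal.map φ).comap φ := Ideal.le_comap_map
  have : ¬ ((p.asIdeal.map φ).comap φ ≤ p.asIdeal) := fun h => hp (le_antisymm h hle)
  obtain ⟨a, ha, hap⟩ := Set.not_subset.mp this
  refine ⟨a, hap, fun Q hQ => ?_⟩
  have h1 : p.asIdeal.map φ ≤ Q.asIdeal := Ideal.map_le_iff_le_comap.mpr hQ
  exact h1 ha

/-- scheme lemma: a point of an affine chart missing the image of a quasi-compact morphism -/
theorem chart_aux {X Y : Scheme.{u}} (g : X ⟶ Y) [QuasiCompact g] (A : CommRingCat.{u})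
    (ι : Spec A ⟶ Y) (p : Spec A) (hp : ι.base p ∉ Set.range g.base) :
    ∃ a : A, a ∉ p.asIdeal ∧ ∀ q : Spec A, p.asIdeal ≤ q.asIdeal → a ∉ q.asIdeal →
      ι.base q ∉ Set.range g.base := by
  haveI : QuasiCompact (pullback.snd g ι) := inferInstance
  haveI : CompactSpace ↥(pullback g ι) :=
    QuasiCompact.compactSpace_of_compactSpace (pullback.snd g ι)
  obtain ⟨R, r, hr⟩ := compactSpace_iff_exists.mp (inferInstance : CompactSpace ↥(pullback g ι))
  obtain ⟨φ, hφ⟩ : ∃ φ : A ⟶ R, Spec.map φ = r ≫ pullback.snd g ι :=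
    ⟨Spec.preimage (r ≫ pullback.snd g ι), Spec.map_preimage _⟩
  have hnot : p ∉ Set.range (PrimeSpectrum.comap φ.hom) := by
    rintro ⟨z, hz⟩
    apply hp
    refine ⟨(pullback.fst g ι).base (r.base z), ?_⟩
    have h1 : (Spec.map φ).base z = p := hz
    rw [hφ] at h1
    have h2 : (pullback.fst g ι ≫ g).base (r.base z) = (pullback.snd g ι ≫ ι).base (r.base z) := by
      rw [pullback.condition]
    simp only [Scheme.Hom.comp_base, TopCat.hom_comp, ContinuousMap.comp_apply] at h1 h2
    rw [h2, h1]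
  obtain ⟨a, hap, ha⟩ := ring_aux φ.hom p hnot
  refine ⟨a, hap, fun q hpq haq hq => ?_⟩
  obtain ⟨x, hx⟩ := hq
  obtain ⟨w, hw1, hw2⟩ := Scheme.Pullback.exists_preimage_pullback x q hx
  obtain ⟨z, rfl⟩ := hr w
  have hz : PrimeSpectrum.comap φ.hom z = q := by
    have : (Spec.map φ).base z = q := by
      rw [hφ]
      simpa using hw2
    exact this
  apply haq
  have := ha z (by rw [hz]; exact hpq)
  rwa [hz] at this


/-- sections of a terminal sheaf of sets are subsingletons -/
theorem subsingleton_of_isTerminal {X : Scheme.{u}} (M : EtDesc.Sh X) (hM : IsTerminal M)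
    (U : X.Etale) : Subsingleton (M.obj.obj (op U)) := by
  let T₀ : EtDesc.Sh X := Sheaf.terminal X.smallEtaleTopology (Types.isTerminalPunit.{u + 1})
  have hT₀ : IsTerminal T₀ := Sheaf.isTerminalTerminal _ _
  let e : M ≅ T₀ := hM.uniqueUpToIso hT₀
  let e' : M.obj.obj (op U) ≅ T₀.obj.obj (op U) :=
    ((sheafSections X.smallEtaleTopology (Type (u + 1))).obj (op U)).mapIso e
  have : Subsingleton (T₀.obj.obj (op U)) := by
    change Subsingleton PUnit
    infer_instance
  exact e'.toEquiv.subsingleton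

theorem exists_of_mem_smallEtaleTopology {Y : Scheme.{u}} (V : Y.Etale) (R : Sieve V)
    (h : R ∈ Y.smallEtaleTopology V) (x : V.left) :
    ∃ (W : Y.Etale) (f : W ⟶ V) (y : W.left), R f ∧ f.left.base y = x := by
  have eY : Y.smallEtaleTopology =
      (Y.smallPretopology (P := EtCoh.etaleMP) (Q := EtCoh.etaleMP)).toGrothendieck :=
    Scheme.smallGrothendieckTopology_eq_toGrothendieck_smallPretopology Y le_rfl
  rw [eY] at h
  obtain ⟨W, g, y, hg, -, hy⟩ := (Scheme.mem_toGrothendieck_smallPretopology V R).1 h x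
  exact ⟨W, g, y, hg, hy⟩

/-- the two constant sections of the constant sheaf `Bool` differ over a nonempty etale scheme -/
theorem exists_two_sections {T : Scheme.{u}} (E : T.Etale) [Nonempty E.left] :
    ∃ (G : EtDesc.Sh T) (a b : G.obj.obj (op E)), a ≠ b := by
  let P : (T.Etale)ᵒᵖ ⥤ Type (u + 1) := (Functor.const _).obj (ULift.{u + 1} Bool)
  let G : EtDesc.Sh T := (constantSheaf T.smallEtaleTopology (Type (u + 1))).obj (ULift.{u + 1} Bool)
  let η : P ⟶ G.obj := toSheafify T.smallEtaleTopology P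
  refine ⟨G, η.app (op E) ⟨true⟩, η.app (op E) ⟨false⟩, fun h => ?_⟩
  have hm := Presheaf.equalizerSieve_mem T.smallEtaleTopology (toSheafify T.smallEtaleTopology P)
    (X := op E) (⟨true⟩ : ULift.{u + 1} Bool) ⟨false⟩ h
  obtain ⟨x⟩ := (inferInstance : Nonempty E.left)
  obtain ⟨W, f, y, hf, -⟩ := exists_of_mem_smallEtaleTopology _ _ hm x
  have : (⟨true⟩ : ULift.{u + 1} Bool) = ⟨false⟩ := hf
  simpa using congrArg ULift.down this





theorem injective_of_mono {X : Scheme.{u}} {F G : EtDesc.Sh X} (v : F ⟶ G) [Mono v] (U : X.Etale) :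
    Function.Injective (v.hom.app (op U)) := by
  have h1 : Mono ((sheafToPresheaf _ _).map v) := inferInstance
  have h2 : Mono v.hom := h1
  have h3 := (NatTrans.mono_iff_mono_app v.hom).mp h2 (op U)
  exact (mono_iff_injective _).mp h3

open Groth.Agent.H1.PullShExact in
theorem core {X Y : Scheme.{u}} (g : X ⟶ Y) [QuasiCompact g] (hg : EtAcyc.IsMinusOneAcyclic g)
    (A : CommRingCat.{u}) (ι : Spec A ⟶ Y) [IsOpenImmersion ι] (p : Spec A)
    (hp : ι.base p ∉ Set.range g.base) : False := by
  obtain ⟨a, hap, ha⟩ := chart_aux g A ι p hp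
  let Aa : Type u := Localization.Away a
  let jm : Spec (CommRingCat.of Aa) ⟶ Spec A := Spec.map (CommRingCat.ofHom (algebraMap A Aa))
  haveI : IsOpenImmersion jm := inferInstance
  haveI : Etale (jm ≫ ι) := inferInstance
  let V : Y.Etale := Scheme.Etale.mk (jm ≫ ι)
  let P : Ideal Aa := p.asIdeal.map (algebraMap A Aa)
  let k : Spec (CommRingCat.of (Aa ⧸ P)) ⟶ Spec (CommRingCat.of Aa) :=
    Spec.map (CommRingCat.ofHom (Ideal.Quotient.mk P))
  haveI : IsClosedImmersion k :=
    IsClosedImmersion.spec_of_surjective _ Ideal.Quotient.mk_surjective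
  have hPne : P ≠ ⊤ :=
    (IsLocalization.map_algebraMap_ne_top_iff_disjoint (Submonoid.powers a) Aa p.asIdeal).mpr
      ((Ideal.disjoint_powers_iff_notMem_of_isPrime a).mpr hap)
  haveI : Nontrivial (Aa ⧸ P) := Ideal.Quotient.nontrivial_iff.mpr hPne
  haveI : Nonempty (Spec (CommRingCat.of (Aa ⧸ P))) := inferInstance
  -- the open complement of the closed subscheme
  let W : (Spec (CommRingCat.of Aa)).Opens :=
    ⟨(Set.range k.base)ᶜ, k.isClosedEmbedding.isClosed_range.isOpen_compl⟩
  let j : W.toScheme ⟶ Spec (CommRingCat.of Aa) := W.ι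
  have hj : Set.range j.base = (Set.range k.base)ᶜ := Scheme.Opens.range_ι W
  have hd : Disjoint (Set.range j.base) (Set.range k.base) := by
    rw [hj]
    exact disjoint_compl_left
  -- the projection misses the closed subscheme
  have hmiss : Set.range (EtAcyc.prj g V).base ⊆ Set.range j.base := by
    rintro _ ⟨x', rfl⟩
    refine hj.ge ?_
    rintro ⟨t, ht⟩
    have hPv : P ≤ ((EtAcyc.prj g V).base x').asIdeal := by
      rw [← ht]
      intro z hz
      change Ideal.Quotient.mk P z ∈ t.asIdeal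
      rw [Ideal.Quotient.eq_zero_iff_mem.mpr hz]
      exact zero_mem _
    refine ha (jm.base ((EtAcyc.prj g V).base x')) ?_ ?_ ?_
    · intro z hz
      change algebraMap A Aa z ∈ ((EtAcyc.prj g V).base x').asIdeal
      exact hPv (Ideal.mem_map_of_mem _ hz)
    · intro hz
      have hz' : algebraMap A Aa a ∈ ((EtAcyc.prj g V).base x').asIdeal := hz
      have hu : IsUnit (algebraMap A Aa a) := IsLocalization.Away.algebraMap_isUnit a
      exact ((EtAcyc.prj g V).base x').2.ne_top (Ideal.eq_top_of_isUnit_mem _ hz' hu)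
    · refine ⟨(pullback.snd V.hom g).base x', ?_⟩
      have h2 : (pullback.snd V.hom g ≫ g).base x' = (pullback.fst V.hom g ≫ V.hom).base x' := by
        rw [pullback.condition]
      simp only [Scheme.Hom.comp_base, TopCat.hom_comp, ContinuousMap.comp_apply] at h2
      rw [h2]
      rfl
  let h' : pullback V.hom g ⟶ W.toScheme := IsOpenImmersion.lift j (EtAcyc.prj g V) hmiss
  have hh' : h' ≫ j = EtAcyc.prj g V := IsOpenImmersion.lift_fac _ _ _
  -- the sheaf
  let E : (Spec (CommRingCat.of (Aa ⧸ P))).Etale :=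
    (EtCoh.bc k).obj (EtCoh.top (Spec (CommRingCat.of Aa)))
  haveI : Nonempty E.left := by
    obtain ⟨t⟩ := (inferInstance : Nonempty (Spec (CommRingCat.of (Aa ⧸ P))))
    obtain ⟨w, -, -⟩ := Scheme.Pullback.exists_preimage_pullback
      (f := (EtCoh.top (Spec (CommRingCat.of Aa))).hom) (g := k) (k.base t) t rfl
    exact ⟨w⟩
  obtain ⟨G, a₀, b₀, hab⟩ := exists_two_sections E
  let F : EtDesc.Sh V.left := (EtDesc.pushSh k).obj G
  haveI hmono : Mono ((EtDesc.adjSh (EtAcyc.prj g V)).unit.app F) := hg V F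
  have hT1 : IsTerminal ((EtDesc.pullSh j).obj F) :=
    Groth.Agent.S3883.isTerminalPullPush k j hd G
  have hT2 : IsTerminal ((EtDesc.pullSh h').obj ((EtDesc.pullSh j).obj F)) :=
    hT1.isTerminalObj (EtDesc.pullSh h') _
  have hT3 : IsTerminal ((EtDesc.pullSh (h' ≫ j)).obj F) :=
    IsTerminal.ofIso hT2 ((EtDesc.pullCompSh h' j).app F).symm
  have hT4 : IsTerminal ((EtDesc.pullSh (EtAcyc.prj g V)).obj F) := hh' ▸ hT3
  have hinj := injective_of_mono ((EtDesc.adjSh (EtAcyc.prj g V)).unit.app F) (EtCoh.top V.left)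
  apply hab
  apply hinj
  have hss := subsingleton_of_isTerminal _ hT4 ((EtCoh.bc (EtAcyc.prj g V)).obj (EtCoh.top V.left))
  exact hss.elim _ _

theorem part2 {X Y : Scheme.{u}} (g : X ⟶ Y) [QuasiCompact g] (hg : EtAcyc.IsMinusOneAcyclic g) :
    Function.Surjective g.base := by
  by_contra hns
  obtain ⟨y, hy⟩ : ∃ y : Y, y ∉ Set.range g.base := by
    by_contra h
    exact hns (fun y => by_contra fun hy => h ⟨y, hy⟩)
  obtain ⟨p, hp⟩ := Y.affineOpenCover.covers y
  exact core g hg _ (Y.affineOpenCover.f (Y.affineOpenCover.idx y)) p (by rw [hp]; exact hy)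


/-- Let g : X → Y be a morphism of schemes. If g is surjective then g is (-1)-acyclic (for every etale V
→ Y and every sheaf of sets F on V, F → g'_* g'^* F is a monomorphism, g' the projection X ×_Y V →
V); conversely, if g is quasi-compact, quasi-separated and (-1)-acyclic then g is surjective. -/
theorem result {X Y : Scheme.{u}} (g : X ⟶ Y) :
    (Function.Surjective g.base → EtAcyc.IsMinusOneAcyclic g) ∧
      (∀ [QuasiCompact g] [QuasiSeparated g], EtAcyc.IsMinusOneAcyclic g → Function.Surjective g.base) := by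
  refine ⟨fun hsurj V F => ?_, fun {_ _} hg => part2 g hg⟩
  haveI : Surjective g := ⟨hsurj⟩
  haveI : Surjective (EtAcyc.prj g V) := inferInstance
  haveI : (EtDesc.pullSh (EtAcyc.prj g V)).Faithful := (Groth.Agent.S3047.result (EtAcyc.prj g V)).1
  infer_instance

end Groth.Agent.S3473
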