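import Groth.Statements.S3508
import Groth.Agent.Lib.Helper1.ConstrGenD

set_option autoImplicit false
universe u
open CategoryTheory CategoryTheory.Limits AlgebraicGeometry Opposite
open EtCd

namespace Groth.Agent.S3508

open Groth.Agent.H1.ExtZero Groth.Agent.H1.ConstrGen Groth.Agent.Lib.helper21.Constr

theorem main (X : Scheme.{u}) [CompactSpace X] [QuasiSeparatedSpace X]
    (F : EtCoh.Ab X) :
    EtPBC.IsConstructible F ↔
      ∃ (a b : ℕ) (U : Fin a → X.Etale) (V : Fin b → X.Etale) (n : Fin a → ℕ) (m : Fin b → ℕ),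
        (∀ i, 0 < n i ∧ IsAffine (U i).left) ∧ (∀ j, 0 < m j ∧ IsAffine (V j).left) ∧
        ∃ φ : (⨁ fun j => EtPBC.extZeroConst (V j) (ZMod (m j))) ⟶ (⨁ fun i => EtPBC.extZeroConst (U i) (ZMod (n i))),
          Nonempty (F ≅ cokernel φ) := by
  constructor
  · intro hF
    obtain ⟨N, hN, hFN⟩ := exists_killedBy F hF
    obtain ⟨b, a, V, U, hV, hU, φ, hφ⟩ := exists_presentation N hN F hF hFN
    exact ⟨a, b, U, V, fun _ => N, fun _ => N, fun i => ⟨hN, hU i⟩, fun j => ⟨hN, hV j⟩, φ, hφ⟩
  · rintro ⟨a, b, U, V, n, m, hU, hV, φ, ⟨e⟩⟩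
    haveI : CompactSpace (EtCoh.top X).left := inferInstanceAs (CompactSpace X)
    haveI : QuasiSeparatedSpace (EtCoh.top X).left := inferInstanceAs (QuasiSeparatedSpace X)
    have h₀ : EtPBC.IsConstructible (ez (EtCoh.top X) (cof.{u} (ZMod 1))) :=
      isConstructible_ez (EtCoh.top X) (ZMod 1)
    have h1 : EtPBC.IsConstructible (⨁ fun j => EtPBC.extZeroConst (V j) (ZMod (m j))) := by
      apply isConstructible_biproduct h₀
      intro j
      haveI := (hV j).2
      haveI : NeZero (m j) := ⟨(hV j).1.ne'⟩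
      exact isConstructible_ez (V j) (ZMod (m j))
    have h2 : EtPBC.IsConstructible (⨁ fun i => EtPBC.extZeroConst (U i) (ZMod (n i))) := by
      apply isConstructible_biproduct h₀
      intro i
      haveI := (hU i).2
      haveI : NeZero (n i) := ⟨(hU i).1.ne'⟩
      exact isConstructible_ez (U i) (ZMod (n i))
    exact isConstructible_of_iso e.symm (constr_kernel_cokernel φ h1 h2).2

/-- Let X be a quasi-compact and quasi-separated scheme. An abelian sheaf F on the small etale site of X
is constructible if and only if it is isomorphic to the cokernel of a morphism ⨁_j j_{V_j !} Z/m_j →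
⨁_i j_{U_i !} Z/n_i for finite families of affine etale X-schemes U_i, V_j (the source first states
it with quasi-compact quasi-separated objects and then notes that U_i, V_j may even be taken affine)
and positive integers n_i, m_j (j_! the extension by zero of the constant sheaf). -/
theorem result (X : Scheme.{u}) [CompactSpace X] [QuasiSeparatedSpace X]
    (F : EtCoh.Ab X) :
    EtPBC.IsConstructible F ↔
      ∃ (a b : ℕ) (U : Fin a → X.Etale) (V : Fin b → X.Etale) (n : Fin a → ℕ) (m : Fin b → ℕ),
        (∀ i, 0 < n i ∧ IsAffine (U i).left) ∧ (∀ j, 0 < m j ∧ IsAffine (V j).left) ∧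
        ∃ φ : (⨁ fun j => EtPBC.extZeroConst (V j) (ZMod (m j))) ⟶ (⨁ fun i => EtPBC.extZeroConst (U i) (ZMod (n i))),
          Nonempty (F ≅ cokernel φ) := by
  exact main X F

end Groth.Agent.S3508
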