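import Groth.Statements.S8542
import Groth.Agent.Lib.Helper1.PullShExact

set_option autoImplicit false
universe u
open CategoryTheory CategoryTheory.Limits AlgebraicGeometry Opposite
open EtBC

namespace Groth.Agent.S8542

open Groth.Agent.H1.PullShExact

/-- naturality of `secPull` -/
theorem secPull_naturality {X Y : Scheme.{u}} (h : Y ⟶ X) {F G : EtDesc.Sh X} (u : F ⟶ G)
    (s : EtDesc.sect F (EtCoh.top X)) :
    ((EtDesc.pullSh h).map u).hom.app (op (EtCoh.top Y)) (EtDesc.secPull h F s) =
      EtDesc.secPull h G (u.hom.app (op (EtCoh.top X)) s) := by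
  unfold EtDesc.secPull
  have h1 := NatTrans.naturality_apply ((EtDesc.pullSh h).map u).hom (EtCore.bcTopIso h).inv.op
    (((EtDesc.adjSh h).unit.app F).hom.app (op (EtCoh.top X)) s)
  have h2 := ConcreteCategory.congr_hom (congrArg (fun (t : F ⟶ _) => t.hom.app (op (EtCoh.top X)))
    ((EtDesc.adjSh h).unit.naturality u)) s
  refine h1.trans ?_
  exact congrArg _ h2.symm

/-- sections of a pullback square of sheaves of sets -/
theorem exists_of_isPullback {X : Scheme.{u}} {F G G' K : EtDesc.Sh X} {a : F ⟶ G} {b : F ⟶ G'}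
    {c : G ⟶ K} {d : G' ⟶ K} (sq : IsPullback a b c d) (U : X.Etale)
    (x : EtDesc.sect G U) (y : EtDesc.sect G' U) (hxy : c.hom.app (op U) x = d.hom.app (op U) y) :
    ∃ z : EtDesc.sect F U, a.hom.app (op U) z = x ∧ b.hom.app (op U) z = y := by
  have sq' := sq.map (sheafToPresheaf _ _ ⋙ (evaluation _ _).obj (op U))
  obtain ⟨z, hz⟩ := (Types.isPullback_iff _ _ _ _).mp sq' |>.2.2 x y hxy
  exact ⟨z, hz⟩

theorem main {X Y : Scheme.{u}} (h : Y ⟶ X)
    (hinj : ∀ F : EtDesc.Sh X, Function.Injective (EtDesc.secPull h F))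
    {F G : EtDesc.Sh X} (u : F ⟶ G) [Mono u] (ξ : EtDesc.sect ((EtDesc.pullSh h).obj F) (EtCoh.top Y))
    (hξ : ((EtDesc.pullSh h).map u).hom.app (op (EtCoh.top Y)) ξ ∈ Set.range (EtDesc.secPull h G)) :
    ξ ∈ Set.range (EtDesc.secPull h F) := by
  obtain ⟨η, hη⟩ := hξ
  have sq : IsPullback u u (pushout.inl u u) (pushout.inr u u) :=
    Adhesive.isPullback_of_isPushout_of_mono_left (IsPushout.of_hasPushout u u)
  have e1 : (pushout.inl u u).hom.app (op (EtCoh.top X)) η =
      (pushout.inr u u).hom.app (op (EtCoh.top X)) η := by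
    apply hinj
    rw [← secPull_naturality, ← secPull_naturality, hη]
    have := congrArg (fun (t : F ⟶ _) => ((EtDesc.pullSh h).map t).hom.app (op (EtCoh.top Y)) ξ)
      (pushout.condition (f := u) (g := u))
    simpa using this
  obtain ⟨z, hz, -⟩ := exists_of_isPullback sq (EtCoh.top X) η η e1
  refine ⟨z, ?_⟩
  have : Mono ((EtDesc.pullSh h).map u) := inferInstance
  have hm : Function.Injective (((EtDesc.pullSh h).map u).hom.app (op (EtCoh.top Y))) := by
    have : Mono (((EtDesc.pullSh h).map u).hom) :=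
      (sheafToPresheaf _ _).map_mono _
    have : Mono ((((EtDesc.pullSh h).map u).hom).app (op (EtCoh.top Y))) := inferInstance
    exact (mono_iff_injective _).mp this
  apply hm
  rw [secPull_naturality, hz, hη]

/-- Let h : Y → X be a morphism of quasi-compact quasi-separated schemes such that for every sheaf of
sets F on the small etale site of X the pullback map Γ(X, F) → Γ(Y, h^*F) is injective. Let u : F →
G be a monomorphism of sheaves of sets on X and ξ ∈ Γ(Y, h^*F) a section whose image in Γ(Y, h^*G)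
lies in the image of Γ(X, G). Then ξ lies in the image of Γ(X, F). -/
theorem result {X Y : Scheme.{u}} [CompactSpace X] [QuasiSeparatedSpace X]
    [CompactSpace Y] [QuasiSeparatedSpace Y] (h : Y ⟶ X)
    (hinj : ∀ F : EtDesc.Sh X, Function.Injective (EtDesc.secPull h F))
    {F G : EtDesc.Sh X} (u : F ⟶ G) [Mono u] (ξ : EtDesc.sect ((EtDesc.pullSh h).obj F) (EtCoh.top Y))
    (hξ : ((EtDesc.pullSh h).map u).hom.app (op (EtCoh.top Y)) ξ ∈ Set.range (EtDesc.secPull h G)) :
    ξ ∈ Set.range (EtDesc.secPull h F) := by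
  exact main h hinj u ξ hξ

end Groth.Agent.S8542
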