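import Groth.Statements.S8547
import Groth.Agent.S8542

set_option autoImplicit false
universe u
open CategoryTheory CategoryTheory.Limits AlgebraicGeometry Opposite
open EtBC

namespace Groth.Agent.S8547

open Groth.Agent.H1.PullShExact

variable {X Y Xb Yb : Scheme.{u}} (h : Y ⟶ X) (p : Xb ⟶ X) (hb : Yb ⟶ Xb) (pY : Yb ⟶ Y)
  (w : hb ≫ p = pY ≫ h) (Fb : EtDesc.Sh Xb)

/-- the morphism `p_* F̄ ⟶ h_* pY_* h̄^* F̄` whose transpose is the base change morphism -/
noncomputable def phi :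
    (EtDesc.pushSh p).obj Fb ⟶ (EtDesc.pushSh h).obj ((EtDesc.pushSh pY).obj ((EtDesc.pullSh hb).obj Fb)) :=
  (EtDesc.pushSh p).map ((EtDesc.adjSh hb).unit.app Fb) ≫ (EtDesc.pushCompSh p hb).hom.app _ ≫
      (EtBC.pushCongrSh w).hom.app _ ≫ (EtDesc.pushCompSh h pY).inv.app _

theorem phi_eq : phi h p hb pY w Fb =
    (EtDesc.adjSh h).unit.app _ ≫ (EtDesc.pushSh h).map (EtBC.baseChange0Sh p h pY hb w Fb) := by
  have := (EtDesc.adjSh h).homEquiv_unit (f := EtBC.baseChange0Sh p h pY hb w Fb)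
  refine Eq.trans ?_ this
  exact (Equiv.apply_symm_apply _ _).symm

theorem phi_app (V : X.Etale) :
    ∃ M : (EtCoh.bc pY).obj ((EtCoh.bc h).obj V) ⟶ (EtCoh.bc hb).obj ((EtCoh.bc p).obj V),
      ∀ t : EtDesc.sect ((EtDesc.pushSh p).obj Fb) V,
        (phi h p hb pY w Fb).hom.app (op V) t =
          ((EtDesc.pullSh hb).obj Fb).obj.map M.op
            (((EtDesc.adjSh hb).unit.app Fb).hom.app (op ((EtCoh.bc p).obj V)) t) := by
  obtain ⟨a, ha⟩ : ∃ a : (EtCoh.bc (hb ≫ p)).obj V ⟶ (EtCoh.bc hb).obj ((EtCoh.bc p).obj V),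
      ∀ x, ((EtDesc.pushCompSh p hb).hom.app ((EtDesc.pullSh hb).obj Fb)).hom.app (op V) x =
        ((EtDesc.pullSh hb).obj Fb).obj.map a.op x := ⟨_, fun x => rfl⟩
  obtain ⟨b, hb'⟩ : ∃ b : (EtCoh.bc (pY ≫ h)).obj V ⟶ (EtCoh.bc (hb ≫ p)).obj V,
      ∀ x, ((EtBC.pushCongrSh w).hom.app ((EtDesc.pullSh hb).obj Fb)).hom.app (op V) x =
        ((EtDesc.pullSh hb).obj Fb).obj.map b.op x := ⟨_, fun x => rfl⟩
  obtain ⟨c, hc⟩ : ∃ c : (EtCoh.bc pY).obj ((EtCoh.bc h).obj V) ⟶ (EtCoh.bc (pY ≫ h)).obj V,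
      ∀ x, ((EtDesc.pushCompSh h pY).inv.app ((EtDesc.pullSh hb).obj Fb)).hom.app (op V) x =
        ((EtDesc.pullSh hb).obj Fb).obj.map c.op x := ⟨_, fun x => rfl⟩
  refine ⟨c ≫ b ≫ a, fun t => ?_⟩
  unfold phi
  simp only [ObjectProperty.FullSubcategory.comp_hom, NatTrans.comp_app, types_comp_apply]
  rw [hc, hb', ha, op_comp, op_comp, Functor.map_comp_apply, Functor.map_comp_apply]
  rfl


/-- the key compatibility: `secPull h̄` is `secPull h` followed by the base change morphism -/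
theorem compat (s : EtDesc.sect Fb (EtCoh.top Xb)) :
    ((EtDesc.pullSh hb).obj Fb).obj.map (EtCore.bcTopIso pY).hom.op (EtDesc.secPull hb Fb s) =
      (EtBC.baseChange0Sh p h pY hb w Fb).hom.app (op (EtCoh.top Y))
        (EtDesc.secPull h ((EtDesc.pushSh p).obj Fb) (Fb.obj.map (EtCore.bcTopIso p).hom.op s)) := by
  obtain ⟨M, hM⟩ := phi_app h p hb pY w Fb (EtCoh.top X)
  set G := (EtDesc.pullSh hb).obj Fb with hG
  set β := EtBC.baseChange0Sh p h pY hb w Fb with hβ
  have h1 : β.hom.app (op (EtCoh.top Y))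
        (EtDesc.secPull h ((EtDesc.pushSh p).obj Fb) (Fb.obj.map (EtCore.bcTopIso p).hom.op s)) =
      G.obj.map ((EtCoh.bc pY).map (EtCore.bcTopIso h).inv).op
        (β.hom.app (op ((EtCoh.bc h).obj (EtCoh.top X)))
          (((EtDesc.adjSh h).unit.app ((EtDesc.pushSh p).obj Fb)).hom.app (op (EtCoh.top X))
            (Fb.obj.map (EtCore.bcTopIso p).hom.op s))) := by
    unfold EtDesc.secPull
    exact NatTrans.naturality_apply β.hom (EtCore.bcTopIso h).inv.op _
  have h2 : β.hom.app (op ((EtCoh.bc h).obj (EtCoh.top X)))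
          (((EtDesc.adjSh h).unit.app ((EtDesc.pushSh p).obj Fb)).hom.app (op (EtCoh.top X))
            (Fb.obj.map (EtCore.bcTopIso p).hom.op s)) =
      (phi h p hb pY w Fb).hom.app (op (EtCoh.top X)) (Fb.obj.map (EtCore.bcTopIso p).hom.op s) := by
    rw [phi_eq]
    rfl
  have h3 : ((EtDesc.adjSh hb).unit.app Fb).hom.app (op ((EtCoh.bc p).obj (EtCoh.top X)))
        (Fb.obj.map (EtCore.bcTopIso p).hom.op s) =
      G.obj.map ((EtCoh.bc hb).map (EtCore.bcTopIso p).hom).op
        (((EtDesc.adjSh hb).unit.app Fb).hom.app (op (EtCoh.top Xb)) s) :=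
    NatTrans.naturality_apply ((EtDesc.adjSh hb).unit.app Fb).hom (EtCore.bcTopIso p).hom.op s
  rw [h1, h2, hM, h3]
  unfold EtDesc.secPull
  rw [← Functor.map_comp_apply, ← Functor.map_comp_apply, ← Functor.map_comp_apply]
  congr 2
  rw [← op_comp, ← op_comp, ← op_comp]
  exact congrArg (fun m => G.obj.map (Quiver.Hom.op m)) ((EtCore.bcTopIsTerminal hb).hom_ext _ _)


theorem map_iso_bijective {C : Type*} [Category C] (P : Cᵒᵖ ⥤ Type (u + 1)) {A B : C} (e : A ≅ B) :
    Function.Bijective (P.map e.hom.op) := by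
  have : IsIso (P.map e.hom.op) := inferInstance
  exact (isIso_iff_bijective _).mp this

theorem main {X Y Xb Yb : Scheme.{u}}
    (h : Y ⟶ X) (p : Xb ⟶ X) (hb : Yb ⟶ Xb) (pY : Yb ⟶ Y) (w : hb ≫ p = pY ≫ h) :
    ((∀ F : EtDesc.Sh X, Function.Injective (EtDesc.secPull h F)) →
      (∀ Fb : EtDesc.Sh Xb, Mono (EtBC.baseChange0Sh p h pY hb w Fb)) →
      ∀ Fb : EtDesc.Sh Xb, Function.Injective (EtDesc.secPull hb Fb)) ∧
    ((∀ F : EtDesc.Sh X, Function.Bijective (EtDesc.secPull h F)) →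
      (∀ Fb : EtDesc.Sh Xb, IsIso (EtBC.baseChange0Sh p h pY hb w Fb)) →
      ∀ Fb : EtDesc.Sh Xb, Function.Bijective (EtDesc.secPull hb Fb)) := by
  have key : ∀ Fb : EtDesc.Sh Xb,
      (fun x => ((EtDesc.pullSh hb).obj Fb).obj.map (EtCore.bcTopIso pY).hom.op x) ∘
        EtDesc.secPull hb Fb =
      (fun x => (EtBC.baseChange0Sh p h pY hb w Fb).hom.app (op (EtCoh.top Y)) x) ∘
        EtDesc.secPull h ((EtDesc.pushSh p).obj Fb) ∘
        (fun s => Fb.obj.map (EtCore.bcTopIso p).hom.op s) := by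
    intro Fb
    funext s
    exact compat h p hb pY w Fb s
  have hE : ∀ Fb : EtDesc.Sh Xb, Function.Bijective
      (fun x => ((EtDesc.pullSh hb).obj Fb).obj.map (EtCore.bcTopIso pY).hom.op x) :=
    fun Fb => map_iso_bijective _ _
  have hT : ∀ Fb : EtDesc.Sh Xb, Function.Bijective
      (fun s => Fb.obj.map (EtCore.bcTopIso p).hom.op s) :=
    fun Fb => map_iso_bijective _ _
  constructor
  · intro hinj hmono Fb
    have : Mono (EtBC.baseChange0Sh p h pY hb w Fb) := hmono Fb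
    have hβ : Function.Injective
        (fun x => (EtBC.baseChange0Sh p h pY hb w Fb).hom.app (op (EtCoh.top Y)) x) := by
      have : Mono ((EtBC.baseChange0Sh p h pY hb w Fb).hom) :=
        (sheafToPresheaf Y.smallEtaleTopology (Type (u + 1))).map_mono
          (EtBC.baseChange0Sh p h pY hb w Fb)
      have : Mono (((EtBC.baseChange0Sh p h pY hb w Fb).hom).app (op (EtCoh.top Y))) :=
        inferInstance
      exact (mono_iff_injective _).mp this
    have h1 := (hβ.comp (hinj _)).comp (hT Fb).injective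
    have h2 : Function.Injective
        ((fun x => ((EtDesc.pullSh hb).obj Fb).obj.map (EtCore.bcTopIso pY).hom.op x) ∘
          EtDesc.secPull hb Fb) := by
      rw [key Fb]; exact h1
    exact Function.Injective.of_comp h2
  · intro hbij hiso Fb
    have : IsIso (EtBC.baseChange0Sh p h pY hb w Fb) := hiso Fb
    have hβ : Function.Bijective
        (fun x => (EtBC.baseChange0Sh p h pY hb w Fb).hom.app (op (EtCoh.top Y)) x) := by
      have : IsIso ((EtBC.baseChange0Sh p h pY hb w Fb).hom) :=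
        (sheafToPresheaf Y.smallEtaleTopology (Type (u + 1))).map_isIso
          (EtBC.baseChange0Sh p h pY hb w Fb)
      have : IsIso (((EtBC.baseChange0Sh p h pY hb w Fb).hom).app (op (EtCoh.top Y))) :=
        inferInstance
      exact (isIso_iff_bijective _).mp this
    have h1 := (hβ.comp (hbij _)).comp (hT Fb)
    have h2 : Function.Bijective
        ((fun x => ((EtDesc.pullSh hb).obj Fb).obj.map (EtCore.bcTopIso pY).hom.op x) ∘
          EtDesc.secPull hb Fb) := by
      rw [key Fb]; exact h1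
    exact (Function.Bijective.of_comp_iff' (hE Fb) _).mp h2

/-- Let h : Y → X and p : X̄ → X be morphisms of schemes with X, Y, X̄ quasi-compact and quasi-separated
(p need not be surjective), and Ȳ = Y ×_X X̄ with projections h̄ : Ȳ → X̄ and p_Y : Ȳ → Y. If the
pullback map on global sections Γ(X, F) → Γ(Y, h^*F) is injective for every sheaf of sets F on X and
the base change morphism h^* p_* F̄ → p_{Y*} h̄^* F̄ is a monomorphism for every sheaf of sets F̄ on
X̄, then Γ(X̄, F̄) → Γ(Ȳ, h̄^*F̄) is injective for every F̄. If the maps for h are bijective and the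
base change morphisms are isomorphisms, then the maps for h̄ are bijective. -/
theorem result {X Y Xb Yb : Scheme.{u}} [CompactSpace X]
    [QuasiSeparatedSpace X] [CompactSpace Y] [QuasiSeparatedSpace Y] [CompactSpace Xb] [QuasiSeparatedSpace Xb]
    (h : Y ⟶ X) (p : Xb ⟶ X) (hb : Yb ⟶ Xb) (pY : Yb ⟶ Y) (sq : IsPullback hb pY p h) :
    ((∀ F : EtDesc.Sh X, Function.Injective (EtDesc.secPull h F)) →
      (∀ Fb : EtDesc.Sh Xb, Mono (EtBC.baseChange0Sh p h pY hb sq.w Fb)) →
      ∀ Fb : EtDesc.Sh Xb, Function.Injective (EtDesc.secPull hb Fb)) ∧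
    ((∀ F : EtDesc.Sh X, Function.Bijective (EtDesc.secPull h F)) →
      (∀ Fb : EtDesc.Sh Xb, IsIso (EtBC.baseChange0Sh p h pY hb sq.w Fb)) →
      ∀ Fb : EtDesc.Sh Xb, Function.Bijective (EtDesc.secPull hb Fb)) := by
  exact main h p hb pY sq.w

end Groth.Agent.S8547
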