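import Groth.Statements.S3517
import Mathlib
import Groth.Agent.S8547
import Groth.Agent.S3047
-- import your own Groth.Agent.* helpers here

set_option autoImplicit false
universe u
open CategoryTheory CategoryTheory.Limits AlgebraicGeometry Opposite
open EtBC

namespace Groth.Agent.S3517

theorem injective_of_mono {X : Scheme.{u}} {F G : EtDesc.Sh X} (v : F ⟶ G) [Mono v] (U : X.Etale) :
    Function.Injective (v.hom.app (op U)) := by
  have h1 : Mono ((sheafToPresheaf _ _).map v) := inferInstance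
  have h2 : Mono v.hom := h1
  have h3 := (NatTrans.mono_iff_mono_app v.hom).mp h2 (op U)
  exact (mono_iff_injective _).mp h3

theorem part1 {X Y Xb Yb : Scheme.{u}} (h : Y ⟶ X) (p : Xb ⟶ X)
    (hb : Yb ⟶ Xb) (pY : Yb ⟶ Y) (w : hb ≫ p = pY ≫ h) (hp : Function.Surjective p.base)
    (hinj : ∀ Fb : EtDesc.Sh Xb, Function.Injective (EtDesc.secPull hb Fb)) (F : EtDesc.Sh X) :
    Function.Injective (EtDesc.secPull h F) := by
  haveI : Surjective p := ⟨hp⟩
  haveI : (EtDesc.pullSh p).Faithful := (Groth.Agent.S3047.result p).1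
  haveI hmono : Mono ((EtDesc.adjSh p).unit.app F) := inferInstance
  intro s t hst
  have hU := injective_of_mono ((EtDesc.adjSh p).unit.app F) (EtCoh.top X)
  have hT := Groth.Agent.S8547.map_iso_bijective ((EtDesc.pullSh p).obj F).obj (EtCore.bcTopIso p)
  have hE := Groth.Agent.S8547.map_iso_bijective ((EtDesc.pullSh hb).obj ((EtDesc.pullSh p).obj F)).obj
    (EtCore.bcTopIso pY)
  have n1 := Groth.Agent.S8542.secPull_naturality h ((EtDesc.adjSh p).unit.app F) s
  have n2 := Groth.Agent.S8542.secPull_naturality h ((EtDesc.adjSh p).unit.app F) t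
  suffices H : ∀ x y : ((EtDesc.pushSh p).obj ((EtDesc.pullSh p).obj F)).obj.obj (op (EtCoh.top X)),
      EtDesc.secPull h ((EtDesc.pushSh p).obj ((EtDesc.pullSh p).obj F)) x =
        EtDesc.secPull h ((EtDesc.pushSh p).obj ((EtDesc.pullSh p).obj F)) y → x = y by
    apply hU
    apply H
    exact n1.symm.trans ((congrArg _ hst).trans n2)
  intro x y k
  obtain ⟨s', rfl⟩ := hT.surjective x
  obtain ⟨t', rfl⟩ := hT.surjective y
  have c1 := Groth.Agent.S8547.compat h p hb pY w ((EtDesc.pullSh p).obj F) s'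
  have c2 := Groth.Agent.S8547.compat h p hb pY w ((EtDesc.pullSh p).obj F) t'
  have := hinj _ (hE.injective (c1.trans ((congrArg _ k).trans c2.symm)))
  rw [this]

/-- Let h : Y → X and p : X̄ → X be morphisms of schemes with p surjective, Ȳ = Y ×_X X̄ with
projections h̄ : Ȳ → X̄ and p_Y : Ȳ → Y. If for every sheaf of sets F̄ on X̄ the pullback map on
global sections Γ(X̄, F̄) → Γ(Ȳ, h̄^* F̄) is injective, then for every sheaf of sets F on X the map
Γ(X, F) → Γ(Y, h^* F) is injective. If those maps for h̄ are bijective and moreover the base change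
morphism h^* p_* F̄ → p_{Y*} h̄^* F̄ is a monomorphism for every sheaf of sets F̄ on X̄, then the
maps Γ(X, F) → Γ(Y, h^* F) are bijective. -/
theorem result {X Y Xb Yb : Scheme.{u}} (h : Y ⟶ X) (p : Xb ⟶ X)
    (hb : Yb ⟶ Xb) (pY : Yb ⟶ Y) (sq : IsPullback hb pY p h) (hp : Function.Surjective p.base) :
    ((∀ Fb : EtDesc.Sh Xb, Function.Injective (EtDesc.secPull hb Fb)) →
      ∀ F : EtDesc.Sh X, Function.Injective (EtDesc.secPull h F)) ∧
    ((∀ Fb : EtDesc.Sh Xb, Function.Bijective (EtDesc.secPull hb Fb)) →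
      (∀ Fb : EtDesc.Sh Xb, Mono (EtBC.baseChange0Sh p h pY hb sq.w Fb)) →
      ∀ F : EtDesc.Sh X, Function.Bijective (EtDesc.secPull h F)) := by
  refine ⟨fun hinj F => part1 h p hb pY sq.w hp hinj F, fun hbij hmono F => ?_⟩
  have hinjF : ∀ F : EtDesc.Sh X, Function.Injective (EtDesc.secPull h F) :=
    fun F => part1 h p hb pY sq.w hp (fun Fb => (hbij Fb).injective) F
  refine ⟨hinjF F, fun ξ => ?_⟩
  haveI : Surjective p := ⟨hp⟩
  haveI : (EtDesc.pullSh p).Faithful := (Groth.Agent.S3047.result p).1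
  haveI hm : Mono ((EtDesc.adjSh p).unit.app F) := inferInstance
  refine Groth.Agent.S8542.main h hinjF ((EtDesc.adjSh p).unit.app F) ξ ?_
  have hE := Groth.Agent.S8547.map_iso_bijective ((EtDesc.pullSh hb).obj ((EtDesc.pullSh p).obj F)).obj
    (EtCore.bcTopIso pY)
  obtain ⟨ζ, hζ⟩ := hE.surjective ((EtBC.baseChange0Sh p h pY hb sq.w ((EtDesc.pullSh p).obj F)).hom.app
    (op (EtCoh.top Y)) (((EtDesc.pullSh h).map ((EtDesc.adjSh p).unit.app F)).hom.app (op (EtCoh.top Y)) ξ))
  obtain ⟨s', rfl⟩ := (hbij ((EtDesc.pullSh p).obj F)).surjective ζ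
  have c1 := Groth.Agent.S8547.compat h p hb pY sq.w ((EtDesc.pullSh p).obj F) s'
  haveI := hmono ((EtDesc.pullSh p).obj F)
  have hB := injective_of_mono (EtBC.baseChange0Sh p h pY hb sq.w ((EtDesc.pullSh p).obj F)) (EtCoh.top Y)
  exact ⟨_, (hB (hζ.symm.trans c1)).symm⟩

end Groth.Agent.S3517
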