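import Groth.Statements.S3526
import Mathlib
import Groth.Agent.Lib.Helper10.TorColim
import Groth.Agent.Lib.Helper10.NatTransDelta
import Groth.Agent.Lib.Helper7.TorAPI3

set_option autoImplicit false
universe u
open HTor

namespace Groth.Agent.S3526

set_option linter.style.haveILetI false

open CategoryTheory CategoryTheory.Limits MonoidalCategory Groth.Agent.Lib.helper7.TorAPI
open Groth.Agent.Lib.helper10.TorColim

variable {A : Type u} [CommRing A]

/-- the first term of a left exact sequence of functors `0 → G₁ → G₂ → G₃` on modules preserves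
filtered colimits if the other two do -/
theorem preservesColimitsOfShape_of_leftExact {J : Type u} [SmallCategory J] [IsFiltered J]
    {G₁ G₂ G₃ : ModuleCat.{u} A ⥤ ModuleCat.{u} A} (a : G₁ ⟶ G₂) (b : G₂ ⟶ G₃)
    (hmono : ∀ N, Function.Injective (a.app N))
    (hzero : ∀ N (x : G₁.obj N), b.app N (a.app N x) = 0)
    (hex : ∀ N (y : G₂.obj N), b.app N y = 0 → ∃ x : G₁.obj N, a.app N x = y)
    [PreservesColimitsOfShape J G₂] [PreservesColimitsOfShape J G₃] :
    PreservesColimitsOfShape J G₁ := by
  refine ⟨fun {D} => ⟨fun {c} hc => ⟨?_⟩⟩⟩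
  have h₂ := isColimitOfPreserves G₂ hc
  have h₃ := isColimitOfPreserves G₃ hc
  apply isColimitOfReflects (forget (ModuleCat.{u} A))
  have anat : ∀ {X Y : ModuleCat.{u} A} (f : X ⟶ Y) (x : G₁.obj X),
      a.app Y (G₁.map f x) = G₂.map f (a.app X x) := fun f x =>
    (ConcreteCategory.congr_hom (a.naturality f) x)
  have bnat : ∀ {X Y : ModuleCat.{u} A} (f : X ⟶ Y) (y : G₂.obj X),
      b.app Y (G₂.map f y) = G₃.map f (b.app X y) := fun f y =>
    (ConcreteCategory.congr_hom (b.naturality f) y)
  have key : ∀ (i : J) (x : G₁.obj (D.obj i)), G₁.map (c.ι.app i) x = 0 →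
      ∃ (k : J) (f : i ⟶ k), G₁.map (D.map f) x = 0 := by
    intro i x hx
    have h1 : G₂.map (c.ι.app i) (a.app _ x) = 0 := by
      rw [← anat, hx, map_zero]
    obtain ⟨k, f, hf⟩ := eq_zero_of_isColimit h₂ (a.app _ x) h1
    refine ⟨k, f, hmono _ ?_⟩
    rw [anat, map_zero]
    exact hf
  refine Types.FilteredColimit.isColimitOf' _ _ ?_ ?_
  · intro x
    change G₁.obj c.pt at x
    obtain ⟨j, yj, hyj⟩ := jointly_surjective_of_isColimit h₂ (a.app _ x)
    change G₂.map (c.ι.app j) yj = a.app _ x at hyj
    have h1 : G₃.map (c.ι.app j) (b.app _ yj) = 0 := by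
      rw [← bnat, hyj]
      exact hzero c.pt x
    obtain ⟨k, f, hf⟩ := eq_zero_of_isColimit h₃ (b.app _ yj) h1
    change G₃.map (D.map f) (b.app _ yj) = 0 at hf
    rw [← bnat] at hf
    obtain ⟨xk, hxk⟩ := hex _ _ hf
    refine ⟨k, xk, ?_⟩
    change x = G₁.map (c.ι.app k) xk
    apply hmono
    rw [anat, hxk, ← hyj]
    have := c.w f
    rw [← this, Functor.map_comp]
    rfl
  · intro i x y hxy
    change G₁.obj (D.obj i) at x y
    change G₁.map (c.ι.app i) x = G₁.map (c.ι.app i) y at hxy
    obtain ⟨k, f, hf⟩ := key i (x - y) (by rw [map_sub, hxy, sub_self])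
    refine ⟨k, f, ?_⟩
    change G₁.map (D.map f) x = G₁.map (D.map f) y
    rw [map_sub, sub_eq_zero] at hf
    exact hf


open Groth.Agent.Lib.helper10.NatTransLESNat in
theorem main (p : ℕ) : ∀ (M : ModuleCat.{u} A) (J : Type u) [SmallCategory J] [IsFiltered J],
    PreservesColimitsOfShape J ((Tor (ModuleCat.{u} A) p).obj M) := by
  induction p with
  | zero =>
    intro M J _ _
    haveI : PreservesColimitsOfShape J (tF M) :=
      inferInstanceAs (PreservesColimitsOfShape J (tensorLeft M))
    exact preservesColimitsOfShape_of_natIso (tor0Iso M).symm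
  | succ p ih =>
    intro M J _ _
    let S := pres M
    have hS : S.ShortExact := pres_shortExact M
    let α := (tensoringLeft (ModuleCat.{u} A)).map S.f
    let β := (tensoringLeft (ModuleCat.{u} A)).map S.g
    have w : α ≫ β = 0 := tensoringLeft_map_comp_eq_zero S
    have hex : ∀ (P : ModuleCat.{u} A) [Projective P],
        (ShortComplex.mk (α.app P) (β.app P)
          (Groth.Agent.Lib.helper7.NatTransLES.app_zero α β w P)).ShortExact :=
      fun P _ => tensoringLeft_shortExact hS P
    let a : (Tor (ModuleCat.{u} A) (p + 1)).obj M ⟶ (Tor (ModuleCat.{u} A) p).obj S.X₁ :=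
      Δ α β w hex p
    let b : (Tor (ModuleCat.{u} A) p).obj S.X₁ ⟶ (Tor (ModuleCat.{u} A) p).obj S.X₂ :=
      (Tor (ModuleCat.{u} A) p).map S.f
    haveI := ih S.X₁ J
    haveI := ih S.X₂ J
    refine preservesColimitsOfShape_of_leftExact a b ?_ ?_ ?_
    · intro N
      have h1 := exact_map_Δ α β w hex N p
      have h2 : IsZero ((T (p + 1) S.X₂).obj N) := isZero_T_flat S.X₂ N p
      haveI : Mono (a.app N) := h1.mono_g (h2.eq_of_src _ _)
      exact (ModuleCat.mono_iff_injective _).mp inferInstance
    · intro N x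
      exact ConcreteCategory.congr_hom (Δ_comp_map α β w hex N p) x
    · intro N y hy
      have h1 := exact_Δ_map α β w hex N p
      rw [ShortComplex.moduleCat_exact_iff] at h1
      exact h1 y hy



open CategoryTheory CategoryTheory.Limits in
/-- In the case of single modules, second variable: for an A-module M and p ≥ 0, the functor N ↦
Tor_p^A(M, N) preserves filtered colimits. (Tor is Mathlib's, left derived in the second variable.) -/
theorem result (A : Type u) [CommRing A] (p : ℕ) (M : ModuleCat.{u} A)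
    (J : Type u) [SmallCategory J] [IsFiltered J] :
    PreservesColimitsOfShape J ((CategoryTheory.Tor (ModuleCat.{u} A) p).obj M) := by
  exact main p M J

end Groth.Agent.S3526
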