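import Groth.Statements.S3532
import Mathlib
-- import your own Groth.Agent.* helpers here

set_option autoImplicit false
universe u
open HomAlg3

namespace Groth.Agent.S3532

section abstract
variable (G : ℕ → Type u) [∀ n, AddCommGroup (G n)] (t : ∀ m n, m ≤ n → (G n →+ G m))
  (t_comp : ∀ (l m n : ℕ) (h₁ : l ≤ m) (h₂ : m ≤ n) (x : G n),
    t l m h₁ (t m n h₂ x) = t l n (h₁.trans h₂) x)
include t_comp

theorem range_anti (p k k' : ℕ) (h : p ≤ k) (hk : k ≤ k') :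
    (t p k' (h.trans hk)).range ≤ (t p k h).range := by
  rintro x ⟨y, rfl⟩
  exact ⟨t k k' hk y, t_comp _ _ _ _ _ _⟩

/-- the abstract Mittag-Leffler condition implies the graded condition -/
theorem ml_imp
    (hML : ∀ p, ∃ k₀, ∃ h : p ≤ k₀, ∀ k (hk : p ≤ k), (t p k₀ h).range ≤ (t p k hk).range) :
    (∃ k₀ : ℕ, ∀ (k : ℕ) (_ : k₀ ≤ k), (t 0 k (Nat.zero_le k)).range = (t 0 k₀ (Nat.zero_le k₀)).range) ∧
      ∀ p : ℕ, ∃ k₀ : ℕ, ∃ h₀ : p + 1 ≤ k₀, ∀ (k : ℕ) (hk : k₀ ≤ k),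
        (t (p + 1) k (h₀.trans hk)).range ⊓ (t p (p + 1) (Nat.le_succ p)).ker =
          (t (p + 1) k₀ h₀).range ⊓ (t p (p + 1) (Nat.le_succ p)).ker := by
  constructor
  · obtain ⟨k₀, h, hk₀⟩ := hML 0
    refine ⟨k₀, fun k hk => ?_⟩
    exact le_antisymm (range_anti G t t_comp 0 k₀ k _ hk) (hk₀ k _)
  · intro p
    obtain ⟨k₀, h, hk₀⟩ := hML (p + 1)
    refine ⟨k₀, h, fun k hk => ?_⟩
    have : (t (p + 1) k (h.trans hk)).range = (t (p + 1) k₀ h).range :=
      le_antisymm (range_anti G t t_comp (p + 1) k₀ k _ hk) (hk₀ k _)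
    rw [this]

/-- the graded condition implies stabilisation of the images -/
theorem graded_imp
    (h0 : ∃ k₀ : ℕ, ∀ (k : ℕ) (_ : k₀ ≤ k),
      (t 0 k (Nat.zero_le k)).range = (t 0 k₀ (Nat.zero_le k₀)).range)
    (hgr : ∀ p : ℕ, ∃ k₀ : ℕ, ∃ h₀ : p + 1 ≤ k₀, ∀ (k : ℕ) (hk : k₀ ≤ k),
        (t (p + 1) k (h₀.trans hk)).range ⊓ (t p (p + 1) (Nat.le_succ p)).ker =
          (t (p + 1) k₀ h₀).range ⊓ (t p (p + 1) (Nat.le_succ p)).ker) :
    ∀ p, ∃ k₀, ∃ h : p ≤ k₀, ∀ k (hk : k₀ ≤ k), (t p k (h.trans hk)).range = (t p k₀ h).range := by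
  intro p
  induction p with
  | zero =>
    obtain ⟨k₀, hk₀⟩ := h0
    exact ⟨k₀, Nat.zero_le _, fun k hk => hk₀ k hk⟩
  | succ p ih =>
    obtain ⟨k₁, h₁, hk₁⟩ := ih
    obtain ⟨k₂, h₂, hk₂⟩ := hgr p
    refine ⟨max k₁ k₂, h₂.trans (le_max_right _ _), fun k hk => ?_⟩
    have hk1 : k₁ ≤ k := (le_max_left _ _).trans hk
    have hk2 : k₂ ≤ k := (le_max_right _ _).trans hk
    apply le_antisymm (range_anti G t t_comp (p + 1) (max k₁ k₂) k _ hk)
    rintro x ⟨y, rfl⟩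
    -- image of x in G p lies in the image of G k
    have hx1 : t p (p + 1) (Nat.le_succ p) (t (p + 1) (max k₁ k₂) (h₂.trans (le_max_right _ _)) y) ∈
        (t p k (h₁.trans hk1)).range := by
      rw [t_comp, hk₁ k hk1]
      have := range_anti G t t_comp p k₁ (max k₁ k₂) h₁ (le_max_left _ _)
      exact this ⟨y, rfl⟩
    obtain ⟨z, hz⟩ := hx1
    set x := t (p + 1) (max k₁ k₂) (h₂.trans (le_max_right _ _)) y with hx
    set x' := t (p + 1) k (h₂.trans hk2) z with hx'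
    have e1 : t p (p + 1) (Nat.le_succ p) x' = t p k (h₁.trans hk1) z := by
      rw [hx']; exact t_comp _ _ _ _ _ _
    have hdiff_ker : x - x' ∈ (t p (p + 1) (Nat.le_succ p)).ker := by
      rw [AddMonoidHom.mem_ker, map_sub, e1, hz, sub_self]
    have hx'range : x' ∈ (t (p + 1) k₂ h₂).range :=
      range_anti G t t_comp (p + 1) k₂ k h₂ hk2 ⟨z, rfl⟩
    have hxrange : x ∈ (t (p + 1) k₂ h₂).range :=
      range_anti G t t_comp (p + 1) k₂ (max k₁ k₂) h₂ (le_max_right _ _) ⟨y, rfl⟩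
    have hdiff : x - x' ∈ (t (p + 1) k₂ h₂).range ⊓ (t p (p + 1) (Nat.le_succ p)).ker :=
      ⟨AddSubgroup.sub_mem _ hxrange hx'range, hdiff_ker⟩
    rw [← hk₂ k hk2] at hdiff
    have : x = (x - x') + x' := by abel
    rw [this]
    exact AddSubgroup.add_mem _ hdiff.1 ⟨z, rfl⟩

theorem graded_imp_ml
    (h0 : ∃ k₀ : ℕ, ∀ (k : ℕ) (_ : k₀ ≤ k),
      (t 0 k (Nat.zero_le k)).range = (t 0 k₀ (Nat.zero_le k₀)).range)
    (hgr : ∀ p : ℕ, ∃ k₀ : ℕ, ∃ h₀ : p + 1 ≤ k₀, ∀ (k : ℕ) (hk : k₀ ≤ k),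
        (t (p + 1) k (h₀.trans hk)).range ⊓ (t p (p + 1) (Nat.le_succ p)).ker =
          (t (p + 1) k₀ h₀).range ⊓ (t p (p + 1) (Nat.le_succ p)).ker) :
    ∀ p, ∃ k₀, ∃ h : p ≤ k₀, ∀ k (hk : p ≤ k), (t p k₀ h).range ≤ (t p k hk).range := by
  intro p
  obtain ⟨k₀, h, hk₀⟩ := graded_imp G t t_comp h0 hgr p
  refine ⟨k₀, h, fun k hk => ?_⟩
  rcases le_total k₀ k with hkk | hkk
  · rw [← hk₀ k hkk]
  · exact range_anti G t t_comp p k k₀ hk hkk

end abstract

open CategoryTheory in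
/-- Category of abelian groups, system indexed by the natural numbers: Let (A_k)_{k ≥ 0} be an inverse
system of abelian groups. For p ≤ k write Im_k(A_p) for the image of A_k → A_p, and K_p for the
kernel of A_p → A_{p-1} (K_0 = A_0). Then (A_k) satisfies the Mittag-Leffler condition (for each p
the subgroups Im_k(A_p) are eventually constant in k) if and only if for each p the subgroups
Im_k(A_p) ∩ K_p are eventually constant in k. -/
theorem result (F : ℕᵒᵖ ⥤ AddCommGrpCat.{u}) :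
    (F ⋙ forget AddCommGrpCat).IsMittagLeffler ↔
      ((∃ k₀ : ℕ, ∀ (k : ℕ) (hk : k₀ ≤ k),
          (F.map (homOfLE (Nat.zero_le k)).op).hom.range = (F.map (homOfLE (Nat.zero_le k₀)).op).hom.range) ∧
        ∀ p : ℕ, ∃ k₀ : ℕ, ∃ h₀ : p + 1 ≤ k₀, ∀ (k : ℕ) (hk : k₀ ≤ k),
          (F.map (homOfLE (h₀.trans hk)).op).hom.range ⊓ (F.map (homOfLE (Nat.le_succ p)).op).hom.ker =
            (F.map (homOfLE h₀).op).hom.range ⊓ (F.map (homOfLE (Nat.le_succ p)).op).hom.ker) := by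
  -- instantiate the abstract lemmas
  let G : ℕ → Type u := fun n => F.obj (Opposite.op n)
  let t : ∀ m n, m ≤ n → (G n →+ G m) := fun m n h => (F.map (homOfLE h).op).hom
  have t_comp : ∀ (l m n : ℕ) (h₁ : l ≤ m) (h₂ : m ≤ n) (x : G n),
      t l m h₁ (t m n h₂ x) = t l n (h₁.trans h₂) x := by
    intro l m n h₁ h₂ x
    have : (homOfLE (h₁.trans h₂)).op = (homOfLE h₂).op ≫ (homOfLE h₁).op := rfl
    change (F.map (homOfLE h₁).op).hom ((F.map (homOfLE h₂).op).hom x) =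
      (F.map (homOfLE (h₁.trans h₂)).op).hom x
    rw [this, F.map_comp]
    rfl
  have key : ∀ (m n : ℕ) (h : m ≤ n),
      Set.range ((F ⋙ forget AddCommGrpCat).map (homOfLE h).op) = ((t m n h).range : Set (G m)) := by
    intro m n h
    rfl
  have hML : (F ⋙ forget AddCommGrpCat).IsMittagLeffler ↔
      ∀ p, ∃ k₀, ∃ h : p ≤ k₀, ∀ k (hk : p ≤ k), (t p k₀ h).range ≤ (t p k hk).range := by
    constructor
    · intro hF p
      obtain ⟨i, f, hf⟩ := hF (Opposite.op p)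
      have hle : p ≤ i.unop := leOfHom f.unop
      refine ⟨i.unop, hle, fun k hk => ?_⟩
      have hfeq : f = (homOfLE hle).op := Subsingleton.elim _ _
      have := hf (homOfLE hk).op
      rw [hfeq] at this
      rw [key, key] at this
      exact this
    · intro h j
      obtain ⟨k₀, hle, hk₀⟩ := h j.unop
      refine ⟨Opposite.op k₀, (homOfLE hle).op, fun k g => ?_⟩
      have hk : j.unop ≤ k.unop := leOfHom g.unop
      have hgeq : g = (homOfLE hk).op := Subsingleton.elim _ _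
      rw [hgeq]
      have := hk₀ k.unop hk
      change Set.range ((F ⋙ forget AddCommGrpCat).map (homOfLE hle).op) ⊆
        Set.range ((F ⋙ forget AddCommGrpCat).map (homOfLE hk).op)
      rw [key, key]
      exact this
  rw [hML]
  constructor
  · intro h
    exact ml_imp G t t_comp h
  · rintro ⟨h0, hgr⟩
    exact graded_imp_ml G t t_comp h0 hgr

end Groth.Agent.S3532
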