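import Groth.Statements.S3544
import Mathlib
import Groth.Agent.Lib.Helper22.EulerChar2
import Groth.Agent.S2374

set_option autoImplicit false
universe u
open HomAlg3

namespace Groth.Agent.S3544

section helpers
open CategoryTheory CategoryTheory.Limits Groth.Agent.Lib.helper22.EulerChar

theorem main {A : Type u} [Ring A]
    (E : E₂CohomologicalSpectralSequence (ModuleCat.{u} A)) (s : Finset (ℤ × ℤ))
    (hs : ∀ pq : ℤ × ℤ, pq ∉ s → IsZero ((E.page 2).X pq))
    (hfl : ∀ pq : ℤ × ℤ, IsFiniteLength A ((E.page 2).X pq)) (r : ℤ) (hr : 2 ≤ r) :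
    (s.sum fun pq => (((pq.1 + pq.2).negOnePow : ℤˣ) : ℤ) * ((Module.length A ((E.page r hr).X pq)).toNat : ℤ)) =
      s.sum fun pq => (((pq.1 + pq.2).negOnePow : ℤˣ) : ℤ) * ((Module.length A ((E.page 2).X pq)).toNat : ℤ) := by
  suffices H : ∀ r (hr : 2 ≤ r), (∀ pq, pq ∉ s → IsZero ((E.page r hr).X pq)) ∧
      (∀ pq, IsFiniteLength A ((E.page r hr).X pq)) ∧
      ((s.sum fun pq => (((pq.1 + pq.2).negOnePow : ℤˣ) : ℤ) *
          ((Module.length A ((E.page r hr).X pq)).toNat : ℤ)) =
        s.sum fun pq => (((pq.1 + pq.2).negOnePow : ℤˣ) : ℤ) *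
          ((Module.length A ((E.page 2).X pq)).toNat : ℤ)) from (H r hr).2.2
  intro r hr
  induction r, hr using Int.leInduction with
  | base => exact ⟨hs, hfl, rfl⟩
  | succ r hr ih =>
    obtain ⟨hs_r, hfl_r, hsum⟩ := ih
    have hadd := Groth.Agent.S2374.isAdditive (A := A)
    set K := E.page r hr with hK
    have iso : ∀ pq, K.homology pq ≅ (E.page (r + 1) (Int.le_add_one hr)).X pq :=
      fun pq => E.iso r (r + 1) pq rfl hr
    have hHfl : ∀ pq, IsFiniteLength A (K.homology pq) := by
      intro pq
      have h1 : IsFiniteLength A (K.cycles pq) := hadd.mono (K.iCycles pq) (hfl_r pq)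
      have hsurj : Function.Surjective (K.homologyπ pq).hom :=
        (ModuleCat.epi_iff_surjective _).mp inferInstance
      exact IsFiniteLength.of_surjective h1 hsurj
    refine ⟨?_, ?_, ?_⟩
    · intro pq hpq
      have hz : IsZero (K.homology pq) :=
        ShortComplex.isZero_homology_of_isZero_X₂ _ (hs_r pq hpq)
      exact IsZero.of_iso hz (iso pq).symm
    · intro pq
      exact IsFiniteLength.of_injective (hHfl pq)
        ((iso pq).symm.toLinearEquiv.injective)
    · rw [← hsum]
      have := hadd.euler' (⟨r, 1 - r⟩ : ℤ × ℤ) K s hs_r hfl_r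
        (fun pq => (((pq.1 + pq.2).negOnePow : ℤˣ) : ℤ)) (by
          intro pq
          have : (pq + (⟨r, 1 - r⟩ : ℤ × ℤ)).1 + (pq + (⟨r, 1 - r⟩ : ℤ × ℤ)).2 = pq.1 + pq.2 + 1 := by
            simp only [Prod.fst_add, Prod.snd_add]; ring
          rw [this, Int.negOnePow_succ]
          simp)
      simp only [smul_eq_mul] at this
      rw [this]
      apply Finset.sum_congr rfl
      intro pq _
      congr 2
      have := hadd.iso (iso pq)
      exact_mod_cast this.symm


end helpers

open CategoryTheory CategoryTheory.Limits in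
/-- Let E be a cohomological spectral sequence of modules over a ring A, starting at page 2, such that
the E₂ terms have finite length and only finitely many of them (all inside the finite set s of
bidegrees) are nonzero. Then for every r ≥ 2 the Euler–Poincaré characteristic of page r, the
alternating sum over s of (-1)^{p+q} times the length of E_r^{pq}, equals that of page 2. -/
theorem result {A : Type u} [Ring A]
    (E : E₂CohomologicalSpectralSequence (ModuleCat.{u} A)) (s : Finset (ℤ × ℤ))
    (hs : ∀ pq : ℤ × ℤ, pq ∉ s → IsZero ((E.page 2).X pq))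
    (hfl : ∀ pq : ℤ × ℤ, IsFiniteLength A ((E.page 2).X pq)) (r : ℤ) (hr : 2 ≤ r) :
    (s.sum fun pq => (((pq.1 + pq.2).negOnePow : ℤˣ) : ℤ) * ((Module.length A ((E.page r hr).X pq)).toNat : ℤ)) =
      s.sum fun pq => (((pq.1 + pq.2).negOnePow : ℤˣ) : ℤ) * ((Module.length A ((E.page 2).X pq)).toNat : ℤ) := by
  exact main E s hs hfl r hr

end Groth.Agent.S3544
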