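import Groth.Statements.S3547
import Groth.Agent.Lib.Helper28.TildeMul
-- import your own Groth.Agent.* helpers here

set_option autoImplicit false
universe u
open CategoryTheory CategoryTheory.Limits AlgebraicGeometry
open EGA2

namespace Groth.Agent.S3547

/-- Let S be a graded ring, M a graded S-module, X = Proj S and p a point of X. The stalk of M(n)~ at p
is the module of fractions m/f in M_p with m, f homogeneous, f not in p and deg m = deg f + n:
precisely, evaluation at p is a bijection from the stalk at p of the sheaf of local sections of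
M(n)~ onto that module of fractions. -/
theorem result {R A : Type u} [CommRing R] [CommRing A] [Algebra R A] (𝒜 : ℕ → Submodule R A) [GradedAlgebra 𝒜]
    {M : Type u} [AddCommGroup M] [Module R M] [Module A M] [IsScalarTower R A M] (ℳ : ℕ → Submodule R M) [DirectSum.Decomposition ℳ] [SetLike.GradedSMul 𝒜 ℳ] (n : ℤ)
    (p : ProjectiveSpectrum 𝒜) :
    Function.Bijective (TopCat.stalkToFiber (GrTilde.isLocFrac 𝒜 ℳ n) p) := by
  classical
  constructor
  · apply TopCat.stalkToFiber_injective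
    intro U V fU hU fV hV e
    obtain ⟨Va, ma, ia, i, j, m, s, nina, -, wa⟩ := hU ⟨p, U.2⟩
    obtain ⟨Vb, mb, ib, i', j', m', s', ninb, -, wb⟩ := hV ⟨p, V.2⟩
    have e1 := wa ⟨p, ma⟩
    have e2 := wb ⟨p, mb⟩
    have e' : (LocalizedModule.mk m.1 ⟨s.1, nina ⟨p, ma⟩⟩ : GrTilde.LocMod 𝒜 (M := M) p) =
        LocalizedModule.mk m'.1 ⟨s'.1, ninb ⟨p, mb⟩⟩ :=
      e1.symm.trans ((congrArg Subtype.val e).trans e2)
    obtain ⟨u, hu⟩ := LocalizedModule.mk_eq.mp e'
    let W : TopologicalSpace.Opens (ProjectiveSpectrum.top 𝒜) :=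
      ProjectiveSpectrum.basicOpen 𝒜 u.1 ⊓ (Va ⊓ Vb)
    have hpW : p ∈ W := ⟨(ProjectiveSpectrum.mem_basicOpen 𝒜 _ p).mpr u.2, ma, mb⟩
    have hWU : W ≤ U.1 := fun z hz => ia.le hz.2.1
    have hWV : W ≤ V.1 := fun z hz => ib.le hz.2.2
    use ⟨W, hpW⟩
    refine ⟨?_, ?_, ?_⟩
    · change W ⟶ U.val
      exact homOfLE hWU
    · change W ⟶ V.val
      exact homOfLE hWV
    intro w
    apply Subtype.ext
    have hwu : u.1 ∉ w.1.asHomogeneousIdeal := (ProjectiveSpectrum.mem_basicOpen 𝒜 _ w.1).mp w.2.1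
    refine (wa ⟨w.1, w.2.2.1⟩).trans (Eq.trans ?_ (wb ⟨w.1, w.2.2.2⟩).symm)
    exact LocalizedModule.mk_eq.mpr ⟨⟨u.1, hwu⟩, hu⟩
  · apply TopCat.stalkToFiber_surjective
    intro t
    obtain ⟨i, j, m, s, hs, hdeg, ht⟩ :=
      Groth.Agent.Lib.helper28.TildeMul.exists_fraction_of_mem 𝒜 ℳ n p t.1 t.2
    let U : TopologicalSpace.Opens (ProjectiveSpectrum.top 𝒜) := ProjectiveSpectrum.basicOpen 𝒜 s.1
    have hpU : p ∈ U := (ProjectiveSpectrum.mem_basicOpen 𝒜 _ p).mpr hs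
    have hsU : ∀ x : U, s.1 ∉ x.1.asHomogeneousIdeal := fun x =>
      (ProjectiveSpectrum.mem_basicOpen 𝒜 _ x.1).mp x.2
    rcases hdeg with hdeg | hm
    · refine ⟨⟨U, hpU⟩, (Groth.Agent.Lib.helper28.TildeQCoh.fracSect 𝒜 ℳ n U m s hsU hdeg).1,
        (Groth.Agent.Lib.helper28.TildeQCoh.fracSect 𝒜 ℳ n U m s hsU hdeg).2, ?_⟩
      exact Subtype.ext ht.symm
    · refine ⟨⟨U, hpU⟩, (0 : GrTilde.sect 𝒜 ℳ n (Opposite.op U)).1,
        (0 : GrTilde.sect 𝒜 ℳ n (Opposite.op U)).2, ?_⟩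
      apply Subtype.ext
      rw [ht, hm, LocalizedModule.zero_mk]
      rfl

end Groth.Agent.S3547
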