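import Groth.Statements.S3548
import Mathlib

set_option autoImplicit false
universe u
open CategoryTheory CategoryTheory.Limits AlgebraicGeometry
open EGA2

namespace Groth.Agent.S3548

/-- Let S be a graded ring, M a graded S-module and X = Proj S. If for every z in M and every
homogeneous f of positive degree some power of f annihilates z, then the O_X-module M~ is zero. -/
theorem result {R A : Type u} [CommRing R] [CommRing A] [Algebra R A] (𝒜 : ℕ → Submodule R A) [GradedAlgebra 𝒜]
    {M : Type u} [AddCommGroup M] [Module R M] [Module A M] [IsScalarTower R A M] (ℳ : ℕ → Submodule R M) [DirectSum.Decomposition ℳ] [SetLike.GradedSMul 𝒜 ℳ]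
    (h : ∀ (z : M) (d : ℕ) (f : A), 0 < d → f ∈ 𝒜 d → ∃ k : ℕ, f ^ k • z = 0) :
    IsZero (GrTilde.tilde 𝒜 ℳ 0) := by
  classical
  have hsub : ∀ x : ProjectiveSpectrum 𝒜, Subsingleton (GrTilde.LocMod 𝒜 (M := M) x) := by
    intro x
    obtain ⟨f, m, f_deg, hm, hx⟩ : ∃ (f : A) (m : ℕ) (_ : f ∈ 𝒜 m) (_ : 0 < m),
        f ∉ x.asHomogeneousIdeal := by
      by_contra!
      refine x.not_irrelevant_le fun z hz ↦ ?_
      rw [← DirectSum.sum_support_decompose 𝒜 z]
      exact x.asHomogeneousIdeal.toIdeal.sum_mem fun k hk ↦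
        this _ k (SetLike.coe_mem _) <| by_contra <| by aesop
    have hz : ∀ (z : M) (s : x.asHomogeneousIdeal.toIdeal.primeCompl),
        LocalizedModule.mk z s = (0 : GrTilde.LocMod 𝒜 (M := M) x) := by
      intro z s
      obtain ⟨k, hk⟩ := h z m f hm f_deg
      rw [← LocalizedModule.zero_mk s, LocalizedModule.mk_eq]
      have hfk : f ^ k ∈ x.asHomogeneousIdeal.toIdeal.primeCompl := by
        intro hmem
        exact hx (x.isPrime.mem_of_pow_mem k hmem)
      refine ⟨⟨f ^ k, hfk⟩, ?_⟩
      rw [smul_zero, smul_zero]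
      change (f ^ k) • (s : A) • z = 0
      rw [smul_comm, hk, smul_zero]
    refine ⟨fun a b => ?_⟩
    induction a using LocalizedModule.induction_on with
    | h ma sa =>
      induction b using LocalizedModule.induction_on with
      | h mb sb => rw [hz, hz]
  have hsub' : ∀ x : ProjectiveSpectrum 𝒜, Subsingleton (GrTilde.tildeAt 𝒜 ℳ 0 x) := fun x =>
    ⟨fun a b => Subtype.ext (Subsingleton.elim _ _)⟩
  rw [IsZero.iff_id_eq_zero]
  have hsect : ∀ U, Subsingleton (GrTilde.sect 𝒜 ℳ 0 U) := fun U =>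
    ⟨fun a b => Subtype.ext (funext fun x => @Subsingleton.elim _ (hsub' x.1) _ _)⟩
  ext U s
  exact @Subsingleton.elim _ (hsect (Opposite.op U)) _ _

end Groth.Agent.S3548
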