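import Groth.Statements.S3549
import Groth.Agent.Lib.Helper28.TwistAll
import Groth.Agent.Lib.Helper28.TildeQCoh
-- import your own Groth.Agent.* helpers here

set_option autoImplicit false
universe u
open CategoryTheory CategoryTheory.Limits AlgebraicGeometry
open EGA2

namespace Groth.Agent.S3549

/-- Let S be a graded ring whose irrelevant ideal S_+ is generated by the degree-one elements, M a
graded S-module and X = Proj S. If the O_X-module M~ is zero, then for every z in M and every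
homogeneous f of positive degree some power of f annihilates z. -/
theorem result {R A : Type u} [CommRing R] [CommRing A] [Algebra R A] (𝒜 : ℕ → Submodule R A) [GradedAlgebra 𝒜]
    (hgen : (HomogeneousIdeal.irrelevant 𝒜).toIdeal = Ideal.span (𝒜 1 : Set A))
    {M : Type u} [AddCommGroup M] [Module R M] [Module A M] [IsScalarTower R A M] (ℳ : ℕ → Submodule R M) [DirectSum.Decomposition ℳ] [SetLike.GradedSMul 𝒜 ℳ]
    (h : IsZero (GrTilde.tilde 𝒜 ℳ 0)) (z : M) (d : ℕ) (f : A) (hd : 0 < d) (hf : f ∈ 𝒜 d) :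
    ∃ k : ℕ, f ^ k • z = 0 := by
  classical
  have hcov := Groth.Agent.Lib.helper28.TwistAll.hcov_of_hgen 𝒜 hgen
  have hzero : ∀ (U : (Proj 𝒜).Opens) (s : Γ(GrTilde.tilde 𝒜 ℳ 0, U)), s = 0 := by
    intro U s
    have h1 : 𝟙 (GrTilde.tilde 𝒜 ℳ 0) = 0 := h.eq_of_src _ _
    have h2 : (Scheme.Modules.Hom.app (𝟙 (GrTilde.tilde 𝒜 ℳ 0)) U).hom s =
        (Scheme.Modules.Hom.app (0 : GrTilde.tilde 𝒜 ℳ 0 ⟶ GrTilde.tilde 𝒜 ℳ 0) U).hom s := by
      rw [h1]
    exact h2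
  have hhom : ∀ (i : ℕ) (w : M), w ∈ ℳ i → ∃ N : ℕ, f ^ N • w = 0 := by
    intro i w hw
    refine Groth.Agent.Lib.helper28.GrFrac.exists_pow_smul_eq_zero 𝒜 ℳ hd hf hw fun y hfy => ?_
    obtain ⟨g, hg, hgy⟩ := hcov y
    let U : TopologicalSpace.Opens (ProjectiveSpectrum.top 𝒜) := ProjectiveSpectrum.basicOpen 𝒜 g
    have hgi : g ^ i ∈ 𝒜 i := Groth.Agent.Lib.helper28.TwistTensor.pow_mem_one hg i
    have hgU : ∀ x : U, g ^ i ∉ x.1.asHomogeneousIdeal := fun x hmem =>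
      (ProjectiveSpectrum.mem_basicOpen 𝒜 g x.1).mp x.2 (x.1.isPrime.mem_of_pow_mem i hmem)
    have hyU : y ∈ U := (ProjectiveSpectrum.mem_basicOpen 𝒜 g y).mpr hgy
    let s := Groth.Agent.Lib.helper28.TildeQCoh.fracSect 𝒜 ℳ 0 U (⟨w, hw⟩ : ℳ i)
      (⟨g ^ i, hgi⟩ : 𝒜 i) hgU (by simp)
    have hs : s = 0 := hzero U s
    have hval := congrArg (fun t : GrTilde.sect 𝒜 ℳ 0 (Opposite.op U) =>
      ((t.1 ⟨y, hyU⟩ : GrTilde.tildeAt 𝒜 ℳ 0 y) : GrTilde.LocMod 𝒜 (M := M) y)) hs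
    have hval' : (LocalizedModule.mk w ⟨g ^ i, hgU ⟨y, hyU⟩⟩ : GrTilde.LocMod 𝒜 (M := M) y) = 0 :=
      hval
    obtain ⟨u, hu⟩ := (Groth.Agent.Lib.helper28.TildeQCoh.mk_eq_zero_iff _ _).mp hval'
    exact ⟨u.1, u.2, hu⟩
  choose Nf hNf using fun i : ℕ => hhom i (DirectSum.decompose ℳ z i : M) (SetLike.coe_mem _)
  refine ⟨(DirectSum.decompose ℳ z).support.sup Nf, ?_⟩
  have hz : f ^ ((DirectSum.decompose ℳ z).support.sup Nf) • z =
      f ^ ((DirectSum.decompose ℳ z).support.sup Nf) •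
        ∑ i ∈ (DirectSum.decompose ℳ z).support, (DirectSum.decompose ℳ z i : M) := by
    rw [DirectSum.sum_support_decompose ℳ z]
  rw [hz, Finset.smul_sum]
  refine Finset.sum_eq_zero fun i hi => ?_
  have hle : Nf i ≤ (DirectSum.decompose ℳ z).support.sup Nf := Finset.le_sup hi
  obtain ⟨c, hc⟩ := Nat.exists_eq_add_of_le hle
  rw [hc, add_comm, pow_add, mul_smul, hNf i, smul_zero]

end Groth.Agent.S3549
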