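import Groth.Statements.S3555
import Mathlib
-- import your own Groth.Agent.* helpers here

set_option autoImplicit false
universe u
open CategoryTheory CategoryTheory.Limits AlgebraicGeometry
open EGA2

namespace Groth.Agent.S3555

/-- Let S be a graded ring whose irrelevant ideal S_+ is generated by the degree-one elements, X = Proj
S, and f homogeneous of degree d > 0. Then D_+(f) is the set of points p of X at which the global
section f/1 of O_X(d) does not vanish, i.e. at which its value generates the module of degree-d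
fractions at p. -/
theorem result {R A : Type u} [CommRing R] [CommRing A] [Algebra R A] (𝒜 : ℕ → Submodule R A) [GradedAlgebra 𝒜]
    (hgen : (HomogeneousIdeal.irrelevant 𝒜).toIdeal = Ideal.span (𝒜 1 : Set A))
    {d : ℕ} (hd : 0 < d) (f : 𝒜 d) (p : ProjectiveSpectrum 𝒜) :
    p ∈ ProjectiveSpectrum.basicOpen 𝒜 (f : A) ↔
      Submodule.span (Twist.A0 𝒜 p) {(Twist.globalOf 𝒜 f).1 ⟨p, trivial⟩} = ⊤ := by
  classical
  set v : Twist.twistAt 𝒜 (d : ℤ) p := (Twist.globalOf 𝒜 f).1 ⟨p, trivial⟩ with hv
  have hvval : (v : Twist.Loc 𝒜 p) = Localization.mk f.1 1 := rfl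
  constructor
  · intro hfp
    have hfp' : (f : A) ∉ p.asHomogeneousIdeal := (ProjectiveSpectrum.mem_basicOpen 𝒜 _ p).mp hfp
    rw [eq_top_iff]
    rintro ⟨q, hq⟩ -
    induction hq using Submodule.span_induction with
    | mem z hz =>
      obtain ⟨i, j, a, s, hs, hij, rfl⟩ := hz
      have hsf : s.1 * f.1 ∈ p.asHomogeneousIdeal.toIdeal.primeCompl := fun hmem =>
        (p.isPrime.mem_or_mem hmem).elim hs hfp'
      have hdeg : j + d = i := by omega
      let c : Twist.A0 𝒜 p := HomogeneousLocalization.mk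
        ⟨i, a, ⟨s.1 * f.1, hdeg ▸ SetLike.mul_mem_graded s.2 f.2⟩, hsf⟩
      have hc : c • v = ⟨Localization.mk a.1 ⟨s.1, hs⟩, Submodule.subset_span ⟨i, j, a, s, hs, hij, rfl⟩⟩ := by
        apply Subtype.ext
        rw [Twist.coe_smul_val, hvval]
        change Localization.mk a.1 ⟨s.1 * f.1, hsf⟩ * Localization.mk f.1 1 = _
        rw [Localization.mk_mul, Localization.mk_eq_mk_iff, Localization.r_iff_exists]
        refine ⟨1, ?_⟩
        simp only [OneMemClass.coe_one, one_mul, Submonoid.coe_mul, mul_one]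
        ring
      rw [← hc]
      exact Submodule.smul_mem _ c (Submodule.subset_span rfl)
    | zero => exact zero_mem _
    | add x y hx hy hx' hy' => exact add_mem hx' hy'
    | smul c x hx hx' => exact Submodule.smul_mem _ c hx'
  · intro htop
    by_contra hfp
    have hfp' : (f : A) ∈ p.asHomogeneousIdeal := by
      by_contra h
      exact hfp ((ProjectiveSpectrum.mem_basicOpen 𝒜 _ p).mpr h)
    -- a degree one element outside p
    have hg : ∃ g : A, g ∈ 𝒜 1 ∧ g ∉ p.asHomogeneousIdeal := by
      by_contra hcon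
      simp only [not_exists, not_and, not_not] at hcon
      apply p.not_irrelevant_le
      intro z hz
      have hz' : z ∈ (HomogeneousIdeal.irrelevant 𝒜).toIdeal := hz
      rw [hgen] at hz'
      have hle : Ideal.span (𝒜 1 : Set A) ≤ p.asHomogeneousIdeal.toIdeal :=
        Ideal.span_le.mpr fun g hg => hcon g hg
      exact hle hz'
    obtain ⟨g, hg1, hgp⟩ := hg
    have hgd : g ^ d ∈ 𝒜 d := by
      have := SetLike.pow_mem_graded d hg1
      simpa [smul_eq_mul] using this
    have h1p : (1 : A) ∈ p.asHomogeneousIdeal.toIdeal.primeCompl := fun h =>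
      p.isPrime.ne_top ((Ideal.eq_top_iff_one _).mpr h)
    let w : Twist.twistAt 𝒜 (d : ℤ) p := ⟨Localization.mk (g ^ d) ⟨1, h1p⟩,
      Submodule.subset_span ⟨d, 0, ⟨g ^ d, hgd⟩, ⟨1, SetLike.GradedOne.one_mem⟩, h1p, by simp, rfl⟩⟩
    have hw : w ∈ Submodule.span (Twist.A0 𝒜 p) {v} := by rw [htop]; trivial
    obtain ⟨c, hc⟩ := Submodule.mem_span_singleton.mp hw
    have hc' : c.val * Localization.mk f.1 1 = Localization.mk (g ^ d) ⟨1, h1p⟩ := by
      have := congrArg Subtype.val hc
      rw [Twist.coe_smul_val, hvval] at this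
      exact this
    have hunit : IsUnit (Localization.mk (g ^ d) ⟨1, h1p⟩ : Twist.Loc 𝒜 p) := by
      rw [Localization.mk_eq_mk', IsLocalization.AtPrime.isUnit_mk'_iff]
      exact fun h => hgp (p.isPrime.mem_of_pow_mem d h)
    rw [← hc'] at hunit
    have hunit2 : IsUnit (Localization.mk f.1 1 : Twist.Loc 𝒜 p) := isUnit_of_mul_isUnit_right hunit
    rw [Localization.mk_eq_mk', IsLocalization.AtPrime.isUnit_mk'_iff] at hunit2
    exact hunit2 hfp'

end Groth.Agent.S3555
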