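import Groth.Statements.S3556
import Mathlib
-- import your own Groth.Agent.* helpers here

set_option autoImplicit false
set_option backward.isDefEq.respectTransparency false
set_option backward.isDefEq.respectTransparency.types false
universe u
open CategoryTheory CategoryTheory.Limits AlgebraicGeometry
open EGA2

namespace Groth.Agent.S3556

/-- Let S be a graded ring which is essentially reduced, i.e. its irrelevant ideal S_+ contains no
nonzero nilpotent element. Then Proj S is a reduced scheme. -/
theorem result {R A : Type u} [CommRing R] [CommRing A] [Algebra R A] (𝒜 : ℕ → Submodule R A) [GradedAlgebra 𝒜]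
    (hred : ∀ f ∈ (HomogeneousIdeal.irrelevant 𝒜).toIdeal, IsNilpotent f → f = 0) :
    AlgebraicGeometry.IsReduced (Proj 𝒜) := by
  open HomogeneousLocalization in
  have key : ∀ (i : ℕ) (_ : 0 < i) (s : A) (_ : s ∈ 𝒜 i), _root_.IsReduced (Away 𝒜 s) := by
    intro i hi s hs
    constructor
    intro x hx
    obtain ⟨n, a, ha, rfl⟩ := Away.mk_surjective 𝒜 hs x
    obtain ⟨m, hm⟩ := hx
    rw [HomogeneousLocalization.ext_iff_val, val_pow, Away.val_mk, val_zero, Localization.mk_pow,
      Localization.mk_eq_mk', IsLocalization.mk'_eq_zero_iff] at hm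
    obtain ⟨⟨c, k, rfl⟩, hc⟩ := hm
    simp only at hc
    have hnil : IsNilpotent (s * a) := by
      refine ⟨m + k, ?_⟩
      rw [mul_pow]
      calc s ^ (m + k) * a ^ (m + k) = s ^ m * a ^ k * (s ^ k * a ^ m) := by
            rw [pow_add, pow_add]; ring
        _ = 0 := by rw [hc, mul_zero]
    have hmem : s * a ∈ (HomogeneousIdeal.irrelevant 𝒜).toIdeal :=
      Ideal.mul_mem_right _ _ (HomogeneousIdeal.mem_irrelevant_of_mem 𝒜 hi hs)
    have h0 := hred _ hmem hnil
    rw [HomogeneousLocalization.ext_iff_val, Away.val_mk, val_zero, Localization.mk_eq_mk',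
      IsLocalization.mk'_eq_zero_iff]
    exact ⟨⟨s, 1, pow_one s⟩, h0⟩
  have : ∀ i, AlgebraicGeometry.IsReduced ((Proj.affineOpenCover 𝒜).openCover.X i) := by
    intro s
    have := key _ s.1.2 _ s.2.2
    change AlgebraicGeometry.IsReduced (Spec (.of (Away 𝒜 (s.2 : A))))
    infer_instance
  exact IsReduced.of_openCover (X := Proj 𝒜) (Proj.affineOpenCover 𝒜).openCover

end Groth.Agent.S3556
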