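import Groth.Statements.S3558
import Mathlib
import Groth.Agent.Lib.Helper15.ProjPoint

set_option autoImplicit false
universe u
open CategoryTheory CategoryTheory.Limits AlgebraicGeometry
open EGA2

namespace Groth.Agent.S3558

/-- For a graded ring S, Proj S is empty if and only if every element of the irrelevant ideal S_+ is
nilpotent. -/
theorem result {R A : Type u} [CommRing R] [CommRing A] [Algebra R A] (𝒜 : ℕ → Submodule R A) [GradedAlgebra 𝒜] :
    IsEmpty (Proj 𝒜) ↔ ∀ f ∈ (HomogeneousIdeal.irrelevant 𝒜).toIdeal, IsNilpotent f := by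
  constructor
  · intro hempty f hf
    by_contra hnil
    have hrad : f ∉ (⊥ : Ideal A).radical := by
      intro h
      exact hnil (Ideal.mem_radical_iff.1 h |>.imp fun n hn => by simpa using hn)
    obtain ⟨x, -⟩ := Groth.Agent.Lib.helper15.exists_projectiveSpectrum_of_not_mem_radical 𝒜 ⊥
      (Ideal.IsHomogeneous.bot 𝒜) f hf hrad
    exact hempty.false x
  · intro h
    refine ⟨fun x => ?_⟩
    have x' : ProjectiveSpectrum 𝒜 := x
    apply x'.not_irrelevant_le
    intro f hf
    obtain ⟨n, hn⟩ := h f hf
    have : f ^ n ∈ x'.asHomogeneousIdeal.toIdeal := by rw [hn]; exact Ideal.zero_mem _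
    exact x'.isPrime.mem_of_pow_mem n this

end Groth.Agent.S3558
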