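import Groth.Statements.S3560
import Mathlib
import Groth.Agent.Lib.Helper6.SNat2
import Groth.Agent.S3558

set_option autoImplicit false
universe u
open CategoryTheory CategoryTheory.Limits AlgebraicGeometry
open EGA2

namespace Groth.Agent.S3560



/-- Let S be a graded ring whose irrelevant ideal S_+ is finitely generated. Then Proj S is empty if and
only if there is n such that S_k = 0 for all k ≥ n. -/
theorem result {R A : Type u} [CommRing R] [CommRing A] [Algebra R A] (𝒜 : ℕ → Submodule R A) [GradedAlgebra 𝒜]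
    (hfg : (HomogeneousIdeal.irrelevant 𝒜).toIdeal.FG) :
    IsEmpty (Proj 𝒜) ↔ ∃ n : ℕ, ∀ k : ℕ, n ≤ k → 𝒜 k = ⊥ := by
  classical
  rw [Groth.Agent.S3558.result 𝒜]
  have hmem : ∀ a : A, a ∈ (HomogeneousIdeal.irrelevant 𝒜).toIdeal ↔
      (DirectSum.decompose 𝒜 a 0 : A) = 0 := by
    intro a
    rw [HomogeneousIdeal.mem_iff, HomogeneousIdeal.mem_irrelevant_iff, GradedRing.proj_apply]
  constructor
  · intro hnil
    obtain ⟨S, hS⟩ := hfg
    have h1 : ∀ s ∈ S, (DirectSum.decompose 𝒜 s 0 : A) = 0 := by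
      intro s hs
      rw [← hmem, ← hS]
      exact Ideal.subset_span (Finset.mem_coe.mpr hs)
    have h2 : ∀ m, 1 ≤ m → ∀ a ∈ 𝒜 m, a ∈ Ideal.span (S : Set A) := by
      intro m hm a ha
      rw [hS, hmem]
      exact DirectSum.decompose_of_mem_ne 𝒜 ha (by omega)
    obtain ⟨G, d, hG, hd1, hgen⟩ := Groth.Agent.Lib.Helper6.SNat.homogenize 𝒜 S h1 h2
    have hGle : Ideal.span (G : Set A) ≤ (HomogeneousIdeal.irrelevant 𝒜).toIdeal := by
      refine Ideal.span_le.mpr fun f hf => ?_
      rw [SetLike.mem_coe, hmem]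
      exact DirectSum.decompose_of_mem_ne 𝒜 (hG f hf) (by have := hd1 f hf; omega)
    have hrad : Ideal.span (G : Set A) ≤ (⊥ : Ideal A).radical := by
      intro x hx
      obtain ⟨n, hn⟩ := hnil x (hGle hx)
      exact ⟨n, Ideal.mem_bot.mpr hn⟩
    obtain ⟨m, hm⟩ := Ideal.exists_pow_le_of_le_radical_of_fg hrad ⟨G, rfl⟩
    set q : ℕ := ∏ f ∈ G, d f with hq
    have hqpos : 0 < q := Finset.prod_pos fun f hf => hd1 f hf
    have hdle : ∀ f ∈ G, d f ≤ q := fun f hf =>
      Nat.le_of_dvd hqpos (Finset.dvd_prod_of_mem d hf)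
    have claim : ∀ k N, k * q ≤ N → ∀ a ∈ 𝒜 N, a ∈ Ideal.span (G : Set A) ^ k := by
      intro k
      induction k with
      | zero =>
        intro N _ a _
        rw [pow_zero, Ideal.one_eq_top]
        trivial
      | succ k ih =>
        intro N hN a ha
        have hN1 : 1 ≤ N := by
          have : q ≤ (k+1) * q := Nat.le_mul_of_pos_left q (Nat.succ_pos k)
          omega
        obtain ⟨b, hb, -, hab⟩ := Groth.Agent.Lib.Helper6.SNat.exists_homogeneous_coeffs 𝒜 G d hG
          ha (hgen N hN1 a ha)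
        rw [hab, pow_succ]
        refine Ideal.sum_mem _ fun f hf => Ideal.mul_mem_mul (ih (N - d f) ?_ (b f) (hb f hf))
          (Ideal.subset_span (Finset.mem_coe.mpr hf))
        have := hdle f hf
        rw [Nat.succ_mul] at hN
        omega
    refine ⟨m * q, fun k hk => ?_⟩
    rw [eq_bot_iff]
    intro a ha
    have h := hm (claim m k hk a ha)
    exact (Submodule.mem_bot R).mpr (Ideal.mem_bot.mp h)
  · rintro ⟨n, hn⟩ f hf
    rw [hmem] at hf
    rw [← DirectSum.sum_support_decompose 𝒜 f]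
    refine isNilpotent_sum fun i hi => ?_
    have hi0 : i ≠ 0 := by
      rintro rfl
      rw [DFinsupp.mem_support_iff] at hi
      exact hi (Subtype.ext hf)
    refine ⟨n + 1, ?_⟩
    have h := SetLike.pow_mem_graded (n+1) (SetLike.coe_mem (DirectSum.decompose 𝒜 f i))
    have hle : n ≤ (n + 1) • i := by
      rw [smul_eq_mul]
      exact Nat.le_trans (Nat.le_succ n) (Nat.le_mul_of_pos_right _ (Nat.pos_of_ne_zero hi0))
    rw [hn _ hle] at h
    exact (Submodule.mem_bot R).mp h


end Groth.Agent.S3560
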