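import Groth.Statements.S3565
import Mathlib
import Groth.Agent.Lib.Helper12.NormSec6
import Groth.Agent.Lib.Helper12.PullAmpleRel
import Groth.Agent.Lib.Helper11.PullUnit2
import Groth.Agent.Lib.Helper16.FLF5
import Groth.Agent.S2355

set_option autoImplicit false
set_option linter.style.haveILetI false
universe u
open CategoryTheory CategoryTheory.Limits AlgebraicGeometry
open EGA2

namespace Groth.Agent.S3565

/-- Let f : X → Y be a quasi-compact morphism, g : X' → X a finite surjective morphism such that the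
direct image of the structure sheaf of X' is a finite locally free O_X-module, and L an invertible
O_X-module. Then L is ample relative to f if and only if its inverse image on X' is ample relative
to f ∘ g. -/
theorem result {X X' Y : Scheme.{u}} (f : X ⟶ Y) [QuasiCompact f]
    (g : X' ⟶ X) [IsFinite g] [Surjective g]
    (hfree : FlatMod.IsFinLocFree ((Coh.push g).obj (Coh.structureModule X')))
    (L : X.Modules) (hL : PicF.IsInvertible L) :
    RelAmple.IsRelAmple f L ↔ RelAmple.IsRelAmple (g ≫ f) ((Scheme.Modules.pullback g).obj L) := by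
  constructor
  · intro h
    refine Groth.Agent.S2355.result f g ⟨inferInstance, fun V hV => ?_⟩ L h
    haveI : IsAffine (↑(g ⁻¹ᵁ V) : Scheme.{u}) := hV.preimage g
    infer_instance
  · intro h
    refine ⟨inferInstance, fun V => ?_⟩
    have hV := h.2 V
    haveI hc : CompactSpace (↑(f ⁻¹ᵁ V.1) : Scheme.{u}) :=
      isCompact_iff_compactSpace.mp (QuasiCompact.isCompact_preimage (f := f) _ V.1.2
        V.2.isCompact)
    haveI : Surjective (g ∣_ (f ⁻¹ᵁ V.1)) :=
      IsZariskiLocalAtTarget.restrict (P := @Surjective) inferInstance (f ⁻¹ᵁ V.1)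
    have hfree' : FlatMod.IsFinLocFree ((Scheme.Modules.pushforward (g ∣_ (f ⁻¹ᵁ V.1))).obj
        (Coh.structureModule (↑(g ⁻¹ᵁ (f ⁻¹ᵁ V.1)) : Scheme.{u}))) := by
      have h1 := Groth.Agent.Lib.helper16.FLF.isFinLocFree_restrict (f ⁻¹ᵁ V.1).ι hfree
      exact Groth.Agent.Lib.helper16.FLF.isFinLocFree_of_iso
        (Groth.Agent.Lib.helper11.PullUnit.restrictPushforwardIso g (f ⁻¹ᵁ V.1) _ ≪≫
        (Scheme.Modules.pushforward (g ∣_ (f ⁻¹ᵁ V.1))).mapIso
          (Scheme.Modules.restrictUnitIso (g ⁻¹ᵁ (f ⁻¹ᵁ V.1)).ι)) h1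
    have hL' : PicF.IsInvertible (L.restrict (f ⁻¹ᵁ V.1).ι) :=
      Groth.Agent.Lib.helper11.InvMod.isInvertible_restrict (f ⁻¹ᵁ V.1).ι hL
    refine Groth.Agent.Lib.Helper12.NormSec.isAmple_of_isAmple_pullback (g ∣_ (f ⁻¹ᵁ V.1))
      hfree' hL' ?_
    exact Groth.Agent.Lib.helper12.AmplePow.isAmple_of_iso
      (Groth.Agent.Lib.helper12.PullAmpleRel.pullRestrictIso (g ⁻¹ᵁ (f ⁻¹ᵁ V.1)).ι g
        (g ∣_ (f ⁻¹ᵁ V.1)) (f ⁻¹ᵁ V.1).ι (morphismRestrict_ι g (f ⁻¹ᵁ V.1)).symm L) hV

end Groth.Agent.S3565
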