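import Groth.Statements.S3567
-- import your own Groth.Agent.* helpers here

set_option autoImplicit false
universe u
open CategoryTheory CategoryTheory.Limits AlgebraicGeometry
open EGA2

namespace Groth.Agent.S3567

open TopologicalSpace Opposite

section Uniq

variable {U V : Scheme.{u}} (h : U ⟶ V) [Surjective h] [IsIso h.c] {W : Scheme.{u}}

theorem aux2 {𝒞 : Type*} [Category 𝒞] {A B C D : 𝒞} (a : A ⟶ B) (m : B ⟶ C) (i : C ⟶ D) (j : D ⟶ C)
    (hij : i ≫ j = 𝟙 C) : ((a ≫ m) ≫ i) ≫ j = a ≫ m := by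
  simp only [Category.assoc]
  rw [hij, Category.comp_id]

theorem uniq (v₁ v₂ : V ⟶ W) (hv : h ≫ v₁ = h ≫ v₂) : v₁ = v₂ := by
  have hbase : v₁.base = v₂.base := by
    ext y
    obtain ⟨x, rfl⟩ := h.surjective y
    exact congrArg (fun f : U ⟶ W => f.base x) hv
  refine Scheme.Hom.ext hbase (fun W' => ?_)
  have e : h ⁻¹ᵁ v₁ ⁻¹ᵁ W' = h ⁻¹ᵁ v₂ ⁻¹ᵁ W' := by rw [hbase]
  have h1 : v₁.app W' ≫ h.app (v₁ ⁻¹ᵁ W') =
      (v₂.app W' ≫ h.app (v₂ ⁻¹ᵁ W')) ≫ U.presheaf.map (eqToHom e).op := by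
    have := Scheme.Hom.congr_app hv W'
    rw [Scheme.Hom.comp_app, Scheme.Hom.comp_app] at this
    exact this
  have : IsIso (h.app (v₂ ⁻¹ᵁ W')) := by
    have : IsIso (h.c.app (op (v₂ ⁻¹ᵁ W'))) := inferInstance
    exact this
  rw [← cancel_mono (h.app (v₂ ⁻¹ᵁ W'))]
  rw [Category.assoc, Scheme.Hom.naturality, ← Category.assoc, h1]
  refine aux2 _ _ _ _ ?_
  rw [← CategoryTheory.Functor.map_comp]
  exact (congrArg U.presheaf.map (Subsingleton.elim _ _)).trans (U.presheaf.map_id _)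

end Uniq

section Exist

variable {U V : Scheme.{u}} (h : U ⟶ V) [Surjective h] [IsIso h.c]
  (hq : Topology.IsQuotientMap h.base) {W : Scheme.{u}} (u : U ⟶ W)
  (hu : ∀ x y : U, h.base x = h.base y → u.base x = u.base y)

/-- the base map -/
noncomputable def vb : (V : TopCat) ⟶ (W : TopCat) :=
  TopCat.ofHom (hq.lift u.base.hom (fun x y hxy => hu x y hxy))

theorem hb : h.base ≫ vb h hq u hu = u.base := by
  ext x
  exact congrFun (congrArg DFunLike.coe (hq.lift_comp u.base.hom (fun x y hxy => hu x y hxy))) x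

/-- the sheaf map -/
noncomputable def vc : W.presheaf ⟶ (vb h hq u hu) _* V.presheaf :=
  u.c ≫ (TopCat.Presheaf.pushforwardEq (hb h hq u hu).symm U.presheaf).hom ≫
    (TopCat.Presheaf.Pushforward.comp h.base (vb h hq u hu) U.presheaf).hom ≫
    (TopCat.Presheaf.pushforward _ (vb h hq u hu)).map (inv h.c)

theorem vc_app (W' : (Opens W)ᵒᵖ) :
    (vc h hq u hu).app W' = u.c.app W' ≫
      U.presheaf.map (eqToHom (by rw [hb h hq u hu] : (Opens.map u.base).op.obj W' =
        (Opens.map (h.base ≫ vb h hq u hu)).op.obj W')) ≫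
      (inv h.c).app (op ((Opens.map (vb h hq u hu)).obj W'.unop)) := by
  simp only [vc, TopCat.Presheaf.comp_app, TopCat.Presheaf.pushforwardEq_hom_app,
    TopCat.Presheaf.Pushforward.comp_hom_app, Category.id_comp]
  rfl

noncomputable def vP : V.toPresheafedSpace ⟶ W.toPresheafedSpace :=
  ⟨vb h hq u hu, vc h hq u hu⟩

theorem aux {𝒞 : Type*} [Category 𝒞] {A B C D : 𝒞} (a : A ⟶ B) (m : B ⟶ C) (i : C ⟶ D) (j : D ⟶ C)
    (m' : C ⟶ B) (hij : i ≫ j = 𝟙 C) (hm : m ≫ m' = 𝟙 B) : ((a ≫ m ≫ i) ≫ j) ≫ m' = a := by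
  simp only [Category.assoc]
  rw [reassoc_of% hij, hm, Category.comp_id]

theorem comp_vP : h.toPshHom ≫ vP h hq u hu = u.toPshHom := by
  refine PresheafedSpace.ext _ _ (hb h hq u hu) ?_
  refine TopCat.Presheaf.ext (fun W' => ?_)
  have e1 : (inv h.c).app (op ((Opens.map (vb h hq u hu)).obj W')) ≫
      h.c.app (op ((Opens.map (vb h hq u hu)).obj W')) = 𝟙 _ := by
    rw [← TopCat.Presheaf.comp_app, IsIso.inv_hom_id]
    rfl
  have e3 := vc_app h hq u hu (op W')
  have e4 : U.presheaf.map (eqToHom (by rw [hb h hq u hu] :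
        (Opens.map u.base).op.obj (op W') = (Opens.map (h.base ≫ vb h hq u hu)).op.obj (op W'))) ≫
      (Functor.whiskerRight (eqToHom (by rw [hb h hq u hu] :
        (Opens.map (h.base ≫ vb h hq u hu)).op = (Opens.map u.base).op)) U.presheaf).app (op W') =
      𝟙 _ := by
    rw [Functor.whiskerRight_app, eqToHom_app, ← CategoryTheory.Functor.map_comp, eqToHom_trans,
      eqToHom_refl, CategoryTheory.Functor.map_id]
  erw [TopCat.Presheaf.comp_app, PresheafedSpace.comp_c_app, e3]
  exact aux _ _ _ _ _ e1 e4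


theorem vP_local (y : V) : IsLocalHom ((vP h hq u hu).stalkMap y).hom := by
  obtain ⟨x, rfl⟩ := h.surjective y
  have h1 := PresheafedSpace.stalkMap.congr_hom _ _ (comp_vP h hq u hu) x
  rw [PresheafedSpace.stalkMap.comp] at h1
  have h2 : IsLocalHom (u.toPshHom.stalkMap x).hom := u.toLRSHom.prop x
  have h3' : IsLocalHom ((eqToHom (show W.presheaf.stalk ((h.toPshHom ≫ vP h hq u hu).base x) =
        W.presheaf.stalk (u.toPshHom.base x) by rw [comp_vP h hq u hu]) ≫
      u.toPshHom.stalkMap x).hom) := by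
    rw [CommRingCat.hom_comp]
    haveI : IsLocalHom (eqToHom (show W.presheaf.stalk ((h.toPshHom ≫ vP h hq u hu).base x) =
        W.presheaf.stalk (u.toPshHom.base x) by rw [comp_vP h hq u hu])).hom :=
      isLocalHom_of_isIso _
    exact RingHom.isLocalHom_comp _ _
  have h3 : IsLocalHom (((vP h hq u hu).stalkMap (h.toPshHom.base x) ≫
      h.toPshHom.stalkMap x).hom) := by
    have := congrArg (fun t => IsLocalHom (CommRingCat.Hom.hom t)) h1
    exact this.mpr h3'
  rw [CommRingCat.hom_comp] at h3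
  exact isLocalHom_of_comp _ (h.toPshHom.stalkMap x).hom

/-- the descended morphism -/
noncomputable def v : V ⟶ W := ⟨⟨vP h hq u hu, vP_local h hq u hu⟩⟩

theorem comp_v : h ≫ v h hq u hu = u := by
  apply Scheme.Hom.ext'
  apply LocallyRingedSpace.Hom.ext'
  exact comp_vP h hq u hu

end Exist

/-- Let h : U → V be a surjective morphism of schemes such that the map of sheaves of rings O_V → h_*O_U
is an isomorphism and the underlying space of V carries the quotient topology of that of U. Then for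
every scheme W, composition with h is a bijection from the morphisms V → W onto the morphisms U → W
whose underlying map is constant on each fibre of h. -/
theorem result {U V : Scheme.{u}} (h : U ⟶ V) [Surjective h]
    [IsIso h.c] (hq : Topology.IsQuotientMap h.base) (W : Scheme.{u}) :
    (∀ v₁ v₂ : V ⟶ W, h ≫ v₁ = h ≫ v₂ → v₁ = v₂) ∧
      ∀ u : U ⟶ W, (∀ x y : U, h.base x = h.base y → u.base x = u.base y) → ∃ v : V ⟶ W, h ≫ v = u := by
  exact ⟨fun v₁ v₂ hv => uniq h v₁ v₂ hv, fun u hu => ⟨v h hq u hu, comp_v h hq u hu⟩⟩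

end Groth.Agent.S3567
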