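import Groth.Statements.S3568
-- import your own Groth.Agent.* helpers here
import Groth.Agent.Lib.Helper9.IntegralSection
import Groth.Agent.Lib.Helper9.StalkwiseIso

set_option autoImplicit false
universe u
open CategoryTheory CategoryTheory.Limits AlgebraicGeometry
open EGA2

namespace Groth.Agent.S3568

open Groth.Agent.Lib.helper9

/-- Let U be an integral scheme, V a normal integral scheme (all local rings integrally closed domains)
and h : U → V a morphism which is universally closed, radicial (universally injective) and
birational (it sends the generic point of U to that of V and induces an isomorphism of the residue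
fields there). Then h is an isomorphism. (The source assumes only V normal; integrality of V, needed
here to speak of its generic point, follows from the other hypotheses.) -/
theorem result {U V : Scheme.{u}} [AlgebraicGeometry.IsIntegral U] [AlgebraicGeometry.IsIntegral V]
    (hN : Pi1.IsNormalScheme V) (h : U ⟶ V) [UniversallyClosed h]
    [UniversallyInjective h] (hgen : h.base (genericPoint U) = genericPoint V)
    (hbir : Function.Bijective (h.residueFieldMap (genericPoint U)).hom) :
    IsIso h := by
  classical
  -- `h` is a homeomorphism
  have hinj : Function.Injective h := h.injective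
  have hcl : IsClosedMap h := h.isClosedMap
  have hsurj : Function.Surjective h := by
    have hr : IsClosed (Set.range h) := hcl.isClosed_range
    have hsub : closure {genericPoint V} ⊆ Set.range h :=
      hr.closure_subset_iff.mpr (Set.singleton_subset_iff.mpr ⟨genericPoint U, hgen⟩)
    rw [show closure {genericPoint V} = Set.univ from genericPoint_spec V] at hsub
    intro y
    exact hsub trivial
  have hhomeo : IsHomeomorph h :=
    isHomeomorph_iff_continuous_isClosedMap_bijective.mpr ⟨h.continuous, hcl, hinj, hsurj⟩
  -- the stalk map at the generic point is an isomorphism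
  have hresbij : ∀ {R : Type u} [CommRing R] [IsLocalRing R], IsField R →
      Function.Bijective (IsLocalRing.residue R) := by
    intro R _ _ hR
    refine ⟨?_, IsLocalRing.residue_surjective⟩
    rw [RingHom.injective_iff_ker_eq_bot, IsLocalRing.ker_residue]
    exact IsLocalRing.isField_iff_maximalIdeal_eq.mp hR
  have hFU : IsField (U.presheaf.stalk (genericPoint U)) := Field.toIsField U.functionField
  have hFV : IsField (V.presheaf.stalk (h (genericPoint U))) := by
    have hgen' : h (genericPoint U) = genericPoint V := hgen
    rw [hgen']
    exact Field.toIsField V.functionField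
  have hbU := hresbij hFU
  have hbV := hresbij hFV
  have hsq : ∀ z, (U.residue (genericPoint U)).hom ((h.stalkMap (genericPoint U)).hom z) =
      (h.residueFieldMap (genericPoint U)).hom ((V.residue (h (genericPoint U))).hom z) := by
    intro z
    have := congrArg (fun φ => φ.hom z) (Scheme.residue_residueFieldMap h (genericPoint U))
    exact this.symm
  have hstalkbij : Function.Bijective (h.stalkMap (genericPoint U)).hom := by
    constructor
    · intro z z' hzz'
      apply hbV.1
      apply hbir.1
      have h1 := hsq z
      have h2 := hsq z'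
      rw [hzz'] at h1
      exact h1.symm.trans h2
    · intro y
      obtain ⟨w, hw⟩ := hbir.2 ((U.residue (genericPoint U)).hom y)
      obtain ⟨z, rfl⟩ := hbV.2 w
      refine ⟨z, hbU.1 ?_⟩
      exact (hsq z).trans hw
  have hbirI : IsIso (h.stalkMap (genericPoint U)) :=
    (ConcreteCategory.isIso_iff_bijective _).mpr hstalkbij
  refine isIso_of_isHomeomorph_of_bijective_app h hhomeo fun W hW => ?_
  by_cases hWne : Nonempty W
  swap
  · exact bijective_app_of_isEmpty h W hWne
  have hξW : genericPoint V ∈ W :=
    ((genericPoint_spec V).mem_open_set_iff W.isOpen).mpr (by simpa using hWne)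
  have hmem' : h (genericPoint U) ∈ W := by
    have hgen' : h (genericPoint U) = genericPoint V := hgen
    rw [hgen']; exact hξW
  have hne' : Nonempty (h ⁻¹ᵁ W) := ⟨⟨genericPoint U, hmem'⟩⟩
  have hic : IsIntegrallyClosed Γ(V, W) := by
    apply IsIntegrallyClosed.of_localization_maximal
    intro p _ hp
    have hy : hW.fromSpec ⟨p, hp.isPrime⟩ ∈ W := by
      have := hW.range_fromSpec
      rw [← SetLike.mem_coe, ← this]
      exact ⟨_, rfl⟩
    let _ := TopCat.Presheaf.algebra_section_stalk V.presheaf ⟨hW.fromSpec ⟨p, hp.isPrime⟩, hy⟩
    have hloc : IsLocalization.AtPrime (V.presheaf.stalk (hW.fromSpec ⟨p, hp.isPrime⟩)) p :=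
      hW.isLocalization_stalk' ⟨p, hp.isPrime⟩ hy
    have hics : IsIntegrallyClosed (V.presheaf.stalk (hW.fromSpec ⟨p, hp.isPrime⟩)) := (hN _).2
    exact IsIntegrallyClosed.of_equiv
      (IsLocalization.algEquiv p.primeCompl (V.presheaf.stalk (hW.fromSpec ⟨p, hp.isPrime⟩))
        (Localization.AtPrime p)).toRingEquiv
  have hfr := functionField_isFractionRing_of_isAffineOpen V W hW
  have hsp : genericPoint V ⤳ h (genericPoint U) := by
    have hgen' : h (genericPoint U) = genericPoint V := hgen
    rw [hgen']
  let σc : Γ(U, h ⁻¹ᵁ W) ⟶ V.functionField :=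
    U.presheaf.germ (h ⁻¹ᵁ W) (genericPoint U) hmem' ≫ inv (h.stalkMap (genericPoint U)) ≫
      V.presheaf.stalkSpecializes hsp
  have hσc : h.app W ≫ σc = V.germToFunctionField W := by
    show h.app W ≫ U.presheaf.germ (h ⁻¹ᵁ W) (genericPoint U) hmem' ≫
      inv (h.stalkMap (genericPoint U)) ≫ V.presheaf.stalkSpecializes hsp = _
    rw [← Category.assoc, ← Scheme.Hom.germ_stalkMap, Category.assoc, IsIso.hom_inv_id_assoc,
      TopCat.Presheaf.germ_stalkSpecializes]
  -- integrality of sections from universal closedness
  have hint : (h.app W).hom.IsIntegral := by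
    have hWaff : IsAffine W.toScheme := hW
    have hucW : UniversallyClosed (h ∣_ W) :=
      MorphismProperty.of_isPullback (isPullback_morphismRestrict h W).flip inferInstance
    have h1 : (h ∣_ W).appTop.hom.IsIntegral := isIntegral_appTop_of_universallyClosed (h ∣_ W)
    have h0 : (h ∣_ W).appTop = W.topIso.hom ≫ h.app W ≫ (h ⁻¹ᵁ W).topIso.inv := by
      have h' : h ∣_ W = h.resLE W (h ⁻¹ᵁ W) le_rfl := by simp [Scheme.Hom.resLE]
      rw [h', Scheme.Hom.appTop, Scheme.Hom.resLE_app_top, Scheme.Hom.appLE_eq_app]
    have h2 : h.app W = W.topIso.inv ≫ (h ∣_ W).appTop ≫ (h ⁻¹ᵁ W).topIso.hom := by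
      rw [h0]
      simp only [Category.assoc, Iso.inv_hom_id, Category.comp_id, Iso.inv_hom_id_assoc]
    rw [h2]
    simp only [CommRingCat.hom_comp]
    refine RingHom.IsIntegral.trans _ _ ?_ (RingHom.IsIntegral.trans _ _ h1 ?_)
    · exact RingHom.isIntegral_of_surjective _ (W.topIso.symm.commRingCatIsoToRingEquiv).surjective
    · exact RingHom.isIntegral_of_surjective _
        ((h ⁻¹ᵁ W).topIso.commRingCatIsoToRingEquiv).surjective
  refine bijective_of_isIntegral_of_retraction (K := V.functionField) (h.app W).hom hint σc.hom ?_
  rw [← CommRingCat.hom_comp, hσc]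
  rfl

end Groth.Agent.S3568
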