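import Groth.Statements.S3570
import Mathlib.AlgebraicGeometry.Morphisms.IsIso
-- import your own Groth.Agent.* helpers here

set_option autoImplicit false
universe u
open CategoryTheory CategoryTheory.Limits AlgebraicGeometry
open EGA2

namespace Groth.Agent.S3570


theorem algHom_app {X Y S : Scheme.{u}} (f : X ⟶ S) (h : Y ⟶ X) (V : S.Opens) :
    (AffAlg.algHom f (h ≫ f) h rfl).app (Opposite.op V) = h.app (f ⁻¹ᵁ V) := by
  simp only [AffAlg.algHom]
  rfl

theorem isIso_appTop_restrict {X Y : Scheme.{u}} (h : Y ⟶ X) (U : X.Opens) (H : IsIso (h.app U)) :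
    IsIso (h ∣_ U).appTop := by
  have e : U.ι ''ᵁ ⊤ = U := by simp
  have h1 : IsIso (h.app (U.ι ''ᵁ ⊤)) := by rw [e]; exact H
  have h2 : IsIso (h.app (U.ι ''ᵁ ⊤) ≫
      Y.presheaf.map (eqToHom (image_morphismRestrict_preimage h U ⊤)).op) := inferInstance
  rw [morphismRestrict_appTop]; exact h2

/-- Let f : X → S and g : Y → S be affine morphisms and h : Y → X an S-morphism. Then h is an
isomorphism if and only if A(h) : f_*O_X → g_*O_Y is an isomorphism (of presheaves of rings on S). -/
theorem result {X Y S : Scheme.{u}} (f : X ⟶ S) [IsAffineHom f] (g : Y ⟶ S)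
    [IsAffineHom g] (h : Y ⟶ X) (w : h ≫ f = g) :
    IsIso h ↔ IsIso (AffAlg.algHom f g h w) := by
  subst w
  constructor
  · intro hiso
    have : ∀ V, IsIso ((AffAlg.algHom f (h ≫ f) h rfl).app V) := by
      intro V
      have h1 : IsIso (h.app (f ⁻¹ᵁ V.unop)) := inferInstance
      have h2 : (AffAlg.algHom f (h ≫ f) h rfl).app V = h.app (f ⁻¹ᵁ V.unop) :=
        algHom_app f h V.unop
      rw [h2]; exact h1
    exact NatIso.isIso_of_isIso_app _
  · intro hiso
    have happ : ∀ V : S.Opens, IsIso (h.app (f ⁻¹ᵁ V)) := by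
      intro V
      have h1 : IsIso ((AffAlg.algHom f (h ≫ f) h rfl).app (Opposite.op V)) := inferInstance
      rw [algHom_app] at h1; exact h1
    change (MorphismProperty.isomorphisms Scheme) h
    rw [HasAffineProperty.iff_of_iSup_eq_top (P := MorphismProperty.isomorphisms Scheme)
      (fun V : S.affineOpens => (⟨f ⁻¹ᵁ V.1, V.2.preimage f⟩ : X.affineOpens))
      (f.iSup_preimage_eq_top (iSup_affineOpens_eq_top S))]
    intro V
    refine ⟨?_, isIso_appTop_restrict h _ (happ V.1)⟩
    exact V.2.preimage (h ≫ f)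

end Groth.Agent.S3570
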