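import Groth.Statements.S3573
import Mathlib
import Groth.Agent.Lib.Helper12.ProjG4
-- import your own Groth.Agent.* helpers here

set_option autoImplicit false
universe u
open CategoryTheory CategoryTheory.Limits AlgebraicGeometry
open EGA2

namespace Groth.Agent.S3573

/-- Let R be a commutative ring, X a scheme, and r, r' : X → P^n_R two morphisms over Spec R. If there
is an isomorphism τ : r^*O(1) ≅ r'^*O(1) carrying, for each i = 0, …, n, the pullback under r of the
coordinate section T_i of O(1) to its pullback under r', then r = r'. (Stated here for projective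
n-space over an affine base Spec R, that is, for a free module of rank n + 1; the published
statement is for the projective bundle of a more general module over a general base.) -/
theorem result {R : Type u} [CommRing R] (n : ℕ) {X : Scheme.{u}}
    (r r' : X ⟶ CohB1.ProjSpace n R) (hrr' : r ≫ CohB1.ProjSpace.toSpec n R = r' ≫ CohB1.ProjSpace.toSpec n R)
    (τ : (Scheme.Modules.pullback r).obj (Twist.twistProjSpace n R 1) ≅
      (Scheme.Modules.pullback r').obj (Twist.twistProjSpace n R 1))
    (hτ : ∀ i, τ.hom.app ⊤ (ProjUP.pullSec r (Twist.twistProjSpace n R 1) (ProjUP.coord n R i)) =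
      ProjUP.pullSec r' (Twist.twistProjSpace n R 1) (ProjUP.coord n R i)) :
    r = r' := by
  have hfX : ∀ i : ULift.{u} (Fin (n + 1)),
      (MvPolynomial.X i.down : MvPolynomial (Fin (n + 1)) R) ∈ CohB1.polyGrading n R 1 :=
    fun i => Groth.Agent.Lib.helper28.TwistPn.X_mem n R i.down
  have hcovP : ∀ x : ProjectiveSpectrum (CohB1.polyGrading n R),
      ∃ i : ULift.{u} (Fin (n + 1)),
        (MvPolynomial.X i.down : MvPolynomial (Fin (n + 1)) R) ∉ x.asHomogeneousIdeal := by
    intro x
    obtain ⟨i, hi⟩ := Groth.Agent.Lib.helper28.TwistPn.exists_X_notMem n R x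
    exact ⟨⟨i⟩, hi⟩
  refine Groth.Agent.Lib.helper12.ProjG.toProj_ext (𝒜 := CohB1.polyGrading n R)
    (f := fun i : ULift.{u} (Fin (n + 1)) => (MvPolynomial.X i.down : MvPolynomial (Fin (n + 1)) R))
    hfX hcovP ?_ r r' hrr' τ ?_
  · intro B _ φ φ' h1 h2
    refine MvPolynomial.ringHom_ext (fun c => ?_) (fun l => h2 ⟨l⟩)
    exact congrArg (fun ψ : R →+* B => ψ c) h1
  · intro m
    apply Groth.Agent.Lib.helper12.SecExtend.hom_ext_val_top
    have h0 : ∀ (ρ : X ⟶ Proj (CohB1.polyGrading n R)), Groth.Agent.Lib.helper11.GenLocus.sec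
        (Groth.Agent.Lib.helper12.ProjG.nuG hfX ρ m) ⊤ =
        ProjUP.pullSec ρ (Twist.twistProjSpace n R 1) (ProjUP.coord n R m.down) := by
      intro ρ
      have h2 := Groth.Agent.Lib.helper12.ProjUP4.sec_pullHom ρ
        (Groth.Agent.Lib.helper12.ProjG.tPG (CohB1.polyGrading n R)
          (fun i : ULift.{u} (Fin (n + 1)) =>
            (MvPolynomial.X i.down : MvPolynomial (Fin (n + 1)) R)) hfX m) ⊤
      rw [Groth.Agent.Lib.helper12.ProjG.sec_tPG] at h2
      exact h2
    have h3 : Groth.Agent.Lib.helper11.GenLocus.sec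
        (Groth.Agent.Lib.helper12.ProjG.nuG hfX r m ≫ τ.hom) ⊤ =
        Groth.Agent.Lib.helper11.GenLocus.sec (Groth.Agent.Lib.helper12.ProjG.nuG hfX r' m) ⊤ := by
      rw [Groth.Agent.Lib.helper11.InvHom.sec_comp, h0 r, h0 r']
      exact hτ m.down
    exact h3


end Groth.Agent.S3573
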