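import Groth.Statements.S3574
-- import your own Groth.Agent.* helpers here
import Groth.Agent.Lib.Helper5.GlueCharts

set_option autoImplicit false
universe u
open CategoryTheory CategoryTheory.Limits AlgebraicGeometry
open EGA2

namespace Groth.Agent.S3574


section
variable {R A : Type u} [CommRing R] [CommRing A] [Algebra R A] (𝒜 : ℕ → Submodule R A) [GradedAlgebra 𝒜]

theorem chart_ι {d : ℕ} {f : A} (hf : f ∈ 𝒜 d) (hd : 0 < d) :
    Cone.chart hf hd ≫ (Cone.pointed 𝒜).ι =
      Spec.map (CommRingCat.ofHom (algebraMap A (Localization.Away f))) :=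
  IsOpenImmersion.lift_fac _ _ _

instance chart_isOpenImmersion {d : ℕ} {f : A} (hf : f ∈ 𝒜 d) (hd : 0 < d) :
    IsOpenImmersion (Cone.chart hf hd) := by
  have : IsOpenImmersion (Cone.chart hf hd ≫ (Cone.pointed 𝒜).ι) := by
    rw [chart_ι]; infer_instance
  exact IsOpenImmersion.of_comp _ (Cone.pointed 𝒜).ι

theorem mem_range_chart_iff {d : ℕ} {f : A} (hf : f ∈ 𝒜 d) (hd : 0 < d)
    (x : (Cone.pointed 𝒜 : Scheme.{u})) :
    x ∈ Set.range (Cone.chart hf hd).base ↔
      (Cone.pointed 𝒜).ι.base x ∈ (PrimeSpectrum.basicOpen f : Set (PrimeSpectrum A)) := by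
  rw [← PrimeSpectrum.localization_away_comap_range (Localization.Away f) f]
  constructor
  · rintro ⟨y, rfl⟩
    refine ⟨y, ?_⟩
    have := congrArg (fun q => q.base y) (chart_ι 𝒜 hf hd)
    exact this.symm
  · rintro ⟨y, hy⟩
    refine ⟨y, ?_⟩
    apply (Cone.pointed 𝒜).ι.isOpenEmbedding.injective
    have := congrArg (fun q => q.base y) (chart_ι 𝒜 hf hd)
    exact this.trans hy

theorem awayι_eq {m m' : ℕ} (h : m = m') {f : A} (hf : f ∈ 𝒜 m) (hm : 0 < m) :
    Proj.awayι 𝒜 f hf hm = Proj.awayι 𝒜 f (h ▸ hf) (h ▸ hm) := by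
  subst h; rfl

/-- the transition map `A_f → A_x` for `x = f * g` -/
noncomputable def trans {f g x : A} (hx : x = f * g) : Localization.Away f →+* Localization.Away x :=
  Localization.awayLift (algebraMap A _) _
    (isUnit_of_dvd_unit (map_dvd _ ⟨_, hx⟩) (IsLocalization.Away.algebraMap_isUnit x))

theorem trans_comp {f g x : A} (hx : x = f * g) :
    (trans (f := f) hx).comp (algebraMap A (Localization.Away f)) = algebraMap A (Localization.Away x) :=
  IsLocalization.Away.lift_comp f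
    (isUnit_of_dvd_unit (map_dvd _ ⟨_, hx⟩) (IsLocalization.Away.algebraMap_isUnit x))

open HomogeneousLocalization in
theorem ring_identity {e : ℕ} {f g x : A} (hg : g ∈ 𝒜 e) (hx : x = f * g) :
    (algebraMap (Away 𝒜 x) (Localization.Away x)).comp (awayMap 𝒜 hg hx) =
      (trans (f := f) hx).comp (algebraMap (Away 𝒜 f) (Localization.Away f)) := by
  ext z
  simp only [RingHom.comp_apply, HomogeneousLocalization.algebraMap_apply]
  rw [val_awayMap]
  rfl

theorem compat {d e : ℕ} {f k : A} (hf : f ∈ 𝒜 d) (hd : 0 < d) (hk : k ∈ 𝒜 e) (he : 0 < e) :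
    ∃ (W : Scheme.{u}) (a : W ⟶ Spec (CommRingCat.of (Localization.Away f)))
      (b : W ⟶ Spec (CommRingCat.of (Localization.Away k))),
      a ≫ Cone.chart hf hd = b ≫ Cone.chart hk he ∧
      a ≫ (Spec.map (CommRingCat.ofHom (algebraMap (HomogeneousLocalization.Away 𝒜 f)
          (Localization.Away f))) ≫ Proj.awayι 𝒜 f hf hd) =
        b ≫ (Spec.map (CommRingCat.ofHom (algebraMap (HomogeneousLocalization.Away 𝒜 k)
          (Localization.Away k))) ≫ Proj.awayι 𝒜 k hk he) ∧
      IsOpenImmersion (a ≫ Cone.chart hf hd) ∧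
      Set.range (Cone.chart hf hd).base ∩ Set.range (Cone.chart hk he).base ⊆
        Set.range (a ≫ Cone.chart hf hd).base := by
  have hfk : f * k ∈ 𝒜 (d + e) := SetLike.mul_mem_graded hf hk
  have hde : 0 < d + e := Nat.add_pos_left hd e
  let a : Spec (CommRingCat.of (Localization.Away (f * k))) ⟶
      Spec (CommRingCat.of (Localization.Away f)) :=
    Spec.map (CommRingCat.ofHom (trans (f := f) (g := k) rfl))
  let b : Spec (CommRingCat.of (Localization.Away (f * k))) ⟶
      Spec (CommRingCat.of (Localization.Away k)) :=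
    Spec.map (CommRingCat.ofHom (trans (f := k) (g := f) (mul_comm f k)))
  have ha : a ≫ Cone.chart hf hd = Cone.chart hfk hde := by
    rw [← cancel_mono (Cone.pointed 𝒜).ι, Category.assoc, chart_ι, chart_ι]
    simp only [a]
    rw [← Spec.map_comp, ← CommRingCat.ofHom_comp, trans_comp]
  have hb : b ≫ Cone.chart hk he = Cone.chart hfk hde := by
    rw [← cancel_mono (Cone.pointed 𝒜).ι, Category.assoc, chart_ι, chart_ι]
    simp only [b]
    rw [← Spec.map_comp, ← CommRingCat.ofHom_comp, trans_comp]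
  have hga : a ≫ (Spec.map (CommRingCat.ofHom (algebraMap (HomogeneousLocalization.Away 𝒜 f)
      (Localization.Away f))) ≫ Proj.awayι 𝒜 f hf hd) =
      Spec.map (CommRingCat.ofHom (algebraMap (HomogeneousLocalization.Away 𝒜 (f * k))
        (Localization.Away (f * k)))) ≫ Proj.awayι 𝒜 (f * k) hfk hde := by
    rw [← Proj.SpecMap_awayMap_awayι 𝒜 hf hd hk rfl]
    simp only [a]
    rw [← Category.assoc, ← Category.assoc, ← Spec.map_comp, ← Spec.map_comp,
      ← CommRingCat.ofHom_comp, ← CommRingCat.ofHom_comp, ring_identity 𝒜 hk rfl]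
  have hgb : b ≫ (Spec.map (CommRingCat.ofHom (algebraMap (HomogeneousLocalization.Away 𝒜 k)
      (Localization.Away k))) ≫ Proj.awayι 𝒜 k hk he) =
      Spec.map (CommRingCat.ofHom (algebraMap (HomogeneousLocalization.Away 𝒜 (f * k))
        (Localization.Away (f * k)))) ≫ Proj.awayι 𝒜 (f * k) hfk hde := by
    rw [awayι_eq 𝒜 (Nat.add_comm d e) hfk hde, ← Proj.SpecMap_awayMap_awayι 𝒜 hk he hf (mul_comm f k)]
    simp only [b]
    rw [← Category.assoc, ← Category.assoc, ← Spec.map_comp, ← Spec.map_comp,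
      ← CommRingCat.ofHom_comp, ← CommRingCat.ofHom_comp, ring_identity 𝒜 hf (mul_comm f k)]
  refine ⟨_, a, b, ha.trans hb.symm, hga.trans hgb.symm, ?_, ?_⟩
  · rw [ha]; infer_instance
  · rw [ha]
    rintro z ⟨hz1, hz2⟩
    rw [mem_range_chart_iff] at hz1 hz2 ⊢
    rw [PrimeSpectrum.basicOpen_mul]
    exact ⟨hz1, hz2⟩

theorem cover (x : (Cone.pointed 𝒜 : Scheme.{u})) :
    ∃ (d : ℕ) (f : A) (hd : 0 < d) (hf : f ∈ 𝒜 d), x ∈ Set.range (Cone.chart hf hd).base := by
  classical
  have hx : (Cone.pointed 𝒜).ι.base x ∈ Cone.pointed 𝒜 := x.2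
  have hx' : ¬ ((HomogeneousIdeal.irrelevant 𝒜).toIdeal : Set A) ⊆
      ((Cone.pointed 𝒜).ι.base x).asIdeal := by
    intro h
    exact hx ((PrimeSpectrum.mem_zeroLocus _ _).mpr h)
  obtain ⟨g, hg, hgx⟩ := Set.not_subset.mp hx'
  have hg0 : (DirectSum.decompose 𝒜 g 0 : A) = 0 := by
    have := (HomogeneousIdeal.mem_irrelevant_iff 𝒜 g).mp hg
    rwa [GradedRing.proj_apply] at this
  have : ∃ i ∈ (DirectSum.decompose 𝒜 g).support,
      (DirectSum.decompose 𝒜 g i : A) ∉ ((Cone.pointed 𝒜).ι.base x).asIdeal := by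
    by_contra hcon
    push Not at hcon
    apply hgx
    rw [← DirectSum.sum_support_decompose 𝒜 g]
    exact Ideal.sum_mem _ hcon
  obtain ⟨i, hi, hix⟩ := this
  have hipos : 0 < i := by
    rcases Nat.eq_zero_or_pos i with h | h
    · subst h
      rw [hg0] at hix
      exact absurd (Ideal.zero_mem _) hix
    · exact h
  refine ⟨i, (DirectSum.decompose 𝒜 g i : A), hipos, (DirectSum.decompose 𝒜 g i).2, ?_⟩
  rw [mem_range_chart_iff]
  exact hix

end

/-- Let S be an ℕ-graded algebra over a ring, C = Spec S its affine cone, E = C − V(S_+) the pointed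
affine cone and X = Proj S. Then there is exactly one morphism π : E → X (the canonical retraction)
whose restriction to each chart Spec S_f of E, for f homogeneous of positive degree, is the
composite Spec S_f → Spec S_(f) ≅ D_+(f) ⊆ X induced by the inclusion S_(f) → S_f. The published
statement is not limited to an affine base. -/
theorem result {R A : Type u} [CommRing R] [CommRing A] [Algebra R A] (𝒜 : ℕ → Submodule R A) [GradedAlgebra 𝒜] :
    ∃! π : (Cone.pointed 𝒜 : Scheme.{u}) ⟶ Proj 𝒜,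
      ∀ (d : ℕ) (f : A) (hd : 0 < d) (hf : f ∈ 𝒜 d),
        Cone.chart hf hd ≫ π =
          Spec.map (CommRingCat.ofHom (algebraMap (HomogeneousLocalization.Away 𝒜 f) (Localization.Away f))) ≫
            Proj.awayι 𝒜 f hf hd := by
  classical
  let ι := Σ d : ℕ+, 𝒜 d
  let U : ι → Scheme.{u} := fun i => Spec (CommRingCat.of (Localization.Away (i.2 : A)))
  let c : ∀ i : ι, U i ⟶ (Cone.pointed 𝒜 : Scheme.{u}) := fun i => Cone.chart i.2.2 i.1.2
  let g : ∀ i : ι, U i ⟶ Proj 𝒜 := fun i =>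
    Spec.map (CommRingCat.ofHom (algebraMap (HomogeneousLocalization.Away 𝒜 (i.2 : A))
      (Localization.Away (i.2 : A)))) ≫ Proj.awayι 𝒜 (i.2 : A) i.2.2 i.1.2
  have : ∀ i, IsOpenImmersion (c i) := fun i => chart_isOpenImmersion 𝒜 i.2.2 i.1.2
  have hcov : ∀ x : (Cone.pointed 𝒜 : Scheme.{u}), ∃ i, x ∈ Set.range (c i).base := by
    intro x
    obtain ⟨d, f, hd, hf, hx⟩ := cover 𝒜 x
    exact ⟨⟨⟨d, hd⟩, ⟨f, hf⟩⟩, hx⟩
  have hcompat : ∀ i j, ∃ (W : Scheme.{u}) (a : W ⟶ U i) (b : W ⟶ U j),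
      a ≫ c i = b ≫ c j ∧ a ≫ g i = b ≫ g j ∧ IsOpenImmersion (a ≫ c i) ∧
      Set.range (c i).base ∩ Set.range (c j).base ⊆ Set.range (a ≫ c i).base := by
    intro i j
    exact compat 𝒜 i.2.2 i.1.2 j.2.2 j.1.2
  obtain ⟨p, hp, huniq⟩ := Groth.Agent.Lib.helper5.existsUnique_of_charts c hcov g hcompat
  refine ⟨p, fun d f hd hf => hp ⟨⟨d, hd⟩, ⟨f, hf⟩⟩, ?_⟩
  intro q hq
  exact huniq q fun i => hq i.1.1 i.2.1 i.1.2 i.2.2

end Groth.Agent.S3574
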