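import Groth.Statements.S3575
-- import your own Groth.Agent.* helpers here
import Groth.Agent.S3574
import Mathlib.AlgebraicGeometry.Morphisms.Affine

set_option autoImplicit false
universe u
open CategoryTheory CategoryTheory.Limits AlgebraicGeometry
open EGA2

namespace Groth.Agent.S3575


section
variable {R A : Type u} [CommRing R] [CommRing A] [Algebra R A] (𝒜 : ℕ → Submodule R A) [GradedAlgebra 𝒜]

open Groth.Agent.S3574 in
theorem preimage_eq (π : (Cone.pointed 𝒜 : Scheme.{u}) ⟶ Proj 𝒜)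
    (hπ : ∀ (d : ℕ) (f : A) (hd : 0 < d) (hf : f ∈ 𝒜 d),
        Cone.chart hf hd ≫ π =
          Spec.map (CommRingCat.ofHom (algebraMap (HomogeneousLocalization.Away 𝒜 f) (Localization.Away f))) ≫
            Proj.awayι 𝒜 f hf hd)
    {d : ℕ} {f : A} (hf : f ∈ 𝒜 d) (hd : 0 < d) :
    π ⁻¹ᵁ Proj.basicOpen 𝒜 f = (Cone.chart hf hd).opensRange := by
  ext x
  constructor
  · intro hx
    obtain ⟨e, g, he, hg, y, hxy⟩ := cover 𝒜 x
    have hπx : π.base x = (Proj.awayι 𝒜 g hg he).base
        ((Spec.map (CommRingCat.ofHom (algebraMap (HomogeneousLocalization.Away 𝒜 g)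
          (Localization.Away g)))).base y) := by
      rw [← hxy]
      exact congrArg (fun q => q.base y) (hπ e g he hg)
    have h1 : (Spec.map (CommRingCat.ofHom (algebraMap (HomogeneousLocalization.Away 𝒜 g)
        (Localization.Away g)))).base y ∈ Proj.awayι 𝒜 g hg he ⁻¹ᵁ Proj.basicOpen 𝒜 f := by
      change (Proj.awayι 𝒜 g hg he).base _ ∈ Proj.basicOpen 𝒜 f
      rw [← hπx]
      exact hx
    rw [Proj.awayι_preimage_basicOpen 𝒜 hg he hf hd] at h1
    have h2 : (HomogeneousLocalization.Away.isLocalizationElem hg hf).val ∉ y.asIdeal := h1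
    have hιx : (Cone.pointed 𝒜).ι.base x =
        (Spec.map (CommRingCat.ofHom (algebraMap A (Localization.Away g)))).base y := by
      rw [← hxy]
      exact congrArg (fun q => q.base y) (chart_ι 𝒜 hg he)
    change x ∈ Set.range (Cone.chart hf hd).base
    rw [mem_range_chart_iff, hιx]
    intro hfy
    apply h2
    have hfy' : algebraMap A (Localization.Away g) f ∈ y.asIdeal := hfy
    have : (HomogeneousLocalization.Away.isLocalizationElem hg hf).val =
        Localization.mk 1 (⟨g ^ d, ⟨d, rfl⟩⟩ : Submonoid.powers g) * algebraMap A (Localization.Away g) f ^ e := by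
      rw [HomogeneousLocalization.Away.val_mk, ← map_pow, ← Localization.mk_one_eq_algebraMap,
        Localization.mk_mul]
      simp
    rw [this]
    exact Ideal.mul_mem_left _ _ (Ideal.pow_mem_of_mem _ hfy' e he)
  · rintro ⟨y, rfl⟩
    change π.base ((Cone.chart hf hd).base y) ∈ Proj.basicOpen 𝒜 f
    have h1 : π.base ((Cone.chart hf hd).base y) = (Proj.awayι 𝒜 f hf hd).base
        ((Spec.map (CommRingCat.ofHom (algebraMap (HomogeneousLocalization.Away 𝒜 f)
          (Localization.Away f)))).base y) := congrArg (fun q => q.base y) (hπ d f hd hf)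
    rw [h1, ← Proj.opensRange_awayι 𝒜 f hf hd]
    exact ⟨_, rfl⟩

end

/-- Let S be a commutative ℕ-graded R-algebra, E the pointed affine cone (the open complement of the
vertex V(S_+) in Spec S) and X = Proj S, and let π : E → X be the canonical retraction,
characterised (hypothesis hπ) by its agreement on each chart Spec S_f → E, f homogeneous of positive
degree, with Spec of S_(f) → S_f followed by the standard open immersion Spec S_(f) → X. Then π is
an affine and surjective morphism; the inverse image under π of D_+(f) is the open D(f) ∩ E = D(f)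
of E for every homogeneous f of positive degree; and π sends a point of E, a prime p of S not
containing S_+, to the homogeneous prime whose homogeneous elements are those of p. -/
theorem result {R A : Type u} [CommRing R] [CommRing A] [Algebra R A] (𝒜 : ℕ → Submodule R A) [GradedAlgebra 𝒜]
    (π : (Cone.pointed 𝒜 : Scheme.{u}) ⟶ Proj 𝒜)
    (hπ : ∀ (d : ℕ) (f : A) (hd : 0 < d) (hf : f ∈ 𝒜 d),
        Cone.chart hf hd ≫ π =
          Spec.map (CommRingCat.ofHom (algebraMap (HomogeneousLocalization.Away 𝒜 f) (Localization.Away f))) ≫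
            Proj.awayι 𝒜 f hf hd) :
    IsAffineHom π ∧ Surjective π ∧
      (∀ (d : ℕ) (f : A), 0 < d → f ∈ 𝒜 d →
        π ⁻¹ᵁ Proj.basicOpen 𝒜 f = (Cone.pointed 𝒜).ι ⁻¹ᵁ Cone.coneOpen f) ∧
      ∀ p : (Cone.pointed 𝒜 : Scheme.{u}),
        (π.base p).asHomogeneousIdeal = (((Cone.pointed 𝒜).ι.base p).asIdeal).homogeneousCore 𝒜 := by
  classical
  -- (iii)
  have h3 : ∀ (d : ℕ) (f : A), 0 < d → f ∈ 𝒜 d →
      π ⁻¹ᵁ Proj.basicOpen 𝒜 f = (Cone.pointed 𝒜).ι ⁻¹ᵁ Cone.coneOpen f := by
    intro d f hd hf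
    rw [preimage_eq 𝒜 π hπ hf hd]
    ext x
    exact Groth.Agent.S3574.mem_range_chart_iff 𝒜 hf hd x
  -- homogeneous elements criterion
  have hhom : ∀ (p : (Cone.pointed 𝒜 : Scheme.{u})) (n : ℕ) (a : A), a ∈ 𝒜 n →
      (a ∈ (π.base p).asHomogeneousIdeal.toIdeal ↔ a ∈ ((Cone.pointed 𝒜).ι.base p).asIdeal) := by
    intro p n a ha
    have pos : ∀ (m : ℕ) (b : A), 0 < m → b ∈ 𝒜 m →
        (b ∈ (π.base p).asHomogeneousIdeal.toIdeal ↔ b ∈ ((Cone.pointed 𝒜).ι.base p).asIdeal) := by
      intro m b hm hb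
      have h1 : p ∈ π ⁻¹ᵁ Proj.basicOpen 𝒜 b ↔ p ∈ (Cone.pointed 𝒜).ι ⁻¹ᵁ Cone.coneOpen b := by
        rw [h3 m b hm hb]
      rw [← not_iff_not]
      exact h1
    rcases Nat.eq_zero_or_pos n with hn | hn
    · subst hn
      obtain ⟨e, g, he, hg, hgx⟩ := Groth.Agent.S3574.cover 𝒜 p
      rw [Groth.Agent.S3574.mem_range_chart_iff] at hgx
      have hgq : g ∉ ((Cone.pointed 𝒜).ι.base p).asIdeal := hgx
      have hgP : g ∉ (π.base p).asHomogeneousIdeal.toIdeal := fun h => hgq ((pos e g he hg).mp h)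
      have hag : a * g ∈ 𝒜 (0 + e) := SetLike.mul_mem_graded ha hg
      have hiff := pos (0 + e) (a * g) (by omega) hag
      constructor
      · intro h
        have h' := hiff.mp (Ideal.mul_mem_right _ _ h)
        exact (((Cone.pointed 𝒜).ι.base p).isPrime.mem_or_mem h').resolve_right hgq
      · intro h
        have h' := hiff.mpr (Ideal.mul_mem_right _ _ h)
        exact ((π.base p).isPrime.mem_or_mem h').resolve_right hgP
    · exact pos n a hn ha
  -- (iv)
  have h4 : ∀ p : (Cone.pointed 𝒜 : Scheme.{u}), (π.base p).asHomogeneousIdeal =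
      (((Cone.pointed 𝒜).ι.base p).asIdeal).homogeneousCore 𝒜 := by
    intro p
    apply le_antisymm
    · rw [← (Ideal.homogeneousCore.gc 𝒜).le_iff_le]
      intro x hx
      rw [← DirectSum.sum_support_decompose 𝒜 x]
      refine Ideal.sum_mem _ fun i _ => ?_
      exact (hhom p i _ (DirectSum.decompose 𝒜 x i).2).mp
        ((π.base p).asHomogeneousIdeal.isHomogeneous i hx)
    · intro x hx
      have hx' : x ∈ ((((Cone.pointed 𝒜).ι.base p).asIdeal).homogeneousCore 𝒜).toIdeal := hx
      change x ∈ (π.base p).asHomogeneousIdeal.toIdeal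
      rw [← DirectSum.sum_support_decompose 𝒜 x]
      refine Ideal.sum_mem _ fun i _ => ?_
      have h1 : (DirectSum.decompose 𝒜 x i : A) ∈
          ((((Cone.pointed 𝒜).ι.base p).asIdeal).homogeneousCore 𝒜).toIdeal :=
        ((((Cone.pointed 𝒜).ι.base p).asIdeal).homogeneousCore 𝒜).isHomogeneous i hx'
      have h2 : (DirectSum.decompose 𝒜 x i : A) ∈ ((Cone.pointed 𝒜).ι.base p).asIdeal :=
        Ideal.toIdeal_homogeneousCore_le 𝒜 _ h1
      exact (hhom p i _ (DirectSum.decompose 𝒜 x i).2).mpr h2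
  -- (ii)
  have h2 : Surjective π := by
    constructor
    intro P
    have hP : (⟨P.asHomogeneousIdeal.toIdeal, P.isPrime⟩ : PrimeSpectrum A) ∈ Cone.pointed 𝒜 := by
      intro hmem
      exact P.not_irrelevant_le (fun a ha => (PrimeSpectrum.mem_zeroLocus _ _).mp hmem ha)
    let x : (Cone.pointed 𝒜 : Scheme.{u}) := ⟨_, hP⟩
    refine ⟨x, ?_⟩
    apply ProjectiveSpectrum.ext
    rw [h4 x]
    have hx : ((Cone.pointed 𝒜).ι.base x).asIdeal = P.asHomogeneousIdeal.toIdeal := rfl
    rw [hx]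
    exact P.asHomogeneousIdeal.toIdeal_homogeneousCore_eq_self
  -- (i)
  have h1 : IsAffineHom π := by
    have hU : ⨆ i : (Σ i : ℕ+, 𝒜 i), Proj.basicOpen 𝒜 (i.2 : A) = ⊤ := by
      apply Proj.iSup_basicOpen_eq_top
      intro z hz
      rw [← DirectSum.sum_support_decompose 𝒜 z]
      refine Ideal.sum_mem _ fun c hc ↦ if hc0 : c = 0 then ?_ else
        Ideal.subset_span ⟨⟨⟨c, Nat.pos_iff_ne_zero.mpr hc0⟩, _⟩, rfl⟩
      convert Ideal.zero_mem _
      subst hc0
      exact hz
    rw [HasAffineProperty.iff_of_iSup_eq_top (P := @IsAffineHom)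
      (fun i : (Σ i : ℕ+, 𝒜 i) => (⟨Proj.basicOpen 𝒜 (i.2 : A),
        Proj.isAffineOpen_basicOpen 𝒜 (i.2 : A) i.2.2 i.1.2⟩ : (Proj 𝒜).affineOpens)) hU]
    intro i
    change IsAffineOpen (π ⁻¹ᵁ Proj.basicOpen 𝒜 (i.2 : A))
    rw [preimage_eq 𝒜 π hπ i.2.2 i.1.2]
    have := Groth.Agent.S3574.chart_isOpenImmersion 𝒜 i.2.2 i.1.2
    exact isAffineOpen_opensRange _
  exact ⟨h1, h2, h3, h4⟩

end Groth.Agent.S3575
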