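import Groth.Statements.S3576
import Groth.Agent.S3575
import Groth.Agent.Lib.Helper28.LaurentAway
import Groth.Agent.Lib.Helper28.FibreChartLaurent
import Groth.Agent.Lib.Helper28.ChartLocal
-- import your own Groth.Agent.* helpers here

set_option autoImplicit false
universe u
open CategoryTheory CategoryTheory.Limits AlgebraicGeometry
open EGA2

namespace Groth.Agent.S3576

/-- Over an affine base Spec R: let S be a graded R-algebra whose irrelevant ideal is generated by its
degree-one elements, E the pointed affine cone of S and π : E → X = Proj S the canonical retraction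
(the morphism restricting on each chart D(f), f homogeneous of positive degree, to Spec S_f → Spec
S_(f) → Proj S). Then π is of finite type, and for every point x of X the fibre of π at x is
isomorphic over the residue field κ(x) to Spec κ(x)[T, T⁻¹]. -/
theorem result {R A : Type u} [CommRing R] [CommRing A] [Algebra R A] (𝒜 : ℕ → Submodule R A) [GradedAlgebra 𝒜]
    (hgen : (HomogeneousIdeal.irrelevant 𝒜).toIdeal = Ideal.span (𝒜 1 : Set A))
    (π : (Cone.pointed 𝒜 : Scheme.{u}) ⟶ Proj 𝒜)
    (hπ : ∀ (d : ℕ) (f : A) (hd : 0 < d) (hf : f ∈ 𝒜 d),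
        Cone.chart hf hd ≫ π =
          Spec.map (CommRingCat.ofHom (algebraMap (HomogeneousLocalization.Away 𝒜 f) (Localization.Away f))) ≫
            Proj.awayι 𝒜 f hf hd)
    (x : Proj 𝒜) :
    LocallyOfFiniteType π ∧ QuasiCompact π ∧
      ∃ e : pullback π ((Proj 𝒜).fromSpecResidueField x) ≅
          Spec (CommRingCat.of (LaurentPolynomial ((Proj 𝒜).residueField x))),
        e.hom ≫ Spec.map (CommRingCat.ofHom (algebraMap ((Proj 𝒜).residueField x)
          (LaurentPolynomial ((Proj 𝒜).residueField x)))) = pullback.snd π ((Proj 𝒜).fromSpecResidueField x) := by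
  classical
  have haff : IsAffineHom π := (Groth.Agent.S3575.result 𝒜 π hπ).1
  have hcov : ∀ y : Proj 𝒜, ∃ f : {f : A // f ∈ 𝒜 1},
      y ∈ Set.range (Proj.awayι 𝒜 f.1 f.2 one_pos).base := by
    intro y
    by_contra hcon
    apply y.not_irrelevant_le
    intro a ha
    have ha' : a ∈ (HomogeneousIdeal.irrelevant 𝒜).toIdeal := ha
    rw [hgen] at ha'
    refine (Ideal.span_le.mpr ?_) ha'
    intro g hg
    by_contra hgy
    apply hcon
    refine ⟨⟨g, hg⟩, ?_⟩
    have h1 : y ∈ (Proj.awayι 𝒜 g hg one_pos).opensRange := by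
      rw [Proj.opensRange_awayι]
      exact (ProjectiveSpectrum.mem_basicOpen 𝒜 g y).mpr hgy
    exact h1
  have hpre : ∀ f : {f : A // f ∈ 𝒜 1},
      π ⁻¹ᵁ (Proj.awayι 𝒜 f.1 f.2 one_pos).opensRange =
        (Cone.chart f.2 one_pos).opensRange := by
    intro f
    rw [Proj.opensRange_awayι]
    exact Groth.Agent.S3575.preimage_eq 𝒜 π hπ f.2 one_pos
  refine ⟨?_, inferInstance, ?_⟩
  · refine Groth.Agent.Lib.helper28.ChartLocal.of_charts π (J := {f : A // f ∈ 𝒜 1})
      (T := fun f => Spec (CommRingCat.of (Localization.Away f.1)))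
      (Q := fun f => Spec (CommRingCat.of (HomogeneousLocalization.Away 𝒜 f.1)))
      (fun f => Cone.chart f.2 one_pos) (fun f => Proj.awayι 𝒜 f.1 f.2 one_pos)
      (fun f => Spec.map (CommRingCat.ofHom (algebraMap (HomogeneousLocalization.Away 𝒜 f.1)
        (Localization.Away f.1))))
      @LocallyOfFiniteType (fun f => hπ 1 f.1 one_pos f.2) hpre hcov ?_
    intro f
    rw [HasRingHomProperty.Spec_iff (P := @LocallyOfFiniteType)]
    have h1 : algebraMap (HomogeneousLocalization.Away 𝒜 f.1) (Localization.Away f.1) =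
        (Groth.Agent.Lib.helper28.LaurentAway.laurentToAway 𝒜 f.1).comp LaurentPolynomial.C := by
      refine RingHom.ext fun c => ?_
      exact (Groth.Agent.Lib.helper28.LaurentAway.laurentToAway_C 𝒜 f.1 c).symm
    change RingHom.FiniteType (algebraMap (HomogeneousLocalization.Away 𝒜 f.1)
      (Localization.Away f.1))
    rw [h1]
    refine RingHom.FiniteType.comp (RingHom.FiniteType.of_surjective _
      (Groth.Agent.Lib.helper28.LaurentAway.laurentToAway_surjective 𝒜 f.1 f.2)) ?_
    exact (RingHom.finiteType_algebraMap (A := HomogeneousLocalization.Away 𝒜 f.1)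
      (B := LaurentPolynomial (HomogeneousLocalization.Away 𝒜 f.1))).mpr inferInstance
  · obtain ⟨f, hxf⟩ := hcov x
    exact Groth.Agent.Lib.helper28.FibreChart.exists_fibre_iso_laurent π x
      (Proj.awayι 𝒜 f.1 f.2 one_pos) (Cone.chart f.2 one_pos)
      (CommRingCat.ofHom (algebraMap (HomogeneousLocalization.Away 𝒜 f.1)
        (Localization.Away f.1))) hxf (hπ 1 f.1 one_pos f.2)
      (hpre f) (Groth.Agent.Lib.helper28.LaurentAway.laurentAwayEquiv 𝒜 f.1 f.2)
      (Groth.Agent.Lib.helper28.LaurentAway.laurentAwayEquiv_C 𝒜 f.1 f.2)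

end Groth.Agent.S3576
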