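import Groth.Statements.S3578
-- import your own Groth.Agent.* helpers here

set_option autoImplicit false
universe u
open EGA2

namespace Groth.Agent.S3578

/-- Via the correspondence between closed subsets of Proj S and radical graded ideals of S_+: let S be a
graded ring and Z a closed subset of Proj S, with J = S_+ ∩ (vanishing ideal of Z). Then Z is
irreducible if and only if J is a prime ideal of the ring-without-unit S_+: J ≠ S_+ and a product of
two elements of S_+ lies in J only if one factor does. -/
theorem result {R A : Type u} [CommRing R] [CommRing A] [Algebra R A] (𝒜 : ℕ → Submodule R A) [GradedAlgebra 𝒜]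
    (Z : Set (ProjectiveSpectrum 𝒜)) (hZ : IsClosed Z) :
    IsIrreducible Z ↔
      (¬ (HomogeneousIdeal.irrelevant 𝒜).toIdeal ≤ (ProjectiveSpectrum.vanishingIdeal Z).toIdeal ∧
        ∀ f ∈ (HomogeneousIdeal.irrelevant 𝒜).toIdeal, ∀ g ∈ (HomogeneousIdeal.irrelevant 𝒜).toIdeal,
          f * g ∈ (ProjectiveSpectrum.vanishingIdeal Z).toIdeal →
            f ∈ (ProjectiveSpectrum.vanishingIdeal Z).toIdeal ∨ g ∈ (ProjectiveSpectrum.vanishingIdeal Z).toIdeal) := by
  classical
  constructor
  · intro hirr
    refine ⟨?_, ?_⟩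
    · intro hle
      obtain ⟨x, hx⟩ := hirr.nonempty
      apply x.not_irrelevant_le
      intro a ha
      exact (ProjectiveSpectrum.mem_vanishingIdeal Z a).mp (hle ha) x hx
    · intro f _ g _ hfg
      have h1 : IsClosed (ProjectiveSpectrum.zeroLocus 𝒜 ({f} : Set A)) :=
        ProjectiveSpectrum.isClosed_zeroLocus 𝒜 _
      have h2 : IsClosed (ProjectiveSpectrum.zeroLocus 𝒜 ({g} : Set A)) :=
        ProjectiveSpectrum.isClosed_zeroLocus 𝒜 _
      have hsub : Z ⊆ ProjectiveSpectrum.zeroLocus 𝒜 ({f} : Set A) ∪
          ProjectiveSpectrum.zeroLocus 𝒜 ({g} : Set A) := by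
        intro x hx
        have hx' : f * g ∈ x.asHomogeneousIdeal :=
          (ProjectiveSpectrum.mem_vanishingIdeal Z (f * g)).mp hfg x hx
        rcases x.isPrime.mem_or_mem hx' with h | h
        · left
          rw [ProjectiveSpectrum.mem_zeroLocus]
          intro a ha
          rw [Set.mem_singleton_iff] at ha
          subst ha
          exact h
        · right
          rw [ProjectiveSpectrum.mem_zeroLocus]
          intro a ha
          rw [Set.mem_singleton_iff] at ha
          subst ha
          exact h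
      rcases (isPreirreducible_iff_isClosed_union_isClosed.mp hirr.isPreirreducible) _ _ h1 h2 hsub
        with h | h
      · left
        refine (ProjectiveSpectrum.mem_vanishingIdeal Z f).mpr fun x hx => ?_
        have := h hx
        rw [ProjectiveSpectrum.mem_zeroLocus] at this
        exact this (Set.mem_singleton f)
      · right
        refine (ProjectiveSpectrum.mem_vanishingIdeal Z g).mpr fun x hx => ?_
        have := h hx
        rw [ProjectiveSpectrum.mem_zeroLocus] at this
        exact this (Set.mem_singleton g)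
  · rintro ⟨hne, hprime⟩
    refine ⟨?_, ?_⟩
    · by_contra hemp
      rw [Set.not_nonempty_iff_eq_empty] at hemp
      apply hne
      intro a _
      refine (ProjectiveSpectrum.mem_vanishingIdeal Z a).mpr fun x hx => ?_
      rw [hemp] at hx
      exact absurd hx (Set.notMem_empty x)
    · rw [isPreirreducible_iff_isClosed_union_isClosed]
      intro Z₁ Z₂ hZ₁ hZ₂ hsub
      by_contra hcon
      rw [not_or] at hcon
      obtain ⟨hn1, hn2⟩ := hcon
      obtain ⟨x₁, hx₁Z, hx₁⟩ := Set.not_subset.mp hn1
      obtain ⟨x₂, hx₂Z, hx₂⟩ := Set.not_subset.mp hn2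
      -- key: for closed W and x ∈ Z, x ∉ W, get f ∈ S+ ∩ I(W), f ∉ x
      have key : ∀ (W : Set (ProjectiveSpectrum 𝒜)), IsClosed W → ∀ x : ProjectiveSpectrum 𝒜,
          x ∉ W → ∃ f, f ∈ (HomogeneousIdeal.irrelevant 𝒜).toIdeal ∧
            f ∈ (ProjectiveSpectrum.vanishingIdeal W).toIdeal ∧ f ∉ x.asHomogeneousIdeal := by
        intro W hW x hxW
        have hcl : ProjectiveSpectrum.zeroLocus 𝒜 (ProjectiveSpectrum.vanishingIdeal W : Set A) = W := by
          rw [ProjectiveSpectrum.zeroLocus_vanishingIdeal_eq_closure, hW.closure_eq]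
        rw [← hcl, ProjectiveSpectrum.mem_zeroLocus, Set.not_subset] at hxW
        obtain ⟨a, haW, hax⟩ := hxW
        obtain ⟨s, hsS, hsx⟩ := Set.not_subset.mp (fun h => x.not_irrelevant_le h)
        refine ⟨s * a, Ideal.mul_mem_right _ _ hsS, Ideal.mul_mem_left _ _ haW, ?_⟩
        intro hmem
        rcases x.isPrime.mem_or_mem hmem with h | h
        · exact hsx h
        · exact hax h
      obtain ⟨f, hfS, hfW, hfx⟩ := key Z₁ hZ₁ x₁ hx₁
      obtain ⟨g, hgS, hgW, hgx⟩ := key Z₂ hZ₂ x₂ hx₂
      have hfg : f * g ∈ (ProjectiveSpectrum.vanishingIdeal Z).toIdeal := by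
        refine (ProjectiveSpectrum.mem_vanishingIdeal Z (f * g)).mpr fun x hx => ?_
        rcases hsub hx with h | h
        · exact Ideal.mul_mem_right _ _ ((ProjectiveSpectrum.mem_vanishingIdeal Z₁ f).mp hfW x h)
        · exact Ideal.mul_mem_left _ _ ((ProjectiveSpectrum.mem_vanishingIdeal Z₂ g).mp hgW x h)
      rcases hprime f hfS g hgS hfg with h | h
      · exact hfx ((ProjectiveSpectrum.mem_vanishingIdeal Z f).mp h x₁ hx₁Z)
      · exact hgx ((ProjectiveSpectrum.mem_vanishingIdeal Z g).mp h x₂ hx₂Z)

end Groth.Agent.S3578
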