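import Groth.Statements.S3579
import Groth.Agent.Lib.Helper11.SerrePn
import Groth.Agent.Lib.Helper16.FLF1

set_option autoImplicit false
universe u
open CategoryTheory CategoryTheory.Limits AlgebraicGeometry
open EGA2

namespace Groth.Agent.S3579

open CategoryTheory CategoryTheory.Limits AlgebraicGeometry Opposite in
/-- a finitely generated-by-global-sections module is a quotient of `O^k` -/
theorem exists_epi_freeMod {X : Scheme.{u}} (M : X.Modules) (ι : Type u) [Finite ι]
    (T : ι → M.val.obj (op ⊤))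
    (hT : ∀ y : X, Groth.Agent.Lib.helper11.SerreGG.GenAtBy M T y) :
    ∃ (k : ℕ) (p : FlatMod.freeMod X k ⟶ M), Epi p := by
  obtain ⟨k, ⟨eq⟩⟩ := Finite.exists_equiv_fin ι
  let T' : ULift.{u} (Fin k) → M.val.obj (op ⊤) := fun j => T (eq.symm j.down)
  have hT' : ∀ y : X, Groth.Agent.Lib.helper11.SerreGG.GenAtBy M T' y := fun y =>
    Groth.Agent.Lib.helper11.SerreGG.GenAtBy.mono (τ := T) (τ' := T')
      (fun i => ⟨⟨eq i⟩, by simp [T']⟩) (hT y)
  have hepi : Epi (Groth.Agent.Lib.helper11.SerreGG.canonBy M T') :=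
    Groth.Agent.Lib.helper11.SerreGG.epi_of_genAtBy M T' hT'
  exact ⟨k, (Groth.Agent.Lib.helper16.FLF.freeModIso X k).hom ≫
    Groth.Agent.Lib.helper11.SerreGG.canonBy M T',
    @epi_comp _ _ _ _ _ (Groth.Agent.Lib.helper16.FLF.freeModIso X k).hom inferInstance _ hepi⟩


/-- Let S be a graded ring whose irrelevant ideal S_+ is generated by finitely many elements of degree
one, X = Proj S, and let F be an O_X-module that is quasi-coherent and of finite type. Then for some
n₀ and all n ≥ n₀, the twist F(n) = F ⊗ O_X(n) is a quotient of a finite free module O_X^k (k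
depending on n); in particular F(n) is generated by finitely many global sections. -/
theorem result {R A : Type u} [CommRing R] [CommRing A] [Algebra R A] (𝒜 : ℕ → Submodule R A) [GradedAlgebra 𝒜]
    (s : Finset A) (hs1 : ∀ f ∈ s, f ∈ 𝒜 1)
    (hs : (HomogeneousIdeal.irrelevant 𝒜).toIdeal = Ideal.span (s : Set A))
    (F : (Proj 𝒜).Modules) (hF : Coh.IsQCoh F) (hFT : CohB1.IsFT F) :
    ∃ n₀ : ℕ, ∀ n : ℕ, n₀ ≤ n →
      ∃ (k : ℕ) (p : FlatMod.freeMod (Proj 𝒜) k ⟶ Twist.twistBy 𝒜 F (n : ℤ)), Epi p := by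
  classical
  have hcov : ∀ x : ProjectiveSpectrum 𝒜, ∃ f ∈ 𝒜 1, f ∉ x.asHomogeneousIdeal := by
    intro x
    by_contra hcon
    push Not at hcon
    apply x.not_irrelevant_le
    intro a ha
    have ha' : a ∈ Ideal.span (s : Set A) := by rw [← hs]; exact ha
    have hle : Ideal.span (s : Set A) ≤ x.asHomogeneousIdeal.toIdeal :=
      Ideal.span_le.mpr fun f hf => hcon f (hs1 f hf)
    exact hle ha'
  have hcs : ∀ x : ProjectiveSpectrum 𝒜, ∃ f ∈ s, f ∉ x.asHomogeneousIdeal := by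
    intro x
    by_contra hcon
    push Not at hcon
    apply x.not_irrelevant_le
    intro a ha
    have ha' : a ∈ Ideal.span (s : Set A) := by rw [← hs]; exact ha
    have hle : Ideal.span (s : Set A) ≤ x.asHomogeneousIdeal.toIdeal :=
      Ideal.span_le.mpr fun f hf => hcon f hf
    exact hle ha'
  have hc : CompactSpace (Proj 𝒜) :=
    Groth.Agent.Lib.helper28.TwistSecHom.compactSpace_of_finset 𝒜 s
      (fun f hf => ⟨1, Nat.one_pos, hs1 f hf⟩) hcs
  have hqs : QuasiSeparatedSpace (Proj 𝒜) := inferInstance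
  have hamp : CohB1.IsAmple (Twist.twist 𝒜 1) := by
    have := Groth.Agent.Lib.helper28.TwistAmple.isAmple_twist 𝒜 hcov 1 Nat.one_pos
    simpa using this
  obtain ⟨n₀, h⟩ := Groth.Agent.Lib.helper11.SerreGG.exists_finite_genAtBy_twist hamp F ⟨hF, hFT⟩
  refine ⟨n₀, fun n hn => ?_⟩
  obtain ⟨ι, hι, T, hT⟩ := h n hn
  obtain ⟨k, p, hp⟩ := exists_epi_freeMod _ ι T hT
  let e : CohB1.tensorMod F (CohB1.tensorPow (Twist.twist 𝒜 1) n) ≅ Twist.twistBy 𝒜 F (n : ℤ) :=
    PicGrp.tensorModIso (Iso.refl F) (Groth.Agent.Lib.helper28.TwistAll.twistPowIso 𝒜 hcov n).symm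
  exact ⟨k, p ≫ e.hom, epi_comp _ _⟩

end Groth.Agent.S3579
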