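import Groth.Statements.S3580
import Groth.Agent.Lib.Helper12.Veronese3

set_option autoImplicit false
universe u
open CategoryTheory CategoryTheory.Limits AlgebraicGeometry
open EGA2

namespace Groth.Agent.S3580

/-- Let S be a graded ring, d > 0, and S^{(d)} the graded ring with S^{(d)}_n = S_{nd} (here: any graded
ring S' with an injective algebra homomorphism φ : S' → S carrying S'_n onto S_{nd} for every n).
Then there is an isomorphism of schemes Proj S ≅ Proj S^{(d)} sending a homogeneous prime p to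
φ⁻¹(p), and which over each standard open D_+(g), g ∈ S'_n with n > 0, is induced by the ring
isomorphism S'_(g) ≅ S_(φ g), b/g^k ↦ φ(b)/φ(g)^k; precisely: for every ring map θ : S'_(g) → S_(φ
g) compatible with b/g^k ↦ φ(b)/φ(g)^k inside the localizations, the composite of Spec S_(φ g) →
Proj S with the isomorphism equals Spec θ followed by Spec S'_(g) → Proj S'. -/
theorem result {R A : Type u} [CommRing R] [CommRing A] [Algebra R A] (𝒜 : ℕ → Submodule R A) [GradedAlgebra 𝒜]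
    {B : Type u} [CommRing B] [Algebra R B] (ℬ : ℕ → Submodule R B) [GradedAlgebra ℬ]
    (d : ℕ) (hd : 0 < d) (φ : B →ₐ[R] A) (hφ : Function.Injective φ)
    (hdeg : ∀ n : ℕ, Submodule.map φ.toLinearMap (ℬ n) = 𝒜 (n * d)) :
    ∃ e : Proj 𝒜 ≅ Proj ℬ,
      (∀ p : Proj 𝒜, (e.hom.base p).asHomogeneousIdeal.toIdeal = Ideal.comap φ p.asHomogeneousIdeal.toIdeal) ∧
      ∀ (n : ℕ) (g : B) (hn : 0 < n) (hg : g ∈ ℬ n)
        (θ : CommRingCat.of (HomogeneousLocalization.Away ℬ g) ⟶ CommRingCat.of (HomogeneousLocalization.Away 𝒜 (φ g))),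
        (algebraMap (HomogeneousLocalization.Away 𝒜 (φ g)) (Localization.Away (φ g))).comp θ.hom =
          (Localization.awayMap φ.toRingHom g).comp
            (algebraMap (HomogeneousLocalization.Away ℬ g) (Localization.Away g)) →
        Proj.awayι 𝒜 (φ g) ((hdeg n).le (Submodule.mem_map_of_mem hg)) (Nat.mul_pos hn hd) ≫ e.hom =
          Spec.map θ ≫ Proj.awayι ℬ g hg hn := by
  classical
  -- the index type of charts
  let I : Type u := {p : ℕ × B // 0 < p.1 ∧ p.2 ∈ ℬ p.1}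
  have hgI : ∀ i : I, i.1.2 ∈ ℬ i.1.1 := fun i => i.2.2
  have hnI : ∀ i : I, 0 < i.1.1 := fun i => i.2.1
  have hfI : ∀ i : I, φ i.1.2 ∈ 𝒜 (i.1.1 * d) := fun i =>
    Groth.Agent.Lib.helper12.Veronese.map_mem hdeg i.2.2
  have hmI : ∀ i : I, 0 < i.1.1 * d := fun i => Nat.mul_pos i.2.1 hd
  -- covers
  have hcovB : ∀ q : Proj ℬ, ∃ i : I, i.1.2 ∉ q.asHomogeneousIdeal := by
    intro q
    obtain ⟨n, hn, a, ha, haq⟩ := Groth.Agent.Lib.helper12.Veronese.exists_homogeneous_not_mem ℬ q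
    exact ⟨⟨(n, a), hn, ha⟩, haq⟩
  have hcovA : ∀ p : Proj 𝒜, ∃ i : I, φ i.1.2 ∉ p.asHomogeneousIdeal := by
    intro p
    obtain ⟨n, hn, a, ha, hap⟩ := Groth.Agent.Lib.helper12.Veronese.exists_homogeneous_not_mem 𝒜 p
    have had : a ^ d ∈ 𝒜 (n * d) := by
      have := SetLike.pow_mem_graded d ha
      rwa [smul_eq_mul, mul_comm] at this
    obtain ⟨b, hb, hba⟩ := Groth.Agent.Lib.helper12.Veronese.exists_preimage hdeg had
    refine ⟨⟨(n, b), hn, hb⟩, ?_⟩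
    change φ b ∉ p.asHomogeneousIdeal
    rw [hba]
    intro hmem
    exact hap (p.isPrime.mem_of_pow_mem d hmem)
  -- the forward morphism
  obtain ⟨ehom, hehom, -⟩ := Groth.Agent.Lib.helper12.Veronese.glue_proj 𝒜 ℬ
    (fun i : I => i.1.1 * d) (fun i : I => i.1.1) (fun i : I => φ i.1.2) (fun i : I => i.1.2)
    hmI hnI hfI hgI
    (fun i : I => Groth.Agent.Lib.helper12.Veronese.theta 𝒜 ℬ d φ hdeg i.1.2 i.2.2 (φ i.1.2) rfl)
    hcovA
    (fun i j => ⟨Groth.Agent.Lib.helper12.Veronese.theta 𝒜 ℬ d φ hdeg (i.1.2 * j.1.2)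
        (SetLike.mul_mem_graded i.2.2 j.2.2) (φ i.1.2 * φ j.1.2) (map_mul φ _ _),
      Groth.Agent.Lib.helper12.Veronese.theta_comp_awayMap hdeg i.2.2 j.2.2 rfl rfl rfl rfl
        (map_mul φ _ _) (hfI j) _,
      Groth.Agent.Lib.helper12.Veronese.theta_comp_awayMap hdeg j.2.2 i.2.2 rfl rfl
        (mul_comm _ _) (mul_comm _ _) (map_mul φ _ _) (hfI i) _⟩)
  -- the backward morphism
  obtain ⟨einv, heinv, -⟩ := Groth.Agent.Lib.helper12.Veronese.glue_proj ℬ 𝒜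
    (fun i : I => i.1.1) (fun i : I => i.1.1 * d) (fun i : I => i.1.2) (fun i : I => φ i.1.2)
    hnI hmI hgI hfI
    (fun i : I => ((Groth.Agent.Lib.helper12.Veronese.thetaEquiv 𝒜 ℬ d φ hdeg hφ i.1.2 i.2.2
      (φ i.1.2) rfl).symm : HomogeneousLocalization.Away 𝒜 (φ i.1.2) →+*
        HomogeneousLocalization.Away ℬ i.1.2))
    hcovB
    (fun i j => ⟨((Groth.Agent.Lib.helper12.Veronese.thetaEquiv 𝒜 ℬ d φ hdeg hφ (i.1.2 * j.1.2)
        (SetLike.mul_mem_graded i.2.2 j.2.2) (φ i.1.2 * φ j.1.2) (map_mul φ _ _)).symm :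
          HomogeneousLocalization.Away 𝒜 (φ i.1.2 * φ j.1.2) →+*
            HomogeneousLocalization.Away ℬ (i.1.2 * j.1.2)),
      Groth.Agent.Lib.helper12.Veronese.thetaEquiv_symm_comp_awayMap hdeg hφ i.2.2 j.2.2 rfl rfl
        rfl rfl (map_mul φ _ _) (hfI j) _,
      Groth.Agent.Lib.helper12.Veronese.thetaEquiv_symm_comp_awayMap hdeg hφ j.2.2 i.2.2 rfl rfl
        (mul_comm _ _) (mul_comm _ _) (map_mul φ _ _) (hfI i) _⟩)
  -- ring-level inverse identities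
  have hθ1 : ∀ i : I, (Groth.Agent.Lib.helper12.Veronese.theta 𝒜 ℬ d φ hdeg i.1.2 i.2.2
      (φ i.1.2) rfl).comp
      ((Groth.Agent.Lib.helper12.Veronese.thetaEquiv 𝒜 ℬ d φ hdeg hφ i.1.2 i.2.2
      (φ i.1.2) rfl).symm : HomogeneousLocalization.Away 𝒜 (φ i.1.2) →+*
        HomogeneousLocalization.Away ℬ i.1.2) = RingHom.id _ := by
    intro i
    ext z : 1
    exact (Groth.Agent.Lib.helper12.Veronese.thetaEquiv 𝒜 ℬ d φ hdeg hφ i.1.2 i.2.2
      (φ i.1.2) rfl).apply_symm_apply z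
  have hθ2 : ∀ i : I, ((Groth.Agent.Lib.helper12.Veronese.thetaEquiv 𝒜 ℬ d φ hdeg hφ i.1.2 i.2.2
      (φ i.1.2) rfl).symm : HomogeneousLocalization.Away 𝒜 (φ i.1.2) →+*
        HomogeneousLocalization.Away ℬ i.1.2).comp
      (Groth.Agent.Lib.helper12.Veronese.theta 𝒜 ℬ d φ hdeg i.1.2 i.2.2
      (φ i.1.2) rfl) = RingHom.id _ := by
    intro i
    ext z : 1
    exact (Groth.Agent.Lib.helper12.Veronese.thetaEquiv 𝒜 ℬ d φ hdeg hφ i.1.2 i.2.2
      (φ i.1.2) rfl).symm_apply_apply z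
  have hcA : ∀ p : Proj 𝒜, ∃ i : I, p ∈ Set.range (Proj.awayι 𝒜 (φ i.1.2) (hfI i) (hmI i)).base := by
    intro p
    obtain ⟨i, hi⟩ := hcovA p
    exact ⟨i, (Groth.Agent.Lib.helper12.Veronese.mem_range_awayι 𝒜 _ _ _ p).mpr hi⟩
  have hcB : ∀ q : Proj ℬ, ∃ i : I, q ∈ Set.range (Proj.awayι ℬ i.1.2 (hgI i) (hnI i)).base := by
    intro q
    obtain ⟨i, hi⟩ := hcovB q
    exact ⟨i, (Groth.Agent.Lib.helper12.Veronese.mem_range_awayι ℬ _ _ _ q).mpr hi⟩
  have h1 : ehom ≫ einv = 𝟙 _ := by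
    refine Groth.Agent.Lib.helper12.Veronese.hom_ext_of_charts
      (fun i : I => Proj.awayι 𝒜 (φ i.1.2) (hfI i) (hmI i)) hcA _ _ (fun i => ?_)
    rw [← Category.assoc, hehom i, Category.assoc, heinv i, ← Category.assoc, ← Spec.map_comp,
      ← CommRingCat.ofHom_comp, hθ1 i, Category.comp_id]
    simp
  have h2 : einv ≫ ehom = 𝟙 _ := by
    refine Groth.Agent.Lib.helper12.Veronese.hom_ext_of_charts
      (fun i : I => Proj.awayι ℬ i.1.2 (hgI i) (hnI i)) hcB _ _ (fun i => ?_)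
    rw [← Category.assoc, heinv i, Category.assoc, hehom i, ← Category.assoc, ← Spec.map_comp,
      ← CommRingCat.ofHom_comp, hθ2 i, Category.comp_id]
    simp
  -- key: basic opens correspond
  have hkey : ∀ (i : I) (p : Proj 𝒜),
      i.1.2 ∉ (ehom.base p).asHomogeneousIdeal ↔ φ i.1.2 ∉ p.asHomogeneousIdeal := by
    intro i p
    rw [← Groth.Agent.Lib.helper12.Veronese.mem_range_awayι ℬ _ (hgI i) (hnI i),
      ← Groth.Agent.Lib.helper12.Veronese.mem_range_awayι 𝒜 _ (hfI i) (hmI i)]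
    constructor
    · rintro ⟨q', hq'⟩
      refine ⟨(Spec.map (CommRingCat.ofHom ((Groth.Agent.Lib.helper12.Veronese.thetaEquiv 𝒜 ℬ d φ
        hdeg hφ i.1.2 i.2.2 (φ i.1.2) rfl).symm : HomogeneousLocalization.Away 𝒜 (φ i.1.2) →+*
        HomogeneousLocalization.Away ℬ i.1.2))).base q', ?_⟩
      rw [← Scheme.Hom.comp_apply, ← heinv i, Scheme.Hom.comp_apply, hq',
        ← Scheme.Hom.comp_apply, h1]
      rfl
    · rintro ⟨p', rfl⟩
      refine ⟨(Spec.map (CommRingCat.ofHom (Groth.Agent.Lib.helper12.Veronese.theta 𝒜 ℬ d φ hdeg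
        i.1.2 i.2.2 (φ i.1.2) rfl))).base p', ?_⟩
      rw [← Scheme.Hom.comp_apply, ← hehom i, Scheme.Hom.comp_apply]
  refine ⟨⟨ehom, einv, h1, h2⟩, ?_, ?_⟩
  · intro p
    refine Groth.Agent.Lib.helper12.Veronese.eq_comap_of_homogeneous hdeg hd _ _ (fun k b hb => ?_)
    obtain ⟨i, hi⟩ := hcovB (ehom.base p)
    have hi' := (hkey i p).mp hi
    have hbi := (hkey ⟨(k + i.1.1, b * i.1.2), Nat.add_pos_right k i.2.1,
      SetLike.mul_mem_graded hb i.2.2⟩ p)
    change b * i.1.2 ∉ (ehom.base p).asHomogeneousIdeal ↔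
      φ (b * i.1.2) ∉ p.asHomogeneousIdeal at hbi
    rw [map_mul] at hbi
    constructor
    · intro hbq
      by_contra hbp
      exact (hbi.mpr (fun h => (p.isPrime.mem_or_mem h).elim hbp hi'))
        (Ideal.mul_mem_right _ _ hbq)
    · intro hbp
      by_contra hbq
      exact (hbi.mp (fun h => ((ehom.base p).isPrime.mem_or_mem h).elim hbq hi))
        (Ideal.mul_mem_right _ _ hbp)
  · intro n g hn hg θ hθ
    have hθ' : θ.hom = Groth.Agent.Lib.helper12.Veronese.theta 𝒜 ℬ d φ hdeg g hg (φ g) rfl :=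
      Groth.Agent.Lib.helper12.Veronese.eq_theta hdeg g hg (φ g) rfl θ.hom hθ
    have := hehom ⟨(n, g), hn, hg⟩
    change Proj.awayι 𝒜 (φ g) _ _ ≫ ehom = Spec.map (CommRingCat.ofHom
      (Groth.Agent.Lib.helper12.Veronese.theta 𝒜 ℬ d φ hdeg g hg (φ g) rfl)) ≫ _ at this
    rw [← hθ'] at this
    exact this

end Groth.Agent.S3580
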