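import Groth.Statements.S3581
import Mathlib.AlgebraicGeometry.Morphisms.IsIso
import Mathlib.RingTheory.MvPolynomial.Ideal
-- import your own Groth.Agent.* helpers here

set_option autoImplicit false
universe u
open CategoryTheory CategoryTheory.Limits AlgebraicGeometry
open EGA2

namespace Groth.Agent.S3581


open HomogeneousLocalization in
theorem toSpec_isIso (R : Type u) [CommRing R] :
    IsIso (CohB1.ProjSpace.toSpec 0 R) := by
  classical
  let 𝒜 := CohB1.polyGrading 0 R
  let f : MvPolynomial (Fin 1) R := MvPolynomial.X 0
  have hf : f ∈ 𝒜 1 := MvPolynomial.isHomogeneous_X R 0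
  let ev : MvPolynomial (Fin 1) R →+* R :=
    (MvPolynomial.aeval (fun i : Fin 1 => if i = 0 then (1 : R) else 0)).toRingHom
  have hev : IsUnit (ev f) := by
    simp [ev, f]
  let ρ : Away 𝒜 f →+* R :=
    (IsLocalization.Away.lift f hev).comp (algebraMap (Away 𝒜 f) (Localization.Away f))
  let ψ : R →+* Away 𝒜 f := (fromZeroRingHom 𝒜 (Submonoid.powers f)).comp (algebraMap R (𝒜 0))
  have hψval : ∀ r : R, (ψ r).val = Localization.mk (MvPolynomial.C r) (1 : Submonoid.powers f) := by
    intro r
    simp only [ψ, RingHom.comp_apply, fromZeroRingHom, RingHom.coe_mk, MonoidHom.coe_mk,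
      OneHom.coe_mk, val_mk]
    rfl
  have hρψ : ρ.comp ψ = RingHom.id R := by
    ext r
    simp only [ρ, RingHom.comp_apply, RingHom.id_apply]
    have h1 : (algebraMap (Away 𝒜 f) (Localization.Away f)) (ψ r) =
        algebraMap (MvPolynomial (Fin 1) R) (Localization.Away f) (MvPolynomial.C r) := by
      rw [HomogeneousLocalization.algebraMap_apply, hψval, Localization.mk_one_eq_algebraMap]
    rw [h1, IsLocalization.Away.lift_eq]
    simp [ev]
  have hψinj : Function.Injective ψ := by
    intro a b hab
    have := congrArg ρ hab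
    rwa [← RingHom.comp_apply, ← RingHom.comp_apply, hρψ] at this
  have hψsurj : Function.Surjective ψ := by
    intro x
    obtain ⟨n, a, ha, rfl⟩ := Away.mk_surjective 𝒜 hf x
    have ha' : a.IsHomogeneous n := by
      have : n • 1 = n := by simp
      rw [this] at ha
      exact ha
    refine ⟨MvPolynomial.coeff (Finsupp.single 0 n) a, ?_⟩
    have hmono : a = MvPolynomial.C (MvPolynomial.coeff (Finsupp.single 0 n) a) * f ^ n := by
      ext m
      have hm : m = Finsupp.single 0 (m 0) := by
        apply Finsupp.ext
        intro i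
        fin_cases i
        simp
      simp only [f]
      rw [MvPolynomial.X_pow_eq_monomial, MvPolynomial.C_mul_monomial, mul_one,
        MvPolynomial.coeff_monomial]
      by_cases h : Finsupp.single 0 n = m
      · rw [if_pos h, h]
      · rw [if_neg h]
        apply ha'.coeff_eq_zero
        intro hdeg
        apply h
        rw [hm] at hdeg ⊢
        simp only [Finsupp.degree_single] at hdeg
        rw [hdeg]
    apply HomogeneousLocalization.val_injective
    rw [hψval, Away.val_mk]
    rw [Localization.mk_eq_mk_iff, Localization.r_iff_exists]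
    refine ⟨1, ?_⟩
    simp only [OneMemClass.coe_one, one_mul]
    conv_rhs => rw [hmono]
    ring
  let t : Proj 𝒜 ⟶ Spec (CommRingCat.of R) :=
    Proj.toSpecZero 𝒜 ≫ Spec.map (CommRingCat.ofHom (algebraMap R (𝒜 0)))
  have ht : CohB1.ProjSpace.toSpec 0 R = t := rfl
  have hcomp : Proj.awayι 𝒜 f hf one_pos ≫ t = Spec.map (CommRingCat.ofHom ψ) := by
    simp only [t]
    rw [← Category.assoc, Proj.awayι_toSpecZero, ← Spec.map_comp]
    rfl
  -- the basic open of X 0 is everything
  have htop : Proj.basicOpen 𝒜 f = ⊤ := by
    have hle : (HomogeneousIdeal.irrelevant 𝒜).toIdeal ≤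
        Ideal.span (Set.range (fun _ : Unit => f)) := by
      intro g hg
      have hg0 : MvPolynomial.coeff 0 g = 0 := by
        have h0 : GradedRing.proj 𝒜 0 g = 0 := (HomogeneousIdeal.mem_irrelevant_iff 𝒜 g).mp hg
        have h1 : MvPolynomial.homogeneousComponent 0 g = 0 := by
          rw [← h0, GradedRing.proj_apply]
          exact (MvPolynomial.decomposition.decompose'_apply g 0).symm
        have := congrArg (MvPolynomial.coeff 0) h1
        rwa [MvPolynomial.coeff_homogeneousComponent, if_pos (by simp), MvPolynomial.coeff_zero] at this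
      have hrange : Set.range (fun _ : Unit => f) = MvPolynomial.X '' (Set.univ : Set (Fin 1)) := by
        ext y
        simp only [Set.mem_range, exists_const, Set.image_univ, f]
        constructor
        · intro h; exact ⟨0, h⟩
        · rintro ⟨i, hi⟩; fin_cases i; exact hi
      rw [hrange, MvPolynomial.mem_ideal_span_X_image]
      intro m hm
      have hm0 : m ≠ 0 := by
        rintro rfl
        exact (MvPolynomial.mem_support_iff.mp hm) hg0
      obtain ⟨i, hi⟩ : ∃ i, m i ≠ 0 := by
        by_contra hcon
        push Not at hcon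
        exact hm0 (Finsupp.ext hcon)
      exact ⟨i, Set.mem_univ i, hi⟩
    have := Proj.iSup_basicOpen_eq_top 𝒜 (fun _ : Unit => f) hle
    simpa using this
  have : IsIso (Proj.awayι 𝒜 f hf one_pos) := by
    rw [isIso_iff_isOpenImmersion_and_surjective]
    refine ⟨inferInstance, ⟨?_⟩⟩
    rw [← Set.range_eq_univ]
    have := Proj.opensRange_awayι 𝒜 f hf one_pos
    rw [htop] at this
    exact congrArg (fun U : (Proj 𝒜).Opens => (U : Set (Proj 𝒜))) this
  have : IsIso (Spec.map (CommRingCat.ofHom ψ)) :=
    isIso_SpecMap_iff.mpr ⟨hψinj, hψsurj⟩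
  have hfinal : t = inv (Proj.awayι 𝒜 f hf one_pos) ≫ Spec.map (CommRingCat.ofHom ψ) := by
    rw [IsIso.eq_inv_comp, hcomp]
  have h3 : IsIso t := by
    rw [hfinal]; infer_instance
  exact h3

/-- Over an affine base Spec A, Proj of the graded polynomial algebra A[T] (T of degree one) is
identified with Spec A by its structure morphism: the structure morphism from projective 0-space
over A to Spec A is an isomorphism. -/
theorem result (A : Type u) [CommRing A] :
    IsIso (CohB1.ProjSpace.toSpec 0 A) := by
  exact toSpec_isIso A

end Groth.Agent.S3581
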