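import Groth.Statements.S3582
import Mathlib.AlgebraicGeometry.Morphisms.UnderlyingMap
import Mathlib.AlgebraicGeometry.PullbackCarrier
-- import your own Groth.Agent.* helpers here

set_option autoImplicit false
universe u
open CategoryTheory CategoryTheory.Limits AlgebraicGeometry
open EGA2

namespace Groth.Agent.S3582


open HomogeneousLocalization in
theorem toSpec_surjective (n : ℕ) (R : Type u) [CommRing R] :
    Surjective (CohB1.ProjSpace.toSpec n R) := by
  classical
  let 𝒜 := CohB1.polyGrading n R
  let f : MvPolynomial (Fin (n + 1)) R := MvPolynomial.X 0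
  have hf : f ∈ 𝒜 1 := MvPolynomial.isHomogeneous_X R 0
  -- evaluation X_i ↦ (if i = 0 then 1 else 0)
  let ev : MvPolynomial (Fin (n + 1)) R →+* R :=
    (MvPolynomial.aeval (fun i : Fin (n + 1) => if i = 0 then (1 : R) else 0)).toRingHom
  have hev : IsUnit (ev f) := by
    simp [ev, f]
  let ρ : Away 𝒜 f →+* R :=
    (IsLocalization.Away.lift f hev).comp (algebraMap (Away 𝒜 f) (Localization.Away f))
  let ψ : R →+* Away 𝒜 f := (fromZeroRingHom 𝒜 (Submonoid.powers f)).comp (algebraMap R (𝒜 0))
  have hρψ : ρ.comp ψ = RingHom.id R := by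
    ext r
    simp only [ρ, ψ, RingHom.comp_apply, RingHom.id_apply]
    have h1 : (algebraMap (Away 𝒜 f) (Localization.Away f))
        (fromZeroRingHom 𝒜 (Submonoid.powers f) (algebraMap R (𝒜 0) r)) =
        algebraMap (MvPolynomial (Fin (n + 1)) R) (Localization.Away f) (MvPolynomial.C r) := by
      rw [HomogeneousLocalization.algebraMap_apply]
      simp only [fromZeroRingHom, RingHom.coe_mk, MonoidHom.coe_mk, OneHom.coe_mk, val_mk]
      change Localization.mk (MvPolynomial.C r) (1 : Submonoid.powers f) = _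
      rw [Localization.mk_one_eq_algebraMap]
    rw [h1, IsLocalization.Away.lift_eq]
    simp [ev]
  let t : Proj 𝒜 ⟶ Spec (CommRingCat.of R) :=
    Proj.toSpecZero 𝒜 ≫ Spec.map (CommRingCat.ofHom (algebraMap R (𝒜 0)))
  have ht : CohB1.ProjSpace.toSpec n R = t := rfl
  have hcomp : Proj.awayι 𝒜 f hf one_pos ≫ t = Spec.map (CommRingCat.ofHom ψ) := by
    simp only [t]
    rw [← Category.assoc, Proj.awayι_toSpecZero, ← Spec.map_comp]
    rfl
  have hsplit : Spec.map (CommRingCat.ofHom ρ) ≫ Spec.map (CommRingCat.ofHom ψ) = 𝟙 _ := by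
    rw [← Spec.map_comp, ← CommRingCat.ofHom_comp, hρψ]
    simp
  have h1 : Surjective (Spec.map (CommRingCat.ofHom ψ)) := by
    have : Surjective (Spec.map (CommRingCat.ofHom ρ) ≫ Spec.map (CommRingCat.ofHom ψ)) := by
      rw [hsplit]; infer_instance
    exact Surjective.of_comp (Spec.map (CommRingCat.ofHom ρ)) _
  have h2 : Surjective (Proj.awayι 𝒜 f hf one_pos ≫ t) := by
    rw [hcomp]; exact h1
  rw [ht]
  exact Surjective.of_comp (Proj.awayι 𝒜 f hf one_pos) _

/-- For every scheme Y and every r ≥ 0 the structure morphism from projective r-space over Y to Y is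
surjective. -/
theorem result (r : ℕ) (Y : Scheme.{u}) :
    Surjective (CohB1.ProjSpaceOver.toBase r Y) := by
  have := toSpec_surjective r (ULift.{u} ℤ)
  exact MorphismProperty.pullback_snd (P := @Surjective) _ _ this

end Groth.Agent.S3582
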