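import Groth.Statements.S3583
import Mathlib.AlgebraicGeometry.Morphisms.ClosedImmersion
-- import your own Groth.Agent.* helpers here

set_option autoImplicit false
universe u
open CategoryTheory AlgebraicGeometry Opposite
open EGA2

namespace Groth.Agent.S3583


theorem algHom_app {X Y S : Scheme.{u}} (f : X ⟶ S) (h : Y ⟶ X) (V : S.Opens) :
    (AffAlg.algHom f (h ≫ f) h rfl).app (Opposite.op V) = h.app (f ⁻¹ᵁ V) := by
  simp only [AffAlg.algHom]
  rfl

theorem surj_appTop_restrict {X Y : Scheme.{u}} (h : Y ⟶ X) (U : X.Opens)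
    (H : Function.Surjective (h.app U).hom) :
    Function.Surjective ((h ∣_ U).appTop).hom := by
  have e : U.ι ''ᵁ ⊤ = U := by simp
  have h1 : Function.Surjective (h.app (U.ι ''ᵁ ⊤)).hom := by rw [e]; exact H
  have h2 : Function.Surjective (h.app (U.ι ''ᵁ ⊤) ≫
      Y.presheaf.map (eqToHom (image_morphismRestrict_preimage h U ⊤)).op).hom := by
    rw [CommRingCat.hom_comp, RingHom.coe_comp]
    refine Function.Surjective.comp ?_ h1
    exact ((ConcreteCategory.isIso_iff_bijective
      (Y.presheaf.map (eqToHom (image_morphismRestrict_preimage h U ⊤)).op)).mp inferInstance).2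
  rw [morphismRestrict_appTop]; exact h2

/-- In the form stated after its proof: let f : X → S and f' : X' → S be affine morphisms and h : X' → X
an S-morphism such that the O_S-algebra homomorphism A(h) : f_*O_X → f'_*O_{X'} is surjective (as a
map of quasi-coherent O_S-modules, i.e. on sections over every affine open of S). Then h is a closed
immersion. -/
theorem result {X X' S : Scheme.{u}} (f : X ⟶ S) [IsAffineHom f]
    (f' : X' ⟶ S) [IsAffineHom f'] (h : X' ⟶ X) (w : h ≫ f = f')
    (hsurj : ∀ U : S.affineOpens, Function.Surjective ((AffAlg.algHom f f' h w).app (op U.1)).hom) :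
    IsClosedImmersion h := by
  subst w
  have happ : ∀ V : S.affineOpens, Function.Surjective (h.app (f ⁻¹ᵁ V.1)).hom := by
    intro V
    have h1 := hsurj V
    rw [algHom_app] at h1; exact h1
  rw [HasAffineProperty.iff_of_iSup_eq_top (P := @IsClosedImmersion)
    (fun V : S.affineOpens => (⟨f ⁻¹ᵁ V.1, V.2.preimage f⟩ : X.affineOpens))
    (f.iSup_preimage_eq_top (iSup_affineOpens_eq_top S))]
  intro V
  refine ⟨?_, surj_appTop_restrict h _ (happ V)⟩
  exact V.2.preimage (h ≫ f)

end Groth.Agent.S3583
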