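import Groth.Statements.S3584
import Groth.Agent.Lib.Helper28.TwistAmple
-- import your own Groth.Agent.* helpers here

set_option autoImplicit false
universe u
open CategoryTheory CategoryTheory.Limits AlgebraicGeometry
open EGA2

namespace Groth.Agent.S3584

/-- Let S be a graded ring whose irrelevant ideal S_+ is generated by finitely many elements of degree
one. Then the twisting sheaf O_X(1) on X = Proj S is ample (X is quasi-compact and covered by the
affine non-vanishing loci of sections of the positive powers of O_X(1)). -/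
theorem result {R A : Type u} [CommRing R] [CommRing A] [Algebra R A] (𝒜 : ℕ → Submodule R A) [GradedAlgebra 𝒜]
    (s : Finset A) (hs1 : ∀ f ∈ s, f ∈ 𝒜 1)
    (hs : (HomogeneousIdeal.irrelevant 𝒜).toIdeal = Ideal.span (s : Set A)) :
    CohB1.IsAmple (Twist.twist 𝒜 1) := by
  have hcovs : ∀ x : ProjectiveSpectrum 𝒜, ∃ f ∈ s, f ∉ x.asHomogeneousIdeal := by
    intro x
    by_contra hcon
    simp only [not_exists, not_and, not_not] at hcon
    apply x.not_irrelevant_le
    intro z hz
    have hz' : z ∈ (HomogeneousIdeal.irrelevant 𝒜).toIdeal := hz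
    rw [hs] at hz'
    have hle : Ideal.span (s : Set A) ≤ x.asHomogeneousIdeal.toIdeal :=
      Ideal.span_le.mpr fun g hg => hcon g hg
    exact hle hz'
  have hcov : ∀ x : ProjectiveSpectrum 𝒜, ∃ f ∈ 𝒜 1, f ∉ x.asHomogeneousIdeal := by
    intro x
    obtain ⟨f, hf, hfx⟩ := hcovs x
    exact ⟨f, hs1 f hf, hfx⟩
  haveI : CompactSpace (Proj 𝒜) :=
    Groth.Agent.Lib.helper28.TwistSecHom.compactSpace_of_finset 𝒜 s
      (fun f hf => ⟨1, Nat.one_pos, hs1 f hf⟩) hcovs
  exact Groth.Agent.Lib.helper28.TwistAmple.isAmple_twist 𝒜 hcov 1 Nat.one_pos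

end Groth.Agent.S3584
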