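import Groth.Statements.S3585
import Mathlib
import Groth.Agent.Lib.Helper12.ProjClosed7
import Groth.Agent.Lib.Helper11.PnBridge
-- import your own Groth.Agent.* helpers here

set_option autoImplicit false
universe u
open CategoryTheory CategoryTheory.Limits AlgebraicGeometry
open EGA2

namespace Groth.Agent.S3585

/-- Let A be a ring and f : X → Spec A a proper morphism, and suppose X carries an invertible O_X-module
which is ample relative to f (so f is quasi-projective). Then f is projective: X is isomorphic over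
Spec A to Proj S for some graded A-algebra S whose degree-zero part is the image of A and whose
irrelevant ideal is generated by finitely many elements of degree one. -/
theorem result {A : Type u} [CommRing A] {X : Scheme.{u}}
    (f : X ⟶ Spec (CommRingCat.of A)) [IsProper f]
    (L : X.Modules) (hL : PicF.IsInvertible L) (hamp : RelAmple.IsRelAmple f L) :
    ∃ (S : Type u) (_ : CommRing S) (_ : Algebra A S) (𝒮 : ℕ → Submodule A S) (_ : GradedAlgebra 𝒮) (s : Finset S),
      Function.Surjective (algebraMap A (𝒮 0)) ∧ (∀ g ∈ s, g ∈ 𝒮 1) ∧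
      (HomogeneousIdeal.irrelevant 𝒮).toIdeal = Ideal.span (s : Set S) ∧
      ∃ e : X ≅ Proj 𝒮, e.hom ≫ Proj.toSpecZero 𝒮 ≫ Spec.map (CommRingCat.ofHom (algebraMap A (𝒮 0))) = f := by
  have hample : CohB1.IsAmple L :=
    (Groth.Agent.Lib.helper12.AmpleRestrict.isRelAmple_iff_isAmple_of_isAffine f L).mp hamp
  obtain ⟨n₀, hn₀⟩ :=
    Groth.Agent.Lib.helper11.PnImm.isVeryAmpleProj_tensorPow_eventually f hample
  obtain ⟨N, r, hr, hrq, -⟩ := (hn₀ n₀ le_rfl).exists_closedImmersion
  have hr' : @IsClosedImmersion X (Proj (CohB1.polyGrading N A)) r := hr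
  obtain ⟨S, i1, i2, 𝒮, i3, s, h1, h2, h3, e, he⟩ :=
    Groth.Agent.Lib.helper12.ProjClosed.exists_proj_of_closedImmersion_projSpace N A
      (show X ⟶ Proj (CohB1.polyGrading N A) from r)
  exact ⟨S, i1, i2, 𝒮, i3, s, h1, h2, h3, e, he.trans hrq⟩

end Groth.Agent.S3585
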