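import Groth.Statements.S3587
import Mathlib.Algebra.Module.Torsion.Basic
import Mathlib.RingTheory.GradedAlgebra.Radical
-- import your own Groth.Agent.* helpers here

set_option autoImplicit false
universe u
open CategoryTheory AlgebraicGeometry Opposite TopologicalSpace
open EGA2

namespace Groth.Agent.S3587

/-- Let S be a graded ring, M a graded S-module, f a homogeneous element of degree d > 0 and m a
homogeneous element of M. If the fraction m/f^k vanishes in the localized module M_x for every point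
x of D_+(f), then f^N m = 0 for some N (so m/f^k = 0 in M_(f)); this is the injectivity half of the
identification of the sections of M~ over D_+(f) with M_(f). -/
theorem result {R A : Type u} [CommRing R] [CommRing A] [Algebra R A] (𝒜 : ℕ → Submodule R A) [GradedAlgebra 𝒜]
    {M : Type u} [AddCommGroup M] [Module R M] [Module A M] [IsScalarTower R A M] (ℳ : ℕ → Submodule R M) [DirectSum.Decomposition ℳ] [SetLike.GradedSMul 𝒜 ℳ] {d : ℕ} (hd : 0 < d) {f : A} (hf : f ∈ 𝒜 d) (k i : ℕ) (m : ℳ i)
    (h : ∀ x : ProjectiveSpectrum.basicOpen 𝒜 f,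
      (LocalizedModule.mk m.1 ⟨f ^ k, fun h => (ProjectiveSpectrum.mem_basicOpen 𝒜 f x.1).mp x.2
        (x.1.isPrime.mem_of_pow_mem k h)⟩ : GrTilde.LocMod 𝒜 (M := M) x.1) = 0) :
    ∃ N : ℕ, f ^ N • m.1 = 0 := by
  classical
  by_contra hcon
  push Not at hcon
  -- the annihilator ideal of m
  set J : Ideal A := Ideal.torsionOf A M m.1 with hJ
  have hJmem : ∀ a : A, a ∈ J ↔ a • m.1 = 0 := fun a => Ideal.mem_torsionOf_iff _ _
  -- J is homogeneous
  have hJhom : J.IsHomogeneous 𝒜 := by
    intro j a ha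
    rw [hJmem] at ha ⊢
    have hsum : a • m.1 = ∑ l ∈ (DirectSum.decompose 𝒜 a).support,
        ((DirectSum.decompose 𝒜 a l : A)) • m.1 := by
      conv_lhs => rw [← DirectSum.sum_support_decompose 𝒜 a]
      rw [Finset.sum_smul]
    have hmem : ∀ l : ℕ, ((DirectSum.decompose 𝒜 a l : A)) • m.1 ∈ ℳ (l + i) := fun l =>
      SetLike.GradedSMul.smul_mem (DirectSum.decompose 𝒜 a l).2 m.2
    have h0 : ((DirectSum.decompose ℳ (a • m.1)) (j + i) : M) = 0 := by
      rw [ha, DirectSum.decompose_zero]; rfl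
    rw [hsum, DirectSum.decompose_sum] at h0
    rw [DFinsupp.finsetSum_apply, AddSubmonoidClass.coe_finsetSum] at h0
    by_cases hj : j ∈ (DirectSum.decompose 𝒜 a).support
    · rw [Finset.sum_eq_single j] at h0
      · rw [DirectSum.decompose_of_mem_same ℳ (hmem j)] at h0
        exact h0
      · intro l _ hlj
        rw [DirectSum.decompose_of_mem_ne ℳ (hmem l)]
        omega
      · intro hj'
        exact absurd hj hj'
    · rw [DFinsupp.notMem_support_iff] at hj
      rw [hj]
      simp
  have hfrad : f ∉ J.radical := by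
    intro hf'
    obtain ⟨N, hN⟩ := hf'
    exact hcon N ((hJmem _).mp hN)
  rw [hJhom.radical_eq, Ideal.mem_sInf] at hfrad
  push Not at hfrad
  obtain ⟨p, ⟨hphom, hJp, hpprime⟩, hfp⟩ := hfrad
  have hrel : ¬ HomogeneousIdeal.irrelevant 𝒜 ≤ (⟨p, hphom⟩ : HomogeneousIdeal 𝒜) := by
    intro hle
    exact hfp (hle (HomogeneousIdeal.mem_irrelevant_of_mem 𝒜 hd hf))
  let x : ProjectiveSpectrum 𝒜 := ⟨⟨p, hphom⟩, hpprime, hrel⟩
  have hx : x ∈ ProjectiveSpectrum.basicOpen 𝒜 f := by
    rw [ProjectiveSpectrum.mem_basicOpen]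
    exact hfp
  have hzero := h ⟨x, hx⟩
  rw [← LocalizedModule.zero_mk (1 : x.asHomogeneousIdeal.toIdeal.primeCompl), LocalizedModule.mk_eq] at hzero
  obtain ⟨u, hu⟩ := hzero
  rw [smul_zero, smul_zero, one_smul] at hu
  have huJ : (u : A) ∈ J := (hJmem _).mpr hu
  exact u.2 (hJp huJ)

end Groth.Agent.S3587
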