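import Groth.Statements.S3588
import Mathlib
import Groth.Agent.Lib.Lead.ProjMapDom
-- import your own Groth.Agent.* helpers here

set_option autoImplicit false
set_option backward.isDefEq.respectTransparency false
set_option backward.isDefEq.respectTransparency.types false
universe u
open CategoryTheory CategoryTheory.Limits AlgebraicGeometry
open EGA2

namespace Groth.Agent.S3588

/-- Let S be a graded ring, N_+ the set of nilpotent elements of S_+ (an ideal of S), and S → S/N_+ the
quotient (here: any surjective homomorphism of graded rings φ : S → S' whose kernel is N_+). Then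
the induced morphism Proj S' → Proj S is a closed immersion which is a homeomorphism of the
underlying spaces, and Proj S' is reduced; thus Proj S' is the reduced closed subscheme (Proj
S)_red. -/
theorem result {R A : Type u} [CommRing R] [CommRing A] [Algebra R A] (𝒜 : ℕ → Submodule R A) [GradedAlgebra 𝒜]
    {B : Type u} [CommRing B] [Algebra R B] (ℬ : ℕ → Submodule R B) [GradedAlgebra ℬ]
    (φ : 𝒜 →+*ᵍ ℬ) (hsurj : Function.Surjective φ)
    (hker : ∀ a : A, φ a = 0 ↔ a ∈ (HomogeneousIdeal.irrelevant 𝒜).toIdeal ∧ IsNilpotent a)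
    (hφ : HomogeneousIdeal.irrelevant ℬ ≤ (HomogeneousIdeal.irrelevant 𝒜).map φ) :
    IsClosedImmersion (Proj.map φ hφ) ∧ IsHomeomorph (Proj.map φ hφ).base ∧
      AlgebraicGeometry.IsReduced (Proj ℬ) := by
  have hci : IsClosedImmersion (Proj.map φ hφ) := by
    refine Groth.Agent.Lib.Lead.ProjMapLocal.map_of_forall_away @IsClosedImmersion φ hφ ?_
    intro i hi s hs
    exact IsClosedImmersion.spec_of_surjective _
      (Groth.Agent.Lib.Lead.ProjMapLocal.away_map_surjective φ hsurj s hs)
  have hdom : IsDominant (Proj.map φ hφ) :=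
    Groth.Agent.Lib.Lead.ProjMapLocal.isDominant_map φ hφ (fun a ha => ((hker a).mp ha).2)
  refine ⟨hci, ?_, ?_⟩
  · have hsur : Function.Surjective (Proj.map φ hφ).base :=
      (surjective_of_isDominant_of_isClosed_range (Proj.map φ hφ)
        (Proj.map φ hφ).isClosedEmbedding.isClosed_range).surj
    have hemb := (Proj.map φ hφ).isClosedEmbedding
    exact (hemb.isEmbedding.toHomeomorphOfSurjective hsur).isHomeomorph
  · have key : ∀ (i : ℕ) (_ : 0 < i) (s : B) (_ : s ∈ ℬ i),
        _root_.IsReduced (HomogeneousLocalization.Away ℬ s) := by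
      intro i hi s hs
      have hredB : ∀ g ∈ (HomogeneousIdeal.irrelevant ℬ).toIdeal, IsNilpotent g → g = 0 := by
        intro g hg hnil
        obtain ⟨a, rfl⟩ := hsurj g
        set a' := a - GradedRing.proj 𝒜 0 a with ha'
        have hφa' : φ a' = φ a := by
          rw [ha', map_sub, Groth.Agent.Lib.Lead.ProjMapLocal.map_proj]
          have : GradedRing.proj ℬ 0 (φ a) = 0 := (HomogeneousIdeal.mem_irrelevant_iff ℬ _).mp hg
          rw [this, sub_zero]
        have ha'mem : a' ∈ (HomogeneousIdeal.irrelevant 𝒜).toIdeal := by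
          change a' ∈ HomogeneousIdeal.irrelevant 𝒜
          rw [HomogeneousIdeal.mem_irrelevant_iff, ha', map_sub]
          simp [GradedRing.proj_apply]
        obtain ⟨m, hm⟩ := hnil
        have h1 : φ (a' ^ m) = 0 := by rw [map_pow, hφa', hm]
        have h2 : IsNilpotent a' := by
          obtain ⟨k, hk⟩ := ((hker _).mp h1).2
          exact ⟨m * k, by rw [pow_mul, hk]⟩
        rw [← hφa']
        exact (hker a').mpr ⟨ha'mem, h2⟩
      open HomogeneousLocalization in
      constructor
      intro x hx
      obtain ⟨n, a, ha, rfl⟩ := Away.mk_surjective ℬ hs x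
      obtain ⟨m, hm⟩ := hx
      rw [HomogeneousLocalization.ext_iff_val, val_pow, Away.val_mk, val_zero, Localization.mk_pow,
        Localization.mk_eq_mk', IsLocalization.mk'_eq_zero_iff] at hm
      obtain ⟨⟨c, k, rfl⟩, hc⟩ := hm
      simp only at hc
      have hnil : IsNilpotent (s * a) := by
        refine ⟨m + k, ?_⟩
        rw [mul_pow]
        calc s ^ (m + k) * a ^ (m + k) = s ^ m * a ^ k * (s ^ k * a ^ m) := by
              rw [pow_add, pow_add]; ring
          _ = 0 := by rw [hc, mul_zero]
      have hmem : s * a ∈ (HomogeneousIdeal.irrelevant ℬ).toIdeal :=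
        Ideal.mul_mem_right _ _ (HomogeneousIdeal.mem_irrelevant_of_mem ℬ hi hs)
      have h0 := hredB _ hmem hnil
      rw [HomogeneousLocalization.ext_iff_val, Away.val_mk, val_zero, Localization.mk_eq_mk',
        IsLocalization.mk'_eq_zero_iff]
      exact ⟨⟨s, 1, pow_one s⟩, h0⟩
    have : ∀ i, AlgebraicGeometry.IsReduced ((Proj.affineOpenCover ℬ).openCover.X i) := by
      intro s
      have := key _ s.1.2 _ s.2.2
      change AlgebraicGeometry.IsReduced (Spec (.of (HomogeneousLocalization.Away ℬ (s.2 : B))))
      infer_instance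
    exact IsReduced.of_openCover (X := Proj ℬ) (Proj.affineOpenCover ℬ).openCover

end Groth.Agent.S3588
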