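import Groth.Statements.S3589
import Mathlib
import Groth.Agent.S3573
import Groth.Agent.Lib.Helper12.AffGen
import Groth.Agent.Lib.Helper12.ProjUP6
import Groth.Agent.Lib.Helper12.AmpleCoprod
-- import your own Groth.Agent.* helpers here

set_option autoImplicit false
universe u
open CategoryTheory CategoryTheory.Limits AlgebraicGeometry
open EGA2

namespace Groth.Agent.S3589

open Groth.Agent.Lib.helper11.GenLocus in
theorem sec_nu {R : Type u} [CommRing R] (n : ℕ) {X : Scheme.{u}}
    (r : X ⟶ Proj (CohB1.polyGrading n R)) (i : Fin (n + 1)) :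
    sec (Groth.Agent.Lib.helper12.ProjUP6.nu r i) ⊤ =
      ProjUP.pullSec r (Twist.twistProjSpace n R 1) (ProjUP.coord n R i) := by
  have h0 : sec (Groth.Agent.Lib.helper12.ProjUP5.tP R n i) ⊤ = ProjUP.coord n R i := by
    rw [Groth.Agent.Lib.helper12.ProjUP5.sec_tP]
    rfl
  have h2 := Groth.Agent.Lib.helper12.ProjUP4.sec_pullHom r
    (Groth.Agent.Lib.helper12.ProjUP5.tP R n i) ⊤
  rw [h0] at h2
  exact h2

theorem generatedBy_pullSec {R : Type u} [CommRing R] (n : ℕ) {X : Scheme.{u}}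
    (r : X ⟶ Proj (CohB1.polyGrading n R)) :
    ProjUP.GeneratedBy ((Scheme.Modules.pullback r).obj (Twist.twistProjSpace n R 1))
      (fun i => ProjUP.pullSec r (Twist.twistProjSpace n R 1) (ProjUP.coord n R i)) := by
  intro x
  rw [eq_top_iff]
  intro t _
  obtain ⟨i, hi⟩ := Groth.Agent.Lib.helper28.TwistPn.exists_X_notMem n R (r x)
  have hx : x ∈ CohB1.genLocus _ (Groth.Agent.Lib.helper12.ProjUP6.nu r i) := by
    refine Groth.Agent.Lib.helper12.ProjUP4.le_genLocus_pullHom r
      Groth.Agent.Lib.helper12.ProjUP6.isInvertible_twist_one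
      (Groth.Agent.Lib.helper12.ProjUP5.tP R n i) ?_
    rw [Groth.Agent.Lib.helper12.ProjUP5.genLocus_tP R n i]
    exact (ProjectiveSpectrum.mem_basicOpen (CohB1.polyGrading n R) _ (r x)).mpr hi
  obtain ⟨a, ha⟩ := Groth.Agent.Lib.helper12.AffGen.exists_smul_germ_of_mem_genLocus _ x hx t
  rw [ha, sec_nu]
  exact Submodule.smul_mem _ _ (Submodule.subset_span ⟨i, rfl⟩)

theorem mem_secKernel_iff {R : Type u} [CommRing R] (n : ℕ)
    (s : Spec (CommRingCat.of R) ⟶ CohB1.ProjSpace n R) (c : Fin (n + 1) → R) :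
    c ∈ ProjUP.secKernel n R s ↔
      ∑ i, ((Scheme.ΓSpecIso (CommRingCat.of R)).inv.hom (c i) : Γ(Spec (CommRingCat.of R), ⊤)) •
        ProjUP.pullSec s (Twist.twistProjSpace n R 1) (ProjUP.coord n R i) = 0 := by
  letI : Module R (ProjUP.Γm ((Scheme.Modules.pullback s).obj (Twist.twistProjSpace n R 1))) :=
    Module.compHom _ (Scheme.ΓSpecIso (CommRingCat.of R)).inv.hom
  change c ∈ LinearMap.ker (Fintype.linearCombination R
    (fun i => ProjUP.pullSec s (Twist.twistProjSpace n R 1) (ProjUP.coord n R i))) ↔ _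
  rw [LinearMap.mem_ker, Fintype.linearCombination_apply]
  rfl

theorem exists_iso {R : Type u} [CommRing R] (n : ℕ)
    (s₁ s₂ : Spec (CommRingCat.of R) ⟶ CohB1.ProjSpace n R)
    (hO1 : PicF.IsInvertible (Twist.twistProjSpace n R 1))
    (h : ProjUP.secKernel n R s₁ = ProjUP.secKernel n R s₂) :
    ∃ τ : (Scheme.Modules.pullback s₁).obj (Twist.twistProjSpace n R 1) ≅
      (Scheme.Modules.pullback s₂).obj (Twist.twistProjSpace n R 1),
      ∀ i, τ.hom.app ⊤ (ProjUP.pullSec s₁ (Twist.twistProjSpace n R 1) (ProjUP.coord n R i)) =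
        ProjUP.pullSec s₂ (Twist.twistProjSpace n R 1) (ProjUP.coord n R i) := by
  have hL₁ := Groth.Agent.Lib.helper11.InvMod.isInvertible_pullback s₁ hO1
  have hL₂ := Groth.Agent.Lib.helper11.InvMod.isInvertible_pullback s₂ hO1
  haveI q₁ : ((Scheme.Modules.pullback s₁).obj (Twist.twistProjSpace n R 1)).IsQuasicoherent :=
    Groth.Agent.Lib.helper12.AmpleBasis.isQuasicoherent_of_isInvertible hL₁
  haveI q₂ : ((Scheme.Modules.pullback s₂).obj (Twist.twistProjSpace n R 1)).IsQuasicoherent :=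
    Groth.Agent.Lib.helper12.AmpleBasis.isQuasicoherent_of_isInvertible hL₂
  have hsp₁ := Groth.Agent.Lib.helper12.AffGen.span_eq_top_of_generatedBy
    ((Scheme.Modules.pullback s₁).obj (Twist.twistProjSpace n R 1))
    (fun i => ProjUP.pullSec s₁ (Twist.twistProjSpace n R 1) (ProjUP.coord n R i))
    (generatedBy_pullSec n s₁)
  have hsp₂ := Groth.Agent.Lib.helper12.AffGen.span_eq_top_of_generatedBy
    ((Scheme.Modules.pullback s₂).obj (Twist.twistProjSpace n R 1))
    (fun i => ProjUP.pullSec s₂ (Twist.twistProjSpace n R 1) (ProjUP.coord n R i))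
    (generatedBy_pullSec n s₂)
  refine Groth.Agent.Lib.helper12.AffGen.exists_iso_of_relations
    ((Scheme.Modules.pullback s₁).obj (Twist.twistProjSpace n R 1))
    ((Scheme.Modules.pullback s₂).obj (Twist.twistProjSpace n R 1)) _ _ hsp₁ hsp₂ (fun c => ?_)
  have hinv : ∀ x : Γ(Spec (CommRingCat.of R), ⊤),
      (Scheme.ΓSpecIso (CommRingCat.of R)).inv.hom
        ((Scheme.ΓSpecIso (CommRingCat.of R)).hom.hom x) = x := by
    intro x
    have := (Scheme.ΓSpecIso (CommRingCat.of R)).hom_inv_id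
    exact congrArg (fun φ : Γ(Spec (CommRingCat.of R), ⊤) ⟶ Γ(Spec (CommRingCat.of R), ⊤) =>
      φ.hom x) this
  have e₁ := mem_secKernel_iff n s₁ (fun i => (Scheme.ΓSpecIso (CommRingCat.of R)).hom.hom (c i))
  have e₂ := mem_secKernel_iff n s₂ (fun i => (Scheme.ΓSpecIso (CommRingCat.of R)).hom.hom (c i))
  simp only [hinv] at e₁ e₂
  rw [← e₁, ← e₂, h]

/-- For E = O_Y^{n+1} over an affine base Y = Spec R (injectivity of the correspondence): a section s of
projective n-space over R is determined by the submodule F(s) of R^{n+1} formed by the R-linear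
relations among the pulled-back coordinates s^*T_0, …, s^*T_n in the global sections of s^*O(1). -/
theorem result {R : Type u} [CommRing R] (n : ℕ)
    (s₁ s₂ : Spec (CommRingCat.of R) ⟶ CohB1.ProjSpace n R)
    (h₁ : s₁ ≫ CohB1.ProjSpace.toSpec n R = 𝟙 _) (h₂ : s₂ ≫ CohB1.ProjSpace.toSpec n R = 𝟙 _)
    (h : ProjUP.secKernel n R s₁ = ProjUP.secKernel n R s₂) :
    s₁ = s₂ := by
  classical
  have hO1 : PicF.IsInvertible (Twist.twistProjSpace n R 1) :=
    Groth.Agent.Lib.helper12.ProjUP6.isInvertible_twist_one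
  obtain ⟨τ, hτ⟩ := exists_iso n s₁ s₂ hO1 h
  exact Groth.Agent.S3573.result n s₁ s₂ (h₁.trans h₂.symm) τ hτ


end Groth.Agent.S3589
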