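import Groth.Statements.S3590
import Mathlib
import Groth.Agent.S3589
import Groth.Agent.S3572
import Groth.Agent.Lib.Helper16.FLF9
import Groth.Agent.Lib.Helper12.InvQuot1

set_option autoImplicit false
universe u
open CategoryTheory CategoryTheory.Limits AlgebraicGeometry
open EGA2

namespace Groth.Agent.S3590

open Groth.Agent.Lib.helper12.InvQuot Groth.Agent.Lib.helper16.FLF in
theorem bij_algebraMap (Rc : CommRingCat.{u}) :
    Function.Bijective (algebraMap Rc Γ(Spec Rc, ⊤)) := by
  have : (algebraMap Rc Γ(Spec Rc, ⊤)) = (Scheme.ΓSpecIso Rc).inv.hom := rfl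
  rw [this]
  exact ConcreteCategory.bijective_of_isIso (Scheme.ΓSpecIso Rc).inv

open Groth.Agent.Lib.helper12.InvQuot Groth.Agent.Lib.helper16.FLF in
theorem fwd_core (Rc : CommRingCat.{u}) (L : (Spec Rc).Modules) (hL : PicF.IsInvertible L) {k : ℕ}
    (v : Fin k → Γ(L, ⊤)) (hsp : Submodule.span Γ(Spec Rc, ⊤) (Set.range v) = ⊤) :
    Module.Projective Rc ((Fin k → Rc) ⧸ LinearMap.ker (Fintype.linearCombination Rc v)) ∧
      ∀ p : PrimeSpectrum Rc, Module.finrank (Localization.AtPrime p.asIdeal)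
        (LocalizedModule p.asIdeal.primeCompl
          ((Fin k → Rc) ⧸ LinearMap.ker (Fintype.linearCombination Rc v))) = 1 := by
  classical
  have hFLF1 : FlatMod.IsFinLocFreeOfRank 1 L := (isInvertible_iff_isFinLocFreeOfRank_one L).1 hL
  have hFLF : FlatMod.IsFinLocFree L := isFinLocFree_of_isFinLocFreeOfRank hFLF1
  haveI : L.IsQuasicoherent := isQuasicoherent_of_isFinLocFree L hFLF
  obtain ⟨hfin, hproj⟩ := projective_sections_of_isFinLocFree L hFLF (isAffineOpen_top (Spec Rc))
  set π := Fintype.linearCombination Rc v with hπ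
  have hbij := bij_algebraMap Rc
  have hsurj : Function.Surjective π := by
    intro m
    have hm : m ∈ Submodule.span Γ(Spec Rc, ⊤) (Set.range v) := by rw [hsp]; trivial
    obtain ⟨c, hc⟩ := (Submodule.mem_span_range_iff_exists_fun _).mp hm
    choose c' hc' using fun i => hbij.2 (c i)
    refine ⟨c', ?_⟩
    rw [hπ, Fintype.linearCombination_apply, ← hc]
    refine Finset.sum_congr rfl fun i _ => ?_
    rw [← hc' i, algebraMap_smul]
  let e : ((Fin k → Rc) ⧸ LinearMap.ker π) ≃ₗ[Rc] Γ(L, ⊤) := π.quotKerEquivOfSurjective hsurj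
  haveI : Module.Projective Rc ((Fin k → Rc) ⧸ LinearMap.ker π) :=
    projective_of_bijective' hbij e.toLinearMap e.bijective
  refine ⟨inferInstance, fun p => ?_⟩
  obtain ⟨p', rfl⟩ := exists_comap_eq hbij p
  have h1 := rankAtStalk_of_bijective hbij.2 e.toLinearMap e.bijective p'
  rw [rankAtStalk_sections L hFLF1 (isAffineOpen_top (Spec Rc)) p'] at h1
  exact h1.symm

open Groth.Agent.Lib.helper12.InvQuot Groth.Agent.Lib.helper16.FLF in
theorem fwd {R : Type u} [CommRing R] (n : ℕ)
    (s : Spec (CommRingCat.of R) ⟶ CohB1.ProjSpace n R) :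
    Module.Projective R ((Fin (n + 1) → R) ⧸ ProjUP.secKernel n R s) ∧
      ∀ p : PrimeSpectrum R, Module.finrank (Localization.AtPrime p.asIdeal)
        (LocalizedModule p.asIdeal.primeCompl ((Fin (n + 1) → R) ⧸ ProjUP.secKernel n R s)) = 1 := by
  have hO1 : PicF.IsInvertible (Twist.twistProjSpace n R 1) :=
    Groth.Agent.Lib.helper12.ProjUP6.isInvertible_twist_one
  have hL := Groth.Agent.Lib.helper11.InvMod.isInvertible_pullback s hO1
  haveI qc : ((Scheme.Modules.pullback s).obj (Twist.twistProjSpace n R 1)).IsQuasicoherent :=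
    Groth.Agent.Lib.helper12.AmpleBasis.isQuasicoherent_of_isInvertible hL
  have hsp := Groth.Agent.Lib.helper12.AffGen.span_eq_top_of_generatedBy
    ((Scheme.Modules.pullback s).obj (Twist.twistProjSpace n R 1))
    (fun i => ProjUP.pullSec s (Twist.twistProjSpace n R 1) (ProjUP.coord n R i))
    (Groth.Agent.S3589.generatedBy_pullSec n s)
  exact fwd_core (CommRingCat.of R) _ hL
    (fun i => ProjUP.pullSec s (Twist.twistProjSpace n R 1) (ProjUP.coord n R i)) hsp

open Groth.Agent.Lib.helper12.InvQuot Groth.Agent.Lib.helper16.FLF in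
/-- the global sections map `Q → Γ(Q^~, ⊤)` as a linear map -/
noncomputable def toTop (Rc : CommRingCat.{u}) (Q : ModuleCat.{u} Rc) : Q →ₗ[Rc] Γ(tilde Q, ⊤) :=
  (tilde.toOpen Q ⊤).hom

open Groth.Agent.Lib.helper12.InvQuot Groth.Agent.Lib.helper16.FLF in
theorem bijective_toTop (Rc : CommRingCat.{u}) (Q : ModuleCat.{u} Rc) :
    Function.Bijective (toTop Rc Q) :=
  ConcreteCategory.bijective_of_isIso (tilde.toOpen Q ⊤)

open Groth.Agent.Lib.helper12.InvQuot Groth.Agent.Lib.helper16.FLF Scheme.Modules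
  Groth.Agent.Lib.helper16.QCohPullback Groth.Agent.Lib.helper16.CohFinite
  Groth.Agent.Lib.helper16.CohFP Groth.Agent.Lib.helper16.CohStalk Groth.Agent.Lib.helper7
  Groth.Agent.Lib.helper16.QCohAss in
theorem bwd_inv (Rc : CommRingCat.{u}) (Q : ModuleCat.{u} Rc) [Module.Finite Rc Q]
    [Module.Projective Rc Q] (hrk : ∀ p : PrimeSpectrum Rc, Module.rankAtStalk Q p = 1) :
    PicF.IsInvertible (tilde Q) := by
  classical
  have hbij := bij_algebraMap Rc
  have htop := bijective_toTop Rc Q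
  haveI hfin : Module.Finite Γ(Spec Rc, ⊤) Γ(tilde Q, ⊤) :=
    finite_of_bijective hbij.2 (toTop Rc Q) htop
  haveI hproj : Module.Projective Γ(Spec Rc, ⊤) Γ(tilde Q, ⊤) :=
    projective_of_bijective hbij.2 (toTop Rc Q) htop
  have hFLF : FlatMod.IsFinLocFree (tilde Q) :=
    isFinLocFree_of_projective_sections (tilde Q) (fun _ : Unit => (⊤ : (Spec Rc).Opens))
      (fun _ => isAffineOpen_top (Spec Rc)) (by simp) (fun _ => ⟨hfin, hproj⟩)
  haveI := isQuasicoherent_of_isFinLocFree (tilde Q) hFLF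
  have hrank : ∀ z : Spec Rc,
      Module.finrank ((Spec Rc).presheaf.stalk z) ((tilde Q).presheaf.stalk z) = 1 := by
    intro z
    have hV := isAffineOpen_top (Spec Rc)
    have hz : z ∈ (⊤ : (Spec Rc).Opens) := trivial
    set P := hV.primeIdealOf ⟨z, hz⟩ with hP
    haveI : Module.Flat Γ(Spec Rc, ⊤) Γ(tilde Q, ⊤) := inferInstance
    haveI : Module.Free (Localization.AtPrime P.asIdeal)
        (LocalizedModule P.asIdeal.primeCompl Γ(tilde Q, ⊤)) := Module.free_of_flat_of_isLocalRing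
    let b := Module.finBasis (Localization.AtPrime P.asIdeal)
        (LocalizedModule P.asIdeal.primeCompl Γ(tilde Q, ⊤))
    letI := TopCat.Presheaf.algebra_section_stalk (Spec Rc).presheaf
      (⟨z, hz⟩ : (⊤ : (Spec Rc).Opens))
    letI := modStalk (tilde Q) z hz
    haveI := isScalarTower_stalk (tilde Q) z hz
    haveI : IsLocalization.AtPrime ((Spec Rc).presheaf.stalk z) P.asIdeal :=
      hV.isLocalization_stalk ⟨z, hz⟩
    haveI := isLocalizedModule_stalk (tilde Q) hV z hz
    obtain ⟨e⟩ := nonempty_equivFun_of_basis_localizedModule P.asIdeal.primeCompl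
      ((Spec Rc).presheaf.stalk z) (germLin (tilde Q) z hz) b
    have h3 : Module.finrank ((Spec Rc).presheaf.stalk z) ((tilde Q).presheaf.stalk z) =
        Module.finrank (Localization.AtPrime P.asIdeal)
          (LocalizedModule P.asIdeal.primeCompl Γ(tilde Q, ⊤)) := by
      rw [e.finrank_eq, Module.finrank_fin_fun]
    rw [h3]
    have h4 := rankAtStalk_of_bijective hbij.2 (toTop Rc Q) htop P
    exact h4.trans (hrk _)
  have h1 : FlatMod.IsFinLocFreeOfRank 1 (tilde Q) :=
    (isFinLocFreeOfRank_iff_finrank_stalk (tilde Q) hFLF).2 hrank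
  exact (isInvertible_iff_isFinLocFreeOfRank_one (tilde Q)).2 h1

open Groth.Agent.Lib.helper12.InvQuot Groth.Agent.Lib.helper16.FLF Scheme.Modules in
theorem bwd_core (Rc : CommRingCat.{u}) (n : ℕ) (F : Submodule Rc (Fin (n + 1) → Rc))
    (hproj : Module.Projective Rc ((Fin (n + 1) → Rc) ⧸ F))
    (hrk : ∀ p : PrimeSpectrum Rc, Module.rankAtStalk ((Fin (n + 1) → Rc) ⧸ F) p = 1) :
    ∃ (L : (Spec Rc).Modules) (_ : PicF.IsInvertible L) (tq : Fin (n + 1) → Γ(L, ⊤)),
      ProjUP.GeneratedBy L tq ∧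
      ∀ c : Fin (n + 1) → Rc,
        ∑ i, ((Scheme.ΓSpecIso Rc).inv.hom (c i) : Γ(Spec Rc, ⊤)) • tq i = 0 ↔ c ∈ F := by
  classical
  let Q : ModuleCat.{u} Rc := ModuleCat.of Rc ((Fin (n + 1) → Rc) ⧸ F)
  haveI : Module.Finite Rc Q := inferInstanceAs (Module.Finite Rc ((Fin (n + 1) → Rc) ⧸ F))
  haveI : Module.Projective Rc Q := hproj
  have hL : PicF.IsInvertible (tilde Q) := bwd_inv Rc Q hrk
  let q : Fin (n + 1) → Q := fun i => Submodule.mkQ F (Pi.single i (1 : Rc))
  let tq : Fin (n + 1) → Γ(tilde Q, ⊤) := fun i => toTop Rc Q (q i)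
  have hmk : ∀ c : Fin (n + 1) → Rc, (Submodule.mkQ F c : Q) = ∑ i, c i • q i := by
    intro c
    have hc : c = ∑ i, c i • (Pi.single i (1 : Rc) : Fin (n + 1) → Rc) := by
      ext j
      simp [Finset.sum_apply, Pi.single_apply]
    conv_lhs => rw [hc]
    rw [map_sum]
    exact Finset.sum_congr rfl fun i _ => (Submodule.mkQ F).map_smul (c i) _
  have htop := bijective_toTop Rc Q
  have hsum : ∀ c : Fin (n + 1) → Rc,
      toTop Rc Q (Submodule.mkQ F c : Q) =
        ∑ i, ((Scheme.ΓSpecIso Rc).inv.hom (c i) : Γ(Spec Rc, ⊤)) • tq i := by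
    intro c
    rw [hmk c, map_sum]
    refine Finset.sum_congr rfl fun i _ => ?_
    exact (toTop Rc Q).map_smul (c i) (q i)
  have hspan : Submodule.span Γ(Spec Rc, ⊤) (Set.range tq) = ⊤ := by
    rw [eq_top_iff]
    intro m _
    obtain ⟨x, rfl⟩ := htop.2 m
    obtain ⟨c, rfl⟩ := Submodule.mkQ_surjective F x
    rw [hsum c]
    exact Submodule.sum_mem _ fun i _ =>
      Submodule.smul_mem _ _ (Submodule.subset_span ⟨i, rfl⟩)
  have hgen : ProjUP.GeneratedBy (tilde Q) tq := fun x =>
    span_germ_eq_top (tilde Q) (isAffineOpen_top (Spec Rc)) tq hspan x trivial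
  refine ⟨tilde Q, hL, tq, hgen, fun c => ?_⟩
  rw [← hsum c]
  constructor
  · intro h
    have h0 : toTop Rc Q (Submodule.mkQ F c : Q) = toTop Rc Q 0 := by rw [h, map_zero]
    have := htop.1 h0
    exact (Submodule.Quotient.mk_eq_zero F).mp this
  · intro h
    have : (Submodule.mkQ F c : Q) = 0 := (Submodule.Quotient.mk_eq_zero F).mpr h
    rw [this, map_zero]

open Groth.Agent.Lib.helper12.InvQuot Groth.Agent.Lib.helper16.FLF Scheme.Modules in
theorem bwd {R : Type u} [CommRing R] (n : ℕ) (F : Submodule R (Fin (n + 1) → R))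
    (hproj : Module.Projective R ((Fin (n + 1) → R) ⧸ F))
    (hrk : ∀ p : PrimeSpectrum R, Module.finrank (Localization.AtPrime p.asIdeal)
      (LocalizedModule p.asIdeal.primeCompl ((Fin (n + 1) → R) ⧸ F)) = 1) :
    ∃ s : Spec (CommRingCat.of R) ⟶ CohB1.ProjSpace n R,
      s ≫ CohB1.ProjSpace.toSpec n R = 𝟙 _ ∧ ProjUP.secKernel n R s = F := by
  classical
  obtain ⟨L, hL, tq, hgen, hrel⟩ := bwd_core (CommRingCat.of R) n F hproj hrk
  obtain ⟨r, hr, τ, hτ⟩ := Groth.Agent.S3572.result n (𝟙 (Spec (CommRingCat.of R))) L hL tq hgen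
  refine ⟨r, hr, ?_⟩
  ext c
  rw [Groth.Agent.S3589.mem_secKernel_iff, ← hrel c]
  have key : (τ.hom.app ⊤) (∑ i, ((Scheme.ΓSpecIso (CommRingCat.of R)).inv.hom (c i) :
        Γ(Spec (CommRingCat.of R), ⊤)) •
        ProjUP.pullSec r (Twist.twistProjSpace n R 1) (ProjUP.coord n R i)) =
      ∑ i, ((Scheme.ΓSpecIso (CommRingCat.of R)).inv.hom (c i) :
        Γ(Spec (CommRingCat.of R), ⊤)) • tq i := by
    rw [map_sum]
    refine Finset.sum_congr rfl fun i _ => ?_
    rw [Scheme.Modules.Hom.app_smul, hτ i]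
  have hinj : Function.Injective (τ.hom.app ⊤) := by
    have : IsIso (τ.hom.app ⊤) := inferInstance
    exact (ConcreteCategory.bijective_of_isIso (τ.hom.app ⊤)).1
  rw [← key]
  constructor
  · intro h
    rw [h, map_zero]
  · intro h
    apply hinj
    rw [h, map_zero]

/-- For E = O_Y^{n+1} over an affine base Y = Spec R (image of the correspondence): a submodule F of
R^{n+1} is the module of relations among the pulled-back coordinates of some section of projective
n-space over R if and only if the quotient R^{n+1}/F is an invertible R-module (projective, of rank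
one at every prime). -/
theorem result {R : Type u} [CommRing R] (n : ℕ)
    (F : Submodule R (Fin (n + 1) → R)) :
    (∃ s : Spec (CommRingCat.of R) ⟶ CohB1.ProjSpace n R,
        s ≫ CohB1.ProjSpace.toSpec n R = 𝟙 _ ∧ ProjUP.secKernel n R s = F) ↔
      (Module.Projective R ((Fin (n + 1) → R) ⧸ F) ∧
        ∀ p : PrimeSpectrum R, Module.finrank (Localization.AtPrime p.asIdeal)
          (LocalizedModule p.asIdeal.primeCompl ((Fin (n + 1) → R) ⧸ F)) = 1) := by
  constructor
  · rintro ⟨s, -, rfl⟩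
    exact fwd n s
  · rintro ⟨hproj, hrk⟩
    exact bwd n F hproj hrk

end Groth.Agent.S3590
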