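import Groth.Statements.S3592
import Mathlib
import Groth.Agent.Lib.Helper12.ProjG4
import Groth.Agent.Lib.Helper12.ProjG3
-- import your own Groth.Agent.* helpers here

set_option autoImplicit false
universe u
open CategoryTheory CategoryTheory.Limits AlgebraicGeometry
open EGA2

namespace Groth.Agent.S3592

/-- Let A be a commutative ring, M an A-module, and S a graded A-algebra with an A-linear map ι : M →
S_1 exhibiting S as the symmetric algebra of M, so that Proj S is the projective bundle P(M̃) over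
Spec A. Let X be a scheme and r, r' : X → Proj S two morphisms over Spec A. If there is an
isomorphism τ : r^*O(1) ≅ r'^*O(1) carrying, for every m ∈ M, the pullback under r of the global
section ι(m) of O(1) to its pullback under r', then r = r'. (Stated here over an affine base Spec A;
the published statement is over a general base.) -/
theorem result {A : Type u} [CommRing A] {S : Type u} [CommRing S] [Algebra A S] (𝒮 : ℕ → Submodule A S) [GradedAlgebra 𝒮]
    {M : Type u} [AddCommGroup M] [Module A M] (ι : M →ₗ[A] S) (hι : ∀ m : M, ι m ∈ 𝒮 1)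
    (hsym : IsSymmetricAlgebra ι)
    {X : Scheme.{u}} (r r' : X ⟶ Proj 𝒮)
    (hrr' : r ≫ Proj.toSpecZero 𝒮 ≫ Spec.map (CommRingCat.ofHom (algebraMap A (𝒮 0))) =
      r' ≫ Proj.toSpecZero 𝒮 ≫ Spec.map (CommRingCat.ofHom (algebraMap A (𝒮 0))))
    (τ : (Scheme.Modules.pullback r).obj (Twist.twist 𝒮 1) ≅ (Scheme.Modules.pullback r').obj (Twist.twist 𝒮 1))
    (hτ : ∀ m : M, τ.hom.app ⊤ (ProjUP.pullSec r (Twist.twist 𝒮 1) (Twist.globalOf 𝒮 ⟨ι m, hι m⟩)) =
      ProjUP.pullSec r' (Twist.twist 𝒮 1) (Twist.globalOf 𝒮 ⟨ι m, hι m⟩)) :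
    r = r' := by
  have hcovP := Groth.Agent.Lib.helper12.SymScale.exists_notMem_of_isSymmetricAlgebra 𝒮 hsym hι
  refine Groth.Agent.Lib.helper12.ProjG.toProj_ext (f := fun m => ι m) hι hcovP ?_ r r' hrr' τ ?_
  · intro B _ φ φ' h1 h2
    letI : Algebra A B := (φ.comp (algebraMap A S)).toAlgebra
    let Φ : S →ₐ[A] B := { φ with commutes' := fun a => rfl }
    let Φ' : S →ₐ[A] B := { φ' with commutes' := fun a =>
      (congrArg (fun ψ : A →+* B => ψ a) h1).symm }
    have h3 : Φ = Φ' := hsym.algHom_ext (LinearMap.ext fun m => h2 m)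
    exact congrArg (fun Ψ : S →ₐ[A] B => Ψ.toRingHom) h3
  · intro m
    apply Groth.Agent.Lib.helper12.SecExtend.hom_ext_val_top
    have h0 : ∀ (ρ : X ⟶ Proj 𝒮), Groth.Agent.Lib.helper11.GenLocus.sec
        (Groth.Agent.Lib.helper12.ProjG.nuG hι ρ m) ⊤ =
        ProjUP.pullSec ρ (Twist.twist 𝒮 1) (Twist.globalOf 𝒮 ⟨ι m, hι m⟩) := by
      intro ρ
      have h2 := Groth.Agent.Lib.helper12.ProjUP4.sec_pullHom ρ
        (Groth.Agent.Lib.helper12.ProjG.tPG 𝒮 (fun m => ι m) hι m) ⊤
      rw [Groth.Agent.Lib.helper12.ProjG.sec_tPG] at h2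
      exact h2
    have h3 : Groth.Agent.Lib.helper11.GenLocus.sec
        (Groth.Agent.Lib.helper12.ProjG.nuG hι r m ≫ τ.hom) ⊤ =
        Groth.Agent.Lib.helper11.GenLocus.sec (Groth.Agent.Lib.helper12.ProjG.nuG hι r' m) ⊤ := by
      rw [Groth.Agent.Lib.helper11.InvHom.sec_comp, h0 r, h0 r']
      exact hτ m
    exact h3


end Groth.Agent.S3592
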