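import Groth.Statements.S3593
import Mathlib

set_option autoImplicit false
universe u
open CategoryTheory CategoryTheory.Limits AlgebraicGeometry
open EGA2

namespace Groth.Agent.S3593

open Polynomial DirectSum

section
variable {R A : Type u} [CommRing R] [CommRing A] [Algebra R A]
    {B : Type u} [CommRing B] [Algebra R B] (ℬ : ℕ → Submodule R B) [GradedAlgebra ℬ]
    [Algebra A B]

theorem lemK (z : B) (hz : z ∈ ℬ 1) (hhat : Function.Bijective (Polynomial.aeval (R := A) z))
    (n : ℕ) (b : B) (hb : b ∈ ℬ n) (p : A[X]) (hp : aeval z p = b) (h1 : eval 1 p = 0) :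
    b = 0 := by
  classical
  have hzreg : ∀ y : B, z * y = 0 → y = 0 := by
    intro y hy
    obtain ⟨r, rfl⟩ := hhat.2 y
    have h0 : aeval z (X * r) = 0 := by rw [map_mul, aeval_X]; exact hy
    have h2 : X * r = 0 := hhat.1 (by rw [h0, map_zero])
    have h3 : r = 0 := by
      ext k
      rw [← coeff_X_mul, h2, coeff_zero, coeff_zero]
    rw [h3, map_zero]
  have hzpow : ∀ (m : ℕ) (y : B), z ^ m * y = 0 → y = 0 := by
    intro m
    induction m with
    | zero => intro y hy; rwa [pow_zero, one_mul] at hy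
    | succ m ih =>
      intro y hy
      rw [pow_succ', mul_assoc] at hy
      exact ih y (hzreg _ hy)
  have hq : (X - C (1 : A)) * (p /ₘ (X - C 1)) = p :=
    Polynomial.mul_divByMonic_eq_iff_isRoot.mpr h1
  obtain ⟨c, hc⟩ : ∃ c, c = aeval z (p /ₘ (X - C (1 : A))) := ⟨_, rfl⟩
  have hbc : b = z * c - c := by
    rw [← hp, ← hq, map_mul, map_sub, aeval_X, aeval_C, map_one, ← hc]; ring
  have hi : ∀ k, (decompose ℬ b (k + 1) : B) =
      z * (decompose ℬ c k : B) - (decompose ℬ c (k + 1) : B) := by
    intro k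
    have h := DirectSum.coe_decompose_mul_of_left_mem_of_le ℬ (b := c) hz (Nat.le_add_left 1 k)
    rw [Nat.add_sub_cancel] at h
    rw [hbc, DirectSum.decompose_sub, DirectSum.sub_apply, Submodule.coe_sub, h]
  have h0 : (decompose ℬ b 0 : B) = - (decompose ℬ c 0 : B) := by
    have h := DirectSum.coe_decompose_mul_of_left_mem_of_not_le ℬ (b := c) (n := 0) hz
      (by norm_num)
    rw [hbc, DirectSum.decompose_sub, DirectSum.sub_apply, Submodule.coe_sub, h, zero_sub]
  have hne : ∀ k, k ≠ n → (decompose ℬ b k : B) = 0 := fun k hk =>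
    DirectSum.decompose_of_mem_ne ℬ hb (Ne.symm hk)
  have hsame : (decompose ℬ b n : B) = b := DirectSum.decompose_of_mem_same ℬ hb
  obtain ⟨M, hM⟩ : ∃ M, ∀ k, M ≤ k → (decompose ℬ c k : B) = 0 := by
    refine ⟨(decompose ℬ c).support.sup id + 1, fun k hk => ?_⟩
    have hk' : k ∉ (decompose ℬ c).support := by
      intro hmem
      have := Finset.le_sup (f := id) hmem
      simp only [id] at this
      omega
    rw [DFinsupp.notMem_support_iff] at hk'
    rw [hk']; rfl
  have hA : ∀ k, (decompose ℬ c (n + k) : B) = z ^ k * (decompose ℬ c n : B) := by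
    intro k
    induction k with
    | zero => rw [pow_zero, one_mul, Nat.add_zero]
    | succ k ih =>
      have h := hi (n + k)
      rw [hne (n + k + 1) (by omega)] at h
      have h' : (decompose ℬ c (n + k + 1) : B) = z * (decompose ℬ c (n + k) : B) :=
        (sub_eq_zero.mp h.symm).symm
      show (decompose ℬ c (n + k + 1) : B) = _
      rw [h', ih, pow_succ', mul_assoc]
  have hB : (decompose ℬ c n : B) = 0 := by
    apply hzpow M
    rw [← hA M]
    exact hM _ (by omega)
  have hC : ∀ k, k < n → (decompose ℬ c k : B) = 0 := by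
    intro k
    induction k with
    | zero =>
      intro hk
      have h := h0
      rw [hne 0 (by omega)] at h
      exact neg_eq_zero.mp h.symm
    | succ k ih =>
      intro hk
      have h := hi k
      rw [hne (k + 1) (by omega), ih (by omega), mul_zero, zero_sub] at h
      exact neg_eq_zero.mp h.symm
  rw [← hsame]
  rcases Nat.eq_zero_or_pos n with hn | hn
  · subst hn
    rw [h0, hB, neg_zero]
  · obtain ⟨m, rfl⟩ : ∃ m, n = m + 1 := ⟨n - 1, by omega⟩
    rw [hi m, hC m (by omega), hB, mul_zero, sub_zero]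

end


/-- Let S be a graded R-algebra, Ŝ a graded R-algebra with a graded homomorphism φ : S → Ŝ making Ŝ an
S-algebra, and z an element of Ŝ of degree one such that the S-algebra map S[X] → Ŝ, X ↦ z, is
bijective (so Ŝ = S[z] with z in degree one, the graded ring of the projective cone of S). Then
there is a ring isomorphism S ≅ Ŝ_(z) onto the degree-zero localization at z, sending a homogeneous
a of degree n to φ(a)/z^n. (This is the isomorphism that identifies the affine cone Spec S with the
open D_+(z) of the projective cone Proj Ŝ; that identification itself is not asserted here.) -/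
theorem result {R A : Type u} [CommRing R] [CommRing A] [Algebra R A] (𝒜 : ℕ → Submodule R A) [GradedAlgebra 𝒜]
    {B : Type u} [CommRing B] [Algebra R B] (ℬ : ℕ → Submodule R B) [GradedAlgebra ℬ]
    [Algebra A B] [IsScalarTower R A B] (φ : 𝒜 →+*ᵍ ℬ) (hφ : ∀ a : A, φ a = algebraMap A B a)
    (z : B) (hz : z ∈ ℬ 1) (hhat : Function.Bijective (Polynomial.aeval (R := A) z)) :
    ∃ θ : A ≃+* HomogeneousLocalization.Away ℬ z,
      ∀ (n : ℕ) (a : A), a ∈ 𝒜 n → (θ a).val = Localization.mk (φ a) ⟨z ^ n, pow_mem (Submonoid.mem_powers z) n⟩ := by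
  classical
  obtain ⟨ev1, hev1⟩ : ∃ ev1 : B →+* A, ∀ p : Polynomial A,
      ev1 (Polynomial.aeval z p) = Polynomial.eval 1 p := by
    let e : Polynomial A ≃+* B :=
      RingEquiv.ofBijective (Polynomial.aeval z : Polynomial A →ₐ[A] B) hhat
    refine ⟨(Polynomial.evalRingHom (1 : A)).comp e.symm.toRingHom, fun p => ?_⟩
    show Polynomial.eval 1 (e.symm (e p)) = Polynomial.eval 1 p
    rw [RingEquiv.symm_apply_apply]
  have hev1z : ev1 z = 1 := by
    have := hev1 Polynomial.X
    rwa [Polynomial.aeval_X, Polynomial.eval_X] at this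
  have hev1φ : ∀ a, ev1 (φ a) = a := by
    intro a
    have := hev1 (Polynomial.C a)
    rwa [Polynomial.aeval_C, Polynomial.eval_C, ← hφ] at this
  have hunit : IsUnit (ev1 z) := by rw [hev1z]; exact isUnit_one
  obtain ⟨L, hLeq⟩ : ∃ L : Localization.Away z →+* A,
      ∀ x, L (algebraMap B (Localization.Away z) x) = ev1 x :=
    ⟨IsLocalization.Away.lift z hunit, fun x => IsLocalization.Away.lift_eq z hunit x⟩
  have hL : ∀ (x : B) (n : ℕ),
      L (Localization.mk x (⟨z ^ n, n, rfl⟩ : Submonoid.powers z)) = ev1 x := by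
    intro x n
    have h1 : Localization.mk x (⟨z ^ n, n, rfl⟩ : Submonoid.powers z) *
        algebraMap B (Localization.Away z) (z ^ n) = algebraMap B _ x := by
      rw [Localization.mk_eq_mk']
      exact IsLocalization.mk'_spec _ x (⟨z ^ n, n, rfl⟩ : Submonoid.powers z)
    have h2 := congrArg L h1
    rw [map_mul, hLeq, hLeq, map_pow, hev1z, one_pow, mul_one] at h2
    exact h2
  obtain ⟨ρ, hρval⟩ : ∃ ρ : HomogeneousLocalization.Away ℬ z →+* A, ∀ w, ρ w = L w.val :=
    ⟨L.comp (algebraMap _ (Localization.Away z)), fun w => rfl⟩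
  have hρ : ∀ (n : ℕ) (b : B) (hb : b ∈ ℬ (n • 1)),
      ρ (HomogeneousLocalization.Away.mk ℬ hz n b hb) = ev1 b := by
    intro n b hb
    rw [hρval, HomogeneousLocalization.Away.val_mk]
    exact hL b n
  have hρinj : Function.Injective ρ := by
    rw [injective_iff_map_eq_zero]
    intro w hw
    obtain ⟨n, b, hb, rfl⟩ := HomogeneousLocalization.Away.mk_surjective ℬ hz w
    rw [hρ] at hw
    have hb' : b ∈ ℬ n := by simpa using hb
    obtain ⟨p, hp⟩ := hhat.2 b
    have h1 : Polynomial.eval 1 p = 0 := by rw [← hev1, hp]; exact hw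
    have hb0 : b = 0 := lemK ℬ z hz hhat n b hb' p hp h1
    apply HomogeneousLocalization.val_injective
    rw [HomogeneousLocalization.Away.val_mk, HomogeneousLocalization.val_zero]
    simp only [hb0, Localization.mk_zero]
  have hφmem : ∀ n a, a ∈ 𝒜 n → φ a ∈ ℬ (n • 1) := by
    intro n a ha
    rw [smul_eq_mul, mul_one]
    exact φ.map_mem ha
  have hρsurj : Function.Surjective ρ := by
    intro a
    refine ⟨∑ n ∈ (DirectSum.decompose 𝒜 a).support,
      HomogeneousLocalization.Away.mk ℬ hz n (φ (DirectSum.decompose 𝒜 a n))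
        (hφmem n _ (SetLike.coe_mem _)), ?_⟩
    rw [map_sum]
    conv_rhs => rw [← DirectSum.sum_support_decompose 𝒜 a]
    apply Finset.sum_congr rfl
    intro n _
    rw [hρ, hev1φ]
  refine ⟨(RingEquiv.ofBijective ρ ⟨hρinj, hρsurj⟩).symm, ?_⟩
  intro n a ha
  have h1 : (RingEquiv.ofBijective ρ ⟨hρinj, hρsurj⟩).symm a =
      HomogeneousLocalization.Away.mk ℬ hz n (φ a) (hφmem n a ha) := by
    rw [RingEquiv.symm_apply_eq]
    show a = ρ _
    rw [hρ, hev1φ]
  rw [h1, HomogeneousLocalization.Away.val_mk]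


end Groth.Agent.S3593
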