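import Groth.Statements.S3594
import Mathlib
-- import your own Groth.Agent.* helpers here

set_option autoImplicit false
universe u
open CategoryTheory CategoryTheory.Limits AlgebraicGeometry
open EGA2

namespace Groth.Agent.S3594

/-- The closed immersion at infinity of a projective cone: let S be a graded R-algebra and Ŝ a graded
R-algebra over S such that the structure map φ : S → Ŝ is a graded homomorphism and Ŝ = S[z] is the
polynomial algebra on an element z of degree one (evaluation at z is a bijection S[T] → Ŝ); let ψ :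
Ŝ → S be a graded homomorphism retracting φ and killing z, with S₊ contained in the ideal generated
by ψ(Ŝ₊) so that j = Proj(ψ) : X = Proj S → Ĉ = Proj Ŝ is defined (it is the canonical closed
immersion). Then the image of j is exactly the complement of the open subset D₊(z) of Proj Ŝ (which
is the affine cone C = Spec S). -/
theorem result {R A : Type u} [CommRing R] [CommRing A] [Algebra R A] (𝒜 : ℕ → Submodule R A) [GradedAlgebra 𝒜]
    {B : Type u} [CommRing B] [Algebra R B] (ℬ : ℕ → Submodule R B) [GradedAlgebra ℬ]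
    [Algebra A B] [IsScalarTower R A B] (φ : 𝒜 →+*ᵍ ℬ) (hφ : ∀ a : A, φ a = algebraMap A B a)
    (z : B) (hz : z ∈ ℬ 1) (hhat : Function.Bijective (Polynomial.aeval (R := A) z))
    (ψ : ℬ →+*ᵍ 𝒜) (hψφ : ∀ a : A, ψ (φ a) = a) (hψz : ψ z = 0)
    (hψ : HomogeneousIdeal.irrelevant 𝒜 ≤ (HomogeneousIdeal.irrelevant ℬ).map ψ) :
    Set.range (Proj.map ψ hψ).base = ((Proj.basicOpen ℬ z : Set (Proj ℬ)))ᶜ := by
  classical
  have key : ∀ b : B, ∃ c : B, b = φ (ψ b) + c * z := by
    intro b
    obtain ⟨p, rfl⟩ := hhat.2 b
    refine ⟨Polynomial.aeval z p.divX, ?_⟩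
    have h1 : Polynomial.aeval z p =
        Polynomial.aeval z p.divX * z + algebraMap A B (p.coeff 0) := by
      conv_lhs => rw [← Polynomial.divX_mul_X_add p]
      rw [map_add, map_mul, Polynomial.aeval_X, Polynomial.aeval_C]
    have h2 : ψ (Polynomial.aeval z p) = p.coeff 0 := by
      rw [h1, map_add, map_mul, hψz, mul_zero, zero_add, ← hφ, hψφ]
    rw [h2, hφ]
    conv_lhs => rw [h1]
    ring
  ext q
  simp only [Set.mem_range, Set.mem_compl_iff, SetLike.mem_coe]
  constructor
  · rintro ⟨p, rfl⟩ hmem
    have h1 : z ∉ ((Proj.map ψ hψ).base p).asHomogeneousIdeal :=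
      (ProjectiveSpectrum.mem_basicOpen ℬ z _).mp hmem
    apply h1
    change ψ z ∈ p.asHomogeneousIdeal
    rw [hψz]
    exact zero_mem _
  · intro hq
    have hzq : z ∈ q.asHomogeneousIdeal := by
      by_contra h
      exact hq ((ProjectiveSpectrum.mem_basicOpen ℬ z q).mpr h)
    have hiff : ∀ b : B, φ (ψ b) ∈ q.asHomogeneousIdeal ↔ b ∈ q.asHomogeneousIdeal := by
      intro b
      obtain ⟨c, hc⟩ := key b
      have hcz : c * z ∈ q.asHomogeneousIdeal :=
        Ideal.mul_mem_left q.asHomogeneousIdeal.toIdeal c hzq
      constructor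
      · intro h
        rw [hc]
        exact Ideal.add_mem q.asHomogeneousIdeal.toIdeal h hcz
      · intro h
        have : φ (ψ b) = b - c * z := by
          conv_rhs => rw [hc]
          ring
        rw [this]
        exact Ideal.sub_mem q.asHomogeneousIdeal.toIdeal h hcz
    let p : ProjectiveSpectrum 𝒜 :=
      { asHomogeneousIdeal := q.asHomogeneousIdeal.comap φ
        isPrime := q.isPrime.comap φ
        not_irrelevant_le := fun hle => by
          apply q.not_irrelevant_le
          rw [HomogeneousIdeal.irrelevant_le]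
          intro i hi b hb
          change b ∈ q.asHomogeneousIdeal
          rw [← hiff b]
          have h1 : ψ b ∈ HomogeneousIdeal.irrelevant 𝒜 :=
            HomogeneousIdeal.mem_irrelevant_of_mem 𝒜 hi (ψ.map_mem hb)
          exact hle h1 }
    refine ⟨p, ?_⟩
    apply ProjectiveSpectrum.ext
    apply HomogeneousIdeal.ext
    ext b
    change φ (ψ b) ∈ q.asHomogeneousIdeal ↔ b ∈ q.asHomogeneousIdeal
    exact hiff b

end Groth.Agent.S3594
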