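import Groth.Statements.S3595
-- import your own Groth.Agent.* helpers here
import Groth.Agent.Lib.Helper5.GlueCharts

set_option autoImplicit false
universe u
open CategoryTheory CategoryTheory.Limits AlgebraicGeometry
open EGA2

namespace Groth.Agent.S3595


section
variable {R A : Type u} [CommRing R] [CommRing A] [Algebra R A] (𝒜 : ℕ → Submodule R A) [GradedAlgebra 𝒜]
    {B : Type u} [CommRing B] [Algebra R B] (ℬ : ℕ → Submodule R B) [GradedAlgebra ℬ] (φ : 𝒜 →+*ᵍ ℬ)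

omit [GradedAlgebra 𝒜] in
theorem chart_ι {d : ℕ} {f : A} (hf : f ∈ 𝒜 d) (hd : 0 < d) :
    PCone.chart φ hf hd ≫ (PCone.dom φ).ι = Proj.awayι ℬ (φ f) (φ.2 hf) hd :=
  IsOpenImmersion.lift_fac _ _ _

instance chart_isOpenImmersion {d : ℕ} {f : A} (hf : f ∈ 𝒜 d) (hd : 0 < d) :
    IsOpenImmersion (PCone.chart φ hf hd) := by
  have : IsOpenImmersion (PCone.chart φ hf hd ≫ (PCone.dom φ).ι) := by
    rw [chart_ι]; infer_instance
  exact IsOpenImmersion.of_comp _ (PCone.dom φ).ι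

omit [GradedAlgebra 𝒜] in
theorem mem_range_chart_iff {d : ℕ} {f : A} (hf : f ∈ 𝒜 d) (hd : 0 < d)
    (x : (PCone.dom φ : Scheme.{u})) :
    x ∈ Set.range (PCone.chart φ hf hd).base ↔ (PCone.dom φ).ι.base x ∈ Proj.basicOpen ℬ (φ f) := by
  rw [← Proj.opensRange_awayι ℬ (φ f) (φ.2 hf) hd]
  constructor
  · rintro ⟨y, rfl⟩
    refine ⟨y, ?_⟩
    rw [← chart_ι 𝒜 ℬ φ hf hd]
    rfl
  · rintro ⟨y, hy⟩
    refine ⟨y, ?_⟩
    apply (PCone.dom φ).ι.isOpenEmbedding.injective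
    rw [← hy, ← chart_ι 𝒜 ℬ φ hf hd]
    rfl

open HomogeneousLocalization in
theorem ring_identity {d e : ℕ} {f g x : A} (hf : f ∈ 𝒜 d) (hg : g ∈ 𝒜 e) (hx : x = f * g)
    (hx' : φ x = φ f * φ g) :
    (awayMap ℬ (φ.2 hg) hx').comp (Away.map φ f) = (Away.map φ x).comp (awayMap 𝒜 hg hx) := by
  ext z
  obtain ⟨n, a, ha, rfl⟩ := Away.mk_surjective 𝒜 hf z
  simp only [RingHom.comp_apply]
  rw [Away.map_mk, awayMap_mk 𝒜 hg hx n hf a ha, Away.map_mk,
    awayMap_mk ℬ (φ.2 hg) hx' n (φ.2 hf) (φ a) (φ.2 ha)]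
  simp [map_mul, map_pow]

omit [Algebra R B] in
theorem awayι_eq {m m' : ℕ} (h : m = m') {f : A} (hf : f ∈ 𝒜 m) (hm : 0 < m) :
    Proj.awayι 𝒜 f hf hm = Proj.awayι 𝒜 f (h ▸ hf) (h ▸ hm) := by
  subst h; rfl

theorem compat {d e : ℕ} {f k : A} (hf : f ∈ 𝒜 d) (hd : 0 < d) (hk : k ∈ 𝒜 e) (he : 0 < e) :
    ∃ (W : Scheme.{u}) (a : W ⟶ Spec (CommRingCat.of (HomogeneousLocalization.Away ℬ (φ f))))
      (b : W ⟶ Spec (CommRingCat.of (HomogeneousLocalization.Away ℬ (φ k)))),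
      a ≫ PCone.chart φ hf hd = b ≫ PCone.chart φ hk he ∧
      a ≫ (Spec.map (CommRingCat.ofHom (HomogeneousLocalization.Away.map φ f)) ≫
          Proj.awayι 𝒜 f hf hd) =
        b ≫ (Spec.map (CommRingCat.ofHom (HomogeneousLocalization.Away.map φ k)) ≫
          Proj.awayι 𝒜 k hk he) ∧
      IsOpenImmersion (a ≫ PCone.chart φ hf hd) ∧
      Set.range (PCone.chart φ hf hd).base ∩ Set.range (PCone.chart φ hk he).base ⊆
        Set.range (a ≫ PCone.chart φ hf hd).base := by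
  have hfk : f * k ∈ 𝒜 (d + e) := SetLike.mul_mem_graded hf hk
  have hde : 0 < d + e := Nat.add_pos_left hd e
  have hx' : φ (f * k) = φ f * φ k := map_mul φ f k
  have hx'' : φ (f * k) = φ k * φ f := hx'.trans (mul_comm _ _)
  let a : Spec (CommRingCat.of (HomogeneousLocalization.Away ℬ (φ (f * k)))) ⟶
      Spec (CommRingCat.of (HomogeneousLocalization.Away ℬ (φ f))) :=
    Spec.map (CommRingCat.ofHom (HomogeneousLocalization.awayMap ℬ (φ.2 hk) hx'))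
  let b : Spec (CommRingCat.of (HomogeneousLocalization.Away ℬ (φ (f * k)))) ⟶
      Spec (CommRingCat.of (HomogeneousLocalization.Away ℬ (φ k))) :=
    Spec.map (CommRingCat.ofHom (HomogeneousLocalization.awayMap ℬ (φ.2 hf) hx''))
  have ha : a ≫ PCone.chart φ hf hd = PCone.chart φ hfk hde := by
    rw [← cancel_mono (PCone.dom φ).ι, Category.assoc, chart_ι, chart_ι]
    exact Proj.SpecMap_awayMap_awayι ℬ (φ.2 hf) hd (φ.2 hk) hx'
  have hb : b ≫ PCone.chart φ hk he = PCone.chart φ hfk hde := by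
    rw [← cancel_mono (PCone.dom φ).ι, Category.assoc, chart_ι, chart_ι]
    exact Proj.SpecMap_awayMap_awayι ℬ (φ.2 hk) he (φ.2 hf) hx''
  have hga : a ≫ (Spec.map (CommRingCat.ofHom (HomogeneousLocalization.Away.map φ f)) ≫
      Proj.awayι 𝒜 f hf hd) =
      Spec.map (CommRingCat.ofHom (HomogeneousLocalization.Away.map φ (f * k))) ≫
        Proj.awayι 𝒜 (f * k) hfk hde := by
    rw [← Proj.SpecMap_awayMap_awayι 𝒜 hf hd hk rfl]
    simp only [a]
    rw [← Category.assoc, ← Category.assoc, ← Spec.map_comp, ← Spec.map_comp,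
      ← CommRingCat.ofHom_comp, ← CommRingCat.ofHom_comp, ring_identity 𝒜 ℬ φ hf hk rfl hx']
  have hgb : b ≫ (Spec.map (CommRingCat.ofHom (HomogeneousLocalization.Away.map φ k)) ≫
      Proj.awayι 𝒜 k hk he) =
      Spec.map (CommRingCat.ofHom (HomogeneousLocalization.Away.map φ (f * k))) ≫
        Proj.awayι 𝒜 (f * k) hfk hde := by
    rw [awayι_eq 𝒜 (Nat.add_comm d e) hfk hde, ← Proj.SpecMap_awayMap_awayι 𝒜 hk he hf (mul_comm f k)]
    simp only [b]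
    rw [← Category.assoc, ← Category.assoc, ← Spec.map_comp, ← Spec.map_comp,
      ← CommRingCat.ofHom_comp, ← CommRingCat.ofHom_comp,
      ring_identity 𝒜 ℬ φ hk hf (mul_comm f k) hx'']
  refine ⟨_, a, b, ha.trans hb.symm, hga.trans hgb.symm, ?_, ?_⟩
  · rw [ha]; infer_instance
  · rw [ha]
    rintro z ⟨hz1, hz2⟩
    rw [mem_range_chart_iff] at hz1 hz2 ⊢
    rw [hx', Proj.basicOpen_mul]
    exact ⟨hz1, hz2⟩

end

/-- Let φ : S′ → S be a homomorphism of graded rings and G(φ) ⊆ Proj S the open union of the basic opens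
D_+(φ(f′)) for f′ ∈ S′ homogeneous of positive degree. There is exactly one morphism p : G(φ) → Proj
S′ whose restriction to each chart Spec S_(φ(f′)) of G(φ) is Spec of the induced map S′_(f′) →
S_(φ(f′)) followed by Spec S′_(f′) ≅ D_+(f′) ⊆ Proj S′. -/
theorem result {R A : Type u} [CommRing R] [CommRing A] [Algebra R A] (𝒜 : ℕ → Submodule R A) [GradedAlgebra 𝒜]
    {B : Type u} [CommRing B] [Algebra R B] (ℬ : ℕ → Submodule R B) [GradedAlgebra ℬ] (φ : 𝒜 →+*ᵍ ℬ) :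
    ∃! p : (PCone.dom φ : Scheme.{u}) ⟶ Proj 𝒜,
      ∀ (d : ℕ) (f : A) (hd : 0 < d) (hf : f ∈ 𝒜 d),
        PCone.chart φ hf hd ≫ p =
          Spec.map (CommRingCat.ofHom (HomogeneousLocalization.Away.map φ f)) ≫ Proj.awayι 𝒜 f hf hd := by
  classical
  let ι := Σ d : ℕ+, 𝒜 d
  let U : ι → Scheme.{u} := fun i => Spec (CommRingCat.of (HomogeneousLocalization.Away ℬ (φ (i.2 : A))))
  let c : ∀ i : ι, U i ⟶ (PCone.dom φ : Scheme.{u}) := fun i => PCone.chart φ i.2.2 i.1.2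
  let g : ∀ i : ι, U i ⟶ Proj 𝒜 := fun i =>
    Spec.map (CommRingCat.ofHom (HomogeneousLocalization.Away.map φ (i.2 : A))) ≫
      Proj.awayι 𝒜 (i.2 : A) i.2.2 i.1.2
  have : ∀ i, IsOpenImmersion (c i) := fun i => chart_isOpenImmersion 𝒜 ℬ φ i.2.2 i.1.2
  have hcov : ∀ x : (PCone.dom φ : Scheme.{u}), ∃ i, x ∈ Set.range (c i).base := by
    intro x
    have hxD : (PCone.dom φ).ι.base x ∈ PCone.dom φ := x.2
    obtain ⟨⟨f, d, hd, hf⟩, hxf⟩ := TopologicalSpace.Opens.mem_iSup.mp hxD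
    exact ⟨⟨⟨d, hd⟩, ⟨f, hf⟩⟩, (mem_range_chart_iff 𝒜 ℬ φ hf hd x).mpr hxf⟩
  have hcompat : ∀ i j, ∃ (W : Scheme.{u}) (a : W ⟶ U i) (b : W ⟶ U j),
      a ≫ c i = b ≫ c j ∧ a ≫ g i = b ≫ g j ∧ IsOpenImmersion (a ≫ c i) ∧
      Set.range (c i).base ∩ Set.range (c j).base ⊆ Set.range (a ≫ c i).base := by
    intro i j
    exact compat 𝒜 ℬ φ i.2.2 i.1.2 j.2.2 j.1.2
  obtain ⟨p, hp, huniq⟩ := Groth.Agent.Lib.helper5.existsUnique_of_charts c hcov g hcompat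
  refine ⟨p, fun d f hd hf => hp ⟨⟨d, hd⟩, ⟨f, hf⟩⟩, ?_⟩
  intro q hq
  exact huniq q fun i => hq i.1.1 i.2.1 i.1.2 i.2.2

end Groth.Agent.S3595
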