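import Groth.Statements.S3596
-- import your own Groth.Agent.* helpers here
import Mathlib.AlgebraicGeometry.Morphisms.Affine

set_option autoImplicit false
universe u
open CategoryTheory CategoryTheory.Limits AlgebraicGeometry
open EGA2

namespace Groth.Agent.S3596


section
variable {R A : Type u} [CommRing R] [CommRing A] [Algebra R A] (𝒜 : ℕ → Submodule R A) [GradedAlgebra 𝒜]
    {B : Type u} [CommRing B] [Algebra R B] (ℬ : ℕ → Submodule R B) [GradedAlgebra ℬ] (φ : 𝒜 →+*ᵍ ℬ)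

omit [GradedAlgebra 𝒜] in
theorem chart_ι {d : ℕ} {f : A} (hf : f ∈ 𝒜 d) (hd : 0 < d) :
    PCone.chart φ hf hd ≫ (PCone.dom φ).ι = Proj.awayι ℬ (φ f) (φ.2 hf) hd :=
  IsOpenImmersion.lift_fac _ _ _

instance chart_isOpenImmersion {d : ℕ} {f : A} (hf : f ∈ 𝒜 d) (hd : 0 < d) :
    IsOpenImmersion (PCone.chart φ hf hd) := by
  have : IsOpenImmersion (PCone.chart φ hf hd ≫ (PCone.dom φ).ι) := by
    rw [chart_ι]; infer_instance
  exact IsOpenImmersion.of_comp _ (PCone.dom φ).ι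

theorem preimage_eq (p : (PCone.dom φ : Scheme.{u}) ⟶ Proj 𝒜)
    (hp : ∀ (d : ℕ) (f : A) (hd : 0 < d) (hf : f ∈ 𝒜 d),
        PCone.chart φ hf hd ≫ p =
          Spec.map (CommRingCat.ofHom (HomogeneousLocalization.Away.map φ f)) ≫ Proj.awayι 𝒜 f hf hd)
    {d : ℕ} {f : A} (hf : f ∈ 𝒜 d) (hd : 0 < d) :
    p ⁻¹ᵁ Proj.basicOpen 𝒜 f = (PCone.chart φ hf hd).opensRange := by
  ext x
  constructor
  · intro hx
    -- x lies in some chart
    have hxD : (PCone.dom φ).ι.base x ∈ PCone.dom φ := by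
      have := (PCone.dom φ).ι.base x
      exact x.2
    obtain ⟨⟨g, e, he, hg⟩, hxg⟩ := TopologicalSpace.Opens.mem_iSup.mp hxD
    rw [← Proj.opensRange_awayι ℬ (φ g) (φ.2 hg) he] at hxg
    obtain ⟨y, hy⟩ := hxg
    have hxy : (PCone.chart φ hg he).base y = x := by
      apply (PCone.dom φ).ι.isOpenEmbedding.injective
      rw [← hy, ← chart_ι 𝒜 ℬ φ hg he]
      rfl
    have hpx : p.base x = (Proj.awayι 𝒜 g hg he).base
        ((Spec.map (CommRingCat.ofHom (HomogeneousLocalization.Away.map φ g))).base y) := by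
      rw [← hxy]
      have := congrArg (fun q => q.base y) (hp e g he hg)
      exact this
    have h1 : (Spec.map (CommRingCat.ofHom (HomogeneousLocalization.Away.map φ g))).base y ∈
        Proj.awayι 𝒜 g hg he ⁻¹ᵁ Proj.basicOpen 𝒜 f := by
      change (Proj.awayι 𝒜 g hg he).base _ ∈ Proj.basicOpen 𝒜 f
      rw [← hpx]
      exact hx
    rw [Proj.awayι_preimage_basicOpen 𝒜 hg he hf hd] at h1
    have h2 : y ∈ PrimeSpectrum.basicOpen
        (HomogeneousLocalization.Away.map φ g (HomogeneousLocalization.Away.isLocalizationElem hg hf)) := by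
      exact h1
    rw [HomogeneousLocalization.Away.map_mk] at h2
    have h3 : y ∈ Proj.awayι ℬ (φ g) (φ.2 hg) he ⁻¹ᵁ Proj.basicOpen ℬ (φ f) := by
      rw [Proj.awayι_preimage_basicOpen ℬ (f := φ g) (g := φ f) (φ.2 hg) he (φ.2 hf) hd]
      convert h2 using 3
      simp
    have h4 : (PCone.dom φ).ι.base x ∈ Proj.basicOpen ℬ (φ f) := by
      rw [← hy]; exact h3
    rw [← Proj.opensRange_awayι ℬ (φ f) (φ.2 hf) hd] at h4
    obtain ⟨z, hz⟩ := h4
    refine ⟨z, ?_⟩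
    apply (PCone.dom φ).ι.isOpenEmbedding.injective
    rw [← hz, ← chart_ι 𝒜 ℬ φ hf hd]
    rfl
  · rintro ⟨y, rfl⟩
    change p.base ((PCone.chart φ hf hd).base y) ∈ Proj.basicOpen 𝒜 f
    have := congrArg (fun q => q.base y) (hp d f hd hf)
    have h1 : p.base ((PCone.chart φ hf hd).base y) = (Proj.awayι 𝒜 f hf hd).base
        ((Spec.map (CommRingCat.ofHom (HomogeneousLocalization.Away.map φ f))).base y) := this
    rw [h1, ← Proj.opensRange_awayι 𝒜 f hf hd]
    exact ⟨_, rfl⟩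

end

/-- For a homomorphism of graded rings φ : S' → S, the induced morphism p : G(φ) → Proj S'
(characterised on the charts as in the previous result) is affine. -/
theorem result {R A : Type u} [CommRing R] [CommRing A] [Algebra R A] (𝒜 : ℕ → Submodule R A) [GradedAlgebra 𝒜]
    {B : Type u} [CommRing B] [Algebra R B] (ℬ : ℕ → Submodule R B) [GradedAlgebra ℬ] (φ : 𝒜 →+*ᵍ ℬ)
    (p : (PCone.dom φ : Scheme.{u}) ⟶ Proj 𝒜) (hp : ∀ (d : ℕ) (f : A) (hd : 0 < d) (hf : f ∈ 𝒜 d),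
        PCone.chart φ hf hd ≫ p =
          Spec.map (CommRingCat.ofHom (HomogeneousLocalization.Away.map φ f)) ≫ Proj.awayι 𝒜 f hf hd) :
    IsAffineHom p := by
  classical
  have hU : ⨆ i : (Σ i : ℕ+, 𝒜 i), Proj.basicOpen 𝒜 (i.2 : A) = ⊤ := by
    apply Proj.iSup_basicOpen_eq_top
    intro z hz
    rw [← DirectSum.sum_support_decompose 𝒜 z]
    refine Ideal.sum_mem _ fun c hc ↦ if hc0 : c = 0 then ?_ else
      Ideal.subset_span ⟨⟨⟨c, Nat.pos_iff_ne_zero.mpr hc0⟩, _⟩, rfl⟩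
    convert Ideal.zero_mem _
    subst hc0
    exact hz
  rw [HasAffineProperty.iff_of_iSup_eq_top (P := @IsAffineHom)
    (fun i : (Σ i : ℕ+, 𝒜 i) => (⟨Proj.basicOpen 𝒜 (i.2 : A),
      Proj.isAffineOpen_basicOpen 𝒜 (i.2 : A) i.2.2 i.1.2⟩ : (Proj 𝒜).affineOpens)) hU]
  intro i
  change IsAffineOpen (p ⁻¹ᵁ Proj.basicOpen 𝒜 (i.2 : A))
  rw [preimage_eq 𝒜 ℬ φ p hp i.2.2 i.1.2]
  exact isAffineOpen_opensRange _

end Groth.Agent.S3596
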