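import Groth.Statements.S3597
-- import your own Groth.Agent.* helpers here

set_option autoImplicit false
universe u
open CategoryTheory CategoryTheory.Limits AlgebraicGeometry
open EGA2

namespace Groth.Agent.S3597


section
variable {R A : Type u} [CommRing R] [CommRing A] [Algebra R A] (𝒜 : ℕ → Submodule R A) [GradedAlgebra 𝒜]
    {B : Type u} [CommRing B] [Algebra R B] (ℬ : ℕ → Submodule R B) [GradedAlgebra ℬ] (φ : 𝒜 →+*ᵍ ℬ)

omit [GradedAlgebra 𝒜] in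
theorem chart_ι {d : ℕ} {f : A} (hf : f ∈ 𝒜 d) (hd : 0 < d) :
    PCone.chart φ hf hd ≫ (PCone.dom φ).ι = Proj.awayι ℬ (φ f) (φ.2 hf) hd :=
  IsOpenImmersion.lift_fac _ _ _

/-- `Proj.map` of a graded endomorphism equal to the identity is the identity. -/
theorem map_eq_id (χ : 𝒜 →+*ᵍ 𝒜) (h : χ = .id 𝒜)
    (hχ : HomogeneousIdeal.irrelevant 𝒜 ≤ (HomogeneousIdeal.irrelevant 𝒜).map χ) :
    Proj.map χ hχ = 𝟙 (Proj 𝒜) := by
  subst h
  exact Proj.map_id

theorem irrelevant_le_of_eq_id (χ : 𝒜 →+*ᵍ 𝒜) (h : χ = .id 𝒜) :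
    HomogeneousIdeal.irrelevant 𝒜 ≤ (HomogeneousIdeal.irrelevant 𝒜).map χ := by
  subst h
  simp

end

/-- Let S be a graded algebra over a ring and Ŝ = S[z] the graded S-algebra obtained by adjoining a
variable z in degree 1 (an S-algebra with an element z of degree 1 such that S[T] → Ŝ, T ↦ z, is
bijective), with φ : S → Ŝ the graded structure map and ψ : Ŝ → S the graded retraction with ψ ∘ φ =
id and ψ(z) = 0 (the irrelevant-ideal containment needed to define Proj(ψ) on all of X = Proj S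
carried as a hypothesis). Let Ê ⊆ Ĉ = Proj Ŝ be the pointed projective cone, the open union of the
D_+(φ f) for f ∈ S homogeneous of positive degree, and p : Ê → X a morphism which on each chart
D_+(φ f) = Spec Ŝ_{(φ f)} is induced by S_{(f)} → Ŝ_{(φ f)} (the canonical retraction). Then p is
surjective, and the closed immersion j = Proj(ψ) : X → Ĉ factors through Ê with p ∘ j = id_X. -/
theorem result {R A : Type u} [CommRing R] [CommRing A] [Algebra R A] (𝒜 : ℕ → Submodule R A) [GradedAlgebra 𝒜]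
    {B : Type u} [CommRing B] [Algebra R B] (ℬ : ℕ → Submodule R B) [GradedAlgebra ℬ]
    [Algebra A B] [IsScalarTower R A B] (φ : 𝒜 →+*ᵍ ℬ) (hφ : ∀ a : A, φ a = algebraMap A B a)
    (z : B) (hz : z ∈ ℬ 1) (hhat : Function.Bijective (Polynomial.aeval (R := A) z))
    (ψ : ℬ →+*ᵍ 𝒜) (hψφ : ∀ a : A, ψ (φ a) = a) (hψz : ψ z = 0)
    (hψ : HomogeneousIdeal.irrelevant 𝒜 ≤ (HomogeneousIdeal.irrelevant ℬ).map ψ)
    (p : (PCone.dom φ : Scheme.{u}) ⟶ Proj 𝒜) (hp : ∀ (d : ℕ) (f : A) (hd : 0 < d) (hf : f ∈ 𝒜 d),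
        PCone.chart φ hf hd ≫ p =
          Spec.map (CommRingCat.ofHom (HomogeneousLocalization.Away.map φ f)) ≫ Proj.awayι 𝒜 f hf hd) :
    Surjective p ∧ ∃ j : Proj 𝒜 ⟶ (PCone.dom φ : Scheme.{u}), j ≫ (PCone.dom φ).ι = Proj.map ψ hψ ∧ j ≫ p = 𝟙 (Proj 𝒜) := by
  classical
  have hcomp : ψ.comp φ = .id 𝒜 := by
    ext a
    exact hψφ a
  have hχ := irrelevant_le_of_eq_id 𝒜 (ψ.comp φ) hcomp
  -- the range of Proj(ψ) lies in the pointed cone
  have hrange : Set.range (Proj.map ψ hψ).base ⊆ Set.range (PCone.dom φ).ι.base := by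
    rw [Scheme.Opens.range_ι]
    rintro _ ⟨x, rfl⟩
    obtain ⟨s, y, hy⟩ := (Proj.mapAffineOpenCover (ψ.comp φ) hχ).openCover.exists_eq x
    have hx : x ∈ Proj.basicOpen 𝒜 (ψ (φ s.2.1)) := by
      rw [← hy]
      have := Proj.opensRange_awayι 𝒜 (ψ (φ s.2.1)) ((ψ.comp φ).2 s.2.2) s.1.2
      rw [← this]
      exact ⟨y, rfl⟩
    have hx' : (Proj.map ψ hψ).base x ∈ Proj.basicOpen ℬ (φ s.2.1) := hx
    exact TopologicalSpace.Opens.mem_iSup.mpr ⟨⟨s.2.1, s.1.1, s.1.2, s.2.2⟩, hx'⟩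
  let j : Proj 𝒜 ⟶ (PCone.dom φ : Scheme.{u}) :=
    IsOpenImmersion.lift (PCone.dom φ).ι (Proj.map ψ hψ) hrange
  have hj : j ≫ (PCone.dom φ).ι = Proj.map ψ hψ := IsOpenImmersion.lift_fac _ _ _
  have key : ∀ (d : ℕ) (hd : 0 < d) (f : A) (hf : f ∈ 𝒜 d),
      Proj.awayι 𝒜 ((ψ.comp φ) f) ((ψ.comp φ).2 hf) hd ≫ j ≫ p =
        Proj.awayι 𝒜 ((ψ.comp φ) f) ((ψ.comp φ).2 hf) hd ≫ 𝟙 (Proj 𝒜) := by
    intro d hd f hf
    obtain ⟨θ, hθ, hθ'⟩ : ∃ θ : HomogeneousLocalization.Away ℬ (φ f) →+*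
        HomogeneousLocalization.Away 𝒜 ((ψ.comp φ) f),
        θ.comp (HomogeneousLocalization.Away.map φ f) =
          HomogeneousLocalization.Away.map (ψ.comp φ) f ∧
        Proj.awayι 𝒜 ((ψ.comp φ) f) ((ψ.comp φ).2 hf) hd ≫ Proj.map ψ hψ =
          Spec.map (CommRingCat.ofHom θ) ≫ Proj.awayι ℬ (φ f) (φ.2 hf) hd :=
      ⟨HomogeneousLocalization.Away.map ψ (φ f),
        (HomogeneousLocalization.Away.map_comp φ ψ f).symm,
        Proj.awayι_comp_map ψ hψ hd (φ f) (φ.2 hf)⟩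
    have h1 : Proj.awayι 𝒜 ((ψ.comp φ) f) ((ψ.comp φ).2 hf) hd ≫ j =
        Spec.map (CommRingCat.ofHom θ) ≫ PCone.chart φ hf hd := by
      rw [← cancel_mono (PCone.dom φ).ι, Category.assoc, Category.assoc, hj, chart_ι, hθ']
    rw [← Category.assoc, h1, Category.assoc, hp, ← Category.assoc, ← Spec.map_comp,
      ← CommRingCat.ofHom_comp, hθ,
      ← Proj.awayι_comp_map (ψ.comp φ) hχ hd f hf, map_eq_id 𝒜 _ hcomp]
  have hjp : j ≫ p = 𝟙 (Proj 𝒜) := by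
    refine (Proj.mapAffineOpenCover (ψ.comp φ) hχ).openCover.hom_ext _ _ fun s => ?_
    exact key _ s.1.2 _ s.2.2
  refine ⟨?_, j, hj, hjp⟩
  have : Surjective (j ≫ p) := by rw [hjp]; infer_instance
  exact Surjective.of_comp j p

end Groth.Agent.S3597
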