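import Groth.Statements.S3598
import Groth.Agent.S3596
import Groth.Agent.Lib.Helper28.PolyAway
import Groth.Agent.Lib.Helper28.FibreChart
import Groth.Agent.Lib.Helper28.ChartLocal
-- import your own Groth.Agent.* helpers here

set_option autoImplicit false
universe u
open CategoryTheory CategoryTheory.Limits AlgebraicGeometry
open EGA2

namespace Groth.Agent.S3598

/-- Let S be a graded algebra over a ring (an affine base) whose irrelevant ideal is generated by its
degree-one elements, and let Ŝ = S[z] be the graded S-algebra obtained by adjoining a variable z of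
degree 1 (given as a graded S-algebra together with z of degree 1 such that S[T] → Ŝ, T ↦ z, is
bijective). Let Ê be the pointed projective cone, covered by the charts Spec Ŝ_(f) for f ∈ S
homogeneous of positive degree, and p : Ê → X = Proj S the canonical retraction, i.e. the morphism
which on each chart Spec Ŝ_(f) is induced by S_(f) → Ŝ_(f). Then p is of finite type (locally of
finite type and quasi-compact) and its fibre at every point x of X is isomorphic over k(x) to the
affine line Spec k(x)[T]. -/
theorem result {R A : Type u} [CommRing R] [CommRing A] [Algebra R A] (𝒜 : ℕ → Submodule R A) [GradedAlgebra 𝒜]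
    {B : Type u} [CommRing B] [Algebra R B] (ℬ : ℕ → Submodule R B) [GradedAlgebra ℬ]
    [Algebra A B] [IsScalarTower R A B] (φ : 𝒜 →+*ᵍ ℬ) (hφ : ∀ a : A, φ a = algebraMap A B a)
    (z : B) (hz : z ∈ ℬ 1) (hhat : Function.Bijective (Polynomial.aeval (R := A) z))
    (hgen : (HomogeneousIdeal.irrelevant 𝒜).toIdeal = Ideal.span (𝒜 1 : Set A))
    (p : (PCone.dom φ : Scheme.{u}) ⟶ Proj 𝒜) (hp : ∀ (d : ℕ) (f : A) (hd : 0 < d) (hf : f ∈ 𝒜 d),
        PCone.chart φ hf hd ≫ p =
          Spec.map (CommRingCat.ofHom (HomogeneousLocalization.Away.map φ f)) ≫ Proj.awayι 𝒜 f hf hd) (x : Proj 𝒜) :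
    LocallyOfFiniteType p ∧ QuasiCompact p ∧
      ∃ e : pullback p ((Proj 𝒜).fromSpecResidueField x) ≅
          Spec (CommRingCat.of (Polynomial ((Proj 𝒜).residueField x))),
        e.hom ≫ Spec.map (CommRingCat.ofHom (algebraMap ((Proj 𝒜).residueField x)
          (Polynomial ((Proj 𝒜).residueField x)))) = pullback.snd p ((Proj 𝒜).fromSpecResidueField x) := by
  classical
  have hφr : φ.toRingHom = algebraMap A B := RingHom.ext hφ
  have hpoly : Function.Bijective (Polynomial.eval₂RingHom φ.toRingHom z) := by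
    have e : ⇑(Polynomial.eval₂RingHom φ.toRingHom z) = ⇑(Polynomial.aeval (R := A) z) := by
      ext P
      rw [hφr]
      rfl
    rw [e]
    exact hhat
  have haff : IsAffineHom p := Groth.Agent.S3596.result 𝒜 ℬ φ p hp
  have hcov : ∀ y : Proj 𝒜, ∃ f : {f : A // f ∈ 𝒜 1},
      y ∈ Set.range (Proj.awayι 𝒜 f.1 f.2 one_pos).base := by
    intro y
    by_contra hcon
    apply y.not_irrelevant_le
    intro a ha
    have ha' : a ∈ (HomogeneousIdeal.irrelevant 𝒜).toIdeal := ha
    rw [hgen] at ha'
    refine (Ideal.span_le.mpr ?_) ha'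
    intro g hg
    by_contra hgy
    apply hcon
    refine ⟨⟨g, hg⟩, ?_⟩
    have h1 : y ∈ (Proj.awayι 𝒜 g hg one_pos).opensRange := by
      rw [Proj.opensRange_awayι]
      exact (ProjectiveSpectrum.mem_basicOpen 𝒜 g y).mpr hgy
    exact h1
  have hpre : ∀ f : {f : A // f ∈ 𝒜 1},
      p ⁻¹ᵁ (Proj.awayι 𝒜 f.1 f.2 one_pos).opensRange =
        (PCone.chart φ f.2 one_pos).opensRange := by
    intro f
    rw [Proj.opensRange_awayι]
    exact Groth.Agent.S3596.preimage_eq 𝒜 ℬ φ p hp f.2 one_pos
  refine ⟨?_, inferInstance, ?_⟩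
  · refine Groth.Agent.Lib.helper28.ChartLocal.of_charts p (J := {f : A // f ∈ 𝒜 1})
      (T := fun f => Spec (CommRingCat.of (HomogeneousLocalization.Away ℬ (φ f.1))))
      (Q := fun f => Spec (CommRingCat.of (HomogeneousLocalization.Away 𝒜 f.1)))
      (fun f => PCone.chart φ f.2 one_pos) (fun f => Proj.awayι 𝒜 f.1 f.2 one_pos)
      (fun f => Spec.map (CommRingCat.ofHom (HomogeneousLocalization.Away.map φ f.1)))
      @LocallyOfFiniteType (fun f => hp 1 f.1 one_pos f.2) hpre hcov ?_
    intro f
    rw [HasRingHomProperty.Spec_iff (P := @LocallyOfFiniteType)]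
    have h1 : HomogeneousLocalization.Away.map φ f.1 =
        (Groth.Agent.Lib.helper28.PolyAway.polyToAway φ z f.1 f.2 hz).comp Polynomial.C := by
      refine RingHom.ext fun c => ?_
      exact (Groth.Agent.Lib.helper28.PolyAway.polyToAway_C φ z f.1 f.2 hz c).symm
    change RingHom.FiniteType (HomogeneousLocalization.Away.map φ f.1)
    rw [h1]
    refine RingHom.FiniteType.comp (RingHom.FiniteType.of_surjective _
      (Groth.Agent.Lib.helper28.PolyAway.polyToAway_surjective φ z f.1 f.2 hz hpoly.2)) ?_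
    exact (RingHom.finiteType_algebraMap (A := HomogeneousLocalization.Away 𝒜 f.1)
      (B := Polynomial (HomogeneousLocalization.Away 𝒜 f.1))).mpr inferInstance
  · obtain ⟨f, hxf⟩ := hcov x
    exact Groth.Agent.Lib.helper28.FibreChart.exists_fibre_iso_polynomial p x
      (Proj.awayι 𝒜 f.1 f.2 one_pos) (PCone.chart φ f.2 one_pos)
      (CommRingCat.ofHom (HomogeneousLocalization.Away.map φ f.1)) hxf (hp 1 f.1 one_pos f.2)
      (hpre f) (Groth.Agent.Lib.helper28.PolyAway.polyAwayEquiv φ z f.1 f.2 hz hpoly)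
      (Groth.Agent.Lib.helper28.PolyAway.polyAwayEquiv_C φ z f.1 f.2 hz hpoly)

end Groth.Agent.S3598
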