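import Groth.Statements.S3625
import Mathlib
import Groth.Agent.Lib.Helper17.GorBaseChange

set_option autoImplicit false
set_option linter.style.haveILetI false
universe u
open CategoryTheory CategoryTheory.Limits AlgebraicGeometry
attribute [local instance] HasDerivedCategory.standard
open Dual3

namespace Groth.Agent.S3625

/-- Let f : X → Y be a morphism of schemes all of whose fibres are locally Noetherian, g : Y' → Y
locally of finite type, and X' = Y' ×_Y X with projections f' : X' → Y', g' : X' → X. Let x' be a
point of X' with image x in X. Then: (1) Gorensteinness of f at x passes to f' at x'; (2)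
conversely, f' being Gorenstein at x' forces f to be Gorenstein at x as long as f is flat at x; (3)
the same converse holds when instead g is flat at the point f'(x'). -/
theorem result (X Y X' Y' : Scheme.{u}) (f : X ⟶ Y) (g : Y' ⟶ Y) (f' : X' ⟶ Y') (g' : X' ⟶ X) (hsq : IsPullback g' f' f g) (hfibf : ∀ y, IsLocallyNoetherian (f.fiber y)) [LocallyOfFiniteType g] (x' : X') : (Dual3.IsGorensteinAt f (g' x') → Dual3.IsGorensteinAt f' x') ∧ ((f.stalkMap (g' x')).hom.Flat → Dual3.IsGorensteinAt f' x' → Dual3.IsGorensteinAt f (g' x')) ∧ ((g.stalkMap (f' x')).hom.Flat → Dual3.IsGorensteinAt f' x' → Dual3.IsGorensteinAt f (g' x')) := by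
  have hc := hsq
  have hN := hfibf
  refine ⟨?_, ?_, ?_⟩
  · intro h
    haveI := hN (g (f' x'))
    have hF := Groth.Agent.Lib.helper17.CMBaseChange.isPullback_fibreMap hc (f' x')
    have hφ := Groth.Agent.Lib.helper17.FieldBC.essFiniteType_residueFieldMap g (f' x')
    haveI : IsNoetherianRing ((f'.fiber (f' x')).presheaf.stalk (f'.asFiber x')) :=
      Groth.Agent.Lib.helper17.FieldBC.isNoetherianRing_stalk hF (f'.asFiber x') hφ
    let ψ : Y.residueField (g (f' x')) ⟶ (f.fiber (g (f' x'))).residueField
        (Groth.Agent.Lib.helper17.FibreBC.fibreMap hc (f' x') (f'.asFiber x')) :=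
      Spec.preimage ((f.fiber (g (f' x'))).fromSpecResidueField
        (Groth.Agent.Lib.helper17.FibreBC.fibreMap hc (f' x') (f'.asFiber x')) ≫
        f.fiberToSpecResidueField (g (f' x')))
    have hψ : (f.fiber (g (f' x'))).fromSpecResidueField
        (Groth.Agent.Lib.helper17.FibreBC.fibreMap hc (f' x') (f'.asFiber x')) ≫
        f.fiberToSpecResidueField (g (f' x')) = Spec.map ψ := (Spec.map_preimage _).symm
    exact Groth.Agent.Lib.helper17.GorBaseChange.isGorensteinAt_of_isPullback hc x' ψ hψ
      (Or.inr hφ) h
  · intro hflat h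
    haveI := hN (f (g' x'))
    haveI : IsNoetherianRing ((f.fiber (f (g' x'))).presheaf.stalk (f.asFiber (g' x'))) :=
      inferInstance
    exact Groth.Agent.Lib.helper17.GorBaseChange.isGorensteinAt_descent hc x' hflat h
  · intro hflat h
    have hfl' : (f'.stalkMap x').hom.Flat := h.1
    have hB : (g'.stalkMap x').hom.Flat :=
      Groth.Agent.Lib.helper17.FlatStalkBC.flat_stalkMap_of_isPullback hc x' hflat
    have hfl : (f.stalkMap (g' x')).hom.Flat :=
      Groth.Agent.Lib.helper17.CMBaseChange.flat_stalkMap_descent hc x' hflat hB hfl'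
    haveI := hN (f (g' x'))
    haveI : IsNoetherianRing ((f.fiber (f (g' x'))).presheaf.stalk (f.asFiber (g' x'))) :=
      inferInstance
    exact Groth.Agent.Lib.helper17.GorBaseChange.isGorensteinAt_descent hc x' hfl h

end Groth.Agent.S3625
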