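import Groth.Statements.S3626
import Mathlib
import Groth.Agent.Lib.Helper17.GorBaseChange

set_option autoImplicit false
set_option linter.style.haveILetI false
universe u
open CategoryTheory CategoryTheory.Limits AlgebraicGeometry
attribute [local instance] HasDerivedCategory.standard
open Dual3

namespace Groth.Agent.S3626

/-- Let f : X → Y be flat and locally of finite type, g : Y' → Y any morphism and X' = Y' ×_Y X with
projections f' : X' → Y', g' : X' → X. Then for every point x' of X', f' is Gorenstein at x' if and
only if f is Gorenstein at g'(x'): formation of the Gorenstein locus commutes with base change. -/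
theorem result (X Y X' Y' : Scheme.{u}) (f : X ⟶ Y) [Flat f] [LocallyOfFiniteType f] (g : Y' ⟶ Y) (f' : X' ⟶ Y') (g' : X' ⟶ X) (hsq : IsPullback g' f' f g) (x' : X') : Dual3.IsGorensteinAt f' x' ↔ Dual3.IsGorensteinAt f (g' x') := by
  have hc := hsq
  haveI hf' : LocallyOfFiniteType f' := MorphismProperty.of_isPullback hc inferInstance
  have hNoeth : ∀ {A B : Scheme.{u}} (p : A ⟶ B) [LocallyOfFiniteType p] (b : B),
      IsLocallyNoetherian (p.fiber b) := by
    intro A B p _ b
    haveI : LocallyOfFiniteType (p.fiberToSpecResidueField b) :=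
      MorphismProperty.pullback_snd _ _ inferInstance
    exact LocallyOfFiniteType.isLocallyNoetherian (p.fiberToSpecResidueField b)
  constructor
  · intro h
    haveI := hNoeth f (f (g' x'))
    haveI : IsNoetherianRing ((f.fiber (f (g' x'))).presheaf.stalk (f.asFiber (g' x'))) :=
      inferInstance
    exact Groth.Agent.Lib.helper17.GorBaseChange.isGorensteinAt_descent hc x'
      (Flat.stalkMap f (g' x')) h
  · intro h
    haveI := hNoeth f (g (f' x'))
    haveI := hNoeth f' (f' x')
    haveI : IsNoetherianRing ((f'.fiber (f' x')).presheaf.stalk (f'.asFiber x')) := inferInstance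
    haveI : LocallyOfFiniteType (f.fiberToSpecResidueField (g (f' x'))) :=
      MorphismProperty.pullback_snd _ _ inferInstance
    let ψ : Y.residueField (g (f' x')) ⟶ (f.fiber (g (f' x'))).residueField
        (Groth.Agent.Lib.helper17.FibreBC.fibreMap hc (f' x') (f'.asFiber x')) :=
      Spec.preimage ((f.fiber (g (f' x'))).fromSpecResidueField
        (Groth.Agent.Lib.helper17.FibreBC.fibreMap hc (f' x') (f'.asFiber x')) ≫
        f.fiberToSpecResidueField (g (f' x')))
    have hψ : (f.fiber (g (f' x'))).fromSpecResidueField
        (Groth.Agent.Lib.helper17.FibreBC.fibreMap hc (f' x') (f'.asFiber x')) ≫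
        f.fiberToSpecResidueField (g (f' x')) = Spec.map ψ := (Spec.map_preimage _).symm
    have hψe := Groth.Agent.Lib.helper17.FieldBC.essFiniteType_of_locallyOfFiniteType _ _ ψ hψ
    exact Groth.Agent.Lib.helper17.GorBaseChange.isGorensteinAt_of_isPullback hc x' ψ hψ
      (Or.inl hψe) h

end Groth.Agent.S3626
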