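import Groth.Statements.S3627
import Mathlib
import Groth.Agent.Lib.Helper17.FibreStalk
import Groth.Agent.Lib.Helper17.GorComp

set_option autoImplicit false
set_option linter.style.haveILetI false
universe u
open CategoryTheory CategoryTheory.Limits AlgebraicGeometry
attribute [local instance] HasDerivedCategory.standard
open Dual3

namespace Groth.Agent.S3627

/-- Let f : X → Y and g : Y → Z be morphisms such that the fibres of f, g and g ∘ f are locally
Noetherian, and let x be a point of X. (1) The composite g ∘ f is Gorenstein at x provided f is so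
at x and g is so at f(x). (3) Conversely, if f is flat at x and the composite is Gorenstein there,
then both factors are Gorenstein: f at x, and g at f(x). -/
theorem result (X Y Z : Scheme.{u}) (f : X ⟶ Y) (g : Y ⟶ Z) (hfibf : ∀ y, IsLocallyNoetherian (f.fiber y)) (hfibg : ∀ y, IsLocallyNoetherian (g.fiber y)) (hfibfg : ∀ z, IsLocallyNoetherian ((f ≫ g).fiber z)) (x : X) : (Dual3.IsGorensteinAt f x → Dual3.IsGorensteinAt g (f x) → Dual3.IsGorensteinAt (f ≫ g) x) ∧ (Dual3.IsGorensteinAt (f ≫ g) x → (f.stalkMap x).hom.Flat → Dual3.IsGorensteinAt f x ∧ Dual3.IsGorensteinAt g (f x)) := by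
  have hcomp : (f ≫ g).stalkMap x = g.stalkMap (f x) ≫ f.stalkMap x := Scheme.Hom.stalkMap_comp f g x
  letI algAB : Algebra (Z.presheaf.stalk ((f ≫ g) x)) (Y.presheaf.stalk (f x)) :=
    (g.stalkMap (f x)).hom.toAlgebra
  letI algBC : Algebra (Y.presheaf.stalk (f x)) (X.presheaf.stalk x) := (f.stalkMap x).hom.toAlgebra
  letI algAC : Algebra (Z.presheaf.stalk ((f ≫ g) x)) (X.presheaf.stalk x) :=
    ((f ≫ g).stalkMap x).hom.toAlgebra
  haveI : IsScalarTower (Z.presheaf.stalk ((f ≫ g) x)) (Y.presheaf.stalk (f x))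
      (X.presheaf.stalk x) :=
    IsScalarTower.of_algebraMap_eq' congr($(hcomp).hom)
  haveI : IsLocalHom (algebraMap (Z.presheaf.stalk ((f ≫ g) x)) (Y.presheaf.stalk (f x))) :=
    inferInstanceAs (IsLocalHom (g.stalkMap (f x)).hom)
  haveI : IsLocalHom (algebraMap (Y.presheaf.stalk (f x)) (X.presheaf.stalk x)) :=
    inferInstanceAs (IsLocalHom (f.stalkMap x).hom)
  obtain ⟨ef⟩ := Groth.Agent.Lib.helper17.FibreStalk.nonempty_asFiber_stalk_equiv f x
  obtain ⟨eg⟩ := Groth.Agent.Lib.helper17.FibreStalk.nonempty_asFiber_stalk_equiv g (f x)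
  obtain ⟨efg⟩ := Groth.Agent.Lib.helper17.FibreStalk.nonempty_asFiber_stalk_equiv (f ≫ g) x
  constructor
  · rintro ⟨hf1, hf2⟩ ⟨hg1, hg2⟩
    haveI : Module.Flat (Y.presheaf.stalk (f x)) (X.presheaf.stalk x) := hf1
    have hC : LocCoh.IsGorensteinLocalRing (X.presheaf.stalk x ⧸
        (IsLocalRing.maximalIdeal (Y.presheaf.stalk (f x))).map
          (algebraMap (Y.presheaf.stalk (f x)) (X.presheaf.stalk x))) :=
      Groth.Agent.Lib.helper17.GorIso.isGorensteinLocalRing_of_ringEquiv ef hf2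
    have hB : LocCoh.IsGorensteinLocalRing (Y.presheaf.stalk (f x) ⧸
        (IsLocalRing.maximalIdeal (Z.presheaf.stalk ((f ≫ g) x))).map
          (algebraMap (Z.presheaf.stalk ((f ≫ g) x)) (Y.presheaf.stalk (f x)))) :=
      Groth.Agent.Lib.helper17.GorIso.isGorensteinLocalRing_of_ringEquiv eg hg2
    haveI hN2 : IsLocallyNoetherian ((f ≫ g).fiber ((f ≫ g) x)) := hfibfg _
    have hNst : IsNoetherianRing (((f ≫ g).fiber ((f ≫ g) x)).presheaf.stalk ((f ≫ g).asFiber x)) :=
      inferInstance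
    have hN' : IsNoetherianRing (X.presheaf.stalk x ⧸
        (IsLocalRing.maximalIdeal (Z.presheaf.stalk ((f ≫ g) x))).map
          (algebraMap (Z.presheaf.stalk ((f ≫ g) x)) (X.presheaf.stalk x))) :=
      isNoetherianRing_of_ringEquiv _ efg.symm
    have hAC := Groth.Agent.Lib.helper17.GorComp.gor_fibre_comp (Z.presheaf.stalk ((f ≫ g) x))
      (Y.presheaf.stalk (f x)) (X.presheaf.stalk x) hB hC hN'
    refine ⟨?_, Groth.Agent.Lib.helper17.GorIso.isGorensteinLocalRing_of_ringEquiv efg.symm hAC⟩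
    rw [hcomp]
    exact RingHom.Flat.comp hg1 hf1
  · rintro ⟨h1, h2⟩ hfl
    haveI : Module.Flat (Y.presheaf.stalk (f x)) (X.presheaf.stalk x) := hfl
    haveI : Module.Flat (Z.presheaf.stalk ((f ≫ g) x)) (X.presheaf.stalk x) := h1
    haveI : Module.FaithfullyFlat (Y.presheaf.stalk (f x)) (X.presheaf.stalk x) :=
      Module.FaithfullyFlat.of_flat_of_isLocalHom
    have hflAB : Module.Flat (Z.presheaf.stalk ((f ≫ g) x)) (Y.presheaf.stalk (f x)) :=
      Groth.Agent.Lib.helper17.CMComp.flat_of_comp_of_faithfullyFlat _ _ (X.presheaf.stalk x)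
    have hAC : LocCoh.IsGorensteinLocalRing (X.presheaf.stalk x ⧸
        (IsLocalRing.maximalIdeal (Z.presheaf.stalk ((f ≫ g) x))).map
          (algebraMap (Z.presheaf.stalk ((f ≫ g) x)) (X.presheaf.stalk x))) :=
      Groth.Agent.Lib.helper17.GorIso.isGorensteinLocalRing_of_ringEquiv efg h2
    haveI hNg : IsLocallyNoetherian (g.fiber (g (f x))) := hfibg _
    have hNst : IsNoetherianRing ((g.fiber (g (f x))).presheaf.stalk (g.asFiber (f x))) :=
      inferInstance
    have hN' : IsNoetherianRing (Y.presheaf.stalk (f x) ⧸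
        (IsLocalRing.maximalIdeal (Z.presheaf.stalk ((f ≫ g) x))).map
          (algebraMap (Z.presheaf.stalk ((f ≫ g) x)) (Y.presheaf.stalk (f x)))) :=
      isNoetherianRing_of_ringEquiv _ eg.symm
    obtain ⟨hB, hC⟩ := Groth.Agent.Lib.helper17.GorComp.gor_fibre_of_comp
      (Z.presheaf.stalk ((f ≫ g) x)) (Y.presheaf.stalk (f x)) (X.presheaf.stalk x) hAC hN'
    exact ⟨⟨hfl, Groth.Agent.Lib.helper17.GorIso.isGorensteinLocalRing_of_ringEquiv ef.symm hC⟩,
      ⟨hflAB, Groth.Agent.Lib.helper17.GorIso.isGorensteinLocalRing_of_ringEquiv eg.symm hB⟩⟩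

end Groth.Agent.S3627
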