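import Groth.Statements.S3653


set_option autoImplicit false
universe u
open CategoryTheory CategoryTheory.Limits AlgebraicGeometry
attribute [local instance] HasDerivedCategory.standard
open Dual3

namespace Groth.Agent.S3653


section generic
universe v₁ v₂ v₃ v₄ u₁ u₂ u₃ u₄
variable {A : Type u₁} [Category.{v₁} A] {B : Type u₂} [Category.{v₂} B]
  {A' : Type u₃} [Category.{v₃} A'] {B' : Type u₄} [Category.{v₄} B']
  {F : A ⥤ B} {F' : A' ⥤ B'} {G : B' ⥤ B} {G' : A' ⥤ A}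
  {a : B ⥤ A} {a' : B' ⥤ A'} {L : B ⥤ B'} {L' : A ⥤ A'}

/-- generic xi -/
noncomputable def gxi (adj : F ⊣ a) (adj' : F' ⊣ a') (e : G' ⋙ F ≅ F' ⋙ G) (M : B') :
    G'.obj (a'.obj M) ⟶ a.obj (G.obj M) :=
  (adj.homEquiv _ _) (e.hom.app (a'.obj M) ≫ G.map (adj'.counit.app M))

theorem unit_nat (adjg' : L' ⊣ G') {P Q : A} (φ : P ⟶ Q) :
    adjg'.unit.app P ≫ G'.map (L'.map φ) = φ ≫ adjg'.unit.app Q :=
  (adjg'.unit.naturality φ).symm

theorem generic_trace (adj : F ⊣ a) (adj' : F' ⊣ a') (e : G' ⋙ F ≅ F' ⋙ G)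
    (adjg : L ⊣ G) (adjg' : L' ⊣ G') (K : B) [IsIso (gxi adj adj' e (L.obj K))] :
    (adjg.homEquiv _ _).symm (F.map (adjg'.unit.app (a.obj K)) ≫ e.hom.app (L'.obj (a.obj K))) ≫
      F'.map (L'.map (a.map (adjg.unit.app K)) ≫ L'.map (inv (gxi adj adj' e (L.obj K))) ≫
        adjg'.counit.app (a'.obj (L.obj K))) ≫ adj'.counit.app (L.obj K) =
      L.map (adj.counit.app K) := by
  apply (adjg.homEquiv _ _).injective
  rw [Adjunction.homEquiv_naturality_right, Equiv.apply_symm_apply]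
  have h1 : adjg'.unit.app (a.obj K) ≫ G'.map (L'.map (a.map (adjg.unit.app K)) ≫
      L'.map (inv (gxi adj adj' e (L.obj K))) ≫ adjg'.counit.app (a'.obj (L.obj K))) =
      a.map (adjg.unit.app K) ≫ inv (gxi adj adj' e (L.obj K)) := by
    simp only [Functor.map_comp]
    rw [← Category.assoc, unit_nat, Category.assoc, ← Category.assoc (adjg'.unit.app _), unit_nat,
      Category.assoc]
    simp
  have h2 : e.hom.app (a'.obj (L.obj K)) ≫ G.map (adj'.counit.app (L.obj K)) =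
      F.map (gxi adj adj' e (L.obj K)) ≫ adj.counit.app (G.obj (L.obj K)) := by
    simp [gxi, Adjunction.homEquiv_unit]
  have h3 : e.hom.app (L'.obj (a.obj K)) ≫ G.map (F'.map (L'.map (a.map (adjg.unit.app K)) ≫
      L'.map (inv (gxi adj adj' e (L.obj K))) ≫ adjg'.counit.app (a'.obj (L.obj K)))) =
      F.map (G'.map (L'.map (a.map (adjg.unit.app K)) ≫
      L'.map (inv (gxi adj adj' e (L.obj K))) ≫ adjg'.counit.app (a'.obj (L.obj K)))) ≫
      e.hom.app (a'.obj (L.obj K)) :=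
    (e.hom.naturality _).symm
  rw [Functor.map_comp, Category.assoc, ← Category.assoc (e.hom.app _), h3, Category.assoc, h2,
    ← Category.assoc, ← Category.assoc, ← Functor.map_comp, ← Functor.map_comp, h1]
  simp [Adjunction.homEquiv_unit]

end generic

theorem result' (X Y X' Y' : Scheme.{u}) [CompactSpace X] [QuasiSeparatedSpace X] [CompactSpace Y] [QuasiSeparatedSpace Y] [CompactSpace X'] [QuasiSeparatedSpace X'] [CompactSpace Y'] [QuasiSeparatedSpace Y'] (f : X ⟶ Y) (g : Y' ⟶ Y) (f' : X' ⟶ Y') (g' : X' ⟶ X) (hsq : IsPullback g' f' f g) (hflat : Flat f ∨ Flat g) [DCoh.HasRpush f] [DCoh.HasRpush f'] [DCoh.HasRpush g] [DCoh.HasRpush g'] (hf : DCoh.RpushPreservesQCoh f) (hf' : DCoh.RpushPreservesQCoh f') (hg : DCoh.RpushPreservesQCoh g) (hg' : DCoh.RpushPreservesQCoh g') (a : DCoh.DQCoh Y ⥤ DCoh.DQCoh X) (a' : DCoh.DQCoh Y' ⥤ DCoh.DQCoh X') (adj : DCoh.RpushQ f hf ⊣ a) (adj' : DCoh.RpushQ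 f' hf' ⊣ a') [DCoh.HasLpull g] [DCoh.HasLpull g'] (hLg : Dual3.LpullPreservesQCoh g) (hLg' : Dual3.LpullPreservesQCoh g') (adjg : Dual3.LpullQ g hLg ⊣ DCoh.RpushQ g hg) (adjg' : Dual3.LpullQ g' hLg' ⊣ DCoh.RpushQ g' hg') (e : (DCoh.RpushQ g' hg' ⋙ DCoh.RpushQ f hf ≅ DCoh.RpushQ f' hf' ⋙ DCoh.RpushQ g hg)) (hξ : ∀ M : DCoh.DQCoh Y', IsIso (Dual3.xi adj adj' e M)) (K : DCoh.DQCoh Y) : Dual3.bcPush e adjg adjg' (a.obj K) ≫ (DCoh.RpushQ f' hf').map (Dual3.bcMap adj adj' e adjg adjg' K (hξ _)) ≫ adj'.counit.app ((Dual3.LpullQ g hLg).obj K) = (Dual3.LpullQ g hLg).map (adj.counit.app K) := by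
  haveI : IsIso (gxi adj adj' e ((Dual3.LpullQ g hLg).obj K)) := hξ _
  exact generic_trace adj adj' e adjg adjg' K



/-- Consider a cartesian square X' = Y' ×_Y X of quasi-compact quasi-separated schemes with f or g flat
(a Tor independent square), derived direct images and derived pullbacks on D_QCoh with adjunctions
Lg^* ⊣ Rg_*, Lg'^* ⊣ Rg'_*, right adjoints a of Rf_* and a' of Rf'_*, and an identification e : Rf_*
∘ Rg'_* ≅ Rg_* ∘ Rf'_* for which ξ : Rg'_* a' → a Rg_* is an isomorphism. Let β : Lg^* Rf_* → Rf'_*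
Lg'^* and α : Lg'^* a → a' Lg^* be the base change maps built from these data and Tr_f : Rf_* a →
id, Tr_{f'} : Rf'_* a' → id the counits. Then for every K in D_QCoh(O_Y): β_{a(K)} followed by
Rf'_*(α_K) followed by Tr_{f'} at Lg^*K equals Lg^*(Tr_{f,K}). -/
theorem result (X Y X' Y' : Scheme.{u}) [CompactSpace X] [QuasiSeparatedSpace X] [CompactSpace Y] [QuasiSeparatedSpace Y] [CompactSpace X'] [QuasiSeparatedSpace X'] [CompactSpace Y'] [QuasiSeparatedSpace Y'] (f : X ⟶ Y) (g : Y' ⟶ Y) (f' : X' ⟶ Y') (g' : X' ⟶ X) (hsq : IsPullback g' f' f g) (hflat : Flat f ∨ Flat g) [DCoh.HasRpush f] [DCoh.HasRpush f'] [DCoh.HasRpush g] [DCoh.HasRpush g'] (hf : DCoh.RpushPreservesQCoh f) (hf' : DCoh.RpushPreservesQCoh f') (hg : DCoh.RpushPreservesQCoh g) (hg' : DCoh.RpushPreservesQCoh g') (a : DCoh.DQCoh Y ⥤ DCoh.DQCoh X) (a' : DCoh.DQCoh Y' ⥤ DCoh.DQCoh X') (adj : DCoh.RpushQ f hf ⊣ a) (adj' : DCoh.RpushQ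 f' hf' ⊣ a') [DCoh.HasLpull g] [DCoh.HasLpull g'] (hLg : Dual3.LpullPreservesQCoh g) (hLg' : Dual3.LpullPreservesQCoh g') (adjg : Dual3.LpullQ g hLg ⊣ DCoh.RpushQ g hg) (adjg' : Dual3.LpullQ g' hLg' ⊣ DCoh.RpushQ g' hg') (e : (DCoh.RpushQ g' hg' ⋙ DCoh.RpushQ f hf ≅ DCoh.RpushQ f' hf' ⋙ DCoh.RpushQ g hg)) (hξ : ∀ M : DCoh.DQCoh Y', IsIso (Dual3.xi adj adj' e M)) (K : DCoh.DQCoh Y) : Dual3.bcPush e adjg adjg' (a.obj K) ≫ (DCoh.RpushQ f' hf').map (Dual3.bcMap adj adj' e adjg adjg' K (hξ _)) ≫ adj'.counit.app ((Dual3.LpullQ g hLg).obj K) = (Dual3.LpullQ g hLg).map (adj.counit.app K) := by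
  exact result' X Y X' Y' f g f' g' hsq hflat hf hf' hg hg' a a' adj adj' hLg hLg' adjg adjg' e hξ K

end Groth.Agent.S3653
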