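import Groth.Statements.S3654


set_option autoImplicit false
universe u
open CategoryTheory CategoryTheory.Limits AlgebraicGeometry
attribute [local instance] HasDerivedCategory.standard
open Dual3

namespace Groth.Agent.S3654


section generic
universe v₁ v₂ v₃ v₄ u₁ u₂ u₃ u₄
variable {A : Type u₁} [Category.{v₁} A] {B : Type u₂} [Category.{v₂} B]
  {A' : Type u₃} [Category.{v₃} A'] {B' : Type u₄} [Category.{v₄} B']
  {F : A ⥤ B} {F' : A' ⥤ B'} {G : B' ⥤ B} {G' : A' ⥤ A}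
  {a : B ⥤ A} {a' : B' ⥤ A'} {L : B ⥤ B'} {L' : A ⥤ A'}

/-- generic xi -/
noncomputable def gxi (adj : F ⊣ a) (adj' : F' ⊣ a') (e : G' ⋙ F ≅ F' ⋙ G) (M : B') :
    G'.obj (a'.obj M) ⟶ a.obj (G.obj M) :=
  (adj.homEquiv _ _) (e.hom.app (a'.obj M) ≫ G.map (adj'.counit.app M))

theorem unit_nat (adjg' : L' ⊣ G') {P Q : A} (φ : P ⟶ Q) :
    adjg'.unit.app P ≫ G'.map (L'.map φ) = φ ≫ adjg'.unit.app Q :=
  (adjg'.unit.naturality φ).symm

theorem e_nat (e : G' ⋙ F ≅ F' ⋙ G) {P Q : A'} (φ : P ⟶ Q) :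
    F.map (G'.map φ) ≫ e.hom.app Q = e.hom.app P ≫ G.map (F'.map φ) :=
  e.hom.naturality φ

theorem gxi_nat (adj : F ⊣ a) (adj' : F' ⊣ a') (e : G' ⋙ F ≅ F' ⋙ G) {M N : B'} (φ : M ⟶ N) :
    G'.map (a'.map φ) ≫ gxi adj adj' e N = gxi adj adj' e M ≫ a.map (G.map φ) := by
  simp only [gxi, Adjunction.homEquiv_unit, Functor.map_comp, Category.assoc]
  rw [← Category.assoc, ← unit_nat adj, Category.assoc]
  congr 1
  simp only [← Functor.map_comp]
  congr 1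
  rw [← Category.assoc, e_nat, Category.assoc, ← Functor.map_comp]
  congr 2
  exact adj'.counit.naturality φ

theorem gxi_unit (adj : F ⊣ a) (adj' : F' ⊣ a') (e : G' ⋙ F ≅ F' ⋙ G) (N : A') :
    G'.map (adj'.unit.app N) ≫ gxi adj adj' e (F'.obj N) = adj.unit.app (G'.obj N) ≫ a.map (e.hom.app N) := by
  simp only [gxi, Adjunction.homEquiv_unit, Functor.map_comp, Category.assoc]
  have h := unit_nat adj (G'.map (adj'.unit.app N))
  dsimp only [Functor.comp_obj, Functor.id_obj] at h ⊢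
  rw [← Category.assoc, ← h, Category.assoc]
  congr 1
  simp only [← Functor.map_comp]
  congr 1
  have h' := e_nat e (adj'.unit.app N)
  dsimp only [Functor.comp_obj, Functor.id_obj] at h' ⊢
  rw [← Category.assoc, h', Category.assoc, ← Functor.map_comp]
  simp

theorem generic_unit (adj : F ⊣ a) (adj' : F' ⊣ a') (e : G' ⋙ F ≅ F' ⋙ G)
    (adjg : L ⊣ G) (adjg' : L' ⊣ G') (M : A) [IsIso (gxi adj adj' e (L.obj (F.obj M)))]
    [IsIso (gxi adj adj' e (F'.obj (L'.obj M)))]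
    (β : L.obj (F.obj M) ⟶ F'.obj (L'.obj M))
    (hβ : adjg.unit.app (F.obj M) ≫ G.map β = F.map (adjg'.unit.app M) ≫ e.hom.app (L'.obj M)) :
    adj'.unit.app (L'.obj M) = L'.map (adj.unit.app M) ≫
      (L'.map (a.map (adjg.unit.app (F.obj M))) ≫ L'.map (inv (gxi adj adj' e (L.obj (F.obj M)))) ≫
        adjg'.counit.app (a'.obj (L.obj (F.obj M)))) ≫
      a'.map β := by
  apply (adjg'.homEquiv _ _).injective
  simp only [Adjunction.homEquiv_unit, Functor.map_comp, Category.assoc]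
  rw [← Category.assoc (adjg'.unit.app M), unit_nat, Category.assoc,
    ← Category.assoc (adjg'.unit.app _), unit_nat, Category.assoc,
    ← Category.assoc (adjg'.unit.app _), unit_nat, Category.assoc,
    ← Category.assoc (adjg'.unit.app _)]
  have h0 : adjg'.unit.app (G'.obj (a'.obj (L.obj (F.obj M)))) ≫
      G'.map (adjg'.counit.app (a'.obj (L.obj (F.obj M)))) = 𝟙 _ := by simp
  rw [h0, Category.id_comp]
  have h1 : inv (gxi adj adj' e (L.obj (F.obj M))) ≫ G'.map (a'.map β) =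
      a.map (G.map β) ≫ inv (gxi adj adj' e (F'.obj (L'.obj M))) := by
    rw [IsIso.inv_comp_eq, ← Category.assoc, IsIso.eq_comp_inv]
    exact gxi_nat adj adj' e _
  rw [h1, ← Category.assoc (a.map _), ← Functor.map_comp]
  rw [hβ, Functor.map_comp, Category.assoc, ← Category.assoc (adj.unit.app M)]
  have h3 : adj.unit.app M ≫ a.map (F.map (adjg'.unit.app M)) =
      adjg'.unit.app M ≫ adj.unit.app _ := (adj.unit.naturality _).symm
  rw [h3, Category.assoc]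
  congr 1
  rw [← Category.assoc, IsIso.eq_comp_inv]
  exact gxi_unit adj adj' e _

end generic

theorem result' (X Y X' Y' : Scheme.{u}) [CompactSpace X] [QuasiSeparatedSpace X] [CompactSpace Y] [QuasiSeparatedSpace Y] [CompactSpace X'] [QuasiSeparatedSpace X'] [CompactSpace Y'] [QuasiSeparatedSpace Y'] (f : X ⟶ Y) (g : Y' ⟶ Y) (f' : X' ⟶ Y') (g' : X' ⟶ X) (hsq : IsPullback g' f' f g) (hflat : Flat f ∨ Flat g) [DCoh.HasRpush f] [DCoh.HasRpush f'] [DCoh.HasRpush g] [DCoh.HasRpush g'] (hf : DCoh.RpushPreservesQCoh f) (hf' : DCoh.RpushPreservesQCoh f') (hg : DCoh.RpushPreservesQCoh g) (hg' : DCoh.RpushPreservesQCoh g') (a : DCoh.DQCoh Y ⥤ DCoh.DQCoh X) (a' : DCoh.DQCoh Y' ⥤ DCoh.DQCoh X') (adj : DCoh.RpushQ f hf ⊣ a) (adj' : DCoh.RpushQ f' hf' ⊣ a') [DCoh.HasLpull g] [DCoh.HasLpull g'] (hLg : Dual3.LpullPreservesQCoh g) (hLg' : Dual3.LpullPreservesQCoh g') (adjg : Dual3.LpullQ g hLg ⊣ DCoh.RpushQ g hg) (adjg'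 : Dual3.LpullQ g' hLg' ⊣ DCoh.RpushQ g' hg') (e : (DCoh.RpushQ g' hg' ⋙ DCoh.RpushQ f hf ≅ DCoh.RpushQ f' hf' ⋙ DCoh.RpushQ g hg)) (hξ : ∀ M : DCoh.DQCoh Y', IsIso (Dual3.xi adj adj' e M)) (M : DCoh.DQCoh X) : adj'.unit.app ((Dual3.LpullQ g' hLg').obj M) = (Dual3.LpullQ g' hLg').map (adj.unit.app M) ≫ Dual3.bcMap adj adj' e adjg adjg' ((DCoh.RpushQ f hf).obj M) (hξ _) ≫ a'.map (Dual3.bcPush e adjg adjg' M) := by
  haveI : IsIso (gxi adj adj' e ((Dual3.LpullQ g hLg).obj ((DCoh.RpushQ f hf).obj M))) := hξ _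
  haveI : IsIso (gxi adj adj' e ((DCoh.RpushQ f' hf').obj ((Dual3.LpullQ g' hLg').obj M))) := hξ _
  exact generic_unit adj adj' e adjg adjg' M (Dual3.bcPush e adjg adjg' M)
    ((adjg.homEquiv_unit _ _ _).symm.trans (Equiv.apply_symm_apply _ _))



/-- Let X, Y, X', Y' be quasi-compact quasi-separated schemes and f : X → Y, g : Y' → Y, f' : X' → Y',
g' : X' → X morphisms forming a cartesian square (X' = Y' ×_Y X), with f flat or g flat. Assume the
derived pushforwards Rf_*, Rf'_*, Rg_*, Rg'_* exist and preserve D_QCoh, that Lg^* and Lg'^*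
preserve D_QCoh and are left adjoint to Rg_* and Rg'_* on D_QCoh, let a : D_QCoh(O_Y) → D_QCoh(O_X)
and a' : D_QCoh(O_{Y'}) → D_QCoh(O_{X'}) be right adjoints of Rf_* and Rf'_*, fix an isomorphism
Rf_* ∘ Rg'_* ≅ Rg_* ∘ Rf'_*, and assume the comparison maps ξ_N built from these data are
isomorphisms for all N in D_QCoh(O_{Y'}), so that the base change map α : Lg'^* ∘ a → a' ∘ Lg^* is
defined; let β_M : Lg^* Rf_* M → Rf'_* Lg'^* M denote the base change map for pushforward. Let η_f :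
id → a Rf_* and η_{f'} : id → a' Rf'_* be the units. Then for every M in D_QCoh(O_X): η_{f'} at
Lg'^*M equals Lg'^*(η_{f,M}) followed by the base change map α at Rf_*M followed by a'(β_M). -/
theorem result (X Y X' Y' : Scheme.{u}) [CompactSpace X] [QuasiSeparatedSpace X] [CompactSpace Y] [QuasiSeparatedSpace Y] [CompactSpace X'] [QuasiSeparatedSpace X'] [CompactSpace Y'] [QuasiSeparatedSpace Y'] (f : X ⟶ Y) (g : Y' ⟶ Y) (f' : X' ⟶ Y') (g' : X' ⟶ X) (hsq : IsPullback g' f' f g) (hflat : Flat f ∨ Flat g) [DCoh.HasRpush f] [DCoh.HasRpush f'] [DCoh.HasRpush g] [DCoh.HasRpush g'] (hf : DCoh.RpushPreservesQCoh f) (hf' : DCoh.RpushPreservesQCoh f') (hg : DCoh.RpushPreservesQCoh g) (hg' : DCoh.RpushPreservesQCoh g') (a : DCoh.DQCoh Y ⥤ DCoh.DQCoh X) (a' : DCoh.DQCoh Y' ⥤ DCoh.DQCoh X') (adj : DCoh.RpushQ f hf ⊣ a) (adj' : DCoh.RpushQ f' hf' ⊣ a') [DCoh.HasLpull g] [DCoh.HasLpull g'] (hLg : Dual3.LpullPreservesQCoh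 g) (hLg' : Dual3.LpullPreservesQCoh g') (adjg : Dual3.LpullQ g hLg ⊣ DCoh.RpushQ g hg) (adjg' : Dual3.LpullQ g' hLg' ⊣ DCoh.RpushQ g' hg') (e : (DCoh.RpushQ g' hg' ⋙ DCoh.RpushQ f hf ≅ DCoh.RpushQ f' hf' ⋙ DCoh.RpushQ g hg)) (hξ : ∀ M : DCoh.DQCoh Y', IsIso (Dual3.xi adj adj' e M)) (M : DCoh.DQCoh X) : adj'.unit.app ((Dual3.LpullQ g' hLg').obj M) = (Dual3.LpullQ g' hLg').map (adj.unit.app M) ≫ Dual3.bcMap adj adj' e adjg adjg' ((DCoh.RpushQ f hf).obj M) (hξ _) ≫ a'.map (Dual3.bcPush e adjg adjg' M) := by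
  exact result' X Y X' Y' f g f' g' hsq hflat hf hf' hg hg' a a' adj adj' hLg hLg' adjg adjg' e hξ M

end Groth.Agent.S3654
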