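import Groth.Statements.S3682
import Groth.Agent.Lib.Helper3.GeomSep

set_option autoImplicit false
universe u
open Pi1

namespace Groth.Agent.S3682

open AlgebraicGeometry CategoryTheory CategoryTheory.Limits in
/-- The part saying that the homomorphism from the fundamental group of X x_k Y to the product of the
fundamental groups is surjective, in terms of covers. Let k be algebraically closed, X proper and
connected over k, Y locally Noetherian and connected over k. If X' is a connected finite etale cover
of X and Y' a connected finite etale cover of Y, then the product of X' and Y' over k is connected. -/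
theorem result (k : Type u) [Field k] [IsAlgClosed k] {X Y : Scheme.{u}}
    (pX : X ⟶ Spec (CommRingCat.of k)) (pY : Y ⟶ Spec (CommRingCat.of k)) [IsProper pX] [ConnectedSpace X]
    [IsLocallyNoetherian Y] [ConnectedSpace Y]
    (X' : FEt.Cat X) [ConnectedSpace X'.left] (Y' : FEt.Cat Y) [ConnectedSpace Y'.left] :
    ConnectedSpace ↥(pullback (X'.hom ≫ pX) (Y'.hom ≫ pY)) := by
  have hfin : IsFinite X'.hom := X'.prop.1
  have het : Etale X'.hom := X'.prop.2
  haveI : IsProper (X'.hom ≫ pX) := inferInstance
  haveI : Flat (X'.hom ≫ pX) := inferInstance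
  haveI : LocallyOfFinitePresentation (X'.hom ≫ pX) :=
    LocallyOfFinitePresentation.iff_locallyOfFiniteType.mpr inferInstance
  haveI : UniversallyOpen (X'.hom ≫ pX) := inferInstance
  haveI : GeometricallyConnected (X'.hom ≫ pX) := by
    apply Groth.Agent.Lib.helper3.GeomSep.geometricallyConnected_of_connectedSpace_sepClosed
      (X'.hom ≫ pX) k
    have hid : Spec.map (CommRingCat.ofHom (algebraMap k k)) = 𝟙 _ := by
      rw [Algebra.algebraMap_self]
      exact Spec.map_id _
    rw [hid]
    have e : pullback (X'.hom ≫ pX) (𝟙 (Spec (CommRingCat.of k))) ≅ X'.left :=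
      asIso (pullback.fst (X'.hom ≫ pX) (𝟙 _))
    exact (e.hom.homeomorph).connectedSpace_iff.mpr inferInstance
  haveI : ConnectedSpace ↥((𝟭 Scheme).obj Y'.left) := ‹ConnectedSpace Y'.left›
  exact GeometricallyConnected.connectedSpace (pullback.snd (X'.hom ≫ pX) (Y'.hom ≫ pY))
    (pullback.snd (X'.hom ≫ pX) (Y'.hom ≫ pY)).isOpenMap

end Groth.Agent.S3682
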