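import Groth.Statements.S3700
import Mathlib
import Groth.Agent.Lib.Helper17.SmoothRegSch
import Groth.Agent.Lib.Helper17.SmoothRegSch2

set_option autoImplicit false
universe u
open SGA1

namespace Groth.Agent.S3700

open AlgebraicGeometry CategoryTheory CategoryTheory.Limits in
/-- Let S be locally Noetherian, f : X -> S locally of finite type, Y the closed subscheme of X defined
by a quasi-coherent ideal, and x a point of Y at which Y is smooth over S. Then X is smooth over S
at x if and only if the closed immersion of Y in X is regular at x, that is, the kernel of O_{X,x}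
-> O_{Y,x} is generated by a regular sequence. (Smoothness at a point is membership in Mathlib's
smooth locus, the set of points where the map of local rings is formally smooth.) -/
theorem result {X S : Scheme.{u}} [IsLocallyNoetherian S] (f : X ⟶ S)
    [LocallyOfFiniteType f] [LocallyOfFinitePresentation f] (I : X.IdealSheafData)
    [LocallyOfFinitePresentation (I.subschemeι ≫ f)] (x : ↥I.subscheme) (hY : x ∈ (I.subschemeι ≫ f).smoothLocus) :
    I.subschemeι.base x ∈ f.smoothLocus ↔ CInt.IsRegularIdeal (RingHom.ker (I.subschemeι.stalkMap x).hom) := by
  constructor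
  · intro hx
    obtain ⟨rs, hrs, h⟩ :=
      Groth.Agent.Lib.helper17.SmoothRegSch2.exists_isRegular_ker_stalkMap f I.subschemeι x hY hx
    exact ⟨rs, hrs, h⟩
  · rintro ⟨rs, hrs, h⟩
    exact Groth.Agent.Lib.helper17.SmoothRegSch.mem_smoothLocus_of_regular_stalk f I.subschemeι x hY
      rs hrs.1 h.symm

end Groth.Agent.S3700
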