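import Groth.Statements.S3707
import Mathlib
-- import your own Groth.Agent.* helpers here

set_option autoImplicit false
universe u
open SGA1

namespace Groth.Agent.S3707

open AlgebraicGeometry CategoryTheory CategoryTheory.Limits in
/-- Let g : S' -> S be a surjective morphism of schemes, X and Y schemes over S with Y unramified over S
(formally unramified and locally of finite type), and X', Y' their base changes to S'. Then the map
sending an S-morphism X -> Y to the induced S'-morphism X' -> Y' is injective. -/
theorem result {S S' X Y : Scheme.{u}} (g : S' ⟶ S) [Surjective g]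
    (p : X ⟶ S) (q : Y ⟶ S) [FormallyUnramified q] [LocallyOfFiniteType q]
    (u v : X ⟶ Y) (hu : p ≫ 𝟙 S = u ≫ q) (hv : p ≫ 𝟙 S = v ≫ q)
    (h : pullback.map p g q g u (𝟙 S') (𝟙 S) hu ((Category.comp_id _).trans (Category.id_comp _).symm) =
      pullback.map p g q g v (𝟙 S') (𝟙 S) hv ((Category.comp_id _).trans (Category.id_comp _).symm)) :
    u = v := by
  have huv : u ≫ q = v ≫ q := by rw [← hu, ← hv]
  -- the pair `(u, v)`
  let d : X ⟶ pullback q q := pullback.lift u v huv
  -- the equalizer as an open subscheme
  let E := pullback d (pullback.diagonal q)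
  let ι : E ⟶ X := pullback.fst d (pullback.diagonal q)
  have hιimm : IsOpenImmersion ι := by
    change IsOpenImmersion (pullback.fst d (pullback.diagonal q))
    infer_instance
  -- base change identities
  let a : pullback p g ⟶ X := pullback.fst p g
  have hasurj : Surjective a := by
    change Surjective (pullback.fst p g)
    infer_instance
  have hau : a ≫ u = a ≫ v := by
    have h1 : pullback.map p g q g u (𝟙 S') (𝟙 S) hu
        ((Category.comp_id _).trans (Category.id_comp _).symm) ≫ pullback.fst q g = a ≫ u :=
      pullback.lift_fst _ _ _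
    have h2 : pullback.map p g q g v (𝟙 S') (𝟙 S) hv
        ((Category.comp_id _).trans (Category.id_comp _).symm) ≫ pullback.fst q g = a ≫ v :=
      pullback.lift_fst _ _ _
    rw [← h1, ← h2, h]
  have hd1 : d ≫ pullback.fst q q = u := pullback.lift_fst _ _ _
  have hd2 : d ≫ pullback.snd q q = v := pullback.lift_snd _ _ _
  have had : a ≫ d = (a ≫ u) ≫ pullback.diagonal q := by
    apply pullback.hom_ext
    · rw [Category.assoc, hd1, Category.assoc, pullback.diagonal_fst, Category.comp_id]
    · rw [Category.assoc, hd2, Category.assoc, pullback.diagonal_snd, Category.comp_id, hau]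
  have hιsurj : Surjective ι := by
    refine ⟨fun x => ?_⟩
    obtain ⟨x', rfl⟩ := hasurj.surj x
    have hpt : d (a x') = pullback.diagonal q (u (a x')) := by
      have := congrArg (fun φ : pullback p g ⟶ pullback q q => φ x') had
      simpa using this
    obtain ⟨z, hz1, -⟩ := Scheme.Pullback.exists_preimage_pullback (f := d)
      (g := pullback.diagonal q) (a x') (u (a x')) hpt
    exact ⟨z, hz1⟩
  have hιiso : IsIso ι := (isIso_iff_isOpenImmersion_and_surjective ι).mpr ⟨hιimm, hιsurj⟩
  have hιu : ι ≫ u = ι ≫ v := by
    have h1 : ι ≫ d = pullback.snd d (pullback.diagonal q) ≫ pullback.diagonal q :=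
      pullback.condition
    have hu' : ι ≫ u = (ι ≫ d) ≫ pullback.fst q q := by rw [Category.assoc, hd1]
    have hv' : ι ≫ v = (ι ≫ d) ≫ pullback.snd q q := by rw [Category.assoc, hd2]
    rw [hu', hv', h1, Category.assoc, Category.assoc, pullback.diagonal_fst, pullback.diagonal_snd]
  exact (cancel_epi ι).mp hιu

end Groth.Agent.S3707
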