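import Groth.Statements.S3709
import Mathlib
import Groth.Agent.S3707
-- import your own Groth.Agent.* helpers here

set_option autoImplicit false
universe u
open SGA1

namespace Groth.Agent.S3709

open AlgebraicGeometry CategoryTheory Limits in
/-- Existence part, in a form with all auxiliary morphisms named. -/
lemma exists_descent {S S' X Y : Scheme.{u}} (g : S' ⟶ S) (hg : SGA1.UnivSubmersive g)
    (p : X ⟶ S) (q : Y ⟶ S) [Etale q]
    (f' : pullback p g ⟶ pullback q g) (hf' : f' ≫ pullback.snd q g = pullback.snd p g)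
    (hcoeq : ∀ {T : Scheme.{u}} (c₁ c₂ : T ⟶ pullback p g),
      c₁ ≫ pullback.fst p g = c₂ ≫ pullback.fst p g →
      c₁ ≫ f' ≫ pullback.fst q g = c₂ ≫ f' ≫ pullback.fst q g) :
    ∃ u : X ⟶ Y, u ≫ q = p ∧ f' ≫ pullback.fst q g = pullback.fst p g ≫ u := by
  haveI : (SGA1.UnivSubmersive : MorphismProperty Scheme.{u}).IsStableUnderBaseChange := by
    unfold SGA1.UnivSubmersive; infer_instance
  haveI : MorphismProperty.DescendsAlong @UniversallyInjective.{u} @Surjective.{u} := by
    rw [universallyInjective_eq_diagonal]; infer_instance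
  -- notation
  obtain ⟨π, hπ⟩ : ∃ π : pullback p g ⟶ X, π = pullback.fst p g := ⟨_, rfl⟩
  have hsubπ : SGA1.UnivSubmersive π := by
    rw [hπ]
    exact MorphismProperty.pullback_fst (P := SGA1.UnivSubmersive) p g hg
  have hπp : π ≫ p = pullback.snd p g ≫ g := by rw [hπ]; exact pullback.condition
  have hcoeq' : ∀ {T : Scheme.{u}} (c₁ c₂ : T ⟶ pullback p g), c₁ ≫ π = c₂ ≫ π →
      c₁ ≫ f' ≫ pullback.fst q g = c₂ ≫ f' ≫ pullback.fst q g := by
    intro T c₁ c₂ hc
    exact hcoeq c₁ c₂ (hπ ▸ hc)
  have hπf' : f' ≫ pullback.fst q g = f' ≫ pullback.fst q g := rfl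
  clear hcoeq
  -- the graph morphism
  have hh : (f' ≫ pullback.fst q g) ≫ q = π ≫ p := by
    rw [Category.assoc, pullback.condition, ← Category.assoc, hf', hπp]
  obtain ⟨h, hh1, hh2⟩ : ∃ h : pullback p g ⟶ pullback q p,
      h ≫ pullback.fst q p = f' ≫ pullback.fst q g ∧ h ≫ pullback.snd q p = π :=
    ⟨pullback.lift (f' ≫ pullback.fst q g) π hh, pullback.lift_fst _ _ _, pullback.lift_snd _ _ _⟩
  have hcoeqh : ∀ {T : Scheme.{u}} (c₁ c₂ : T ⟶ pullback p g), c₁ ≫ π = c₂ ≫ π →
      c₁ ≫ h = c₂ ≫ h := by
    intro T c₁ c₂ hc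
    apply pullback.hom_ext
    · rw [Category.assoc, Category.assoc, hh1]
      exact hcoeq' c₁ c₂ hc
    · rw [Category.assoc, Category.assoc, hh2]
      exact hc
  -- the base change of `P → X` to `X'`
  obtain ⟨prX, hprX⟩ : ∃ prX : pullback q p ⟶ X, prX = pullback.snd q p := ⟨_, rfl⟩
  haveI : Etale prX := by rw [hprX]; infer_instance
  rw [← hprX] at hh2
  obtain ⟨ρ, hρ⟩ : ∃ ρ : pullback prX π ⟶ pullback q p, ρ = pullback.fst prX π := ⟨_, rfl⟩
  obtain ⟨prX', hprX'⟩ : ∃ prX' : pullback prX π ⟶ pullback p g, prX' = pullback.snd prX π :=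
    ⟨_, rfl⟩
  haveI : Etale prX' := by rw [hprX']; infer_instance
  have hsq : ρ ≫ prX = prX' ≫ π := by rw [hρ, hprX']; exact pullback.condition
  have hsubρ : SGA1.UnivSubmersive ρ := by
    rw [hρ]
    exact MorphismProperty.pullback_fst (P := SGA1.UnivSubmersive) prX π hsubπ
  have hquot : Topology.IsQuotientMap ρ.base := MorphismProperty.universally_le _ _ hsubρ
  obtain ⟨γ, hγ1, hγ2⟩ : ∃ γ : pullback p g ⟶ pullback prX π, γ ≫ ρ = h ∧ γ ≫ prX' = 𝟙 _ := by
    refine ⟨pullback.lift h (𝟙 _) (by rw [hh2, Category.id_comp]), ?_, ?_⟩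
    · rw [hρ]; exact pullback.lift_fst _ _ _
    · rw [hprX']; exact pullback.lift_snd _ _ _
  have hext : ∀ {T : Scheme.{u}} (a b : T ⟶ pullback prX π), a ≫ ρ = b ≫ ρ →
      a ≫ prX' = b ≫ prX' → a = b := by
    intro T a b h1 h2
    rw [hρ] at h1
    rw [hprX'] at h2
    exact pullback.hom_ext h1 h2
  -- `γ` is an open immersion
  haveI : Etale (γ ≫ prX') := by rw [hγ2]; infer_instance
  haveI : Etale γ := Etale.of_comp γ prX'
  haveI : IsSplitMono γ := IsSplitMono.mk' ⟨prX', hγ2⟩
  haveI : Mono γ := inferInstance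
  haveI : IsOpenImmersion γ := IsOpenImmersion.of_flat_of_mono γ
  -- saturation
  have hsat : ρ.base ⁻¹' (Set.range h.base) = Set.range γ.base := by
    ext z
    constructor
    · rintro ⟨x₁, hx₁⟩
      obtain ⟨t, ht1, ht2⟩ := Scheme.Pullback.exists_preimage_pullback (f := ρ) (g := h) z x₁ hx₁.symm
      have hc : (pullback.fst ρ h ≫ prX') ≫ π = pullback.snd ρ h ≫ π := by
        rw [Category.assoc, ← hsq, ← Category.assoc, pullback.condition, Category.assoc, hh2]
      have hc' := hcoeqh _ _ hc
      have hfst : pullback.fst ρ h = (pullback.fst ρ h ≫ prX') ≫ γ := by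
        apply hext
        · rw [Category.assoc, hγ1, hc', pullback.condition]
        · rw [Category.assoc, hγ2, Category.comp_id]
      refine ⟨prX' z, ?_⟩
      rw [← ht1]
      conv_rhs => rw [hfst]
      rfl
    · rintro ⟨x', rfl⟩
      exact ⟨x', by rw [← Scheme.Hom.comp_apply, hγ1]⟩
  have hopen : IsOpen (Set.range h.base) := by
    rw [← hquot.isOpen_preimage, hsat]
    exact γ.isOpenEmbedding.isOpen_range
  -- the graph as an open subscheme
  let Γ : (pullback q p).Opens := ⟨Set.range h.base, hopen⟩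
  obtain ⟨e, he⟩ : ∃ e : Γ.toScheme ⟶ X, e = Γ.ι ≫ prX := ⟨_, rfl⟩
  haveI : Etale e := by rw [he]; infer_instance
  have hrange : Set.range h.base ⊆ Set.range Γ.ι.base := by
    rw [Scheme.Opens.range_ι]
    exact subset_rfl
  obtain ⟨h₀, hh₀⟩ : ∃ h₀ : pullback p g ⟶ Γ.toScheme, h₀ ≫ Γ.ι = h :=
    ⟨IsOpenImmersion.lift Γ.ι h hrange, IsOpenImmersion.lift_fac _ _ _⟩
  have hh₀e : h₀ ≫ e = π := by rw [he, ← Category.assoc, hh₀, hh2]
  -- `e` is surjective
  haveI : Surjective g := ⟨(MorphismProperty.universally_le _ _ hg : Topology.IsQuotientMap g.base).surjective⟩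
  haveI : Surjective π := by rw [hπ]; infer_instance
  haveI : Surjective (h₀ ≫ e) := by rw [hh₀e]; infer_instance
  haveI : Surjective e := Surjective.of_comp h₀ e
  -- `e` is universally injective
  haveI : UniversallyInjective e := by
    apply MorphismProperty.of_pullback_fst_of_descendsAlong (P := @UniversallyInjective)
      (Q := @Surjective) (f := π) (g := e) inferInstance
    have hjc : (pullback.snd π e ≫ Γ.ι) ≫ prX = pullback.fst π e ≫ π := by
      rw [Category.assoc, ← he, pullback.condition]
    obtain ⟨j, hj1, hj2⟩ : ∃ j : pullback π e ⟶ pullback prX π,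
        j ≫ ρ = pullback.snd π e ≫ Γ.ι ∧ j ≫ prX' = pullback.fst π e := by
      refine ⟨pullback.lift (pullback.snd π e ≫ Γ.ι) (pullback.fst π e) hjc, ?_, ?_⟩
      · rw [hρ]; exact pullback.lift_fst _ _ _
      · rw [hprX']; exact pullback.lift_snd _ _ _
    haveI : Mono j := by
      refine ⟨fun {T} t₁ t₂ ht ↦ ?_⟩
      apply pullback.hom_ext
      · rw [← hj2, ← Category.assoc, ht, Category.assoc]
      · rw [← cancel_mono Γ.ι, Category.assoc, Category.assoc, ← hj1, ← Category.assoc, ht,
          Category.assoc]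
    have hjr : Set.range j.base ⊆ Set.range γ.base := by
      rw [← hsat]
      rintro _ ⟨w, rfl⟩
      show ρ.base (j.base w) ∈ Set.range h.base
      have : ρ.base (j.base w) = (Γ.ι.base ((pullback.snd π e).base w)) := by
        rw [← Scheme.Hom.comp_apply, hj1, Scheme.Hom.comp_apply]
      rw [this]
      exact ((pullback.snd π e).base w).2
    obtain ⟨w, hw⟩ : ∃ w : pullback π e ⟶ pullback p g, w ≫ γ = j :=
      ⟨IsOpenImmersion.lift γ j hjr, IsOpenImmersion.lift_fac _ _ _⟩
    have hafac : pullback.fst π e ≫ γ = j := by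
      have : pullback.fst π e = w := by
        rw [← hj2, ← hw, Category.assoc, hγ2, Category.comp_id]
      rw [this, hw]
    haveI : Mono (pullback.fst π e ≫ γ) := by rw [hafac]; infer_instance
    haveI : Mono (pullback.fst π e) := mono_of_mono (pullback.fst π e) γ
    infer_instance
  -- `e` is a monomorphism, hence an open immersion, hence an isomorphism
  haveI : IsOpenImmersion (pullback.diagonal e) := inferInstance
  haveI : Surjective (pullback.diagonal e) := by
    have h1 : @UniversallyInjective _ _ e := inferInstance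
    rw [universallyInjective_eq_diagonal] at h1
    exact h1
  haveI : IsIso (pullback.diagonal e) :=
    (isIso_iff_isOpenImmersion_and_surjective _).mpr ⟨inferInstance, inferInstance⟩
  haveI : Mono e := (pullback.isIso_diagonal_iff e).mp inferInstance
  haveI : IsOpenImmersion e := IsOpenImmersion.of_flat_of_mono e
  haveI : IsIso e := (isIso_iff_isOpenImmersion_and_surjective _).mpr ⟨inferInstance, inferInstance⟩
  refine ⟨inv e ≫ Γ.ι ≫ pullback.fst q p, ?_, ?_⟩
  · rw [Category.assoc, Category.assoc, pullback.condition, ← hprX, ← Category.assoc Γ.ι, ← he,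
      IsIso.inv_hom_id_assoc]
  · have h3 : pullback.fst p g ≫ inv e = h₀ := by
      rw [← hπ, ← hh₀e, Category.assoc, IsIso.hom_inv_id, Category.comp_id]
    rw [← Category.assoc, h3, ← Category.assoc, hh₀, hh1]


open AlgebraicGeometry CategoryTheory CategoryTheory.Limits in
/-- A universally submersive morphism is a descent morphism for etale schemes (exactness of Hom_S(X, Y)
-> Hom_S'(X', Y') => Hom_S''(X'', Y'')): let g : S' -> S be universally submersive, X and Y schemes
over S with Y etale over S, X' and Y' their base changes along g, and f' : X' -> Y' an S'-morphism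
whose two pullbacks to S'' = S' x_S S' coincide (equivalently: the two composites X'' -> X' -> Y' ->
Y along the two projections agree). Then there is exactly one S-morphism u : X -> Y whose base
change is f'. -/
theorem result {S S' X Y : Scheme.{u}} (g : S' ⟶ S) (hg : SGA1.UnivSubmersive g)
    (p : X ⟶ S) (q : Y ⟶ S) [Etale q]
    (f' : pullback p g ⟶ pullback q g) (hf' : f' ≫ pullback.snd q g = pullback.snd p g)
    (hcoc : pullback.map p (pullback.fst g g ≫ g) p g (𝟙 X) (pullback.fst g g) (𝟙 S)
        ((Category.comp_id _).trans (Category.id_comp _).symm) (Category.comp_id _) ≫ f' ≫ pullback.fst q g =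
      pullback.map p (pullback.fst g g ≫ g) p g (𝟙 X) (pullback.snd g g) (𝟙 S)
        ((Category.comp_id _).trans (Category.id_comp _).symm) ((Category.comp_id _).trans pullback.condition) ≫
        f' ≫ pullback.fst q g) :
    ∃! u : X ⟶ Y, u ≫ q = p ∧ f' ≫ pullback.fst q g = pullback.fst p g ≫ u := by
  -- the two pullbacks of `f'` agree on any test scheme
  have hcoeq : ∀ {T : Scheme.{u}} (c₁ c₂ : T ⟶ pullback p g),
      c₁ ≫ pullback.fst p g = c₂ ≫ pullback.fst p g →
      c₁ ≫ f' ≫ pullback.fst q g = c₂ ≫ f' ≫ pullback.fst q g := by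
    intro T c₁ c₂ hc
    have e1 : (c₁ ≫ pullback.snd p g) ≫ g = (c₂ ≫ pullback.snd p g) ≫ g := by
      rw [Category.assoc, Category.assoc, ← pullback.condition,
        ← Category.assoc, ← Category.assoc, hc]
    have e2 : (c₁ ≫ pullback.fst p g) ≫ p =
        pullback.lift (c₁ ≫ pullback.snd p g) (c₂ ≫ pullback.snd p g) e1 ≫
          (pullback.fst g g ≫ g) := by
      rw [← Category.assoc, pullback.lift_fst, Category.assoc, Category.assoc, pullback.condition]
    have hθ1 : pullback.lift (c₁ ≫ pullback.fst p g)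
        (pullback.lift (c₁ ≫ pullback.snd p g) (c₂ ≫ pullback.snd p g) e1) e2 ≫
        pullback.map p (pullback.fst g g ≫ g) p g (𝟙 X) (pullback.fst g g) (𝟙 S)
          ((Category.comp_id _).trans (Category.id_comp _).symm) (Category.comp_id _) = c₁ := by
      apply pullback.hom_ext
      · unfold pullback.map
        rw [Category.assoc, pullback.lift_fst, ← Category.assoc, pullback.lift_fst,
          Category.comp_id]
      · unfold pullback.map
        rw [Category.assoc, pullback.lift_snd, ← Category.assoc, pullback.lift_snd,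
          pullback.lift_fst]
    have hθ2 : pullback.lift (c₁ ≫ pullback.fst p g)
        (pullback.lift (c₁ ≫ pullback.snd p g) (c₂ ≫ pullback.snd p g) e1) e2 ≫
        pullback.map p (pullback.fst g g ≫ g) p g (𝟙 X) (pullback.snd g g) (𝟙 S)
          ((Category.comp_id _).trans (Category.id_comp _).symm)
          ((Category.comp_id _).trans pullback.condition) = c₂ := by
      apply pullback.hom_ext
      · unfold pullback.map
        rw [Category.assoc, pullback.lift_fst, ← Category.assoc, pullback.lift_fst,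
          Category.comp_id, hc]
      · unfold pullback.map
        rw [Category.assoc, pullback.lift_snd, ← Category.assoc, pullback.lift_snd,
          pullback.lift_snd]
    rw [← hθ1]
    conv_rhs => rw [← hθ2]
    rw [Category.assoc, Category.assoc, hcoc]
  obtain ⟨u, hu1, hu2⟩ := exists_descent g hg p q f' hf' hcoeq
  refine ⟨u, ⟨hu1, hu2⟩, ?_⟩
  rintro v ⟨hv1, hv2⟩
  haveI : Surjective g :=
    ⟨(MorphismProperty.universally_le _ _ hg : Topology.IsQuotientMap g.base).surjective⟩
  have hu : p ≫ 𝟙 S = u ≫ q := by rw [Category.comp_id, hu1]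
  have hv : p ≫ 𝟙 S = v ≫ q := by rw [Category.comp_id, hv1]
  refine Groth.Agent.S3707.result g p q v u hv hu ?_
  have key : ∀ (w : X ⟶ Y) (hw : p ≫ 𝟙 S = w ≫ q), f' ≫ pullback.fst q g = pullback.fst p g ≫ w →
      pullback.map p g q g w (𝟙 S') (𝟙 S) hw
        ((Category.comp_id _).trans (Category.id_comp _).symm) = f' := by
    intro w hw hfw
    apply pullback.hom_ext
    · rw [pullback.lift_fst, hfw]
    · rw [pullback.lift_snd, Category.comp_id, hf']
  rw [key v hv hv2, key u hu hu2]

end Groth.Agent.S3709
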