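import Groth.Statements.S3710
import Mathlib
import Groth.Agent.Lib.Helper17.KummerSmooth4

set_option autoImplicit false
open CategoryTheory CategoryTheory.Limits AlgebraicGeometry
universe u
open SGA1t

namespace Groth.Agent.S3710

/-- Let f : X -> S and φ_1, ..., φ_r cut out a strict normal crossings divisor relative to S, x a point
where some φ_i vanishes, A = O_{X,x}, and n_i ≥ 1 integers for the indices i with φ_i(x) = 0 (no
condition on the residue characteristic). Then the Kummer scheme X' = Spec A[T_i]/(T_i^{n_i} - φ_i)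
is smooth over S at its point x' over x: the homomorphism from the local ring of S at the image
point to the local ring of X' at x' is formally smooth. -/
theorem result {X S : Scheme.{u}} (f : X ⟶ S) {r : ℕ} (φ : Fin r → Γ(X, ⊤))
    (hD : SGA1t.IsRelSNC f φ) (x : X) (hx : Nonempty (SGA1t.vanishingAt φ x))
    (n : SGA1t.vanishingAt φ x → ℕ) (hn1 : ∀ i, 1 ≤ n i) :
    letI A := X.presheaf.stalk x
    letI a : SGA1t.vanishingAt φ x → A := fun i => (X.presheaf.germ ⊤ x trivial).hom (φ i.1)
    letI π : Spec (CommRingCat.of (SGA1t.kummer A a n)) ⟶ Spec (CommRingCat.of A) :=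
      Spec.map (CommRingCat.ofHom (algebraMap A (SGA1t.kummer A a n)))
    ∀ x' : Spec (CommRingCat.of (SGA1t.kummer A a n)), π.base x' = IsLocalRing.closedPoint A →
      ((π ≫ X.fromSpecStalk x ≫ f).stalkMap x').hom.FormallySmooth := by
  classical
  obtain ⟨W, hxW, d, v, e, he, hét, hv⟩ := hD x hx
  intro x' _
  haveI := hét
  have ha : (fun i : SGA1t.vanishingAt φ x => (X.presheaf.germ ⊤ x trivial).hom (φ i.1)) =
      fun i => Groth.Agent.Lib.helper17.KummerSmooth.germTop W x hxW (v (ULift.up (e i))) := by
    funext i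
    rw [hv i]
    simp only [Groth.Agent.Lib.helper17.KummerSmooth.germTop, RingHom.comp_apply]
    rw [← CommRingCat.comp_apply W.topIso.inv W.topIso.hom, Iso.inv_hom_id]
    exact (TopCat.Presheaf.germ_res_apply X.presheaf (homOfLE le_top) x hxW (φ i.1)).symm
  have key : ∀ (a : SGA1t.vanishingAt φ x → X.presheaf.stalk x)
      (_ : a = fun i => Groth.Agent.Lib.helper17.KummerSmooth.germTop W x hxW (v (ULift.up (e i))))
      (x' : Spec (CommRingCat.of (SGA1t.kummer (X.presheaf.stalk x) a n))),
      ((Spec.map (CommRingCat.ofHom (algebraMap (X.presheaf.stalk x)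
        (SGA1t.kummer (X.presheaf.stalk x) a n))) ≫ X.fromSpecStalk x ≫ f).stalkMap x').hom.FormallySmooth := by
    rintro _ rfl x'
    have he' : Function.Injective (fun i : SGA1t.vanishingAt φ x => ULift.up.{u} (e i)) :=
      fun i j h => he (ULift.up_injective h)
    exact Groth.Agent.Lib.helper17.KummerSmooth.formallySmooth_stalkMap_of_comp f x _
      (CommRingCat.ofHom (algebraMap (X.presheaf.stalk x) _))
      (Groth.Agent.Lib.helper17.KummerSmooth.formallySmooth_comp_kummer f x W hxW
        (ULift.{u} (Fin d)) v (fun i => ULift.up (e i)) he' n) x'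
  exact key _ ha x'

end Groth.Agent.S3710
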