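import Groth.Statements.S3713
-- import your own Groth.Agent.* helpers here
import Groth.Agent.Lib.Helper9.EtChartSec2

set_option autoImplicit false
universe u
open SGA1

namespace Groth.Agent.S3713

open AlgebraicGeometry CategoryTheory CategoryTheory.Limits in
/-- Let Y be locally Noetherian, f : X -> Y locally of finite type, i a section of f and y a point of Y.
Then X is smooth over Y at i(y) (i(y) lies in the smooth locus of f) if and only if there are an
open neighbourhood U of y, an open V of X with i(U) ⊆ V ⊆ f^{-1}(U), and finitely many sections of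
O_X over V, all vanishing along i(U), which define an etale U-morphism from V to an affine space
over U (so that this etale chart carries the section to the zero section). -/
theorem result {X Y : Scheme.{u}} [IsLocallyNoetherian Y] (f : X ⟶ Y)
    [LocallyOfFiniteType f] [LocallyOfFinitePresentation f] (i : Y ⟶ X) (hi : i ≫ f = 𝟙 Y) (y : Y) :
    i.base y ∈ f.smoothLocus ↔
      ∃ (U : Y.Opens) (V : X.Opens) (_ : y ∈ U) (hUV : U ≤ i ⁻¹ᵁ V) (hVU : V ≤ f ⁻¹ᵁ U) (m : ℕ)
        (v : ULift.{u} (Fin m) → Γ(V, ⊤)),
        Etale (AffineSpace.homOfVector (f.resLE U V hVU) v) ∧ ∀ j, (i.resLE V U hUV).appTop (v j) = 0 := by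
  constructor
  · intro hy
    exact Groth.Agent.Lib.helper9.EtChartSec.exists_chart_of_mem_smoothLocus f i hi y hy
  · rintro ⟨U, V, hyU, hUV, hVU, m, v, hE, -⟩
    exact Groth.Agent.Lib.helper9.EtChartSec.mem_smoothLocus_of_chart f (i.base y) U V (hUV hyU)
      hVU (ULift.{u} (Fin m)) v hE

end Groth.Agent.S3713
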