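import Groth.Statements.S3721
import Groth.Agent.Lib.Helper15.FEtAffine
import Groth.Agent.Lib.Helper15.ASCover

set_option linter.style.haveILetI false

set_option autoImplicit false
open CategoryTheory CategoryTheory.Limits AlgebraicGeometry
universe u
open SGA1t

namespace Groth.Agent.S3721

/-- Let p be a prime and A a commutative ring of characteristic p. Then every principal ℤ/p-cover P of
Spec A (a finite étale cover with an action of ℤ/p making it a torsor) is isomorphic over Spec A to
an Artin–Schreier cover Spec A[T]/(T^p − T − a) for some a ∈ A, compatibly with the actions: under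
the isomorphism the given action of j ∈ ℤ/p on P corresponds to the automorphism of the
Artin–Schreier cover induced by T ↦ T + j. The published statement is for any base S of
characteristic p on which Frobenius fixes no nonzero element of H¹(S, O_S); it is stated here for S
= Spec A affine. -/
theorem result (A : Type u) [CommRing A] (p : ℕ) [Fact p.Prime] [CharP A p]
    (P : FEt.Cat (Spec (CommRingCat.of A))) (ρ : Multiplicative (ZMod p) →* Aut P)
    (hP : SGA1t.IsPrincipal (Multiplicative (ZMod p)) P ρ) :
    ∃ (a : A) (e : P.left ≅ Spec (CommRingCat.of (SGA1t.artinSchreier A p a))),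
      e.hom ≫ Spec.map (CommRingCat.ofHom (algebraMap A (SGA1t.artinSchreier A p a))) = P.hom ∧
      ∀ j : ZMod p, (ρ (Multiplicative.ofAdd j)).hom.left ≫ e.hom =
        e.hom ≫ Spec.map (CommRingCat.ofHom (SGA1t.artinSchreierShift A p a j)) := by
  obtain ⟨m⟩ := Groth.Agent.Lib.helper15.FEtAffine.nonempty_model P
  obtain ⟨σ, hσ, hσ1, hσmul, hsurj, htr⟩ :=
    Groth.Agent.Lib.helper15.FEtAffine.principal_algebraic m ρ hP
  obtain ⟨a, ε, hε⟩ := Groth.Agent.Lib.helper15.GalCover.artinSchreier_model p σ hσ1 hσmul htr hsurj
  obtain ⟨e, he1, he2⟩ := Groth.Agent.Lib.helper15.FEtAffine.exists_iso_of_algEquiv m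
    (SGA1t.artinSchreier A p a) ε
  refine ⟨a, e, he1, fun j => ?_⟩
  exact he2 _ (σ (Multiplicative.ofAdd j)) (SGA1t.artinSchreierShift A p a j)
    (hσ (Multiplicative.ofAdd j)) (fun x => hε j x)

end Groth.Agent.S3721
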