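import Groth.Statements.S3731
import Mathlib
import Groth.Agent.Lib.Helper25.DerivedChain

set_option autoImplicit false
universe u v
open CategoryTheory CategoryTheory.Limits
attribute [local instance] HasDerivedCategory.standard
open EtDl

namespace Groth.Agent.S3731


section helpers

open Pretriangulated DerivedCategory Groth.Agent.Lib.helper25.DerivedTrunc

variable {A : Type u} [Category.{v} A] [Abelian A]

theorem factor (k M : ℕ) (hkM : k ≤ M) (K : ComposableArrows (DerivedCategory A) M)
    (hK : ∀ (i : Fin (M + 1)) (p : ℤ), p < 0 ∨ (k : ℤ) < p →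
      IsZero ((DerivedCategory.homologyFunctor A p).obj (K.obj i)))
    (hf : ∀ (i : ℕ) (hi : i < M) (p : ℤ), p < (k : ℤ) →
      (DerivedCategory.homologyFunctor A p).map (K.map' i (i + 1)) = 0)
    (π : K.obj' 0 ⟶ (DerivedCategory.singleFunctor A (k : ℤ)).obj
      ((DerivedCategory.homologyFunctor A (k : ℤ)).obj (K.obj' 0)))
    (hπ : (DerivedCategory.homologyFunctor A (k : ℤ)).map π ≫
      (DerivedCategory.singleFunctorCompHomologyFunctorIso A (k : ℤ)).hom.app
        ((DerivedCategory.homologyFunctor A (k : ℤ)).obj (K.obj' 0)) = 𝟙 _) :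
    ∃ φ : (DerivedCategory.singleFunctor A (k : ℤ)).obj
        ((DerivedCategory.homologyFunctor A (k : ℤ)).obj (K.obj' 0)) ⟶ K.obj' M,
      K.map' 0 M = π ≫ φ := by
  have hGE : ∀ i : Fin (M + 1), (K.obj i).IsGE 0 := by
    intro i
    rw [isGE_iff]
    intro p hp
    exact hK i p (Or.inl hp)
  have hLE : ∀ i : Fin (M + 1), (K.obj i).IsLE k := by
    intro i
    rw [isLE_iff]
    intro p hp
    exact hK i p (Or.inr hp)
  -- Step A
  have hA : ((tD A).truncLT (k : ℤ)).map (K.map' 0 M) = 0 := by
    cases M with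
    | zero =>
      have hk0 : k = 0 := by omega
      subst hk0
      have := hGE ⟨0, by omega⟩
      have hz : IsZero (((tD A).truncLT ((0 : ℕ) : ℤ)).obj (K.obj' 0)) := by
        have : (K.obj' 0).IsGE ((0 : ℕ) : ℤ) := by simpa using hGE ⟨0, by omega⟩
        exact (tD A).isZero_truncLT_obj_of_isGE _ _
      exact hz.eq_of_src _ _
    | succ N =>
      let K' : ComposableArrows (DerivedCategory A) (N + 1) := K ⋙ (tD A).truncLT (k : ℤ)
      have h := chain_eq_zero (C := A) 0 N K' ?_ ?_ ?_
      · exact h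
      · intro i
        have := hGE i
        exact isGE_truncLT _ 0 (K.obj i)
      · intro i
        exact (tD A).isLE_truncLT_obj (K.obj i) k (0 + N) (by omega)
      · intro i hi q
        have h1 : K'.map' i (i + 1) = ((tD A).truncLT (k : ℤ)).map (K.map' i (i + 1)) := rfl
        rw [h1]
        by_cases hq : q < (k : ℤ)
        · exact homology_truncLT_map_eq_zero _ q _ (hf i hi q hq)
        · have hz : IsZero ((homologyFunctor A q).obj
              (((tD A).truncLT (k : ℤ)).obj (K.obj' (i + 1)))) :=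
            isZero_of_isLE _ ((k : ℤ) - 1) q (by omega)
          exact hz.eq_of_tgt _ _
  -- Step B
  have hι : ((tD A).truncLTι (k : ℤ)).app (K.obj' 0) ≫ K.map' 0 M = 0 := by
    have hn : ((tD A).truncLT (k : ℤ)).map (K.map' 0 M) ≫ ((tD A).truncLTι (k : ℤ)).app (K.obj' M) =
        ((tD A).truncLTι (k : ℤ)).app (K.obj' 0) ≫ K.map' 0 M :=
      ((tD A).truncLTι (k : ℤ)).naturality _
    rw [← hn, hA, zero_comp]
  obtain ⟨ψ, hψ⟩ : ∃ ψ : ((tD A).truncGE (k : ℤ)).obj (K.obj' 0) ⟶ K.obj' M,
      K.map' 0 M = ((tD A).truncGEπ (k : ℤ)).app (K.obj' 0) ≫ ψ :=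
    Triangle.yoneda_exact₂ _ ((tD A).triangleLTGE_distinguished (k : ℤ) (K.obj' 0))
      (K.map' 0 M) hι
  -- Step C
  have hGE0 : (K.obj' 0).IsGE 0 := hGE ⟨0, by omega⟩
  have hLE0 : (K.obj' 0).IsLE k := hLE ⟨0, by omega⟩
  let θ := (tD A).descTruncGE π (k : ℤ)
  have hθ : ((tD A).truncGEπ (k : ℤ)).app (K.obj' 0) ≫ θ = π := (tD A).π_descTruncGE π (k : ℤ)
  have hisoθ : IsIso θ := by
    rw [isIso_iff]
    intro q
    by_cases hq : q = (k : ℤ)
    · subst hq
      have h1 : IsIso ((homologyFunctor A (k : ℤ)).map π) := by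
        have h2 : IsIso ((homologyFunctor A (k : ℤ)).map π ≫
            (singleFunctorCompHomologyFunctorIso A (k : ℤ)).hom.app
              ((homologyFunctor A (k : ℤ)).obj (K.obj' 0))) := by
          rw [hπ]
          infer_instance
        exact IsIso.of_isIso_comp_right _
          ((singleFunctorCompHomologyFunctorIso A (k : ℤ)).hom.app _)
      have h3 : IsIso ((homologyFunctor A (k : ℤ)).map
          (((tD A).truncGEπ (k : ℤ)).app (K.obj' 0))) := by
        have hm : Mono ((homologyFunctor A (k : ℤ)).map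
            (((tD A).truncGEπ (k : ℤ)).app (K.obj' 0))) := by
          have := (HomologySequence.mono_homologyMap_mor₂_iff _
            ((tD A).triangleLTGE_distinguished (k : ℤ) (K.obj' 0)) (k : ℤ)).2
          apply this
          have hz : IsZero ((homologyFunctor A (k : ℤ)).obj
              (((tD A).truncLT (k : ℤ)).obj (K.obj' 0))) :=
            isZero_of_isLE _ ((k : ℤ) - 1) k (by omega)
          exact hz.eq_of_src _ _
        have he := epi_homology_truncGEπ (k : ℤ) (k : ℤ) (K.obj' 0)
        exact isIso_of_mono_of_epi _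
      have h4 : (homologyFunctor A (k : ℤ)).map (((tD A).truncGEπ (k : ℤ)).app (K.obj' 0)) ≫
          (homologyFunctor A (k : ℤ)).map θ = (homologyFunctor A (k : ℤ)).map π := by
        rw [← Functor.map_comp, hθ]
      exact IsIso.of_isIso_fac_left h4
    · have hLEt : (((tD A).truncGE (k : ℤ)).obj (K.obj' 0)).IsLE k := isLE_truncGE _ _ _
      have hsrc : IsZero ((homologyFunctor A q).obj (((tD A).truncGE (k : ℤ)).obj (K.obj' 0))) := by
        rcases lt_or_gt_of_ne hq with h | h
        · exact isZero_of_isGE _ (k : ℤ) q h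
        · exact isZero_of_isLE _ (k : ℤ) q h
      have htgt : IsZero ((homologyFunctor A q).obj ((singleFunctor A (k : ℤ)).obj
          ((homologyFunctor A (k : ℤ)).obj (K.obj' 0)))) := by
        rcases lt_or_gt_of_ne hq with h | h
        · exact isZero_of_isGE _ (k : ℤ) q h
        · exact isZero_of_isLE _ (k : ℤ) q h
      exact ⟨⟨0, hsrc.eq_of_src _ _, htgt.eq_of_src _ _⟩⟩
  refine ⟨inv θ ≫ ψ, ?_⟩
  rw [hψ, ← hθ, Category.assoc, IsIso.hom_inv_id_assoc]

end helpers

/-- Let A be an abelian category, k ≥ 0, and K_0 -> K_1 -> ... -> K_{2k} a chain of 2k morphisms in the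
derived category of A such that every K_i has H^p(K_i) = 0 for p outside [0, k] and every morphism
K_i -> K_{i+1} induces the zero map on H^p for all p < k. Let π : K_0 -> H^k(K_0)[-k] be the
morphism to the top cohomology object placed in degree k that induces the identity on H^k. Then the
composite K_0 -> K_{2k} factors through π. -/
theorem result {A : Type u} [Category.{v} A] [Abelian A] (k : ℕ)
    (K : ComposableArrows (DerivedCategory A) (2 * k))
    (hK : ∀ (i : ℕ) (hi : i ≤ 2 * k) (p : ℤ), p < 0 ∨ (k : ℤ) < p →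
      IsZero ((DerivedCategory.homologyFunctor A p).obj (K.obj' i)))
    (hf : ∀ (i : ℕ) (hi : i < 2 * k) (p : ℤ), p < (k : ℤ) →
      (DerivedCategory.homologyFunctor A p).map (K.map' i (i + 1)) = 0)
    (π : K.obj' 0 ⟶ (DerivedCategory.singleFunctor A (k : ℤ)).obj
      ((DerivedCategory.homologyFunctor A (k : ℤ)).obj (K.obj' 0)))
    (hπ : (DerivedCategory.homologyFunctor A (k : ℤ)).map π ≫
      (DerivedCategory.singleFunctorCompHomologyFunctorIso A (k : ℤ)).hom.app
        ((DerivedCategory.homologyFunctor A (k : ℤ)).obj (K.obj' 0)) = 𝟙 _) :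
    ∃ φ : (DerivedCategory.singleFunctor A (k : ℤ)).obj
        ((DerivedCategory.homologyFunctor A (k : ℤ)).obj (K.obj' 0)) ⟶ K.obj' (2 * k),
      K.map' 0 (2 * k) = π ≫ φ := by
  exact factor k (2 * k) (by omega) K (fun i p hp => hK i.1 (by omega) p hp) hf π hπ

end Groth.Agent.S3731
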