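import Groth.Statements.S3750
import Groth.Agent.Lib.Helper20.PushClDisj

set_option autoImplicit false
universe v u
open CategoryTheory CategoryTheory.Limits AlgebraicGeometry
attribute [local instance] HasDerivedCategory.standard
open KRR

namespace Groth.Agent.S3750

/-- Let F : P ⟶ M and f : X ⟶ Y be regular closed imbeddings whose conormal sheaves are locally free of
the same rank d, fitting in a cartesian square with φ : Y ⟶ M and ψ : X ⟶ P (so X = Y ×_M P), all
these schemes Noetherian and connected and Y, M having enough locally free sheaves. Let k : Z ⟶ Y be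
a morphism from a connected Noetherian scheme whose image is disjoint from f(X), and h = k ≫ φ : Z ⟶
M. Then, on models of the λ-rings K(P), K(M) and K(Z), the pull-back h^K : K(M) → K(Z) kills the
image of the push-forward F_K : K(P) → K(M): h^K(F_K(p)) = 0 for every p ∈ K(P). -/
theorem result {X Y P M Z : Scheme.{u}} (F : P ⟶ M) (φ : Y ⟶ M) (f : X ⟶ Y) (ψ : X ⟶ P)
    (hsq : IsPullback f ψ φ F) (hF : Mor2.IsRegularClosedImmersion F) (hf : Mor2.IsRegularClosedImmersion f) (d : ℕ)
    (hcF : FlatMod.IsFinLocFreeOfRank d (Omega.conormal F)) (hcf : FlatMod.IsFinLocFreeOfRank d (Omega.conormal f))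
    (k : Z ⟶ Y) (hk : Disjoint (Set.range k.base) (Set.range f.base))
    [IsNoetherian X] [ConnectedSpace ↥X] [IsNoetherian P] [ConnectedSpace ↥P] [IsNoetherian Z] [ConnectedSpace ↥Z] [IsNoetherian Y] [ConnectedSpace ↥Y] (hYe : KRR.HasEnoughLocFree Y) [IsNoetherian M] [ConnectedSpace ↥M] (hMe : KRR.HasEnoughLocFree M)
    (KP : Type v) [CommRing KP] [LambdaRing.LambdaOps KP] (PP : LambdaRing.PosStructure KP) (φP : SGA6.Kvb P →+ KP) (hKP : KRR.IsModel P KP PP φP)
    (KM : Type v) [CommRing KM] [LambdaRing.LambdaOps KM] (PM : LambdaRing.PosStructure KM) (φM : SGA6.Kvb M →+ KM) (hKM : KRR.IsModel M KM PM φM)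
    (KZ : Type v) [CommRing KZ] [LambdaRing.LambdaOps KZ] (PZ : LambdaRing.PosStructure KZ) (φZ : SGA6.Kvb Z →+ KZ) (hKZ : KRR.IsModel Z KZ PZ φZ)
    (gh : KM →+ KZ) (hgh : KRR.IsPull (k ≫ φ) φM φZ gh)
    (gF : KP →+ KM) (hgF : KRR.IsPushCl F φP φM gF) (p : KP) : gh (gF p) = 0 := by
  haveI : IsClosedImmersion F := hF.1
  obtain ⟨c⟩ := Groth.Agent.Lib.Helper20.PushClK.nonempty_ctx F hF
  have hd : Disjoint (Set.range (k ≫ φ)) (Set.range F) := by
    rw [Set.disjoint_iff]
    rintro _ ⟨⟨z, rfl⟩, ⟨p', hp'⟩⟩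
    have h1 : φ (k z) = F p' := by
      rw [hp']
      rfl
    obtain ⟨x, hx1, -⟩ := AlgebraicGeometry.Scheme.exists_preimage_of_isPullback hsq (k z) p' h1
    exact Set.disjoint_iff.mp hk ⟨⟨z, rfl⟩, ⟨x, hx1⟩⟩
  let S : AddSubgroup KP := (gh.comp gF).ker
  have hp : p ∈ S := by
    refine Groth.Agent.Lib.Helper20.KosPY.model_induction_base hKP S (fun G hG => ?_) p
    show gh (gF (φP (KRR.cl P G))) = 0
    obtain ⟨n, L, π, hL⟩ := c.hasLFRes hMe (c.Q_push G hG)
    rw [hgF G hG n L π hL, map_sum]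
    have h2 := Groth.Agent.Lib.Helper20.PushClK.alt_sum_pullback_eq_zero F (k ≫ φ) hd G hL
    have h3 := congrArg φZ h2
    rw [map_zero, map_sum] at h3
    rw [← h3]
    refine Finset.sum_congr rfl (fun j _ => ?_)
    rw [map_zsmul, map_zsmul, hgh _ (hL.finLocFree j)]
  exact hp

end Groth.Agent.S3750
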