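import Groth.Statements.S3757
import Groth.Agent.Lib.Helper11.FlatTwistPn
import Groth.Agent.Lib.Helper20.FlatPn
import Groth.Agent.Lib.Helper21.InvFibre
import Groth.Agent.Lib.Lead.RankAdd
import Groth.Agent.Lib.Lead.ModTensor

set_option autoImplicit false
universe v u
open CategoryTheory CategoryTheory.Limits AlgebraicGeometry
attribute [local instance] HasDerivedCategory.standard
open KRR

namespace Groth.Agent.S3757

/-- Let Y be a Noetherian scheme, p : P = P^n_Y ⟶ Y the structure morphism of projective n-space over Y,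
and F a finite locally free O_P-module. Then there is m₀ such that p_*(F(m)) is a finite locally
free O_Y-module for every m ≥ m₀. -/
theorem result (n : ℕ) (Y : Scheme.{u}) [IsNoetherian Y]
    (F : (KRR.PY n Y).Modules) (hF : FlatMod.IsFinLocFree F) :
    ∃ m₀ : ℕ, ∀ m : ℕ, m₀ ≤ m →
      FlatMod.IsFinLocFree ((Scheme.Modules.pushforward (KRR.pr n Y)).obj (KRR.twF n Y (m : ℤ) F)) := by
  have hcoh : Coh.IsCoh F := Groth.Agent.Lib.Lead.RankAdd.isCoh_of_isFinLocFree hF
  haveI : Flat (CohB1.ProjSpaceOver.toBase n Y) := Groth.Agent.Lib.Helper20.FlatPn.flat_toBase n Y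
  have hfl0 : FlatMod.IsFlatOver (CohB1.ProjSpaceOver.toBase n Y) F :=
    Groth.Agent.Lib.helper21.InvFibre.isFlatOver_of_isFinLocFree _ F hF
  have key : ∀ (g : KRR.PY n Y ⟶ Y) (hg : g = CohB1.ProjSpaceOver.toBase n Y)
      (h : ∃ n₀ : ℤ, ∀ k : ℤ, n₀ ≤ k → FlatMod.IsFinLocFree
        ((Coh.push g).obj (CohB1.tensorMod F
          ((Scheme.Modules.pullback (𝟙 (CohB1.ProjSpaceOver n Y))).obj (Twist.twistOver n Y k))))),
      ∃ m₀ : ℕ, ∀ m : ℕ, m₀ ≤ m → FlatMod.IsFinLocFree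
        ((Scheme.Modules.pushforward (KRR.pr n Y)).obj (KRR.twF n Y (m : ℤ) F)) := by
    rintro g rfl ⟨n₀, h⟩
    refine ⟨n₀.toNat, fun m hm => ?_⟩
    have h1 := h (m : ℤ) (by omega)
    refine Groth.Agent.Lib.helper16.FLF.isFinLocFree_of_iso
      ((Scheme.Modules.pushforward (KRR.pr n Y)).mapIso ?_) h1
    exact Groth.Agent.Lib.Lead.ModTensor.tensorIso (Iso.refl F)
        ((Scheme.Modules.pullbackId (CohB1.ProjSpaceOver n Y)).app _) ≪≫
      Groth.Agent.Lib.Lead.ModTensor.braid _ _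
  refine key (𝟙 _ ≫ CohB1.ProjSpaceOver.toBase n Y) (Category.id_comp _) ?_
  refine Groth.Agent.Lib.helper11.FlatTwistPn.exists_isFinLocFree_push_of_isFlatOver n
    (𝟙 (CohB1.ProjSpaceOver n Y)) F hcoh ?_
  rw [Category.id_comp]
  exact hfl0

end Groth.Agent.S3757
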