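import Groth.Statements.S3760
import Groth.Agent.Lib.Helper20.KosPY4

set_option autoImplicit false
universe v u
open CategoryTheory CategoryTheory.Limits AlgebraicGeometry
attribute [local instance] HasDerivedCategory.standard
open KRR

namespace Groth.Agent.S3760

/-- f_K[O(m)] = [Sym^m E] for m ≥ 0, here with E = O_Y^{n+1}: let Y be a connected Noetherian scheme, p
: P = P^n_Y ⟶ Y, with models of K(P), K(Y) and g = p_K. Then for every m ≥ 0, p_K [O_P(m)] = C(n+m,
m) · 1 in K(Y) (the class of Sym^m of a free module of rank n+1). Here O_P(m) is written O(m) ⊗ O_P. -/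
theorem result (n : ℕ) (Y : Scheme.{u}) [IsNoetherian Y] [ConnectedSpace ↥Y]
    (KP : Type v) [CommRing KP] [LambdaRing.LambdaOps KP] (PP : LambdaRing.PosStructure KP) (φP : SGA6.Kvb (KRR.PY n Y) →+ KP) (hKP : KRR.IsModel (KRR.PY n Y) KP PP φP)
    (KY : Type v) [CommRing KY] [LambdaRing.LambdaOps KY] (PY : LambdaRing.PosStructure KY) (φY : SGA6.Kvb Y →+ KY) (hKY : KRR.IsModel Y KY PY φY)
    (g : KP →+ KY) (hg : KRR.IsPushPr n Y φP φY g) (m : ℕ) :
    g (φP (KRR.cl (KRR.PY n Y) (KRR.twF n Y (m : ℤ) (Coh.structureModule (KRR.PY n Y))))) = (Nat.choose (n + m) m : KY) := by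
  have hF : FlatMod.IsFinLocFree (KRR.twF n Y (m : ℤ) (Coh.structureModule (KRR.PY n Y))) :=
    Groth.Agent.Lib.Helper20.KosPY.isFinLocFree_twF n Y
      (Groth.Agent.Lib.helper16.FLF.isFinLocFree_structureModule _) _
  have hreg := Groth.Agent.S19428.result n Y (Coh.structureModule (KRR.PY n Y)) inferInstance
    (Groth.Agent.Lib.Helper20.PushOPn.isRegSheaf_structureModule n Y) m
  rw [hg _ hF hreg, Groth.Agent.Lib.Helper20.KosPY.cl_push_twF_unit n Y (m : ℤ) (by omega),
    Groth.Agent.Lib.Helper20.KosNum.cc_of_nonneg, map_zsmul, hKY.map_one, zsmul_one,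
    Int.cast_natCast, Nat.choose_symm_add]

end Groth.Agent.S3760
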