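import Groth.Statements.S3767
import Groth.Agent.Lib.Helper20.Fubini
import Groth.Agent.Lib.Helper20.ELFClosed
import Groth.Agent.Lib.Helper20.SectionReg

set_option autoImplicit false
universe v u
open CategoryTheory CategoryTheory.Limits AlgebraicGeometry
attribute [local instance] HasDerivedCategory.standard
open KRR

namespace Groth.Agent.S3767

/-- Let Y be a connected Noetherian scheme such that every coherent module on Y, on each P^a_Y and on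
each P^a over P^b_Y is a quotient of a finite locally free one, and let f : X ⟶ Y (X connected)
admit two factorizations f = i₁ ≫ p and f = i₂ ≫ p' with i₁ : X ⟶ P^n_Y, i₂ : X ⟶ P^m_Y regular
closed imbeddings and p, p' the projections. With models of the K-rings, push-forwards (i₁)_K,
(i₂)_K via resolutions and p_K, p'_K via regular sheaves: p_K ∘ (i₁)_K = p'_K ∘ (i₂)_K. So f_K is
well defined. -/
theorem result (n m : ℕ) {X Y : Scheme.{u}} [IsNoetherian Y] [ConnectedSpace ↥Y] (hYe : KRR.HasEnoughLocFree Y) (hstar : ∀ a : ℕ, KRR.HasEnoughLocFree (KRR.PY a Y) ∧ ∀ b : ℕ, KRR.HasEnoughLocFree (KRR.PY a (KRR.PY b Y)))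
    [ConnectedSpace ↥X] (f : X ⟶ Y) (i₁ : X ⟶ KRR.PY n Y) (i₂ : X ⟶ KRR.PY m Y)
    (h₁ : Mor2.IsRegularClosedImmersion i₁) (h₂ : Mor2.IsRegularClosedImmersion i₂)
    (hf₁ : i₁ ≫ KRR.pr n Y = f) (hf₂ : i₂ ≫ KRR.pr m Y = f)
    (KX : Type v) [CommRing KX] [LambdaRing.LambdaOps KX] (PX : LambdaRing.PosStructure KX) (φX : SGA6.Kvb X →+ KX) (hKX : KRR.IsModel X KX PX φX)
    (KY : Type v) [CommRing KY] [LambdaRing.LambdaOps KY] (PY : LambdaRing.PosStructure KY) (φY : SGA6.Kvb Y →+ KY) (hKY : KRR.IsModel Y KY PY φY)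
    (K₁ : Type v) [CommRing K₁] [LambdaRing.LambdaOps K₁] (P₁ : LambdaRing.PosStructure K₁) (φ₁ : SGA6.Kvb (KRR.PY n Y) →+ K₁) (hK₁ : KRR.IsModel (KRR.PY n Y) K₁ P₁ φ₁)
    (K₂ : Type v) [CommRing K₂] [LambdaRing.LambdaOps K₂] (P₂ : LambdaRing.PosStructure K₂) (φ₂ : SGA6.Kvb (KRR.PY m Y) →+ K₂) (hK₂ : KRR.IsModel (KRR.PY m Y) K₂ P₂ φ₂)
    (a₁ : KX →+ K₁) (ha₁ : KRR.IsPushCl i₁ φX φ₁ a₁) (b₁ : K₁ →+ KY) (hb₁ : KRR.IsPushPr n Y φ₁ φY b₁)
    (a₂ : KX →+ K₂) (ha₂ : KRR.IsPushCl i₂ φX φ₂ a₂) (b₂ : K₂ →+ KY) (hb₂ : KRR.IsPushPr m Y φ₂ φY b₂) :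
    b₁.comp a₁ = b₂.comp a₂ := by
  classical
  haveI : IsClosedImmersion i₁ := h₁.1
  haveI : IsClosedImmersion i₂ := h₂.1
  haveI : IsNoetherian X :=
    { toIsLocallyNoetherian := LocallyOfFiniteType.isLocallyNoetherian i₁
      toCompactSpace := QuasiCompact.compactSpace_of_compactSpace i₁ }
  have hcomm : i₁ ≫ KRR.pr n Y = i₂ ≫ KRR.pr m Y := hf₁.trans hf₂.symm
  -- the sections and the base-changed immersions
  have hs := Groth.Agent.Lib.Helper20.SwapPP.sec_pr n (i₁ ≫ Groth.Agent.Lib.Helper20.KosPY.q1 n Y)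
  have hs' := Groth.Agent.Lib.Helper20.SwapPP.sec_pr m (i₂ ≫ Groth.Agent.Lib.Helper20.KosPY.q1 m Y)
  have hsreg := Groth.Agent.Lib.Helper20.SectionReg.isRegularClosedImmersion_section _ hs
  have hsreg' := Groth.Agent.Lib.Helper20.SectionReg.isRegularClosedImmersion_section _ hs'
  have hj₂ := Groth.Agent.Lib.Helper20.RegImmFlatBC.isRegularClosedImmersion_projSpaceMap n i₂ h₂
  have hj₁ := Groth.Agent.Lib.Helper20.RegImmFlatBC.isRegularClosedImmersion_projSpaceMap m i₁ h₁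
  haveI := hsreg.1
  haveI := hsreg'.1
  haveI := hj₂.1
  haveI := hj₁.1
  -- enough locally free modules
  have hP1 := (hstar n).1
  have hP2 := (hstar m).1
  have hW := (hstar n).2 m
  have hW' := (hstar m).2 n
  have hPX := Groth.Agent.Lib.Helper20.ELFClosed.hasEnoughLocFree_of_isClosedImmersion
    (KRR.projSpaceMap n i₂) hW
  have hPX' := Groth.Agent.Lib.Helper20.ELFClosed.hasEnoughLocFree_of_isClosedImmersion
    (KRR.projSpaceMap m i₁) hW'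
  obtain ⟨c₁⟩ := Groth.Agent.Lib.Helper20.PushClK.nonempty_ctx i₁ h₁
  obtain ⟨c₂⟩ := Groth.Agent.Lib.Helper20.PushClK.nonempty_ctx i₂ h₂
  obtain ⟨cs⟩ := Groth.Agent.Lib.Helper20.PushClK.nonempty_ctx _ hsreg
  obtain ⟨cs'⟩ := Groth.Agent.Lib.Helper20.PushClK.nonempty_ctx _ hsreg'
  obtain ⟨c2t⟩ := Groth.Agent.Lib.Helper20.PushClK.nonempty_ctx _ hj₂
  obtain ⟨c1t⟩ := Groth.Agent.Lib.Helper20.PushClK.nonempty_ctx _ hj₁
  -- the key identity on `Kvb`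
  have key : ∀ x : SGA6.Kvb X,
      Groth.Agent.Lib.Helper20.KPr.prK n Y (c₁.pushK hP1 x) =
        Groth.Agent.Lib.Helper20.KPr.prK m Y (c₂.pushK hP2 x) := by
    intro x
    have hA : c₂.pushK hP2 x = Groth.Agent.Lib.Helper20.KPr.prK n (KRR.PY m Y)
        (c2t.pushK hW (cs.pushK hPX x)) := by
      rw [← Groth.Agent.Lib.Helper20.KPushCl.pushCl_pushPr_K i₂ c₂ c2t hP2 hW,
        Groth.Agent.Lib.Helper20.KPushCl.section_K _ hs cs hPX hKX]
    have hB : c₁.pushK hP1 x = Groth.Agent.Lib.Helper20.KPr.prK m (KRR.PY n Y)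
        (c1t.pushK hW' (cs'.pushK hPX' x)) := by
      rw [← Groth.Agent.Lib.Helper20.KPushCl.pushCl_pushPr_K i₁ c₁ c1t hP1 hW',
        Groth.Agent.Lib.Helper20.KPushCl.section_K _ hs' cs' hPX' hKX]
    rw [hA, hB, Groth.Agent.Lib.Helper20.Fubini.fubini n m Y,
      Groth.Agent.Lib.Helper20.Fubini.sigK_emb i₁ i₂ hcomm cs c2t cs' c1t hPX hW hPX' hW']
  have ha₁' := (Groth.Agent.Lib.Helper20.KPushCl.isPushCl_iff' c₁ hP1 φX φ₁ a₁).1 ha₁
  have ha₂' := (Groth.Agent.Lib.Helper20.KPushCl.isPushCl_iff' c₂ hP2 φX φ₂ a₂).1 ha₂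
  have hb₁' := (Groth.Agent.Lib.Helper20.KPr.isPushPr_iff φ₁ φY b₁).1 hb₁
  have hb₂' := (Groth.Agent.Lib.Helper20.KPr.isPushPr_iff φ₂ φY b₂).1 hb₂
  ext z
  obtain ⟨x, rfl⟩ := hKX.bijective.2 z
  show b₁ (a₁ (φX x)) = b₂ (a₂ (φX x))
  rw [ha₁', ha₂', hb₁', hb₂', key]

end Groth.Agent.S3767
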