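import Groth.Statements.S3768
import Groth.Agent.Lib.Helper20.KIndep
import Groth.Agent.Lib.Helper5.CMSliceSch1
import Groth.Agent.S1661

set_option autoImplicit false
universe v u
open CategoryTheory CategoryTheory.Limits AlgebraicGeometry
attribute [local instance] HasDerivedCategory.standard
open KRR

namespace Groth.Agent.S3768

/-- Let Y, Z be connected Noetherian schemes such that every coherent module on Y, Z, on each P^a over
them and on each P^a over P^b over them is a quotient of a finite locally free one. Let f = i ≫ p :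
X ⟶ Y and g = j ≫ q : Y ⟶ Z be regular morphisms factored through P^n_Y and P^m_Z (i, j regular
closed imbeddings; X connected), and let f ≫ g = k ≫ r be a factorization through P^l_Z with k a
regular closed imbedding. With models and push-forwards as before: (r_K ∘ k_K) = (q_K ∘ j_K) ∘ (p_K
∘ i_K). -/
theorem result (n m l : ℕ) {X Y Z : Scheme.{u}} [IsNoetherian Y] [ConnectedSpace ↥Y] (hYe : KRR.HasEnoughLocFree Y) [IsNoetherian Z] [ConnectedSpace ↥Z] (hZe : KRR.HasEnoughLocFree Z)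
    (hstarY : ∀ a : ℕ, KRR.HasEnoughLocFree (KRR.PY a Y) ∧ ∀ b : ℕ, KRR.HasEnoughLocFree (KRR.PY a (KRR.PY b Y)))
    (hstarZ : ∀ a : ℕ, KRR.HasEnoughLocFree (KRR.PY a Z) ∧ ∀ b : ℕ, KRR.HasEnoughLocFree (KRR.PY a (KRR.PY b Z)))
    [ConnectedSpace ↥X] (f : X ⟶ Y) (g : Y ⟶ Z)
    (i : X ⟶ KRR.PY n Y) (hi : Mor2.IsRegularClosedImmersion i) (hf : i ≫ KRR.pr n Y = f)
    (j : Y ⟶ KRR.PY m Z) (hj : Mor2.IsRegularClosedImmersion j) (hg : j ≫ KRR.pr m Z = g)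
    (k : X ⟶ KRR.PY l Z) (hk : Mor2.IsRegularClosedImmersion k) (hfg : k ≫ KRR.pr l Z = f ≫ g)
    (KX : Type v) [CommRing KX] [LambdaRing.LambdaOps KX] (PX : LambdaRing.PosStructure KX) (φX : SGA6.Kvb X →+ KX) (hKX : KRR.IsModel X KX PX φX)
    (KY : Type v) [CommRing KY] [LambdaRing.LambdaOps KY] (PY : LambdaRing.PosStructure KY) (φY : SGA6.Kvb Y →+ KY) (hKY : KRR.IsModel Y KY PY φY)
    (KZ : Type v) [CommRing KZ] [LambdaRing.LambdaOps KZ] (PZ : LambdaRing.PosStructure KZ) (φZ : SGA6.Kvb Z →+ KZ) (hKZ : KRR.IsModel Z KZ PZ φZ)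
    (K₁ : Type v) [CommRing K₁] [LambdaRing.LambdaOps K₁] (P₁ : LambdaRing.PosStructure K₁) (φ₁ : SGA6.Kvb (KRR.PY n Y) →+ K₁) (hK₁ : KRR.IsModel (KRR.PY n Y) K₁ P₁ φ₁)
    (K₂ : Type v) [CommRing K₂] [LambdaRing.LambdaOps K₂] (P₂ : LambdaRing.PosStructure K₂) (φ₂ : SGA6.Kvb (KRR.PY m Z) →+ K₂) (hK₂ : KRR.IsModel (KRR.PY m Z) K₂ P₂ φ₂)
    (K₃ : Type v) [CommRing K₃] [LambdaRing.LambdaOps K₃] (P₃ : LambdaRing.PosStructure K₃) (φ₃ : SGA6.Kvb (KRR.PY l Z) →+ K₃) (hK₃ : KRR.IsModel (KRR.PY l Z) K₃ P₃ φ₃)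
    (a₁ : KX →+ K₁) (ha₁ : KRR.IsPushCl i φX φ₁ a₁) (b₁ : K₁ →+ KY) (hb₁ : KRR.IsPushPr n Y φ₁ φY b₁)
    (a₂ : KY →+ K₂) (ha₂ : KRR.IsPushCl j φY φ₂ a₂) (b₂ : K₂ →+ KZ) (hb₂ : KRR.IsPushPr m Z φ₂ φZ b₂)
    (a₃ : KX →+ K₃) (ha₃ : KRR.IsPushCl k φX φ₃ a₃) (b₃ : K₃ →+ KZ) (hb₃ : KRR.IsPushPr l Z φ₃ φZ b₃) :
    b₃.comp a₃ = (b₂.comp a₂).comp (b₁.comp a₁) := by
  classical
  haveI : IsClosedImmersion i := hi.1
  haveI : IsClosedImmersion j := hj.1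
  haveI : IsClosedImmersion k := hk.1
  haveI : IsNoetherian X :=
    { toIsLocallyNoetherian := LocallyOfFiniteType.isLocallyNoetherian i
      toCompactSpace := QuasiCompact.compactSpace_of_compactSpace i }
  -- enough locally free modules
  have hB : KRR.HasEnoughLocFree (KRR.PY m Z) := (hstarZ m).1
  have hPnB : KRR.HasEnoughLocFree (KRR.PY n (KRR.PY m Z)) := (hstarZ n).2 m
  have hPlB : KRR.HasEnoughLocFree (KRR.PY l (KRR.PY m Z)) := (hstarZ l).2 m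
  have hPlZ : KRR.HasEnoughLocFree (KRR.PY l Z) := (hstarZ l).1
  have hPmPlZ : KRR.HasEnoughLocFree (KRR.PY m (KRR.PY l Z)) := (hstarZ m).2 l
  have hPnY : KRR.HasEnoughLocFree (KRR.PY n Y) := (hstarY n).1
  have hW : KRR.HasEnoughLocFree (KRR.PY n (KRR.PY l (KRR.PY m Z))) :=
    Groth.Agent.Lib.Helper20.KIndep.hasEnoughLocFree_PY n _ hPlB
  have hW' : KRR.HasEnoughLocFree (KRR.PY l (KRR.PY n (KRR.PY m Z))) :=
    Groth.Agent.Lib.Helper20.KIndep.hasEnoughLocFree_PY l _ hPnB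
  -- the morphisms
  have hjt := Groth.Agent.Lib.Helper20.RegImmFlatBC.isRegularClosedImmersion_projSpaceMap n j hj
  haveI := hjt.1
  have hu : Mor2.IsRegularClosedImmersion (i ≫ KRR.projSpaceMap n j) :=
    Groth.Agent.S1661.result i (KRR.projSpaceMap n j) hi hjt
  haveI := hu.1
  have hcomm' : (f ≫ j) ≫ KRR.pr m Z = k ≫ KRR.pr l Z := by
    rw [Category.assoc, hg, hfg]
  have hs := Groth.Agent.Lib.Helper20.SwapPP.sec_pr m
    ((f ≫ j) ≫ Groth.Agent.Lib.Helper20.KosPY.q1 m Z)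
  have hsreg := Groth.Agent.Lib.Helper20.SectionReg.isRegularClosedImmersion_section _ hs
  haveI := hsreg.1
  have hkt := Groth.Agent.Lib.Helper20.RegImmFlatBC.isRegularClosedImmersion_projSpaceMap m k hk
  haveI := hkt.1
  have ht' : Mor2.IsRegularClosedImmersion
      (Groth.Agent.Lib.Helper20.SwapPP.sec m ((f ≫ j) ≫ Groth.Agent.Lib.Helper20.KosPY.q1 m Z) ≫
        KRR.projSpaceMap m k) := Groth.Agent.S1661.result _ _ hsreg hkt
  haveI := ht'.1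
  have hσ : Mor2.IsRegularClosedImmersion (Groth.Agent.Lib.Helper20.SwapPP.swap m l Z) :=
    Groth.Agent.Lib.helper5.CMSliceSch.isRegularClosedImmersion_of_isIso _
  haveI := hσ.1
  have ht : Mor2.IsRegularClosedImmersion
      ((Groth.Agent.Lib.Helper20.SwapPP.sec m ((f ≫ j) ≫ Groth.Agent.Lib.Helper20.KosPY.q1 m Z) ≫
        KRR.projSpaceMap m k) ≫ Groth.Agent.Lib.Helper20.SwapPP.swap m l Z) :=
    Groth.Agent.S1661.result _ _ ht' hσ
  haveI := ht.1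
  have hcommB : (i ≫ KRR.projSpaceMap n j) ≫ KRR.pr n (KRR.PY m Z) =
      ((Groth.Agent.Lib.Helper20.SwapPP.sec m ((f ≫ j) ≫ Groth.Agent.Lib.Helper20.KosPY.q1 m Z) ≫
        KRR.projSpaceMap m k) ≫ Groth.Agent.Lib.Helper20.SwapPP.swap m l Z) ≫
        KRR.pr l (KRR.PY m Z) := by
    rw [Category.assoc, Groth.Agent.Lib.Helper20.FibreReg.projSpaceMap_pr, ← Category.assoc, hf,
      Category.assoc _ (Groth.Agent.Lib.Helper20.SwapPP.swap m l Z),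
      Groth.Agent.Lib.Helper20.SwapPP.swap_pr]
    exact (Groth.Agent.Lib.Helper20.SwapPP.emb_projSpaceMap (f ≫ j) k hcomm').symm
  have hPmX := Groth.Agent.Lib.Helper20.ELFClosed.hasEnoughLocFree_of_isClosedImmersion
    (KRR.projSpaceMap m k) hPmPlZ
  obtain ⟨ci⟩ := Groth.Agent.Lib.Helper20.PushClK.nonempty_ctx i hi
  obtain ⟨cj⟩ := Groth.Agent.Lib.Helper20.PushClK.nonempty_ctx j hj
  obtain ⟨ck⟩ := Groth.Agent.Lib.Helper20.PushClK.nonempty_ctx k hk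
  obtain ⟨cjt⟩ := Groth.Agent.Lib.Helper20.PushClK.nonempty_ctx _ hjt
  obtain ⟨cu⟩ := Groth.Agent.Lib.Helper20.PushClK.nonempty_ctx _ hu
  obtain ⟨cs⟩ := Groth.Agent.Lib.Helper20.PushClK.nonempty_ctx _ hsreg
  obtain ⟨ckt⟩ := Groth.Agent.Lib.Helper20.PushClK.nonempty_ctx _ hkt
  obtain ⟨ct'⟩ := Groth.Agent.Lib.Helper20.PushClK.nonempty_ctx _ ht'
  obtain ⟨cσ⟩ := Groth.Agent.Lib.Helper20.PushClK.nonempty_ctx _ hσ
  obtain ⟨ct⟩ := Groth.Agent.Lib.Helper20.PushClK.nonempty_ctx _ ht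
  -- the key identity on `Kvb`
  have key : ∀ x : SGA6.Kvb X,
      Groth.Agent.Lib.Helper20.KPr.prK l Z (ck.pushK hPlZ x) =
        Groth.Agent.Lib.Helper20.KPr.prK m Z (cj.pushK hB
          (Groth.Agent.Lib.Helper20.KPr.prK n Y (ci.pushK hPnY x))) := by
    intro x
    have e1 : cj.pushK hB (Groth.Agent.Lib.Helper20.KPr.prK n Y (ci.pushK hPnY x)) =
        Groth.Agent.Lib.Helper20.KPr.prK n (KRR.PY m Z) (cu.pushK hPnB x) := by
      rw [Groth.Agent.Lib.Helper20.KPushCl.pushCl_pushPr_K j cj cjt hB hPnB,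
        ← Groth.Agent.Lib.Helper20.KIndep.pushK_comp ci cjt cu hPnY hPnB]
    have e2 : Groth.Agent.Lib.Helper20.KPr.prK n (KRR.PY m Z) (cu.pushK hPnB x) =
        Groth.Agent.Lib.Helper20.KPr.prK l (KRR.PY m Z) (ct.pushK hPlB x) :=
      Groth.Agent.Lib.Helper20.KIndep.indep_K _ _ hu ht hcommB hPnB hPlB hW hW' hKX cu ct x
    have e3 : ct.pushK hPlB x =
        Groth.Agent.Lib.Helper20.Fubini.sigK (Groth.Agent.Lib.Helper20.SwapPP.swap m l Z)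
          (ct'.pushK hPmPlZ x) := by
      rw [Groth.Agent.Lib.Helper20.KIndep.pushK_comp ct' cσ ct hPmPlZ hPlB,
        Groth.Agent.Lib.Helper20.KIndep.pushK_iso _ cσ hPlB]
    have e4 : Groth.Agent.Lib.Helper20.KPr.prK m (KRR.PY l Z) (ct'.pushK hPmPlZ x) =
        ck.pushK hPlZ x := by
      rw [Groth.Agent.Lib.Helper20.KIndep.pushK_comp cs ckt ct' hPmX hPmPlZ]
      exact Groth.Agent.Lib.Helper20.KIndep.stepA_K k _ ck cs ckt hPlZ hPmPlZ hPmX hKX x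
    rw [e1, e2, e3, ← Groth.Agent.Lib.Helper20.Fubini.fubini m l Z, e4]
  have ha₁' := (Groth.Agent.Lib.Helper20.KPushCl.isPushCl_iff' ci hPnY φX φ₁ a₁).1 ha₁
  have ha₂' := (Groth.Agent.Lib.Helper20.KPushCl.isPushCl_iff' cj hB φY φ₂ a₂).1 ha₂
  have ha₃' := (Groth.Agent.Lib.Helper20.KPushCl.isPushCl_iff' ck hPlZ φX φ₃ a₃).1 ha₃
  have hb₁' := (Groth.Agent.Lib.Helper20.KPr.isPushPr_iff φ₁ φY b₁).1 hb₁
  have hb₂' := (Groth.Agent.Lib.Helper20.KPr.isPushPr_iff φ₂ φZ b₂).1 hb₂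
  have hb₃' := (Groth.Agent.Lib.Helper20.KPr.isPushPr_iff φ₃ φZ b₃).1 hb₃
  ext z
  obtain ⟨x, rfl⟩ := hKX.bijective.2 z
  show b₃ (a₃ (φX x)) = b₂ (a₂ (b₁ (a₁ (φX x))))
  rw [ha₁', hb₁', ha₂', hb₂', ha₃', hb₃', key]

end Groth.Agent.S3768
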