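import Groth.Statements.S3780
import Groth.Agent.Lib.Helper3.LamRing2

set_option autoImplicit false
universe v u
open CategoryTheory CategoryTheory.Limits AlgebraicGeometry
attribute [local instance] HasDerivedCategory.standard
open KRR

namespace Groth.Agent.S3780

open Groth.Agent.Lib.helper3.LamRing

/-- Let K be a λ-ring with positive structure admitting a splitting, e a positive element of
augmentation ε(e) = r + 1, K_e = K[T]/(p_e(T)) the elementary extension of K with ℓ the class of T,
and f : K_e → K a K-linear functional with f(ℓ^i) = σ^i(e) for i ≤ r. For any λ-operations on K_e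
extending those of K with λ^i(ℓ) = 0 for i ≥ 2, and q = e − ℓ ∈ K_e, one has f(λ^0(q)) = 1 and
f(λ^i(q)) = 0 for all i ≥ 1; that is, f(λ_t(q)) = 1. -/
theorem result (K : Type v) [CommRing K] [LambdaRing.LambdaOps K] (P : LambdaRing.PosStructure K) (hK : LambdaRing.HasSplitting K P) (e : K) (he : e ∈ P.pos) (r : ℕ) (hr : P.aug e = r + 1)
    (inst : LambdaRing.LambdaOps (AdjoinRoot (KRR.extPoly P e)))
    (hext : ∀ (i : ℕ) (x : K), @LambdaRing.LambdaOps.lam _ _ inst i (AdjoinRoot.of (KRR.extPoly P e) x) =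
      AdjoinRoot.of (KRR.extPoly P e) (LambdaRing.LambdaOps.lam i x))
    (hroot : ∀ i : ℕ, 2 ≤ i → @LambdaRing.LambdaOps.lam _ _ inst i (AdjoinRoot.root (KRR.extPoly P e)) = 0)
    (f : AdjoinRoot (KRR.extPoly P e) →ₗ[K] K)
    (hf : ∀ i : ℕ, i ≤ r → f (AdjoinRoot.root (KRR.extPoly P e) ^ i) = KRR.sigma i e) (i : ℕ) :
    f (@LambdaRing.LambdaOps.lam _ _ inst i (AdjoinRoot.of (KRR.extPoly P e) e - AdjoinRoot.root (KRR.extPoly P e))) =
      if i = 0 then 1 else 0 := by
  classical
  have hA := functional_root_pow P he r hr f hf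
  set ℓ := AdjoinRoot.root (KRR.extPoly P e) with hℓ
  set q := AdjoinRoot.of (KRR.extPoly P e) e - ℓ with hq
  -- Step 1
  have step1 : ∀ k : ℕ, AdjoinRoot.of (KRR.extPoly P e) (LambdaRing.LambdaOps.lam (k + 1) e) =
      @LambdaRing.LambdaOps.lam _ _ inst (k + 1) q + @LambdaRing.LambdaOps.lam _ _ inst k q * ℓ := by
    intro k
    have h := @LambdaRing.LambdaOps.lam_add _ _ inst (k + 1) q ℓ
    rw [hq, sub_add_cancel, hext, ← hq, Finset.sum_range_succ, Finset.sum_range_succ] at h
    have hz : ∑ x ∈ Finset.range k, @LambdaRing.LambdaOps.lam _ _ inst x q *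
        @LambdaRing.LambdaOps.lam _ _ inst (k + 1 - x) ℓ = 0 := by
      refine Finset.sum_eq_zero fun x hx => ?_
      have hx' := Finset.mem_range.mp hx
      rw [hroot _ (by omega), mul_zero]
    rw [hz, zero_add, Nat.sub_self, Nat.add_sub_cancel_left, @LambdaRing.LambdaOps.lam_zero _ _ inst,
      @LambdaRing.LambdaOps.lam_one _ _ inst, mul_one] at h
    rw [h, add_comm]
  -- Step 2
  have step2 : ∀ k : ℕ, @LambdaRing.LambdaOps.lam _ _ inst k q =
      ∑ j ∈ Finset.range (k + 1), ((-1 : K) ^ (k - j) * LambdaRing.LambdaOps.lam j e) • ℓ ^ (k - j) := by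
    intro k
    induction k with
    | zero =>
      rw [@LambdaRing.LambdaOps.lam_zero _ _ inst]
      simp [LambdaRing.LambdaOps.lam_zero]
    | succ k ih =>
      have h := step1 k
      have h' : @LambdaRing.LambdaOps.lam _ _ inst (k + 1) q =
          AdjoinRoot.of (KRR.extPoly P e) (LambdaRing.LambdaOps.lam (k + 1) e) -
            @LambdaRing.LambdaOps.lam _ _ inst k q * ℓ := by
        rw [h]; ring
      rw [h', ih, Finset.sum_range_succ _ (k + 1), Nat.sub_self, pow_zero, pow_zero, one_mul,
        Finset.sum_mul, Algebra.smul_def, AdjoinRoot.algebraMap_eq, mul_one, sub_eq_add_neg,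
        add_comm, ← Finset.sum_neg_distrib]
      congr 1
      refine Finset.sum_congr rfl fun j hj => ?_
      have hj' := Finset.mem_range.mp hj
      have e1 : k + 1 - j = (k - j) + 1 := by omega
      rw [e1, pow_succ, pow_succ, smul_mul_assoc, ← neg_smul]
      congr 1
      ring
  rw [step2 i, map_sum]
  simp only [map_smul, hA, smul_eq_mul]
  have hsign : (if i = 0 then (1 : K) else 0) = (-1 : K) ^ i * (if i = 0 then (1 : K) else 0) := by
    split_ifs with h
    · subst h; simp
    · simp
  rw [hsign, ← sigma_rec e i, Finset.mul_sum]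
  refine Finset.sum_congr rfl fun j hj => ?_
  have hj' := Finset.mem_range.mp hj
  have e1 : (-1 : K) ^ (i - j) = (-1 : K) ^ i * (-1 : K) ^ j := by
    have : i = (i - j) + j := by omega
    conv_rhs => rw [this, pow_add, mul_assoc, ← pow_add, ← two_mul, pow_mul]
    simp
  rw [e1]
  ring

end Groth.Agent.S3780
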