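import Groth.Statements.S3781
import Groth.Agent.Lib.Helper3.DetLib
import Groth.Agent.S3290

set_option autoImplicit false
universe v u
open CategoryTheory CategoryTheory.Limits AlgebraicGeometry
attribute [local instance] HasDerivedCategory.standard
open KRR

namespace Groth.Agent.S3781

open Groth.Agent.Lib.helper3.GammaLib Groth.Agent.Lib.helper3.AdamsOp

theorem aug_top (K : Type v) [CommRing K] [LambdaRing.LambdaOps K] (P : LambdaRing.PosStructure K)
    (hK : LambdaRing.HasSplitting K P) {e : K} (he : e ∈ P.pos) : P.aug (top P e) = 1 := by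
  obtain ⟨L, hL, f, hf, s, hs, hse⟩ := exists_splitting P hK e he
  obtain ⟨m, w, hw, hws⟩ := exists_fin_family L.posStr s hs
  have hfe : f e = ∑ i, w i := by rw [hws, hse]
  rw [← hf.aug_comp, map_top P hf, hfe, top_sum_lines L.posStr w hw, map_prod]
  exact Finset.prod_eq_one fun i _ => (hw i).2

theorem top_sub_mem (K : Type v) [CommRing K] [LambdaRing.LambdaOps K] (P : LambdaRing.PosStructure K)
    {e : K} (he : e ∈ P.pos) :
    (e - ((P.aug e).toNat : K)) - (top P e - 1) ∈ LambdaRing.gammaFiltration P 2 := by
  have hpos := P.aug_pos e he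
  have haug : P.aug (e - ((P.aug e).toNat : K)) = 0 := by
    rw [map_sub, map_natCast]
    omega
  have h := congrArg (Polynomial.eval 1) (Groth.Agent.S3290.result K P e he)
  simp only [Polynomial.eval_finsetSum, Polynomial.eval_mul, Polynomial.eval_C, Polynomial.eval_pow,
    Polynomial.eval_X, Polynomial.eval_sub, Polynomial.eval_one, one_pow, mul_one, sub_self] at h
  rw [Finset.sum_eq_single (P.aug e).toNat (f := fun i => LambdaRing.LambdaOps.lam i e * 0 ^ ((P.aug e).toNat - i))] at h
  · rw [Nat.sub_self, pow_zero, mul_one] at h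
    have hr : 1 ≤ (P.aug e).toNat := by omega
    obtain ⟨r, hr'⟩ := Nat.exists_eq_add_of_le' hr
    rw [top, ← h, hr', Finset.sum_range_succ', Finset.sum_range_succ', gamma_zero_left,
      zero_add, gamma_one_left, ← hr']
    have e1 : (e - ((P.aug e).toNat : K)) - (∑ k ∈ Finset.range r,
        LambdaRing.gamma (k + 1 + 1) (e - ((P.aug e).toNat : K)) + (e - ((P.aug e).toNat : K)) + 1 - 1) =
        -∑ k ∈ Finset.range r, LambdaRing.gamma (k + 1 + 1) (e - ((P.aug e).toNat : K)) := by ring
    rw [e1]
    apply AddSubgroup.neg_mem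
    refine AddSubgroup.sum_mem _ fun k _ => ?_
    exact gammaFiltration_antitone P (by omega) (gamma_mem P haug (k + 1 + 1))
  · intro i hi hne
    rw [Finset.mem_range] at hi
    rw [zero_pow (by omega), mul_zero]
  · intro hn
    exact absurd (Finset.mem_range.mpr (Nat.lt_succ_self _)) hn

/-- Let K be a λ-ring with positive structure having the splitting property, L its group of line
elements and F^n the γ-filtration. Assume moreover that the inverse of a line element is a line
element and that for a positive e with ε(e) = r the element det e = λ^r(e) is positive (hence a line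
element); these are part of the published setting but are not implied by the axioms used here, so
they are hypotheses. Then u ↦ u − 1 induces an isomorphism L ≅ Gr^1 K = F^1/F^2: every x ∈ F^1 is
congruent modulo F^2 to u − 1 for some line element u, and line elements u, v with u − v ∈ F^2 are
equal. -/
theorem result (K : Type v) [CommRing K] [LambdaRing.LambdaOps K] (P : LambdaRing.PosStructure K) (hK : LambdaRing.HasSplitting K P)
    (hLinv : ∀ w : K, P.IsLine w → ∃ w' : K, P.IsLine w' ∧ w * w' = 1)
    (hdet : ∀ e : K, e ∈ P.pos → LambdaRing.LambdaOps.lam (P.aug e).toNat e ∈ P.pos) :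
    (∀ x : K, x ∈ LambdaRing.gammaFiltration P 1 → ∃ u : K, P.IsLine u ∧ x - (u - 1) ∈ LambdaRing.gammaFiltration P 2) ∧
    ∀ u v : K, P.IsLine u → P.IsLine v → u - v ∈ LambdaRing.gammaFiltration P 2 → u = v := by
  constructor
  · intro x hx
    have hx0 := filtration_one_le_aug hK hx
    obtain ⟨e, g, he, hg, rfl⟩ := exists_pos_sub_of_aug hx0
    have ha : P.IsLine (top P e) := ⟨hdet e he, aug_top K P hK he⟩
    have hb : P.IsLine (top P g) := ⟨hdet g hg, aug_top K P hK hg⟩
    obtain ⟨b', hb', hbb'⟩ := hLinv _ hb
    refine ⟨top P e * b', isLine_mul' P ha hb', ?_⟩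
    have hF1 : ∀ w : K, P.IsLine w → w - 1 ∈ LambdaRing.gammaFiltration P 1 := by
      intro w hw
      apply mem_filtration_one_of_aug
      rw [map_sub, hw.2, map_one, sub_self]
    have h1 := top_sub_mem K P he
    have h2 := top_sub_mem K P hg
    have h3 : (top P e - 1) * (b' - 1) ∈ LambdaRing.gammaFiltration P 2 :=
      mul_mem_filtration P (hF1 _ ha) (hF1 _ hb')
    have h4 : (top P g - 1) * (b' - 1) ∈ LambdaRing.gammaFiltration P 2 :=
      mul_mem_filtration P (hF1 _ hb) (hF1 _ hb')
    have e1 : (e - ((P.aug e).toNat : K)) - (g - ((P.aug g).toNat : K)) - (top P e * b' - 1) =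
        ((e - ((P.aug e).toNat : K)) - (top P e - 1)) - ((g - ((P.aug g).toNat : K)) - (top P g - 1)) -
        ((top P e - 1) * (b' - 1) - (top P g - 1) * (b' - 1)) := by
      linear_combination (-1 : K) * hbb'
    rw [e1]
    exact AddSubgroup.sub_mem _ (AddSubgroup.sub_mem _ h1 h2) (AddSubgroup.sub_mem _ h3 h4)
  · intro u w hu hw huw
    obtain ⟨w', hw', hww'⟩ := hLinv w hw
    have h1 : u * w' - 1 ∈ LambdaRing.gammaFiltration P 2 := by
      have := smul_mem_filtration P 2 w' huw
      have e2 : w' * (u - w) = u * w' - 1 := by linear_combination (-1 : K) * hww'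
      rwa [e2] at this
    have h2 := line_eq_one_of_sub_mem hK (isLine_mul' P hu hw') h1
    calc u = u * (w * w') := by rw [hww', mul_one]
      _ = (u * w') * w := by ring
      _ = w := by rw [h2, one_mul]

end Groth.Agent.S3781
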