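import Groth.Statements.S3791
import Groth.Agent.Lib.Helper3.LamRing

set_option autoImplicit false
universe v u
open CategoryTheory CategoryTheory.Limits AlgebraicGeometry
attribute [local instance] HasDerivedCategory.standard
open KRR

namespace Groth.Agent.S3791

open Groth.Agent.Lib.helper3.LamRing

/-- Let K be a λ-ring with positive structure P and u an ample line element (for every x, u^n x is a
positive element minus a natural number for all large n). Then for every line element v, the element
v - 1 is nilpotent. -/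
theorem result (K : Type v) [CommRing K] [LambdaRing.LambdaOps K] (P : LambdaRing.PosStructure K)
    (u : K) (hu : KRR.IsAmpleElt P u) (w : K) (hw : P.IsLine w) : IsNilpotent (w - 1) := by
  obtain ⟨hul, hamp⟩ := hu
  obtain ⟨n₀, h₀⟩ := hamp (-w)
  obtain ⟨n₁, h₁⟩ := hamp (-1)
  set n := max n₀ n₁ with hn
  obtain ⟨e₀, m₀, he₀, hm₀⟩ := h₀ n (le_max_left _ _)
  obtain ⟨e₁, m₁, he₁, hm₁⟩ := h₁ n (le_max_right _ _)
  have hline : P.IsLine (u ^ n) := isLine_pow P hul n
  have hnil₀ : IsNilpotent (u ^ n * w - 1) :=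
    isNilpotent_line_sub_one P he₀ (isLine_mul P hline hw) m₀ (by
      have : (m₀ : K) = e₀ - u ^ n * (-w) := by rw [hm₀]; ring
      rw [this]; ring)
  have hnil₁ : IsNilpotent (u ^ n - 1) :=
    isNilpotent_line_sub_one P he₁ hline m₁ (by
      have : (m₁ : K) = e₁ - u ^ n * (-1) := by rw [hm₁]; ring
      rw [this]; ring)
  have hcomm : Commute (u ^ n * w - 1) (u ^ n - 1) := Commute.all _ _
  have hsub : IsNilpotent (u ^ n * (w - 1)) := by
    have h := hcomm.isNilpotent_sub hnil₀ hnil₁
    have heq : u ^ n * w - 1 - (u ^ n - 1) = u ^ n * (w - 1) := by ring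
    rwa [heq] at h
  obtain ⟨uu, huu⟩ := isUnit_of_isLine P hline
  obtain ⟨k, hk⟩ := hsub
  refine ⟨k, ?_⟩
  rw [mul_pow, ← huu] at hk
  have := congrArg (fun z => (↑(uu⁻¹ ^ k) : K) * z) hk
  simp only [mul_zero] at this
  rwa [← mul_assoc, ← Units.val_pow_eq_pow_val, ← Units.val_mul, ← mul_pow, inv_mul_cancel, one_pow,
    Units.val_one, one_mul] at this

end Groth.Agent.S3791
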