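import Groth.Statements.S3795
import Groth.Agent.Lib.Helper3.GammaAdams

set_option autoImplicit false
universe v u
open CategoryTheory CategoryTheory.Limits AlgebraicGeometry
attribute [local instance] HasDerivedCategory.standard
open KRR

namespace Groth.Agent.S3795

open Groth.Agent.Lib.helper3.GammaLib Groth.Agent.Lib.helper3.AdamsOp

/-- Let K be a λ-ring with positive structure having the splitting property, j ≥ 2, n ≥ 0 and x ∈ K. If
ψ^j(x) - j^n x lies in ℚF^{n+1} (some positive multiple lies in F^{n+1}, γ-filtration), then x lies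
in ℚF^n (some positive multiple of x lies in F^n). -/
theorem result (K : Type v) [CommRing K] [LambdaRing.LambdaOps K] (P : LambdaRing.PosStructure K) (hK : LambdaRing.HasSplitting K P) (j : ℕ) (hj : 2 ≤ j) (n : ℕ) (x : K)
    (hx : ∃ N : ℕ, 1 ≤ N ∧ (N : K) * (LambdaRing.adams P j x - (j : K) ^ n * x) ∈ LambdaRing.gammaFiltration P (n + 1)) :
    ∃ N : ℕ, 1 ≤ N ∧ (N : K) * x ∈ LambdaRing.gammaFiltration P n := by
  obtain ⟨N₀, hN₀, hN₀x⟩ := hx
  have key : ∀ m : ℕ, m ≤ n → ∃ N : ℕ, 1 ≤ N ∧ (N : K) * x ∈ LambdaRing.gammaFiltration P m := by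
    intro m
    induction m with
    | zero =>
      intro _
      refine ⟨1, le_rfl, ?_⟩
      rw [gammaFiltration_zero]
      trivial
    | succ m ih =>
      intro hm
      obtain ⟨Nm, hNm, hNmx⟩ := ih (by omega)
      have h1 := adams_sub_pow_mul_mem hK (j := j) m hNmx
      have hnat : LambdaRing.adams P j ((Nm : K) * x) = (Nm : K) * LambdaRing.adams P j x := by
        rw [adams_mul P hK]
        congr 1
        exact map_natCast (adamsHom P hK j) Nm
      rw [hnat] at h1
      have h2 : (N₀ : K) * (LambdaRing.adams P j x - (j : K) ^ n * x) ∈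
          LambdaRing.gammaFiltration P (m + 1) :=
        gammaFiltration_antitone P (by omega) hN₀x
      have hlt : j ^ m < j ^ n := Nat.pow_lt_pow_right (by omega) (by omega)
      refine ⟨N₀ * Nm * (j ^ n - j ^ m), ?_, ?_⟩
      · have : 1 ≤ j ^ n - j ^ m := by omega
        exact Nat.one_le_iff_ne_zero.mpr (by positivity)
      · have e : ((N₀ * Nm * (j ^ n - j ^ m) : ℕ) : K) * x =
            (N₀ : K) * ((Nm : K) * LambdaRing.adams P j x - (j : K) ^ m * ((Nm : K) * x)) -
            (Nm : K) * ((N₀ : K) * (LambdaRing.adams P j x - (j : K) ^ n * x)) := by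
          rw [Nat.cast_mul, Nat.cast_mul, Nat.cast_sub hlt.le, Nat.cast_pow, Nat.cast_pow]
          ring
        rw [e]
        exact AddSubgroup.sub_mem _ (smul_mem_filtration P _ _ h1) (smul_mem_filtration P _ _ h2)
  exact key n le_rfl

end Groth.Agent.S3795
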