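import Groth.Statements.S3800
import Groth.Agent.Lib.Helper20.RegBC2
import Groth.Agent.Lib.Helper20.KosPY7

set_option autoImplicit false
universe v u
open CategoryTheory CategoryTheory.Limits AlgebraicGeometry
attribute [local instance] HasDerivedCategory.standard
open KRR

namespace Groth.Agent.S3800

/-- Case of a projection (excess dimension 0), for the trivial bundle: let Y, Y₁ be connected Noetherian
schemes, φ : Y₁ ⟶ Y, p : P^n_Y ⟶ Y and p₁ : P^n_{Y₁} ⟶ Y₁ the projections and ψ : P^n_{Y₁} ⟶ P^n_Y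
the induced morphism. With models of the four K-rings, pull-backs φ^K, ψ^K and push-forwards p_K,
(p₁)_K (via regular sheaves): φ^K (p_K z) = (p₁)_K (ψ^K z) for every z ∈ K(P^n_Y). -/
theorem result (n : ℕ) {Y Y₁ : Scheme.{u}} [IsNoetherian Y] [ConnectedSpace ↥Y] [IsNoetherian Y₁] [ConnectedSpace ↥Y₁]
    (φ : Y₁ ⟶ Y)
    (KP : Type v) [CommRing KP] [LambdaRing.LambdaOps KP] (PP : LambdaRing.PosStructure KP) (φP : SGA6.Kvb (KRR.PY n Y) →+ KP) (hKP : KRR.IsModel (KRR.PY n Y) KP PP φP)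
    (KY : Type v) [CommRing KY] [LambdaRing.LambdaOps KY] (PY : LambdaRing.PosStructure KY) (φY : SGA6.Kvb Y →+ KY) (hKY : KRR.IsModel Y KY PY φY)
    (KP₁ : Type v) [CommRing KP₁] [LambdaRing.LambdaOps KP₁] (PP₁ : LambdaRing.PosStructure KP₁) (φP₁ : SGA6.Kvb (KRR.PY n Y₁) →+ KP₁) (hKP₁ : KRR.IsModel (KRR.PY n Y₁) KP₁ PP₁ φP₁)
    (KY₁ : Type v) [CommRing KY₁] [LambdaRing.LambdaOps KY₁] (PY₁ : LambdaRing.PosStructure KY₁) (φY₁ : SGA6.Kvb Y₁ →+ KY₁) (hKY₁ : KRR.IsModel Y₁ KY₁ PY₁ φY₁)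
    (gφ : KY →+ KY₁) (hgφ : KRR.IsPull φ φY φY₁ gφ)
    (gψ : KP →+ KP₁) (hgψ : KRR.IsPull (KRR.projSpaceMap n φ) φP φP₁ gψ)
    (b : KP →+ KY) (hb : KRR.IsPushPr n Y φP φY b) (b₁ : KP₁ →+ KY₁) (hb₁ : KRR.IsPushPr n Y₁ φP₁ φY₁ b₁)
    (z : KP) : gφ (b z) = b₁ (gψ z) := by
  have hQ0 : ∀ N : Y₁.Modules, IsZero N → KRR.vbP Y₁ N :=
    fun N hN => Groth.Agent.Lib.helper25.FLFKernel.isFinLocFree_of_isZero hN
  have hQiso : ∀ M N : Y₁.Modules, (M ≅ N) → KRR.vbP Y₁ M → KRR.vbP Y₁ N :=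
    fun M N e h => Groth.Agent.Lib.helper16.FLF.isFinLocFree_of_iso e h
  have hsq : KRR.projSpaceMap n φ ≫ KRR.pr n Y = KRR.pr n Y₁ ≫ φ :=
    Groth.Agent.Lib.Helper20.FibreReg.projSpaceMap_pr n φ
  let S : AddSubgroup KP := (gφ.comp b).eqLocus (b₁.comp gψ)
  have hz : z ∈ S := by
    refine Groth.Agent.Lib.Helper20.KosPY.model_induction hKP S (fun G hG hreg => ?_) z
    show gφ (b (φP (KRR.cl (KRR.PY n Y) G))) = b₁ (gψ (φP (KRR.cl (KRR.PY n Y) G)))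
    have hpG : FlatMod.IsFinLocFree ((Scheme.Modules.pushforward (KRR.pr n Y)).obj G) :=
      Groth.Agent.S3756.result n Y G hG hreg
    have hψG : FlatMod.IsFinLocFree ((Scheme.Modules.pullback (KRR.projSpaceMap n φ)).obj G) :=
      Groth.Agent.Lib.helper16.FLF.isFinLocFree_pullback _ hG
    have hregψ : KRR.IsRegSheaf n Y₁ ((Scheme.Modules.pullback (KRR.projSpaceMap n φ)).obj G) :=
      Groth.Agent.Lib.Helper20.RegBC.isRegSheaf_pullback_projSpaceMap φ G hG hreg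
    rw [hb G hG hreg, hgφ _ hpG, hgψ G hG, hb₁ _ hψG hregψ]
    congr 1
    haveI : IsIso (KRR.bcMap n φ hsq G) :=
      Groth.Agent.Lib.Helper20.RegBC2.isIso_bcMap φ hsq G hG hreg
    exact Groth.Agent.Lib.helper8.Dev.clSub_iso (KRR.vbP Y₁) hQ0 hQiso
      (asIso (KRR.bcMap n φ hsq G))
  exact hz

end Groth.Agent.S3800
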