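import Groth.Statements.S3802
import Groth.Agent.Lib.Helper3.LamRing3
import Groth.Agent.S3780

set_option autoImplicit false
universe v u
open CategoryTheory CategoryTheory.Limits AlgebraicGeometry
attribute [local instance] HasDerivedCategory.standard
open KRR

namespace Groth.Agent.S3802

open Groth.Agent.Lib.helper3.LamRing

/-- Let K be a λ-ring with positive structure having the splitting property, c positive with ε(c) = r +
1, and K_c = K[T]/(p_c) with generator ℓ, equipped with a λ-structure extending that of K with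
λ^i(ℓ) = 0 for i ≥ 2 and a positive structure making K ⟶ K_c an extension with ℓ a line element and
c - ℓ positive (when r ≥ 1), having the splitting property; let f : K_c ⟶ K be the associated
K-linear functional (f(ℓ^i) = σ^i(c) for i ≤ r). If z ∈ K_c satisfies z (1 - ℓ) = 0, then z = f(z) ·
λ_{-1}(c - ℓ), where λ_{-1}(c - ℓ) = Σ_{i ≤ r} (-1)^i λ^i(c - ℓ). -/
theorem result (K : Type v) [CommRing K] [LambdaRing.LambdaOps K] (P : LambdaRing.PosStructure K) (hK : LambdaRing.HasSplitting K P) (c : K) (hc : c ∈ P.pos) (r : ℕ) (hr : P.aug c = r + 1)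
    (inst : LambdaRing.LambdaOps (AdjoinRoot (KRR.extPoly P c))) (Pc : @LambdaRing.PosStructure _ _ inst)
    (hext : @LambdaRing.IsExtension K _ _ _ _ inst P Pc (AdjoinRoot.of (KRR.extPoly P c)))
    (hroot : ∀ i : ℕ, 2 ≤ i → @LambdaRing.LambdaOps.lam _ _ inst i (AdjoinRoot.root (KRR.extPoly P c)) = 0)
    (hline : @LambdaRing.PosStructure.IsLine _ _ inst Pc (AdjoinRoot.root (KRR.extPoly P c)))
    (hpos : 1 ≤ r → AdjoinRoot.of (KRR.extPoly P c) c - AdjoinRoot.root (KRR.extPoly P c) ∈ (@LambdaRing.PosStructure.pos _ _ inst Pc))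
    (hsplit : @LambdaRing.HasSplitting _ _ inst Pc)
    (f : AdjoinRoot (KRR.extPoly P c) →ₗ[K] K)
    (hf : ∀ i : ℕ, i ≤ r → f (AdjoinRoot.root (KRR.extPoly P c) ^ i) = KRR.sigma i c)
    (z : AdjoinRoot (KRR.extPoly P c)) (hz : z * (1 - AdjoinRoot.root (KRR.extPoly P c)) = 0) :
    z = AdjoinRoot.of (KRR.extPoly P c) (f z) *
      @KRR.lamAlt _ _ inst Pc (AdjoinRoot.of (KRR.extPoly P c) c - AdjoinRoot.root (KRR.extPoly P c)) := by
  classical
  have hm := toNat_aug hr
  have hext' : ∀ (i : ℕ) (x : K), @LambdaRing.LambdaOps.lam _ _ inst i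
      (AdjoinRoot.of (KRR.extPoly P c) x) =
      AdjoinRoot.of (KRR.extPoly P c) (LambdaRing.LambdaOps.lam i x) :=
    fun i x => (hext.isLambdaHom i x).symm
  -- ℓ is a unit
  obtain ⟨lu, hlu⟩ := @isUnit_of_isLine _ _ inst Pc _ hline
  have hlinv : (↑lu⁻¹ : AdjoinRoot (KRR.extPoly P c)) * AdjoinRoot.root (KRR.extPoly P c) = 1 := by
    rw [← hlu, Units.inv_mul]
  set ℓ := AdjoinRoot.root (KRR.extPoly P c) with hℓ
  set q := AdjoinRoot.of (KRR.extPoly P c) c - ℓ with hq
  set linv : AdjoinRoot (KRR.extPoly P c) := ↑lu⁻¹ with hlinvdef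
  -- augmentation of q
  have haugq : (Pc.aug q).toNat = r := by
    have : Pc.aug q = r := by
      rw [hq, map_sub, hext.aug_comp, hline.2, hr]; ring
    rw [this]; omega
  -- Λ
  set Λ := @KRR.lamAlt _ _ inst Pc q with hΛ
  have hΛ' : Λ = ∑ i ∈ Finset.range (r + 1), (-1 : AdjoinRoot (KRR.extPoly P c)) ^ i *
      @LambdaRing.LambdaOps.lam _ _ inst i q := by
    rw [hΛ, KRR.lamAlt, haugq]
  -- f Λ = 1
  have hfΛ : f Λ = 1 := by
    rw [hΛ', map_sum]
    have h1 : ∀ i ∈ Finset.range (r + 1),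
        f ((-1 : AdjoinRoot (KRR.extPoly P c)) ^ i * @LambdaRing.LambdaOps.lam _ _ inst i q) =
        if i = 0 then 1 else 0 := by
      intro i _
      have e1 : (-1 : AdjoinRoot (KRR.extPoly P c)) ^ i * @LambdaRing.LambdaOps.lam _ _ inst i q =
          ((-1 : K) ^ i) • @LambdaRing.LambdaOps.lam _ _ inst i q := by
        rw [Algebra.smul_def, map_pow, map_neg, map_one]
      rw [e1, map_smul, Groth.Agent.S3780.result K P hK c hc r hr inst hext' hroot f hf i]
      split_ifs with h
      · subst h; simp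
      · simp
    rw [Finset.sum_congr rfl h1, Finset.sum_ite_eq' (Finset.range (r + 1)) 0,
      if_pos (Finset.mem_range.mpr (by omega))]
  -- Λ (1 - ℓ) = of (lamAlt P c)
  have htop : @LambdaRing.LambdaOps.lam _ _ inst (r + 1) q = 0 := by
    have := lam_sub_root_top P c inst hext' hroot
    rwa [hm] at this
  have hΛℓ : Λ * (1 - ℓ) = AdjoinRoot.of (KRR.extPoly P c) (KRR.lamAlt P c) := by
    rw [KRR.lamAlt, hm, map_sum, Finset.sum_range_succ', hΛ']
    have h1 : ∀ k ∈ Finset.range (r + 1), AdjoinRoot.of (KRR.extPoly P c)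
        ((-1 : K) ^ (k + 1) * LambdaRing.LambdaOps.lam (k + 1) c) =
        (-1 : AdjoinRoot (KRR.extPoly P c)) ^ (k + 1) *
          @LambdaRing.LambdaOps.lam _ _ inst (k + 1) q +
        (-1 : AdjoinRoot (KRR.extPoly P c)) ^ (k + 1) *
          (@LambdaRing.LambdaOps.lam _ _ inst k q * ℓ) := by
      intro k _
      rw [map_mul, map_pow, map_neg, map_one, lam_sub_root_succ P c inst hext' hroot k, mul_add]
    rw [Finset.sum_congr rfl h1, Finset.sum_add_distrib]
    have h2 : ∑ k ∈ Finset.range (r + 1), (-1 : AdjoinRoot (KRR.extPoly P c)) ^ (k + 1) *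
        @LambdaRing.LambdaOps.lam _ _ inst (k + 1) q +
        AdjoinRoot.of (KRR.extPoly P c) ((-1 : K) ^ 0 * LambdaRing.LambdaOps.lam 0 c) =
        ∑ k ∈ Finset.range (r + 1), (-1 : AdjoinRoot (KRR.extPoly P c)) ^ k *
          @LambdaRing.LambdaOps.lam _ _ inst k q := by
      have h3 := Finset.sum_range_succ' (fun k => (-1 : AdjoinRoot (KRR.extPoly P c)) ^ k *
          @LambdaRing.LambdaOps.lam _ _ inst k q) (r + 1)
      rw [Finset.sum_range_succ, htop, mul_zero, add_zero] at h3
      rw [h3, LambdaRing.LambdaOps.lam_zero, @LambdaRing.LambdaOps.lam_zero _ _ inst]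
      simp
    have h4 : ∑ k ∈ Finset.range (r + 1), (-1 : AdjoinRoot (KRR.extPoly P c)) ^ (k + 1) *
        (@LambdaRing.LambdaOps.lam _ _ inst k q * ℓ) =
        -((∑ k ∈ Finset.range (r + 1), (-1 : AdjoinRoot (KRR.extPoly P c)) ^ k *
          @LambdaRing.LambdaOps.lam _ _ inst k q) * ℓ) := by
      rw [Finset.sum_mul, ← Finset.sum_neg_distrib]
      refine Finset.sum_congr rfl fun k _ => ?_
      ring
    rw [add_right_comm, h2, h4]
    ring
  -- z ℓ = z, hence z linv^j = z and z * of a-combination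
  have hzℓ : z * ℓ = z := by
    have : z * (1 - ℓ) = 0 := hz
    rw [mul_sub, mul_one, sub_eq_zero] at this
    exact this.symm
  have hzpow : ∀ i : ℕ, z * ℓ ^ i = z := by
    intro i
    induction i with
    | zero => rw [pow_zero, mul_one]
    | succ i ih => rw [pow_succ, ← mul_assoc, ih, hzℓ]
  -- p_c(1) z = 0
  have hpz : z * AdjoinRoot.of (KRR.extPoly P c) (KRR.lamAlt P c) = 0 := by
    have hrel := extPoly_root_rel P c
    rw [← hℓ] at hrel
    have h1 := congrArg (fun w => z * w) hrel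
    simp only [mul_zero, Finset.mul_sum, mul_smul_comm, hzpow] at h1
    rw [← Finset.sum_smul, Algebra.smul_def, AdjoinRoot.algebraMap_eq, mul_comm] at h1
    exact h1
  -- z' = of (f z) * Λ
  set z' := AdjoinRoot.of (KRR.extPoly P c) (f z) * Λ with hz'
  have hz'ℓ : z' * ℓ = z' := by
    have h1 : z' * (1 - ℓ) = 0 := by
      rw [hz', mul_assoc, hΛℓ, ← map_mul]
      have h2 : f (z * AdjoinRoot.of (KRR.extPoly P c) (KRR.lamAlt P c)) = 0 := by
        rw [hpz, map_zero]
      rw [mul_comm z, ← AdjoinRoot.algebraMap_eq, ← Algebra.smul_def, map_smul, smul_eq_mul,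
        mul_comm] at h2
      rw [h2, map_zero]
    rw [mul_sub, mul_one, sub_eq_zero] at h1
    exact h1.symm
  have hfz' : f z' = f z := by
    rw [hz', ← AdjoinRoot.algebraMap_eq, ← Algebra.smul_def, map_smul, hfΛ, smul_eq_mul, mul_one]
  have hinvpow : ∀ (w : AdjoinRoot (KRR.extPoly P c)), w * ℓ = w → ∀ j : ℕ, w * linv ^ j = w := by
    intro w hw j
    induction j with
    | zero => rw [pow_zero, mul_one]
    | succ j ih =>
      have h1 : w * linv = w := by
        calc w * linv = (w * ℓ) * linv := by rw [hw]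
          _ = w * (linv * ℓ) := by ring
          _ = w := by rw [hlinv, mul_one]
      rw [pow_succ, ← mul_assoc, ih, h1]
  have hdiff : z - z' = 0 := by
    apply eq_zero_of_functional P r hr hc f hf linv hlinv
    intro j _
    rw [sub_mul, hinvpow z hzℓ j, hinvpow z' hz'ℓ j, map_sub, hfz', sub_self]
  exact sub_eq_zero.mp hdiff

end Groth.Agent.S3802
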