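import Groth.Statements.S3807
import Groth.Agent.LibPP29n
import Mathlib.RingTheory.Localization.BaseChange
-- import your own Groth.Agent.* helpers here

set_option autoImplicit false
universe u
open scoped TensorProduct
attribute [local instance] PP16.mapAlgebra PP16.isScalarTower_mapAlgebra
open PP16

namespace Groth.Agent.S3807

lemma span_range_dn (n : ℕ) (A B : Type u) [CommRing A] [CommRing B] [Algebra A B] :
    Submodule.span B (Set.range (PP16.dn n A B)) = ⊤ := by
  rw [eq_top_iff]
  rintro x -
  obtain ⟨t, rfl⟩ := Ideal.Quotient.mk_surjective x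
  induction t using TensorProduct.induction_on with
  | zero => rw [map_zero]; exact Submodule.zero_mem _
  | tmul b c =>
    have h : (Ideal.Quotient.mk (KaehlerDifferential.ideal A B ^ (n + 1))) (b ⊗ₜ[A] c) =
        b • PP16.dn n A B c := by
      change _ = b • (Ideal.Quotient.mk (KaehlerDifferential.ideal A B ^ (n + 1))) ((1 : B) ⊗ₜ[A] c)
      have h2 : b ⊗ₜ[A] c = b • ((1 : B) ⊗ₜ[A] c) := by
        rw [TensorProduct.smul_tmul', smul_eq_mul, mul_one]
      rw [h2]
      rfl
    rw [h]
    exact Submodule.smul_mem _ _ (Submodule.subset_span ⟨c, rfl⟩)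
  | add x y hx hy => rw [map_add]; exact Submodule.add_mem _ hx hy

lemma augIdeal_pow (n : ℕ) (A B : Type u) [CommRing A] [CommRing B] [Algebra A B] :
    PP16.augIdeal n A B ^ (n + 1) = ⊥ := by
  unfold PP16.augIdeal
  rw [← Ideal.map_pow]
  exact Ideal.map_quotient_self _

lemma dn_sub_mem (n : ℕ) (A B : Type u) [CommRing A] [CommRing B] [Algebra A B] (b : B) :
    PP16.dn n A B b - algebraMap B (PP16.P n A B) b ∈ PP16.augIdeal n A B := by
  have h := KaehlerDifferential.one_smul_sub_smul_one_mem_ideal A b
  exact Ideal.mem_map_of_mem (Ideal.Quotient.mk ((KaehlerDifferential.ideal A B) ^ (n + 1))) h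


/-- Let B be an A-algebra, S a multiplicative subset of B and B' = S⁻¹B. Then the canonical map
S⁻¹P^n_{B/A} → P^n_{B'/A} induced by functoriality is an isomorphism: P^n_{B'/A} is the localization
of P^n_{B/A} at the image of S. -/
theorem result (n : ℕ) (A B B' : Type u) [CommRing A] [CommRing B] [Algebra A B]
    [CommRing B'] [Algebra B B'] [Algebra A B'] [IsScalarTower A B B'] (S : Submonoid B) [IsLocalization S B'] :
    IsLocalization (S.map (algebraMap B (PP16.P n A B))) (PP16.P n A B') := by
  have hbc := Groth.Agent.LibPP29n.isBaseChange_loc n A B B' S (PP16.P n A B) (PP16.dn n A B)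
    (PP16.augIdeal n A B) (IsScalarTower.toAlgHom B (PP16.P n A B) (PP16.P n A B'))
    (augIdeal_pow n A B) (dn_sub_mem n A B) (fun b => PP16.map_dn n A B A B' b)
    (span_range_dn n A B)
  have hpo : Algebra.IsPushout B B' (PP16.P n A B) (PP16.P n A B') := ⟨hbc⟩
  exact (Algebra.isLocalization_iff_isPushout S B').2 hpo.symm

end Groth.Agent.S3807
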