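import Groth.Statements.S3808
import Mathlib

set_option autoImplicit false
universe u
open scoped TensorProduct
open PP16

namespace Groth.Agent.S3808

/-- Let A → B be a ring map, R a multiplicative subset of A, S one of B containing the image of R, and
A' = R⁻¹A, B' = S⁻¹B with the induced map A' → B'. Then the canonical map P^n_{B'/A} → P^n_{B'/A'}
is bijective. -/
theorem result (n : ℕ) (A B A' B' : Type u) [CommRing A] [CommRing B] [Algebra A B]
    [CommRing A'] [CommRing B'] [Algebra A A'] [Algebra B B'] [Algebra A' B'] [Algebra A B']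
    [IsScalarTower A A' B'] [IsScalarTower A B B'] (R : Submonoid A) (S : Submonoid B) [IsLocalization R A']
    [IsLocalization S B'] (hRS : ∀ r ∈ R, algebraMap A B r ∈ S) :
    Function.Bijective (PP16.map n A B' A' B') := by
  have hcompat : TensorProduct.CompatibleSMul A A' B' B' :=
    IsLocalization.tensorProduct_compatibleSMul R A' B' B'
  let e : B' ⊗[A'] B' ≃ₐ[A'] B' ⊗[A] B' := IsLocalization.algebraTensorEquiv R A' B' B'
  have he : ∀ b c : B', e (b ⊗ₜ[A'] c) = b ⊗ₜ[A] c := fun b c => rfl
  have h1 : ∀ t : B' ⊗[A] B', e (PP16.tensorMap A B' A' B' t) = t := by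
    intro t
    induction t using TensorProduct.induction_on with
    | zero => simp
    | tmul b c =>
      rw [PP16.tensorMap_tmul, he]
      simp
    | add x y hx hy => rw [map_add, map_add, hx, hy]
  have h2 : ∀ t : B' ⊗[A'] B', PP16.tensorMap A B' A' B' (e t) = t := by
    intro t
    induction t using TensorProduct.induction_on with
    | zero => simp
    | tmul b c =>
      rw [he, PP16.tensorMap_tmul]
      simp
    | add x y hx hy => rw [map_add, map_add, hx, hy]
  have hI : (KaehlerDifferential.ideal A' B').map (e : B' ⊗[A'] B' →+* B' ⊗[A] B') ≤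
      KaehlerDifferential.ideal A B' := by
    rw [← KaehlerDifferential.span_range_eq_ideal, Ideal.map_span, Ideal.span_le]
    rintro _ ⟨_, ⟨s, rfl⟩, rfl⟩
    have : (e : B' ⊗[A'] B' →+* B' ⊗[A] B') ((1 : B') ⊗ₜ[A'] s - s ⊗ₜ[A'] (1 : B')) =
        (1 : B') ⊗ₜ[A] s - s ⊗ₜ[A] (1 : B') := by
      rw [map_sub]
      rfl
    rw [this]
    exact KaehlerDifferential.one_smul_sub_smul_one_mem_ideal A s
  have hIpow : ((KaehlerDifferential.ideal A' B') ^ (n + 1)).map
      (e : B' ⊗[A'] B' →+* B' ⊗[A] B') ≤ (KaehlerDifferential.ideal A B') ^ (n + 1) := by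
    rw [Ideal.map_pow]
    exact Ideal.pow_right_mono hI _
  constructor
  · rw [injective_iff_map_eq_zero]
    intro x hx
    obtain ⟨t, rfl⟩ := Ideal.Quotient.mk_surjective x
    rw [PP16.map_mk, Ideal.Quotient.eq_zero_iff_mem] at hx
    rw [Ideal.Quotient.eq_zero_iff_mem, ← h1 t]
    exact hIpow (Ideal.mem_map_of_mem _ hx)
  · intro y
    obtain ⟨t, rfl⟩ := Ideal.Quotient.mk_surjective y
    refine ⟨Ideal.Quotient.mk _ (e t), ?_⟩
    rw [PP16.map_mk, h2]

end Groth.Agent.S3808
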