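import Groth.Statements.S3809
import Groth.Agent.Lib.Helper17.PP
import Mathlib

set_option autoImplicit false
universe u
open scoped TensorProduct
open PP16

namespace Groth.Agent.S3809

/-- Let A → B → C be ring maps. Then the canonical map P^n_{C/A} → P^n_{C/B} is surjective, and its
kernel is the ideal generated by the image, under the canonical map P^n_{B/A} → P^n_{C/A}, of the
augmentation ideal of P^n_{B/A}. -/
theorem result (n : ℕ) (A B C : Type u) [CommRing A] [CommRing B] [CommRing C]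
    [Algebra A B] [Algebra B C] [Algebra A C] [IsScalarTower A B C] :
    Function.Surjective (PP16.map n A C B C) ∧
      RingHom.ker (PP16.map n A C B C) = (PP16.augIdeal n A B).map (PP16.map n A B A C) := by
  classical
  set τ : C ⊗[A] C →ₐ[A] C ⊗[B] C := PP16.tensorMap A C B C with hτdef
  have hτ_tmul : ∀ c c' : C, τ (c ⊗ₜ[A] c') = c ⊗ₜ[B] c' := by
    intro c c'
    rw [hτdef, PP16.tensorMap_tmul]
    rfl
  set σ : B ⊗[A] B →ₐ[A] C ⊗[A] C := PP16.tensorMap A B A C with hσdef
  have hσ_tmul : ∀ b b' : B, σ (b ⊗ₜ[A] b') = algebraMap B C b ⊗ₜ[A] algebraMap B C b' := by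
    intro b b'
    rw [hσdef, PP16.tensorMap_tmul]
  set K : Ideal (C ⊗[A] C) := (KaehlerDifferential.ideal A B).map σ with hKdef
  -- generators of `K`
  have hKmem : ∀ b : B, (algebraMap B C b) ⊗ₜ[A] (1 : C) - (1 : C) ⊗ₜ[A] (algebraMap B C b) ∈ K := by
    intro b
    have h1 : (1 : B) ⊗ₜ[A] b - b ⊗ₜ[A] (1 : B) ∈ KaehlerDifferential.ideal A B :=
      KaehlerDifferential.one_smul_sub_smul_one_mem_ideal A b
    have h2 := Ideal.mem_map_of_mem σ h1
    rw [map_sub, hσ_tmul, hσ_tmul, map_one] at h2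
    have h3 := K.neg_mem h2
    rw [neg_sub] at h3
    exact h3
  -- surjectivity of `τ`
  have hτsurj : Function.Surjective (τ : C ⊗[A] C →+* C ⊗[B] C) := by
    intro y
    change ∃ x, τ x = y
    induction y using TensorProduct.induction_on with
    | zero => exact ⟨0, map_zero _⟩
    | tmul c c' => exact ⟨c ⊗ₜ[A] c', hτ_tmul c c'⟩
    | add x y hx hy =>
      obtain ⟨x', rfl⟩ := hx
      obtain ⟨y', rfl⟩ := hy
      exact ⟨x' + y', map_add _ _ _⟩
  -- the map `C ⊗[B] C → (C ⊗[A] C) / K`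
  let f : C →ₐ[B] (C ⊗[A] C) ⧸ K :=
    (Ideal.Quotient.mkₐ B K).comp (Algebra.TensorProduct.includeLeft : C →ₐ[B] C ⊗[A] C)
  let g : C →ₐ[B] (C ⊗[A] C) ⧸ K :=
    { toRingHom := (Ideal.Quotient.mk K).comp
        (Algebra.TensorProduct.includeRight : C →ₐ[A] C ⊗[A] C).toRingHom
      commutes' := by
        intro b
        change Ideal.Quotient.mk K ((1 : C) ⊗ₜ[A] (algebraMap B C b)) =
          Ideal.Quotient.mk K ((algebraMap B C b) ⊗ₜ[A] (1 : C))
        rw [eq_comm, Ideal.Quotient.eq]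
        exact hKmem b }
  let ψ : C ⊗[B] C →ₐ[B] (C ⊗[A] C) ⧸ K :=
    Algebra.TensorProduct.lift f g (fun _ _ => Commute.all _ _)
  have hψτ : ∀ t : C ⊗[A] C, ψ (τ t) = Ideal.Quotient.mk K t := by
    intro t
    induction t using TensorProduct.induction_on with
    | zero => simp
    | tmul c c' =>
      rw [hτ_tmul, Algebra.TensorProduct.lift_tmul]
      change Ideal.Quotient.mk K (c ⊗ₜ[A] (1 : C)) * Ideal.Quotient.mk K ((1 : C) ⊗ₜ[A] c') = _
      rw [← map_mul, Algebra.TensorProduct.tmul_mul_tmul, mul_one, one_mul]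
    | add x y hx hy => rw [map_add, map_add, map_add, hx, hy]
  have hker : RingHom.ker (τ : C ⊗[A] C →+* C ⊗[B] C) = K := by
    apply le_antisymm
    · intro t ht
      have h0 : τ t = 0 := ht
      have := hψτ t
      rw [h0, map_zero] at this
      exact Ideal.Quotient.eq_zero_iff_mem.1 this.symm
    · rw [hKdef, Ideal.map_le_iff_le_comap,
        ← KaehlerDifferential.span_range_eq_ideal A B, Ideal.span_le]
      rintro _ ⟨b, rfl⟩
      beta_reduce
      rw [SetLike.mem_coe, Ideal.mem_comap, RingHom.mem_ker, map_sub, hσ_tmul, hσ_tmul, map_one,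
        map_sub]
      change τ _ - τ _ = 0
      rw [hτ_tmul, hτ_tmul, Algebra.algebraMap_eq_smul_one, TensorProduct.tmul_smul,
        TensorProduct.smul_tmul', sub_self]
  have hI : (KaehlerDifferential.ideal A C).map (τ : C ⊗[A] C →+* C ⊗[B] C) =
      KaehlerDifferential.ideal B C := by
    apply le_antisymm
    · exact PP16.ideal_map_tensorMap_le A C B C
    · rw [← KaehlerDifferential.span_range_eq_ideal B C, Ideal.span_le]
      rintro _ ⟨c, rfl⟩
      have : (1 : C) ⊗ₜ[B] c - c ⊗ₜ[B] (1 : C) =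
          (τ : C ⊗[A] C →+* C ⊗[B] C) ((1 : C) ⊗ₜ[A] c - c ⊗ₜ[A] (1 : C)) := by
        rw [map_sub]
        change _ = τ _ - τ _
        rw [hτ_tmul, hτ_tmul]
      beta_reduce
      rw [this]
      exact Ideal.mem_map_of_mem _ (KaehlerDifferential.one_smul_sub_smul_one_mem_ideal A c)
  have key := Groth.Agent.Lib.helper17.PP.quotient_pow_map_ker
    (τ : C ⊗[A] C →+* C ⊗[B] C) hτsurj (KaehlerDifferential.ideal A C)
    (KaehlerDifferential.ideal B C) hI (n + 1) (PP16.map n A C B C)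
    (fun t => PP16.map_mk n A C B C t)
  refine ⟨key.1, ?_⟩
  rw [key.2, hker, hKdef, PP16.augIdeal]
  rw [Groth.Agent.Lib.helper17.PP.map_map_eq σ
    (Ideal.Quotient.mk (KaehlerDifferential.ideal A C ^ (n + 1)))
    ((Ideal.Quotient.mk (KaehlerDifferential.ideal A C ^ (n + 1))).comp
      (σ : B ⊗[A] B →+* C ⊗[A] C)) (fun x => rfl)]
  rw [Groth.Agent.Lib.helper17.PP.map_map_eq
    (Ideal.Quotient.mk (KaehlerDifferential.ideal A B ^ (n + 1)))
    (PP16.map n A B A C)
    ((Ideal.Quotient.mk (KaehlerDifferential.ideal A C ^ (n + 1))).comp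
      (σ : B ⊗[A] B →+* C ⊗[A] C)) (fun x => PP16.map_mk n A B A C x)]

end Groth.Agent.S3809
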