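import Groth.Statements.S3810
import Groth.Agent.Lib.Helper17.PP
import Mathlib

set_option autoImplicit false
universe u
open scoped TensorProduct
open PP16

namespace Groth.Agent.S3810

/-- Let B be an A-algebra, K an ideal of B and C = B/K. Then the canonical map P^n_{B/A} → P^n_{C/A} is
surjective and its kernel is the ideal generated by the image of K under the structure map B →
P^n_{B/A} together with the image of K under the principal-part map d^n (the latter is an additive
subgroup, not a B-submodule, in general). -/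
theorem result (n : ℕ) (A B : Type u) [CommRing A] [CommRing B] [Algebra A B]
    (K : Ideal B) :
    Function.Surjective (PP16.map n A B A (B ⧸ K)) ∧
      RingHom.ker (PP16.map n A B A (B ⧸ K)) =
        K.map (algebraMap B (PP16.P n A B)) ⊔ K.map (PP16.dn n A B) := by
  classical
  set τ : B ⊗[A] B →ₐ[A] (B ⧸ K) ⊗[A] (B ⧸ K) := PP16.tensorMap A B A (B ⧸ K) with hτdef
  have hτeq : τ = Algebra.TensorProduct.map (Ideal.Quotient.mkₐ A K) (Ideal.Quotient.mkₐ A K) := by
    apply Algebra.TensorProduct.ext'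
    intro b c
    rw [hτdef, PP16.tensorMap_tmul]
    rfl
  have hmk : Function.Surjective (Ideal.Quotient.mkₐ A K) := Ideal.Quotient.mkₐ_surjective A K
  have hτsurj : Function.Surjective (τ : B ⊗[A] B →+* (B ⧸ K) ⊗[A] (B ⧸ K)) := by
    change Function.Surjective τ
    rw [hτeq]
    exact Algebra.TensorProduct.map_surjective _ _ hmk hmk
  have hker : RingHom.ker (τ : B ⊗[A] B →+* (B ⧸ K) ⊗[A] (B ⧸ K)) =
      K.map (Algebra.TensorProduct.includeLeft : B →ₐ[A] B ⊗[A] B) ⊔
        K.map (Algebra.TensorProduct.includeRight : B →ₐ[A] B ⊗[A] B) := by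
    have h := Algebra.TensorProduct.map_ker (Ideal.Quotient.mkₐ A K) (Ideal.Quotient.mkₐ A K) hmk hmk
    have hkk : RingHom.ker (Ideal.Quotient.mkₐ A K) = K := by
      ext x
      rw [RingHom.mem_ker, Ideal.Quotient.mkₐ_eq_mk, Ideal.Quotient.eq_zero_iff_mem]
    rw [← hτeq, hkk] at h
    rw [← h]
    rfl
  have hI : (KaehlerDifferential.ideal A B).map (τ : B ⊗[A] B →+* (B ⧸ K) ⊗[A] (B ⧸ K)) =
      KaehlerDifferential.ideal A (B ⧸ K) := by
    apply le_antisymm
    · exact PP16.ideal_map_tensorMap_le A B A (B ⧸ K)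
    · rw [← KaehlerDifferential.span_range_eq_ideal A (B ⧸ K), Ideal.span_le]
      rintro _ ⟨c, rfl⟩
      obtain ⟨b, rfl⟩ := Ideal.Quotient.mk_surjective c
      have : (1 : B ⧸ K) ⊗ₜ[A] (Ideal.Quotient.mk K b) - (Ideal.Quotient.mk K b) ⊗ₜ[A] (1 : B ⧸ K) =
          (τ : B ⊗[A] B →+* (B ⧸ K) ⊗[A] (B ⧸ K)) ((1 : B) ⊗ₜ[A] b - b ⊗ₜ[A] (1 : B)) := by
        rw [map_sub]
        change _ = τ _ - τ _
        rw [hτdef, PP16.tensorMap_tmul, PP16.tensorMap_tmul, map_one]
        rfl
      beta_reduce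
      rw [this]
      exact Ideal.mem_map_of_mem _ (KaehlerDifferential.one_smul_sub_smul_one_mem_ideal A b)
  have key := Groth.Agent.Lib.helper17.PP.quotient_pow_map_ker
    (τ : B ⊗[A] B →+* (B ⧸ K) ⊗[A] (B ⧸ K)) hτsurj (KaehlerDifferential.ideal A B)
    (KaehlerDifferential.ideal A (B ⧸ K)) hI (n + 1) (PP16.map n A B A (B ⧸ K))
    (fun t => PP16.map_mk n A B A (B ⧸ K) t)
  refine ⟨key.1, ?_⟩
  rw [key.2, hker, Ideal.map_sup]
  congr 1
  · exact Groth.Agent.Lib.helper17.PP.map_map_eq _ _ _ (fun x => rfl) K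
  · exact Groth.Agent.Lib.helper17.PP.map_map_eq _ _ _ (fun x => rfl) K

end Groth.Agent.S3810
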