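import Groth.Statements.S3812
import Mathlib

set_option autoImplicit false
universe u
open scoped TensorProduct
open PP16

namespace Groth.Agent.S3812

open MvPolynomial

section
variable (A : Type u) [CommRing A] (σ : Type u)

/-- the shift automorphism `U_i ↦ U_i + T_i` of `B[U]`, `B = A[T]` -/
noncomputable def shift :
    MvPolynomial σ (MvPolynomial σ A) ≃ₐ[MvPolynomial σ A] MvPolynomial σ (MvPolynomial σ A) :=
  AlgEquiv.ofAlgHom
    (aeval (fun i => (X i : MvPolynomial σ (MvPolynomial σ A)) + C (X i)))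
    (aeval (fun i => (X i : MvPolynomial σ (MvPolynomial σ A)) - C (X i)))
    (by
      apply MvPolynomial.algHom_ext
      intro i
      simp)
    (by
      apply MvPolynomial.algHom_ext
      intro i
      simp)

@[simp] lemma shift_X (i : σ) : shift A σ (X i) = X i + C (X i) := by
  simp [shift]

/-- `B ⊗_A B ≃ B[U]` with `1 ⊗ T_i ↦ T_i + U_i`. -/
noncomputable def e0 :
    (MvPolynomial σ A ⊗[A] MvPolynomial σ A) ≃ₐ[MvPolynomial σ A]
      MvPolynomial σ (MvPolynomial σ A) :=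
  (MvPolynomial.algebraTensorAlgEquiv A (MvPolynomial σ A)).trans (shift A σ)

lemma e0_one_tmul_X (i : σ) : e0 A σ ((1 : MvPolynomial σ A) ⊗ₜ[A] X i) = X i + C (X i) := by
  simp [e0]

lemma e0_tmul_one (b : MvPolynomial σ A) : e0 A σ (b ⊗ₜ[A] (1 : MvPolynomial σ A)) = C b := by
  have : b ⊗ₜ[A] (1 : MvPolynomial σ A) =
      algebraMap (MvPolynomial σ A) (MvPolynomial σ A ⊗[A] MvPolynomial σ A) b := rfl
  rw [this, AlgEquiv.commutes]
  rfl

/-- `e0 (1 ⊗ b) ≡ b` modulo the ideal of the variables -/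
lemma e0_one_tmul_sub_mem (b : MvPolynomial σ A) :
    e0 A σ ((1 : MvPolynomial σ A) ⊗ₜ[A] b) - C b ∈
      Ideal.span (Set.range (X : σ → MvPolynomial σ (MvPolynomial σ A))) := by
  set J := Ideal.span (Set.range (X : σ → MvPolynomial σ (MvPolynomial σ A))) with hJ
  let f₁ : MvPolynomial σ A →ₐ[A] (MvPolynomial σ (MvPolynomial σ A) ⧸ J) :=
    ((Ideal.Quotient.mkₐ A J).comp ((e0 A σ).toAlgHom.restrictScalars A)).comp
      (Algebra.TensorProduct.includeRight)
  let f₂ : MvPolynomial σ A →ₐ[A] (MvPolynomial σ (MvPolynomial σ A) ⧸ J) :=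
    (Ideal.Quotient.mkₐ A J).comp (IsScalarTower.toAlgHom A (MvPolynomial σ A) _)
  have h12 : f₁ = f₂ := by
    apply MvPolynomial.algHom_ext
    intro i
    change Ideal.Quotient.mk J (e0 A σ ((1 : MvPolynomial σ A) ⊗ₜ[A] X i)) =
      Ideal.Quotient.mk J (C (X i))
    rw [e0_one_tmul_X, Ideal.Quotient.eq, add_sub_cancel_right]
    exact Ideal.subset_span ⟨i, rfl⟩
  have := DFunLike.congr_fun h12 b
  change Ideal.Quotient.mk J (e0 A σ ((1 : MvPolynomial σ A) ⊗ₜ[A] b)) =
      Ideal.Quotient.mk J (C b) at this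
  rwa [Ideal.Quotient.eq] at this

lemma map_ideal_e0 :
    (KaehlerDifferential.ideal A (MvPolynomial σ A)).map
      ((e0 A σ : (MvPolynomial σ A ⊗[A] MvPolynomial σ A) ≃ₐ[MvPolynomial σ A]
        MvPolynomial σ (MvPolynomial σ A)) :
        (MvPolynomial σ A ⊗[A] MvPolynomial σ A) →+* MvPolynomial σ (MvPolynomial σ A)) =
      Ideal.span (Set.range (X : σ → MvPolynomial σ (MvPolynomial σ A))) := by
  apply le_antisymm
  · rw [← KaehlerDifferential.span_range_eq_ideal, Ideal.map_span, Ideal.span_le]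
    rintro _ ⟨_, ⟨b, rfl⟩, rfl⟩
    beta_reduce
    rw [map_sub]
    change e0 A σ _ - e0 A σ _ ∈ _
    rw [e0_tmul_one]
    exact e0_one_tmul_sub_mem A σ b
  · rw [Ideal.span_le]
    rintro _ ⟨i, rfl⟩
    have h1 : (1 : MvPolynomial σ A) ⊗ₜ[A] (X i) - (X i) ⊗ₜ[A] (1 : MvPolynomial σ A) ∈
        KaehlerDifferential.ideal A (MvPolynomial σ A) :=
      KaehlerDifferential.one_smul_sub_smul_one_mem_ideal A (X i)
    have h2 := Ideal.mem_map_of_mem ((e0 A σ : (MvPolynomial σ A ⊗[A] MvPolynomial σ A)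
        ≃ₐ[MvPolynomial σ A] MvPolynomial σ (MvPolynomial σ A)) :
        (MvPolynomial σ A ⊗[A] MvPolynomial σ A) →+* MvPolynomial σ (MvPolynomial σ A)) h1
    rw [map_sub] at h2
    change e0 A σ _ - e0 A σ _ ∈ _ at h2
    rw [e0_one_tmul_X, e0_tmul_one, add_sub_cancel_right] at h2
    exact h2

end

/-- Let B = A[T_i] be a polynomial algebra. There is an isomorphism of B-algebras from P^n_{B/A} onto
B[U_i]/(U)^(n+1), where (U) is the ideal generated by the new indeterminates, sending the principal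
part d^n T_i to the class of T_i + U_i for every i (so d^n F(T) goes to the class of F(T + U)). -/
theorem result (n : ℕ) (A : Type u) [CommRing A] (σ : Type u) :
    ∃ e : PP16.P n A (MvPolynomial σ A) ≃ₐ[MvPolynomial σ A]
        (MvPolynomial σ (MvPolynomial σ A) ⧸
          Ideal.span (Set.range (MvPolynomial.X : σ → MvPolynomial σ (MvPolynomial σ A))) ^ (n + 1)),
      ∀ i : σ, e (PP16.dn n A (MvPolynomial σ A) (MvPolynomial.X i)) =
        Ideal.Quotient.mk _ (MvPolynomial.C (MvPolynomial.X i : MvPolynomial σ A) +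
          (MvPolynomial.X i : MvPolynomial σ (MvPolynomial σ A))) := by
  have hIJ : Ideal.span (Set.range (MvPolynomial.X : σ → MvPolynomial σ (MvPolynomial σ A))) ^ (n + 1) =
      ((KaehlerDifferential.ideal A (MvPolynomial σ A)) ^ (n + 1)).map
        ((e0 A σ : (MvPolynomial σ A ⊗[A] MvPolynomial σ A) ≃ₐ[MvPolynomial σ A]
          MvPolynomial σ (MvPolynomial σ A)) :
          (MvPolynomial σ A ⊗[A] MvPolynomial σ A) →+* MvPolynomial σ (MvPolynomial σ A)) := by
    rw [Ideal.map_pow, map_ideal_e0]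
  refine ⟨Ideal.quotientEquivAlg _ _ (e0 A σ) hIJ, ?_⟩
  intro i
  change Ideal.Quotient.mk _ (e0 A σ ((1 : MvPolynomial σ A) ⊗ₜ[A] MvPolynomial.X i)) = _
  rw [e0_one_tmul_X]
  congr 1
  exact add_comm _ _

end Groth.Agent.S3812
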