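import Groth.Statements.S3813
import Mathlib

set_option autoImplicit false
universe u
open scoped TensorProduct
open PP16

namespace Groth.Agent.S3813

open SymmetricAlgebra

section
variable (A : Type u) [CommRing A] (E : Type u) [AddCommGroup E] [Module A E]

/-- `t ↦ t ⊗ 1 + 1 ⊗ t` -/
noncomputable def linP : E →ₗ[A] SymmetricAlgebra A E ⊗[A] SymmetricAlgebra A E :=
  (Algebra.TensorProduct.includeLeft :
      SymmetricAlgebra A E →ₐ[A] SymmetricAlgebra A E ⊗[A] SymmetricAlgebra A E).toLinearMap ∘ₗ ι A E +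
    (Algebra.TensorProduct.includeRight :
      SymmetricAlgebra A E →ₐ[A] SymmetricAlgebra A E ⊗[A] SymmetricAlgebra A E).toLinearMap ∘ₗ ι A E

/-- `t ↦ 1 ⊗ t - t ⊗ 1` -/
noncomputable def linM : E →ₗ[A] SymmetricAlgebra A E ⊗[A] SymmetricAlgebra A E :=
  (Algebra.TensorProduct.includeRight :
      SymmetricAlgebra A E →ₐ[A] SymmetricAlgebra A E ⊗[A] SymmetricAlgebra A E).toLinearMap ∘ₗ ι A E -
    (Algebra.TensorProduct.includeLeft :
      SymmetricAlgebra A E →ₐ[A] SymmetricAlgebra A E ⊗[A] SymmetricAlgebra A E).toLinearMap ∘ₗ ι A E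

lemma linP_apply (t : E) : linP A E t = ι A E t ⊗ₜ[A] 1 + 1 ⊗ₜ[A] ι A E t := rfl

lemma linM_apply (t : E) : linM A E t = 1 ⊗ₜ[A] ι A E t - ι A E t ⊗ₜ[A] 1 := rfl

noncomputable def fwd : SymmetricAlgebra A E ⊗[A] SymmetricAlgebra A E →ₐ[SymmetricAlgebra A E]
    SymmetricAlgebra A E ⊗[A] SymmetricAlgebra A E :=
  Algebra.TensorProduct.lift (Algebra.ofId _ _) (SymmetricAlgebra.lift (linP A E))
    (fun _ _ => Commute.all _ _)

noncomputable def bwd : SymmetricAlgebra A E ⊗[A] SymmetricAlgebra A E →ₐ[SymmetricAlgebra A E]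
    SymmetricAlgebra A E ⊗[A] SymmetricAlgebra A E :=
  Algebra.TensorProduct.lift (Algebra.ofId _ _) (SymmetricAlgebra.lift (linM A E))
    (fun _ _ => Commute.all _ _)

lemma fwd_one_tmul (b : SymmetricAlgebra A E) :
    fwd A E (1 ⊗ₜ[A] b) = SymmetricAlgebra.lift (linP A E) b := by
  rw [fwd, Algebra.TensorProduct.lift_tmul, map_one, one_mul]

lemma bwd_one_tmul (b : SymmetricAlgebra A E) :
    bwd A E (1 ⊗ₜ[A] b) = SymmetricAlgebra.lift (linM A E) b := by
  rw [bwd, Algebra.TensorProduct.lift_tmul, map_one, one_mul]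

lemma fwd_tmul_one (b : SymmetricAlgebra A E) : fwd A E (b ⊗ₜ[A] 1) = b ⊗ₜ[A] 1 := by
  rw [fwd, Algebra.TensorProduct.lift_tmul, map_one, mul_one]
  rfl

lemma bwd_tmul_one (b : SymmetricAlgebra A E) : bwd A E (b ⊗ₜ[A] 1) = b ⊗ₜ[A] 1 := by
  rw [bwd, Algebra.TensorProduct.lift_tmul, map_one, mul_one]
  rfl

lemma fwd_one_tmul_ι (t : E) :
    fwd A E (1 ⊗ₜ[A] ι A E t) = ι A E t ⊗ₜ[A] 1 + 1 ⊗ₜ[A] ι A E t := by
  rw [fwd_one_tmul, lift_ι_apply, linP_apply]

lemma bwd_one_tmul_ι (t : E) :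
    bwd A E (1 ⊗ₜ[A] ι A E t) = 1 ⊗ₜ[A] ι A E t - ι A E t ⊗ₜ[A] 1 := by
  rw [bwd_one_tmul, lift_ι_apply, linM_apply]

lemma fwd_bwd : (fwd A E).comp (bwd A E) = AlgHom.id _ _ := by
  apply Algebra.TensorProduct.ext
  · ext
  · apply SymmetricAlgebra.algHom_ext
    ext t
    change fwd A E (bwd A E (1 ⊗ₜ[A] ι A E t)) = 1 ⊗ₜ[A] ι A E t
    rw [bwd_one_tmul_ι, map_sub, fwd_one_tmul_ι, fwd_tmul_one, add_sub_cancel_left]

lemma bwd_fwd : (bwd A E).comp (fwd A E) = AlgHom.id _ _ := by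
  apply Algebra.TensorProduct.ext
  · ext
  · apply SymmetricAlgebra.algHom_ext
    ext t
    change bwd A E (fwd A E (1 ⊗ₜ[A] ι A E t)) = 1 ⊗ₜ[A] ι A E t
    rw [fwd_one_tmul_ι, map_add, bwd_one_tmul_ι, bwd_tmul_one, add_sub_cancel]

/-- the twist automorphism of `B ⊗ B` -/
noncomputable def e0 : (SymmetricAlgebra A E ⊗[A] SymmetricAlgebra A E) ≃ₐ[SymmetricAlgebra A E]
    (SymmetricAlgebra A E ⊗[A] SymmetricAlgebra A E) :=
  AlgEquiv.ofAlgHom (fwd A E) (bwd A E) (fwd_bwd A E) (bwd_fwd A E)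

lemma e0_apply (x) : e0 A E x = fwd A E x := rfl

lemma e0_symm_apply (x) : (e0 A E).symm x = bwd A E x := rfl

end

section
variable (A : Type u) [CommRing A] (E : Type u) [AddCommGroup E] [Module A E]

/-- `e0 (1 ⊗ b) ≡ b ⊗ 1` modulo `B ⊗ K` -/
lemma fwd_one_tmul_sub_mem (b : SymmetricAlgebra A E) :
    fwd A E (1 ⊗ₜ[A] b) - b ⊗ₜ[A] 1 ∈
      (RingHom.ker (SymmetricAlgebra.lift (0 : E →ₗ[A] A))).map
        (Algebra.TensorProduct.includeRight :
          SymmetricAlgebra A E →ₐ[A] SymmetricAlgebra A E ⊗[A] SymmetricAlgebra A E) := by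
  set J := (RingHom.ker (SymmetricAlgebra.lift (0 : E →ₗ[A] A))).map
        (Algebra.TensorProduct.includeRight :
          SymmetricAlgebra A E →ₐ[A] SymmetricAlgebra A E ⊗[A] SymmetricAlgebra A E) with hJ
  let f₁ : SymmetricAlgebra A E →ₐ[A] (SymmetricAlgebra A E ⊗[A] SymmetricAlgebra A E) ⧸ J :=
    ((Ideal.Quotient.mkₐ A J).comp ((fwd A E).restrictScalars A)).comp
      Algebra.TensorProduct.includeRight
  let f₂ : SymmetricAlgebra A E →ₐ[A] (SymmetricAlgebra A E ⊗[A] SymmetricAlgebra A E) ⧸ J :=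
    (Ideal.Quotient.mkₐ A J).comp Algebra.TensorProduct.includeLeft
  have h12 : f₁ = f₂ := by
    refine SymmetricAlgebra.algHom_ext
      (A := (SymmetricAlgebra A E ⊗[A] SymmetricAlgebra A E) ⧸ J) ?_
    ext t
    change Ideal.Quotient.mk J (fwd A E (1 ⊗ₜ[A] ι A E t)) = Ideal.Quotient.mk J (ι A E t ⊗ₜ[A] 1)
    rw [fwd_one_tmul_ι, Ideal.Quotient.eq, add_sub_cancel_left]
    refine Ideal.mem_map_of_mem _ ?_
    rw [RingHom.mem_ker, lift_ι_apply, LinearMap.zero_apply]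
  have := DFunLike.congr_fun h12 b
  change Ideal.Quotient.mk J (fwd A E (1 ⊗ₜ[A] b)) = Ideal.Quotient.mk J (b ⊗ₜ[A] 1) at this
  rwa [Ideal.Quotient.eq] at this

/-- `e0⁻¹ (1 ⊗ k) ∈ I` for `k` in the augmentation ideal -/
lemma bwd_one_tmul_mem (k : SymmetricAlgebra A E)
    (hk : k ∈ RingHom.ker (SymmetricAlgebra.lift (0 : E →ₗ[A] A))) :
    bwd A E (1 ⊗ₜ[A] k) ∈ KaehlerDifferential.ideal A (SymmetricAlgebra A E) := by
  set I := KaehlerDifferential.ideal A (SymmetricAlgebra A E) with hI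
  let f₁ : SymmetricAlgebra A E →ₐ[A] (SymmetricAlgebra A E ⊗[A] SymmetricAlgebra A E) ⧸ I :=
    ((Ideal.Quotient.mkₐ A I).comp ((bwd A E).restrictScalars A)).comp
      Algebra.TensorProduct.includeRight
  let f₂ : SymmetricAlgebra A E →ₐ[A] (SymmetricAlgebra A E ⊗[A] SymmetricAlgebra A E) ⧸ I :=
    (Algebra.ofId A _).comp (SymmetricAlgebra.lift (0 : E →ₗ[A] A))
  have h12 : f₁ = f₂ := by
    refine SymmetricAlgebra.algHom_ext
      (A := (SymmetricAlgebra A E ⊗[A] SymmetricAlgebra A E) ⧸ I) ?_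
    ext t
    change Ideal.Quotient.mk I (bwd A E (1 ⊗ₜ[A] ι A E t)) =
      algebraMap A _ (SymmetricAlgebra.lift (0 : E →ₗ[A] A) (ι A E t))
    rw [bwd_one_tmul_ι, lift_ι_apply, LinearMap.zero_apply, map_zero,
      Ideal.Quotient.eq_zero_iff_mem]
    exact KaehlerDifferential.one_smul_sub_smul_one_mem_ideal A _
  have := DFunLike.congr_fun h12 k
  change Ideal.Quotient.mk I (bwd A E (1 ⊗ₜ[A] k)) =
      algebraMap A _ (SymmetricAlgebra.lift (0 : E →ₗ[A] A) k) at this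
  rw [(RingHom.mem_ker).1 hk, map_zero, Ideal.Quotient.eq_zero_iff_mem] at this
  exact this

lemma map_ideal_e0 :
    (KaehlerDifferential.ideal A (SymmetricAlgebra A E)).map
      ((e0 A E : (SymmetricAlgebra A E ⊗[A] SymmetricAlgebra A E) ≃ₐ[SymmetricAlgebra A E]
        (SymmetricAlgebra A E ⊗[A] SymmetricAlgebra A E)) :
        (SymmetricAlgebra A E ⊗[A] SymmetricAlgebra A E) →+*
          (SymmetricAlgebra A E ⊗[A] SymmetricAlgebra A E)) =
      (RingHom.ker (SymmetricAlgebra.lift (0 : E →ₗ[A] A))).map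
        (Algebra.TensorProduct.includeRight :
          SymmetricAlgebra A E →ₐ[A] SymmetricAlgebra A E ⊗[A] SymmetricAlgebra A E) := by
  apply le_antisymm
  · rw [← KaehlerDifferential.span_range_eq_ideal, Ideal.map_span, Ideal.span_le]
    rintro _ ⟨_, ⟨b, rfl⟩, rfl⟩
    beta_reduce
    rw [map_sub]
    change fwd A E _ - fwd A E _ ∈ _
    rw [fwd_tmul_one]
    exact fwd_one_tmul_sub_mem A E b
  · rw [Ideal.map_le_iff_le_comap]
    intro k hk
    rw [Ideal.mem_comap]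
    have h1 := bwd_one_tmul_mem A E k hk
    have h2 := Ideal.mem_map_of_mem ((e0 A E : (SymmetricAlgebra A E ⊗[A] SymmetricAlgebra A E)
        ≃ₐ[SymmetricAlgebra A E] (SymmetricAlgebra A E ⊗[A] SymmetricAlgebra A E)) :
        (SymmetricAlgebra A E ⊗[A] SymmetricAlgebra A E) →+*
          (SymmetricAlgebra A E ⊗[A] SymmetricAlgebra A E)) h1
    have h3 : ((e0 A E : (SymmetricAlgebra A E ⊗[A] SymmetricAlgebra A E)
        ≃ₐ[SymmetricAlgebra A E] (SymmetricAlgebra A E ⊗[A] SymmetricAlgebra A E)) :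
        (SymmetricAlgebra A E ⊗[A] SymmetricAlgebra A E) →+*
          (SymmetricAlgebra A E ⊗[A] SymmetricAlgebra A E)) (bwd A E (1 ⊗ₜ[A] k)) = 1 ⊗ₜ[A] k := by
      change e0 A E ((e0 A E).symm (1 ⊗ₜ[A] k)) = _
      rw [AlgEquiv.apply_symm_apply]
    rw [h3] at h2
    exact h2

end

/-- Let E be an A-module, B = Sym_A(E) its symmetric algebra and K the augmentation ideal of B (the
kernel of the A-algebra map B → A killing E). For every n there is an isomorphism of B-algebras from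
P^n_{B/A} onto B ⊗_A (B/K^(n+1)) sending the principal part d^n t of an element t of E to t ⊗ 1 + 1
⊗ (class of t). -/
theorem result (n : ℕ) (A : Type u) [CommRing A] (E : Type u) [AddCommGroup E]
    [Module A E] :
    ∃ e : PP16.P n A (SymmetricAlgebra A E) ≃ₐ[SymmetricAlgebra A E]
        (SymmetricAlgebra A E ⊗[A] (SymmetricAlgebra A E ⧸
          RingHom.ker (SymmetricAlgebra.lift (0 : E →ₗ[A] A)) ^ (n + 1))),
      ∀ t : E, e (PP16.dn n A (SymmetricAlgebra A E) (SymmetricAlgebra.ι A E t)) =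
        SymmetricAlgebra.ι A E t ⊗ₜ 1 + 1 ⊗ₜ Ideal.Quotient.mk _ (SymmetricAlgebra.ι A E t) := by
  have hIJ : ((RingHom.ker (SymmetricAlgebra.lift (0 : E →ₗ[A] A))) ^ (n + 1)).map
        (Algebra.TensorProduct.includeRight :
          SymmetricAlgebra A E →ₐ[A] SymmetricAlgebra A E ⊗[A] SymmetricAlgebra A E) =
      ((KaehlerDifferential.ideal A (SymmetricAlgebra A E)) ^ (n + 1)).map
        ((e0 A E : (SymmetricAlgebra A E ⊗[A] SymmetricAlgebra A E) ≃ₐ[SymmetricAlgebra A E]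
          (SymmetricAlgebra A E ⊗[A] SymmetricAlgebra A E)) :
          (SymmetricAlgebra A E ⊗[A] SymmetricAlgebra A E) →+*
            (SymmetricAlgebra A E ⊗[A] SymmetricAlgebra A E)) := by
    rw [Ideal.map_pow, Ideal.map_pow, map_ideal_e0]
  refine ⟨(Ideal.quotientEquivAlg _ _ (e0 A E) hIJ).trans
    (Algebra.TensorProduct.tensorQuotientEquiv (R := A) (SymmetricAlgebra A E) (SymmetricAlgebra A E)
      (SymmetricAlgebra A E) _).symm, ?_⟩
  intro t
  rw [AlgEquiv.trans_apply]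
  change (Algebra.TensorProduct.tensorQuotientEquiv (R := A) (SymmetricAlgebra A E)
      (SymmetricAlgebra A E) (SymmetricAlgebra A E) _).symm
      (Ideal.Quotient.mk _ (fwd A E (1 ⊗ₜ[A] SymmetricAlgebra.ι A E t))) = _
  rw [fwd_one_tmul_ι, map_add, map_add]
  rfl

end Groth.Agent.S3813
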