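import Groth.Statements.S5002
import Mathlib
-- import your own Groth.Agent.* helpers here

set_option autoImplicit false
universe u
open PP16

namespace Groth.Agent.S5002

/-- Suppose A is a commutative ring and B is a finite-type A-algebra. For each n, the ring of principal
parts of order n of B over A is then finitely generated as a B-module, where B acts via the first
factor. -/
theorem result (n : ℕ) (A B : Type u) [CommRing A] [CommRing B] [Algebra A B]
    [Algebra.FiniteType A B] : Module.Finite B (PP16.P n A B) := by
  classical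
  obtain ⟨s, hs⟩ := (Algebra.FiniteType.out : (⊤ : Subalgebra A B).FG)
  let ζ : B → TensorProduct A B B := fun b => (1 : B) ⊗ₜ[A] b - b ⊗ₜ[A] (1 : B)
  let S : Subalgebra B (TensorProduct A B B) := Algebra.adjoin B (ζ '' (s : Set B))
  -- `1 ⊗ b ∈ S` for all `b`
  have h1 : ∀ b : B, (1 : B) ⊗ₜ[A] b ∈ S := by
    let C : Subalgebra A B :=
      (S.restrictScalars A).comap (Algebra.TensorProduct.includeRight : B →ₐ[A] TensorProduct A B B)
    have hC : Algebra.adjoin A (s : Set B) ≤ C := by
      apply Algebra.adjoin_le
      intro b hb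
      change (1 : B) ⊗ₜ[A] b ∈ S
      have : (1 : B) ⊗ₜ[A] b = ζ b + algebraMap B (TensorProduct A B B) b := by
        simp only [ζ, Algebra.TensorProduct.algebraMap_apply, Algebra.algebraMap_self, RingHom.id_apply]
        abel
      rw [this]
      exact S.add_mem (Algebra.subset_adjoin ⟨b, hb, rfl⟩) (S.algebraMap_mem b)
    rw [hs] at hC
    intro b
    exact hC (Algebra.mem_top : b ∈ (⊤ : Subalgebra A B))
  have hS : S = ⊤ := by
    rw [eq_top_iff]
    intro x _
    induction x using TensorProduct.induction_on with
    | zero => exact S.zero_mem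
    | tmul b c =>
      have : b ⊗ₜ[A] c = algebraMap B (TensorProduct A B B) b * ((1 : B) ⊗ₜ[A] c) := by
        simp [Algebra.TensorProduct.algebraMap_apply]
      rw [this]
      exact S.mul_mem (S.algebraMap_mem b) (h1 c)
    | add x y hx hy => exact S.add_mem (hx Algebra.mem_top) (hy Algebra.mem_top)
  -- pass to the quotient
  let φ : TensorProduct A B B →ₐ[B] PP16.P n A B :=
    Ideal.Quotient.mkₐ B ((KaehlerDifferential.ideal A B) ^ (n + 1))
  have hφ : Function.Surjective φ := Ideal.Quotient.mkₐ_surjective _ _
  have htop : Algebra.adjoin B (φ '' (ζ '' (s : Set B))) = ⊤ := by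
    rw [← AlgHom.map_adjoin, show Algebra.adjoin B (ζ '' (s : Set B)) = S from rfl, hS,
      Algebra.map_top, AlgHom.range_eq_top]
    exact hφ
  have hint : ∀ x ∈ φ '' (ζ '' (s : Set B)), IsIntegral B x := by
    rintro _ ⟨_, ⟨b, -, rfl⟩, rfl⟩
    apply IsIntegral.of_pow (Nat.succ_pos n)
    have : φ (ζ b) ^ (n + 1) = 0 := by
      rw [← map_pow]
      change Ideal.Quotient.mk _ (ζ b ^ (n + 1)) = 0
      rw [Ideal.Quotient.eq_zero_iff_mem]
      exact Ideal.pow_mem_pow (KaehlerDifferential.one_smul_sub_smul_one_mem_ideal A b) _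
    rw [this]
    exact isIntegral_zero
  have hfin : (φ '' (ζ '' (s : Set B))).Finite := (s.finite_toSet.image _).image _
  have hfg := fg_adjoin_of_finite hfin hint
  rw [htop, Algebra.top_toSubmodule] at hfg
  exact Module.finite_def.mpr hfg

end Groth.Agent.S5002
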