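import Groth.Statements.S3814
import Groth.Agent.S5002
import Mathlib

set_option autoImplicit false
universe u
open scoped TensorProduct
open PP16

namespace Groth.Agent.S3814

/-- If B is an A-algebra of finite presentation, then for every n the B-module P^n_{B/A} of principal
parts of order n is of finite presentation. -/
theorem result (n : ℕ) (A B : Type u) [CommRing A] [CommRing B]
    [Algebra A B] [Algebra.FinitePresentation A B] :
    Module.FinitePresentation B (PP16.P n A B) := by
  have hfin : Module.Finite B (PP16.P n A B) := Groth.Agent.S5002.result n A B
  have hfg : (KaehlerDifferential.ideal A B).FG := KaehlerDifferential.ideal_fg A B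
  have hfp : Algebra.FinitePresentation B (PP16.P n A B) :=
    Algebra.FinitePresentation.quotient (hfg.pow (n := n + 1))
  exact Module.FinitePresentation.of_finite_of_finitePresentation B (PP16.P n A B)

end Groth.Agent.S3814
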