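import Groth.Statements.S3815
import Groth.Agent.LibDiff29g
-- import your own Groth.Agent.* helpers here

set_option autoImplicit false
universe u
open scoped TensorProduct
open scoped BigOperators
open PP16

namespace Groth.Agent.S3815

open Groth.Agent.LibDiff29 Diff16

section
variable (n : ℕ) (A B : Type u) [CommRing A] [CommRing B] [Algebra A B]
    (M N : Type u) [AddCommGroup M] [Module A M] [Module B M] [IsScalarTower A B M]
    [AddCommGroup N] [Module A N] [Module B N] [IsScalarTower A B N] (D : M →ₗ[A] N)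

local notation "I" => KaehlerDifferential.ideal A B

/-- `c ↦ D (c • m)` -/
noncomputable def Dm (m : M) : B →ₗ[A] N :=
  D ∘ₗ ((LinearMap.toSpanSingleton B M m).restrictScalars A)

lemma Dm_apply (m : M) (c : B) : Dm A B M N D m c = D (c • m) := rfl

lemma Dm_add (m m' : M) : Dm A B M N D (m + m') = Dm A B M N D m + Dm A B M N D m' := by
  ext c; simp [Dm_apply, smul_add]

variable {n A B M N D} in
lemma Dm_order (hD : IsDiffOpLE A B M N n D) (m : M) :
    IsDiffOpLE A B B N n (Dm A B M N D m) := by
  have h0 : IsDiffOpLE A B B M 0 ((LinearMap.toSpanSingleton B M m).restrictScalars A) :=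
    fun b c => by simp [mul_smul]
  have := isDiffOpLE_comp h0 hD
  rw [zero_add] at this
  exact this

lemma linearize_Dm_right (m : M) (b : B) (y : B ⊗[A] B) :
    linearize A B B N (Dm A B M N D m) (((1 : B) ⊗ₜ[A] b) * y) =
      linearize A B B N (Dm A B M N D (b • m)) y := by
  induction y using TensorProduct.induction_on with
  | zero => simp
  | tmul b' c =>
    simp only [Algebra.TensorProduct.tmul_mul_tmul, one_mul, linearize_tmul, Dm_apply]
    rw [mul_comm, mul_smul]
  | add x y hx hy => rw [mul_add, map_add, map_add, hx, hy]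

lemma linearize_left (E : B →ₗ[A] N) (b : B) (y : B ⊗[A] B) :
    linearize A B B N E ((b ⊗ₜ[A] (1 : B)) * y) = b • linearize A B B N E y := by
  induction y using TensorProduct.induction_on with
  | zero => simp
  | tmul b' c =>
    simp only [Algebra.TensorProduct.tmul_mul_tmul, one_mul, linearize_tmul, mul_smul]
  | add x y hx hy => rw [mul_add, map_add, map_add, hx, hy, smul_add]

variable {n A B M N D} in
/-- the map `P^n → N`, `[b ⊗ c] ↦ b • D (c • m)` -/
noncomputable def gmap (hD : IsDiffOpLE A B M N n D) (m : M) : P n A B →ₗ[A] N :=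
  (Submodule.liftQ ((I ^ (n + 1)).restrictScalars A) (linearize A B B N (Dm A B M N D m))
    (by
      intro x hx
      exact linearize_eq_zero_of_isDiffOpLE n _ (Dm_order hD m) x hx)) ∘ₗ
    (Submodule.Quotient.restrictScalarsEquiv A (I ^ (n + 1))).symm.toLinearMap

variable {n A B M N D} in
lemma gmap_mk (hD : IsDiffOpLE A B M N n D) (m : M) (x : B ⊗[A] B) :
    gmap hD m (Ideal.Quotient.mk _ x) = linearize A B B N (Dm A B M N D m) x := by
  unfold gmap
  rw [LinearMap.comp_apply, ← Ideal.Quotient.mk_eq_mk, LinearEquiv.coe_coe,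
    Submodule.Quotient.restrictScalarsEquiv_symm_mk, Submodule.liftQ_apply]

/-- cast `P^n → Pr` -/
def toPr (x : P n A B) : Pr n A B := x
/-- cast `Pr → P^n` -/
def ofPr (x : Pr n A B) : P n A B := x

lemma toPr_add (x y : P n A B) : toPr n A B (x + y) = toPr n A B x + toPr n A B y := rfl
lemma toPr_zero : toPr n A B 0 = 0 := rfl
lemma toPr_ofPr (x : Pr n A B) : toPr n A B (ofPr n A B x) = x := rfl
lemma ofPr_toPr (x : P n A B) : ofPr n A B (toPr n A B x) = x := rfl
lemma toPr_surjective : Function.Surjective (toPr n A B) := fun x => ⟨x, rfl⟩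

variable {n A B M N D} in
lemma gmap_add (hD : IsDiffOpLE A B M N n D) (m m' : M) (x : P n A B) :
    gmap hD (m + m') x = gmap hD m x + gmap hD m' x := by
  obtain ⟨y, rfl⟩ := Ideal.Quotient.mk_surjective x
  rw [gmap_mk, gmap_mk, gmap_mk, Dm_add, linearize_add_left]

variable {n A B M N D} in
/-- the bi-additive map `(x, m) ↦ gmap m x` -/
noncomputable def fmap (hD : IsDiffOpLE A B M N n D) : Pr n A B →+ M →+ N :=
  AddMonoidHom.mk' (fun x => AddMonoidHom.mk' (fun m => gmap hD m (ofPr n A B x))
    (fun m m' => gmap_add hD m m' _))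
    (fun x x' => by
      ext m
      change gmap hD m (ofPr n A B (x + x')) = gmap hD m _ + gmap hD m _
      exact map_add (gmap hD m) _ _)

variable {n A B M N D} in
lemma fmap_apply (hD : IsDiffOpLE A B M N n D) (x : Pr n A B) (m : M) :
    fmap hD x m = gmap hD m (ofPr n A B x) := rfl

lemma smul_Pr_mk (b : B) (y : B ⊗[A] B) :
    (b • (toPr n A B (Ideal.Quotient.mk _ y)) : Pr n A B) =
      (toPr n A B (Ideal.Quotient.mk ((I) ^ (n + 1)) (((1 : B) ⊗ₜ[A] b) * y))) := by
  rw [Algebra.smul_def]
  rfl

variable {n A B M N D} in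
lemma fmap_balanced (hD : IsDiffOpLE A B M N n D) (b : B) (x : Pr n A B) (m : M) :
    fmap hD (b • x) m = fmap hD x (b • m) := by
  obtain ⟨x, rfl⟩ := toPr_surjective n A B x
  obtain ⟨y, rfl⟩ := Ideal.Quotient.mk_surjective x
  rw [smul_Pr_mk, fmap_apply, fmap_apply]
  change gmap hD m (Ideal.Quotient.mk _ _) = gmap hD (b • m) (Ideal.Quotient.mk _ _)
  rw [gmap_mk, gmap_mk, linearize_Dm_right]

variable {n A B M N D} in
/-- the additive map `u : P^n(M) → N` -/
noncomputable def umap (hD : IsDiffOpLE A B M N n D) : PM n A B M →+ N :=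
  TensorProduct.liftAddHom (fmap hD) (fmap_balanced hD)

variable {n A B M N D} in
lemma umap_tmul (hD : IsDiffOpLE A B M N n D) (x : Pr n A B) (m : M) :
    umap hD (x ⊗ₜ[B] m) = gmap hD m (ofPr n A B x) := rfl

variable {n A B M N D} in
lemma umap_smul (hD : IsDiffOpLE A B M N n D) (b : B) (t : PM n A B M) :
    umap hD (algebraMap B (P n A B) b • t) = b • umap hD t := by
  induction t using TensorProduct.induction_on with
  | zero => simp
  | tmul x m =>
    obtain ⟨x, rfl⟩ := toPr_surjective n A B x
    obtain ⟨y, rfl⟩ := Ideal.Quotient.mk_surjective x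
    rw [TensorProduct.smul_tmul', umap_tmul, umap_tmul]
    change gmap hD m (Ideal.Quotient.mk _ ((b ⊗ₜ[A] (1 : B)) * y)) = b • gmap hD m (Ideal.Quotient.mk _ y)
    rw [gmap_mk, gmap_mk, linearize_left]
  | add x y hx hy => rw [smul_add, map_add, map_add, hx, hy, smul_add]

variable {n A B M N D} in
lemma umap_dM (hD : IsDiffOpLE A B M N n D) (m : M) : umap hD (dM n A B M m) = D m := by
  change umap hD ((1 : Pr n A B) ⊗ₜ[B] m) = D m
  rw [umap_tmul]
  change gmap hD m (Ideal.Quotient.mk _ ((1 : B) ⊗ₜ[A] (1 : B))) = D m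
  rw [gmap_mk, linearize_tmul, Dm_apply, one_smul, one_smul]

/-- pure tensors of `P^n(M)` in terms of `dM` -/
lemma mk_tmul_eq (b c : B) (m : M) :
    ((toPr n A B (Ideal.Quotient.mk (I ^ (n + 1)) (b ⊗ₜ[A] c))) ⊗ₜ[B] m : PM n A B M) =
      algebraMap B (P n A B) b • dM n A B M (c • m) := by
  change _ = algebraMap B (P n A B) b • ((1 : Pr n A B) ⊗ₜ[B] (c • m))
  rw [← TensorProduct.smul_tmul, TensorProduct.smul_tmul']
  congr 1
  rw [Algebra.smul_def, mul_one]
  change (Ideal.Quotient.mk (I ^ (n + 1)) (b ⊗ₜ[A] c)) =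
    Ideal.Quotient.mk (I ^ (n + 1)) (b ⊗ₜ[A] (1 : B)) * Ideal.Quotient.mk (I ^ (n + 1)) ((1 : B) ⊗ₜ[A] c)
  rw [← map_mul, Algebra.TensorProduct.tmul_mul_tmul, mul_one, one_mul]

lemma u_unique (u u' : PM n A B M →+ N)
    (hu : ∀ (b : B) (t : PM n A B M), u (algebraMap B (P n A B) b • t) = b • u t)
    (hu' : ∀ (b : B) (t : PM n A B M), u' (algebraMap B (P n A B) b • t) = b • u' t)
    (h : ∀ m : M, u (dM n A B M m) = u' (dM n A B M m)) : u = u' := by
  ext t
  induction t using TensorProduct.induction_on with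
  | zero => simp
  | tmul x m =>
    obtain ⟨x, rfl⟩ := toPr_surjective n A B x
    obtain ⟨y, rfl⟩ := Ideal.Quotient.mk_surjective x
    induction y using TensorProduct.induction_on with
    | zero =>
      rw [map_zero, toPr_zero, TensorProduct.zero_tmul, map_zero, map_zero]
    | tmul b c =>
      rw [mk_tmul_eq n A B M b c m, hu, hu', h]
    | add y y' hy hy' =>
      rw [map_add, toPr_add, TensorProduct.add_tmul, map_add, map_add, hy, hy']
  | add x y hx hy => rw [map_add, map_add, hx, hy]

lemma prod_sub_mk_eq_zero (b : Fin (n + 1) → B) :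
    ∏ i, (dn n A B (b i) - algebraMap B (P n A B) (b i)) = 0 := by
  have h1 : ∀ i, dn n A B (b i) - algebraMap B (P n A B) (b i) =
      Ideal.Quotient.mk (I ^ (n + 1)) (dgen (A := A) (b i)) := by
    intro i
    rw [map_sub]
    rfl
  rw [Finset.prod_congr rfl fun i _ => h1 i, ← map_prod, Ideal.Quotient.eq_zero_iff_mem]
  have : ∏ i : Fin (n + 1), dgen (A := A) (b i) ∈
      ∏ _i : Fin (n + 1), KaehlerDifferential.ideal A B :=
    Ideal.prod_mem_prod (fun i _ => dgen_mem (b i))
  simpa using this

lemma alt_expand (b : Fin (n + 1) → B) :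
    ∑ H : Finset (Fin (n + 1)), ((-1 : ℤ) ^ H.card) •
      (algebraMap B (P n A B) (∏ i ∈ H, b i) * dn n A B (∏ i ∈ Hᶜ, b i)) = 0 := by
  rw [← prod_sub_mk_eq_zero n A B b]
  have h1 : ∀ i, dn n A B (b i) - algebraMap B (P n A B) (b i) =
      (- algebraMap B (P n A B) (b i)) + dn n A B (b i) := fun i => by ring
  rw [Finset.prod_congr rfl fun i _ => h1 i, Finset.prod_add, Finset.powerset_univ]
  refine Finset.sum_congr rfl fun H _ => ?_
  rw [Finset.prod_neg, map_prod, map_prod, Finset.compl_eq_univ_sdiff, zsmul_eq_mul]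
  push_cast
  ring

end

/-- Let B be an A-algebra, M and N two B-modules and D : M → N an A-linear map. Let P^n(M) = P^n_{B/A}
⊗_B M, the tensor product formed with the B-module structure of P^n_{B/A} through d^n, regarded as a
B-module through the first factor of P^n_{B/A}, with d^n_M : M → P^n(M), m ↦ 1 ⊗ m. Then D is a
differential operator of order at most n relative to A (order defined through iterated commutators
with multiplication by elements of B) if and only if there is exactly one additive map u : P^n(M) →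
N which is B-linear for the first-factor structure and satisfies u(1 ⊗ m) = D(m) for all m ∈ M. -/
theorem result (n : ℕ) (A B : Type u) [CommRing A] [CommRing B] [Algebra A B]
    (M N : Type u) [AddCommGroup M] [Module A M] [Module B M] [IsScalarTower A B M]
    [AddCommGroup N] [Module A N] [Module B N] [IsScalarTower A B N] (D : M →ₗ[A] N) :
    Diff16.IsDiffOpLE A B M N n D ↔
      ∃! u : PP16.PM n A B M →+ N,
        (∀ (b : B) (t : PP16.PM n A B M), u (algebraMap B (PP16.P n A B) b • t) = b • u t) ∧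
          ∀ m : M, u (PP16.dM n A B M m) = D m := by
  constructor
  · intro hD
    refine ⟨umap hD, ⟨umap_smul hD, umap_dM hD⟩, ?_⟩
    rintro u' ⟨h1, h2⟩
    refine u_unique n A B M N u' (umap hD) h1 (umap_smul hD) ?_
    intro m
    rw [h2, umap_dM]
  · rintro ⟨u, ⟨h1, h2⟩, -⟩
    rw [isDiffOpLE_iff_alt]
    intro b t
    have key : ∀ (c c' : B), c • D (c' • t) =
        u ((toPr n A B (algebraMap B (P n A B) c * dn n A B c')) ⊗ₜ[B] t) := by
      intro c c'
      rw [← h2, ← h1]
      congr 1
      change algebraMap B (P n A B) c • ((1 : Pr n A B) ⊗ₜ[B] (c' • t)) = _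
      rw [← TensorProduct.smul_tmul, TensorProduct.smul_tmul']
      congr 1
      rw [Algebra.smul_def, mul_one]
      rfl
    simp_rw [key]
    simp_rw [← map_zsmul u, ← map_sum u]
    have h3 : ∀ (k : ℤ) (x : P n A B), k • ((toPr n A B x) ⊗ₜ[B] t : PM n A B M) =
        (toPr n A B (k • x)) ⊗ₜ[B] t := by
      intro k x
      rw [TensorProduct.smul_tmul']
      rfl
    simp_rw [h3]
    rw [← TensorProduct.sum_tmul]
    have h4 : ∑ H : Finset (Fin (n + 1)), toPr n A B (((-1 : ℤ) ^ H.card) •
        (algebraMap B (P n A B) (∏ i ∈ H, b i) * dn n A B (∏ i ∈ Hᶜ, b i))) = 0 := by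
      have := alt_expand n A B b
      exact this
    rw [h4, TensorProduct.zero_tmul, map_zero]

end Groth.Agent.S3815
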