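import Groth.Statements.S3816
import Groth.Agent.LibPP29f
-- import your own Groth.Agent.* helpers here

set_option autoImplicit false
universe u
open scoped TensorProduct
open scoped BigOperators
open PP16

namespace Groth.Agent.S3816

/-- a) iff b) (affine form, finite family): let B be an A-algebra and z_1, …, z_r elements of B whose
differentials generate the module of differentials of B over A. The following are equivalent: (a) B
is differentially smooth over A and (dz_i) is a basis of the module of differentials; (b) there is a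
family (D_p), indexed by multi-indices p, of differential operators B → B (each of some finite
order) with D_p(z^q) = (∏ binom(q_i, p_i)) z^(q-p) for all p, q. -/
theorem result (A B : Type u) [CommRing A] [CommRing B]
    [Algebra A B] (ι : Type) [Fintype ι] [DecidableEq ι] (z : ι → B)
    (hz : Submodule.span B (Set.range fun i => KaehlerDifferential.D A B (z i)) = ⊤) :
    (PP16.IsDiffSmooth A B ∧
        ∃ b : Module.Basis ι B (KaehlerDifferential A B), ∀ i, b i = KaehlerDifferential.D A B (z i)) ↔
      ∃ Dp : (ι → ℕ) → (B →ₗ[A] B),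
        (∀ p, ∃ k : ℕ, Diff16.IsDiffOpLE A B B B k (Dp p)) ∧
        ∀ p q : ι → ℕ, Dp p (∏ i, z i ^ q i) =
          ((∏ i, Nat.choose (q i) (p i) : ℕ) : B) * ∏ i, z i ^ (q i - p i) := by
  classical
  constructor
  · rintro ⟨hB, b, hb⟩
    choose bm hbm using fun m => Groth.Agent.LibPP29.exists_basis_P z hB b hb m
    refine ⟨fun p => Groth.Agent.LibPP29.opOf A (∑ i, p i) ((bm (∑ i, p i)).coord ⟨p, le_rfl⟩),
      fun p => ⟨_, Groth.Agent.LibPP29.opOf_order _ _⟩, fun p q => ?_⟩
    exact Groth.Agent.LibPP29.opOf_coord_monomial z _ (bm _) (hbm _) p le_rfl q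
  · rintro ⟨Dp, hD, hDz⟩
    have hli := Groth.Agent.LibPP29.linearIndependent_D z hz Dp hD hDz
    set b : Module.Basis ι B (KaehlerDifferential A B) := Module.Basis.mk hli hz.ge with hbdef
    have hb : ∀ i, b i = KaehlerDifferential.D A B (z i) := fun i => by
      rw [hbdef, Module.Basis.mk_apply]
    refine ⟨⟨Module.Projective.of_basis b, ?_⟩, b, hb⟩
    intro ι' _
    exact ⟨Groth.Agent.LibPP29.phi z b, Groth.Agent.LibPP29.phi_tprod_D z b hb,
      Groth.Agent.LibPP29.phi_injective z b hz Dp hD hDz,
      Groth.Agent.LibPP29.phi_surjective z b hz hb⟩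

end Groth.Agent.S3816
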