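import Groth.Statements.S3819
import Groth.Agent.LibPP29h
-- import your own Groth.Agent.* helpers here

set_option autoImplicit false
universe u
open scoped TensorProduct
open PP16

namespace Groth.Agent.S3819

/-- Let B be an A-algebra containing the rational numbers (a scheme of characteristic 0) whose module of
differentials over A is a free B-module, of any rank. Then B is differentially smooth over A. -/
theorem result (A B : Type u) [CommRing A] [CommRing B] [Algebra A B] [Algebra ℚ B]
    (hΩ : Module.Free B (KaehlerDifferential A B)) : PP16.IsDiffSmooth A B := by
  classical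
  let b := Module.Free.chooseBasis B (KaehlerDifferential A B)
  have hsurj := Ideal.toCotangent_surjective (KaehlerDifferential.ideal A B)
  choose x hx using fun k => hsurj (b k)
  refine ⟨Module.Projective.of_free, ?_⟩
  intro ι' _
  have hval := Groth.Agent.LibPP29.phiW_tprod_D (ι' := ι') b (fun k => (x k : B ⊗[A] B))
    (fun k => (x k).2) (fun k => hx k)
  exact ⟨Groth.Agent.LibPP29.phiW b (fun k => (x k : B ⊗[A] B)) (fun k => (x k).2), hval,
    Groth.Agent.LibPP29.phiW_injective b (fun k => (x k : B ⊗[A] B)) (fun k => (x k).2)
      (fun k => hx k),
    Groth.Agent.LibPP29.surjective_of_values _ hval⟩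

end Groth.Agent.S3819
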