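import Groth.Statements.S3820
import Groth.Agent.LibPP29l
-- import your own Groth.Agent.* helpers here

set_option autoImplicit false
universe u
open scoped TensorProduct
open PP16

namespace Groth.Agent.S3820

/-- Let B be an A-algebra which is formally smooth (for the discrete topologies). Then Spec B is
differentially smooth over Spec A: the module of differentials is projective and the canonical
surjections Sym^n(Ω_{B/A}) → I^n/I^(n+1) are bijective for all n. -/
theorem result (A B : Type u) [CommRing A] [CommRing B] [Algebra A B]
    [Algebra.FormallySmooth A B] : PP16.IsDiffSmooth A B := by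
  classical
  have hproj : Module.Projective B (KaehlerDifferential A B) := inferInstance
  obtain ⟨i, hi⟩ := Module.projective_def'.1 hproj
  let e : Module.Basis (KaehlerDifferential A B) B (KaehlerDifferential A B →₀ B) :=
    Finsupp.basisSingleOne
  let π : (KaehlerDifferential A B →₀ B) →ₗ[B] KaehlerDifferential A B :=
    Finsupp.linearCombination B id
  have hπi : ∀ ω, π (i ω) = ω := fun ω => LinearMap.congr_fun hi ω
  have hsurj := Ideal.toCotangent_surjective (KaehlerDifferential.ideal A B)
  choose x hx using fun k : KaehlerDifferential A B => hsurj k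
  have hw : ∀ k, (KaehlerDifferential.ideal A B).toCotangent ⟨(x k : B ⊗[A] B), (x k).2⟩ =
      π (e k) := by
    intro k
    rw [Subtype.coe_eta, hx]
    simp [e, π]
  refine ⟨hproj, ?_⟩
  intro ι' _
  have hval := Groth.Agent.LibPP29.phiF_tprod_D (ι' := ι') e π i (fun k => (x k : B ⊗[A] B)) hπi
    (fun k => (x k).2) hw
  exact ⟨Groth.Agent.LibPP29.phiF e i (fun k => (x k : B ⊗[A] B)) (fun k => (x k).2), hval,
    Groth.Agent.LibPP29.phiF_injective e π i (fun k => (x k : B ⊗[A] B)) hπi (fun k => (x k).2) hw,
    Groth.Agent.LibPP29.surjective_of_values _ hval⟩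

end Groth.Agent.S3820
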