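import Groth.Statements.S3821
import Groth.Agent.LibPP29q
import Mathlib.LinearAlgebra.PiTensorProduct.Generators
-- import your own Groth.Agent.* helpers here

set_option autoImplicit false
universe u
open scoped TensorProduct
open PP16

namespace Groth.Agent.S3821


open Groth.Agent.LibPP29

/-- two linear maps on the symmetric power of the differentials agreeing on products of
differentials are equal -/
lemma sym_ext_of_D {A B : Type u} [CommRing A] [CommRing B] [Algebra A B]
    {ι' : Type u} [Fintype ι'] {N : Type u} [AddCommGroup N] [Module B N]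
    (φ ψ : SymmetricPower B ι' (KaehlerDifferential A B) →ₗ[B] N)
    (h : ∀ β : ι' → B, φ (SymmetricPower.tprod B fun j => KaehlerDifferential.D A B (β j)) =
      ψ (SymmetricPower.tprod B fun j => KaehlerDifferential.D A B (β j))) : φ = ψ := by
  have h1 : φ.compMultilinearMap (SymmetricPower.tprod B) =
      ψ.compMultilinearMap (SymmetricPower.tprod B) :=
    MultilinearMap.ext_of_span_eq_top (γ := fun _ => B)
      (g := fun _ (b : B) => KaehlerDifferential.D A B b)
      (fun _ => KaehlerDifferential.span_range_derivation A B) (fun j => h j)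
  apply LinearMap.ext_on (SymmetricPower.span_tprod_eq_top B ι' (KaehlerDifferential A B))
  rintro _ ⟨ω, rfl⟩
  exact congrFun (congrArg DFunLike.coe h1) ω



/-- Let B be an A-algebra, A → A' a ring map and B' = B ⊗_A A'. If B is differentially smooth over A,
then B' is differentially smooth over A'. -/
theorem result (A B A' B' : Type u) [CommRing A] [CommRing B] [Algebra A B]
    [CommRing A'] [CommRing B'] [Algebra A' B'] [Algebra A A'] [Algebra B B'] [Algebra A B']
    [IsScalarTower A A' B'] [IsScalarTower A B B'] [Algebra.IsPushout A B A' B']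
    (h : PP16.IsDiffSmooth A B) : PP16.IsDiffSmooth A' B' := by
  classical
  obtain ⟨hproj, hsym⟩ := h
  obtain ⟨i, hi⟩ := Module.projective_def'.1 hproj
  let e : Module.Basis (KaehlerDifferential A B) B (KaehlerDifferential A B →₀ B) :=
    Finsupp.basisSingleOne
  let π : (KaehlerDifferential A B →₀ B) →ₗ[B] KaehlerDifferential A B :=
    Finsupp.linearCombination B id
  have hπi : ∀ ω, π (i ω) = ω := fun ω => LinearMap.congr_fun hi ω
  have hsurj := Ideal.toCotangent_surjective (KaehlerDifferential.ideal A B)
  choose x hx using fun k : KaehlerDifferential A B => hsurj k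
  have hw : ∀ k, (KaehlerDifferential.ideal A B).toCotangent ⟨(x k : B ⊗[A] B), (x k).2⟩ =
      π (e k) := by
    intro k
    rw [Subtype.coe_eta, hx]
    simp [e, π]
  -- injectivity of the canonical maps of `B / A`
  have hinjAll : ∀ (ι' : Type u) [Fintype ι'] [DecidableEq ι'],
      Function.Injective (phiF e i (fun k => (x k : B ⊗[A] B)) (fun k => (x k).2) (ι' := ι')) := by
    intro ι' _ _
    obtain ⟨φ, hφ, hbij⟩ := hsym ι'
    have heq : phiF e i (fun k => (x k : B ⊗[A] B)) (fun k => (x k).2) (ι' := ι') = φ := by
      apply sym_ext_of_D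
      intro β
      rw [hφ]
      exact phiF_tprod_D e π i (fun k => (x k : B ⊗[A] B)) hπi (fun k => (x k).2) hw β
    rw [heq]
    exact hbij.1
  -- the base-changed free cover
  let e' : Module.Basis (KaehlerDifferential A B) B' (KaehlerDifferential A B →₀ B') :=
    Finsupp.basisSingleOne
  let π' := piB A' B' e π
  let i' := iB A' B' e i
  have hπi' : ∀ ω', π' (i' ω') = ω' := piB_iB e π i hπi
  have hsurj' := Ideal.toCotangent_surjective (KaehlerDifferential.ideal A' B')
  choose x' hx' using fun k : KaehlerDifferential A B => hsurj' (π' (e' k))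
  have hw' : ∀ k, (KaehlerDifferential.ideal A' B').toCotangent
      ⟨(x' k : B' ⊗[A'] B'), (x' k).2⟩ = π' (e' k) := by
    intro k
    rw [Subtype.coe_eta, hx']
  have hproj' : Module.Projective B' (KaehlerDifferential A' B') :=
    Module.Projective.of_equiv (tke A B A' B')
  refine ⟨hproj', ?_⟩
  intro ι' _
  have hval := phiF_tprod_D (ι' := ι') e' π' i' (fun k => (x' k : B' ⊗[A'] B')) hπi'
    (fun k => (x' k).2) hw'
  refine ⟨phiF e' i' (fun k => (x' k : B' ⊗[A'] B')) (fun k => (x' k).2), hval, ?_,
    surjective_of_values _ hval⟩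
  set N := Fintype.card ι' with hN
  have hτ := isTaylor_tauDS e π i (fun k => (x k : B ⊗[A] B)) N hπi (fun k => (x k).2) hw
    (fun d => hinjAll _)
  have hτ' := isTaylor_tauB (A' := A') (B' := B') e i N _ hτ
  exact phiF_injective_of_isTaylor e' π' i' (fun k => (x' k : B' ⊗[A'] B')) N _ hτ' le_rfl hπi'
    (fun k => (x' k).2) hw'

end Groth.Agent.S3821
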