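import Groth.Statements.S3822
import Groth.Agent.LibPP29r
import Groth.Agent.S3821
import Mathlib.RingTheory.Finiteness.Descent
import Mathlib.Algebra.Module.FinitePresentation
import Mathlib.RingTheory.Flat.EquationalCriterion
import Mathlib.RingTheory.Flat.FaithfullyFlat.Basic
-- import your own Groth.Agent.* helpers here

set_option autoImplicit false
universe u
open scoped TensorProduct
open PP16

namespace Groth.Agent.S3822


open Groth.Agent.LibPP29

lemma finitePresentation_of_faithfullyFlat (R S M : Type u) [CommRing R] [CommRing S] [Algebra R S]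
    [Module.FaithfullyFlat R S] [AddCommGroup M] [Module R M]
    [Module.FinitePresentation S (S ⊗[R] M)] : Module.FinitePresentation R M := by
  have : Module.Finite R M := Module.Finite.of_finite_tensorProduct_of_faithfullyFlat S
  obtain ⟨n, f, hf⟩ := Module.Finite.exists_fin' R M
  apply Module.finitePresentation_of_free_of_surjective f hf
  have hex : Function.Exact ((LinearMap.ker f).subtype.baseChange S) (f.baseChange S) :=
    lTensor_exact S f.exact_subtype_ker_map hf
  have hker : (LinearMap.ker (f.baseChange S)).FG :=
    Module.FinitePresentation.fg_ker (f.baseChange S) (LinearMap.lTensor_surjective S hf)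
  have hinj : Function.Injective ((LinearMap.ker f).subtype.baseChange S) :=
    Module.Flat.lTensor_preserves_injective_linearMap _ (Submodule.injective_subtype _)
  have h1 : Module.Finite S (S ⊗[R] (LinearMap.ker f)) := by
    have e := LinearEquiv.ofInjective _ hinj
    rw [LinearMap.exact_iff] at hex
    have : Module.Finite S (LinearMap.range ((LinearMap.ker f).subtype.baseChange S)) := by
      rw [← hex]
      exact Module.Finite.of_fg hker
    exact Module.Finite.equiv e.symm
  have h2 : Module.Finite R (LinearMap.ker f) :=
    Module.Finite.of_finite_tensorProduct_of_faithfullyFlat S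
  exact Module.Finite.iff_fg.1 h2

lemma projective_of_faithfullyFlat (R S M : Type u) [CommRing R] [CommRing S] [Algebra R S]
    [Module.FaithfullyFlat R S] [AddCommGroup M] [Module R M]
    [Module.Finite S (S ⊗[R] M)] [Module.Projective S (S ⊗[R] M)] :
    Module.Projective R M ∧ Module.Finite R M := by
  have h1 : Module.FinitePresentation S (S ⊗[R] M) := Module.finitePresentation_of_projective _ _
  have h2 := finitePresentation_of_faithfullyFlat R S M
  have h3 : Module.Flat R M := Module.Flat.of_flat_tensorProduct R M S
  exact ⟨Module.Flat.projective_of_finitePresentation, inferInstance⟩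



/-- Let B be an A-algebra, A → A' a faithfully flat ring map and B' = B ⊗_A A'. If B' is differentially
smooth over A' and its module of differentials is finitely generated, then B is differentially
smooth over A and its module of differentials is finitely generated. -/
theorem result (A B A' B' : Type u) [CommRing A] [CommRing B] [Algebra A B]
    [CommRing A'] [CommRing B'] [Algebra A' B'] [Algebra A A'] [Algebra B B'] [Algebra A B']
    [IsScalarTower A A' B'] [IsScalarTower A B B'] [Algebra.IsPushout A B A' B'] [Module.FaithfullyFlat A A']
    (h : PP16.IsDiffSmooth A' B') (hfin : Module.Finite B' (KaehlerDifferential A' B')) :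
    PP16.IsDiffSmooth A B ∧ Module.Finite B (KaehlerDifferential A B) := by
  classical
  obtain ⟨hproj', hsym'⟩ := h
  -- `B'` is faithfully flat over `B`
  have hff : Module.FaithfullyFlat B B' :=
    Module.FaithfullyFlat.of_linearEquiv B (B ⊗[A] A')
      (Algebra.IsPushout.equiv A B A' B').symm.toLinearEquiv
  have halg : Function.Injective (algebraMap B B') :=
    FaithfulSMul.algebraMap_injective B B'
  -- the differentials of `B` are finite projective
  have hfinT : Module.Finite B' (B' ⊗[B] KaehlerDifferential A B) :=
    Module.Finite.equiv (tke A B A' B').symm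
  have hprojT : Module.Projective B' (B' ⊗[B] KaehlerDifferential A B) :=
    Module.Projective.of_equiv (tke A B A' B').symm
  obtain ⟨hproj, hfinΩ⟩ := projective_of_faithfullyFlat B B' (KaehlerDifferential A B)
  refine ⟨⟨hproj, ?_⟩, hfinΩ⟩
  -- free cover
  obtain ⟨i, hi⟩ := Module.projective_def'.1 hproj
  let e : Module.Basis (KaehlerDifferential A B) B (KaehlerDifferential A B →₀ B) :=
    Finsupp.basisSingleOne
  let π : (KaehlerDifferential A B →₀ B) →ₗ[B] KaehlerDifferential A B :=
    Finsupp.linearCombination B id
  have hπi : ∀ ω, π (i ω) = ω := fun ω => LinearMap.congr_fun hi ω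
  have hsurj := Ideal.toCotangent_surjective (KaehlerDifferential.ideal A B)
  choose x hx using fun k : KaehlerDifferential A B => hsurj k
  have hw : ∀ k, (KaehlerDifferential.ideal A B).toCotangent ⟨(x k : B ⊗[A] B), (x k).2⟩ =
      π (e k) := by
    intro k
    rw [Subtype.coe_eta, hx]
    simp [e, π]
  intro ι' _
  have hval := phiF_tprod_D (ι' := ι') e π i (fun k => (x k : B ⊗[A] B)) hπi
    (fun k => (x k).2) hw
  refine ⟨phiF e i (fun k => (x k : B ⊗[A] B)) (fun k => (x k).2), hval, ?_,
    surjective_of_values _ hval⟩
  -- the base-changed data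
  let e' : Module.Basis (KaehlerDifferential A B) B' (KaehlerDifferential A B →₀ B') :=
    Finsupp.basisSingleOne
  have hπi' : ∀ ω', piB A' B' e π (iB A' B' e i ω') = ω' := piB_iB e π i hπi
  have hwI' : ∀ k, PP16.tensorMap A B A' B' (x k : B ⊗[A] B) ∈ KaehlerDifferential.ideal A' B' :=
    fun k => tensorMap_mem _ (x k).2
  have hw' : ∀ k, (KaehlerDifferential.ideal A' B').toCotangent
      ⟨PP16.tensorMap A B A' B' (x k : B ⊗[A] B), hwI' k⟩ = piB A' B' e π (e' k) := by
    intro k
    have he' : e' k = Finsupp.single k 1 := by simp [e']
    rw [toCotangent_tensorMap _ (x k).2, hw, he', piB_basis]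
  apply phiF_injective_of_baseChange (A' := A') (B' := B') e π i (fun k => (x k : B ⊗[A] B)) hπi
    (fun k => (x k).2) hw halg
  obtain ⟨φ, hφ, hbij⟩ := hsym' ι'
  have heq : phiF e' (iB A' B' e i) (fun k => PP16.tensorMap A B A' B' (x k : B ⊗[A] B)) hwI'
      (ι' := ι') = φ := by
    apply Groth.Agent.S3821.sym_ext_of_D
    intro β
    rw [hφ]
    exact phiF_tprod_D e' (piB A' B' e π) (iB A' B' e i) _ hπi' hwI' hw' β
  rw [heq]
  exact hbij.1

end Groth.Agent.S3822
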