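import Groth.Statements.S3825
import Groth.Agent.Lib.Helper11.QuasiRegCot
import Groth.Agent.S3824

set_option autoImplicit false
universe u
open QReg16

namespace Groth.Agent.S3825

/-- a) iff c) (affine local form): let A be a local ring and I a proper ideal generated by some
quasi-regular sequence. For a finite family (f_i) of elements of I, the following are equivalent:
(a) (f_i) is a quasi-regular sequence generating I; (c) the classes of the f_i form a basis of the
A/I-module I/I² (equivalently, b): (f_i) is a minimal system of generators of I). -/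
theorem result {A : Type u} [CommRing A] [IsLocalRing A]
    (I : Ideal A) (hI : I ≤ IsLocalRing.maximalIdeal A)
    (hq : ∃ (r : ℕ) (g : Fin r → A), CAlgX.IsQuasiRegular g ∧ Ideal.span (Set.range g) = I)
    {m : ℕ} (f : Fin m → I) :
    (CAlgX.IsQuasiRegular (fun i => (f i : A)) ∧ Ideal.span (Set.range fun i => (f i : A)) = I) ↔
      (LinearIndependent (A ⧸ I) (fun i => I.toCotangent (f i)) ∧
        Submodule.span (A ⧸ I) (Set.range fun i => I.toCotangent (f i)) = ⊤) := by
  constructor
  · rintro ⟨h1, h2⟩
    exact ⟨Groth.Agent.Lib.helper11.QuasiReg.cot_li_of_QR I f h1 h2,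
      Groth.Agent.Lib.helper11.QuasiReg.cot_span_of_span I f h2⟩
  · rintro ⟨hli, hsp⟩
    obtain ⟨r, g, hg, hgI⟩ := hq
    have hne : I ≠ ⊤ := fun h =>
      (IsLocalRing.maximalIdeal.isMaximal A).ne_top (top_le_iff.1 (h ▸ hI))
    have : Nontrivial (A ⧸ I) := Ideal.Quotient.nontrivial_iff.2 hne
    have hfg : I.FG := by
      rw [← hgI]
      exact Submodule.fg_span (Set.finite_range g)
    have hrad : I ≤ (⊥ : Ideal A).jacobson := by
      rw [IsLocalRing.jacobson_eq_maximalIdeal ⊥ bot_ne_top]
      exact hI
    have hspanf := Groth.Agent.Lib.helper11.QuasiReg.span_of_cot_span I f hfg hrad hsp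
    refine ⟨?_, hspanf⟩
    -- the same for `g`
    have hgmem : ∀ i, g i ∈ I := fun i => hgI ▸ Ideal.subset_span ⟨i, rfl⟩
    set g' : Fin r → I := fun i => ⟨g i, hgmem i⟩ with hg'
    have hg'span : Ideal.span (Set.range fun i => (g' i : A)) = I := hgI
    have hli' := Groth.Agent.Lib.helper11.QuasiReg.cot_li_of_QR I g' hg hg'span
    have hsp' := Groth.Agent.Lib.helper11.QuasiReg.cot_span_of_span I g' hg'span
    have b1 := Module.Basis.mk hli hsp.ge
    have b2 := Module.Basis.mk hli' hsp'.ge
    have hmr : m = r := by
      have e1 := Module.finrank_eq_card_basis b1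
      have e2 := Module.finrank_eq_card_basis b2
      rw [Fintype.card_fin] at e1 e2
      omega
    subst hmr
    exact Groth.Agent.S3824.result g (fun i => (f i : A)) hg (hspanf.trans hgI.symm)

end Groth.Agent.S3825
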