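import Groth.Statements.S3833
import Mathlib.AlgebraicGeometry.Morphisms.QuasiCompact

set_option autoImplicit false
universe u
open CategoryTheory CategoryTheory.Limits AlgebraicGeometry TopologicalSpace
open Rat20

namespace Groth.Agent.S3833

open CategoryTheory AlgebraicGeometry TopologicalSpace in
theorem eq_zero_of_germ_eq_zero {X : Scheme.{u}} {V : X.Opens} (s : Γ(X, V))
    (h : ∀ (y : X) (hy : y ∈ V), X.presheaf.germ V y hy s = 0) : s = 0 := by
  refine TopCat.Presheaf.section_ext X.sheaf V s 0 (fun y hy => ?_)
  exact (h y hy).trans (map_zero (X.presheaf.germ V y hy).hom).symm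

/-- Stated for a global section, the case of a section over an open subset U being the same statement
for the open subscheme U: let X be a scheme and s a global section of O_X which is regular in the
sense that its germ at every point x is a non-zero-divisor of the local ring O_{X,x} (on an affine
scheme this is the same as being a non-zero-divisor of Γ(X, O_X), but not in general). Then the open
subset X_s where s is invertible is schematically dense in X. -/
theorem result (X : Scheme.{u}) (s : Γ(X, ⊤))
    (hs : ∀ x : ↥X, (X.presheaf.germ ⊤ x trivial s) ∈ nonZeroDivisors ↑(X.presheaf.stalk x)) :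
    CInt.IsSchematicallyDense (X.basicOpen s) := by
  intro V
  rw [injective_iff_map_eq_zero]
  intro t ht
  apply eq_zero_of_germ_eq_zero
  intro y hy
  obtain ⟨_, ⟨W, hW, rfl⟩, hyW, hWV⟩ :=
    X.isBasis_affineOpens.exists_subset_of_mem_open hy V.2
  set t' := X.presheaf.map (homOfLE hWV).op t with ht'
  set s' := X.presheaf.map (homOfLE (le_top : W ≤ ⊤)).op s with hs'
  have hbo : X.basicOpen s' = W ⊓ X.basicOpen s := Scheme.basicOpen_res _ _ _
  -- `t'` vanishes on `D(s')`
  have h0 : X.presheaf.map (homOfLE (X.basicOpen_le s')).op t' = 0 := by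
    have hle : X.basicOpen s' ≤ V ⊓ X.basicOpen s := by
      rw [hbo]
      exact inf_le_inf_right _ hWV
    have h1 : X.presheaf.map (homOfLE (X.basicOpen_le s')).op t' =
        X.presheaf.map (homOfLE hle).op
          (X.presheaf.map (homOfLE (inf_le_left : V ⊓ X.basicOpen s ≤ V)).op t) := by
      rw [ht', ← ConcreteCategory.comp_apply, ← ConcreteCategory.comp_apply,
        ← Functor.map_comp, ← Functor.map_comp]
      rfl
    rw [h1, ht, map_zero]
  obtain ⟨n, hn⟩ := exists_pow_mul_eq_zero_of_res_basicOpen_eq_zero_of_isAffineOpen X hW t' s' h0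
  have hgt : X.presheaf.germ W y hyW t' = X.presheaf.germ V y hy t :=
    TopCat.Presheaf.germ_res_apply X.presheaf (homOfLE hWV) y hyW t
  have hgs : X.presheaf.germ W y hyW s' = X.presheaf.germ ⊤ y trivial s :=
    TopCat.Presheaf.germ_res_apply X.presheaf (homOfLE (le_top : W ≤ ⊤)) y hyW s
  have h2 := congrArg (X.presheaf.germ W y hyW) hn
  rw [map_mul, map_pow, map_zero, hgt, hgs] at h2
  have hnzd := pow_mem (hs y) n
  exact (mem_nonZeroDivisors_iff.mp hnzd).1 _ h2

end Groth.Agent.S3833
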