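import Groth.Statements.S3834
import Groth.Agent.Lib.Helper16.QCohAss

set_option autoImplicit false
universe u
open CategoryTheory CategoryTheory.Limits AlgebraicGeometry TopologicalSpace
open Rat20

namespace Groth.Agent.S3834

open Groth.Agent.Lib.helper16 Groth.Agent.Lib.helper28 Opposite

theorem genericPoint_mem_of_dense {α : Type*} [TopologicalSpace α]
    (hfin : (irreducibleComponents α).Finite)
    (U : Set α) (hUo : IsOpen U) (hUd : Dense U) (η : α) (hη : η ∈ genericPoints α) : η ∈ U := by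
  set Z := closure ({η} : Set α) with hZ
  have hZc : Z ∈ irreducibleComponents α := hη
  set S := {Z' | Z' ∈ irreducibleComponents α ∧ Z' ≠ Z} with hS
  have hSfin : S.Finite := hfin.subset (fun _ h => h.1)
  set C := ⋃ Z' ∈ S, Z' with hC
  have hCclosed : IsClosed C :=
    hSfin.isClosed_biUnion (fun Z' h => isClosed_of_mem_irreducibleComponents Z' h.1)
  have hηC : η ∉ C := by
    intro hmem
    simp only [hC, Set.mem_iUnion] at hmem
    obtain ⟨Z', hZ'S, hηZ'⟩ := hmem
    have hsub : Z ⊆ Z' :=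
      (isClosed_of_mem_irreducibleComponents Z' hZ'S.1).closure_subset_iff.2
        (Set.singleton_subset_iff.2 hηZ')
    have : Z' ⊆ Z := hZc.2 hZ'S.1.1 hsub
    exact hZ'S.2 (Set.Subset.antisymm this hsub)
  obtain ⟨w, hwC, hwU⟩ := hUd.inter_open_nonempty _ hCclosed.isOpen_compl ⟨η, hηC⟩
  have hwZ : w ∈ Z := by
    by_contra hwZ
    apply hwC
    have hcomp := irreducibleComponent_mem_irreducibleComponents w
    refine Set.mem_biUnion (show irreducibleComponent w ∈ S from ⟨hcomp, ?_⟩)
      mem_irreducibleComponent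
    intro h; exact hwZ (h ▸ mem_irreducibleComponent)
  have : η ⤳ w := specializes_iff_mem_closure.2 hwZ
  exact this.mem_open hUo hwU

theorem dense_of_schDense {X : Scheme.{u}} (U : X.Opens) (hU : CInt.IsSchematicallyDense U) :
    Dense (U : Set X) := by
  rw [dense_iff_inter_open]
  intro V' hV'o hV'ne
  by_contra hemp
  rw [Set.not_nonempty_iff_eq_empty] at hemp
  obtain ⟨z, hz⟩ := hV'ne
  set V : X.Opens := ⟨V', hV'o⟩ with hV
  have h10 : (1 : Γ(X, V)) = 0 := by
    apply hU V
    apply TopCat.Presheaf.section_ext X.sheaf (V ⊓ U)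
    intro w hw
    exfalso
    have : w ∈ V' ∩ (U : Set X) := hw
    rw [hemp] at this; exact this
  have hz' : z ∈ V := hz
  have : (X.presheaf.germ V z hz').hom 1 = (X.presheaf.germ V z hz').hom 0 := by rw [h10]
  rw [map_one, map_zero] at this
  exact one_ne_zero this

theorem dense_of_basicOpen {X : Scheme.{u}} [IsAffine X] (U : X.Opens) (t : Γ(X, ⊤))
    (ht : t ∈ nonZeroDivisors Γ(X, ⊤)) (htU : X.basicOpen t ≤ U) :
    CInt.IsSchematicallyDense U := by
  have hA := isAffineOpen_top X
  intro V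
  show Function.Injective (X.presheaf.map (homOfLE (inf_le_left : V ⊓ U ≤ V)).op).hom
  rw [injective_iff_map_eq_zero]
  intro s hs
  apply TopCat.Presheaf.section_ext X.sheaf V
  intro z hz
  obtain ⟨g, hgV, hzg⟩ := hA.exists_basicOpen_le (V := V) ⟨z, hz⟩ trivial
  set D := X.basicOpen g with hD
  have hDaff : IsAffineOpen D := hA.basicOpen g
  set s' := (X.presheaf.map (homOfLE hgV).op).hom s with hs'
  set t' := (X.presheaf.map (homOfLE (le_top : D ≤ ⊤)).op).hom t with ht'
  have hbo : X.basicOpen t' = D ⊓ X.basicOpen t := X.basicOpen_res _ _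
  have hle : X.basicOpen t' ≤ V ⊓ U := by rw [hbo]; exact inf_le_inf hgV htU
  have H : (X.presheaf.map (homOfLE (X.basicOpen_le t')).op).hom s' = 0 := by
    have : (X.presheaf.map (homOfLE (X.basicOpen_le t')).op).hom s' =
        (X.presheaf.map (homOfLE hle).op).hom
          ((X.presheaf.map (homOfLE (inf_le_left : V ⊓ U ≤ V)).op).hom s) := by
      rw [hs']
      simp only [← CommRingCat.comp_apply, ← Functor.map_comp]
      rfl
    rw [this, hs, map_zero]
  obtain ⟨n, hn⟩ :=
    exists_pow_mul_eq_zero_of_res_basicOpen_eq_zero_of_isAffineOpen X hDaff s' t' H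
  have e1 : (X.presheaf.germ D z hzg).hom s' = (X.presheaf.germ V z hz).hom s :=
    TopCat.Presheaf.germ_res_apply X.presheaf (homOfLE hgV) z hzg s
  have e2 : (X.presheaf.germ D z hzg).hom t' = (X.presheaf.germ ⊤ z trivial).hom t :=
    TopCat.Presheaf.germ_res_apply X.presheaf (homOfLE le_top) z hzg t
  have e3 : (X.presheaf.germ ⊤ z trivial).hom t ^ n * (X.presheaf.germ V z hz).hom s = 0 := by
    rw [← e1, ← e2, ← map_pow, ← map_mul, hn, map_zero]
  letI := TopCat.Presheaf.algebra_section_stalk X.presheaf (⟨z, trivial⟩ : (⊤ : X.Opens))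
  haveI : IsLocalization.AtPrime (X.presheaf.stalk z) (hA.primeIdealOf ⟨z, trivial⟩).asIdeal :=
    hA.isLocalization_stalk ⟨z, trivial⟩
  have hnzd : algebraMap Γ(X, ⊤) (X.presheaf.stalk z) t ∈ nonZeroDivisors (X.presheaf.stalk z) :=
    IsLocalization.map_nonZeroDivisors_le (hA.primeIdealOf ⟨z, trivial⟩).asIdeal.primeCompl _
      (Submonoid.mem_map_of_mem _ ht)
  have hnzd' := pow_mem hnzd n
  have h0 : (X.presheaf.germ V z hz).hom s = 0 :=
    (mul_left_mem_nonZeroDivisors_eq_zero_iff hnzd').1 e3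
  exact h0.trans (map_zero _).symm

theorem exists_basicOpen_of_dense {X : Scheme.{u}} [IsAffine X]
    (hX : AlgebraicGeometry.IsNoetherian X ∨
      (AlgebraicGeometry.IsReduced X ∧ (irreducibleComponents ↥X).Finite)) (U : X.Opens)
    (hU : CInt.IsSchematicallyDense U) :
    ∃ t : Γ(X, ⊤), t ∈ nonZeroDivisors Γ(X, ⊤) ∧ X.basicOpen t ≤ U := by
  have hA := isAffineOpen_top X
  let I : Ideal Γ(X, ⊤) :=
    { carrier := {a | X.basicOpen a ≤ U}
      add_mem' := fun {a b} ha hb => (X.basicOpen_add_le (f := a) (g := b)).trans (sup_le ha hb)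
      zero_mem' := by
        show X.basicOpen (0 : Γ(X, ⊤)) ≤ U
        rw [Scheme.basicOpen_zero]; exact bot_le
      smul_mem' := fun c a ha => by
        show X.basicOpen (c • a) ≤ U
        rw [smul_eq_mul, Scheme.basicOpen_mul]; exact inf_le_right.trans ha }
  have hI : ∀ a, a ∈ I ↔ X.basicOpen a ≤ U := fun a => Iff.rfl
  have hann : ∀ a : Γ(X, ⊤), (∀ g ∈ I, g * a = 0) → a = 0 := by
    intro a ha
    apply hU ⊤
    apply TopCat.Presheaf.section_ext X.sheaf (⊤ ⊓ U)
    intro z hz
    obtain ⟨g, hgU, hzg⟩ := hA.exists_basicOpen_le (V := U) ⟨z, hz.2⟩ trivial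
    have hg : g ∈ I := hgU
    have hu : IsUnit ((X.presheaf.germ ⊤ z trivial).hom g) := (X.mem_basicOpen_top g z).1 hzg
    have h0 : (X.presheaf.germ ⊤ z trivial).hom g * (X.presheaf.germ ⊤ z trivial).hom a = 0 := by
      rw [← map_mul, ha g hg, map_zero]
    have h1 : (X.presheaf.germ ⊤ z trivial).hom a = 0 := (hu.mul_right_eq_zero).1 h0
    have e1 := TopCat.Presheaf.germ_res_apply X.presheaf
      (homOfLE (inf_le_left : ⊤ ⊓ U ≤ ⊤)) z hz a
    have e2 := TopCat.Presheaf.germ_res_apply X.presheaf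
      (homOfLE (inf_le_left : ⊤ ⊓ U ≤ ⊤)) z hz (0 : Γ(X, ⊤))
    exact (e1.trans h1).trans ((e2.trans (map_zero _)).symm)
  rcases hX with hN | ⟨hR, hfin⟩
  · haveI : IsNoetherianRing Γ(X, ⊤) := IsLocallyNoetherian.component_noetherian ⟨⊤, hA⟩
    by_contra hcon
    push Not at hcon
    have hsub : (I : Set Γ(X, ⊤)) ⊆ ⋃ p ∈ associatedPrimes Γ(X, ⊤) Γ(X, ⊤), (p : Set _) := by
      rw [biUnion_associatedPrimes_eq_compl_nonZeroDivisors]
      intro a ha hnz
      exact hcon a hnz ha
    have hfin := associatedPrimes.finite Γ(X, ⊤) Γ(X, ⊤)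
    rw [← hfin.coe_toFinset] at hsub
    obtain ⟨p, hp, hle⟩ := (Ideal.subset_union_prime (f := fun p : Ideal Γ(X, ⊤) => p) ⊥ ⊥
      (fun p hp _ _ => (hfin.mem_toFinset.1 hp).isPrime)).1 hsub
    have hp' : IsAssociatedPrime p Γ(X, ⊤) := hfin.mem_toFinset.1 hp
    rw [isAssociatedPrime_iff] at hp'
    obtain ⟨hpp, x, hx⟩ := hp'
    have hx0 : x = 0 := hann x (fun g hg => by
      have := hle hg
      rw [hx, Submodule.mem_colon_singleton] at this
      simpa using this)
    apply hpp.ne_top
    rw [hx, hx0, eq_top_iff]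
    intro r _
    rw [Submodule.mem_colon_singleton]
    simp
  · haveI := hR
    have hdense := dense_of_schDense U hU
    have hgfin : (genericPoints X).Finite := genericPoints.finite hfin
    set f : X → Ideal Γ(X, ⊤) := fun η => (hA.primeIdealOf ⟨η, trivial⟩).asIdeal with hf
    classical
    set Ps : Finset (Ideal Γ(X, ⊤)) := hgfin.toFinset.image f with hPs
    have hnot : ¬ ((I : Set Γ(X, ⊤)) ⊆ ⋃ p ∈ (Ps : Set (Ideal Γ(X, ⊤))), (p : Set _)) := by
      intro hsub
      obtain ⟨p, hp, hle⟩ := (Ideal.subset_union_prime (f := fun p : Ideal Γ(X, ⊤) => p) ⊥ ⊥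
        (fun p hp _ _ => by
          obtain ⟨η, -, rfl⟩ := Finset.mem_image.1 hp
          exact (hA.primeIdealOf ⟨η, trivial⟩).isPrime)).1 hsub
      obtain ⟨η, hη, rfl⟩ := Finset.mem_image.1 hp
      have hηg : η ∈ genericPoints X := hgfin.mem_toFinset.1 hη
      have hηU : η ∈ U := genericPoint_mem_of_dense hfin (U : Set X) U.2 hdense η hηg
      obtain ⟨g, hgU, hηg'⟩ := hA.exists_basicOpen_le (V := U) ⟨η, hηU⟩ trivial
      exact (mem_basicOpen_iff hA η trivial g).1 hηg' (hle (show g ∈ I from hgU))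
    obtain ⟨t, htI, htn⟩ := Set.not_subset.1 hnot
    have htη : ∀ η ∈ genericPoints X, t ∉ f η := by
      intro η hη hmem
      apply htn
      exact Set.mem_biUnion (show f η ∈ (Ps : Set (Ideal Γ(X, ⊤))) from
        Finset.mem_coe.2 (Finset.mem_image.2 ⟨η, hgfin.mem_toFinset.2 hη, rfl⟩)) hmem
    refine ⟨t, ?_, htI⟩
    rw [mem_nonZeroDivisors_iff_right]
    intro a hat
    have hnil : IsNilpotent a := by
      rw [nilpotent_iff_mem_prime]
      intro J hJ
      set Q : PrimeSpectrum Γ(X, ⊤) := ⟨J, hJ⟩ with hQ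
      set z := hA.fromSpec Q with hz
      have hcomp := irreducibleComponent_mem_irreducibleComponents z
      set η := genericPoints.ofComponent ⟨_, hcomp⟩ with hη
      have hgen : closure {η.1} = irreducibleComponent z :=
        genericPoints.isGenericPoint_ofComponent ⟨_, hcomp⟩
      have hspec : η.1 ⤳ z := by
        rw [specializes_iff_mem_closure, hgen]; exact mem_irreducibleComponent
      have eη : hA.fromSpec (hA.primeIdealOf ⟨η.1, trivial⟩) = η.1 :=
        hA.fromSpec_primeIdealOf ⟨η.1, trivial⟩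
      have hle : f η.1 ≤ J := by
        have h1 : hA.fromSpec (hA.primeIdealOf ⟨η.1, trivial⟩) ⤳ hA.fromSpec Q := by
          rw [eη]; exact hspec
        exact (PrimeSpectrum.le_iff_specializes _ Q).2
          (hA.fromSpec.isOpenEmbedding.isInducing.specializes_iff.1 h1)
      have hprime : (f η.1).IsPrime := (hA.primeIdealOf ⟨η.1, trivial⟩).isPrime
      have hmem : a * t ∈ f η.1 := by rw [hat]; exact (f η.1).zero_mem
      exact hle ((hprime.mem_or_mem hmem).resolve_right (htη η.1 η.2))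
    exact IsReduced.eq_zero a hnil

theorem result' (X : Scheme.{u}) [IsAffine X]
    (hX : AlgebraicGeometry.IsNoetherian X ∨
      (AlgebraicGeometry.IsReduced X ∧ (irreducibleComponents ↥X).Finite)) (U : X.Opens) :
    CInt.IsSchematicallyDense U ↔
      ∃ t : Γ(X, ⊤), t ∈ nonZeroDivisors Γ(X, ⊤) ∧ X.basicOpen t ≤ U :=
  ⟨exists_basicOpen_of_dense hX U, fun ⟨t, ht, htU⟩ => dense_of_basicOpen U t ht htU⟩



/-- Let X = Spec A be an affine scheme, with A Noetherian, or A reduced with finitely many minimal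
primes. Then an open subset U of X is schematically dense if and only if it contains an open subset
of the form X_t with t a regular element of A = Γ(X, O_X). -/
theorem result (X : Scheme.{u}) [IsAffine X]
    (hX : IsNoetherian X ∨ (IsReduced X ∧ (irreducibleComponents ↥X).Finite)) (U : X.Opens) :
    CInt.IsSchematicallyDense U ↔ ∃ t : Γ(X, ⊤), t ∈ nonZeroDivisors Γ(X, ⊤) ∧ X.basicOpen t ≤ U := by
  exact Groth.Agent.S3834.result' X hX U

end Groth.Agent.S3834
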