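import Groth.Statements.S3842
import Mathlib

set_option autoImplicit false
universe u
open CategoryTheory CategoryTheory.Limits AlgebraicGeometry TopologicalSpace
open Rat20

namespace Groth.Agent.S3842

section
open CategoryTheory CategoryTheory.Limits AlgebraicGeometry TopologicalSpace

theorem dense_of_isSchematicallyDense {X : Scheme.{u}} (V : X.Opens)
    (hV : CInt.IsSchematicallyDense V) : Dense (V : Set X) := by
  rw [dense_iff_inter_open]
  intro W hW hne
  by_contra hemp
  have h0 : (⟨W, hW⟩ : X.Opens) ⊓ V = ⊥ := by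
    ext x
    simp only [Opens.coe_inf, Opens.coe_mk, Set.mem_inter_iff, SetLike.mem_coe, Opens.coe_bot,
      Set.mem_empty_iff_false, iff_false]
    intro hx
    exact hemp ⟨x, hx⟩
  have hinj := hV ⟨W, hW⟩
  have hsub : Subsingleton Γ(X, (⟨W, hW⟩ : X.Opens) ⊓ V) := by
    rw [h0]; infer_instance
  have : Subsingleton Γ(X, (⟨W, hW⟩ : X.Opens)) := hinj.subsingleton
  have hWemp : (⟨W, hW⟩ : X.Opens) = ⊥ := by
    rw [← Scheme.basicOpen_one (X := X) (U := ⟨W, hW⟩), Subsingleton.elim (1 : Γ(X, _)) 0,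
      Scheme.basicOpen_zero]
  obtain ⟨x, hx⟩ := hne
  have : x ∈ (⟨W, hW⟩ : X.Opens) := hx
  rw [hWemp] at this
  exact this

theorem isSchematicallyDense_of_dense {X : Scheme.{u}} [IsReduced X] (U : X.Opens)
    (hU : Dense (U : Set X)) : CInt.IsSchematicallyDense U := by
  intro W
  change Function.Injective (X.presheaf.map (homOfLE (inf_le_left : W ⊓ U ≤ W)).op).hom
  rw [injective_iff_map_eq_zero]
  intro s hs
  rw [← basicOpen_eq_bot_iff]
  have h1 := congr(X.basicOpen $hs)
  rw [Scheme.basicOpen_zero] at h1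
  erw [Scheme.basicOpen_res] at h1
  by_contra hne
  have hne' : (X.basicOpen s : Set X).Nonempty := by
    rw [Set.nonempty_iff_ne_empty]
    intro h
    apply hne
    ext x
    simp [← SetLike.mem_coe, h]
  obtain ⟨x, hx1, hx2⟩ := hU.inter_open_nonempty _ (X.basicOpen s).isOpen hne'
  have : x ∈ (W ⊓ U) ⊓ X.basicOpen s := ⟨⟨X.basicOpen_le s hx1, hx2⟩, hx1⟩
  rw [h1] at this
  exact this

theorem inter_nonempty_of_dense_of_locallyFinite {X : Type*} [TopologicalSpace X]
    (hfin : ∀ x : X, ∃ W : Set X, IsOpen W ∧ x ∈ W ∧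
      {Z ∈ irreducibleComponents X | (Z ∩ W).Nonempty}.Finite)
    (Z : Set X) (hZ : Z ∈ irreducibleComponents X) (V : Set X) (hV : Dense V) :
    (Z ∩ V).Nonempty := by
  obtain ⟨z, hz⟩ := hZ.1.1
  obtain ⟨W, hWo, hzW, hS⟩ := hfin z
  set S := {Z ∈ irreducibleComponents X | (Z ∩ W).Nonempty} with hSdef
  set S' := S \ {Z} with hS'def
  have hS'fin : S'.Finite := hS.subset Set.sdiff_subset
  have hS'sub : S' ⊆ irreducibleComponents X := fun T hT => hT.1.1
  set C := ⋃₀ S' with hC
  have hCclosed : IsClosed C := by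
    rw [hC, Set.sUnion_eq_biUnion]
    exact hS'fin.isClosed_biUnion fun T hT => isClosed_of_mem_irreducibleComponents T (hS'sub hT)
  have h1 : (Z ∩ Cᶜ).Nonempty := by
    rw [Set.inter_compl_nonempty_iff]
    intro hsub
    have := mem_of_subset_sUnion_irreducibleComponents Z hZ S' hS'fin hS'sub hsub
    exact this.2 rfl
  have h2 : (Z ∩ W).Nonempty := ⟨z, hz, hzW⟩
  obtain ⟨y, hyZ, hyC, hyW⟩ := hZ.1.2 Cᶜ W hCclosed.isOpen_compl hWo h1 h2
  have hO : IsOpen (Cᶜ ∩ W) := hCclosed.isOpen_compl.inter hWo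
  have hOZ : Cᶜ ∩ W ⊆ Z := by
    intro o ⟨hoC, hoW⟩
    have hcomp := irreducibleComponent_mem_irreducibleComponents o
    have hoin : o ∈ irreducibleComponent o := mem_irreducibleComponent
    by_contra hoZ
    apply hoC
    refine ⟨irreducibleComponent o, ⟨⟨hcomp, ⟨o, hoin, hoW⟩⟩, ?_⟩, hoin⟩
    intro h
    rw [Set.mem_singleton_iff] at h
    exact hoZ (h ▸ hoin)
  obtain ⟨v, hvO, hvV⟩ := hV.inter_open_nonempty _ hO ⟨y, hyC, hyW⟩
  exact ⟨v, hOZ hvO, hvV⟩


end


/-- For the open subset U = X; the general case is the same statement over the open subscheme U: let f :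
X' → X be a morphism of schemes with X' reduced, suppose the irreducible components of X form a
locally finite family and that every irreducible component of X' dominates an irreducible component
of X (the closure of its image is an irreducible component of X). Then for every schematically dense
open subset V of X, the preimage f⁻¹(V) is schematically dense in X'. -/
theorem result {X X' : Scheme.{u}} (f : X' ⟶ X) [IsReduced X']
    (hfin : ∀ x : ↥X, ∃ W : X.Opens, x ∈ W ∧ {Z ∈ irreducibleComponents ↥X | (Z ∩ (W : Set ↥X)).Nonempty}.Finite)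
    (hdom : ∀ Z' ∈ irreducibleComponents ↥X', closure (f '' Z') ∈ irreducibleComponents ↥X)
    (V : X.Opens) (hV : CInt.IsSchematicallyDense V) : CInt.IsSchematicallyDense (f ⁻¹ᵁ V) := by
  apply isSchematicallyDense_of_dense
  have hVd := dense_of_isSchematicallyDense V hV
  intro x'
  have hcomp := irreducibleComponent_mem_irreducibleComponents x'
  have hx'in : x' ∈ irreducibleComponent x' := mem_irreducibleComponent
  have hZ := hdom _ hcomp
  obtain ⟨v, hvZ, hvV⟩ := inter_nonempty_of_dense_of_locallyFinite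
    (fun x => by
      obtain ⟨W, hxW, hW⟩ := hfin x
      exact ⟨W, W.isOpen, hxW, hW⟩) _ hZ V hVd
  -- V open meets closure (f '' Z') so meets f '' Z'
  obtain ⟨w, hwV, ⟨z', hz', rfl⟩⟩ := mem_closure_iff.mp hvZ V V.isOpen hvV
  have hz'V : f z' ∈ V := hwV
  have hsub := subset_closure_inter_of_isPreirreducible_of_isOpen (S := irreducibleComponent x')
    (U := ((f ⁻¹ᵁ V : X'.Opens) : Set X')) hcomp.1.2 (f ⁻¹ᵁ V).isOpen ⟨z', hz', hz'V⟩
  exact closure_mono Set.inter_subset_right (hsub hx'in)

end Groth.Agent.S3842
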