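import Groth.Statements.S3843
import Groth.Agent.Lib.Helper3.SchDomFP

set_option autoImplicit false
universe u
open CategoryTheory CategoryTheory.Limits AlgebraicGeometry TopologicalSpace
open Rat20

namespace Groth.Agent.S3843

/-- For the open subset U = X; the general case is the same statement over the open subscheme U: let f :
X' → X be flat and locally of finite presentation. Then for every schematically dense open subset V
of X, the preimage f⁻¹(V) is schematically dense in X'. -/
theorem result {X X' : Scheme.{u}} (f : X' ⟶ X) [Flat f]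
    [LocallyOfFinitePresentation f] (V : X.Opens) (hV : CInt.IsSchematicallyDense V) :
    CInt.IsSchematicallyDense (f ⁻¹ᵁ V) := by
  intro W
  rw [injective_iff_map_eq_zero]
  intro t ht
  refine Groth.Agent.Lib.helper3.SchDomFP.schDominant_baseChange_fp
    (fun _ : PUnit.{u + 1} => (V : Scheme.{u})) (fun _ => V.ι) f ?_ W t (fun _ => ?_)
  · intro O s hs
    have h1 := hs PUnit.unit
    apply hV O
    rw [map_zero]
    have e : O ⊓ V ≤ V.ι ''ᵁ (V.ι ⁻¹ᵁ O) := by
      rintro x ⟨hxO, hxV⟩
      exact ⟨⟨x, hxV⟩, hxO, rfl⟩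
    rw [Scheme.Opens.ι_app] at h1
    have h2 : X.presheaf.map (homOfLE (inf_le_left : O ⊓ V ≤ O)).op s =
        X.presheaf.map (homOfLE e).op (X.presheaf.map
          (homOfLE (V.ι.image_preimage_le O)).op s) := by
      rw [← CommRingCat.comp_apply, ← Functor.map_comp]
      rfl
    have h1' : X.presheaf.map (homOfLE (V.ι.image_preimage_le O)).op s =
        (0 : Γ(X, V.ι ''ᵁ V.ι ⁻¹ᵁ O)) := h1
    rw [h2, h1', map_zero]
  · have hle : Limits.pullback.snd V.ι f ⁻¹ᵁ W ≤ Limits.pullback.snd V.ι f ⁻¹ᵁ (W ⊓ f ⁻¹ᵁ V) := by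
      intro z hz
      refine ⟨hz, ?_⟩
      change f ((Limits.pullback.snd V.ι f) z) ∈ V
      rw [← Scheme.Hom.comp_apply, ← Limits.pullback.condition, Scheme.Hom.comp_apply]
      exact ((Limits.pullback.fst V.ι f) z).2
    have h1 := Scheme.Hom.map_appLE (Limits.pullback.snd V.ι f) hle
      (homOfLE (inf_le_left : W ⊓ f ⁻¹ᵁ V ≤ W)).op
    have h2 := congr($(h1).hom t)
    rw [CommRingCat.comp_apply, ht, map_zero] at h2
    rw [Scheme.Hom.app_eq_appLE]
    exact h2.symm

end Groth.Agent.S3843
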