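import Groth.Statements.S3845
import Mathlib.AlgebraicGeometry.Morphisms.FormallyUnramified
import Mathlib.AlgebraicGeometry.Morphisms.FinitePresentation

set_option autoImplicit false
universe u
open CategoryTheory CategoryTheory.Limits AlgebraicGeometry TopologicalSpace
open Unram17

namespace Groth.Agent.S3845

/-- The diagonal of the restriction to an open, followed by the open immersion of fibre squares,
is the restriction of the diagonal. -/
theorem diagonal_restrict {X Y : Scheme.{u}} (f : X ⟶ Y) (U : X.Opens) :
    pullback.diagonal (U.ι ≫ f) ≫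
      pullback.map (U.ι ≫ f) (U.ι ≫ f) f f U.ι U.ι (𝟙 Y) (by simp) (by simp) =
    U.ι ≫ pullback.diagonal f := by
  apply pullback.hom_ext
  · simp only [Category.assoc, pullback.lift_fst, pullback.diagonal_fst_assoc,
      pullback.diagonal_fst, Category.comp_id]
  · simp only [Category.assoc, pullback.lift_snd, pullback.diagonal_snd_assoc,
      pullback.diagonal_snd, Category.comp_id]

/-- a) iff b): let f : X → Y be locally of finite presentation and x a point of X. Then f is unramified
on some open neighbourhood of x if and only if the diagonal X → X ×_Y X is a local isomorphism at x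
(its restriction to some open neighbourhood of x is an open immersion). -/
theorem result {X Y : Scheme.{u}} (f : X ⟶ Y)
    [LocallyOfFinitePresentation f] (x : ↥X) :
    (∃ U : X.Opens, x ∈ U ∧ FormallyUnramified (U.ι ≫ f)) ↔
      SchLoc.IsLocalIsoAt (pullback.diagonal f) x := by
  constructor
  · rintro ⟨U, hxU, hU⟩
    refine ⟨U, hxU, ?_⟩
    have : LocallyOfFiniteType (U.ι ≫ f) := inferInstance
    rw [← diagonal_restrict]
    infer_instance
  · rintro ⟨U, hxU, hU⟩
    refine ⟨U, hxU, ?_⟩
    rw [← diagonal_restrict] at hU
    have : IsOpenImmersion (pullback.diagonal (U.ι ≫ f)) := IsOpenImmersion.of_comp _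
      (pullback.map (U.ι ≫ f) (U.ι ≫ f) f f U.ι U.ι (𝟙 Y) _ _)
    infer_instance

end Groth.Agent.S3845
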