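import Groth.Statements.S3846
import Groth.Agent.S3845

set_option autoImplicit false
universe u
open CategoryTheory CategoryTheory.Limits AlgebraicGeometry TopologicalSpace
open Unram17

namespace Groth.Agent.S3846

/-- A section of the base change of `f` is a base change of the diagonal of `f`. -/
theorem isPullback_section {X Y Y' : Scheme.{u}} (f : X ⟶ Y) (g : Y' ⟶ Y)
    (s' : Y' ⟶ pullback f g) (hs : s' ≫ pullback.snd f g = 𝟙 Y')
    (q : pullback f g ⟶ pullback f f) (hq1 : q ≫ pullback.fst f f = pullback.fst f g)
    (hq2 : q ≫ pullback.snd f f = pullback.snd f g ≫ s' ≫ pullback.fst f g) :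
    IsPullback s' (s' ≫ pullback.fst f g) q (pullback.diagonal f) := by
  have hs' : ∀ {Z : Scheme.{u}} (k : Y' ⟶ Z), s' ≫ pullback.snd f g ≫ k = k := fun k => by
    rw [reassoc_of% hs]
  refine ⟨⟨?_⟩, ⟨PullbackCone.IsLimit.mk _ (fun c => c.fst ≫ pullback.snd f g) ?_ ?_ ?_⟩⟩
  · apply pullback.hom_ext
    · simp only [Category.assoc, hq1, pullback.diagonal_fst, Category.comp_id]
    · simp only [Category.assoc, hq2, pullback.diagonal_snd, Category.comp_id, hs']
  · intro c
    have h1 := congrArg (· ≫ pullback.fst f f) c.condition
    have h2 := congrArg (· ≫ pullback.snd f f) c.condition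
    simp only [Category.assoc, hq1, hq2, pullback.diagonal_fst,
      pullback.diagonal_snd, Category.comp_id] at h1 h2
    apply pullback.hom_ext
    · simp only [Category.assoc]
      rw [h2, h1]
    · simp only [Category.assoc, hs, Category.comp_id]
  · intro c
    have h2 := congrArg (· ≫ pullback.snd f f) c.condition
    simp only [Category.assoc, hq2, pullback.diagonal_snd, Category.comp_id] at h2
    simp only [Category.assoc]
    exact h2
  · intro c m h₁ _
    rw [← h₁, Category.assoc, hs, Category.comp_id]

/-- a) iff b''): let f : X → Y be locally of finite presentation and x a point of X. Then f is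
unramified on some open neighbourhood of x if and only if, for every base change g : Y' → Y and
every section s' of X ×_Y Y' → Y', s' is a local isomorphism at every point y' of Y' such that
s'(y') lies over x. -/
theorem result {X Y : Scheme.{u}} (f : X ⟶ Y) [LocallyOfFinitePresentation f]
    (x : ↥X) :
    (∃ U : X.Opens, x ∈ U ∧ FormallyUnramified (U.ι ≫ f)) ↔
      ∀ (Y' : Scheme.{u}) (g : Y' ⟶ Y) (s' : Y' ⟶ pullback f g), s' ≫ pullback.snd f g = 𝟙 Y' →
        ∀ y' : ↥Y', pullback.fst f g (s' y') = x → SchLoc.IsLocalIsoAt s' y' := by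
  rw [Groth.Agent.S3845.result f x]
  constructor
  · rintro ⟨U, hxU, hU⟩ Y' g s' hs y' hy'
    let h : Y' ⟶ X := s' ≫ pullback.fst f g
    refine ⟨h ⁻¹ᵁ U, ?_, ?_⟩
    · change h y' ∈ U
      rw [Scheme.Hom.comp_apply, hy']
      exact hxU
    · have hw : pullback.fst f g ≫ f = (pullback.snd f g ≫ s' ≫ pullback.fst f g) ≫ f := by
        rw [Category.assoc, Category.assoc, pullback.condition, reassoc_of% hs]
      have hp := (isPullback_morphismRestrict h U).flip.paste_horiz
        (isPullback_section f g s' hs (pullback.lift _ _ hw) (pullback.lift_fst _ _ _)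
          (pullback.lift_snd _ _ _))
      exact MorphismProperty.of_isPullback hp.flip hU
  · intro H
    have hs : pullback.diagonal f ≫ pullback.snd f f = 𝟙 X := pullback.diagonal_snd f
    refine H X f (pullback.diagonal f) hs x ?_
    rw [← Scheme.Hom.comp_apply, pullback.diagonal_fst]
    rfl

end Groth.Agent.S3846
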