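import Groth.Statements.S3848
-- import your own Groth.Agent.* helpers here
import Groth.Agent.Lib.Helper9.DVRExtend
import Groth.Agent.Lib.Helper9.DVRTools

set_option autoImplicit false
universe u
open CategoryTheory CategoryTheory.Limits AlgebraicGeometry TopologicalSpace
open Rat20

namespace Groth.Agent.S3848
open Groth.Agent.Lib.helper9

/-- In the case S = X (valuative criterion for a rational map to be defined at a point): let X be a
locally Noetherian scheme, q : Y → X a morphism locally of finite type, U a dense open subset of X,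
h : U → Y a section of q over U, x a point of X outside U whose local ring is an integrally closed
domain, and y₀ a point of Y over x with trivial residue field extension (an X-morphism Spec k(x) →
Y). Then h extends to a section h' of q over an open subset U' containing U and x with h'(x) = y₀ if
and only if: for every discrete valuation ring R and every morphism u : Spec R → X sending the
closed point to x and the generic point into U, there is a morphism h₁ : Spec R → Y over X sending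
the closed point to y₀ and agreeing with h at the generic point. -/
theorem result {X Y : Scheme.{u}} [IsLocallyNoetherian X] (q : Y ⟶ X)
    [LocallyOfFiniteType q] (U : X.Opens) (hU : Dense (U : Set ↥X)) (h : (U : Scheme.{u}) ⟶ Y)
    (hh : h ≫ q = U.ι) (x : ↥X) (hxU : x ∉ U) [IsDomain ↑(X.presheaf.stalk x)]
    (hx : IsIntegrallyClosed ↑(X.presheaf.stalk x)) (y₀ : ↥Y) (hy₀ : q y₀ = x)
    (hk : Function.Bijective (q.residueFieldMap y₀)) :
    (∃ (U' : X.Opens) (hUU' : U ≤ U') (hxU' : x ∈ U') (h' : (U' : Scheme.{u}) ⟶ Y),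
        h' ≫ q = U'.ι ∧ X.homOfLE hUU' ≫ h' = h ∧ h' ⟨x, hxU'⟩ = y₀) ↔
      ∀ (R : Type u) [CommRing R] [IsDomain R] [IsDiscreteValuationRing R]
        (u : Spec (CommRingCat.of R) ⟶ X), u (IsLocalRing.closedPoint R) = x →
        ∀ ub : Spec (CommRingCat.of (FractionRing R)) ⟶ (U : Scheme.{u}),
          ub ≫ U.ι = Spec.map (CommRingCat.ofHom (algebraMap R (FractionRing R))) ≫ u →
          ∃ h₁ : Spec (CommRingCat.of R) ⟶ Y, h₁ ≫ q = u ∧ h₁ (IsLocalRing.closedPoint R) = y₀ ∧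
            Spec.map (CommRingCat.ofHom (algebraMap R (FractionRing R))) ≫ h₁ = ub ≫ h := by
  constructor
  · rintro ⟨U', hUU', hxU', h', hq', hres, hval⟩
    intro R _ _ _ u hcl ub hub
    have hrange : Set.range u ⊆ Set.range U'.ι := by
      rw [Scheme.Opens.range_ι]
      exact range_subset_of_closedPoint_mem u U' (hcl ▸ hxU')
    set u' := IsOpenImmersion.lift U'.ι u hrange with hu'
    have hu'fac : u' ≫ U'.ι = u := IsOpenImmersion.lift_fac _ _ _
    refine ⟨u' ≫ h', ?_, ?_, ?_⟩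
    · rw [Category.assoc, hq', hu'fac]
    · have h1 : u' (IsLocalRing.closedPoint R) = ⟨x, hxU'⟩ := by
        apply U'.ι.isOpenEmbedding.injective
        rw [← Scheme.Hom.comp_apply, hu'fac, hcl]
        rfl
      rw [Scheme.Hom.comp_apply, h1, hval]
    · have h2 : Spec.map (CommRingCat.ofHom (algebraMap R (FractionRing R))) ≫ u' =
          ub ≫ X.homOfLE hUU' := by
        rw [← cancel_mono U'.ι, Category.assoc, hu'fac, Category.assoc, Scheme.homOfLE_ι, hub]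
      rw [← Category.assoc, h2, Category.assoc, hres]
  · intro D
    -- first key fact: a point of `U` specializing to `x` is sent by `h` to a generization of `y₀`
    have key1 : ∀ t : (U : Scheme.{u}), U.ι t ⤳ x → h t ⤳ y₀ := by
      intro t ht
      have hne : x ≠ U.ι t := fun e => hxU (by rw [e]; exact t.2)
      obtain ⟨R, iR, iD, iV, u, v, hcl, hv, hvt⟩ := exists_dvr_of_specializes U.ι t x ht hne
      obtain ⟨h₁, hq₁, hcl₁, hgen⟩ := D R u hcl v hv
      obtain ⟨w⟩ : Nonempty (Spec (CommRingCat.of (FractionRing R))) :=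
        (inferInstance : Nonempty (PrimeSpectrum (FractionRing R)))
      set ξ := Spec.map (CommRingCat.ofHom (algebraMap R (FractionRing R))) w with hξ
      have h1 : h₁ ξ = h t := by
        rw [hξ, ← Scheme.Hom.comp_apply, hgen, Scheme.Hom.comp_apply, hvt]
      have h2 : h₁ ξ ⤳ h₁ (IsLocalRing.closedPoint R) :=
        (IsLocalRing.specializes_closedPoint ξ).map h₁.continuous
      rw [h1, hcl₁] at h2
      exact h2
    -- the integral neighbourhood and its generic point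
    obtain ⟨W, hxW, hWint⟩ := Groth.Agent.S2260.result X x
    have hWne : Nonempty (W : Scheme.{u}) := ⟨⟨x, hxW⟩⟩
    have hηU : W.ι (genericPoint (W : Scheme.{u})) ∈ U := by
      obtain ⟨u₀, hu₀W, hu₀U⟩ : ((W : Set X) ∩ (U : Set X)).Nonempty :=
        hU.inter_open_nonempty W W.isOpen ⟨x, hxW⟩
      have h1 : genericPoint (W : Scheme.{u}) ∈ ((W.ι ⁻¹ᵁ U : (W : Scheme.{u}).Opens) : Set W) :=
        ((genericPoint_spec (W : Scheme.{u})).mem_open_set_iff (W.ι ⁻¹ᵁ U).isOpen).mpr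
          ⟨⟨u₀, hu₀W⟩, Set.mem_univ _, hu₀U⟩
      exact h1
    set η : X := W.ι (genericPoint (W : Scheme.{u})) with hη
    have hηW : η ∈ W := (genericPoint (W : Scheme.{u})).2
    have hηgen : ∀ t : X, t ∈ W → η ⤳ t := by
      intro t ht
      have h1 : genericPoint (W : Scheme.{u}) ⤳ (⟨t, ht⟩ : (W : Scheme.{u})) :=
        genericPoint_specializes _
      exact h1.map W.ι.continuous
    have hsp : η ⤳ x := hηgen x hxW
    have hηx : x ≠ η := fun e => hxU (e ▸ hηU)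
    -- the affine neighbourhood of `y₀`
    obtain ⟨Y₁, hY₁aff, hy₀Y₁⟩ : ∃ Y₁ : Y.Opens, IsAffineOpen Y₁ ∧ y₀ ∈ Y₁ := by
      obtain ⟨_, ⟨Y₁, hY₁aff, rfl⟩, hy₀Y₁, -⟩ :=
        Y.isBasis_affineOpens.exists_subset_of_mem_open (Set.mem_univ y₀) isOpen_univ
      exact ⟨Y₁, hY₁aff, hy₀Y₁⟩
    have hY₁aff' : IsAffine (Y₁ : Scheme.{u}) := hY₁aff
    have hsep : IsSeparated (Y₁.ι ≫ q) := inferInstance
    -- the bad locus
    have hFcl : IsClosed (((h ⁻¹ᵁ Y₁ : (U : Scheme.{u}).Opens) : Set U)ᶜ) :=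
      (h ⁻¹ᵁ Y₁).isOpen.isClosed_compl
    set I := Scheme.IdealSheafData.vanishingIdeal
      (⟨((h ⁻¹ᵁ Y₁ : (U : Scheme.{u}).Opens) : Set U)ᶜ, hFcl⟩ : Closeds U) with hI
    have hIrange : Set.range I.subschemeι = ((h ⁻¹ᵁ Y₁ : (U : Scheme.{u}).Opens) : Set U)ᶜ := by
      rw [Scheme.IdealSheafData.range_subschemeι, hI]
      simp
    have hxC : x ∉ closure (Set.range (I.subschemeι ≫ U.ι)) := by
      intro hxC
      obtain ⟨z, hz⟩ := exists_specializes_of_mem_closure_range (I.subschemeι ≫ U.ι) x hxC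
      rw [Scheme.Hom.comp_apply] at hz
      have h1 : h (I.subschemeι z) ∈ Y₁ := (key1 _ hz).mem_open Y₁.isOpen hy₀Y₁
      have h2 : I.subschemeι z ∈ ((h ⁻¹ᵁ Y₁ : (U : Scheme.{u}).Opens) : Set U)ᶜ := by
        rw [← hIrange]; exact ⟨z, rfl⟩
      exact h2 h1
    set N₀ : X.Opens := ⟨(closure (Set.range (I.subschemeι ≫ U.ι)))ᶜ, isClosed_closure.isOpen_compl⟩
      with hN₀
    have hxN₀ : x ∈ N₀ := hxC
    have hN₀Y₁ : ∀ t : (U : Scheme.{u}), U.ι t ∈ N₀ → h t ∈ Y₁ := by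
      intro t ht
      by_contra hcon
      have h1 : t ∈ Set.range I.subschemeι := by rw [hIrange]; exact hcon
      obtain ⟨z, rfl⟩ := h1
      exact ht (subset_closure ⟨z, rfl⟩)
    set N : X.Opens := N₀ ⊓ W with hN
    have hxN : x ∈ N := ⟨hxN₀, hxW⟩
    -- the restricted section
    have hh₂range : Set.range (X.homOfLE (inf_le_left : U ⊓ N ≤ U) ≫ h) ⊆ Set.range Y₁.ι := by
      rintro _ ⟨t, rfl⟩
      rw [Scheme.Opens.range_ι, Scheme.Hom.comp_apply]
      have h1 : U.ι ((X.homOfLE (inf_le_left : U ⊓ N ≤ U)) t) = (U ⊓ N).ι t := by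
        rw [← Scheme.Hom.comp_apply, Scheme.homOfLE_ι]
      apply hN₀Y₁
      rw [h1]
      exact t.2.2.1
    set h₂ := IsOpenImmersion.lift Y₁.ι (X.homOfLE (inf_le_left : U ⊓ N ≤ U) ≫ h) hh₂range with hh₂
    have hh₂fac : h₂ ≫ Y₁.ι = X.homOfLE (inf_le_left : U ⊓ N ≤ U) ≫ h :=
      IsOpenImmersion.lift_fac _ _ _
    have hh₂q : h₂ ≫ (Y₁.ι ≫ q) = (U ⊓ N).ι := by
      rw [← Category.assoc, hh₂fac, Category.assoc, hh, Scheme.homOfLE_ι]
    -- the generic point in `U ⊓ N`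
    have hηN : η ∈ U ⊓ N := ⟨hηU, hsp.mem_open N₀.isOpen hxN₀, hηW⟩
    have hh₂η : Y₁.ι (h₂ ⟨η, hηN⟩) = h ⟨η, hηU⟩ := by
      rw [← Scheme.Hom.comp_apply, hh₂fac, Scheme.Hom.comp_apply]
      congr 1
      apply U.ι.isOpenEmbedding.injective
      rw [← Scheme.Hom.comp_apply, Scheme.homOfLE_ι]
      rfl
    have hgen₂ : ∀ t : ((U ⊓ N : X.Opens) : Scheme.{u}), h₂ ⟨η, hηN⟩ ⤳ h₂ t := by
      intro t
      have h0 := ((U ⊓ N).ι.isEmbedding.isInducing.specializes_iff (x := ⟨η, hηN⟩) (y := t)).mp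
        (hηgen t.1 t.2.2.2)
      exact h0.map h₂.continuous
    have hcl₂ : closure (Set.range h₂) ⊆ closure {h₂ ⟨η, hηN⟩} := by
      apply closure_minimal _ isClosed_closure
      rintro _ ⟨t, rfl⟩
      exact specializes_iff_mem_closure.mp (hgen₂ t)
    have hz : (Y₁.ι ≫ q) ⟨y₀, hy₀Y₁⟩ = x := by
      rw [Scheme.Hom.comp_apply]
      exact hy₀
    have hzΓ : (⟨y₀, hy₀Y₁⟩ : (Y₁ : Scheme.{u})) ∈ closure (Set.range h₂) := by
      have h1 : h₂ ⟨η, hηN⟩ ⤳ (⟨y₀, hy₀Y₁⟩ : (Y₁ : Scheme.{u})) := by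
        refine (Y₁.ι.isEmbedding.isInducing.specializes_iff (x := h₂ ⟨η, hηN⟩)
          (y := ⟨y₀, hy₀Y₁⟩)).mp ?_
        rw [hh₂η]
        exact key1 ⟨η, hηU⟩ hsp
      exact closure_mono (by rintro _ rfl; exact ⟨_, rfl⟩) (specializes_iff_mem_closure.mp h1)
    have hYN : IsLocallyNoetherian Y := LocallyOfFiniteType.isLocallyNoetherian q
    have hhlft : LocallyOfFiniteType h := by
      have : LocallyOfFiniteType (h ≫ q) := by rw [hh]; infer_instance
      exact locallyOfFiniteType_of_comp h q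
    have hO : (((⊤ : (Y₁ : Scheme.{u}).Opens)) : Set Y₁) ∩ closure (Set.range h₂) ∩
        (Y₁.ι ≫ q) ⁻¹' {x} = {⟨y₀, hy₀Y₁⟩} := by
      apply Set.eq_singleton_iff_unique_mem.mpr
      refine ⟨⟨⟨trivial, hzΓ⟩, hz⟩, ?_⟩
      rintro y' ⟨⟨-, hy'cl⟩, hy'q⟩
      have h1 : h₂ ⟨η, hηN⟩ ⤳ y' := specializes_iff_mem_closure.mpr (hcl₂ hy'cl)
      have h2 : h ⟨η, hηU⟩ ⤳ Y₁.ι y' := by
        rw [← hh₂η]
        exact h1.map Y₁.ι.continuous
      have hqy' : q (Y₁.ι y') = x := by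
        rw [← Scheme.Hom.comp_apply]
        exact hy'q
      have hne : Y₁.ι y' ≠ h ⟨η, hηU⟩ := by
        intro e
        apply hηx
        rw [← hqy', e, ← Scheme.Hom.comp_apply, hh]
        rfl
      obtain ⟨R, iR, iD, iV, u₀, v, hcl, hv, hvt⟩ :=
        exists_dvr_of_specializes h ⟨η, hηU⟩ (Y₁.ι y') h2 hne
      have hub : v ≫ U.ι = Spec.map (CommRingCat.ofHom (algebraMap R (FractionRing R))) ≫ u₀ ≫ q := by
        rw [← hh, ← Category.assoc, hv, Category.assoc]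
      have hcl' : (u₀ ≫ q) (IsLocalRing.closedPoint R) = x := by
        rw [Scheme.Hom.comp_apply, hcl, hqy']
      obtain ⟨h₁, hq₁, hcl₁, hgen⟩ := D R (u₀ ≫ q) hcl' v hub
      -- both lifts land in `Y₁`
      have hr₀ : Set.range u₀ ⊆ Set.range Y₁.ι := by
        rw [Scheme.Opens.range_ι]
        exact range_subset_of_closedPoint_mem u₀ Y₁ (hcl ▸ y'.2)
      have hr₁ : Set.range h₁ ⊆ Set.range Y₁.ι := by
        rw [Scheme.Opens.range_ι]
        exact range_subset_of_closedPoint_mem h₁ Y₁ (hcl₁ ▸ hy₀Y₁)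
      set a₀ := IsOpenImmersion.lift Y₁.ι u₀ hr₀ with ha₀
      set a₁ := IsOpenImmersion.lift Y₁.ι h₁ hr₁ with ha₁
      have ha₀fac : a₀ ≫ Y₁.ι = u₀ := IsOpenImmersion.lift_fac _ _ _
      have ha₁fac : a₁ ≫ Y₁.ι = h₁ := IsOpenImmersion.lift_fac _ _ _
      have hdom : IsDominant (Spec.map (CommRingCat.ofHom (algebraMap R (FractionRing R)))) := by
        constructor
        show DenseRange (PrimeSpectrum.comap (algebraMap R (FractionRing R)))
        rw [PrimeSpectrum.denseRange_comap_iff_ker_le_nilRadical,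
          (RingHom.injective_iff_ker_eq_bot _).mp (IsFractionRing.injective R (FractionRing R))]
        exact bot_le
      have heq : a₁ = a₀ := by
        refine ext_of_isDominant_of_isSeparated (Y₁.ι ≫ q) ?_
          (Spec.map (CommRingCat.ofHom (algebraMap R (FractionRing R)))) ?_
        · rw [← Category.assoc, ← Category.assoc, ha₁fac, ha₀fac, hq₁]
        · rw [← cancel_mono Y₁.ι, Category.assoc, Category.assoc, ha₁fac, ha₀fac, hgen, hv]
      apply Y₁.ι.isEmbedding.injective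
      show Y₁.ι y' = y₀
      rw [← hcl, ← hcl₁, ← ha₀fac, ← ha₁fac, heq]
    obtain ⟨V, σ, hxV, hσq, hσU, hσz⟩ :=
      exists_section_extension_of_normal_point_of_isLocallyNoetherian (Y₁.ι ≫ q) (U ⊓ N) h₂ hh₂q x hx
        ⟨y₀, hy₀Y₁⟩ hz hzΓ ⊤ hO
    -- shrink and glue
    set σ' : ((V ⊓ N : X.Opens) : Scheme.{u}) ⟶ Y :=
      X.homOfLE (inf_le_left : V ⊓ N ≤ V) ≫ σ ≫ Y₁.ι with hσ'
    have hle : U ⊓ (V ⊓ N) ≤ (U ⊓ N) ⊓ V := fun t ht => ⟨⟨ht.1, ht.2.2⟩, ht.2.1⟩
    have hagree : X.homOfLE (inf_le_right : U ⊓ (V ⊓ N) ≤ V ⊓ N) ≫ σ' =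
        X.homOfLE (inf_le_left : U ⊓ (V ⊓ N) ≤ U) ≫ h := by
      have e1 : X.homOfLE (inf_le_right : U ⊓ (V ⊓ N) ≤ V ⊓ N) ≫
          X.homOfLE (inf_le_left : V ⊓ N ≤ V) =
          X.homOfLE hle ≫ X.homOfLE (inf_le_right : (U ⊓ N) ⊓ V ≤ V) := by
        rw [X.homOfLE_homOfLE, X.homOfLE_homOfLE]
      have e2 : X.homOfLE hle ≫ X.homOfLE (inf_le_left : (U ⊓ N) ⊓ V ≤ U ⊓ N) ≫
          X.homOfLE (inf_le_left : U ⊓ N ≤ U) = X.homOfLE (inf_le_left : U ⊓ (V ⊓ N) ≤ U) := by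
        rw [X.homOfLE_homOfLE, X.homOfLE_homOfLE]
      calc X.homOfLE (inf_le_right : U ⊓ (V ⊓ N) ≤ V ⊓ N) ≫ σ'
          = (X.homOfLE (inf_le_right : U ⊓ (V ⊓ N) ≤ V ⊓ N) ≫
              X.homOfLE (inf_le_left : V ⊓ N ≤ V)) ≫ σ ≫ Y₁.ι := by
            rw [hσ', Category.assoc]
        _ = X.homOfLE hle ≫ (X.homOfLE (inf_le_right : (U ⊓ N) ⊓ V ≤ V) ≫ σ) ≫ Y₁.ι := by
            rw [e1, Category.assoc, Category.assoc]
        _ = X.homOfLE hle ≫ (X.homOfLE (inf_le_left : (U ⊓ N) ⊓ V ≤ U ⊓ N) ≫ h₂) ≫ Y₁.ι := by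
            rw [hσU]
        _ = (X.homOfLE hle ≫ X.homOfLE (inf_le_left : (U ⊓ N) ⊓ V ≤ U ⊓ N) ≫
              X.homOfLE (inf_le_left : U ⊓ N ≤ U)) ≫ h := by
            rw [Category.assoc, hh₂fac]
            simp only [Category.assoc]
        _ = X.homOfLE (inf_le_left : U ⊓ (V ⊓ N) ≤ U) ≫ h := by rw [e2]
    obtain ⟨U', hUU', hVU', h', e1, e2, hext⟩ := exists_glue_of_eq_on_inf U (V ⊓ N) h σ' hagree
    have hxVN : x ∈ V ⊓ N := ⟨hxV, hxN⟩
    refine ⟨U', hUU', hVU' hxVN, h', ?_, e1, ?_⟩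
    · apply hext
      · rw [← Category.assoc, e1, hh, Scheme.homOfLE_ι]
      · rw [← Category.assoc, e2, hσ']
        simp only [Category.assoc]
        rw [hσq, Scheme.homOfLE_ι, Scheme.homOfLE_ι]
    · have h1 : (⟨x, hVU' hxVN⟩ : U') = X.homOfLE hVU' ⟨x, hxVN⟩ := by
        apply U'.ι.isOpenEmbedding.injective
        rw [← Scheme.Hom.comp_apply, Scheme.homOfLE_ι]
        rfl
      rw [h1, ← Scheme.Hom.comp_apply, e2, hσ', Scheme.Hom.comp_apply, Scheme.Hom.comp_apply]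
      have h2 : X.homOfLE (inf_le_left : V ⊓ N ≤ V) ⟨x, hxVN⟩ = ⟨x, hxV⟩ := by
        apply V.ι.isOpenEmbedding.injective
        rw [← Scheme.Hom.comp_apply, Scheme.homOfLE_ι]
        rfl
      rw [h2, hσz]
      rfl

end Groth.Agent.S3848
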