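import Groth.Statements.S3849
-- import your own Groth.Agent.* helpers here
import Groth.Agent.Lib.Helper9.DVRExtend
import Groth.Agent.Lib.Helper9.DVRTools

set_option autoImplicit false
universe u
open CategoryTheory CategoryTheory.Limits AlgebraicGeometry TopologicalSpace
open Rat20

namespace Groth.Agent.S3849
open Groth.Agent.Lib.helper9

/-- In the case S = X (sections of q : Y → X): let X be a locally Noetherian scheme, q : Y → X
separated, locally of finite type and locally quasi-finite, U a dense open subset of X, h : U → Y a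
section of q over U, and x a point of X outside U whose local ring is an integrally closed domain.
Then h extends to a section of q over an open subset containing U and x if and only if there exist a
discrete valuation ring R, a morphism u : Spec R → X sending the closed point to x and the generic
point into U, and a morphism Spec R → Y over X agreeing with h at the generic point. -/
theorem result {X Y : Scheme.{u}} [IsLocallyNoetherian X] (q : Y ⟶ X)
    [LocallyOfFiniteType q] [IsSeparated q] [LocallyQuasiFinite q] (U : X.Opens) (hU : Dense (U : Set ↥X))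
    (h : (U : Scheme.{u}) ⟶ Y) (hh : h ≫ q = U.ι) (x : ↥X) (hxU : x ∉ U) [IsDomain ↑(X.presheaf.stalk x)]
    (hx : IsIntegrallyClosed ↑(X.presheaf.stalk x)) :
    (∃ (U' : X.Opens) (hUU' : U ≤ U') (h' : (U' : Scheme.{u}) ⟶ Y),
        x ∈ U' ∧ h' ≫ q = U'.ι ∧ X.homOfLE hUU' ≫ h' = h) ↔
      ∃ (R : Type u) (_ : CommRing R) (_ : IsDomain R) (_ : IsDiscreteValuationRing R)
        (u : Spec (CommRingCat.of R) ⟶ X) (ub : Spec (CommRingCat.of (FractionRing R)) ⟶ (U : Scheme.{u}))
        (h₁ : Spec (CommRingCat.of R) ⟶ Y),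
        u (IsLocalRing.closedPoint R) = x ∧
          ub ≫ U.ι = Spec.map (CommRingCat.ofHom (algebraMap R (FractionRing R))) ≫ u ∧
          h₁ ≫ q = u ∧ Spec.map (CommRingCat.ofHom (algebraMap R (FractionRing R))) ≫ h₁ = ub ≫ h := by
  constructor
  · rintro ⟨U', hUU', h', hxU', hq', hres⟩
    obtain ⟨W, hxW, hWint⟩ := Groth.Agent.S2260.result X x
    have hWne : Nonempty (W : Scheme.{u}) := ⟨⟨x, hxW⟩⟩
    -- the generic point
    have hηU : W.ι (genericPoint (W : Scheme.{u})) ∈ U := by
      obtain ⟨u₀, hu₀W, hu₀U⟩ : ((W : Set X) ∩ (U : Set X)).Nonempty :=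
        hU.inter_open_nonempty W W.isOpen ⟨x, hxW⟩
      have h1 : genericPoint (W : Scheme.{u}) ∈ ((W.ι ⁻¹ᵁ U : (W : Scheme.{u}).Opens) : Set W) :=
        ((genericPoint_spec W).mem_open_set_iff (W.ι ⁻¹ᵁ U).isOpen).mpr
          ⟨⟨u₀, hu₀W⟩, Set.mem_univ _, hu₀U⟩
      exact h1
    have hsp : W.ι (genericPoint (W : Scheme.{u})) ⤳ x := by
      have h1 : genericPoint (W : Scheme.{u}) ⤳ (⟨x, hxW⟩ : (W : Scheme.{u})) :=
        genericPoint_specializes _
      exact h1.map W.ι.continuous
    have hne : x ≠ W.ι (genericPoint (W : Scheme.{u})) := fun e => hxU (e ▸ hηU)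
    obtain ⟨R, iR, iD, iV, u, v, hcl, hv, -⟩ := exists_dvr_of_specializes U.ι
      ⟨W.ι (genericPoint (W : Scheme.{u})), hηU⟩ x hsp hne
    have hrange : Set.range u ⊆ Set.range U'.ι := by
      rw [Scheme.Opens.range_ι]
      exact range_subset_of_closedPoint_mem u U' (hcl ▸ hxU')
    set u' := IsOpenImmersion.lift U'.ι u hrange with hu'
    have hu'fac : u' ≫ U'.ι = u := IsOpenImmersion.lift_fac _ _ _
    refine ⟨R, iR, iD, iV, u, v, u' ≫ h', hcl, hv, ?_, ?_⟩
    · rw [Category.assoc, hq', hu'fac]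
    · have h2 : Spec.map (CommRingCat.ofHom (algebraMap R (FractionRing R))) ≫ u' =
          v ≫ X.homOfLE hUU' := by
        rw [← cancel_mono U'.ι, Category.assoc, hu'fac, Category.assoc, Scheme.homOfLE_ι, hv]
      rw [← Category.assoc, h2, Category.assoc, hres]
  · rintro ⟨R, iR, iD, iV, u, ub, h₁, hcl, hub, hq₁, hgen⟩
    set y₀ := h₁ (IsLocalRing.closedPoint R) with hy₀
    have hqy₀ : q y₀ = x := by
      rw [hy₀, ← Scheme.Hom.comp_apply, hq₁, hcl]
    have hy₀Γ : y₀ ∈ closure (Set.range h) := by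
      obtain ⟨w⟩ : Nonempty (Spec (CommRingCat.of (FractionRing R))) :=
        (inferInstance : Nonempty (PrimeSpectrum (FractionRing R)))
      set ξ := Spec.map (CommRingCat.ofHom (algebraMap R (FractionRing R))) w with hξ
      have h1 : h₁ ξ = h (ub w) := by
        rw [hξ, ← Scheme.Hom.comp_apply, hgen, Scheme.Hom.comp_apply]
      have h2 : h₁ ξ ⤳ y₀ := (IsLocalRing.specializes_closedPoint ξ).map h₁.continuous
      have h3 : y₀ ∈ closure ({h₁ ξ} : Set Y) := specializes_iff_mem_closure.mp h2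
      refine closure_mono ?_ h3
      rintro _ rfl
      exact ⟨ub w, h1.symm⟩
    obtain ⟨O, hO⟩ := exists_open_inter_fibre_eq_singleton q y₀
    rw [hqy₀] at hO
    have hO' : (O : Set Y) ∩ closure (Set.range h) ∩ q ⁻¹' {x} = {y₀} := by
      apply Set.eq_singleton_iff_unique_mem.mpr
      have hmem : y₀ ∈ (O : Set Y) ∩ q ⁻¹' {x} := by rw [hO]; rfl
      constructor
      · exact ⟨⟨hmem.1, hy₀Γ⟩, hmem.2⟩
      · rintro w ⟨⟨hwO, -⟩, hwq⟩
        have : w ∈ (O : Set Y) ∩ q ⁻¹' {x} := ⟨hwO, hwq⟩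
        rw [hO] at this
        exact this
    obtain ⟨V, σ, hxV, hσq, hσU, -⟩ :=
      exists_section_extension_of_normal_point_of_isLocallyNoetherian q U h hh x hx y₀ hqy₀ hy₀Γ O hO'
    obtain ⟨U', hUU', hVU', h', e1, e2, hext⟩ := exists_glue_of_eq_on_inf U V h σ hσU
    refine ⟨U', hUU', h', hVU' hxV, ?_, e1⟩
    apply hext
    · rw [← Category.assoc, e1, hh, Scheme.homOfLE_ι]
    · rw [← Category.assoc, e2, hσq, Scheme.homOfLE_ι]

end Groth.Agent.S3849
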