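import Groth.Statements.S3850
import Groth.Agent.Lib.Helper24.CplUnram3
import Groth.Agent.Lib.Helper24.CplUnram4
import Groth.Agent.Lib.Helper24.RegUnram3
import Groth.Agent.Lib.Helper24.RegUnram4
import Groth.Agent.Lib.Helper15.Regular

set_option autoImplicit false
universe u
open EGA418

namespace Groth.Agent.S3850

/-- b) iff c), in the case n = dim A: let k be a field, A a complete Noetherian local k-algebra whose
residue field is finite over k, of dimension n, p a non-maximal prime ideal of A contained in an
irreducible component of dimension n (there is a minimal prime q ⊆ p with dim A/q = n), and Ω̂ the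
completion of the module of differentials of A over k for the topology of the maximal ideal. Then
Ω̂_p is a free A_p-module of rank n if and only if there is a local k-algebra map u : k[[T_1, …,
T_n]] → A making A a finite algebra over the power series ring and étale over it at p. -/
theorem result (k A : Type u) [Field k] [CommRing A]
    [IsLocalRing A] [IsNoetherianRing A] [Algebra k A] [IsAdicComplete (IsLocalRing.maximalIdeal A) A]
    [Module.Finite k (IsLocalRing.ResidueField A)] (n : ℕ) (hn : ringKrullDim A = n)
    (p : Ideal A) [p.IsPrime] (hp : p ≠ IsLocalRing.maximalIdeal A)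
    (hq : ∃ q ∈ minimalPrimes A, q ≤ p ∧ ringKrullDim (A ⧸ q) = n) :
    (Module.Free (Localization.AtPrime p)
        (LocalizedModule p.primeCompl (AdicCompletion (IsLocalRing.maximalIdeal A) (KaehlerDifferential k A))) ∧
      Module.finrank (Localization.AtPrime p)
        (LocalizedModule p.primeCompl (AdicCompletion (IsLocalRing.maximalIdeal A) (KaehlerDifferential k A))) = n) ↔
      ∃ (_ : Algebra (MvPowerSeries (Fin n) k) A) (_ : IsScalarTower k (MvPowerSeries (Fin n) k) A),
        IsLocalHom (algebraMap (MvPowerSeries (Fin n) k) A) ∧ Module.Finite (MvPowerSeries (Fin n) k) A ∧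
          Algebra.IsEtaleAt (MvPowerSeries (Fin n) k) p := by
  obtain ⟨q, hqmin, hqp, hqdim⟩ := hq
  have hq' : ∃ q ∈ minimalPrimes A, q ≤ p ∧ ringKrullDim (A ⧸ q) = ringKrullDim A :=
    ⟨q, hqmin, hqp, hqdim.trans hn.symm⟩
  haveI := Groth.Agent.LibObs29.isRegularLocalRing_mvPowerSeries k n
  haveI : IsDomain (MvPowerSeries (Fin n) k) := NoZeroDivisors.to_isDomain _
  have hcat : CAlg.IsCatenary A :=
    Groth.Agent.Lib.Helper24.CplCatenary.isCatenary_of_complete_local A
  have hdimP : ringKrullDim (MvPowerSeries (Fin n) k) = n :=
    le_antisymm (Groth.Agent.Lib.Helper24.PSDim.ringKrullDim_mvPowerSeries_field_le k n)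
      (Groth.Agent.LibObs29.le_ringKrullDim_mvPowerSeries k n)
  have hdim : ringKrullDim (A ⧸ q) = ringKrullDim (MvPowerSeries (Fin n) k) :=
    hqdim.trans hdimP.symm
  constructor
  · rintro ⟨hfree, hrank⟩
    haveI := hfree
    let b := Module.finBasisOfFinrankEq (Localization.AtPrime p)
      (LocalizedModule p.primeCompl
        (AdicCompletion (IsLocalRing.maximalIdeal A) (KaehlerDifferential k A))) hrank
    have hs : Submodule.span (Localization.AtPrime p) (Set.range b) = ⊤ := b.span_eq
    have hm := Groth.Agent.Lib.Helper24.CplUnram.finrank_fibre_le_of_span A p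
      (AdicCompletion (IsLocalRing.maximalIdeal A) (KaehlerDifferential k A)) n b hs
    obtain ⟨alg, tower, hloc, hfin, hunr⟩ :=
      Groth.Agent.Lib.Helper24.CplUnram.exists_finite_unramified k A p hp hq' n hm
    refine ⟨alg, tower, hloc, hfin, ?_⟩
    letI := alg
    haveI := tower
    haveI := hfin
    haveI := hunr
    exact Groth.Agent.Lib.Helper24.RegUnram.isEtaleAt (MvPowerSeries (Fin n) k) A p hcat q hqmin
      hqp hdim
  · rintro ⟨alg, tower, -, hfin, hét⟩
    letI := alg
    haveI := tower
    haveI := hfin
    haveI := hét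
    have hunr : Algebra.IsUnramifiedAt (MvPowerSeries (Fin n) k) p := inferInstance
    obtain ⟨s, hs⟩ := Groth.Agent.Lib.Helper24.CplUnram.exists_span_of_unramified k A p n hunr
    obtain ⟨hreg, -⟩ := Groth.Agent.Lib.Helper24.RegUnram.isRegularLocalRing_atPrime
      (MvPowerSeries (Fin n) k) A p hcat q hqmin hqp hdim
    haveI := hreg
    haveI : IsDomain (Localization.AtPrime p) :=
      Groth.Agent.Lib.helper15.isDomain_of_isRegularLocalRing _
    exact Groth.Agent.Lib.Helper24.RegUnram.free_localizedModule_completedKaehler k A p q hqmin hqp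
      n hqdim s hs

end Groth.Agent.S3850
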