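import Groth.Statements.S3852
import Mathlib.AlgebraicGeometry.Noetherian
import Mathlib.RingTheory.Finiteness.Ideal

set_option autoImplicit false
universe u
open FCompl

namespace Groth.Agent.S3852

open AlgebraicGeometry CategoryTheory

/-- On an affine open, containment of supports gives containment in the radical. -/
theorem ideal_le_radical {X : Scheme.{u}} (I J : X.IdealSheafData)
    (h : (J.support : Set X) ⊆ I.support) (U : X.affineOpens) :
    I.ideal U ≤ (J.ideal U).radical := by
  rw [← PrimeSpectrum.zeroLocus_subset_zeroLocus_iff]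
  have h1 : U.2.fromSpec '' PrimeSpectrum.zeroLocus (J.ideal U : Set Γ(X, U.1)) ⊆
      U.2.fromSpec '' PrimeSpectrum.zeroLocus (I.ideal U : Set Γ(X, U.1)) := by
    rw [U.2.fromSpec_image_zeroLocus, U.2.fromSpec_image_zeroLocus,
      ← Scheme.IdealSheafData.coe_support_inter, ← Scheme.IdealSheafData.coe_support_inter]
    exact Set.inter_subset_inter_left _ h
  exact (Set.image_subset_image_iff U.2.fromSpec.isOpenEmbedding.injective).mp h1

open AlgebraicGeometry in
/-- Second assertion; stated for quasi-coherent ideal sheaves, with the condition on supports as an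
inclusion, which is what the proof uses: Let X be a Noetherian scheme and I, J ideal sheaves such
that the zero locus of J is contained in the zero locus of I. Then I^n ≤ J for some n ≥ 1. -/
theorem result
    (X : Scheme.{u}) [IsNoetherian X] (I J : X.IdealSheafData)
    (h : (J.support : Set X) ⊆ I.support) :
    ∃ n : ℕ, I ^ (n + 1) ≤ J := by
  -- finite affine cover
  let 𝒰 := X.affineCover.finiteSubcover
  have : Finite 𝒰.I₀ := inferInstance
  let W : 𝒰.I₀ → X.affineOpens := fun i =>
    ⟨(𝒰.f i).opensRange, isAffineOpen_opensRange (𝒰.f i)⟩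
  have hW : (⨆ i, (W i : X.Opens)) = ⊤ := by
    rw [eq_top_iff]
    intro x _
    obtain ⟨i, y, rfl⟩ := 𝒰.exists_eq x
    exact TopologicalSpace.Opens.mem_iSup.mpr ⟨i, ⟨y, rfl⟩⟩
  have hex : ∀ i, ∃ n : ℕ, (I.ideal (W i)) ^ n ≤ J.ideal (W i) := fun i => by
    have : IsNoetherianRing Γ(X, (W i).1) := IsLocallyNoetherian.component_noetherian (W i)
    exact Ideal.exists_pow_le_of_le_radical_of_fg (ideal_le_radical I J h (W i))
      (IsNoetherian.noetherian _)
  choose n hn using hex
  cases nonempty_fintype 𝒰.I₀
  refine ⟨Finset.univ.sup n, ?_⟩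
  refine Scheme.IdealSheafData.le_of_iSup_eq_top W hW fun i => ?_
  rw [Scheme.IdealSheafData.ideal_pow, Pi.pow_apply]
  refine le_trans (Ideal.pow_le_pow_right ?_) (hn i)
  exact (Finset.le_sup (Finset.mem_univ i)).trans (Nat.le_succ _)

end Groth.Agent.S3852
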