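import Groth.Statements.S3853
import Mathlib
import Groth.Agent.Lib.Helper6.Thickening

set_option autoImplicit false
universe u
open FCompl

namespace Groth.Agent.S3853

open AlgebraicGeometry CategoryTheory
open AlgebraicGeometry.Scheme.IdealSheafData Groth.Agent.Lib.helper6

/-- nilpotent Nakayama for ideals: `J ≤ N ⊔ J²`, `N ≤ J`, `J` nilpotent imply `J ≤ N` -/
lemma le_of_le_sup_sq {R : Type u} [CommRing R] (J N : Ideal R) (hN : N ≤ J)
    (h : J ≤ N ⊔ J ^ 2) (m : ℕ) (hm : J ^ m = ⊥) : J ≤ N := by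
  have key : ∀ k : ℕ, J ≤ N ⊔ J ^ (k + 1) := by
    intro k
    induction k with
    | zero => simp
    | succ k ih =>
      refine ih.trans (sup_le le_sup_left ?_)
      calc J ^ (k + 1) = J ^ k * J := pow_succ J k
        _ ≤ J ^ k * (N ⊔ J ^ 2) := Ideal.mul_mono_right h
        _ = J ^ k * N ⊔ J ^ k * J ^ 2 := Ideal.mul_sup _ _ _
        _ ≤ N ⊔ J ^ (k + 1 + 1) := by
          refine sup_le_sup Ideal.mul_le_right ?_
          rw [← pow_add]
  rcases Nat.eq_zero_or_pos m with rfl | hpos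
  · -- J^0 = ⊤ = ⊥
    have : (⊤ : Ideal R) = ⊥ := by simpa using hm
    intro x hx
    have hx0 : x ∈ (⊥ : Ideal R) := this ▸ Submodule.mem_top
    rw [Ideal.mem_bot.mp hx0]; exact N.zero_mem
  · have := key (m - 1)
    rwa [Nat.sub_add_cancel hpos, hm, sup_bot_eq] at this

/-- ring-level step -/
lemma fg_step {R S : Type u} [CommRing R] [CommRing S] (π : R →+* S) (hπ : Function.Surjective π)
    (J : Ideal R) (J' : Ideal S) (hJ : J = J'.comap π) (k : ℕ) (hk : 2 ≤ k)
    (hker : RingHom.ker π = J ^ k) (m : ℕ) (hm : J ^ m = ⊥) (hfg : J'.FG) : J.FG := by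
  obtain ⟨s', hs'⟩ := hfg
  classical
  have hπ' := hπ
  choose! lift hlift using hπ'
  let N : Ideal R := Ideal.span ((s'.image lift : Finset R) : Set R)
  have hNmap : N.map π = J' := by
    rw [Ideal.map_span, ← hs']
    congr 1
    ext y
    simp only [Finset.coe_image, Set.mem_image, Finset.mem_coe]
    constructor
    · rintro ⟨_, ⟨x, hx, rfl⟩, rfl⟩
      rwa [hlift]
    · intro hy
      exact ⟨lift y, ⟨y, hy, rfl⟩, hlift y⟩
  have hNJ : N ≤ J := by
    rw [hJ, ← Ideal.map_le_iff_le_comap, hNmap]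
  have hle : J ≤ N ⊔ J ^ 2 := by
    intro x hx
    have hx' : π x ∈ N.map π := by
      rw [hNmap]; rw [hJ] at hx; exact hx
    obtain ⟨y, hy, hyx⟩ := (Ideal.mem_map_iff_of_surjective π hπ).mp hx'
    have hker' : x - y ∈ J ^ 2 := by
      have : x - y ∈ RingHom.ker π := by
        rw [RingHom.mem_ker, map_sub, hyx, sub_self]
      rw [hker] at this
      exact Ideal.pow_le_pow_right hk this
    have : x = y + (x - y) := by ring
    rw [this]
    exact Ideal.add_mem _ (Ideal.mem_sup_left hy) (Ideal.mem_sup_right hker')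
  have : J = N := le_antisymm (le_of_le_sup_sq J N hNJ hle m hm) hNJ
  rw [this]
  exact ⟨_, rfl⟩

/-- for a closed immersion, `comap` after `map` is the identity on ideal sheaves -/
lemma comap_map_of_isClosedImmersion {Z X : Scheme.{u}} (i : Z ⟶ X) [IsClosedImmersion i]
    (I : Z.IdealSheafData) : (I.map i).comap i = I := by
  refine ext_of_iSup_eq_top (fun U : X.affineOpens => (⟨i ⁻¹ᵁ U.1, U.2.preimage i⟩ : Z.affineOpens))
    ?_ (fun U => ?_)
  · rw [eq_top_iff]
    intro z _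
    obtain ⟨_, ⟨U, hU, rfl⟩, hzU, -⟩ :=
      X.isBasis_affineOpens.exists_subset_of_mem_open (Set.mem_univ (i z)) isOpen_univ
    exact TopologicalSpace.Opens.mem_iSup.mpr ⟨⟨U, hU⟩, hzU⟩
  · rw [ideal_comap i (I.map i) U ⟨i ⁻¹ᵁ U.1, U.2.preimage i⟩ le_rfl,
      ideal_map_of_isAffineHom I i U]
    have hsurj : Function.Surjective (i.app U.1).hom := i.app_surjective U.1 U.2
    have : i.appLE U.1 (i ⁻¹ᵁ U.1) le_rfl = i.app U.1 := (Scheme.Hom.app_eq_appLE i).symm
    rw [this]
    exact Ideal.map_comap_of_surjective _ hsurj _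

lemma ker_toX_succ (𝔛 : FSch.Sys.{u}) (n : ℕ) :
    (𝔛.toX (n + 1)).ker = (𝔛.toX n).ker.map (𝔛.ι n) := (map_ker _ _).symm

lemma ker_toX_pow (𝔛 : FSch.Sys.{u}) (hF : 𝔛.IsFormal) (hA : 𝔛.IsAdic) (n : ℕ) :
    (𝔛.toX n).ker ^ (n + 1) = ⊥ := by
  have := (hF n).1
  have h1 : (𝔛.toX n).ker = (𝔛.toX (n + 1)).ker.comap (𝔛.ι n) := by
    rw [ker_toX_succ, comap_map_of_isClosedImmersion]
  rw [h1, ← comap_pow, ← hA n, ker_comap_self]

lemma fg_ker_toX (𝔛 : FSch.Sys.{u}) (hF : 𝔛.IsFormal) (hA : 𝔛.IsAdic)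
    (hft : FSch.IdealFT (𝔛.ι 0).ker) : ∀ n, FSch.IdealFT (𝔛.toX (n + 1)).ker := by
  intro n
  induction n with
  | zero =>
    have : 𝔛.toX 1 = 𝔛.ι 0 := Category.id_comp _
    rw [this]; exact hft
  | succ n ih =>
    intro U
    have hci := (hF (n + 1)).1
    let W : (𝔛.X (n + 1)).affineOpens := ⟨(𝔛.ι (n + 1)) ⁻¹ᵁ U.1, U.2.preimage _⟩
    refine fg_step ((𝔛.ι (n + 1)).app U.1).hom ((𝔛.ι (n + 1)).app_surjective U.1 U.2) _
      ((𝔛.toX (n + 1)).ker.ideal W) ?_ (n + 2) (by omega) ?_ (n + 3) ?_ (ih W)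
    · rw [ker_toX_succ, ideal_map_of_isAffineHom]
    · rw [← Scheme.Hom.ker_apply, hA (n + 1)]
      rfl
    · have := congrArg (fun K : (𝔛.X (n + 2)).IdealSheafData => K.ideal U)
        (ker_toX_pow 𝔛 hF hA (n + 2))
      simpa using this

open AlgebraicGeometry in
/-- Levelwise part (formal schemes presented as systems of thickenings X_0 -> X_1 -> ...; the assertion
about the limit ring is in the affine recognition row). Let (X_n) be a system of schemes in which
every transition map is a surjective closed immersion and the kernel ideal of X_n -> X_(n+1) is the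
(n+1)-st power of the kernel ideal of X_0 -> X_(n+1). If X_0 is locally Noetherian and the kernel
ideal of X_0 -> X_1 is of finite type, then every X_n is locally Noetherian. -/
theorem result
    (𝔛 : FSch.Sys.{u}) (hF : 𝔛.IsFormal) (hA : 𝔛.IsAdic) [IsLocallyNoetherian (𝔛.X 0)]
    (hft : FSch.IdealFT (𝔛.ι 0).ker) (n : ℕ) : IsLocallyNoetherian (𝔛.X n) := by
  rcases n with _ | n
  · infer_instance
  · have := isClosedImmersion_toX 𝔛 hF (n + 1)
    refine isLocallyNoetherian_of_thickening (𝔛.toX (n + 1)) (n + 2) (ker_toX_pow 𝔛 hF hA (n + 1))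
      (fun U : (𝔛.X (n + 1)).affineOpens => U) ?_ (fun U => fg_ker_toX 𝔛 hF hA hft n U)
    exact AlgebraicGeometry.iSup_affineOpens_eq_top _

end Groth.Agent.S3853
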