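import Groth.Statements.S3854
import Groth.Agent.Lib.Helper6.FSch

set_option autoImplicit false
universe u
open FCompl

namespace Groth.Agent.S3854

open CategoryTheory CategoryTheory.Limits AlgebraicGeometry

theorem toX_eq (X : Scheme.{u}) (𝓘 : X.IdealSheafData) (n : ℕ) :
    (FSch.completionAlong X 𝓘).toX n ≫ FSch.completionToX X 𝓘 n = FSch.completionToX X 𝓘 0 := by
  induction n with
  | zero => simp [FSch.Sys.toX]
  | succ n ih =>
    have : (FSch.completionAlong X 𝓘).toX (n + 1) =
      (FSch.completionAlong X 𝓘).toX n ≫ (FSch.completionAlong X 𝓘).ι n := rfl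
    rw [this, Category.assoc]
    have h2 : (FSch.completionAlong X 𝓘).ι n ≫ FSch.completionToX X 𝓘 (n + 1) =
        FSch.completionToX X 𝓘 n := Scheme.IdealSheafData.inclusion_subschemeι _
    rw [h2, ih]

theorem ker_completionToX (X : Scheme.{u}) (𝓘 : X.IdealSheafData) (n : ℕ) :
    (FSch.completionToX X 𝓘 n).ker = 𝓘 ^ (n + 1) :=
  Scheme.IdealSheafData.ker_subschemeι _

instance (X : Scheme.{u}) (𝓘 : X.IdealSheafData) (n : ℕ) :
    IsClosedImmersion (FSch.completionToX X 𝓘 n) :=
  inferInstanceAs (IsClosedImmersion (Scheme.IdealSheafData.subschemeι _))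

open AlgebraicGeometry in
/-- The completion along a closed subset, presented as the system of closed subschemes cut out by the
powers of an ideal sheaf: Let X be a locally Noetherian scheme and I an ideal sheaf on X. The closed
subschemes defined by I, I^2, I^3, ... with their inclusions form a locally Noetherian adic formal
system: each inclusion is a surjective closed immersion, the kernel ideal of the n-th inclusion is
the (n+1)-st power of the kernel ideal of the composite inclusion from level 0, and every level is
locally Noetherian. -/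
theorem result (X : Scheme.{u}) [IsLocallyNoetherian X]
    (𝓘 : X.IdealSheafData) : (FSch.completionAlong X 𝓘).IsLocNoethFormal := by
  refine ⟨fun n => ⟨?_, ?_⟩, fun n => ?_, fun n => ?_⟩
  · exact inferInstanceAs (IsClosedImmersion (Scheme.IdealSheafData.inclusion _))
  · intro y
    have e1 : (FSch.completionAlong X 𝓘).ι n ≫ FSch.completionToX X 𝓘 (n + 1) =
        FSch.completionToX X 𝓘 n := Scheme.IdealSheafData.inclusion_subschemeι _
    have hy : FSch.completionToX X 𝓘 (n + 1) y ∈ Set.range (FSch.completionToX X 𝓘 n) := by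
      have h1 : Set.range (FSch.completionToX X 𝓘 n) = (𝓘 ^ (n + 1)).support :=
        Scheme.IdealSheafData.range_subschemeι _
      have h2 : Set.range (FSch.completionToX X 𝓘 (n + 1)) = (𝓘 ^ (n + 1 + 1)).support :=
        Scheme.IdealSheafData.range_subschemeι _
      rw [h1, Scheme.IdealSheafData.support_pow_succ, ← Scheme.IdealSheafData.support_pow_succ 𝓘 (n + 1), ← h2]
      exact ⟨y, rfl⟩
    obtain ⟨x, hx⟩ := hy
    refine ⟨x, ?_⟩
    apply (FSch.completionToX X 𝓘 (n + 1)).isClosedEmbedding.injective
    rw [← hx, ← e1]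
    rfl
  · have e1 : (FSch.completionAlong X 𝓘).ι n ≫ FSch.completionToX X 𝓘 (n + 1) =
        FSch.completionToX X 𝓘 n := Scheme.IdealSheafData.inclusion_subschemeι _
    rw [Groth.Agent.Lib.helper6.ker_eq_comap_of_comp_eq _ _ _ e1,
      Groth.Agent.Lib.helper6.ker_eq_comap_of_comp_eq _ _ _ (toX_eq X 𝓘 (n + 1)),
      ker_completionToX, ker_completionToX, ← Groth.Agent.Lib.helper6.comap_pow, zero_add, pow_one]
  · have hft : LocallyOfFiniteType (𝓘 ^ (n + 1)).subschemeι := inferInstance
    exact @LocallyOfFiniteType.isLocallyNoetherian _ _ (𝓘 ^ (n + 1)).subschemeι hft inferInstance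

end Groth.Agent.S3854
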