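import Groth.Statements.S3855
import Groth.Agent.Lib.Helper6.IdealSpec
import Mathlib.AlgebraicGeometry.Noetherian

set_option autoImplicit false
universe u
open FCompl

namespace Groth.Agent.S3855

open CategoryTheory CategoryTheory.Limits AlgebraicGeometry
open Groth.Agent.Lib.helper6

variable (A : Type u) [CommRing A] (J : Ideal A)

instance (n : ℕ) : IsClosedImmersion (FSch.spfToSpec A J n) :=
  IsClosedImmersion.spec_of_surjective _ Ideal.Quotient.mk_surjective

instance (n : ℕ) : IsClosedImmersion ((FSch.spf A J).ι n) :=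
  IsClosedImmersion.spec_of_surjective _
    (Ideal.Quotient.factor_surjective (Ideal.pow_le_pow_right (Nat.le_succ (n + 1))))

theorem ker_spfToSpec (n : ℕ) : (FSch.spfToSpec A J n).ker = FSch.idealSpec A J ^ (n + 1) := by
  rw [← idealSpec_pow]
  rfl

theorem ι_spfToSpec (n : ℕ) :
    (FSch.spf A J).ι n ≫ FSch.spfToSpec A J (n + 1) = FSch.spfToSpec A J n :=
  CohB1.specQuotTrans_specQuot J n

theorem toX_spfToSpec (n : ℕ) :
    (FSch.spf A J).toX n ≫ FSch.spfToSpec A J n = FSch.spfToSpec A J 0 := by
  induction n with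
  | zero => simp [FSch.Sys.toX]
  | succ n ih =>
    have : (FSch.spf A J).toX (n + 1) = (FSch.spf A J).toX n ≫ (FSch.spf A J).ι n := rfl
    rw [this, Category.assoc, ι_spfToSpec, ih]

open AlgebraicGeometry in
/-- Sufficiency (the formal spectrum presented as the system Spec(A/J) -> Spec(A/J^2) -> ...). For a
Noetherian ring A and an ideal J this system is a locally Noetherian adic formal system: the
transition maps are surjective closed immersions, the kernel ideal of Spec(A/J^(n+1)) ->
Spec(A/J^(n+2)) is the (n+1)-st power of that of Spec(A/J) -> Spec(A/J^(n+2)), and every level is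
locally Noetherian. -/
theorem result (A : Type u) [CommRing A] [IsNoetherianRing A] (J : Ideal A) :
    (FSch.spf A J).IsLocNoethFormal := by
  refine ⟨fun n => ⟨inferInstance, ?_⟩, fun n => ?_, fun n => ?_⟩
  · intro y
    have hr : ∀ m, Set.range (FSch.spfToSpec A J m) = ((FSch.idealSpec A J).support : Set _) := by
      intro m
      have h1 := Scheme.Hom.support_ker (FSch.spfToSpec A J m)
      rw [ker_spfToSpec, Scheme.IdealSheafData.support_pow_succ] at h1
      have h2 : IsClosed (Set.range (FSch.spfToSpec A J m)) :=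
        (FSch.spfToSpec A J m).isClosedEmbedding.isClosed_range
      rw [h2.closure_eq] at h1
      exact h1.symm
    have hy : FSch.spfToSpec A J (n + 1) y ∈ Set.range (FSch.spfToSpec A J n) := by
      rw [hr n, ← hr (n + 1)]
      exact ⟨y, rfl⟩
    obtain ⟨x, hx⟩ := hy
    refine ⟨x, ?_⟩
    apply (FSch.spfToSpec A J (n + 1)).isClosedEmbedding.injective
    rw [← hx, ← ι_spfToSpec A J n]
    rfl
  · rw [ker_eq_comap_of_comp_eq _ _ _ (ι_spfToSpec A J n),
      ker_eq_comap_of_comp_eq _ _ _ (toX_spfToSpec A J (n + 1)),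
      ker_spfToSpec, ker_spfToSpec, ← comap_pow, zero_add, pow_one]
  · exact inferInstanceAs (IsLocallyNoetherian (Spec (CommRingCat.of (A ⧸ J ^ (n + 1)))))

end Groth.Agent.S3855
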