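import Groth.Statements.S3857
import Groth.Agent.Lib.Helper6.Thickening

set_option autoImplicit false
universe u
open FCompl

namespace Groth.Agent.S3857

open CategoryTheory CategoryTheory.Limits AlgebraicGeometry
open Groth.Agent.Lib.helper6

/-- In a formal adic system, the kernel of `X 0 ⟶ X n` has vanishing `(n+1)`-st power. -/
theorem toX_ker_pow_eq_bot (𝔛 : FSch.Sys.{u}) (hF : 𝔛.IsFormal) (hA : 𝔛.IsAdic) (n : ℕ) :
    (𝔛.toX n).ker ^ (n + 1) = ⊥ := by
  have h1 := (hF n).1
  have h2 := isClosedImmersion_toX 𝔛 hF (n + 1)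
  have e : 𝔛.toX n ≫ 𝔛.ι n = 𝔛.toX (n + 1) := rfl
  rw [ker_eq_comap_of_comp_eq _ _ _ e, ← comap_pow, ← hA n, ker_comap_self]

/-- The source of an adic morphism to a locally Noetherian formal system is levelwise locally
Noetherian as soon as its level `0` is. -/
theorem isLocallyNoetherian_level {𝔛 𝔖 : FSch.Sys.{u}} (f : 𝔛 ⟶ 𝔖)
    (h𝔖 : 𝔖.IsLocNoethFormal) (hf : FSch.IsAdicHom f) [IsLocallyNoetherian (𝔛.X 0)] (n : ℕ) :
    IsLocallyNoetherian (𝔛.X n) := by
  obtain ⟨hF, hA, hN⟩ := h𝔖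
  have hF' := isFormal_of_isAdicHom f hf hF
  have hA' := isAdic_of_isAdicHom f hf hF hA
  have h1 := isClosedImmersion_toX 𝔛 hF' n
  have h2 := isClosedImmersion_toX 𝔖 hF n
  choose U W hxW hWU using exists_affineOpens_le_preimage ((f : FSch.Hom 𝔛 𝔖).app n)
  refine isLocallyNoetherian_of_thickening (𝔛.toX n) (n + 1) (toX_ker_pow_eq_bot 𝔛 hF' hA' n) W ?_ ?_
  · rw [eq_top_iff]
    intro x _
    exact TopologicalSpace.Opens.mem_iSup.mpr ⟨x, hxW x⟩
  · intro x
    rw [ker_of_isPullback (isPullback_toX f hf n), ideal_comap _ _ (U x) (W x) (hWU x)]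
    have := hN n
    have : IsNoetherianRing Γ(𝔖.X n, (U x).1) := IsLocallyNoetherian.component_noetherian (U x)
    exact Ideal.FG.map (IsNoetherian.noetherian _) _

/-- Here formal schemes are presented as systems of thickenings, an adic morphism being one all of whose
squares are cartesian. Let S_0 -> S_1 -> ... be a locally Noetherian adic formal system and (X_n ->
S_n) a compatible family of morphisms such that every square X_n -> X_(n+1), S_n -> S_(n+1) is
cartesian. If X_0 is locally Noetherian, then (X_n) is a locally Noetherian adic formal system. -/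
theorem result {𝔛 𝔖 : FSch.Sys.{u}} (f : 𝔛 ⟶ 𝔖)
    (h𝔖 : 𝔖.IsLocNoethFormal) (hf : FSch.IsAdicHom f) [IsLocallyNoetherian (𝔛.X 0)] :
    𝔛.IsLocNoethFormal := by
  exact ⟨isFormal_of_isAdicHom f hf h𝔖.1, isAdic_of_isAdicHom f hf h𝔖.1 h𝔖.2.1,
    isLocallyNoetherian_level f h𝔖 hf⟩

end Groth.Agent.S3857
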