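import Groth.Statements.S3858
import Groth.Agent.S3857

set_option autoImplicit false
universe u
open FCompl

namespace Groth.Agent.S3858

open CategoryTheory CategoryTheory.Limits AlgebraicGeometry

/-- The second projection of the levelwise fibre product is adic when the first factor is adic over
the base. -/
theorem isAdicHom_pullbackSnd {𝔛 𝔖 𝔖' : FSch.Sys.{u}} (f : 𝔛 ⟶ 𝔖) (g : 𝔖' ⟶ 𝔖)
    (hf : FSch.IsAdicHom f) : FSch.IsAdicHom (FSch.pullbackSnd f g) := by
  intro n
  have hA : IsPullback (pullback.fst ((f : FSch.Hom 𝔛 𝔖).app n) ((g : FSch.Hom 𝔖' 𝔖).app n))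
      (pullback.snd _ _) ((f : FSch.Hom 𝔛 𝔖).app n) ((g : FSch.Hom 𝔖' 𝔖).app n) :=
    IsPullback.of_hasPullback _ _
  have hC : IsPullback
      (pullback.fst ((f : FSch.Hom 𝔛 𝔖).app (n + 1)) ((g : FSch.Hom 𝔖' 𝔖).app (n + 1)))
      (pullback.snd _ _) ((f : FSch.Hom 𝔛 𝔖).app (n + 1)) ((g : FSch.Hom 𝔖' 𝔖).app (n + 1)) :=
    IsPullback.of_hasPullback _ _
  have hAB := hA.paste_horiz (hf n)
  have e1 : (FSch.pullbackSys f g).ι n ≫
      pullback.fst ((f : FSch.Hom 𝔛 𝔖).app (n + 1)) ((g : FSch.Hom 𝔖' 𝔖).app (n + 1)) =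
      pullback.fst ((f : FSch.Hom 𝔛 𝔖).app n) ((g : FSch.Hom 𝔖' 𝔖).app n) ≫ 𝔛.ι n :=
    pullback.lift_fst _ _ _
  have e2 : (FSch.pullbackSys f g).ι n ≫
      pullback.snd ((f : FSch.Hom 𝔛 𝔖).app (n + 1)) ((g : FSch.Hom 𝔖' 𝔖).app (n + 1)) =
      pullback.snd ((f : FSch.Hom 𝔛 𝔖).app n) ((g : FSch.Hom 𝔖' 𝔖).app n) ≫ 𝔖'.ι n :=
    pullback.lift_snd _ _ _
  rw [← e1, (g : FSch.Hom 𝔖' 𝔖).comm n] at hAB
  exact IsPullback.of_right hAB e2 hC

open AlgebraicGeometry in
/-- Formal schemes are presented as systems of thickenings (X_n)_n and fibre products of systems are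
taken levelwise. Let X → S be an adic morphism of systems (every square X_n → X_(n+1), S_n → S_(n+1)
is cartesian) whose level-0 morphism X_0 → S_0 is locally of finite type, and S' → S a morphism from
a locally Noetherian adic formal system S'. Then the levelwise fibre product (X_n ×_(S_n) S'_n)_n is
a locally Noetherian adic formal system, its projection to S' is adic, and the level-0 projection
X_0 ×_(S_0) S'_0 → S'_0 is locally of finite type. The published statement concerns the fibre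
product of formal schemes, which the levelwise fibre product presents because X is adic over S, and
also assumes X and S locally Noetherian, which is not assumed here. -/
theorem result {𝔛 𝔖 𝔖' : FSch.Sys.{u}} (f : 𝔛 ⟶ 𝔖) (g : 𝔖' ⟶ 𝔖)
    (h𝔖' : 𝔖'.IsLocNoethFormal) (hf : FSch.IsAdicHom f) [LocallyOfFiniteType ((f : FSch.Hom 𝔛 𝔖).app 0)] :
    (FSch.pullbackSys f g).IsLocNoethFormal ∧ FSch.IsAdicHom (FSch.pullbackSnd f g) ∧
      LocallyOfFiniteType ((FSch.pullbackSnd f g : FSch.Hom _ _).app 0) := by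
  have hadic := isAdicHom_pullbackSnd f g hf
  have hlft : LocallyOfFiniteType ((FSch.pullbackSnd f g : FSch.Hom _ _).app 0) :=
    inferInstanceAs (LocallyOfFiniteType
      (pullback.snd ((f : FSch.Hom 𝔛 𝔖).app 0) ((g : FSch.Hom 𝔖' 𝔖).app 0)))
  have hN0 : IsLocallyNoetherian (𝔖'.X 0) := h𝔖'.2.2 0
  have hP0 : IsLocallyNoetherian ((FSch.pullbackSys f g).X 0) :=
    @LocallyOfFiniteType.isLocallyNoetherian _ _
      ((FSch.pullbackSnd f g : FSch.Hom _ _).app 0) hlft hN0
  exact ⟨Groth.Agent.S3857.result (FSch.pullbackSnd f g) h𝔖' hadic, hadic, hlft⟩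

end Groth.Agent.S3858
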