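import Groth.Statements.S3859

set_option autoImplicit false
universe u
open FCompl

namespace Groth.Agent.S3859

open AlgebraicGeometry in
open CategoryTheory in
/-- In the presentation by systems of thickenings: For morphisms of systems X -> S and Y -> S, the
levelwise fibre product with its two projections is a fibre product in the category of systems; it
presents the fibre product of formal schemes when one factor is adic over the base, and otherwise
only up to cofinality of the levels. -/
theorem result {𝔛 𝔜 𝔖 : FSch.Sys.{u}} (f : 𝔛 ⟶ 𝔖) (g : 𝔜 ⟶ 𝔖) :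
    IsPullback (FSch.pullbackFst f g) (FSch.pullbackSnd f g) f g := by
  have w : FSch.pullbackFst f g ≫ f = FSch.pullbackSnd f g ≫ g := by
    apply FSch.Hom.ext
    funext n
    exact Limits.pullback.condition
  refine ⟨⟨w⟩, ⟨Limits.PullbackCone.IsLimit.mk w ?_ ?_ ?_ ?_⟩⟩
  · intro s
    have hs : ∀ n, (s.fst : FSch.Hom _ _).app n ≫ (f : FSch.Hom _ _).app n =
        (s.snd : FSch.Hom _ _).app n ≫ (g : FSch.Hom _ _).app n := fun n =>
      congrArg (fun h : FSch.Hom _ _ => h.app n) s.condition
    refine ⟨fun n => Limits.pullback.lift ((s.fst : FSch.Hom _ _).app n)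
      ((s.snd : FSch.Hom _ _).app n) (hs n), fun n => ?_⟩
    apply Limits.pullback.hom_ext
    · simp only [FSch.pullbackSys, Limits.pullback.map, Category.assoc, Limits.pullback.lift_fst,
        Limits.pullback.lift_fst_assoc]
      exact (s.fst : FSch.Hom _ _).comm n
    · simp only [FSch.pullbackSys, Limits.pullback.map, Category.assoc, Limits.pullback.lift_snd,
        Limits.pullback.lift_snd_assoc]
      exact (s.snd : FSch.Hom _ _).comm n
  · intro s
    apply FSch.Hom.ext
    funext n
    exact Limits.pullback.lift_fst _ _ _
  · intro s
    apply FSch.Hom.ext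
    funext n
    exact Limits.pullback.lift_snd _ _ _
  · intro s m h₁ h₂
    apply FSch.Hom.ext
    funext n
    apply Limits.pullback.hom_ext
    · rw [Limits.pullback.lift_fst]
      exact congrArg (fun h : FSch.Hom _ _ => h.app n) h₁
    · rw [Limits.pullback.lift_snd]
      exact congrArg (fun h : FSch.Hom _ _ => h.app n) h₂

end Groth.Agent.S3859
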