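import Groth.Statements.S3860
import Mathlib.RingTheory.AdicCompletion.RingHom

set_option autoImplicit false
universe u
open FCompl

namespace Groth.Agent.S3860

open AlgebraicGeometry CategoryTheory

theorem strictMono_succ : StrictMono (fun n : ℕ => n + 1) := fun _ _ h => Nat.succ_lt_succ h

open AlgebraicGeometry in
/-- (Affine adic case; the formal spectra presented as the systems Spec(A/I^(n+1)) and Spec(B/K^(n+1)).)
Let I be an ideal of a ring A which is complete and separated for the I-adic topology, and K an
ideal of a ring B. Then φ ↦ (Spec of the induced maps B/K^(n+1) -> A/I^(n+1)) is a bijection from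
the ring homomorphisms φ : B -> A with φ(K) ⊆ I onto the morphisms of systems from Spf(A) to Spf(B),
i.e. the compatible families of morphisms Spec(A/I^(n+1)) -> Spec(B/K^(n+1)). -/
theorem result (A B : Type u) [CommRing A] [CommRing B] (I : Ideal A) (K : Ideal B)
    [IsAdicComplete I A] :
    Function.Bijective (fun φ : {φ : B →+* A // K ≤ I.comap φ} ↦ FSch.spfMap I K φ.1 φ.2) := by
  constructor
  · rintro ⟨φ, hφ⟩ ⟨φ', hφ'⟩ h
    simp only at h
    apply Subtype.ext
    simp only
    apply DFunLike.coe_injective
    apply IsHausdorff.StrictMono.funext' I strictMono_succ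
    intro n b
    have h1 := congrArg (fun F : FSch.Hom _ _ => F.app n) h
    simp only [FSch.spfMap_app] at h1
    have h2 := congrArg CommRingCat.Hom.hom (Spec.map_injective h1)
    have h3 := congrArg (fun ψ : B ⧸ K ^ (n + 1) →+* A ⧸ I ^ (n + 1) =>
      ψ (Ideal.Quotient.mk _ b)) h2
    simpa [FSch.quotPowMap] using h3
  · intro F
    -- the ring maps underlying the levels of `F`
    let ψ : ∀ n, CommRingCat.of (B ⧸ K ^ (n + 1)) ⟶ CommRingCat.of (A ⧸ I ^ (n + 1)) :=
      fun n => Spec.preimage ((F : FSch.Hom _ _).app n)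
    have hψ : ∀ n, Spec.map (ψ n) = (F : FSch.Hom _ _).app n := fun n => Spec.map_preimage _
    have hcomm : ∀ n, CommRingCat.ofHom (Ideal.Quotient.factor
          (Ideal.pow_le_pow_right (Nat.le_succ (n + 1)))) ≫ ψ n =
        ψ (n + 1) ≫ CommRingCat.ofHom (Ideal.Quotient.factor
          (Ideal.pow_le_pow_right (Nat.le_succ (n + 1)))) := by
      intro n
      apply Spec.map_injective
      rw [Spec.map_comp, Spec.map_comp, hψ, hψ]
      exact (F : FSch.Hom _ _).comm n
    let f : ∀ n, B →+* A ⧸ I ^ (n + 1) := fun n => (ψ n).hom.comp (Ideal.Quotient.mk _)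
    have hf : ∀ {m : ℕ}, (Ideal.Quotient.factorPow I
        (strictMono_succ.monotone m.le_succ)).comp (f (m + 1)) = f m := by
      intro m
      ext b
      have := congrArg (fun g : CommRingCat.of (B ⧸ K ^ (m + 1 + 1)) ⟶
        CommRingCat.of (A ⧸ I ^ (m + 1)) => g.hom (Ideal.Quotient.mk _ b)) (hcomm m)
      simp only [CommRingCat.hom_comp, CommRingCat.hom_ofHom, RingHom.comp_apply,
        Ideal.Quotient.factor_mk] at this
      simp only [f, RingHom.comp_apply]
      exact this.symm
    let φ : B →+* A := IsAdicComplete.StrictMono.liftRingHom I strictMono_succ f hf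
    have hφmk : ∀ n b, Ideal.Quotient.mk (I ^ (n + 1)) (φ b) = f n b := fun n b =>
      IsAdicComplete.StrictMono.mk_liftRingHom I strictMono_succ f hf b
    have hφK : K ≤ I.comap φ := by
      intro k hk
      rw [Ideal.mem_comap]
      have h0 : Ideal.Quotient.mk (I ^ (0 + 1)) (φ k) = 0 := by
        rw [hφmk]
        simp only [f, RingHom.comp_apply]
        have : Ideal.Quotient.mk (K ^ (0 + 1)) k = 0 := by
          rw [Ideal.Quotient.eq_zero_iff_mem]
          simpa using hk
        rw [this, map_zero]
      rw [Ideal.Quotient.eq_zero_iff_mem] at h0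
      simpa using h0
    refine ⟨⟨φ, hφK⟩, ?_⟩
    apply FSch.Hom.ext
    funext n
    simp only [FSch.spfMap_app]
    rw [← hψ n]
    congr 1
    apply CommRingCat.hom_ext
    apply Ideal.Quotient.ringHom_ext
    ext b
    simp only [CommRingCat.hom_ofHom, RingHom.comp_apply, FSch.quotPowMap, Ideal.quotientMap_mk]
    exact hφmk n b

end Groth.Agent.S3860
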