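import Groth.Statements.S3863
import Groth.Agent.Lib.Helper11.FormalSpf4
import Groth.Agent.Lib.Helper11.FormalSpf3b

set_option autoImplicit false
universe u
open FCompl

namespace Groth.Agent.S3863

open AlgebraicGeometry in
open CategoryTheory in
/-- The formal spectrum of A is presented as the system of closed subschemes of Spec A cut out by the
powers of J, and for an A-module M the system of modules M^Δ is the family of pullbacks of the sheaf
M̃ associated to M to these subschemes, with its canonical transition isomorphisms. Let A be a
Noetherian ring, complete and separated for the J-adic topology, and M, N finite A-modules. Then u ↦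
u^Δ is a bijection from Hom_A(M, N) onto the set of morphisms of systems of modules M^Δ → N^Δ. -/
theorem result (A : Type u) [CommRing A] [IsNoetherianRing A]
    (J : Ideal A) [IsAdicComplete J A] (M N : ModuleCat.{u} A) [Module.Finite A M] [Module.Finite A N] :
    Function.Bijective (fun u : M ⟶ N ↦
      FSch.complModMap (FSch.idealSpec A J) ((tilde.functor (CommRingCat.of A)).map u)) := by
  have h := (Groth.Agent.Lib.helper11.FormalSpf.ATow.ofCompletion A J).complMap_tilde_bijective M N
  have hconj : ∀ v : M ⟶ N,
      FSch.complModMap (FSch.idealSpec A J) ((tilde.functor (CommRingCat.of A)).map v) =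
        (Groth.Agent.Lib.helper11.FormalSpf.ATow.isoCompl A J
            ((tilde.functor (CommRingCat.of A)).obj M)).inv ≫
          (Groth.Agent.Lib.helper11.FormalSpf.ATow.ofCompletion A J).complMap
            ((tilde.functor (CommRingCat.of A)).map v) ≫
          (Groth.Agent.Lib.helper11.FormalSpf.ATow.isoCompl A J
            ((tilde.functor (CommRingCat.of A)).obj N)).hom := by
    intro v
    rw [Groth.Agent.Lib.helper11.FormalSpf.ATow.complMap_isoCompl, Iso.inv_hom_id_assoc]
  constructor
  · intro v v' hvv
    apply h.1
    have hvv' : FSch.complModMap (FSch.idealSpec A J) ((tilde.functor (CommRingCat.of A)).map v) =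
      FSch.complModMap (FSch.idealSpec A J) ((tilde.functor (CommRingCat.of A)).map v') := hvv
    rw [hconj, hconj] at hvv'
    have h2 := (cancel_epi _).1 hvv'
    exact (cancel_mono _).1 h2
  · intro ψ
    obtain ⟨v, hv⟩ := h.2 ((Groth.Agent.Lib.helper11.FormalSpf.ATow.isoCompl A J
        ((tilde.functor (CommRingCat.of A)).obj M)).hom ≫ ψ ≫
      (Groth.Agent.Lib.helper11.FormalSpf.ATow.isoCompl A J
        ((tilde.functor (CommRingCat.of A)).obj N)).inv)
    refine ⟨v, ?_⟩
    have hv' : (Groth.Agent.Lib.helper11.FormalSpf.ATow.ofCompletion A J).complMap
        ((tilde.functor (CommRingCat.of A)).map v) = _ := hv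
    change FSch.complModMap (FSch.idealSpec A J) ((tilde.functor (CommRingCat.of A)).map v) = ψ
    rw [hconj, hv', Category.assoc, Category.assoc, Iso.inv_hom_id, Category.comp_id,
      Iso.inv_hom_id_assoc]

end Groth.Agent.S3863
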