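import Groth.Statements.S3865
import Groth.Agent.Lib.Helper6.IdealSheaf
import Mathlib.AlgebraicGeometry.Morphisms.Finite

set_option autoImplicit false
universe u
open FCompl

namespace Groth.Agent.S3865

open CategoryTheory CategoryTheory.Limits AlgebraicGeometry

/-- The kernel of the base change of a closed immersion. -/
theorem ker_of_isPullback {P X Z Y : Scheme.{u}} {top : P ⟶ X} {left : P ⟶ Z} {right : X ⟶ Y}
    {bottom : Z ⟶ Y} [IsClosedImmersion bottom] (hp : IsPullback top left right bottom) :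
    top.ker = bottom.ker.comap right := by
  rw [← hp.isoPullback_hom_fst, Scheme.Hom.ker_comp_of_isIso,
    Scheme.IdealSheafData.ker_fst_of_isClosedImmersion]

theorem isClosedImmersion_toX (𝔛 : FSch.Sys.{u}) (hF : 𝔛.IsFormal) (n : ℕ) :
    IsClosedImmersion (𝔛.toX n) := by
  induction n with
  | zero => exact inferInstanceAs (IsClosedImmersion (𝟙 _))
  | succ n ih =>
    have := (hF n).1
    exact inferInstanceAs (IsClosedImmersion (𝔛.toX n ≫ 𝔛.ι n))

theorem isPullback_toX {𝔜 𝔛 : FSch.Sys.{u}} (j : 𝔜 ⟶ 𝔛) (hj : FSch.IsAdicHom j) (n : ℕ) :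
    IsPullback (𝔜.toX n) ((j : FSch.Hom 𝔜 𝔛).app 0) ((j : FSch.Hom 𝔜 𝔛).app n) (𝔛.toX n) := by
  induction n with
  | zero =>
    have h1 : IsIso (𝔜.toX 0) := inferInstanceAs (IsIso (𝟙 _))
    have h2 : IsIso (𝔛.toX 0) := inferInstanceAs (IsIso (𝟙 _))
    exact IsPullback.of_horiz_isIso ⟨by simp [FSch.Sys.toX]⟩
  | succ n ih => exact ih.paste_horiz (hj n)

/-- A formal scheme is presented as a system of thickenings (X_n)_n, and a coherent ideal of it as a
family of ideal sheaves A_n on the levels X_n, each A_n equal to the inverse image ideal of A_(n+1)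
under X_n → X_(n+1). Let (X_n) be a locally Noetherian adic formal system and (A_n) such a family.
Then the closed subschemes Y_n cut out by the A_n, with the induced transition maps, form a locally
Noetherian adic formal system, and its inclusion into (X_n) is adic: every square Y_n → Y_(n+1), X_n
→ X_(n+1) is cartesian. -/
theorem result (𝔛 : FSch.Sys.{u}) (h𝔛 : 𝔛.IsLocNoethFormal)
    (𝒜 : ∀ n, (𝔛.X n).IdealSheafData) (h : ∀ n, (𝒜 (n + 1)).comap (𝔛.ι n) = 𝒜 n) :
    (FSch.subSys 𝔛 𝒜 (fun n ↦ (h n).le)).IsLocNoethFormal ∧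
      FSch.IsAdicHom (FSch.subSysι 𝔛 𝒜 (fun n ↦ (h n).le)) := by
  obtain ⟨hF, hA, hN⟩ := h𝔛
  have hadic : FSch.IsAdicHom (FSch.subSysι 𝔛 𝒜 (fun n ↦ (h n).le)) := fun n => by
    have := (hF n).1
    refine (isPullback_of_isClosedImmersion (𝒜 n).subschemeι (𝒜 (n + 1)).subschemeι
      ((FSch.subSys 𝔛 𝒜 (fun n ↦ (h n).le)).ι n) (𝔛.ι n) ?_ ?_).flip
    · exact (Scheme.IdealSheafData.subschemeMap_subschemeι (𝒜 n) (𝒜 (n + 1)) (𝔛.ι n)
        (Scheme.IdealSheafData.le_map_iff_comap_le.mpr (h n).le)).symm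
    · rw [Scheme.IdealSheafData.ker_subschemeι, Scheme.IdealSheafData.ker_subschemeι]
      exact h n
  have hF' : (FSch.subSys 𝔛 𝒜 (fun n ↦ (h n).le)).IsFormal := fun n => by
    have hp := hadic n
    have h1 := (hF n).1
    have h2 : Surjective (𝔛.ι n) := ⟨(hF n).2⟩
    refine ⟨MorphismProperty.of_isPullback hp.flip h1, ?_⟩
    exact (MorphismProperty.of_isPullback (P := @Surjective) hp.flip h2).surj
  refine ⟨⟨hF', ?_, ?_⟩, hadic⟩
  · intro n
    have := (hF n).1
    have := isClosedImmersion_toX 𝔛 hF (n + 1)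
    rw [ker_of_isPullback (hadic n), ker_of_isPullback (isPullback_toX _ hadic (n + 1)), hA n,
      Groth.Agent.Lib.helper6.comap_pow]
  · intro n
    have := hN n
    have hft : LocallyOfFiniteType (𝒜 n).subschemeι := inferInstance
    exact @LocallyOfFiniteType.isLocallyNoetherian _ _ (𝒜 n).subschemeι hft (hN n)

end Groth.Agent.S3865
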