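import Groth.Statements.S3867
import Mathlib

set_option autoImplicit false
universe u
open FCompl

namespace Groth.Agent.S3867

open AlgebraicGeometry CategoryTheory CategoryTheory.Limits

section

variable {A B : Type u} [CommRing A] [CommRing B] (I : Ideal A) (K : Ideal B) (φ : B →+* A)
  (h : K ≤ I.comap φ)

/-- ring-level pushout square when `K A = I` -/
theorem isPushout_of_map_eq (hKI : K.map φ = I) (n : ℕ) :
    IsPushout (CommRingCat.ofHom (FSch.quotPowMap I K φ h (n + 1)))
      (CommRingCat.ofHom (Ideal.Quotient.factor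
        (Ideal.pow_le_pow_right (I := K) (Nat.le_succ (n + 1)))))
      (CommRingCat.ofHom (Ideal.Quotient.factor
        (Ideal.pow_le_pow_right (I := I) (Nat.le_succ (n + 1)))))
      (CommRingCat.ofHom (FSch.quotPowMap I K φ h n)) := by
  have w : CommRingCat.ofHom (FSch.quotPowMap I K φ h (n + 1)) ≫
      CommRingCat.ofHom (Ideal.Quotient.factor
        (Ideal.pow_le_pow_right (I := I) (Nat.le_succ (n + 1)))) =
      CommRingCat.ofHom (Ideal.Quotient.factor
        (Ideal.pow_le_pow_right (I := K) (Nat.le_succ (n + 1)))) ≫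
      CommRingCat.ofHom (FSch.quotPowMap I K φ h n) := by
    rw [← CommRingCat.ofHom_comp, ← CommRingCat.ofHom_comp]
    congr 1
    apply Ideal.Quotient.ringHom_ext
    ext b
    rfl
  refine ⟨⟨w⟩, ⟨PushoutCocone.IsColimit.mk _ (fun s => CommRingCat.ofHom
    (Ideal.Quotient.lift (I ^ (n + 1)) (s.inl.hom.comp (Ideal.Quotient.mk (I ^ (n + 1 + 1)))) ?_))
    ?_ ?_ ?_⟩⟩
  · intro a ha
    have hmap : I ^ (n + 1) = (K ^ (n + 1)).map φ := by rw [Ideal.map_pow, hKI]
    rw [hmap] at ha
    have hle : (K ^ (n + 1)).map φ ≤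
        RingHom.ker (s.inl.hom.comp (Ideal.Quotient.mk (I ^ (n + 1 + 1)))) := by
      rw [Ideal.map_le_iff_le_comap]
      intro b hb
      rw [Ideal.mem_comap, RingHom.mem_ker]
      have hc := s.condition
      have h1 := congrArg (fun f => f.hom (Ideal.Quotient.mk (K ^ (n + 1 + 1)) b)) hc
      simp only [CommRingCat.hom_comp, CommRingCat.hom_ofHom, RingHom.comp_apply] at h1
      have h2 : (Ideal.Quotient.factor (Ideal.pow_le_pow_right (I := K) (Nat.le_succ (n + 1))))
          (Ideal.Quotient.mk (K ^ (n + 1 + 1)) b) = 0 := by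
        rw [Ideal.Quotient.factor_mk, Ideal.Quotient.eq_zero_iff_mem]
        exact hb
      rw [h2, map_zero] at h1
      exact h1
    exact hle ha
  · intro s
    ext a
    rfl
  · intro s
    ext b
    have hc := s.condition
    have h1 := congrArg (fun f => f.hom (Ideal.Quotient.mk (K ^ (n + 1 + 1)) b)) hc
    simp only [CommRingCat.hom_comp, CommRingCat.hom_ofHom, RingHom.comp_apply] at h1
    exact h1
  · intro s m hm1 hm2
    ext a
    have h1 := congrArg (fun f => f.hom (Ideal.Quotient.mk (I ^ (n + 1 + 1)) a)) hm1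
    simp only [CommRingCat.hom_comp, CommRingCat.hom_ofHom, RingHom.comp_apply] at h1
    exact h1

/-- if the `n`-th square is cartesian then `I^(n+1) ≤ I^(n+2) + K^(n+1) A` -/
theorem le_sup_of_isPullback (n : ℕ)
    (h0 : IsPullback
      (Spec.map (CommRingCat.ofHom (Ideal.Quotient.factor
        (Ideal.pow_le_pow_right (I := I) (Nat.le_succ (n + 1))))))
      (Spec.map (CommRingCat.ofHom (FSch.quotPowMap I K φ h n)))
      (Spec.map (CommRingCat.ofHom (FSch.quotPowMap I K φ h (n + 1))))
      (Spec.map (CommRingCat.ofHom (Ideal.Quotient.factor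
        (Ideal.pow_le_pow_right (I := K) (Nat.le_succ (n + 1))))))) :
    I ^ (n + 1) ≤ I ^ (n + 1 + 1) ⊔ (K ^ (n + 1)).map φ := by
  let aR : A ⧸ I ^ (n + 1 + 1) →+* A ⧸ (I ^ (n + 1 + 1) ⊔ (K ^ (n + 1)).map φ) :=
    Ideal.Quotient.factor le_sup_left
  let bR : B ⧸ K ^ (n + 1) →+* A ⧸ (I ^ (n + 1 + 1) ⊔ (K ^ (n + 1)).map φ) :=
    Ideal.Quotient.lift (K ^ (n + 1)) ((Ideal.Quotient.mk _).comp φ) (by
      intro b hb
      rw [RingHom.comp_apply, Ideal.Quotient.eq_zero_iff_mem]
      exact Ideal.mem_sup_right (Ideal.mem_map_of_mem φ hb))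
  have hcompat : Spec.map (CommRingCat.ofHom aR) ≫
      Spec.map (CommRingCat.ofHom (FSch.quotPowMap I K φ h (n + 1))) =
      Spec.map (CommRingCat.ofHom bR) ≫ Spec.map (CommRingCat.ofHom (Ideal.Quotient.factor
        (Ideal.pow_le_pow_right (I := K) (Nat.le_succ (n + 1))))) := by
    rw [← Spec.map_comp, ← Spec.map_comp, ← CommRingCat.ofHom_comp, ← CommRingCat.ofHom_comp]
    congr 2
    apply Ideal.Quotient.ringHom_ext
    ext b
    rfl
  have hl := h0.lift_fst _ _ hcompat
  obtain ⟨ψ, hψ⟩ := Spec.map_surjective (h0.lift _ _ hcompat)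
  rw [← hψ, ← Spec.map_comp] at hl
  have hl' := Spec.map_injective hl
  intro x hx
  have h1 : ψ.hom ((Ideal.Quotient.factor (Ideal.pow_le_pow_right (I := I) (Nat.le_succ (n + 1))))
      (Ideal.Quotient.mk (I ^ (n + 1 + 1)) x)) = aR (Ideal.Quotient.mk (I ^ (n + 1 + 1)) x) := by
    have := congrArg (fun f => f.hom (Ideal.Quotient.mk (I ^ (n + 1 + 1)) x)) hl'
    exact this
  have h2 : (Ideal.Quotient.factor (Ideal.pow_le_pow_right (I := I) (Nat.le_succ (n + 1))))
      (Ideal.Quotient.mk (I ^ (n + 1 + 1)) x) = 0 := by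
    rw [Ideal.Quotient.factor_mk, Ideal.Quotient.eq_zero_iff_mem]
    exact hx
  rw [h2, map_zero] at h1
  have h3 : Ideal.Quotient.mk (I ^ (n + 1 + 1) ⊔ (K ^ (n + 1)).map φ) x = 0 := h1.symm
  rwa [Ideal.Quotient.eq_zero_iff_mem] at h3

end


open AlgebraicGeometry in
/-- Formal spectra are presented as the systems Spec(A/I^(n+1)) and Spec(B/K^(n+1)), a morphism of
systems being adic when all its squares are cartesian. Let A be a Noetherian ring, complete and
separated for the I-adic topology of an ideal I, K an ideal of a ring B and φ : B → A a ring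
homomorphism with φ(K) ⊆ I. Then the induced morphism Spf(A) → Spf(B) is adic if and only if the
ideal of A generated by φ(K) is I. -/
theorem result (A B : Type u) [CommRing A] [CommRing B] [IsNoetherianRing A]
    (I : Ideal A) (K : Ideal B) [IsAdicComplete I A] (φ : B →+* A) (h : K ≤ I.comap φ) :
    FSch.IsAdicHom (FSch.spfMap I K φ h) ↔ K.map φ = I := by
  constructor
  · intro hadic
    have hle : K.map φ ≤ I := Ideal.map_le_iff_le_comap.mpr h
    apply le_antisymm hle
    have hI2 := le_sup_of_isPullback I K φ h 0 (hadic 0)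
    rw [zero_add, pow_one, pow_one] at hI2
    -- Nakayama
    have hfg : I.FG := IsNoetherian.noetherian I
    have hjac : I ≤ (⊥ : Ideal A).jacobson := IsAdicComplete.le_jacobson_bot I
    refine Submodule.le_of_le_smul_of_le_jacobson_bot (N := K.map φ) (N' := I) hfg hjac ?_
    rw [smul_eq_mul, sup_comm, ← pow_two]
    exact hI2
  · intro hKI n
    exact isPullback_SpecMap_of_isPushout _ _ _ _ (isPushout_of_map_eq I K φ h hKI n)

end Groth.Agent.S3867
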