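import Groth.Statements.S3872
import Mathlib

set_option autoImplicit false
universe u
open FCompl

namespace Groth.Agent.S3872

theorem complMap_of {S T : Type u} [CommRing S] [CommRing T] (I : Ideal S) (K : Ideal T)
    (g : S →+* T) (h : I.map g ≤ K) (z : S) :
    FSch.complMap I K g h (AdicCompletion.of I S z) = AdicCompletion.of K T (g z) := by
  apply AdicCompletion.ext
  intro n
  change Ideal.Quotient.factor (le_of_eq (Ideal.mul_top _).symm)
    ((Ideal.quotientMap (K ^ n) g (FSch.pow_le_comap_pow_of_map_le I K g h n))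
    (AdicCompletion.evalₐ I n (AdicCompletion.of I S z))) = _
  rw [AdicCompletion.evalₐ_of, Ideal.quotientMap_mk]
  rfl


/-- For a ring A, an ideal J and a prime ideal 𝔭 with J ⊆ 𝔭, let A{S⁻¹}, S = A ∖ 𝔭, be the completion of
A_𝔭 for the topology defined by the extension of J, and A_{S} the subring of A{S⁻¹} generated by the
images of the completed localizations A_{f}, f ∉ 𝔭 (the stalk ring of Spf(A) at 𝔭). Given that A_{S}
and A{S⁻¹} are local rings and that the inclusion A_{S} → A{S⁻¹} and the canonical map A_𝔭 → A{S⁻¹}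
are local homomorphisms (all four are carried here as instance hypotheses; the two about A_{S} are
stated separately), both maps induce bijections on residue fields; so the residue field of A_{S} is
the residue field κ(𝔭) of A_𝔭. -/
theorem result (A : Type u) [CommRing A] (J : Ideal A) (𝔭 : Ideal A)
    [𝔭.IsPrime] (hJ : J ≤ 𝔭) [IsLocalRing (FSch.stalkSubring A J 𝔭)] [IsLocalRing (FSch.cAtPrime A J 𝔭)]
    [IsLocalHom (FSch.stalkSubring A J 𝔭).subtype]
    [IsLocalHom (algebraMap (Localization.AtPrime 𝔭) (FSch.cAtPrime A J 𝔭))] :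
    Function.Bijective (IsLocalRing.ResidueField.map (FSch.stalkSubring A J 𝔭).subtype) ∧
      Function.Bijective
        (IsLocalRing.ResidueField.map (algebraMap (Localization.AtPrime 𝔭) (FSch.cAtPrime A J 𝔭))) := by
  classical
  -- abbreviations
  have hIle : J.map (algebraMap A (Localization.AtPrime 𝔭)) ≤
      IsLocalRing.maximalIdeal (Localization.AtPrime 𝔭) := by
    rw [Ideal.map_le_iff_le_comap]
    have hu := IsLocalization.AtPrime.under_maximalIdeal (Localization.AtPrime 𝔭) 𝔭
    intro x hx
    have : x ∈ (IsLocalRing.maximalIdeal (Localization.AtPrime 𝔭)).under A := by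
      rw [hu]; exact hJ hx
    exact this
  have hnt : Nontrivial (Localization.AtPrime 𝔭 ⧸ J.map (algebraMap A (Localization.AtPrime 𝔭))) := by
    rw [Ideal.Quotient.nontrivial_iff]
    intro htop
    have := (IsLocalRing.maximalIdeal.isMaximal (Localization.AtPrime 𝔭)).ne_top
    exact this (top_le_iff.mp (htop ▸ hIle))
  -- key: every element of the completion is congruent to the image of some `a` mod max ideal
  have key : ∀ x : FSch.cAtPrime A J 𝔭, ∃ a : Localization.AtPrime 𝔭,
      IsLocalRing.residue (FSch.cAtPrime A J 𝔭)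
        (algebraMap (Localization.AtPrime 𝔭) (FSch.cAtPrime A J 𝔭) a) =
      IsLocalRing.residue (FSch.cAtPrime A J 𝔭) x := by
    intro x
    obtain ⟨a, ha⟩ := Ideal.Quotient.mk_surjective
      (AdicCompletion.evalOneₐ (J.map (algebraMap A (Localization.AtPrime 𝔭))) x)
    refine ⟨a, ?_⟩
    rw [← sub_eq_zero, ← map_sub, IsLocalRing.residue_eq_zero_iff,
      IsLocalRing.mem_maximalIdeal, mem_nonunits_iff]
    intro hu
    have hu' := hu.map (AdicCompletion.evalOneₐ (J.map (algebraMap A (Localization.AtPrime 𝔭))))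
    have hz : AdicCompletion.evalOneₐ (J.map (algebraMap A (Localization.AtPrime 𝔭)))
        (algebraMap (Localization.AtPrime 𝔭) (FSch.cAtPrime A J 𝔭) a - x) = 0 := by
      rw [map_sub, AlgHom.commutes, ← ha]
      exact sub_self _
    rw [hz] at hu'
    exact not_isUnit_zero hu'
  have part2 : Function.Surjective
      (IsLocalRing.ResidueField.map (algebraMap (Localization.AtPrime 𝔭) (FSch.cAtPrime A J 𝔭))) := by
    intro y
    obtain ⟨x, rfl⟩ := IsLocalRing.residue_surjective y
    obtain ⟨a, ha⟩ := key x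
    exact ⟨IsLocalRing.residue _ a, by rw [IsLocalRing.ResidueField.map_residue, ha]⟩
  refine ⟨⟨RingHom.injective _, ?_⟩, ⟨RingHom.injective _, part2⟩⟩
  intro y
  obtain ⟨x, rfl⟩ := IsLocalRing.residue_surjective y
  obtain ⟨a, ha⟩ := key x
  obtain ⟨b, s, rfl⟩ := IsLocalization.exists_mk'_eq 𝔭.primeCompl a
  have hs : (s : A) ∉ 𝔭 := s.2
  -- the element of `A_s` mapping to `a`
  let z : Localization.Away (s : A) :=
    IsLocalization.mk' (Localization.Away (s : A)) b
      (⟨(s : A), Submonoid.mem_powers _⟩ : Submonoid.powers (s : A))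
  have hz : FSch.awayToAtPrime A 𝔭 (s : A) hs z =
      IsLocalization.mk' (Localization.AtPrime 𝔭) b s := by
    rw [IsLocalization.eq_mk'_iff_mul_eq]
    have h1 : z * algebraMap A (Localization.Away (s : A)) (s : A) =
        algebraMap A (Localization.Away (s : A)) b := by
      have := IsLocalization.mk'_spec (Localization.Away (s : A)) b
        (⟨(s : A), Submonoid.mem_powers _⟩ : Submonoid.powers (s : A))
      exact this
    have h2 := congrArg (FSch.awayToAtPrime A 𝔭 (s : A) hs) h1
    rw [map_mul] at h2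
    have h3 : ∀ c : A, FSch.awayToAtPrime A 𝔭 (s : A) hs
        (algebraMap A (Localization.Away (s : A)) c) = algebraMap A (Localization.AtPrime 𝔭) c := by
      intro c
      simp [FSch.awayToAtPrime]
    rw [h3, h3] at h2
    exact h2
  have hmem : algebraMap (Localization.AtPrime 𝔭) (FSch.cAtPrime A J 𝔭)
      (IsLocalization.mk' (Localization.AtPrime 𝔭) b s) ∈ FSch.stalkSubring A J 𝔭 := by
    have hle : (FSch.cAwayToAtPrime A J 𝔭 (s : A) hs).range ≤ FSch.stalkSubring A J 𝔭 :=
      le_iSup (fun f : {f : A // f ∉ 𝔭} => (FSch.cAwayToAtPrime A J 𝔭 f.1 f.2).range)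
        ⟨(s : A), hs⟩
    apply hle
    refine ⟨AdicCompletion.of _ _ z, ?_⟩
    rw [FSch.cAwayToAtPrime, complMap_of, hz]
    rfl
  refine ⟨IsLocalRing.residue _ ⟨_, hmem⟩, ?_⟩
  rw [IsLocalRing.ResidueField.map_residue]
  exact ha

end Groth.Agent.S3872
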