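import Groth.Statements.S3873
import Mathlib

set_option autoImplicit false
universe u
open FCompl

namespace Groth.Agent.S3873

open CategoryTheory


open AlgebraicGeometry in
/-- Its content on the affine schemes underlying the formal spectra: the inverse image ideal of b^Δ is
(bA)^Δ, read on Spec: For a ring homomorphism φ : B -> A and an ideal b of B, the inverse image
along Spec(φ) of the ideal sheaf of b on Spec B is the ideal sheaf on Spec A of the ideal generated
by φ(b). -/
theorem result (A B : Type u) [CommRing A] [CommRing B] (φ : B →+* A) (𝔟 : Ideal B) :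
    (FSch.idealSpec B 𝔟).comap (Spec.map (CommRingCat.ofHom φ)) = FSch.idealSpec A (𝔟.map φ) := by
  unfold FSch.idealSpec
  have hci : IsClosedImmersion (Spec.map (CommRingCat.ofHom (Ideal.Quotient.mk 𝔟))) :=
    IsClosedImmersion.spec_of_surjective _ Ideal.Quotient.mk_surjective
  rw [← Scheme.IdealSheafData.ker_fst_of_isClosedImmersion]
  have hle : 𝔟 ≤ Ideal.comap φ (𝔟.map φ) := Ideal.le_comap_map
  -- the pushout square of rings
  have hpush : IsPushout (CommRingCat.ofHom φ) (CommRingCat.ofHom (Ideal.Quotient.mk 𝔟))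
      (CommRingCat.ofHom (Ideal.Quotient.mk (𝔟.map φ)))
      (CommRingCat.ofHom (Ideal.quotientMap (𝔟.map φ) φ hle)) := by
    have hcomm : CommRingCat.ofHom φ ≫ CommRingCat.ofHom (Ideal.Quotient.mk (𝔟.map φ)) =
        CommRingCat.ofHom (Ideal.Quotient.mk 𝔟) ≫
          CommRingCat.ofHom (Ideal.quotientMap (𝔟.map φ) φ hle) := by
      ext x
      simp
    have key : ∀ (P : CommRingCat.{u}) (f : CommRingCat.of A ⟶ P)
        (g : CommRingCat.of (B ⧸ 𝔟) ⟶ P),
        CommRingCat.ofHom φ ≫ f = CommRingCat.ofHom (Ideal.Quotient.mk 𝔟) ≫ g →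
        ∀ a ∈ 𝔟.map φ, f.hom a = 0 := by
      intro P f g hfg a ha
      have hle2 : 𝔟.map φ ≤ RingHom.ker f.hom := by
        rw [Ideal.map_le_iff_le_comap]
        intro x hx
        rw [Ideal.mem_comap, RingHom.mem_ker]
        have h1 := congrArg (fun ψ => ψ.hom x) hfg
        simp only [CommRingCat.hom_comp, CommRingCat.hom_ofHom, RingHom.comp_apply] at h1
        rw [h1, Ideal.Quotient.eq_zero_iff_mem.mpr hx, map_zero]
      exact hle2 ha
    refine ⟨⟨hcomm⟩, ⟨Limits.PushoutCocone.IsColimit.mk _ (fun s => ?_) ?_ ?_ ?_⟩⟩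
    · exact CommRingCat.ofHom
        (Ideal.Quotient.lift (𝔟.map φ) s.inl.hom (key s.pt s.inl s.inr s.condition))
    · intro s
      ext z
      rfl
    · intro s
      ext z
      have h1 := congrArg (fun ψ => ψ.hom z) s.condition
      simp only [CommRingCat.hom_comp, CommRingCat.hom_ofHom, RingHom.comp_apply] at h1
      simp only [CommRingCat.hom_comp, CommRingCat.hom_ofHom, RingHom.comp_apply,
        Ideal.quotientMap_mk, Ideal.Quotient.lift_mk]
      exact h1
    · intro s m hm1 hm2
      ext z
      have := congrArg (fun ψ => ψ.hom z) hm1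
      exact this
  have hpb := isPullback_SpecMap_of_isPushout _ _ _ _ hpush
  rw [← Scheme.Hom.ker_comp_of_isIso hpb.isoPullback.hom, IsPullback.isoPullback_hom_fst]

end Groth.Agent.S3873
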