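import Groth.Statements.S3882
import Groth.Agent.Lib.Helper1.HyperRef3

set_option autoImplicit false
universe u
open CategoryTheory
open Hyper

namespace Groth.Agent.S3882

open Opposite CategoryTheory.Limits
open Groth.Agent.H1 Groth.Agent.H1.HyperCech

lemma locally_zero {C : Type u} [SmallCategory C] (J : GrothendieckTopology C)
    (N : Cᵒᵖ ⥤ AddCommGrpCat.{u})
    (hN : IsZero ((presheafToSheaf J AddCommGrpCat.{u}).obj N)) (U : C) (s : N.obj (op U)) :
    ∃ S ∈ J U, ∀ ⦃W : C⦄ (g : W ⟶ U), S g → N.map g.op s = 0 := by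
  have h0 : IsZero (sheafify J N) := (sheafToPresheaf J AddCommGrpCat.{u}).map_isZero hN
  have h1 : IsZero ((sheafify J N).obj (op U)) :=
    ((evaluation Cᵒᵖ AddCommGrpCat.{u}).obj (op U)).map_isZero h0
  have h2 : (toSheafify J N).app (op U) s = (toSheafify J N).app (op U) 0 := by
    have : Subsingleton ((sheafify J N).obj (op U)) :=
      AddCommGrpCat.subsingleton_of_isZero h1
    exact Subsingleton.elim _ _
  refine ⟨_, Presheaf.equalizerSieve_mem J (toSheafify J N) s 0 h2, ?_⟩
  intro W g hg
  have : N.map g.op s = N.map g.op 0 := hg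
  rw [this, map_zero]

lemma toFam_cechMap {C : Type u} [SmallCategory C] (X : C)
    {K L : SimplicialObject (FormalCoproduct.{u} (Over X))} (f : L ⟶ K)
    (N : Cᵒᵖ ⥤ AddCommGrpCat.{u}) (p : ℕ) (x : (Hyper.cechCx X K N).X p) :
    toFam (L.obj (op (SimplexCategory.mk p))) ((Over.forget X).op ⋙ N)
      ((Hyper.cechMap X f N).f p x) =
      pullFam (f.app (op (SimplexCategory.mk p))) ((Over.forget X).op ⋙ N)
        (toFam (K.obj (op (SimplexCategory.mk p))) ((Over.forget X).op ⋙ N) x) := by
  funext j
  have h : (Hyper.cechMap X f N).f p ≫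
      Pi.π (fun j : (L.obj (op (SimplexCategory.mk p))).I =>
        ((Over.forget X).op ⋙ N).obj (op ((L.obj (op (SimplexCategory.mk p))).obj j))) j =
      Pi.π (fun i : (K.obj (op (SimplexCategory.mk p))).I =>
        ((Over.forget X).op ⋙ N).obj (op ((K.obj (op (SimplexCategory.mk p))).obj i)))
        ((f.app (op (SimplexCategory.mk p))).f j) ≫
        ((Over.forget X).op ⋙ N).map ((f.app (op (SimplexCategory.mk p))).φ j).op :=
    Pi.lift_π _ _
  exact ConcreteCategory.congr_hom h x

theorem main {C : Type u} [SmallCategory C] [HasPullbacks C]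
    (J : GrothendieckTopology C) (X : C)
    [∀ (n : ℕ) (F : (SimplexCategory.Truncated n)ᵒᵖ ⥤ Limits.FormalCoproduct.{u} (Over X)),
      (SimplexCategory.Truncated.inclusion n).op.HasRightKanExtension F]
    (K : SimplicialObject (FormalCoproduct.{u} (Over X))) (hK : Hyper.IsHypercovering J X K)
    (N : Cᵒᵖ ⥤ AddCommGrpCat.{u}) (hN : IsZero ((presheafToSheaf J AddCommGrpCat.{u}).obj N))
    (p : ℕ) (ξ : Hyper.cechH X K N p) :
    ∃ (L : SimplicialObject (FormalCoproduct.{u} (Over X))) (f : L ⟶ K),
      Hyper.IsHypercovering J X L ∧ Hyper.cechHMap X f N p ξ = 0 := by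
  have : HasFiniteLimits (FormalCoproduct.{u} (Over X)) :=
    hasFiniteLimits_of_hasTerminal_and_pullbacks
  obtain ⟨z, rfl⟩ : ∃ z : (Hyper.cechCx X K N).cycles p,
      (Hyper.cechCx X K N).homologyπ p z = ξ :=
    (AddCommGrpCat.epi_iff_surjective _).1 inferInstance ξ
  let x := (Hyper.cechCx X K N).iCycles p z
  let c := toFam (K.obj (op (SimplexCategory.mk p))) ((Over.forget X).op ⋙ N) x
  have hc : ∀ i, ∃ S ∈ (J.over X) ((K.obj (op (SimplexCategory.mk p))).obj i),
      ∀ ⦃W : Over X⦄ (g : W ⟶ (K.obj (op (SimplexCategory.mk p))).obj i), S g →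
        ((Over.forget X).op ⋙ N).map g.op (c i) = 0 := by
    intro i
    obtain ⟨S, hS, hS'⟩ := locally_zero J N hN
      ((K.obj (op (SimplexCategory.mk p))).obj i).left (c i)
    refine ⟨(Sieve.overEquiv ((K.obj (op (SimplexCategory.mk p))).obj i)).symm S,
      (GrothendieckTopology.mem_over_iff J _).2 ?_, ?_⟩
    · have e : Sieve.overEquiv ((K.obj (op (SimplexCategory.mk p))).obj i)
          ((Sieve.overEquiv ((K.obj (op (SimplexCategory.mk p))).obj i)).symm S) = S :=
        OrderIso.apply_symm_apply _ _
      exact e.symm ▸ hS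
    · intro W g hg
      exact hS' _ ((Sieve.overEquiv_symm_iff _ _).1 hg)
  obtain ⟨L, f, hL, hf⟩ := HyperRef.exists_refinement_killing (J.over X) K
    (HyperOver.localKan_of_isHypercovering J X K hK) p _ c hc
  refine ⟨L, f, HyperKanConv.isHypercovering_of_localKan J X L hL, ?_⟩
  have h1 : (Hyper.cechMap X f N).f p x = 0 := by
    refine toFam_injective (L.obj (op (SimplexCategory.mk p))) ((Over.forget X).op ⋙ N) ?_
    refine (toFam_cechMap X f N p x).trans ?_
    refine hf.trans ?_
    exact (toFam_zero _ _).symm
  have h2 : HomologicalComplex.cyclesMap (Hyper.cechMap X f N) p z = 0 := by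
    apply (AddCommGrpCat.mono_iff_injective ((Hyper.cechCx X L N).iCycles p)).1 inferInstance
    have h3 := ConcreteCategory.congr_hom
      (HomologicalComplex.cyclesMap_i (Hyper.cechMap X f N) p) z
    simp only [ConcreteCategory.comp_apply] at h3
    rw [h3, map_zero]
    exact h1
  have h4 := ConcreteCategory.congr_hom
    (HomologicalComplex.homologyπ_naturality (Hyper.cechMap X f N) p) z
  simp only [ConcreteCategory.comp_apply] at h4
  change HomologicalComplex.homologyMap (Hyper.cechMap X f N) p
    ((Hyper.cechCx X K N).homologyπ p z) = 0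
  rw [h4, h2, map_zero]

open Opposite CategoryTheory.Limits in
/-- The statement its proof reduces the result to (hypercoverings of an object X of a small site with
fibre products; coskeleta assumed to exist): let N be a presheaf of abelian groups whose associated
sheaf is zero, K a hypercovering of X and ξ a class in the p-th Cech cohomology group of N with
respect to K. Then there is a morphism of hypercoverings f : L -> K such that ξ maps to zero in the
p-th Cech cohomology group of N with respect to L. (So Cech cohomology over all hypercoverings up to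
homotopy kills such presheaves in every degree.) -/
theorem result {C : Type u} [SmallCategory C] [HasPullbacks C]
    (J : GrothendieckTopology C) (X : C)
    [∀ (n : ℕ) (F : (SimplexCategory.Truncated n)ᵒᵖ ⥤ Limits.FormalCoproduct.{u} (Over X)),
      (SimplexCategory.Truncated.inclusion n).op.HasRightKanExtension F]
    (K : SimplicialObject (FormalCoproduct.{u} (Over X))) (hK : Hyper.IsHypercovering J X K)
    (N : Cᵒᵖ ⥤ AddCommGrpCat.{u}) (hN : IsZero ((presheafToSheaf J AddCommGrpCat.{u}).obj N))
    (p : ℕ) (ξ : Hyper.cechH X K N p) :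
    ∃ (L : SimplicialObject (FormalCoproduct.{u} (Over X))) (f : L ⟶ K),
      Hyper.IsHypercovering J X L ∧ Hyper.cechHMap X f N p ξ = 0 := by
  exact main J X K hK N hN p ξ

end Groth.Agent.S3882
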