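import Groth.Statements.S3884
import Groth.Agent.Lib.Helper1.LimCohMain

set_option autoImplicit false
open CategoryTheory CategoryTheory.Limits AlgebraicGeometry Opposite
universe u
open EtLim

namespace Groth.Agent.S3884

open Groth.Agent.Lib.helper27 Groth.Agent.Lib.helper27.PullFunEt
  Groth.Agent.Lib.helper27.HpullHmap Groth.Agent.H1.LimCoh

lemma HpushTrans_eq_Hmap {X Xi Xj : Scheme.{u}} (uij : Xj ⟶ Xi) (uj : X ⟶ Xj) (ui : X ⟶ Xi)
    (w : uj ≫ uij = ui) [PreservesFiniteLimits (EtCoh.pull uij)] (F : EtCoh.Ab X) (n : ℕ)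
    (x : EtCoh.H Xi ((EtCoh.push ui).obj F) n) :
    EtLim.HpushTrans uij uj ui w F n x = Hmap uij ((pushTri uj uij ui w).inv.app F) n x := by
  subst w
  have h1 : EtLim.HpushTrans uij uj (uj ≫ uij) rfl F n x =
      EtLim.HofPush uij ((EtCoh.push uj).obj F) n
        (((EtCoh.HF Xi n).map (((EtCoh.pushCongr (rfl : uj ≫ uij = uj ≫ uij).symm).app F).hom ≫
          (EtCoh.pushComp uij uj).inv.app F)).hom x) := rfl
  rw [h1, HofPush_eq_Hmap, HF_map_apply, Hmap_precomp, Category.comp_id]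
  congr 1
  have h2 : ((EtCoh.pushCongr (rfl : uj ≫ uij = uj ≫ uij).symm).app F).hom = 𝟙 _ :=
    pushCongr_refl_hom_app (uj ≫ uij) F
  rw [h2, Category.id_comp]
  rfl

theorem main {ι : Type u} [Preorder ι] [Nonempty ι] [IsDirected ι (· ≤ ·)] (Xs : ιᵒᵖ ⥤ Scheme.{u})
    (haff : ∀ ⦃a b : ιᵒᵖ⦄ (h : a ⟶ b), IsAffineHom (Xs.map h))
    (hqc : ∀ a, CompactSpace ↥(Xs.obj a)) (hqs : ∀ a, QuasiSeparatedSpace ↥(Xs.obj a))
    (c : Cone Xs) (hc : IsLimit c) (F : EtCoh.Ab c.pt) (n : ℕ)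
    [∀ a, PreservesFiniteLimits (EtCoh.pull (c.π.app a))]
    [∀ ⦃a b : ιᵒᵖ⦄ (h : a ⟶ b), PreservesFiniteLimits (EtCoh.pull (Xs.map h))] :
    (∀ ξ : EtCoh.H c.pt F n,
      ∃ (j : ι) (ξj : EtCoh.H (Xs.obj (op j)) ((EtCoh.push (c.π.app (op j))).obj F) n),
        EtLim.HofPush (c.π.app (op j)) F n ξj = ξ) ∧
    (∀ (j : ι) (ξj : EtCoh.H (Xs.obj (op j)) ((EtCoh.push (c.π.app (op j))).obj F) n),
      EtLim.HofPush (c.π.app (op j)) F n ξj = 0 →
        ∃ (k : ι) (hk : j ≤ k),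
          EtLim.HpushTrans (Xs.map (homOfLE hk).op) (c.π.app (op k)) (c.π.app (op j))
            (c.w (homOfLE hk).op) F n ξj = 0) := by
  haveI : ∀ i : ι, CompactSpace (Xs.obj (op i)) := fun i => hqc (op i)
  haveI : ∀ i : ι, QuasiSeparatedSpace (Xs.obj (op i)) := fun i => hqs (op i)
  have hP := pp_all hc haff n F
  have hS : ∀ ξ : EtCoh.H c.pt F n, ∃ (j : ι)
      (ξj : EtCoh.H (Xs.obj (op j)) ((EtCoh.push (c.π.app (op j))).obj F) n),
      Hmap (c.π.app (op j)) (𝟙 _) n ξj = ξ := hP.1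
  have hI : ∀ (j : ι) (ξj : EtCoh.H (Xs.obj (op j)) ((EtCoh.push (c.π.app (op j))).obj F) n),
      Hmap (c.π.app (op j)) (𝟙 _) n ξj = 0 →
      ∃ (k : ι) (hk : j ≤ k), Hmap (Xs.map (homOfLE hk).op)
        ((pushTri (c.π.app (op k)) (Xs.map (homOfLE hk).op) (c.π.app (op j))
          (c.w (homOfLE hk).op)).inv.app F) n ξj = 0 := hP.2
  constructor
  · intro ξ
    obtain ⟨j, ξj, h⟩ := hS ξ
    exact ⟨j, ξj, (HofPush_eq_Hmap _ F n ξj).trans h⟩
  · intro j ξj h
    obtain ⟨k, hk, h2⟩ := hI j ξj ((HofPush_eq_Hmap _ F n ξj).symm.trans h)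
    exact ⟨k, hk, (HpushTrans_eq_Hmap _ _ _ _ F n ξj).trans h2⟩

/-- Let ι be a nonempty directed preordered set, (X_i) an inverse system of quasi-compact
quasi-separated schemes indexed by ι with affine transition morphisms, X a limit with projections
u_i : X -> X_i, and F an abelian sheaf on the small etale site of X. Then the canonical maps
H^n(X_i, u_{i*} F) -> H^n(X, F) (pull back along u_i, then apply the counit u_i^{-1} u_{i*} F -> F)
identify H^n(X, F) with the directed colimit of the H^n(X_i, u_{i*} F), in the concrete sense: every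
class on X comes from some stage, and a class at stage j mapping to zero on X already maps to zero
at some stage k ≥ j under the transition map. (Exactness of pullback of abelian sheaves, which
always holds, is carried as an instance hypothesis.) -/
theorem result {ι : Type u} [Preorder ι] [Nonempty ι] [IsDirected ι (· ≤ ·)] (Xs : ιᵒᵖ ⥤ Scheme.{u})
    (haff : ∀ ⦃a b : ιᵒᵖ⦄ (h : a ⟶ b), IsAffineHom (Xs.map h))
    (hqc : ∀ a, CompactSpace ↥(Xs.obj a)) (hqs : ∀ a, QuasiSeparatedSpace ↥(Xs.obj a))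
    (c : Cone Xs) (hc : IsLimit c) (F : EtCoh.Ab c.pt) (n : ℕ)
    [∀ a, PreservesFiniteLimits (EtCoh.pull (c.π.app a))]
    [∀ ⦃a b : ιᵒᵖ⦄ (h : a ⟶ b), PreservesFiniteLimits (EtCoh.pull (Xs.map h))] :
    (∀ ξ : EtCoh.H c.pt F n,
      ∃ (j : ι) (ξj : EtCoh.H (Xs.obj (op j)) ((EtCoh.push (c.π.app (op j))).obj F) n),
        EtLim.HofPush (c.π.app (op j)) F n ξj = ξ) ∧
    (∀ (j : ι) (ξj : EtCoh.H (Xs.obj (op j)) ((EtCoh.push (c.π.app (op j))).obj F) n),
      EtLim.HofPush (c.π.app (op j)) F n ξj = 0 →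
        ∃ (k : ι) (hk : j ≤ k),
          EtLim.HpushTrans (Xs.map (homOfLE hk).op) (c.π.app (op k)) (c.π.app (op j))
            (c.w (homOfLE hk).op) F n ξj = 0) := by
  exact main Xs haff hqc hqs c hc F n

end Groth.Agent.S3884
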