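import Groth.Statements.S3894
import Mathlib
-- import your own Groth.Agent.* helpers here

set_option autoImplicit false
universe u
open CategoryTheory CategoryTheory.Limits Opposite
open Tors

namespace Groth.Agent.S3894

/-- A torsor P under an abelian sheaf G is trivial, i.e. equivariantly isomorphic to G acting on itself
by translations, if and only if P has a global section (a morphism from the final sheaf of sets). -/
theorem result {C : Type u} [SmallCategory C] {J : GrothendieckTopology C}
    {G : Sheaf J AddCommGrpCat.{u}} (T : Tors.Torsor G) : T.IsTrivial ↔ T.HasSection := by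
  constructor
  · rintro ⟨e, he⟩
    refine ⟨⟨{ app := fun U => TypeCat.ofHom fun _ => e.hom.hom.app U (0 : G.obj.obj U),
               naturality := ?_ }⟩⟩
    intro U V f
    ext x
    have := NatTrans.naturality_apply e.hom.hom f (0 : G.obj.obj U)
    change e.hom.hom.app V (0 : G.obj.obj V) =
      T.P.obj.map f (e.hom.hom.app U (0 : G.obj.obj U))
    rw [← this]
    change _ = e.hom.hom.app V ((G.obj.map f).hom (0 : G.obj.obj U))
    rw [map_zero]
  · rintro ⟨t⟩
    let Gs : Sheaf J (Type u) := (sheafCompose J (forget AddCommGrpCat.{u})).obj G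
    let c : Gs ⟶ ⊤_ (Sheaf J (Type u)) := terminal.from Gs
    let s : ∀ U : Cᵒᵖ, T.P.obj.obj U := fun U => t.hom.app U (c.hom.app U (0 : G.obj.obj U))
    have hs : ∀ {U V : Cᵒᵖ} (f : U ⟶ V), T.P.obj.map f (s U) = s V := by
      intro U V f
      change T.P.obj.map f (t.hom.app U (c.hom.app U (0 : G.obj.obj U))) =
        t.hom.app V (c.hom.app V (0 : G.obj.obj V))
      rw [← NatTrans.naturality_apply t.hom f, ← NatTrans.naturality_apply c.hom f]
      change t.hom.app V (c.hom.app V ((G.obj.map f).hom (0 : G.obj.obj U))) = _
      rw [map_zero]
    let φ : Gs ⟶ T.P :=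
      ⟨{ app := fun U => TypeCat.ofHom fun g : G.obj.obj U => T.vadd g (s U)
         naturality := by
          intro U V f
          ext g
          change T.vadd ((G.obj.map f).hom g) (s V) = T.P.obj.map f (T.vadd g (s U))
          rw [T.map_vadd, hs] }⟩
    have hφ : IsIso φ := by
      have h1 : IsIso ((sheafToPresheaf J (Type u)).map φ) := by
        have : ∀ U, IsIso (((sheafToPresheaf J (Type u)).map φ).app U) := by
          intro U
          rw [isIso_iff_bijective]
          constructor
          · intro g g' hgg
            change T.vadd g (s U) = T.vadd g' (s U) at hgg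
            obtain ⟨g₀, -, hu⟩ := T.free_transitive (s U) (T.vadd g' (s U))
            rw [hu g hgg, hu g' rfl]
          · intro q
            obtain ⟨g₀, hg₀, -⟩ := T.free_transitive (s U) q
            exact ⟨g₀, hg₀⟩
        exact NatIso.isIso_of_isIso_app _
      exact isIso_of_reflects_iso φ (sheafToPresheaf J (Type u))
    refine ⟨asIso φ, ?_⟩
    intro U g h
    change T.vadd (g + h) (s U) = T.vadd g (T.vadd h (s U))
    exact T.add_vadd g h (s U)

end Groth.Agent.S3894
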