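import Groth.Statements.S4027
import Mathlib

set_option autoImplicit false
universe u
open LefPen

namespace Groth.Agent.S4027

open Polynomial in
section

variable {k : Type u} [Field k] {r : ℕ}

local notation "R" => MvPolynomial (Fin r) k

/-- `X_j ↦ X_j T`. -/
noncomputable def θ : MvPolynomial (Fin r) k →+* Polynomial (MvPolynomial (Fin r) k) :=
  MvPolynomial.eval₂Hom (Polynomial.C.comp MvPolynomial.C)
    (fun j => Polynomial.C (MvPolynomial.X j) * Polynomial.X)

/-- `P(X, T) ↦ P(XT, T)`. -/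
noncomputable def Φ : Polynomial (MvPolynomial (Fin r) k) →+* Polynomial (MvPolynomial (Fin r) k) :=
  Polynomial.eval₂RingHom (θ (k := k) (r := r)) Polynomial.X

theorem θ_C (c : k) : θ (r := r) (MvPolynomial.C c) = Polynomial.C (MvPolynomial.C c) := by
  simp [θ]

theorem θ_X (j : Fin r) : θ (k := k) (MvPolynomial.X j) =
    Polynomial.C (MvPolynomial.X j) * Polynomial.X := by
  simp [θ]

theorem Φ_C (a : MvPolynomial (Fin r) k) : Φ (Polynomial.C a) = θ a := by
  simp [Φ]

theorem Φ_X : Φ (k := k) (r := r) Polynomial.X = Polynomial.X := by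
  simp [Φ]

theorem eval_one_θ : (Polynomial.evalRingHom (1 : MvPolynomial (Fin r) k)).comp θ =
    RingHom.id _ := by
  apply MvPolynomial.ringHom_ext
  · intro c
    simp [θ_C]
  · intro j
    simp [θ_X]

theorem coeff_zero_θ (F : MvPolynomial (Fin r) k) :
    (θ F).coeff 0 = MvPolynomial.C (MvPolynomial.eval (fun _ => (0 : k)) F) := by
  have h : (Polynomial.constantCoeff.comp θ : MvPolynomial (Fin r) k →+* MvPolynomial (Fin r) k) =
      (MvPolynomial.C).comp (MvPolynomial.eval (fun _ => (0 : k))) := by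
    apply MvPolynomial.ringHom_ext
    · intro c
      simp [θ_C]
    · intro j
      simp [θ_X]
  have := congrArg (fun g => g F) h
  simpa using this

theorem Φ_injective : Function.Injective (Φ (k := k) (r := r)) := by
  classical
  let 𝕂 := FractionRing (Polynomial (MvPolynomial (Fin r) k))
  let ι : Polynomial (MvPolynomial (Fin r) k) →+* 𝕂 := algebraMap _ 𝕂
  let ξ : MvPolynomial (Fin r) k →+* 𝕂 :=
    MvPolynomial.eval₂Hom (ι.comp (Polynomial.C.comp MvPolynomial.C))
      (fun j => ι (Polynomial.C (MvPolynomial.X j)) / ι Polynomial.X)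
  let Ξ : Polynomial (MvPolynomial (Fin r) k) →+* 𝕂 := Polynomial.eval₂RingHom ξ (ι Polynomial.X)
  have hX : ι (Polynomial.X : Polynomial (MvPolynomial (Fin r) k)) ≠ 0 := by
    intro h
    have := (IsFractionRing.injective (Polynomial (MvPolynomial (Fin r) k)) 𝕂)
      (h.trans (map_zero ι).symm)
    exact Polynomial.X_ne_zero this
  have hcomp : Ξ.comp Φ = ι := by
    apply Polynomial.ringHom_ext
    · intro a
      change Ξ (Φ (Polynomial.C a)) = ι (Polynomial.C a)
      rw [Φ_C]
      have h2 : (Ξ.comp θ : MvPolynomial (Fin r) k →+* 𝕂) = ι.comp Polynomial.C := by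
        apply MvPolynomial.ringHom_ext
        · intro c
          simp [θ_C, Ξ, ξ]
        · intro j
          simp only [RingHom.comp_apply, θ_X, map_mul, Ξ, Polynomial.coe_eval₂RingHom,
            Polynomial.eval₂_C, Polynomial.eval₂_X, ξ, MvPolynomial.coe_eval₂Hom,
            MvPolynomial.eval₂_X]
          exact div_mul_cancel₀ _ hX
      exact congrArg (fun g => g a) h2
    · change Ξ (Φ Polynomial.X) = ι Polynomial.X
      rw [Φ_X]
      simp [Ξ]
  intro P Q hPQ
  have h1 : ι P = ι Q := by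
    rw [← hcomp]
    change Ξ (Φ P) = Ξ (Φ Q)
    rw [hPQ]
  exact IsFractionRing.injective _ 𝕂 h1

theorem exists_Φ_eq_C (a : MvPolynomial (Fin r) k) :
    ∃ (N : ℕ) (P' : Polynomial (MvPolynomial (Fin r) k)),
      Φ P' = Polynomial.X ^ N * Polynomial.C a := by
  induction a using MvPolynomial.induction_on with
  | C c => exact ⟨0, Polynomial.C (MvPolynomial.C c), by simp [Φ_C, θ_C]⟩
  | add a₁ a₂ h₁ h₂ =>
    obtain ⟨N₁, P₁, e₁⟩ := h₁
    obtain ⟨N₂, P₂, e₂⟩ := h₂
    refine ⟨N₁ + N₂, Polynomial.X ^ N₂ * P₁ + Polynomial.X ^ N₁ * P₂, ?_⟩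
    rw [map_add, map_mul, map_mul, map_pow, map_pow, Φ_X, e₁, e₂, Polynomial.C_add]
    ring
  | mul_X a j h =>
    obtain ⟨N, P, e⟩ := h
    refine ⟨N + 1, P * Polynomial.C (MvPolynomial.X j), ?_⟩
    rw [map_mul, e, Φ_C, θ_X, Polynomial.C_mul]
    ring

theorem exists_Φ_eq (P : Polynomial (MvPolynomial (Fin r) k)) :
    ∃ (N : ℕ) (P' : Polynomial (MvPolynomial (Fin r) k)), Φ P' = Polynomial.X ^ N * P := by
  induction P using Polynomial.induction_on with
  | C a => exact exists_Φ_eq_C a
  | add P₁ P₂ h₁ h₂ =>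
    obtain ⟨N₁, P₁', e₁⟩ := h₁
    obtain ⟨N₂, P₂', e₂⟩ := h₂
    refine ⟨N₁ + N₂, Polynomial.X ^ N₂ * P₁' + Polynomial.X ^ N₁ * P₂', ?_⟩
    rw [map_add, map_mul, map_mul, map_pow, map_pow, Φ_X, e₁, e₂]
    ring
  | monomial n a h =>
    obtain ⟨N, P', e⟩ := h
    refine ⟨N, P' * Polynomial.X, ?_⟩
    rw [map_mul, Φ_X, e, pow_succ]
    ring

/-- key step: from `A' * B'' = T^N` and `Φ A' = T^M * A` with `T ∤ A` deduce `A` is a unit. -/
theorem isUnit_of_dvd_pow {A A' : Polynomial (MvPolynomial (Fin r) k)} {N M : ℕ}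
    (hdvd : A' ∣ Polynomial.X ^ N) (hΦ : Φ A' = Polynomial.X ^ M * A)
    (hXA : ¬ (Polynomial.X : Polynomial (MvPolynomial (Fin r) k)) ∣ A) : IsUnit A := by
  obtain ⟨a, -, hass⟩ := (dvd_prime_pow Polynomial.prime_X N).mp hdvd
  obtain ⟨u, hu⟩ := hass.symm
  -- hu : X ^ a * u = A'
  have hv : IsUnit (Φ (u : Polynomial (MvPolynomial (Fin r) k))) := u.isUnit.map Φ
  have h1 : Polynomial.X ^ M * A = Polynomial.X ^ a * Φ (u : Polynomial (MvPolynomial (Fin r) k)) := by
    rw [← hΦ, ← hu, map_mul, map_pow, Φ_X]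
  have hXnu : ¬ IsUnit (Polynomial.X : Polynomial (MvPolynomial (Fin r) k)) :=
    Polynomial.prime_X.not_isUnit
  have hX0 : (Polynomial.X : Polynomial (MvPolynomial (Fin r) k)) ≠ 0 := Polynomial.X_ne_zero
  rcases lt_trichotomy a M with hlt | heq | hgt
  · exfalso
    obtain ⟨d, rfl⟩ := Nat.exists_eq_add_of_lt hlt
    have h2 : Polynomial.X ^ a * (Polynomial.X ^ (d + 1) * A) =
        Polynomial.X ^ a * Φ (u : Polynomial (MvPolynomial (Fin r) k)) := by
      rw [← h1]; ring
    have h3 := mul_left_cancel₀ (pow_ne_zero a hX0) h2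
    have h4 : IsUnit (Polynomial.X ^ (d + 1) * A) := h3 ▸ hv
    have h5 : IsUnit (Polynomial.X : Polynomial (MvPolynomial (Fin r) k)) := by
      have : Polynomial.X ∣ Polynomial.X ^ (d + 1) * A :=
        Dvd.intro (Polynomial.X ^ d * A) (by ring)
      exact isUnit_of_dvd_unit this h4
    exact hXnu h5
  · subst heq
    have h3 := mul_left_cancel₀ (pow_ne_zero a hX0) h1
    rw [h3]; exact hv
  · exfalso
    obtain ⟨d, rfl⟩ := Nat.exists_eq_add_of_lt hgt
    have h2 : Polynomial.X ^ M * A =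
        Polynomial.X ^ M * (Polynomial.X ^ (d + 1) * Φ (u : Polynomial (MvPolynomial (Fin r) k))) := by
      rw [h1]; ring
    have h3 := mul_left_cancel₀ (pow_ne_zero M hX0) h2
    apply hXA
    rw [h3]
    exact Dvd.intro (Polynomial.X ^ d * Φ (u : Polynomial (MvPolynomial (Fin r) k))) (by ring)

theorem irreducible_θ (F : MvPolynomial (Fin r) k) (hF : Irreducible F)
    (hF0 : MvPolynomial.eval (fun _ => (0 : k)) F ≠ 0) : Irreducible (θ F) := by
  classical
  have hXG : ¬ (Polynomial.X : Polynomial (MvPolynomial (Fin r) k)) ∣ θ F := by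
    rw [Polynomial.X_dvd_iff, coeff_zero_θ]
    intro h
    exact hF0 (MvPolynomial.C_injective _ _ (h.trans (map_zero _).symm))
  have hev : ∀ a : MvPolynomial (Fin r) k, (θ a).eval 1 = a := fun a =>
    congrArg (fun g => g a) eval_one_θ
  have hCF : Prime (Polynomial.C F : Polynomial (MvPolynomial (Fin r) k)) :=
    Polynomial.prime_C_iff.mpr hF.prime
  have hCF0 : (Polynomial.C F : Polynomial (MvPolynomial (Fin r) k)) ≠ 0 := hCF.ne_zero
  refine ⟨?_, ?_⟩
  · intro hu
    have : IsUnit ((θ F).eval 1) := hu.map (Polynomial.evalRingHom 1)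
    rw [hev] at this
    exact hF.not_isUnit this
  · intro A B hAB
    obtain ⟨NA, A', hA'⟩ := exists_Φ_eq A
    obtain ⟨NB, B', hB'⟩ := exists_Φ_eq B
    have hXA : ¬ (Polynomial.X : Polynomial (MvPolynomial (Fin r) k)) ∣ A :=
      fun h => hXG (hAB ▸ h.mul_right B)
    have hXB : ¬ (Polynomial.X : Polynomial (MvPolynomial (Fin r) k)) ∣ B :=
      fun h => hXG (hAB ▸ h.mul_left A)
    have hprod : A' * B' = Polynomial.X ^ (NA + NB) * Polynomial.C F := by
      apply Φ_injective
      rw [map_mul, hA', hB', map_mul, map_pow, Φ_X, Φ_C, hAB]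
      ring
    have hdvd : Polynomial.C F ∣ A' * B' := ⟨Polynomial.X ^ (NA + NB), by rw [hprod]; ring⟩
    rcases hCF.dvd_or_dvd hdvd with hA | hB
    · -- `C F ∣ A'`: then `B` is a unit
      right
      obtain ⟨A'', rfl⟩ := hA
      have h1 : B' * A'' = Polynomial.X ^ (NA + NB) := by
        have : Polynomial.C F * (B' * A'') = Polynomial.C F * Polynomial.X ^ (NA + NB) := by
          rw [mul_comm (Polynomial.C F) (Polynomial.X ^ (NA + NB)), ← hprod]; ring
        exact mul_left_cancel₀ hCF0 this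
      exact isUnit_of_dvd_pow ⟨A'', h1.symm⟩ hB' hXB
    · left
      obtain ⟨B'', rfl⟩ := hB
      have h1 : A' * B'' = Polynomial.X ^ (NA + NB) := by
        have : Polynomial.C F * (A' * B'') = Polynomial.C F * Polynomial.X ^ (NA + NB) := by
          rw [mul_comm (Polynomial.C F) (Polynomial.X ^ (NA + NB)), ← hprod]; ring
        exact mul_left_cancel₀ hCF0 this
      exact isUnit_of_dvd_pow ⟨B'', h1.symm⟩ hA' hXA

theorem isPrimitive_θ (F : MvPolynomial (Fin r) k) (hF : Irreducible F)
    (hF0 : MvPolynomial.eval (fun _ => (0 : k)) F ≠ 0) : (θ F).IsPrimitive := by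
  have hirr := irreducible_θ F hF hF0
  have hev : ∀ a : MvPolynomial (Fin r) k, (θ a).eval 1 = a := fun a =>
    congrArg (fun g => g a) eval_one_θ
  intro s hs
  obtain ⟨Q, hQ⟩ := hs
  rcases hirr.isUnit_or_isUnit hQ with h | h
  · exact Polynomial.isUnit_C.mp h
  · exfalso
    obtain ⟨q, hq, rfl⟩ := Polynomial.isUnit_iff.mp h
    have h1 : θ F = Polynomial.C (s * q) := by rw [hQ, Polynomial.C_mul]
    have h2 : (θ F).coeff 0 = s * q := by rw [h1, Polynomial.coeff_C_zero]
    rw [coeff_zero_θ] at h2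
    have h3 : F = s * q := by
      have := hev F
      rw [h1, Polynomial.eval_C] at this
      exact this.symm
    have h4 : IsUnit F := by
      rw [h3, ← h2]
      exact (isUnit_iff_ne_zero.mpr hF0).map MvPolynomial.C
    exact hF.not_isUnit h4

end

/-- Let k be an algebraically closed field, r ≥ 2, and F ∈ k[X_1, …, X_r] an irreducible polynomial with
F(0) ≠ 0 (in the source the origin is the base point of the lines considered and lies off the
hypersurface F = 0; without this the claim fails, e.g. for X_1 - X_2^2). Then the polynomial G(T) =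
F(X_1 T, …, X_r T), with coefficients in the field of rational functions k(X_1, …, X_r), is
irreducible. -/
theorem result (k : Type u) [Field k] [IsAlgClosed k] (r : ℕ) (hr : 2 ≤ r)
    (F : MvPolynomial (Fin r) k) (hF : Irreducible F) (hF0 : MvPolynomial.eval (fun _ => (0 : k)) F ≠ 0) :
    Irreducible ((MvPolynomial.eval₂ (Polynomial.C.comp MvPolynomial.C)
        (fun j => Polynomial.C (MvPolynomial.X j) * Polynomial.X) F).map
      (algebraMap (MvPolynomial (Fin r) k) (FractionRing (MvPolynomial (Fin r) k)))) := by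
  have hirr := irreducible_θ F hF hF0
  have hprim := isPrimitive_θ F hF hF0
  exact (hprim.irreducible_iff_irreducible_map_fraction_map).mp hirr

end Groth.Agent.S4027
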