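import Groth.Statements.S4064
import Mathlib
import Groth.Agent.Lib.Helper25.ExtEfface

set_option autoImplicit false
universe w v v'
open CategoryTheory CategoryTheory.Abelian
open SGA7

namespace Groth.Agent.S4064

open Limits in
/-- The diagram chase: with `0 → P → F → R → 0`, `0 → R → E → Q → 0`, `0 → P → X → E → 0` short exact
and `i : F ⟶ X` compatible, the sequence `0 → F → X → Q → 0` is short exact. -/
theorem shortExact_blend {C : Type w} [Category.{v} C] [Abelian C]
    {P F R E Q X : C} (a : P ⟶ F) (b : F ⟶ R) (wF : a ≫ b = 0)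
    (hF : (ShortComplex.mk a b wF).ShortExact) (c : R ⟶ E) (d : E ⟶ Q) (wE : c ≫ d = 0)
    (hE : (ShortComplex.mk c d wE).ShortExact) (i : F ⟶ X) (p : X ⟶ E)
    (w₁ : (a ≫ i) ≫ p = 0) (hX : (ShortComplex.mk (a ≫ i) p w₁).ShortExact)
    (hip : i ≫ p = b ≫ c) (w₂ : i ≫ (p ≫ d) = 0) :
    (ShortComplex.mk i (p ≫ d) w₂).ShortExact := by
  have ma : Mono a := hF.mono_f
  have eb : Epi b := hF.epi_g
  have mc : Mono c := hE.mono_f
  have ed : Epi d := hE.epi_g
  have mj : Mono (a ≫ i) := hX.mono_f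
  have ep : Epi p := hX.epi_g
  have mi : Mono i := by
    refine Preadditive.mono_of_cancel_zero _ (fun {T} z hz => ?_)
    have h1 : z ≫ b = 0 := by
      rw [← cancel_mono c, Category.assoc, ← hip, reassoc_of% hz, zero_comp, zero_comp]
    have h2 : hF.exact.lift z h1 ≫ a = z := hF.exact.lift_f z h1
    have h3 : hF.exact.lift z h1 = 0 := by
      rw [← cancel_mono (a ≫ i), zero_comp, reassoc_of% h2, hz]
    rw [← h2, h3, zero_comp]
  refine { exact := ?_, mono_f := mi, epi_g := epi_comp p d }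
  rw [ShortComplex.exact_iff_exact_up_to_refinements]
  intro T z hz
  dsimp at z hz ⊢
  have h1 : (z ≫ p) ≫ d = 0 := by rw [Category.assoc]; exact hz
  let r : T ⟶ R := hE.exact.lift (z ≫ p) h1
  have hr : r ≫ c = z ≫ p := hE.exact.lift_f (z ≫ p) h1
  obtain ⟨T₁, π₁, _, u, hu⟩ := surjective_up_to_refinements_of_epi b r
  have h2 : (π₁ ≫ z - u ≫ i) ≫ p = 0 := by
    rw [Preadditive.sub_comp, Category.assoc, Category.assoc, hip, ← hr, reassoc_of% hu,
      sub_self]
  let v : T₁ ⟶ P := hX.exact.lift _ h2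
  have hv : v ≫ (a ≫ i) = π₁ ≫ z - u ≫ i := hX.exact.lift_f _ h2
  refine ⟨T₁, π₁, inferInstance, u + v ≫ a, ?_⟩
  rw [Preadditive.add_comp, Category.assoc, hv]
  abel

/-- Let P -> F -> R and R -> E -> Q be short exact sequences in an abelian category (F an extension of R
by P, E an extension of Q by R). A blended extension of E by F is an object X with a monomorphism i
: F -> X and an epimorphism p : X -> E such that P -> X -> E (via i) and F -> X -> Q (via p) are
short exact and F -> X -> E is the composite F -> R -> E. Such an X exists if and only if the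
composite of the two extension classes, an element of Ext^2(Q, P), is zero. -/
theorem result {C : Type w} [Category.{v} C] [Abelian C]
    [HasExt.{v'} C] {P F R E Q : C} (a : P ⟶ F) (b : F ⟶ R) (wF : a ≫ b = 0)
    (hF : (ShortComplex.mk a b wF).ShortExact) (c : R ⟶ E) (d : E ⟶ Q) (wE : c ≫ d = 0)
    (hE : (ShortComplex.mk c d wE).ShortExact) :
    (∃ (X : C) (i : F ⟶ X) (p : X ⟶ E), i ≫ p = b ≫ c ∧
        (∃ w : (a ≫ i) ≫ p = 0, (ShortComplex.mk (a ≫ i) p w).ShortExact) ∧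
        (∃ w : i ≫ (p ≫ d) = 0, (ShortComplex.mk i (p ≫ d) w).ShortExact)) ↔
      hE.extClass.comp hF.extClass (rfl : 1 + 1 = 2) = 0 := by
  constructor
  · rintro ⟨X, i, p, hip, ⟨w₁, hX₁⟩, -⟩
    let ψ : ShortComplex.mk a b wF ⟶ ShortComplex.mk (a ≫ i) p w₁ :=
      { τ₁ := 𝟙 P, τ₂ := i, τ₃ := c, comm₁₂ := by simp, comm₂₃ := hip }
    have e := ShortComplex.ShortExact.extClass_naturality hF hX₁ ψ
    simp only [ψ, Ext.comp_mk₀_id] at e
    rw [e]
    exact hE.extClass_comp_assoc _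
  · intro h
    obtain ⟨x₂, hx₂⟩ : ∃ x₂ : Ext E P 1, (Ext.mk₀ c).comp x₂ (zero_add 1) = hF.extClass :=
      Ext.contravariant_sequence_exact₁ hE P hF.extClass (rfl : 1 + 1 = 2) h
    obtain ⟨X, j, p, w, hX, rfl⟩ : ∃ (X : C) (j : P ⟶ X) (p : X ⟶ E) (w : j ≫ p = 0)
        (hX : (ShortComplex.mk j p w).ShortExact), hX.extClass = x₂ :=
      Groth.Agent.Lib.helper25.ExtEfface.exists_shortExact_extClass_eq x₂
    obtain ⟨i, hi1, hi2⟩ : ∃ i : F ⟶ X, a ≫ i = 𝟙 P ≫ j ∧ i ≫ p = b ≫ c :=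
      Groth.Agent.Lib.helper25.ExtEfface.exists_hom_of_extClass_comm hF hX (𝟙 P) c
        (by rw [Ext.comp_mk₀_id]; exact hx₂.symm)
    have hai : a ≫ i = j := by simpa using hi1
    subst hai
    have hip : i ≫ p = b ≫ c := hi2
    have w₂ : i ≫ (p ≫ d) = 0 := by rw [reassoc_of% hip, wE, Limits.comp_zero]
    exact ⟨X, i, p, hip, ⟨w, hX⟩, ⟨w₂, shortExact_blend a b wF hF c d wE hE i p w hX hip w₂⟩⟩

end Groth.Agent.S4064
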