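import Groth.Statements.S4065
import Mathlib
-- import your own Groth.Agent.* helpers here

set_option autoImplicit false
universe w v
open CategoryTheory
open SGA7

namespace Groth.Agent.S4065

/-- Let P -> F -> R and R -> E -> Q be short exact sequences in an abelian category and X a blended
extension of E by F: i : F -> X and p : X -> E with i, p composing to F -> R -> E and with P -> X ->
E and F -> X -> Q short exact. Then u ↦ 1_X + (X -> E -> Q -> P -> F -> X) is a bijection from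
Hom(Q, P) onto the set of endomorphisms φ of X with i φ = i and φ p = p (the automorphisms of the
blended extension; every such φ is invertible), and it turns addition into composition (a group
isomorphism Hom(Q, P) ≅ Aut(X)). -/
theorem result {C : Type w} [Category.{v} C] [Abelian C]
    {P F R E Q X : C} (a : P ⟶ F) (b : F ⟶ R) (wF : a ≫ b = 0)
    (hF : (ShortComplex.mk a b wF).ShortExact) (c : R ⟶ E) (d : E ⟶ Q) (wE : c ≫ d = 0)
    (hE : (ShortComplex.mk c d wE).ShortExact) (i : F ⟶ X) (p : X ⟶ E) (hip : i ≫ p = b ≫ c)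
    (w₁ : (a ≫ i) ≫ p = 0) (h₁ : (ShortComplex.mk (a ≫ i) p w₁).ShortExact)
    (w₂ : i ≫ (p ≫ d) = 0) (h₂ : (ShortComplex.mk i (p ≫ d) w₂).ShortExact) :
    Set.BijOn (fun v : Q ⟶ P => 𝟙 X + p ≫ d ≫ v ≫ a ≫ i) Set.univ
      {φ : X ⟶ X | i ≫ φ = i ∧ φ ≫ p = p} ∧
      ∀ v v' : Q ⟶ P, 𝟙 X + p ≫ d ≫ (v + v') ≫ a ≫ i =
        (𝟙 X + p ≫ d ≫ v ≫ a ≫ i) ≫ (𝟙 X + p ≫ d ≫ v' ≫ a ≫ i) := by
  have hpd_epi : Epi (p ≫ d) := h₂.epi_g
  have hai_mono : Mono (a ≫ i) := h₁.mono_f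
  have w₁' : a ≫ i ≫ p = 0 := by simpa using w₁
  have w₂' : i ≫ p ≫ d = 0 := w₂
  refine ⟨⟨?_, ?_, ?_⟩, ?_⟩
  · intro v _
    refine ⟨?_, ?_⟩
    · simp only [Preadditive.comp_add, Category.comp_id]
      rw [reassoc_of% w₂']
      simp
    · simp only [Preadditive.add_comp, Category.id_comp, Category.assoc]
      rw [w₁']
      simp
  · intro v _ v' _ h
    simp only [add_right_inj] at h
    have h1 : (p ≫ d) ≫ v ≫ a ≫ i = (p ≫ d) ≫ v' ≫ a ≫ i := by simpa using h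
    have h2 := (cancel_epi (p ≫ d)).1 h1
    have h3 : v ≫ (a ≫ i) = v' ≫ (a ≫ i) := by simpa using h2
    exact (cancel_mono (a ≫ i)).1 h3
  · rintro φ ⟨hφ₁, hφ₂⟩
    have e₁ : i ≫ (φ - 𝟙 X) = 0 := by simp [Preadditive.comp_sub, hφ₁]
    have e₂ : (φ - 𝟙 X) ≫ p = 0 := by simp [Preadditive.sub_comp, hφ₂]
    -- factor through p ≫ d
    let ψ' : Q ⟶ X := h₂.exact.desc (φ - 𝟙 X) e₁
    have hψ' : (p ≫ d) ≫ ψ' = φ - 𝟙 X := h₂.exact.g_desc (φ - 𝟙 X) e₁
    have e₃ : ψ' ≫ p = 0 := by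
      rw [← cancel_epi (p ≫ d), ← Category.assoc, hψ', e₂, Limits.comp_zero]
    let v : Q ⟶ P := h₁.exact.lift ψ' e₃
    have hv : v ≫ (a ≫ i) = ψ' := h₁.exact.lift_f ψ' e₃
    refine ⟨v, Set.mem_univ _, ?_⟩
    change 𝟙 X + p ≫ d ≫ v ≫ a ≫ i = φ
    have : p ≫ d ≫ v ≫ a ≫ i = φ - 𝟙 X := by
      rw [← hψ', ← hv]; simp
    rw [this]; abel
  · intro v v'
    simp only [Preadditive.comp_add, Preadditive.add_comp, Category.comp_id, Category.id_comp,
      Category.assoc]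
    rw [reassoc_of% w₁']
    simp
    abel

end Groth.Agent.S4065
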