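import Groth.Statements.S4104
import Mathlib
import Groth.Agent.Lib.Helper15.HopfFF
import Groth.Agent.Lib.Helper15.HopfImage

set_option autoImplicit false
universe u
open CategoryTheory MonoidalCategory CartesianMonoidalCategory MonObj GrpObj AlgebraicGeometry CategoryTheory.Limits
open SGA3

namespace Groth.Agent.S4104

/-- Let φ : A' → A be a bialgebra map between commutative Hopf algebras over a field k (a homomorphism
of affine k-groups Spec A → Spec A', not necessarily of finite type). If the corresponding morphism
of schemes is a monomorphism, i.e. φ is an epimorphism in the category of commutative rings, then φ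
is surjective (the homomorphism is a closed immersion). -/
theorem result (k : Type u) [Field k] (A' A : Type u) [CommRing A'] [HopfAlgebra k A']
    [CommRing A] [HopfAlgebra k A] (φ : A' →ₐc[k] A)
    (hepi : ∀ (R : Type u) [CommRing R] (f g : A →+* R), f.comp (φ : A' →+* A) = g.comp (φ : A' →+* A) → f = g) :
    Function.Surjective φ := by
  classical
  let C := A' ⧸ Groth.Agent.Lib.helper15.HopfImage.kerIdeal φ
  let fb : C →ₐc[k] A := Groth.Agent.Lib.helper15.HopfImage.imHom φ
  have hfb : ∀ a' : A', fb (Ideal.Quotient.mk _ a') = φ a' := fun _ => rfl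
  letI algCA : Algebra C A := (fb : C →+* A).toAlgebra
  haveI : IsScalarTower k C A := IsScalarTower.of_algebraMap_eq fun r => by
    show algebraMap k A r = fb (algebraMap k C r)
    exact (AlgHomClass.commutes fb r).symm
  haveI hff : Module.FaithfullyFlat C A :=
    Groth.Agent.Lib.helper15.HopfFF.faithfullyFlat_of_injective fb (fun _ => rfl)
      (Groth.Agent.Lib.helper15.HopfImage.imHom_injective φ)
  have key := hepi (TensorProduct C A A)
    (Algebra.TensorProduct.includeLeft : A →ₐ[C] TensorProduct C A A).toRingHom
    (Algebra.TensorProduct.includeRight : A →ₐ[C] TensorProduct C A A).toRingHom (by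
      ext a'
      show TensorProduct.tmul C (φ a') (1 : A) = TensorProduct.tmul C (1 : A) (φ a')
      have h1 : φ a' = (Ideal.Quotient.mk _ a' : C) • (1 : A) := by
        rw [Algebra.smul_def, _root_.mul_one]
        rfl
      rw [h1, TensorProduct.smul_tmul])
  have key' : ∀ a : A, TensorProduct.tmul C a (1 : A) = TensorProduct.tmul C (1 : A) a :=
    fun a => RingHom.congr_fun key a
  have hsurj : Function.Surjective (algebraMap A (TensorProduct C A A)) := by
    intro t
    induction t with
    | zero => exact ⟨0, map_zero _⟩
    | add x y hx hy =>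
      obtain ⟨a, rfl⟩ := hx
      obtain ⟨b, rfl⟩ := hy
      exact ⟨a + b, map_add _ _ _⟩
    | tmul a b =>
      refine ⟨a * b, ?_⟩
      show TensorProduct.tmul C (a * b) (1 : A) = TensorProduct.tmul C a b
      have h2 : TensorProduct.tmul C a b =
          TensorProduct.tmul C a (1 : A) * TensorProduct.tmul C (1 : A) b := by
        rw [Algebra.TensorProduct.tmul_mul_tmul, _root_.mul_one, _root_.one_mul]
      rw [h2, ← key' b, Algebra.TensorProduct.tmul_mul_tmul, _root_.mul_one]
  have h3 : Function.Surjective (algebraMap C A) :=
    Module.FaithfullyFlat.surjective_of_tensorProduct (R := C) (S := A) (T := A) hsurj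
  intro a
  obtain ⟨c, hc⟩ := h3 a
  obtain ⟨a', rfl⟩ := Ideal.Quotient.mk_surjective c
  exact ⟨a', hc⟩

end Groth.Agent.S4104
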