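import Groth.Statements.S4110
import Mathlib
import Groth.Agent.Lib.Helper15.HeightOne

set_option autoImplicit false
universe u
open CategoryTheory MonoidalCategory CartesianMonoidalCategory MonObj GrpObj AlgebraicGeometry CategoryTheory.Limits
open SGA3

namespace Groth.Agent.S4110

/-- (iv) ⟹ (ii), over a local base: let R be a local ring of prime characteristic p and A a commutative
Hopf algebra over R which is of finite presentation and flat over R (an R-group G locally of finite
presentation and flat; finiteness is then a consequence) and of height ≤ 1: every element a of the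
augmentation ideal satisfies a^p = 0 (the Frobenius of G is trivial). Then A is isomorphic as an
R-algebra to R[X₁, …, Xₙ]/(X₁^p, …, Xₙ^p) for some n (n is the rank of the conormal module ω_G,
which is free). -/
theorem result (p : ℕ) [Fact p.Prime] (R : Type u) [CommRing R]
    [IsLocalRing R] [CharP R p] (A : Type u) [CommRing A] [HopfAlgebra R A] [Algebra.FinitePresentation R A] [Module.Flat R A]
    (h1 : ∀ a : A, Bialgebra.counitAlgHom R A a = 0 → a ^ p = 0) :
    ∃ n : ℕ, Nonempty (A ≃ₐ[R] (MvPolynomial (Fin n) R ⧸
      Ideal.span (Set.range fun i : Fin n => (MvPolynomial.X i : MvPolynomial (Fin n) R) ^ p))) := by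
  classical
  -- every element of `A` is integral over `R`
  have hint : Algebra.IsIntegral R A := by
    refine ⟨fun a => ?_⟩
    have hn : (a - algebraMap R A (Bialgebra.counitAlgHom R A a)) ^ p = 0 := by
      refine h1 _ ?_
      rw [map_sub, AlgHom.commutes, Algebra.algebraMap_self, RingHom.id_apply, sub_self]
    have hn' : IsIntegral R (a - algebraMap R A (Bialgebra.counitAlgHom R A a)) :=
      ⟨Polynomial.X ^ p, Polynomial.monic_X_pow p, by
        rw [Polynomial.eval₂_pow, Polynomial.eval₂_X]; exact hn⟩
    have := IsIntegral.add hn' (isIntegral_algebraMap (R := R) (A := A)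
      (x := Bialgebra.counitAlgHom R A a))
    rwa [sub_add_cancel] at this
  have : Module.Finite R A := Algebra.IsIntegral.finite
  -- char p on the residue field
  have : CharP (IsLocalRing.ResidueField R) p := by
    rw [CharP.charP_iff_prime_eq_zero (Fact.out : p.Prime)]
    have : ((p : R) : R) = 0 := CharP.cast_eq_zero R p
    have h2 := congrArg (algebraMap R (IsLocalRing.ResidueField R)) this
    rw [map_natCast, map_zero] at h2
    exact h2
  -- lifting elements of the augmentation ideal of the fibre
  have hlift : ∀ a' : TensorProduct R (IsLocalRing.ResidueField R) A,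
      Coalgebra.counit (R := IsLocalRing.ResidueField R) a' = 0 →
      ∃ b : A, Coalgebra.counit (R := R) b = 0 ∧ (1 : IsLocalRing.ResidueField R) ⊗ₜ[R] b = a' := by
    intro a' ha'
    obtain ⟨a, rfl⟩ := TensorProduct.mk_surjective R A (IsLocalRing.ResidueField R)
      Ideal.Quotient.mk_surjective a'
    refine ⟨a - algebraMap R A (Coalgebra.counit (R := R) a), ?_, ?_⟩
    · rw [map_sub]
      simp
    · rw [TensorProduct.tmul_sub, Algebra.algebraMap_eq_smul_one, ← TensorProduct.smul_tmul]
      have : Coalgebra.counit (R := R) a • (1 : IsLocalRing.ResidueField R) = 0 := by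
        have h3 : Coalgebra.counit (R := IsLocalRing.ResidueField R)
            ((1 : IsLocalRing.ResidueField R) ⊗ₜ[R] a) = 0 := ha'
        simpa using h3
      rw [this, TensorProduct.zero_tmul, sub_zero]
      rfl
  -- height one for the fibre
  have h1κ : ∀ a' : TensorProduct R (IsLocalRing.ResidueField R) A,
      Coalgebra.counit (R := IsLocalRing.ResidueField R) a' = 0 → a' ^ p = 0 := by
    intro a' ha'
    obtain ⟨b, hb, rfl⟩ := hlift a' ha'
    rw [Algebra.TensorProduct.tmul_pow, h1 b hb, TensorProduct.tmul_zero]
  obtain ⟨n, xb, hxb, hli, hsp⟩ :=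
    Groth.Agent.Lib.helper15.HeightOne.exists_basis_mon (k := IsLocalRing.ResidueField R)
      (A := TensorProduct R (IsLocalRing.ResidueField R) A) p h1κ
  choose x hx0 hx using fun j => hlift (xb j) (hxb j)
  have hmon : ∀ α : Fin n → Fin p,
      (1 : IsLocalRing.ResidueField R) ⊗ₜ[R] Groth.Agent.Lib.helper15.HeightOne.mon p n x α =
        Groth.Agent.Lib.helper15.HeightOne.mon p n xb α := by
    intro α
    have : ∀ a : A, (1 : IsLocalRing.ResidueField R) ⊗ₜ[R] a =
        (Algebra.TensorProduct.includeRight : A →ₐ[R] TensorProduct R (IsLocalRing.ResidueField R) A) a :=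
      fun a => rfl
    unfold Groth.Agent.Lib.helper15.HeightOne.mon
    rw [this, map_prod]
    refine Finset.prod_congr rfl fun i _ => ?_
    rw [map_pow, ← this, hx]
  have hliR : LinearIndependent R (Groth.Agent.Lib.helper15.HeightOne.mon p n x) := by
    apply Module.IsLocalRing.linearIndependent_of_flat
    have : (TensorProduct.mk R (IsLocalRing.ResidueField R) A 1 ∘
        Groth.Agent.Lib.helper15.HeightOne.mon p n x) =
        Groth.Agent.Lib.helper15.HeightOne.mon p n xb := by
      funext α
      exact hmon α
    rw [this]
    exact hli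
  have hspR : Submodule.span R (Set.range (Groth.Agent.Lib.helper15.HeightOne.mon p n x)) = ⊤ := by
    refine IsLocalRing.span_eq_top_of_tmul_eq_basis _ (Module.Basis.mk hli hsp.ge) fun α => ?_
    rw [Module.Basis.mk_apply]
    exact hmon α
  have hxp : ∀ i, x i ^ p = 0 := fun i => h1 _ (hx0 i)
  exact ⟨n, Groth.Agent.Lib.helper15.HeightOne.truncEquiv p n x hxp hliR hspR⟩

end Groth.Agent.S4110
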