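import Groth.Statements.S4111
import Groth.Agent.Lib.Helper14.NthPow3

set_option autoImplicit false
universe u
open CategoryTheory MonoidalCategory CartesianMonoidalCategory MonObj GrpObj AlgebraicGeometry CategoryTheory.Limits
open SGA3

namespace Groth.Agent.S4111

/-- The published statement says that the power map is etale; stated here as etale at the unit section,
which holds for every G (for commutative G the global form is the companion statement): let G be an
algebraic group over a field k and n a natural number invertible in k. Then the n-th power morphism
G → G, g ↦ gⁿ, is etale at the points of the unit section: there is an open U of G containing the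
unit section on which it is etale. -/
theorem result (k : Type u) [Field k] (G : Over (Spec (CommRingCat.of k))) [GrpObj G]
    [LocallyOfFiniteType G.hom] [QuasiCompact G.hom] (n : ℕ) (hn : (n : k) ≠ 0) :
    ∃ U : G.left.Opens, (∀ p : ↥(𝟙_ (Over (Spec (CommRingCat.of k)))).left, η[G].left.base p ∈ U) ∧
      Etale (U.ι ≫ ((𝟙 G : G ⟶ G) ^ n).left) := by
  obtain ⟨V, hxV, hV⟩ := Groth.Agent.Lib.Helper14.NthPow.exists_etale_nhd_unit G n hn
  refine ⟨V, ?_, hV⟩
  intro p
  haveI : Subsingleton ↥(𝟙_ (Over (Spec (CommRingCat.of k)))).left :=
    inferInstanceAs (Subsingleton (PrimeSpectrum k))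
  have h7 : η[G].left p = Groth.Agent.Lib.Helper14.NthPow.x0 G η[G] := by
    show η[G].left p = η[G].left (IsLocalRing.closedPoint (CommRingCat.of k))
    exact congrArg _ (Subsingleton.elim _ _)
  show η[G].left p ∈ V
  rw [h7]
  exact hxV

end Groth.Agent.S4111
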