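import Groth.Statements.S4130
import Mathlib
import Groth.Agent.Lib.Helper15.MultMax

set_option autoImplicit false
universe u
open TensorProduct
open SGA3

namespace Groth.Agent.S4130

/-- Let A be a finitely generated commutative and cocommutative Hopf algebra over a field k (a
commutative affine algebraic group G = Spec A). Then G has a largest subgroup M of multiplicative
type and G/M is unipotent: there is a Hopf ideal J of A (defining M) such that A/J is of
multiplicative type (diagonalizable after a faithfully flat extension of k), J is contained in every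
Hopf ideal I with A/I of multiplicative type, and J is the ideal generated by the augmentation ideal
of the image of an injective bialgebra map φ : B → A from a Hopf algebra B (so Spec B = G/M) which
is unipotent in the fixed-vector sense. -/
theorem result (k : Type u) [Field k]
    (A : Type u) [CommRing A] [HopfAlgebra k A] [Algebra.FiniteType k A] [Coalgebra.IsCocomm k A] :
    ∃ (J : Ideal A) (_ : J.IsHopfIdeal k), SGA3b.IsMultTypeConst k (A ⧸ J) ∧
      (∀ (I : Ideal A) [I.IsHopfIdeal k], SGA3b.IsMultTypeConst k (A ⧸ I) → J ≤ I) ∧
      ∃ (B : Type u) (_ : CommRing B) (_ : HopfAlgebra k B) (φ : B →ₐc[k] A), Function.Injective φ ∧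
        J = Ideal.map (φ : B →+* A) (RingHom.ker (Bialgebra.counitAlgHom k B)) ∧ HopfRep.IsUnipotent k B := by
  have hB := Groth.Agent.Lib.helper15.PfiltOps.isHopfSub_Punion (k := k) (A := A)
  have hI := Groth.Agent.Lib.helper15.Trig.isHopfIdeal_augIdeal hB
  refine ⟨Groth.Agent.Lib.helper15.Takeuchi.augIdeal (Groth.Agent.Lib.helper15.PfiltOps.Punion k A), hI,
    ?_, ?_, ?_⟩
  · exact Groth.Agent.Lib.helper15.MultMax.isMultTypeConst_quot_augIdeal_Punion
  · intro I _ hIm
    exact Groth.Agent.Lib.helper15.MultMax.augIdeal_Punion_le I hIm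
  · refine ⟨↥(Groth.Agent.Lib.helper15.PfiltOps.Punion k A), inferInstance,
      Groth.Agent.Lib.helper15.HopfSubalg.hopfAlgebraB hB,
      Groth.Agent.Lib.helper15.HopfSubalg.incl hB, ?_, ?_, ?_⟩
    · exact Subtype.val_injective
    · let _ := Groth.Agent.Lib.helper15.HopfSubalg.hopfAlgebraB hB
      have h1 := Groth.Agent.Lib.helper15.UnipExt.map_ker_counit_eq_augIdeal
        (Groth.Agent.Lib.helper15.HopfSubalg.incl hB)
      have h2 : ((Groth.Agent.Lib.helper15.HopfSubalg.incl hB :
          ↥(Groth.Agent.Lib.helper15.PfiltOps.Punion k A) →ₐc[k] A) :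
          ↥(Groth.Agent.Lib.helper15.PfiltOps.Punion k A) →ₐ[k] A).range =
          Groth.Agent.Lib.helper15.PfiltOps.Punion k A := by
        ext x
        constructor
        · rintro ⟨b, rfl⟩
          exact b.2
        · intro hx
          exact ⟨⟨x, hx⟩, rfl⟩
      rw [h2] at h1
      exact h1.symm
    · exact Groth.Agent.Lib.helper15.PfiltInj.isUnipotent_Punion

end Groth.Agent.S4130
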