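import Groth.Statements.S4135
import Mathlib
import Groth.Agent.Lib.Helper13.CMM3
import Groth.Agent.Lib.Helper13.CMM6
-- import your own Groth.Agent.* helpers here

set_option autoImplicit false
universe u
open TensorProduct
attribute [local instance] LieRing.ofAssociativeRing
open SGA3y

namespace Groth.Agent.S4135

/-- Let k be a field of characteristic zero and H a cocommutative bialgebra over k which is connected
(every nonzero subcoalgebra contains 1). Then the canonical algebra homomorphism from the universal
enveloping algebra of the Lie algebra of primitive elements of H to H is bijective. -/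
theorem result (k : Type u) [Field k] [CharZero k] (H : Type u) [Ring H]
    [Bialgebra k H] [Coalgebra.IsCocomm k H] (hconn : SGA3y.IsConnectedCoalg k H) :
    Function.Bijective (UniversalEnvelopingAlgebra.lift k (SGA3y.primLie k H).incl) := by
  classical
  constructor
  · -- injectivity
    let b := Module.Basis.ofVectorSpace k (SGA3y.primLie k H)
    let _ : LinearOrder (Module.Basis.ofVectorSpaceIndex k (SGA3y.primLie k H)) :=
      linearOrderOfSTO WellOrderingRel
    refine Groth.Agent.Lib.helper13.CMM.lift_injective b (SGA3y.primLie k H).incl ?_ ?_
    · intro x
      exact x.2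
    · exact Subtype.val_injective
  · -- surjectivity
    intro x
    have hx := Groth.Agent.Lib.helper13.CMM.generated_by_primitives (k := k) (H := H) hconn
      (UniversalEnvelopingAlgebra.lift k (SGA3y.primLie k H).incl).range
      (fun y hy => by
        have hy' : y ∈ SGA3y.primLie k H := hy
        refine ⟨UniversalEnvelopingAlgebra.ι k (⟨y, hy'⟩ : SGA3y.primLie k H), ?_⟩
        exact UniversalEnvelopingAlgebra.lift_ι_apply k (SGA3y.primLie k H).incl ⟨y, hy'⟩) x
    obtain ⟨u, hu⟩ := hx
    exact ⟨u, hu⟩

end Groth.Agent.S4135
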