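import Groth.Statements.S4183
import Groth.Agent.Lib.Helper26.AnPts
-- import your own Groth.Agent.* helpers here

set_option autoImplicit false
open CategoryTheory AlgebraicGeometry Topology TopologicalSpace
open An

namespace Groth.Agent.S4183

open Groth.Agent.Lib.helper26.AnPts in
lemma bijective_eval₂Hom (n : ℕ) :
    Function.Bijective (MvPolynomial.eval₂Hom (An.strHom (𝔸(Fin n; An.SC)))
      (AffineSpace.coord An.SC)) := by
  have e : (CommRingCat.ofHom (MvPolynomial.eval₂Hom (An.strHom (𝔸(Fin n; An.SC)))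
      (AffineSpace.coord An.SC)) : CommRingCat.of (MvPolynomial (Fin n) ℂ) ⟶ Γ(𝔸(Fin n; An.SC), ⊤)) =
      (Scheme.ΓSpecIso _).inv ≫ (AffineSpace.SpecIso (Fin n) (CommRingCat.of ℂ)).hom.appTop := by
    rw [AffineSpace.SpecIso_hom_appTop, Iso.inv_hom_id_assoc]
    rfl
  have hiso : IsIso (CommRingCat.ofHom (MvPolynomial.eval₂Hom (An.strHom (𝔸(Fin n; An.SC)))
      (AffineSpace.coord An.SC)) : CommRingCat.of (MvPolynomial (Fin n) ℂ) ⟶
        Γ(𝔸(Fin n; An.SC), ⊤)) := by
    rw [e]
    have : IsIso (AffineSpace.SpecIso (Fin n) (CommRingCat.of ℂ)).hom.appTop :=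
      inferInstanceAs (IsIso ((AffineSpace.SpecIso (Fin n) (CommRingCat.of ℂ)).hom.app ⊤))
    infer_instance
  exact ConcreteCategory.bijective_of_isIso
    (CommRingCat.ofHom (MvPolynomial.eval₂Hom (An.strHom (𝔸(Fin n; An.SC)))
      (AffineSpace.coord An.SC)) : CommRingCat.of (MvPolynomial (Fin n) ℂ) ⟶
        Γ(𝔸(Fin n; An.SC), ⊤))

/-- For affine n-space over ℂ, the map sending a ℂ-point to the values of the n coordinate functions is
a homeomorphism from its space of ℂ-points, with the complex topology of this problem, onto ℂ^n with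
its usual topology. -/
theorem result (n : ℕ) :
    IsHomeomorph (fun (x : An.Pts (𝔸(Fin n; An.SC))) (i : Fin n) => x.evTop (AffineSpace.coord An.SC i)) := by
  have hbij := bijective_eval₂Hom n
  have hce := Groth.Agent.Lib.helper26.AnPts.isClosedEmbedding_coordMap hbij.2
  rw [isHomeomorph_iff_isEmbedding_surjective]
  refine ⟨hce.isEmbedding, ?_⟩
  rw [← Set.range_eq_univ]
  change Set.range (Groth.Agent.Lib.helper26.AnPts.coordMap _) = _
  rw [Groth.Agent.Lib.helper26.AnPts.range_coordMap hbij.2]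
  ext z
  simp only [Set.mem_ofPred_eq, Set.mem_univ, iff_true]
  intro p hp
  have : p = 0 := hbij.1 (by rw [map_zero]; exact hp)
  rw [this, map_zero]

end Groth.Agent.S4183
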