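import Groth.Statements.S4191
import Groth.Agent.Lib.Helper26.AnConn10

set_option autoImplicit false
open CategoryTheory AlgebraicGeometry Topology TopologicalSpace
open An

namespace Groth.Agent.S4191

/-- Let X be a scheme locally of finite type over ℂ. Then X is connected (and nonempty) if and only if
X(ℂ) with the complex topology is connected (and nonempty). -/
theorem result (X : Scheme.{0}) [X.Over An.SC] [LocallyOfFiniteType (X ↘ An.SC)] :
    ConnectedSpace ↥X ↔ ConnectedSpace (An.Pts X) := by
  constructor
  · intro h
    have hne : Nonempty (An.Pts X) := by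
      obtain ⟨y, -⟩ := Groth.Agent.Lib.helper26.AnPts.nonempty_preimage_of_isClosed (X := X)
        Set.univ isClosed_univ Set.univ_nonempty
      exact ⟨y⟩
    have hpre : PreconnectedSpace (An.Pts X) := ⟨by
      have := Groth.Agent.Lib.helper26.AnPts.isPreconnected_preimage (X := X) Set.univ
        isClosed_univ isPreconnected_univ
      rwa [Set.preimage_univ] at this⟩
    exact { toNonempty := hne }
  · intro h
    have hne : Nonempty ↥X := ⟨(Classical.arbitrary (An.Pts X)).pt⟩
    have hJ : JacobsonSpace ↥X := LocallyOfFiniteType.jacobsonSpace (X ↘ An.SC)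
    have hpre : PreconnectedSpace ↥X := ⟨by
      have h1 : _root_.IsPreconnected (Set.range (An.Pts.pt : An.Pts X → X)) :=
        isPreconnected_range An.Pts.continuous_pt
      have h2 := h1.closure
      rwa [Groth.Agent.Lib.helper26.AnPts.range_pt, closure_closedPoints] at h2⟩
    exact { toNonempty := hne }

end Groth.Agent.S4191
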