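import Groth.Statements.S4192
import Groth.Agent.Lib.Helper26.AnConn10

set_option autoImplicit false
open CategoryTheory AlgebraicGeometry Topology TopologicalSpace
open An

namespace Groth.Agent.S4192

/-- For X locally of finite type over ℂ, the map π_0(X(ℂ)) → π_0(X) induced by the continuous map X(ℂ) →
X is bijective. -/
theorem result (X : Scheme.{0}) [X.Over An.SC] [LocallyOfFiniteType (X ↘ An.SC)] :
    Function.Bijective (An.Pts.continuous_pt (X := X)).connectedComponentsMap := by
  constructor
  · intro a b hab
    obtain ⟨x, rfl⟩ := ConnectedComponents.surjective_coe a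
    obtain ⟨y, rfl⟩ := ConnectedComponents.surjective_coe b
    have h1 : ((An.Pts.pt x : ↥X) : _root_.ConnectedComponents ↥X) = (An.Pts.pt y : ↥X) := hab
    rw [ConnectedComponents.coe_eq_coe'] at h1
    have h2 := Groth.Agent.Lib.helper26.AnPts.isPreconnected_preimage (X := X)
      (connectedComponent (An.Pts.pt y)) isClosed_connectedComponent
      isPreconnected_connectedComponent
    rw [ConnectedComponents.coe_eq_coe']
    have hy : y ∈ (An.Pts.pt ⁻¹' connectedComponent (An.Pts.pt y) : Set (An.Pts X)) :=
      mem_connectedComponent
    exact h2.subset_connectedComponent hy h1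
  · intro c
    obtain ⟨p, rfl⟩ := ConnectedComponents.surjective_coe c
    obtain ⟨y, hy⟩ := Groth.Agent.Lib.helper26.AnPts.nonempty_preimage_of_isClosed (X := X)
      (connectedComponent p) isClosed_connectedComponent ⟨p, mem_connectedComponent⟩
    refine ⟨(y : _root_.ConnectedComponents (An.Pts X)), ?_⟩
    change ((An.Pts.pt y : ↥X) : _root_.ConnectedComponents ↥X) = p
    rw [ConnectedComponents.coe_eq_coe']
    exact hy

end Groth.Agent.S4192
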