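import Groth.Statements.S4211
import Mathlib
-- import your own Groth.Agent.* helpers here

set_option autoImplicit false
universe u
open An

namespace Groth.Agent.S4211

open CategoryTheory TopologicalSpace Topology Opposite

lemma coverPreserving (T : Type u) [TopologicalSpace T] :
    CoverPreserving (Opens.grothendieckTopology T) (Cl.topology T) (opensToCl T) := by
  refine ⟨fun {U S} hS => ?_⟩
  intro a
  obtain ⟨V, f, hf, haV⟩ := hS a.1 a.2
  refine ⟨(opensToCl T).obj V, (opensToCl T).map f, Sieve.image_mem_functorPushforward _ _ hf, ?_,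
    ⟨⟨a.1, haV⟩, rfl⟩⟩
  change IsOpenEmbedding (Set.inclusion f.le)
  refine IsOpenEmbedding.inclusion f.le ?_
  exact V.2.preimage continuous_subtype_val

lemma compatiblePreserving (T : Type u) [TopologicalSpace T] :
    CompatiblePreserving.{u+1} (Cl.topology T) (opensToCl T) := by
  refine ⟨?_⟩
  intro ℱ Z P x hx Y₁ Y₂ X f₁ f₂ g₁ g₂ hg₁ hg₂ _
  -- the map into the intersection
  have h1 : ∀ a, (f₁.toFun a).1 = X.p a := fun a => f₁.over a
  have h2 : ∀ a, (f₂.toFun a).1 = X.p a := fun a => f₂.over a
  let W : Opens T := Y₁ ⊓ Y₂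
  let h : X ⟶ (opensToCl T).obj W :=
    ⟨fun a => ⟨X.p a, ⟨by rw [← h1 a]; exact (f₁.toFun a).2, by rw [← h2 a]; exact (f₂.toFun a).2⟩⟩,
      X.lh.continuous.subtype_mk _, fun _ => rfl⟩
  have e1 : f₁ = h ≫ (opensToCl T).map (homOfLE inf_le_left : W ⟶ Y₁) := by
    apply Cl.hom_ext
    funext a
    exact Subtype.ext (h1 a)
  have e2 : f₂ = h ≫ (opensToCl T).map (homOfLE inf_le_right : W ⟶ Y₂) := by
    apply Cl.hom_ext
    funext a
    exact Subtype.ext (h2 a)
  have key := hx (homOfLE inf_le_left : W ⟶ Y₁) (homOfLE inf_le_right : W ⟶ Y₂) hg₁ hg₂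
    (Subsingleton.elim _ _)
  rw [e1, e2, op_comp, op_comp, Functor.map_comp, Functor.map_comp]
  change ℱ.obj.map h.op (ℱ.obj.map ((opensToCl T).map _).op (x g₁ hg₁)) =
    ℱ.obj.map h.op (ℱ.obj.map ((opensToCl T).map _).op (x g₂ hg₂))
  congr 1

/-- For a topological space T, the inclusion of the opens of T into the site of local homeomorphisms
over T is continuous. This is the hypothesis An.OpCont carried by statements that restrict classical
sheaves to opens. -/
theorem result (T : Type u) [TopologicalSpace T] :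
    An.OpCont T := by
  exact Functor.isContinuous_of_coverPreserving (compatiblePreserving T) (coverPreserving T)

end Groth.Agent.S4211
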