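import Groth.Statements.S4212
import Groth.Agent.S4211
import Mathlib

set_option autoImplicit false
universe u
open An

namespace Groth.Agent.S4212

open CategoryTheory TopologicalSpace Topology Opposite

instance full (T : Type u) [TopologicalSpace T] : (opensToCl T).Full where
  map_surjective {U V} f := by
    have hle : U ≤ V := fun x hx => by
      have := f.over ⟨x, hx⟩
      change (f.toFun ⟨x, hx⟩).1 = x at this
      rw [← this]
      exact (f.toFun ⟨x, hx⟩).2
    refine ⟨homOfLE hle, ?_⟩
    apply Cl.hom_ext
    funext a
    exact Subtype.ext (f.over a).symm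

instance faithful (T : Type u) [TopologicalSpace T] : (opensToCl T).Faithful where
  map_injective _ := Subsingleton.elim _ _

instance coverDense (T : Type u) [TopologicalSpace T] :
    (opensToCl T).IsCoverDense (Cl.topology T) where
  is_cover A := by
    intro a
    obtain ⟨e, hae, hfe⟩ := A.lh a
    let U : Opens T := ⟨e.target, e.open_target⟩
    let g : (opensToCl T).obj U ⟶ A :=
      ⟨fun t => e.symm t.1,
        e.continuousOn_symm.comp_continuous continuous_subtype_val (fun t => t.2),
        fun t => by
          change A.p (e.symm t.1) = t.1
          rw [hfe]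
          exact e.right_inv t.2⟩
    refine ⟨_, g, Presieve.in_coverByImage _ g, ?_, ⟨⟨e a, e.map_source hae⟩, e.left_inv hae⟩⟩
    exact e.symm.isOpenEmbedding_restrict

lemma functorPushforward_mem_iff (T : Type u) [TopologicalSpace T] {U : Opens T}
    {S : Sieve U} :
    S.functorPushforward (opensToCl T) ∈ Cl.topology T ((opensToCl T).obj U) ↔
      S ∈ Opens.grothendieckTopology T U := by
  constructor
  · intro h x hx
    obtain ⟨B, g, ⟨V, k, l, hk, rfl⟩, -, ⟨b, hb⟩⟩ := h ⟨x, hx⟩
    refine ⟨V, k, hk, ?_⟩
    have : (l.toFun b).1 = x := congrArg Subtype.val hb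
    rw [← this]
    exact (l.toFun b).2
  · intro h
    exact (Groth.Agent.S4211.coverPreserving T).cover_preserve h

instance denseSubsite (T : Type u) [TopologicalSpace T] :
    (opensToCl T).IsDenseSubsite (Opens.grothendieckTopology T) (Cl.topology T) where
  functorPushforward_mem_iff := functorPushforward_mem_iff T

instance hasLimitsOfShape_structuredArrow (T : Type u) [TopologicalSpace T] (X : (Cl T)ᵒᵖ) :
    Limits.HasLimitsOfShape (StructuredArrow X (opensToCl T).op) AddCommGrpCat.{u + 1} := by
  have : Limits.HasLimitsOfSize.{u, u} AddCommGrpCat.{u + 1} :=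
    Limits.hasLimitsOfSizeShrink.{u, u, u + 1, u + 1} _
  infer_instance

/-- For a topological space T, the topos of the site of local homeomorphisms over T is equivalent to
that of T: restriction of abelian sheaves along the inclusion of the opens of T is an equivalence of
categories. -/
theorem result (T : Type u) [TopologicalSpace T] [An.OpCont T] :
    (An.resOpens T).IsEquivalence := by
  change ((opensToCl T).sheafPushforwardContinuous AddCommGrpCat.{u + 1}
    (Opens.grothendieckTopology T) (Cl.topology T)).IsEquivalence
  infer_instance

end Groth.Agent.S4212
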