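import Groth.Statements.S4243
import Mathlib

set_option autoImplicit false
open SGA4h

namespace Groth.Agent.S4243

/-- Let k be a finite field with q elements and P a nonzero homogeneous polynomial of degree d in r+1
variables over k. If P vanishes at every point of k^{r+1} (that is, the hypersurface P = 0 in
projective r-space passes through every rational point), then d ≥ q + 1. -/
theorem result (k : Type) [Field k] [Fintype k] (r d : ℕ)
    (P : MvPolynomial (Fin (r + 1)) k) (hP : P.IsHomogeneous d) (hP0 : P ≠ 0)
    (hvan : ∀ x : Fin (r + 1) → k, MvPolynomial.eval x P = 0) :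
    Fintype.card k + 1 ≤ d := by
  classical
  by_contra hlt
  have hq2 : 2 ≤ Fintype.card k := Fintype.one_lt_card
  have hdq : d ≤ Fintype.card k := by omega
  set q := Fintype.card k with hq
  set c : Fin (r + 1) → k := fun i => MvPolynomial.coeff (Finsupp.single i q) P with hc
  set S : MvPolynomial (Fin (r + 1)) k :=
    ∑ i, MvPolynomial.C (c i) * MvPolynomial.X i ^ q with hS
  set L : MvPolynomial (Fin (r + 1)) k := ∑ i, MvPolynomial.C (c i) * MvPolynomial.X i with hL
  -- coefficients of S and L
  have coeffS : ∀ m : Fin (r + 1) →₀ ℕ, MvPolynomial.coeff m S =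
      ∑ i, if Finsupp.single i q = m then c i else 0 := by
    intro m
    rw [hS, MvPolynomial.coeff_sum]
    refine Finset.sum_congr rfl fun i _ => ?_
    rw [MvPolynomial.coeff_C_mul, MvPolynomial.coeff_X_pow]
    split_ifs <;> simp
  have coeffL : ∀ m : Fin (r + 1) →₀ ℕ, MvPolynomial.coeff m L =
      ∑ i, if Finsupp.single i 1 = m then c i else 0 := by
    intro m
    rw [hL, MvPolynomial.coeff_sum]
    refine Finset.sum_congr rfl fun i _ => ?_
    rw [MvPolynomial.coeff_C_mul, MvPolynomial.coeff_X]
    split_ifs <;> simp
  have coeffS_single : ∀ j, MvPolynomial.coeff (Finsupp.single j q) S = c j := by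
    intro j
    rw [coeffS, Finset.sum_eq_single j]
    · simp
    · intro i _ hij
      rw [if_neg]
      intro h
      apply hij
      have hq0 : q ≠ 0 := by omega
      exact (Finsupp.single_left_injective hq0) h
    · simp
  -- evaluation
  have hev : ∀ x : Fin (r + 1) → k, MvPolynomial.eval x (P - S + L) = 0 := by
    intro x
    rw [map_add, map_sub, hvan x, hS, hL, map_sum, map_sum]
    have : ∀ i, MvPolynomial.eval x (MvPolynomial.C (c i) * MvPolynomial.X i ^ q) =
        MvPolynomial.eval x (MvPolynomial.C (c i) * MvPolynomial.X i) := by
      intro i
      simp only [map_mul, map_pow, MvPolynomial.eval_C, MvPolynomial.eval_X]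
      rw [hq, FiniteField.pow_card]
    simp_rw [this]
    ring
  -- degree restriction
  have hres : P - S + L ∈ MvPolynomial.restrictDegree (Fin (r + 1)) k (q - 1) := by
    rw [MvPolynomial.mem_restrictDegree]
    intro m hm j
    rw [MvPolynomial.mem_support_iff, MvPolynomial.coeff_add, MvPolynomial.coeff_sub] at hm
    by_cases hL0 : MvPolynomial.coeff m L = 0
    · rw [hL0, add_zero] at hm
      -- m is not of the form single i q
      have hne : ∀ i, Finsupp.single i q ≠ m := by
        intro i h
        apply hm
        rw [← h, coeffS_single]
        exact sub_self _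
      have hS0 : MvPolynomial.coeff m S = 0 := by
        rw [coeffS]
        exact Finset.sum_eq_zero fun i _ => if_neg (hne i)
      rw [hS0, sub_zero] at hm
      have hdeg : m.degree = d := by
        by_contra h
        exact hm (hP.coeff_eq_zero h)
      by_contra hj
      have hjq : q ≤ m j := by omega
      have hle : m j ≤ m.degree := by
        rw [Finsupp.degree_eq_sum]
        exact Finset.single_le_sum (f := fun i => m i) (fun _ _ => Nat.zero_le _)
          (Finset.mem_univ j)
      have hmj : m j = q := by omega
      apply hne j
      ext i
      by_cases hij : i = j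
      · subst hij
        simp [hmj]
      · rw [Finsupp.single_apply, if_neg (Ne.symm hij)]
        by_contra hi
        have hpos : 0 < m i := Nat.pos_of_ne_zero (Ne.symm hi)
        have h2 : m i + m j ≤ m.degree := by
          rw [Finsupp.degree_eq_sum]
          have := Finset.add_le_sum (f := fun i => m i) (fun _ _ => Nat.zero_le _)
            (Finset.mem_univ i) (Finset.mem_univ j) hij
          exact this
        omega
    · rw [coeffL] at hL0
      obtain ⟨i, -, hi⟩ := Finset.exists_ne_zero_of_sum_ne_zero hL0
      have hmi : Finsupp.single i 1 = m := by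
        by_contra h
        exact hi (if_neg h)
      rw [← hmi, Finsupp.single_apply]
      split_ifs <;> omega
  have hzero : P - S + L = 0 := MvPolynomial.eq_zero_of_eval_eq_zero (σ := Fin (r + 1)) (K := k) (P - S + L) hev hres
  -- all c i vanish
  have hc0 : ∀ i, c i = 0 := by
    intro i
    by_cases hdq' : d = q
    · have h1 := congrArg (MvPolynomial.coeff (Finsupp.single i 1)) hzero
      rw [MvPolynomial.coeff_add, MvPolynomial.coeff_sub, MvPolynomial.coeff_zero] at h1
      have hP1 : MvPolynomial.coeff (Finsupp.single i 1) P = 0 := by
        apply hP.coeff_eq_zero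
        rw [Finsupp.degree_single]
        omega
      have hS1 : MvPolynomial.coeff (Finsupp.single i 1) S = 0 := by
        rw [coeffS]
        refine Finset.sum_eq_zero fun j _ => if_neg ?_
        intro h
        have := congrArg Finsupp.degree h
        rw [Finsupp.degree_single, Finsupp.degree_single] at this
        omega
      have hL1 : MvPolynomial.coeff (Finsupp.single i 1) L = c i := by
        rw [coeffL, Finset.sum_eq_single i]
        · simp
        · intro j _ hji
          rw [if_neg]
          intro h
          exact hji ((Finsupp.single_left_injective one_ne_zero) h)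
        · simp
      rw [hP1, hS1, hL1, sub_zero, zero_add] at h1
      exact h1
    · apply hP.coeff_eq_zero
      rw [Finsupp.degree_single]
      exact fun h => hdq' h.symm
  apply hP0
  have hS0 : S = 0 := by
    rw [hS]
    exact Finset.sum_eq_zero fun i _ => by rw [hc0 i, map_zero, zero_mul]
  have hL0 : L = 0 := by
    rw [hL]
    exact Finset.sum_eq_zero fun i _ => by rw [hc0 i, map_zero, zero_mul]
  rw [hS0, hL0, sub_zero, add_zero] at hzero
  exact hzero

end Groth.Agent.S4243
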