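import Groth.Statements.S4285
import Groth.Agent.Lib.Helper20.BoundedX
import Groth.Agent.Lib.Lead.ProperFin2

set_option autoImplicit false
universe u
open CategoryTheory CategoryTheory.Limits AlgebraicGeometry
open Pic13

namespace Groth.Agent.S4285

/-- (iii) implies (i), over the base S = Spec k with k algebraically closed: let X ⊆ P^n_k be a closed
subscheme, m an integer and φ a polynomial. The family of coherent O_X-modules F which are m-regular
(H^q(X, F(m - q)) = 0 for q ≥ 1) and have Hilbert polynomial φ (χ(F(d)) = φ(d) for all integers d)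
is bounded. (The source allows a finite set of Hilbert polynomials and a projective X over a
Noetherian base with O_X(1) generated by global sections on the fibres.) -/
theorem result (k : Type u) [Field k] [IsAlgClosed k] (n : ℕ) (X : Scheme.{u}) [X.Over (Spec (CommRingCat.of k))]
    (i : X ⟶ CohB1.ProjSpace n k) [IsClosedImmersion i] (hi : i ≫ CohB1.ProjSpace.toSpec n k = X ↘ Spec (CommRingCat.of k))
    (m : ℤ) (φ : Polynomial ℚ) :
    Pic13.IsBounded k X (fun F : X.Modules => Coh.IsCoh F ∧ Pic13.IsMRegular k i F m ∧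
      ∀ d : ℤ, (FGA.eulerCharLE k X (Pic13.twistOn k i F d) n : ℚ) = φ.eval (d : ℚ)) := by
  classical
  haveI : Infinite k := IsAlgClosed.instInfinite
  haveI : IsProper (X ↘ Spec (CommRingCat.of k)) := by
    rw [← hi]
    infer_instance
  let N : ℕ := (φ.eval ((m : ℤ) : ℚ)).num.toNat
  let E' : X.Modules := SheafOfModules.free (ULift.{u} (Fin N))
  have hE' : Coh.IsCoh E' := Groth.Agent.Lib.Helper20.BoundedQuot.isCoh_free X N
  let Φ : Set (ℤ → ℤ) := {f | ∀ r : ℤ, ((f r : ℤ) : ℚ) = φ.eval (((m + r : ℤ)) : ℚ)}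
  have hΦ : Φ.Finite := by
    apply Set.Subsingleton.finite
    intro f hf g hg
    funext r
    exact_mod_cast (hf r).trans (hg r).symm
  obtain ⟨M₀, -, hgg⟩ := Groth.Agent.Lib.Helper20.BoundedPn.exists_uniform_gg i hi E' hE' Φ hΦ
  have hM : Coh.IsCoh (Pic13.twistOn k i E' M₀) :=
    Groth.Agent.Lib.Helper20.BoundedX.isCoh_twistOn k i hE' M₀
  have finSec : ∀ (G : X.Modules), Coh.IsCoh G → @Module.Finite k (G.val.obj (Opposite.op ⊤)) _ _
      (Groth.Agent.Lib.Helper18.HH.sectionsModuleOver k G) := by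
    intro G hG
    letI := Groth.Agent.Lib.Helper18.HH.sectionsModuleOver k G
    haveI := Groth.Agent.Lib.Lead.ProperFin.finite_HH_of_isProper k X G hG 0
    exact Module.Finite.equiv (Groth.Agent.Lib.Helper18.HH.equiv₀Over k G)
  obtain ⟨T, q, h1, h2, 𝓕, h𝓕, hfib⟩ := Groth.Agent.Lib.Helper20.BoundedQuot.exists_family_quot k
    (Pic13.twistOn k i E' M₀) hM (finSec _ hM)
    ((Scheme.Modules.pullback i).obj (Twist.twistProjSpace n k (-(m + M₀))))
    (Groth.Agent.Lib.Helper20.BoundedX.isInvertible_pullTwist k i _)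
  refine ⟨T, q, h1, h2, 𝓕, h𝓕, ?_⟩
  rintro F ⟨hF, hreg, hχ⟩
  haveI : F.IsQuasicoherent := hF.1
  have hF' : Coh.IsCoh (Pic13.twistOn k i F m) :=
    Groth.Agent.Lib.Helper20.BoundedX.isCoh_twistOn k i hF m
  haveI : (Pic13.twistOn k i F m).IsQuasicoherent := hF'.1
  have hpushF := Groth.Agent.Lib.Lead.ProjectiveCoh.isCoh_push i hF
  have hregP := Groth.Agent.Lib.helper20.PushReg.regular_push i hF hreg
  -- vanishing of the higher cohomology of `F(m)`
  have hvan : ∀ j : ℕ, 1 ≤ j → Subsingleton (Coh.HH X (Pic13.twistOn k i F m) j) := by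
    intro j hj
    rw [Groth.Agent.Lib.helper20.PushReg.subsingleton_twist_iff i F m j]
    have := Groth.Agent.Lib.helper20.CMReg.vanish_of_regular hpushF hregP (m + j) (by omega) j hj
    rwa [add_sub_cancel_right] at this
  -- `h⁰(F(m)) = N`
  have hN0 : Module.finrank k (Coh.HH X (Pic13.twistOn k i F m) 0) = N := by
    have h3 : FGA.eulerCharLE k X (Pic13.twistOn k i F m) n =
        (Module.finrank k (Coh.HH X (Pic13.twistOn k i F m) 0) : ℤ) := by
      unfold FGA.eulerCharLE
      rw [Finset.sum_eq_single 0]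
      · simp
      · intro j _ hj
        haveI := hvan j (Nat.one_le_iff_ne_zero.2 hj)
        rw [Module.finrank_zero_of_subsingleton]
        simp
      · intro h
        exact absurd (Finset.mem_range.2 (Nat.succ_pos n)) h
    have h4 := hχ m
    rw [h3] at h4
    change _ = (φ.eval ((m : ℤ) : ℚ)).num.toNat
    rw [← h4]
    simp
  -- `F(m)` is globally generated
  have hggF' : Curv2.IsGloballyGenerated (Pic13.twistOn k i F m) := by
    have h3 := Groth.Agent.Lib.helper20.CMGG.gg_of_regular hpushF hregP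
    obtain ⟨e⟩ := Groth.Agent.Lib.Lead.ProjectiveVan.nonempty_pushTwistIso i F m
    exact Groth.Agent.Lib.helper20.PushReg.gg_of_gg_push i _
      (Groth.Agent.Lib.helper20.CMGG.gg_of_iso e h3)
  have hNF' : @Module.finrank k ((Pic13.twistOn k i F m).val.obj (Opposite.op ⊤)) _ _
      (Groth.Agent.Lib.Helper18.HH.sectionsModuleOver k _) = N := by
    letI := Groth.Agent.Lib.Helper18.HH.sectionsModuleOver k (Pic13.twistOn k i F m)
    rw [← hN0]
    exact (LinearEquiv.finrank_eq
      (Groth.Agent.Lib.Helper18.HH.equiv₀Over k (Pic13.twistOn k i F m))).symm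
  obtain ⟨p, hp⟩ := Groth.Agent.Lib.Helper20.BoundedX.exists_epi_free k (Pic13.twistOn k i F m)
    hggF' N (finSec _ hF') hNF'
  -- the Hilbert function of `F(m)`
  have hf' : (fun r : ℤ => FGA.eulerCharLE k X
      (Pic13.twistOn k i (Pic13.twistOn k i F m) r) n) ∈ Φ := by
    intro r
    change ((FGA.eulerCharLE k X (Pic13.twistOn k i (Pic13.twistOn k i F m) r) n : ℤ) : ℚ) =
      φ.eval ((m + r : ℤ) : ℚ)
    rw [← hχ (m + r)]
    congr 1
    unfold FGA.eulerCharLE
    refine Finset.sum_congr rfl fun j _ => ?_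
    rw [Groth.Agent.Lib.helper20.PushReg.finrank_of_iso
      (Groth.Agent.Lib.Helper20.BoundedX.twistOnAdd k i F m r) j]
  have hgg1 := hgg (Pic13.twistOn k i F m) p hF' hp hf'
  let SX : ShortComplex X.Modules := ShortComplex.mk (kernel.ι p) p (kernel.condition p)
  have hSX : SX.ShortExact :=
    ShortComplex.ShortExact.mk' (ShortComplex.exact_of_f_is_kernel SX (kernelIsKernel p))
      (inferInstanceAs (Mono (kernel.ι p))) hp
  have hS := Groth.Agent.Lib.Helper20.BoundedX.shortExact_twistOnSC k i M₀ hSX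
  obtain ⟨t, ht, ⟨ψ⟩⟩ := hfib _ hS (Iso.refl _) hgg1
  exact ⟨t, ht, ⟨ψ ≪≫
    Groth.Agent.Lib.Helper20.BoundedX.twistOnAdd k i (Pic13.twistOn k i F m) M₀ (-(m + M₀)) ≪≫
    Groth.Agent.Lib.Helper20.BoundedX.twistOnAdd k i F m (M₀ + -(m + M₀)) ≪≫
    Groth.Agent.Lib.Helper20.BoundedX.twistOnCongr k i F (by ring) ≪≫
    Groth.Agent.Lib.Helper20.BoundedX.twistOnZero k i F⟩⟩

end Groth.Agent.S4285
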