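import Groth.Statements.S4307
import Mathlib
import Groth.Agent.S4183
-- import your own Groth.Agent.* helpers here

set_option autoImplicit false
open CategoryTheory AlgebraicGeometry Topology TopologicalSpace
open An

namespace Groth.Agent.S4307

section helpers
open Groth.Agent.Lib.helper26.AnPts

/-- coordinate homeomorphism -/
noncomputable def e (n : ℕ) : An.Pts (𝔸(Fin n; An.SC)) ≃ₜ (Fin n → ℂ) :=
  (Groth.Agent.S4183.result n).homeomorph

lemma e_apply (n : ℕ) (x : An.Pts (𝔸(Fin n; An.SC))) :
    e n x = fun i => x.evTop (AffineSpace.coord An.SC i) := rfl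

lemma differentiable_eval (n : ℕ) (p : MvPolynomial (Fin n) ℂ) :
    Differentiable ℂ (fun z : Fin n → ℂ => MvPolynomial.eval z p) := by
  induction p using MvPolynomial.induction_on with
  | C a => simp
  | add p q hp hq =>
    simp only [map_add]
    exact hp.fun_add hq
  | mul_X p i hp =>
    simp only [map_mul, MvPolynomial.eval_X]
    exact hp.fun_mul (differentiable_apply i)

lemma differentiableAt_ev {n : ℕ} (W : (𝔸(Fin n; An.SC)).Opens) (s : Γ(𝔸(Fin n; An.SC), W))
    (x : An.Pts (𝔸(Fin n; An.SC))) (hx : x.pt ∈ W) :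
    ∃ F : (Fin n → ℂ) → ℂ, DifferentiableAt ℂ F (e n x) ∧
      ∀ᶠ y in 𝓝 x, ∀ hy : y.pt ∈ W, y.ev W hy s = F (e n y) := by
  have hbij := Groth.Agent.S4183.bijective_eval₂Hom n
  obtain ⟨g0, a, k, hgU, hpg, heq⟩ := exists_local_fraction W s x.pt hx
  obtain ⟨Pg, rfl⟩ := hbij.2 g0
  obtain ⟨Pa, rfl⟩ := hbij.2 a
  refine ⟨fun z => MvPolynomial.eval z Pa * (MvPolynomial.eval z Pg ^ k)⁻¹, ?_, ?_⟩
  · have h2 := (pt_mem_basicOpen_top_iff x _).mp hpg
    rw [evTop_eval₂] at h2
    have h3 : DifferentiableAt ℂ (fun z : Fin n → ℂ => MvPolynomial.eval z Pg ^ k) (e n x) :=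
      ((differentiable_eval n Pg).differentiableAt).fun_pow k
    have h4 : DifferentiableAt ℂ (fun z : Fin n → ℂ => (MvPolynomial.eval z Pg ^ k)⁻¹) (e n x) :=
      h3.fun_inv (pow_ne_zero k h2)
    exact ((differentiable_eval n Pa).differentiableAt).fun_mul h4
  · have hopen := An.Pts.isOpen_preimage_pt ((𝔸(Fin n; An.SC)).basicOpen
      (MvPolynomial.eval₂Hom (An.strHom (𝔸(Fin n; An.SC))) (AffineSpace.coord An.SC) Pg))
    filter_upwards [hopen.mem_nhds hpg] with y hy hyW
    have := ev_eq_div_of_local_fraction W s _ _ k hgU heq y hy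
    rw [evTop_eval₂, evTop_eval₂, div_eq_mul_inv] at this
    exact this

open scoped Classical in
noncomputable def extend {n : ℕ} (V : Opens (An.Pts (𝔸(Fin n; An.SC)))) (f : V → ℂ) :
    (Fin n → ℂ) → ℂ :=
  fun z => if h : (e n).symm z ∈ V then f ⟨(e n).symm z, h⟩ else 0

lemma extend_apply {n : ℕ} (V : Opens (An.Pts (𝔸(Fin n; An.SC)))) (f : V → ℂ) (x : V) :
    extend V f (e n x) = f x := by
  unfold extend
  have : (e n).symm (e n x) = x := (e n).symm_apply_apply _
  rw [dif_pos (by rw [this]; exact x.2)]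
  congr 1
  exact Subtype.ext this

lemma extend_of_mem {n : ℕ} (V : Opens (An.Pts (𝔸(Fin n; An.SC)))) (f : V → ℂ) (z : Fin n → ℂ)
    (hz : (e n).symm z ∈ V) : extend V f z = f ⟨(e n).symm z, hz⟩ := dif_pos hz

lemma eventually_mem {n : ℕ} (V : Opens (An.Pts (𝔸(Fin n; An.SC)))) (x : V) :
    ∀ᶠ z in 𝓝 (e n x), (e n).symm z ∈ V := by
  have h1 : Filter.Tendsto (e n).symm (𝓝 (e n x)) (𝓝 x.1) := by
    have := (e n).symm.continuous.continuousAt (x := e n x)
    rwa [ContinuousAt, (e n).symm_apply_apply] at this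
  exact h1.eventually (V.2.mem_nhds x.2)

lemma chartAlg_diff {n : ℕ} (V : Opens (An.Pts (𝔸(Fin n; An.SC)))) (f : V → ℂ)
    (hf : f ∈ An.chartAlg V) (x : V) :
    DifferentiableAt ℂ (extend V f) (e n x) := by
  have h1 : Filter.Tendsto (e n).symm (𝓝 (e n x)) (𝓝 x.1) := by
    have := (e n).symm.continuous.continuousAt (x := e n x)
    rwa [ContinuousAt, (e n).symm_apply_apply] at this
  unfold An.chartAlg at hf
  induction hf using Algebra.adjoin_induction with
  | mem f hf =>
    obtain ⟨W, hW, m, s, V', G', hV', hG', h⟩ := hf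
    choose F hF1 hF2 using fun j => differentiableAt_ev W (s j) x.1 (hW x)
    have hev : extend V f =ᶠ[𝓝 (e n x)] fun z => G' (fun j => F j z) := by
      have h3 : ∀ᶠ z in 𝓝 (e n x), ∀ j, ∀ hy : ((e n).symm z).pt ∈ W,
          ((e n).symm z).ev W hy (s j) = F j (e n ((e n).symm z)) := by
        rw [Filter.eventually_all]
        intro j
        exact h1.eventually (hF2 j)
      filter_upwards [eventually_mem V x, h3] with z hz hz3
      unfold extend
      rw [dif_pos hz]
      refine ((h ⟨_, hz⟩).2).trans ?_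
      congr 1
      funext j
      rw [hz3 j, (e n).apply_symm_apply]
    refine DifferentiableAt.congr_of_eventuallyEq ?_ hev
    have hpt : (fun j => F j (e n x)) ∈ V' := by
      have := (h x).1
      convert this using 1
      funext j
      have := (hF2 j).self_of_nhds (hW x)
      exact this.symm
    have hG'' : DifferentiableAt ℂ G' (fun j => F j (e n x)) :=
      hG'.differentiableAt (hV'.mem_nhds hpt)
    exact DifferentiableAt.comp (e n x) (g := G') (f := fun z j => F j z) hG''
      (differentiableAt_pi.2 hF1)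
  | algebraMap c =>
    have hev : extend V (algebraMap ℂ (V → ℂ) c) =ᶠ[𝓝 (e n x)] fun _ => c := by
      filter_upwards [eventually_mem V x] with z hz
      unfold extend
      rw [dif_pos hz]
      rfl
    exact (differentiableAt_const c).congr_of_eventuallyEq hev
  | add f g _ _ hf hg =>
    refine (hf.add hg).congr_of_eventuallyEq (Filter.Eventually.of_forall fun z => ?_)
    change extend V (f + g) z = extend V f z + extend V g z
    unfold extend
    by_cases hz : (e n).symm z ∈ V
    · simp [hz]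
    · simp [hz]
  | mul f g _ _ hf hg =>
    refine (hf.mul hg).congr_of_eventuallyEq (Filter.Eventually.of_forall fun z => ?_)
    change extend V (f * g) z = extend V f z * extend V g z
    unfold extend
    by_cases hz : (e n).symm z ∈ V
    · simp [hz]
    · simp [hz]

theorem main (n : ℕ) (U : TopologicalSpace.Opens (An.Pts (𝔸(Fin n; An.SC))))
    (g : U → ℂ) :
    (An.holPred (𝔸(Fin n; An.SC))).pred g ↔
      ∃ G : (Fin n → ℂ) → ℂ,
        DifferentiableOn ℂ G ((fun (x : An.Pts (𝔸(Fin n; An.SC))) (i : Fin n) =>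
          x.evTop (AffineSpace.coord An.SC i)) '' (U : Set (An.Pts (𝔸(Fin n; An.SC))))) ∧
        ∀ x : U, g x = G (fun i => (x : An.Pts (𝔸(Fin n; An.SC))).evTop (AffineSpace.coord An.SC i)) := by
  constructor
  · intro hg
    refine ⟨extend U g, ?_, fun x => (extend_apply U g x).symm⟩
    rintro _ ⟨x, hx, rfl⟩
    obtain ⟨V, hxV, i, hV⟩ := hg ⟨x, hx⟩
    change DifferentiableWithinAt ℂ (extend U g) _ (e n x)
    refine DifferentiableAt.differentiableWithinAt ?_
    have h1 := chartAlg_diff V _ hV ⟨x, hxV⟩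
    refine h1.congr_of_eventuallyEq ?_
    filter_upwards [eventually_mem V ⟨x, hxV⟩] with z hz
    rw [extend_of_mem U g z (i.le hz), extend_of_mem V _ z hz]
    rfl
  · rintro ⟨G, hG, hg⟩
    refine An.holPred_of_chartAlg (Algebra.subset_adjoin ?_)
    refine ⟨⊤, fun _ => trivial, n, AffineSpace.coord An.SC, _, G, ?_, hG, ?_⟩
    · exact (e n).isOpenMap _ U.2
    · intro x
      exact ⟨⟨x.1, x.2, rfl⟩, hg x⟩
end helpers

/-- A sanity check of the definition of holomorphic functions: for an open set U of complex points of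
affine n-space over ℂ and g : U → ℂ, g is holomorphic (satisfies the local predicate An.holPred of
the prelude) if and only if g = G ∘ (coordinates) for some G : ℂ^n → ℂ complex-differentiable on the
image of U in ℂ^n. -/
theorem result (n : ℕ) (U : TopologicalSpace.Opens (An.Pts (𝔸(Fin n; An.SC))))
    (g : U → ℂ) :
    (An.holPred (𝔸(Fin n; An.SC))).pred g ↔
      ∃ G : (Fin n → ℂ) → ℂ,
        DifferentiableOn ℂ G ((fun (x : An.Pts (𝔸(Fin n; An.SC))) (i : Fin n) =>
          x.evTop (AffineSpace.coord An.SC i)) '' (U : Set (An.Pts (𝔸(Fin n; An.SC))))) ∧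
        ∀ x : U, g x = G (fun i => (x : An.Pts (𝔸(Fin n; An.SC))).evTop (AffineSpace.coord An.SC i)) := by
  exact main n U g

end Groth.Agent.S4307
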