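import Groth.Statements.S4329
import Groth.Agent.Lib.Helper25.EtKInj

set_option autoImplicit false
universe u
open CategoryTheory CategoryTheory.Limits AlgebraicGeometry Opposite
attribute [local instance] HasDerivedCategory.standard
open EtSix

namespace Groth.Agent.S4329

/-- Composition of derived direct images: for the small etale sites of schemes and abelian sheaves: let
f : X -> Y and g : Y -> Z be morphisms of schemes and assume the unbounded derived direct images
Rf_*, Rg_* and R(g ∘ f)_* exist (they do; the existence is recorded as instance hypotheses). Then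
the canonical morphism R(g ∘ f)_* -> Rg_* ∘ Rf_* of functors D(X_et) -> D(Z_et), induced by (g ∘
f)_* ≅ g_* ∘ f_* through the universal property of R(g ∘ f)_* as a right derived functor, is an
isomorphism. -/
theorem result {X Y Z : Scheme.{u}} (f : X ⟶ Y) (g : Y ⟶ Z)
    [DCoh.HasRpushEt X f] [DCoh.HasRpushEt Y g] [DCoh.HasRpushEt X (f ≫ g)] :
    IsIso (EtSix.compMap f g) := by
  unfold EtSix.compMap
  apply Groth.Agent.Lib.Helper25.EtKInj.isIso_rightDerivedDesc (Groth.Agent.Lib.Helper25.EtKInj.hKinj X)
  intro I hI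
  haveI := Groth.Agent.Lib.Helper25.EtKInj.isKInjective_push f I
  haveI : (DCoh.RpushEt X f).IsLeftKanExtension ((DCoh.pushEtKh X f).totalRightDerivedUnit
      DerivedCategory.Qh (HomotopyCategory.quasiIso (EtCoh.Ab X) (ComplexShape.up ℤ))) :=
    Functor.IsRightDerivedFunctor.isLeftKanExtension _ _
      (HomotopyCategory.quasiIso (EtCoh.Ab X) (ComplexShape.up ℤ))
  haveI : (DCoh.RpushEt Y g).IsLeftKanExtension ((DCoh.pushEtKh Y g).totalRightDerivedUnit
      DerivedCategory.Qh (HomotopyCategory.quasiIso (EtCoh.Ab Y) (ComplexShape.up ℤ))) :=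
    Functor.IsRightDerivedFunctor.isLeftKanExtension _ _
      (HomotopyCategory.quasiIso (EtCoh.Ab Y) (ComplexShape.up ℤ))
  haveI h1 : IsIso (((DCoh.pushEtKh X f).totalRightDerivedUnit
      DerivedCategory.Qh (HomotopyCategory.quasiIso (EtCoh.Ab X) (ComplexShape.up ℤ))).app
      ((HomotopyCategory.quotient _ _).obj I)) :=
    Groth.Agent.Lib.Helper25.DerBC.isIso_unit_app_of_isKInjective (Groth.Agent.Lib.Helper25.EtKInj.hKinj X) _ _ _ I
  haveI h2 : IsIso (((DCoh.pushEtKh Y g).totalRightDerivedUnit
      DerivedCategory.Qh (HomotopyCategory.quasiIso (EtCoh.Ab Y) (ComplexShape.up ℤ))).app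
      (((EtCoh.push f).mapHomotopyCategory (ComplexShape.up ℤ)).obj
        ((HomotopyCategory.quotient _ _).obj I))) :=
    Groth.Agent.Lib.Helper25.DerBC.isIso_unit_app_of_isKInjective (Groth.Agent.Lib.Helper25.EtKInj.hKinj Y) _ _ _
      (((EtCoh.push f).mapHomologicalComplex (ComplexShape.up ℤ)).obj I)
  haveI h3 : IsIso ((NatTrans.mapHomotopyCategory (EtCoh.pushComp g f).inv (ComplexShape.up ℤ)).app
      ((HomotopyCategory.quotient _ _).obj I)) := by
    refine ⟨(NatTrans.mapHomotopyCategory (EtCoh.pushComp g f).hom (ComplexShape.up ℤ)).app _, ?_, ?_⟩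
    · rw [← NatTrans.comp_app, ← NatTrans.mapHomotopyCategory_comp, Iso.inv_hom_id,
        NatTrans.mapHomotopyCategory_id, NatTrans.id_app]
    · rw [← NatTrans.comp_app, ← NatTrans.mapHomotopyCategory_comp, Iso.hom_inv_id,
        NatTrans.mapHomotopyCategory_id, NatTrans.id_app]
  dsimp only [EtSix.compUnit, NatTrans.comp_app, Functor.whiskerRight_app, Functor.whiskerLeft_app,
    Functor.associator_hom_app, Functor.associator_inv_app]
  infer_instance

end Groth.Agent.S4329
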