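import Groth.Statements.S4332
import Groth.Agent.Lib.Helper1.ExtCompare
import Groth.Agent.Lib.Helper1.ModAbVanish

set_option autoImplicit false
universe u
open CategoryTheory CategoryTheory.Limits AlgebraicGeometry Opposite
attribute [local instance] HasDerivedCategory.standard
open EtSix

namespace Groth.Agent.S4332

open Groth.Agent.H1

variable (Λ : Type (u + 1)) [CommRing Λ] {X : Scheme.{u}}

/-- the bijection `Hom_Λ(Λ, N) ≃ Hom(ℤ, N)` on the relevant homs -/
noncomputable def beta (F : EtModW.Mod Λ X) :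
    (ModuleCat.of Λ Λ ⟶ (gsecMod Λ X).obj F) →
      (AddCommGrpCat.of (ULift.{u + 1} ℤ) ⟶ (EtCore.gsec X).obj ((EtModD.forgetToAb Λ X).obj F)) :=
  fun g => AddCommGrpCat.ofHom
    ((zmultiplesHom ↥(((EtModD.forgetToAb Λ X).obj F).obj.obj (op (EtCoh.top X))) (g.hom (1 : Λ))).comp
      (AddEquiv.ulift (α := ℤ)).toAddMonoidHom)

lemma beta_apply (F : EtModW.Mod Λ X) (g : ModuleCat.of Λ Λ ⟶ (gsecMod Λ X).obj F)
    (z : ULift.{u + 1} ℤ) :
    (beta Λ F g).hom z = z.down • (show ↥(((EtModD.forgetToAb Λ X).obj F).obj.obj (op (EtCoh.top X)))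
      from g.hom (1 : Λ)) := rfl

lemma beta_bijective (F : EtModW.Mod Λ X) : Function.Bijective (beta Λ F) := by
  constructor
  · intro g g' h
    apply ModuleCat.hom_ext
    apply LinearMap.ext_ring
    have h1 := congrArg (fun t => t.hom (ULift.up (1 : ℤ))) h
    dsimp only at h1
    rw [beta_apply, beta_apply, one_smul, one_smul] at h1
    exact h1
  · intro h
    refine ⟨ModuleCat.ofHom (LinearMap.toSpanSingleton Λ _ (h.hom (ULift.up (1 : ℤ)))), ?_⟩
    apply AddCommGrpCat.hom_ext
    apply AddMonoidHom.ext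
    intro z
    rw [beta_apply]
    have h2 : z = z.down • ULift.up (1 : ℤ) := by
      apply ULift.ext; simp
    conv_rhs => rw [h2, map_zsmul]
    congr 1
    exact one_smul Λ (show ↥((gsecMod Λ X).obj F) from h.hom (ULift.up (1 : ℤ)))


lemma oneSection_comp (F : EtModW.Mod Λ X) (φ : constΛ Λ X ⟶ F) :
    oneSection Λ X ≫ (EtCore.gsec X).map ((EtModD.forgetToAb Λ X).map φ) =
      beta Λ F ((constModAdj Λ X).homEquiv _ _ φ) := by
  apply AddCommGrpCat.hom_ext
  apply AddMonoidHom.ext
  intro z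
  rw [beta_apply, Adjunction.homEquiv_unit]
  show ((EtCore.gsec X).map ((EtModD.forgetToAb Λ X).map φ)).hom
    ((oneSection Λ X).hom z) = _
  have h1 : (oneSection Λ X).hom z = z.down •
      (show ↥(((EtModD.forgetToAb Λ X).obj (constΛ Λ X)).obj.obj (op (EtCoh.top X))) from
        ((constModAdj Λ X).unit.app (ModuleCat.of Λ Λ)).hom (1 : Λ)) := rfl
  rw [h1, map_zsmul]
  rfl

/-- `φ ↦ ι ≫ U φ` is bijective -/
lemma psi_bijective [(EtModD.forgetToAb Λ X).Additive] (F : EtModW.Mod Λ X) :
    Function.Bijective (fun φ : constΛ Λ X ⟶ F =>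
      intToConstΛ Λ X ≫ (EtModD.forgetToAb Λ X).map φ) := by
  have h : (fun φ : constΛ Λ X ⟶ F => intToConstΛ Λ X ≫ (EtModD.forgetToAb Λ X).map φ) =
      ((EtCore.constAdj X).homEquiv _ _).symm ∘ beta Λ F ∘ ((constModAdj Λ X).homEquiv _ _) := by
    funext φ
    dsimp only [Function.comp_apply]
    rw [← oneSection_comp, Adjunction.homEquiv_naturality_right_symm]
    rfl
  rw [h]
  exact (Equiv.bijective _).comp ((beta_bijective Λ F).comp (Equiv.bijective _))


open CategoryTheory.Abelian in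
theorem main [PreservesFiniteLimits (EtModD.forgetToAb Λ X)]
    [PreservesFiniteColimits (EtModD.forgetToAb Λ X)]
    [(EtModD.forgetToAb Λ X).Additive] (F : EtModW.Mod Λ X) (n : ℕ) :
    Function.Bijective (EtSix.HModToH Λ F n) := by
  have h0 : ∀ G : EtModW.Mod Λ X, Function.Bijective
      (ExtCompare.cmp.{u + 1, u + 1} (EtModD.forgetToAb Λ X) (intToConstΛ Λ X) G 0) := by
    intro G
    have hc : ∀ φ : constΛ Λ X ⟶ G,
        ExtCompare.cmp.{u + 1, u + 1} (EtModD.forgetToAb Λ X) (intToConstΛ Λ X) G 0 (Ext.mk₀ φ) =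
          Ext.mk₀ (intToConstΛ Λ X ≫ (EtModD.forgetToAb Λ X).map φ) := by
      intro φ
      rw [ExtCompare.cmp_apply, Ext.mapExactFunctor_mk₀, Ext.mk₀_comp_mk₀]
    constructor
    · intro x y hxy
      obtain ⟨a, rfl⟩ := (Ext.mk₀_bijective _ _).2 x
      obtain ⟨b, rfl⟩ := (Ext.mk₀_bijective _ _).2 y
      rw [hc, hc] at hxy
      have h1 := (Ext.mk₀_bijective _ _).1 hxy
      rw [(psi_bijective Λ G).1 h1]
    · intro y
      obtain ⟨b, rfl⟩ := (Ext.mk₀_bijective _ _).2 y
      obtain ⟨a, ha⟩ := (psi_bijective Λ G).2 b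
      exact ⟨Ext.mk₀ a, by rw [hc]; exact congrArg _ ha⟩
  have hv : ∀ (I : EtModW.Mod Λ X), Injective I → ∀ (n : ℕ)
      (x : Ext.{u + 1} ((constantSheaf X.smallEtaleTopology AddCommGrpCat.{u + 1}).obj
        (AddCommGrpCat.of (ULift.{u + 1} ℤ))) ((EtModD.forgetToAb Λ X).obj I) (n + 1)), x = 0 := by
    intro I hI n x
    haveI := hI
    haveI : IsAddTorsionFree (AddCommGrpCat.of (ULift.{u + 1} ℤ)) :=
      Function.Injective.isAddTorsionFree (AddEquiv.ulift (α := ℤ)).toAddMonoidHom
        (AddEquiv.ulift (α := ℤ)).injective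
    exact ModAbVanish.ext_forget_injective_eq_zero Λ I _ (ModAbVanish.tf_constantSheaf _) n x
  exact ExtCompare.cmp_bijective (EtModD.forgetToAb Λ X) (intToConstΛ Λ X) h0 hv n F

/-- Cohomology of a sheaf of modules agrees with that of its underlying abelian sheaf: for the constant
sheaf of rings Λ on the small etale site of a scheme X, through the canonical map: for every sheaf F
of Λ-modules and every n, the map Ext^n(Λ_X, F) -> Ext^n(Z_X, F_ab) = H^n(X, F_ab) obtained by
applying the forgetful functor to an Ext class (computed in sheaves of Λ-modules) and precomposing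
with Z_X -> Λ_X, 1 ↦ 1, is bijective. The exactness and additivity of the forgetful functor, which
hold, are recorded as instance hypotheses. -/
theorem result (Λ : Type (u + 1)) [CommRing Λ] {X : Scheme.{u}}
    [PreservesFiniteLimits (EtModD.forgetToAb Λ X)] [PreservesFiniteColimits (EtModD.forgetToAb Λ X)]
    [(EtModD.forgetToAb Λ X).Additive] (F : EtModW.Mod Λ X) (n : ℕ) :
    Function.Bijective (EtSix.HModToH Λ F n) := by
  exact main Λ F n

end Groth.Agent.S4332
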