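import Groth.Statements.S4337
import Groth.Agent.Lib.Helper7.LinTopAdm
import Mathlib.RingTheory.Nakayama
import Mathlib.LinearAlgebra.TensorProduct.Quotient
import Mathlib.LinearAlgebra.TensorProduct.RightExactness

set_option autoImplicit false
universe u
open LinTop

namespace Groth.Agent.S4337

/-- Let A be an admissible ring, J an ideal of definition, and u : M -> N a homomorphism of A-modules
with N of finite type. Then u is surjective if and only if u tensored with A/J is surjective. -/
theorem result
    (A : Type u) [CommRing A] [UniformSpace A] [IsUniformAddGroup A] [IsTopologicalRing A]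
    (hA : LinTop.IsAdmissible A) (J : Ideal A) (hJ : LinTop.IsIdealOfDefinition A J)
    (M N : Type u) [AddCommGroup M] [Module A M] [AddCommGroup N] [Module A N] [Module.Finite A N]
    (u : M →ₗ[A] N) :
    Function.Surjective u ↔ Function.Surjective (u.rTensor (A ⧸ J)) := by
  refine ⟨fun h => LinearMap.rTensor_surjective _ h, fun h => ?_⟩
  refine LinearMap.surjective_of_surjective_comp_mkQ u J
    (Groth.Agent.Lib.helper7.idealOfDefinition_le_jacobson_bot hA hJ) ?_
  intro y
  obtain ⟨n, rfl⟩ := Submodule.mkQ_surjective _ y
  obtain ⟨t, ht⟩ := h (n ⊗ₜ[A] (1 : A ⧸ J))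
  have key : ∀ t : TensorProduct A M (A ⧸ J),
      TensorProduct.tensorQuotEquivQuotSMul N J (u.rTensor (A ⧸ J) t) ∈
        LinearMap.range ((J • (⊤ : Submodule A N)).mkQ ∘ₗ u) := by
    intro t
    induction t using TensorProduct.induction_on with
    | zero => simp
    | tmul m a =>
      obtain ⟨a, rfl⟩ := Ideal.Quotient.mk_surjective a
      refine ⟨a • m, ?_⟩
      simp
    | add x y hx hy =>
      rw [map_add, map_add]
      exact Submodule.add_mem _ hx hy
  have h2 := key t
  rw [ht] at h2
  obtain ⟨m, hm⟩ := h2
  refine ⟨m, ?_⟩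
  rw [hm, ← map_one (Ideal.Quotient.mk J), TensorProduct.tensorQuotEquivQuotSMul_tmul_mk]
  simp

end Groth.Agent.S4337
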