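import Groth.Statements.S4344


set_option autoImplicit false
universe u
open RatMapD

namespace Groth.Agent.S4344

open AlgebraicGeometry in
open CategoryTheory in
/-- Let X be a reduced S-scheme, Y an S-scheme separated over S and f an S-rational map from X to Y.
There is a representative g of f which is an S-morphism and of which every S-morphism representing f
is a restriction; in particular g is the unique S-morphism of the class of f defined on the largest
open where some S-representative is defined. (The published statement speaks of the domain of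
definition among all representatives; over a base that is not separated that domain can be larger
than the one on which an S-representative exists, and this row takes the latter.) -/
theorem result
    (S X Y : Scheme.{u}) [X.Over S] [Y.Over S] [IsReduced X] [IsSeparated (Y ↘ S)]
    (f : X ⤏ Y) [f.IsOver S] :
    ∃ g : X.PartialMap Y, g.IsOver S ∧ g.toRationalMap = f ∧
      ∀ h : X.PartialMap Y, h.IsOver S → h.toRationalMap = f →
        ∃ hle : h.domain ≤ g.domain, h = g.restrict h.domain h.dense_domain hle := by
  classical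
  obtain ⟨g₀, hg₀S, hg₀f⟩ := Scheme.RationalMap.exists_partialMap_over S f
  let I := { h : X.PartialMap Y // h.IsOver S ∧ h.toRationalMap = f }
  let dom : I → X.Opens := fun i => i.1.domain
  let D : X.Opens := ⨆ i : I, dom i
  have hD : Dense (D : Set X) :=
    g₀.dense_domain.mono (le_iSup dom ⟨g₀, hg₀S, hg₀f⟩)
  let 𝒰 := Scheme.Opens.iSupOpenCover dom
  have compat : ∀ i j : I, Limits.pullback.fst (𝒰.f i) (𝒰.f j) ≫ i.1.hom =
      Limits.pullback.snd (𝒰.f i) (𝒰.f j) ≫ j.1.hom := by
    intro i j
    have : i.1.IsOver S := i.2.1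
    have : j.1.IsOver S := j.2.1
    refine (cancel_epi (isPullback_opens_inf_le (le_iSup dom i) (le_iSup dom j)).isoPullback.hom).mp ?_
    simp only [𝒰, Scheme.Opens.iSupOpenCover, IsPullback.isoPullback_hom_fst_assoc,
      IsPullback.isoPullback_hom_snd_assoc]
    have := (Scheme.PartialMap.equiv_iff_of_isSeparated (S := S) (f := i.1) (g := j.1)).mp
      (by rw [← Scheme.PartialMap.toRationalMap_eq_iff, i.2.2, j.2.2])
    exact this
  let gh : D.toScheme ⟶ Y := 𝒰.glueMorphisms (fun i => i.1.hom) compat
  have hgh : ∀ i : I, X.homOfLE (le_iSup dom i) ≫ gh = i.1.hom :=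
    fun i => 𝒰.ι_glueMorphisms _ _ i
  refine ⟨⟨D, hD, gh⟩, ?_, ?_, ?_⟩
  · constructor
    apply 𝒰.hom_ext
    intro i
    have : i.1.IsOver S := i.2.1
    change X.homOfLE (le_iSup dom i) ≫ gh ≫ (Y ↘ S) = X.homOfLE (le_iSup dom i) ≫ (D.toScheme ↘ S)
    rw [← Category.assoc, hgh i]
    rw [comp_over i.1.hom S, comp_over (X.homOfLE (le_iSup dom i)) S]
  · rw [← hg₀f, Scheme.PartialMap.toRationalMap_eq_iff]
    refine ⟨g₀.domain, g₀.dense_domain, le_iSup dom ⟨g₀, hg₀S, hg₀f⟩, le_rfl, ?_⟩
    simp [hgh ⟨g₀, hg₀S, hg₀f⟩]
  · intro h hS hf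
    refine ⟨le_iSup dom ⟨h, hS, hf⟩, ?_⟩
    ext1
    · simp
    · simp only [Scheme.PartialMap.restrict_hom, hgh ⟨h, hS, hf⟩]
      have : (X.isoOfEq (rfl : h.domain = h.domain)).hom ≫ h.hom = h.hom := by
        rw [Scheme.isoOfEq_rfl, Iso.refl_hom, Category.id_comp]
      exact this.symm

end Groth.Agent.S4344
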