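import Groth.Statements.S4345
import Groth.Agent.Lib.Helper7.LocalSubringOfPrime

set_option autoImplicit false
universe u
open SchLoc

namespace Groth.Agent.S4345

open IsLocalRing Groth.Agent.Lib.helper7

variable {K : Type u} [Field K]

theorem ofPrime_congr (A : Subring K) {P P' : Ideal A} [hP : P.IsPrime] [hP' : P'.IsPrime]
    (h : P = P') : LocalSubring.ofPrime A P = LocalSubring.ofPrime A P' := by
  subst h
  rfl

/-- contraction of the maximal ideal of a local subring to a subring -/
noncomputable abbrev ctr (Q : LocalSubring K) {A : Subring K} (hA : A ≤ Q.toSubring) : Ideal A :=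
  (maximalIdeal Q.toSubring).comap (Subring.inclusion hA)

theorem ctr_ctr (Q : LocalSubring K) {A C : Subring K} (hAC : A ≤ C) (hC : C ≤ Q.toSubring) :
    (ctr Q hC).comap (Subring.inclusion hAC) = ctr Q (hAC.trans hC) := by
  unfold ctr
  rw [Ideal.comap_comap]
  rfl

theorem ofPrime_ctr_le (Q : LocalSubring K) {A : Subring K} (hA : A ≤ Q.toSubring) :
    LocalSubring.ofPrime A (ctr Q hA) ≤ Q :=
  (ofPrime_le_iff A _ Q).mpr ⟨hA, rfl⟩

theorem ctr_ofPrime (C : Subring K) (r : Ideal C) [r.IsPrime] :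
    ctr (LocalSubring.ofPrime C r) (LocalSubring.le_ofPrime C r) = r :=
  comap_maximalIdeal_ofPrime C r

/-- `L(A) ∩ L(B) ⊆ L(A ⊔ B)` always: if `Q = A_p` contains `C ⊇ A` then `Q = C_r`. -/
theorem ofPrime_eq_of_le (A C : Subring K) (hAC : A ≤ C) (p : Ideal A) [p.IsPrime]
    (hC : C ≤ (LocalSubring.ofPrime A p).toSubring) :
    LocalSubring.ofPrime C (ctr (LocalSubring.ofPrime A p) hC) = LocalSubring.ofPrime A p := by
  apply le_antisymm (ofPrime_ctr_le _ hC)
  rw [ofPrime_le_iff]
  refine ⟨hAC.trans (LocalSubring.le_ofPrime C _), ?_⟩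
  have h1 := ctr_ctr (LocalSubring.ofPrime C (ctr (LocalSubring.ofPrime A p) hC)) hAC
    (LocalSubring.le_ofPrime C _)
  unfold ctr at h1
  rw [← h1, comap_maximalIdeal_ofPrime]
  have h2 := ctr_ctr (LocalSubring.ofPrime A p) hAC hC
  unfold ctr at h2
  rw [h2]
  exact comap_maximalIdeal_ofPrime A p

/-- the contraction of the maximal ideal of `C_r` to `A ≤ C` is `r ∩ A` -/
theorem ctr_ofPrime_of_le (A C : Subring K) (hAC : A ≤ C) (r : Ideal C) [r.IsPrime]
    (h : A ≤ (LocalSubring.ofPrime C r).toSubring) :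
    ctr (LocalSubring.ofPrime C r) h = r.comap (Subring.inclusion hAC) := by
  have h1 := ctr_ctr (LocalSubring.ofPrime C r) hAC (LocalSubring.le_ofPrime C r)
  rw [ctr_ofPrime] at h1
  exact h1.symm

/-- `A_{r ∩ A} ≤ C_r` -/
theorem ofPrime_comap_le (A C : Subring K) (hAC : A ≤ C) (r : Ideal C) [r.IsPrime] :
    LocalSubring.ofPrime A (r.comap (Subring.inclusion hAC)) ≤ LocalSubring.ofPrime C r := by
  rw [ofPrime_le_iff]
  exact ⟨hAC.trans (LocalSubring.le_ofPrime C r), ctr_ofPrime_of_le A C hAC r _⟩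

/-- If `A_{r ∩ A}` contains `C` then it equals `C_r`. -/
theorem ofPrime_comap_eq (A C : Subring K) (hAC : A ≤ C) (r : Ideal C) [r.IsPrime]
    (hC : C ≤ (LocalSubring.ofPrime A (r.comap (Subring.inclusion hAC))).toSubring) :
    LocalSubring.ofPrime A (r.comap (Subring.inclusion hAC)) = LocalSubring.ofPrime C r := by
  have hle := ofPrime_comap_le A C hAC r
  apply le_antisymm hle
  rw [ofPrime_le_iff]
  refine ⟨hC, ?_⟩
  have := comap_maximalIdeal_eq_of_le hle hC
  rw [← this]
  exact comap_maximalIdeal_ofPrime C r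

/-- Let A and B be subrings of a field R, C the subring generated by A and B, and for a subring E let
L(E) be the set of local subrings E_p of R, p a prime ideal of E. The following are equivalent: (i)
for every local subring Q of R containing A and B, the localizations of A and of B at the traces of
the maximal ideal of Q coincide; (ii) for every prime ideal r of C the localizations of A and B at
the traces of r coincide; (iii) two members of L(A) and L(B) dominated by a common local subring of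
R are equal; (iv) the intersection of L(A) and L(B) is L(C). -/
theorem result
    (R : Type u) [Field R] (A B : Subring R) :
    [ ∀ (Q : LocalSubring R) (hA : A ≤ Q.toSubring) (hB : B ≤ Q.toSubring),
        LocalSubring.ofPrime A ((IsLocalRing.maximalIdeal Q.toSubring).comap (Subring.inclusion hA)) =
          LocalSubring.ofPrime B ((IsLocalRing.maximalIdeal Q.toSubring).comap (Subring.inclusion hB)),
      ∀ r : PrimeSpectrum ↥(A ⊔ B),
        LocalSubring.ofPrime A (r.asIdeal.comap (Subring.inclusion (le_sup_left : A ≤ A ⊔ B))) =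
          LocalSubring.ofPrime B (r.asIdeal.comap (Subring.inclusion (le_sup_right : B ≤ A ⊔ B))),
      ∀ (p : PrimeSpectrum A) (q : PrimeSpectrum B),
        (∃ Q : LocalSubring R, LocalSubring.ofPrime A p.asIdeal ≤ Q ∧ LocalSubring.ofPrime B q.asIdeal ≤ Q) →
          LocalSubring.ofPrime A p.asIdeal = LocalSubring.ofPrime B q.asIdeal,
      Set.range (fun p : PrimeSpectrum A ↦ LocalSubring.ofPrime A p.asIdeal) ∩
          Set.range (fun q : PrimeSpectrum B ↦ LocalSubring.ofPrime B q.asIdeal) =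
        Set.range (fun r : PrimeSpectrum ↥(A ⊔ B) ↦ LocalSubring.ofPrime (A ⊔ B) r.asIdeal) ].TFAE := by
  have hAC : A ≤ A ⊔ B := le_sup_left
  have hBC : B ≤ A ⊔ B := le_sup_right
  tfae_have 1 → 2 := by
    intro h r
    have hA : A ≤ (LocalSubring.ofPrime (A ⊔ B) r.asIdeal).toSubring :=
      hAC.trans (LocalSubring.le_ofPrime _ _)
    have hB : B ≤ (LocalSubring.ofPrime (A ⊔ B) r.asIdeal).toSubring :=
      hBC.trans (LocalSubring.le_ofPrime _ _)
    have := h (LocalSubring.ofPrime (A ⊔ B) r.asIdeal) hA hB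
    rw [ofPrime_congr A (ctr_ofPrime_of_le A (A ⊔ B) hAC r.asIdeal hA),
      ofPrime_congr B (ctr_ofPrime_of_le B (A ⊔ B) hBC r.asIdeal hB)] at this
    exact this
  tfae_have 2 → 1 := by
    intro h Q hA hB
    have hC : A ⊔ B ≤ Q.toSubring := sup_le hA hB
    have := h ⟨ctr Q hC, inferInstance⟩
    rw [ofPrime_congr A (ctr_ctr Q hAC hC), ofPrime_congr B (ctr_ctr Q hBC hC)] at this
    exact this
  tfae_have 1 → 3 := by
    rintro h p q ⟨Q, hp, hq⟩
    obtain ⟨hA, hp'⟩ := (ofPrime_le_iff A p.asIdeal Q).mp hp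
    obtain ⟨hB, hq'⟩ := (ofPrime_le_iff B q.asIdeal Q).mp hq
    have := h Q hA hB
    rw [ofPrime_congr A hp', ofPrime_congr B hq'] at this
    exact this
  tfae_have 3 → 1 := by
    intro h Q hA hB
    exact h ⟨ctr Q hA, inferInstance⟩ ⟨ctr Q hB, inferInstance⟩
      ⟨Q, ofPrime_ctr_le Q hA, ofPrime_ctr_le Q hB⟩
  tfae_have 2 → 4 := by
    intro h
    apply Set.eq_of_subset_of_subset
    · rintro _ ⟨⟨p, rfl⟩, ⟨q, hq⟩⟩
      simp only at hq
      have hC : A ⊔ B ≤ (LocalSubring.ofPrime A p.asIdeal).toSubring := by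
        refine sup_le (LocalSubring.le_ofPrime A _) ?_
        rw [← hq]
        exact LocalSubring.le_ofPrime B _
      exact ⟨⟨ctr (LocalSubring.ofPrime A p.asIdeal) hC, inferInstance⟩,
        ofPrime_eq_of_le A (A ⊔ B) hAC p.asIdeal hC⟩
    · rintro _ ⟨r, rfl⟩
      have hr := h r
      have hC : A ⊔ B ≤ (LocalSubring.ofPrime A
          (r.asIdeal.comap (Subring.inclusion hAC))).toSubring := by
        refine sup_le (LocalSubring.le_ofPrime A _) ?_
        rw [hr]
        exact LocalSubring.le_ofPrime B _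
      have h1 := ofPrime_comap_eq A (A ⊔ B) hAC r.asIdeal hC
      refine ⟨⟨⟨r.asIdeal.comap (Subring.inclusion hAC), inferInstance⟩, h1⟩,
        ⟨⟨r.asIdeal.comap (Subring.inclusion hBC), inferInstance⟩, ?_⟩⟩
      simp only
      rw [← hr]
      exact h1
  tfae_have 4 → 2 := by
    intro h r
    have hmem : LocalSubring.ofPrime (A ⊔ B) r.asIdeal ∈
        Set.range (fun r : PrimeSpectrum ↥(A ⊔ B) ↦ LocalSubring.ofPrime (A ⊔ B) r.asIdeal) :=
      ⟨r, rfl⟩
    rw [← h] at hmem
    obtain ⟨⟨p, hp⟩, ⟨q, hq⟩⟩ := hmem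
    simp only at hp hq
    obtain ⟨hA, hp'⟩ := (ofPrime_le_iff A p.asIdeal _).mp hp.le
    obtain ⟨hB, hq'⟩ := (ofPrime_le_iff B q.asIdeal _).mp hq.le
    have e1 : r.asIdeal.comap (Subring.inclusion hAC) = p.asIdeal := by
      rw [← hp']
      exact (ctr_ofPrime_of_le A (A ⊔ B) hAC r.asIdeal hA).symm
    have e2 : r.asIdeal.comap (Subring.inclusion hBC) = q.asIdeal := by
      rw [← hq']
      exact (ctr_ofPrime_of_le B (A ⊔ B) hBC r.asIdeal hB).symm
    rw [ofPrime_congr A e1, ofPrime_congr B e2, hp, hq]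
  tfae_finish

end Groth.Agent.S4345
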