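import Groth.Statements.S4346


set_option autoImplicit false
universe u
open SchLoc

namespace Groth.Agent.S4346

open AlgebraicGeometry CategoryTheory in
theorem key (X : Scheme.{u}) [IsIntegral X] [X.IsSeparated] (x y : X)
    (h : (algebraMap (X.presheaf.stalk x) X.functionField).range ≤
      (algebraMap (X.presheaf.stalk y) X.functionField).range) : y ⤳ x := by
  set ix := algebraMap (X.presheaf.stalk x) X.functionField with hix
  set iy := algebraMap (X.presheaf.stalk y) X.functionField with hiy
  have hinjy : Function.Injective iy := IsFractionRing.injective _ _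
  have hinjx : Function.Injective ix := IsFractionRing.injective _ _
  let e : X.presheaf.stalk y ≃+* iy.range :=
    RingEquiv.ofBijective iy.rangeRestrict
      ⟨fun a b hab => hinjy (congrArg Subtype.val hab), iy.rangeRestrict_surjective⟩
  let φ : X.presheaf.stalk x →+* X.presheaf.stalk y :=
    (e.symm : iy.range →+* X.presheaf.stalk y).comp
      (ix.codRestrict iy.range (fun a => h ⟨a, rfl⟩))
  have hφ : iy.comp φ = ix := by
    ext a
    have h1 : iy.rangeRestrict (e.symm (ix.codRestrict iy.range (fun a => h ⟨a, rfl⟩) a)) =
        ix.codRestrict iy.range (fun a => h ⟨a, rfl⟩) a := e.apply_symm_apply _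
    exact congrArg Subtype.val h1
  have hgx : genericPoint X ⤳ x := (genericPoint_spec X).specializes trivial
  have hgy : genericPoint X ⤳ y := (genericPoint_spec X).specializes trivial
  have hix' : ix = (X.presheaf.stalkSpecializes hgx).hom := rfl
  have hiy' : iy = (X.presheaf.stalkSpecializes hgy).hom := rfl
  -- the two morphisms Spec O_y ⟶ X
  have heq : Spec.map (CommRingCat.ofHom φ) ≫ X.fromSpecStalk x = X.fromSpecStalk y := by
    have : IsDominant (Spec.map (X.presheaf.stalkSpecializes hgy)) := by
      constructor
      have := (PrimeSpectrum.denseRange_comap_iff_ker_le_nilRadical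
        (f := (X.presheaf.stalkSpecializes hgy).hom)).mpr (by
          rw [(RingHom.injective_iff_ker_eq_bot _).mp (hiy' ▸ hinjy)]
          exact bot_le)
      exact this
    apply ext_of_isDominant (Spec.map (X.presheaf.stalkSpecializes hgy))
    rw [Scheme.SpecMap_stalkSpecializes_fromSpecStalk, ← Category.assoc, ← Spec.map_comp]
    have : CommRingCat.ofHom φ ≫ X.presheaf.stalkSpecializes hgy =
        X.presheaf.stalkSpecializes hgx := by
      ext a
      exact congrArg (fun f => f a) hφ
    rw [this, Scheme.SpecMap_stalkSpecializes_fromSpecStalk]
  have h2 : y ∈ Set.range (X.fromSpecStalk x) := by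
    refine ⟨Spec.map (CommRingCat.ofHom φ) (IsLocalRing.closedPoint _), ?_⟩
    rw [← Scheme.Hom.comp_apply, heq, Scheme.fromSpecStalk_closedPoint]
  rw [Scheme.range_fromSpecStalk] at h2
  exact h2

open AlgebraicGeometry in
/-- On an integral separated scheme distinct points have distinct local rings inside the function field. -/
theorem result (X : Scheme.{u}) [IsIntegral X] [X.IsSeparated] :
    Function.Injective (fun x : X ↦ (algebraMap (X.presheaf.stalk x) X.functionField).range) := by
  intro x y hxy
  simp only at hxy
  exact ((key X x y hxy.le).antisymm (key X y x hxy.ge)).eq.symm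

end Groth.Agent.S4346
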