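import Groth.Statements.S4349
import Mathlib.CategoryTheory.Limits.ConcreteCategory.Basic
import Mathlib.Algebra.Category.Ring.FilteredColimits
import Mathlib.AlgebraicGeometry.Properties

set_option autoImplicit false
universe u
open RatFun

namespace Groth.Agent.S4349

open AlgebraicGeometry CategoryTheory TopologicalSpace in
instance isCofiltered_denseOpens (X : Scheme.{u}) :
    IsCofiltered (RatFun.IsDenseOpen X).FullSubcategory where
  cone_objs U V := ⟨⟨U.obj ⊓ V.obj, U.property.inter_of_isOpen_left V.property U.obj.2⟩,
    ObjectProperty.homMk (homOfLE inf_le_left), ObjectProperty.homMk (homOfLE inf_le_right), trivial⟩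
  cone_maps U V f g := ⟨U, 𝟙 U, by
    congr 1
    apply ObjectProperty.hom_ext
    exact Subsingleton.elim _ _⟩
  nonempty := ⟨⟨⊤, by simp [RatFun.IsDenseOpen]⟩⟩

open AlgebraicGeometry in
/-- Second assertion (in the form: sections over a dense open inject into the ring of rational
functions). Let X be a reduced scheme and V a dense open subset of X. The canonical map from the
sections of O_X over V to the ring R(X) of rational functions on X is injective. (The published
statement also assumes X locally integral or locally Noetherian; that hypothesis serves the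
quasi-coherence of the sheaf of rational functions and is not needed here.) -/
theorem result (X : Scheme.{u}) [IsReduced X]
    (V : X.Opens) (hV : Dense (V : Set X)) :
    Function.Injective (RatFun.toRing X V hV) := by
  rw [injective_iff_map_eq_zero]
  intro s hs
  have h0 : RatFun.toRing X V hV s = RatFun.toRing X V hV 0 := by rw [hs, map_zero]
  obtain ⟨k, f, g, hfg⟩ := CategoryTheory.Limits.Concrete.colimit_exists_of_rep_eq
    (RatFun.sectionsOnDense X) (i := Opposite.op ⟨V, hV⟩) (j := Opposite.op ⟨V, hV⟩) s 0 h0
  rw [map_zero] at hfg
  -- `s` restricted to the dense open `W` is zero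
  obtain ⟨W, hW⟩ := k
  have hWV : W ≤ V := f.unop.hom.le
  have hres : X.presheaf.map (CategoryTheory.homOfLE hWV).op s = 0 := hfg
  apply AlgebraicGeometry.eq_zero_of_basicOpen_eq_bot
  by_contra hne
  obtain ⟨x, hx⟩ : ((X.basicOpen s : X.Opens) : Set X).Nonempty := by
    rw [Set.nonempty_iff_ne_empty]
    intro h
    apply hne
    ext1
    simpa using h
  obtain ⟨y, hy1, hy2⟩ := hW.inter_open_nonempty _ (X.basicOpen s).2 ⟨x, hx⟩
  have h1 : y ∈ X.basicOpen (X.presheaf.map (CategoryTheory.homOfLE hWV).op s) := by
    rw [AlgebraicGeometry.Scheme.basicOpen_res]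
    exact ⟨hy2, hy1⟩
  rw [hres, AlgebraicGeometry.Scheme.basicOpen_zero] at h1
  exact h1

end Groth.Agent.S4349
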