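import Groth.Statements.S4350
import Mathlib
import Groth.Agent.Lib.Helper25.StalkSky
import Groth.Agent.Lib.Helper25.StalkPull
import Groth.Agent.Lib.Lead.TorsPure

set_option autoImplicit false
universe u
open TorSh

namespace Groth.Agent.S4350

open AlgebraicGeometry CategoryTheory Opposite TopologicalSpace

variable {X : Scheme.{u}} [IsIntegral X]

/-- the module of rational functions -/
noncomputable abbrev ratMod (X : Scheme.{u}) [IsIntegral X] : X.Modules :=
  (Scheme.Modules.pushforward (X.fromSpecStalk (genericPoint X))).obj
    (Coh.structureModule (Spec (X.presheaf.stalk (genericPoint X))))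

example (U : X.Opens) : (Γ(ratMod X, U) : Type u) =
    Γ(Spec (X.presheaf.stalk (genericPoint X)), (X.fromSpecStalk (genericPoint X)) ⁻¹ᵁ U) := rfl

/-- constants on opens of `Spec K` -/
noncomputable def cst (W : (Spec (X.presheaf.stalk (genericPoint X))).Opens) :
    X.presheaf.stalk (genericPoint X) →+* Γ(Spec (X.presheaf.stalk (genericPoint X)), W) :=
  ((Scheme.ΓSpecIso (X.presheaf.stalk (genericPoint X))).inv ≫
    (Spec (X.presheaf.stalk (genericPoint X))).presheaf.map (homOfLE le_top).op).hom

theorem cst_res {W W' : (Spec (X.presheaf.stalk (genericPoint X))).Opens} (h : W' ≤ W)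
    (c : X.presheaf.stalk (genericPoint X)) :
    (Spec (X.presheaf.stalk (genericPoint X))).presheaf.map (homOfLE h).op (cst W c) = cst W' c := by
  unfold cst
  simp only [CommRingCat.hom_comp, RingHom.coe_comp, Function.comp_apply]
  rw [← CommRingCat.comp_apply, ← Functor.map_comp]
  rfl

theorem app_eq_cst (U : X.Opens) (h : genericPoint X ∈ U) (r : Γ(X, U)) :
    (X.fromSpecStalk (genericPoint X)).app U r =
      cst ((X.fromSpecStalk (genericPoint X)) ⁻¹ᵁ U) (X.presheaf.germ U (genericPoint X) h r) := by
  rw [Scheme.fromSpecStalk_app h]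
  rfl

/-- every point of `Spec K` maps to the generic point -/
theorem fromSpecStalk_apply_eq (y : Spec (X.presheaf.stalk (genericPoint X))) :
    (X.fromSpecStalk (genericPoint X)) y = genericPoint X := by
  have h1 : (X.fromSpecStalk (genericPoint X)) y ∈ Set.range (X.fromSpecStalk (genericPoint X)) :=
    ⟨y, rfl⟩
  rw [Scheme.range_fromSpecStalk] at h1
  exact ((genericPoint_specializes _).antisymm h1).symm.eq

theorem preimage_eq_bot (U : X.Opens) (h : genericPoint X ∉ U) :
    (X.fromSpecStalk (genericPoint X)) ⁻¹ᵁ U = ⊥ := by
  ext y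
  simp only [Opens.coe_bot, Set.mem_empty_iff_false, iff_false]
  change ¬ (X.fromSpecStalk (genericPoint X)) y ∈ U
  rw [fromSpecStalk_apply_eq y]
  exact h

theorem preimage_eq_top (U : X.Opens) (h : genericPoint X ∈ U) :
    (X.fromSpecStalk (genericPoint X)) ⁻¹ᵁ U = ⊤ := by
  ext y
  simp only [Opens.coe_top, Set.mem_univ, iff_true]
  change (X.fromSpecStalk (genericPoint X)) y ∈ U
  rw [fromSpecStalk_apply_eq y]
  exact h

theorem subsingleton_sections (U : X.Opens) (h : genericPoint X ∉ U) :
    Subsingleton Γ(Spec (X.presheaf.stalk (genericPoint X)), (X.fromSpecStalk (genericPoint X)) ⁻¹ᵁ U) := by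
  rw [preimage_eq_bot U h]
  infer_instance

theorem cst_injective (U : X.Opens) (h : genericPoint X ∈ U) :
    Function.Injective (cst (X := X) ((X.fromSpecStalk (genericPoint X)) ⁻¹ᵁ U)) := by
  have h1 : (X.fromSpecStalk (genericPoint X)) ⁻¹ᵁ U = ⊤ := preimage_eq_top U h
  intro a b hab
  have h2 : cst (X := X) ⊤ a = cst ⊤ b := by
    have e1 := cst_res (X := X) (le_of_eq h1.symm) a
    have e2 := cst_res (X := X) (le_of_eq h1.symm) b
    rw [← e1, ← e2, hab]
  unfold cst at h2
  simp only [CommRingCat.hom_comp, RingHom.coe_comp, Function.comp_apply] at h2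
  have h3 : Function.Injective ((Spec (X.presheaf.stalk (genericPoint X))).presheaf.map
      (homOfLE (le_top : (⊤ : (Spec (X.presheaf.stalk (genericPoint X))).Opens) ≤ ⊤)).op).hom := by
    have : (homOfLE (le_top : (⊤ : (Spec (X.presheaf.stalk (genericPoint X))).Opens) ≤ ⊤)) = 𝟙 _ := rfl
    rw [this, op_id, CategoryTheory.Functor.map_id]
    exact Function.injective_id
  have h4 := h3 h2
  exact (ConcreteCategory.bijective_of_isIso (Scheme.ΓSpecIso (X.presheaf.stalk (genericPoint X))).inv).1 h4

section germ0

variable (F : X.Modules)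

open Classical in
/-- the germ at the generic point, or zero on the empty open -/
noncomputable def germ0 (U : X.Opens) : Γ(F, U) →+ F.presheaf.stalk (genericPoint X) :=
  if h : genericPoint X ∈ U then (F.presheaf.germ U (genericPoint X) h).hom else 0

theorem germ0_of_mem (U : X.Opens) (h : genericPoint X ∈ U) (s : Γ(F, U)) :
    germ0 F U s = F.presheaf.germ U (genericPoint X) h s := by
  unfold germ0
  rw [dif_pos h]

theorem germ0_res {U V : X.Opens} (i : V ≤ U) (h : genericPoint X ∈ V) (s : Γ(F, U)) :
    germ0 F V (F.presheaf.map (homOfLE i).op s) = germ0 F U s := by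
  rw [germ0_of_mem F V h, germ0_of_mem F U (i h)]
  exact TopCat.Presheaf.germ_res_apply F.presheaf (homOfLE i) (genericPoint X) h s

end germ0

section toRat

variable (F : X.Modules)
  (ε : F.presheaf.stalk (genericPoint X) →ₗ[X.presheaf.stalk (genericPoint X)]
    X.presheaf.stalk (genericPoint X))

/-- the value of the map on sections -/
noncomputable def toRatFun (U : X.Opens) : Γ(F, U) →+ Γ(ratMod X, U) :=
  (cst (X := X) ((X.fromSpecStalk (genericPoint X)) ⁻¹ᵁ U)).toAddMonoidHom.comp
    (ε.toAddMonoidHom.comp (germ0 F U))

theorem toRatFun_apply (U : X.Opens) (s : Γ(F, U)) :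
    toRatFun F ε U s = cst (X := X) ((X.fromSpecStalk (genericPoint X)) ⁻¹ᵁ U) (ε (germ0 F U s)) := rfl

/-- the map on underlying presheaves -/
noncomputable def toRatAb : F.presheaf ⟶ (ratMod X).presheaf where
  app U := AddCommGrpCat.ofHom (toRatFun F ε U.unop)
  naturality U V i := by
    ext s
    change toRatFun F ε V.unop (F.presheaf.map i s) =
      (ratMod X).presheaf.map i (toRatFun F ε U.unop s)
    symm
    by_cases h : genericPoint X ∈ V.unop
    · have hi : V.unop ≤ U.unop := leOfHom i.unop
      have e1 : (ratMod X).presheaf.map i (toRatFun F ε U.unop s) =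
          cst (X := X) ((X.fromSpecStalk (genericPoint X)) ⁻¹ᵁ V.unop) (ε (germ0 F U.unop s)) :=
        cst_res (X := X) ((X.fromSpecStalk (genericPoint X)).preimage_mono hi) _
      rw [e1, toRatFun_apply]
      have e2 : germ0 F V.unop (F.presheaf.map i s) = germ0 F U.unop s := germ0_res F hi h s
      rw [e2]
    · haveI := subsingleton_sections V.unop h
      exact Subsingleton.elim (α := Γ(Spec (X.presheaf.stalk (genericPoint X)),
        (X.fromSpecStalk (genericPoint X)) ⁻¹ᵁ V.unop)) _ _

/-- the morphism to the module of rational functions attached to a linear form on the generic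
stalk -/
noncomputable def toRat : F ⟶ ratMod X :=
  ⟨PresheafOfModules.homMk (toRatAb F ε) (by
    intro U r m
    change toRatFun F ε U.unop (r • m) =
      (X.fromSpecStalk (genericPoint X)).app U.unop r *
        (show Γ(Spec (X.presheaf.stalk (genericPoint X)),
          (X.fromSpecStalk (genericPoint X)) ⁻¹ᵁ U.unop) from toRatFun F ε U.unop m)
    by_cases h : genericPoint X ∈ U.unop
    · rw [toRatFun_apply, toRatFun_apply, germ0_of_mem F _ h, germ0_of_mem F _ h]
      have e1 : F.presheaf.germ U.unop (genericPoint X) h (r • m) =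
          X.presheaf.germ U.unop (genericPoint X) h r • F.presheaf.germ U.unop (genericPoint X) h m :=
        Groth.Agent.Lib.Helper25.StalkSky.germ_smul' (genericPoint X) F U.unop h r m
      rw [e1, map_smul, smul_eq_mul, map_mul, app_eq_cst _ h]
    · haveI := subsingleton_sections U.unop h
      exact Subsingleton.elim (α := Γ(Spec (X.presheaf.stalk (genericPoint X)),
        (X.fromSpecStalk (genericPoint X)) ⁻¹ᵁ U.unop)) _ _)⟩

theorem toRat_app_apply (U : X.Opens) (s : Γ(F, U)) :
    (toRat F ε).app U s = toRatFun F ε U s := rfl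

end toRat

section mono

variable (F : X.Modules) [F.IsQuasicoherent]
  (ε : F.presheaf.stalk (genericPoint X) →ₗ[X.presheaf.stalk (genericPoint X)]
    X.presheaf.stalk (genericPoint X))

theorem genericPoint_mem_of_mem (U : X.Opens) (x : X) (hx : x ∈ U) : genericPoint X ∈ U :=
  ((genericPoint_spec X).mem_open_set_iff U.isOpen).mpr ⟨x, trivial, hx⟩

theorem toRatFun_injective (hF : TorSh.IsTorsionFree F) (hε : Function.Injective ε) (U : X.Opens) :
    Function.Injective (toRatFun F ε U) := by
  rw [injective_iff_map_eq_zero]
  intro s hs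
  refine TopCat.Presheaf.section_ext ⟨F.presheaf, F.isSheaf⟩ U s 0 (fun x hx => ?_)
  have hη : genericPoint X ∈ U := genericPoint_mem_of_mem U x hx
  have h1 : (F.presheaf.germ U (genericPoint X) hη).hom s = 0 := by
    rw [toRatFun_apply, germ0_of_mem F U hη] at hs
    have h2 := cst_injective U hη (hs.trans (map_zero _).symm)
    exact hε (h2.trans (map_zero ε).symm)
  have h2 := Groth.Agent.Lib.Lead.TorsPure.germ_eq_zero_of_germ_genericPoint_eq_zero F hF x hx s hη h1
  exact h2.trans (map_zero _).symm

theorem mono_toRat (hF : TorSh.IsTorsionFree F) (hε : Function.Injective ε) : Mono (toRat F ε) := by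
  have h1 : Mono ((Scheme.Modules.toPresheaf X).map (toRat F ε)) := by
    rw [NatTrans.mono_iff_mono_app]
    intro U
    rw [AddCommGrpCat.mono_iff_injective]
    exact toRatFun_injective F ε hF hε U.unop
  exact Functor.mono_of_mono_map (Scheme.Modules.toPresheaf X) h1

end mono

open AlgebraicGeometry in
open CategoryTheory in
/-- Direct assertion (the sheaf of rational functions of the integral scheme X being the direct image of
the structure sheaf of Spec of the function field under its canonical morphism to X). On an integral
scheme, a quasi-coherent torsion-free O_X-module of rank 1, i.e. whose stalk at the generic point is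
one-dimensional over the function field (for instance an invertible module), is isomorphic to a
sub-O_X-module of the sheaf of rational functions. (The published statement adds a converse, which
for the zero submodule does not hold as stated; it is not included here.) -/
theorem result
    (X : Scheme.{u}) [IsIntegral X] (F : X.Modules) [Coh.IsQCoh F] (hF : TorSh.IsTorsionFree F)
    (h1 : Module.finrank (X.presheaf.stalk (genericPoint X)) (F.presheaf.stalk (genericPoint X)) = 1) :
    ∃ i : F ⟶ (Scheme.Modules.pushforward (X.fromSpecStalk (genericPoint X))).obj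
        (Coh.structureModule (Spec (X.presheaf.stalk (genericPoint X)))), Mono i := by
  letI : Field (X.presheaf.stalk (genericPoint X)) := inferInstanceAs (Field X.functionField)
  haveI : Module.Finite (X.presheaf.stalk (genericPoint X)) (F.presheaf.stalk (genericPoint X)) :=
    Module.finite_of_finrank_pos (by rw [h1]; exact Nat.one_pos)
  let e : F.presheaf.stalk (genericPoint X) ≃ₗ[X.presheaf.stalk (genericPoint X)]
      X.presheaf.stalk (genericPoint X) :=
    LinearEquiv.ofFinrankEq _ _ (h1.trans (Module.finrank_self _).symm)
  exact ⟨toRat F e.toLinearMap, mono_toRat F e.toLinearMap hF e.injective⟩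

end Groth.Agent.S4350
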