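import Groth.Statements.S4352
import Groth.Agent.Lib.Helper16.QCAlg10
import Groth.Agent.Lib.Helper16.Satur9

set_option autoImplicit false
universe u
open QCohSup

namespace Groth.Agent.S4352

open AlgebraicGeometry in
open CategoryTheory in
open Opposite in
/-- Case b), in the sectionwise form its proof gives. Let X be a scheme that is quasi-compact and
separated and B a quasi-coherent O_X-algebra. Every section of B over an affine open U lies in a
quasi-coherent sub-O_X-algebra of B whose sections over every affine open form an algebra of finite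
type over the functions; hence B is the inductive limit of its quasi-coherent sub-O_X-algebras of
finite type. -/
theorem result
    {X : Scheme.{u}} [CompactSpace X] [X.IsSeparated] (B : RelSpec.QCAlg X)
    (U : X.affineOpens) (b : B.presheaf.obj (op (U : X.Opens))) :
    ∃ (B' : RelSpec.QCAlg X) (φ : B' ⟶ B),
      (∀ V : X.Opens, Function.Injective (φ.hom.app (op V)).hom) ∧
      (∀ V : X.affineOpens, (B'.str.app (op (V : X.Opens))).hom.FiniteType) ∧
      b ∈ Set.range (φ.hom.app (op (U : X.Opens))).hom := by
  classical
  haveI := Groth.Agent.Lib.helper16.QCAlg.isQuasicoherent_toModule B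
  obtain ⟨E, j, _, hqc, hft, hb⟩ := Groth.Agent.Lib.helper16.Satur.exists_ft_sub_sections B.toModule U.2 {Groth.Agent.Lib.helper16.QCAlg.ofB B b}
  haveI := hqc
  refine ⟨Groth.Agent.Lib.helper16.QCAlg.subAlg B j, Groth.Agent.Lib.helper16.QCAlg.subAlgι B j,
    fun V => Groth.Agent.Lib.helper16.QCAlg.subPresheafι_injective B j V,
    fun V => Groth.Agent.Lib.helper16.QCAlg.subAlg_finiteType B j hft V, ?_⟩
  obtain ⟨e, he⟩ := hb (Groth.Agent.Lib.helper16.QCAlg.ofB B b) (Finset.mem_singleton_self _)
  refine ⟨⟨Groth.Agent.Lib.helper16.QCAlg.jB B j U.1 e,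
    Groth.Agent.Lib.helper16.QCAlg.jB_mem_subRing B j U.1 e⟩, ?_⟩
  exact he

end Groth.Agent.S4352
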