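import Groth.Statements.S4356
import Mathlib
import Groth.Agent.S4350
import Groth.Agent.Lib.Helper25.StalkExact

set_option autoImplicit false
universe u
open TorSh

namespace Groth.Agent.S4356

open AlgebraicGeometry CategoryTheory Opposite TopologicalSpace
open Groth.Agent.S4350 Groth.Agent.Lib.Helper25.StalkExact

variable {X : Scheme.{u}} [IsIntegral X]

theorem cst_surjective (U : X.Opens) (h : genericPoint X ∈ U) :
    Function.Surjective (cst (X := X) ((X.fromSpecStalk (genericPoint X)) ⁻¹ᵁ U)) := by
  have h1 : (X.fromSpecStalk (genericPoint X)) ⁻¹ᵁ U = ⊤ := preimage_eq_top U h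
  intro t
  -- transport to `⊤`
  let t' : Γ(Spec (X.presheaf.stalk (genericPoint X)), ⊤) :=
    (Spec (X.presheaf.stalk (genericPoint X))).presheaf.map (homOfLE (le_of_eq h1.symm)).op t
  obtain ⟨c, hc⟩ := (ConcreteCategory.bijective_of_isIso
    (Scheme.ΓSpecIso (X.presheaf.stalk (genericPoint X))).inv).2 t'
  refine ⟨c, ?_⟩
  have h2 : cst (X := X) ⊤ c = t' := by
    unfold cst
    simp only [CommRingCat.hom_comp, RingHom.coe_comp, Function.comp_apply]
    have : (homOfLE (le_top : (⊤ : (Spec (X.presheaf.stalk (genericPoint X))).Opens) ≤ ⊤)) = 𝟙 _ := rfl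
    rw [this, op_id, CategoryTheory.Functor.map_id]
    exact hc
  have h3 := cst_res (X := X) (le_of_eq h1) c
  rw [h2] at h3
  rw [← h3]
  change ((Spec (X.presheaf.stalk (genericPoint X))).presheaf.map (homOfLE (le_of_eq h1.symm)).op ≫
    (Spec (X.presheaf.stalk (genericPoint X))).presheaf.map (homOfLE (le_of_eq h1)).op) t = t
  rw [← Functor.map_comp]
  have : (homOfLE (le_of_eq h1.symm)).op ≫ (homOfLE (le_of_eq h1)).op = 𝟙 _ := rfl
  rw [this, CategoryTheory.Functor.map_id]
  rfl

/-- L1: elements of the stalks of the module of rational functions -/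
theorem exists_repr (x : X) (t : (ratMod X).presheaf.stalk x) :
    ∃ (U : X.Opens) (hx : x ∈ U) (c : X.presheaf.stalk (genericPoint X)),
      t = (ratMod X).presheaf.germ U x hx (cst (X := X) ((X.fromSpecStalk (genericPoint X)) ⁻¹ᵁ U) c) := by
  obtain ⟨U, hx, τ, rfl⟩ := (ratMod X).presheaf.exists_germ_eq (x := x) t
  obtain ⟨c, rfl⟩ := cst_surjective U (genericPoint_mem_of_mem U x hx) τ
  exact ⟨U, hx, c, rfl⟩

/-- L2 -/
theorem eq_zero_of_germ_cst (x : X) (U : X.Opens) (hx : x ∈ U)
    (c : X.presheaf.stalk (genericPoint X))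
    (h : (ratMod X).presheaf.germ U x hx (cst (X := X) ((X.fromSpecStalk (genericPoint X)) ⁻¹ᵁ U) c) = 0) :
    c = 0 := by
  have h0 : (ratMod X).presheaf.germ U x hx (cst (X := X) ((X.fromSpecStalk (genericPoint X)) ⁻¹ᵁ U) c) =
      (ratMod X).presheaf.germ U x hx 0 := by rw [h, map_zero]
  obtain ⟨W, hxW, iU, iV, e⟩ := TopCat.Presheaf.germ_eq (ratMod X).presheaf x hx hx _ _ h0
  rw [map_zero] at e
  have e1 : (ratMod X).presheaf.map iU.op (cst (X := X) ((X.fromSpecStalk (genericPoint X)) ⁻¹ᵁ U) c) =
      cst (X := X) ((X.fromSpecStalk (genericPoint X)) ⁻¹ᵁ W) c :=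
    cst_res (X := X) ((X.fromSpecStalk (genericPoint X)).preimage_mono iU.le) c
  rw [e1] at e
  exact cst_injective W (genericPoint_mem_of_mem W x hxW) (e.trans (map_zero _).symm)

theorem germ_cst_res (x : X) {U V : X.Opens} (hVU : V ≤ U) (hx : x ∈ V)
    (c : X.presheaf.stalk (genericPoint X)) :
    (ratMod X).presheaf.germ U x (hVU hx) (cst (X := X) ((X.fromSpecStalk (genericPoint X)) ⁻¹ᵁ U) c) =
      (ratMod X).presheaf.germ V x hx (cst (X := X) ((X.fromSpecStalk (genericPoint X)) ⁻¹ᵁ V) c) := by
  rw [← TopCat.Presheaf.germ_res_apply (ratMod X).presheaf (homOfLE hVU) x hx]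
  exact congrArg _ (cst_res (X := X) ((X.fromSpecStalk (genericPoint X)).preimage_mono hVU) c)

/-- L3 -/
theorem germ_smul_germ_cst (x : X) (U : X.Opens) (hx : x ∈ U) (ρ : Γ(X, U))
    (c : X.presheaf.stalk (genericPoint X)) :
    X.presheaf.germ U x hx ρ •
      (ratMod X).presheaf.germ U x hx (cst (X := X) ((X.fromSpecStalk (genericPoint X)) ⁻¹ᵁ U) c) =
    (ratMod X).presheaf.germ U x hx (cst (X := X) ((X.fromSpecStalk (genericPoint X)) ⁻¹ᵁ U)
      (X.presheaf.germ U (genericPoint X) (genericPoint_mem_of_mem U x hx) ρ * c)) := by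
  have e1 := Groth.Agent.Lib.Helper25.StalkSky.germ_smul' x (ratMod X) U hx ρ
    (cst (X := X) ((X.fromSpecStalk (genericPoint X)) ⁻¹ᵁ U) c)
  rw [← e1]
  congr 1
  rw [map_mul, ← app_eq_cst U (genericPoint_mem_of_mem U x hx) ρ]
  rfl

/-- the stalks of the module of rational functions are torsion-free -/
theorem smul_eq_zero_ratMod (x : X) (r : X.presheaf.stalk x) (t : (ratMod X).presheaf.stalk x)
    (h : r • t = 0) : r = 0 ∨ t = 0 := by
  obtain ⟨U, hxU, c, rfl⟩ := exists_repr x t
  obtain ⟨V, hxV, ρ, rfl⟩ := X.presheaf.exists_germ_eq (x := x) r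
  set W := U ⊓ V with hW
  have hxW : x ∈ W := ⟨hxU, hxV⟩
  have e1 := germ_cst_res x (inf_le_left : W ≤ U) hxW c
  have e2 : X.presheaf.germ V x hxV ρ =
      X.presheaf.germ W x hxW (X.presheaf.map (homOfLE (inf_le_right : W ≤ V)).op ρ) :=
    (TopCat.Presheaf.germ_res_apply X.presheaf (homOfLE (inf_le_right : W ≤ V)) x hxW ρ).symm
  rw [e1, e2, germ_smul_germ_cst] at h
  have h1 := eq_zero_of_germ_cst x W hxW _ h
  letI : Field (X.presheaf.stalk (genericPoint X)) := inferInstanceAs (Field X.functionField)
  rcases mul_eq_zero.mp h1 with h2 | h2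
  · left
    rw [e2]
    have h3 := germ_injective_of_isIntegral X (genericPoint X) (genericPoint_mem_of_mem W x hxW)
      (h2.trans (map_zero _).symm)
    rw [h3, map_zero]
  · right
    rw [e1, h2, map_zero]
    exact map_zero _

/-- the generic stalk of the module of rational functions is spanned by the germ of `1` -/
theorem exists_smul_eq (t : (ratMod X).presheaf.stalk (genericPoint X)) :
    ∃ c : X.presheaf.stalk (genericPoint X),
      c • ((ratMod X).presheaf.germ ⊤ (genericPoint X) trivial
        (cst (X := X) ((X.fromSpecStalk (genericPoint X)) ⁻¹ᵁ ⊤) 1)) = t := by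
  obtain ⟨U, hxU, c, rfl⟩ := exists_repr (genericPoint X) t
  refine ⟨c, ?_⟩
  obtain ⟨V, hxV, ρ, hρ⟩ := X.presheaf.exists_germ_eq (x := genericPoint X) c
  set W := U ⊓ V with hW
  have hxW : genericPoint X ∈ W := ⟨hxU, hxV⟩
  have e1 := germ_cst_res (genericPoint X) (inf_le_left : W ≤ U) hxW c
  have e0 := germ_cst_res (genericPoint X) (le_top : W ≤ ⊤) hxW (1 : X.presheaf.stalk (genericPoint X))
  have e2 : X.presheaf.germ V (genericPoint X) hxV ρ =
      X.presheaf.germ W (genericPoint X) hxW (X.presheaf.map (homOfLE (inf_le_right : W ≤ V)).op ρ) :=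
    (TopCat.Presheaf.germ_res_apply X.presheaf (homOfLE (inf_le_right : W ≤ V)) (genericPoint X)
      hxW ρ).symm
  have e3 := germ_smul_germ_cst (genericPoint X) W hxW
    (X.presheaf.map (homOfLE (inf_le_right : W ≤ V)).op ρ) 1
  rw [mul_one, ← e2, hρ] at e3
  rw [e1, e0]
  exact e3

open AlgebraicGeometry in
open CategoryTheory in
/-- Converse assertion (the sheaf of rational functions of the integral scheme X being modelled as the
direct image of the structure sheaf of Spec of the function field under its canonical morphism to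
X). On an integral scheme, a nonzero quasi-coherent sub-O_X-module of the sheaf of rational
functions is torsion-free of rank 1: every stalk is a torsion-free module over the local ring, and
the stalk at the generic point is one-dimensional over the function field. (The published statement
does not exclude the zero submodule, whose generic stalk has dimension 0; it is excluded here.) -/
theorem result
    (X : Scheme.{u}) [IsIntegral X] (G : X.Modules) [Coh.IsQCoh G]
    (i : G ⟶ (Scheme.Modules.pushforward (X.fromSpecStalk (genericPoint X))).obj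
        (Coh.structureModule (Spec (X.presheaf.stalk (genericPoint X))))) [Mono i]
    (hG : ¬ Limits.IsZero G) :
    TorSh.IsTorsionFree G ∧
      Module.finrank (X.presheaf.stalk (genericPoint X)) (G.presheaf.stalk (genericPoint X)) = 1 := by
  have hinj : ∀ x : X, Function.Injective ((DerSch.stalkFunctor X x).map i).hom := by
    intro x
    have : Mono ((DerSch.stalkFunctor X x).map i) := inferInstance
    exact (ModuleCat.mono_iff_injective _).1 this
  refine ⟨?_, ?_⟩
  · intro x
    haveI : Module.IsTorsionFree (X.presheaf.stalk x) ((ratMod X).presheaf.stalk x) :=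
      Module.IsTorsionFree.of_smul_eq_zero (smul_eq_zero_ratMod x)
    exact Function.Injective.moduleIsTorsionFree (R := X.presheaf.stalk x)
      (N := (ratMod X).presheaf.stalk x) ((DerSch.stalkFunctor X x).map i).hom (hinj x)
      (fun r m => map_smul _ r m)
  · letI : Field (X.presheaf.stalk (genericPoint X)) := inferInstanceAs (Field X.functionField)
    let Φ : G.presheaf.stalk (genericPoint X) →ₗ[X.presheaf.stalk (genericPoint X)]
        (ratMod X).presheaf.stalk (genericPoint X) :=
      ((DerSch.stalkFunctor X (genericPoint X)).map i).hom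
    set v₀ : (ratMod X).presheaf.stalk (genericPoint X) :=
      (ratMod X).presheaf.germ ⊤ (genericPoint X) trivial
        (cst (X := X) ((X.fromSpecStalk (genericPoint X)) ⁻¹ᵁ ⊤) 1) with hv₀
    haveI hfinV : Module.Finite (X.presheaf.stalk (genericPoint X))
        ((ratMod X).presheaf.stalk (genericPoint X)) :=
      Module.Finite.of_surjective
        (LinearMap.toSpanSingleton (X.presheaf.stalk (genericPoint X))
          ((ratMod X).presheaf.stalk (genericPoint X)) v₀)
        (fun t => by
          obtain ⟨c, hc⟩ := exists_smul_eq t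
          exact ⟨c, hc⟩)
    have hle1 : Module.finrank (X.presheaf.stalk (genericPoint X))
        ((ratMod X).presheaf.stalk (genericPoint X)) ≤ 1 :=
      finrank_le_one v₀ (fun t => exists_smul_eq t)
    haveI hfinG : Module.Finite (X.presheaf.stalk (genericPoint X))
        (G.presheaf.stalk (genericPoint X)) :=
      Module.Finite.of_injective Φ (hinj _)
    have hle : Module.finrank (X.presheaf.stalk (genericPoint X))
        (G.presheaf.stalk (genericPoint X)) ≤ 1 :=
      (LinearMap.finrank_le_finrank_of_injective (f := Φ) (hinj _)).trans hle1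
    -- the generic stalk of `G` is nontrivial
    have hnt : Nontrivial (G.presheaf.stalk (genericPoint X)) := by
      by_contra hsub
      rw [not_nontrivial_iff_subsingleton] at hsub
      apply hG
      rw [Limits.IsZero.iff_id_eq_zero]
      ext U s
      change s = 0
      apply app_injective_of_mono i U
      rw [map_zero]
      by_cases hη : genericPoint X ∈ U
      · obtain ⟨c, hc⟩ := cst_surjective U hη (i.app U s)
        have h1 : (ratMod X).presheaf.germ U (genericPoint X) hη (i.app U s) =
            Φ (G.presheaf.germ U (genericPoint X) hη s) :=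
          (DerSch.stalkFunctor_map_germ (genericPoint X) i U hη s).symm
        have h2 : G.presheaf.germ U (genericPoint X) hη s = 0 := Subsingleton.elim _ _
        have h1' : (ratMod X).presheaf.germ U (genericPoint X) hη
            (cst (X := X) ((X.fromSpecStalk (genericPoint X)) ⁻¹ᵁ U) c) = 0 := by
          rw [hc, h1, h2]
          exact map_zero Φ
        have h3 := eq_zero_of_germ_cst (genericPoint X) U hη c h1'
        rw [← hc, h3, map_zero]
        rfl
      · haveI := subsingleton_sections U hη
        exact Subsingleton.elim (α := Γ(Spec (X.presheaf.stalk (genericPoint X)),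
          (X.fromSpecStalk (genericPoint X)) ⁻¹ᵁ U)) _ _
    have hpos : 0 < Module.finrank (X.presheaf.stalk (genericPoint X))
        (G.presheaf.stalk (genericPoint X)) := Module.finrank_pos
    omega

end Groth.Agent.S4356
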