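import Groth.Statements.S4361
-- import your own Groth.Agent.* helpers here

set_option autoImplicit false
universe u
open FinCond

namespace Groth.Agent.S4361

open AlgebraicGeometry in
open CategoryTheory in
/-- Let f : X -> Y and g : Y -> Z be morphisms whose composite is quasi-compact, and suppose the
underlying space of X is locally Noetherian (every point has an open neighbourhood which is a
Noetherian topological space). Then f is quasi-compact. (The published statement also covers the
case g separated, which is the standard cancellation property; this row states only the case of a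
locally Noetherian source.) -/
theorem result
    {X Y Z : Scheme.{u}} (f : X ⟶ Y) (g : Y ⟶ Z) [QuasiCompact (f ≫ g)]
    (hX : ∀ x : X, ∃ U : X.Opens, x ∈ U ∧ TopologicalSpace.NoetherianSpace U) :
    QuasiCompact f := by
  -- every subset of a compact subset of `X` is compact
  have hsub : ∀ K : Set X, IsCompact K → ∀ S : Set X, S ⊆ K → IsCompact S := by
    intro K hK S hSK
    choose U hxU hU using hX
    obtain ⟨t, ht⟩ := hK.elim_finite_subcover (fun x => (U x : Set X)) (fun x => (U x).isOpen)
      (fun x _ => Set.mem_iUnion.mpr ⟨x, hxU x⟩)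
    have hS : S = ⋃ x ∈ t, ((U x).ι '' ((U x).ι ⁻¹' S)) := by
      apply Set.Subset.antisymm
      · intro y hy
        obtain ⟨x, hx, hyx⟩ := Set.mem_iUnion₂.mp (ht (hSK hy))
        refine Set.mem_iUnion₂.mpr ⟨x, hx, ?_⟩
        have : y ∈ Set.range (U x).ι := by rw [Scheme.Opens.range_ι]; exact hyx
        obtain ⟨z, rfl⟩ := this
        exact ⟨z, hy, rfl⟩
      · intro y hy
        obtain ⟨x, -, z, hz, rfl⟩ := Set.mem_iUnion₂.mp hy
        exact hz
    rw [hS]
    refine t.finite_toSet.isCompact_biUnion fun x _ => ?_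
    haveI := hU x
    exact (TopologicalSpace.NoetherianSpace.isCompact _).image (U x).ι.continuous
  constructor
  intro V hVo hVc
  -- affine open neighbourhoods in `Z`
  have hW : ∀ y : Y, ∃ W : Z.Opens, IsAffineOpen W ∧ g y ∈ W := by
    intro y
    obtain ⟨_, ⟨W, hW, rfl⟩, hy, -⟩ := Z.isBasis_affineOpens.exists_subset_of_mem_open
      (Set.mem_univ (g y)) isOpen_univ
    exact ⟨W, hW, hy⟩
  choose W hWaff hyW using hW
  obtain ⟨t, ht⟩ := hVc.elim_finite_subcover (fun y => (g ⁻¹ᵁ (W y) : Set Y))
    (fun y => (g ⁻¹ᵁ (W y)).isOpen) (fun y _ => Set.mem_iUnion.mpr ⟨y, hyW y⟩)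
  have hfV : f ⁻¹' V = ⋃ y ∈ t, f ⁻¹' (V ∩ (g ⁻¹ᵁ (W y) : Set Y)) := by
    ext x
    simp only [Set.mem_preimage, Set.mem_iUnion, Set.mem_inter_iff, exists_and_left, exists_prop]
    constructor
    · intro hx
      obtain ⟨y, hy, hxy⟩ := Set.mem_iUnion₂.mp (ht hx)
      exact ⟨hx, y, hy, hxy⟩
    · rintro ⟨hx, -⟩
      exact hx
  rw [hfV]
  refine t.finite_toSet.isCompact_biUnion fun y _ => ?_
  refine hsub ((f ≫ g) ⁻¹' (W y)) ?_ _ ?_
  · exact QuasiCompact.isCompact_preimage (f := f ≫ g) _ (W y).isOpen (hWaff y).isCompact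
  · rintro x ⟨-, hx⟩
    exact hx

end Groth.Agent.S4361
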