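import Groth.Statements.S4360
import Mathlib.AlgebraicGeometry.Morphisms.Immersion
import Mathlib.Topology.NoetherianSpace

set_option autoImplicit false
universe u
open FinCond

namespace Groth.Agent.S4360

open AlgebraicGeometry in
open CategoryTheory in
/-- Let f : X -> Y be an immersion and suppose that the underlying space of Y is locally Noetherian,
i.e. every point of Y has an open neighbourhood which is a Noetherian topological space. Then f is
quasi-compact (and hence of finite type, an immersion being locally of finite type). -/
theorem result
    {X Y : Scheme.{u}} (f : X ⟶ Y) [IsImmersion f]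
    (hY : ∀ y : Y, ∃ U : Y.Opens, y ∈ U ∧ TopologicalSpace.NoetherianSpace U) :
    QuasiCompact f := by
  choose V hyV hV using hY
  refine ⟨fun U _ hUc => ?_⟩
  obtain ⟨t, htU, hcov⟩ := hUc.elim_nhds_subcover (fun y => ((V y : Y.Opens) : Set Y))
    (fun y _ => (V y).isOpen.mem_nhds (hyV y))
  -- every subset of U is compact
  have hsub : ∀ s : Set Y, s ⊆ U → IsCompact s := by
    intro s hs
    have : s = ⋃ y ∈ t, (s ∩ ((V y : Y.Opens) : Set Y)) := by
      rw [← Set.inter_iUnion₂]
      exact (Set.inter_eq_left.mpr (hs.trans hcov)).symm
    rw [this]
    refine t.finite_toSet.isCompact_biUnion fun y _ => ?_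
    have hN : TopologicalSpace.NoetherianSpace ((V y : Y.Opens) : Set Y) := hV y
    exact (TopologicalSpace.noetherianSpace_set_iff _).mp hN _ Set.inter_subset_right
  have hemb : Topology.IsEmbedding f := f.isEmbedding
  rw [hemb.isInducing.isCompact_iff, Set.image_preimage_eq_inter_range]
  exact hsub _ Set.inter_subset_left

end Groth.Agent.S4360
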