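import Groth.Statements.S4362
import Mathlib

set_option autoImplicit false
universe u
open FinCond

namespace Groth.Agent.S4362

open AlgebraicGeometry in
open CategoryTheory in
/-- If X is a Noetherian scheme, every increasing sequence of quasi-coherent sheaves of ideals of the
structure sheaf is eventually constant; equivalently the ordered set of quasi-coherent ideal sheaves
of X is well-founded for the reverse order. (On a locally Noetherian scheme quasi-coherent and
coherent ideal sheaves coincide.) -/
theorem result
    (X : Scheme.{u}) [IsNoetherian X] : WellFoundedGT X.IdealSheafData := by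
  classical
  have hc : IsCompact ((⊤ : X.Opens) : Set X) := by
    simpa using (isCompact_univ : IsCompact (Set.univ : Set X))
  obtain ⟨s, hs, htop⟩ := isCompact_iff_finite_and_eq_biUnion_affineOpens.mp hc
  have hfin : Finite s := hs.to_subtype
  have hN : ∀ i : s, IsNoetherianRing Γ(X, i.1.1) :=
    fun i => IsLocallyNoetherian.component_noetherian i.1
  have hwf : ∀ i : s, WellFoundedLT (Ideal Γ(X, i.1.1))ᵒᵈ := fun i => by
    have : WellFoundedGT (Ideal Γ(X, i.1.1)) := inferInstance
    infer_instance
  let f : X.IdealSheafData → ∀ i : s, (Ideal Γ(X, i.1.1))ᵒᵈ :=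
    fun I i => OrderDual.toDual (I.ideal i.1)
  have hcov : ⨆ i : s, (i.1 : X.Opens) = ⊤ := by rw [htop, iSup_subtype]
  have hf : StrictAnti f := by
    intro I J hIJ
    have hle : ∀ i : s, I.ideal i.1 ≤ J.ideal i.1 := fun i => hIJ.le i.1
    rw [Pi.lt_def]
    refine ⟨fun i => OrderDual.toDual_le_toDual.mpr (hle i), ?_⟩
    by_contra hcon
    push Not at hcon
    have heq : ∀ i : s, I.ideal i.1 = J.ideal i.1 := by
      intro i
      apply le_antisymm (hle i)
      have := hcon i
      have h2 : ¬ (I.ideal i.1 < J.ideal i.1) := fun h => this (OrderDual.toDual_lt_toDual.mpr h)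
      by_contra h3
      exact h2 (lt_of_le_not_ge (hle i) h3)
    exact hIJ.ne (Scheme.IdealSheafData.ext_of_iSup_eq_top (fun i : s => (i : X.affineOpens)) hcov heq)
  exact hf.wellFoundedGT

end Groth.Agent.S4362
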