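import Groth.Statements.S4363
import Mathlib

set_option autoImplicit false
universe u v
open RedSep

namespace Groth.Agent.S4363

section
open CategoryTheory CategoryTheory.Limits AlgebraicGeometry Opposite TopologicalSpace

variable {X Y : Scheme.{u}} [IsAffine Y] (f : X ⟶ Y)

/-- the comparison map -/
noncomputable def delta (U V : X.Opens) :
    (↑(U ⊓ V) : Scheme.{u}) ⟶ pullback (U.ι ≫ f) (V.ι ≫ f) :=
  pullback.lift (X.homOfLE inf_le_left) (X.homOfLE inf_le_right) (by simp)

theorem delta_eq (U V : X.Opens) :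
    delta f U V = (isPullback_opens_inf U V).isoPullback.hom ≫ pullback.mapDesc U.ι V.ι f := by
  apply pullback.hom_ext
  · rw [delta, pullback.lift_fst, Category.assoc, pullback.mapDesc, pullback.lift_fst,
      Category.comp_id, IsPullback.isoPullback_hom_fst]
  · rw [delta, pullback.lift_snd, Category.assoc, pullback.mapDesc, pullback.lift_snd,
      Category.comp_id, IsPullback.isoPullback_hom_snd]

/-- the affine target property of closed immersions -/
abbrev QCI : AffineTargetMorphismProperty :=
  fun X _ f _ ↦ IsAffine X ∧ Function.Surjective ⇑(ConcreteCategory.hom (Scheme.Hom.appTop f))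

instance : HasAffineProperty @IsClosedImmersion QCI := IsClosedImmersion.hasAffineProperty

instance : QCI.IsLocal := HasAffineProperty.isLocal_affineProperty @IsClosedImmersion

theorem isSeparated_iff_diag : IsSeparated f ↔ QCI.diagonal f := by
  rw [IsSeparated.isSeparated_eq_diagonal_isClosedImmersion]
  exact (HasAffineProperty.diagonal_iff @IsClosedImmersion).symm

theorem closure_eq_top_of_isPushout {A B C P : CommRingCat.{u}} {f : A ⟶ B} {g : A ⟶ C}
    {inl : B ⟶ P} {inr : C ⟶ P} (h : IsPushout f g inl inr) :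
    Subring.closure (Set.range inl.hom ∪ Set.range inr.hom) = ⊤ := by
  set W := Subring.closure (Set.range inl.hom ∪ Set.range inr.hom) with hW
  let m : CommRingCat.of W ⟶ P := CommRingCat.ofHom W.subtype
  let l : B ⟶ CommRingCat.of W := CommRingCat.ofHom
    (inl.hom.codRestrict W (fun b => Subring.subset_closure (Or.inl ⟨b, rfl⟩)))
  let r : C ⟶ CommRingCat.of W := CommRingCat.ofHom
    (inr.hom.codRestrict W (fun b => Subring.subset_closure (Or.inr ⟨b, rfl⟩)))
  have hl : l ≫ m = inl := rfl
  have hr : r ≫ m = inr := rfl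
  have hw : f ≫ l = g ≫ r := by
    ext a
    exact congrArg (fun φ => φ.hom a) h.w
  let d := h.desc l r hw
  have hd : d ≫ m = 𝟙 P := by
    apply h.hom_ext
    · rw [← Category.assoc, h.inl_desc, hl, Category.comp_id]
    · rw [← Category.assoc, h.inr_desc, hr, Category.comp_id]
  rw [eq_top_iff]
  intro x _
  have hx : m.hom (d.hom x) = x := congrArg (fun φ => φ.hom x) hd
  rw [← hx]
  exact (d.hom x).2

/-- restriction maps versus `homOfLE` -/
theorem res_comm {U W : X.Opens} (hWU : W ≤ U) :
    (X.homOfLE hWU).appTop ≫ X.presheaf.map (eqToHom (W.ι_image_top).symm).op =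
      X.presheaf.map (eqToHom (U.ι_image_top).symm).op ≫ X.presheaf.map (homOfLE hWU).op := by
  have hle : W.ι ''ᵁ ⊤ ≤ U.ι ''ᵁ ⊤ := by
    rw [W.ι_image_top, U.ι_image_top]; exact hWU
  have h : (X.homOfLE hWU).appTop = X.presheaf.map (homOfLE hle).op :=
    Scheme.homOfLE_appTop hWU
  rw [h]
  change X.presheaf.map (homOfLE hle).op ≫ X.presheaf.map (eqToHom (W.ι_image_top).symm).op = _
  rw [← Functor.map_comp, ← Functor.map_comp]
  rfl

theorem qci_delta_iff (U V : X.Opens) [IsAffine (↑U : Scheme.{u})] [IsAffine (↑V : Scheme.{u})] :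
    QCI (delta f U V) ↔ IsAffineOpen (U ⊓ V) ∧
      Subring.closure (Set.range (X.presheaf.map (homOfLE (inf_le_left : U ⊓ V ≤ U)).op).hom ∪
        Set.range (X.presheaf.map (homOfLE (inf_le_right : U ⊓ V ≤ V)).op).hom) = ⊤ := by
  have hpush := isPushout_appTop_of_isPullback (IsPullback.of_hasPullback (U.ι ≫ f) (V.ι ≫ f))
  have hcl := closure_eq_top_of_isPushout hpush
  let τW : Γ(↑(U ⊓ V), ⊤) ⟶ Γ(X, U ⊓ V) :=
    X.presheaf.map (eqToHom ((U ⊓ V).ι_image_top).symm).op
  let τU : Γ(↑U, ⊤) ⟶ Γ(X, U) := X.presheaf.map (eqToHom (U.ι_image_top).symm).op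
  let τV : Γ(↑V, ⊤) ⟶ Γ(X, V) := X.presheaf.map (eqToHom (V.ι_image_top).symm).op
  have hτW : Function.Bijective τW.hom := ConcreteCategory.bijective_of_isIso
    (X.presheaf.map (eqToHom ((U ⊓ V).ι_image_top).symm).op)
  have hτU : Function.Bijective τU.hom := ConcreteCategory.bijective_of_isIso
    (X.presheaf.map (eqToHom (U.ι_image_top).symm).op)
  have hτV : Function.Bijective τV.hom := ConcreteCategory.bijective_of_isIso
    (X.presheaf.map (eqToHom (V.ι_image_top).symm).op)
  have h1 : ∀ a, τW.hom ((delta f U V).appTop.hom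
      ((pullback.fst (U.ι ≫ f) (V.ι ≫ f)).appTop.hom a)) =
      (X.presheaf.map (homOfLE (inf_le_left : U ⊓ V ≤ U)).op).hom (τU.hom a) := by
    intro a
    have e1 : (pullback.fst (U.ι ≫ f) (V.ι ≫ f)).appTop ≫ (delta f U V).appTop =
        (X.homOfLE inf_le_left).appTop := by
      rw [← Scheme.Hom.comp_appTop, delta, pullback.lift_fst]
    have e2 := res_comm (X := X) (inf_le_left : U ⊓ V ≤ U)
    rw [← e1] at e2
    exact congrArg (fun φ => φ.hom a) e2
  have h2 : ∀ a, τW.hom ((delta f U V).appTop.hom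
      ((pullback.snd (U.ι ≫ f) (V.ι ≫ f)).appTop.hom a)) =
      (X.presheaf.map (homOfLE (inf_le_right : U ⊓ V ≤ V)).op).hom (τV.hom a) := by
    intro a
    have e1 : (pullback.snd (U.ι ≫ f) (V.ι ≫ f)).appTop ≫ (delta f U V).appTop =
        (X.homOfLE inf_le_right).appTop := by
      rw [← Scheme.Hom.comp_appTop, delta, pullback.lift_snd]
    have e2 := res_comm (X := X) (inf_le_right : U ⊓ V ≤ V)
    rw [← e1] at e2
    exact congrArg (fun φ => φ.hom a) e2
  refine and_congr Iff.rfl ?_
  constructor
  · intro hsurj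
    rw [eq_top_iff]
    intro y _
    obtain ⟨y', rfl⟩ := hτW.2 y
    obtain ⟨p, rfl⟩ := hsurj y'
    have hle : Subring.closure (Set.range (pullback.fst (U.ι ≫ f) (V.ι ≫ f)).appTop.hom ∪
        Set.range (pullback.snd (U.ι ≫ f) (V.ι ≫ f)).appTop.hom) ≤
        (Subring.closure (Set.range (X.presheaf.map
          (homOfLE (inf_le_left : U ⊓ V ≤ U)).op).hom ∪
          Set.range (X.presheaf.map (homOfLE (inf_le_right : U ⊓ V ≤ V)).op).hom)).comap
          (τW.hom.comp (delta f U V).appTop.hom) := by
      rw [Subring.closure_le]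
      rintro _ (⟨a, rfl⟩ | ⟨a, rfl⟩)
      · rw [SetLike.mem_coe, Subring.mem_comap, RingHom.comp_apply, h1]
        exact Subring.subset_closure (Or.inl ⟨_, rfl⟩)
      · rw [SetLike.mem_coe, Subring.mem_comap, RingHom.comp_apply, h2]
        exact Subring.subset_closure (Or.inr ⟨_, rfl⟩)
    rw [hcl] at hle
    exact hle (Subring.mem_top p)
  · intro hcl2 y'
    have hle : Subring.closure (Set.range (X.presheaf.map
        (homOfLE (inf_le_left : U ⊓ V ≤ U)).op).hom ∪
        Set.range (X.presheaf.map (homOfLE (inf_le_right : U ⊓ V ≤ V)).op).hom) ≤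
        (τW.hom.comp (delta f U V).appTop.hom).range := by
      rw [Subring.closure_le]
      rintro _ (⟨b, rfl⟩ | ⟨b, rfl⟩)
      · obtain ⟨a, rfl⟩ := hτU.2 b
        exact ⟨_, h1 a⟩
      · obtain ⟨a, rfl⟩ := hτV.2 b
        exact ⟨_, h2 a⟩
    rw [hcl2] at hle
    obtain ⟨p, hp⟩ := hle (Subring.mem_top (τW.hom y'))
    exact ⟨p, hτW.1 hp⟩

end

open AlgebraicGeometry in
open CategoryTheory in
/-- Let Y be an affine scheme, f : X -> Y a morphism and (U i) a cover of X by affine open subschemes.
Then f is separated if and only if, for every pair of indices i, j, the intersection of U i and U j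
is an affine open and its ring of sections is generated, as a ring, by the images of the rings of
sections of U i and of U j under the restriction maps. -/
theorem result
    {X Y : Scheme.{u}} [IsAffine Y] (f : X ⟶ Y) {ι : Type v} (U : ι → X.Opens)
    (hU : ∀ i, IsAffineOpen (U i)) (hcov : ⨆ i, U i = ⊤) :
    IsSeparated f ↔ ∀ i j, IsAffineOpen (U i ⊓ U j) ∧
      Subring.closure (Set.range (X.presheaf.map (homOfLE (inf_le_left : U i ⊓ U j ≤ U i)).op).hom ∪
        Set.range (X.presheaf.map (homOfLE (inf_le_right : U i ⊓ U j ≤ U j)).op).hom) = ⊤ := by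
  have hUa : ∀ i, IsAffine (↑(U i) : Scheme.{u}) := hU
  rw [isSeparated_iff_diag]
  constructor
  · intro h i j
    have h1 := h (U i).ι (U j).ι
    rw [← qci_delta_iff f (U i) (U j), delta_eq, QCI.cancel_left_of_respectsIso]
    exact h1
  · intro h
    have hcov' : TopologicalSpace.IsOpenCover U := TopologicalSpace.IsOpenCover.mk hcov
    let 𝒰 : X.OpenCover := X.openCoverOfIsOpenCover U hcov'
    have : ∀ i, IsAffine (𝒰.X i) := hU
    refine AffineTargetMorphismProperty.diagonal_of_openCover_source f 𝒰 fun i j => ?_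
    have hi : IsAffine (↑(U i) : Scheme.{u}) := hU i
    have hj : IsAffine (↑(U j) : Scheme.{u}) := hU j
    have hij : IsAffine (Limits.pullback ((U i).ι ≫ f) ((U j).ι ≫ f)) := inferInstance
    change QCI (Limits.pullback.mapDesc (U i).ι (U j).ι f)
    rw [← QCI.cancel_left_of_respectsIso (isPullback_opens_inf (U i) (U j)).isoPullback.hom,
      ← delta_eq, qci_delta_iff]
    exact h i j

end Groth.Agent.S4363
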