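import Groth.Statements.S4367
import Mathlib.AlgebraicGeometry.Morphisms.ClosedImmersion
import Mathlib.AlgebraicGeometry.Properties

set_option autoImplicit false
universe u
open RedSep

namespace Groth.Agent.S4367

open AlgebraicGeometry in
open CategoryTheory in
/-- Let X be a reduced scheme, f : X -> Y a morphism and j : Z -> Y a closed immersion (a closed
subscheme of Y) whose underlying closed subset contains f(X). Then f factors through j. -/
theorem result
    {X Y Z : Scheme.{u}} [IsReduced X] (f : X ⟶ Y) (j : Z ⟶ Y) [IsClosedImmersion j]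
    (h : Set.range f ⊆ Set.range j) :
    ∃ g : X ⟶ Z, g ≫ j = f := by
  have H : j.ker ≤ f.ker := by
    have hfk : f.ker = Scheme.IdealSheafData.ofIdeals fun U ↦ RingHom.ker (f.app U).hom := rfl
    rw [hfk, Scheme.IdealSheafData.le_ofIdeals_iff]
    intro U s hs
    rw [Scheme.Hom.ker_apply] at hs
    show s ∈ RingHom.ker (f.app U).hom
    rw [RingHom.mem_ker] at hs ⊢
    apply AlgebraicGeometry.eq_zero_of_basicOpen_eq_bot
    rw [← Scheme.preimage_basicOpen]
    ext x
    simp only [TopologicalSpace.Opens.coe_bot, Set.mem_empty_iff_false, iff_false]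
    intro hx
    obtain ⟨z, hz⟩ := h ⟨x, rfl⟩
    have hzmem : z ∈ j ⁻¹ᵁ Y.basicOpen s := by
      show j z ∈ Y.basicOpen s
      rw [hz]
      exact hx
    rw [Scheme.preimage_basicOpen, hs, Scheme.basicOpen_zero] at hzmem
    exact hzmem
  exact ⟨IsClosedImmersion.lift j f H, IsClosedImmersion.lift_fac j f H⟩

end Groth.Agent.S4367
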