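import Groth.Statements.S4369
-- import your own Groth.Agent.* helpers here

set_option autoImplicit false
universe u
open AffSch

namespace Groth.Agent.S4369

/-- Let φ : A' -> A be a ring homomorphism such that every f in A can be written f = h φ(f') with h
invertible in A (this holds in particular when φ is surjective). Then the associated continuous map
Spec A -> Spec A' is a homeomorphism onto its image. -/
theorem result
    {A' A : Type u} [CommRing A'] [CommRing A] (φ : A' →+* A)
    (h : ∀ f : A, ∃ (u : Aˣ) (f' : A'), f = (u : A) * φ f') :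
    Topology.IsEmbedding (PrimeSpectrum.comap φ) := by
  have key : ∀ (I : Ideal A) (p : PrimeSpectrum A),
      (∀ f' : A', φ f' ∈ I → φ f' ∈ p.asIdeal) → I ≤ p.asIdeal := by
    intro I p hp f hf
    obtain ⟨u, f', rfl⟩ := h f
    have h1 : φ f' ∈ I := by
      have := I.mul_mem_left (↑u⁻¹ : A) hf
      rwa [← mul_assoc, Units.inv_mul, one_mul] at this
    exact p.asIdeal.mul_mem_left _ (hp f' h1)
  refine ⟨⟨TopologicalSpace.ext_isClosed fun Z ↦ ?_⟩, ?_⟩
  · simp_rw [isClosed_induced_iff, PrimeSpectrum.isClosed_iff_zeroLocus,
      @eq_comm _ _ (PrimeSpectrum.zeroLocus _), exists_exists_eq_and,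
      PrimeSpectrum.preimage_comap_zeroLocus]
    constructor
    · rintro ⟨s, rfl⟩
      refine ⟨φ ⁻¹' (Ideal.span s : Set A), ?_⟩
      rw [← PrimeSpectrum.zeroLocus_span s]
      ext p
      simp only [PrimeSpectrum.mem_zeroLocus]
      constructor
      · intro hp
        exact key (Ideal.span s) p fun f' hf' => hp ⟨f', hf', rfl⟩
      · rintro hp _ ⟨f', hf', rfl⟩
        exact hp hf'
    · rintro ⟨s, rfl⟩
      exact ⟨_, rfl⟩
  · intro p q hpq
    ext1
    apply le_antisymm
    · refine key p.asIdeal q fun f' hf' => ?_
      have : f' ∈ (PrimeSpectrum.comap φ p).asIdeal := hf'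
      rw [hpq] at this
      exact this
    · refine key q.asIdeal p fun f' hf' => ?_
      have : f' ∈ (PrimeSpectrum.comap φ q).asIdeal := hf'
      rw [← hpq] at this
      exact this

end Groth.Agent.S4369
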