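import Groth.Statements.S4370
import Groth.Agent.S4368
import Mathlib.AlgebraicGeometry.Morphisms.Separated
import Mathlib.AlgebraicGeometry.Morphisms.ClosedImmersion

set_option autoImplicit false
universe u
open RedSep

namespace Groth.Agent.S4370

open AlgebraicGeometry in
open CategoryTheory in
/-- Let f : X -> Y be an open immersion and let g : X_red -> Y_red be the morphism of reduced schemes
induced by f, i.e. the morphism between the closed subschemes defined by the nilradicals whose
composite with the inclusion of Y_red in Y is the inclusion of X_red in X followed by f. Then g is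
an open immersion. -/
theorem result
    {X Y : Scheme.{u}} (f : X ⟶ Y) [IsOpenImmersion f]
    (g : X.nilradical.subscheme ⟶ Y.nilradical.subscheme)
    (hg : g ≫ Y.nilradical.subschemeι = X.nilradical.subschemeι ≫ f) :
    IsOpenImmersion g := by
  have hYred : IsReduced Y.nilradical.subscheme :=
    (Groth.Agent.S4368.result Y Y.nilradical (Scheme.support_nilradical Y)).2 rfl
  -- the pullback
  have hw : X.nilradical.subschemeι ≫ f = g ≫ Y.nilradical.subschemeι := hg.symm
  let l : X.nilradical.subscheme ⟶ Limits.pullback f Y.nilradical.subschemeι :=
    Limits.pullback.lift X.nilradical.subschemeι g hw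
  have hl1 : l ≫ Limits.pullback.fst f Y.nilradical.subschemeι = X.nilradical.subschemeι :=
    Limits.pullback.lift_fst _ _ _
  have hl2 : l ≫ Limits.pullback.snd f Y.nilradical.subschemeι = g :=
    Limits.pullback.lift_snd _ _ _
  have hZred : IsReduced (Limits.pullback f Y.nilradical.subschemeι) :=
    isReduced_of_isOpenImmersion (Limits.pullback.snd f Y.nilradical.subschemeι)
  have hcl : IsClosedImmersion (l ≫ Limits.pullback.fst f Y.nilradical.subschemeι) := by
    rw [hl1]; infer_instance
  have hlcl : IsClosedImmersion l :=
    IsClosedImmersion.of_comp l (Limits.pullback.fst f Y.nilradical.subschemeι)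
  have hsurj : Surjective l := by
    refine ⟨fun z => ?_⟩
    have hsup : (Set.range X.nilradical.subschemeι : Set X) = Set.univ := by
      rw [Scheme.IdealSheafData.range_subschemeι, Scheme.support_nilradical]
      rfl
    obtain ⟨x', hx'⟩ : Limits.pullback.fst f Y.nilradical.subschemeι z ∈
        Set.range X.nilradical.subschemeι := by rw [hsup]; trivial
    refine ⟨x', ?_⟩
    apply (Limits.pullback.fst f Y.nilradical.subschemeι).isClosedEmbedding.injective
    rw [← Scheme.Hom.comp_apply, hl1, hx']
  have : IsIso l := isIso_of_isClosedImmersion_of_surjective l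
  rw [← hl2]
  infer_instance

end Groth.Agent.S4370
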