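import Groth.Statements.S4372
import Groth.Agent.Lib.Helper16.SchDense
open Groth.Agent.Lib.helper16.SchDense

set_option autoImplicit false
universe u
open RedSep

namespace Groth.Agent.S4372

open AlgebraicGeometry in
open CategoryTheory in
/-- Let h : Z -> X be an immersion with Z reduced (a reduced subscheme of X), and let W be the reduced
closed subscheme of X whose underlying space is the closure of h(Z). Then Z is an open subscheme of
W: h factors as an open immersion Z -> W followed by the closed immersion W -> X. Stated as the
existence of such a factorization through a reduced scheme W closed-immersed onto the closure of the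
image. -/
theorem result
    {Z X : Scheme.{u}} (h : Z ⟶ X) [IsImmersion h] [IsReduced Z] :
    ∃ (W : Scheme.{u}) (j : Z ⟶ W) (i : W ⟶ X), IsOpenImmersion j ∧ IsClosedImmersion i ∧
      IsReduced W ∧ Set.range i = closure (Set.range h) ∧ j ≫ i = h := by
  haveI : IsSchemeTheoreticallyDominant h.toImage :=
    ⟨ker_toImage_eq_bot h (fun U => ker_apply_of_isReduced h U)⟩
  have hd : DenseRange h.toImage.base := denseRange_of_std h.toImage
  refine ⟨h.image, h.toImage, h.imageι, isOpenImmersion_toImage_of_isReduced h, inferInstance,
    isReduced_of_std h.toImage, ?_, h.toImage_imageι⟩
  apply subset_antisymm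
  · have h1 : Set.range h.imageι = h.imageι '' closure (Set.range h.toImage) := by
      rw [hd.closure_range, Set.image_univ]
    rw [h1]
    refine (image_closure_subset_closure_image h.imageι.continuous).trans ?_
    rw [← Set.range_comp]
    have : (h.imageι ∘ h.toImage) = h := by
      funext z
      exact congr($(h.toImage_imageι) z)
    rw [this]
  · refine closure_minimal ?_ h.imageι.isClosedEmbedding.isClosed_range
    rintro _ ⟨z, rfl⟩
    exact ⟨h.toImage z, congr($(h.toImage_imageι) z)⟩

end Groth.Agent.S4372
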