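import Groth.Statements.S4375
import Groth.Agent.Lib.Helper11.SerreCrit2

set_option autoImplicit false
universe u
open CategoryTheory CategoryTheory.Limits AlgebraicGeometry
open EGA2

namespace Groth.Agent.S4375

/-- (c') ⇒ (a): let X be a quasi-compact separated scheme. Suppose that for every n, every
quasi-coherent O_X-module F admitting a monomorphism into the free module O_X^n, and every
epimorphism p : F → F'' onto a quasi-coherent O_X-module, the map induced by p on global sections is
surjective. Then X is affine. (The published statement also allows X to be a scheme whose underlying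
space is Noetherian; this row assumes it quasi-compact and separated.) -/
theorem result (X : Scheme.{u}) [CompactSpace X] [X.IsSeparated]
    (h : ∀ (n : ℕ) (F F'' : X.Modules) (i : F ⟶ FlatMod.freeMod X n) (p : F ⟶ F''),
      Mono i → Epi p → Coh.IsQCoh F → Coh.IsQCoh F'' →
        Function.Surjective (p.val.app (Opposite.op ⊤)).hom) :
    IsAffine X := by
  refine Groth.Agent.Lib.helper11.SerreCrit.isAffine_of_decomp
    (Groth.Agent.Lib.helper11.SerreCrit.decomp_of_surjective ?_)
  intro A B hA hB α β j hα hj
  obtain ⟨hS, hm, hK, hAB, hIm⟩ := Groth.Agent.Lib.helper11.SerreCrit.ses_facts A B α β j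
  let O := Coh.structureModule X
  let e : O ⊞ O ⟶ FlatMod.freeMod X 2 :=
    biprod.desc (Sigma.ι (fun _ : Fin 2 => O) 0) (Sigma.ι (fun _ : Fin 2 => O) 1)
  let r : FlatMod.freeMod X 2 ⟶ O ⊞ O :=
    Sigma.desc (fun i : Fin 2 => if i = 0 then biprod.inl else biprod.inr)
  have her : e ≫ r = 𝟙 _ := by
    apply biprod.hom_ext'
    · simp only [e, r, biprod.inl_desc_assoc, Category.comp_id]
      exact (Sigma.ι_desc _ _).trans (if_pos rfl)
    · simp only [e, r, biprod.inr_desc_assoc, Category.comp_id]
      exact (Sigma.ι_desc _ _).trans (if_neg (by decide))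
  have he : Mono e := mono_of_mono_fac her
  have hαj : Mono (biprod.map α j) := by
    refine Preadditive.mono_of_cancel_zero _ fun {T} t ht => ?_
    apply biprod.hom_ext
    · have := congrArg (fun ψ => ψ ≫ biprod.fst) ht
      simp only [Category.assoc, biprod.map_fst, zero_comp] at this
      rw [← Category.assoc] at this
      rw [zero_comp, ← cancel_mono α, this, zero_comp]
    · have := congrArg (fun ψ => ψ ≫ biprod.snd) ht
      simp only [Category.assoc, biprod.map_snd, zero_comp] at this
      rw [← Category.assoc] at this
      rw [zero_comp, ← cancel_mono j, this, zero_comp]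
  have hm' : Mono (biprod.map α j ≫ e) := mono_comp _ _
  have hepi : Epi (Abelian.factorThruImage (biprod.desc α β)) := inferInstance
  intro s
  obtain ⟨t, ht⟩ := h 2 _ _ _ (Abelian.factorThruImage (biprod.desc α β)) hm' hepi hAB hIm s
  exact ⟨t, ht⟩

end Groth.Agent.S4375
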