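import Groth.Statements.S4378
import Mathlib

set_option autoImplicit false
universe u
open CategoryTheory CategoryTheory.Limits AlgebraicGeometry
open EGA2

namespace Groth.Agent.S4378

theorem isClosedMap_of_isPullback_of_isEmbedding {X' T X'' B : Scheme.{u}} {h' : X' ⟶ T} {j : X' ⟶ X''}
    {i : T ⟶ B} {h : X'' ⟶ B} (sq : IsPullback h' j i h) [IsImmersion i]
    (hh : IsClosedMap h.base) : IsClosedMap h'.base := by
  haveI : IsImmersion j := MorphismProperty.of_isPullback sq inferInstance
  intro C hC
  obtain ⟨C', hC', rfl⟩ := j.isEmbedding.isInducing.isClosed_iff.mp hC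
  have : h'.base '' (j.base ⁻¹' C') = i.base ⁻¹' (h.base '' C') := by
    ext t
    constructor
    · rintro ⟨x, hx, rfl⟩
      refine ⟨j.base x, hx, ?_⟩
      have := congr($(sq.w).base x)
      simpa using this.symm
    · rintro ⟨c, hc, hct⟩
      let e := sq.isoPullback
      obtain ⟨z, hz1, hz2⟩ := Scheme.Pullback.exists_preimage_pullback (f := i) (g := h) t c hct.symm
      refine ⟨e.inv.base z, ?_, ?_⟩
      · show j.base (e.inv.base z) ∈ C'
        have : (e.inv ≫ j).base z = c := by
          rw [sq.isoPullback_inv_snd]; exact hz2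
        simpa using this ▸ hc
      · have : (e.inv ≫ h').base z = t := by
          rw [sq.isoPullback_inv_fst]; exact hz1
        simpa using this
  rw [this]
  exact (hh C' hC').preimage i.continuous



/-- Let q : Y → S be separated and of finite type, and f : X → Y a morphism such that X is also
separated and of finite type over S through f ≫ q. Then f is proper if and only if for every scheme
S' over S the morphism X ×_S S' → Y ×_S S' induced by f is closed (as a map of topological spaces). -/
theorem result {X Y S : Scheme.{u}} (q : Y ⟶ S) (f : X ⟶ Y)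
    [IsSeparated q] [LocallyOfFiniteType q] [QuasiCompact q]
    [IsSeparated (f ≫ q)] [LocallyOfFiniteType (f ≫ q)] [QuasiCompact (f ≫ q)] :
    IsProper f ↔ ∀ (S' : Scheme.{u}) (g : S' ⟶ S),
      IsClosedMap (pullback.map (f ≫ q) g q g f (𝟙 S') (𝟙 S) (Category.comp_id (f ≫ q))
        ((Category.comp_id g).trans (Category.id_comp g).symm)).base := by
  have key : ∀ (S' : Scheme.{u}) (g : S' ⟶ S),
      IsPullback (pullback.map (f ≫ q) g q g f (𝟙 S') (𝟙 S) (Category.comp_id (f ≫ q))
        ((Category.comp_id g).trans (Category.id_comp g).symm)) (pullback.fst (f ≫ q) g)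
        (pullback.fst q g) f := by
    intro S' g
    refine IsPullback.of_right (h₁₂ := pullback.snd q g) (h₂₂ := q) (v₁₃ := g) ?_
      (pullback.lift_fst _ _ _) (IsPullback.of_hasPullback q g).flip
    have := (IsPullback.of_hasPullback (f ≫ q) g).flip
    have e : pullback.map (f ≫ q) g q g f (𝟙 S') (𝟙 S) (Category.comp_id (f ≫ q))
        ((Category.comp_id g).trans (Category.id_comp g).symm) ≫ pullback.snd q g =
        pullback.snd (f ≫ q) g := (pullback.lift_snd _ _ _).trans (Category.comp_id _)
    rw [e]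
    exact this
  constructor
  · intro hf S' g
    have : IsProper (pullback.map (f ≫ q) g q g f (𝟙 S') (𝟙 S) (Category.comp_id (f ≫ q))
        ((Category.comp_id g).trans (Category.id_comp g).symm)) :=
      MorphismProperty.of_isPullback (key S' g).flip hf
    exact Scheme.Hom.isClosedMap _
  · intro H
    haveI : IsSeparated f := IsSeparated.of_comp f q
    haveI : LocallyOfFiniteType f := locallyOfFiniteType_of_comp f q
    haveI : QuasiCompact f := QuasiCompact.of_comp f q
    haveI : UniversallyClosed f := by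
      constructor
      intro X' T i₁ i₂ f' sq
      -- g := i₂ ≫ q
      have k := key T (i₂ ≫ q)
      set m := pullback.map (f ≫ q) (i₂ ≫ q) q (i₂ ≫ q) f (𝟙 T) (𝟙 S) (Category.comp_id (f ≫ q))
        ((Category.comp_id (i₂ ≫ q)).trans (Category.id_comp (i₂ ≫ q)).symm) with hm
      let Γ : T ⟶ pullback q (i₂ ≫ q) := pullback.lift i₂ (𝟙 T) (by simp)
      haveI : IsImmersion Γ := by
        haveI : IsImmersion (Γ ≫ pullback.snd q (i₂ ≫ q)) := by
          have : Γ ≫ pullback.snd q (i₂ ≫ q) = 𝟙 T := pullback.lift_snd _ _ _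
          rw [this]; infer_instance
        exact IsImmersion.of_comp Γ (pullback.snd q (i₂ ≫ q))
      -- top square
      have hΓ : Γ ≫ pullback.fst q (i₂ ≫ q) = i₂ := pullback.lift_fst _ _ _
      obtain ⟨l, hl1, hl2⟩ : ∃ l : X' ⟶ pullback (f ≫ q) (i₂ ≫ q), l ≫ m = f' ≫ Γ ∧
          l ≫ pullback.fst (f ≫ q) (i₂ ≫ q) = i₁ :=
        ⟨k.lift (f' ≫ Γ) i₁ (by rw [Category.assoc, hΓ, sq.w]), k.lift_fst _ _ _, k.lift_snd _ _ _⟩
      have sq' : IsPullback f' l Γ m := by
        refine IsPullback.of_bot (v₂₁ := pullback.fst (f ≫ q) (i₂ ≫ q)) (v₂₂ := pullback.fst q (i₂ ≫ q)) (h₃₁ := f) ?_ hl1.symm k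
        rw [hΓ, hl2]
        exact sq
      exact isClosedMap_of_isPullback_of_isEmbedding sq' (H T (i₂ ≫ q))
    constructor

end Groth.Agent.S4378
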