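import Groth.Statements.S4407
import Groth.Agent.Lib.Helper7.QCohPushQC
import Mathlib.AlgebraicGeometry.QuasiAffine

set_option autoImplicit false
universe u
open CategoryTheory CategoryTheory.Limits AlgebraicGeometry
open EGA2

namespace Groth.Agent.S4407

set_option backward.isDefEq.respectTransparency false in
open Scheme.Modules in
/-- A quasi-coherent module on an affine scheme `Spec R` is globally generated. -/
theorem isGloballyGenerated_of_qcoh_spec {R : CommRingCat.{u}} (G : (Spec R).Modules)
    [G.IsQuasicoherent] : Curv2.IsGloballyGenerated G := by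
  have hiso : IsIso G.fromTildeΓ := inferInstance
  have hepi : Epi G.fromTildeΓ := IsIso.epi_of_iso _
  let N : ModuleCat R := (moduleSpecΓFunctor (R := R)).obj G
  let P : (tilde N).Presentation :=
    presentationTilde N Set.univ (by simp) _ (Submodule.span_eq _)
  have h2 : Epi P.generators.π := inferInstance
  exact ⟨P.generators.I, P.generators.π ≫ G.fromTildeΓ, epi_comp _ _⟩

set_option backward.isDefEq.respectTransparency false in
theorem main (X : Scheme.{u}) [X.IsQuasiAffine] (F : X.Modules)
    (hF : Coh.IsQCoh F) : Curv2.IsGloballyGenerated F := by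
  have hF' : F.IsQuasicoherent := hF
  let j := X.toSpecΓ
  have hG : ((Scheme.Modules.pushforward j).obj F).IsQuasicoherent :=
    Groth.Agent.Lib.helper7.QCohPushQC.isQuasicoherent_pushforward j F
  obtain ⟨ι, p, hp⟩ := isGloballyGenerated_of_qcoh_spec ((Scheme.Modules.pushforward j).obj F)
  have hcol : PreservesColimitsOfSize.{u, u} (Scheme.Modules.restrictFunctor j) := inferInstance
  let e1 : (SheafOfModules.free ι : X.Modules) ≅
      (Scheme.Modules.restrictFunctor j).obj (SheafOfModules.free ι) :=
    SheafOfModules.mapFreeIso (Scheme.Modules.restrictFunctor j) ι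
      (Scheme.Modules.restrictUnitIso j).symm
  let e2 : (Scheme.Modules.restrictFunctor j).obj ((Scheme.Modules.pushforward j).obj F) ≅ F :=
    (Scheme.Modules.restrictFunctorAdjCounitIso j).app F
  have hpe : (Scheme.Modules.restrictFunctor j).PreservesEpimorphisms := inferInstance
  have hepi : Epi ((Scheme.Modules.restrictFunctor j).map p) := Functor.map_epi _ p
  have h1 : Epi e1.hom := IsIso.epi_of_iso _
  have h2 : Epi e2.hom := IsIso.epi_of_iso _
  have h3 : Epi ((Scheme.Modules.restrictFunctor j).map p ≫ e2.hom) := epi_comp _ _
  exact ⟨ι, e1.hom ≫ (Scheme.Modules.restrictFunctor j).map p ≫ e2.hom, epi_comp _ _⟩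


/-- (a) ⇒ (e): let X be a quasi-affine scheme. Then every quasi-coherent O_X-module is generated by its
global sections (it is a quotient of a free O_X-module on some index set). -/
theorem result (X : Scheme.{u}) [X.IsQuasiAffine] (F : X.Modules)
    (hF : Coh.IsQCoh F) : Curv2.IsGloballyGenerated F := by
  exact main X F hF

end Groth.Agent.S4407
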