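import Groth.Statements.S4388
import Mathlib
import Groth.Agent.Lib.Helper12.RelAmpleComp
import Groth.Agent.Lib.Helper12.GlobGen
import Groth.Agent.S4407
-- import your own Groth.Agent.* helpers here

set_option autoImplicit false
universe u
open CategoryTheory CategoryTheory.Limits AlgebraicGeometry
open EGA2

namespace Groth.Agent.S4388

/-- Let f : X → Y be a quasi-compact morphism, L an O_X-module ample relative to f and L' an invertible
O_X-module such that, for some n > 0, the canonical morphism f^*(f_*(L'^{⊗n})) → L'^{⊗n} (counit of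
the adjunction between f^* and f_*) is an epimorphism. Then L ⊗ L' is ample relative to f. -/
theorem result {X Y : Scheme.{u}} (f : X ⟶ Y) [QuasiCompact f] (L L' : X.Modules)
    (hL : RelAmple.IsRelAmple f L) (hL' : PicF.IsInvertible L') (n : ℕ) (hn : 0 < n)
    (hepi : Epi ((Scheme.Modules.pullbackPushforwardAdjunction f).counit.app (CohB1.tensorPow L' n))) :
    RelAmple.IsRelAmple f (CohB1.tensorMod L L') := by
  have hsf : IsSeparated f := Groth.Agent.Lib.helper12.AmpleSep.isSeparated_of_isRelAmple f hL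
  obtain ⟨n', rfl⟩ := Nat.exists_eq_succ_of_ne_zero hn.ne'
  let G := CohB1.tensorPow L' (n' + 1)
  have hG : PicF.IsInvertible G := Groth.Agent.Lib.helper12.TensorInv.isInvertible_tensorPow hL' _
  have hGq : G.IsQuasicoherent :=
    Groth.Agent.Lib.helper12.AmpleBasis.isQuasicoherent_of_isInvertible hG
  have hpq : ((Scheme.Modules.pushforward f).obj G).IsQuasicoherent :=
    Groth.Agent.Lib.helper7.QCohPushQC.isQuasicoherent_pushforward f G
  refine ⟨inferInstance, fun V => ?_⟩
  have : IsAffine (↑V.1 : Scheme.{u}) := V.2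
  refine Groth.Agent.Lib.helper12.AmplePow.isAmple_of_iso
    (Groth.Agent.Lib.helper12.TensorRestrict.restrictTensorIso (f ⁻¹ᵁ V.1).ι L L').symm ?_
  refine Groth.Agent.Lib.helper12.AmpleQAff.isAmple_tensorMod_of_cover (hL.2 V)
    (Groth.Agent.Lib.helper11.InvMod.isInvertible_restrict _ hL') fun x => ?_
  -- the restricted counit
  let c := (Scheme.Modules.pullbackPushforwardAdjunction f).counit.app G
  have hcU : Epi ((Scheme.Modules.restrictFunctor (f ⁻¹ᵁ V.1).ι).map c) := inferInstance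
  let ρ := (Groth.Agent.Lib.helper11.InvPullback.pullbackRestrictNatIso f V.1).app
    ((Scheme.Modules.pushforward f).obj G)
  let Q : (↑V.1 : Scheme.{u}).Modules :=
    (Scheme.Modules.restrictFunctor V.1.ι).obj ((Scheme.Modules.pushforward f).obj G)
  have hQ : Q.IsQuasicoherent := inferInstance
  obtain ⟨ι, p, hp⟩ := Groth.Agent.S4407.result (↑V.1 : Scheme.{u}) Q hQ
  have hpe : (Scheme.Modules.pullback (f ∣_ V.1)).PreservesEpimorphisms :=
    Functor.preservesEpimorphisms_of_adjunction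
      (Scheme.Modules.pullbackPushforwardAdjunction (f ∣_ V.1))
  have hp' : Epi ((Scheme.Modules.pullback (f ∣_ V.1)).map p) :=
    @Functor.map_epi _ _ _ _ (Scheme.Modules.pullback (f ∣_ V.1)) hpe _ _ p hp
  let φ := (SheafOfModules.pullbackObjFreeIso (f ∣_ V.1).toRingCatSheafHom ι)
  let π : (SheafOfModules.free ι : (↑(f ⁻¹ᵁ V.1) : Scheme.{u}).Modules) ⟶
      CohB1.tensorPow (L'.restrict (f ⁻¹ᵁ V.1).ι) (n' + 1) :=
    φ.inv ≫ (Scheme.Modules.pullback (f ∣_ V.1)).map p ≫ ρ.inv ≫
      (Scheme.Modules.restrictFunctor (f ⁻¹ᵁ V.1).ι).map c ≫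
        (Groth.Agent.Lib.helper12.AmplePow.restrictTensorPowIso (f ⁻¹ᵁ V.1).ι L' (n' + 1)).hom
  have hπ : Epi π := by
    have h1 : Epi (ρ.inv ≫ (Scheme.Modules.restrictFunctor (f ⁻¹ᵁ V.1).ι).map c ≫
        (Groth.Agent.Lib.helper12.AmplePow.restrictTensorPowIso (f ⁻¹ᵁ V.1).ι L' (n' + 1)).hom) :=
      inferInstance
    have h2 : Epi ((Scheme.Modules.pullback (f ∣_ V.1)).map p ≫ ρ.inv ≫
        (Scheme.Modules.restrictFunctor (f ⁻¹ᵁ V.1).ι).map c ≫
        (Groth.Agent.Lib.helper12.AmplePow.restrictTensorPowIso (f ⁻¹ᵁ V.1).ι L' (n' + 1)).hom) :=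
      @epi_comp _ _ _ _ _ _ hp' _ h1
    exact @epi_comp _ _ _ _ _ φ.inv (IsIso.epi_of_iso _) _ h2
  obtain ⟨i, hi⟩ := Groth.Agent.Lib.helper12.GlobGen.exists_mem_genLocus_of_epi
    (Groth.Agent.Lib.helper12.TensorInv.isInvertible_tensorPow
      (Groth.Agent.Lib.helper11.InvMod.isInvertible_restrict _ hL') (n' + 1)) π x
  exact ⟨n', _, hi⟩

end Groth.Agent.S4388
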