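import Groth.Statements.S4389
import Mathlib

set_option autoImplicit false
universe u
open EGA2

namespace Groth.Agent.S4389



/-- Let S be a ring graded in nonnegative degrees, S_0 its degree-zero subring, S_+ its irrelevant
ideal, and E a set of homogeneous elements of positive degree. Then E generates S_+ as an ideal of S
if and only if E generates S as an S_0-algebra. -/
theorem result {R A : Type u} [CommRing R] [CommRing A] [Algebra R A] (𝒜 : ℕ → Submodule R A) [GradedAlgebra 𝒜]
    (E : Set A) (hE : ∀ e ∈ E, ∃ d : ℕ, 0 < d ∧ e ∈ 𝒜 d) :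
    (HomogeneousIdeal.irrelevant 𝒜).toIdeal = Ideal.span E ↔ Algebra.adjoin (𝒜 0) E = ⊤ := by
  classical
  have hEirr : ∀ e ∈ E, e ∈ (HomogeneousIdeal.irrelevant 𝒜).toIdeal := by
    intro e he
    obtain ⟨d, hd, hed⟩ := hE e he
    exact HomogeneousIdeal.mem_irrelevant_of_mem 𝒜 hd hed
  constructor
  · intro h
    have key : ∀ n : ℕ, ∀ a ∈ 𝒜 n, a ∈ Algebra.adjoin (𝒜 0) E := by
      intro n
      induction n using Nat.strong_induction_on with
      | _ n ih =>
        intro a ha
        rcases Nat.eq_zero_or_pos n with rfl | hn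
        · exact (Algebra.adjoin (𝒜 0) E).algebraMap_mem ⟨a, ha⟩
        · have hairr : a ∈ Ideal.span E := h ▸ HomogeneousIdeal.mem_irrelevant_of_mem 𝒜 hn ha
          obtain ⟨f, t, htE, -, hsum⟩ := Submodule.mem_span_iff_exists_finset_subset.1 hairr
          have h1 : a = ((DirectSum.decompose 𝒜 a n : 𝒜 n) : A) :=
            (DirectSum.decompose_of_mem_same 𝒜 ha).symm
          rw [h1, ← hsum, DirectSum.decompose_sum, DFinsupp.finsetSum_apply,
            AddSubmonoidClass.coe_finsetSum]
          apply Subalgebra.sum_mem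
          intro e het
          obtain ⟨d, hd, hed⟩ := hE e (htE het)
          rw [smul_eq_mul, DirectSum.coe_decompose_mul_of_right_mem 𝒜 n hed]
          split_ifs with hdn
          · exact (Algebra.adjoin (𝒜 0) E).mul_mem (ih (n - d) (by omega) _ (SetLike.coe_mem _))
              (Algebra.subset_adjoin (htE het))
          · exact (Algebra.adjoin (𝒜 0) E).zero_mem
    rw [eq_top_iff]
    intro x _
    rw [← DirectSum.sum_support_decompose 𝒜 x]
    apply Subalgebra.sum_mem
    intro i _
    exact key i _ (SetLike.coe_mem _)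
  · intro h
    apply le_antisymm _ (Ideal.span_le.2 hEirr)
    intro a ha
    have hdec : ∀ x ∈ Algebra.adjoin (𝒜 0) E, ∃ x₀ ∈ 𝒜 0, x - x₀ ∈ Ideal.span E := by
      intro x hx
      induction hx using Algebra.adjoin_induction with
      | mem e he => exact ⟨0, Submodule.zero_mem _, by simpa using Ideal.subset_span he⟩
      | algebraMap r => exact ⟨r, r.2, by simp [show algebraMap (𝒜 0) A r = (r : A) from rfl]⟩
      | add x y _ _ hx hy =>
        obtain ⟨x₀, hx₀, hx'⟩ := hx
        obtain ⟨y₀, hy₀, hy'⟩ := hy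
        refine ⟨x₀ + y₀, Submodule.add_mem _ hx₀ hy₀, ?_⟩
        have : x + y - (x₀ + y₀) = (x - x₀) + (y - y₀) := by ring
        rw [this]
        exact Ideal.add_mem _ hx' hy'
      | mul x y _ _ hx hy =>
        obtain ⟨x₀, hx₀, hx'⟩ := hx
        obtain ⟨y₀, hy₀, hy'⟩ := hy
        refine ⟨x₀ * y₀, by simpa using SetLike.mul_mem_graded hx₀ hy₀, ?_⟩
        have : x * y - x₀ * y₀ = (x - x₀) * y + x₀ * (y - y₀) := by ring
        rw [this]
        exact Ideal.add_mem _ (Ideal.mul_mem_right _ _ hx') (Ideal.mul_mem_left _ _ hy')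
    obtain ⟨a₀, ha₀, has⟩ := hdec a (h ▸ Algebra.mem_top)
    have hs_irr : a - a₀ ∈ (HomogeneousIdeal.irrelevant 𝒜).toIdeal := Ideal.span_le.2 hEirr has
    have ha₀_irr : a₀ ∈ (HomogeneousIdeal.irrelevant 𝒜).toIdeal := by
      have : a₀ = a - (a - a₀) := by ring
      rw [this]
      exact Ideal.sub_mem _ ha hs_irr
    have ha₀0 : a₀ = 0 := by
      have h1 : GradedRing.proj 𝒜 0 a₀ = 0 := (HomogeneousIdeal.mem_irrelevant_iff 𝒜 a₀).1 ha₀_irr
      rw [GradedRing.proj_apply, DirectSum.decompose_of_mem_same 𝒜 ha₀] at h1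
      exact h1
    rw [ha₀0, sub_zero] at has
    exact has

end Groth.Agent.S4389
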