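import Groth.Statements.S4390
import Mathlib.RingTheory.GradedAlgebra.FiniteType
-- import your own Groth.Agent.* helpers here

set_option autoImplicit false
universe u
open EGA2

namespace Groth.Agent.S4390

open DirectSum in
/-- If the irrelevant ideal is finitely generated, the graded ring is of finite type over degree 0. -/
theorem finiteType_of_fg {R A : Type u} [CommRing R] [CommRing A] [Algebra R A]
    (𝒜 : ℕ → Submodule R A) [GradedAlgebra 𝒜]
    (h : (HomogeneousIdeal.irrelevant 𝒜).toIdeal.FG) : Algebra.FiniteType (𝒜 0) A := by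
  classical
  obtain ⟨s, hs⟩ := h
  -- all homogeneous components of elements of `s`
  let T : Finset A := s.biUnion fun x =>
    (decompose 𝒜 x).support.image fun j => (decompose 𝒜 x j : A)
  have hT : ∀ x ∈ s, ∀ j, (decompose 𝒜 x j : A) ∈ Algebra.adjoin (𝒜 0) (T : Set A) := by
    intro x hx j
    by_cases hj : j ∈ (decompose 𝒜 x).support
    · apply Algebra.subset_adjoin
      simp only [T, Finset.coe_biUnion, Finset.coe_image, Set.mem_iUnion, Set.mem_image]
      exact ⟨x, hx, j, hj, rfl⟩
    · rw [DFinsupp.notMem_support_iff.mp hj]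
      exact zero_mem _
  have key : ∀ n : ℕ, ∀ a ∈ 𝒜 n, a ∈ Algebra.adjoin (𝒜 0) (T : Set A) := by
    intro n
    induction n using Nat.strong_induction_on with
    | _ n ih =>
      intro a ha
      rcases Nat.eq_zero_or_pos n with rfl | hn
      · exact Subalgebra.algebraMap_mem _ (⟨a, ha⟩ : 𝒜 0)
      · have ha' : a ∈ Ideal.span (s : Set A) := by
          rw [hs]
          exact HomogeneousIdeal.mem_irrelevant_of_mem 𝒜 hn ha
        obtain ⟨c, hc⟩ := (Submodule.mem_span_finset).1 ha'
        obtain ⟨-, hc⟩ := hc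
        have h1 : a = (decompose 𝒜 a n : A) := (decompose_of_mem_same 𝒜 ha).symm
        rw [h1, ← hc, decompose_sum, DFinsupp.finsetSum_apply, AddSubmonoidClass.coe_finsetSum]
        refine Subalgebra.sum_mem _ fun x hx => ?_
        rw [smul_eq_mul, decompose_mul, coe_mul_apply_eq_sum_antidiagonal]
        refine Subalgebra.sum_mem _ fun ij hij => ?_
        rw [Finset.mem_antidiagonal] at hij
        by_cases hj : ij.2 = 0
        · have hx' : x ∈ (HomogeneousIdeal.irrelevant 𝒜).toIdeal := by
            rw [← hs]; exact Ideal.subset_span hx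
          have : (decompose 𝒜 x ij.2 : A) = 0 := by
            rw [hj]
            exact (HomogeneousIdeal.mem_irrelevant_iff 𝒜 x).1 hx'
          rw [this, mul_zero]
          exact zero_mem _
        · refine Subalgebra.mul_mem _ (ih ij.1 (by omega) _ (SetLike.coe_mem _)) (hT x hx _)
  refine ⟨⟨T, ?_⟩⟩
  rw [eq_top_iff]
  intro a _
  rw [← sum_support_decompose 𝒜 a]
  exact Subalgebra.sum_mem _ fun j _ => key j _ (SetLike.coe_mem _)


open DirectSum in
theorem fg_of_finiteType {R A : Type u} [CommRing R] [CommRing A] [Algebra R A]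
    (𝒜 : ℕ → Submodule R A) [GradedAlgebra 𝒜]
    [Algebra.FiniteType (𝒜 0) A] : (HomogeneousIdeal.irrelevant 𝒜).toIdeal.FG := by
  classical
  obtain ⟨s, hs, hs'⟩ := GradedAlgebra.exists_finset_adjoin_eq_top_and_homogeneous_ne_zero 𝒜
  refine ⟨s, le_antisymm ?_ ?_⟩
  · rw [Ideal.span_le]
    intro x hx
    obtain ⟨n, hn, hxn⟩ := hs' x hx
    exact HomogeneousIdeal.mem_irrelevant_of_mem 𝒜 (Nat.pos_of_ne_zero hn) hxn
  · intro a ha
    have hmem : a ∈ Algebra.adjoin (𝒜 0) (s : Set A) := by rw [hs]; trivial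
    have key : ∀ b ∈ Algebra.adjoin (𝒜 0) (s : Set A),
        ∃ b₀ ∈ 𝒜 0, b - b₀ ∈ Ideal.span (s : Set A) := by
      intro b hb
      induction hb using Algebra.adjoin_induction with
      | mem x hx => exact ⟨0, zero_mem _, by rw [sub_zero]; exact Ideal.subset_span hx⟩
      | algebraMap r => exact ⟨r.1, r.2, by
          rw [show algebraMap (𝒜 0) A r = r.1 from rfl, sub_self]; exact zero_mem _⟩
      | add x y _ _ hx hy =>
        obtain ⟨x₀, hx₀, hx⟩ := hx
        obtain ⟨y₀, hy₀, hy⟩ := hy
        refine ⟨x₀ + y₀, add_mem hx₀ hy₀, ?_⟩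
        have : x + y - (x₀ + y₀) = (x - x₀) + (y - y₀) := by ring
        rw [this]
        exact add_mem hx hy
      | mul x y _ _ hx hy =>
        obtain ⟨x₀, hx₀, hx⟩ := hx
        obtain ⟨y₀, hy₀, hy⟩ := hy
        refine ⟨x₀ * y₀, ?_, ?_⟩
        · have := SetLike.mul_mem_graded hx₀ hy₀
          rwa [add_zero] at this
        · have : x * y - x₀ * y₀ = (x - x₀) * y + x₀ * (y - y₀) := by ring
          rw [this]
          exact add_mem (Ideal.mul_mem_right _ _ hx) (Ideal.mul_mem_left _ _ hy)
    obtain ⟨a₀, ha₀, hd⟩ := key a hmem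
    have hd' : a - a₀ ∈ (HomogeneousIdeal.irrelevant 𝒜).toIdeal := by
      refine (Ideal.span_le.2 ?_) hd
      intro x hx
      obtain ⟨n, hn, hxn⟩ := hs' x hx
      exact HomogeneousIdeal.mem_irrelevant_of_mem 𝒜 (Nat.pos_of_ne_zero hn) hxn
    have h0 : a₀ ∈ (HomogeneousIdeal.irrelevant 𝒜).toIdeal := by
      have : a₀ = a - (a - a₀) := by ring
      rw [this]
      exact sub_mem ha hd'
    have h0' : a₀ = 0 := by
      have := (HomogeneousIdeal.mem_irrelevant_iff 𝒜 a₀).1 h0
      rwa [GradedRing.proj_apply, decompose_of_mem_same 𝒜 ha₀] at this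
    rw [h0', sub_zero] at hd
    exact hd

/-- Let S be a ring graded in nonnegative degrees. Then the irrelevant ideal S_+ is a finitely generated
ideal if and only if S is an S_0-algebra of finite type. -/
theorem result {R A : Type u} [CommRing R] [CommRing A] [Algebra R A] (𝒜 : ℕ → Submodule R A) [GradedAlgebra 𝒜] :
    (HomogeneousIdeal.irrelevant 𝒜).toIdeal.FG ↔ Algebra.FiniteType (𝒜 0) A := by
  constructor
  · exact finiteType_of_fg 𝒜
  · intro h
    exact fg_of_finiteType 𝒜

end Groth.Agent.S4390
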