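import Groth.Statements.S4392
import Mathlib
import Groth.Agent.Lib.Helper6.SNat2
import Groth.Agent.Lib.Helper6.GrMod

set_option autoImplicit false
universe u
open EGA2

namespace Groth.Agent.S4392



/-- Let S be a ring graded in nonnegative degrees which is an S_0-algebra of finite type, and M a
finitely generated graded S-module, graded in nonnegative degrees. Then there exist an integer n₁
and an integer h > 0 such that M_{n+h} = S_h M_n for every n ≥ n₁. (The published statement allows M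
graded in all integer degrees; this row takes M graded in nonnegative degrees.) -/
theorem result {R A : Type u} [CommRing R] [CommRing A] [Algebra R A] (𝒜 : ℕ → Submodule R A) [GradedAlgebra 𝒜] [Algebra.FiniteType (𝒜 0) A]
    {M : Type u} [AddCommGroup M] [Module R M] [Module A M] [IsScalarTower R A M] (ℳ : ℕ → Submodule R M) [DirectSum.Decomposition ℳ] [SetLike.GradedSMul 𝒜 ℳ] [Module.Finite A M] :
    ∃ (n₁ h : ℕ), 0 < h ∧ ∀ n : ℕ, n₁ ≤ n → ℳ (n + h) = (𝒜 h : Submodule R A) • (ℳ n : Submodule R M) := by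
  classical
  obtain ⟨s, hs, hs'⟩ := GradedAlgebra.exists_finset_adjoin_eq_top_and_homogeneous_ne_zero 𝒜
  choose! d hd0 hd using hs'
  have hI := Groth.Agent.Lib.Helper6.SNat.mem_span_of_adjoin_eq_top 𝒜 s d hd hs
  set q : ℕ := ∏ f ∈ s, d f with hq
  have hqpos : 0 < q := Finset.prod_pos fun f hf => Nat.pos_of_ne_zero (hd0 f hf)
  have hdq : ∀ f ∈ s, d f ∣ q := fun f hf => Finset.dvd_prod_of_mem d hf
  have hdle : ∀ f ∈ s, d f ≤ q := fun f hf => Nat.le_of_dvd hqpos (hdq f hf)
  let TR : Finset A := s.image fun f => f ^ (q / d f)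
  have hTR : ∀ t ∈ TR, t ∈ 𝒜 q := by
    intro t ht
    obtain ⟨f, hf, rfl⟩ := Finset.mem_image.mp ht
    have h := SetLike.pow_mem_graded (q / d f) (hd f hf)
    rwa [smul_eq_mul, Nat.div_mul_cancel (hdq f hf)] at h
  have hrad : Ideal.span (s : Set A) ≤ (Ideal.span (TR : Set A)).radical := by
    refine Ideal.span_le.mpr fun f hf => ?_
    exact ⟨q / d f, Ideal.subset_span
      (Finset.mem_coe.mpr (Finset.mem_image.mpr ⟨f, Finset.mem_coe.mp hf, rfl⟩))⟩
  obtain ⟨k, hk⟩ := Ideal.exists_pow_le_of_le_radical_of_fg hrad ⟨s, rfl⟩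
  have claim : ∀ k N, k * q ≤ N → ∀ a ∈ 𝒜 N, a ∈ Ideal.span (s : Set A) ^ k := by
    intro k
    induction k with
    | zero =>
      intro N _ a _
      rw [pow_zero, Ideal.one_eq_top]
      trivial
    | succ k ih =>
      intro N hN a ha
      have hN1 : 1 ≤ N := by
        have : q ≤ (k+1) * q := Nat.le_mul_of_pos_left q (Nat.succ_pos k)
        omega
      obtain ⟨b, hb, -, hab⟩ := Groth.Agent.Lib.Helper6.SNat.exists_homogeneous_coeffs 𝒜 s d hd ha
        (hI N hN1 a ha)
      rw [hab, pow_succ]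
      refine Ideal.sum_mem _ fun f hf => Ideal.mul_mem_mul (ih (N - d f) ?_ (b f) (hb f hf))
        (Ideal.subset_span (Finset.mem_coe.mpr hf))
      have := hdle f hf
      rw [Nat.succ_mul] at hN
      omega
  have step : ∀ N, k * q ≤ N → q ≤ N → 𝒜 N ≤ 𝒜 q * 𝒜 (N - q) := by
    intro N hN hqN a ha
    have haJ : a ∈ Ideal.span (TR : Set A) := hk (claim k N hN a ha)
    obtain ⟨b, hb, -, hab⟩ := Groth.Agent.Lib.Helper6.SNat.exists_homogeneous_coeffs 𝒜 TR
      (fun _ => q) hTR ha haJ
    rw [hab]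
    refine Submodule.sum_mem _ fun t ht => ?_
    rw [mul_comm (b t) t]
    exact Submodule.mul_mem_mul (hTR t ht) (hb t ht)
  obtain ⟨G, hG⟩ := (Module.Finite.fg_top : (⊤ : Submodule A M).FG)
  set TM : Finset M := G.biUnion (fun g => (DirectSum.decompose ℳ g).support.image
    (fun j => ((DirectSum.decompose ℳ g j : ℳ j) : M))) with hTM
  have hThom : ∀ t ∈ TM, ∃ j, t ∈ ℳ j := by
    intro t ht
    rw [hTM, Finset.mem_biUnion] at ht
    obtain ⟨g, _, ht⟩ := ht
    rw [Finset.mem_image] at ht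
    obtain ⟨j, _, rfl⟩ := ht
    exact ⟨j, SetLike.coe_mem _⟩
  choose! e he using hThom
  have hTspan : Submodule.span A (TM : Set M) = ⊤ := by
    rw [eq_top_iff, ← hG, Submodule.span_le]
    intro g hg
    rw [SetLike.mem_coe, ← DirectSum.sum_support_decompose ℳ g]
    refine Submodule.sum_mem _ (fun j hj => Submodule.subset_span ?_)
    rw [hTM, Finset.mem_coe, Finset.mem_biUnion]
    exact ⟨g, hg, Finset.mem_image_of_mem _ hj⟩
  refine ⟨TM.sup e + k * q, q, hqpos, ?_⟩
  intro n hn
  apply le_antisymm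
  · intro x hx
    have hxtop : x ∈ Submodule.span A (TM : Set M) := by rw [hTspan]; trivial
    obtain ⟨c, -, hc⟩ := Submodule.mem_span_finset.mp hxtop
    have e1 : ((DirectSum.decompose ℳ x (n + q) : ℳ (n + q)) : M) = x :=
      DirectSum.decompose_of_mem_same ℳ hx
    rw [← e1, ← hc, Groth.Agent.Lib.Helper6.GrMod.coe_decompose_sum]
    refine Submodule.sum_mem _ (fun t ht => ?_)
    rw [Groth.Agent.Lib.Helper6.GrMod.decompose_smul_right 𝒜 ℳ (c t) (he t ht) (n + q)]
    have hle : e t ≤ TM.sup e := Finset.le_sup ht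
    rw [if_pos (by omega)]
    have hmem : (DirectSum.decompose 𝒜 (c t) (n + q - e t) : A) ∈
        𝒜 q * 𝒜 (n + q - e t - q) :=
      step (n + q - e t) (by omega) (by omega) (SetLike.coe_mem _)
    have hsub : n + q - e t - q = n - e t := by omega
    rw [hsub] at hmem
    refine Submodule.mul_induction_on hmem ?_ ?_
    · intro a ha b hb
      rw [mul_smul]
      refine Submodule.smul_mem_smul ha ?_
      have h1 : b • t ∈ ℳ ((n - e t) +ᵥ e t) := SetLike.GradedSMul.smul_mem hb (he t ht)
      rw [vadd_eq_add, Nat.sub_add_cancel (by omega)] at h1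
      exact h1
    · intro a b ha hb
      rw [add_smul]; exact add_mem ha hb
  · rw [Submodule.smul_le]
    intro a ha m hm
    have h1 : a • m ∈ ℳ (q +ᵥ n) := SetLike.GradedSMul.smul_mem ha hm
    rw [vadd_eq_add, add_comm] at h1
    exact h1


end Groth.Agent.S4392
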