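import Groth.Statements.S4393
import Mathlib
import Groth.Agent.Lib.Helper6.SNat2

set_option autoImplicit false
universe u
open EGA2

namespace Groth.Agent.S4393


open DirectSum in
theorem pow_le_graded {R A : Type u} [CommRing R] [CommRing A] [Algebra R A]
    (𝒜 : ℕ → Submodule R A) [GradedAlgebra 𝒜] (q c : ℕ) : (𝒜 q) ^ c ≤ 𝒜 (c * q) := by
  induction c with
  | zero =>
    rw [pow_zero, zero_mul, Submodule.one_le]
    exact SetLike.GradedOne.one_mem
  | succ c ih =>
    rw [pow_succ, Nat.succ_mul]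
    exact Submodule.mul_le.mpr fun a ha b hb => SetLike.mul_mem_graded (ih ha) hb


/-- Let S be a ring graded in nonnegative degrees which is an S_0-algebra of finite type. Then there is
an integer h > 0 such that S_{mh} = (S_h)^m (the S_0-submodule spanned by m-fold products of
elements of S_h) for every m > 0. -/
theorem result {R A : Type u} [CommRing R] [CommRing A] [Algebra R A] (𝒜 : ℕ → Submodule R A) [GradedAlgebra 𝒜] [Algebra.FiniteType (𝒜 0) A] :
    ∃ h : ℕ, 0 < h ∧ ∀ m : ℕ, 0 < m → 𝒜 (m * h) = (𝒜 h : Submodule R A) ^ m := by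
  classical
  obtain ⟨s, hs, hs'⟩ := GradedAlgebra.exists_finset_adjoin_eq_top_and_homogeneous_ne_zero 𝒜
  choose! d hd0 hd using hs'
  have hI := Groth.Agent.Lib.Helper6.SNat.mem_span_of_adjoin_eq_top 𝒜 s d hd hs
  set q : ℕ := ∏ f ∈ s, d f with hq
  have hqpos : 0 < q := Finset.prod_pos fun f hf => Nat.pos_of_ne_zero (hd0 f hf)
  have hdq : ∀ f ∈ s, d f ∣ q := fun f hf => Finset.dvd_prod_of_mem d hf
  have hdle : ∀ f ∈ s, d f ≤ q := fun f hf => Nat.le_of_dvd hqpos (hdq f hf)
  let T : Finset A := s.image fun f => f ^ (q / d f)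
  have hT : ∀ t ∈ T, t ∈ 𝒜 q := by
    intro t ht
    obtain ⟨f, hf, rfl⟩ := Finset.mem_image.mp ht
    have h := SetLike.pow_mem_graded (q / d f) (hd f hf)
    rwa [smul_eq_mul, Nat.div_mul_cancel (hdq f hf)] at h
  have hrad : Ideal.span (s : Set A) ≤ (Ideal.span (T : Set A)).radical := by
    refine Ideal.span_le.mpr fun f hf => ?_
    exact ⟨q / d f, Ideal.subset_span
      (Finset.mem_coe.mpr (Finset.mem_image.mpr ⟨f, Finset.mem_coe.mp hf, rfl⟩))⟩
  obtain ⟨k, hk⟩ := Ideal.exists_pow_le_of_le_radical_of_fg hrad ⟨s, rfl⟩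
  have claim : ∀ k N, k * q ≤ N → ∀ a ∈ 𝒜 N, a ∈ Ideal.span (s : Set A) ^ k := by
    intro k
    induction k with
    | zero =>
      intro N _ a _
      rw [pow_zero, Ideal.one_eq_top]
      trivial
    | succ k ih =>
      intro N hN a ha
      have hN1 : 1 ≤ N := by
        have : q ≤ (k+1) * q := Nat.le_mul_of_pos_left q (Nat.succ_pos k)
        omega
      obtain ⟨b, hb, -, hab⟩ := Groth.Agent.Lib.Helper6.SNat.exists_homogeneous_coeffs 𝒜 s d hd ha
        (hI N hN1 a ha)
      rw [hab, pow_succ]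
      refine Ideal.sum_mem _ fun f hf => Ideal.mul_mem_mul (ih (N - d f) ?_ (b f) (hb f hf))
        (Ideal.subset_span (Finset.mem_coe.mpr hf))
      have := hdle f hf
      rw [Nat.succ_mul] at hN
      omega
  have step : ∀ N, k * q ≤ N → q ≤ N → 𝒜 N ≤ 𝒜 q * 𝒜 (N - q) := by
    intro N hN hqN a ha
    have haJ : a ∈ Ideal.span (T : Set A) := hk (claim k N hN a ha)
    obtain ⟨b, hb, -, hab⟩ := Groth.Agent.Lib.Helper6.SNat.exists_homogeneous_coeffs 𝒜 T
      (fun _ => q) hT ha haJ
    rw [hab]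
    refine Submodule.sum_mem _ fun t ht => ?_
    rw [mul_comm (b t) t]
    exact Submodule.mul_mem_mul (hT t ht) (hb t ht)
  have step2 : ∀ n, k * q ≤ n → ∀ j, 𝒜 (n + j * q) ≤ (𝒜 q) ^ j * 𝒜 n := by
    intro n hn j
    induction j with
    | zero => rw [zero_mul, add_zero, pow_zero, one_mul]
    | succ j ih =>
      have h1 := step (n + (j+1) * q) (by omega) (by rw [Nat.succ_mul]; omega)
      have h2 : n + (j+1) * q - q = n + j * q := by rw [Nat.succ_mul]; omega
      rw [h2] at h1
      refine h1.trans ?_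
      rw [pow_succ', mul_assoc]
      exact mul_le_mul' le_rfl ih
  refine ⟨(k+1) * q, Nat.mul_pos (Nat.succ_pos k) hqpos, ?_⟩
  intro m hm
  refine le_antisymm ?_ (pow_le_graded 𝒜 _ m)
  induction m with
  | zero => omega
  | succ m ih =>
    rcases Nat.eq_zero_or_pos m with rfl | hmpos
    · rw [zero_add, one_mul, pow_one]
    · have ih' := ih hmpos
      have e : (m + 1) * ((k+1) * q) = m * ((k+1)*q) + (k+1) * q := Nat.succ_mul _ _
      rw [e]
      refine (step2 (m * ((k+1)*q)) ?_ (k+1)).trans ?_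
      · calc k * q ≤ (k+1) * q := Nat.mul_le_mul_right q (Nat.le_succ k)
          _ ≤ m * ((k+1) * q) := Nat.le_mul_of_pos_left _ hmpos
      · rw [pow_succ' (𝒜 ((k+1) * q)) m]
        exact mul_le_mul' (pow_le_graded 𝒜 q (k+1)) ih'


end Groth.Agent.S4393
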