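import Groth.Statements.S4394
import Groth.Agent.S4390
-- import your own Groth.Agent.* helpers here

set_option autoImplicit false
universe u
open EGA2

namespace Groth.Agent.S4394

open DirectSum in
/-- homogeneous generators of positive degree for the irrelevant ideal. -/
theorem exists_homogeneous_span {R A : Type u} [CommRing R] [CommRing A] [Algebra R A]
    (𝒜 : ℕ → Submodule R A) [GradedAlgebra 𝒜] [Algebra.FiniteType (𝒜 0) A] :
    ∃ s : Finset A, Ideal.span (s : Set A) = (HomogeneousIdeal.irrelevant 𝒜).toIdeal ∧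
      ∀ i ∈ s, ∃ n ≠ 0, i ∈ 𝒜 n := by
  classical
  obtain ⟨s, hs, hs'⟩ := GradedAlgebra.exists_finset_adjoin_eq_top_and_homogeneous_ne_zero 𝒜
  refine ⟨s, le_antisymm ?_ ?_, hs'⟩
  · rw [Ideal.span_le]
    intro x hx
    obtain ⟨n, hn, hxn⟩ := hs' x hx
    exact HomogeneousIdeal.mem_irrelevant_of_mem 𝒜 (Nat.pos_of_ne_zero hn) hxn
  · intro a ha
    have hmem : a ∈ Algebra.adjoin (𝒜 0) (s : Set A) := by rw [hs]; trivial
    have key : ∀ b ∈ Algebra.adjoin (𝒜 0) (s : Set A),
        ∃ b₀ ∈ 𝒜 0, b - b₀ ∈ Ideal.span (s : Set A) := by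
      intro b hb
      induction hb using Algebra.adjoin_induction with
      | mem x hx => exact ⟨0, zero_mem _, by rw [sub_zero]; exact Ideal.subset_span hx⟩
      | algebraMap r => exact ⟨r.1, r.2, by
          rw [show algebraMap (𝒜 0) A r = r.1 from rfl, sub_self]; exact zero_mem _⟩
      | add x y _ _ hx hy =>
        obtain ⟨x₀, hx₀, hx⟩ := hx
        obtain ⟨y₀, hy₀, hy⟩ := hy
        refine ⟨x₀ + y₀, add_mem hx₀ hy₀, ?_⟩
        have : x + y - (x₀ + y₀) = (x - x₀) + (y - y₀) := by ring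
        rw [this]
        exact add_mem hx hy
      | mul x y _ _ hx hy =>
        obtain ⟨x₀, hx₀, hx⟩ := hx
        obtain ⟨y₀, hy₀, hy⟩ := hy
        refine ⟨x₀ * y₀, ?_, ?_⟩
        · have := SetLike.mul_mem_graded hx₀ hy₀
          rwa [add_zero] at this
        · have : x * y - x₀ * y₀ = (x - x₀) * y + x₀ * (y - y₀) := by ring
          rw [this]
          exact add_mem (Ideal.mul_mem_right _ _ hx) (Ideal.mul_mem_left _ _ hy)
    obtain ⟨a₀, ha₀, hd⟩ := key a hmem
    have hd' : a - a₀ ∈ (HomogeneousIdeal.irrelevant 𝒜).toIdeal := by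
      refine (Ideal.span_le.2 ?_) hd
      intro x hx
      obtain ⟨n, hn, hxn⟩ := hs' x hx
      exact HomogeneousIdeal.mem_irrelevant_of_mem 𝒜 (Nat.pos_of_ne_zero hn) hxn
    have h0 : a₀ ∈ (HomogeneousIdeal.irrelevant 𝒜).toIdeal := by
      have : a₀ = a - (a - a₀) := by ring
      rw [this]
      exact sub_mem ha hd'
    have h0' : a₀ = 0 := by
      have := (HomogeneousIdeal.mem_irrelevant_iff 𝒜 a₀).1 h0
      rwa [GradedRing.proj_apply, decompose_of_mem_same 𝒜 ha₀] at this
    rw [h0', sub_zero] at hd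
    exact hd

open DirectSum in
/-- Let S be a ring graded in nonnegative degrees which is an S_0-algebra of finite type. Then for every
integer n > 0 there is m₀ such that S_m ⊆ (S_+)^n for all m ≥ m₀. -/
theorem result {R A : Type u} [CommRing R] [CommRing A] [Algebra R A] (𝒜 : ℕ → Submodule R A) [GradedAlgebra 𝒜] [Algebra.FiniteType (𝒜 0) A]
    (n : ℕ) (hn : 0 < n) :
    ∃ m₀ : ℕ, ∀ m : ℕ, m₀ ≤ m → (𝒜 m : Set A) ⊆ ((HomogeneousIdeal.irrelevant 𝒜).toIdeal ^ n : Ideal A) := by
  classical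
  obtain ⟨s, hs, hs'⟩ := exists_homogeneous_span 𝒜
  choose! deg hdeg0 hdeg using hs'
  set D := s.sup deg with hD
  have hle : ∀ y ∈ s, deg y ≤ D := fun y hy => Finset.le_sup hy
  have key : ∀ k : ℕ, ∀ m : ℕ, k * D + 1 ≤ m →
      (𝒜 m : Set A) ⊆ ((HomogeneousIdeal.irrelevant 𝒜).toIdeal ^ (k + 1) : Ideal A) := by
    intro k
    induction k with
    | zero =>
      intro m hm a ha
      rw [zero_add, pow_one]
      exact HomogeneousIdeal.mem_irrelevant_of_mem 𝒜 (by omega) ha
    | succ k ih =>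
      intro m hm a ha
      have ha' : a ∈ Ideal.span (s : Set A) := by
        rw [hs]
        exact HomogeneousIdeal.mem_irrelevant_of_mem 𝒜 (by omega) ha
      obtain ⟨c, -, hc⟩ := (Submodule.mem_span_finset).1 ha'
      have h1 : a = (decompose 𝒜 a m : A) := (decompose_of_mem_same 𝒜 ha).symm
      rw [SetLike.mem_coe, h1, ← hc, decompose_sum, DFinsupp.finsetSum_apply,
        AddSubmonoidClass.coe_finsetSum]
      refine Ideal.sum_mem _ fun y hy => ?_
      rw [smul_eq_mul]
      by_cases hym : deg y ≤ m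
      · rw [coe_decompose_mul_of_right_mem_of_le 𝒜 (hdeg y hy) hym, pow_succ]
        refine Ideal.mul_mem_mul ?_ ?_
        · refine ih (m - deg y) ?_ (SetLike.coe_mem _)
          have := hle y hy
          have h2 : (k + 1) * D = k * D + D := by ring
          omega
        · rw [← hs]; exact Ideal.subset_span hy
      · rw [coe_decompose_mul_of_right_mem_of_not_le 𝒜 (hdeg y hy) hym]
        exact zero_mem _
  refine ⟨(n - 1) * D + 1, fun m hm => ?_⟩
  have := key (n - 1) m hm
  rwa [Nat.sub_add_cancel hn] at this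

end Groth.Agent.S4394
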