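import Groth.Statements.S4395
import Mathlib

set_option autoImplicit false
universe u
open EGA2

namespace Groth.Agent.S4395

section Helpers

open DirectSum GradedRing

section

variable {R A : Type u} [CommRing R] [CommRing A] [Algebra R A] (𝒜 : ℕ → Submodule R A) [GradedAlgebra 𝒜]
  (n₀ : ℕ) (p : ℕ → AddSubgroup A)
  (H1 : ∀ m n : ℕ, n₀ ≤ n → ∀ a ∈ 𝒜 m, ∀ b ∈ p n, a * b ∈ p (m + n))
  (f : A) (n₁ : ℕ) (hn₁ : n₀ ≤ n₁)

/-- the ideal of elements all of whose components are pushed into `p` by `f`. -/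
def tailIdeal : Ideal A where
  carrier := {x | ∀ m, f * (decompose 𝒜 x m : A) ∈ p (n₁ + m)}
  add_mem' := by
    intro x y hx hy m
    rw [decompose_add, DirectSum.add_apply, Submodule.coe_add, mul_add]
    exact add_mem (hx m) (hy m)
  zero_mem' := by
    intro m
    simp
  smul_mem' := by
    intro c x hx
    induction c using DirectSum.Decomposition.inductionOn 𝒜 with
    | zero => 
      intro m
      simp
    | homogeneous c =>
      rename_i k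
      intro m
      rw [smul_eq_mul]
      by_cases hkm : k ≤ m
      · rw [coe_decompose_mul_of_left_mem_of_le 𝒜 c.2 hkm]
        have h1 := H1 k (n₁ + (m - k)) (by omega) c.1 c.2 _ (hx (m - k))
        have e : k + (n₁ + (m - k)) = n₁ + m := by omega
        rw [e] at h1
        convert h1 using 1
        ring
      · rw [coe_decompose_mul_of_left_mem_of_not_le 𝒜 c.2 hkm, mul_zero]
        exact zero_mem _
    | add c c' hc hc' =>
      intro m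
      rw [add_smul, decompose_add, DirectSum.add_apply, Submodule.coe_add, mul_add]
      exact add_mem (hc m) (hc' m)


variable {𝒜 n₀ p f n₁}

theorem mem_tailIdeal_iff (x : A) :
    x ∈ tailIdeal 𝒜 n₀ p H1 f n₁ hn₁ ↔ ∀ m, f * (decompose 𝒜 x m : A) ∈ p (n₁ + m) := Iff.rfl

theorem mem_tailIdeal_of_mem {n : ℕ} {x : A} (hx : x ∈ 𝒜 n) :
    x ∈ tailIdeal 𝒜 n₀ p H1 f n₁ hn₁ ↔ f * x ∈ p (n₁ + n) := by
  rw [mem_tailIdeal_iff]
  constructor
  · intro h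
    have := h n
    rwa [decompose_of_mem_same 𝒜 hx] at this
  · intro h m
    by_cases hm : m = n
    · subst hm
      rwa [decompose_of_mem_same 𝒜 hx]
    · rw [decompose_of_mem_ne 𝒜 hx (Ne.symm hm), mul_zero]
      exact zero_mem _

theorem tailIdeal_isHomogeneous : (tailIdeal 𝒜 n₀ p H1 f n₁ hn₁).IsHomogeneous 𝒜 := by
  intro i x hx
  rw [mem_tailIdeal_of_mem H1 hn₁ (SetLike.coe_mem _)]
  exact hx i

end


theorem exists_homogeneous_not_mem {R A : Type u} [CommRing R] [CommRing A] [Algebra R A]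
    (𝒜 : ℕ → Submodule R A) [GradedAlgebra 𝒜] (𝔮 : HomogeneousIdeal 𝒜)
    (h : ¬ HomogeneousIdeal.irrelevant 𝒜 ≤ 𝔮) :
    ∃ i, 0 < i ∧ ∃ g ∈ 𝒜 i, g ∉ 𝔮.toIdeal := by
  classical
  obtain ⟨x, hx, hxq⟩ := SetLike.not_le_iff_exists.1 h
  by_contra hcon
  push Not at hcon
  apply hxq
  change x ∈ 𝔮.toIdeal
  rw [← DirectSum.sum_support_decompose 𝒜 x]
  refine Ideal.sum_mem _ fun i _ => ?_
  rcases Nat.eq_zero_or_pos i with rfl | hi
  · have : (decompose 𝒜 x 0 : A) = 0 := (HomogeneousIdeal.mem_irrelevant_iff 𝒜 x).1 hx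
    rw [this]
    exact zero_mem _
  · exact hcon i hi _ (SetLike.coe_mem _)


end Helpers

/-- Let S be a ring graded in nonnegative degrees, n₀ > 0 an integer and, for every n ≥ n₀, p_n an
additive subgroup of S_n. Then there is a graded prime ideal p of S not containing S_+ with p ∩ S_n
= p_n for all n ≥ n₀ if and only if: (1) S_m p_n ⊆ p_{m+n} for all m ≥ 0 and n ≥ n₀; (2) for m ≥ n₀,
n ≥ n₀, f ∈ S_m, g ∈ S_n, fg ∈ p_{m+n} implies f ∈ p_m or g ∈ p_n; (3) p_n ≠ S_n for at least one n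
≥ n₀. Moreover such a graded prime ideal is unique. -/
theorem result {R A : Type u} [CommRing R] [CommRing A] [Algebra R A] (𝒜 : ℕ → Submodule R A) [GradedAlgebra 𝒜]
    (n₀ : ℕ) (hn₀ : 0 < n₀) (p : ℕ → AddSubgroup A) (hp : ∀ n : ℕ, n₀ ≤ n → (p n : Set A) ⊆ 𝒜 n) :
    ((∃ 𝔭 : HomogeneousIdeal 𝒜, 𝔭.toIdeal.IsPrime ∧ ¬ HomogeneousIdeal.irrelevant 𝒜 ≤ 𝔭 ∧
        ∀ n : ℕ, n₀ ≤ n → (𝔭.toIdeal : Set A) ∩ 𝒜 n = p n) ↔
      ((∀ m n : ℕ, n₀ ≤ n → ∀ a ∈ 𝒜 m, ∀ b ∈ p n, a * b ∈ p (m + n)) ∧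
        (∀ m n : ℕ, n₀ ≤ m → n₀ ≤ n → ∀ f ∈ 𝒜 m, ∀ g ∈ 𝒜 n, f * g ∈ p (m + n) → f ∈ p m ∨ g ∈ p n) ∧
        ∃ n : ℕ, n₀ ≤ n ∧ (p n : Set A) ≠ 𝒜 n)) ∧
    ∀ 𝔭 𝔮 : HomogeneousIdeal 𝒜, 𝔭.toIdeal.IsPrime → 𝔮.toIdeal.IsPrime →
      ¬ HomogeneousIdeal.irrelevant 𝒜 ≤ 𝔭 → ¬ HomogeneousIdeal.irrelevant 𝒜 ≤ 𝔮 →
      (∀ n : ℕ, n₀ ≤ n → (𝔭.toIdeal : Set A) ∩ 𝒜 n = p n) → (∀ n : ℕ, n₀ ≤ n → (𝔮.toIdeal : Set A) ∩ 𝒜 n = p n) →
      𝔭 = 𝔮 := by
  classical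
  refine ⟨⟨?_, ?_⟩, ?_⟩
  · -- (⟹)
    rintro ⟨𝔭, hprime, hirr, htail⟩
    have hmem : ∀ n, n₀ ≤ n → ∀ x, x ∈ p n ↔ x ∈ 𝔭.toIdeal ∧ x ∈ 𝒜 n := by
      intro n hn x
      have := htail n hn
      rw [Set.ext_iff] at this
      exact (this x).symm
    refine ⟨?_, ?_, ?_⟩
    · intro m n hn a ha b hb
      rw [hmem (m + n) (by omega)]
      exact ⟨Ideal.mul_mem_left _ _ ((hmem n hn b).1 hb).1,
        SetLike.GradedMul.mul_mem ha ((hmem n hn b).1 hb).2⟩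
    · intro m n hm hn f hf g hg hfg
      have := ((hmem (m + n) (by omega) _).1 hfg).1
      rcases hprime.mem_or_mem this with h | h
      · exact Or.inl ((hmem m hm f).2 ⟨h, hf⟩)
      · exact Or.inr ((hmem n hn g).2 ⟨h, hg⟩)
    · obtain ⟨i, hi, g, hg, hgq⟩ := exists_homogeneous_not_mem 𝒜 𝔭 hirr
      refine ⟨n₀ • i, ?_, ?_⟩
      · rw [smul_eq_mul]
        exact Nat.le_mul_of_pos_right _ hi
      · intro heq
        have h1 : g ^ n₀ ∈ 𝒜 (n₀ • i) := SetLike.pow_mem_graded n₀ hg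
        have h2 : g ^ n₀ ∈ (p (n₀ • i) : Set A) := by rw [heq]; exact h1
        have h3 := ((hmem (n₀ • i) (by rw [smul_eq_mul]; exact Nat.le_mul_of_pos_right _ hi) _).1 h2).1
        exact hgq (hprime.mem_of_pow_mem _ h3)
  · -- (⟸)
    rintro ⟨H1, H2, n₁, hn₁, hne⟩
    have hsub : (p n₁ : Set A) ⊆ 𝒜 n₁ := hp n₁ hn₁
    obtain ⟨f, hf, hfp⟩ : ∃ f ∈ 𝒜 n₁, f ∉ p n₁ := by
      by_contra hcon
      push Not at hcon
      exact hne (Set.Subset.antisymm hsub hcon)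
    -- key: for n ≥ n₀ and x ∈ 𝒜 n, f x ∈ p (n₁+n) ↔ x ∈ p n
    have hkey : ∀ n, n₀ ≤ n → ∀ x ∈ 𝒜 n, (f * x ∈ p (n₁ + n) ↔ x ∈ p n) := by
      intro n hn x hx
      constructor
      · intro h
        rcases H2 n₁ n hn₁ hn f hf x hx h with h' | h'
        · exact absurd h' hfp
        · exact h'
      · intro h
        exact H1 n₁ n hn f hf x h
    let I := tailIdeal 𝒜 n₀ p H1 f n₁ hn₁
    have hIhom : I.IsHomogeneous 𝒜 := tailIdeal_isHomogeneous H1 hn₁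
    have hfI : f ∉ I := by
      intro h
      rw [mem_tailIdeal_of_mem H1 hn₁ hf] at h
      rcases H2 n₁ n₁ hn₁ hn₁ f hf f hf h with h' | h' <;> exact hfp h'
    have hItop : I ≠ ⊤ := by
      intro h
      apply hfI
      rw [h]
      trivial
    have hIprime : I.IsPrime := by
      refine hIhom.isPrime_of_homogeneous_mem_or_mem hItop ?_
      rintro x y ⟨s, hx⟩ ⟨t, hy⟩ hxy
      rw [mem_tailIdeal_of_mem H1 hn₁ (SetLike.GradedMul.mul_mem hx hy)] at hxy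
      have h1 : f * (f * (x * y)) ∈ p (n₁ + (n₁ + (s + t))) :=
        H1 n₁ (n₁ + (s + t)) (by omega) f hf _ hxy
      have e : n₁ + (n₁ + (s + t)) = (n₁ + s) + (n₁ + t) := by omega
      have e2 : f * (f * (x * y)) = (f * x) * (f * y) := by ring
      rw [e, e2] at h1
      rcases H2 (n₁ + s) (n₁ + t) (by omega) (by omega) (f * x) (SetLike.GradedMul.mul_mem hf hx)
        (f * y) (SetLike.GradedMul.mul_mem hf hy) h1 with h' | h'
      · exact Or.inl ((mem_tailIdeal_of_mem H1 hn₁ hx).2 h')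
      · exact Or.inr ((mem_tailIdeal_of_mem H1 hn₁ hy).2 h')
    refine ⟨⟨I, hIhom⟩, hIprime, ?_, ?_⟩
    · intro hle
      apply hfI
      apply hle
      rw [HomogeneousIdeal.mem_irrelevant_iff]
      have : n₁ ≠ 0 := by omega
      exact DirectSum.decompose_of_mem_ne 𝒜 hf this
    · intro n hn
      ext x
      constructor
      · rintro ⟨hxI, hxn⟩
        have := (mem_tailIdeal_of_mem H1 hn₁ hxn).1 hxI
        exact (hkey n hn x hxn).1 this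
      · intro hx
        have hxn : x ∈ 𝒜 n := hp n hn hx
        exact ⟨(mem_tailIdeal_of_mem H1 hn₁ hxn).2 ((hkey n hn x hxn).2 hx), hxn⟩
  · -- uniqueness
    have hle : ∀ 𝔭 𝔮 : HomogeneousIdeal 𝒜, 𝔭.toIdeal.IsPrime → 𝔮.toIdeal.IsPrime →
        ¬ HomogeneousIdeal.irrelevant 𝒜 ≤ 𝔭 → ¬ HomogeneousIdeal.irrelevant 𝒜 ≤ 𝔮 →
        (∀ n : ℕ, n₀ ≤ n → (𝔭.toIdeal : Set A) ∩ 𝒜 n = p n) →
        (∀ n : ℕ, n₀ ≤ n → (𝔮.toIdeal : Set A) ∩ 𝒜 n = p n) → 𝔭.toIdeal ≤ 𝔮.toIdeal := by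
      intro 𝔭 𝔮 hP hQ hPi hQi hPt hQt
      obtain ⟨i, hi, g, hg, hgq⟩ := exists_homogeneous_not_mem 𝒜 𝔮 hQi
      intro x hx
      rw [← DirectSum.sum_support_decompose 𝒜 x]
      refine Ideal.sum_mem _ fun m _ => ?_
      have hxm : (DirectSum.decompose 𝒜 x m : A) ∈ 𝔭.toIdeal := 𝔭.isHomogeneous m hx
      have hdeg : g ^ n₀ * (DirectSum.decompose 𝒜 x m : A) ∈ 𝒜 (n₀ • i + m) :=
        SetLike.GradedMul.mul_mem (SetLike.pow_mem_graded n₀ hg) (SetLike.coe_mem _)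
      have hge : n₀ ≤ n₀ • i + m := by
        rw [smul_eq_mul]
        exact le_add_right (Nat.le_mul_of_pos_right _ hi)
      have h1 : g ^ n₀ * (DirectSum.decompose 𝒜 x m : A) ∈ (𝔭.toIdeal : Set A) ∩ 𝒜 (n₀ • i + m) :=
        ⟨Ideal.mul_mem_left _ _ hxm, hdeg⟩
      rw [hPt _ hge, ← hQt _ hge] at h1
      rcases hQ.mem_or_mem h1.1 with h' | h'
      · exact absurd (hQ.mem_of_pow_mem _ h') hgq
      · exact h'
    intro 𝔭 𝔮 hP hQ hPi hQi hPt hQt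
    apply HomogeneousIdeal.toIdeal_injective
    exact le_antisymm (hle 𝔭 𝔮 hP hQ hPi hQi hPt hQt) (hle 𝔮 𝔭 hQ hP hQi hPi hQt hPt)

end Groth.Agent.S4395
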