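import Groth.Statements.S4396
import Mathlib

set_option autoImplicit false
universe u
open AlgebraicGeometry
open EGA2

namespace Groth.Agent.S4396

section
variable {R A : Type u} [CommRing R] [CommRing A] [Algebra R A] (𝒜 : ℕ → Submodule R A) [GradedAlgebra 𝒜]
    {B : Type u} [CommRing B] [Algebra R B] (ℬ : ℕ → Submodule R B) [GradedAlgebra ℬ]
    (d : ℕ) (φ : B →ₐ[R] A)
    (hdeg : ∀ n : ℕ, Submodule.map φ.toLinearMap (ℬ n) = 𝒜 (n * d)) (f' : B) (hf' : f' ∈ ℬ 1)

include hdeg in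
theorem phi_mem {n : ℕ} {x : B} (hx : x ∈ ℬ n) : φ x ∈ 𝒜 (n • d) := by
  rw [smul_eq_mul, ← hdeg]; exact ⟨x, hx, rfl⟩

include hdeg hf' in
theorem hf : φ f' ∈ 𝒜 d := by
  have := phi_mem 𝒜 ℬ d φ hdeg hf'
  simpa using this

/-- component maps -/
noncomputable def psiN (n : ℕ) : ℬ n →+ HomogeneousLocalization.Away 𝒜 (φ f') where
  toFun x := HomogeneousLocalization.Away.mk 𝒜 (hf 𝒜 ℬ d φ hdeg f' hf') n (φ x) (phi_mem 𝒜 ℬ d φ hdeg x.2)
  map_zero' := by
    apply HomogeneousLocalization.val_injective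
    simp [Localization.mk_zero]
  map_add' x y := by
    apply HomogeneousLocalization.val_injective
    simp [HomogeneousLocalization.val_add, Localization.add_mk_self]

noncomputable def psi : B →+* HomogeneousLocalization.Away 𝒜 (φ f') :=
  (DirectSum.toSemiring (psiN 𝒜 ℬ d φ hdeg f' hf')
    (by
      apply HomogeneousLocalization.val_injective
      simp [psiN, GradedMonoid.GOne.one, Localization.mk_one])
    (by
      intro i j ai aj
      apply HomogeneousLocalization.val_injective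
      simp [psiN, GradedMonoid.GMul.mul, HomogeneousLocalization.val_mul, Localization.mk_mul, pow_add]
      )).comp
  (DirectSum.decomposeRingEquiv ℬ).toRingHom


theorem psi_of_mem {n : ℕ} {x : B} (hx : x ∈ ℬ n) :
    psi 𝒜 ℬ d φ hdeg f' hf' x =
      HomogeneousLocalization.Away.mk 𝒜 (hf 𝒜 ℬ d φ hdeg f' hf') n (φ x) (phi_mem 𝒜 ℬ d φ hdeg hx) := by
  simp only [psi, RingHom.coe_comp, Function.comp_apply]
  show DirectSum.toSemiring _ _ _ (DirectSum.decompose ℬ x) = _
  rw [DirectSum.decompose_of_mem _ hx]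
  erw [DirectSum.toSemiring_of]
  rfl

theorem psi_f' : psi 𝒜 ℬ d φ hdeg f' hf' f' = 1 := by
  rw [psi_of_mem 𝒜 ℬ d φ hdeg f' hf' hf']
  apply HomogeneousLocalization.val_injective
  rw [HomogeneousLocalization.Away.val_mk, HomogeneousLocalization.val_one]
  simp only [pow_one]
  exact Localization.mk_self (⟨φ f', _⟩ : Submonoid.powers (φ f'))

noncomputable def psiBar : B ⧸ Ideal.span {f' - 1} →+* HomogeneousLocalization.Away 𝒜 (φ f') :=
  Ideal.Quotient.lift _ (psi 𝒜 ℬ d φ hdeg f' hf') (by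
    intro a ha
    obtain ⟨c, rfl⟩ := Ideal.mem_span_singleton'.mp ha
    rw [map_mul, map_sub, psi_f', map_one, sub_self, mul_zero])

include hf' in
/-- every element is congruent to a homogeneous one -/
theorem exists_homog (x : B) : ∃ (N : ℕ) (y : B), y ∈ ℬ N ∧
    Ideal.Quotient.mk (Ideal.span {f' - 1}) x = Ideal.Quotient.mk (Ideal.span {f' - 1}) y := by
  have hone : Ideal.Quotient.mk (Ideal.span {f' - 1}) f' = 1 := by
    rw [← sub_eq_zero, ← map_one (Ideal.Quotient.mk (Ideal.span {f' - 1})), ← map_sub,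
      Ideal.Quotient.eq_zero_iff_mem]
    exact Ideal.subset_span rfl
  induction x using DirectSum.Decomposition.inductionOn ℬ with
  | zero => exact ⟨0, 0, zero_mem _, rfl⟩
  | @homogeneous n x => exact ⟨n, x, x.2, rfl⟩
  | add x x' h h' =>
    obtain ⟨N, y, hy, e⟩ := h
    obtain ⟨N', y', hy', e'⟩ := h'
    refine ⟨N + N', y * f' ^ N' + y' * f' ^ N, ?_, ?_⟩
    · refine add_mem ?_ ?_
      · have := SetLike.mul_mem_graded hy (SetLike.pow_mem_graded N' hf')
        simpa using this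
      · have := SetLike.mul_mem_graded hy' (SetLike.pow_mem_graded N hf')
        simpa [add_comm] using this
    · rw [map_add, map_add, map_mul, map_mul, map_pow, map_pow, hone, one_pow, one_pow, mul_one,
        mul_one, e, e']

include hf' in
theorem psiBar_surjective : Function.Surjective (psiBar 𝒜 ℬ d φ hdeg f' hf') := by
  intro z
  obtain ⟨n, a, ha, rfl⟩ := HomogeneousLocalization.Away.mk_surjective 𝒜 (hf 𝒜 ℬ d φ hdeg f' hf') z
  have ha' : a ∈ Submodule.map φ.toLinearMap (ℬ n) := by rw [hdeg]; simpa using ha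
  obtain ⟨x, hx, rfl⟩ := ha'
  refine ⟨Ideal.Quotient.mk _ x, ?_⟩
  show psi 𝒜 ℬ d φ hdeg f' hf' x = _
  rw [psi_of_mem 𝒜 ℬ d φ hdeg f' hf' hx]
  rfl

include hf' in
theorem psiBar_injective (hφ : Function.Injective φ) :
    Function.Injective (psiBar 𝒜 ℬ d φ hdeg f' hf') := by
  rw [injective_iff_map_eq_zero]
  intro z hz
  obtain ⟨x, rfl⟩ := Ideal.Quotient.mk_surjective z
  obtain ⟨N, y, hy, e⟩ := exists_homog ℬ f' hf' x
  rw [e] at hz ⊢
  have h1 : psi 𝒜 ℬ d φ hdeg f' hf' y = 0 := hz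
  rw [psi_of_mem 𝒜 ℬ d φ hdeg f' hf' hy] at h1
  have h2 := congrArg HomogeneousLocalization.val h1
  rw [HomogeneousLocalization.Away.val_mk, HomogeneousLocalization.val_zero,
    Localization.mk_eq_mk'_apply, IsLocalization.mk'_eq_zero_iff] at h2
  obtain ⟨⟨_, M, rfl⟩, hM⟩ := h2
  have h3 : φ (f' ^ M * y) = 0 := by rw [map_mul, map_pow]; exact hM
  have h4 : f' ^ M * y = 0 := hφ (by rw [h3, map_zero])
  have hone : Ideal.Quotient.mk (Ideal.span {f' - 1}) f' = 1 := by
    rw [← sub_eq_zero, ← map_one (Ideal.Quotient.mk (Ideal.span {f' - 1})), ← map_sub,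
      Ideal.Quotient.eq_zero_iff_mem]
    exact Ideal.subset_span rfl
  have h5 := congrArg (Ideal.Quotient.mk (Ideal.span {f' - 1})) h4
  rw [map_mul, map_pow, hone, one_pow, one_mul, map_zero] at h5
  exact h5

include hdeg hf' in
theorem main (hφ : Function.Injective φ) :
    ∃ e : HomogeneousLocalization.Away 𝒜 (φ f') ≃+* B ⧸ Ideal.span {f' - 1},
      ∀ (n : ℕ) (x : B), x ∈ ℬ n →
        (e.symm (Ideal.Quotient.mk (Ideal.span {f' - 1}) x)).val =
          Localization.mk (φ x) ⟨φ f' ^ n, pow_mem (Submonoid.mem_powers (φ f')) n⟩ := by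
  let e0 := RingEquiv.ofBijective (psiBar 𝒜 ℬ d φ hdeg f' hf')
    ⟨psiBar_injective 𝒜 ℬ d φ hdeg f' hf' hφ, psiBar_surjective 𝒜 ℬ d φ hdeg f' hf'⟩
  refine ⟨e0.symm, fun n x hx => ?_⟩
  rw [RingEquiv.symm_symm]
  show (psi 𝒜 ℬ d φ hdeg f' hf' x).val = _
  rw [psi_of_mem 𝒜 ℬ d φ hdeg f' hf' hx, HomogeneousLocalization.Away.val_mk]

end


/-- Let S be a ring graded in nonnegative degrees, d > 0, and S^{(d)} the graded ring whose degree-n
part is S_{nd} (given here as any graded ring S' with an injective algebra homomorphism φ : S' → S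
carrying S'_n onto S_{nd} for every n); let f' ∈ S'_1, with image f = φ(f') ∈ S_d. Then there is a
ring isomorphism between the degree-zero homogeneous localization S_(f) and the quotient S'/(f' -
1)S', whose inverse sends the class of an element x of S'_n to the fraction φ(x)/f^n. (The module
part of the published statement is not stated here.) -/
theorem result {R A : Type u} [CommRing R] [CommRing A] [Algebra R A] (𝒜 : ℕ → Submodule R A) [GradedAlgebra 𝒜]
    {B : Type u} [CommRing B] [Algebra R B] (ℬ : ℕ → Submodule R B) [GradedAlgebra ℬ]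
    (d : ℕ) (hd : 0 < d) (φ : B →ₐ[R] A) (hφ : Function.Injective φ)
    (hdeg : ∀ n : ℕ, Submodule.map φ.toLinearMap (ℬ n) = 𝒜 (n * d)) (f' : B) (hf' : f' ∈ ℬ 1) :
    ∃ e : HomogeneousLocalization.Away 𝒜 (φ f') ≃+* B ⧸ Ideal.span {f' - 1},
      ∀ (n : ℕ) (x : B), x ∈ ℬ n →
        (e.symm (Ideal.Quotient.mk (Ideal.span {f' - 1}) x)).val =
          Localization.mk (φ x) ⟨φ f' ^ n, pow_mem (Submonoid.mem_powers (φ f')) n⟩ := by
  exact main 𝒜 ℬ d φ hdeg f' hf' hφ

end Groth.Agent.S4396
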