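import Groth.Statements.S4398
import Mathlib
import Groth.Agent.Lib.Lead.ProjAway
-- import your own Groth.Agent.* helpers here

set_option autoImplicit false
set_option backward.isDefEq.respectTransparency false
set_option backward.isDefEq.respectTransparency.types false
universe u
open AlgebraicGeometry
open EGA2

namespace Groth.Agent.S4398

/-- Let φ : S' → S be a homomorphism of rings graded in nonnegative degrees which maps S'_n bijectively
onto S_n for every n > 0, so that S_+ lies in the ideal generated by φ(S'_+) (stated as a hypothesis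
because the induced morphism is built from it). Then the induced morphism Proj S → Proj S' is an
isomorphism of schemes. (The published statement treats the cases S'_0 = ℤ and S'_0 = A with S'_n =
S_n for n > 0; this row allows any graded φ that is bijective in positive degrees.) -/
theorem result {R A : Type u} [CommRing R] [CommRing A] [Algebra R A] (𝒜 : ℕ → Submodule R A) [GradedAlgebra 𝒜]
    {B : Type u} [CommRing B] [Algebra R B] (ℬ : ℕ → Submodule R B) [GradedAlgebra ℬ]
    (φ : ℬ →+*ᵍ 𝒜) (hbij : ∀ n : ℕ, 0 < n → Set.BijOn φ (ℬ n) (𝒜 n))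
    (hφ : HomogeneousIdeal.irrelevant 𝒜 ≤ (HomogeneousIdeal.irrelevant ℬ).map φ) :
    CategoryTheory.IsIso (Proj.map φ hφ) := by
  open CategoryTheory CategoryTheory.Limits in
  change MorphismProperty.isomorphisms Scheme (Proj.map φ hφ)
  refine (IsZariskiLocalAtTarget.iff_of_openCover (P := MorphismProperty.isomorphisms Scheme)
    (Proj.affineOpenCover ℬ).openCover).mpr ?_
  intro s
  have hb := Groth.Agent.Lib.Lead.ProjAway.away_map_bijective 𝒜 ℬ φ hbij s.1.2 s.2.1 s.2.2
  have hiso : IsIso (Spec.map (CommRingCat.ofHom (HomogeneousLocalization.Away.map φ (s.2 : B)))) := by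
    have : IsIso (CommRingCat.ofHom (HomogeneousLocalization.Away.map φ (s.2 : B))) := by
      rw [ConcreteCategory.isIso_iff_bijective]
      exact hb
    infer_instance
  have sq := IsOpenImmersion.isPullback
    (Spec.map (CommRingCat.ofHom (HomogeneousLocalization.Away.map φ (s.2 : B))))
    (Proj.awayι 𝒜 (φ s.2) (φ.map_mem s.2.2) s.1.2)
    (Proj.awayι ℬ (s.2 : B) s.2.2 s.1.2) (Proj.map φ hφ)
    (Proj.awayι_comp_map φ hφ s.1.2 s.2 s.2.2)
    (by rw [Proj.opensRange_awayι, Proj.opensRange_awayι, Proj.map_preimage_basicOpen])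
  change IsIso (pullback.snd (Proj.map φ hφ) (Proj.awayι ℬ (s.2 : B) s.2.2 s.1.2))
  have e := sq.flip.isoPullback_hom_snd
  haveI : IsIso (sq.flip.isoPullback.hom ≫
      pullback.snd (Proj.map φ hφ) (Proj.awayι ℬ (s.2 : B) s.2.2 s.1.2)) := by
    rw [e]; exact hiso
  exact IsIso.of_isIso_comp_left sq.flip.isoPullback.hom _

end Groth.Agent.S4398
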