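import Groth.Statements.S4401
import Groth.Agent.Lib.Helper28.TwistEpi
-- import your own Groth.Agent.* helpers here

set_option autoImplicit false
universe u
open CategoryTheory CategoryTheory.Limits AlgebraicGeometry
open EGA2

namespace Groth.Agent.S4401

/-- Let S be a ring graded in nonnegative degrees whose irrelevant ideal S_+ is generated by finitely
many elements of degree one, and X = Proj S. Then for every integer n ≥ 0 there exist an integer k
and an epimorphism of O_X-modules O_X^k → O_X(n). -/
theorem result {R A : Type u} [CommRing R] [CommRing A] [Algebra R A] (𝒜 : ℕ → Submodule R A) [GradedAlgebra 𝒜]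
    (s : Finset A) (hs1 : ∀ f ∈ s, f ∈ 𝒜 1)
    (hs : (HomogeneousIdeal.irrelevant 𝒜).toIdeal = Ideal.span (s : Set A)) (n : ℕ) :
    ∃ (k : ℕ) (p : FlatMod.freeMod (Proj 𝒜) k ⟶ Twist.twist 𝒜 (n : ℤ)), Epi p := by
  have hcovs : ∀ x : ProjectiveSpectrum 𝒜, ∃ f ∈ s, f ∉ x.asHomogeneousIdeal := by
    intro x
    by_contra hcon
    simp only [not_exists, not_and, not_not] at hcon
    apply x.not_irrelevant_le
    intro z hz
    have hz' : z ∈ (HomogeneousIdeal.irrelevant 𝒜).toIdeal := hz
    rw [hs] at hz'
    have hle : Ideal.span (s : Set A) ≤ x.asHomogeneousIdeal.toIdeal :=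
      Ideal.span_le.mpr fun g hg => hcon g hg
    exact hle hz'
  exact Groth.Agent.Lib.helper28.TwistEpi.exists_epi_free_twist 𝒜 s hs1 hcovs n

end Groth.Agent.S4401
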