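import Groth.Statements.S4404
import Mathlib.RingTheory.Nilpotent.Lemmas
import Mathlib.RingTheory.Ideal.MinimalPrime.Basic
import Mathlib.RingTheory.GradedAlgebra.Radical

set_option autoImplicit false
universe u
open EGA2

namespace Groth.Agent.S4404

/-- (a) ⇔ (b): let S be a ring graded in nonnegative degrees and E a subset of the irrelevant ideal S_+.
Then V_+(E) is the whole of Proj S if and only if every element of E is nilpotent. -/
theorem result {R A : Type u} [CommRing R] [CommRing A] [Algebra R A] (𝒜 : ℕ → Submodule R A) [GradedAlgebra 𝒜]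
    (E : Set A) (hE : E ⊆ (HomogeneousIdeal.irrelevant 𝒜).toIdeal) :
    ProjectiveSpectrum.zeroLocus 𝒜 E = Set.univ ↔ ∀ e ∈ E, IsNilpotent e := by
  constructor
  · intro h e he
    by_contra hnil
    -- a prime not containing e
    have hne : e ∉ nilradical A := hnil
    rw [nilradical_eq_sInf, Submodule.mem_sInf] at hne
    push Not at hne
    obtain ⟨P, hP, heP⟩ := hne
    obtain ⟨P, rfl⟩ : ∃ P' : Ideal A, P' = P := ⟨P, rfl⟩
    have hP : P.IsPrime := hP
    let x : ProjectiveSpectrum 𝒜 :=
      ⟨P.homogeneousCore 𝒜, hP.homogeneousCore, fun hle => heP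
        (Ideal.toIdeal_homogeneousCore_le 𝒜 P (hle (hE he)))⟩
    have hx : x ∈ ProjectiveSpectrum.zeroLocus 𝒜 E := h ▸ Set.mem_univ x
    have hx' : e ∈ (P.homogeneousCore 𝒜).toIdeal := hx he
    exact heP (Ideal.toIdeal_homogeneousCore_le 𝒜 P hx')
  · intro h
    rw [Set.eq_univ_iff_forall]
    intro x e he
    obtain ⟨n, hn⟩ := h e he
    exact x.isPrime.mem_of_pow_mem n (hn ▸ Ideal.zero_mem _)

end Groth.Agent.S4404
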