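import Groth.Statements.S4405
import Mathlib
-- import your own Groth.Agent.* helpers here

set_option autoImplicit false
universe u
open EGA2

namespace Groth.Agent.S4405

/-- Let S be a ring graded in nonnegative degrees and E any subset of the irrelevant ideal S_+. Then the
intersection of S_+ with the vanishing ideal of the closed subset V_+(E) of Proj S equals the
intersection of S_+ with the radical of the graded ideal generated by E (the smallest homogeneous
ideal containing E). -/
theorem result {R A : Type u} [CommRing R] [CommRing A] [Algebra R A] (𝒜 : ℕ → Submodule R A) [GradedAlgebra 𝒜]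
    (E : Set A) (hE : E ⊆ (HomogeneousIdeal.irrelevant 𝒜).toIdeal) :
    (HomogeneousIdeal.irrelevant 𝒜).toIdeal ⊓
        (ProjectiveSpectrum.vanishingIdeal (ProjectiveSpectrum.zeroLocus 𝒜 E)).toIdeal =
      (HomogeneousIdeal.irrelevant 𝒜).toIdeal ⊓ (Ideal.homogeneousHull 𝒜 (Ideal.span E)).toIdeal.radical := by
  ext f
  simp only [Ideal.mem_inf]
  constructor
  · rintro ⟨hf, hfv⟩
    refine ⟨hf, ?_⟩
    have hfv' : f ∈ ProjectiveSpectrum.vanishingIdeal (ProjectiveSpectrum.zeroLocus 𝒜 E) := hfv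
    rw [ProjectiveSpectrum.mem_vanishingIdeal] at hfv'
    rw [Ideal.IsHomogeneous.radical_eq (Ideal.homogeneousHull 𝒜 (Ideal.span E)).isHomogeneous,
      Ideal.mem_sInf]
    rintro J ⟨hJhom, hJle, hJprime⟩
    by_cases hirr : HomogeneousIdeal.irrelevant 𝒜 ≤ (⟨J, hJhom⟩ : HomogeneousIdeal 𝒜)
    · exact hirr hf
    · let x : ProjectiveSpectrum 𝒜 := ⟨⟨J, hJhom⟩, hJprime, hirr⟩
      have hx : x ∈ ProjectiveSpectrum.zeroLocus 𝒜 E := by
        intro e he
        exact hJle (Ideal.le_toIdeal_homogeneousHull 𝒜 _ (Ideal.subset_span he))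
      exact hfv' x hx
  · rintro ⟨hf, hfr⟩
    refine ⟨hf, ?_⟩
    show f ∈ ProjectiveSpectrum.vanishingIdeal (ProjectiveSpectrum.zeroLocus 𝒜 E)
    rw [ProjectiveSpectrum.mem_vanishingIdeal]
    intro x hx
    have h1 : Ideal.span E ≤ x.asHomogeneousIdeal.toIdeal := Ideal.span_le.mpr hx
    have h2 : Ideal.homogeneousHull 𝒜 (Ideal.span E) ≤ x.asHomogeneousIdeal :=
      (Ideal.homogeneousHull.gc 𝒜 _ _).mpr h1
    have h3 : (Ideal.homogeneousHull 𝒜 (Ideal.span E)).toIdeal.radical ≤
        x.asHomogeneousIdeal.toIdeal :=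
      x.isPrime.radical_le_iff.mpr h2
    exact h3 hfr

end Groth.Agent.S4405
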