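import Groth.Statements.S4408
import Groth.Agent.Lib.Helper11.IdealGG

set_option autoImplicit false
universe u
open CategoryTheory CategoryTheory.Limits AlgebraicGeometry
open EGA2

namespace Groth.Agent.S4408

/-- (e') ⇒ (a): let X be a quasi-compact separated scheme such that every quasi-coherent submodule of
finite type of O_X is generated by its global sections. Then X is quasi-affine. (The published
statement also allows X to be a scheme whose underlying space is Noetherian; this row assumes it
quasi-compact and separated.) -/
theorem result (X : Scheme.{u}) [CompactSpace X] [X.IsSeparated]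
    (h : ∀ (J : X.Modules) (i : J ⟶ Coh.structureModule X), Mono i → Coh.IsQCoh J → CohB1.IsFT J →
      Curv2.IsGloballyGenerated J) :
    X.IsQuasiAffine := by
  have hqs : QuasiSeparatedSpace X := inferInstance
  refine Scheme.IsQuasiAffine.of_forall_exists_mem_basicOpen X (fun x => ?_)
  obtain ⟨_, ⟨U, hU : IsAffineOpen U, rfl⟩, hxU, -⟩ :=
    (AlgebraicGeometry.Scheme.isBasis_affineOpens X).exists_subset_of_mem_open
      (Set.mem_univ x) isOpen_univ
  obtain ⟨H, i, hm, hq, hft, hle, hv⟩ :=
    Groth.Agent.Lib.helper11.IdealGG.exists_ft_ideal_of_affine hU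
  have hgg := h H i hm hq hft
  have hgg' : Curv2.IsGloballyGenerated (CohB1.tensorMod H (Coh.structureModule X)) :=
    Groth.Agent.Lib.helper11.CounitEpi.isGloballyGenerated_of_iso
      (Groth.Agent.Lib.Lead.ModTensor.rightUnitor H).symm hgg
  obtain ⟨s, hxs, hsU⟩ := Groth.Agent.Lib.helper11.IdealGG.exists_section_of_gg
    (Groth.Agent.Lib.helper11.InvMod.isInvertible_structureModule X) i hv (hle hxU) hgg'
  have haff := Groth.Agent.Lib.helper12.AmpleBasis.isAffineOpen_genLocus_of_le s hU
    (Groth.Agent.Lib.helper11.InvMod.isTrivOn_structureModule U) hsU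
  rw [Groth.Agent.Lib.helper11.GenLocus.genLocus_structureModule] at hxs haff
  exact ⟨_, haff, hxs⟩

end Groth.Agent.S4408
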