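import Groth.Statements.S4409
import Groth.Agent.Lib.Helper11.IdealGG2
import Groth.Agent.S4407

set_option autoImplicit false
universe u
open CategoryTheory CategoryTheory.Limits AlgebraicGeometry
open EGA2

namespace Groth.Agent.S4409

/-- (a) ⇔ (d): let f : X → Y be a quasi-compact morphism. Then f is quasi-affine (the preimage of every
affine open of Y is a quasi-affine scheme) if and only if f is separated and, for every
quasi-coherent O_X-module F, the canonical morphism f^*(f_*(F)) → F (counit of the adjunction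
between f^* and f_*) is an epimorphism. -/
theorem result {X Y : Scheme.{u}} (f : X ⟶ Y) [QuasiCompact f] :
    Mor2.IsQuasiAffine f ↔ (IsSeparated f ∧ ∀ F : X.Modules, Coh.IsQCoh F →
      Epi ((Scheme.Modules.pullbackPushforwardAdjunction f).counit.app F)) := by
  constructor
  · intro hqa
    have hsepV : ∀ V : Y.affineOpens, IsSeparated (f ∣_ V.1) := by
      intro V
      have hq : Scheme.IsQuasiAffine ((f ⁻¹ᵁ V.1 : X.Opens) : Scheme.{u}) := hqa.2 V.1 V.2
      have hs : ((f ⁻¹ᵁ V.1 : X.Opens) : Scheme.{u}).IsSeparated := inferInstance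
      have hs' : IsSeparated (Limits.terminal.from ((f ⁻¹ᵁ V.1 : X.Opens) : Scheme.{u})) := hs.1
      have e : Limits.terminal.from ((f ⁻¹ᵁ V.1 : X.Opens) : Scheme.{u}) =
          (f ∣_ V.1) ≫ Limits.terminal.from _ := (Limits.terminal.comp_from _).symm
      rw [e] at hs'
      exact IsSeparated.of_comp (f ∣_ V.1) (Limits.terminal.from _)
    have hsep : IsSeparated f :=
      (IsZariskiLocalAtTarget.iff_of_iSup_eq_top (P := @IsSeparated)
        (fun V : Y.affineOpens => V.1) (iSup_affineOpens_eq_top Y)).mpr hsepV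
    refine ⟨hsep, fun F hF => ?_⟩
    have hF' : F.IsQuasicoherent := hF
    refine Groth.Agent.Lib.helper11.CounitEpi.epi_of_forall_restrict _ fun x => ?_
    obtain ⟨_, ⟨V, hV : IsAffineOpen V, rfl⟩, hx, -⟩ :=
      (AlgebraicGeometry.Scheme.isBasis_affineOpens Y).exists_subset_of_mem_open
        (Set.mem_univ (f x)) isOpen_univ
    have hq : Scheme.IsQuasiAffine ((f ⁻¹ᵁ V : X.Opens) : Scheme.{u}) := hqa.2 V hV
    have hgg : Curv2.IsGloballyGenerated (F.restrict (f ⁻¹ᵁ V).ι) :=
      Groth.Agent.S4407.result _ (F.restrict (f ⁻¹ᵁ V).ι) inferInstance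
    exact ⟨f ⁻¹ᵁ V, hx, (Groth.Agent.Lib.helper11.CounitEpi.epi_restrict_counit_iff f V F).mpr
      (Groth.Agent.Lib.helper11.CounitEpi.epi_counit_of_isGloballyGenerated _ hgg)⟩
  · rintro ⟨hsep, h⟩
    refine ⟨inferInstance, fun V hV => ?_⟩
    refine Groth.Agent.Lib.helper11.IdealGG2.isQuasiAffine_preimage_of_counit_epi f V hV
      (fun F hF => ?_)
    exact @Groth.Agent.Lib.helper11.CounitEpi.epi_restrict _ _ _ _ (h F hF) _

end Groth.Agent.S4409
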