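import Groth.Statements.S4411
import Mathlib

set_option autoImplicit false
universe u
open EGA2

namespace Groth.Agent.S4411


open DirectSum

section
variable {R A : Type u} [CommRing R] [CommRing A] [Algebra R A] (𝒜 : ℕ → Submodule R A)
    [GradedAlgebra 𝒜]
    {B : Type u} [CommRing B] [Algebra R B] (ℬ : ℕ → Submodule R B) [GradedAlgebra ℬ]
    (d : ℕ) (φ : B →ₐ[R] A) (hdeg : ∀ n : ℕ, Submodule.map φ.toLinearMap (ℬ n) = 𝒜 (n * d))

include hdeg in
lemma map_mem (n : ℕ) {b : B} (hb : b ∈ ℬ n) : φ b ∈ 𝒜 (n * d) := by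
  rw [← hdeg n]
  exact Submodule.mem_map_of_mem hb

include hdeg in
lemma lemA {x : A} (hx : x ∈ φ.range) {m : ℕ} (hm : ¬ d ∣ m) :
    (decompose 𝒜 x m : A) = 0 := by
  obtain ⟨b, rfl⟩ := hx
  refine DirectSum.Decomposition.inductionOn ℬ
    (motive := fun b => (decompose 𝒜 (φ b) m : A) = 0) ?_ ?_ ?_ b
  · simp
  · intro n b
    have h1 := map_mem 𝒜 ℬ d φ hdeg n b.2
    have h2 : n * d ≠ m := by
      rintro rfl
      exact hm (Dvd.intro_left n rfl)
    exact decompose_of_mem_ne 𝒜 h1 h2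
  · intro b b' h h'
    show (decompose 𝒜 (φ (b + b')) m : A) = 0
    rw [map_add, decompose_add, DirectSum.add_apply, Submodule.coe_add, h, h', add_zero]

include hdeg in
lemma lemB {n : ℕ} {x : A} (hx : x ∈ 𝒜 (n * d)) : x ∈ φ.range := by
  rw [← hdeg n] at hx
  obtain ⟨b, _, rfl⟩ := hx
  exact ⟨b, rfl⟩

include hdeg in
lemma lemC {c t : A} (hc : c ∈ φ.range) {k m : ℕ} (ht : t ∈ 𝒜 k) (hk : ¬ d ∣ k) (hm : d ∣ m) :
    (decompose 𝒜 (c * t) m : A) = 0 := by
  classical
  rw [coe_decompose_mul_of_right_mem 𝒜 m ht]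
  split_ifs with hkm
  · have h1 : ¬ d ∣ (m - k) := by
      intro h
      apply hk
      have h2 := Nat.dvd_sub hm h
      rwa [Nat.sub_sub_self hkm] at h2
    rw [lemA 𝒜 ℬ d φ hdeg hc h1, zero_mul]
  · rfl

end

lemma lemD {S₀ : Type*} [CommRing S₀] {A : Type*} [CommRing A] [Algebra S₀ A] (G : Set A)
    (hG : Algebra.adjoin S₀ G = ⊤)
    (C₀ : Subalgebra S₀ A) (M : Submodule C₀ A) (h1 : (1 : A) ∈ M)
    (hM : ∀ f ∈ G, ∀ y ∈ M, f * y ∈ M) : M = ⊤ := by
  have key : ∀ x ∈ Algebra.adjoin S₀ G, ∀ y ∈ M, x * y ∈ M := by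
    intro x hx
    induction hx using Algebra.adjoin_induction with
    | mem f hf => exact hM f hf
    | algebraMap r =>
      intro y hy
      have e : algebraMap S₀ A r * y = (⟨algebraMap S₀ A r, C₀.algebraMap_mem r⟩ : C₀) • y := rfl
      rw [e]
      exact M.smul_mem _ hy
    | add a b _ _ ha hb =>
      intro y hy
      rw [add_mul]
      exact M.add_mem (ha y hy) (hb y hy)
    | mul a b _ _ ha hb =>
      intro y hy
      rw [mul_assoc]
      exact ha _ (hb y hy)
  rw [eq_top_iff]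
  intro x _
  have hx : x ∈ Algebra.adjoin S₀ G := by
    rw [hG]
    trivial
  simpa using key x hx 1 h1


/-- Let S be a ring graded in nonnegative degrees which is an S_0-algebra of finite type, d > 0, and
S^{(d)} the graded ring whose degree-n part is S_{nd} (given here as any graded ring S' with an
injective algebra homomorphism φ : S' → S carrying S'_n onto S_{nd} for every n). Then S^{(d)} is an
algebra of finite type over its degree-zero part S'_0 (which φ identifies with S_0). -/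
theorem result {R A : Type u} [CommRing R] [CommRing A] [Algebra R A] (𝒜 : ℕ → Submodule R A) [GradedAlgebra 𝒜] [Algebra.FiniteType (𝒜 0) A]
    {B : Type u} [CommRing B] [Algebra R B] (ℬ : ℕ → Submodule R B) [GradedAlgebra ℬ]
    (d : ℕ) (hd : 0 < d) (φ : B →ₐ[R] A) (hφ : Function.Injective φ)
    (hdeg : ∀ n : ℕ, Submodule.map φ.toLinearMap (ℬ n) = 𝒜 (n * d)) :
    Algebra.FiniteType (ℬ 0) B := by
  classical
  obtain ⟨G, hGtop, hGhom⟩ := GradedAlgebra.exists_finset_adjoin_eq_top_and_homogeneous_ne_zero 𝒜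
  choose! n hn using hGhom
  set U : Set A := {x | ∃ f ∈ G, x = f ^ d} with hU
  have hUfin : U.Finite := by
    have e : U = (fun f => f ^ d) '' (G : Set A) := by
      ext x
      simp only [hU, Set.mem_ofPred_eq, Set.mem_image, Finset.mem_coe]
      constructor
      · rintro ⟨f, hf, rfl⟩
        exact ⟨f, hf, rfl⟩
      · rintro ⟨f, hf, rfl⟩
        exact ⟨f, hf, rfl⟩
    rw [e]
    exact G.finite_toSet.image _
  set C₀ : Subalgebra (𝒜 0) A := Algebra.adjoin (𝒜 0) U with hC₀
  have hpow_range : ∀ f ∈ G, f ^ d ∈ φ.range := by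
    intro f hf
    have h1 := SetLike.pow_mem_graded d (hn f hf).2
    rw [smul_eq_mul, mul_comm] at h1
    exact lemB 𝒜 ℬ d φ hdeg h1
  have hzero_range : ∀ r : 𝒜 0, (r : A) ∈ φ.range := by
    intro r
    have h1 : (r : A) ∈ 𝒜 (0 * d) := by
      rw [zero_mul]
      exact r.2
    exact lemB 𝒜 ℬ d φ hdeg h1
  have hC₀range : ∀ c ∈ C₀, c ∈ φ.range := by
    intro c hc
    induction hc using Algebra.adjoin_induction with
    | mem x hx =>
      obtain ⟨f, hf, rfl⟩ := hx
      exact hpow_range f hf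
    | algebraMap r => exact hzero_range r
    | add a b _ _ ha hb => exact φ.range.add_mem ha hb
    | mul a b _ _ ha hb => exact φ.range.mul_mem ha hb
  let mon : (↥G → Fin d) → A := fun β => ∏ f : ↥G, (f : A) ^ (β f : ℕ)
  have hmon_deg : ∀ β, mon β ∈ 𝒜 (∑ f : ↥G, (β f : ℕ) • n f) := fun β =>
    SetLike.prod_pow_mem_graded 𝒜 (fun f : ↥G => n f) (fun f => (f : A)) (fun f => (β f : ℕ))
      (fun f _ => (hn f f.2).2)
  have mon_eq : ∀ β (f' : ↥G), mon β = (f' : A) ^ (β f' : ℕ) *
      ∏ g ∈ Finset.univ.erase f', (g : A) ^ (β g : ℕ) := fun β f' =>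
    (Finset.mul_prod_erase Finset.univ (fun g : ↥G => (g : A) ^ (β g : ℕ))
      (Finset.mem_univ f')).symm
  have mon_update : ∀ β (f' : ↥G) (v : Fin d), mon (Function.update β f' v) =
      (f' : A) ^ (v : ℕ) * ∏ g ∈ Finset.univ.erase f', (g : A) ^ (β g : ℕ) := by
    intro β f' v
    rw [mon_eq _ f', Function.update_self]
    congr 1
    refine Finset.prod_congr rfl (fun g hg => ?_)
    rw [Function.update_of_ne (Finset.ne_of_mem_erase hg)]
  set M : Submodule C₀ A := Submodule.span C₀ (Set.range mon) with hM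
  have hMtop : M = ⊤ := by
    refine lemD (G : Set A) hGtop C₀ M ?_ ?_
    · have e : mon (fun _ => ⟨0, hd⟩) = 1 := by simp [mon]
      rw [← e]
      exact Submodule.subset_span ⟨_, rfl⟩
    · intro f hf y hy
      induction hy using Submodule.span_induction with
      | mem y hy =>
        obtain ⟨β, rfl⟩ := hy
        set f' : ↥G := ⟨f, hf⟩ with hf'
        have hff : (f' : A) = f := rfl
        by_cases h : (β f' : ℕ) + 1 < d
        · have e : f * mon β = mon (Function.update β f' ⟨(β f' : ℕ) + 1, h⟩) := by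
            rw [← hff, mon_eq β f', mon_update, ← mul_assoc, ← pow_succ']
          rw [e]
          exact Submodule.subset_span ⟨_, rfl⟩
        · have hβ : (β f' : ℕ) + 1 = d := by
            have h2 := (β f').2
            omega
          have e : f * mon β = f ^ d * mon (Function.update β f' ⟨0, hd⟩) := by
            rw [mon_update, mon_eq β f']
            show f * (f ^ (β f' : ℕ) * _) = f ^ d * (f ^ 0 * _)
            rw [← mul_assoc, ← pow_succ', hβ, pow_zero, one_mul]
          have e2 : f ^ d * mon (Function.update β f' ⟨0, hd⟩) =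
              (⟨f ^ d, Algebra.subset_adjoin ⟨f, hf, rfl⟩⟩ : C₀) •
                mon (Function.update β f' ⟨0, hd⟩) := rfl
          rw [e, e2]
          exact M.smul_mem _ (Submodule.subset_span ⟨_, rfl⟩)
      | zero => simp
      | add a b _ _ ha hb =>
        rw [mul_add]
        exact M.add_mem ha hb
      | smul c y _ hy =>
        rw [mul_smul_comm]
        exact M.smul_mem c hy
  set I₀ : Finset (↥G → Fin d) :=
    Finset.univ.filter (fun β => d ∣ ∑ f : ↥G, (β f : ℕ) • n f) with hI₀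
  set Td : Set A := {x | ∃ β ∈ I₀, x = mon β} with hTd
  have hTdfin : Td.Finite := by
    have e : Td = mon '' (I₀ : Set (↥G → Fin d)) := by
      ext x
      simp only [hTd, Set.mem_ofPred_eq, Set.mem_image, Finset.mem_coe]
      constructor
      · rintro ⟨β, hβ, rfl⟩
        exact ⟨β, hβ, rfl⟩
      · rintro ⟨β, hβ, rfl⟩
        exact ⟨β, hβ, rfl⟩
    rw [e]
    exact I₀.finite_toSet.image _
  set W : Set A := U ∪ Td with hW
  have hWfin : W.Finite := hUfin.union hTdfin
  have hmon_range : ∀ β ∈ I₀, mon β ∈ φ.range := by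
    intro β hβ
    rw [hI₀, Finset.mem_filter] at hβ
    obtain ⟨q, hq⟩ := hβ.2
    have h1 := hmon_deg β
    rw [hq, mul_comm] at h1
    exact lemB 𝒜 ℬ d φ hdeg h1
  have hWrange : ∀ w ∈ W, w ∈ φ.range := by
    rintro w (⟨f, hf, rfl⟩ | ⟨β, hβ, rfl⟩)
    · exact hpow_range f hf
    · exact hmon_range β hβ
  have hkey : ∀ b : B, φ b ∈ Algebra.adjoin (𝒜 0) W := by
    intro b
    have hb : φ b ∈ M := by
      rw [hMtop]
      trivial
    rw [hM, Submodule.mem_span_range_iff_exists_fun] at hb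
    obtain ⟨c, hc⟩ := hb
    set y₀ : A := ∑ β ∈ I₀, c β • mon β with hy₀
    set y₁ : A := ∑ β ∈ Finset.univ.filter (fun β => ¬ d ∣ ∑ f : ↥G, (β f : ℕ) • n f),
      c β • mon β with hy₁
    have hsum : φ b = y₀ + y₁ := by
      rw [← hc, hy₀, hy₁, hI₀]
      exact (Finset.sum_filter_add_sum_filter_not _ _ _).symm
    have hy₀range : y₀ ∈ φ.range := by
      refine φ.range.sum_mem (fun β hβ => ?_)
      rw [Subalgebra.smul_def, smul_eq_mul]
      exact φ.range.mul_mem (hC₀range _ (c β).2) (hmon_range β hβ)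
    have hy₁range : y₁ ∈ φ.range := by
      have e : y₁ = φ b - y₀ := by
        rw [hsum]
        ring
      rw [e]
      exact φ.range.sub_mem ⟨b, rfl⟩ hy₀range
    have hy₁zero : y₁ = 0 := by
      rw [← DirectSum.sum_support_decompose 𝒜 y₁]
      refine Finset.sum_eq_zero (fun m _ => ?_)
      by_cases hm : d ∣ m
      · rw [hy₁, DirectSum.decompose_sum, DFinsupp.finsetSum_apply,
          AddSubmonoidClass.coe_finsetSum]
        refine Finset.sum_eq_zero (fun β hβ => ?_)
        rw [Finset.mem_filter] at hβ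
        rw [Subalgebra.smul_def, smul_eq_mul]
        exact lemC 𝒜 ℬ d φ hdeg (hC₀range _ (c β).2) (hmon_deg β) hβ.2 hm
      · exact lemA 𝒜 ℬ d φ hdeg hy₁range hm
    rw [hsum, hy₁zero, add_zero, hy₀]
    refine Subalgebra.sum_mem _ (fun β hβ => ?_)
    rw [Subalgebra.smul_def, smul_eq_mul]
    refine Subalgebra.mul_mem _ ?_ (Algebra.subset_adjoin (Or.inr ⟨β, hβ, rfl⟩))
    exact Algebra.adjoin_mono Set.subset_union_left (c β).2
  set S' : Set B := φ ⁻¹' W with hS'
  have hS'fin : S'.Finite := hWfin.preimage (hφ.injOn)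
  have hlift : ∀ x ∈ Algebra.adjoin (𝒜 0) W, ∃ b' ∈ Algebra.adjoin (ℬ 0) S', φ b' = x := by
    intro x hx
    induction hx using Algebra.adjoin_induction with
    | mem w hw =>
      obtain ⟨b, rfl⟩ := hWrange w hw
      exact ⟨b, Algebra.subset_adjoin hw, rfl⟩
    | algebraMap r =>
      have h1 : (r : A) ∈ 𝒜 (0 * d) := by
        rw [zero_mul]
        exact r.2
      rw [← hdeg 0] at h1
      obtain ⟨b₀, hb₀, hb₀r⟩ := h1
      exact ⟨b₀, Subalgebra.algebraMap_mem _ (⟨b₀, hb₀⟩ : ℬ 0), hb₀r⟩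
    | add a b _ _ ha hb =>
      obtain ⟨a', ha', rfl⟩ := ha
      obtain ⟨b', hb', rfl⟩ := hb
      exact ⟨a' + b', Subalgebra.add_mem _ ha' hb', map_add _ _ _⟩
    | mul a b _ _ ha hb =>
      obtain ⟨a', ha', rfl⟩ := ha
      obtain ⟨b', hb', rfl⟩ := hb
      exact ⟨a' * b', Subalgebra.mul_mem _ ha' hb', map_mul _ _ _⟩
  refine ⟨Subalgebra.fg_def.mpr ⟨S', hS'fin, eq_top_iff.mpr ?_⟩⟩
  intro b _
  obtain ⟨b', hb', hbb'⟩ := hlift (φ b) (hkey b)
  rwa [← hφ hbb']


end Groth.Agent.S4411
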