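import Groth.Statements.S4412
import Mathlib

set_option autoImplicit false
universe u
open EGA2

namespace Groth.Agent.S4412


section helpers

variable {R A : Type u} [CommRing R] [CommRing A] [Algebra R A] (𝒜 : ℕ → Submodule R A)
  [GradedAlgebra 𝒜] (d : ℕ)

/-- projection of `A` onto the sum of the graded pieces of degree divisible by `d`. -/
noncomputable def proj : A →+ A :=
  (DirectSum.coeAddMonoidHom 𝒜).comp
    ((DirectSum.map (fun n => if d ∣ n then AddMonoidHom.id (𝒜 n) else 0)).comp
      (DirectSum.decomposeAddEquiv 𝒜).toAddMonoidHom)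

lemma proj_of_mem {x : A} {n : ℕ} (hx : x ∈ 𝒜 n) : proj 𝒜 d x = if d ∣ n then x else 0 := by
  unfold proj
  simp only [AddMonoidHom.coe_comp, Function.comp_apply, AddEquiv.coe_toAddMonoidHom,
    DirectSum.decomposeAddEquiv_apply]
  rw [DirectSum.decompose_of_mem 𝒜 hx, DirectSum.map_of, DirectSum.coeAddMonoidHom_of]
  split_ifs <;> simp

/-- `proj` is linear over homogeneous elements of degree divisible by `d`. -/
lemma proj_mul_of_mem (a : A) {c : A} {m : ℕ} (hc : c ∈ 𝒜 (m * d)) :
    proj 𝒜 d (a * c) = proj 𝒜 d a * c := by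
  induction a using DirectSum.Decomposition.inductionOn 𝒜 with
  | zero => simp
  | @homogeneous n x =>
    have hx : (x : A) ∈ 𝒜 n := x.2
    have hxc : (x : A) * c ∈ 𝒜 (n + m * d) := SetLike.mul_mem_graded hx hc
    rw [proj_of_mem 𝒜 d hxc, proj_of_mem 𝒜 d hx]
    have hdvd : d ∣ n + m * d ↔ d ∣ n := (Nat.dvd_add_left (Dvd.intro_left m rfl))
    by_cases h : d ∣ n
    · rw [if_pos h, if_pos (hdvd.2 h)]
    · rw [if_neg h, if_neg (fun h' => h (hdvd.1 h')), zero_mul]
  | add x y hx hy => rw [add_mul, map_add, map_add, hx, hy, add_mul]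

end helpers

/-- Let S be a ring graded in nonnegative degrees which is Noetherian, d > 0, and S^{(d)} the graded
ring with degree-n part S_{nd} (given as a graded ring S' with an injective algebra homomorphism φ :
S' → S carrying S'_n onto S_{nd} for every n). Then S^{(d)} is Noetherian. -/
theorem result {R A : Type u} [CommRing R] [CommRing A] [Algebra R A] (𝒜 : ℕ → Submodule R A) [GradedAlgebra 𝒜] [IsNoetherianRing A]
    {B : Type u} [CommRing B] [Algebra R B] (ℬ : ℕ → Submodule R B) [GradedAlgebra ℬ]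
    (d : ℕ) (hd : 0 < d) (φ : B →ₐ[R] A) (hφ : Function.Injective φ)
    (hdeg : ∀ n : ℕ, Submodule.map φ.toLinearMap (ℬ n) = 𝒜 (n * d)) :
    IsNoetherianRing B := by
  -- φ maps homogeneous elements into degrees divisible by d
  have hφmem : ∀ (m : ℕ) (b : B), b ∈ ℬ m → φ b ∈ 𝒜 (m * d) := by
    intro m b hb
    rw [← hdeg m]
    exact ⟨b, hb, rfl⟩
  -- proj fixes the range of φ and is linear over it
  have hmul : ∀ (b : B) (a : A), proj 𝒜 d (a * φ b) = proj 𝒜 d a * φ b := by
    intro b
    induction b using DirectSum.Decomposition.inductionOn ℬ with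
    | zero => intro a; simp
    | @homogeneous m x => intro a; exact proj_mul_of_mem 𝒜 d a (hφmem m x x.2)
    | add x y hx hy => intro a; rw [map_add, mul_add, map_add, hx, hy, mul_add]
  have hfix : ∀ b : B, proj 𝒜 d (φ b) = φ b := by
    intro b
    induction b using DirectSum.Decomposition.inductionOn ℬ with
    | zero => simp
    | @homogeneous m x =>
      rw [proj_of_mem 𝒜 d (hφmem m x x.2), if_pos (Dvd.intro_left m rfl)]
    | add x y hx hy => rw [map_add, map_add, hx, hy]
  have hrange : ∀ a : A, ∃ b : B, proj 𝒜 d a = φ b := by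
    intro a
    induction a using DirectSum.Decomposition.inductionOn 𝒜 with
    | zero => exact ⟨0, by simp⟩
    | @homogeneous n x =>
      rw [proj_of_mem 𝒜 d x.2]
      by_cases h : d ∣ n
      · rw [if_pos h]
        obtain ⟨m, rfl⟩ := h
        have hx : (x : A) ∈ 𝒜 (m * d) := by
          rw [mul_comm]
          exact x.2
        rw [← hdeg m] at hx
        obtain ⟨b, -, hb⟩ := hx
        exact ⟨b, hb.symm⟩
      · rw [if_neg h]
        exact ⟨0, by simp⟩
    | add x y hx hy =>
      obtain ⟨bx, hbx⟩ := hx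
      obtain ⟨by', hby⟩ := hy
      exact ⟨bx + by', by rw [map_add, hbx, hby, map_add]⟩
  -- comap (map I) = I
  have hcomap : ∀ I : Ideal B, Ideal.comap φ.toRingHom (Ideal.map φ.toRingHom I) = I := by
    intro I
    apply le_antisymm _ Ideal.le_comap_map
    intro b hb
    have hb' : φ b ∈ Ideal.map φ.toRingHom I := hb
    have key : ∀ x ∈ Ideal.map φ.toRingHom I, ∀ a' : A, ∃ i ∈ I, proj 𝒜 d (a' * x) = φ i := by
      intro x hx
      unfold Ideal.map at hx
      induction hx using Submodule.span_induction with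
      | mem x hx =>
        obtain ⟨i₀, hi₀, rfl⟩ := hx
        intro a'
        obtain ⟨b', hb'⟩ := hrange a'
        refine ⟨b' * i₀, I.mul_mem_left _ hi₀, ?_⟩
        have : φ.toRingHom i₀ = φ i₀ := rfl
        rw [this, hmul, hb', map_mul]
      | zero => intro a'; exact ⟨0, I.zero_mem, by simp⟩
      | add x y _ _ hx hy =>
        intro a'
        obtain ⟨i, hi, hxi⟩ := hx a'
        obtain ⟨j, hj, hyj⟩ := hy a'
        exact ⟨i + j, I.add_mem hi hj, by rw [mul_add, map_add, hxi, hyj, map_add]⟩
      | smul c x _ hx =>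
        intro a'
        obtain ⟨i, hi, hxi⟩ := hx (a' * c)
        exact ⟨i, hi, by rw [smul_eq_mul, ← mul_assoc, hxi]⟩
    obtain ⟨i, hi, hbi⟩ := key _ hb' 1
    rw [one_mul, hfix] at hbi
    rw [hφ hbi]
    exact hi
  have hsm : StrictMono (fun I : Ideal B => Ideal.map φ.toRingHom I) := by
    intro I I' hlt
    refine lt_of_le_of_ne (Ideal.map_mono hlt.le) ?_
    intro heq
    have heq' : Ideal.map φ.toRingHom I = Ideal.map φ.toRingHom I' := heq
    have : I = I' := by rw [← hcomap I, ← hcomap I', heq']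
    exact hlt.ne this
  have hwf : WellFoundedGT (Ideal B) := hsm.wellFoundedGT
  exact isNoetherian_iff'.2 hwf

end Groth.Agent.S4412
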