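import Groth.Statements.S4414
import Mathlib
import Groth.Agent.Lib.Helper12.VAmple5
import Groth.Agent.Lib.Helper12.RelAmpleComp
-- import your own Groth.Agent.* helpers here

set_option autoImplicit false
universe u
open CategoryTheory CategoryTheory.Limits AlgebraicGeometry
open EGA2

namespace Groth.Agent.S4414

/-- Let Y be a quasi-compact separated scheme possessing an ample invertible O_Y-module, and f : X → Y a
morphism. Then f is quasi-projective (of finite type with some O_X-module ample relative to f) if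
and only if f is of finite type and there are r ≥ 0 and an immersion i of X into projective r-space
over Y with i followed by the projection equal to f. -/
theorem result {X Y : Scheme.{u}} [CompactSpace Y] [Y.IsSeparated]
    (hY : ∃ M : Y.Modules, CohB1.IsAmple M) (f : X ⟶ Y) :
    RelProj.IsQuasiProjective f ↔
      (LocallyOfFiniteType f ∧ QuasiCompact f ∧
        ∃ (r : ℕ) (i : X ⟶ CohB1.ProjSpaceOver r Y), IsImmersion i ∧ i ≫ CohB1.ProjSpaceOver.toBase r Y = f) := by
  obtain ⟨M, hM⟩ := hY
  constructor
  · rintro ⟨hft, hqc, L, hL⟩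
    refine ⟨hft, hqc, ?_⟩
    obtain ⟨n₀, -, hn⟩ :=
      Groth.Agent.Lib.helper12.RelAmpleComp.isAmple_tensor_pullback_tensorPow_eventually f hL hM
    have hA := hn n₀ le_rfl
    obtain ⟨k₀, hk⟩ :=
      Groth.Agent.Lib.helper12.VAmple4.isRelVeryAmplePn_tensorPow_eventually f hA
    obtain ⟨r, i, hi, hif, -⟩ := hk k₀ le_rfl
    exact ⟨r, i, hi, hif⟩
  · rintro ⟨hft, hqc, r, i, hi, hif⟩
    refine ⟨hft, hqc, (Scheme.Modules.pullback i).obj (Twist.twistOver r Y 1), ?_⟩
    exact Groth.Agent.Lib.helper12.VAmple5.isRelAmple_of_isRelVeryAmplePn f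
      ⟨r, i, hi, hif, ⟨Iso.refl _⟩⟩

end Groth.Agent.S4414
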