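import Groth.Statements.S4415
import Groth.Agent.Lib.Helper12.ChowProj

set_option autoImplicit false
universe u
open CategoryTheory CategoryTheory.Limits AlgebraicGeometry
open EGA2

namespace Groth.Agent.S4415

/-- Let r : X → S be a separated morphism of finite type and assume either (a) S is Noetherian, or (b) S
is quasi-compact and separated and X has finitely many irreducible components. Then there exist a
scheme X' and a morphism f : X' → X such that: (i) X' is quasi-projective over S through f ≫ r, and
f is projective and surjective; (ii) for some open U of X the open f⁻¹(U) is dense in X' and f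
restricted over U is an isomorphism; (iii) X' is reduced (resp. irreducible, resp. integral) if X
is. -/
theorem result {X S : Scheme.{u}} (r : X ⟶ S) [IsSeparated r] [LocallyOfFiniteType r] [QuasiCompact r]
    (h : IsNoetherian S ∨ (CompactSpace S ∧ S.IsSeparated ∧ (irreducibleComponents X).Finite)) :
    ∃ (X' : Scheme.{u}) (f : X' ⟶ X),
      RelProj.IsQuasiProjective (f ≫ r) ∧ RelProj.IsProjective f ∧ Surjective f ∧
      (∃ U : X.Opens, Dense ((f ⁻¹ᵁ U : X'.Opens) : Set X') ∧ IsIso (f ∣_ U)) ∧
      (IsReduced X → IsReduced X') ∧ (IrreducibleSpace X → IrreducibleSpace X') ∧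
      (IsIntegral X → IsIntegral X') := by
  have hS : CompactSpace S ∧ QuasiSeparatedSpace S ∧ (irreducibleComponents X).Finite := by
    rcases h with h | ⟨h1, h2, h3⟩
    · have : IsLocallyNoetherian X := LocallyOfFiniteType.isLocallyNoetherian r
      have : CompactSpace X := QuasiCompact.compactSpace_of_compactSpace r
      have : IsNoetherian X := ⟨⟩
      exact ⟨inferInstance, inferInstance, TopologicalSpace.NoetherianSpace.finite_irreducibleComponents⟩
    · exact ⟨h1, inferInstance, h3⟩
  obtain ⟨_, _, hfin⟩ := hS
  obtain ⟨X', f, h1, h2, h3, ⟨U, -, hU2, hU3⟩, h5, h6, h7⟩ :=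
    Groth.Agent.Lib.helper12.ChowProj.chow_relProj r hfin
  exact ⟨X', f, h1, h2, h3, ⟨U, hU2, hU3⟩, h5, h6, h7⟩

end Groth.Agent.S4415
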