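import Groth.Statements.S4416
import Groth.Agent.Lib.Helper12.Chow11
import Groth.Agent.Lib.Helper12.RelProjProper
import Groth.Agent.Lib.Helper12.PnLocal7

set_option autoImplicit false
universe u
open CategoryTheory CategoryTheory.Limits AlgebraicGeometry
open EGA2

namespace Groth.Agent.S4416

/-- Let r : X → S be separated of finite type, and assume either S Noetherian, or S quasi-compact and
separated with X having finitely many irreducible components. Then r is proper if and only if there
are a scheme X' and a surjective morphism f : X' → X with f ≫ r projective. Moreover, when r is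
proper, f can be chosen so that in addition there is a dense open U of X with f⁻¹(U) dense in X'
over which f is an isomorphism, and with X' irreducible (resp. reduced) if X is. (The published
statement also remarks that f is then projective; that is not stated here.) -/
theorem result {X S : Scheme.{u}} (r : X ⟶ S) [IsSeparated r] [LocallyOfFiniteType r] [QuasiCompact r]
    (h : IsNoetherian S ∨ (CompactSpace S ∧ S.IsSeparated ∧ (irreducibleComponents X).Finite)) :
    (IsProper r ↔ ∃ (X' : Scheme.{u}) (f : X' ⟶ X), Surjective f ∧ RelProj.IsProjective (f ≫ r)) ∧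
    (IsProper r → ∃ (X' : Scheme.{u}) (f : X' ⟶ X), Surjective f ∧ RelProj.IsProjective (f ≫ r) ∧
        (∃ U : X.Opens, Dense (U : Set X) ∧ Dense ((f ⁻¹ᵁ U : X'.Opens) : Set X') ∧ IsIso (f ∣_ U)) ∧
        (IrreducibleSpace X → IrreducibleSpace X') ∧ (IsReduced X → IsReduced X')) := by
  have hS : CompactSpace S ∧ QuasiSeparatedSpace S ∧ (irreducibleComponents X).Finite := by
    rcases h with h | ⟨h1, h2, h3⟩
    · have : IsLocallyNoetherian X := LocallyOfFiniteType.isLocallyNoetherian r
      have : CompactSpace X := QuasiCompact.compactSpace_of_compactSpace r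
      have : IsNoetherian X := ⟨⟩
      exact ⟨inferInstance, inferInstance, TopologicalSpace.NoetherianSpace.finite_irreducibleComponents⟩
    · exact ⟨h1, inferInstance, h3⟩
  obtain ⟨_, _, hfin⟩ := hS
  have main : IsProper r → ∃ (X' : Scheme.{u}) (f : X' ⟶ X), Surjective f ∧
      RelProj.IsProjective (f ≫ r) ∧
      (∃ U : X.Opens, Dense (U : Set X) ∧ Dense ((f ⁻¹ᵁ U : X'.Opens) : Set X') ∧ IsIso (f ∣_ U)) ∧
      (IrreducibleSpace X → IrreducibleSpace X') ∧ (IsReduced X → IsReduced X') := by
    intro hr
    obtain ⟨n, X'', π, j, hj, hjf, hπ, hs, hU, hirr, hred⟩ :=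
      Groth.Agent.Lib.helper12.Chow11.chow_finite_components' r hfin
    have : IsProper (j ≫ CohB1.ProjSpaceOver.toBase n S) := by rw [hjf]; infer_instance
    have hcl := Groth.Agent.Lib.helper12.Chow5.isClosedImmersion_of_isProper_comp j
      (CohB1.ProjSpaceOver.toBase n S)
    exact ⟨X'', π, hs, Groth.Agent.Lib.helper12.PnLocal.isProjective_of_isHProjective _
      ⟨n, j, hcl, hjf⟩, hU, hirr, hred⟩
  refine ⟨⟨fun hr => ?_, ?_⟩, main⟩
  · obtain ⟨X', f, hs, hp, -⟩ := main hr
    exact ⟨X', f, hs, hp⟩
  · rintro ⟨X', f, hs, hp⟩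
    have hfr : IsProper (f ≫ r) :=
      Groth.Agent.Lib.helper12.RelProjProper.isProper_of_isProjective _ hp
    have : UniversallyClosed r := UniversallyClosed.of_comp_surjective f r
    exact ⟨⟩

end Groth.Agent.S4416
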