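import Groth.Statements.S4420
import Groth.Agent.S4418
import Groth.Agent.Lib.Helper12.RelAmpleComp
import Groth.Agent.Lib.Helper12.VAmple6
import Groth.Agent.Lib.Helper12.Chow5
import Groth.Agent.Lib.Helper12.PnLocal7

set_option autoImplicit false
universe u
open CategoryTheory CategoryTheory.Limits AlgebraicGeometry
open EGA2

namespace Groth.Agent.S4420

/-- Let Y be a quasi-compact separated scheme possessing an ample invertible O_Y-module and f : X → Y a
morphism. Then f is projective if and only if there are r ≥ 0 and a closed immersion of X into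
projective r-space over Y compatible with the projections (f is H-projective). -/
theorem result {X Y : Scheme.{u}} [CompactSpace Y] [Y.IsSeparated]
    (hY : ∃ M : Y.Modules, CohB1.IsAmple M) (f : X ⟶ Y) :
    RelProj.IsProjective f ↔ RelProj.IsHProjective f := by
  constructor
  · intro hf
    obtain ⟨⟨hft, hqc, L, hL⟩, hprop⟩ := Groth.Agent.S4418.result f hf
    obtain ⟨M, hM⟩ := hY
    obtain ⟨n₀, -, h⟩ :=
      Groth.Agent.Lib.helper12.RelAmpleComp.isAmple_tensor_pullback_tensorPow_eventually f hL hM
    obtain ⟨n, i, hi, hqci, hif⟩ :=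
      Groth.Agent.Lib.helper12.VAmple6.isHQuasiProjective_of_isAmple f (h n₀ le_rfl)
    have : IsProper (i ≫ CohB1.ProjSpaceOver.toBase n Y) := by rw [hif]; infer_instance
    exact ⟨n, i, Groth.Agent.Lib.helper12.Chow5.isClosedImmersion_of_isProper_comp i
      (CohB1.ProjSpaceOver.toBase n Y), hif⟩
  · exact Groth.Agent.Lib.helper12.PnLocal.isProjective_of_isHProjective f

end Groth.Agent.S4420
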