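import Groth.Statements.S4425
import Groth.Agent.Lib.Helper28.QProjTools
import Groth.Agent.S12485
import Groth.Agent.Lib.Helper12.RelVAmple
-- import your own Groth.Agent.* helpers here

set_option autoImplicit false
universe u
open CategoryTheory CategoryTheory.Limits AlgebraicGeometry
open EGA2

namespace Groth.Agent.S4425

/-- (a) ⇔ (c): let Y be a quasi-compact separated scheme and f : X → Y a morphism. Then f is
quasi-projective if and only if f is of finite type and there are a quasi-coherent graded
O_Y-algebra 𝒮, generated by its degree-one part with that part of finite type, a relative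
homogeneous spectrum p : P → Y of 𝒮 (given with its charts over affine opens), and an open immersion
j : X → P with dense image such that j ≫ p = f. (The published statement also allows Y whose
underlying space is Noetherian, and adds a third equivalent condition, an immersion into some P(E);
this row assumes Y quasi-compact and separated and states only the equivalence of the other two.) -/
theorem result {X Y : Scheme.{u}} [CompactSpace Y] [Y.IsSeparated] (f : X ⟶ Y) :
    RelProj.IsQuasiProjective f ↔
      (LocallyOfFiniteType f ∧ QuasiCompact f ∧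
        ∃ (𝒮 : RelProj.QCGrAlg Y) (P : Scheme.{u}) (p : P ⟶ Y)
          (chart : ∀ (U : Y.Opens) (hU : IsAffineOpen U), ((p ⁻¹ᵁ U : P.Opens) : Scheme.{u}) ≅ Proj (𝒮.deg U hU))
          (j : X ⟶ P), 𝒮.IsGenDegOne ∧ 𝒮.IsFTDeg 1 ∧ RelProj.IsRelProj 𝒮 p chart ∧
            IsOpenImmersion j ∧ Dense (Set.range j.base) ∧ j ≫ p = f) := by
  constructor
  · intro hf
    obtain ⟨M, hM, hva⟩ := Groth.Agent.Lib.helper28.QProjTools.exists_veryAmple f hf
    have : LocallyOfFiniteType f := hf.1
    have : QuasiCompact f := hf.2.1
    obtain ⟨𝒮, P, p, chart, O1, lam, i, hgen, hft, hP, -, hi, hd, hip, -⟩ :=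
      Groth.Agent.Lib.helper28.QProjTools.exists_open_dense_immersion f M hM hva
    exact ⟨hf.1, hf.2.1, 𝒮, P, p, chart, i, hgen, hft, hP, hi, hd, hip⟩
  · rintro ⟨hlft, hqc, 𝒮, P, p, chart, j, hgen, hft, hP, hj, -, hjp⟩
    obtain ⟨O1, lam, hO1⟩ :=
      Groth.Agent.Lib.helper28.RelTwistExists.exists_isRelTwist 𝒮 p chart hP 1
    have hO1inv : PicF.IsInvertible O1 :=
      Groth.Agent.Lib.helper28.RelTwistInvertible.isInvertible lam hgen hO1
    have hL : PicF.IsInvertible ((Scheme.Modules.pullback j).obj O1) :=
      Groth.Agent.Lib.helper11.InvMod.isInvertible_pullback j hO1inv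
    have hva : RelProj.IsRelVeryAmple f ((Scheme.Modules.pullback j).obj O1) :=
      Groth.Agent.S12485.result f _ hL 𝒮 hgen p chart hP O1 lam hO1 j hjp (Iso.refl _)
    exact ⟨hlft, hqc, _,
      Groth.Agent.Lib.helper12.RelVAmple.isRelAmple_of_isRelVeryAmple f _ hva⟩

end Groth.Agent.S4425
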