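import Groth.Statements.S4427
import Mathlib
import Groth.Agent.Lib.Helper12.SecExtend
-- import your own Groth.Agent.* helpers here

set_option autoImplicit false
universe u
open CategoryTheory CategoryTheory.Limits AlgebraicGeometry
open EGA2

namespace Groth.Agent.S4427

/-- Let Y be a scheme and L an invertible O_Y-module. Then L is ample relative to the identity morphism
of Y. -/
theorem result (Y : Scheme.{u}) (L : Y.Modules) (hL : PicF.IsInvertible L) :
    RelAmple.IsRelAmple (𝟙 Y) L := by
  exact Groth.Agent.Lib.helper12.SecExtend.isRelAmple_id hL

end Groth.Agent.S4427
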