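import Groth.Statements.S4429
import Mathlib

set_option autoImplicit false
universe u
open EGA2

namespace Groth.Agent.S4429

/-- For an integral domain A with fraction field K, a finitely generated A-module E and an endomorphism
u of E, the coefficients of the characteristic polynomial of u ⊗ 1 acting on the K-vector space K
⊗_A E (the elementary symmetric functions of u, among them its trace and determinant) are integral
over A. -/
theorem result (A : Type u) [CommRing A] [IsDomain A] (K : Type u) [Field K]
    [Algebra A K] [IsFractionRing A K] (E : Type u) [AddCommGroup E] [Module A E] [Module.Finite A E]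
    (u : E →ₗ[A] E) (i : ℕ) :
    IsIntegral A (((u.baseChange K).charpoly).coeff i) := by
  classical
  obtain ⟨P, hPm, hP⟩ := LinearMap.exists_monic_and_aeval_eq_zero A u
  set f : Module.End K (TensorProduct A K E) := u.baseChange K with hf
  have hfP : Polynomial.aeval f P = 0 := by
    have h1 : f = Module.End.baseChangeHom A K E u := rfl
    rw [h1, Polynomial.aeval_algHom_apply, hP, map_zero]
  set PK : Polynomial K := P.map (algebraMap A K) with hPK
  have hfPK : Polynomial.aeval f PK = 0 := by
    rw [hPK, Polynomial.aeval_map_algebraMap]; exact hfP
  let L := AlgebraicClosure K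
  set g : Module.End L (TensorProduct K L (TensorProduct A K E)) := f.baseChange L with hg
  have hgP : Polynomial.aeval g PK = 0 := by
    have h1 : g = Module.End.baseChangeHom K L _ f := rfl
    rw [h1, Polynomial.aeval_algHom_apply, hfPK, map_zero]
  have hgchar : g.charpoly = f.charpoly.map (algebraMap K L) := LinearMap.charpoly_baseChange f L
  have key : ∀ j, IsIntegral A ((f.charpoly.map (algebraMap K L)).coeff j) := by
    intro j
    refine Polynomial.isIntegral_coeff_of_factors (R := A) _ ?_ (IsAlgClosed.splits _) ?_ j
    · rw [(f.charpoly_monic.map (algebraMap K L)).leadingCoeff]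
      exact isIntegral_one
    · intro x hx
      rw [← hgchar] at hx
      have h1 : g.HasEigenvalue x := (Module.End.hasEigenvalue_iff_isRoot_charpoly g x).mpr hx
      have h2 : (minpoly L g).IsRoot x := Module.End.isRoot_of_hasEigenvalue h1
      have h3 : minpoly L g ∣ PK.map (algebraMap K L) := by
        apply minpoly.dvd
        rw [Polynomial.aeval_map_algebraMap]
        exact hgP
      have h4 : (PK.map (algebraMap K L)).IsRoot x := h2.dvd h3
      refine ⟨P, hPm, ?_⟩
      rw [Polynomial.IsRoot.def, hPK, Polynomial.map_map, Polynomial.eval_map] at h4
      rw [IsScalarTower.algebraMap_eq A K L]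
      exact h4
  have h5 := key i
  rw [Polynomial.coeff_map] at h5
  exact (isIntegral_algHom_iff (IsScalarTower.toAlgHom A K L)
    (algebraMap K L).injective).mp h5

end Groth.Agent.S4429
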