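import Groth.Statements.S4430
import Mathlib

set_option autoImplicit false
universe u
open EGA2

namespace Groth.Agent.S4430

open TensorProduct Polynomial
set_option linter.unusedSectionVars false

/-- Nakayama trick: a surjective endomorphism of a finite module has a polynomial right inverse. -/
lemma exists_poly_inverse {A : Type*} [CommRing A] {E : Type*} [AddCommGroup E] [Module A E]
    [Module.Finite A E] (u : E →ₗ[A] E) (hu : Function.Surjective u) :
    ∃ q : A[X], u * aeval u q = 1 := by
  have hfg : (⊤ : Submodule A[X] (Module.AEval' u)).FG := Module.Finite.fg_top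
  have hle : (⊤ : Submodule A[X] (Module.AEval' u)) ≤ Ideal.span {(X : A[X])} • ⊤ := by
    intro m _
    obtain ⟨m', rfl⟩ := (Module.AEval'.of u).surjective m
    obtain ⟨m'', rfl⟩ := hu m'
    rw [← Module.AEval'.X_smul_of]
    exact Submodule.smul_mem_smul (Ideal.subset_span rfl) trivial
  obtain ⟨r, hr, hr'⟩ :=
    Submodule.exists_sub_one_mem_and_smul_eq_zero_of_fg_of_le_smul _ _ hfg hle
  obtain ⟨q', hq'⟩ := Ideal.mem_span_singleton'.mp hr
  refine ⟨-q', ?_⟩
  ext m
  have h1 := hr' (Module.AEval'.of u m) trivial
  have hr2 : r = 1 + X * q' := by rw [mul_comm, hq']; ring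
  rw [hr2, add_smul, one_smul, mul_smul, ← Module.AEval.of_aeval_smul, Module.AEval'.X_smul_of,
    ← map_add] at h1
  have h2 := (Module.AEval'.of u).injective (h1.trans (map_zero _).symm)
  have h4 : u ((aeval u q') m) = -m := by
    have : u ((aeval u q') m) = u (aeval u q' • m) := rfl
    rw [this]; exact eq_neg_of_add_eq_zero_right h2
  simp only [Module.End.mul_apply, map_neg, LinearMap.neg_apply, Module.End.one_apply, h4, neg_neg]


/-- split case of `det (q(f)) = Res(χ_f, q)`. -/
lemma det_aeval_of_splits {K V : Type*} [Field K] [AddCommGroup V] [Module K V]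
    [FiniteDimensional K V] (f : V →ₗ[K] V) (q : K[X]) (hq : q.Splits) :
    LinearMap.det (aeval f q) =
      resultant f.charpoly q (Module.finrank K V) q.natDegree := by
  have hdeg : f.charpoly.natDegree = Module.finrank K V := LinearMap.charpoly_natDegree f
  rw [resultant_comm, resultant_eq_prod_eval q f.charpoly (Module.finrank K V) hdeg.le hq]
  let φ : K[X] →* K := (LinearMap.det : Module.End K V →* K).comp
    ((aeval f : K[X] →ₐ[K] Module.End K V) : K[X] →* Module.End K V)
  have hφ : ∀ p : K[X], φ p = LinearMap.det (aeval f p) := fun p => rfl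
  rw [← hφ]
  conv_lhs => rw [hq.eq_prod_roots]
  rw [map_mul, map_multiset_prod, Multiset.map_map]
  have h1 : φ (C q.leadingCoeff) = q.leadingCoeff ^ Module.finrank K V := by
    rw [hφ, aeval_C, Algebra.algebraMap_eq_smul_one, LinearMap.det_smul, map_one, mul_one]
  have h2 : ∀ μ : K, (φ ∘ fun x => X - C x) μ =
      (-1) ^ Module.finrank K V * f.charpoly.eval μ := by
    intro μ
    simp only [Function.comp_apply, hφ, map_sub, aeval_X, aeval_C]
    rw [LinearMap.eval_charpoly, ← neg_sub (algebraMap K (Module.End K V) μ) f,
      ← neg_one_smul K (algebraMap K (Module.End K V) μ - f), LinearMap.det_smul]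
  rw [h1, Multiset.map_congr rfl (fun μ _ => h2 μ), Multiset.prod_map_mul, Multiset.map_const',
    Multiset.prod_replicate, ← hq.natDegree_eq_card_roots, ← pow_mul]
  ring


/-- base change commutes with polynomial evaluation -/
lemma aeval_baseChange {A E : Type*} [CommRing A] [AddCommGroup E] [Module A E]
    (K : Type*) [CommRing K] [Algebra A K] (u : E →ₗ[A] E) (q : A[X]) :
    (aeval u q).baseChange K = aeval (u.baseChange K) (q.map (algebraMap A K)) := by
  rw [aeval_map_algebraMap]
  exact (Polynomial.aeval_algHom_apply (Module.End.baseChangeHom A K E) u q).symm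

/-- `det (q(f)) = Res(χ_f, q)`. -/
lemma det_aeval {K V : Type*} [Field K] [AddCommGroup V] [Module K V]
    [FiniteDimensional K V] (f : V →ₗ[K] V) (q : K[X]) :
    LinearMap.det (aeval f q) =
      resultant f.charpoly q (Module.finrank K V) q.natDegree := by
  apply (algebraMap K q.SplittingField).injective
  rw [← LinearMap.det_baseChange, aeval_baseChange, ← resultant_map_map]
  have := det_aeval_of_splits (f.baseChange q.SplittingField)
    (q.map (algebraMap K q.SplittingField)) (SplittingField.splits q)
  rw [this, LinearMap.charpoly_baseChange, Module.finrank_baseChange, natDegree_map]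

/-- Let A be an integral domain with fraction field K, E a finitely generated A-module and u an
endomorphism of E whose characteristic-polynomial coefficients (those of u ⊗ 1 on K ⊗_A E) all lie
in A. If u is an automorphism of E, then its determinant, as an element of A, is invertible in A. -/
theorem result (A : Type u) [CommRing A] [IsDomain A] (K : Type u) [Field K]
    [Algebra A K] [IsFractionRing A K] (E : Type u) [AddCommGroup E] [Module A E] [Module.Finite A E]
    (u : E →ₗ[A] E) (hcoeff : ∀ i : ℕ, ((u.baseChange K).charpoly).coeff i ∈ (algebraMap A K).range)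
    (a : A) (ha : algebraMap A K a = LinearMap.det (u.baseChange K)) (hu : Function.Bijective u) :
    IsUnit a := by
  have hinj : Function.Injective (algebraMap A K) := IsFractionRing.injective A K
  obtain ⟨χ, hχ⟩ : ∃ χ : A[X], χ.map (algebraMap A K) = (u.baseChange K).charpoly := by
    have := (Polynomial.lifts_iff_coeff_lifts (f := algebraMap A K) (u.baseChange K).charpoly).mpr
      (fun n => by simpa using hcoeff n)
    exact this
  obtain ⟨q, hq⟩ := exists_poly_inverse u hu.surjective
  set b := resultant χ q (Module.finrank K (K ⊗[A] E)) (q.map (algebraMap A K)).natDegree with hbdef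
  have hb : algebraMap A K b = LinearMap.det ((aeval u q).baseChange K) := by
    rw [aeval_baseChange, det_aeval, ← hχ, resultant_map_map]
  have h1 : algebraMap A K (a * b) = 1 := by
    rw [map_mul, ha, hb, ← map_mul, ← LinearMap.baseChange_mul, hq, LinearMap.baseChange_one,
      map_one]
  have h2 : a * b = 1 := hinj (by rw [h1, map_one])
  exact IsUnit.of_mul_eq_one _ h2

end Groth.Agent.S4430
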