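import Groth.Statements.S4431
import Mathlib

set_option autoImplicit false
universe u
open EGA2

namespace Groth.Agent.S4431

open TensorProduct Polynomial
set_option linter.unusedSectionVars false
variable (A : Type u) [CommRing A] [IsDomain A] (K : Type u) [Field K]
    [Algebra A K] [IsFractionRing A K] (E : Type u) [AddCommGroup E] [Module A E]

/-- `E → K ⊗ E` is injective for torsion-free `E`. -/
lemma mk_injective [Module.IsTorsionFree A E] :
    Function.Injective (TensorProduct.mk A K E 1) := by
  rw [← LinearMap.ker_eq_bot, LinearMap.ker_eq_bot']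
  intro x hx
  have : IsLocalizedModule (nonZeroDivisors A) (TensorProduct.mk A K E 1) :=
    IsLocalization.tensorProduct_isLocalizedModule (nonZeroDivisors A) K
  obtain ⟨s, hs⟩ := (IsLocalizedModule.eq_zero_iff (nonZeroDivisors A) (TensorProduct.mk A K E 1)).mp hx
  have hs0 : (s : A) ≠ 0 := nonZeroDivisors.ne_zero s.2
  exact (smul_eq_zero_iff_right hs0).mp hs

variable {A E}

/-- base change commutes with polynomial evaluation -/
lemma aeval_baseChange (u : E →ₗ[A] E) (q : A[X]) :
    (aeval u q).baseChange K = aeval (u.baseChange K) (q.map (algebraMap A K)) := by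
  rw [aeval_map_algebraMap]
  exact (Polynomial.aeval_algHom_apply (Module.End.baseChangeHom A K E) u q).symm

/-- Let A be an integral domain with fraction field K, E a finitely generated torsion-free A-module and
u an endomorphism of E whose characteristic-polynomial coefficients (those of u ⊗ 1 on K ⊗_A E) all
lie in A. If the determinant of u is the image of a unit of A, then u is an automorphism of E. -/
theorem result (A : Type u) [CommRing A] [IsDomain A] (K : Type u) [Field K]
    [Algebra A K] [IsFractionRing A K] (E : Type u) [AddCommGroup E] [Module A E] [Module.Finite A E]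
    [Module.IsTorsionFree A E]
    (u : E →ₗ[A] E) (hcoeff : ∀ i : ℕ, ((u.baseChange K).charpoly).coeff i ∈ (algebraMap A K).range)
    (a : A) (ha : algebraMap A K a = LinearMap.det (u.baseChange K)) (hunit : IsUnit a) :
    Function.Bijective u := by
  have hinj : Function.Injective (algebraMap A K) := IsFractionRing.injective A K
  -- lift the characteristic polynomial
  obtain ⟨χ, hχ⟩ : ∃ χ : A[X], χ.map (algebraMap A K) = (u.baseChange K).charpoly := by
    have := (Polynomial.lifts_iff_coeff_lifts (f := algebraMap A K) (u.baseChange K).charpoly).mpr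
      (fun n => by simpa using hcoeff n)
    exact this
  -- Cayley-Hamilton on E
  have hCH : aeval u χ = 0 := by
    ext x
    apply mk_injective A K E
    have h1 : (aeval u χ).baseChange K = 0 := by
      rw [aeval_baseChange, hχ, LinearMap.aeval_self_charpoly]
    have h2 := LinearMap.congr_fun h1 ((1 : K) ⊗ₜ[A] x)
    simpa using h2
  -- constant coefficient is a unit
  have hc0 : IsUnit (χ.coeff 0) := by
    have h1 : algebraMap A K (χ.coeff 0) = (u.baseChange K).charpoly.coeff 0 := by
      rw [← hχ, coeff_map]
    have h2 := LinearMap.det_eq_sign_charpoly_coeff (u.baseChange K)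
    rw [← ha, ← h1] at h2
    have h3 : a = (-1) ^ Module.finrank K (K ⊗[A] E) * χ.coeff 0 := by
      apply hinj
      rw [h2, map_mul, map_pow, map_neg, map_one]
    have h4 : χ.coeff 0 = (-1) ^ Module.finrank K (K ⊗[A] E) * a := by
      rw [h3, ← mul_assoc, ← mul_pow]
      simp
    rw [h4]
    exact (IsUnit.pow _ isUnit_one.neg).mul hunit
  obtain ⟨c, hc⟩ := hc0
  set w : E →ₗ[A] E := aeval u (divX χ) with hw
  have e1 : w * u + (c : A) • (1 : Module.End A E) = 0 := by
    have := congrArg (aeval u) (divX_mul_X_add χ)
    rw [map_add, map_mul, aeval_X, aeval_C, hCH, ← hc] at this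
    rw [Algebra.algebraMap_eq_smul_one] at this
    exact this
  have e2 : u * w + (c : A) • (1 : Module.End A E) = 0 := by
    have := congrArg (aeval u) (X_mul_divX_add χ)
    rw [map_add, map_mul, aeval_X, aeval_C, hCH, ← hc] at this
    rw [Algebra.algebraMap_eq_smul_one] at this
    exact this
  rw [Function.bijective_iff_has_inverse]
  refine ⟨fun x => -((c⁻¹ : Aˣ) : A) • w x, ?_, ?_⟩
  · intro x
    have := LinearMap.congr_fun e1 x
    simp only [LinearMap.add_apply, Module.End.mul_apply, LinearMap.smul_apply,
      Module.End.one_apply, LinearMap.zero_apply] at this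
    have h5 : w (u x) = -((c : A) • x) := eq_neg_of_add_eq_zero_left this
    simp only
    rw [h5, smul_neg, neg_smul, neg_neg, smul_smul, Units.inv_mul, one_smul]
  · intro x
    have := LinearMap.congr_fun e2 x
    simp only [LinearMap.add_apply, Module.End.mul_apply, LinearMap.smul_apply,
      Module.End.one_apply, LinearMap.zero_apply] at this
    have h5 : u (w x) = -((c : A) • x) := eq_neg_of_add_eq_zero_left this
    simp only
    rw [map_smul, h5, smul_neg, neg_smul, neg_neg, smul_smul, Units.inv_mul, one_smul]

end Groth.Agent.S4431
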