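import Groth.Statements.S4434
import Mathlib
import Groth.Agent.Lib.Helper13.KA6
-- import your own Groth.Agent.* helpers here

set_option autoImplicit false
universe u
open EGA2

namespace Groth.Agent.S4434

/-- Let A be a Noetherian domain with field of fractions K and L a finitely generated field extension of
K. The integral closure of A in L is the intersection of the discrete valuation subrings of L (with
fraction field L) containing the image of A: an element of L is integral over A exactly when it
belongs to all of them. -/
theorem result (A : Type u) [CommRing A] [IsDomain A] [IsNoetherianRing A]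
    (K : Type u) [Field K] [Algebra A K] [IsFractionRing A K]
    (L : Type u) [Field L] [Algebra K L] [Algebra A L] [IsScalarTower A K L] (hfg : (⊤ : IntermediateField K L).FG) (x : L) :
    IsIntegral A x ↔ ∀ R : ValuationSubring L, IsDiscreteValuationRing R → (∀ a : A, algebraMap A L a ∈ R) → x ∈ R := by
  haveI : Algebra.EssFiniteType K L := IntermediateField.fg_top_iff.mp hfg
  haveI : Algebra.EssFiniteType A K := Algebra.EssFiniteType.of_isLocalization K (nonZeroDivisors A)
  haveI : Algebra.EssFiniteType A L := Algebra.EssFiniteType.comp A K L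
  have hinj : Function.Injective (algebraMap A L) := by
    rw [IsScalarTower.algebraMap_eq A K L]
    exact (algebraMap K L).injective.comp (IsFractionRing.injective A K)
  constructor
  · intro hx R _ hR
    obtain ⟨p, hp, hpx⟩ := hx
    let φ : A →+* R := (algebraMap A L).codRestrict R.toSubring hR
    have hx' : IsIntegral R x := by
      refine ⟨p.map φ, hp.map φ, ?_⟩
      rw [Polynomial.eval₂_map]
      exact hpx
    obtain ⟨z, hz⟩ := IsIntegrallyClosed.algebraMap_eq_of_integral hx'
    rw [← hz]
    exact z.2
  · intro h
    by_contra hx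
    have hx0 : x ≠ 0 := by
      rintro rfl
      exact hx isIntegral_zero
    set y : L := x⁻¹ with hy
    have hy0 : y ≠ 0 := inv_ne_zero hx0
    let B : Subalgebra A L := Algebra.adjoin A {y}
    have hyB : y ∈ B := Algebra.subset_adjoin rfl
    -- `y` is not a unit of `B`
    have hspan : Ideal.span {(⟨y, hyB⟩ : B)} ≠ ⊤ := by
      intro htop
      letI : Invertible y := invertibleOfNonzero hy0
      have hbot : (⊥ : Ideal A) ≠ ⊤ := bot_ne_top
      obtain ⟨p, hp1, hp2⟩ :=
        Algebra.exists_aeval_invOf_eq_zero_of_idealMap_adjoin_sup_span_eq_top y (⊥ : Ideal A) hbot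
          (by rw [htop]; exact le_antisymm le_top le_sup_right)
      rw [Ideal.mem_bot, sub_eq_zero] at hp1
      refine hx ⟨p, hp1, ?_⟩
      have hinv : ⅟y = x := by rw [invOf_eq_inv, hy, inv_inv]
      rw [hinv] at hp2
      exact hp2
    obtain ⟨𝔪, h𝔪, hle⟩ := Ideal.exists_le_maximal _ hspan
    haveI : Algebra.FiniteType A B :=
      (Subalgebra.fg_iff_finiteType B).mp ⟨{y}, by rw [Finset.coe_singleton]⟩
    haveI : IsNoetherianRing B := Algebra.FiniteType.isNoetherianRing A B
    haveI : Algebra.EssFiniteType B L := Algebra.EssFiniteType.of_comp A B L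
    have hBinj : Function.Injective (algebraMap B L) := Subtype.val_injective
    obtain ⟨O, hO, hBO, hmem⟩ := Groth.Agent.Lib.helper13.KA.exists_dvr_of_essFiniteType B L 𝔪
      (by rw [(RingHom.injective_iff_ker_eq_bot _).mp hBinj]; exact bot_le)
      ⟨⟨y, hyB⟩, hle (Ideal.subset_span rfl), hy0⟩
    have hxO : x ∈ O := h O hO (fun a ↦ hBO (algebraMap A B a))
    have hyO : (⟨y, hBO ⟨y, hyB⟩⟩ : O) ∈ IsLocalRing.maximalIdeal O :=
      (hmem ⟨y, hyB⟩).mpr (hle (Ideal.subset_span rfl))
    have hunit : IsUnit (⟨y, hBO ⟨y, hyB⟩⟩ : O) := by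
      refine IsUnit.of_mul_eq_one (⟨x, hxO⟩ : O) ?_
      apply Subtype.ext
      show y * x = 1
      rw [hy, inv_mul_cancel₀ hx0]
    exact hyO hunit

end Groth.Agent.S4434
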