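import Groth.Statements.S4435
import Mathlib
-- import your own Groth.Agent.* helpers here

set_option autoImplicit false
universe u
open CategoryTheory CategoryTheory.Limits AlgebraicGeometry
open EGA2

namespace Groth.Agent.S4435

noncomputable section

open AlgebraicGeometry CategoryTheory Limits in
/-- The stalk of an integral scheme at a point which is generic is a field. -/
lemma isField_stalk_of_eq_genericPoint {X : Scheme.{u}} [IsIntegral X] (x : X)
    (hx : x = genericPoint X) : IsField (X.presheaf.stalk x) := by
  subst hx
  exact Field.toIsField X.functionField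

open AlgebraicGeometry CategoryTheory Limits in
/-- A dominant morphism of integral schemes maps the generic point to the generic point. -/
lemma map_genericPoint_of_isDominant {X S : Scheme.{u}} [IsIntegral X] [IsIntegral S]
    (f : X ⟶ S) [IsDominant f] : f (genericPoint X) = genericPoint S := by
  have h1 : closure ({f (genericPoint X)} : Set S) = Set.univ := by
    apply Set.eq_univ_of_univ_subset
    have h2 : Set.range f ⊆ closure {f (genericPoint X)} := by
      rintro _ ⟨x, rfl⟩
      have hx : genericPoint X ⤳ x := (genericPoint_spec X).specializes trivial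
      exact (hx.map f.continuous).mem_closed isClosed_closure (subset_closure rfl)
    have h3 := closure_minimal h2 isClosed_closure
    rw [f.denseRange.closure_range] at h3
    exact h3
  have hgp : IsGenericPoint (f (genericPoint X)) (⊤ : Set S) := h1
  exact hgp.eq (genericPoint_spec S)

open AlgebraicGeometry CategoryTheory Limits in
/-- Key computation: every element of the function field of `X` is a quotient of germs of sections
over the preimage `W` of an affine open, and germs of sections are integral over the function
field of the base. -/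
theorem stalkMap_genericPoint_props {X S : Scheme.{u}} [IsIntegral X] [IsIntegral S]
    (f : X ⟶ S) [IsDominant f] [IsIntegralHom f] :
    (f.stalkMap (genericPoint X)).hom.IsIntegral ∧
      (IsFinite f → (f.stalkMap (genericPoint X)).hom.Finite) := by
  classical
  have hfξ := map_genericPoint_of_isDominant f
  obtain ⟨V, hV, hξV, -⟩ := exists_isAffineOpen_mem_and_subset (X := S)
    (x := f (genericPoint X)) (U := ⊤) trivial
  have hW : IsAffineOpen (f ⁻¹ᵁ V) := hV.preimage f
  have hξW : genericPoint X ∈ f ⁻¹ᵁ V := hξV
  letI := (isField_stalk_of_eq_genericPoint _ hfξ).toField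
  letI := (isField_stalk_of_eq_genericPoint (genericPoint X) rfl).toField
  letI : Algebra (S.presheaf.stalk (f (genericPoint X))) (X.presheaf.stalk (genericPoint X)) :=
    (f.stalkMap (genericPoint X)).hom.toAlgebra
  -- germs of sections over `W` are integral
  have hgerm : ∀ b : Γ(X, f ⁻¹ᵁ V), IsIntegral (S.presheaf.stalk (f (genericPoint X)))
      (X.presheaf.germ (f ⁻¹ᵁ V) (genericPoint X) hξW b) := by
    intro b
    obtain ⟨p, hp, hpe⟩ := IsIntegralHom.isIntegral_app f V hV b
    refine ⟨p.map (S.presheaf.germ V (f (genericPoint X)) hξV).hom, hp.map _, ?_⟩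
    rw [Polynomial.eval₂_map]
    have hcomp : (algebraMap (S.presheaf.stalk (f (genericPoint X)))
        (X.presheaf.stalk (genericPoint X))).comp
        (S.presheaf.germ V (f (genericPoint X)) hξV).hom =
        (X.presheaf.germ (f ⁻¹ᵁ V) (genericPoint X) hξW).hom.comp (f.app V).hom := by
      have := Scheme.Hom.germ_stalkMap f V (genericPoint X) hξV
      ext a
      exact congr($(this).hom a)
    rw [hcomp, ← Polynomial.hom_eval₂, hpe, map_zero]
  -- every element is a quotient of germs
  have hquot : ∀ z : X.presheaf.stalk (genericPoint X), ∃ b s : Γ(X, f ⁻¹ᵁ V),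
      X.presheaf.germ (f ⁻¹ᵁ V) (genericPoint X) hξW s ≠ 0 ∧
      z = X.presheaf.germ (f ⁻¹ᵁ V) (genericPoint X) hξW b *
        (X.presheaf.germ (f ⁻¹ᵁ V) (genericPoint X) hξW s)⁻¹ := by
    intro z
    letI := TopCat.Presheaf.algebra_section_stalk X.presheaf ⟨genericPoint X, hξW⟩
    haveI := hW.isLocalization_stalk ⟨genericPoint X, hξW⟩
    obtain ⟨⟨b, s⟩, hbs⟩ := IsLocalization.surj
      (hW.primeIdealOf ⟨genericPoint X, hξW⟩).asIdeal.primeCompl z
    have hsu := IsLocalization.map_units (X.presheaf.stalk (genericPoint X)) s
    have hs0 : X.presheaf.germ (f ⁻¹ᵁ V) (genericPoint X) hξW (s : _) ≠ 0 := hsu.ne_zero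
    refine ⟨b, s, hs0, ?_⟩
    have h1 : z * X.presheaf.germ (f ⁻¹ᵁ V) (genericPoint X) hξW (s : _) =
        X.presheaf.germ (f ⁻¹ᵁ V) (genericPoint X) hξW b := hbs
    rw [← h1, mul_assoc, mul_inv_cancel₀ hs0, mul_one]
  have hint : (f.stalkMap (genericPoint X)).hom.IsIntegral := by
    intro z
    obtain ⟨b, s, -, rfl⟩ := hquot z
    exact (hgerm b).mul (hgerm s).inv
  refine ⟨hint, fun hfin => ?_⟩
  haveI : Algebra.IsIntegral (S.presheaf.stalk (f (genericPoint X)))
      (X.presheaf.stalk (genericPoint X)) := ⟨hint⟩
  -- finite generation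
  letI := (f.app V).hom.toAlgebra
  haveI : Module.Finite Γ(S, V) Γ(X, f ⁻¹ᵁ V) := IsFinite.finite_app f V hV
  obtain ⟨t, ht⟩ := (Module.finite_def (R := Γ(S, V)) (M := Γ(X, f ⁻¹ᵁ V))).mp inferInstance
  let T : Set (X.presheaf.stalk (genericPoint X)) :=
    (X.presheaf.germ (f ⁻¹ᵁ V) (genericPoint X) hξW) '' (t : Set Γ(X, f ⁻¹ᵁ V))
  have hmem : ∀ b : Γ(X, f ⁻¹ᵁ V), X.presheaf.germ (f ⁻¹ᵁ V) (genericPoint X) hξW b ∈
      Algebra.adjoin (S.presheaf.stalk (f (genericPoint X))) T := by
    intro b
    have hb : b ∈ Submodule.span Γ(S, V) (t : Set Γ(X, f ⁻¹ᵁ V)) := by rw [ht]; trivial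
    induction hb using Submodule.span_induction with
    | mem x hx => exact Algebra.subset_adjoin ⟨x, hx, rfl⟩
    | zero => rw [map_zero]; exact Subalgebra.zero_mem _
    | add x y _ _ hx hy => rw [map_add]; exact Subalgebra.add_mem _ hx hy
    | smul a x _ hx =>
      have h2 : X.presheaf.germ (f ⁻¹ᵁ V) (genericPoint X) hξW (a • x) =
          (S.presheaf.germ V (f (genericPoint X)) hξV a) •
            X.presheaf.germ (f ⁻¹ᵁ V) (genericPoint X) hξW x := by
        rw [Algebra.smul_def, Algebra.smul_def, map_mul]
        congr 1
        have := Scheme.Hom.germ_stalkMap f V (genericPoint X) hξV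
        exact congr($(this).hom a).symm
      rw [h2]
      exact Subalgebra.smul_mem _ hx _
  have htop : Algebra.adjoin (S.presheaf.stalk (f (genericPoint X))) T = ⊤ := by
    rw [eq_top_iff]
    intro z _
    obtain ⟨b, s, -, rfl⟩ := hquot z
    exact Subalgebra.mul_mem _ (hmem b) ((hgerm s).inv_mem (hmem s))
  haveI : Algebra.FiniteType (S.presheaf.stalk (f (genericPoint X)))
      (X.presheaf.stalk (genericPoint X)) :=
    ⟨⟨t.image (X.presheaf.germ (f ⁻¹ᵁ V) (genericPoint X) hξW), by
      rw [Finset.coe_image]; exact htop⟩⟩
  exact Algebra.IsIntegral.finite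

end


/-- Let X, S be integral schemes and f : X ⟶ S a dominant morphism. If f is integral, the field of
rational functions of X is algebraic over that of S; if f is finite, it is a finite extension. Here
the extension is given by the stalk map of f at the generic point of X, whose source is the local
ring of S at the generic point of S (f being dominant), i.e. the function field of S. -/
theorem result {X S : Scheme.{u}} [IsIntegral X] [IsIntegral S]
    (f : X ⟶ S) [IsDominant f] :
    (IsIntegralHom f → (f.stalkMap (genericPoint X)).hom.IsIntegral) ∧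
      (IsFinite f → (f.stalkMap (genericPoint X)).hom.Finite) := by
  refine ⟨fun h => (stalkMap_genericPoint_props f).1, fun h => ?_⟩
  exact (stalkMap_genericPoint_props f).2 h

end Groth.Agent.S4435
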