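import Groth.Statements.S4438
import Mathlib
import Groth.Agent.Lib.Helper12.NormInv4
import Groth.Agent.Lib.Helper12.NormInv5
import Groth.Agent.Lib.Helper12.PullAmpleRel

set_option autoImplicit false
universe u
open CategoryTheory CategoryTheory.Limits AlgebraicGeometry
open EGA2

namespace Groth.Agent.S4438

/-- In existence form: let f : X ⟶ Y be a quasi-compact morphism and g : X' ⟶ X a finite surjective
morphism such that the direct image of O_{X'} is a finite locally free O_X-module. Then there is an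
invertible O_X-module ample relative to f if and only if there is an invertible O_{X'}-module ample
relative to f ∘ g. (For the descent direction the published statement names the module on X, the
norm of the given one; this row asserts existence only. The other direction is the inverse image
along the affine morphism g.) -/
theorem result {X X' Y : Scheme.{u}} (f : X ⟶ Y) [QuasiCompact f]
    (g : X' ⟶ X) [IsFinite g] [Surjective g]
    (hfree : FlatMod.IsFinLocFree ((Coh.push g).obj (Coh.structureModule X'))) :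
    (∃ L : X.Modules, PicF.IsInvertible L ∧ RelAmple.IsRelAmple f L) ↔
      ∃ L' : X'.Modules, PicF.IsInvertible L' ∧ RelAmple.IsRelAmple (g ≫ f) L' := by
  constructor
  · rintro ⟨L, hL, -, hamp⟩
    refine ⟨(Scheme.Modules.pullback g).obj L,
      Groth.Agent.Lib.helper11.InvMod.isInvertible_pullback g hL, inferInstance, fun V => ?_⟩
    have hinst : IsAffineHom (g ∣_ (f ⁻¹ᵁ V.1)) :=
      IsZariskiLocalAtTarget.restrict (P := @IsAffineHom) inferInstance _
    exact Groth.Agent.Lib.helper12.PullAmpleRel.isAmple_restrict_pullback_of_isAffineHom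
      (g ⁻¹ᵁ (f ⁻¹ᵁ V.1)).ι g (g ∣_ (f ⁻¹ᵁ V.1)) (f ⁻¹ᵁ V.1).ι
      (morphismRestrict_ι g (f ⁻¹ᵁ V.1)).symm (hamp V)
  · rintro ⟨L', hL', -, hamp⟩
    obtain ⟨hflat, hlfp⟩ :=
      Groth.Agent.Lib.helper12.NormInv.flat_and_lfp_of_isFinLocFree_push g hfree
    let Nr := Groth.Agent.Lib.helper12.NormInv.PreNorm.ofFinLocFree g
    let ι := {U : X.Opens // IsAffineOpen U ∧
      Groth.Agent.Lib.helper11.InvMod.IsTrivOn L' (g ⁻¹ᵁ U)}
    let U : ι → X.Opens := fun a => a.1
    have hbasis : ∀ (O : X.Opens) (y : X), y ∈ O → ∃ a : ι, y ∈ U a ∧ U a ≤ O := by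
      intro O y hy
      obtain ⟨W, hyW, hTW⟩ := Groth.Agent.Lib.Helper18.PicGlue.exists_isTrivOn_preimage g hL' y
      obtain ⟨V, hV, hyV, hVW⟩ := TopologicalSpace.Opens.isBasis_iff_nbhd.mp X.isBasis_affineOpens
        (show y ∈ W ⊓ O from ⟨hyW, hy⟩)
      exact ⟨⟨V, hV, Groth.Agent.Lib.helper11.InvMod.IsTrivOn.of_le
        (g.preimage_mono (hVW.trans inf_le_left)) hTW⟩, hyV, hVW.trans inf_le_right⟩
    have hU : iSup U = ⊤ := by
      rw [eq_top_iff]
      intro y _
      obtain ⟨a, hya, -⟩ := hbasis ⊤ y trivial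
      exact TopologicalSpace.Opens.mem_iSup.mpr ⟨a, hya⟩
    choose e he using fun a : ι =>
      Groth.Agent.Lib.Helper12.NormSec.exists_isGen_of_isTrivOn a.2.2 le_rfl
    obtain ⟨N, n, hN, hn, hrel⟩ := Groth.Agent.Lib.helper12.NormInv.exists_normMod Nr U e he hU
    refine ⟨N, hN, inferInstance, fun V => ?_⟩
    exact Groth.Agent.Lib.helper12.NormInv.isAmple_restrict_of_normData g g.surjective Nr U
      (fun a => a.2.1) hbasis e he hN n hn hrel (f ⁻¹ᵁ V.1) (hamp V)

end Groth.Agent.S4438
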