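import Groth.Statements.S4440
import Mathlib
import Groth.Agent.Lib.Helper13.RatExt1
-- import your own Groth.Agent.* helpers here

set_option autoImplicit false
universe u
open CategoryTheory CategoryTheory.Limits AlgebraicGeometry
open EGA2

namespace Groth.Agent.S4440

open Groth.Agent.Lib.helper13.RatExt


/-- Let S be a locally Noetherian scheme, X proper over S, and Y a reduced S-scheme whose non-regular
locus has codimension at least two (the local ring at every point with local ring of dimension at
most one is regular). Then the locus where an S-rational map from Y to X is not defined has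
codimension at least two: an S-morphism given on a dense open V of Y extends to an S-morphism on an
open containing V and every point whose local ring has dimension at most one. (The published
statement does not ask Y to be locally Noetherian; this row does, which is the setting in which
regularity of local rings is defined.) -/
theorem result {S X Y : Scheme.{u}} [IsLocallyNoetherian S]
    (p : X ⟶ S) [IsProper p] (q : Y ⟶ S) [IsLocallyNoetherian Y] [IsReduced Y]
    (hreg : ∀ y : Y, ringKrullDim (Y.presheaf.stalk y) ≤ 1 → IsRegularLocalRing (Y.presheaf.stalk y))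
    (V : Y.Opens) (hV : Dense (V : Set Y)) (g : (V : Scheme.{u}) ⟶ X) (hg : g ≫ p = V.ι ≫ q) :
    ∃ (U : Y.Opens) (hVU : V ≤ U) (g' : (U : Scheme.{u}) ⟶ X), g' ≫ p = U.ι ≫ q ∧ Y.homOfLE hVU ≫ g' = g ∧
      ∀ y : Y, ringKrullDim (Y.presheaf.stalk y) ≤ 1 → y ∈ U := by
  classical
  have hpiece : ∀ y : {y : Y // ringKrullDim (Y.presheaf.stalk y) ≤ 1},
      ∃ Q : Piece p q V g, y.1 ∈ Set.range Q.j := by
    rintro ⟨y, hy⟩
    haveI := hreg y hy
    obtain ⟨hdom, hval⟩ := valuationRing_of_isRegularLocalRing (Y.presheaf.stalk y) hy
    exact exists_piece p q V hV g hg y hdom hval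
  choose Qy hQy using hpiece
  let Q : Option {y : Y // ringKrullDim (Y.presheaf.stalk y) ≤ 1} → Piece p q V g :=
    fun i => i.elim (Piece.self p q V g hg) Qy
  let U : Y.Opens := ⟨⋃ i, Set.range (Q i).j, isOpen_iUnion fun i => by
    haveI := (Q i).hj
    exact (Q i).j.isOpenEmbedding.isOpen_range⟩
  obtain ⟨g', hg'p, hg'⟩ := exists_glue hV Q U rfl
  have hVU : V ≤ U := by
    intro v hv
    refine Set.mem_iUnion.mpr ⟨none, ?_⟩
    show v ∈ Set.range V.ι
    rw [Scheme.Opens.range_ι]
    exact hv
  refine ⟨U, hVU, g', hg'p, ?_, ?_⟩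
  · exact hg' none (Y.homOfLE hVU) (Y.homOfLE_ι _)
  · intro y hy
    exact Set.mem_iUnion.mpr ⟨some ⟨y, hy⟩, hQy ⟨y, hy⟩⟩

end Groth.Agent.S4440
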