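-- Statement S4441: EGA2.valuationRing_dominates_point_of_universallyClosed
import Groth.Statements.S4441
import Mathlib.AlgebraicGeometry.ValuativeCriterion

set_option autoImplicit false
universe u
open CategoryTheory CategoryTheory.Limits AlgebraicGeometry
open EGA2

namespace Groth.Agent.S4441

open IsLocalRing

/-- Let X and Y be integral separated schemes and f : X ⟶ Y a dominant, quasi-compact, universally
closed morphism, ξ the generic point of X. Every valuation subring R of the function field K(X) of X
which dominates the local ring of Y at a point y (via O_{Y,y} → O_{Y,f(ξ)} → K(X): image inside R,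
maximal ideal into the maximal ideal of R) also dominates the local ring of X at some point x (via
O_{X,x} → K(X)). -/
theorem result {X Y : Scheme.{u}} [IsIntegral X] [IsIntegral Y]
    [X.IsSeparated] [Y.IsSeparated] (f : X ⟶ Y) [IsDominant f] [QuasiCompact f] [UniversallyClosed f]
    (R : ValuationSubring X.functionField) (y : Y) (hy : f.base (genericPoint X) ⤳ y)
    (hdom : (∀ a : Y.presheaf.stalk y, (Y.presheaf.stalkSpecializes hy ≫ f.stalkMap (genericPoint X)).hom a ∈ R) ∧
      ∀ a ∈ IsLocalRing.maximalIdeal (Y.presheaf.stalk y),
        R.valuation ((Y.presheaf.stalkSpecializes hy ≫ f.stalkMap (genericPoint X)).hom a) < 1) :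
    ∃ x : X, (∀ a : X.presheaf.stalk x, algebraMap (X.presheaf.stalk x) X.functionField a ∈ R) ∧
      ∀ a ∈ IsLocalRing.maximalIdeal (X.presheaf.stalk x), R.valuation (algebraMap (X.presheaf.stalk x) X.functionField a) < 1 := by
  set ξ := genericPoint X with hξ
  let φ : Y.presheaf.stalk y ⟶ X.functionField := Y.presheaf.stalkSpecializes hy ≫ f.stalkMap ξ
  let ψ : Y.presheaf.stalk y ⟶ .of R := CommRingCat.ofHom (φ.hom.codRestrict R.toSubring hdom.1)
  have w : X.fromSpecStalk ξ ≫ f =
      Spec.map (CommRingCat.ofHom (algebraMap R X.functionField)) ≫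
        Spec.map ψ ≫ Y.fromSpecStalk y := by
    rw [← Scheme.SpecMap_stalkMap_fromSpecStalk, ← Scheme.SpecMap_stalkSpecializes_fromSpecStalk hy]
    simp_rw [← Spec.map_comp_assoc]
    rfl
  have hex : ValuativeCriterion.Existence f := by
    have : UniversallyClosed f := inferInstance
    rw [UniversallyClosed.eq_valuativeCriterion] at this
    exact this.1
  let S : ValuativeCommSq f :=
    { R := R
      K := X.functionField
      i₁ := X.fromSpecStalk ξ
      i₂ := Spec.map ψ ≫ Y.fromSpecStalk y
      commSq := ⟨w⟩ }
  obtain ⟨l, hl₁, hl₂⟩ := (hex S).exists_lift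
  change Spec.map (CommRingCat.ofHom (algebraMap R X.functionField)) ≫ l = X.fromSpecStalk ξ at hl₁
  have key : Scheme.stalkClosedPointTo l ≫ CommRingCat.ofHom (algebraMap R X.functionField) =
      X.presheaf.stalkSpecializes ((genericPoint_spec X).specializes trivial) := by
    apply Spec.map_injective
    rw [← cancel_mono (X.fromSpecStalk (l (closedPoint R)))]
    rw [Spec.map_comp, Category.assoc, Scheme.Spec_stalkClosedPointTo_fromSpecStalk, hl₁,
      Scheme.SpecMap_stalkSpecializes_fromSpecStalk]
  have key' : ∀ a : X.presheaf.stalk (l (closedPoint R)),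
      algebraMap (X.presheaf.stalk (l (closedPoint R))) X.functionField a =
        (((Scheme.stalkClosedPointTo l).hom a : R) : X.functionField) := by
    intro a
    rw [RingHom.algebraMap_toAlgebra, ← key]
    rfl
  refine ⟨l (closedPoint R), fun a => ?_, fun a ha => ?_⟩
  · rw [key']
    exact Subtype.property _
  · rw [key', ← ValuationSubring.valuation_lt_one_iff]
    exact map_nonunit (Scheme.stalkClosedPointTo l).hom a ha

end Groth.Agent.S4441
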