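-- Statement S4443: EGA2.irreducible_curve_nonclosed_point_and_closed_subsets
import Groth.Statements.S4443
import Mathlib.AlgebraicGeometry.Properties
import Mathlib.Topology.NoetherianSpace

set_option autoImplicit false
universe u
open CategoryTheory CategoryTheory.Limits AlgebraicGeometry
open EGA2

namespace Groth.Agent.S4443

open Order

/-- Let X be an irreducible algebraic curve over a field k (separated and of finite type over k,
nonempty, irreducible, local rings at closed points of dimension one). Then the generic point is the
only non-closed point of X, and the closed subsets of X distinct from X are exactly the finite sets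
of closed points. (The published statement adds that these are also exactly the subsets of X that
are not dense in X, an immediate consequence; this row does not state it.) -/
theorem result (k : Type u) [Field k] (X : Scheme.{u})
    [X.Over (Spec (CommRingCat.of k))] [LocallyOfFiniteType (X ↘ (Spec (CommRingCat.of k)))]
    [QuasiCompact (X ↘ (Spec (CommRingCat.of k)))] [IsSeparated (X ↘ (Spec (CommRingCat.of k)))]
    [Nonempty X] [IrreducibleSpace X] (hcurve : ∀ x : X, IsClosed ({x} : Set X) → ringKrullDim (X.presheaf.stalk x) = 1) :
    (∀ x : X, ¬ IsClosed ({x} : Set X) → x = genericPoint X) ∧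
      ∀ F : Set X, IsClosed F → (F ≠ Set.univ ↔ (F.Finite ∧ ∀ x ∈ F, IsClosed ({x} : Set X))) := by
  have hcompact : CompactSpace X :=
    QuasiCompact.compactSpace_of_compactSpace (X ↘ (Spec (CommRingCat.of k)))
  have hnoeth : IsNoetherian X :=
    { __ := LocallyOfFiniteType.isLocallyNoetherian (X ↘ (Spec (CommRingCat.of k))) }
  set η := genericPoint X with hη
  have hηspec : ∀ x : X, η ⤳ x := fun x => genericPoint_specializes x
  -- coheight of a closed point is one
  have hco : ∀ z : X, IsClosed ({z} : Set X) → coheight z = 1 := by
    intro z hz
    have h := hcurve z hz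
    rw [ringKrullDim_stalk_eq_coheight] at h
    exact_mod_cast h
  -- the generic point is not closed
  have hηmax : coheight η = 0 := by
    rw [coheight_eq_zero]
    intro b _
    exact Scheme.le_iff_specializes.mpr (hηspec b)
  have hηnc : ¬ IsClosed ({η} : Set X) := by
    intro h
    have := hco η h
    rw [hηmax] at this
    exact zero_ne_one this
  -- part 1
  have part1 : ∀ x : X, ¬ IsClosed ({x} : Set X) → x = η := by
    intro x hx
    obtain ⟨z, hzx, hz⟩ := (isClosed_closure (s := ({x} : Set X))).exists_closed_singleton
      ⟨x, subset_closure rfl⟩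
    have hxz : x ⤳ z := specializes_iff_mem_closure.mpr hzx
    have hne : x ≠ z := by rintro rfl; exact hx hz
    have hlt : z < x := by
      refine lt_of_le_not_ge (Scheme.le_iff_specializes.mpr hxz) ?_
      intro h
      have : z ⤳ x := Scheme.le_iff_specializes.mp h
      have hx' : x ∈ closure ({z} : Set X) := specializes_iff_mem_closure.mp this
      rw [hz.closure_eq] at hx'
      exact hne hx'
    have h1 := coheight_add_one_le hlt
    rw [hco z hz] at h1
    have hx0 : coheight x = 0 := by
      have : coheight x + 1 ≤ 0 + 1 := by simpa using h1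
      exact le_antisymm ((ENat.add_le_add_iff_right (by simp)).mp this) bot_le
    by_contra hxη
    have hlt' : x < η := by
      refine lt_of_le_not_ge (Scheme.le_iff_specializes.mpr (hηspec x)) ?_
      intro h
      have h' : x ⤳ η := Scheme.le_iff_specializes.mp h
      exact hxη ((h'.antisymm (hηspec x)).eq)
    have h2 := coheight_add_one_le hlt'
    rw [hx0] at h2
    simp at h2
  refine ⟨part1, fun F hF => ⟨fun hFne => ?_, fun ⟨hfin, hcl⟩ hFuniv => ?_⟩⟩
  · -- a proper closed subset is a finite set of closed points
    have hηF : η ∉ F := by
      intro h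
      apply hFne
      rw [Set.eq_univ_iff_forall]
      intro x
      exact hF.closure_subset_iff.mpr (Set.singleton_subset_iff.mpr h)
        (specializes_iff_mem_closure.mp (hηspec x))
    obtain ⟨S, hSf, hSc, hSi, rfl⟩ :=
      TopologicalSpace.NoetherianSpace.exists_finite_set_isClosed_irreducible hF
    -- each member of `S` is a closed point
    have hpt : ∀ t ∈ S, ∃ ζ : X, IsClosed ({ζ} : Set X) ∧ t = {ζ} := by
      intro t ht
      obtain ⟨ζ, hζ⟩ := QuasiSober.sober (hSi t ht) (hSc t ht)
      have hζt : ζ ∈ t := hζ.mem
      have hζη : ζ ≠ η := by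
        rintro rfl
        exact hηF ⟨t, ht, hζt⟩
      have hζc : IsClosed ({ζ} : Set X) := by
        by_contra h
        exact hζη (part1 ζ h)
      refine ⟨ζ, hζc, ?_⟩
      rw [← hζ.def, hζc.closure_eq]
    constructor
    · refine hSf.sUnion fun t ht => ?_
      obtain ⟨ζ, -, rfl⟩ := hpt t ht
      exact Set.finite_singleton ζ
    · rintro x ⟨t, ht, hxt⟩
      obtain ⟨ζ, hζc, rfl⟩ := hpt t ht
      rw [Set.mem_singleton_iff.mp hxt]
      exact hζc
  · exact hηnc (hcl η (hFuniv ▸ Set.mem_univ η))

end Groth.Agent.S4443
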