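import Groth.Statements.S4444
import Groth.Agent.Lib.Helper16.NormCompl5


set_option autoImplicit false
universe u
open CategoryTheory CategoryTheory.Limits AlgebraicGeometry
open EGA2

namespace Groth.Agent.S4444

/-- Every normal algebraic curve X over a field k (separated and of finite type over k, nonempty, local
rings at closed points of dimension one, all local rings integrally closed domains) admits a
k-morphism which is an open immersion with dense image into a normal algebraic curve proper over k.
(The uniqueness of this completion up to unique isomorphism is not part of this row.) -/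
theorem result (k : Type u) [Field k] (X : Scheme.{u})
    [X.Over (Spec (CommRingCat.of k))] [LocallyOfFiniteType (X ↘ (Spec (CommRingCat.of k)))]
    [QuasiCompact (X ↘ (Spec (CommRingCat.of k)))] [IsSeparated (X ↘ (Spec (CommRingCat.of k)))] [Nonempty X]
    (hcurve : ∀ x : X, IsClosed ({x} : Set X) → ringKrullDim (X.presheaf.stalk x) = 1) (hnorm : Pi1.IsNormalScheme X) :
    ∃ (Xc : Scheme.{u}) (sc : Xc ⟶ Spec (CommRingCat.of k)) (j : X ⟶ Xc), IsOpenImmersion j ∧ Dense (Set.range j.base) ∧
      j ≫ sc = X ↘ (Spec (CommRingCat.of k)) ∧ IsProper sc ∧ Pi1.IsNormalScheme Xc ∧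
      ∀ x : Xc, IsClosed ({x} : Set Xc) → ringKrullDim (Xc.presheaf.stalk x) = 1 := by
  have h := Groth.Agent.Lib.helper16.NormCompl.hasCompl_opens k X (X ↘ (Spec (CommRingCat.of k)))
    hcurve hnorm ⊤ isOpen_univ ⟨Classical.arbitrary X, trivial⟩
  set U : X.Opens := ⟨((⊤ : TopologicalSpace.Closeds X) : Set X), isOpen_univ⟩ with hU
  obtain ⟨Xc, sc, j, hj, hd, hjs, hp, hn, hc⟩ := h
  haveI : IsIso U.ι := by
    rw [isIso_iff_isOpenImmersion_and_surjective]
    refine ⟨inferInstance, ⟨fun x => ⟨⟨x, trivial⟩, rfl⟩⟩⟩
  refine ⟨Xc, sc, inv U.ι ≫ j, inferInstance, ?_, ?_, hp, hn, hc⟩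
  · have hr : Set.range (inv U.ι ≫ j).base = Set.range j.base := by
      rw [Scheme.Hom.comp_base, TopCat.coe_comp, Set.range_comp]
      have hs : Function.Surjective (inv U.ι).base := by
        intro y
        refine ⟨U.ι.base y, ?_⟩
        rw [← Scheme.Hom.comp_apply, IsIso.hom_inv_id]
        rfl
      rw [hs.range_eq, Set.image_univ]
    rw [hr]
    exact hd
  · rw [Category.assoc, hjs, IsIso.inv_hom_id_assoc]

end Groth.Agent.S4444
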