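-- Statement S4447: EGA2.exists_valuationRing_through_specialization
import Groth.Statements.S4447
import Mathlib.AlgebraicGeometry.ValuativeCriterion

set_option autoImplicit false
universe u
open CategoryTheory CategoryTheory.Limits AlgebraicGeometry
open EGA2

namespace Groth.Agent.S4447

open IsLocalRing

/-- Let p : X ⟶ Y be a morphism, x a point of X, y = p(x) and y' a specialization of y distinct from y.
Then there are a valuation ring A which is not a field, with field of fractions the residue field
k(x), and a morphism Spec A ⟶ Y mapping the closed point to y' and restricting on Spec k(x) to the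
canonical morphism Spec k(x) ⟶ X ⟶ Y (in particular the generic point of Spec A goes to y). -/
theorem result {X Y : Scheme.{u}} (p : X ⟶ Y) (x : X) (y' : Y)
    (hsp : p.base x ⤳ y') (hne : y' ≠ p.base x) :
    ∃ (A : ValuationSubring (X.residueField x)) (h : Spec (CommRingCat.of A) ⟶ Y), A ≠ ⊤ ∧
      h.base (IsLocalRing.closedPoint A) = y' ∧
      Spec.map (CommRingCat.ofHom A.subtype) ≫ h = X.fromSpecResidueField x ≫ p := by
  let φ : Y.presheaf.stalk y' ⟶ X.residueField x :=
    Y.presheaf.stalkSpecializes hsp ≫ p.stalkMap x ≫ X.residue x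
  obtain ⟨A, hA, hA_local⟩ := IsLocalRing.exists_factor_valuationRing φ.hom
  let ψ : Y.presheaf.stalk y' ⟶ .of A := CommRingCat.ofHom (φ.hom.codRestrict _ hA)
  have w : X.fromSpecResidueField x ≫ p =
      Spec.map (CommRingCat.ofHom (algebraMap A (X.residueField x))) ≫
        Spec.map ψ ≫ Y.fromSpecStalk y' := by
    rw [Scheme.fromSpecResidueField, Category.assoc, ← Scheme.SpecMap_stalkMap_fromSpecStalk,
      ← Scheme.SpecMap_stalkSpecializes_fromSpecStalk hsp]
    simp_rw [← Spec.map_comp_assoc]
    rfl
  have hclosed : (Spec.map ψ ≫ Y.fromSpecStalk y').base (closedPoint A) = y' := by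
    simp only [Scheme.Hom.comp_base, TopCat.coe_comp, Function.comp_apply]
    have : Spec.map ψ (closedPoint A) = closedPoint (Y.presheaf.stalk y') :=
      comap_closedPoint (S := A) (φ.hom.codRestrict A.toSubring hA)
    rw [this, Y.fromSpecStalk_closedPoint]
  refine ⟨A, Spec.map ψ ≫ Y.fromSpecStalk y', ?_, hclosed, w.symm⟩
  -- `A` is not the whole field, since otherwise its spectrum is a point
  intro hAtop
  apply hne
  have hfield : IsField A := by
    refine ⟨⟨0, 1, zero_ne_one⟩, mul_comm, ?_⟩
    intro a ha
    have hmem : ∀ z : X.residueField x, z ∈ A := fun z => hAtop ▸ ValuationSubring.mem_top z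
    refine ⟨⟨(a : X.residueField x)⁻¹, hmem _⟩, ?_⟩
    apply Subtype.ext
    have : (a : X.residueField x) ≠ 0 := fun h => ha (Subtype.ext h)
    simp [this]
  have hmax : maximalIdeal A = ⊥ := isField_iff_maximalIdeal_eq.mp hfield
  have hpt : closedPoint A =
      (Spec.map (CommRingCat.ofHom (algebraMap A (X.residueField x)))).base
        (closedPoint (X.residueField x)) := by
    apply PrimeSpectrum.ext
    change maximalIdeal A = Ideal.comap (algebraMap A (X.residueField x)) (maximalIdeal _)
    rw [hmax, IsLocalRing.maximalIdeal_eq_bot, ← RingHom.ker_eq_comap_bot]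
    exact ((RingHom.injective_iff_ker_eq_bot _).mp Subtype.val_injective).symm
  rw [← hclosed, hpt, ← Scheme.Hom.comp_apply, ← w, Scheme.Hom.comp_apply,
    Scheme.fromSpecResidueField_apply]

end Groth.Agent.S4447
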