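import Groth.Statements.S4448
import Mathlib
import Groth.Agent.Lib.Helper13.Normal8
-- import your own Groth.Agent.* helpers here

set_option autoImplicit false
universe u
open CategoryTheory CategoryTheory.Limits AlgebraicGeometry
open EGA2

namespace Groth.Agent.S4448

noncomputable section

open AlgebraicGeometry CategoryTheory Limits in
/-- The stalk of an integral scheme at a point which is generic is a field. -/
lemma isField_stalk_of_eq_genericPoint {X : Scheme.{u}} [IsIntegral X] (x : X)
    (hx : x = genericPoint X) : IsField (X.presheaf.stalk x) := by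
  subst hx
  exact Field.toIsField X.functionField

open AlgebraicGeometry CategoryTheory Limits Groth.Agent.Lib.helper13.Normal in
/-- The image in `K` of the function field of the normalization of `X` in `K` is the algebraic
closure of the function field of `X` in `K`. -/
theorem range_stalkClosedPointTo_toNormalization {X : Scheme.{u}} [IsIntegral X] (K : Type u)
    [Field K] (φ : X.functionField →+* K)
    [QuasiCompact (Spec.map (CommRingCat.ofHom φ) ≫ X.fromSpecStalk (genericPoint X))]
    [QuasiSeparated (Spec.map (CommRingCat.ofHom φ) ≫ X.fromSpecStalk (genericPoint X))] :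
    Set.range (Scheme.stalkClosedPointTo (Spec.map (CommRingCat.ofHom φ) ≫
      X.fromSpecStalk (genericPoint X)).toNormalization).hom =
      {y : K | ∃ q : Polynomial X.functionField, q.Monic ∧ Polynomial.eval₂ φ y q = 0} := by
  set g := Spec.map (CommRingCat.ofHom φ) ≫ X.fromSpecStalk (genericPoint X) with hg
  have hpt : g (IsLocalRing.closedPoint (CommRingCat.of K)) = genericPoint X := by
    rw [hg, Scheme.Hom.comp_apply, Spec_closedPoint, Scheme.fromSpecStalk_closedPoint]
  obtain ⟨V, hV, hptV, -⟩ := exists_isAffineOpen_mem_and_subset (X := X)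
    (x := g (IsLocalRing.closedPoint (CommRingCat.of K))) (U := ⊤) trivial
  have hηV : genericPoint X ∈ V := hpt ▸ hptV
  haveI : Nonempty V := ⟨⟨_, hηV⟩⟩
  -- the maps to `K`
  set τ := Scheme.stalkClosedPointTo g.toNormalization with hτ
  set ψ := g.normalization.presheaf.germ (g.fromNormalization ⁻¹ᵁ V)
        (g.toNormalization (IsLocalRing.closedPoint (CommRingCat.of K)))
        (toNormalization_closedPoint_mem g V hptV) ≫ τ with hψ
  set α := X.presheaf.germ V _ hptV ≫ Scheme.stalkClosedPointTo g with hα
  have hR : Set.range ψ.hom = {c : K | α.hom.IsIntegralElem c} :=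
    range_germ_comp_stalkClosedPointTo_toNormalization g V hV hptV
  have hB : g.fromNormalization.app V ≫ ψ = α :=
    fromNormalization_app_germ_comp_stalkClosedPointTo g V hV hptV
  have hC : α = X.presheaf.germ V (genericPoint X) hηV ≫ CommRingCat.ofHom φ :=
    Scheme.germ_stalkClosedPointTo_Spec_fromSpecStalk (CommRingCat.ofHom φ) V hptV
  have hCa : ∀ a, α.hom a = φ (X.presheaf.germ V (genericPoint X) hηV a) := fun a => by
    rw [hC]; rfl
  letI : Algebra X.functionField K := φ.toAlgebra
  letI : Algebra Γ(X, V) K := α.hom.toAlgebra
  haveI : IsScalarTower Γ(X, V) X.functionField K := .of_algebraMap_eq' (by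
    ext a
    exact hCa a)
  haveI := functionField_isFractionRing_of_isAffineOpen X V hV
  -- integrality over `Γ(X, V)` implies integrality over the function field
  have hint : ∀ c : K, α.hom.IsIntegralElem c → IsIntegral X.functionField c := fun c hc =>
    IsIntegral.tower_top (R := Γ(X, V)) hc
  have hαinj : Function.Injective α.hom := by
    intro a b hab
    rw [hCa, hCa] at hab
    exact germ_injective_of_isIntegral X _ hηV (φ.injective hab)
  ext y
  simp only [Set.mem_range, Set.mem_ofPred_eq]
  constructor
  · rintro ⟨z, rfl⟩
    have hW : IsAffineOpen (g.fromNormalization ⁻¹ᵁ V) := hV.preimage _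
    have hξW := toNormalization_closedPoint_mem g V hptV
    letI := TopCat.Presheaf.algebra_section_stalk g.normalization.presheaf
      ⟨g.toNormalization (IsLocalRing.closedPoint (CommRingCat.of K)), hξW⟩
    haveI := hW.isLocalization_stalk
      ⟨g.toNormalization (IsLocalRing.closedPoint (CommRingCat.of K)), hξW⟩
    obtain ⟨⟨b, s⟩, hbs⟩ := IsLocalization.surj
      (hW.primeIdealOf ⟨g.toNormalization (IsLocalRing.closedPoint (CommRingCat.of K)),
        hξW⟩).asIdeal.primeCompl z
    have hsu := IsLocalization.map_units (g.normalization.presheaf.stalk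
        (g.toNormalization (IsLocalRing.closedPoint (CommRingCat.of K)))) s
    have h1 : τ.hom z * ψ.hom s = ψ.hom b := by
      have := congrArg τ.hom hbs
      rw [map_mul] at this
      exact this
    have hs0 : ψ.hom (s : _) ≠ 0 := (hsu.map τ.hom).ne_zero
    have h2 : τ.hom z = ψ.hom b * (ψ.hom (s : _))⁻¹ := by
      rw [← h1, mul_assoc, mul_inv_cancel₀ hs0, mul_one]
    have hb : IsIntegral X.functionField (ψ.hom b) :=
      hint _ (by have : ψ.hom b ∈ Set.range ψ.hom := ⟨b, rfl⟩; rwa [hR] at this)
    have hs : IsIntegral X.functionField (ψ.hom (s : _)) :=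
      hint _ (by have : ψ.hom (s : _) ∈ Set.range ψ.hom := ⟨s, rfl⟩; rwa [hR] at this)
    have := hb.mul hs.inv
    rw [← h2] at this
    exact this
  · rintro ⟨q, hq, hqe⟩
    have hy : IsIntegral X.functionField y := ⟨q, hq, hqe⟩
    obtain ⟨m, hm⟩ := IsIntegral.exists_multiple_integral_of_isLocalization
      (nonZeroDivisors Γ(X, V)) y hy
    have hm0 : (m : Γ(X, V)) ≠ 0 := nonZeroDivisors.ne_zero m.2
    have hc : α.hom.IsIntegralElem (α.hom m * y) := by
      have h3 : (m • y : K) = α.hom m * y := by
        rw [Submonoid.smul_def, Algebra.smul_def]; rfl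
      rw [← h3]
      exact hm
    have hmem : α.hom m * y ∈ Set.range ψ.hom := by rw [hR]; exact hc
    obtain ⟨b, hb⟩ := hmem
    have hαm : α.hom m ≠ 0 := fun h => hm0 (hαinj (h.trans (map_zero _).symm))
    have hψm : ψ.hom (g.fromNormalization.app V m) = α.hom m := by
      rw [← hB]; rfl
    -- the germ of `m` is a unit of the stalk
    set u := g.normalization.presheaf.germ (g.fromNormalization ⁻¹ᵁ V)
        (g.toNormalization (IsLocalRing.closedPoint (CommRingCat.of K)))
        (toNormalization_closedPoint_mem g V hptV) (g.fromNormalization.app V m) with hu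
    have hτu : τ.hom u = α.hom m := hψm
    have huu : IsUnit u := by
      have : IsUnit (τ.hom u) := by rw [hτu]; exact isUnit_iff_ne_zero.mpr hαm
      exact isUnit_of_map_unit τ.hom u this
    obtain ⟨u', hu'⟩ := huu
    refine ⟨g.normalization.presheaf.germ (g.fromNormalization ⁻¹ᵁ V)
        (g.toNormalization (IsLocalRing.closedPoint (CommRingCat.of K)))
        (toNormalization_closedPoint_mem g V hptV) b * ↑u'⁻¹, ?_⟩
    have h4 : τ.hom (↑u'⁻¹) * α.hom m = 1 := by
      rw [← hτu, ← hu', ← map_mul, Units.inv_mul, map_one]
    have h5 : τ.hom (↑u'⁻¹) = (α.hom m)⁻¹ := eq_inv_of_mul_eq_one_left h4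
    rw [map_mul, h5]
    have h6 : τ.hom (g.normalization.presheaf.germ (g.fromNormalization ⁻¹ᵁ V)
        (g.toNormalization (IsLocalRing.closedPoint (CommRingCat.of K)))
        (toNormalization_closedPoint_mem g V hptV) b) = α.hom m * y := hb
    rw [h6, mul_comm, ← mul_assoc, inv_mul_cancel₀ hαm, one_mul]

end


/-- Let X be an integral scheme with field of rational functions k(ξ), K a field extension of k(ξ) (an
embedding φ), and X' the integral closure of X relative to K, i.e. the normalization of X along the
morphism g : Spec K ⟶ X through the generic point. Then X' is integral and normal, the generic point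
ξ' of X' is the only point over ξ, the canonical morphism Spec K ⟶ X' hits ξ', and the field of
rational functions of X' (the local ring at ξ') maps isomorphically onto the algebraic closure of
k(ξ) in K. (The quasi-compactness and quasi-separatedness binders on g always hold; they are needed
only to form the normalization.) -/
theorem result (X : Scheme.{u}) [IsIntegral X] (K : Type u) [Field K]
    (φ : X.functionField →+* K) (g : Spec (CommRingCat.of K) ⟶ X)
    (hg : g = Spec.map (CommRingCat.ofHom φ) ≫ X.fromSpecStalk (genericPoint X)) [QuasiCompact g] [QuasiSeparated g] :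
    ∃ (_ : IsIntegral g.normalization), Pi1.IsNormalScheme g.normalization ∧
      g.fromNormalization.base ⁻¹' {genericPoint X} = {genericPoint g.normalization} ∧
      g.toNormalization.base (IsLocalRing.closedPoint K) = genericPoint g.normalization ∧
      Function.Injective (Scheme.stalkClosedPointTo g.toNormalization).hom ∧
      Set.range (Scheme.stalkClosedPointTo g.toNormalization).hom =
        {y : K | ∃ q : Polynomial X.functionField, q.Monic ∧ Polynomial.eval₂ φ y q = 0} := by
  subst hg
  have hKf : IsField (CommRingCat.of K) := Field.toIsField K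
  have hpt : (Spec.map (CommRingCat.ofHom φ) ≫ X.fromSpecStalk (genericPoint X))
      (IsLocalRing.closedPoint (CommRingCat.of K)) = genericPoint X := by
    rw [Scheme.Hom.comp_apply, Spec_closedPoint, Scheme.fromSpecStalk_closedPoint]
  have h4 := Groth.Agent.Lib.helper13.Normal.toNormalization_eq_genericPoint hKf
    (Spec.map (CommRingCat.ofHom φ) ≫ X.fromSpecStalk (genericPoint X))
    (IsLocalRing.closedPoint (CommRingCat.of K))
  refine ⟨inferInstance,
    Groth.Agent.Lib.helper13.Normal.isNormalScheme_normalization_of_isField hKf _,
    Groth.Agent.Lib.helper13.Normal.fromNormalization_preimage_genericPoint hKf _ _ hpt,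
    h4, ?_, range_stalkClosedPointTo_toNormalization K φ⟩
  letI := (isField_stalk_of_eq_genericPoint _ h4).toField
  exact RingHom.injective _

end Groth.Agent.S4448
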