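import Groth.Statements.S4453
import Mathlib
import Groth.Agent.S4438
import Groth.Agent.S4418
import Groth.Agent.S4419
import Groth.Agent.Lib.Helper12.AmpleSep
import Groth.Agent.Lib.Helper12.AmpleLocal

set_option autoImplicit false
universe u
open CategoryTheory CategoryTheory.Limits AlgebraicGeometry
open EGA2

namespace Groth.Agent.S4453

/-- a relatively ample module is invertible. -/
theorem isInvertible_of_isRelAmple {X Y : Scheme.{u}} (f : X ⟶ Y) {L : X.Modules}
    (hL : RelAmple.IsRelAmple f L) : PicF.IsInvertible L := by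
  refine Groth.Agent.Lib.helper12.AmpleLocal.isInvertible_of_cover
    (fun V : Y.affineOpens => f ⁻¹ᵁ V.1) ?_ (fun V => (hL.2 V).1)
  rw [eq_top_iff]
  intro x _
  obtain ⟨V, hV, hyV, -⟩ := (TopologicalSpace.Opens.isBasis_iff_nbhd.mp Y.isBasis_affineOpens)
    (show f x ∈ (⊤ : Y.Opens) from trivial)
  exact TopologicalSpace.Opens.mem_iSup.mpr ⟨⟨V, hV⟩, hyV⟩

/-- Let Y be a quasi-compact separated scheme or a scheme whose underlying space is Noetherian, f : X ⟶
Y a morphism of finite type and g : X' ⟶ X a finite surjective morphism such that the direct image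
of O_{X'} is a finite locally free O_X-module. Then f is projective if and only if f ∘ g is
projective. (The companion assertion, on quasi-projectivity, is the
existence-of-a-relatively-ample-module equivalence stated separately.) -/
theorem result {X X' Y : Scheme.{u}} (f : X ⟶ Y) [LocallyOfFiniteType f]
    [QuasiCompact f] (g : X' ⟶ X) [IsFinite g] [Surjective g]
    (hfree : FlatMod.IsFinLocFree ((Coh.push g).obj (Coh.structureModule X')))
    (hY : (CompactSpace Y ∧ Y.IsSeparated) ∨ TopologicalSpace.NoetherianSpace Y) :
    RelProj.IsProjective f ↔ RelProj.IsProjective (g ≫ f) := by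
  constructor
  · intro hf
    obtain ⟨⟨-, -, L, hL⟩, hprop⟩ := Groth.Agent.S4418.result f hf
    have hLinv := isInvertible_of_isRelAmple f hL
    obtain ⟨L', -, hL'⟩ := (Groth.Agent.S4438.result f g hfree).mp ⟨L, hLinv, hL⟩
    have : IsProper (g ≫ f) := inferInstance
    exact Groth.Agent.S4419.result hY (g ≫ f) ⟨inferInstance, inferInstance, L', hL'⟩
  · intro hgf
    obtain ⟨⟨-, -, L', hL'⟩, hprop⟩ := Groth.Agent.S4418.result (g ≫ f) hgf
    have hL'inv := isInvertible_of_isRelAmple (g ≫ f) hL'
    obtain ⟨L, -, hL⟩ := (Groth.Agent.S4438.result f g hfree).mpr ⟨L', hL'inv, hL'⟩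
    have : IsSeparated f := Groth.Agent.Lib.helper12.AmpleSep.isSeparated_of_isRelAmple f hL
    have : UniversallyClosed f := UniversallyClosed.of_comp_surjective g f
    have : IsProper f := {}
    exact Groth.Agent.S4419.result hY f ⟨inferInstance, inferInstance, L, hL⟩

end Groth.Agent.S4453
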