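import Groth.Statements.S4454
import Mathlib
import Groth.Agent.Lib.Helper13.PIns4
-- import your own Groth.Agent.* helpers here

set_option autoImplicit false
universe u
open CategoryTheory CategoryTheory.Limits AlgebraicGeometry
open EGA2

namespace Groth.Agent.S4454

/-- Case of an integral curve and a single field: let X be an integral algebraic curve over a field k, K
a finite extension of its field of rational functions and X' the integral closure of X in K (the
normalization of X along the morphism g : Spec K ⟶ X through the generic point). Then the canonical
morphism X' ⟶ X is finite and X' is a normal algebraic curve over k (local rings integrally closed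
domains, of dimension one at closed points). -/
theorem result (k : Type u) [Field k] (X : Scheme.{u})
    [X.Over (Spec (CommRingCat.of k))] [LocallyOfFiniteType (X ↘ (Spec (CommRingCat.of k)))]
    [QuasiCompact (X ↘ (Spec (CommRingCat.of k)))] [IsSeparated (X ↘ (Spec (CommRingCat.of k)))] [IsIntegral X]
    (hX : ∀ x : X, IsClosed ({x} : Set X) → ringKrullDim (X.presheaf.stalk x) = 1)
    (K : Type u) [Field K] (φ : X.functionField →+* K) (hφ : φ.Finite) (g : Spec (CommRingCat.of K) ⟶ X)
    (hg : g = Spec.map (CommRingCat.ofHom φ) ≫ X.fromSpecStalk (genericPoint X)) [QuasiCompact g] [QuasiSeparated g] :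
    IsFinite g.fromNormalization ∧ Pi1.IsNormalScheme g.normalization ∧
      ∀ x' : g.normalization, IsClosed ({x'} : Set g.normalization) → ringKrullDim (g.normalization.presheaf.stalk x') = 1 := by
  subst hg
  have hK : IsField (CommRingCat.of K) := Field.toIsField K
  have hfin : IsFinite (Spec.map (CommRingCat.ofHom φ) ≫
      X.fromSpecStalk (genericPoint X)).fromNormalization := by
    refine Groth.Agent.Lib.helper13.PIns.isFinite_fromNormalization_of_field X (CommRingCat.of K)
      hK (CommRingCat.ofHom φ) (fun U hU hne => ?_)
    letI : Algebra Γ(X, U) K :=
      ((CommRingCat.ofHom φ).hom.comp (algebraMap Γ(X, U) X.functionField)).toAlgebra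
    letI : Algebra X.functionField K := φ.toAlgebra
    haveI : IsScalarTower Γ(X, U) X.functionField K := IsScalarTower.of_algebraMap_eq (fun _ => rfl)
    haveI : FiniteDimensional X.functionField K := hφ
    haveI := functionField_isFractionRing_of_isAffineOpen X U hU
    have hN2 := Groth.Agent.Lib.helper13.PIns.isN2_sections_of_locallyOfFiniteType_field k
      (X ↘ (Spec (CommRingCat.of k))) U hU hne
    haveI : IsDomain Γ(X, U) := @IsIntegral.component_integral X _ U hne
    exact Groth.Agent.Lib.helper13.PIns.IsN2.finite_integralClosure hN2 X.functionField K
  refine ⟨hfin, Groth.Agent.Lib.helper13.Normal.isNormalScheme_normalization_of_isField hK _, ?_⟩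
  intro x' hx'
  apply Groth.Agent.Lib.helper13.PIns.ringKrullDim_stalk_normalization_eq_one X (CommRingCat.of K)
    hK (CommRingCat.ofHom φ) hfin x'
  apply hX
  haveI := hfin
  have hcl := (Spec.map (CommRingCat.ofHom φ) ≫
    X.fromSpecStalk (genericPoint X)).fromNormalization.isClosedMap {x'} hx'
  rwa [Set.image_singleton] at hcl

end Groth.Agent.S4454
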