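-- Statement S4459: Coherent.opens_eq_top_of_contains_preimage_adic_locus
import Groth.Statements.S4459
-- import your own Groth.Agent.* helpers here

set_option autoImplicit false
universe u
open Coherent

namespace Groth.Agent.S4459

open AlgebraicGeometry CategoryTheory in
/-- Let A be a Noetherian ring which is separated and complete for the J-adic topology, and let f : X →
Spec A be a morphism of schemes which is a closed map on underlying spaces. Then every open subset
of X containing the inverse image of V(J) is all of X. (The published statement also assumes X of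
finite type over A; that hypothesis is not used.) -/
theorem result (A : Type u) [CommRing A] [IsNoetherianRing A]
    (J : Ideal A) [IsAdicComplete J A] {X : Scheme.{u}} (f : X ⟶ Spec (CommRingCat.of A))
    (hf : IsClosedMap f.base) (U : X.Opens)
    (hU : f.base ⁻¹' (PrimeSpectrum.zeroLocus (J : Set A)) ⊆ (U : Set X)) : U = ⊤ := by
  rw [eq_top_iff]
  intro z _
  by_contra hz
  have hZ : IsClosed ((U : Set X)ᶜ) := U.2.isClosed_compl
  have hfZ : IsClosed (f.base '' ((U : Set X)ᶜ)) := hf _ hZ
  set p : PrimeSpectrum A := f.base z with hp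
  have hpZ : p ∈ f.base '' ((U : Set X)ᶜ) := ⟨z, hz, rfl⟩
  obtain ⟨m, hm, hpm⟩ := Ideal.exists_le_maximal p.asIdeal p.2.ne_top
  let q : PrimeSpectrum A := ⟨m, hm.isPrime⟩
  have hpq : p ⤳ q := (PrimeSpectrum.le_iff_specializes p q).mp hpm
  have hqZ : q ∈ f.base '' ((U : Set X)ᶜ) := hfZ.stableUnderSpecialization hpq hpZ
  obtain ⟨z', hz', hz'q⟩ := hqZ
  have hJm : J ≤ m := (IsAdicComplete.le_jacobson_bot J).trans (sInf_le ⟨bot_le, hm⟩)
  have : z' ∈ (U : Set X) := hU (by
    show f.base z' ∈ PrimeSpectrum.zeroLocus (J : Set A)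
    rw [hz'q]
    exact (PrimeSpectrum.mem_zeroLocus q (J : Set A)).mpr hJm)
  exact hz' this

end Groth.Agent.S4459
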