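import Groth.Statements.S4460
import Groth.Agent.Lib.Helper8.FormalSupp
import Groth.Agent.Lib.Helper8.FormalProLim

set_option autoImplicit false
universe u
open Formal

namespace Groth.Agent.S4460

open AlgebraicGeometry CategoryTheory in
/-- In the inverse-limit form. Let A be a Noetherian ring separated and complete for the I-adic
topology, X a scheme of finite type over Spec A and M a coherent O_X-module whose support is proper
over Spec A. Then for every p the canonical map from H^p(X, M) to the inverse limit of the groups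
H^p(X, M/I^(n+1)M) is bijective. -/
theorem result (A : Type u) [CommRing A] [IsNoetherianRing A] (I : Ideal A)
    [IsAdicComplete I A] (X : Scheme.{u}) [X.Over (Spec (CommRingCat.of A))]
    [LocallyOfFiniteType (X ↘ Spec (CommRingCat.of A))] [QuasiCompact (X ↘ Spec (CommRingCat.of A))]
    (M : X.Modules) (hM : Coh.IsCoh M)
    (hs : ClSub.IsProperOver (X ↘ Spec (CommRingCat.of A)) (CohB1.support M)) (p : ℕ) :
    Function.Bijective (Formal.toHHlim I M p) := by
  haveI : AlgebraicGeometry.IsNoetherian X :=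
    Groth.Agent.Lib.helper8.FF.isNoetherian_of_finiteType A X
  have hsub : ∀ (𝔞 : Ideal A) (N : X.Modules),
      (Coh.IsCoh N ∧ CohB1.support N ⊆ CohB1.support M) →
      (Coh.IsCoh (Groth.Agent.Lib.helper8.FF.Sb 𝔞 N) ∧
        CohB1.support (Groth.Agent.Lib.helper8.FF.Sb 𝔞 N) ⊆ CohB1.support M) := by
    rintro 𝔞 N ⟨hN, hNs⟩
    have hQ : Coh.IsCoh (Groth.Agent.Lib.helper8.FF.Q 𝔞 N) :=
      Groth.Agent.Lib.helper8.FF.isCoh_Q 𝔞 N hN
    have hS : Coh.IsCoh (Groth.Agent.Lib.helper8.FF.Sb 𝔞 N) :=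
      Groth.Agent.Lib.helper7.CohKer.isCoh_kernel hN hQ _
    exact ⟨hS, (Groth.Agent.Lib.helper8.Dev.support_subset_of_mono
      (Groth.Agent.Lib.helper8.FF.sbι 𝔞 N) hS hN).trans hNs⟩
  have hquot : ∀ (𝔞 : Ideal A) (N : X.Modules),
      (Coh.IsCoh N ∧ CohB1.support N ⊆ CohB1.support M) →
      (Coh.IsCoh (Groth.Agent.Lib.helper8.FF.Q 𝔞 N) ∧
        CohB1.support (Groth.Agent.Lib.helper8.FF.Q 𝔞 N) ⊆ CohB1.support M) := by
    rintro 𝔞 N ⟨hN, hNs⟩
    have hQ : Coh.IsCoh (Groth.Agent.Lib.helper8.FF.Q 𝔞 N) :=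
      Groth.Agent.Lib.helper8.FF.isCoh_Q 𝔞 N hN
    exact ⟨hQ, (Groth.Agent.Lib.helper8.Dev.support_subset_of_epi
      (Groth.Agent.Lib.helper8.FF.qπ 𝔞 N) hN hQ).trans hNs⟩
  have hfin : ∀ N : X.Modules, (Coh.IsCoh N ∧ CohB1.support N ⊆ CohB1.support M) →
      Coh.IsCoh N → ∀ q : ℕ, Module.Finite A (Coh.HH X N q) := by
    rintro N ⟨hN, hNs⟩ - q
    exact Groth.Agent.Lib.helper8.FF.finite_HH_of_proper_support A X (CohB1.support M) hs
      N hN hNs q
  exact Groth.Agent.Lib.helper8.FF.bijective_toHHlim_of_class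
    (fun N => Coh.IsCoh N ∧ CohB1.support N ⊆ CohB1.support M) hsub hquot hfin I M
    ⟨hM, subset_rfl⟩ hM p

end Groth.Agent.S4460
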