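import Groth.Statements.S4462
import Groth.Agent.Lib.Helper11.TensorAQuot
import Groth.Agent.Lib.Helper11.GCM6
import Groth.Agent.Lib.Helper11.GCM7
import Groth.Agent.Lib.Helper11.NegCxRows
import Groth.Agent.Lib.Helper11.GCLocAlg
import Groth.Agent.Lib.Helper21.GCFibre
import Groth.Agent.Lib.Helper2.TpZero

set_option autoImplicit false
universe u
open Coherent

namespace Groth.Agent.S4462

open AlgebraicGeometry CategoryTheory in
/-- Second assertion: for a local base: let A be a Noetherian local ring with maximal ideal m and closed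
point y, X a scheme proper over Spec A, F a coherent O_X-module flat over Spec A and n ≥ 0 such that
H^(n+1)(X_y, F_y) = 0, where X_y is the closed fibre and F_y the restriction of F to it. Then for
every p ≥ 0 the canonical map H^n(X, F) → H^n(X, F/m^(p+1)F) is surjective. (For a general locally
Noetherian base the published statement is about the stalk of R^n f_* F at a point; over the local
ring of that point this is the module H^n(X, F) used here.) -/
theorem result (A : Type u) [CommRing A] [IsNoetherianRing A]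
    [IsLocalRing A] (X : Scheme.{u}) [X.Over (Spec (CommRingCat.of A))]
    [IsProper (X ↘ Spec (CommRingCat.of A))] (F : X.Modules) (hF : Coh.IsCoh F)
    (hfl : FlatMod.IsFlatOver (X ↘ Spec (CommRingCat.of A)) F) (n : ℕ)
    (hvan : Subsingleton (CohIII.fiberH (X ↘ Spec (CommRingCat.of A)) F (IsLocalRing.closedPoint A) (n + 1)))
    (p : ℕ) :
    Function.Surjective (Formal.toHHmodPow (IsLocalRing.maximalIdeal A) F n p) := by
  classical
  have hq : F.IsQuasicoherent := hF.1
  obtain ⟨L, hL, ⟨N, hN⟩, hneg, hH, hBneg, hB, hM⟩ :=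
    Groth.Agent.Lib.helper11.GCM.exists_grothendieck_complex_module A X F hF hfl
  have hLff : ∀ i, Module.Finite A (L.X i) ∧ Module.Flat A (L.X i) := fun i => by
    obtain ⟨h1, h2⟩ := hL i
    exact ⟨h1, inferInstance⟩
  have hP := Groth.Agent.Lib.helper11.NegCx.neg_fin_flat L hLff
  -- the fibre vanishing gives `dRank = 0` at the closed point
  have hd : CohIII.dRank L ((n + 1 : ℕ) : ℤ) (IsLocalRing.closedPoint A) = 0 := by
    rw [Groth.Agent.Lib.helper21.GCFibre.dRank_eq_fiberRank hB (IsLocalRing.closedPoint A) (n + 1)]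
    unfold CohIII.fiberRank
    exact Module.finrank_zero_of_subsingleton
  have hd' : CohIII.dRank (Groth.Agent.Lib.helper11.NegCx.neg L) (-((n + 1 : ℕ) : ℤ))
      (IsLocalRing.closedPoint A) = 0 := by
    rw [Groth.Agent.Lib.helper11.GCLoc.dRank_neg_apply]
    exact hd
  -- `T_{-(n+1)}` vanishes identically
  have hk := Groth.Agent.Lib.helper11.GCLoc.isZero_T_residue_of_dRank_closedPoint
    (Groth.Agent.Lib.helper11.NegCx.neg L) (fun i => (hP i).1) (-((n + 1 : ℕ) : ℤ)) hd'
  have hz := Groth.Agent.Lib.helper2.TpLib.isZero_T_of_isZero_residue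
    (Groth.Agent.Lib.helper11.NegCx.neg L) hP (-((n + 1 : ℕ) : ℤ)) hk
  have hmono : (CohIII.TFun (Groth.Agent.Lib.helper11.NegCx.neg L)
      (-((n + 1 : ℕ) : ℤ))).PreservesMonomorphisms :=
    ⟨fun {M M'} g _ => ⟨fun a b _ => (hz M).eq_of_tgt _ _⟩⟩
  have hepi : (CohIII.TFun (Groth.Agent.Lib.helper11.NegCx.neg L)
      (-(n : ℤ))).PreservesEpimorphisms :=
    (Groth.Agent.Lib.helper2.TpLib.preservesMono_iff_preservesEpi
      (Groth.Agent.Lib.helper11.NegCx.neg L) (fun i => (hP i).2) (-(n : ℤ))
      (-((n + 1 : ℕ) : ℤ)) (by push_cast; ring)).mp hmono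
  -- transfer to `T^n` of `L`, then to cohomology
  have hepi2 : (CohIII.TFun L (n : ℤ)).PreservesEpimorphisms := by
    have e := Groth.Agent.Lib.helper11.NegCx.TFunIso L (-(n : ℤ))
    rw [neg_neg] at e
    exact (Functor.PreservesEpimorphisms.iso_iff e).mp hepi
  obtain ⟨Φ⟩ := hM n
  have hepi3 : (CohIII.tensorAFunctor A F ⋙ CohIII.HAb X n).PreservesEpimorphisms :=
    (Groth.Agent.Lib.helper11.GCM.preservesEpi_iff Φ).mpr hepi2
  let J : Ideal A := IsLocalRing.maximalIdeal A ^ (p + 1)
  have hmkQ : Epi (ModuleCat.ofHom (Submodule.mkQ J) :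
      ModuleCat.of A A ⟶ ModuleCat.of A (A ⧸ J)) :=
    (ModuleCat.epi_iff_surjective _).mpr (Submodule.mkQ_surjective J)
  have h1 : Epi ((CohIII.tensorAFunctor A F ⋙ CohIII.HAb X n).map
      (ModuleCat.ofHom (Submodule.mkQ J) : ModuleCat.of A A ⟶ ModuleCat.of A (A ⧸ J))) :=
    hepi3.preserves _
  have h2 := (AddCommGrpCat.epi_iff_surjective _).mp h1
  have h3 := (Groth.Agent.Lib.helper11.TensorAQuot.surjective_map_qπ_iff A F J n).mpr h2
  exact h3

end Groth.Agent.S4462
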