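import Groth.Statements.S4464
import Groth.Agent.Lib.Helper8.SteinCount
import Groth.Agent.Lib.Helper8.SteinCount2

set_option autoImplicit false
universe u
open Coherent

namespace Groth.Agent.S4464

open AlgebraicGeometry CategoryTheory in
/-- Let X and Y be locally Noetherian integral schemes, f : X → Y a proper dominant morphism, and
suppose that the algebraic closure of the function field R(Y) in R(X) is purely inseparable over
R(Y): every element of R(X) satisfying a nonzero polynomial over R(Y) has a p^e-th power coming from
R(Y), p being the characteristic exponent. Then for every point y of Y whose local ring is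
unibranch, the fibre X_y is connected and nonempty. -/
theorem result {X Y : Scheme.{u}} [IsIntegral X]
    [IsIntegral Y] [IsLocallyNoetherian X] [IsLocallyNoetherian Y] (f : X ⟶ Y) [IsProper f]
    (hdom : f.base (genericPoint X) ⤳ genericPoint Y)
    (hrad : ∀ x : X.functionField,
      (∃ q : Polynomial Y.functionField, q ≠ 0 ∧
        Polynomial.eval₂ (CohIII.stalkToFunctionField f (genericPoint Y) hdom) x q = 0) →
      ∃ e : ℕ, x ^ (ringExpChar X.functionField ^ e) ∈
        Set.range (CohIII.stalkToFunctionField f (genericPoint Y) hdom))
    (y : Y) (hy : CAlg2.IsUnibranch (Y.presheaf.stalk y)) :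
    ConnectedSpace ↥(f.fiber y) := by
  have h : f.base (genericPoint X) ⤳ y :=
    hdom.trans ((genericPoint_spec Y).specializes trivial)
  letI algAL : Algebra (Y.presheaf.stalk y) X.functionField :=
    (CohIII.stalkToFunctionField f y h).toAlgebra
  letI algKL : Algebra Y.functionField X.functionField :=
    (CohIII.stalkToFunctionField f (genericPoint Y) hdom).toAlgebra
  haveI : IsScalarTower (Y.presheaf.stalk y) Y.functionField X.functionField :=
    IsScalarTower.of_algebraMap_eq (fun a =>
      (Groth.Agent.Lib.helper8.SteinCount.stalkToFunctionField_algebraMap f hdom y h a).symm)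
  have hloc : IsLocalRing (integralClosure (Y.presheaf.stalk y) Y.functionField) :=
    Groth.Agent.Lib.helper8.SteinCount.isLocalRing_integralClosure_of_normRed hy.2
  haveI : ExpChar X.functionField (ringExpChar X.functionField) := ringExpChar.expChar _
  have hrad' : ∀ x : X.functionField, IsIntegral (Y.presheaf.stalk y) x →
      ∃ e : ℕ, x ^ (ringExpChar X.functionField ^ e) ∈
        (algebraMap Y.functionField X.functionField).range := by
    intro x hx
    obtain ⟨P, hP, hPx⟩ := hx
    refine hrad x ⟨P.map (algebraMap (Y.presheaf.stalk y) Y.functionField), (hP.map _).ne_zero, ?_⟩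
    rw [Polynomial.eval₂_map]
    have : (CohIII.stalkToFunctionField f (genericPoint Y) hdom).comp
        (algebraMap (Y.presheaf.stalk y) Y.functionField) =
        algebraMap (Y.presheaf.stalk y) X.functionField :=
      RingHom.ext fun a =>
        Groth.Agent.Lib.helper8.SteinCount.stalkToFunctionField_algebraMap f hdom y h a
    rw [this]
    exact hPx
  haveI hCloc : IsLocalRing (integralClosure (Y.presheaf.stalk y) X.functionField) :=
    Groth.Agent.Lib.helper8.SteinCount.isLocalRing_integralClosure_of_radical' Y.functionField hloc
      (ringExpChar X.functionField) hrad'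
  have hcard := Groth.Agent.Lib.helper8.SteinCount.card_connectedComponents_le f y h
  haveI : Subsingleton (MaximalSpectrum (integralClosure (Y.presheaf.stalk y) X.functionField)) :=
    ⟨fun M N => MaximalSpectrum.ext
      ((IsLocalRing.eq_maximalIdeal M.isMaximal).trans (IsLocalRing.eq_maximalIdeal N.isMaximal).symm)⟩
  have hsub : Subsingleton (_root_.ConnectedComponents ↥(f.fiber y)) :=
    Cardinal.le_one_iff_subsingleton.mp (hcard.trans (Cardinal.le_one_iff_subsingleton.mpr inferInstance))
  have hsurj : Function.Surjective f.base :=
    Groth.Agent.Lib.helper8.SteinCount.surjective_of_specializes f f.isClosedMap _ hdom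
  obtain ⟨x, hx⟩ := hsurj y
  haveI : Nonempty ↥(f.fiber y) := ⟨(f.fiberHomeo y).symm ⟨x, hx⟩⟩
  haveI : PreconnectedSpace ↥(f.fiber y) := by
    rw [preconnectedSpace_iff_connectedComponent]
    intro a
    ext b
    simp only [Set.mem_univ, iff_true]
    have : (a : _root_.ConnectedComponents ↥(f.fiber y)) = b := Subsingleton.elim _ _
    rw [ConnectedComponents.coe_eq_coe] at this
    rw [this]
    exact mem_connectedComponent
  exact ConnectedSpace.mk inferInstance

end Groth.Agent.S4464
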