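import Groth.Statements.S4465
import Groth.Agent.Lib.Helper11.PropSuppVan
import Groth.Agent.Lib.Helper11.TensorACocont
import Groth.Agent.Lib.Helper7.CohKer
import Groth.Agent.S0796
import Groth.Agent.Lib.Helper27.DeltaSeq

set_option autoImplicit false
universe u
open Coherent

namespace Groth.Agent.S4465

open AlgebraicGeometry CategoryTheory CategoryTheory.Limits in
/-- Let Y be a Noetherian scheme, f : X → Y a morphism of finite type, L an invertible O_X-module ample
relative to f and F → G → H a sequence of coherent O_X-modules which is exact at G, such that the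
supports of F and of H are proper over Y. Then there is N such that for every n ≥ N the induced
sequence f_*(F(n)) → f_*(G(n)) → f_*(H(n)) of O_Y-modules is exact, where M(n) = M ⊗ L^{⊗ n}. -/
theorem result {X Y : Scheme.{u}} (f : X ⟶ Y)
    [IsNoetherian Y] [LocallyOfFiniteType f] [QuasiCompact f] (L : X.Modules) (hL : PicF.IsInvertible L)
    (hamp : RelAmple.IsRelAmple f L) (C : ShortComplex X.Modules) (hC : C.Exact)
    (h1 : Coh.IsCoh C.X₁) (h2 : Coh.IsCoh C.X₂) (h3 : Coh.IsCoh C.X₃)
    (hs1 : ClSub.IsProperOver f (CohB1.support C.X₁)) (hs3 : ClSub.IsProperOver f (CohB1.support C.X₃)) :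
    ∃ N : ℕ, ∀ n : ℕ, N ≤ n →
      (C.map (DCoh.tensorRightMod (CohB1.tensorPow L n) ⋙ Coh.push f)).Exact := by
  classical
  haveI : IsLocallyNoetherian X := LocallyOfFiniteType.isLocallyNoetherian f
  haveI : HasInjectiveResolutions X.Modules :=
    Groth.Agent.Lib.helper21.ModOpenBC.hasInjectiveResolutions_modules X
  haveI : EnoughInjectives X.Modules :=
    Groth.Agent.Lib.Helper21.ModGroth.enoughInjectives_mod _
  haveI : Epi C.toCycles := hC.epi_toCycles
  have hZ : Coh.IsCoh C.cycles :=
    Groth.Agent.Lib.helper7.CohKer.isCoh_of_iso C.cyclesIsoKernel.symm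
      (Groth.Agent.Lib.helper7.CohKer.isCoh_kernel h2 h3 C.g)
  have hK' : Coh.IsCoh (kernel C.toCycles) :=
    Groth.Agent.Lib.helper7.CohKer.isCoh_kernel h1 hZ C.toCycles
  let E : ShortComplex X.Modules :=
    ShortComplex.mk (kernel.ι C.toCycles) C.toCycles (kernel.condition _)
  have hE : E.ShortExact :=
    ShortComplex.ShortExact.mk' (ShortComplex.exact_of_f_is_kernel E (kernelIsKernel C.toCycles))
      (inferInstanceAs (Mono (kernel.ι C.toCycles))) (inferInstanceAs (Epi C.toCycles))
  have hsK' : ClSub.IsProperOver f (CohB1.support (kernel C.toCycles)) :=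
    ((Groth.Agent.S0796.result f E hE hK' h1 hZ).1 hs1).1
  obtain ⟨N, hN⟩ := Groth.Agent.Lib.helper11.PropSuppVan.exists_isZero_rpush_twist f L hL hamp
    (kernel C.toCycles) hK' hsK'
  refine ⟨N, fun n hn => ?_⟩
  have hFLF : FlatMod.IsFinLocFree (CohB1.tensorPow L n) :=
    Groth.Agent.Lib.helper16.FLF.isFinLocFree_of_isInvertible
      (Groth.Agent.Lib.helper12.TensorInv.isInvertible_tensorPow hL n)
  haveI : PreservesFiniteLimits
      (Groth.Agent.Lib.Helper20.TensorEquiv.tensorRight (CohB1.tensorPow L n)) :=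
    Groth.Agent.Lib.helper11.ProjFormula.preservesFiniteLimits_tensorRight hFLF
  haveI hTl : PreservesFiniteLimits (DCoh.tensorRightMod (CohB1.tensorPow L n)) :=
    preservesFiniteLimits_of_natIso
      (Groth.Agent.Lib.helper11.TensorACocont.tensorRightModIso (CohB1.tensorPow L n)).symm
  haveI hTc : PreservesFiniteColimits (DCoh.tensorRightMod (CohB1.tensorPow L n)) :=
    PreservesColimitsOfSize.preservesFiniteColimits _
  haveI hPl : PreservesFiniteLimits (Scheme.Modules.pushforward f) := by
    have h : PreservesLimitsOfSize.{0, 0} (Scheme.Modules.pushforward f) :=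
      (Scheme.Modules.pullbackPushforwardAdjunction f).rightAdjoint_preservesLimits
    exact PreservesLimitsOfSize.preservesFiniteLimits _
  -- surjectivity of `f_*(F(n)) ⟶ f_*(Z(n))`
  have hTE : (E.map (DCoh.tensorRightMod (CohB1.tensorPow L n))).ShortExact :=
    hE.map_of_exact _
  obtain ⟨δ, h1', h2', e1, e2⟩ :=
    (Groth.Agent.Lib.helper27.DeltaSeq.isExSeq_rightDerived (Scheme.Modules.pushforward f)).ex _ hTE 0
  have hz : IsZero ((Coh.Rpush f 1).obj
      ((DCoh.tensorRightMod (CohB1.tensorPow L n)).obj (kernel C.toCycles))) :=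
    IsZero.of_iso (hN n hn 1 one_pos) ((Coh.Rpush f 1).mapIso
      ((Groth.Agent.Lib.helper11.TensorACocont.tensorRightModIso (CohB1.tensorPow L n)).app
        (kernel C.toCycles)))
  have hepi0 : Epi ((Coh.Rpush f 0).map
      ((DCoh.tensorRightMod (CohB1.tensorPow L n)).map C.toCycles)) :=
    e1.epi_f (hz.eq_of_tgt _ _)
  have hepi : Epi ((Scheme.Modules.pushforward f).map
      ((DCoh.tensorRightMod (CohB1.tensorPow L n)).map C.toCycles)) := by
    have hnat := (Scheme.Modules.pushforward f).rightDerivedZeroIsoSelf.hom.naturality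
      ((DCoh.tensorRightMod (CohB1.tensorPow L n)).map C.toCycles)
    have : (Scheme.Modules.pushforward f).map
        ((DCoh.tensorRightMod (CohB1.tensorPow L n)).map C.toCycles) =
        (Scheme.Modules.pushforward f).rightDerivedZeroIsoSelf.inv.app _ ≫
          ((Scheme.Modules.pushforward f).rightDerived 0).map
            ((DCoh.tensorRightMod (CohB1.tensorPow L n)).map C.toCycles) ≫
          (Scheme.Modules.pushforward f).rightDerivedZeroIsoSelf.hom.app _ := by
      rw [hnat, ← Category.assoc, ← NatTrans.comp_app, Iso.inv_hom_id, NatTrans.id_app,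
        Category.id_comp]
    rw [this]
    haveI := hepi0
    infer_instance
  -- assemble
  let Φ : X.Modules ⥤ Y.Modules := DCoh.tensorRightMod (CohB1.tensorPow L n) ⋙ Coh.push f
  haveI : PreservesFiniteLimits Φ := comp_preservesFiniteLimits _ _
  have hw : Φ.map C.iCycles ≫ Φ.map C.g = 0 := by
    rw [← Φ.map_comp, C.iCycles_g, Φ.map_zero]
  let S₂ : ShortComplex Y.Modules := ShortComplex.mk (Φ.map C.iCycles) (Φ.map C.g) hw
  have hS₂ : S₂.Exact :=
    ShortComplex.exact_of_f_is_kernel S₂ (isLimitForkMapOfIsLimit' Φ C.iCycles_g C.cyclesIsKernel)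
  let φ : C.map Φ ⟶ S₂ :=
    { τ₁ := Φ.map C.toCycles
      τ₂ := 𝟙 _
      τ₃ := 𝟙 _
      comm₁₂ := by
        show Φ.map C.toCycles ≫ Φ.map C.iCycles = Φ.map C.f ≫ 𝟙 _
        rw [← Φ.map_comp, C.toCycles_i, Category.comp_id]
      comm₂₃ := by
        show 𝟙 _ ≫ Φ.map C.g = Φ.map C.g ≫ 𝟙 _
        rw [Category.id_comp, Category.comp_id] }
  haveI : Epi φ.τ₁ := hepi
  haveI : IsIso φ.τ₂ := inferInstanceAs (IsIso (𝟙 _))
  haveI : Mono φ.τ₃ := inferInstanceAs (Mono (𝟙 _))
  exact (ShortComplex.exact_iff_of_epi_of_isIso_of_mono φ).2 hS₂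

end Groth.Agent.S4465
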