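import Groth.Statements.S4469
import Mathlib.RingTheory.ZariskisMainTheorem
import Mathlib.RingTheory.Ideal.MinimalPrime.Noetherian

set_option autoImplicit false
universe u
open CAlg

namespace Groth.Agent.S4469

/-- Let A be an integrally closed Noetherian local domain with field of fractions K, B an A-algebra of
finite type which is a domain with the same field of fractions (A → B → K compatible with A → K),
and 𝔫 a maximal ideal of B lying over the maximal ideal 𝔪 of A and minimal among the prime ideals of
B lying over 𝔪. Then B = A: the structure map A → B is bijective. -/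
theorem result (A B K : Type u) [CommRing A]
    [IsDomain A] [IsNoetherianRing A] [IsLocalRing A] [IsIntegrallyClosed A] [CommRing B] [IsDomain B]
    [Field K] [Algebra A B] [Algebra B K] [Algebra A K] [IsScalarTower A B K] [IsFractionRing A K]
    [IsFractionRing B K] [Algebra.FiniteType A B] (n : Ideal B) [n.IsMaximal]
    (hn : n.comap (algebraMap A B) = IsLocalRing.maximalIdeal A)
    (hmin : ∀ q : Ideal B, q.IsPrime → q.comap (algebraMap A B) = IsLocalRing.maximalIdeal A → q ≤ n → q = n) :
    Function.Bijective (algebraMap A B) := by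
  have hinjAK : Function.Injective (algebraMap A K) := IsFractionRing.injective A K
  have hinjBK : Function.Injective (algebraMap B K) := IsFractionRing.injective B K
  have hinj : Function.Injective (algebraMap A B) := by
    intro a a' h
    apply hinjAK
    rw [IsScalarTower.algebraMap_apply A B K, IsScalarTower.algebraMap_apply A B K, h]
  refine ⟨hinj, ?_⟩
  haveI : IsNoetherianRing B := Algebra.FiniteType.isNoetherianRing A B
  -- Step 0: any prime of B containing m B lies over m
  have hover : ∀ q : Ideal B, q.IsPrime →
      (IsLocalRing.maximalIdeal A).map (algebraMap A B) ≤ q →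
      q.comap (algebraMap A B) = IsLocalRing.maximalIdeal A := by
    intro q hq hle
    apply le_antisymm
    · exact IsLocalRing.le_maximalIdeal (Ideal.comap_ne_top _ hq.ne_top)
    · exact Ideal.map_le_iff_le_comap.mp hle
  set J := (IsLocalRing.maximalIdeal A).map (algebraMap A B) with hJ
  have hJn : J ≤ n := Ideal.map_le_iff_le_comap.mpr hn.ge
  -- Step 1: quasi-finiteness at n
  haveI : Algebra.QuasiFiniteAt A n := by
    let q : PrimeSpectrum B := ⟨n, inferInstance⟩
    change Algebra.QuasiFiniteAt A q.asIdeal
    apply Algebra.QuasiFiniteAt.of_isOpen_singleton_fiber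
    rw [isOpen_induced_iff]
    have hfin : (J.minimalPrimes \ {n}).Finite :=
      (Ideal.finite_minimalPrimes_of_isNoetherianRing B J).subset Set.sdiff_subset
    refine ⟨(⋃ p ∈ J.minimalPrimes \ {n}, PrimeSpectrum.zeroLocus (p : Set B))ᶜ, ?_, ?_⟩
    · rw [isOpen_compl_iff]
      exact hfin.isClosed_biUnion fun p _ => PrimeSpectrum.isClosed_zeroLocus _
    · ext ⟨q', hq'⟩
      simp only [Set.mem_preimage, Set.mem_compl_iff, Set.mem_iUnion, PrimeSpectrum.mem_zeroLocus,
        SetLike.coe_subset_coe, Set.mem_singleton_iff, Subtype.mk.injEq, not_exists]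
      have hq'm : q'.asIdeal.comap (algebraMap A B) = IsLocalRing.maximalIdeal A := by
        have := hq'
        simp only [Set.mem_preimage, Set.mem_singleton_iff] at this
        have h2 := congrArg PrimeSpectrum.asIdeal this
        simp only [PrimeSpectrum.comap_asIdeal] at h2
        rw [h2]; exact hn
      constructor
      · intro h
        have hJq : J ≤ q'.asIdeal := Ideal.map_le_iff_le_comap.mpr hq'm.ge
        obtain ⟨p, hp, hpq⟩ := Ideal.exists_minimalPrimes_le hJq
        have hpn : p = n := by
          by_contra hne
          exact h p ⟨hp, hne⟩ hpq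
        subst hpn
        apply PrimeSpectrum.ext
        exact (Ideal.IsMaximal.eq_of_le inferInstance q'.2.ne_top hpq).symm
      · intro h p hp hpq
        have hq'n : q'.asIdeal = n := congrArg PrimeSpectrum.asIdeal h
        rw [hq'n] at hpq
        have hpprime : p.IsPrime := hp.1.1.1
        have := hmin p hpprime (hover p hpprime hp.1.1.2) hpq
        exact hp.2 this
  -- Step 2: ZMT
  obtain ⟨r, hrn, hrint, hr⟩ := Algebra.zariskisMainProperty_iff.mp
    (Algebra.ZariskisMainProperty.of_finiteType (R := A) n)
  -- Step 3: integral elements of B come from A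
  have hint : ∀ b : B, IsIntegral A b → ∃ a : A, algebraMap A B a = b := by
    intro b hb
    have h1 : IsIntegral A (algebraMap B K b) := hb.map (IsScalarTower.toAlgHom A B K)
    obtain ⟨a, ha⟩ := (IsIntegrallyClosed.isIntegral_iff (R := A) (K := K)).mp h1
    refine ⟨a, hinjBK ?_⟩
    rw [← IsScalarTower.algebraMap_apply A B K, ha]
  obtain ⟨a, rfl⟩ := hint r hrint
  have haunit : IsUnit a := by
    by_contra hnu
    have ham : a ∈ IsLocalRing.maximalIdeal A := (IsLocalRing.mem_maximalIdeal a).mpr hnu
    rw [← hn] at ham
    exact hrn ham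
  intro x
  obtain ⟨k, hk⟩ := hr x
  obtain ⟨a', ha'⟩ := hint _ hk
  obtain ⟨u, rfl⟩ := haunit
  refine ⟨((u⁻¹ : Aˣ) : A) ^ k * a', ?_⟩
  rw [map_mul, ha', map_pow, ← mul_assoc, ← mul_pow, ← map_mul]
  simp

end Groth.Agent.S4469
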