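import Groth.Statements.S4471
import Groth.Agent.Lib.Helper11.PnOverBridge
import Groth.Agent.Lib.Helper11.S0002T3
import Groth.Agent.S0844
import Groth.Agent.Lib.Helper19.ProjSpaceProper
import Groth.Agent.Lib.Helper16.QCohPullback

set_option autoImplicit false
universe u
open Coherent

namespace Groth.Agent.S4471

open AlgebraicGeometry CategoryTheory in
/-- The case of the trivial bundle of rank r+1, i.e. projective r-space over Y; vanishing assertion. Let
Y be a scheme, r ≥ 0, f : P^r_Y → Y the structure morphism and d an integer. Then R^i f_* O(d) = 0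
(higher direct image of the underlying abelian sheaf of the twisting sheaf) except possibly when i =
0 and d ≥ 0, or i = r and d ≤ -(r+1). -/
theorem result (Y : Scheme.{u}) (r : ℕ) (i : ℕ) (d : ℤ)
    (h : ¬ ((i = 0 ∧ 0 ≤ d) ∨ (i = r ∧ d ≤ -((r : ℤ) + 1)))) :
    Limits.IsZero ((Coh.RpushAb (CohB1.ProjSpaceOver.toBase r Y) i).obj (Coh.toAb (Twist.twistOver r Y d))) := by
  haveI : IsProper (CohB1.ProjSpaceOver.toBase r Y) :=
    Groth.Agent.Lib.helper19.ProjSpaceProper.proper_toBase r Y
  haveI : (Twist.twistOver r Y d).IsQuasicoherent := by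
    unfold Twist.twistOver
    haveI : (Twist.twistProjSpace r (ULift.{u} ℤ) d).IsQuasicoherent :=
      Groth.Agent.Lib.helper28.TwistPn.isQuasicoherent r (ULift.{u} ℤ) d
    exact Groth.Agent.Lib.helper16.QCohPullback.isQuasicoherent_pullback _ _
  refine Groth.Agent.Lib.helper11.S0002T3.isZero_RpushAb_of_affine_cover_HU
    (CohB1.ProjSpaceOver.toBase r Y) (Twist.twistOver r Y d) i fun z => ?_
  obtain ⟨V, hV, hzV, -⟩ := (TopologicalSpace.Opens.isBasis_iff_nbhd.1 Y.isBasis_affineOpens)
    (show z ∈ (⊤ : Y.Opens) from trivial)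
  refine ⟨V, hV, hzV, ?_⟩
  apply Groth.Agent.Lib.helper11.HUOpen.subsingleton_HU_of_HHon
  apply Groth.Agent.Lib.helper11.PnOverBridge.subsingleton_HHon_twistOver r V d hV i
  exact Groth.Agent.S0844.result Γ(Y, V) r d i (fun h0 => h (Or.inl h0)) (fun hn => h (Or.inr hn))

end Groth.Agent.S4471
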